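import Groth.Statements.S17859
import Mathlib.LinearAlgebra.Contraction
import Mathlib.Algebra.Category.ModuleCat.Monoidal.Closed

set_option autoImplicit false
open CategoryTheory MonoidalCategory
universe u
open Algz

namespace Groth.Agent.S17859

/-- Over an affine scheme, that is for modules over a commutative ring `R`, a finitely generated
projective `R`-module `M`, viewed as an object of the monoidal category of `R`-modules (tensor
product over `R`), has a right dual. (The published statement is the equivalence, for quasi-coherent
sheaves on a quasi-compact quasi-separated scheme, between being dualizable and being a vector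
bundle; stated here is the affine case of the implication from vector bundle to dualizable. The
converse implication, that a module admitting a dual is finitely generated projective, is stated
separately and is not repeated here.) -/
theorem result (R : Type u) [CommRing R] (M : ModuleCat.{u} R)
    [Module.Finite R M] [Module.Projective R M] : Nonempty (HasRightDual M) := by
  classical
  obtain ⟨k, π, hπ⟩ := Module.Finite.exists_fin' R M
  obtain ⟨s, hs⟩ := Module.projective_lifting_property π LinearMap.id hπ
  let e : Fin k → M := fun i => π (Pi.single i 1)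
  let c : Fin k → Module.Dual R M := fun i => (LinearMap.proj i).comp s
  have hec : ∀ x : M, ∑ i, c i x • e i = x := fun x => by
    refine Eq.trans ?_ (congr($hs x))
    rw [LinearMap.comp_apply]
    conv_rhs => rw [pi_eq_sum_univ' (s x), map_sum]
    exact Finset.sum_congr rfl fun i _ => (map_smul π _ _).symm
  have hce : ∀ φ : Module.Dual R M, ∑ i, φ (e i) • c i = φ := fun φ => LinearMap.ext fun x => by
    conv_rhs => rw [← hec x, map_sum]
    simp [mul_comm]
  let D : ModuleCat.{u} R := ModuleCat.of R (Module.Dual R M)
  let η : (𝟙_ (ModuleCat.{u} R)) ⟶ M ⊗ D :=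
    ModuleCat.ofHom (LinearMap.toSpanSingleton R _ (∑ i, TensorProduct.tmul R (e i) (c i)))
  let ε : D ⊗ M ⟶ 𝟙_ (ModuleCat.{u} R) := ModuleCat.ofHom (contractLeft R M)
  refine ⟨{ rightDual := D, exact := { coevaluation' := η, evaluation' := ε, coevaluation_evaluation' := ?_, evaluation_coevaluation' := ?_ } }⟩
  · ext : 1
    refine TensorProduct.ext' fun φ r => ?_
    show (ε ▷ D).hom ((α_ D M D).inv.hom (TensorProduct.tmul R φ (r • ∑ i, TensorProduct.tmul R (e i) (c i)))) =
      TensorProduct.tmul R (1 : R) (r • φ)
    simp only [Finset.smul_sum, TensorProduct.tmul_sum, map_sum, TensorProduct.tmul_smul, map_smul]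
    rw [← Finset.smul_sum]
    congr 1
    calc ∑ i, (ε ▷ D).hom ((α_ D M D).inv.hom (TensorProduct.tmul R φ (TensorProduct.tmul R (e i) (c i))))
        = ∑ i, TensorProduct.tmul R (1 : R) (φ (e i) • c i) := by
          refine Finset.sum_congr rfl fun i _ => ?_
          rw [← TensorProduct.smul_tmul, smul_eq_mul, mul_one]
          rfl
      _ = _ := by rw [← TensorProduct.tmul_sum, hce]
  · ext : 1
    refine TensorProduct.ext' fun r x => ?_
    show (M ◁ ε).hom ((α_ M D M).hom.hom (TensorProduct.tmul R (r • ∑ i, TensorProduct.tmul R (e i) (c i)) x)) =
      TensorProduct.tmul R (r • x) (1 : R)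
    simp only [Finset.smul_sum, TensorProduct.sum_tmul, map_sum, ← TensorProduct.smul_tmul', map_smul]
    rw [← Finset.smul_sum]
    congr 1
    calc ∑ i, (M ◁ ε).hom ((α_ M D M).hom.hom (TensorProduct.tmul R (TensorProduct.tmul R (e i) (c i)) x))
        = ∑ i, TensorProduct.tmul R (c i x • e i) (1 : R) := by
          refine Finset.sum_congr rfl fun i _ => ?_
          rw [TensorProduct.smul_tmul, smul_eq_mul, mul_one]
          rfl
      _ = _ := by rw [← TensorProduct.sum_tmul, hec]


end Groth.Agent.S17859
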