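import Groth.Statements.S1786
import Groth.Agent.KFlatLib.Ring.ShriekGorenstein
-- import your own Groth.Agent.* helpers here

set_option autoImplicit false
universe u
open CategoryTheory
attribute [local instance] HasDerivedCategory.standard
open scoped TensorProduct
open Dual2

namespace Groth.Agent.S1786

/-- Let R → A be a ring map between Noetherian rings which is flat and of finite type, presented as a
surjection ψ : P = R[x_1, …, x_n] → A. For K in D(R) form φ^!(K) = RHom_P(A, K ⊗^L_R P)[n], where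
the derived base change D(R) → D(P) is assumed to exist and RHom_P(A, −) : D(P) → D(A) is taken to
be a right adjoint of restriction of scalars along ψ, and put ω_{A/R} = φ^!(R); assume also that the
derived base change functors D(A) → D(A_f) exist for all f ∈ A. Then all fibre rings A ⊗_R κ(p), for
p a prime of R, are Gorenstein if and only if ω_{A/R} is invertible in the following sense: for
every prime q of A there are f ∈ A with f ∉ q and an integer m such that ω_{A/R} ⊗^L_A A_f ≅ A_f[m]
in D(A_f). -/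
theorem result (R A : Type u) [CommRing R] [CommRing A] [IsNoetherianRing R] [IsNoetherianRing A] [Algebra R A] (n : ℕ) (ψ : MvPolynomial (Fin n) R →ₐ[R] A) (hψ : Function.Surjective ψ) [DRing.HasLBaseChange (algebraMap R (MvPolynomial (Fin n) R))] (Rψ : Dual.D (MvPolynomial (Fin n) R) ⥤ Dual.D A) (adj : DRing.restrictD ψ.toRingHom ⊣ Rψ) [Module.Flat R A] [hL : ∀ f : A, DRing.HasLBaseChange (algebraMap A (Localization.Away f))] : (∀ p : PrimeSpectrum R, LocCoh.IsGorensteinRing (A ⊗[R] p.asIdeal.ResidueField)) ↔ (∀ q : PrimeSpectrum A, ∃ (f : A) (_ : f ∉ q.asIdeal) (m : ℤ), Nonempty ((DRing.LBaseChange (algebraMap A (Localization.Away f))).obj (Dual2.shriekVia n Rψ (Dual.inD R R)) ≅ (Dual.inD (Localization.Away f) (Localization.Away f))⟦m⟧)) := by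
  classical
  let P := MvPolynomial (Fin n) R
  haveI := Groth.Agent.KFlatLib.hasLBase (algebraMap R P)
  obtain ⟨e₁⟩ := Groth.Agent.KFlatLib.nonempty_LBaseChange_iso (algebraMap R P)
  obtain ⟨u⟩ := Groth.Agent.KFlatLib.nonempty_LBase_unit (algebraMap R P)
  let e : (Rψ.obj (DTen.unit P))⟦(n : ℤ)⟧ ≅ Dual2.shriekVia n Rψ (Dual.inD R R) :=
    ((shiftFunctor _ (n : ℤ)).mapIso (Rψ.mapIso (e₁.app _ ≪≫ (DTen.LBase (algebraMap R P)).mapIso
      ((DerivedCategory.singleFunctorIsoCompQ (ModuleCat R) 0).app (ModuleCat.of R R)) ≪≫ u))).symm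
  have hR : ψ.toRingHom.comp MvPolynomial.C = algebraMap R A := RingHom.ext fun r => ψ.commutes r
  let W := (Rψ.obj (DTen.unit P))⟦(n : ℤ)⟧
  obtain ⟨⟨a, b, hab⟩, hfin⟩ := Groth.Agent.KFlatLib.bounded_finite_shriek_unit ψ.toRingHom hψ hR adj
  haveI : W.IsGE a := (DerivedCategory.isGE_iff _ _).2 fun i hi =>
    @ModuleCat.isZero_of_subsingleton _ _ _ (hab i (Or.inl hi))
  haveI : W.IsLE b := (DerivedCategory.isLE_iff _ _).2 fun i hi =>
    @ModuleCat.isZero_of_subsingleton _ _ _ (hab i (Or.inr hi))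
  constructor
  · intro hG q
    let p := q.asIdeal.comap (algebraMap R A)
    haveI := Groth.Agent.KFlatLib.hasLBase (Groth.Agent.KFlatLib.incRight R p.ResidueField A)
    obtain ⟨f, hf, m, hiso⟩ := Groth.Agent.KFlatLib.exists_away_iso_of_gorenstein_fibre W a b hfin q.asIdeal p rfl
      (Groth.Agent.KFlatLib.isDualizing_fibre_shriek_unit ψ.toRingHom hψ hR adj p.ResidueField)
      (Groth.Agent.LC.gorensteinRing_of_ringEquiv (Algebra.TensorProduct.comm R A p.ResidueField).toRingEquiv
        (hG ⟨p, inferInstance⟩))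
    haveI := Groth.Agent.KFlatLib.hasLBase (algebraMap A (Localization.Away f))
    obtain ⟨e₃⟩ := Groth.Agent.KFlatLib.nonempty_LBaseChange_iso (algebraMap A (Localization.Away f))
    obtain ⟨e₄⟩ := hiso
    obtain ⟨iU⟩ := Groth.Agent.KFlatLib.nonempty_unit_iso_inD (Localization.Away f)
    exact ⟨f, hf, m, ⟨e₃.app _ ≪≫ (DTen.LBase (algebraMap A (Localization.Away f))).mapIso e.symm ≪≫ e₄ ≪≫
      (CategoryTheory.shiftFunctor _ m).mapIso iU⟩⟩
  · intro h p
    haveI := Groth.Agent.KFlatLib.hasLBase (Groth.Agent.KFlatLib.incRight R p.asIdeal.ResidueField A)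
    refine Groth.Agent.LC.gorensteinRing_of_ringEquiv
      (Algebra.TensorProduct.comm R p.asIdeal.ResidueField A).toRingEquiv
      (Groth.Agent.KFlatLib.gorenstein_fibre_of_away_iso W p.asIdeal
        (Groth.Agent.KFlatLib.isDualizing_fibre_shriek_unit ψ.toRingHom hψ hR adj _) fun q => ?_)
    obtain ⟨f, hf, m, ⟨e'⟩⟩ := h q
    refine ⟨f, hf, m, ?_⟩
    intro _
    obtain ⟨e₃⟩ := Groth.Agent.KFlatLib.nonempty_LBaseChange_iso (algebraMap A (Localization.Away f))
    obtain ⟨iU⟩ := Groth.Agent.KFlatLib.nonempty_unit_iso_inD (Localization.Away f)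
    exact ⟨(DTen.LBase (algebraMap A (Localization.Away f))).mapIso e ≪≫ (e₃.app _).symm ≪≫ e' ≪≫
      (CategoryTheory.shiftFunctor _ m).mapIso iU.symm⟩

end Groth.Agent.S1786
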