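import Groth.Statements.S17860
import Groth.Agent.NisCov7.Gen

set_option autoImplicit false
open CategoryTheory AlgebraicGeometry
universe u
open Algz

namespace Groth.Agent.S17860

/-- Let `R` be a commutative ring and `M` a finite `R`-module. Suppose `Spec R` is covered by opens `U
0, …, U (m-1)` (not necessarily affine) such that over each `U i` the restriction of the associated
sheaf of modules `M~` is a quotient of the free module of rank `n` (it is generated by `n` sections
over `U i`). Then `M` is generated by `n * m` elements. -/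
theorem result (R : CommRingCat.{u}) (M : ModuleCat.{u} R)
    [Module.Finite R M] (n m : ℕ) (U : Fin m → (Spec R).Opens) (hU : ⨆ i, U i = ⊤)
    (hgen : ∀ i, ∃ φ : FlatMod.freeMod (↑(U i)) n ⟶ (AlgebraicGeometry.tilde M).restrict (U i).ι, Epi φ) :
    ∃ s : Fin (n * m) → M, Submodule.span R (Set.range s) = ⊤ := by
  classical
  let Z : ℕ → Set (Spec R) := fun j => (⋃ i ∈ {i : Fin m | j ≤ (i : ℕ)}, (U i : Set (Spec R)))ᶜ
  have hcl : ∀ j, IsClosed (Z j) := fun j => (isOpen_biUnion fun i _ => (U i).2).isClosed_compl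
  have hZ0 : Z 0 = ∅ := by
    show _ᶜ = ∅
    rw [Set.compl_empty_iff, Set.eq_univ_iff_forall]
    intro y
    obtain ⟨i, hi⟩ := TopologicalSpace.Opens.mem_iSup.1 (hU.ge (Set.mem_univ y : y ∈ (⊤ : (Spec R).Opens)))
    exact Set.mem_iUnion₂.2 ⟨i, Nat.zero_le _, hi⟩
  have key : ∀ j ≤ m, ∃ s : Fin (n * j) → M, ∀ p : PrimeSpectrum R,
      p ∈ (show Set (PrimeSpectrum R) from Z j) → p ∉ Module.support R (M ⧸ Submodule.span R (Set.range s)) := by
    intro j hj
    induction j with
    | zero =>
      exact ⟨fun _ => 0, fun p hp => absurd (show p ∈ (∅ : Set (Spec R)) from hZ0 ▸ hp) (Set.notMem_empty _)⟩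
    | succ j ih =>
      obtain ⟨s, hs⟩ := ih (Nat.le_of_succ_le hj)
      set J : Fin m := ⟨j, hj⟩
      have hsub : Z (j + 1) \ Z j ⊆ (U J : Set (Spec R)) := by
        rintro y ⟨h1, h2⟩
        obtain ⟨i, hi, hyi⟩ := Set.mem_iUnion₂.1 (not_not.1 h2)
        rcases (show j ≤ (i : ℕ) from hi).lt_or_eq with hlt | heq
        · exact absurd (Set.mem_iUnion₂.2 ⟨i, hlt, hyi⟩) h1
        · rwa [show J = i from Fin.ext heq]
      obtain ⟨T, t, ht, -, hrange⟩ := Groth.Agent.H23.RedSub.exists_reduced_subscheme (Spec R)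
        (S := Z (j + 1) \ Z j) ((hcl _).isLocallyClosed.inter (hcl _).isOpen_compl.isLocallyClosed)
      have hle : Set.range t ⊆ Set.range (U J).ι := by
        rw [hrange, Scheme.Opens.range_ι]; exact hsub
      obtain ⟨φ, _⟩ := hgen J
      exact Groth.Agent.NisCov7.gen_step M (U J).ι
        (fun _ q z hz => Groth.Agent.NisCov7.span_of_epi q M (U J).ι z hz
          (φ ≫ ((Scheme.Modules.restrictFunctorIsoPullback (U J).ι).app _).hom)) (hcl _) t
        (IsOpenImmersion.lift (U J).ι t hle) (IsOpenImmersion.lift_fac _ _ _) hrange s hs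
  obtain ⟨s, hs⟩ := key m le_rfl
  have hlast : ∀ p : Spec R, p ∈ Z m := fun p hp => by
    obtain ⟨i, hi, -⟩ := Set.mem_iUnion₂.1 hp
    exact absurd (show m ≤ (i : ℕ) from hi) (Nat.not_le.2 i.2)
  refine ⟨s, ?_⟩
  rw [← Submodule.Quotient.subsingleton_iff, ← Module.support_eq_empty_iff (R := R)]
  exact Set.eq_empty_iff_forall_notMem.2 fun p => hs p (hlast p)

end Groth.Agent.S17860
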