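import Groth.Statements.S17862
import Groth.Agent.S17856

set_option autoImplicit false
open CategoryTheory AlgebraicGeometry
universe u
open Algz

namespace Groth.Agent.S17862

theorem eq_of_eq_on {S : Scheme.{u}} (X : AlgSp.Sp S) (hqs : AlgSp.IsQuasiSeparatedSp X) {ι : Type u}
    {T : Over S} {T' : ι → Over S} (e : ∀ i, T' i ⟶ T) [IsAffine T.left]
    (g g' : (AlgSp.yon S).obj T ⟶ X)
    (he : ∀ i, (AlgSp.yon S).map (e i) ≫ g = (AlgSp.yon S).map (e i) ≫ g')
    (hbij : ∀ (Y : Scheme.{u}) [CompactSpace Y] [QuasiSeparatedSpace Y],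
      Function.Bijective (fun f : T.left ⟶ Y => fun i : ι => (e i).left ≫ f)) : g = g' := by
  obtain ⟨V, snd, fst, hpb⟩ := hqs.1 (Limits.prod.lift g g')
  have hqc' : QuasiCompact snd.left := hqs.2 _ _ _ hpb
  have : Mono ((AlgSp.yon S).map snd) := hpb.mono_snd_of_mono
  have : Mono snd := (AlgSp.yon S).mono_of_mono_map this
  have : Mono snd.left := Over.mono_left_of_mono snd
  have : CompactSpace V.left := QuasiCompact.compactSpace_of_compactSpace snd.left
  have : QuasiSeparatedSpace V.left := quasiSeparatedSpace_of_quasiSeparated snd.left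
  have hl : ∀ i, ∃ l : T' i ⟶ V, l ≫ snd = e i := by
    intro i
    have w : ((AlgSp.yon S).map (e i) ≫ g) ≫ Limits.diag X =
        (AlgSp.yon S).map (e i) ≫ Limits.prod.lift g g' := by
      refine Limits.prod.hom_ext ?_ ?_
      · exact (Category.assoc _ _ _).trans ((congrArg (_ ≫ ·) (Limits.prod.lift_fst _ _)).trans
          ((Category.comp_id _).trans (((congrArg (_ ≫ ·) (Limits.prod.lift_fst _ _)).symm).trans (Category.assoc _ _ _).symm)))
      · exact (Category.assoc _ _ _).trans ((congrArg (_ ≫ ·) (Limits.prod.lift_snd _ _)).trans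
          ((Category.comp_id _).trans ((he i).trans (((congrArg (_ ≫ ·) (Limits.prod.lift_snd _ _)).symm).trans (Category.assoc _ _ _).symm))))
    obtain ⟨l, hl⟩ := (AlgSp.yon S).map_surjective (hpb.lift _ _ w)
    exact ⟨l, (AlgSp.yon S).map_injective (by rw [Functor.map_comp, hl, hpb.lift_snd])⟩
  choose l hl using hl
  obtain ⟨M, hM⟩ := (hbij V.left).2 (fun i => (l i).left)
  have hMs : M ≫ snd.left = 𝟙 _ := by
    apply (hbij T.left).1
    funext i
    show (e i).left ≫ M ≫ snd.left = (e i).left ≫ 𝟙 _
    have := congrFun hM i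
    dsimp only at this
    rw [Category.comp_id]
    refine (Category.assoc _ _ _).symm.trans ?_
    rw [this]
    exact congrArg CommaMorphism.left (hl i)
  let M' : T ⟶ V := Over.homMk M (by
    rw [← Over.w snd, ← Category.assoc, hMs, Category.id_comp])
  have hM' : M' ≫ snd = 𝟙 T := by
    ext1
    exact hMs
  have key : (AlgSp.yon S).map snd ≫ g = (AlgSp.yon S).map snd ≫ g' := by
    have h1 := congrArg (· ≫ Limits.prod.fst) hpb.w
    have h2 := congrArg (· ≫ Limits.prod.snd) hpb.w
    simp only [Category.assoc, Limits.prod.lift_fst, Limits.prod.lift_snd, Category.comp_id] at h1 h2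
    rw [← h1, ← h2]
  have := congrArg ((AlgSp.yon S).map M' ≫ ·) key
  simp only [← Functor.map_comp_assoc, hM'] at this
  simpa using this

/-- Let `S` be an affine scheme, `X` a quasi-compact and quasi-separated algebraic space over `S`, and
`A i` a family of commutative rings indexed by an arbitrary type, with a morphism `h` from the
spectrum of the product ring to `S`. Two `S`-morphisms `Spec (Π i, A i) ⟶ X` that agree after
composition with every `Spec (A i) ⟶ Spec (Π i, A i)` are equal. (For schemes this is the
injectivity half of the corresponding bijection; the algebraic-space case is the one stated here.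
Over an affine base, relative and absolute quasi-separatedness agree.) -/
theorem result (S : Scheme.{u}) [IsAffine S]
    (X : AlgSp.Space S) (hqc : AlgSp.IsQuasiCompactSp X.obj) (hqs : AlgSp.IsQuasiSeparatedSp X.obj)
    {ι : Type u} (A : ι → CommRingCat.{u}) (h : Spec (CommRingCat.of (∀ i, A i)) ⟶ S) :
    Function.Injective (fun g : (AlgSp.ofScheme S).obj (Over.mk h) ⟶ X => fun i : ι =>
      (AlgSp.ofScheme S).map (Over.homMk
        (Spec.map (CommRingCat.ofHom (Pi.evalRingHom (fun j => (A j : Type u)) i)))
        rfl : Over.mk (Spec.map (CommRingCat.ofHom (Pi.evalRingHom (fun j => (A j : Type u)) i)) ≫ h) ⟶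
          Over.mk h) ≫ g) := by
  intro g g' hgg
  have : IsAffine (Over.mk h).left := by show IsAffine (Spec _); infer_instance
  have he := fun i => congrArg InducedCategory.Hom.hom (congrFun hgg i)
  apply InducedCategory.hom_ext
  refine eq_of_eq_on (ι := ι) (T := Over.mk h) (T' := fun i => Over.mk
      (Spec.map (CommRingCat.ofHom (Pi.evalRingHom (fun j => (A j : Type u)) i)) ≫ h)) X.obj hqs
    (fun i => Over.homMk (Spec.map (CommRingCat.ofHom (Pi.evalRingHom (fun j => (A j : Type u)) i))) rfl)
    g.hom g'.hom he
    (fun Y _ _ => Groth.Agent.S17856.result Y A)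

end Groth.Agent.S17862
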