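import Groth.Statements.S17863
import Mathlib

set_option autoImplicit false
open CategoryTheory AlgebraicGeometry
universe u
open Algz

namespace Groth.Agent.S17863

/-- Let `A` be a commutative ring which is `I`-adically complete for an ideal `I` and let `X` be a
quasi-affine scheme. Then the natural map from `X(A)` to compatible systems in the `X(A/I^n)` is
bijective: two morphisms `Spec A ⟶ X` with the same restriction to every `Spec (A/I^n)` are equal,
and every family of morphisms `Spec (A/I^n) ⟶ X` compatible with the transition maps `Spec (A/I^n) ⟶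
Spec (A/I^(n+1))` is the family of restrictions of a morphism `Spec A ⟶ X`. -/
theorem result (A : Type u) [CommRing A] (I : Ideal A) [IsAdicComplete I A]
    (X : Scheme.{u}) [X.IsQuasiAffine] :
    (∀ f g : Spec (CommRingCat.of A) ⟶ X,
      (∀ n : ℕ, Spec.map (CommRingCat.ofHom (Ideal.Quotient.mk (I ^ n))) ≫ f =
        Spec.map (CommRingCat.ofHom (Ideal.Quotient.mk (I ^ n))) ≫ g) → f = g) ∧
    (∀ e : ∀ n : ℕ, Spec (CommRingCat.of (A ⧸ I ^ n)) ⟶ X,
      (∀ n : ℕ, Spec.map (CommRingCat.ofHom (Ideal.Quotient.factorPowSucc I n)) ≫ e (n + 1) = e n) →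
      ∃ f : Spec (CommRingCat.of A) ⟶ X,
        ∀ n : ℕ, Spec.map (CommRingCat.ofHom (Ideal.Quotient.mk (I ^ n))) ≫ f = e n) := by
  refine ⟨fun f g h => ?_, fun e he => ?_⟩
  · obtain ⟨φ, hφ⟩ : ∃ φ, Spec.map φ = f ≫ X.toSpecΓ := ⟨_, Spec.map_preimage _⟩
    obtain ⟨ψ, hψ⟩ : ∃ ψ, Spec.map ψ = g ≫ X.toSpecΓ := ⟨_, Spec.map_preimage _⟩
    rw [← cancel_mono X.toSpecΓ, ← hφ, ← hψ]
    congr 1
    refine CommRingCat.hom_ext (RingHom.ext fun x => IsHausdorff.eq_iff_smodEq (I := I) |>.2 fun n => ?_)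
    have h1 : φ ≫ CommRingCat.ofHom (Ideal.Quotient.mk (I ^ n)) = ψ ≫ CommRingCat.ofHom (Ideal.Quotient.mk (I ^ n)) :=
      Spec.map_injective (by rw [Spec.map_comp, Spec.map_comp, hφ, hψ, ← Category.assoc, h n, Category.assoc])
    have h2 := ConcreteCategory.congr_hom h1 x
    rw [SModEq.sub_mem, smul_eq_mul, Ideal.mul_top]
    exact Ideal.Quotient.eq.1 h2
  · let f : ∀ n : ℕ, Γ(X, ⊤) →+* A ⧸ I ^ n := fun n => (Spec.preimage (e n ≫ X.toSpecΓ)).hom
    have hs : ∀ n, (Ideal.Quotient.factorPowSucc I n).comp (f (n + 1)) = f n := fun n => by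
      have : Spec.preimage (e (n + 1) ≫ X.toSpecΓ) ≫ CommRingCat.ofHom (Ideal.Quotient.factorPowSucc I n) =
          Spec.preimage (e n ≫ X.toSpecΓ) := by
        apply Spec.map_injective
        rw [Spec.map_comp, Spec.map_preimage, Spec.map_preimage, ← Category.assoc, he n]
      exact congrArg CommRingCat.Hom.hom this
    have hf : ∀ {m n : ℕ} (hle : m ≤ n), (Ideal.Quotient.factorPow I hle).comp (f n) = f m := by
      intro m n hle
      induction hle with
      | refl =>
        ext x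
        obtain ⟨a, ha⟩ := Ideal.Quotient.mk_surjective (f m x)
        simp [← ha, Ideal.Quotient.factorPow]
      | @step n hle ih =>
        ext x
        obtain ⟨a, ha⟩ := Ideal.Quotient.mk_surjective (f (n + 1) x)
        rw [← ih, ← hs n]
        simp [← ha, Ideal.Quotient.factorPow, Ideal.Quotient.factorPowSucc]
    set F := IsAdicComplete.liftRingHom I f hf
    set Φ : Spec (CommRingCat.of A) ⟶ Spec Γ(X, ⊤) := Spec.map (CommRingCat.ofHom F)
    have hΦ : ∀ n, Spec.map (CommRingCat.ofHom (Ideal.Quotient.mk (I ^ n))) ≫ Φ = e n ≫ X.toSpecΓ := fun n => by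
      rw [← Spec.map_comp, ← CommRingCat.ofHom_comp, IsAdicComplete.mk_comp_liftRingHom]
      exact Spec.map_preimage _
    have hr : Set.range Φ ⊆ Set.range X.toSpecΓ := by
      rintro _ ⟨p, rfl⟩
      obtain ⟨M, hM, hle⟩ := Ideal.exists_le_maximal (p : PrimeSpectrum A).asIdeal p.isPrime.ne_top
      let x : PrimeSpectrum A := ⟨M, hM.isPrime⟩
      have hIM : I ^ 1 ≤ M := by
        rw [pow_one]
        exact (IsAdicComplete.le_jacobson_bot I).trans (sInf_le ⟨bot_le, hM⟩)
      obtain ⟨y, hy⟩ : (x : Spec (CommRingCat.of A)) ∈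
          Set.range (Spec.map (CommRingCat.ofHom (Ideal.Quotient.mk (I ^ 1)))) := by
        show x ∈ Set.range (PrimeSpectrum.comap (Ideal.Quotient.mk (I ^ 1)))
        rw [range_comap_of_surjective _ _ Ideal.Quotient.mk_surjective, Ideal.mk_ker]
        exact hIM
      have hx : Φ x ∈ Set.range X.toSpecΓ := by
        rw [← hy, ← Scheme.Hom.comp_apply, hΦ]
        exact ⟨_, rfl⟩
      refine (((PrimeSpectrum.le_iff_specializes p x).1 hle).map Φ.continuous).mem_open ?_ hx
      exact X.toSpecΓ.isOpenEmbedding.isOpen_range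
    refine ⟨IsOpenImmersion.lift X.toSpecΓ Φ hr, fun n => ?_⟩
    rw [← cancel_mono X.toSpecΓ, Category.assoc, IsOpenImmersion.lift_fac, hΦ]

end Groth.Agent.S17863
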