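import Groth.Statements.S17864
import Groth.Agent.Adic7.Basic

set_option autoImplicit false
universe u
open Algz

namespace Groth.Agent.S17864

/-- The full-faithfulness assertion. Let `A` be a commutative ring which is `I`-adically complete for an
ideal `I`, and `P`, `Q` finitely generated projective `A`-modules. An `A`-linear map `P → Q` is
determined by its reductions modulo the powers `I^n`, and every family of `A`-linear maps `P/I^n P →
Q/I^n Q` compatible with the transition maps is the family of reductions of an `A`-linear map `P →
Q`. (The companion assertion, that compatible systems of finite projective modules over the rings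
`A/I^n` lift to `A`, is not restated here.) -/
theorem result (A : Type u) [CommRing A] (I : Ideal A)
    [IsAdicComplete I A] (P Q : Type u) [AddCommGroup P] [Module A P] [Module.Finite A P]
    [Module.Projective A P] [AddCommGroup Q] [Module A Q] [Module.Finite A Q] [Module.Projective A Q] :
    (∀ f f' : P →ₗ[A] Q, (∀ n : ℕ, f.reduceModIdeal (I ^ n) = f'.reduceModIdeal (I ^ n)) → f = f') ∧
    (∀ g : ∀ n : ℕ, P ⧸ (I ^ n • ⊤ : Submodule A P) →ₗ[A] Q ⧸ (I ^ n • ⊤ : Submodule A Q),
      (∀ n : ℕ, AdicCompletion.transitionMap I Q (Nat.le_succ n) ∘ₗ g (n + 1) =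
        g n ∘ₗ AdicCompletion.transitionMap I P (Nat.le_succ n)) →
      ∃ f : P →ₗ[A] Q, ∀ n : ℕ, f.reduceModIdeal (I ^ n) = g n) := by
  have : IsAdicComplete I Q := Groth.Agent.Adic7.isAdicComplete_of_projective I Q
  constructor
  · intro f f' h
    refine LinearMap.ext fun x => (IsHausdorff.eq_iff_smodEq (I := I)).mpr fun n => ?_
    have := congr($(h n) (Submodule.Quotient.mk x))
    rwa [LinearMap.reduceModIdeal_apply, LinearMap.reduceModIdeal_apply, ← SModEq] at this
  · intro g hg
    have key : ∀ {m n : ℕ} (hle : m ≤ n) (z : P ⧸ (I ^ n • ⊤ : Submodule A P)),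
        AdicCompletion.transitionMap I Q hle (g n z) = g m (AdicCompletion.transitionMap I P hle z) := by
      intro m n hle
      induction hle with
      | refl =>
        intro z
        obtain ⟨a, ha⟩ := Submodule.Quotient.mk_surjective _ (g m z)
        obtain ⟨x, rfl⟩ := Submodule.Quotient.mk_surjective _ z
        refine (ha ▸ rfl : _ = g m (Submodule.Quotient.mk x)).trans (congrArg (g m) rfl)
      | @step n hle ih =>
        intro z
        have h := congr($(hg n) z)
        obtain ⟨a, ha⟩ := Submodule.Quotient.mk_surjective _ (g (n + 1) z)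
        obtain ⟨x, rfl⟩ := Submodule.Quotient.mk_surjective _ z
        rw [LinearMap.comp_apply, LinearMap.comp_apply, ← ha] at h
        rw [← ha]
        refine Eq.trans (Eq.trans ?_ (congrArg (AdicCompletion.transitionMap I Q hle) h)) (ih _)
        rfl
    let fn : ∀ n, P →ₗ[A] Q ⧸ (I ^ n • ⊤ : Submodule A Q) := fun n => (g n).comp (Submodule.mkQ _)
    refine ⟨IsAdicComplete.lift I fn fun hle => LinearMap.ext fun x => key hle (Submodule.Quotient.mk x),
      fun n => Submodule.linearMap_qext _ (LinearMap.ext fun x => ?_)⟩
    exact (LinearMap.reduceModIdeal_apply _ _ _).trans (IsAdicComplete.mk_lift I _ n x)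


end Groth.Agent.S17864
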