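import Groth.Statements.S17865
import Groth.Agent.NisCov7.Basic

set_option autoImplicit false
open CategoryTheory AlgebraicGeometry
universe u
open Algz

namespace Groth.Agent.S17865

/-- In the case of schemes. Let `f : U ⟶ Y` be a Nisnevich cover of length at most `m` of quasi-compact
quasi-separated schemes (an etale morphism together with a chain of `m` closed constructible subsets
`∅ = Z_0 ⊆ ⋯ ⊆ Z_m = Y` such that `f` has a section over each `Z_(k+1) ∖ Z_k`), and `g : Y' ⟶ Y` a
morphism from a quasi-compact quasi-separated scheme. Then the base change `U ×_Y Y' ⟶ Y'` is a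
Nisnevich cover of length at most `m`. (The original form is for quasi-compact quasi-separated
algebraic spaces; stated here for schemes.) -/
theorem result {U Y Y' : Scheme.{u}} (f : U ⟶ Y) (g : Y' ⟶ Y)
    [CompactSpace U] [QuasiSeparatedSpace U] [CompactSpace Y] [QuasiSeparatedSpace Y]
    [CompactSpace Y'] [QuasiSeparatedSpace Y'] (m : ℕ)
    (hf : W4c5algebraiztannaka.IsNisCoverLen f m) :
    W4c5algebraiztannaka.IsNisCoverLen (Limits.pullback.snd f g) m := by
  have := hf.etale
  refine Groth.Agent.NisCov7.isNisCoverLen_of_chain (Etale.etale_isStableUnderBaseChange.of_isPullback (IsPullback.of_hasPullback f g) hf.etale) ?_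
  have h := (Groth.Agent.NisCov7.chain_of_flag hf).pullback g
  rwa [Set.preimage_univ] at h

end Groth.Agent.S17865
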