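import Groth.Statements.S17866
import Groth.Agent.NisCov7.Basic

set_option autoImplicit false
open CategoryTheory AlgebraicGeometry
universe u
open Algz

namespace Groth.Agent.S17866

/-- In the case of schemes. Let `g₁ : Y₁ ⟶ Y₂` and `g₂ : Y₂ ⟶ Y₃` be Nisnevich covers of quasi-compact
quasi-separated schemes of lengths at most `m₁` and `m₂` respectively. Then `g₁ ≫ g₂` is a Nisnevich
cover of length at most `m₁ * m₂`. (The original form is for quasi-compact quasi-separated algebraic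
spaces; stated here for schemes.) -/
theorem result {Y₁ Y₂ Y₃ : Scheme.{u}} (g₁ : Y₁ ⟶ Y₂) (g₂ : Y₂ ⟶ Y₃)
    [CompactSpace Y₁] [QuasiSeparatedSpace Y₁] [CompactSpace Y₂] [QuasiSeparatedSpace Y₂]
    [CompactSpace Y₃] [QuasiSeparatedSpace Y₃] (m₁ m₂ : ℕ)
    (h₁ : W4c5algebraiztannaka.IsNisCoverLen g₁ m₁) (h₂ : W4c5algebraiztannaka.IsNisCoverLen g₂ m₂) :
    W4c5algebraiztannaka.IsNisCoverLen (g₁ ≫ g₂) (m₁ * m₂) := by
  have := h₁.etale
  have := h₂.etale
  refine Groth.Agent.NisCov7.isNisCoverLen_of_chain inferInstance ?_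
  rw [Nat.mul_comm]
  exact Groth.Agent.NisCov7.Chain.comp (Groth.Agent.NisCov7.chain_of_flag h₁) (Groth.Agent.NisCov7.chain_of_flag h₂)

end Groth.Agent.S17866
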