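import Groth.Statements.S17868
import Groth.Agent.NisCov7.Basic
import Groth.Agent.S17858

set_option autoImplicit false
open CategoryTheory AlgebraicGeometry
universe u
open Algz

namespace Groth.Agent.S17868

/-- In the case of schemes with an affine source. Let `f : U ⟶ Y` be a Nisnevich cover of length at most
`m'` with `U` affine and `Y` quasi-compact quasi-separated. There is a natural number `m` such that
for every commutative ring `B` and every morphism `g : Spec B ⟶ Y` there exist an affine scheme `V`,
a Nisnevich cover `v : V ⟶ Spec B` of length at most `m`, and a morphism `w : V ⟶ U` over `Y` (that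
is, `w ≫ f = v ≫ g`). (The original form allows `U` to be any quasi-compact quasi-separated
algebraic space; `U` is taken affine here, which makes `f` quasi-affine.) -/
theorem result {U Y : Scheme.{u}} [IsAffine U]
    [CompactSpace Y] [QuasiSeparatedSpace Y] (f : U ⟶ Y) (m' : ℕ)
    (hf : W4c5algebraiztannaka.IsNisCoverLen f m') :
    ∃ m : ℕ, ∀ (B : CommRingCat.{u}) (g : Spec B ⟶ Y),
      ∃ (V : Scheme.{u}) (_ : IsAffine V) (v : V ⟶ Spec B) (w : V ⟶ U),
        W4c5algebraiztannaka.IsNisCoverLen v m ∧ w ≫ f = v ≫ g := by
  obtain ⟨r, hr⟩ := Groth.Agent.S17858.exists_uniform f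
  refine ⟨r * m', fun B g => ?_⟩
  obtain ⟨W, hW, hcov⟩ := hr B g
  have : QuasiCompact f := QuasiCompact.of_comp f (Limits.terminal.from Y)
  have : QuasiSeparated f := QuasiSeparated.of_comp f (Limits.terminal.from Y)
  have : CompactSpace (Limits.pullback f g : Scheme.{u}) := QuasiCompact.compactSpace_of_compactSpace (Limits.pullback.snd f g)
  have : QuasiSeparatedSpace (Limits.pullback f g : Scheme.{u}) :=
    quasiSeparatedSpace_of_quasiSeparated (Limits.pullback.snd f g)
  have : ∀ k, IsAffine (W k).toScheme := hW
  refine ⟨∐ fun k => ((W k : (Limits.pullback f g).Opens) : Scheme.{u}), inferInstance,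
    Limits.Sigma.desc (fun k => (W k).ι) ≫ Limits.pullback.snd f g,
    Limits.Sigma.desc (fun k => (W k).ι) ≫ Limits.pullback.fst f g, ?_,
    by rw [Category.assoc, Category.assoc, Limits.pullback.condition]⟩
  have h1 := Groth.Agent.NisCov7.isNisCoverLen_sigma_desc W (fun k => (hW k).isCompact) hcov
  have := h1.etale
  have := hf.etale
  refine Groth.Agent.NisCov7.isNisCoverLen_of_chain inferInstance ?_
  rw [Nat.mul_comm]
  have h2 := (Groth.Agent.NisCov7.chain_of_flag hf).pullback g
  rw [Set.preimage_univ] at h2
  exact Groth.Agent.NisCov7.Chain.comp (Groth.Agent.NisCov7.chain_of_flag h1) h2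

end Groth.Agent.S17868
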