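import Groth.Statements.S1787
import Groth.Agent.KFlatLib.Ring.DualizingDescent
-- import your own Groth.Agent.* helpers here

set_option autoImplicit false
universe u
open CategoryTheory
attribute [local instance] HasDerivedCategory.standard
open Dual

namespace Groth.Agent.S1787

/-- Let A be a Noetherian ring and f_1, …, f_n elements generating the unit ideal. Let ω be an object of
D(A) such that for each i, assuming the derived base change functor D(A) → D(A_{f_i}) exists, the
base change of ω is a dualizing complex for A_{f_i}. Then ω is a dualizing complex for A. -/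
theorem result (A : Type u) [CommRing A] [IsNoetherianRing A] (n : ℕ) (f : Fin n → A) (hf : Ideal.span (Set.range f) = ⊤) (ω : Dual.D A) (h : ∀ i : Fin n, ∃ _ : DRing.HasLBaseChange (algebraMap A (Localization.Away (f i))), Dual.IsDualizing (Localization.Away (f i)) ((DRing.LBaseChange (algebraMap A (Localization.Away (f i)))).obj ω)) : Dual.IsDualizing A ω := by
  haveI : ∀ i, DTen.HasLBase (algebraMap A (Localization.Away (f i))) := fun i => Groth.Agent.KFlatLib.hasLBase _
  haveI : ∀ i, Module.Flat A (Localization.Away (f i)) :=
    fun i => IsLocalization.flat _ (Submonoid.powers (f i))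
  refine Groth.Agent.KFlatLib.isDualizing_of_finite_family (B := fun i => Localization.Away (f i)) (fun m hm => ?_) fun i => ?_
  · obtain ⟨_, ⟨i, rfl⟩, hi⟩ : ∃ x ∈ Set.range f, x ∉ m := Set.not_subset.1 fun h =>
      hm.ne_top (top_le_iff.1 (hf ▸ Ideal.span_le.2 h))
    refine ⟨i, (IsLocalization.map_algebraMap_ne_top_iff_disjoint (Submonoid.powers (f i)) _ m).2 ?_⟩
    refine Set.disjoint_left.2 fun x ⟨k, hk⟩ hx => hi (hm.isPrime.mem_of_pow_mem k ?_)
    subst hk
    exact hx
  · obtain ⟨_, hd⟩ := h i
    obtain ⟨e⟩ := Groth.Agent.KFlatLib.nonempty_LBaseChange_iso (algebraMap A (Localization.Away (f i)))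
    exact Groth.Agent.KFlatLib.isDualizing_of_iso (e.app ω) hd

end Groth.Agent.S1787
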