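import Groth.Statements.S17871
import Groth.Agent.ProdFP7.Alg
import Groth.Agent.QCoh.PullbackBC
import Groth.Agent.QCoh.FT
import Groth.Agent.QCoh.Support
-- import your own Groth.Agent.* helpers here

set_option autoImplicit false
open CategoryTheory AlgebraicGeometry Opposite
universe u
open Algz

namespace Groth.Agent.S17871

open AlgebraicGeometry CategoryTheory TopologicalSpace in
theorem exists_le_and_span {Y : Scheme.{u}} [IsAffine Y] {J : Type*} [Fintype J] (W : J → Y.Opens)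
    (hW : ∀ y : Y, ∃ j, y ∈ W j) :
    ∃ a : J → Γ(Y, ⊤), (∀ j, Y.basicOpen (a j) ≤ W j) ∧ Ideal.span (Set.range a) = ⊤ := by
  classical
  let I : J → Ideal Γ(Y, ⊤) := fun j =>
    { carrier := {g | Y.basicOpen g ≤ W j}
      add_mem' := fun {f g} hf hg => (Y.basicOpen_add_le f g).trans (sup_le hf hg)
      zero_mem' := by simp [Scheme.basicOpen_zero]
      smul_mem' := fun c g hg => by
        show Y.basicOpen (c * g) ≤ W j
        rw [Scheme.basicOpen_mul]
        exact inf_le_right.trans hg }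
  have h1 : Ideal.span (⋃ j, (I j : Set Γ(Y, ⊤))) = ⊤ := by
    refine (isAffineOpen_top Y).self_le_iSup_basicOpen_iff.1 fun y _ => ?_
    obtain ⟨j, hj⟩ := hW y
    obtain ⟨g, hg, hy⟩ := (isAffineOpen_top Y).exists_basicOpen_le (V := W j) ⟨y, hj⟩ trivial
    exact Opens.mem_iSup.2 ⟨⟨g, Set.mem_iUnion.2 ⟨j, hg⟩⟩, hy⟩
  rw [Ideal.span_iUnion] at h1
  simp only [Ideal.span_eq] at h1
  obtain ⟨a, ha⟩ := (Submodule.mem_iSup_iff_exists_finsupp I (1 : Γ(Y, ⊤))).1 (h1.symm ▸ trivial)
  refine ⟨fun j => a j, fun j => ha.1 j, Ideal.eq_top_iff_one _ |>.2 ?_⟩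
  rw [← ha.2]
  exact Ideal.sum_mem _ fun j _ => Ideal.subset_span ⟨j, rfl⟩

/-- Let `X` be a quasi-compact quasi-separated scheme, `A i` a family of commutative rings indexed by an
arbitrary type together with morphisms `f i : Spec (A i) ⟶ X`, and `F` an `O_X`-module locally of
finite presentation (a finitely presented quasi-coherent sheaf). Then the product over `i` of the
modules of global sections of the pullbacks `(f i)^* F` is a finitely presented module over the
product of the rings of global sections `Γ(Spec (A i), O)` (that is, over `Π i, A i`). The point is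
that the index set may be infinite. -/
theorem result (X : Scheme.{u}) [CompactSpace X] [QuasiSeparatedSpace X]
    {ι : Type u} (A : ι → CommRingCat.{u}) (f : ∀ i, Spec (A i) ⟶ X) (F : X.Modules) (hF : CohB1.IsFP F) :
    Module.FinitePresentation (∀ i, Γ(Spec (A i), ⊤))
      (∀ i, Γ((Scheme.Modules.pullback (f i)).obj F, ⊤)) := by
  classical
  have hqc : Coh.IsQCoh F := Groth.Agent.QCoh.isQCoh_of_isFP hF
  obtain ⟨t, ht⟩ := (isCompact_univ (X := X)).elim_finite_subcover
    (fun V : X.affineOpens => ((V : X.Opens) : Set X)) (fun V => V.1.isOpen) fun x _ => by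
      obtain ⟨_, ⟨V, hV, rfl⟩, hxV, -⟩ :=
        X.isBasis_affineOpens.exists_subset_of_mem_open (Set.mem_univ x) isOpen_univ
      exact Set.mem_iUnion.2 ⟨⟨V, hV⟩, hxV⟩
  have hp : ∀ V : t, ∃ n m, Groth.Agent.ProdFP7.Pres Γ(X, V.1.1) Γ(F, V.1.1) n m := fun V =>
    haveI := Groth.Agent.QCoh.finitePresentation_of_isFP hF V.1.2
    Groth.Agent.ProdFP7.exists_pres _ _
  choose n m hnm using hp
  refine Groth.Agent.ProdFP7.finitePresentation_pi _ _ (∑ V : t, n V)
    (Q := Σ V : t, Fin (m V) ⊕ Fin (∑ V : t, n V)) fun i => ?_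
  let Y := Spec (A i)
  let φ := f i
  let P := (Scheme.Modules.pullback φ).obj F
  have hP : Coh.IsQCoh P := Groth.Agent.QCoh.isQCoh_pullback φ hqc
  obtain ⟨a, ha, hspan⟩ := exists_le_and_span (Y := Y) (fun V : t => φ ⁻¹ᵁ V.1.1) fun y => by
    obtain ⟨V, hV, hy⟩ := Set.mem_iUnion₂.1 (ht (Set.mem_univ (φ.base y)))
    exact ⟨⟨V, hV⟩, hy⟩
  letI := fun V : t => Groth.Agent.QCoh.basicModule (U := (⊤ : Y.Opens)) (a V) P
  haveI : ∀ V : t, IsScalarTower Γ(Y, ⊤) Γ(Y, Y.basicOpen (a V)) Γ(P, Y.basicOpen (a V)) :=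
    fun V => IsScalarTower.of_algebraMap_smul fun _ _ => rfl
  haveI := fun V : t => (isAffineOpen_top Y).isLocalization_basicOpen (a V)
  haveI := fun V : t => Groth.Agent.QCoh.isLocalizedModule_basicRes (M := P) (a V) hP (isAffineOpen_top Y)
  refine Groth.Agent.ProdFP7.exists_gens_and_ker_span (a) hspan (fun V : t => Γ(Y, Y.basicOpen (a V)))
    (fun V : t => Γ(P, Y.basicOpen (a V))) (fun V => Groth.Agent.QCoh.basicRes (a V) P) fun V => ?_
  let W := Y.basicOpen (a V)
  letI : Algebra Γ(X, V.1.1) Γ(Y, W) := (φ.appLE V.1.1 W (ha V)).hom.toAlgebra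
  letI : Module Γ(X, V.1.1) Γ(P, W) := Module.compHom _ (φ.appLE V.1.1 W (ha V)).hom
  haveI : IsScalarTower Γ(X, V.1.1) Γ(Y, W) Γ(P, W) :=
    ⟨fun r b c => mul_smul ((φ.appLE V.1.1 W (ha V)).hom r) b c⟩
  let l : Γ(F, V.1.1) →ₗ[Γ(X, V.1.1)] Γ(P, W) :=
    { toFun := Groth.Agent.QCoh.pullSec φ F (ha V)
      map_add' := Groth.Agent.QCoh.pullSec_add φ F (ha V)
      map_smul' := fun r x => Groth.Agent.QCoh.pullSec_smul φ F (ha V) r x }
  exact Groth.Agent.ProdFP7.Pres.of_isBaseChange (Groth.Agent.QCoh.isBaseChange_pullback V.1.2 φ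
    ((isAffineOpen_top Y).basicOpen (a V)) hqc (ha V) (fun r => rfl) l fun x => rfl) (hnm V)

end Groth.Agent.S17871
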