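import Groth.Statements.S17872
import Mathlib.LinearAlgebra.Dual.Lemmas
import Mathlib.Algebra.Polynomial.Roots

set_option autoImplicit false
universe u v
open GRRSing

namespace Groth.Agent.S17872

/-- Let H be a vector space over a field K and let b_0, …, b_l be elements of H. If the sum of the t ^ i
• b_i vanishes for infinitely many scalars t of K, then all the b_i are zero. -/
theorem result {K : Type u} {H : Type v} [Field K] [AddCommGroup H] [Module K H]
    (l : ℕ) (b : Fin (l + 1) → H)
    (h : Set.Infinite {t : K | ∑ i : Fin (l + 1), t ^ (i : ℕ) • b i = 0}) :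
    b = 0 := by
  classical
  by_contra hb
  obtain ⟨i, hi⟩ := Function.ne_iff.mp hb
  obtain ⟨φ, hφ⟩ : ∃ φ : H →ₗ[K] K, φ (b i) ≠ 0 := by
    by_contra hc
    push Not at hc
    exact hi ((Module.forall_dual_apply_eq_zero_iff K (b i)).mp hc)
  let P : Polynomial K := ∑ j : Fin (l + 1), Polynomial.monomial (j : ℕ) (φ (b j))
  have hP : P = 0 := by
    refine Polynomial.eq_zero_of_infinite_isRoot P (h.mono fun t ht => ?_)
    simpa [P, Polynomial.IsRoot, Polynomial.eval_finset_sum, mul_comm] using congrArg φ ht
  apply hφ
  simpa [P, Polynomial.coeff_monomial, Fin.val_inj] using congrArg (fun q => q.coeff (i : ℕ)) hP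

end Groth.Agent.S17872
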