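import Groth.Statements.S17873
import Groth.Agent.CycLib.GenDepth
-- import your own Groth.Agent.* helpers here

set_option autoImplicit false
universe u
open GRRSing

namespace Groth.Agent.S17873

/-- Let T be a Cohen–Macaulay Noetherian local ring, J a proper ideal of T, j the grade of J (the
J-depth of T, i.e. the supremum of the lengths of T-regular sequences inside J; a natural number
here) and c the minimal number of generators of J (equal to the dimension of J/𝔪J over the residue
field). Then j ≤ c and there is a generating sequence t_1, …, t_c of J such that t_1, …, t_j is a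
T-regular sequence. (The published statement does not exclude J = T; there c = 1 while the grade,
read as the depth of T, can exceed 1, so this row assumes J proper.) -/
theorem result {T : Type u} [CommRing T] [LocCoh.IsCohenMacaulayLocalRing T]
    (J : Ideal T) (hJ : J ≠ ⊤) (j : ℕ) (hj : LocCoh.idealDepth J T = j) :
    j ≤ Submodule.spanFinrank J ∧
      ∃ ts : List T, ts.length = Submodule.spanFinrank J ∧ Ideal.ofList ts = J ∧
        RingTheory.Sequence.IsRegular T (ts.take j) := by
  classical
  haveI : Nontrivial T := inferInstance
  have hfg : J.FG := IsNoetherian.noetherian J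
  obtain ⟨g, hg⟩ := Submodule.FG.exists_span_set_encard_eq_spanFinrank hfg
  have hfin : g.Finite := Set.finite_of_encard_eq_coe hg.1
  have hcard : hfin.toFinset.card = Submodule.spanFinrank J := by
    have := hg.1
    rw [hfin.encard_eq_coe_toFinset_card] at this
    exact_mod_cast this
  let e := (hfin.toFinset.equivFinOfCardEq hcard).symm
  have hspan : Ideal.span (Set.range fun l => (e l).1) = J := by
    rw [show (Set.range fun l => (e l).1) = g by
      ext x
      exact ⟨by rintro ⟨l, rfl⟩; exact hfin.mem_toFinset.1 (e l).2,
        fun hx => ⟨e.symm ⟨x, hfin.mem_toFinset.2 hx⟩, by simp⟩⟩]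
    exact hg.2
  obtain ⟨t, ht, hjc, hreg⟩ := Groth.Agent.CycLib.exists_generators_prefix J hJ j _ hj _ hspan j le_rfl
  refine ⟨hjc, List.ofFn t, List.length_ofFn, ?_, hreg, ?_⟩
  · refine Eq.trans ?_ ht
    rw [Ideal.ofList]
    congr 1
    ext x
    simp [List.mem_ofFn]
  · refine Ne.symm (Groth.Agent.LC.smul_top_ne_top_of_le_maximal (M := T) ?_)
    refine (Ideal.span_le.2 fun x hx => ?_).trans (IsLocalRing.le_maximalIdeal hJ)
    obtain ⟨l, rfl⟩ := List.mem_ofFn.1 (List.mem_of_mem_take (show x ∈ (List.ofFn t).take j from hx))
    exact ht ▸ Ideal.subset_span ⟨l, rfl⟩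

end Groth.Agent.S17873
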