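import Groth.Statements.S17875
import Groth.Agent.ZeroCycLib.Binom
-- import your own Groth.Agent.* helpers here

set_option autoImplicit false
universe u
open Polynomial
open GRRSing

namespace Groth.Agent.S17875

/-- Let R be a commutative ℚ-algebra, r an element of R and δ a natural number with (r - 1) ^ (δ + 1) =
0. Write s(k, j) for the signed Stirling numbers of the first kind, the coefficients of x (x - 1) ⋯
(x - k + 1) = Σ_j s(k, j) x ^ j. Then (i) for every natural number n, r ^ n = Σ_{k ≤ δ} [n (n - 1) ⋯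
(n - k + 1) / k!] (r - 1) ^ k; and (ii) in the polynomial ring R[x], Σ_{k ≤ δ} [x (x - 1) ⋯ (x - k +
1) / k!] (r - 1) ^ k = Σ_{j ≤ δ} [Σ_{k ≤ δ} Σ_{u ≤ k} (-1) ^ (k - u) s(k, j) / (u! (k - u)!) · r ^
u] x ^ j. -/
theorem result {R : Type u} [CommRing R] [Algebra ℚ R]
    (r : R) (δ : ℕ) (hr : (r - 1) ^ (δ + 1) = 0) :
    (∀ n : ℕ, r ^ n = ∑ k ∈ Finset.range (δ + 1), ((descPochhammer ℚ k).eval (n : ℚ) / (k.factorial : ℚ)) • (r - 1) ^ k) ∧
    (∑ k ∈ Finset.range (δ + 1), ((k.factorial : ℚ)⁻¹ • (descPochhammer R k * Polynomial.C ((r - 1) ^ k))) =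
      ∑ j ∈ Finset.range (δ + 1), Polynomial.C (∑ k ∈ Finset.range (δ + 1), ∑ u ∈ Finset.range (k + 1),
        (((-1 : ℚ) ^ (k - u) * (((descPochhammer ℤ k).coeff j : ℤ) : ℚ)) / ((u.factorial * (k - u).factorial : ℕ) : ℚ)) • r ^ u) * Polynomial.X ^ j) := by
  exact ⟨Groth.Agent.ZeroCycLib.pow_truncated r δ hr, Groth.Agent.ZeroCycLib.stirling_expansion r δ⟩

end Groth.Agent.S17875
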