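import Groth.Statements.S17878
import Groth.Agent.EulerAbel.Basic
-- import your own Groth.Agent.* helpers here

set_option autoImplicit false
universe u
open Filter Topology
open GRRSing

namespace Groth.Agent.S17878

/-- Let T be a nonzero commutative normed ℂ-algebra such that the map ℂ → T/nilradical(T) is surjective,
let P = Σ_j d_j x ^ j be a polynomial over T and put h_k = P(k). Let E_0, E_1, … be the rational
numbers with 2/(e^t + 1) = Σ_j E_j t ^ j / j! (so E_0 = 1, E_1 = -1/2). Then for every complex y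
with |y| < 1 the series Σ_k h_k y ^ k converges in T, and as y → -1 along real y in (-1, 1) its sum
tends to (1/2) Σ_j E_j d_j. (The published statement allows any norm topology on T as a complex
vector space; this row takes T a normed ℂ-algebra.) -/
theorem result {T : Type u} [NormedCommRing T] [NormedAlgebra ℂ T] [Nontrivial T]
    (hT : Function.Surjective (algebraMap ℂ (T ⧸ nilradical T)))
    (E : ℕ → ℚ) (hE : PowerSeries.mk (fun j => E j / (j.factorial : ℚ)) * (PowerSeries.exp ℚ + 1) = 2)
    (P : Polynomial T) :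
    (∀ y : ℂ, ‖y‖ < 1 → Summable (fun k : ℕ => y ^ k • P.eval (k : T))) ∧
    Tendsto (fun y : ℝ => ∑' k : ℕ, ((y : ℂ) ^ k) • P.eval (k : T)) (𝓝[Set.Ioo (-1 : ℝ) 1] (-1 : ℝ))
      (𝓝 ((2 : ℂ)⁻¹ • ∑ j ∈ Finset.range (P.natDegree + 1), ((E j : ℚ) : ℂ) • P.coeff j)) := by
  exact ⟨fun y hy => (Groth.Agent.EulerAbel.hasSum_eval P hy).summable, Groth.Agent.EulerAbel.tendsto_eval E hE P⟩

end Groth.Agent.S17878
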