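import Groth.Statements.S1788
import Groth.Agent.KFlatLib.Ring.DualizingFibreRows
-- import your own Groth.Agent.* helpers here

set_option autoImplicit false
universe u
open CategoryTheory
attribute [local instance] HasDerivedCategory.standard
open scoped TensorProduct
open Dual

namespace Groth.Agent.S1788

/-- Let A → B be a faithfully flat finite type homomorphism of Noetherian rings all of whose fibre rings
B ⊗_A κ(p) are Gorenstein, and K an object of D(A). Assuming the derived base change functor D(A) →
D(B) exists, K is a dualizing complex for A if and only if its base change is a dualizing complex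
for B. -/
theorem result (A B : Type u) [CommRing A] [CommRing B] [Algebra A B] [IsNoetherianRing A] [IsNoetherianRing B] [Module.FaithfullyFlat A B] [Algebra.FiniteType A B] (hG : ∀ p : PrimeSpectrum A, LocCoh.IsGorensteinRing (B ⊗[A] p.asIdeal.ResidueField)) [DRing.HasLBaseChange (algebraMap A B)] (K : Dual.D A) : Dual.IsDualizing A K ↔ Dual.IsDualizing B ((DRing.LBaseChange (algebraMap A B)).obj K) := by
  refine Groth.Agent.KFlatLib.isDualizing_iff_of_gorenstein_fibers (fun p hp => ?_) K
  exact Groth.Agent.LC.gorensteinRing_of_ringEquiv (Algebra.TensorProduct.comm A B p.ResidueField).toRingEquiv (hG ⟨p, hp⟩)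

end Groth.Agent.S1788
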