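import Groth.Statements.S17881
import Mathlib

set_option autoImplicit false
universe u
open CAlg

namespace Groth.Agent.S17881

/-- Let O be a subring of a nontrivial commutative ring A. The following are equivalent: (i) A is a
local ring, every non-unit of A belongs to O, and for every unit u of A one of u, u⁻¹ belongs to O —
equivalently O is the preimage in the local ring A of a valuation ring of the residue field of A,
which makes O a semi-valuation ring with semi-fraction ring A; (ii) for all f, g in A generating the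
unit ideal, either f ∈ gO or g ∈ fO. (A is taken nontrivial: over the zero ring (ii) holds and (i)
fails.) -/
theorem result (A : Type u) [CommRing A] [Nontrivial A]
    (O : Subring A) :
    (IsLocalRing A ∧ (∀ a : A, ¬ IsUnit a → a ∈ O) ∧ (∀ u : Aˣ, (u : A) ∈ O ∨ ((u⁻¹ : Aˣ) : A) ∈ O)) ↔
      ∀ f g : A, IsCoprime f g → (∃ o ∈ O, f = g * o) ∨ (∃ o ∈ O, g = f * o) := by
  constructor
  · rintro ⟨hloc, hnu, hu⟩ f g hfg
    have key : ∀ {f g : A}, IsUnit g → (∃ o ∈ O, f = g * o) ∨ (∃ o ∈ O, g = f * o) := by
      intro f g hg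
      obtain ⟨v, rfl⟩ := hg
      by_cases hf : IsUnit ((↑v⁻¹ : A) * f)
      · obtain ⟨w, hw⟩ := hf
        rcases hu w with h | h
        · exact Or.inl ⟨w, h, by rw [hw, ← mul_assoc, Units.mul_inv, one_mul]⟩
        · refine Or.inr ⟨_, h, ?_⟩
          have hf' : f = v * w := by rw [hw, ← mul_assoc, Units.mul_inv, one_mul]
          rw [hf', mul_assoc, Units.mul_inv, mul_one]
      · exact Or.inl ⟨_, hnu _ hf, by rw [← mul_assoc, Units.mul_inv, one_mul]⟩
    obtain ⟨a, b, hab⟩ := hfg
    rcases IsLocalRing.isUnit_or_isUnit_of_add_one hab with h | h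
    · exact (key (IsUnit.mul_iff.1 h).2).symm
    · exact key (IsUnit.mul_iff.1 h).2
  · intro h
    refine ⟨?_, fun a ha => ?_, fun u => ?_⟩
    · refine IsLocalRing.of_isUnit_or_isUnit_one_sub_self fun a => ?_
      rcases h a (1 - a) ⟨1, 1, by ring⟩ with ⟨o, -, ho⟩ | ⟨o, -, ho⟩
      · exact Or.inr (IsUnit.of_mul_eq_one (o + 1) (by linear_combination -ho))
      · exact Or.inl (IsUnit.of_mul_eq_one (o + 1) (by linear_combination -ho))
    · rcases h a 1 isCoprime_one_right with ⟨o, ho, e⟩ | ⟨o, -, e⟩
      · rw [e, one_mul]; exact ho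
      · exact absurd (IsUnit.of_mul_eq_one o e.symm) ha
    · rcases h (u : A) 1 isCoprime_one_right with ⟨o, ho, e⟩ | ⟨o, ho, e⟩
      · left; rw [e, one_mul]; exact ho
      · right
        rwa [Units.inv_eq_of_mul_eq_one_right e.symm]

end Groth.Agent.S17881
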