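import Groth.Statements.S17882
import Mathlib.LinearAlgebra.Matrix.Adjugate
import Mathlib.LinearAlgebra.Matrix.Determinant.Basic
import Mathlib.RingTheory.Finiteness.Defs
import Mathlib.LinearAlgebra.LinearIndependent.Basic

set_option autoImplicit false
universe u
open CAlg

namespace Groth.Agent.S17882

/-- Let B be a commutative ring, r ≥ 1, N a finitely generated submodule of B^r, and n_1, …, n_r ∈ N.
Suppose the determinant of the matrix with rows n_1, …, n_r is a nonzerodivisor of B and that the
determinant of every matrix whose rows lie in N is a multiple of it (the image of the top exterior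
power of N in that of B^r ≅ B is the principal ideal generated by n_1 ∧ ⋯ ∧ n_r, a nonzerodivisor).
Then n_1, …, n_r are linearly independent over B and span N: N is free of rank r with this basis. -/
theorem result (B : Type u) [CommRing B] (r : ℕ) (hr : 0 < r)
    (N : Submodule B (Fin r → B)) (hN : N.FG) (n : Fin r → (Fin r → B)) (hn : ∀ i, n i ∈ N)
    (hgen : ∀ m : Fin r → (Fin r → B), (∀ i, m i ∈ N) →
      Matrix.det (Matrix.of m) ∈ Ideal.span {Matrix.det (Matrix.of n)})
    (hnzd : Matrix.det (Matrix.of n) ∈ nonZeroDivisors B) :
    LinearIndependent B n ∧ Submodule.span B (Set.range n) = N := by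
  classical
  set A : Matrix (Fin r) (Fin r) B := (Matrix.of n).transpose with hA
  have hdet : A.det = Matrix.det (Matrix.of n) := Matrix.det_transpose _
  have hmul : ∀ v : Fin r → B, Matrix.mulVec A v = ∑ i, v i • n i := fun v => by
    ext j
    simp [A, Matrix.mulVec, dotProduct, Finset.sum_apply, mul_comm]
  refine ⟨Fintype.linearIndependent_iff.2 fun g hg i => ?_, ?_⟩
  · have h := congrArg (Matrix.mulVec A.adjugate) ((hmul g).trans hg)
    rw [Matrix.mulVec_mulVec, Matrix.adjugate_mul, Matrix.smul_mulVec, Matrix.one_mulVec,
      Matrix.mulVec_zero] at h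
    have h' := congrFun h i
    rw [Pi.smul_apply, smul_eq_mul, hdet, Pi.zero_apply] at h'
    exact (mem_nonZeroDivisors_iff.1 hnzd).1 _ h'
  · refine le_antisymm (Submodule.span_le.2 (Set.range_subset_iff.2 hn)) fun m hm => ?_
    have hc : ∀ i, ∃ c : B, c * Matrix.det (Matrix.of n) = Matrix.cramer A m i := fun i => by
      have h := hgen (Function.update n i m) (fun k => by
        rcases eq_or_ne k i with rfl | hk
        · simpa using hm
        · simpa [hk] using hn k)
      obtain ⟨c, hc⟩ := Ideal.mem_span_singleton'.1 h
      refine ⟨c, hc.trans ?_⟩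
      rw [Matrix.cramer_apply, hA, Matrix.updateCol_transpose, Matrix.det_transpose]
      rfl
    choose c hc using hc
    rw [Submodule.mem_span_range_iff_exists_fun]
    refine ⟨c, ?_⟩
    funext j
    have h := congrFun (Matrix.mulVec_cramer A m) j
    rw [hmul, hdet, Pi.smul_apply, smul_eq_mul, Finset.sum_apply] at h
    refine (sub_eq_zero.1 ((mem_nonZeroDivisors_iff.1 hnzd).1 _ ?_))
    rw [mul_sub, ← h, Finset.sum_apply, Finset.mul_sum, sub_eq_zero]
    refine Finset.sum_congr rfl fun i _ => ?_
    simp only [Pi.smul_apply, smul_eq_mul, ← hc i]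
    ring

end Groth.Agent.S17882
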