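import Groth.Statements.S17885
import Groth.Agent.Approx.FP

set_option autoImplicit false
universe u
open CategoryTheory AlgebraicGeometry
open Lim

namespace Groth.Agent.S17885

/-- Let f : Y → X be a morphism of schemes with X and Y quasi-compact and quasi-separated. Then f is
affine if and only if the X-scheme Y is a limit, in the category of schemes over X, of a filtered
inverse system of X-schemes that are affine and of finite presentation over X. -/
theorem result {X Y : Scheme.{u}} (f : Y ⟶ X)
    [CompactSpace X] [QuasiSeparatedSpace X] [CompactSpace Y] [QuasiSeparatedSpace Y] :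
    IsAffineHom f ↔
      ∃ (I : Type u) (_ : SmallCategory I) (_ : IsFiltered I) (D : Iᵒᵖ ⥤ Over X)
        (c : Limits.Cone D) (_ : Limits.IsLimit c),
        (∀ i, IsAffineHom (D.obj i).hom ∧ LocallyOfFinitePresentation (D.obj i).hom) ∧
        Nonempty (c.pt ≅ Over.mk f) := by
  open Groth.Agent.Approx Opposite in
  constructor
  · intro hf
    obtain ⟨σ⟩ := nonempty_setup f
    obtain ⟨p0, hp0⟩ := σ.eventually_affine
    haveI := tail_final p0
    exact ⟨Tail p0, inferInstance, inferInstance, (tailVal_mono p0).functor.op ⋙ σ.sysY,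
      σ.coneY.whisker (tailVal_mono p0).functor.op,
      (Functor.Initial.isLimitWhiskerEquiv (tailVal_mono p0).functor.op _).symm σ.nonempty_isLimit_coneY.some,
      fun i => ⟨hp0 i.unop.1 i.unop.2, σ.lfp_yS i.unop.1⟩, ⟨Iso.refl _⟩⟩
  · rintro ⟨I, _, _, D, c, hc, hD, ⟨e⟩⟩
    haveI : IsConnected Iᵒᵖ := IsCofiltered.isConnected _
    haveI : ∀ {i j : Iᵒᵖ} (a : i ⟶ j), IsAffineHom ((D ⋙ Over.forget X).map a) := fun {i j} a => by
      haveI := (hD i).1
      haveI := (hD j).1
      haveI : IsAffineHom ((D.map a).left ≫ (D.obj j).hom) := by rw [Over.w]; infer_instance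
      exact IsAffineHom.of_comp (D.map a).left (D.obj j).hom
    obtain ⟨i⟩ : Nonempty Iᵒᵖ := IsConnected.is_nonempty
    haveI : IsAffineHom (c.π.app i).left :=
      isAffineHom_π_app _ _ (Limits.isLimitOfPreserves (Over.forget X) hc) i
    haveI := (hD i).1
    haveI : IsAffineHom c.pt.hom := by
      have h3 : (c.π.app i).left ≫ (D.obj i).hom = c.pt.hom := Over.w (c.π.app i)
      exact h3 ▸ (inferInstance : IsAffineHom ((c.π.app i).left ≫ (D.obj i).hom))
    have h2 : e.inv.left ≫ c.pt.hom = f := Over.w e.inv
    rw [← h2]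
    haveI : IsIso e.inv.left := (inferInstance : IsIso ((Over.forget X).map e.inv))
    infer_instance

end Groth.Agent.S17885
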