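import Groth.Statements.S17886
import Groth.Agent.AmpleX.QAHom

set_option autoImplicit false
set_option linter.style.haveILetI false
universe u
open CategoryTheory AlgebraicGeometry
open FlatMor

namespace Groth.Agent.S17886
open TopologicalSpace

/-- Every point of a Noetherian scheme lies in a dense affine open. -/
theorem exists_dense_affineOpen_mem {X : Scheme.{u}} [IsNoetherian X] (x : X) :
    ∃ U : X.Opens, x ∈ U ∧ IsAffineOpen U ∧ Dense (U : Set X) := by
  obtain ⟨U₀, hU₀, hxU₀, -⟩ := exists_isAffineOpen_mem_and_subset (X := X) (x := x) (U := ⊤) trivial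
  obtain ⟨U, ⟨hxU, hU⟩, hmax⟩ := WellFounded.has_min (wellFounded_gt (α := X.Opens))
    {U : X.Opens | x ∈ U ∧ IsAffineOpen U} ⟨U₀, hxU₀, hU₀⟩
  refine ⟨U, hxU, hU, fun y => ?_⟩
  by_contra hy
  obtain ⟨V, hV, hyV, hVU⟩ := exists_isAffineOpen_mem_and_subset (X := X) (x := y)
    (U := ⟨(closure (U : Set X))ᶜ, isClosed_closure.isOpen_compl⟩) hy
  have hd : Disjoint U V := by
    rw [disjoint_iff]
    exact TopologicalSpace.Opens.ext (Set.eq_empty_of_forall_notMem fun z hz =>
      hVU hz.2 (subset_closure hz.1))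
  refine hmax (U ⊔ V) ⟨Or.inl hxU, hU.sup_of_disjoint hV hd⟩ ?_
  exact lt_of_le_of_ne le_sup_left fun e => hy (subset_closure (e ▸ (Or.inr hyV : y ∈ U ⊔ V)))


/-- Let S be a Noetherian scheme and f : X → S separated and of finite type. Then X is covered by
finitely many affine opens U_1, …, U_n each of which is dense in X and quasi-projective over S (of
finite type with a relatively ample invertible module). -/
theorem result {S X : Scheme.{u}} (f : X ⟶ S)
    [IsNoetherian S] [IsSeparated f] [QuasiCompact f] [LocallyOfFiniteType f] :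
    ∃ (n : ℕ) (U : Fin n → X.Opens), (⨆ i, U i) = ⊤ ∧
      ∀ i, IsAffineOpen (U i) ∧ Dense ((U i : Set X)) ∧ RelProj.IsQuasiProjective ((U i).ι ≫ f) := by
  haveI : IsLocallyNoetherian X := LocallyOfFiniteType.isLocallyNoetherian f
  haveI : CompactSpace X := QuasiCompact.compactSpace_of_compactSpace f
  haveI : IsNoetherian X := {}
  choose W hxW hW hWd using exists_dense_affineOpen_mem (X := X)
  obtain ⟨t, ht⟩ := isCompact_univ.elim_finite_subcover (fun x : X => (W x : Set X)) (fun x => (W x).2)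
    (fun x _ => Set.mem_iUnion.2 ⟨x, hxW x⟩)
  refine ⟨t.card, fun i => W (t.equivFin.symm i).1, eq_top_iff.2 fun x _ => ?_,
    fun i => ⟨hW _, hWd _, inferInstance, ?_⟩⟩
  · obtain ⟨y, hy, hxy⟩ := Set.mem_iUnion₂.1 (ht (Set.mem_univ x))
    exact TopologicalSpace.Opens.mem_iSup.2 ⟨t.equivFin ⟨y, hy⟩, by simpa using hxy⟩
  beta_reduce
  generalize (t.equivFin.symm i).1 = z
  haveI : IsAffine (W z : Scheme.{u}) := hW z
  haveI : QuasiCompact ((W z).ι ≫ f) := inferInstance
  refine ⟨inferInstance, _, (AmpleX.isQuasiAffine_iff_isRelAmple ((W z).ι ≫ f)).1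
    ⟨inferInstance, fun V hV => ?_⟩⟩
  haveI : CompactSpace (((W z).ι ≫ f) ⁻¹ᵁ V : (W z : Scheme.{u}).Opens) :=
    isCompact_iff_compactSpace.mp (((W z).ι ≫ f).isCompact_preimage hV.isCompact)
  exact Scheme.IsQuasiAffine.of_isImmersion (((W z).ι ≫ f) ⁻¹ᵁ V).ι

end Groth.Agent.S17886
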