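import Groth.Statements.S17887
import Groth.Agent.BlowUpX.Basic

set_option autoImplicit false
universe u
open CategoryTheory AlgebraicGeometry
open BlowUp

namespace Groth.Agent.S17887

/-- Let X be a Noetherian scheme, U ⊆ X an open subscheme that is schematically dense in X, I a
quasi-coherent ideal sheaf on X whose support does not meet U, and π : X' → X a blowing-up of X
along I. Then π⁻¹(U) is schematically dense in X'. -/
theorem result {X X' : Scheme.{u}} [IsNoetherian X]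
    (U : X.Opens) [IsSchemeTheoreticallyDominant U.ι] (𝓘 : X.IdealSheafData)
    (hU : Disjoint (𝓘.support : Set X) (U : Set X)) (π : X' ⟶ X) (hπ : BlowUp.IsBlowUp π 𝓘) :
    IsSchemeTheoreticallyDominant (π ⁻¹ᵁ U).ι := by
  set C : X.Opens := 𝓘.support.compl
  set W := ModPair.interior (𝓘.comap π)
  have hW : π ⁻¹ᵁ C = W := ModPairLib.preimage_interior 𝓘 π
  have := BlowUpX.isIso_restrict hπ
  have := ModPairLib.isAffineHom_interior (ModPairLib.isLocPrincipal_of_isEffCartier hπ.1)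
  have := ModPairLib.isSchemeTheoreticallyDominant_interior hπ.1
  have hflat : Flat ((π ⁻¹ᵁ C).ι ≫ π) := by
    rw [← morphismRestrict_ι]
    infer_instance
  have h1 : IsSchemeTheoreticallyDominant (((π ⁻¹ᵁ C).ι ≫ π) ⁻¹ᵁ U).ι :=
    IsSchemeTheoreticallyDominant.of_isPullback (isPullback_morphismRestrict _ _)
  have h2 : IsSchemeTheoreticallyDominant (π ⁻¹ᵁ C).ι := by
    rw [hW]; infer_instance
  have hr : Set.range ((((π ⁻¹ᵁ C).ι ≫ π) ⁻¹ᵁ U).ι ≫ (π ⁻¹ᵁ C).ι) ⊆ Set.range (π ⁻¹ᵁ U).ι := by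
    rintro _ ⟨z, rfl⟩
    rw [Scheme.Opens.range_ι]
    exact z.2
  refine ⟨le_bot_iff.mp (le_trans (Scheme.Hom.le_ker_comp
    (IsOpenImmersion.lift (π ⁻¹ᵁ U).ι _ hr) (π ⁻¹ᵁ U).ι) ?_)⟩
  rw [IsOpenImmersion.lift_fac]
  exact le_of_eq (Scheme.Hom.ker_eq_bot _)

end Groth.Agent.S17887
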