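import Groth.Statements.S17889
import Groth.Agent.BlowSep17.Basic

set_option backward.isDefEq.respectTransparency false
set_option backward.isDefEq.respectTransparency.types false
set_option linter.style.haveILetI false
-- import your own Groth.Agent.* helpers here

set_option autoImplicit false
universe u
open CategoryTheory AlgebraicGeometry TopologicalSpace
open CategoryTheory.Limits
open BlowUp

namespace Groth.Agent.S17889

/-- Let X be a Noetherian scheme, X₀ ⊆ X an open subscheme, p : Z → X a morphism of finite type with Z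
Noetherian, and F ⊆ X, G ⊆ Z closed subsets with p⁻¹(F ∩ X₀) ∩ G = ∅. Let a be a quasi-coherent
ideal sheaf on X whose support does not meet X₀, which contains the vanishing ideal I_F of F, and
which is contained in the kernel ideal of V(I_F·O_Z + I_G) → Z → X (the ideal of the
scheme-theoretic image under p of p⁻¹(F) ∩ G). Let π : X' → X be a blowing-up along a, Z' = Z ×_X X'
with projections π' : Z' → Z and p' : Z' → X'. Then p'⁻¹ of the closure in X' of π⁻¹(F ∩ X₀) is
disjoint from the closure in Z' of π'⁻¹(G ∩ p⁻¹(X₀)). Taking a to be that kernel ideal shows such an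
a exists. -/
theorem result
    {X Z : Scheme.{u}} [IsNoetherian X] [IsNoetherian Z] (p : Z ⟶ X) [LocallyOfFiniteType p]
    (X₀ : X.Opens) (F : Closeds X) (G : Closeds Z)
    (hFG : p.base ⁻¹' ((F : Set X) ∩ (X₀ : Set X)) ∩ (G : Set Z) = ∅)
    (𝔞 : X.IdealSheafData) (h₁ : Disjoint (𝔞.support : Set X) (X₀ : Set X))
    (h₂ : Scheme.IdealSheafData.vanishingIdeal F ≤ 𝔞)
    (h₃ : 𝔞 ≤ (((Scheme.IdealSheafData.vanishingIdeal F).comap p ⊔
      Scheme.IdealSheafData.vanishingIdeal G).subschemeι ≫ p).ker)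
    {X' : Scheme.{u}} (π : X' ⟶ X) (hπ : BlowUp.IsBlowUp π 𝔞) :
    (Limits.pullback.snd p π).base ⁻¹' closure (π.base ⁻¹' ((F : Set X) ∩ (X₀ : Set X))) ∩
      closure ((Limits.pullback.fst p π).base ⁻¹' ((G : Set Z) ∩ (p ⁻¹ᵁ X₀ : Set Z))) = ∅ := by
  let Iv := Scheme.IdealSheafData.vanishingIdeal F
  let Jv := Scheme.IdealSheafData.vanishingIdeal G
  have hIv : (Iv.support : Set X) = F := by simp [Iv]
  have hJv : (Jv.support : Set Z) = G := by simp [Jv]
  have hsup : Iv ⊔ 𝔞 = 𝔞 := sup_eq_right.2 h₂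
  let O : Jv.subscheme.Opens := Jv.subschemeι ⁻¹ᵁ (p ⁻¹ᵁ X₀)
  let f := O.ι ≫ Jv.subschemeι
  have hmain := BlowSep17.disjoint_closure p f π ((F : Set X) ∩ (X₀ : Set X)) (𝓘₁ := Iv) (𝓘₂ := 𝔞)
    (fun x hx => hIv.ge hx.1) (Set.disjoint_left.2 fun x hx hx2 => Set.disjoint_left.1 h₁ hx2 hx.2)
    (fun y hy => by
      rw [hsup] at hy
      exact Set.disjoint_left.1 h₁ hy y.2) (by
      refine (Scheme.IdealSheafData.le_map_iff_comap_le.1 h₃).trans (sup_le_sup_left ?_ _)
      exact Jv.ker_subschemeι.ge.trans (Scheme.Hom.le_ker_comp _ _))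
    (by rw [hsup]; exact hπ.1)
  rw [Set.eq_empty_iff_forall_notMem]
  rintro z ⟨hz1, hz2⟩
  refine Set.disjoint_left.1 hmain (closure_mono ?_ hz2) hz1
  intro w hw
  obtain ⟨g, hg⟩ : (pullback.fst p π) w ∈ Set.range f := by
    have hG : (pullback.fst p π) w ∈ Set.range Jv.subschemeι := by
      rw [Scheme.IdealSheafData.range_subschemeι]
      exact hJv.ge hw.1
    obtain ⟨v, hv⟩ := hG
    refine ⟨⟨v, ?_⟩, hv⟩
    show Jv.subschemeι v ∈ p ⁻¹ᵁ X₀
    rw [hv]
    exact hw.2
  show w ∈ Set.range (pullback.snd f (pullback.fst p π))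
  rw [Scheme.Pullback.range_snd]
  exact ⟨g, hg⟩

end Groth.Agent.S17889
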