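import Mathlib
import Groth.Agent.LocImmX.Glue
import Groth.Statements.S17890

set_option autoImplicit false
set_option backward.isDefEq.respectTransparency false
universe u
open CategoryTheory AlgebraicGeometry
open FlatMor

open CategoryTheory.Limits TopologicalSpace

/-- A morphism through which a scheme theoretically dominant one factors via an open immersion. -/
theorem std_of_comp {U V X : Scheme.{u}} (k : U ⟶ V) (a : V ⟶ X) (j : U ⟶ X) (h : k ≫ a = j)
    [IsOpenImmersion a] [QuasiCompact j] [IsSchemeTheoreticallyDominant j] :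
    IsSchemeTheoreticallyDominant k :=
  IsSchemeTheoreticallyDominant.of_isPullback
    (IsPullback.of_horiz_isIso_mono ⟨show 𝟙 U ≫ j = k ≫ a by rw [h, Category.id_comp]⟩)

/-- Two maps to a separated scheme agreeing on a schematically dense piece are equal. -/
theorem eq_of_dense {U V X S : Scheme.{u}} (k : U ⟶ V) [IsSchemeTheoreticallyDominant k] (p : X ⟶ S)
    [IsSeparated p] {f g : V ⟶ X} (hp : f ≫ p = g ≫ p) (hk : k ≫ f = k ≫ g) : f = g := by
  let d := pullback.lift f g hp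
  let e := pullback.fst d (pullback.diagonal p)
  have hl : k ≫ d = (k ≫ f) ≫ pullback.diagonal p := by
    apply pullback.hom_ext
    · rw [Category.assoc, Category.assoc, pullback.diagonal_fst, Category.comp_id]
      exact congrArg (k ≫ ·) (pullback.lift_fst f g hp)
    · rw [Category.assoc, Category.assoc, pullback.diagonal_snd, Category.comp_id]
      exact (congrArg (k ≫ ·) (pullback.lift_snd f g hp)).trans hk.symm
  have he : pullback.lift k (k ≫ f) hl ≫ e = k := pullback.lift_fst _ _ _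
  have hker : e.ker = ⊥ := by
    refine le_bot_iff.mp ?_
    have h1 := Scheme.Hom.le_ker_comp (pullback.lift k (k ≫ f) hl) e
    rw [he, k.ker_eq_bot] at h1
    exact h1
  haveI : IsIso e := IsClosedImmersion.isIso_iff_ker_eq_bot.mpr hker
  have h2 := pullback.condition (f := d) (g := pullback.diagonal p)
  have h3 := congrArg (· ≫ pullback.fst p p) h2
  have h4 := congrArg (· ≫ pullback.snd p p) h2
  simp only [Category.assoc, d, pullback.lift_fst, pullback.lift_snd, pullback.diagonal_fst,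
    pullback.diagonal_snd, Category.comp_id] at h3 h4
  exact (cancel_epi e).mp (h3.trans h4.symm)

/-- The kernel of a composition vanishes on an affine open inside the open immersed middle scheme. -/
theorem ker_ideal_eq_bot {U X Y : Scheme.{u}} (j : U ⟶ X) (i : X ⟶ Y) [IsOpenImmersion i] [QuasiCompact j]
    [IsSchemeTheoreticallyDominant j] [QuasiCompact (j ≫ i)] (V : Y.affineOpens) (hV : V.1 ≤ i.opensRange) :
    (j ≫ i).ker.ideal V = ⊥ := by
  rw [Scheme.Hom.ker_apply, ← RingHom.injective_iff_ker_eq_bot]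
  haveI := i.isIso_app V.1 hV
  rw [Scheme.Hom.comp_app]
  exact fun x y hxy => (ConcreteCategory.bijective_of_isIso (i.app V.1)).1 (j.app_injective _ hxy)


namespace Groth.Agent.S17890

/-- Let S be a Noetherian scheme, X₁ and X₂ separated S-schemes of finite type, and j₁ : U → X₁, j₂ : U
→ X₂ open immersions over S with schematically dense images. Suppose X₁ quasi-dominates X₂ and X₂
quasi-dominates X₁ compatibly with U: there are schematically dense opens W₁ ⊆ X₁ and W₂ ⊆ X₂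
through which j₁, j₂ factor, and S-morphisms φ : W₁ → X₂, ψ : W₂ → X₁ restricting to j₂ and j₁ on U,
whose graphs are closed subsets of X₁ ×_S X₂ and X₂ ×_S X₁. Then there exist a separated S-scheme Y
of finite type and open immersions i₁ : X₁ → Y, i₂ : X₂ → Y over S with j₁ ≫ i₁ = j₂ ≫ i₂, such that
U → Y has schematically dense image. -/
theorem result {S X₁ X₂ U : Scheme.{u}} [IsNoetherian S]
    (p₁ : X₁ ⟶ S) (p₂ : X₂ ⟶ S) [IsSeparated p₁] [QuasiCompact p₁] [LocallyOfFiniteType p₁]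
    [IsSeparated p₂] [QuasiCompact p₂] [LocallyOfFiniteType p₂]
    (j₁ : U ⟶ X₁) (j₂ : U ⟶ X₂) [IsOpenImmersion j₁] [IsOpenImmersion j₂]
    [IsSchemeTheoreticallyDominant j₁] [IsSchemeTheoreticallyDominant j₂] (hj : j₁ ≫ p₁ = j₂ ≫ p₂)
    (W₁ : X₁.Opens) [IsSchemeTheoreticallyDominant W₁.ι] (φ : (↑W₁ : Scheme.{u}) ⟶ X₂)
    (hφ : W₁.ι ≫ p₁ = φ ≫ p₂)
    (hφc : IsClosed (Set.range (fun w => (Limits.pullback.lift W₁.ι φ hφ) w)))
    (k₁ : U ⟶ ↑W₁) (hk₁ : k₁ ≫ W₁.ι = j₁) (hk₁' : k₁ ≫ φ = j₂)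
    (W₂ : X₂.Opens) [IsSchemeTheoreticallyDominant W₂.ι] (ψ : (↑W₂ : Scheme.{u}) ⟶ X₁)
    (hψ : W₂.ι ≫ p₂ = ψ ≫ p₁)
    (hψc : IsClosed (Set.range (fun w => (Limits.pullback.lift W₂.ι ψ hψ) w)))
    (k₂ : U ⟶ ↑W₂) (hk₂ : k₂ ≫ W₂.ι = j₂) (hk₂' : k₂ ≫ ψ = j₁) :
    ∃ (Y : Scheme.{u}) (q : Y ⟶ S) (i₁ : X₁ ⟶ Y) (i₂ : X₂ ⟶ Y), IsSeparated q ∧ QuasiCompact q ∧
      LocallyOfFiniteType q ∧ IsOpenImmersion i₁ ∧ IsOpenImmersion i₂ ∧ i₁ ≫ q = p₁ ∧ i₂ ≫ q = p₂ ∧
      j₁ ≫ i₁ = j₂ ≫ i₂ ∧ QuasiCompact (j₁ ≫ i₁) ∧ IsSchemeTheoreticallyDominant (j₁ ≫ i₁) := by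
  haveI := LocImmX.isNoetherian_of_finiteType p₁
  haveI := LocImmX.isNoetherian_of_finiteType p₂
  haveI : QuasiCompact j₁ := inferInstance
  haveI : QuasiCompact j₂ := inferInstance
  let V₁ : (W₁ : Scheme.{u}).Opens := φ ⁻¹ᵁ W₂
  let V₂ : (W₂ : Scheme.{u}).Opens := ψ ⁻¹ᵁ W₁
  let a : V₁.toScheme ⟶ X₁ := V₁.ι ≫ W₁.ι
  let b : V₁.toScheme ⟶ X₂ := V₁.ι ≫ φ
  let a' : V₂.toScheme ⟶ X₂ := V₂.ι ≫ W₂.ι
  let b' : V₂.toScheme ⟶ X₁ := V₂.ι ≫ ψ
  let f₁ : V₁.toScheme ⟶ (W₂ : Scheme.{u}) := φ ∣_ W₂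
  let f₂ : V₂.toScheme ⟶ (W₁ : Scheme.{u}) := ψ ∣_ W₁
  have hf₁ : f₁ ≫ W₂.ι = b := morphismRestrict_ι φ W₂
  have hf₂ : f₂ ≫ W₁.ι = b' := morphismRestrict_ι ψ W₁
  have hr₁ : Set.range k₁ ⊆ Set.range V₁.ι := by
    rw [Scheme.Opens.range_ι]
    rintro _ ⟨u, rfl⟩
    show φ (k₁ u) ∈ W₂
    rw [← Scheme.Hom.comp_apply, hk₁', ← hk₂, Scheme.Hom.comp_apply]
    exact (k₂ u).2
  have hr₂ : Set.range k₂ ⊆ Set.range V₂.ι := by
    rw [Scheme.Opens.range_ι]
    rintro _ ⟨u, rfl⟩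
    show ψ (k₂ u) ∈ W₁
    rw [← Scheme.Hom.comp_apply, hk₂', ← hk₁, Scheme.Hom.comp_apply]
    exact (k₁ u).2
  let l₁ := IsOpenImmersion.lift V₁.ι k₁ hr₁
  let l₂ := IsOpenImmersion.lift V₂.ι k₂ hr₂
  have hl₁ : l₁ ≫ V₁.ι = k₁ := IsOpenImmersion.lift_fac _ _ _
  have hl₂ : l₂ ≫ V₂.ι = k₂ := IsOpenImmersion.lift_fac _ _ _
  have hl₁a : l₁ ≫ a = j₁ := by rw [← Category.assoc, hl₁, hk₁]
  have hl₁b : l₁ ≫ b = j₂ := by rw [← Category.assoc, hl₁, hk₁']
  have hl₂a : l₂ ≫ a' = j₂ := by rw [← Category.assoc, hl₂, hk₂]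
  have hl₂b : l₂ ≫ b' = j₁ := by rw [← Category.assoc, hl₂, hk₂']
  haveI := std_of_comp l₁ a j₁ hl₁a
  haveI := std_of_comp l₂ a' j₂ hl₂a
  have hm₁ : l₁ ≫ f₁ = k₂ := by rw [← cancel_mono W₂.ι, Category.assoc, hf₁, hl₁b, hk₂]
  have hm₂ : l₂ ≫ f₂ = k₁ := by rw [← cancel_mono W₁.ι, Category.assoc, hf₂, hl₂b, hk₁]
  have e₁ : f₁ ≫ ψ = a := by
    refine eq_of_dense l₁ p₁ ?_ (by rw [reassoc_of% hm₁, hk₂', hl₁a])
    rw [Category.assoc, ← hψ, ← Category.assoc, hf₁]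
    simp only [a, b, Category.assoc, hφ]
  have e₂ : f₂ ≫ φ = a' := by
    refine eq_of_dense l₂ p₂ ?_ (by rw [reassoc_of% hm₂, hk₁', hl₂a])
    rw [Category.assoc, ← hφ, ← Category.assoc, hf₂]
    simp only [a', b', Category.assoc, hψ]
  have hs₁ : Set.range f₁ ⊆ Set.range V₂.ι := by
    rw [Scheme.Opens.range_ι]
    rintro _ ⟨v, rfl⟩
    show ψ (f₁ v) ∈ W₁
    rw [← Scheme.Hom.comp_apply, e₁]
    exact (V₁.ι v).2
  have hs₂ : Set.range f₂ ⊆ Set.range V₁.ι := by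
    rw [Scheme.Opens.range_ι]
    rintro _ ⟨v, rfl⟩
    show φ (f₂ v) ∈ W₂
    rw [← Scheme.Hom.comp_apply, e₂]
    exact (V₂.ι v).2
  let g₁ := IsOpenImmersion.lift V₂.ι f₁ hs₁
  let g₂ := IsOpenImmersion.lift V₁.ι f₂ hs₂
  have hg₁ : g₁ ≫ V₂.ι = f₁ := IsOpenImmersion.lift_fac _ _ _
  have hg₂ : g₂ ≫ V₁.ι = f₂ := IsOpenImmersion.lift_fac _ _ _
  haveI : IsIso g₁ := by
    refine ⟨g₂, ?_, ?_⟩
    · rw [← cancel_mono V₁.ι, ← cancel_mono W₁.ι, Category.id_comp, Category.assoc, Category.assoc,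
        reassoc_of% hg₂, hf₂, ← Category.assoc, hg₁, e₁]
    · rw [← cancel_mono V₂.ι, ← cancel_mono W₂.ι, Category.id_comp, Category.assoc, Category.assoc,
        reassoc_of% hg₁, hf₁, ← Category.assoc, hg₂, e₂]
  haveI : IsOpenImmersion b := by
    rw [← hf₁, ← hg₁]
    infer_instance
  have w : a ≫ p₁ = b ≫ p₂ := by simp only [a, b, Category.assoc, hφ]
  have hψ' : ψ ≫ p₁ = W₂.ι ≫ p₂ := hψ.symm
  have hcl : IsClosed (Set.range (pullback.lift a b w)) := by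
    have h1 : IsClosed (Set.range (pullback.lift ψ W₂.ι hψ')) := by
      have e : pullback.lift ψ W₂.ι hψ' = pullback.lift W₂.ι ψ hψ ≫ (pullbackSymmetry p₂ p₁).hom := by
        apply pullback.hom_ext <;> simp
      rw [e, Scheme.Hom.comp_base, TopCat.coe_comp, Set.range_comp]
      exact (pullbackSymmetry p₂ p₁).hom.isClosedEmbedding.isClosedMap _ hψc
    have hl : pullback.lift a b w = V₁.ι ≫ pullback.lift W₁.ι φ hφ := by
      apply pullback.hom_ext <;> simp [a, b]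
    have h2 : Set.range (pullback.lift a b w) =
        Set.range (pullback.lift W₁.ι φ hφ) ∩ Set.range (pullback.lift ψ W₂.ι hψ') := by
      ext z
      constructor
      · rintro ⟨v, rfl⟩
        refine ⟨⟨V₁.ι v, by rw [hl]; rfl⟩, ⟨f₁ v, ?_⟩⟩
        have e : f₁ ≫ pullback.lift ψ W₂.ι hψ' = pullback.lift a b w := by
          apply pullback.hom_ext <;> simp [e₁, hf₁]
        rw [← Scheme.Hom.comp_apply, e]
      · rintro ⟨⟨x, rfl⟩, ⟨y, hy⟩⟩
        have h3 := congrArg (pullback.snd p₁ p₂) hy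
        rw [← Scheme.Hom.comp_apply, ← Scheme.Hom.comp_apply, pullback.lift_snd, pullback.lift_snd] at h3
        exact ⟨⟨x, show φ x ∈ W₂ from h3 ▸ y.2⟩, by rw [hl]; rfl⟩
    rw [h2]
    exact hφc.inter h1
  haveI hsep := LocImmX.isSeparated_desc p₁ p₂ w hcl
  let q := pushout.desc p₁ p₂ w
  have ei₁ : pushout.inl a b ≫ q = p₁ := pushout.inl_desc _ _ _
  have ei₂ : pushout.inr a b ≫ q = p₂ := pushout.inr_desc _ _ _
  let 𝒰 := LocImmX.cover2 (pushout.inl a b) (pushout.inr a b) (LocImmX.exists_inl_or_inr a b)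
  haveI : LocallyOfFiniteType q := by
    refine IsZariskiLocalAtSource.of_openCover 𝒰 fun i => ?_
    rcases i with ⟨_ | _⟩
    · show LocallyOfFiniteType (pushout.inr a b ≫ q); rw [ei₂]; infer_instance
    · show LocallyOfFiniteType (pushout.inl a b ≫ q); rw [ei₁]; infer_instance
  haveI : CompactSpace (pushout a b : Scheme.{u}) := by
    refine ⟨?_⟩
    rw [← (Set.eq_univ_of_forall (LocImmX.exists_inl_or_inr a b) :
      Set.range (pushout.inl a b) ∪ Set.range (pushout.inr a b) = Set.univ)]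
    exact (isCompact_range (pushout.inl a b).continuous).union (isCompact_range (pushout.inr a b).continuous)
  haveI : QuasiCompact q := inferInstance
  haveI : IsNoetherian (pushout a b : Scheme.{u}) := LocImmX.isNoetherian_of_finiteType q
  have heq : j₁ ≫ pushout.inl a b = j₂ ≫ pushout.inr a b := by
    rw [← hl₁a, ← hl₁b]
    exact (Category.assoc l₁ a _).trans
      ((congrArg (l₁ ≫ ·) pushout.condition).trans (Category.assoc l₁ b _).symm)
  haveI : QuasiCompact (j₁ ≫ pushout.inl a b) := inferInstance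
  haveI : QuasiCompact (j₂ ≫ pushout.inr a b) := inferInstance
  refine ⟨pushout a b, q, pushout.inl a b, pushout.inr a b, hsep, inferInstance, inferInstance,
    inferInstance, inferInstance, ei₁, ei₂, heq, inferInstance, ⟨?_⟩⟩
  let ι := {V : (pushout a b : Scheme.{u}).affineOpens //
    V.1 ≤ (pushout.inl a b).opensRange ∨ V.1 ≤ (pushout.inr a b).opensRange}
  refine Scheme.IdealSheafData.ext_of_iSup_eq_top (fun V : ι => V.1) (top_le_iff.mp fun y _ => ?_) fun V => ?_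
  · rcases LocImmX.exists_inl_or_inr a b y with h | h
    · obtain ⟨_, ⟨V, hV, rfl⟩, hyV, hVU⟩ := (pushout a b : Scheme.{u}).isBasis_affineOpens.exists_subset_of_mem_open
        (show y ∈ ((pushout.inl a b).opensRange : Set _) from h) (Opens.isOpen _)
      exact Opens.mem_iSup.mpr ⟨(⟨⟨V, hV⟩, Or.inl hVU⟩ : ι), hyV⟩
    · obtain ⟨_, ⟨V, hV, rfl⟩, hyV, hVU⟩ := (pushout a b : Scheme.{u}).isBasis_affineOpens.exists_subset_of_mem_open
        (show y ∈ ((pushout.inr a b).opensRange : Set _) from h) (Opens.isOpen _)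
      exact Opens.mem_iSup.mpr ⟨(⟨⟨V, hV⟩, Or.inr hVU⟩ : ι), hyV⟩
  · rw [Scheme.IdealSheafData.ideal_bot, Pi.bot_apply]
    rcases V.2 with h | h
    · exact ker_ideal_eq_bot j₁ _ V.1 h
    · rw [heq]
      exact ker_ideal_eq_bot j₂ _ V.1 h

end Groth.Agent.S17890
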