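import Groth.Statements.S17891
import Groth.Agent.S4428
import Groth.Agent.AmpleX.Comp
import Groth.Agent.InvX.GenLocusPull
import Groth.Agent.Lib.GenLocusGG
import Mathlib.AlgebraicGeometry.Morphisms.SchemeTheoreticallyDominant

set_option autoImplicit false
set_option backward.isDefEq.respectTransparency false
set_option backward.isDefEq.respectTransparency.types false
set_option linter.style.haveILetI false
universe u
open CategoryTheory CategoryTheory.Limits AlgebraicGeometry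
open FlatMor

namespace Groth.Agent.S17891

open AlgebraicGeometry CategoryTheory CategoryTheory.Limits in
theorem isSTDom_toImage {A B : Scheme.{u}} (f : A ⟶ B) [QuasiCompact f] : IsSchemeTheoreticallyDominant f.toImage := by
  refine ⟨Scheme.IdealSheafData.ext_of_iSup_eq_top
    (fun U : B.affineOpens => (⟨f.imageι ⁻¹ᵁ U.1, U.2.preimage f.imageι⟩ : f.image.affineOpens)) ?_ fun U => ?_⟩
  · rw [← Scheme.Hom.preimage_iSup, iSup_affineOpens_eq_top]
    rfl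
  · rw [Scheme.Hom.ker_apply]
    exact ((RingHom.injective_iff_ker_eq_bot _).1 (f.toImage_app_injective U)).trans (by simp)

open AlgebraicGeometry CategoryTheory CategoryTheory.Limits in
theorem isIso_pullback_map_iff {A B : Scheme.{u}} (u : A ⟶ B) {M : B.Modules} (hM : PicF.IsInvertible M)
    (s : Coh.structureModule B ⟶ M) :
    IsIso ((Scheme.Modules.pullback u).map s) ↔ ∀ a : A, u a ∈ CohB1.genLocus M s := by
  obtain ⟨e⟩ := Groth.Agent.PicClLib.nonempty_pullback_structureModule u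
  have hg := Groth.Agent.InvX.genLocus_pullback u hM s e.symm
  constructor
  · intro h a
    haveI : IsIso (e.symm.hom ≫ (Scheme.Modules.pullback u).map s) := inferInstance
    have h2 : (⊤ : A.Opens) ≤ CohB1.genLocus _ (e.symm.hom ≫ (Scheme.Modules.pullback u).map s) :=
      Groth.Agent.InvX.le_genLocus _ ((Groth.Agent.InvX.isIso_restrict_iff _ ⊤).1 inferInstance)
    exact (hg ▸ h2) (show a ∈ (⊤ : A.Opens) from trivial)
  · intro h
    let φ := e.symm.hom ≫ (Scheme.Modules.pullback u).map s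
    have htop : (⊤ : A.Opens) ≤ Groth.Agent.AmpleX.locus (Groth.Agent.InvX.one φ) := by
      rw [← Groth.Agent.AmpleX.genLocus_eq_locus, hg]
      exact fun a _ => h a
    have hf := Groth.Agent.AmpleX.isFrame_res_of_le _ htop
    haveI : IsIso φ := by
      rw [Scheme.Modules.Hom.isIso_iff_isIso_app]
      intro W
      refine (ConcreteCategory.isIso_iff_bijective _).2 ?_
      have hb := hf W le_top
      simp only [Groth.Agent.AModX.res_res] at hb
      rw [show (φ.app W : _ → _) = fun r : Γ(A, W) => r • Groth.Agent.AModX.res _ (le_top : W ≤ ⊤) (Groth.Agent.InvX.one φ)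
        from funext fun r => Groth.Agent.InvX.app_eq_smul φ r]
      exact hb
    exact IsIso.of_isIso_comp_left e.symm.hom _

/-- Here f : Y → X is an affine morphism with X and Y quasi-compact and quasi-separated; a
Y-modification of X is a factorization f = fᵢ ≫ gᵢ with fᵢ : Y → Xᵢ schematically dominant and gᵢ :
Xᵢ → X proper, and it is a Y-blow-up of X when Xᵢ carries a gᵢ-ample module L with a section ε : O →
L whose pullback along fᵢ is an isomorphism (a Y-trivialization). Given two Y-blow-ups (X₁, f₁, g₁),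
(X₂, f₂, g₂) of X there is a Y-blow-up (X₃, f₃, g₃) of X together with morphisms dᵢ : X₃ → Xᵢ
satisfying f₃ ≫ dᵢ = fᵢ and dᵢ ≫ gᵢ = g₃. -/
theorem result {X Y : Scheme.{u}} (f : Y ⟶ X)
    [CompactSpace X] [QuasiSeparatedSpace X] [CompactSpace Y] [QuasiSeparatedSpace Y] [IsAffineHom f]
    {X₁ X₂ : Scheme.{u}} (f₁ : Y ⟶ X₁) (g₁ : X₁ ⟶ X) (f₂ : Y ⟶ X₂) (g₂ : X₂ ⟶ X)
    (h₁ : IsSchemeTheoreticallyDominant f₁ ∧ IsProper g₁ ∧ f₁ ≫ g₁ = f ∧
        ∃ (L : X₁.Modules) (ε : Coh.structureModule X₁ ⟶ L),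
          RelAmple.IsRelAmple g₁ L ∧ IsIso ((Scheme.Modules.pullback f₁).map ε))
    (h₂ : IsSchemeTheoreticallyDominant f₂ ∧ IsProper g₂ ∧ f₂ ≫ g₂ = f ∧
        ∃ (L : X₂.Modules) (ε : Coh.structureModule X₂ ⟶ L),
          RelAmple.IsRelAmple g₂ L ∧ IsIso ((Scheme.Modules.pullback f₂).map ε)) :
    ∃ (X₃ : Scheme.{u}) (f₃ : Y ⟶ X₃) (g₃ : X₃ ⟶ X) (d₁ : X₃ ⟶ X₁) (d₂ : X₃ ⟶ X₂),
      (IsSchemeTheoreticallyDominant f₃ ∧ IsProper g₃ ∧ f₃ ≫ g₃ = f ∧
        ∃ (L : X₃.Modules) (ε : Coh.structureModule X₃ ⟶ L),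
          RelAmple.IsRelAmple g₃ L ∧ IsIso ((Scheme.Modules.pullback f₃).map ε)) ∧
      f₃ ≫ d₁ = f₁ ∧ d₁ ≫ g₁ = g₃ ∧ f₃ ≫ d₂ = f₂ ∧ d₂ ≫ g₂ = g₃ := by
  obtain ⟨hf₁, hg₁, hfg₁, L₁, ε₁, hL₁, hε₁⟩ := h₁
  obtain ⟨hf₂, hg₂, hfg₂, L₂, ε₂, hL₂, hε₂⟩ := h₂
  haveI := hg₁
  haveI := hg₂
  let fst := pullback.fst (g₁ ≫ 𝟙 X) (g₂ ≫ 𝟙 X)
  let snd := pullback.snd (g₁ ≫ 𝟙 X) (g₂ ≫ 𝟙 X)
  let γ : Y ⟶ pullback (g₁ ≫ 𝟙 X) (g₂ ≫ 𝟙 X) := pullback.lift f₁ f₂ (by simp [hfg₁, hfg₂])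
  haveI : IsProper (g₂ ≫ 𝟙 X) := by rw [Category.comp_id]; exact hg₂
  haveI : IsProper fst := MorphismProperty.pullback_fst _ _ inferInstance
  haveI : QuasiSeparatedSpace ↥(pullback (g₁ ≫ 𝟙 X) (g₂ ≫ 𝟙 X)) :=
    quasiSeparatedSpace_of_quasiSeparated (fst ≫ g₁)
  haveI : QuasiCompact γ := inferInstance
  let M := CohB1.tensorMod ((Scheme.Modules.pullback fst).obj L₁) ((Scheme.Modules.pullback snd).obj L₂)
  let q := pullback.map (g₁ ≫ 𝟙 X) (g₂ ≫ 𝟙 X) (𝟙 X) (𝟙 X) g₁ g₂ (𝟙 X) (Category.comp_id _) (Category.comp_id _)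
  let p := pullback.fst (𝟙 X) (𝟙 X)
  have hM : RelAmple.IsRelAmple q M := Groth.Agent.S4428.result (𝟙 X) (𝟙 X) g₁ g₂ L₁ L₂ hL₁ hL₂
  have hqp : q ≫ p = fst ≫ g₁ := pullback.lift_fst _ _ _
  have hMp : RelAmple.IsRelAmple (q ≫ p) M := by
    haveI := hM.1
    exact ⟨inferInstance, fun V => hM.2 ⟨p ⁻¹ᵁ V.1, V.2.preimage p⟩⟩
  haveI hdom := isSTDom_toImage γ
  let d₁ := γ.imageι ≫ fst
  let d₂ := γ.imageι ≫ snd
  have hd : d₂ ≫ g₂ = d₁ ≫ g₁ := by
    simp only [d₁, d₂, Category.assoc]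
    congr 1
    simpa [fst, snd] using (pullback.condition (f := g₁ ≫ 𝟙 X) (g := g₂ ≫ 𝟙 X)).symm
  have hamp : RelAmple.IsRelAmple (d₁ ≫ g₁) ((Scheme.Modules.pullback γ.imageι).obj M) := by
    have := Groth.Agent.AmpleX.isRelAmple_pullback_embedding (q ≫ p) γ.imageι γ.imageι.isEmbedding hMp
    rw [hqp, ← Category.assoc] at this
    exact this
  have hi₁ := Groth.Agent.AmpleX.isInvertible_of_isRelAmple hL₁
  have hi₂ := Groth.Agent.AmpleX.isInvertible_of_isRelAmple hL₂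
  have hiM := Groth.Agent.AmpleX.isInvertible_of_isRelAmple hM
  let t : Γ(M, ⊤) := Groth.Agent.InvX.tmul
    (Groth.Agent.InvX.pullElt fst (U := ⊤) (Groth.Agent.InvX.one ε₁))
    (Groth.Agent.InvX.pullElt snd (U := ⊤) (Groth.Agent.InvX.one ε₂))
  let t₃ : Γ((Scheme.Modules.pullback γ.imageι).obj M, ⊤) := Groth.Agent.InvX.pullElt γ.imageι (U := ⊤) t
  refine ⟨γ.image, γ.toImage, d₁ ≫ g₁, d₁, d₂, ⟨hdom, inferInstance, ?_, _, Groth.Agent.InvX.ofSect t₃, hamp, ?_⟩,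
    ?_, rfl, ?_, hd⟩
  · simp [d₁, fst, γ, hfg₁]
  · refine (isIso_pullback_map_iff _ (Groth.Agent.AmpleX.isInvertible_of_isRelAmple hamp) _).2 fun y => ?_
    rw [Groth.Agent.AmpleX.genLocus_eq_locus, Groth.Agent.InvX.one_ofSect]
    simp only [t₃]
    rw [Groth.Agent.AmpleX.locus_pullElt hiM]
    show γ.imageι (γ.toImage y) ∈ Groth.Agent.AmpleX.locus t
    rw [← Scheme.Hom.comp_apply, Scheme.Hom.toImage_imageι]
    simp only [t]
    rw [Groth.Agent.AmpleX.locus_tmul (Groth.Agent.PicClLib.isInvertible_pullback fst hi₁)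
      (Groth.Agent.PicClLib.isInvertible_pullback snd hi₂), Groth.Agent.AmpleX.locus_pullElt hi₁,
      Groth.Agent.AmpleX.locus_pullElt hi₂]
    refine ⟨?_, ?_⟩
    · change fst (γ y) ∈ Groth.Agent.AmpleX.locus (Groth.Agent.InvX.one ε₁)
      rw [← Scheme.Hom.comp_apply, pullback.lift_fst, ← Groth.Agent.AmpleX.genLocus_eq_locus]
      exact (isIso_pullback_map_iff f₁ hi₁ ε₁).1 hε₁ y
    · change snd (γ y) ∈ Groth.Agent.AmpleX.locus (Groth.Agent.InvX.one ε₂)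
      rw [← Scheme.Hom.comp_apply, pullback.lift_snd, ← Groth.Agent.AmpleX.genLocus_eq_locus]
      exact (isIso_pullback_map_iff f₂ hi₂ ε₂).1 hε₂ y
  · simp [d₁, fst, γ]
  · simp [d₂, snd, γ]

end Groth.Agent.S17891
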