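import Groth.Statements.S17892
import Groth.Agent.KFlatLib.Scheme.QCohTensor
import Groth.Agent.AmpleX.Comp
-- import your own Groth.Agent.* helpers here

set_option autoImplicit false
set_option backward.isDefEq.respectTransparency false
set_option backward.isDefEq.respectTransparency.types false
universe u
open CategoryTheory AlgebraicGeometry
open FlatMor

namespace Groth.Agent.S17892

open AlgebraicGeometry CategoryTheory Limits in
theorem exists_tensor_section {X Y : Scheme.{u}} (q : Y ⟶ X) {A B : X.Modules}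
    (a : Coh.structureModule X ⟶ A) (b : Coh.structureModule X ⟶ B)
    [IsIso ((Scheme.Modules.pullback q).map a)] [IsIso ((Scheme.Modules.pullback q).map b)] :
    ∃ c : Coh.structureModule X ⟶ CohB1.tensorMod A B, IsIso ((Scheme.Modules.pullback q).map c) := by
  let T := DCoh.tensorBi (X := X)
  let F := Scheme.Modules.pullback q
  let e := Groth.Agent.KFlatLib.pullTensorBiIso q
  refine ⟨(Groth.Agent.KFlatLib.tensorUnitIso (Coh.structureModule X)).inv ≫
    (T.map a).app (Coh.structureModule X) ≫ (T.obj A).map b, ?_⟩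
  haveI h1 : IsIso (F.map ((T.map a).app (Coh.structureModule X))) := by
    have h := congr_app (e.hom.naturality a) (Coh.structureModule X)
    have : F.map ((T.map a).app (Coh.structureModule X)) =
        (e.hom.app _).app _ ≫ (DCoh.tensorBi.map (F.map a)).app (F.obj (Coh.structureModule X)) ≫
          inv ((e.hom.app A).app (Coh.structureModule X)) := by
      rw [← Category.assoc, IsIso.eq_comp_inv]
      exact h
    rw [this]
    infer_instance
  haveI h2 : IsIso (F.map ((T.obj A).map b)) :=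
    (NatIso.isIso_map_iff (e.app A) b).2
      (inferInstanceAs (IsIso ((DCoh.tensorBi.obj (F.obj A)).map (F.map b))))
  rw [Functor.map_comp, Functor.map_comp]
  infer_instance

open AlgebraicGeometry CategoryTheory Limits in
theorem exists_pow_section {X Y : Scheme.{u}} (q : Y ⟶ X) {L : X.Modules}
    (a : Coh.structureModule X ⟶ L) [IsIso ((Scheme.Modules.pullback q).map a)] (n : ℕ) :
    ∃ c : Coh.structureModule X ⟶ CohB1.tensorPow L n, IsIso ((Scheme.Modules.pullback q).map c) := by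
  induction n with
  | zero => exact ⟨𝟙 _, by rw [CategoryTheory.Functor.map_id]; infer_instance⟩
  | succ n ih =>
    obtain ⟨c, hc⟩ := ih
    exact exists_tensor_section q c a

/-- Here f : Y → X is an affine morphism with X and Y quasi-compact and quasi-separated; a
Y-modification of X is a factorization f = fᵢ ≫ gᵢ with fᵢ : Y → Xᵢ schematically dominant and gᵢ :
Xᵢ → X proper, and it is a Y-blow-up of X when Xᵢ carries a gᵢ-ample module L with a section ε : O →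
L whose pullback along fᵢ is an isomorphism (a Y-trivialization). If (Xᵢ, fᵢ, gᵢ) is a Y-blow-up of
X and (Xⱼ, fⱼ, gᵢⱼ) is a Y-blow-up of Xᵢ (with respect to fᵢ : Y → Xᵢ), then (Xⱼ, fⱼ, gᵢⱼ ≫ gᵢ) is a
Y-blow-up of X. -/
theorem result {X Y : Scheme.{u}} (f : Y ⟶ X)
    [CompactSpace X] [QuasiSeparatedSpace X] [CompactSpace Y] [QuasiSeparatedSpace Y] [IsAffineHom f]
    {Xᵢ Xⱼ : Scheme.{u}} (fᵢ : Y ⟶ Xᵢ) (gᵢ : Xᵢ ⟶ X) (fⱼ : Y ⟶ Xⱼ) (gᵢⱼ : Xⱼ ⟶ Xᵢ)
    (hᵢ : IsSchemeTheoreticallyDominant fᵢ ∧ IsProper gᵢ ∧ fᵢ ≫ gᵢ = f ∧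
        ∃ (L : Xᵢ.Modules) (ε : Coh.structureModule Xᵢ ⟶ L),
          RelAmple.IsRelAmple gᵢ L ∧ IsIso ((Scheme.Modules.pullback fᵢ).map ε))
    (hⱼ : IsSchemeTheoreticallyDominant fⱼ ∧ IsProper gᵢⱼ ∧ fⱼ ≫ gᵢⱼ = fᵢ ∧
        ∃ (L : Xⱼ.Modules) (ε : Coh.structureModule Xⱼ ⟶ L),
          RelAmple.IsRelAmple gᵢⱼ L ∧ IsIso ((Scheme.Modules.pullback fⱼ).map ε)) :
    IsSchemeTheoreticallyDominant fⱼ ∧ IsProper (gᵢⱼ ≫ gᵢ) ∧ fⱼ ≫ (gᵢⱼ ≫ gᵢ) = f ∧
        ∃ (L : Xⱼ.Modules) (ε : Coh.structureModule Xⱼ ⟶ L),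
          RelAmple.IsRelAmple (gᵢⱼ ≫ gᵢ) L ∧ IsIso ((Scheme.Modules.pullback fⱼ).map ε) := by
  obtain ⟨-, hpi, hfi, Li, εi, hLi, hεi⟩ := hᵢ
  obtain ⟨hdj, hpj, hfj, Lj, εj, hLj, hεj⟩ := hⱼ
  refine ⟨hdj, inferInstance, by rw [← Category.assoc, hfj, hfi], ?_⟩
  obtain ⟨n₀, -, hn⟩ := Groth.Agent.AmpleX.eventually_isRelAmple_comp gᵢⱼ gᵢ hLj hLi
  obtain ⟨ψ, hψ⟩ := exists_pow_section fᵢ εi n₀
  let ω : Coh.structureModule Xⱼ ⟶ (Scheme.Modules.pullback gᵢⱼ).obj (CohB1.tensorPow Li n₀) :=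
    (Groth.Agent.PicClLib.nonempty_pullback_structureModule gᵢⱼ).some.inv ≫
      (Scheme.Modules.pullback gᵢⱼ).map ψ
  haveI hω : IsIso ((Scheme.Modules.pullback fⱼ).map ω) := by
    haveI : IsIso ((Scheme.Modules.pullback fⱼ).map ((Scheme.Modules.pullback gᵢⱼ).map ψ)) :=
      (NatIso.isIso_map_iff (Scheme.Modules.pullbackComp fⱼ gᵢⱼ ≪≫
        Scheme.Modules.pullbackCongr hfj) ψ).2 hψ
    rw [Functor.map_comp]
    infer_instance
  obtain ⟨c, hc⟩ := exists_tensor_section fⱼ εj ω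
  exact ⟨_, c, hn n₀ le_rfl, hc⟩

end Groth.Agent.S17892
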