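import Groth.Statements.S17897
import Groth.Agent.ValGlue.Basic

set_option autoImplicit false
universe u
open CategoryTheory AlgebraicGeometry
open ValCrit

namespace Groth.Agent.S17897

/-- Let f : Y → X be a morphism of schemes (not assumed separated), R a valuation ring with fraction
field K, and i : Spec K → Y, φ : Spec R → X with i ≫ f = (Spec K → Spec R) ≫ φ. Let y be the point
of Y hit by i and g : κ(y) → K the induced embedding, R' = g⁻¹(R) the induced valuation ring of κ(y)
and ρ : R' → R the restriction of g. Then φ factors uniquely through Spec R → Spec R': there is a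
unique φ' : Spec R' → X with (Spec ρ) ≫ φ' = φ whose restriction to the generic point Spec κ(y) is
the canonical morphism Spec κ(y) → Y followed by f. (Here y and g are given as data with Spec g
followed by Spec κ(y) → Y equal to i, and ρ as data by its defining equation.) -/
theorem result {X Y : Scheme.{u}} (f : Y ⟶ X)
    (K : Type u) [Field K] (R : ValuationSubring K)
    (i : Spec (CommRingCat.of K) ⟶ Y) (φ : Spec (CommRingCat.of ↥R) ⟶ X)
    (w : Spec.map (CommRingCat.ofHom R.subtype) ≫ φ = i ≫ f)
    (y : Y) (g : Y.residueField y ⟶ CommRingCat.of K) (hg : Spec.map g ≫ Y.fromSpecResidueField y = i)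
    (ρ : ↥(R.comap g.hom) →+* ↥R)
    (hρ : ∀ x : ↥(R.comap g.hom), ((ρ x : ↥R) : K) = g.hom (x : ↑(Y.residueField y))) :
    ∃! φ' : Spec (CommRingCat.of ↥(R.comap g.hom)) ⟶ X,
      Spec.map (CommRingCat.ofHom ρ) ≫ φ' = φ ∧
      Spec.map (CommRingCat.ofHom (R.comap g.hom).subtype) ≫ φ' = Y.fromSpecResidueField y ≫ f := by
    haveI hloc : IsLocalHom ρ := ValGlue.isLocalHom_comap R g.hom ρ hρ
    have hρinj : Function.Injective ρ := fun a b h => Subtype.ext (g.hom.injective (by rw [← hρ, ← hρ, h]))
    let x := φ (IsLocalRing.closedPoint R)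
    obtain ⟨a, ha, hφ⟩ := ValGlue.exists_stalk_map φ (x := x) rfl
    let ψ := Y.fromSpecResidueField y ≫ f
    have hψ : Spec.map g ≫ ψ = Spec.map (CommRingCat.ofHom R.subtype) ≫ φ := by
      rw [w, reassoc_of% hg]
    have hsp : ψ (IsLocalRing.closedPoint _) ⤳ x := by
      have h1 := congrArg (fun k : Spec (CommRingCat.of K) ⟶ X => k (IsLocalRing.closedPoint K)) hψ
      simp only [Scheme.Hom.comp_apply] at h1
      have h2 : Spec.map g (IsLocalRing.closedPoint K) = IsLocalRing.closedPoint (Y.residueField y) :=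
        Subsingleton.elim (α := PrimeSpectrum (Y.residueField y)) _ _
      rw [h2] at h1
      rw [h1]
      exact (IsLocalRing.specializes_closedPoint _).map φ.continuous
    obtain ⟨b, hb⟩ := ValGlue.exists_stalk_map_of_specializes (K := Y.residueField y) ψ hsp
    have hab : ∀ z, g.hom (b.hom z) = ((a.hom z : R) : K) := by
      rw [← hb, ← hφ, ← Spec.map_comp_assoc, ← Spec.map_comp_assoc, cancel_mono] at hψ
      exact fun z => congr($(Spec.map_injective hψ) z)
    let a₀ : X.presheaf.stalk x →+* ↥(R.comap g.hom) :=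
      b.hom.codRestrict (R.comap g.hom).toSubring (fun z => show g.hom (b.hom z) ∈ R by rw [hab]; exact (a.hom z).2)
    have hρa : ∀ z, ρ (a₀ z) = a.hom z := fun z => Subtype.ext ((hρ _).trans (hab z))
    have hρφ : Spec.map (CommRingCat.ofHom ρ) ≫ Spec.map (CommRingCat.ofHom a₀) ≫ X.fromSpecStalk x = φ := by
      rw [← Spec.map_comp_assoc, ← hφ]
      congr 2
      exact CommRingCat.hom_ext (RingHom.ext hρa)
    refine ⟨Spec.map (CommRingCat.ofHom a₀) ≫ X.fromSpecStalk x, ⟨hρφ, ?_⟩, fun φ' ⟨h1, _⟩ => ?_⟩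
    · rw [← Spec.map_comp_assoc]
      exact hb
    · refine ValGlue.hom_ext hρinj _ _ ?_ (h1.trans hρφ.symm)
      have hc : Spec.map (CommRingCat.ofHom ρ) (IsLocalRing.closedPoint R) = IsLocalRing.closedPoint _ :=
        IsLocalRing.comap_closedPoint ρ
      rw [← hc, ← Scheme.Hom.comp_apply, ← Scheme.Hom.comp_apply, h1, hρφ]

end Groth.Agent.S17897
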