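import Groth.Statements.S17898
import Groth.Agent.ValGlue.Basic

set_option autoImplicit false
universe u
open CategoryTheory AlgebraicGeometry
open ValCrit

namespace Groth.Agent.S17898

/-- Let f : Y → X be a morphism of schemes (not assumed separated), K a field with valuation rings R ⊆
R' (inclusion ι), i : Spec K → Y and φ : Spec R → X a commutative square over f, and g : Spec R' → Y
a lift of Spec R' → Spec R → X restricting to i on Spec K. Let K̃ be the residue field of R', R̃ ⊆
K̃ the image of R (a valuation ring of K̃) with the surjection σ : R → R̃. Then every h̃ : Spec R̃ →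
Y whose restriction to Spec K̃ is Spec K̃ → Spec R' → Y (via g) and which lies over Spec R̃ → Spec R
→ X is induced by a unique h : Spec R → Y compatible with the whole diagram: h restricts to i on
Spec K, lies over φ, restricts to g along Spec R' → Spec R and to h̃ along Spec R̃ → Spec R. (ι, R̃,
σ are given as data pinned by their defining equations.) -/
theorem result {X Y : Scheme.{u}} (f : Y ⟶ X)
    (K : Type u) [Field K] (R R' : ValuationSubring K) (hRR' : R ≤ R')
    (ι : ↥R →+* ↥R') (hι : ∀ x : ↥R, ((ι x : ↥R') : K) = (x : K))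
    (i : Spec (CommRingCat.of K) ⟶ Y) (φ : Spec (CommRingCat.of ↥R) ⟶ X)
    (w : Spec.map (CommRingCat.ofHom R.subtype) ≫ φ = i ≫ f)
    (g : Spec (CommRingCat.of ↥R') ⟶ Y) (hg₁ : Spec.map (CommRingCat.ofHom R'.subtype) ≫ g = i)
    (hg₂ : g ≫ f = Spec.map (CommRingCat.ofHom ι) ≫ φ)
    (Rt : ValuationSubring (IsLocalRing.ResidueField ↥R')) (σ : ↥R →+* ↥Rt) (hσs : Function.Surjective σ)
    (hσ : ∀ x : ↥R, ((σ x : ↥Rt) : IsLocalRing.ResidueField ↥R') = IsLocalRing.residue ↥R' (ι x))
    (ht : Spec (CommRingCat.of ↥Rt) ⟶ Y)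
    (hht₁ : Spec.map (CommRingCat.ofHom Rt.subtype) ≫ ht =
      Spec.map (CommRingCat.ofHom (IsLocalRing.residue ↥R')) ≫ g)
    (hht₂ : ht ≫ f = Spec.map (CommRingCat.ofHom σ) ≫ φ) :
    ∃! h : Spec (CommRingCat.of ↥R) ⟶ Y, Spec.map (CommRingCat.ofHom R.subtype) ≫ h = i ∧ h ≫ f = φ ∧
      Spec.map (CommRingCat.ofHom ι) ≫ h = g ∧ Spec.map (CommRingCat.ofHom σ) ≫ h = ht := by
    have hιinj : Function.Injective ι := fun a b h => Subtype.ext (by rw [← hι, ← hι, h])
    haveI hσl : IsLocalHom σ := IsLocalHom.of_surjective σ hσs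
    let y := ht (IsLocalRing.closedPoint Rt)
    obtain ⟨at', hat, hta⟩ := ValGlue.exists_stalk_map ht (x := y) rfl
    let y₁ := g (IsLocalRing.closedPoint R')
    obtain ⟨ag, hag, hga⟩ := ValGlue.exists_stalk_map g (x := y₁) rfl
    have hsp : y₁ ⤳ y := by
      have h1 := congrArg (fun k : Spec (CommRingCat.of (IsLocalRing.ResidueField R')) ⟶ Y =>
        k (IsLocalRing.closedPoint _)) hht₁
      simp only [Scheme.Hom.comp_apply] at h1
      have h2 : Spec.map (CommRingCat.ofHom (IsLocalRing.residue ↥R'))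
          (IsLocalRing.closedPoint (IsLocalRing.ResidueField R')) = IsLocalRing.closedPoint R' :=
        IsLocalRing.comap_closedPoint (IsLocalRing.residue ↥R')
      rw [h2] at h1
      show g (IsLocalRing.closedPoint R') ⤳ y
      rw [← h1]
      exact (IsLocalRing.specializes_closedPoint _).map ht.continuous
    let b := Y.presheaf.stalkSpecializes hsp ≫ ag
    have hb : Spec.map b ≫ Y.fromSpecStalk y = g := by
      rw [Spec.map_comp, Category.assoc, Scheme.SpecMap_stalkSpecializes_fromSpecStalk, hga]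
    have hres : ∀ z, IsLocalRing.residue R' (b.hom z) = ((at'.hom z : Rt) : IsLocalRing.ResidueField R') := by
      rw [← hta, ← hb, ← Spec.map_comp_assoc, ← Spec.map_comp_assoc, cancel_mono] at hht₁
      exact fun z => (congr($(Spec.map_injective hht₁) z)).symm
    have hmem : ∀ z, ((b.hom z : R') : K) ∈ R := fun z => by
      obtain ⟨r, hr⟩ := hσs (at'.hom z)
      have h0 : IsLocalRing.residue R' (b.hom z - ι r) = 0 := by
        rw [map_sub, hres, ← hr, hσ, sub_self]
      have h1 := ValGlue.mem_of_residue_eq_zero hRR' _ h0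
      have h2 : ((b.hom z : R') : K) = ((b.hom z - ι r : R') : K) + (r : K) := by
        rw [← hι r]
        push_cast
        ring
      rw [h2]
      exact R.add_mem _ _ h1 r.2
    let a : Y.presheaf.stalk y →+* R :=
      ((R'.subtype).comp b.hom).codRestrict R.toSubring hmem
    have hιa : ∀ z, ι (a z) = b.hom z := fun z => Subtype.ext (hι _)
    have hσa : ∀ z, σ (a z) = at'.hom z := fun z => Subtype.ext (by rw [hσ, hιa, hres])
    haveI ha : IsLocalHom a := ⟨fun z hz => hat.map_nonunit z (by rw [← hσa]; exact hz.map σ)⟩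
    haveI : IsLocalHom (CommRingCat.ofHom a).hom := ha
    let h := Spec.map (CommRingCat.ofHom a) ≫ Y.fromSpecStalk y
    have h_ι : Spec.map (CommRingCat.ofHom ι) ≫ h = g := by
      rw [← hb, ← Spec.map_comp_assoc]
      congr 2
      exact CommRingCat.hom_ext (RingHom.ext hιa)
    have h_σ : Spec.map (CommRingCat.ofHom σ) ≫ h = ht := by
      rw [← hta, ← Spec.map_comp_assoc]
      congr 2
      exact CommRingCat.hom_ext (RingHom.ext hσa)
    have hc : Spec.map (CommRingCat.ofHom σ) (IsLocalRing.closedPoint Rt) = IsLocalRing.closedPoint R :=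
      IsLocalRing.comap_closedPoint σ
    refine ⟨h, ⟨?_, ?_, h_ι, h_σ⟩, fun h' ⟨_, _, h3, h4⟩ => ?_⟩
    · rw [← hg₁, ← h_ι, ← Spec.map_comp_assoc, ← Spec.map_comp_assoc]
      rw [show CommRingCat.ofHom a ≫ CommRingCat.ofHom R.subtype =
          CommRingCat.ofHom a ≫ CommRingCat.ofHom ι ≫ CommRingCat.ofHom R'.subtype from
        CommRingCat.hom_ext (RingHom.ext fun z => (hι _).symm)]
      simp only [h, ← Spec.map_comp_assoc, Category.assoc]
    · refine ValGlue.hom_ext hιinj _ _ ?_ ?_
      · rw [← hc, ← Scheme.Hom.comp_apply, ← Scheme.Hom.comp_apply, reassoc_of% h_σ, hht₂]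
      · rw [reassoc_of% h_ι, hg₂]
    · refine ValGlue.hom_ext hιinj _ _ ?_ (h3.trans h_ι.symm)
      rw [← hc, ← Scheme.Hom.comp_apply, ← Scheme.Hom.comp_apply, h4, h_σ]

end Groth.Agent.S17898
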