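import Mathlib
import Groth.Agent.FlatMisc.ValuationFP
import Groth.Statements.S17899
-- import your own Groth.Agent.* helpers here

set_option autoImplicit false
universe u
open TensorProduct
open CAlg

namespace Groth.Agent.S17899

section helpers

open TensorProduct

variable {A : Type u} [CommRing A] {O : Subring A}

lemma exists_den (h2 : ∀ a : A, ∃ s : O, IsUnit (s : A) ∧ (s : A) * a ∈ O) {ι : Type*} [Fintype ι]
    (b : ι → A) : ∃ s : O, IsUnit (s : A) ∧ ∀ i, (s : A) * b i ∈ O := by
  classical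
  choose s hs hsb using fun i => h2 (b i)
  refine ⟨∏ i, s i, ?_, fun i => ?_⟩
  · rw [SubmonoidClass.coe_finsetProd]
    exact (IsUnit.prod_iff).mpr fun i _ => hs i
  · rw [← Finset.prod_erase_mul _ _ (Finset.mem_univ i), Subring.coe_mul, mul_assoc]
    exact mul_mem (SetLike.coe_mem _) (hsb i)

variable {C : Type u} [CommRing C] [Algebra ↥O C]

set_option quotPrecheck false in
local notation "inc" => (Algebra.TensorProduct.includeRight : C →ₐ[↥O] A ⊗[↥O] C)

lemma inc_smul (o : O) (c : C) : inc (o • c) = (o : A) • inc c := by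
  rw [map_smul]
  exact (algebraMap_smul A o (inc c)).symm

lemma exists_den_tensor (h2 : ∀ a : A, ∃ s : O, IsUnit (s : A) ∧ (s : A) * a ∈ O) (z : A ⊗[↥O] C) :
    ∃ s : O, IsUnit (s : A) ∧ ∃ c : C, (s : A) • z = inc c := by
  induction z using TensorProduct.induction_on with
  | zero => exact ⟨1, by simp, 0, by simp⟩
  | tmul a c =>
      obtain ⟨s, hs, hsa⟩ := h2 a
      refine ⟨s, hs, (⟨_, hsa⟩ : O) • c, ?_⟩
      rw [inc_smul, Algebra.TensorProduct.includeRight_apply, TensorProduct.smul_tmul',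
        TensorProduct.smul_tmul']
      simp
  | add x y hx hy =>
      obtain ⟨s, hs, c, hc⟩ := hx
      obtain ⟨t, ht, d, hd⟩ := hy
      refine ⟨s * t, by rw [Subring.coe_mul]; exact hs.mul ht, t • c + s • d, ?_⟩
      rw [map_add, inc_smul, inc_smul, ← hc, ← hd, Subring.coe_mul, smul_add, smul_smul, smul_smul,
        mul_comm (t : A) (s : A)]

lemma exists_den_tensor' (h2 : ∀ a : A, ∃ s : O, IsUnit (s : A) ∧ (s : A) * a ∈ O) {ι : Type*}
    [Fintype ι] (w : ι → A ⊗[↥O] C) :
    ∃ s : O, IsUnit (s : A) ∧ ∀ i, ∃ c : C, (s : A) • w i = inc c := by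
  classical
  choose s hs c hc using fun i => exists_den_tensor h2 (w i)
  refine ⟨∏ i, s i, ?_, fun i => ⟨(∏ j ∈ Finset.univ.erase i, s j) • c i, ?_⟩⟩
  · rw [SubmonoidClass.coe_finsetProd]
    exact (IsUnit.prod_iff).mpr fun i _ => hs i
  · rw [inc_smul, ← hc i, smul_smul, ← Subring.coe_mul, Finset.prod_erase_mul _ _ (Finset.mem_univ i)]

variable (C) in
def relSpan {n : ℕ} (a : Fin n → O) : Submodule O (Fin n → C) :=
  Submodule.span O {x | ∃ (v : Fin n → O) (y : C), ∑ i, a i * v i = 0 ∧ x = fun i => v i • y}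

lemma trivial_of_mem_relSpan {n : ℕ} {a : Fin n → O} {x : Fin n → C} (hx : x ∈ relSpan C a) :
    Module.IsTrivialRelation a x := by
  obtain ⟨k, f, g, h⟩ := Submodule.mem_span_set'.mp hx
  choose v y hv hg using fun j => (g j).2
  refine ⟨k, fun i j => v j i, fun j => f j • y j, fun i => ?_, fun j => hv j⟩
  rw [← h]
  simp only [Finset.sum_apply, Pi.smul_apply, hg]
  exact Finset.sum_congr rfl fun j _ => smul_comm _ _ _

lemma smul_mem_relSpan (h2 : ∀ a : A, ∃ s : O, IsUnit (s : A) ∧ (s : A) * a ∈ O)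
    (hinj : Function.Injective inc) [Module.Flat A (A ⊗[↥O] C)]
    {n : ℕ} {a : Fin n → O} {c : Fin n → C} (hc : ∑ i, a i • c i = 0) :
    ∃ u : O, IsUnit (u : A) ∧ u • c ∈ relSpan C a := by
  have h0 : ∑ i, (a i : A) • inc (c i) = 0 := by
    simp_rw [← inc_smul, ← map_sum, hc, map_zero]
  obtain ⟨k, b, w, hw, hb⟩ := Module.Flat.isTrivialRelation_of_sum_smul_eq_zero h0
  obtain ⟨s, hs, hsb⟩ := exists_den h2 (fun p : Fin n × Fin k => b p.1 p.2)
  obtain ⟨t, ht, htw⟩ := exists_den_tensor' h2 w
  choose w' hw' using htw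
  refine ⟨t * s, by rw [Subring.coe_mul]; exact ht.mul hs, ?_⟩
  have : (t * s) • c = ∑ j, fun i => (⟨_, hsb (i, j)⟩ : O) • w' j := by
    funext i
    refine hinj ?_
    rw [show ((t * s) • c) i = (t * s) • c i from rfl, inc_smul, show inc (c i) = _ from hw i, Finset.sum_apply, map_sum,
      Finset.smul_sum]
    refine Finset.sum_congr rfl fun j _ => ?_
    rw [inc_smul, ← hw', Subring.coe_mul, smul_smul, smul_smul]
    congr 1
    ring
  rw [this]
  refine Submodule.sum_mem _ fun j _ => Submodule.subset_span ⟨_, _, ?_, rfl⟩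
  refine Subtype.coe_injective ?_
  simp only [AddSubmonoidClass.coe_finsetSum, Subring.coe_mul, ZeroMemClass.coe_zero]
  rw [← mul_zero (s : A), ← hb j, Finset.mul_sum]
  exact Finset.sum_congr rfl fun i _ => by ring

variable [IsLocalRing A]

open IsLocalRing (maximalIdeal)

abbrev mO (O : Subring A) : Ideal O := (maximalIdeal A).comap O.subtype

lemma exists_rep {z : C} (hz : z ∈ (mO O) • (⊤ : Submodule O C)) :
    ∃ (l : ℕ) (m : Fin l → A) (y : Fin l → A ⊗[↥O] C),
      (∀ i, m i ∈ maximalIdeal A) ∧ inc z = ∑ i, m i • y i := by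
  induction hz using Submodule.smul_induction_on' with
  | smul r hr x _ => exact ⟨1, fun _ => r, fun _ => inc x, fun _ => hr, by rw [inc_smul, Fin.sum_univ_one]⟩
  | add x _ y _ hx hy =>
      obtain ⟨l, m, a, hm, ha⟩ := hx
      obtain ⟨l', m', a', hm', ha'⟩ := hy
      refine ⟨l + l', Fin.append m m', Fin.append a a',
        fun i => Fin.addCases (fun j => by simpa using hm j) (fun j => by simpa using hm' j) i, ?_⟩
      rw [map_add, ha, ha', Fin.sum_univ_add]
      simp

lemma mem_smul_of_smul_mem (h1 : ∀ a ∈ maximalIdeal A, a ∈ O)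
    (hinj : Function.Injective inc) {u : O} (hu : IsUnit (u : A)) {z : C}
    (hz : u • z ∈ (mO O) • (⊤ : Submodule O C)) : z ∈ (mO O) • (⊤ : Submodule O C) := by
  have key : ∀ x ∈ (mO O) • (⊤ : Submodule O C),
      ∃ y ∈ (mO O) • (⊤ : Submodule O C), x = u • y := by
    intro x hx
    induction hx using Submodule.smul_induction_on' with
    | smul r hr x _ =>
        have hr' : (r : A) * ↑hu.unit⁻¹ ∈ maximalIdeal A := Ideal.mul_mem_right _ _ hr
        refine ⟨(⟨_, h1 _ hr'⟩ : O) • x, Submodule.smul_mem_smul hr' Submodule.mem_top, ?_⟩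
        rw [smul_smul]
        congr 1
        refine Subtype.coe_injective ?_
        change (r : A) = (u : A) * ((r : A) * ↑hu.unit⁻¹)
        rw [mul_comm (r : A), ← mul_assoc, IsUnit.mul_val_inv, one_mul]
    | add x _ y _ hx hy =>
        obtain ⟨a, ha, rfl⟩ := hx
        obtain ⟨b, hb, rfl⟩ := hy
        exact ⟨a + b, add_mem ha hb, (smul_add _ _ _).symm⟩
  obtain ⟨y, hy, hyz⟩ := key _ hz
  have : z = y := by
    refine hinj ?_
    have := congrArg inc hyz
    rwa [inc_smul, inc_smul, hu.smul_left_cancel] at this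
  exact this ▸ hy

lemma mem_relSpan_of_mem_smul (h1 : ∀ a ∈ maximalIdeal A, a ∈ O)
    (h2 : ∀ a : A, ∃ s : O, IsUnit (s : A) ∧ (s : A) * a ∈ O)
    (hinj : Function.Injective inc) [Module.Flat A (A ⊗[↥O] C)]
    {n : ℕ} {a : Fin n → O} {z : Fin n → C} (hz : ∀ i, z i ∈ (mO O) • (⊤ : Submodule O C))
    (h : ∑ i, a i • z i = 0) : z ∈ relSpan C a := by
  classical
  choose l m y hm hy using fun i => exists_rep (hz i)
  have h0 : ∑ p : Σ i, Fin (l i), ((a p.1 : A) * m p.1 p.2) • y p.1 p.2 = 0 := by
    rw [Fintype.sum_sigma]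
    have := congrArg inc h
    rw [map_sum, map_zero] at this
    rw [← this]
    refine Finset.sum_congr rfl fun i _ => ?_
    rw [inc_smul, hy, Finset.smul_sum]
    exact Finset.sum_congr rfl fun j _ => (smul_smul _ _ _).symm
  obtain ⟨k, b, w, hw, hb⟩ := Module.Flat.isTrivialRelation_of_sum_smul_eq_zero h0
  obtain ⟨s, hs, hsw⟩ := exists_den_tensor' h2 w
  choose w' hw' using hsw
  let v : Fin n → Fin k → A := fun i j => (∑ q, m i q * b ⟨i, q⟩ j) * ↑hs.unit⁻¹
  have hv : ∀ i j, v i j ∈ maximalIdeal A := fun i j =>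
    Ideal.mul_mem_right _ _ (Ideal.sum_mem _ fun q _ => Ideal.mul_mem_right _ _ (hm i q))
  have : z = ∑ j, fun i => (⟨_, h1 _ (hv i j)⟩ : O) • w' j := by
    funext i
    refine hinj ?_
    simp only [Finset.sum_apply, map_sum, inc_smul, ← hw', smul_smul, v]
    simp only [mul_assoc, IsUnit.val_inv_mul, mul_one, Finset.sum_smul]
    rw [hy, Finset.sum_comm]
    refine Finset.sum_congr rfl fun q _ => ?_
    rw [show y i q = _ from hw ⟨i, q⟩, Finset.smul_sum]
    exact Finset.sum_congr rfl fun j _ => smul_smul _ _ _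
  rw [this]
  refine Submodule.sum_mem _ fun j _ => Submodule.subset_span ⟨_, _, ?_, rfl⟩
  refine Subtype.coe_injective ?_
  simp only [AddSubmonoidClass.coe_finsetSum, Subring.coe_mul, ZeroMemClass.coe_zero, v]
  rw [← zero_mul (↑hs.unit⁻¹ : A), ← hb j, Fintype.sum_sigma, Finset.sum_mul]
  refine Finset.sum_congr rfl fun i _ => ?_
  simp only [Finset.mul_sum, Finset.sum_mul]
  exact Finset.sum_congr rfl fun q _ => by ring

lemma flat_of_semival {R : Type u} [CommRing R] [IsDomain R] [ValuationRing R] (π : O →+* R)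
    (hπ : Function.Surjective π) (hker : ∀ o : O, π o = 0 ↔ (o : A) ∈ maximalIdeal A)
    (h1 : ∀ a ∈ maximalIdeal A, a ∈ O) (h2 : ∀ a : A, ∃ s : O, IsUnit (s : A) ∧ (s : A) * a ∈ O)
    (hinj : Function.Injective inc) [Module.Flat A (A ⊗[↥O] C)] :
    Module.Flat ↥O C := by
  classical
  rw [Module.Flat.iff_forall_isTrivialRelation]
  intro n a c hc
  refine trivial_of_mem_relSpan ?_
  let Kbar : Submodule R (Fin n → R) :=
    { carrier := {x | ∃ v : Fin n → O, ∑ i, a i * v i = 0 ∧ (fun i => π (v i)) = x}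
      zero_mem' := ⟨0, by simp, by funext i; simp⟩
      add_mem' := by
        rintro _ _ ⟨v, hv, rfl⟩ ⟨w, hw, rfl⟩
        exact ⟨v + w, by simp [mul_add, Finset.sum_add_distrib, hv, hw], by funext i; simp⟩
      smul_mem' := by
        rintro r _ ⟨v, hv, rfl⟩
        obtain ⟨o, rfl⟩ := hπ r
        exact ⟨o • v, by simp [mul_left_comm _ o, ← Finset.mul_sum, hv], by funext i; simp⟩ }
  have htor : ∀ (r : R) (x : Fin n → R), r ≠ 0 → r • x ∈ Kbar → x ∈ Kbar := by
    rintro r x hr ⟨v, hv, hvx⟩
    obtain ⟨u, rfl⟩ := hπ r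
    have hu : IsUnit (u : A) := IsLocalRing.notMem_maximalIdeal.mp fun h => hr ((hker u).mpr h)
    choose x' hx' using fun i => hπ (x i)
    have hd : ∀ i, ((u * x' i - v i : O) : A) * ↑hu.unit⁻¹ ∈ maximalIdeal A := fun i =>
      Ideal.mul_mem_right _ _ ((hker _).mp (by
        rw [map_sub, map_mul, hx', sub_eq_zero]
        exact (congrFun hvx i).symm))
    let d : Fin n → O := fun i => ⟨_, h1 _ (hd i)⟩
    have hud : ∀ i, u * (x' i - d i) = v i := fun i => Subtype.coe_injective (by
      simp only [d, Subring.coe_mul, AddSubgroupClass.coe_sub, mul_sub]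
      rw [mul_left_comm, IsUnit.mul_val_inv, mul_one]
      ring)
    refine ⟨fun i => x' i - d i, ?_, funext fun i => ?_⟩
    · have : (u : A) * ((∑ i, a i * (x' i - d i) : O) : A) = ((0 : O) : A) := by
        rw [← Subring.coe_mul, ← hv, Finset.mul_sum]
        simp only [← hud, mul_left_comm]
      exact Subtype.coe_injective (by simpa [hu.mul_right_eq_zero] using this)
    · rw [map_sub, hx', (hker (d i)).mpr (hd i), sub_zero]
  haveI : Module.Flat R ((Fin n → R) ⧸ Kbar) := by
    rw [Module.Flat.flat_iff_torsion_eq_bot_of_isBezout, eq_bot_iff]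
    rintro x ⟨⟨r, hr⟩, hrx⟩
    obtain ⟨x, rfl⟩ := Submodule.mkQ_surjective Kbar x
    rw [Submonoid.smul_def, ← map_smul, Submodule.mkQ_apply, Submodule.Quotient.mk_eq_zero] at hrx
    exact (Submodule.Quotient.mk_eq_zero _).mpr (htor r x (nonZeroDivisors.ne_zero hr) hrx)
  haveI : Module.Free R ((Fin n → R) ⧸ Kbar) := Module.free_of_flat_of_isLocalRing
  obtain ⟨σ, hσ⟩ := Module.projective_lifting_property Kbar.mkQ LinearMap.id Kbar.mkQ_surjective
  let e : (Fin n → R) →ₗ[R] (Fin n → R) := LinearMap.id - σ ∘ₗ Kbar.mkQ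
  have he : ∀ x, e x ∈ Kbar := fun x => by
    rw [← Submodule.Quotient.mk_eq_zero, ← Submodule.mkQ_apply]
    have := LinearMap.congr_fun hσ (Kbar.mkQ x)
    simp only [LinearMap.comp_apply, LinearMap.id_apply] at this
    simp [e] at this ⊢
    rw [this, sub_self]
  have he' : ∀ x ∈ Kbar, e x = x := fun x hx => by
    simp [e, (Submodule.Quotient.mk_eq_zero _).mpr hx]
  choose kv hkv hkve using fun j => he (Pi.single j 1)
  have hfix : ∀ v : Fin n → O, ∑ i, a i * v i = 0 → ∀ i,
      ((v i - ∑ j, v j * kv j i : O) : A) ∈ maximalIdeal A := by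
    intro v hv i
    rw [← hker, map_sub, map_sum, sub_eq_zero]
    have hsum : (fun i => π (v i)) = ∑ j, π (v j) • (Pi.single j (1 : R) : Fin n → R) := by
      funext i
      simp [Pi.single_apply]
    have := congrFun (he' _ ⟨v, hv, rfl⟩) i
    rw [hsum, map_sum] at this
    simp only [map_smul, Finset.sum_apply, Pi.smul_apply, smul_eq_mul, ← hkve] at this
    rw [← this]
    simp [hkve]
  let E : (Fin n → C) →ₗ[O] (Fin n → C) :=
    LinearMap.pi fun i => ∑ j, kv j i • LinearMap.proj j
  have hE : ∀ x, E x ∈ relSpan C a := fun x => by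
    have : E x = ∑ j, fun i => kv j i • x j := by
      funext i
      simp [E]
    rw [this]
    exact Submodule.sum_mem _ fun j _ => Submodule.subset_span ⟨kv j, x j, hkv j, rfl⟩
  have hDT : ∀ x ∈ relSpan C a, ∀ i, (x - E x) i ∈ (mO O) • (⊤ : Submodule O C) := by
    intro x hx
    induction hx using Submodule.span_induction with
    | mem x hx =>
        obtain ⟨v, y, hv, rfl⟩ := hx
        intro i
        have : ((fun i => v i • y) - E (fun i => v i • y)) i = (v i - ∑ j, v j * kv j i) • y := by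
          simp [E, sub_smul, Finset.sum_smul, smul_smul, mul_comm]
        rw [this]
        exact Submodule.smul_mem_smul (hfix v hv i) Submodule.mem_top
    | zero => intro i; simp
    | add x y _ _ hx hy =>
        intro i
        rw [map_add, add_sub_add_comm]
        exact add_mem (hx i) (hy i)
    | smul r x _ hx =>
        intro i
        rw [map_smul, ← smul_sub]
        exact Submodule.smul_mem _ r (hx i)
  obtain ⟨u, hu, huc⟩ := smul_mem_relSpan h2 hinj hc
  have hD : ∀ i, (c - E c) i ∈ (mO O) • (⊤ : Submodule O C) := fun i =>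
    mem_smul_of_smul_mem h1 hinj hu (by
      have := hDT _ huc i
      rwa [map_smul, ← smul_sub] at this)
  have hEc : ∑ i, a i • E c i = 0 := Module.sum_smul_eq_zero_of_isTrivialRelation
    (trivial_of_mem_relSpan (hE c))
  have := mem_relSpan_of_mem_smul h1 h2 hinj hD (a := a) (by
    simp [smul_sub, Finset.sum_sub_distrib, hc, hEc])
  have := add_mem this (hE c)
  rwa [sub_add_cancel] at this

lemma exists_fg_le_map {P Q : Type u} [CommRing P] [CommRing Q] (f : P →+* Q) (I : Ideal P) {J : Ideal Q}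
    (hJ : J.FG) (h : J ≤ I.map f) : ∃ I0 : Ideal P, I0.FG ∧ I0 ≤ I ∧ J ≤ I0.map f := by
  classical
  obtain ⟨S, rfl⟩ := hJ
  have key : ∀ x ∈ I.map f, ∃ I0 : Ideal P, I0.FG ∧ I0 ≤ I ∧ x ∈ I0.map f := by
    intro x hx
    induction hx using Submodule.span_induction with
    | mem x hx =>
        obtain ⟨y, hy, rfl⟩ := hx
        exact ⟨Ideal.span {y}, ⟨{y}, by simp⟩, (Ideal.span_singleton_le_iff_mem _).mpr hy,
          Ideal.mem_map_of_mem _ (Ideal.mem_span_singleton_self y)⟩
    | zero => exact ⟨⊥, Submodule.fg_bot, bot_le, zero_mem _⟩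
    | add x y _ _ hx hy =>
        obtain ⟨a, ha, ha', hax⟩ := hx
        obtain ⟨b, hb, hb', hby⟩ := hy
        exact ⟨a ⊔ b, Submodule.FG.sup ha hb, sup_le ha' hb',
          add_mem (Ideal.map_mono le_sup_left hax) (Ideal.map_mono le_sup_right hby)⟩
    | smul r x _ hx =>
        obtain ⟨a, ha, ha', hax⟩ := hx
        exact ⟨a, ha, ha', Ideal.mul_mem_left _ r hax⟩
  choose g hg hg' hgx using fun x : S => key x.1 (h (Ideal.subset_span x.2))
  refine ⟨Finset.univ.sup g, Submodule.fg_finset_sup _ _ fun i _ => hg i, Finset.sup_le fun i _ => hg' i,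
    Ideal.span_le.mpr fun x hx => Ideal.map_mono (Finset.le_sup (Finset.mem_univ _)) (hgx ⟨x, hx⟩)⟩

lemma finitePresentation_of_semival {R : Type u} [CommRing R] [IsDomain R] [ValuationRing R] (π : O →+* R)
    (hπ : Function.Surjective π) (hker : ∀ o : O, π o = 0 ↔ (o : A) ∈ maximalIdeal A)
    (h1 : ∀ a ∈ maximalIdeal A, a ∈ O) (h2 : ∀ a : A, ∃ s : O, IsUnit (s : A) ∧ (s : A) * a ∈ O)
    (hinj : Function.Injective inc) [Module.Flat A (A ⊗[↥O] C)]
    [Algebra.FiniteType ↥O C] [Module.Flat ↥O C] [Algebra.FinitePresentation A (A ⊗[↥O] C)] :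
    Algebra.FinitePresentation ↥O C := by
  classical
  obtain ⟨N, φ, hφ⟩ := Algebra.FiniteType.iff_quotient_mvPolynomial''.mp
    (inferInstance : Algebra.FiniteType ↥O C)
  refine Algebra.FinitePresentation.of_surjective (f := φ) hφ ?_
  let gen : Fin N → C := fun i => φ (MvPolynomial.X i)
  -- over R
  letI : Algebra ↥O R := π.toAlgebra
  haveI : Algebra.FinitePresentation R (R ⊗[↥O] C) :=
    Groth.Agent.FlatMisc.ValuationFP.algebra_finitePresentation
  let φR : MvPolynomial (Fin N) R →ₐ[R] R ⊗[↥O] C := MvPolynomial.aeval fun i => 1 ⊗ₜ gen i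
  let φA : MvPolynomial (Fin N) A →ₐ[A] A ⊗[↥O] C := MvPolynomial.aeval fun i => 1 ⊗ₜ gen i
  have hcompR : ∀ p : MvPolynomial (Fin N) O, φR (p.map π) = (1 : R) ⊗ₜ φ p := by
    intro p
    change (φR.toRingHom.comp (MvPolynomial.map π)) p =
      ((Algebra.TensorProduct.includeRight : C →ₐ[↥O] R ⊗[↥O] C).toRingHom.comp φ.toRingHom) p
    congr 1
    refine MvPolynomial.ringHom_ext (fun o => ?_) (fun i => by simp [φR, gen])
    simp only [RingHom.comp_apply, MvPolynomial.map_C, AlgHom.toRingHom_eq_coe, RingHom.coe_coe]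
    rw [← MvPolynomial.algebraMap_eq, ← MvPolynomial.algebraMap_eq, AlgHom.commutes, AlgHom.commutes,
      AlgHom.commutes]
    rfl
  have hcompA : ∀ p : MvPolynomial (Fin N) O, φA (p.map O.subtype) = inc (φ p) := by
    intro p
    change (φA.toRingHom.comp (MvPolynomial.map O.subtype)) p =
      ((inc).toRingHom.comp φ.toRingHom) p
    congr 1
    refine MvPolynomial.ringHom_ext (fun o => ?_) (fun i => by simp [φA, gen])
    simp only [RingHom.comp_apply, MvPolynomial.map_C, AlgHom.toRingHom_eq_coe, RingHom.coe_coe]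
    rw [← MvPolynomial.algebraMap_eq, ← MvPolynomial.algebraMap_eq, AlgHom.commutes, AlgHom.commutes,
      AlgHom.commutes]
    rfl
  have hφR : Function.Surjective φR := by
    intro z
    induction z using TensorProduct.induction_on with
    | zero => exact ⟨0, map_zero _⟩
    | tmul r c =>
        obtain ⟨p, rfl⟩ := hφ c
        exact ⟨r • p.map π, by rw [map_smul, hcompR, TensorProduct.smul_tmul', smul_eq_mul, mul_one]⟩
    | add x y hx hy =>
        obtain ⟨p, rfl⟩ := hx
        obtain ⟨q, rfl⟩ := hy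
        exact ⟨p + q, map_add _ _ _⟩
  have hφA : Function.Surjective φA := by
    intro z
    induction z using TensorProduct.induction_on with
    | zero => exact ⟨0, map_zero _⟩
    | tmul r c =>
        obtain ⟨p, rfl⟩ := hφ c
        refine ⟨r • p.map O.subtype, ?_⟩
        rw [map_smul, hcompA, Algebra.TensorProduct.includeRight_apply, TensorProduct.smul_tmul',
          smul_eq_mul, mul_one]
    | add x y hx hy =>
        obtain ⟨p, rfl⟩ := hx
        obtain ⟨q, rfl⟩ := hy
        exact ⟨p + q, map_add _ _ _⟩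
  obtain ⟨s1, hs1⟩ := Algebra.FinitePresentation.ker_fG_of_surjective φR hφR
  obtain ⟨s2, hs2⟩ := Algebra.FinitePresentation.ker_fG_of_surjective φA hφA
  set I := RingHom.ker φ.toRingHom with hI
  have hmemI : ∀ {p}, p ∈ I ↔ φ p = 0 := Iff.rfl
  set Φ : MvPolynomial (Fin N) O →+* MvPolynomial (Fin N) A := MvPolynomial.map O.subtype
  set Ψ : MvPolynomial (Fin N) O →+* MvPolynomial (Fin N) R := MvPolynomial.map π
  have hΨI : RingHom.ker φR.toRingHom ≤ I.map Ψ := by
    intro f hf
    obtain ⟨p, rfl⟩ := MvPolynomial.map_surjective π hπ f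
    have h0 : (1 : R) ⊗ₜ[↥O] φ p = 0 := (hcompR p).symm.trans hf
    have hp : φ p ∈ (mO O) • (⊤ : Submodule O C) := by
      let e1 : (O ⧸ RingHom.ker (Algebra.ofId ↥O R)) ≃ₐ[↥O] R :=
        Ideal.quotientKerAlgEquivOfSurjective (f := Algebra.ofId ↥O R) hπ
      have hk : RingHom.ker (Algebra.ofId ↥O R) = mO O := by
        ext o
        exact hker o
      have h1' := congrArg (TensorProduct.congr e1.toLinearEquiv.symm (LinearEquiv.refl ↥O C)) h0
      rw [map_zero, TensorProduct.congr_tmul, LinearEquiv.refl_apply] at h1'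
      have h2' := congrArg (TensorProduct.quotTensorEquivQuotSMul C (RingHom.ker (Algebra.ofId ↥O R))) h1'
      rw [map_zero] at h2'
      have he : e1.toLinearEquiv.symm (1 : R) = Ideal.Quotient.mk _ (1 : O) := by
        change e1.symm 1 = _
        rw [map_one, map_one]
      rw [he, TensorProduct.quotTensorEquivQuotSMul_mk_tmul, one_smul,
        Submodule.Quotient.mk_eq_zero, hk] at h2'
      exact h2'
    have key : ∀ c ∈ (mO O) • (⊤ : Submodule O C), ∃ q, φ q = c ∧ Ψ q = 0 := by
      intro c hc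
      induction hc using Submodule.smul_induction_on' with
      | smul r hr x _ =>
          obtain ⟨q, rfl⟩ := hφ x
          refine ⟨r • q, map_smul _ _ _, ?_⟩
          rw [Algebra.smul_def, map_mul, MvPolynomial.algebraMap_eq, MvPolynomial.map_C,
            (hker r).mpr hr, MvPolynomial.C_0, zero_mul]
      | add x _ y _ hx hy =>
          obtain ⟨q, rfl, hq⟩ := hx
          obtain ⟨q', rfl, hq'⟩ := hy
          exact ⟨q + q', map_add _ _ _, by rw [map_add, hq, hq', add_zero]⟩
    obtain ⟨q, hq, hq0⟩ := key _ hp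
    have : Ψ p = Ψ (p - q) := by rw [map_sub, hq0, sub_zero]
    rw [this]
    exact Ideal.mem_map_of_mem _ (hmemI.mpr (by rw [map_sub, hq, sub_self]))
  have hΦI : RingHom.ker φA.toRingHom ≤ I.map Φ := by
    intro f hf
    obtain ⟨s, hs, hsb⟩ := exists_den h2 (fun e : f.support => f.coeff e.1)
    have hcoe : ∀ e, (s : A) * f.coeff e ∈ O := fun e => by
      by_cases he : e ∈ f.support
      · exact hsb ⟨e, he⟩
      · rw [MvPolynomial.notMem_support_iff.mp he, mul_zero]
        exact zero_mem _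
    obtain ⟨p, hp⟩ : MvPolynomial.C (s : A) * f ∈ Set.range Φ := by
      rw [MvPolynomial.mem_range_map_iff_coeffs_subset]
      intro x hx
      obtain ⟨e, -, rfl⟩ := MvPolynomial.mem_coeffs_iff.mp hx
      rw [MvPolynomial.coeff_C_mul]
      exact ⟨⟨_, hcoe e⟩, rfl⟩
    have hpI : p ∈ I := hmemI.mpr (hinj (by
      rw [map_zero, ← hcompA, hp]
      exact Ideal.mul_mem_left (RingHom.ker φA.toRingHom) _ hf))
    have := Ideal.mem_map_of_mem Φ hpI
    rw [hp] at this
    exact (Ideal.unit_mul_mem_iff_mem _ (hs.map MvPolynomial.C)).mp this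
  obtain ⟨I1, hI1, hI1', hI1''⟩ := exists_fg_le_map Ψ I ⟨s1, hs1⟩ hΨI
  obtain ⟨I2, hI2, hI2', hI2''⟩ := exists_fg_le_map Φ I ⟨s2, hs2⟩ hΦI
  suffices hle : I ≤ I1 ⊔ I2 by
    exact le_antisymm (sup_le hI1' hI2') hle ▸ Submodule.FG.sup hI1 hI2
  intro f hf
  obtain ⟨g, hg, hgf⟩ := (Ideal.mem_map_iff_of_surjective _ (MvPolynomial.map_surjective π hπ)).mp
    (hI1'' (show Ψ f ∈ RingHom.ker φR.toRingHom from by
      change φR (Ψ f) = 0
      rw [hcompR, hmemI.mp hf, TensorProduct.tmul_zero]))
  have hh0 : φA (Φ (f - g)) = 0 := by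
    rw [hcompA, hmemI.mp (sub_mem hf (hI1' hg)), map_zero]
  set F := Φ (f - g) with hF
  have hco : ∀ e, F.coeff e ∈ maximalIdeal A := fun e => by
    rw [hF, MvPolynomial.coeff_map]
    refine (hker _).mp ?_
    rw [← MvPolynomial.coeff_map, map_sub, MvPolynomial.coeff_sub, sub_eq_zero]
    exact congrArg (MvPolynomial.coeff e) hgf.symm
  have hsum : ∑ e : F.support, F.coeff e.1 • φA (MvPolynomial.monomial e.1 1) = 0 := by
    rw [← hh0]
    conv_rhs => rw [F.as_sum, ← Finset.sum_coe_sort, map_sum]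
    refine Finset.sum_congr rfl fun e _ => ?_
    rw [← map_smul, MvPolynomial.smul_monomial, smul_eq_mul, mul_one]
  obtain ⟨k, b, w, hw, hb⟩ := Module.Flat.isTrivialRelation_of_sum_smul_eq_zero hsum
  choose q hq using fun j => hφA (w j)
  have hFeq : F = ∑ e : F.support, MvPolynomial.C (F.coeff e.1) *
      (MvPolynomial.monomial e.1 1 - ∑ j, b e j • q j) := by
    simp only [mul_sub, Finset.sum_sub_distrib, Finset.mul_sum, MvPolynomial.C_mul', smul_smul]
    rw [Finset.sum_comm (f := fun e j => (F.coeff e.1 * b e j) • q j)]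
    simp only [← Finset.sum_smul, hb, zero_smul, Finset.sum_const_zero, sub_zero,
      MvPolynomial.smul_monomial, smul_eq_mul, mul_one]
    conv_lhs => rw [F.as_sum, ← Finset.sum_coe_sort]
  have hmul : ∀ x ∈ I2.map Φ, ∀ c ∈ (maximalIdeal A).map (MvPolynomial.C : A →+* MvPolynomial (Fin N) A),
      ∃ y ∈ I2, Φ y = c * x := by
    intro x hx
    induction hx using Submodule.span_induction with
    | mem x hx =>
        obtain ⟨y, hy, rfl⟩ := hx
        intro c hc
        obtain ⟨c', rfl⟩ : c ∈ Set.range Φ := by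
          rw [MvPolynomial.mem_range_map_iff_coeffs_subset]
          intro a ha
          obtain ⟨e, -, rfl⟩ := MvPolynomial.mem_coeffs_iff.mp ha
          exact ⟨⟨_, h1 _ (MvPolynomial.mem_map_C_iff.mp hc e)⟩, rfl⟩
        exact ⟨c' * y, Ideal.mul_mem_left _ _ hy, map_mul _ _ _⟩
    | zero => exact fun c _ => ⟨0, zero_mem _, by rw [map_zero, mul_zero]⟩
    | add x y _ _ hx hy =>
        intro c hc
        obtain ⟨a, ha, ha'⟩ := hx c hc
        obtain ⟨a', hb, hb'⟩ := hy c hc
        exact ⟨a + a', add_mem ha hb, by rw [map_add, ha', hb', mul_add]⟩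
    | smul r x _ hx =>
        intro c hc
        obtain ⟨a, ha, ha'⟩ := hx (c * r) (Ideal.mul_mem_right _ _ hc)
        exact ⟨a, ha, by rw [ha', smul_eq_mul, mul_assoc]⟩
  have hker2 : ∀ e : F.support,
      MvPolynomial.monomial e.1 1 - ∑ j, b e j • q j ∈ I2.map Φ := fun e => hI2'' (by
    change φA _ = 0
    rw [map_sub, map_sum, show φA _ = _ from hw e, sub_eq_zero]
    exact Finset.sum_congr rfl fun j _ => by rw [map_smul, hq])
  choose y hy hyF using fun e : F.support =>
    hmul _ (hker2 e) _ (Ideal.mem_map_of_mem MvPolynomial.C (hco e.1))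
  have : f - g = ∑ e, y e := by
    refine MvPolynomial.map_injective O.subtype Subtype.coe_injective ?_
    rw [map_sum]
    exact hFeq.trans (Finset.sum_congr rfl fun e _ => (hyF e).symm)
  rw [sub_eq_iff_eq_add'] at this
  rw [this]
  exact add_mem (Ideal.mem_sup_left hg) (Ideal.mem_sup_right (Ideal.sum_mem _ fun e _ => hy e))

end helpers

/-- Let A be a local ring with residue field K, R a valuation ring of K and O ⊆ A the preimage of R
under A → K (so O is a semi-valuation ring with semi-fraction ring A, S = Spec O is glued from U =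
Spec A and T = Spec R). Let C be an O-algebra of finite type which is U-admissible (C → A ⊗_O C
injective) and such that A ⊗_O C is flat and of finite presentation over A. Then C is flat and of
finite presentation over O. (The published assertion is more general: the base may be any
quasi-compact quasi-separated U-admissible scheme over Spec O, and the scheme over it any
quasi-compact quasi-separated admissible scheme. This row is the case of an affine scheme over Spec
O itself, the case in which the published proof carries out its argument.) -/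
theorem result
    (A : Type u) [CommRing A] [IsLocalRing A] (R : ValuationSubring (IsLocalRing.ResidueField A))
    (O : Subring A) (hO : O = R.toSubring.comap (IsLocalRing.residue A))
    (C : Type u) [CommRing C] [Algebra ↥O C] [Algebra.FiniteType ↥O C]
    (hadm : Function.Injective (Algebra.TensorProduct.includeRight : C →ₐ[↥O] A ⊗[↥O] C))
    (hflat : Module.Flat A (A ⊗[↥O] C)) (hfp : Algebra.FinitePresentation A (A ⊗[↥O] C)) :
    Module.Flat ↥O C ∧ Algebra.FinitePresentation ↥O C := by
  haveI := hflat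
  haveI := hfp
  subst hO
  let π : (R.toSubring.comap (IsLocalRing.residue A)) →+* R :=
    ((IsLocalRing.residue A).comp (Subring.subtype _)).codRestrict R.toSubring fun o => o.2
  have hπ : Function.Surjective π := by
    intro r
    obtain ⟨a, ha⟩ := IsLocalRing.residue_surjective (R := A) r.1
    exact ⟨⟨a, show IsLocalRing.residue A a ∈ R.toSubring from ha ▸ r.2⟩, Subtype.ext ha⟩
  have hker : ∀ o, π o = 0 ↔ (o : A) ∈ IsLocalRing.maximalIdeal A := fun o => by
    rw [← IsLocalRing.residue_eq_zero_iff]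
    exact Subtype.ext_iff
  have h1 : ∀ a ∈ IsLocalRing.maximalIdeal A, a ∈ R.toSubring.comap (IsLocalRing.residue A) := by
    intro a ha
    rw [Subring.mem_comap, (IsLocalRing.residue_eq_zero_iff a).mpr ha]
    exact zero_mem _
  have h2 : ∀ a : A, ∃ s : R.toSubring.comap (IsLocalRing.residue A),
      IsUnit (s : A) ∧ (s : A) * a ∈ R.toSubring.comap (IsLocalRing.residue A) := by
    intro a
    rcases R.mem_or_inv_mem (IsLocalRing.residue A a) with h | h
    · exact ⟨1, by simp, by simpa using h⟩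
    · by_cases ha : a ∈ IsLocalRing.maximalIdeal A
      · exact ⟨1, by simp, by simpa using h1 a ha⟩
      · have hu : IsUnit a := IsLocalRing.notMem_maximalIdeal.mp ha
        refine ⟨⟨↑hu.unit⁻¹, ?_⟩, hu.unit⁻¹.isUnit, by simp [one_mem]⟩
        rw [Subring.mem_comap, map_units_inv]
        simpa using h
  haveI hf : Module.Flat ↥(R.toSubring.comap (IsLocalRing.residue A)) C :=
    flat_of_semival π hπ hker h1 h2 hadm
  exact ⟨hf, finitePresentation_of_semival π hπ hker h1 h2 hadm⟩

end Groth.Agent.S17899
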