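import Mathlib
import Groth.Statements.S17902
-- import your own Groth.Agent.* helpers here

set_option autoImplicit false
universe u
open CAlg

noncomputable section

namespace Groth.Agent.S17902

section helpers

variable {A : Type u} [CommRing A] {M : Type u} [AddCommGroup M] [Module A M]

lemma bijective_of_mem {N : Type u} [AddCommGroup N] [Module A N] (g : A) (S : Submonoid A)
    (hg : g ∈ S) (F : N →ₗ[A] M)
    (h : Function.Bijective (LocalizedModule.map (Submonoid.powers g) F)) :
    Function.Bijective (LocalizedModule.map S F) := by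
  refine ⟨(injective_iff_map_eq_zero _).mpr fun z hz => ?_, fun z => ?_⟩
  · induction z using LocalizedModule.induction_on with
    | _ x s =>
      rw [LocalizedModule.map_mk, ← LocalizedModule.zero_mk s, LocalizedModule.mk_eq] at hz
      obtain ⟨t, ht⟩ := hz
      simp only [smul_zero] at ht
      have h1 : (LocalizedModule.mk ((t * s : S) • x) 1 : LocalizedModule (Submonoid.powers g) N) = 0 := by
        refine h.1 ?_
        rw [map_zero, LocalizedModule.map_mk, ← LocalizedModule.zero_mk (1 : Submonoid.powers g)]
        congr 1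
        rw [Submonoid.smul_def, map_smul, Submonoid.coe_mul, mul_smul]
        exact ht
      rw [← LocalizedModule.zero_mk (1 : Submonoid.powers g), LocalizedModule.mk_eq] at h1
      obtain ⟨⟨_, k, rfl⟩, hk⟩ := h1
      simp only [smul_zero, one_smul] at hk
      rw [← LocalizedModule.zero_mk s, LocalizedModule.mk_eq]
      refine ⟨⟨g ^ k, pow_mem hg k⟩ * t, ?_⟩
      simp only [smul_zero]
      simp only [Submonoid.smul_def, Submonoid.coe_mul, ← mul_smul] at hk ⊢
      rwa [← mul_assoc] at hk
  · induction z using LocalizedModule.induction_on with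
    | _ y s =>
      obtain ⟨w, hw⟩ := h.2 (LocalizedModule.mk y 1)
      induction w using LocalizedModule.induction_on with
      | _ x r =>
        obtain ⟨_, j, rfl⟩ := r
        rw [LocalizedModule.map_mk, LocalizedModule.mk_eq] at hw
        obtain ⟨⟨_, k, rfl⟩, hk⟩ := hw
        simp only [one_smul] at hk
        refine ⟨LocalizedModule.mk x (⟨g ^ j, pow_mem hg j⟩ * s), ?_⟩
        rw [LocalizedModule.map_mk, LocalizedModule.mk_eq]
        refine ⟨⟨g ^ k, pow_mem hg k⟩, ?_⟩
        simp only [Submonoid.smul_def, Submonoid.coe_mul] at hk ⊢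
        rw [mul_comm (g ^ j) (s : A), mul_smul, smul_comm (g ^ k) (s : A), smul_comm (g ^ k) (s : A), hk]

/-- The map A^n → M attached to n elements. -/
def lc {n : ℕ} (s : Fin n → M) : (Fin n → A) →ₗ[A] M := (Pi.basisFun A (Fin n)).constr A s

lemma lc_single {n : ℕ} (s : Fin n → M) (j : Fin n) : lc (A := A) s (Pi.basisFun A (Fin n) j) = s j :=
  Module.Basis.constr_basis _ _ _ _

lemma exists_lc_bijective (g : A) (n : ℕ)
    (b : Module.Basis (Fin n) (Localization.Away g) (LocalizedModule (Submonoid.powers g) M)) :
    ∃ t : Fin n → M, Function.Bijective (LocalizedModule.map (Submonoid.powers g) (lc (A := A) t)) := by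
  choose c hc using fun j => IsLocalizedModule.surj (Submonoid.powers g)
    (LocalizedModule.mkLinearMap (Submonoid.powers g) M) (b j)
  refine ⟨fun j => (c j).1, ?_⟩
  let b' := b.unitsSMul fun j => (IsLocalization.map_units (Localization.Away g) (c j).2).unit
  let b₀ := (Pi.basisFun A (Fin n)).ofIsLocalizedModule (Localization.Away g) (Submonoid.powers g)
    (LocalizedModule.mkLinearMap (Submonoid.powers g) (Fin n → A))
  have heq : LocalizedModule.map (Submonoid.powers g) (lc (A := A) fun j => (c j).1) =
      (b₀.equiv b' (Equiv.refl _)).toLinearMap := by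
    refine b₀.ext fun j => ?_
    rw [LinearEquiv.coe_coe, Module.Basis.equiv_apply, Equiv.refl_apply, Module.Basis.unitsSMul_apply,
      Module.Basis.ofIsLocalizedModule_apply, LocalizedModule.mkLinearMap_apply,
      LocalizedModule.map_mk, lc_single]
    have := hc j
    rw [LocalizedModule.mkLinearMap_apply] at this
    rw [← this, Units.smul_def, IsUnit.unit_spec, algebraMap_smul]
    rfl
  rw [heq]
  exact LinearEquiv.bijective _

lemma basis_of_bijective {n : ℕ} (q : Ideal A) [q.IsPrime] (s : Fin n → M)
    (h : Function.Bijective (LocalizedModule.map q.primeCompl (lc (A := A) s))) :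
    LinearIndependent (Localization.AtPrime q)
        (fun j => LocalizedModule.mkLinearMap q.primeCompl M (s j)) ∧
      Submodule.span (Localization.AtPrime q)
        (Set.range fun j => LocalizedModule.mkLinearMap q.primeCompl M (s j)) = ⊤ := by
  let b₀ := (Pi.basisFun A (Fin n)).ofIsLocalizedModule (Localization.AtPrime q) q.primeCompl
    (LocalizedModule.mkLinearMap q.primeCompl (Fin n → A))
  let b := b₀.map (LinearEquiv.ofBijective _ h)
  have hb : ⇑b = fun j => LocalizedModule.mkLinearMap q.primeCompl M (s j) := by
    funext j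
    rw [Module.Basis.map_apply, LinearEquiv.ofBijective_apply, Module.Basis.ofIsLocalizedModule_apply,
      LocalizedModule.mkLinearMap_apply, LocalizedModule.map_mk, lc_single,
      LocalizedModule.mkLinearMap_apply]
  exact ⟨hb ▸ b.linearIndependent, hb ▸ b.span_eq⟩

end helpers

/-- Let A be a commutative ring, M a finitely generated projective A-module, n a natural number and P a
finite set of prime ideals of A such that for every p in P there is g outside p with M_g free of
rank n over A_g. Then there exist n elements of M and an open subset U of Spec A containing P such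
that for every prime q in U the images of these elements in M_q form a basis of M_q over A_q. (The
published conclusion is that the associated sheaf is free of rank n on some open neighbourhood of P;
the form given here, with n global elements of M, is what its proof produces.) -/
theorem result (A : Type u) [CommRing A] (M : Type u) [AddCommGroup M] [Module A M]
    [Module.Finite A M] [Module.Projective A M] (n : ℕ) (P : Finset (PrimeSpectrum A))
    (hP : ∀ p ∈ P, ∃ g : A, g ∉ p.asIdeal ∧
      Nonempty (Module.Basis (Fin n) (Localization.Away g) (LocalizedModule (Submonoid.powers g) M))) :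
    ∃ (s : Fin n → M) (U : Set (PrimeSpectrum A)), IsOpen U ∧ (∀ p ∈ P, p ∈ U) ∧
      ∀ q ∈ U,
        LinearIndependent (Localization.AtPrime q.asIdeal)
            (fun j => LocalizedModule.mkLinearMap q.asIdeal.primeCompl M (s j)) ∧
          Submodule.span (Localization.AtPrime q.asIdeal)
            (Set.range fun j => LocalizedModule.mkLinearMap q.asIdeal.primeCompl M (s j)) = ⊤ := by
  classical
  -- it is enough to treat the maximal members
  let P' := P.filter fun p => ∀ q ∈ P, p ≤ q → q = p
  have hP' : ∀ p ∈ P, ∃ q ∈ P', p ≤ q := by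
    intro p hp
    obtain ⟨q, hpq, hq⟩ := P.exists_le_maximal hp
    exact ⟨q, Finset.mem_filter.mpr ⟨hq.1, fun r hr hqr => le_antisymm (hq.2 hr hqr) hqr⟩, hpq⟩
  have hinc : ∀ p ∈ P', ∀ q ∈ P', q ≠ p → ¬ q.asIdeal ≤ p.asIdeal := fun p hp q hq hne hle =>
    hne ((Finset.mem_filter.mp hq).2 p (Finset.mem_filter.mp hp).1 hle).symm
  -- separating scalars
  have hsep : ∀ p : {p // p ∈ P'}, ∃ e : A, e ∉ p.1.asIdeal ∧ ∀ q : {p // p ∈ P'}, q ≠ p → e ∈ q.1.asIdeal := by
    intro p
    have h1 : ∀ q : {p // p ∈ P'}, ∃ x : A, x ∉ p.1.asIdeal ∧ (q ≠ p → x ∈ q.1.asIdeal) := by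
      intro q
      by_cases hq : q = p
      · exact ⟨1, p.1.asIdeal.primeCompl.one_mem, fun h => absurd hq h⟩
      · obtain ⟨x, hx, hxp⟩ := SetLike.not_le_iff_exists.mp
          (hinc p.1 p.2 q.1 q.2 fun h => hq (Subtype.ext h))
        exact ⟨x, hxp, fun _ => hx⟩
    choose x hx hxq using h1
    exact ⟨∏ q, x q, p.1.asIdeal.primeCompl.prod_mem fun q _ => hx q,
      fun q hq => Ideal.prod_mem q.1.asIdeal (Finset.mem_univ q) (hxq q hq)⟩
  choose e hep heq using hsep
  have hP'' : ∀ p : {p // p ∈ P'}, ∃ t : Fin n → M,
      Function.Bijective (LocalizedModule.map p.1.asIdeal.primeCompl (lc (A := A) t)) := by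
    intro p
    obtain ⟨g, hg, ⟨b⟩⟩ := hP p.1 (Finset.mem_filter.mp p.2).1
    obtain ⟨t, ht⟩ := exists_lc_bijective g n b
    exact ⟨t, bijective_of_mem g _ hg _ ht⟩
  choose t ht using hP''
  let s : Fin n → M := fun j => ∑ p, e p • t p j
  have hs : lc (A := A) s = ∑ p, e p • lc (A := A) (t p) := by
    refine (Pi.basisFun A (Fin n)).ext fun j => ?_
    simp only [LinearMap.coe_sum, Finset.sum_apply, LinearMap.smul_apply, lc_single, s]
  haveI : Module.FinitePresentation A M := Module.finitePresentation_of_projective A M
  -- a basis at every maximal member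
  have hbij : ∀ p : {p // p ∈ P'},
      Function.Bijective (LocalizedModule.map p.1.asIdeal.primeCompl (lc (A := A) s)) := by
    intro p
    set R := Localization.AtPrime p.1.asIdeal
    set L := LocalizedModule.map p.1.asIdeal.primeCompl (lc (A := A) s) with hL
    set m := IsLocalRing.maximalIdeal R
    have hLsum : ∀ z, L z = ∑ q, algebraMap A R (e q) •
        LocalizedModule.map p.1.asIdeal.primeCompl (lc (A := A) (t q)) z := by
      intro z
      rw [hL, hs, map_sum]
      simp only [map_smul, LinearMap.coe_sum, Finset.sum_apply, LinearMap.smul_apply, algebraMap_smul, R]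
    haveI : Module.Finite R (LocalizedModule p.1.asIdeal.primeCompl M) :=
      Module.Finite.of_isLocalizedModule p.1.asIdeal.primeCompl
        (LocalizedModule.mkLinearMap p.1.asIdeal.primeCompl M)
    have hsurj : Function.Surjective L := by
      rw [← LinearMap.range_eq_top, eq_top_iff]
      refine Submodule.le_of_le_smul_of_le_jacobson_bot Module.Finite.fg_top
        (IsLocalRing.maximalIdeal_le_jacobson _) (fun y _ => ?_)
      have hu : IsUnit (algebraMap A R (e p)) :=
        IsLocalization.map_units R (⟨e p, hep p⟩ : p.1.asIdeal.primeCompl)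
      obtain ⟨z, hz⟩ := (ht p).2 (hu.unit⁻¹ • y)
      have h1 : y = L z - ∑ q ∈ Finset.univ.erase p, algebraMap A R (e q) •
          LocalizedModule.map p.1.asIdeal.primeCompl (lc (A := A) (t q)) z := by
        rw [hLsum, ← Finset.add_sum_erase _ _ (Finset.mem_univ p), add_sub_cancel_right, hz,
          Units.smul_def, smul_smul, IsUnit.mul_val_inv, one_smul]
      rw [h1]
      refine sub_mem (Submodule.mem_sup_left ⟨z, rfl⟩) (Submodule.mem_sup_right
        (sum_mem fun q hq => Submodule.smul_mem_smul ?_ Submodule.mem_top))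
      rw [IsLocalization.AtPrime.to_map_mem_maximal_iff R p.1.asIdeal]
      exact heq q p (Finset.ne_of_mem_erase hq).symm
    let E := LinearEquiv.ofBijective _ (ht p)
    have h2 : Function.Bijective (L ∘ₗ E.symm.toLinearMap) :=
      OrzechProperty.bijective_of_surjective_endomorphism _ (hsurj.comp E.symm.surjective)
    have h3 := h2.comp E.bijective
    rwa [show ⇑(L ∘ₗ E.symm.toLinearMap) ∘ ⇑E = ⇑L from funext fun x => by simp] at h3
  have hopen : ∀ p : {p // p ∈ P'}, ∃ g : A, g ∉ p.1.asIdeal ∧
      Function.Bijective (LocalizedModule.map (Submonoid.powers g) (lc (A := A) s)) := by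
    intro p
    refine Module.FinitePresentation.exists_notMem_bijective _ p.1.asIdeal
      (LocalizedModule.mkLinearMap p.1.asIdeal.primeCompl (Fin n → A))
      (LocalizedModule.mkLinearMap p.1.asIdeal.primeCompl M) ?_
    exact hbij p
  choose g hg hgb using hopen
  refine ⟨s, ⋃ p, (PrimeSpectrum.basicOpen (g p) : Set (PrimeSpectrum A)),
    isOpen_iUnion fun p => (PrimeSpectrum.basicOpen (g p)).2, fun p hp => ?_, fun q hq => ?_⟩
  · obtain ⟨q, hq, hpq⟩ := hP' p hp
    refine Set.mem_iUnion.mpr ⟨⟨q, hq⟩, ?_⟩
    exact fun h => hg ⟨q, hq⟩ (hpq h)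
  · obtain ⟨p, hp⟩ := Set.mem_iUnion.mp hq
    exact basis_of_bijective q.asIdeal s (bijective_of_mem (g p) _ hp _ (hgb p))

end Groth.Agent.S17902
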