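import Groth.Statements.S17905
import Groth.Agent.PinchPO7.OverBC
-- import your own Groth.Agent.* helpers here

set_option autoImplicit false
universe u
open CategoryTheory AlgebraicGeometry
open Pinch

namespace Groth.Agent.S17905

/-- Let S be a scheme and Z → X, Z → Z', X → X', Z' → X' a commutative square of S-schemes which is a
pushout square in the category of ringed spaces, with Z → X and Z' → X' closed immersions, X → X'
affine, Z → Z' finite, flat and surjective, and X, Z, Z' flat over S. Suppose that for every T → S
the map O_T → (f_T)_* O_{X_T} induced by the base change f_T : X_T → T of X → S is an isomorphism.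
Then for every T → S the map O_T → (f'_T)_* O_{X'_T} induced by the base change of X' → S is an
isomorphism. (The published lemma is stated for the pinching of a finite surjective Z → Z' whose
fibres lie in affine opens of X, with X → S admitting a section; this row assumes X → X' only affine
and drops the affine-fibre and section conditions, which the printed proof does not use.) -/
theorem result {S X Z Z' X' : Scheme.{u}}
    (fX : X ⟶ S) (fZ' : Z' ⟶ S) (fX' : X' ⟶ S) (ι : Z ⟶ X) (q : Z ⟶ Z') (π : X ⟶ X') (ι' : Z' ⟶ X')
    [IsClosedImmersion ι] [IsClosedImmersion ι'] [IsFinite q] [Flat q] [Surjective q] [IsAffineHom π]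
    (hq : q ≫ fZ' = ι ≫ fX) (hπ : π ≫ fX' = fX) (hι' : ι' ≫ fX' = fZ')
    (hpo : IsPushout ((Scheme.forgetToLocallyRingedSpace ⋙ LocallyRingedSpace.forgetToSheafedSpace).map ι) ((Scheme.forgetToLocallyRingedSpace ⋙ LocallyRingedSpace.forgetToSheafedSpace).map q)
      ((Scheme.forgetToLocallyRingedSpace ⋙ LocallyRingedSpace.forgetToSheafedSpace).map π) ((Scheme.forgetToLocallyRingedSpace ⋙ LocallyRingedSpace.forgetToSheafedSpace).map ι'))
    [Flat fX] [Flat (ι ≫ fX)] [Flat fZ']
    (hX : ∀ (T : Scheme.{u}) (g : T ⟶ S) (U : T.Opens), IsIso ((Limits.pullback.snd fX g).app U))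
    (T : Scheme.{u}) (g : T ⟶ S) (U : T.Opens) :
    IsIso ((Limits.pullback.snd fX' g).app U) := by
  haveI : Flat ((ι ≫ fX)) := inferInstance
  have G := PinchPO7.isGluedSquare_overBC (PinchPO7.isPushout_of_toSh hpo) hq hπ hι' g
  have hq2 := RingPO.isPullback_map_square hq g (m := ((Over.pullback g).map
    (Over.homMk q hq : Over.mk (ι ≫ fX) ⟶ Over.mk fZ')).left) (Limits.pullback.lift_fst _ _ _) (Limits.pullback.lift_snd _ _ _)
  haveI := MorphismProperty.of_isPullback (P := @Flat) hq2 ‹Flat q›
  haveI := MorphismProperty.of_isPullback (P := @Surjective) hq2 ‹Surjective q›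
  haveI := hX T g U
  haveI : IsIso ((((Over.pullback g).map (Over.homMk π hπ : Over.mk fX ⟶ Over.mk fX')).left ≫
      Limits.pullback.snd fX' g).app U) :=
    @PinchPO7.isIso_app_of_eq _ _ _ _ (Limits.pullback.lift_snd _ _ _).symm U (hX T g U)
  exact PinchPO7.isIso_app_of_glued G (Limits.pullback.snd fX' g) U

end Groth.Agent.S17905
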