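import Groth.Statements.S17914
import Groth.Agent.PolLib.Gamma
import Mathlib.RingTheory.Norm.Basic
import Mathlib.RingTheory.IsTensorProduct
import Mathlib.RingTheory.TensorProduct.MvPolynomial
-- import your own Groth.Agent.* helpers here

set_option autoImplicit false
universe u
open scoped TensorProduct
open PolLaw

namespace Groth.Agent.S17914

/-- Affine-free form, stated through universal properties. Let R → R' be a commutative algebra that is
free of rank d as an R-module, Q a commutative R-algebra, and Q' a commutative ring under Q and R'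
which is their pushout over R and is free of rank d over Q. Let (C, γ) be the degree-d divided power
algebra of R' over R with its universal multiplicative law (hypothesis: every multiplicative law of
degree d out of R' factors uniquely through γ) and π : C → R the R-algebra map with π ∘ γ = the norm
law of R' over R; let (C', γ', π') be the analogous data for Q' over Q. Let θ : C → C' be an
R-algebra homomorphism compatible with the two universal laws over every commutative Q-algebra P:
γ'_P applied to the image of z ∈ P ⊗_R R' in P ⊗_Q Q' equals (p ⊗ c ↦ p ⊗ θ c) applied to γ_P(z) (so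
θ is the base-change homomorphism of divided power algebras). Then π' (θ c) is the image in Q of π c
for every c ∈ C: the algebra map attached to the norm commutes with base change. (The published
lemma is for a finite locally free extension of constant rank and states the commutativity of each
of three squares; this row assumes R' free over R and states the commutativity of the composite.) -/
theorem result {R R' Q Q' : Type u} [CommRing R] [CommRing R'] [Algebra R R']
    [CommRing Q] [Algebra R Q] [CommRing Q'] [Algebra R Q'] [Algebra Q Q'] [Algebra R' Q']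
    [IsScalarTower R Q Q'] [IsScalarTower R R' Q'] [Algebra.IsPushout R R' Q Q']
    [Module.Free R R'] [Module.Finite R R'] [Module.Free Q Q'] [Module.Finite Q Q']
    (d : ℕ) (hd : Module.finrank R R' = d) (hd' : Module.finrank Q Q' = d)
    {C : Type u} [CommRing C] [Algebra R C] (γ : PolLaw.MulLaw R R' C d) (hγ : PolLaw.IsGammaD γ)
    (π : C →ₐ[R] R) (hπ : PolLaw.MulLaw.postcomp π γ = PolLaw.normLaw R R' d hd)
    {C' : Type u} [CommRing C'] [Algebra R C'] [Algebra Q C'] [IsScalarTower R Q C']
    (γ' : PolLaw.MulLaw Q Q' C' d) (hγ' : PolLaw.IsGammaD γ')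
    (π' : C' →ₐ[Q] Q) (hπ' : PolLaw.MulLaw.postcomp π' γ' = PolLaw.normLaw Q Q' d hd')
    (θ : C →ₐ[R] C')
    (hθ : ∀ (P : Type u) [CommRing P] [Algebra R P] [Algebra Q P] [IsScalarTower R Q P] (z : P ⊗[R] R'),
      γ'.law.toFun' P (PolLaw.bcAlong (IsScalarTower.toAlgHom R R' Q').toLinearMap P z) =
        PolLaw.bcAlong θ.toLinearMap P (γ.law.toFun' P z)) :
    ∀ c : C, π' (θ c) = algebraMap R Q (π c) := by
  intro c
  have hc : c ∈ Submodule.span R (Groth.Agent.PolLib.coeffs γ) :=
    Groth.Agent.PolLib.span_coeffs hγ ▸ trivial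
  induction hc using Submodule.span_induction with
  | zero => simp
  | add x y _ _ hx hy => simp only [map_add, hx, hy]
  | smul a x _ hx =>
    rw [map_smul, ← algebraMap_smul Q a (θ x), map_smul, hx, map_smul, smul_eq_mul, smul_eq_mul,
      map_mul]
  | mem x hx =>
    obtain ⟨σ, μ, z, rfl⟩ := hx
    have hpo : Algebra.IsPushout R Q R' Q' := Algebra.IsPushout.symm inferInstance
    let e : MvPolynomial σ Q ⊗[R] R' ≃ₐ[MvPolynomial σ Q] MvPolynomial σ Q ⊗[Q] Q' :=
      (Algebra.TensorProduct.cancelBaseChange R Q (MvPolynomial σ Q) (MvPolynomial σ Q) R').symm.trans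
        (Algebra.TensorProduct.congr AlgEquiv.refl (Algebra.IsPushout.equiv R Q R' Q'))
    let j : MvPolynomial σ R →ₐ[R] MvPolynomial σ Q := MvPolynomial.mapAlgHom (Algebra.ofId R Q)
    have he : ∀ w : MvPolynomial σ Q ⊗[R] R',
        PolLaw.bcAlong (IsScalarTower.toAlgHom R R' Q').toLinearMap (MvPolynomial σ Q) w = e w := by
      intro w
      induction w using TensorProduct.induction_on with
      | zero => simp
      | add a b ha hb => rw [map_add, map_add, ha, hb]
      | tmul p b =>
        simp [PolLaw.bcAlong, e, Algebra.IsPushout.equiv_tmul]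
    have hcf : ∀ w : MvPolynomial σ R ⊗[R] C,
        Groth.Agent.PolLib.cf μ
          (PolLaw.bcAlong θ.toLinearMap (MvPolynomial σ Q) (Groth.Agent.PolLib.rB C j w)) =
          θ (Groth.Agent.PolLib.cf μ w) := by
      intro w
      induction w using TensorProduct.induction_on with
      | zero => simp
      | add a b ha hb => simp only [map_add, ha, hb]
      | tmul p b =>
        have hp : MvPolynomial.coeff μ (j p) = algebraMap R Q (MvPolynomial.coeff μ p) :=
          MvPolynomial.coeff_map (Algebra.ofId R Q).toRingHom p μ
        rw [Groth.Agent.PolLib.rB_tmul,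
          show PolLaw.bcAlong θ.toLinearMap (MvPolynomial σ Q) (j p ⊗ₜ[R] b) = j p ⊗ₜ[Q] θ b by
            simp [PolLaw.bcAlong],
          Groth.Agent.PolLib.cf_tmul, Groth.Agent.PolLib.cf_tmul, map_smul, hp, algebraMap_smul]
    have h1 := hθ (MvPolynomial σ Q) (Groth.Agent.PolLib.rB R' j z)
    rw [he] at h1
    have h2 : Groth.Agent.PolLib.rB C j (γ.law.toFun' _ z) =
        γ.law.toFun' _ (Groth.Agent.PolLib.rB R' j z) := Groth.Agent.PolLib.ev_nat γ j z
    rw [← h2] at h1
    rw [← hcf, ← h1, ← Groth.Agent.PolLib.cf_bc, ← Groth.Agent.PolLib.ev_postcomp, hπ',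
      ← Groth.Agent.PolLib.cf_bc, ← Groth.Agent.PolLib.ev_postcomp γ π, hπ]
    show Groth.Agent.PolLib.cf μ ((PolLaw.normLaw Q Q' d hd').law.toFun' _ (e _)) =
      algebraMap R Q (Groth.Agent.PolLib.cf μ ((PolLaw.normLaw R R' d hd).law.toFun' _ z))
    rw [PolLaw.normLaw_apply, PolLaw.normLaw_apply, Groth.Agent.PolLib.cf_tmul,
      Groth.Agent.PolLib.cf_tmul, smul_eq_mul, mul_one, smul_eq_mul, mul_one,
      Algebra.norm_eq_of_algEquiv]
    have h3 := PolLaw.detAct_map (M := R') j z
    rw [PolLaw.detAct_self, PolLaw.detAct_self] at h3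
    rw [show Groth.Agent.PolLib.rB R' j z = Algebra.TensorProduct.map j (AlgHom.id R R') z from rfl,
      h3]
    exact MvPolynomial.coeff_map (Algebra.ofId R Q).toRingHom _ μ

end Groth.Agent.S17914
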