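import Groth.Statements.S17917
import Groth.Agent.H28.RefChPair
-- import your own Groth.Agent.* helpers here

set_option autoImplicit false
universe u
open CategoryTheory CategoryTheory.Limits AlgebraicGeometry
open RefCh

namespace Groth.Agent.S17917

/-- Let k be an algebraically closed field, X an integral normal scheme of dimension s + 2 admitting a
closed immersion into some P^N_k over k, and L_1, …, L_s invertible O_X-modules with inverses M_1,
…, M_s. Let ℒ_1 be a coherent reflexive O_X-module of rank one (ℒ_1 = O_X(D_1) for a Weil divisor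
D_1, with dual ℒ_1^∨ = O_X(-D_1)) and ℒ_2 an invertible O_X-module (a Cartier divisor D_2) with
inverse 𝓜_2. With q(ℱ) the limit of 2 χ(c_1(L_1) ⋯ c_1(L_s) · [ℱ^[m]]) / m^2 (reflexive powers,
FGA.intNum in the M_i), assumed to exist for ℒ_1, ℒ_2 and the reflexive hull ℒ_1 ⊗̂ ℒ_2 of ℒ_1 ⊗
ℒ_2, one has (q(ℒ_1 ⊗̂ ℒ_2) - q(ℒ_1) - q(ℒ_2)) / 2 = χ(c_1(ℒ_2) c_1(L_1) ⋯ c_1(L_s) · ([O_X] -
[ℒ_1^∨])), the right side written as the difference of the alternating sums FGA.intNum in (𝓜_2, M_1,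
…, M_s) of O_X and of ℒ_1^∨; that is, D_1 · D_2 · L_1 ⋯ L_s equals the usual intersection number of
the Cartier divisor D_2 and the L_i with the cycle of D_1. (The published text normalises D^2 · L_1
⋯ L_s as twice the limit of χ(c_1(L_1) ⋯ c_1(L_s) · ([O_X] - [O_X(-mD)])) / m^2, the negative of the
number used here, and with that sign the identity fails for two lines on the projective plane, where
it would read -1 = 1.) -/
theorem result (k : Type u) [Field k] [IsAlgClosed k] (X : Scheme.{u}) [X.Over (Spec (CommRingCat.of k))]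
    [AlgebraicGeometry.IsIntegral X] (hnorm : Pi1.IsNormalScheme X) (s : ℕ) (hdim : topologicalKrullDim X = (s + 2 : ℕ))
    (hproj : ∃ (N : ℕ) (ι : X ⟶ CohB1.ProjSpace N k), IsClosedImmersion ι ∧ ι ≫ CohB1.ProjSpace.toSpec N k = X ↘ Spec (CommRingCat.of k))
    (L M : Fin s → X.Modules) (hL : ∀ i, PicF.IsInvertible (L i))
    (hLM : ∀ i, Nonempty (CohB1.tensorMod (L i) (M i) ≅ Coh.structureModule X))
    (ℒ₁ ℒ₂ 𝓜₂ : X.Modules) (h₁ : RefHull.IsRef1 ℒ₁) (h₂ : PicF.IsInvertible ℒ₂)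
    (h₂' : Nonempty (CohB1.tensorMod ℒ₂ 𝓜₂ ≅ Coh.structureModule X))
    (q₁ q₂ q₁₂ : ℝ)
    (hq₁ : Filter.Tendsto (fun m : ℕ => (2 : ℝ) * (FGA.intNum k X (s + 2) M (RefPow.refPow ℒ₁ m) : ℝ) / ((m : ℝ) ^ 2)) Filter.atTop (nhds q₁))
    (hq₂ : Filter.Tendsto (fun m : ℕ => (2 : ℝ) * (FGA.intNum k X (s + 2) M (RefPow.refPow ℒ₂ m) : ℝ) / ((m : ℝ) ^ 2)) Filter.atTop (nhds q₂))
    (hq₁₂ : Filter.Tendsto (fun m : ℕ => (2 : ℝ) * (FGA.intNum k X (s + 2) M (RefPow.refPow (RefPow.refTensor ℒ₁ ℒ₂) m) : ℝ) / ((m : ℝ) ^ 2)) Filter.atTop (nhds q₁₂)) :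
    (q₁₂ - q₁ - q₂) / 2 =
      ((FGA.intNum k X (s + 2) (Fin.cons 𝓜₂ M) (Coh.structureModule X) -
        FGA.intNum k X (s + 2) (Fin.cons 𝓜₂ M) (RefHull.dual ℒ₁) : ℤ) : ℝ) := by
  obtain ⟨N, ι, hι, hιk⟩ := hproj
  haveI := hι
  haveI : IsProper (CohB1.ProjSpace.toSpec N k) := Groth.Agent.PnCoh.Chow.isProper_toSpec N k
  haveI : IsProper (X ↘ Spec (CommRingCat.of k)) := by rw [← hιk]; infer_instance
  haveI := Groth.Agent.CurveCohLib.isNoetherian_of_proper (k := k) (X := X)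
  exact Groth.Agent.H28.RefChPair.pairing_eq k hnorm
    (Groth.Agent.AmpleVan.exists_ample_of_closedImmersion_projSpace ι) hdim
    (fun i => Groth.Agent.H28.RefChKRows.invertible_inv (hL i) (hLM i)) h₁ h₂
    (Groth.Agent.H28.RefChKRows.invertible_inv h₂ h₂') h₂'.some q₁ q₂ q₁₂ hq₁ hq₂ hq₁₂

end Groth.Agent.S17917
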