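import Groth.Statements.S17918
import Groth.Agent.H28.RefChLim
-- import your own Groth.Agent.* helpers here

set_option autoImplicit false
universe u
open CategoryTheory CategoryTheory.Limits AlgebraicGeometry
open RefCh

namespace Groth.Agent.S17918

/-- Let k be an algebraically closed field, X an integral normal scheme of dimension s + 3 admitting a
closed immersion into some P^N_k over k, L_1, …, L_s, A and B invertible O_X-modules with inverses
M_1, …, M_s, A' and B' (so that A' ⊗ B' is an inverse of A ⊗ B), and ℒ a coherent reflexive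
O_X-module of rank one (ℒ = O_X(D)). Suppose 2 χ(c_1(A) c_1(L_1) ⋯ c_1(L_s) · [ℒ^[m]]) / m^2 → a, 2
χ(c_1(B) c_1(L_1) ⋯ c_1(L_s) · [ℒ^[m]]) / m^2 → b and 2 χ(c_1(A ⊗ B) c_1(L_1) ⋯ c_1(L_s) · [ℒ^[m]])
/ m^2 → c as m → ∞, the Euler characteristics being the alternating sums FGA.intNum in (A', M_1, …,
M_s), (B', M_1, …, M_s) and (A' ⊗ B', M_1, …, M_s) of the reflexive powers ℒ^[m]. Then c = a + b:
the self-intersection number D^2 · L_0 · L_1 ⋯ L_s is additive in the invertible module L_0. -/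
theorem result (k : Type u) [Field k] [IsAlgClosed k] (X : Scheme.{u}) [X.Over (Spec (CommRingCat.of k))]
    [AlgebraicGeometry.IsIntegral X] (hnorm : Pi1.IsNormalScheme X) (s : ℕ) (hdim : topologicalKrullDim X = (s + 3 : ℕ))
    (hproj : ∃ (N : ℕ) (ι : X ⟶ CohB1.ProjSpace N k), IsClosedImmersion ι ∧ ι ≫ CohB1.ProjSpace.toSpec N k = X ↘ Spec (CommRingCat.of k))
    (L M : Fin s → X.Modules) (hL : ∀ i, PicF.IsInvertible (L i))
    (hLM : ∀ i, Nonempty (CohB1.tensorMod (L i) (M i) ≅ Coh.structureModule X))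
    (A A' B B' : X.Modules) (hA : PicF.IsInvertible A) (hB : PicF.IsInvertible B)
    (hAA' : Nonempty (CohB1.tensorMod A A' ≅ Coh.structureModule X))
    (hBB' : Nonempty (CohB1.tensorMod B B' ≅ Coh.structureModule X))
    (ℒ : X.Modules) (hℒ : RefHull.IsRef1 ℒ) (a b c : ℝ)
    (ha : Filter.Tendsto (fun m : ℕ => (2 : ℝ) * (FGA.intNum k X (s + 3) (Fin.cons A' M) (RefPow.refPow ℒ m) : ℝ) / ((m : ℝ) ^ 2)) Filter.atTop (nhds a))
    (hb : Filter.Tendsto (fun m : ℕ => (2 : ℝ) * (FGA.intNum k X (s + 3) (Fin.cons B' M) (RefPow.refPow ℒ m) : ℝ) / ((m : ℝ) ^ 2)) Filter.atTop (nhds b))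
    (hc : Filter.Tendsto (fun m : ℕ => (2 : ℝ) * (FGA.intNum k X (s + 3) (Fin.cons (CohB1.tensorMod A' B') M) (RefPow.refPow ℒ m) : ℝ) / ((m : ℝ) ^ 2)) Filter.atTop (nhds c)) :
    c = a + b := by
  obtain ⟨N, ι, hι, hιk⟩ := hproj
  haveI := hι
  haveI : IsProper (CohB1.ProjSpace.toSpec N k) := Groth.Agent.PnCoh.Chow.isProper_toSpec N k
  haveI : IsProper (X ↘ Spec (CommRingCat.of k)) := by rw [← hιk]; infer_instance
  haveI := Groth.Agent.CurveCohLib.isNoetherian_of_proper (k := k) (X := X)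
  exact Groth.Agent.H28.RefChLim.additive k hnorm
    (Groth.Agent.AmpleVan.exists_ample_of_closedImmersion_projSpace ι) hdim
    (fun i => Groth.Agent.H28.RefChKRows.invertible_inv (hL i) (hLM i))
    (Groth.Agent.H28.RefChKRows.invertible_inv hA hAA') (Groth.Agent.H28.RefChKRows.invertible_inv hB hBB')
    hℒ a b c ha hb hc

end Groth.Agent.S17918
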