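import Groth.Statements.S17919
import Groth.Agent.H28.RefChFrobLim
import Groth.Agent.AmpleVan.Pull
-- import your own Groth.Agent.* helpers here

set_option autoImplicit false
universe u
open CategoryTheory CategoryTheory.Limits AlgebraicGeometry
open RefCh

namespace Groth.Agent.S17919

/-- Let k be an algebraically closed field of characteristic p > 0, X an integral normal scheme of
dimension s + 3 admitting a closed immersion into some P^N_k over k, L_1, …, L_s, A and B invertible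
O_X-modules with inverses M_1, …, M_s, A' and B', E a coherent reflexive O_X-module, and (G_m) its
reflexive Frobenius pull-backs F_X^[m] E (G_0 = E, G_{m+1} ≅ (F_X^* G_m)^**). Suppose χ(c_1(A)
c_1(L_1) ⋯ c_1(L_s) · [G_m]) / p^{2m} → a, χ(c_1(B) c_1(L_1) ⋯ c_1(L_s) · [G_m]) / p^{2m} → b and
χ(c_1(A ⊗ B) c_1(L_1) ⋯ c_1(L_s) · [G_m]) / p^{2m} → c as m → ∞ (alternating sums FGA.intNum in (A',
M_1, …, M_s), (B', M_1, …, M_s) and (A' ⊗ B', M_1, …, M_s)). Then c = a + b: the number ∫_X ch_2(E)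
L_0 L_1 ⋯ L_s, defined as such a limit, is additive in the invertible module L_0. -/
theorem result (k : Type u) [Field k] [IsAlgClosed k] (X : Scheme.{u}) [X.Over (Spec (CommRingCat.of k))]
    [AlgebraicGeometry.IsIntegral X] (hnorm : Pi1.IsNormalScheme X) (s : ℕ) (hdim : topologicalKrullDim X = (s + 3 : ℕ))
    (hproj : ∃ (N : ℕ) (ι : X ⟶ CohB1.ProjSpace N k), IsClosedImmersion ι ∧ ι ≫ CohB1.ProjSpace.toSpec N k = X ↘ Spec (CommRingCat.of k))
    (p : ℕ) [Fact p.Prime] [CharP k p] [FrobSch.IsCharP X p]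
    (L M : Fin s → X.Modules) (hL : ∀ i, PicF.IsInvertible (L i))
    (hLM : ∀ i, Nonempty (CohB1.tensorMod (L i) (M i) ≅ Coh.structureModule X))
    (A A' B B' : X.Modules) (hA : PicF.IsInvertible A) (hB : PicF.IsInvertible B)
    (hAA' : Nonempty (CohB1.tensorMod A A' ≅ Coh.structureModule X))
    (hBB' : Nonempty (CohB1.tensorMod B B' ≅ Coh.structureModule X))
    (E : X.Modules) (hE : Coh.IsCoh E) (hEr : RefHull.IsReflexive E)
    (G : ℕ → X.Modules) (hG0 : G 0 = E)
    (hG : ∀ m, Nonempty (G (m + 1) ≅ RefHull.ddual ((Scheme.Modules.pullback (FrobSch.frob X p)).obj (G m)))) (a b c : ℝ)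
    (ha : Filter.Tendsto (fun m : ℕ => (FGA.intNum k X (s + 3) (Fin.cons A' M) (G m) : ℝ) / ((p : ℝ) ^ (2 * m))) Filter.atTop (nhds a))
    (hb : Filter.Tendsto (fun m : ℕ => (FGA.intNum k X (s + 3) (Fin.cons B' M) (G m) : ℝ) / ((p : ℝ) ^ (2 * m))) Filter.atTop (nhds b))
    (hc : Filter.Tendsto (fun m : ℕ => (FGA.intNum k X (s + 3) (Fin.cons (CohB1.tensorMod A' B') M) (G m) : ℝ) / ((p : ℝ) ^ (2 * m))) Filter.atTop (nhds c)) :
    c = a + b := by
  obtain ⟨N, ι, hι, hιk⟩ := hproj
  haveI := hι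
  haveI : IsProper (CohB1.ProjSpace.toSpec N k) := Groth.Agent.PnCoh.Chow.isProper_toSpec N k
  haveI : IsProper (X ↘ Spec (CommRingCat.of k)) := by rw [← hιk]; infer_instance
  haveI := Groth.Agent.CurveCohLib.isNoetherian_of_proper (k := k) (X := X)
  exact Groth.Agent.H28.RefChFrobLim.main k p hnorm
    (Groth.Agent.AmpleVan.exists_ample_of_closedImmersion_projSpace ι) hdim
    (fun i => Groth.Agent.H28.RefChKRows.invertible_inv (hL i) (hLM i))
    (Groth.Agent.H28.RefChKRows.invertible_inv hA hAA') (Groth.Agent.H28.RefChKRows.invertible_inv hB hBB')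
    hE hEr G hG0 hG a b c ha hb hc

end Groth.Agent.S17919
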