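import Groth.Statements.S17921
import Groth.Agent.H28.RefChFrob
-- import your own Groth.Agent.* helpers here

set_option autoImplicit false
universe u
open CategoryTheory CategoryTheory.Limits AlgebraicGeometry
open RefCh

namespace Groth.Agent.S17921

/-- Let k be an algebraically closed field of characteristic p > 0, X an integral normal scheme of
dimension s + 2 admitting a closed immersion into some P^N_k over k, L_1, …, L_s invertible
O_X-modules with inverses M_1, …, M_s, and ℒ a coherent reflexive O_X-module of rank one (ℒ =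
O_X(D)), with reflexive Frobenius pull-backs G_m = F_X^[m] ℒ (G_0 = ℒ, G_{m+1} ≅ (F_X^* G_m)^**). If
2 χ(c_1(L_1) ⋯ c_1(L_s) · [ℒ^[m]]) / m^2 → a (so a = D^2 · L_1 ⋯ L_s) and χ(c_1(L_1) ⋯ c_1(L_s) ·
[G_m]) / p^{2m} → b (so b = ∫_X ch_2(ℒ) L_1 ⋯ L_s), the Euler characteristics being the alternating
sums FGA.intNum in the M_i, then a = 2 b: the second Chern number ∫_X c_2(ℒ) L_1 ⋯ L_s = a / 2 - b
of a rank one reflexive module vanishes. -/
theorem result (k : Type u) [Field k] [IsAlgClosed k] (X : Scheme.{u}) [X.Over (Spec (CommRingCat.of k))]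
    [AlgebraicGeometry.IsIntegral X] (hnorm : Pi1.IsNormalScheme X) (s : ℕ) (hdim : topologicalKrullDim X = (s + 2 : ℕ))
    (hproj : ∃ (N : ℕ) (ι : X ⟶ CohB1.ProjSpace N k), IsClosedImmersion ι ∧ ι ≫ CohB1.ProjSpace.toSpec N k = X ↘ Spec (CommRingCat.of k))
    (p : ℕ) [Fact p.Prime] [CharP k p] [FrobSch.IsCharP X p]
    (L M : Fin s → X.Modules) (hL : ∀ i, PicF.IsInvertible (L i))
    (hLM : ∀ i, Nonempty (CohB1.tensorMod (L i) (M i) ≅ Coh.structureModule X))
    (ℒ : X.Modules) (hℒ : RefHull.IsRef1 ℒ)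
    (G : ℕ → X.Modules) (hG0 : G 0 = ℒ)
    (hG : ∀ m, Nonempty (G (m + 1) ≅ RefHull.ddual ((Scheme.Modules.pullback (FrobSch.frob X p)).obj (G m)))) (a b : ℝ)
    (ha : Filter.Tendsto (fun m : ℕ => (2 : ℝ) * (FGA.intNum k X (s + 2) M (RefPow.refPow ℒ m) : ℝ) / ((m : ℝ) ^ 2)) Filter.atTop (nhds a))
    (hb : Filter.Tendsto (fun m : ℕ => (FGA.intNum k X (s + 2) M (G m) : ℝ) / ((p : ℝ) ^ (2 * m))) Filter.atTop (nhds b)) :
    a = 2 * b := by
  obtain ⟨N, ι, hι, hιk⟩ := hproj
  haveI := hι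
  haveI : IsProper (CohB1.ProjSpace.toSpec N k) := Groth.Agent.PnCoh.Chow.isProper_toSpec N k
  haveI : IsProper (X ↘ Spec (CommRingCat.of k)) := by rw [← hιk]; infer_instance
  haveI := Groth.Agent.CurveCohLib.isNoetherian_of_proper (k := k) (X := X)
  exact Groth.Agent.H28.RefChFrob.limit_eq p k hnorm hdim.le
    (fun i => Groth.Agent.H28.RefChKRows.invertible_inv (hL i) (hLM i)) hℒ G hG0 hG a b ha hb

end Groth.Agent.S17921
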