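import Groth.Statements.S17924
import Groth.Agent.H28.RefChKRows
-- import your own Groth.Agent.* helpers here

set_option autoImplicit false
universe u
open CategoryTheory CategoryTheory.Limits AlgebraicGeometry
open RefCh

namespace Groth.Agent.S17924

/-- Let k be an algebraically closed field, X an integral normal scheme of dimension n = s + 2 admitting
a closed immersion into some P^N_k over k, δ a dimension function on X (a pair (X, δ) as in the
setup of Chow homology, Cyc.IsSetup) normalised by δ(generic point) = n, so that δ(x) is the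
dimension of the closure of x, and ℒ a coherent reflexive O_X-module of rank one (ℒ = O_X(-D) for a
Weil divisor D). Write K(X) = K_0(Coh(X)) and K_m(X) for the subgroup generated by the classes of
coherent modules whose support has dimension at most m. Then [O_X] - [ℒ] ∈ K_{n-1}(X): the classes
of O_X and ℒ agree in K_0(Coh(X)) / K_{n-1}(X) (Cyc.toK0CohQuot δ n (n - 1)); in the notation [O_D]
= [O_X] - [O_X(-D)], the class [O_D] lies in K_{n-1}(X). -/
theorem result (k : Type u) [Field k] [IsAlgClosed k] (X : Scheme.{u}) [X.Over (Spec (CommRingCat.of k))]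
    [AlgebraicGeometry.IsIntegral X] (hnorm : Pi1.IsNormalScheme X) (s : ℕ) (hdim : topologicalKrullDim X = (s + 2 : ℕ))
    (hproj : ∃ (N : ℕ) (ι : X ⟶ CohB1.ProjSpace N k), IsClosedImmersion ι ∧ ι ≫ CohB1.ProjSpace.toSpec N k = X ↘ Spec (CommRingCat.of k))
    (δ : X → ℤ) (hδ : Cyc.IsSetup X δ) (hδη : δ (genericPoint X) = (s + 2 : ℕ))
    (ℒ : X.Modules) (hℒ : RefHull.IsRef1 ℒ) :
    Cyc.toK0CohQuot δ (s + 2 : ℕ) (s + 1 : ℕ) (Coh.structureModule X) =
      Cyc.toK0CohQuot δ (s + 2 : ℕ) (s + 1 : ℕ) ℒ := by
  haveI := hδ.1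
  refine Groth.Agent.H28.RefChK.tK_eq_iff.2 ?_
  have h := Groth.Agent.H28.RefChK.sub_mem_one hδ.2.2 hnorm hℒ
  rw [hδη] at h
  convert h using 2
  push_cast
  ring

end Groth.Agent.S17924
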