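import Groth.Statements.S17925
import Groth.Agent.H28.RefChAlpha
import Groth.Agent.AmpleVan.Pull
-- import your own Groth.Agent.* helpers here

set_option autoImplicit false
universe u
open CategoryTheory CategoryTheory.Limits AlgebraicGeometry
open RefCh

namespace Groth.Agent.S17925

/-- Let k be an algebraically closed field, X an integral normal scheme of dimension n = s + 2 admitting
a closed immersion into some P^N_k over k, δ a dimension function on X (Cyc.IsSetup) with δ(generic
point) = n, and F a torsion-free coherent O_X-module whose stalk at the generic point has dimension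
r, with W = Λ^r F and W^** coherent (as it is), so that det F = W^** = O_X(c_1(F)) and [O_{-c_1(F)}]
= [O_X] - [W^**]. With K_m(X) ⊆ K_0(Coh(X)) the subgroup generated by coherent modules with support
of dimension at most m, the class α(F) = [F] - r [O_X] + ([O_X] - [W^**]) lies in K_{n-2}(X): it
vanishes in K_0(Coh(X)) / K_{n-2}(X) (Cyc.toK0CohQuot δ n (n - 2)). -/
theorem result (k : Type u) [Field k] [IsAlgClosed k] (X : Scheme.{u}) [X.Over (Spec (CommRingCat.of k))]
    [AlgebraicGeometry.IsIntegral X] (hnorm : Pi1.IsNormalScheme X) (s : ℕ) (hdim : topologicalKrullDim X = (s + 2 : ℕ))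
    (hproj : ∃ (N : ℕ) (ι : X ⟶ CohB1.ProjSpace N k), IsClosedImmersion ι ∧ ι ≫ CohB1.ProjSpace.toSpec N k = X ↘ Spec (CommRingCat.of k))
    (δ : X → ℤ) (hδ : Cyc.IsSetup X δ) (hδη : δ (genericPoint X) = (s + 2 : ℕ))
    (r : ℕ) (F : X.Modules) (hF : Coh.IsCoh F) (hFtf : TorSh.IsTorsionFree F)
    (hrk : Module.finrank (X.presheaf.stalk (genericPoint X)) (F.presheaf.stalk (genericPoint X)) = r) (W : X.Modules) (hW : ExtPow.IsExtPow r F W)
    (hWc : Coh.IsCoh (RefHull.ddual W)) :
    Cyc.toK0CohQuot δ (s + 2 : ℕ) (s : ℕ) F - (r : ℤ) • Cyc.toK0CohQuot δ (s + 2 : ℕ) (s : ℕ) (Coh.structureModule X) +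
      (Cyc.toK0CohQuot δ (s + 2 : ℕ) (s : ℕ) (Coh.structureModule X) -
        Cyc.toK0CohQuot δ (s + 2 : ℕ) (s : ℕ) (RefHull.ddual W)) = 0 := by
  classical
  haveI := hδ.1
  obtain ⟨N, ι, hι, -⟩ := hproj
  haveI := hι
  obtain ⟨A, hA⟩ := Groth.Agent.AmpleVan.exists_ample_of_closedImmersion_projSpace ι
  have h := Groth.Agent.H28.RefChAlpha.alpha_mem hδ.2.2 hnorm hA hF hFtf hrk hW hWc
  rw [hδη] at h
  rw [show ((s + 2 : ℕ) : ℤ) - 2 = (s : ℤ) by push_cast; ring] at h
  have h0 := (QuotientAddGroup.eq_zero_iff _).2 h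
  simp only [Cyc.toK0CohQuot]
  exact h0

end Groth.Agent.S17925
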