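import Groth.Statements.S17926
import Groth.Agent.H28.RefChKRows
-- import your own Groth.Agent.* helpers here

set_option autoImplicit false
universe u
open CategoryTheory CategoryTheory.Limits AlgebraicGeometry
open RefCh

namespace Groth.Agent.S17926

/-- Let k be an algebraically closed field, X an integral normal scheme of dimension n = s + 2 admitting
a closed immersion into some P^N_k over k, δ a dimension function on X (Cyc.IsSetup) with δ(generic
point) = n, L_1, …, L_{n-1} invertible O_X-modules with inverses M_1, …, M_{n-1}, and ℒ a coherent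
reflexive O_X-module of rank one (ℒ = O_X(-D) for a Weil divisor D, [O_D] = [O_X] - [ℒ]). With
c_1(L) · [F] = [F] - [L^{-1} ⊗ F] on K_0(Coh(X)), the class c_1(L_1) ⋯ c_1(L_{n-1}) · [O_D] = Σ_{I ⊆
{1, …, n-1}} (-1)^{|I|} ([M_I ⊗ O_X] - [M_I ⊗ ℒ]), where M_I = ⊗_{i ∈ I} M_i (FGA.tensorList of the
sorted I), lies in K_0(X), the subgroup generated by the classes of coherent modules with
zero-dimensional support: its image in K_0(Coh(X)) / K_0(X) (Cyc.toK0CohQuot δ n 0) vanishes. -/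
theorem result (k : Type u) [Field k] [IsAlgClosed k] (X : Scheme.{u}) [X.Over (Spec (CommRingCat.of k))]
    [AlgebraicGeometry.IsIntegral X] (hnorm : Pi1.IsNormalScheme X) (s : ℕ) (hdim : topologicalKrullDim X = (s + 2 : ℕ))
    (hproj : ∃ (N : ℕ) (ι : X ⟶ CohB1.ProjSpace N k), IsClosedImmersion ι ∧ ι ≫ CohB1.ProjSpace.toSpec N k = X ↘ Spec (CommRingCat.of k))
    (δ : X → ℤ) (hδ : Cyc.IsSetup X δ) (hδη : δ (genericPoint X) = (s + 2 : ℕ))
    (L M : Fin (s + 1) → X.Modules) (hL : ∀ i, PicF.IsInvertible (L i))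
    (hLM : ∀ i, Nonempty (CohB1.tensorMod (L i) (M i) ≅ Coh.structureModule X))
    (ℒ : X.Modules) (hℒ : RefHull.IsRef1 ℒ) :
    (∑ I : Finset (Fin (s + 1)), ((-1 : ℤ) ^ I.card) •
      (Cyc.toK0CohQuot δ (s + 2 : ℕ) 0 (CohB1.tensorMod (FGA.tensorList ((I.sort (· ≤ ·)).map M)) (Coh.structureModule X)) -
        Cyc.toK0CohQuot δ (s + 2 : ℕ) 0 (CohB1.tensorMod (FGA.tensorList ((I.sort (· ≤ ·)).map M)) ℒ))) = 0 := by
  classical
  haveI := hδ.1
  have hn : δ (genericPoint ↥X) = ((s + 2 : ℕ) : ℤ) := hδη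
  have hM : ∀ i, PicF.IsInvertible (M i) := fun i => Groth.Agent.H28.RefChKRows.invertible_inv (hL i) (hLM i)
  choose E hE using fun i => Groth.Agent.H28.RefChK.exists_twist δ ((s + 2 : ℕ) : ℤ) (hM i)
  have hO := Groth.Agent.H28.RefChKRows.cohLe_O hδ.2.2 hn
  have hℒ' : Cyc.CohLe δ ((s + 2 : ℕ) : ℤ) ℒ := hn ▸ Groth.Agent.H28.RefChK.cohLe_gen hδ.2.2 hℒ.1
  have h1 := Groth.Agent.H28.RefChK.sub_mem_one hδ.2.2 hnorm hℒ
  rw [hn] at h1
  have h := Groth.Agent.H28.RefChK.alt_mem M hM E hE hδ.2.2 Finset.univ (k := ((s + 2 : ℕ) : ℤ) - 1) (by omega) _ h1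
  rw [← Groth.Agent.H28.RefChK.sum_eq_alt M hM E hE hO hℒ', Finset.card_univ, Fintype.card_fin,
    show ((s + 2 : ℕ) : ℤ) - 1 - ((s + 1 : ℕ) : ℤ) = 0 by push_cast; ring] at h
  have h0 := (QuotientAddGroup.eq_zero_iff _).2
    (AddSubgroup.closure_mono (by rintro _ ⟨F, hF, rfl⟩; exact ⟨F, hF, rfl⟩) h : _ ∈ AddSubgroup.closure
      {x : KZero.K0sub (Cyc.CohLe δ ((s + 2 : ℕ) : ℤ)) | ∃ F, Cyc.CohLe δ 0 F ∧ x = KZero.clSub (Cyc.CohLe δ ((s + 2 : ℕ) : ℤ)) F})
  refine Eq.trans ?_ h0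
  simp only [← QuotientAddGroup.mk'_apply, map_sum, map_zsmul, map_sub]
  rfl

end Groth.Agent.S17926
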