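import Groth.Statements.S17928
import Groth.Agent.H28.RefChKRows
-- import your own Groth.Agent.* helpers here

set_option autoImplicit false
universe u
open CategoryTheory CategoryTheory.Limits AlgebraicGeometry
open RefCh

namespace Groth.Agent.S17928

/-- Let k be an algebraically closed field, X an integral normal scheme of dimension n = s + 2 admitting
a closed immersion into some P^N_k over k, δ a dimension function on X (Cyc.IsSetup) with δ(generic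
point) = n, L_1, …, L_{n-1} invertible O_X-modules with inverses M_1, …, M_{n-1}, and ℒ_1, ℒ_2
coherent reflexive O_X-modules of rank one (ℒ_j = O_X(-D_j)); write ℒ_1 ⊗̂ ℒ_2 for the reflexive
hull of ℒ_1 ⊗ ℒ_2, which is O_X(-D_1 - D_2). In K(X) = K_0(Coh(X)) (classes KZero.clSub for the
property 'coherent with support of δ-dimension ≤ n', i.e. all coherent modules) put S(ℒ) = Σ_{I ⊆
{1, …, n-1}} (-1)^{|I|} ([M_I ⊗ O_X] - [M_I ⊗ ℒ]) with M_I = ⊗_{i∈I} M_i, so that S(O_X(-D)) =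
c_1(L_1) ⋯ c_1(L_{n-1}) · [O_D]. Then S(ℒ_1 ⊗̂ ℒ_2) = S(ℒ_1) + S(ℒ_2): the K(X)-valued symbol
c_1(L_1) ⋯ c_1(L_{n-1}) · [O_D] is additive, hence ℤ-linear, in the Weil divisor D. -/
theorem result (k : Type u) [Field k] [IsAlgClosed k] (X : Scheme.{u}) [X.Over (Spec (CommRingCat.of k))]
    [AlgebraicGeometry.IsIntegral X] (hnorm : Pi1.IsNormalScheme X) (s : ℕ) (hdim : topologicalKrullDim X = (s + 2 : ℕ))
    (hproj : ∃ (N : ℕ) (ι : X ⟶ CohB1.ProjSpace N k), IsClosedImmersion ι ∧ ι ≫ CohB1.ProjSpace.toSpec N k = X ↘ Spec (CommRingCat.of k))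
    (δ : X → ℤ) (hδ : Cyc.IsSetup X δ) (hδη : δ (genericPoint X) = (s + 2 : ℕ))
    (L M : Fin (s + 1) → X.Modules) (hL : ∀ i, PicF.IsInvertible (L i))
    (hLM : ∀ i, Nonempty (CohB1.tensorMod (L i) (M i) ≅ Coh.structureModule X))
    (ℒ₁ ℒ₂ : X.Modules) (h₁ : RefHull.IsRef1 ℒ₁) (h₂ : RefHull.IsRef1 ℒ₂) :
    (∑ I : Finset (Fin (s + 1)), ((-1 : ℤ) ^ I.card) •
        (KZero.clSub (Cyc.CohLe δ (s + 2 : ℕ)) (CohB1.tensorMod (FGA.tensorList ((I.sort (· ≤ ·)).map M)) (Coh.structureModule X)) -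
          KZero.clSub (Cyc.CohLe δ (s + 2 : ℕ)) (CohB1.tensorMod (FGA.tensorList ((I.sort (· ≤ ·)).map M)) (RefPow.refTensor ℒ₁ ℒ₂)))) =
      (∑ I : Finset (Fin (s + 1)), ((-1 : ℤ) ^ I.card) •
        (KZero.clSub (Cyc.CohLe δ (s + 2 : ℕ)) (CohB1.tensorMod (FGA.tensorList ((I.sort (· ≤ ·)).map M)) (Coh.structureModule X)) -
          KZero.clSub (Cyc.CohLe δ (s + 2 : ℕ)) (CohB1.tensorMod (FGA.tensorList ((I.sort (· ≤ ·)).map M)) ℒ₁))) +
      (∑ I : Finset (Fin (s + 1)), ((-1 : ℤ) ^ I.card) •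
        (KZero.clSub (Cyc.CohLe δ (s + 2 : ℕ)) (CohB1.tensorMod (FGA.tensorList ((I.sort (· ≤ ·)).map M)) (Coh.structureModule X)) -
          KZero.clSub (Cyc.CohLe δ (s + 2 : ℕ)) (CohB1.tensorMod (FGA.tensorList ((I.sort (· ≤ ·)).map M)) ℒ₂))) := by
  classical
  haveI := hδ.1
  have hn : δ (genericPoint ↥X) = ((s + 2 : ℕ) : ℤ) := hδη
  obtain ⟨N, ι, hι, -⟩ := hproj
  haveI := hι
  obtain ⟨A, hA⟩ := Groth.Agent.AmpleVan.exists_ample_of_closedImmersion_projSpace ι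
  have hnn := Groth.Agent.H28.RefChK.nonneg (n := ((s + 2 : ℕ) : ℤ)) hδ.2.2
    (by rw [Int.toNat_natCast]; exact hdim.le) hn (by omega)
  have hM : ∀ i, PicF.IsInvertible (M i) := fun i => Groth.Agent.H28.RefChKRows.invertible_inv (hL i) (hLM i)
  choose E hE using fun i => Groth.Agent.H28.RefChK.exists_twist δ ((s + 2 : ℕ) : ℤ) (hM i)
  have hO := Groth.Agent.H28.RefChKRows.cohLe_O hδ.2.2 hn
  obtain ⟨hR, h2⟩ := Groth.Agent.H28.RefChKRows.mem_two hδ.2.2 hnorm hA hn h₁ h₂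
  have hle : ∀ {F : X.Modules}, Coh.IsCoh F → Cyc.CohLe δ ((s + 2 : ℕ) : ℤ) F := fun hF =>
    hn ▸ Groth.Agent.H28.RefChK.cohLe_gen hδ.2.2 hF
  have h := Groth.Agent.H28.RefChK.alt_mem M hM E hE hδ.2.2 Finset.univ (k := ((s + 2 : ℕ) : ℤ) - 2) (by omega) _ h2
  rw [Groth.Agent.H28.RefChKRows.fil_neg hnn (by rw [Finset.card_univ, Fintype.card_fin]; push_cast; omega),
    AddSubgroup.mem_bot] at h
  have e1 := Groth.Agent.H28.RefChK.sum_eq_alt M hM E hE hO (hle hR)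
  have e2 := Groth.Agent.H28.RefChK.sum_eq_alt M hM E hE hO (hle h₁.1)
  have e3 := Groth.Agent.H28.RefChK.sum_eq_alt M hM E hE hO (hle h₂.1)
  refine e1.trans (Eq.trans ?_ (congrArg₂ (· + ·) e2 e3).symm)
  simp only [map_sub, map_add] at h ⊢
  rw [← sub_eq_zero]
  rw [← neg_eq_zero]
  refine Eq.trans ?_ h
  abel

end Groth.Agent.S17928
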