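import Groth.Statements.S17929
import Groth.Agent.H28.RefChKRows
-- import your own Groth.Agent.* helpers here

set_option autoImplicit false
universe u
open CategoryTheory CategoryTheory.Limits AlgebraicGeometry
open RefCh

namespace Groth.Agent.S17929

/-- Let k be an algebraically closed field, X an integral normal scheme of dimension n = s + 2 admitting
a closed immersion into some P^N_k over k, δ a dimension function on X (Cyc.IsSetup) with δ(generic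
point) = n, L_1, …, L_s, A and B invertible O_X-modules with inverses M_1, …, M_s, A' and B' (so A'
⊗ B' is an inverse of A ⊗ B), and ℒ a coherent reflexive O_X-module of rank one (ℒ = O_X(-D)). For a
family (N_0, …, N_s) of modules put S_N(ℒ) = Σ_{I ⊆ {0, …, s}} (-1)^{|I|} ([N_I ⊗ O_X] - [N_I ⊗ ℒ])
in K(X) = K_0(Coh(X)) (classes KZero.clSub of coherent modules), N_I = ⊗_{i∈I} N_i, so that S_{(A',
M_1, …, M_s)}(O_X(-D)) = c_1(A) c_1(L_1) ⋯ c_1(L_s) · [O_D]. Then S_{(A' ⊗ B', M)}(ℒ) = S_{(A',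
M)}(ℒ) + S_{(B', M)}(ℒ): the K(X)-valued symbol c_1(L_0) c_1(L_1) ⋯ c_1(L_s) · [O_D] is additive,
hence ℤ-linear, in the invertible module L_0. -/
theorem result (k : Type u) [Field k] [IsAlgClosed k] (X : Scheme.{u}) [X.Over (Spec (CommRingCat.of k))]
    [AlgebraicGeometry.IsIntegral X] (hnorm : Pi1.IsNormalScheme X) (s : ℕ) (hdim : topologicalKrullDim X = (s + 2 : ℕ))
    (hproj : ∃ (N : ℕ) (ι : X ⟶ CohB1.ProjSpace N k), IsClosedImmersion ι ∧ ι ≫ CohB1.ProjSpace.toSpec N k = X ↘ Spec (CommRingCat.of k))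
    (δ : X → ℤ) (hδ : Cyc.IsSetup X δ) (hδη : δ (genericPoint X) = (s + 2 : ℕ))
    (L M : Fin s → X.Modules) (hL : ∀ i, PicF.IsInvertible (L i))
    (hLM : ∀ i, Nonempty (CohB1.tensorMod (L i) (M i) ≅ Coh.structureModule X))
    (A A' B B' : X.Modules) (hA : PicF.IsInvertible A) (hB : PicF.IsInvertible B)
    (hAA' : Nonempty (CohB1.tensorMod A A' ≅ Coh.structureModule X))
    (hBB' : Nonempty (CohB1.tensorMod B B' ≅ Coh.structureModule X))
    (ℒ : X.Modules) (hℒ : RefHull.IsRef1 ℒ) :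
    (∑ I : Finset (Fin (s + 1)), ((-1 : ℤ) ^ I.card) •
        (KZero.clSub (Cyc.CohLe δ (s + 2 : ℕ)) (CohB1.tensorMod (FGA.tensorList ((I.sort (· ≤ ·)).map (Fin.cons (CohB1.tensorMod A' B') M))) (Coh.structureModule X)) -
          KZero.clSub (Cyc.CohLe δ (s + 2 : ℕ)) (CohB1.tensorMod (FGA.tensorList ((I.sort (· ≤ ·)).map (Fin.cons (CohB1.tensorMod A' B') M))) ℒ))) =
      (∑ I : Finset (Fin (s + 1)), ((-1 : ℤ) ^ I.card) •
        (KZero.clSub (Cyc.CohLe δ (s + 2 : ℕ)) (CohB1.tensorMod (FGA.tensorList ((I.sort (· ≤ ·)).map (Fin.cons A' M))) (Coh.structureModule X)) -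
          KZero.clSub (Cyc.CohLe δ (s + 2 : ℕ)) (CohB1.tensorMod (FGA.tensorList ((I.sort (· ≤ ·)).map (Fin.cons A' M))) ℒ))) +
      (∑ I : Finset (Fin (s + 1)), ((-1 : ℤ) ^ I.card) •
        (KZero.clSub (Cyc.CohLe δ (s + 2 : ℕ)) (CohB1.tensorMod (FGA.tensorList ((I.sort (· ≤ ·)).map (Fin.cons B' M))) (Coh.structureModule X)) -
          KZero.clSub (Cyc.CohLe δ (s + 2 : ℕ)) (CohB1.tensorMod (FGA.tensorList ((I.sort (· ≤ ·)).map (Fin.cons B' M))) ℒ))) := by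
  classical
  haveI := hδ.1
  have hn : δ (genericPoint ↥X) = ((s + 2 : ℕ) : ℤ) := hδη
  have hnn := Groth.Agent.H28.RefChK.nonneg (n := ((s + 2 : ℕ) : ℤ)) hδ.2.2
    (by rw [Int.toNat_natCast]; exact hdim.le) hn (by omega)
  have hM : ∀ i, PicF.IsInvertible (M i) := fun i => Groth.Agent.H28.RefChKRows.invertible_inv (hL i) (hLM i)
  have hA' := Groth.Agent.H28.RefChKRows.invertible_inv hA hAA'
  have hB' := Groth.Agent.H28.RefChKRows.invertible_inv hB hBB'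
  have hAB := Groth.Agent.InvX.isInvertible_tensorMod hA' hB'
  choose E hE using fun i => Groth.Agent.H28.RefChK.exists_twist δ ((s + 2 : ℕ) : ℤ) (hM i)
  obtain ⟨EA, hEA⟩ := Groth.Agent.H28.RefChK.exists_twist δ ((s + 2 : ℕ) : ℤ) hA'
  obtain ⟨EB, hEB⟩ := Groth.Agent.H28.RefChK.exists_twist δ ((s + 2 : ℕ) : ℤ) hB'
  obtain ⟨EC, hEC⟩ := Groth.Agent.H28.RefChK.exists_twist δ ((s + 2 : ℕ) : ℤ) hAB
  have hO := Groth.Agent.H28.RefChKRows.cohLe_O hδ.2.2 hn
  have hℒ' : Cyc.CohLe δ ((s + 2 : ℕ) : ℤ) ℒ := hn ▸ Groth.Agent.H28.RefChK.cohLe_gen hδ.2.2 hℒ.1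
  have hC : EC = EB.comp EA := Groth.Agent.KZ.K0sub_hom_ext _ fun F hF => by
    show EC (Groth.Agent.H28.RefChK.c δ _ F) = EB (EA (Groth.Agent.H28.RefChK.c δ _ F))
    rw [hEC F hF, hEA F hF, hEB _ (Groth.Agent.H28.RefChK.cohLe_tm hA' hF)]
    exact (Groth.Agent.H28.RefChK.c_iso (Groth.Agent.H28.RefChK.assoc F A' B')
      (Groth.Agent.H28.RefChK.cohLe_tm hB' (Groth.Agent.H28.RefChK.cohLe_tm hA' hF))
      (Groth.Agent.H28.RefChK.cohLe_tm hAB hF)).symm
  have hcons : ∀ {P : X.Modules} {EP}, PicF.IsInvertible P →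
      (∀ F, Cyc.CohLe δ ((s + 2 : ℕ) : ℤ) F → EP (Groth.Agent.H28.RefChK.c δ ((s + 2 : ℕ) : ℤ) F) =
        Groth.Agent.H28.RefChK.c δ ((s + 2 : ℕ) : ℤ) (CohB1.tensorMod F P)) →
      (∀ i, PicF.IsInvertible ((Fin.cons P M : Fin (s + 1) → X.Modules) i)) ∧
      ∀ i F, Cyc.CohLe δ ((s + 2 : ℕ) : ℤ) F →
        (Fin.cons EP E : Fin (s + 1) → _) i (Groth.Agent.H28.RefChK.c δ ((s + 2 : ℕ) : ℤ) F) =
          Groth.Agent.H28.RefChK.c δ ((s + 2 : ℕ) : ℤ) (CohB1.tensorMod F ((Fin.cons P M : Fin (s + 1) → X.Modules) i)) :=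
    fun {P EP} hP hEP => ⟨fun i => by refine Fin.cases ?_ (fun j => ?_) i <;> simp [hP, hM],
      fun i => by refine Fin.cases ?_ (fun j => ?_) i <;> simpa using (by first | exact hEP | exact hE _)⟩
  obtain ⟨iA, eA⟩ := hcons hA' hEA
  obtain ⟨iB, eB⟩ := hcons hB' hEB
  obtain ⟨iC, eC⟩ := hcons hAB hEC
  have h1 := Groth.Agent.H28.RefChK.sub_mem_one hδ.2.2 hnorm hℒ
  rw [hn] at h1
  refine (Groth.Agent.H28.RefChK.sum_eq_alt _ iC _ eC hO hℒ').trans (Eq.trans ?_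
    (congrArg₂ (· + ·) (Groth.Agent.H28.RefChK.sum_eq_alt _ iA _ eA hO hℒ')
      (Groth.Agent.H28.RefChK.sum_eq_alt _ iB _ eB hO hℒ')).symm)
  set x := Groth.Agent.H28.RefChK.c δ ((s + 2 : ℕ) : ℤ) (Coh.structureModule X) -
    Groth.Agent.H28.RefChK.c δ ((s + 2 : ℕ) : ℤ) ℒ
  let T : Finset (Fin (s + 1)) := (Finset.univ : Finset (Fin s)).map (Fin.succEmb s)
  have h0T : (0 : Fin (s + 1)) ∉ T := by simp [T, Fin.succ_ne_zero]
  have huniv : (Finset.univ : Finset (Fin (s + 1))) = insert 0 T := by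
    ext i
    refine Fin.cases ?_ (fun j => ?_) i <;> simp [T]
  have hsame : ∀ (P Q : _), Groth.Agent.H28.RefChK.alt (Fin.cons P E : Fin (s + 1) → _) T =
      Groth.Agent.H28.RefChK.alt (Fin.cons Q E : Fin (s + 1) → _) T := fun P Q => by
    refine Finset.sum_congr rfl fun I hI => congrArg _ ?_
    have hsucc : ∀ i ∈ I.sort (· ≤ ·), (Fin.cons P E : Fin (s + 1) → _) i = (Fin.cons Q E : Fin (s + 1) → _) i := by
      intro i hi
      obtain ⟨j, -, rfl⟩ := Finset.mem_map.1 (Finset.mem_powerset.1 hI ((Finset.mem_sort _).1 hi))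
      simp
    revert hsucc
    induction I.sort (· ≤ ·) with
    | nil => intro; rfl
    | cons i l ih =>
      intro hl
      simp only [Groth.Agent.H28.RefChK.Φ]
      rw [ih fun j hj => hl j (List.mem_cons_of_mem _ hj), hl i (List.mem_cons_self ..)]
  rw [huniv, Groth.Agent.H28.RefChK.alt_insert _ iC _ eC h0T, Groth.Agent.H28.RefChK.alt_insert _ iA _ eA h0T,
    Groth.Agent.H28.RefChK.alt_insert _ iB _ eB h0T, hsame EC EA, hsame EB EA]
  simp only [Fin.cons_zero, AddMonoidHom.sub_apply, AddMonoidHom.comp_apply, hC]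
  have h2 := Groth.Agent.H28.RefChK.map_sub_twist hδ.2.2 hA' EA hEA (k := ((s + 2 : ℕ) : ℤ) - 1) (by omega) h1
  have h3 := Groth.Agent.H28.RefChK.map_sub_twist hδ.2.2 hB' EB hEB (k := ((s + 2 : ℕ) : ℤ) - 1 - 1) (by omega) h2
  have h4 := Groth.Agent.H28.RefChK.alt_mem _ iA _ eA hδ.2.2 T (by omega) _ h3
  rw [Groth.Agent.H28.RefChKRows.fil_neg hnn
    (by simp only [T, Finset.card_map, Finset.card_univ, Fintype.card_fin]; push_cast; omega),
    AddSubgroup.mem_bot] at h4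
  simp only [map_sub] at h4
  rw [← sub_eq_zero]
  rw [← neg_eq_zero]
  refine Eq.trans ?_ h4
  abel

end Groth.Agent.S17929
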