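import Groth.Statements.S1793
import Groth.Agent.KFlatLib.Ring.RelDualizingGeneral
-- import your own Groth.Agent.* helpers here

set_option autoImplicit false
universe u
open CategoryTheory
open scoped TensorProduct
attribute [local instance] HasDerivedCategory.standard
open Dual2

namespace Groth.Agent.S1793

/-- Let R → A be a ring map which is flat and of finite presentation and K a relative dualizing complex
(relative dualizing: R-perfect with RHom_{A⊗_R A}(A, K ⊗^L_A (A ⊗_R A)) ≅ A, the base change taken
along the left coprojection under its existence hypothesis and RHom_{A⊗_R A}(A, −) given as a right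
adjoint Rμ of restriction along the multiplication map). Then A → RHom_A(K, K) is an isomorphism: a
↦ a·id is a bijection from A onto End(K) in D(A), and there are no nonzero maps K → K[i] for i ≠ 0. -/
theorem result (R A : Type u) [CommRing R] [CommRing A] [Algebra R A] [Module.Flat R A] [Algebra.FinitePresentation R A] [DRing.HasLBaseChange (Algebra.TensorProduct.includeLeftRingHom : A →+* TensorProduct R A A)] (Rμ : Dual.D (TensorProduct R A A) ⥤ Dual.D A) (adjμ : DRing.restrictD (Algebra.TensorProduct.lmul' R (S := A)).toRingHom ⊣ Rμ) (K : Dual.D A) (hK : Dual2.IsRelDualizing R A Rμ K) : Function.Bijective (fun a : A => a • (CategoryTheory.CategoryStruct.id K)) ∧ ∀ i : ℤ, i ≠ 0 → Subsingleton (K ⟶ K⟦i⟧) := by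
  obtain ⟨n, ψ₀, hψ, -⟩ := Algebra.FinitePresentation.out (R := R) (A := A)
  let ψ := ψ₀.toRingHom
  have hR : ψ.comp MvPolynomial.C = algebraMap R A := RingHom.ext fun r => ψ₀.commutes r
  obtain ⟨Rψ, ⟨a⟩⟩ := Groth.Agent.KFlatLib.exists_shriek ψ
  obtain ⟨e⟩ := Groth.Agent.KFlatLib.nonempty_iso_shriek_unit ψ hψ hR a Rμ adjμ hK
  obtain ⟨h₁, h₂⟩ := Groth.Agent.KFlatLib.bijective_smul_shriek_unit' ψ hψ hR a
  refine ⟨?_, fun i hi => ?_⟩
  · let c := CategoryTheory.Linear.homCongr A e e
    have : (fun x : A => x • (CategoryTheory.CategoryStruct.id K)) =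
        c.symm ∘ (fun x : A => x • (CategoryTheory.CategoryStruct.id (Rψ.obj _))) := funext fun x => by
      change _ = c.symm (x • _)
      rw [map_smul]
      simp [c, CategoryTheory.Linear.homCongr, CategoryTheory.Iso.homCongr]
    rw [this]
    exact c.symm.bijective.comp h₁
  · haveI := h₂ i hi
    exact (CategoryTheory.Linear.homCongr A e ((CategoryTheory.shiftFunctor (Dual.D A) i).mapIso e)).toEquiv.subsingleton

end Groth.Agent.S1793
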