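import Groth.Statements.S17930
import Groth.Agent.H28.RefChBC
import Groth.Agent.H28.RefChKRows
import Groth.Agent.CurveCohLib.Rank
import Groth.Agent.PnCoh.Chow.Proper
-- import your own Groth.Agent.* helpers here

set_option autoImplicit false
universe u
open CategoryTheory CategoryTheory.Limits AlgebraicGeometry
open RefCh

namespace Groth.Agent.S17930

/-- Let k be an algebraically closed field of characteristic p > 0, X an integral normal scheme of
dimension s + 2 admitting a closed immersion into some P^N_k over k, L_1, …, L_s invertible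
O_X-modules with inverses M_1, …, M_s, E a coherent reflexive O_X-module and (G_m) its reflexive
Frobenius pull-backs (G_0 = E, G_{m+1} ≅ (F_X^* G_m)^**). Let K ⊇ k be an algebraically closed
extension field, X_K = X ×_k Spec K with projection π : X_K → X, and (G'_m) reflexive Frobenius
pull-backs of E_K = π^*E on X_K (G'_0 = π^*E, G'_{m+1} ≅ (F_{X_K}^* G'_m)^**). If χ(c_1(L_1) ⋯
c_1(L_s) · [G_m]) / p^{2m} → b (alternating sums FGA.intNum over k in the M_i) and χ(c_1(π^*L_1) ⋯
c_1(π^*L_s) · [G'_m]) / p^{2m} → b' (alternating sums FGA.intNum over K in the π^*M_i), then b' = b: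
the number ∫_X ch_2(E) L_1 ⋯ L_s is unchanged by algebraically closed base field extension. -/
theorem result (k : Type u) [Field k] [IsAlgClosed k] (X : Scheme.{u}) [X.Over (Spec (CommRingCat.of k))]
    [AlgebraicGeometry.IsIntegral X] (hnorm : Pi1.IsNormalScheme X) (s : ℕ) (hdim : topologicalKrullDim X = (s + 2 : ℕ))
    (hproj : ∃ (N : ℕ) (ι : X ⟶ CohB1.ProjSpace N k), IsClosedImmersion ι ∧ ι ≫ CohB1.ProjSpace.toSpec N k = X ↘ Spec (CommRingCat.of k))
    (p : ℕ) [Fact p.Prime] [CharP k p] [FrobSch.IsCharP X p]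
    (L M : Fin s → X.Modules) (hL : ∀ i, PicF.IsInvertible (L i))
    (hLM : ∀ i, Nonempty (CohB1.tensorMod (L i) (M i) ≅ Coh.structureModule X))
    (E : X.Modules) (hE : Coh.IsCoh E) (hEr : RefHull.IsReflexive E)
    (G : ℕ → X.Modules) (hG0 : G 0 = E)
    (hG : ∀ m, Nonempty (G (m + 1) ≅ RefHull.ddual ((Scheme.Modules.pullback (FrobSch.frob X p)).obj (G m)))) (b : ℝ)
    (hb : Filter.Tendsto (fun m : ℕ => (FGA.intNum k X (s + 2) M (G m) : ℝ) / ((p : ℝ) ^ (2 * m))) Filter.atTop (nhds b))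
    (K : Type u) [Field K] [IsAlgClosed K] [Algebra k K] [FrobSch.IsCharP (Curv2.bc k X K) p]
    (G' : ℕ → (Curv2.bc k X K).Modules) (hG'0 : G' 0 = (Scheme.Modules.pullback (Curv2.bcFst k X K)).obj E)
    (hG' : ∀ m, Nonempty (G' (m + 1) ≅ RefHull.ddual ((Scheme.Modules.pullback (FrobSch.frob (Curv2.bc k X K) p)).obj (G' m))))
    (b' : ℝ)
    (hb' : letI : (Curv2.bc k X K).Over (Spec (CommRingCat.of K)) := ⟨Curv2.bcSnd k X K⟩
      Filter.Tendsto (fun m : ℕ => (FGA.intNum K (Curv2.bc k X K) (s + 2) (fun i => (Scheme.Modules.pullback (Curv2.bcFst k X K)).obj (M i)) (G' m) : ℝ) / ((p : ℝ) ^ (2 * m))) Filter.atTop (nhds b')) :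
    b' = b := by
  classical
  obtain ⟨N, ι, hι, hιk⟩ := hproj
  haveI := hι
  haveI : IsProper (CohB1.ProjSpace.toSpec N k) := Groth.Agent.PnCoh.Chow.isProper_toSpec N k
  haveI : IsProper (X ↘ Spec (CommRingCat.of k)) := by rw [← hιk]; infer_instance
  haveI := Groth.Agent.CurveCohLib.isNoetherian_of_proper (k := k) (X := X)
  have hM : ∀ i, PicF.IsInvertible (M i) := fun i => Groth.Agent.H28.RefChKRows.invertible_inv (hL i) (hLM i)
  have sq : IsPullback (Curv2.bcFst k X K) (Curv2.bcSnd k X K) (X ↘ Spec (CommRingCat.of k))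
      (Spec.map (CommRingCat.ofHom (algebraMap k K))) := IsPullback.of_hasPullback _ _
  haveI : Flat (Spec.map (CommRingCat.ofHom (algebraMap k K))) :=
    (HasRingHomProperty.Spec_iff (P := @Flat)).2 (RingHom.flat_algebraMap_iff.2 inferInstance)
  haveI : Flat (Curv2.bcFst k X K) := MorphismProperty.of_isPullback (P := @Flat) sq.flip inferInstance
  haveI : IsProper (Curv2.bcSnd k X K) := MorphismProperty.of_isPullback (P := @IsProper) sq inferInstance
  letI : (Curv2.bc k X K).Over (Spec (CommRingCat.of K)) := ⟨Curv2.bcSnd k X K⟩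
  haveI : IsProper ((Curv2.bc k X K) ↘ Spec (CommRingCat.of K)) := inferInstanceAs (IsProper (Curv2.bcSnd k X K))
  haveI := Groth.Agent.CurveCohLib.isNoetherian_of_proper (k := K) (X := Curv2.bc k X K)
  have hit := Groth.Agent.H28.RefChBC.iter_pullback (Curv2.bcFst k X K) p (G := G) (G' := G') (by rw [hG0]; exact hE)
    (by rw [hG0, hG'0]; exact ⟨Iso.refl _⟩) hG hG'
  refine tendsto_nhds_unique hb' (hb.congr fun m => ?_)
  obtain ⟨hc, ⟨e⟩⟩ := hit m
  rw [Groth.Agent.H28.RefChBC.intNum_bc (k := k) (E := K) (Curv2.bcFst k X K) sq M hM hc.1 e]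

end Groth.Agent.S17930
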