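import Groth.Statements.S17933
import Groth.Agent.MultCrvLib.Basic

set_option autoImplicit false
universe u
open MultCrv

namespace Groth.Agent.S17933

/-- Let R be a discrete valuation ring, n ≥ 1, A = R[X]/(X^n) with z the class of X, and M a finitely
generated A-module. Then M is torsion-free as an R-module if and only if the submodule M^(1) of
elements killed by z is a free R-module. (This is the statement at a closed point of the sheaf
statement: for a primitive multiple curve of multiplicity n the local ring at a closed point is of
the form R[X]/(X^n) with R the local ring of the reduced smooth curve, torsion-freeness is the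
absence of sections with finite support, and local freeness on the reduced curve is freeness of the
stalk; the row is stated for every discrete valuation ring R.) -/
theorem result (R : Type u) [CommRing R] [IsDomain R] [IsDiscreteValuationRing R] (n : ℕ) (hn : 1 ≤ n) (M : Type u) [AddCommGroup M] [Module (MultCrv.Rn R n) M] [Module R M] [IsScalarTower R (MultCrv.Rn R n) M] [Module.Finite (MultCrv.Rn R n) M] : Module.IsTorsionFree R M ↔ Module.Free R ↥(MultCrv.filt2 R n M 1) := by
  classical
  haveI := Groth.Agent.MultCrvLib.finite_R (R := R) (n := n) (M := M) hn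
  haveI : IsNoetherian R M := isNoetherian_of_isNoetherianRing_of_finite R M
  haveI : Module.Finite R ↥(MultCrv.filt2 R n M 1) :=
    Module.Finite.of_injective ((MultCrv.filt2 R n M 1).subtype.restrictScalars R) Subtype.val_injective
  constructor
  · intro h
    haveI : Module.IsTorsionFree R ↥(MultCrv.filt2 R n M 1) := inferInstance
    infer_instance
  · intro h
    refine Module.IsTorsionFree.mk fun r hr => ?_
    rw [isSMulRegular_iff_right_eq_zero_of_smul]
    intro u hu
    by_contra hu0
    have hex : ∃ j, MultCrv.z R n ^ j • u = 0 := ⟨n, Groth.Agent.MultCrvLib.z_pow_smul le_rfl u⟩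
    have hj0 : Nat.find hex ≠ 0 := fun h0 => hu0 (by simpa [h0] using Nat.find_spec hex)
    obtain ⟨j, hj⟩ : ∃ j, Nat.find hex = j + 1 := ⟨Nat.find hex - 1, by omega⟩
    have hv : MultCrv.z R n ^ j • u ∈ MultCrv.filt2 R n M 1 := by
      change MultCrv.z R n ^ 1 • MultCrv.z R n ^ j • u = 0
      rw [smul_smul, ← pow_add, add_comm 1 j, ← hj]
      exact Nat.find_spec hex
    have hv0 : MultCrv.z R n ^ j • u ≠ 0 := Nat.find_min hex (by omega)
    have h2 : r • (⟨_, hv⟩ : ↥(MultCrv.filt2 R n M 1)) = 0 := Subtype.ext (by
      rw [Submodule.coe_smul_of_tower, ZeroMemClass.coe_zero, smul_comm, hu, smul_zero])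
    exact hv0 (congrArg Subtype.val (((isSMulRegular_iff_right_eq_zero_of_smul (R := R)).1 hr.isSMulRegular) _ h2))

end Groth.Agent.S17933
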