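import Groth.Statements.S17935
import Groth.Agent.MultCrvLib.Basic

set_option autoImplicit false
universe u
open MultCrv

namespace Groth.Agent.S17935

/-- Let R be a discrete valuation ring, n ≥ 1, A = R[X]/(X^n), and M a finitely generated A-module. Then
M is reflexive over A (the evaluation map into the double A-dual is bijective) if and only if M is
torsion-free as an R-module. (Statement at a closed point of the sheaf statement on a primitive
multiple curve of multiplicity n, whose local rings are of the form R[X]/(X^n) with R the local ring
of the reduced smooth curve, torsion-freeness of a coherent sheaf there meaning no nonzero subsheaf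
with finite support; stated for every discrete valuation ring R.) -/
theorem result (R : Type u) [CommRing R] [IsDomain R] [IsDiscreteValuationRing R] (n : ℕ) (hn : 1 ≤ n) (M : Type u) [AddCommGroup M] [Module (MultCrv.Rn R n) M] [Module R M] [IsScalarTower R (MultCrv.Rn R n) M] [Module.Finite (MultCrv.Rn R n) M] : Module.IsReflexive (MultCrv.Rn R n) M ↔ Module.IsTorsionFree R M := by
  haveI := Groth.Agent.MultCrvLib.finite_R (R := R) (n := n) (M := M) hn
  rw [Groth.Agent.MultCrvLib.eval_bijective_iff (R := R) (M := M) hn]
  constructor
  · intro h
    exact Function.Injective.moduleIsTorsionFree _ h.bijective_dual_eval'.1 (fun r m => map_smul _ r m)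
  · intro h
    haveI : Module.Free R M := inferInstance
    infer_instance

end Groth.Agent.S17935
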