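import Groth.Statements.S17936
import Groth.Agent.MultCrvLib.Ext

set_option autoImplicit false
universe u
open MultCrv

namespace Groth.Agent.S17936

open CategoryTheory in
/-- Let R be a discrete valuation ring, n ≥ 1, A = R[X]/(X^n), and M a finitely generated A-module that
is torsion-free as an R-module. Then Ext^i_A(M, A) = 0 for every i ≥ 1. (Statement at a closed point
of the sheaf statement on a primitive multiple curve of multiplicity n, whose local rings are of the
form R[X]/(X^n) with R the local ring of the reduced smooth curve; stated for every discrete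
valuation ring R.) -/
theorem result (R : Type u) [CommRing R] [IsDomain R] [IsDiscreteValuationRing R] (n : ℕ) (hn : 1 ≤ n) (M : Type u) [AddCommGroup M] [Module (MultCrv.Rn R n) M] [Module R M] [IsScalarTower R (MultCrv.Rn R n) M] [Module.Finite (MultCrv.Rn R n) M] [Module.IsTorsionFree R M] (i : ℕ) (hi : 1 ≤ i) : Subsingleton (Abelian.Ext (ModuleCat.of (MultCrv.Rn R n) M) (ModuleCat.of (MultCrv.Rn R n) (MultCrv.Rn R n)) i) := by
  obtain ⟨j, rfl⟩ : ∃ j, i = j + 1 := ⟨i - 1, by omega⟩
  exact Groth.Agent.MultCrvLib.subsingleton_ext hn j M

end Groth.Agent.S17936
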