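import Groth.Statements.S1794
import Groth.Agent.KFlatLib.Ring.RelDualizingGeneral
-- import your own Groth.Agent.* helpers here

set_option autoImplicit false
universe u
open CategoryTheory
open scoped TensorProduct
attribute [local instance] HasDerivedCategory.standard
open Dual2

namespace Groth.Agent.S1794

/-- Let R → A be a ring map which is flat and of finite presentation. (1) There exists a relative
dualizing complex K (relative dualizing: R-perfect with RHom_{A⊗_R A}(A, K ⊗^L_A (A ⊗_R A)) ≅ A, the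
base change taken along the left coprojection under its existence hypothesis and RHom_{A⊗_R A}(A, −)
given as a right adjoint Rμ of restriction along the multiplication map). (2) For any ring map R →
R', with A' = R' ⊗_R A and assuming the derived base change D(A) → D(A') exists, the base change of
such a K is a relative dualizing complex for R' → A' (for any choice of the corresponding right
adjoint over A' ⊗_{R'} A'). -/
theorem result (R A : Type u) [CommRing R] [CommRing A] [Algebra R A] [Module.Flat R A] [Algebra.FinitePresentation R A] [DRing.HasLBaseChange (Algebra.TensorProduct.includeLeftRingHom : A →+* TensorProduct R A A)] (Rμ : Dual.D (TensorProduct R A A) ⥤ Dual.D A) (adjμ : DRing.restrictD (Algebra.TensorProduct.lmul' R (S := A)).toRingHom ⊣ Rμ) : (∃ K : Dual.D A, Dual2.IsRelDualizing R A Rμ K) ∧ ∀ (K : Dual.D A), Dual2.IsRelDualizing R A Rμ K → ∀ (R' : Type u) [CommRing R'] [Algebra R R'] [DRing.HasLBaseChange (Algebra.TensorProduct.includeRight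 : A →ₐ[R] R' ⊗[R] A).toRingHom] [DRing.HasLBaseChange (Algebra.TensorProduct.includeLeftRingHom : R' ⊗[R] A →+* TensorProduct R' (R' ⊗[R] A) (R' ⊗[R] A))] (Rμ' : Dual.D (TensorProduct R' (R' ⊗[R] A) (R' ⊗[R] A)) ⥤ Dual.D (R' ⊗[R] A)), (DRing.restrictD (Algebra.TensorProduct.lmul' R' (S := R' ⊗[R] A)).toRingHom ⊣ Rμ') → Dual2.IsRelDualizing R' (R' ⊗[R] A) Rμ' ((DRing.LBaseChange (Algebra.TensorProduct.includeRight : A →ₐ[R] R' ⊗[R] A).toRingHom).obj K) := by
  obtain ⟨n, ψ₀, hψ, -⟩ := Algebra.FinitePresentation.out (R := R) (A := A)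
  let ψ := ψ₀.toRingHom
  have hR : ψ.comp MvPolynomial.C = algebraMap R A := RingHom.ext fun r => ψ₀.commutes r
  obtain ⟨Rψ, ⟨a⟩⟩ := Groth.Agent.KFlatLib.exists_shriek ψ
  have hW := Groth.Agent.KFlatLib.isRelDualizing_shriek_unit' ψ hψ hR a Rμ adjμ
  refine ⟨⟨_, hW⟩, fun K hK R' _ _ _ _ Rμ' adjμ' => ?_⟩
  obtain ⟨eK⟩ := Groth.Agent.KFlatLib.nonempty_iso_shriek_unit ψ hψ hR a Rμ adjμ hK
  let ψ' := Groth.Agent.KFlatLib.presBC R' ψ
  have hψ' := Groth.Agent.KFlatLib.surjective_presBC (R' := R') ψ hψ hR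
  have hR' : ψ'.comp MvPolynomial.C = algebraMap R' (R' ⊗[R] A) := Groth.Agent.KFlatLib.presBC_C ψ
  obtain ⟨Rψ', ⟨a'⟩⟩ := Groth.Agent.KFlatLib.exists_shriek ψ'
  obtain ⟨hp, ⟨d⟩⟩ := Groth.Agent.KFlatLib.isRelDualizing_shriek_unit' ψ' hψ' hR' a' Rμ' adjμ'
  haveI := Groth.Agent.KFlatLib.hasLBase (algebraMap R (MvPolynomial (Fin n) R))
  haveI := Groth.Agent.KFlatLib.hasLBase (algebraMap R' (MvPolynomial (Fin n) R'))
  haveI := Groth.Agent.KFlatLib.hasLBase (algebraMap R R')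
  haveI := Groth.Agent.KFlatLib.hasLBase (Groth.Agent.KFlatLib.incRight R R' A)
  obtain ⟨t⟩ := Groth.Agent.KFlatLib.nonempty_shriek_baseChange_of_flat_left' ψ hψ hR (R' := R')
    (algebraMap R _) rfl a (algebraMap R' _) rfl a' (DTen.unit R)
  obtain ⟨u₁⟩ := Groth.Agent.KFlatLib.nonempty_LBase_unit (algebraMap R (MvPolynomial (Fin n) R))
  obtain ⟨u₂⟩ := Groth.Agent.KFlatLib.nonempty_LBase_unit (algebraMap R R')
  obtain ⟨u₃⟩ := Groth.Agent.KFlatLib.nonempty_LBase_unit (algebraMap R' (MvPolynomial (Fin n) R'))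
  obtain ⟨s⟩ := Groth.Agent.KFlatLib.nonempty_shriek_shift a (n : ℤ)
  obtain ⟨s'⟩ := Groth.Agent.KFlatLib.nonempty_shriek_shift a' (n : ℤ)
  obtain ⟨eB⟩ := Groth.Agent.KFlatLib.nonempty_LBaseChange_iso (Groth.Agent.KFlatLib.incRight R R' A)
  let α := (DRing.LBaseChange (Algebra.TensorProduct.includeRight : A →ₐ[R] R' ⊗[R] A).toRingHom).obj K
  let e : α ≅ Rψ'.obj ((CategoryTheory.shiftFunctor _ (n : ℤ)).obj (DTen.unit (MvPolynomial (Fin n) R'))) :=
    eB.app K ≪≫ (DTen.LBase _).mapIso (eK ≪≫ s.app _ ≪≫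
      (CategoryTheory.shiftFunctor _ (n : ℤ)).mapIso (Rψ.mapIso u₁.symm)) ≪≫ t ≪≫
      (CategoryTheory.shiftFunctor _ (n : ℤ)).mapIso (Rψ'.mapIso ((DTen.LBase _).mapIso u₂ ≪≫ u₃)) ≪≫ (s'.app _).symm
  exact ⟨Groth.Agent.KFlatLib.isRelPerfect_baseChange R' hK.1, ⟨Rμ'.mapIso ((DRing.LBaseChange _).mapIso e) ≪≫ d⟩⟩

end Groth.Agent.S1794
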