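import Groth.Statements.S17940
import Groth.Agent.MultCrvLib.Basic
import Mathlib.LinearAlgebra.Pi
import Mathlib.RingTheory.Finiteness.Projective

set_option autoImplicit false
universe u
open MultCrv

namespace Groth.Agent.S17940

open Polynomial
namespace Aux
variable {R : Type u} [CommRing R] {n : ℕ}

theorem z_pow_mul_eq_zero {a b : ℕ} (hab : a + b = n) (x : Rn R n) (hreg : ∀ p q : R[X], (X : R[X]) ^ a * p = X ^ a * q → p = q) :
    z R n ^ a * x = 0 ↔ z R n ^ b ∣ x := by
  constructor
  · intro h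
    obtain ⟨p, rfl⟩ := Ideal.Quotient.mk_surjective x
    rw [← map_pow, ← map_mul, Ideal.Quotient.eq_zero_iff_mem, Ideal.mem_span_singleton] at h
    obtain ⟨q, hq⟩ := h
    rw [← hab, pow_add, mul_assoc] at hq
    rw [hreg _ _ hq, map_mul, map_pow]
    exact dvd_mul_right _ _
  · rintro ⟨c, rfl⟩
    rw [← mul_assoc, ← pow_add, hab, Groth.Agent.MultCrvLib.z_pow_eq_zero, zero_mul]

/-- The standard presentation of the model module. -/
noncomputable def pi (m : Fin n → ℕ) : ((Σ i : Fin n, Fin (m i)) → Rn R n) →ₗ[Rn R n] QFModel R n m :=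
  (QFModel.equivPi R n m).symm.toLinearMap ∘ₗ
    LinearMap.pi fun i => LinearMap.pi fun j =>
      (Ideal.span {z R n ^ (i.1 + 1)}).mkQ ∘ₗ LinearMap.proj (⟨i, j⟩ : Σ i : Fin n, Fin (m i))

theorem pi_surjective (m : Fin n → ℕ) : Function.Surjective (pi (R := R) m) := by
  intro y
  choose a ha using fun p : Σ i : Fin n, Fin (m i) =>
    Submodule.mkQ_surjective (Ideal.span {z R n ^ (p.1.1 + 1)}) (QFModel.equivPi R n m y p.1 p.2)
  refine ⟨a, ?_⟩
  refine (QFModel.equivPi R n m).injective ?_
  funext i j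
  exact ha ⟨i, j⟩

theorem mem_ker_pi (m : Fin n → ℕ) (f : (Σ i : Fin n, Fin (m i)) → Rn R n) :
    f ∈ LinearMap.ker (pi m) ↔ ∀ p : Σ i : Fin n, Fin (m i), z R n ^ (p.1.1 + 1) ∣ f p := by
  rw [LinearMap.mem_ker]
  constructor
  · intro h p
    have := congrFun (congrFun (congrArg (QFModel.equivPi R n m) h) p.1) p.2
    exact Ideal.mem_span_singleton.mp ((Submodule.Quotient.mk_eq_zero _).mp this)
  · intro h
    refine (QFModel.equivPi R n m).injective ?_
    funext i j
    exact (Submodule.Quotient.mk_eq_zero _).mpr (Ideal.mem_span_singleton.mpr (h ⟨i, j⟩))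

end Aux


/-- Let R be a discrete valuation ring, n ≥ 1, A = R[X]/(X^n) with z the class of X, and M an A-module
that is quasi-free of type (m_1, …, m_n), i.e. isomorphic to the direct sum of m_i copies of
A/(z^i). Let φ be a surjective A-linear map from a finitely generated free module A^r onto M that is
bijective modulo z (the preimage of zM is zA^r). Then the kernel of φ is quasi-free of type
(m_{n-1}, m_{n-2}, …, m_1, 0). (Statement at a closed point of the sheaf statement on a primitive
multiple curve of multiplicity n with local rings R[X]/(X^n), for the kernel of a surjection from a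
vector bundle onto a quasi locally free sheaf that is an isomorphism on the reduced curve; stated
for every discrete valuation ring R.) -/
theorem result (R : Type u) [CommRing R] [IsDomain R] [IsDiscreteValuationRing R] (n : ℕ) (hn : 1 ≤ n) (m : Fin n → ℕ) (M : Type u) [AddCommGroup M] [Module (MultCrv.Rn R n) M] (hM : MultCrv.IsQuasiFreeOfType R n M m) (r : ℕ) (φ : (Fin r → MultCrv.Rn R n) →ₗ[MultCrv.Rn R n] M) (hφ : Function.Surjective φ) (hφz : ∀ f : Fin r → MultCrv.Rn R n, φ f ∈ MultCrv.filt R n M 1 → f ∈ MultCrv.filt R n (Fin r → MultCrv.Rn R n) 1) : MultCrv.IsQuasiFreeOfType R n ↥(LinearMap.ker φ) (MultCrv.revType n m) := by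
  obtain ⟨e⟩ := hM
  classical
  have hreg : ∀ (a : ℕ) (p q : R[X]), (X : R[X]) ^ a * p = X ^ a * q → p = q :=
    fun a p q h => mul_left_cancel₀ (pow_ne_zero _ X_ne_zero) h
  choose g hg using fun p : Σ i : Fin n, Fin (m i) =>
    (e.surjective.comp hφ) (Aux.pi m (Pi.single p 1))
  let G : ((Σ i : Fin n, Fin (m i)) → Rn R n) →ₗ[Rn R n] (Fin r → Rn R n) :=
    (Pi.basisFun (Rn R n) _).constr (Rn R n) g
  have hG : ∀ f, e (φ (G f)) = Aux.pi m f := by
    intro f
    have : e.toLinearMap ∘ₗ φ ∘ₗ G = Aux.pi m := by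
      refine (Pi.basisFun (Rn R n) _).ext fun p => ?_
      show e (φ (G (Pi.basisFun (Rn R n) _ p))) = _
      rw [show G (Pi.basisFun (Rn R n) _ p) = g p from Module.Basis.constr_basis _ _ _ _,
        Pi.basisFun_apply]
      exact hg p
    exact LinearMap.congr_fun this f
  have hstep : ∀ v, ∃ f w, v = G f + z R n • w := by
    intro v
    obtain ⟨f, hf⟩ := Aux.pi_surjective m (e (φ v))
    have h0 : φ (v - G f) = 0 := by
      rw [map_sub, sub_eq_zero]; exact e.injective (by rw [hG, hf])
    obtain ⟨w, hw⟩ := hφz (v - G f) (by rw [h0]; exact zero_mem _)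
    refine ⟨f, w, ?_⟩
    rw [← sub_eq_iff_eq_add', ← hw]
    simp
  have hGsurj : Function.Surjective G := by
    have key : ∀ i : ℕ, ∀ v, ∃ f w, v = G f + z R n ^ i • w := by
      intro i
      induction i with
      | zero => intro v; exact ⟨0, v, by simp⟩
      | succ i ih =>
        intro v
        obtain ⟨f, w, rfl⟩ := ih v
        obtain ⟨f', w', rfl⟩ := hstep w
        exact ⟨f + z R n ^ i • f', w', by
          rw [map_add, map_smul, smul_add, smul_smul, ← pow_succ, add_assoc]⟩
    intro v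
    obtain ⟨f, w, rfl⟩ := key n v
    exact ⟨f, by rw [Groth.Agent.MultCrvLib.z_pow_smul le_rfl w, add_zero]⟩
  have hGinj : Function.Injective G := by
    obtain ⟨s, hs⟩ := Module.projective_lifting_property G LinearMap.id hGsurj
    have hk : ∀ f, G f = 0 → ∃ f', f = z R n • f' := by
      intro f hf
      have : f ∈ LinearMap.ker (Aux.pi m) := by
        rw [LinearMap.mem_ker, ← hG, hf, map_zero, map_zero]
      choose c hc using (Aux.mem_ker_pi m f).mp this
      exact ⟨fun p => z R n ^ p.1.1 * c p, funext fun p => by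
        rw [Pi.smul_apply, smul_eq_mul, ← mul_assoc, ← pow_succ']; exact hc p⟩
    have key : ∀ i : ℕ, ∀ f, G f = 0 → ∃ f', G f' = 0 ∧ f = z R n ^ i • f' := by
      intro i
      induction i with
      | zero => intro f hf; exact ⟨f, hf, by simp⟩
      | succ i ih =>
        intro f hf
        obtain ⟨f', hf', rfl⟩ := ih f hf
        obtain ⟨f'', hf''⟩ := hk f' hf'
        refine ⟨f'' - s (G f''), ?_, ?_⟩
        · rw [map_sub, show G (s (G f'')) = G f'' from LinearMap.congr_fun hs _, sub_self]
        · rw [pow_succ, ← smul_smul, smul_sub, ← map_smul s, ← map_smul G, ← hf'', hf', map_zero,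
            sub_zero]
    rw [injective_iff_map_eq_zero]
    intro f hf
    obtain ⟨f', -, rfl⟩ := key n f hf
    exact Groth.Agent.MultCrvLib.z_pow_smul le_rfl f'
  let Ge := LinearEquiv.ofBijective G ⟨hGinj, hGsurj⟩
  have hker : (LinearMap.ker (Aux.pi m)).map Ge.toLinearMap = LinearMap.ker φ := by
    ext v
    rw [Submodule.mem_map]
    constructor
    · rintro ⟨f, hf, rfl⟩
      show φ (G f) = 0
      refine e.injective ?_
      rw [hG, map_zero]; exact hf
    · intro hv
      obtain ⟨f, rfl⟩ := hGsurj v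
      refine ⟨f, ?_, rfl⟩
      show Aux.pi m f = 0
      rw [← hG, show φ (G f) = 0 from hv, map_zero]
  -- the reversed model
  have hlt : ∀ p : Σ k : Fin n, Fin (revType n m k), p.1.1 + 1 < n := by
    rintro ⟨k, j⟩
    by_contra hk
    have : revType n m k = 0 := dif_neg hk
    exact absurd j.2 (by omega)
  let θ : (Σ k : Fin n, Fin (revType n m k)) → (Σ i : Fin n, Fin (m i)) := fun p =>
    ⟨⟨n - 2 - p.1.1, by omega⟩, Fin.cast (dif_pos (hlt p)) p.2⟩
  have hθ : Function.Injective θ := by
    rintro ⟨k, j⟩ ⟨k', j'⟩ h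
    simp only [θ, Sigma.mk.injEq, Fin.mk.injEq] at h
    have h1 : k.1 + 1 < n := hlt ⟨k, j⟩
    have h2 : k'.1 + 1 < n := hlt ⟨k', j'⟩
    obtain rfl : k = k' := Fin.ext (by omega)
    have h2 := eq_of_heq h.2
    rw [Fin.ext_iff] at h2
    obtain rfl : j = j' := Fin.ext h2
    rfl
  let T : ((Σ k : Fin n, Fin (revType n m k)) → Rn R n) →ₗ[Rn R n] ((Σ i : Fin n, Fin (m i)) → Rn R n) :=
    Function.ExtendByZero.linearMap (Rn R n) θ ∘ₗ
      LinearMap.pi fun p => z R n ^ (n - 1 - p.1.1) • LinearMap.proj p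
  have hTθ : ∀ f p, T f (θ p) = z R n ^ (n - 1 - p.1.1) * f p := fun f p =>
    hθ.extend_apply _ _ p
  have hT0 : ∀ f q, (¬ ∃ p, θ p = q) → T f q = 0 := fun f q hq =>
    Function.extend_apply' _ _ _ hq
  have hkerT : LinearMap.ker T = LinearMap.ker (Aux.pi (revType n m)) := by
    ext f
    rw [LinearMap.mem_ker, Aux.mem_ker_pi]
    constructor
    · intro h p
      have := hlt p
      refine (Aux.z_pow_mul_eq_zero (a := n - 1 - p.1.1) (by omega) (f p) (hreg _)).mp ?_
      rw [← hTθ, h, Pi.zero_apply]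
    · intro h
      funext q
      by_cases hq : ∃ p, θ p = q
      · obtain ⟨p, rfl⟩ := hq
        have := hlt p
        rw [hTθ]
        exact (Aux.z_pow_mul_eq_zero (a := n - 1 - p.1.1) (by omega) (f p) (hreg _)).mpr (h p)
      · exact hT0 f q hq
  have hrange : LinearMap.range T = LinearMap.ker (Aux.pi m) := by
    refine le_antisymm ?_ fun y hy => ?_
    · rintro _ ⟨f, rfl⟩
      rw [Aux.mem_ker_pi]
      intro q
      by_cases hq : ∃ p, θ p = q
      · obtain ⟨p, rfl⟩ := hq
        have := hlt p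
        rw [hTθ]
        exact (pow_dvd_pow _ (show n - 2 - p.1.1 + 1 ≤ n - 1 - p.1.1 by omega)).trans
          (dvd_mul_right _ _)
      · rw [hT0 f q hq]; exact dvd_zero _
    · choose c hc using (Aux.mem_ker_pi m y).mp hy
      refine ⟨fun p => c (θ p), funext fun q => ?_⟩
      by_cases hq : ∃ p, θ p = q
      · obtain ⟨p, rfl⟩ := hq
        have := hlt p
        rw [hTθ, hc (θ p), show n - 1 - p.1.1 = (θ p).1.1 + 1 by show _ = n - 2 - p.1.1 + 1; omega]
      · rw [hT0 _ q hq, hc q]
        obtain ⟨⟨i, hi⟩, j⟩ := q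
        rcases Nat.lt_or_ge (i + 1) n with hin | hin
        · exfalso
          apply hq
          have hkn : n - 2 - i + 1 < n := by omega
          have hrev : revType n m ⟨n - 2 - i, by omega⟩ = m ⟨i, hi⟩ := by
            show (if h : n - 2 - i + 1 < n then m ⟨n - 2 - (n - 2 - i), by omega⟩ else 0) = _
            rw [dif_pos hkn]; congr 1; exact Fin.ext (by show n - 2 - (n - 2 - i) = i; omega)
          refine ⟨⟨⟨n - 2 - i, by omega⟩, Fin.cast hrev.symm j⟩, ?_⟩
          simp only [θ]
          have hi' : (⟨n - 2 - (n - 2 - i), by omega⟩ : Fin n) = ⟨i, hi⟩ :=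
            Fin.ext (by show n - 2 - (n - 2 - i) = i; omega)
          refine Sigma.ext hi' ?_
          exact (Fin.heq_ext_iff (congrArg m hi')).mpr rfl
        · rw [Groth.Agent.MultCrvLib.z_pow_eq_zero_of_le hin, zero_mul]
  let E1 := (Submodule.quotEquivOfEq _ _ hkerT).symm.trans
    (T.quotKerEquivRange.trans ((LinearEquiv.ofEq _ _ hrange).trans
      ((Ge.submoduleMap _).trans (LinearEquiv.ofEq _ _ hker))))
  exact ⟨E1.symm.trans ((Aux.pi (R := R) (revType n m)).quotKerEquivOfSurjective
    (Aux.pi_surjective _))⟩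

end Groth.Agent.S17940
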