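import Groth.Statements.S17944
import Groth.Agent.MultCrvLib.Basic

set_option autoImplicit false
universe u
open MultCrv

namespace Groth.Agent.S17944

/-- Let R be a discrete valuation ring, n ≥ 1, A = R[X]/(X^n) with z the class of X, and M a finitely
generated A-module. Then the graded pieces G_i(M) = z^i M/z^(i+1) M are free R-modules for all 0 ≤ i
< n if and only if the modules Γ^(i)(M) are free R-modules for all 0 ≤ i < n, where Γ^(i)(M) is the
cokernel of the map M^(i+2)/M^(i+1) → M^(i+1)/M^(i) induced by multiplication by z (M^(j) the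
elements killed by z^j). (Statement at a closed point P of the sheaf statement on a primitive
multiple curve of multiplicity n, whose local rings are R[X]/(X^n) with R the local ring of the
reduced smooth curve: the published conditions are local freeness on the reduced curve of the
corresponding sheaves, read here at P; the published statement also asserts that these conditions
are equivalent to the stalk being quasi-free, i.e. isomorphic to a direct sum of modules A/(z^j),
which is not part of this row; stated for every discrete valuation ring R.) -/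
theorem result (R : Type u) [CommRing R] [IsDomain R] [IsDiscreteValuationRing R] (n : ℕ) (hn : 1 ≤ n) (M : Type u) [AddCommGroup M] [Module (MultCrv.Rn R n) M] [Module R M] [IsScalarTower R (MultCrv.Rn R n) M] [Module.Finite (MultCrv.Rn R n) M] : (∀ i : ℕ, i < n → Module.Free R (MultCrv.G1 R n M i)) ↔ (∀ i : ℕ, i < n → Module.Free R (MultCrv.Gam2 R n M i)) := by
  haveI := Groth.Agent.MultCrvLib.finite_R (R := R) (M := M) hn
  haveI : IsNoetherian R M := isNoetherian_of_isNoetherianRing_of_finite R M
  have hz : ∀ (j : ℕ) (r : R) (v : M), z R n ^ j • (r • v) = r • (z R n ^ j • v) :=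
    fun j r v => smul_comm _ _ _
  -- `G1`
  have hG : ∀ i, Module.Free R (G1 R n M i) ↔
      ∀ (r : R) (u : M), r ≠ 0 → (∃ w, z R n ^ (i + 1) • w = r • (z R n ^ i • u)) →
        ∃ w, z R n ^ (i + 1) • w = z R n ^ i • u := by
    intro i
    constructor
    · intro hfree r u hr ⟨w, hw⟩
      let x : G1 R n M i := Submodule.Quotient.mk ⟨z R n ^ i • u, u, rfl⟩
      have hx : r • x = 0 := by
        rw [← Submodule.Quotient.mk_smul, Submodule.Quotient.mk_eq_zero]
        exact ⟨w, hw⟩
      have hx0 : x = 0 := (smul_eq_zero.mp hx).resolve_left hr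
      exact (Submodule.Quotient.mk_eq_zero _).mp hx0
    · intro h
      refine Groth.Agent.MultCrvLib.free_quotient hn _ _ fun r v hr hv hrv => ?_
      obtain ⟨u, rfl⟩ := hv
      obtain ⟨w, hw⟩ := h r u hr hrv
      exact ⟨w, hw⟩
  -- `Gam2`
  have hΓ : ∀ i, Module.Free R (Gam2 R n M i) ↔
      ∀ (r : R) (u : M), r ≠ 0 → z R n ^ (i + 1) • u = 0 →
        (∃ w, z R n ^ (i + 2) • w = 0 ∧ z R n ^ (i + 1) • w = r • (z R n ^ i • u)) →
        ∃ w, z R n ^ (i + 2) • w = 0 ∧ z R n ^ (i + 1) • w = z R n ^ i • u := by
    intro i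
    have mem : ∀ u : ↥(filt2 R n M (i + 1)),
        (Submodule.Quotient.mk (Submodule.Quotient.mk u : G2 R n M (i + 1)) : Gam2 R n M i) = 0 ↔
          ∃ w, z R n ^ (i + 2) • w = 0 ∧ z R n ^ (i + 1) • w = z R n ^ i • (u : M) := by
      intro u
      rw [Submodule.Quotient.mk_eq_zero, LinearMap.mem_range]
      constructor
      · rintro ⟨y, hy⟩
        obtain ⟨⟨w, hw⟩, rfl⟩ := Submodule.Quotient.mk_surjective _ y
        refine ⟨w, hw, ?_⟩
        have h2 : z R n ^ i • (z R n • w - (u : M)) = 0 := (Submodule.Quotient.eq _).mp hy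
        rw [smul_sub, smul_smul, ← pow_succ, sub_eq_zero] at h2
        exact h2
      · rintro ⟨w, hw, hwu⟩
        refine ⟨Submodule.Quotient.mk ⟨w, hw⟩, (Submodule.Quotient.eq _).mpr ?_⟩
        show z R n ^ i • (z R n • w - (u : M)) = 0
        rw [smul_sub, smul_smul, ← pow_succ, hwu, sub_self]
    constructor
    · intro hfree r u hr hu hru
      refine (mem ⟨u, hu⟩).mp ((smul_eq_zero.mp ?_).resolve_left hr)
      rw [← Submodule.Quotient.mk_smul, ← Submodule.Quotient.mk_smul]
      refine (mem (r • ⟨u, hu⟩)).mpr ?_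
      rw [show ((r • (⟨u, hu⟩ : ↥(filt2 R n M (i + 1))) : ↥(filt2 R n M (i + 1))) : M) = r • u from rfl,
        hz]
      exact hru
    · intro h
      haveI : Module.Finite R ↥(filt2 R n M (i + 1)) :=
        Module.Finite.of_injective ((filt2 R n M (i + 1)).subtype.restrictScalars R) Subtype.val_injective
      let q : ↥(filt2 R n M (i + 1)) →ₗ[R] Gam2 R n M i :=
        ((LinearMap.range (lamG2 R n M i)).mkQ.comp (Submodule.mkQ _)).restrictScalars R
      have hq : Function.Surjective q := fun y => by
        obtain ⟨y, rfl⟩ := Submodule.Quotient.mk_surjective _ y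
        obtain ⟨y, rfl⟩ := Submodule.Quotient.mk_surjective _ y
        exact ⟨y, rfl⟩
      haveI : Module.Finite R (Gam2 R n M i) := Module.Finite.of_surjective q hq
      haveI : Module.IsTorsionFree R (Gam2 R n M i) := by
        refine Module.IsTorsionFree.mk fun r hr => ?_
        rw [isSMulRegular_iff_right_eq_zero_of_smul]
        intro y hy
        obtain ⟨v, rfl⟩ := hq y
        rw [← map_smul] at hy
        have h1 := (mem (r • v)).mp hy
        rw [show ((r • v : ↥(filt2 R n M (i + 1))) : M) = r • (v : M) from rfl, hz] at h1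
        exact (mem v).mpr (h r v hr.ne_zero v.2 h1)
      infer_instance
  simp only [hG, hΓ]
  constructor
  · rintro h i hi r u hr hu ⟨w, -, hw⟩
    obtain ⟨w', hw'⟩ := h i hi r u hr ⟨w, hw⟩
    exact ⟨w', by rw [show i + 2 = (i + 1) + 1 from rfl, pow_succ', mul_smul, hw', smul_smul,
      ← pow_succ', hu], hw'⟩
  · intro h i
    have key : ∀ k i, n ≤ i + k → ∀ (r : R) (u : M), r ≠ 0 →
        (∃ w, z R n ^ (i + 1) • w = r • (z R n ^ i • u)) →
        ∃ w, z R n ^ (i + 1) • w = z R n ^ i • u := by
      intro k
      induction k with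
      | zero =>
        intro i hi r u _ _
        exact ⟨0, by rw [smul_zero, Groth.Agent.MultCrvLib.z_pow_smul (by omega) u]⟩
      | succ k ih =>
        intro i hi r u hr ⟨w, hw⟩
        by_cases hin : n ≤ i
        · exact ⟨0, by rw [smul_zero, Groth.Agent.MultCrvLib.z_pow_smul hin u]⟩
        obtain ⟨v, hv⟩ := ih (i + 1) (by omega) r u hr ⟨w, by
          rw [show i + 1 + 1 = 1 + (i + 1) by omega, pow_add, pow_one, mul_smul, hw, smul_comm,
            smul_smul, ← pow_succ']⟩
        -- `u' = u - z v` is killed by `z^(i+1)`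
        have hu' : z R n ^ (i + 1) • (u - z R n • v) = 0 := by
          rw [smul_sub, smul_smul, ← pow_succ, hv, sub_self]
        have hzw : z R n ^ (i + 1) • (w - r • v) = r • (z R n ^ i • (u - z R n • v)) := by
          rw [smul_sub, hw, smul_sub, hz, smul_sub, smul_smul (z R n ^ i), ← pow_succ]
        obtain ⟨w', -, hw'⟩ := h i (by omega) r (u - z R n • v) hr hu' ⟨w - r • v, by
          rw [show i + 2 = 1 + (i + 1) by omega, pow_add, pow_one, mul_smul, hzw, smul_comm,
            smul_smul (z R n), ← pow_succ', hu', smul_zero], hzw⟩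
        refine ⟨w' + v, ?_⟩
        rw [smul_add, hw', smul_sub, smul_smul, ← pow_succ, sub_add_cancel]
    exact fun _ => key n i (by omega)

end Groth.Agent.S17944
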