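import Groth.Statements.S17946
import Groth.Agent.MultCrvLib.Basic

set_option autoImplicit false
universe u
open MultCrv

namespace Groth.Agent.S17946

/-- Let R be a discrete valuation ring, n ≥ 1, A = R[X]/(X^n) with z the class of X, and φ : M → N an
A-linear map of finitely generated A-modules. Then φ is injective if and only if its restriction to
the submodule M^(1) of elements killed by z is injective. The induced maps M^(i)/M^(i-1) →
N^(i)/N^(i-1), 1 ≤ i < n, with M^(j) the elements killed by z^j, are then injective as well; that
immediate consequence, which the published statement includes, is not part of this row. (Statement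
at a closed point of the sheaf statement on a primitive multiple curve of multiplicity n with local
rings R[X]/(X^n); stated for every discrete valuation ring R.) -/
theorem result (R : Type u) [CommRing R] [IsDomain R] [IsDiscreteValuationRing R] (n : ℕ) (hn : 1 ≤ n) (M N : Type u) [AddCommGroup M] [Module (MultCrv.Rn R n) M] [Module.Finite (MultCrv.Rn R n) M] [AddCommGroup N] [Module (MultCrv.Rn R n) N] [Module.Finite (MultCrv.Rn R n) N] (φ : M →ₗ[MultCrv.Rn R n] N) : Function.Injective φ ↔ ∀ u : M, u ∈ MultCrv.filt2 R n M 1 → φ u = 0 → u = 0 := by
  constructor
  · intro h u _ hu
    exact h (hu.trans (map_zero φ).symm)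
  · intro h
    rw [injective_iff_map_eq_zero]
    intro u hu
    have key : ∀ i : ℕ, MultCrv.z R n ^ i • u = 0 → u = 0 := by
      intro i
      induction i with
      | zero => intro h0; simpa using h0
      | succ i ih =>
        intro h0
        refine ih (h _ ?_ (by rw [map_smul, hu, smul_zero]))
        change MultCrv.z R n ^ 1 • MultCrv.z R n ^ i • u = 0
        rw [smul_smul, ← pow_add, add_comm]; exact h0
    exact key n (Groth.Agent.MultCrvLib.z_pow_smul le_rfl u)

end Groth.Agent.S17946
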