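import Groth.Statements.S17947
import Groth.Agent.HensSch7.Basis
-- import your own Groth.Agent.* helpers here

set_option autoImplicit false
universe u
open CategoryTheory AlgebraicGeometry Opposite
open HensSch

namespace Groth.Agent.S17947

/-- Let `ι : Xh ⟶ X` be the Henselization of a scheme `X` along a closed subset `Y`. For every Henselian
scheme `Z` (a locally ringed space covered by affine Henselian spectra of Henselian pairs) and every
morphism of locally ringed spaces `g : Z ⟶ X` whose image lies in `Y`, there is exactly one morphism
`Z ⟶ Xh` whose composite with `ι` is `g` (the Henselization is final among such `Z`). -/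
theorem result (X : Scheme.{u}) (Y : Set X)
    (Xh : LocallyRingedSpace.{u}) (ι : Xh ⟶ X.toLocallyRingedSpace)
    (hh : HensSch.IsHenselizationAlong X Y Xh ι)
    (Z : LocallyRingedSpace.{u}) (hZ : HensSch.IsHensScheme Z) (g : Z ⟶ X.toLocallyRingedSpace)
    (hg : Set.range g.base ⊆ Y) : ∃! g' : Z ⟶ Xh, g' ≫ ι = g := by
  exact HensSch7.existsUnique_comp_eq hh.2.1 hh.2.2.1.le (HensSch7.exists_isGoodOpen hh)
    (HensSch7.exists_isHensOpen hZ) g hg hh.2.2.1.ge

end Groth.Agent.S17947
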