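import Groth.Statements.S1795
import Groth.Agent.KFlatLib.Ring.RelDualizingComplex
-- import your own Groth.Agent.* helpers here

set_option autoImplicit false
universe u
open CategoryTheory
open scoped TensorProduct
attribute [local instance] HasDerivedCategory.standard
open Dual2

namespace Groth.Agent.S1795

/-- Let R → A be a ring map between Noetherian rings which is flat and of finite type, with φ^! formed
from a presentation ψ : R[x_1, …, x_n] → A as RHom_P(A, (−) ⊗^L_R P)[n] (derived base change under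
its existence hypothesis, RHom_P(A, −) a right adjoint of restriction). Then ω_{A/R} = φ^!(R) is a
relative dualizing complex: it is R-perfect and RHom_{A ⊗_R A}(A, ω_{A/R} ⊗^L_A (A ⊗_R A)) ≅ A (with
the same conventions for these functors). -/
theorem result (R A : Type u) [CommRing R] [CommRing A] [IsNoetherianRing R] [IsNoetherianRing A] [Algebra R A] [Module.Flat R A] [Algebra.FinitePresentation R A] (n : ℕ) (ψ : MvPolynomial (Fin n) R →ₐ[R] A) (hψ : Function.Surjective ψ) [DRing.HasLBaseChange (algebraMap R (MvPolynomial (Fin n) R))] (Rψ : Dual.D (MvPolynomial (Fin n) R) ⥤ Dual.D A) (adj : DRing.restrictD ψ.toRingHom ⊣ Rψ) [DRing.HasLBaseChange (Algebra.TensorProduct.includeLeftRingHom : A →+* TensorProduct R A A)] (Rμ : Dual.D (TensorProduct R A A) ⥤ Dual.D A) (adjμ : DRing.restrictD (Algebra.TensorProduct.lmul' R (S := A)).toRingHom ⊣ Rμ) : Dual2.IsRelDualizing R A Rμ (Dual2.shriekVia n Rψ (Dual.inD R R)) := by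
  let P := MvPolynomial (Fin n) R
  haveI := Groth.Agent.KFlatLib.hasLBase (algebraMap R P)
  obtain ⟨eb⟩ := Groth.Agent.KFlatLib.nonempty_LBaseChange_iso (algebraMap R P)
  obtain ⟨u⟩ := Groth.Agent.KFlatLib.nonempty_LBase_unit (algebraMap R P)
  let iR : Dual.inD R R ≅ DTen.unit R :=
    (DerivedCategory.singleFunctorIsoCompQ (ModuleCat.{u} R) 0).app (ModuleCat.of R R)
  let eW : Dual2.shriekVia n Rψ (Dual.inD R R) ≅ (Rψ.obj (DTen.unit P))⟦(n : ℤ)⟧ :=
    (CategoryTheory.shiftFunctor _ (n : ℤ)).mapIso (Rψ.mapIso ((eb.app _) ≪≫ (DTen.LBase _).mapIso iR ≪≫ u))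
  have hR : ψ.toRingHom.comp MvPolynomial.C = algebraMap R A := RingHom.ext fun r => ψ.commutes r
  obtain ⟨⟨hpc, ⟨p, q, htor⟩⟩, ⟨e⟩⟩ :=
    And.intro (Groth.Agent.KFlatLib.isRelPerfect_shriek_unit ψ.toRingHom hψ hR adj)
      (Groth.Agent.KFlatLib.nonempty_diagonal_shriek ψ.toRingHom hψ hR adj Rμ adjμ)
  refine ⟨⟨Groth.Agent.H9Misc.DRingPC.of_iso' eW.symm hpc, ⟨p, q, ?_⟩⟩, ⟨Rμ.mapIso ((DRing.LBaseChange _).mapIso eW) ≪≫ e⟩⟩
  obtain ⟨E, hz, hf, ⟨i⟩⟩ := htor
  exact ⟨E, hz, hf, ⟨i ≪≫ (DRing.restrictD (algebraMap R A)).mapIso eW.symm⟩⟩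

end Groth.Agent.S1795
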