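import Groth.Statements.S17955
import Groth.Agent.HensSch7.FullFaith
-- import your own Groth.Agent.* helpers here

set_option autoImplicit false
universe u
open CategoryTheory AlgebraicGeometry Opposite
open HensSch

namespace Groth.Agent.S17955

/-- Let `(A, I)` be a Noetherian Henselian pair with `A` `I`-adically complete, `X` a proper `A`-scheme
and `ι : Xh ⟶ X` its `I`-adic Henselization. Then `F ↦ F^h = ι^* F` is fully faithful on coherent
`O_X`-modules: for coherent `F, G` the map `Hom(F, G) → Hom(F^h, G^h)` is bijective. (Exactness of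
this functor is the content of the separate exactness statement for Henselizations.) -/
theorem result (A : Type u) [CommRing A] (I : Ideal A) [IsNoetherianRing A]
    [HenselianRing A I] [IsAdicComplete I A]
    (X : Scheme.{u}) (s : X ⟶ Spec (CommRingCat.of A)) [IsProper s]
    (Xh : LocallyRingedSpace.{u}) (ι : Xh ⟶ X.toLocallyRingedSpace)
    (hh : HensSch.IsHenselizationAlong X (s.base ⁻¹' PrimeSpectrum.zeroLocus (I : Set A)) Xh ι)
    (F G : X.Modules) (hF : Coh.IsCoh F) (hG : Coh.IsCoh G) :
    Function.Bijective ((HensSch.pullMod ι).map : (F ⟶ G) → ((HensSch.pullMod ι).obj F ⟶ (HensSch.pullMod ι).obj G)) := by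
  letI : X.Over (Spec (CommRingCat.of A)) := ⟨s⟩
  haveI : IsProper (X ↘ Spec (CommRingCat.of A)) := (inferInstance : IsProper s)
  exact HensSch7.bijective_pullMod_map (A := A) (I := I) hh hF hG

end Groth.Agent.S17955
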