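import Groth.Statements.S17956
import Groth.Agent.HensSch7.SphTilde
-- import your own Groth.Agent.* helpers here

set_option autoImplicit false
universe u
open CategoryTheory AlgebraicGeometry Opposite
open HensSch

namespace Groth.Agent.S17956

/-- Let `(A, I)` be a Henselian pair with affine Henselian spectrum `(X, π)`, `M` an `A`-module and `f :
A`; put `U = π⁻¹ D(f)` (the distinguished open `D(f) ∩ V(I)`), let `S = O_X(U)` with its ring map
from `A`, and let `θ : M → Γ(U, M~)` be the canonical map (unit of the tilde adjunction on `Spec A`,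
then the unit of `π^* ⊣ π_*`, then restriction to `U`), where `M~` on `X` is the pullback along `π`
of `M~` on `Spec A`. Then `Γ(U, M~)` together with `θ` is the base change of `M` along `A → S`: for
every `S`-module `P` and every additive map `ψ : M → P` with `ψ (a • m) = a • ψ m` (with `A` acting
on `P` through `S`) there is exactly one `S`-linear `χ : Γ(U, M~) → P` with `χ ∘ θ = ψ`.
Equivalently `S ⊗_A M → Γ(U, M~)` is bijective, i.e. the sections of `M~` over `D(f) ∩ V(I)` are `M
⊗_A O_X(D(f) ∩ V(I))`. -/
theorem result (A : Type u) [CommRing A] (I : Ideal A) [HenselianRing A I]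
    (X : LocallyRingedSpace.{u}) (π : X ⟶ HensSch.specLRS A) (hX : HensSch.IsSph A I X π)
    (M : ModuleCat.{u} A) (f : A)
    (P : Type u) [AddCommGroup P] [Module ((ModSite.ringSh X.sheaf).obj.obj (op (HensSch.dOpen π f))) P]
    (ψ : M →+ P)
    (hψ : ∀ (a : A) (m : M), ψ (a • m) =
      HSMul.hSMul (α := ((ModSite.ringSh X.sheaf).obj.obj (op (HensSch.dOpen π f)) : Type u))
        (HensSch.secMap π (PrimeSpectrum.basicOpen f) a) (ψ m)) :
    ∃! χ : ((HensSch.sphTilde π M).val.obj (op (HensSch.dOpen π f))) →ₗ[(ModSite.ringSh X.sheaf).obj.obj (op (HensSch.dOpen π f))] P,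
      ∀ m : M, χ (((HensSch.sphTilde π M).val.map ((TopologicalSpace.Opens.map π.base).map (homOfLE (le_top : PrimeSpectrum.basicOpen f ≤ ⊤))).op).hom
          ((((HensSch.pullPushAdj π).unit.app (tilde M)).val.app (op ⊤)).hom
            (((tilde.adjunction (R := CommRingCat.of A)).unit.app M).hom m))) = ψ m := by
  letI : Module (HensSch7.Sec X (HensSch.dOpen π f)) P := ‹Module ((ModSite.ringSh X.sheaf).obj.obj (op (HensSch.dOpen π f))) P›
  exact HensSch7.existsUnique_tildeLift (M := M) hX f ψ hψ

end Groth.Agent.S17956
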