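import Groth.Statements.S17959
import Groth.Agent.HensCouple7.Gamma
-- import your own Groth.Agent.* helpers here

set_option autoImplicit false
open CategoryTheory CategoryTheory.Limits AlgebraicGeometry
universe u
open Hensel

namespace Groth.Agent.S17959

/-- Let X be a quasi-compact quasi-separated scheme and i : X₀ ⟶ X a closed immersion such that (X, X₀)
is a henselian couple, i.e. for every finite morphism g : Y ⟶ X every open-closed subset of Y ×_X X₀
is the inverse image under the first projection of exactly one open-closed subset of Y. Let B = Γ(X,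
O_X) and let J be the kernel of the restriction map B → Γ(X₀, O_{X₀}). Then (B, J) is a henselian
pair. -/
theorem result {X X₀ : Scheme.{u}}
    (i : X₀ ⟶ X) [IsClosedImmersion i] [CompactSpace ↥X] [QuasiSeparatedSpace ↥X]
    (hX : ∀ (Y : Scheme.{u}) (g : Y ⟶ X), IsFinite g →
      ∀ V : Set ↥(pullback g (i)), IsClopen V →
        ∃! U : Set ↥Y, IsClopen U ∧ (pullback.fst g (i)).base ⁻¹' U = V) :
    HenselianRing (Γ(X, ⊤) : Type u) (RingHom.ker i.appTop.hom) := by
  exact Groth.Agent.HensCouple7.henselianRing_gamma i fun Y g hg => (Groth.Agent.HensCouple7.scheme_lifts_iff g i).mp (hX Y g hg)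

end Groth.Agent.S17959
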