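import Groth.Statements.S17960
import Groth.Agent.HensCouple7.ProperPair
-- import your own Groth.Agent.* helpers here

set_option autoImplicit false
open CategoryTheory CategoryTheory.Limits AlgebraicGeometry
universe u
open Hensel

namespace Groth.Agent.S17960

/-- Suppose A is a Noetherian ring with an ideal I, and f : X ⟶ Spec A is a proper morphism; write i :
X₀ = X ×_{Spec A} Spec (A/I) ⟶ X for the first projection. Put B = Γ(X, O_X), and take J to be the
kernel of the restriction B → Γ(X₀, O_{X₀}). Assuming (B, J) is a henselian pair, the couple (X, X₀)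
is henselian: given any finite morphism g : Y ⟶ X, each open-closed subset of Y ×_X X₀ arises as the
inverse image, along the first projection, of a unique open-closed subset of Y. -/
theorem result
    (A : Type u) [CommRing A] [IsNoetherianRing A] (I : Ideal A) {X : Scheme.{u}}
    (f : X ⟶ Spec (CommRingCat.of A)) [IsProper f]
    (h : HenselianRing (Γ(X, ⊤) : Type u)
      (RingHom.ker (pullback.fst f (Spec.map (CommRingCat.ofHom (Ideal.Quotient.mk I)))).appTop.hom)) :
    ∀ (Y : Scheme.{u}) (g : Y ⟶ X), IsFinite g →
      ∀ V : Set ↥(pullback g (pullback.fst f (Spec.map (CommRingCat.ofHom (Ideal.Quotient.mk I))))), IsClopen V →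
        ∃! U : Set ↥Y, IsClopen U ∧ (pullback.fst g (pullback.fst f (Spec.map (CommRingCat.ofHom (Ideal.Quotient.mk I))))).base ⁻¹' U = V := by
  intro Y g hg
  haveI : IsClosedImmersion (Spec.map (CommRingCat.ofHom (Ideal.Quotient.mk I))) :=
    IsClosedImmersion.spec_of_surjective _ Ideal.Quotient.mk_surjective
  exact (Groth.Agent.HensCouple7.scheme_lifts_iff g _).mpr (Groth.Agent.HensCouple7.lifts_of_gamma I f h g)

end Groth.Agent.S17960
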