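import Groth.Statements.S17962
-- import your own Groth.Agent.* helpers here

set_option autoImplicit false
open CategoryTheory CategoryTheory.Limits AlgebraicGeometry
universe u
open Hensel

namespace Groth.Agent.S17962

/-- Let i : X₀ ⟶ X be a closed immersion such that (X, X₀) is a henselian couple, i.e. for every finite
morphism g : Y ⟶ X every open-closed subset of Y ×_X X₀ is the inverse image under the first
projection of exactly one open-closed subset of Y. Then for every finite morphism h : Y ⟶ X the
couple (Y, Y ×_X X₀), with the first projection as closed immersion, is again henselian. -/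
theorem result {X X₀ : Scheme.{u}}
    (i : X₀ ⟶ X) [IsClosedImmersion i]
    (hX : ∀ (Y : Scheme.{u}) (g : Y ⟶ X), IsFinite g →
      ∀ V : Set ↥(pullback g (i)), IsClopen V →
        ∃! U : Set ↥Y, IsClopen U ∧ (pullback.fst g (i)).base ⁻¹' U = V)
    {Y : Scheme.{u}} (h : Y ⟶ X) [IsFinite h] :
    ∀ (Z : Scheme.{u}) (g : Z ⟶ Y), IsFinite g →
      ∀ V : Set ↥(pullback g (pullback.fst h i)), IsClopen V →
        ∃! U : Set ↥Z, IsClopen U ∧ (pullback.fst g (pullback.fst h i)).base ⁻¹' U = V := by
  intro Z g hg V hV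
  let e := Limits.pullbackRightPullbackFstIso h i g
  let φ := e.hom.homeomorph
  have hfst : ∀ w, (Limits.pullback.fst (g ≫ h) i).base (φ w) = (Limits.pullback.fst g (Limits.pullback.fst h i)).base w := fun w => by
    show (e.hom ≫ Limits.pullback.fst (g ≫ h) i).base w = _
    rw [Limits.pullbackRightPullbackFstIso_hom_fst]
  obtain ⟨U, ⟨hU, hUV⟩, huniq⟩ := hX Z (g ≫ h) inferInstance (φ '' V)
    ⟨φ.isClosed_image.mpr hV.1, φ.isOpen_image.mpr hV.2⟩
  refine ⟨U, ⟨hU, ?_⟩, fun U' hU' => huniq U' ⟨hU'.1, ?_⟩⟩
  · ext w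
    have := Set.ext_iff.mp hUV (φ w)
    rw [Set.mem_preimage, hfst, φ.injective.mem_set_image] at this
    exact this
  · ext w'
    obtain ⟨w, rfl⟩ := φ.surjective w'
    rw [Set.mem_preimage, hfst, φ.injective.mem_set_image]
    exact Set.ext_iff.mp hU'.2 w
end Groth.Agent.S17962
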