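import Groth.Statements.S17963
import Groth.Agent.EtFound.ProperHenselConn
-- import your own Groth.Agent.* helpers here

set_option autoImplicit false
open CategoryTheory CategoryTheory.Limits AlgebraicGeometry
universe u
open Hensel

namespace Groth.Agent.S17963

/-- Let (A, I) be a henselian pair and f : X ⟶ Spec A a proper morphism of finite presentation, and let
X₀ = X ×_{Spec A} Spec (A/I). Then X is nonempty and connected if and only if X₀ is nonempty and
connected. -/
theorem result
    (A : Type u) [CommRing A] (I : Ideal A) [HenselianRing A I] {X : Scheme.{u}}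
    (f : X ⟶ Spec (CommRingCat.of A)) [IsProper f] [LocallyOfFinitePresentation f] :
    ConnectedSpace ↥X ↔ ConnectedSpace ↥(pullback f (Spec.map (CommRingCat.ofHom (Ideal.Quotient.mk I)))) := by
  haveI : IsClosedImmersion (Spec.map (CommRingCat.ofHom (Ideal.Quotient.mk I))) :=
    IsClosedImmersion.spec_of_surjective _ Ideal.Quotient.mk_surjective
  let i := pullback.fst f (Spec.map (CommRingCat.ofHom (Ideal.Quotient.mk I)))
  refine (Groth.Agent.ProperHenselConn.connectedSpace_iff I f).trans ?_
  let e := i.isEmbedding.toHomeomorph.trans (Homeomorph.setCongr (Groth.Agent.ProperHenselConn.range_fst I f))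
  exact ⟨fun h => e.symm.surjective.connectedSpace e.symm.continuous,
    fun h => e.surjective.connectedSpace e.continuous⟩

end Groth.Agent.S17963
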