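import Groth.Statements.S17964
import Groth.Agent.HensCouple7.Coprod
-- import your own Groth.Agent.* helpers here

set_option autoImplicit false
open CategoryTheory CategoryTheory.Limits AlgebraicGeometry
universe u
open Hensel

namespace Groth.Agent.S17964

/-- Let (X_j) be a family of schemes indexed by a type ι, with closed immersions i_j : X_{j,0} ⟶ X_j,
and consider the induced morphism of disjoint unions ∐ X_{j,0} ⟶ ∐ X_j. Then the couple (∐ X_j, ∐
X_{j,0}) is henselian (for every finite morphism g : Y ⟶ ∐ X_j, every open-closed subset of the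
fibre product of Y with ∐ X_{j,0} is the inverse image under the first projection of exactly one
open-closed subset of Y) if and only if each couple (X_j, X_{j,0}) is henselian. -/
theorem result {ι : Type u} (X X₀ : ι → Scheme.{u})
    (i : ∀ j, X₀ j ⟶ X j) [∀ j, IsClosedImmersion (i j)] :
    (∀ (Y : Scheme.{u}) (g : Y ⟶ ∐ X), IsFinite g →
      ∀ V : Set ↥(pullback g (Limits.Sigma.map i)), IsClopen V →
        ∃! U : Set ↥Y, IsClopen U ∧ (pullback.fst g (Limits.Sigma.map i)).base ⁻¹' U = V) ↔
    ∀ j : ι, ∀ (Y : Scheme.{u}) (g : Y ⟶ X j), IsFinite g →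
      ∀ V : Set ↥(pullback g (i j)), IsClopen V →
        ∃! U : Set ↥Y, IsClopen U ∧ (pullback.fst g (i j)).base ⁻¹' U = V := by
  haveI := Groth.Agent.HensCouple7.isClosedImmersion_map i
  refine Iff.trans ?_ ((Groth.Agent.HensCouple7.henselian_coproduct_iff i).trans ?_)
  · exact forall_congr' fun Y => forall_congr' fun g => imp_congr_right fun _ => Groth.Agent.HensCouple7.scheme_lifts_iff g _
  · exact forall_congr' fun j => forall_congr' fun Y => forall_congr' fun g => imp_congr_right fun _ =>
      (Groth.Agent.HensCouple7.scheme_lifts_iff g _).symm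

end Groth.Agent.S17964
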