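import Groth.Statements.S17965
import Groth.Agent.HensCouple7.ProperPair
-- import your own Groth.Agent.* helpers here

set_option autoImplicit false
open CategoryTheory CategoryTheory.Limits AlgebraicGeometry
universe u
open Hensel

namespace Groth.Agent.S17965

/-- Let A be a Noetherian ring, I an ideal of A, f : X ⟶ Spec A a proper morphism, i : X₀ = X ×_{Spec A}
Spec (A/I) ⟶ X the first projection, and assume that (X, X₀) is a henselian couple (for every finite
morphism g : Y ⟶ X, every open-closed subset of Y ×_X X₀ is the inverse image under the first
projection of exactly one open-closed subset of Y). Then (X, X₀) is proper over a henselian pair: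
there exist a Noetherian ring A' with an ideal I' such that (A', I') is a henselian pair, a proper
morphism f' : X ⟶ Spec A' and a morphism t : X₀ ⟶ Spec (A'/I') such that the square formed by i, t,
f' and Spec (A'/I') ⟶ Spec A' is cartesian. (The published statement asserts only that X is proper
over some henselian pair; this row also asks the ring of that pair to be Noetherian, which holds for
the henselization of (A, I) that the proof uses.) -/
theorem result
    (A : Type u) [CommRing A] [IsNoetherianRing A] (I : Ideal A) {X : Scheme.{u}}
    (f : X ⟶ Spec (CommRingCat.of A)) [IsProper f]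
    (hX : ∀ (Y : Scheme.{u}) (g : Y ⟶ X), IsFinite g →
      ∀ V : Set ↥(pullback g (pullback.fst f (Spec.map (CommRingCat.ofHom (Ideal.Quotient.mk I))))), IsClopen V →
        ∃! U : Set ↥Y, IsClopen U ∧ (pullback.fst g (pullback.fst f (Spec.map (CommRingCat.ofHom (Ideal.Quotient.mk I))))).base ⁻¹' U = V) :
    ∃ (A' : Type u) (_ : CommRing A') (I' : Ideal A') (_ : HenselianRing A' I') (_ : IsNoetherianRing A')
      (f' : X ⟶ Spec (CommRingCat.of A')) (_ : IsProper f')
      (t : pullback f (Spec.map (CommRingCat.ofHom (Ideal.Quotient.mk I))) ⟶ Spec (CommRingCat.of (A' ⧸ I'))),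
      IsPullback (pullback.fst f (Spec.map (CommRingCat.ofHom (Ideal.Quotient.mk I)))) t f' (Spec.map (CommRingCat.ofHom (Ideal.Quotient.mk I'))) := by
  exact Groth.Agent.HensCouple7.exists_stein I f hX

end Groth.Agent.S17965
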