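import Groth.Statements.S17968
import Groth.Agent.Hensel.Local

set_option autoImplicit false
universe u
open Hensel

namespace Groth.Agent.S17968

/-- Let A be a commutative ring and I an ideal contained in the Jacobson radical of A. Suppose that for
every natural number m and every monic polynomial p over A whose reduction modulo I is the reduction
of (T^2 - T)^m, every idempotent of B/IB is the image of an idempotent of B, where B = A[T]/(p).
Then (A, I) is a henselian pair. -/
theorem result (A : Type u) [CommRing A]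
    (I : Ideal A) (hI : I ≤ Ideal.jacobson ⊥)
    (h : ∀ (m : ℕ) (p : Polynomial A), p.Monic →
      Polynomial.map (Ideal.Quotient.mk I) p =
        Polynomial.map (Ideal.Quotient.mk I) ((Polynomial.X ^ 2 - Polynomial.X) ^ m) →
      Set.SurjOn (Ideal.Quotient.mk (Ideal.map (algebraMap A (AdjoinRoot p)) I))
        {e : AdjoinRoot p | IsIdempotentElem e} {e | IsIdempotentElem e}) :
    HenselianRing A I := by
  refine Groth.Agent.Hensel.henselianRing_iff_gabberCond.mpr ⟨hI, fun N hN f hf hmap => ?_⟩
  classical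
  let p : Polynomial A := f * (Polynomial.X - 1) ^ (N - 1)
  have hp : p.Monic := hf.mul ((by simpa using Polynomial.monic_X_sub_C (1 : A) :
    (Polynomial.X - 1 : Polynomial A).Monic).pow _)
  have hpm : Polynomial.map (Ideal.Quotient.mk I) p =
      Polynomial.map (Ideal.Quotient.mk I) ((Polynomial.X ^ 2 - Polynomial.X) ^ N) := by
    simp only [p, Polynomial.map_mul, Polynomial.map_pow, Polynomial.map_sub, Polynomial.map_X,
      Polynomial.map_one, hmap]
    rw [mul_assoc, ← pow_succ', Nat.sub_add_cancel hN, ← mul_pow]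
    congr 1; ring
  refine Groth.Agent.Hensel.exists_root_of_idempotent_lift hI hN hf hmap fun hidem => ?_
  obtain ⟨c, d, hcd⟩ : IsCoprime ((Polynomial.X : Polynomial A) ^ N) ((Polynomial.X - 1) ^ N) :=
    IsCoprime.pow (show IsCoprime (Polynomial.X : Polynomial A) (Polynomial.X - 1) from
      ⟨1, -1, by ring⟩)
  let π := Ideal.Quotient.mk (I.map (algebraMap A (AdjoinRoot p)))
  let s := AdjoinRoot.root p
  have hrel : π s ^ N * (π s - 1) ^ N = 0 := by
    let φ : A ⧸ I →+* (AdjoinRoot p) ⧸ I.map (algebraMap A (AdjoinRoot p)) :=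
      Ideal.quotientMap _ (algebraMap A (AdjoinRoot p)) Ideal.le_comap_map
    have h0 : π (Polynomial.aeval s p) = (p.map (Ideal.Quotient.mk I)).eval₂ φ (π s) := by
      rw [Polynomial.eval₂_map, Polynomial.aeval_def, Polynomial.hom_eval₂]; rfl
    rw [hpm, AdjoinRoot.aeval_eq, AdjoinRoot.mk_self, map_zero] at h0
    simp only [Polynomial.map_pow, Polynomial.map_sub, Polynomial.map_X, Polynomial.eval₂_pow,
      Polynomial.eval₂_sub, Polynomial.eval₂_X] at h0
    rw [← mul_pow, h0]; congr 1; ring
  let C := π (Polynomial.aeval s c)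
  let D := π (Polynomial.aeval s d)
  have hCD : C * π s ^ N + D * (π s - 1) ^ N = 1 := by
    have := congr(π (Polynomial.aeval s $hcd))
    rw [map_add, map_mul, map_mul, map_pow, map_pow, map_sub, Polynomial.aeval_X, map_one,
      map_add π, map_mul π, map_mul π, map_pow π, map_pow π, map_sub π, map_one π] at this
    exact this
  have he₀ : IsIdempotentElem (C * π s ^ N) := by
    show _ * _ = _
    linear_combination (C * π s ^ N) * hCD - C * D * hrel
  obtain ⟨e, he, hee⟩ := h N p hp hpm he₀
  let ψ : AdjoinRoot p →ₐ[A] AdjoinRoot f := AdjoinRoot.liftAlgHom p (Algebra.ofId A _)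
    (AdjoinRoot.root f) (by
      show Polynomial.aeval (AdjoinRoot.root f) p = 0
      rw [map_mul, AdjoinRoot.aeval_eq, AdjoinRoot.mk_self, zero_mul])
  let π' := Ideal.Quotient.mk (I.map (algebraMap A (AdjoinRoot f)))
  let ψ' : _ →+* _ := Ideal.quotientMap (I.map (algebraMap A (AdjoinRoot f))) ψ.toRingHom (by
    rw [Ideal.map_le_iff_le_comap, Ideal.comap_comap]
    exact Ideal.le_comap_map.trans_eq
      (congrArg (fun φ => Ideal.comap φ (I.map (algebraMap A (AdjoinRoot f)))) ψ.comp_algebraMap.symm) : I.map (algebraMap A (AdjoinRoot p)) ≤ _)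
  refine ⟨ψ e, he.map ψ, ?_⟩
  have h1 : π' (ψ e) = ψ' (π e) := rfl
  have hs : ψ' (π s) = π' (AdjoinRoot.root f) := by
    show π' (ψ s) = _
    simp [ψ, s]
  have hrel' : π' (AdjoinRoot.root f) ^ N * (π' (AdjoinRoot.root f) - 1) = 0 := by
    let φ : A ⧸ I →+* (AdjoinRoot f) ⧸ I.map (algebraMap A (AdjoinRoot f)) :=
      Ideal.quotientMap _ (algebraMap A (AdjoinRoot f)) Ideal.le_comap_map
    have h0 : π' (Polynomial.aeval (AdjoinRoot.root f) f) =
        (f.map (Ideal.Quotient.mk I)).eval₂ φ (π' (AdjoinRoot.root f)) := by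
      rw [Polynomial.eval₂_map, Polynomial.aeval_def, Polynomial.hom_eval₂]; rfl
    rw [hmap, AdjoinRoot.aeval_eq, AdjoinRoot.mk_self, map_zero] at h0
    rw [Polynomial.eval₂_mul, Polynomial.eval₂_pow, Polynomial.eval₂_sub, Polynomial.eval₂_X,
      Polynomial.eval₂_one] at h0
    exact h0.symm
  change π' (ψ e) = π' (AdjoinRoot.root f) ^ N
  rw [h1, show π e = C * π s ^ N from hee, map_mul, map_pow, hs]
  have hCD' := congr(ψ' $hCD)
  rw [map_add, map_mul, map_mul, map_pow, map_pow, map_sub, map_one, hs] at hCD'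
  have hz : π' (AdjoinRoot.root f) ^ N * (π' (AdjoinRoot.root f) - 1) ^ N = 0 := by
    obtain ⟨k, hk⟩ := Nat.exists_eq_succ_of_ne_zero hN.ne'
    rw [hk] at hrel' ⊢
    rw [pow_succ' (π' (AdjoinRoot.root f) - 1), ← mul_assoc, hrel', zero_mul]
  have hidem' : π' (AdjoinRoot.root f) ^ N * π' (AdjoinRoot.root f) ^ N =
      π' (AdjoinRoot.root f) ^ N := hidem
  linear_combination π' (AdjoinRoot.root f) ^ N * hCD' - ψ' C * hidem' - ψ' D * hz

end Groth.Agent.S17968
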