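import Groth.Statements.S17969
import Mathlib

set_option autoImplicit false
universe u
open scoped TensorProduct
open CAlg

namespace Groth.Agent.S17969

/-- Let A be an integrally closed domain with fraction field K and B a commutative A-algebra which is
finite and torsion-free as an A-module and generated as an A-algebra by a single element x. Let P be
the characteristic polynomial of multiplication by 1 ⊗ x on the finite free K-module K ⊗_A B. Then P
has coefficients in A, namely P is the image of a monic polynomial over A, and the kernel of the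
A-algebra map A[T] → B sending T to x is generated by that polynomial, so that B is A[T]/(P). -/
theorem result
    (A : Type u) [CommRing A] [IsDomain A] [IsIntegrallyClosed A]
    (B : Type u) [CommRing B] [Algebra A B] [Module.Finite A B] [NoZeroSMulDivisors A B]
    (x : B) (hx : Algebra.adjoin A {x} = ⊤) :
    ∃ P : Polynomial A, P.Monic ∧
      Polynomial.map (algebraMap A (FractionRing A)) P =
        (LinearMap.mulLeft (FractionRing A) ((1 : FractionRing A) ⊗ₜ[A] x)).charpoly ∧
      RingHom.ker (Polynomial.aeval x).toRingHom = Ideal.span {P} := by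
  classical
  let K := FractionRing A
  let L := K ⊗[A] B
  let y : L := (1 : K) ⊗ₜ[A] x
  have hinj : Function.Injective (Algebra.TensorProduct.includeRight : B →ₐ[A] L) := by
    rw [injective_iff_map_eq_zero]
    intro b hb
    have hloc : IsLocalizedModule (nonZeroDivisors A) (TensorProduct.mk A K B 1) :=
      (isLocalizedModule_iff_isBaseChange (nonZeroDivisors A) K _).2 (TensorProduct.isBaseChange A B K)
    obtain ⟨c, hc⟩ := (IsLocalizedModule.eq_zero_iff (nonZeroDivisors A) (TensorProduct.mk A K B 1)).1
      (show TensorProduct.mk A K B 1 b = 0 from hb)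
    exact (eq_zero_or_eq_zero_of_smul_eq_zero (show (c : A) • b = 0 from hc)).resolve_left (nonZeroDivisors.coe_ne_zero c)
  have haeval : ∀ Q : Polynomial A, Polynomial.aeval y (Q.map (algebraMap A K)) =
      (1 : K) ⊗ₜ[A] Polynomial.aeval x Q := fun Q => by
    rw [Polynomial.aeval_map_algebraMap,
      show (1 : K) ⊗ₜ[A] Polynomial.aeval x Q =
        (Algebra.TensorProduct.includeRight : B →ₐ[A] L) (Polynomial.aeval x Q) from rfl,
      ← Polynomial.aeval_algHom_apply]
    rfl
  let Pc := (LinearMap.mulLeft K y).charpoly
  have hCH : Polynomial.aeval y Pc = 0 := by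
    have h := LinearMap.aeval_self_charpoly (LinearMap.mulLeft K y)
    have e : Polynomial.aeval (Algebra.lmul K L y) Pc = Algebra.lmul K L (Polynomial.aeval y Pc) :=
      Polynomial.aeval_algHom_apply _ _ _
    have h1 := congrArg (fun φ : Module.End K L => φ 1) (e.symm.trans h)
    simpa using h1
  have hgen : ∀ z : L, ∃ Q : Polynomial K, Polynomial.aeval y Q = z := by
    intro z
    induction z using TensorProduct.induction_on with
    | zero => exact ⟨0, map_zero _⟩
    | tmul c b =>
      obtain ⟨Q, rfl⟩ : ∃ Q : Polynomial A, Polynomial.aeval x Q = b := by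
        have : b ∈ Algebra.adjoin A {x} := hx ▸ Algebra.mem_top
        rwa [Algebra.adjoin_singleton_eq_range_aeval] at this
      refine ⟨Polynomial.C c * Q.map (algebraMap A K), ?_⟩
      rw [map_mul, haeval, Polynomial.aeval_C, Algebra.TensorProduct.algebraMap_apply,
        Algebra.TensorProduct.tmul_mul_tmul, mul_one, one_mul]
      rfl
    | add a b ha hb =>
      obtain ⟨P, rfl⟩ := ha; obtain ⟨Q, rfl⟩ := hb
      exact ⟨P + Q, map_add _ _ _⟩
  have hint : IsIntegral K y := ⟨Pc, LinearMap.charpoly_monic _, hCH⟩
  let μ := minpoly K y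
  have hμ : μ.Monic := minpoly.monic hint
  have hdim : Module.finrank K L ≤ μ.natDegree := by
    let T : Polynomial.degreeLT K μ.natDegree →ₗ[K] L :=
      (Polynomial.aeval y).toLinearMap ∘ₗ (Polynomial.degreeLT K μ.natDegree).subtype
    have hT : Function.Surjective T := by
      intro z
      obtain ⟨Q, rfl⟩ := hgen z
      refine ⟨⟨Q %ₘ μ, ?_⟩, ?_⟩
      · rw [Polynomial.mem_degreeLT]
        rcases subsingleton_or_nontrivial L with hL | hL
        · by_cases h0 : Q %ₘ μ = 0
          · rw [h0, Polynomial.degree_zero]; exact WithBot.bot_lt_coe _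
          · exact lt_of_lt_of_le (Polynomial.degree_modByMonic_lt Q hμ) Polynomial.degree_le_natDegree
        · exact lt_of_lt_of_le (Polynomial.degree_modByMonic_lt Q hμ) Polynomial.degree_le_natDegree
      · show Polynomial.aeval y (Q %ₘ μ) = Polynomial.aeval y Q
        conv_rhs => rw [← Polynomial.modByMonic_add_div Q (q := μ)]
        rw [map_add, map_mul, minpoly.aeval, zero_mul, add_zero]
    refine (LinearMap.finrank_le_finrank_of_surjective hT).trans (le_of_eq ?_)
    rw [LinearEquiv.finrank_eq (Polynomial.degreeLTEquiv K μ.natDegree), Module.finrank_fin_fun]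
  have hμP : μ = Pc := Polynomial.eq_of_monic_of_dvd_of_natDegree_le hμ (LinearMap.charpoly_monic _)
    (minpoly.dvd K y hCH) (by rw [LinearMap.charpoly_natDegree]; exact hdim) |>.symm
  obtain ⟨G, hG, hGx⟩ := Algebra.IsIntegral.isIntegral (R := A) x
  have hdvd : μ ∣ G.map (algebraMap A K) := minpoly.dvd K y (by
    rw [haeval, show Polynomial.aeval x G = 0 from hGx, TensorProduct.tmul_zero])
  obtain ⟨P, hP⟩ := IsIntegrallyClosed.eq_map_mul_C_of_dvd K hG hdvd
  rw [show μ.leadingCoeff = 1 from hμ, map_one, mul_one] at hP
  have hPm : P.Monic := Polynomial.monic_of_injective (IsFractionRing.injective A K) (hP ▸ hμ)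
  refine ⟨P, hPm, hP.trans hμP, le_antisymm (fun Q hQ => ?_) ?_⟩
  · rw [Ideal.mem_span_singleton]
    refine (Polynomial.map_dvd_map _ (IsFractionRing.injective A K) hPm).1 ?_
    rw [hP]
    exact minpoly.dvd K y (by rw [haeval, show Polynomial.aeval x Q = 0 from hQ, TensorProduct.tmul_zero])
  · rw [Ideal.span_le, Set.singleton_subset_iff, SetLike.mem_coe, RingHom.mem_ker]
    show Polynomial.aeval x P = 0
    apply hinj
    rw [map_zero]
    show (1 : K) ⊗ₜ[A] Polynomial.aeval x P = 0
    rw [← haeval, hP, minpoly.aeval]

end Groth.Agent.S17969
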