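import Groth.Statements.S17971
import Groth.Agent.HensCouple7.Affine
-- import your own Groth.Agent.* helpers here

set_option autoImplicit false
open CategoryTheory CategoryTheory.Limits AlgebraicGeometry
universe u
open Hensel

namespace Groth.Agent.S17971

/-- For a commutative ring A and an ideal I, the pair (A, I) is henselian if and only if the couple
(Spec A, Spec (A/I)) is henselian, i.e. if and only if for every finite morphism g : Y ⟶ Spec A
every open-closed subset of Y ×_{Spec A} Spec (A/I) is the inverse image under the first projection
of exactly one open-closed subset of Y. -/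
theorem result (A : Type u) [CommRing A] (I : Ideal A) :
    HenselianRing A I ↔
    ∀ (Y : Scheme.{u}) (g : Y ⟶ Spec (CommRingCat.of A)), IsFinite g →
      ∀ V : Set ↥(pullback g (Spec.map (CommRingCat.ofHom (Ideal.Quotient.mk I)))), IsClopen V →
        ∃! U : Set ↥Y, IsClopen U ∧ (pullback.fst g (Spec.map (CommRingCat.ofHom (Ideal.Quotient.mk I)))).base ⁻¹' U = V := by
  haveI : IsClosedImmersion (Spec.map (CommRingCat.ofHom (Ideal.Quotient.mk I))) :=
    IsClosedImmersion.spec_of_surjective _ Ideal.Quotient.mk_surjective
  have hr : Set.range (Spec.map (CommRingCat.ofHom (Ideal.Quotient.mk I))) = PrimeSpectrum.zeroLocus (I : Set A) := by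
    show Set.range (PrimeSpectrum.comap (Ideal.Quotient.mk I)) = _
    rw [range_comap_of_surjective _ _ Ideal.Quotient.mk_surjective, Ideal.mk_ker]
  rw [Groth.Agent.HensCouple7.henselianRing_iff_lifts]
  refine forall_congr' fun Y => forall_congr' fun g => imp_congr_right fun _ => ?_
  rw [Groth.Agent.HensCouple7.scheme_lifts_iff, hr]

end Groth.Agent.S17971
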