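import Groth.Statements.S17973
import Groth.Agent.EssEtLib.Trans

set_option autoImplicit false
universe u
open EGA4loc

namespace Groth.Agent.S17973

/-- Let A be a local ring, B a local ring which is a local-etale A-algebra (isomorphic over A to the
localization of an etale A-algebra at a prime ideal lying over the maximal ideal of A), and C a
local-etale B-algebra, regarded as an A-algebra through B. Then C is a local-etale A-algebra. -/
theorem result (A : Type u) [CommRing A] [IsLocalRing A]
    (B : Type u) [CommRing B] [IsLocalRing B] [Algebra A B]
    (C : Type u) [CommRing C] [Algebra B C] [Algebra A C] [IsScalarTower A B C]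
    (hB : EGA4loc.IsEssentiallyEtale A B) (hC : EGA4loc.IsEssentiallyEtale B C) :
    EGA4loc.IsEssentiallyEtale A C := by
  exact Groth.Agent.EssEtLib.isEssentiallyEtale_trans hB hC

end Groth.Agent.S17973
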