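import Groth.Statements.S17974
import Mathlib.RingTheory.Unramified.Finite
import Mathlib.RingTheory.Localization.Away.Basic

set_option autoImplicit false
universe u
open Unram

namespace Groth.Agent.S17974
open TensorProduct

/-- Let A be a commutative ring, B an unramified A-algebra (formally unramified and of finite type), C
an A-algebra, p a prime ideal of C, and u, v : B → C two A-algebra homomorphisms which agree after
composition with C → C/p. Then there is an element f of C not in p such that u and v agree after
composition with the localization map C → C[1/f]. -/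
theorem result
    (A : Type u) [CommRing A] (B : Type u) [CommRing B] [Algebra A B]
    [Algebra.FormallyUnramified A B] [Algebra.FiniteType A B]
    (C : Type u) [CommRing C] [Algebra A C] (p : Ideal C) [p.IsPrime]
    (u v : B →ₐ[A] C)
    (huv : (Ideal.Quotient.mk p).comp u.toRingHom = (Ideal.Quotient.mk p).comp v.toRingHom) :
    ∃ f : C, f ∉ p ∧
      (algebraMap C (Localization.Away f)).comp u.toRingHom =
        (algebraMap C (Localization.Away f)).comp v.toRingHom := by
  obtain ⟨t, ht, ht1⟩ := Algebra.FormallyUnramified.iff_exists_tensorProduct.1
    (inferInstance : Algebra.FormallyUnramified A B)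
  let Φ : B ⊗[A] B →ₐ[A] C := Algebra.TensorProduct.lift u v fun _ _ => .all _ _
  refine ⟨Φ t, ?_, ?_⟩
  · have h : ∀ z : B ⊗[A] B, Ideal.Quotient.mk p (Φ z) =
        Ideal.Quotient.mk p (u (Algebra.TensorProduct.lmul' A z)) := by
      intro z
      induction z with
      | zero => simp
      | add a b ha hb => simp only [map_add, ha, hb]
      | tmul a b =>
        have := RingHom.congr_fun huv b
        simp only [RingHom.comp_apply] at this
        simp only [Φ, Algebra.TensorProduct.lift_tmul, Algebra.TensorProduct.lmul'_apply_tmul, map_mul]
        rw [show Ideal.Quotient.mk p (u b) = Ideal.Quotient.mk p (v b) from this]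
    intro hf
    have := h t
    rw [Ideal.Quotient.eq_zero_iff_mem.2 hf, ht1, map_one, map_one] at this
    exact Ideal.IsPrime.ne_top ‹_› ((Ideal.eq_top_iff_one p).2
      (Ideal.Quotient.eq_zero_iff_mem.1 this.symm))
  · ext b
    have h0 : (v b - u b) * Φ t = 0 := by
      have := congrArg Φ (ht b)
      simpa [Φ] using this
    change algebraMap C (Localization.Away (Φ t)) (u b) = algebraMap C (Localization.Away (Φ t)) (v b)
    rw [eq_comm, ← sub_eq_zero, ← map_sub,
      IsLocalization.map_eq_zero_iff (Submonoid.powers (Φ t)) (Localization.Away (Φ t))]
    exact ⟨⟨Φ t, Submonoid.mem_powers _⟩, by rw [mul_comm]; exact h0⟩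

end Groth.Agent.S17974
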