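import Groth.Statements.S17975
import Groth.Agent.Hensel.MonicPoly
-- import your own Groth.Agent.* helpers here

set_option autoImplicit false
universe u
open Hensel

namespace Groth.Agent.S17975

/-- Let A be a local ring with maximal ideal m and residue field k, C a commutative A-algebra which is
finitely generated as an A-module, Q₀ a monic polynomial of degree n over k, e an A-algebra
isomorphism from C/mC to k[T]/(Q₀), and x an element of C whose class is sent by e to the class of
T. Then x generates C as an A-algebra, and x is a root of a monic polynomial Q over A of degree n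
whose reduction modulo m equals Q₀. -/
theorem result
    (A : Type u) [CommRing A] [IsLocalRing A] (C : Type u) [CommRing C] [Algebra A C] [Module.Finite A C]
    (Q₀ : Polynomial (IsLocalRing.ResidueField A)) (hQ₀ : Q₀.Monic)
    (e : (C ⧸ Ideal.map (algebraMap A C) (IsLocalRing.maximalIdeal A)) ≃ₐ[A] AdjoinRoot Q₀)
    (x : C) (hx : e (Ideal.Quotient.mk (Ideal.map (algebraMap A C) (IsLocalRing.maximalIdeal A)) x) = AdjoinRoot.root Q₀) :
    Algebra.adjoin A {x} = ⊤ ∧
      ∃ Q : Polynomial A, Q.Monic ∧ Q.natDegree = Q₀.natDegree ∧
        Polynomial.map (IsLocalRing.residue A) Q = Q₀ ∧ Polynomial.aeval x Q = 0 := by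
  exact Groth.Agent.Hensel.exists_monic_of_adjoinRoot_residue Q₀ hQ₀ e x hx

end Groth.Agent.S17975
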