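import Groth.Statements.S17976
import Groth.Agent.Hensel.FiniteDescent
-- import your own Groth.Agent.* helpers here

set_option autoImplicit false
universe u
open Hensel

namespace Groth.Agent.S17976

/-- Let A be a commutative ring, I an ideal of A and B an A-algebra of finite type such that B/IB is a
finite A-module. Then there exist an etale A-algebra A' such that A → A'/IA' is surjective with
kernel I, and a commutative ring C which is an A'-algebra finite over A' and an etale B-algebra,
with compatible A-algebra structures, such that B → C/IC is surjective with kernel IB. In scheme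
language: an etale affine neighbourhood S' of Spec (A/I) in Spec A and an etale neighbourhood Z =
Spec C of Spec (B/IB) in Spec B, finite over S', forming a commutative square. -/
theorem result
    (A : Type u) [CommRing A] (I : Ideal A) (B : Type u) [CommRing B] [Algebra A B] [Algebra.FiniteType A B]
    (hfin : Module.Finite A (B ⧸ Ideal.map (algebraMap A B) I)) :
    ∃ (A' : Type u) (_ : CommRing A') (_ : Algebra A A') (_ : Algebra.Etale A A')
      (C : Type u) (_ : CommRing C) (_ : Algebra A C) (_ : Algebra A' C) (_ : Algebra B C)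
      (_ : IsScalarTower A A' C) (_ : IsScalarTower A B C),
      Function.Surjective ((Ideal.Quotient.mk (Ideal.map (algebraMap A A') I)).comp (algebraMap A A')) ∧
      RingHom.ker ((Ideal.Quotient.mk (Ideal.map (algebraMap A A') I)).comp (algebraMap A A')) = I ∧
      Algebra.Etale B C ∧ Module.Finite A' C ∧
      Function.Surjective ((Ideal.Quotient.mk (Ideal.map (algebraMap A C) I)).comp (algebraMap B C)) ∧
      RingHom.ker ((Ideal.Quotient.mk (Ideal.map (algebraMap A C) I)).comp (algebraMap B C)) =
        Ideal.map (algebraMap A B) I := by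
  
  open TensorProduct in
  obtain ⟨V, _, _, _, e, hV, he, he1, hfinC⟩ := Hensel.exists_etale_idempotent_finite I (B := B)
  let : Algebra B (V ⊗[A] B) := Algebra.TensorProduct.rightAlgebra
  have : IsScalarTower A B (V ⊗[A] B) := .of_algebraMap_eq fun a => by
    show algebraMap A (V ⊗[A] B) a = (1 : V) ⊗ₜ[A] algebraMap A B a
    exact ((Algebra.TensorProduct.includeRight (A := V)).commutes a).symm
  have : Algebra.Etale B (V ⊗[A] B) := Algebra.Etale.of_equiv (Algebra.TensorProduct.commRight A B V)
  let C := (V ⊗[A] B) ⧸ Ideal.span {1 - e}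
  have : IsLocalization.Away e C := IsLocalization.Away.quotient_of_isIdempotentElem he
  have : Algebra.Etale (V ⊗[A] B) C := Algebra.Etale.of_isLocalizationAway e
  have hBC : Algebra.Etale B C := Algebra.Etale.comp B (V ⊗[A] B) C
  have : IsScalarTower A B C := inferInstance
  refine ⟨V, inferInstance, inferInstance, inferInstance, C, inferInstance, inferInstance, inferInstance, inferInstance,
    inferInstance, inferInstance, ?_, ?_, hBC, hfinC, ?_, ?_⟩
  · intro x
    obtain ⟨a, ha⟩ := hV.2 x
    obtain ⟨a, rfl⟩ := Ideal.Quotient.mk_surjective a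
    exact ⟨a, ha⟩
  · ext a
    have := hV.1.eq_iff (a := Ideal.Quotient.mk I a) (b := 0)
    rw [map_zero, Ideal.quotientMap_mk, Ideal.Quotient.eq_zero_iff_mem (I := I)] at this
    exact this
  · have key : ∀ t : V ⊗[A] B, ∃ b : B, Ideal.Quotient.mk (I.map (algebraMap A C)) (algebraMap B C b) =
        Ideal.Quotient.mk (I.map (algebraMap A C)) (Ideal.Quotient.mk _ t) := by
      intro t
      induction t using TensorProduct.induction_on with
      | zero => exact ⟨0, by simp⟩
      | add x y hx hy =>
        obtain ⟨b, hb⟩ := hx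
        obtain ⟨c, hc⟩ := hy
        exact ⟨b + c, by simp [hb, hc]⟩
      | tmul v b =>
        obtain ⟨a, ha⟩ := hV.2 (Ideal.Quotient.mk _ v)
        obtain ⟨a, rfl⟩ := Ideal.Quotient.mk_surjective a
        rw [Ideal.quotientMap_mk, Ideal.Quotient.eq] at ha
        refine ⟨a • b, Ideal.Quotient.eq.mpr ?_⟩
        let f : V →ₐ[A] C := IsScalarTower.toAlgHom A V C
        have h1 : f (algebraMap A V a - v) * Ideal.Quotient.mk _ ((1 : V) ⊗ₜ[A] b) ∈ I.map (algebraMap A C) := by
          refine Ideal.mul_mem_right _ _ ?_
          have := Ideal.mem_map_of_mem f.toRingHom ha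
          rwa [Ideal.map_map, show f.toRingHom.comp (algebraMap A V) = algebraMap A C from f.comp_algebraMap] at this
        convert h1 using 1
        show Ideal.Quotient.mk (Ideal.span {1 - e}) ((1 : V) ⊗ₜ[A] (a • b)) - Ideal.Quotient.mk _ (v ⊗ₜ[A] b) =
          Ideal.Quotient.mk _ ((algebraMap A V a - v) ⊗ₜ[A] (1 : B)) * _
        rw [← map_mul, ← map_sub, Algebra.TensorProduct.tmul_mul_tmul, mul_one, one_mul, TensorProduct.sub_tmul,
          Algebra.algebraMap_eq_smul_one, TensorProduct.smul_tmul]
    intro z
    obtain ⟨z, rfl⟩ := Ideal.Quotient.mk_surjective z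
    obtain ⟨t, rfl⟩ := Ideal.Quotient.mk_surjective z
    exact key t
  · obtain ⟨τ, -⟩ := Hensel.exists_toQuot_of_isPairNbhd I hV
    let Bb := B ⧸ I.map (algebraMap A B)
    let G : V ⊗[A] B →ₐ[A] Bb := Algebra.TensorProduct.lift
      ((Ideal.Quotient.liftₐ I (Algebra.ofId A Bb) fun a ha =>
        Ideal.Quotient.eq_zero_iff_mem.mpr (Ideal.mem_map_of_mem (algebraMap A B) ha)).comp τ)
      (Ideal.Quotient.mkₐ A _) fun _ _ => .all _ _
    have hzero : ∀ (D : Type u) [CommRing D] [Algebra A D] (F : D →ₐ[A] Bb), ∀ x ∈ I.map (algebraMap A D), F x = 0 := by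
      intro D _ _ F x hx
      have := Ideal.mem_map_of_mem F.toRingHom hx
      rw [Ideal.map_map, show F.toRingHom.comp (algebraMap A D) = (Ideal.Quotient.mk (I.map (algebraMap A B))).comp (algebraMap A B) from
        F.comp_algebraMap, ← Ideal.map_map, Ideal.map_quotient_self] at this
      exact (Submodule.mem_bot _).mp this
    let g : C →ₐ[A] Bb := Ideal.Quotient.liftₐ _ G fun x hx => by
      obtain ⟨c, rfl⟩ := Ideal.mem_span_singleton'.mp hx
      rw [map_mul, hzero _ G _ he1, mul_zero]
    ext b
    constructor
    · intro hb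
      have h1 := hzero _ g _ (Ideal.Quotient.eq_zero_iff_mem.mp hb)
      rw [← Ideal.Quotient.eq_zero_iff_mem, ← h1]
      show Ideal.Quotient.mk _ b = G ((1 : V) ⊗ₜ[A] b)
      simp [G, Bb]
    · intro hb
      refine Ideal.Quotient.eq_zero_iff_mem.mpr ?_
      have := Ideal.mem_map_of_mem (algebraMap B C) hb
      rwa [Ideal.map_map, ← IsScalarTower.algebraMap_eq] at this

end Groth.Agent.S17976
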