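import Groth.Statements.S17978
import Groth.Agent.EssEtLib.LocalHom

set_option autoImplicit false
universe u
open EGA4loc

namespace Groth.Agent.S17978

/-- Let A be a local ring, B a local ring which is a local-etale A-algebra, and C a local ring with a
local structure map A → C. Then two A-algebra homomorphisms B → C which agree after composition with
the residue map of C are equal; in other words an A-algebra map B → C is determined by the map it
induces on residue fields. (The source states this for local ind-etale B and reduces to the
local-etale case stated here; C is an arbitrary local A-algebra with local structure map.) -/
theorem result (A : Type u) [CommRing A] [IsLocalRing A]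
    (B : Type u) [CommRing B] [IsLocalRing B] [Algebra A B] (hB : EGA4loc.IsEssentiallyEtale A B)
    (C : Type u) [CommRing C] [IsLocalRing C] [Algebra A C] [IsLocalHom (algebraMap A C)]
    (u v : B →ₐ[A] C)
    (h : (IsLocalRing.residue C).comp u.toRingHom = (IsLocalRing.residue C).comp v.toRingHom) :
    u = v := by
  haveI := Groth.Agent.EssEtLib.isLocalHom_algebraMap hB
  exact Groth.Agent.EtAlg7.algHom_ext_residue hB u v fun x => congr($h x)

end Groth.Agent.S17978
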