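import Groth.Statements.S1798
import Groth.Agent.LocCohDepth.PuncturedKill
-- import your own Groth.Agent.* helpers here

set_option autoImplicit false
universe u
open CategoryTheory AlgebraicGeometry
open LocCoh

namespace Groth.Agent.S1798

/-- Let A be a ring, J ⊆ I finitely generated ideals, U the open complement of V(I) in Spec A and p ≥ 0.
If some power of J kills H^p(U, O_U), then for each finite locally free O_U-module F some power of J
kills H^p(U, F). -/
theorem result (A : Type u) [CommRing A] (J I : Ideal A) (hJI : J ≤ I) (hJ : J.FG) (hI : I.FG) (p n : ℕ) (hO : ∀ a ∈ J ^ n, ∀ x : Coh.HH (↑(LocCoh.puncturedOpen A I)) (Coh.structureModule (↑(LocCoh.puncturedOpen A I))) p, a • x = 0) (F : (↑(LocCoh.puncturedOpen A I) : Scheme.{u}).Modules) (hF : FlatMod.IsFinLocFree F) : ∃ m : ℕ, ∀ a ∈ J ^ m, ∀ x : Coh.HH (↑(LocCoh.puncturedOpen A I)) F p, a • x = 0 := by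
  exact Groth.Agent.LocCohDepth.Punct.exists_pow_kill I J hJI hI p n hO F hF

end Groth.Agent.S1798
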