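import Groth.Statements.S17982
import Groth.Agent.Hensel.Local

set_option autoImplicit false
universe u
open Hensel

namespace Groth.Agent.S17982

/-- Let A be a local ring and B a commutative A-algebra which is finitely generated as an A-module. Then
B is ring-isomorphic to a finite product of local rings if and only if the canonical homomorphism
from B to the product of the localizations of B at its maximal ideals is bijective. -/
theorem result
    (A : Type u) [CommRing A] [IsLocalRing A] (B : Type u) [CommRing B] [Algebra A B] [Module.Finite A B] :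
    (∃ (ι : Type u) (_ : Fintype ι) (C : ι → Type u) (_ : ∀ j, CommRing (C j)),
        (∀ j, IsLocalRing (C j)) ∧ Nonempty (B ≃+* (∀ j, C j))) ↔
    Function.Bijective
      (RingHom.pi (fun n : MaximalSpectrum B => algebraMap B (Localization.AtPrime n.asIdeal))) := by
  constructor
  · rintro ⟨_, _, _, _, hC, ⟨φ⟩⟩
    obtain ⟨_, e, he, hM⟩ := Groth.Agent.Hensel.exists_idempotents_of_surjOn A B
      (Groth.Agent.Hensel.surjOn_idempotents_of_ringEquiv_pi hC φ _)
    exact Groth.Agent.Hensel.bijective_pi_localization he hM
  · intro h
    have := Groth.Agent.Hensel.isArtinianRing_quotient_map_maximalIdeal A B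
    have : Finite (MaximalSpectrum B) := by
      let J := (IsLocalRing.maximalIdeal A).map (algebraMap A B)
      have hJ : ∀ M : MaximalSpectrum B, J ≤ M.asIdeal := fun M =>
        (Groth.Agent.Hensel.map_maximalIdeal_le_jacobson A B).trans (sInf_le ⟨bot_le, M.isMaximal⟩)
      refine Finite.of_injective (fun M => (⟨M.asIdeal.map (Ideal.Quotient.mk J),
        Ideal.map_isPrime_of_surjective Ideal.Quotient.mk_surjective
          (by rw [Ideal.mk_ker]; exact hJ M)⟩ : PrimeSpectrum (B ⧸ J))) fun M M' hMM => ?_
      refine MaximalSpectrum.ext ?_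
      have e : M.asIdeal.map (Ideal.Quotient.mk J) = M'.asIdeal.map (Ideal.Quotient.mk J) :=
        congr(($hMM).asIdeal)
      rw [← Ideal.comap_map_mk (hJ M), ← Ideal.comap_map_mk (hJ M'), e]
    exact ⟨MaximalSpectrum B, Fintype.ofFinite _, fun n => Localization.AtPrime n.asIdeal,
      inferInstance, fun n => inferInstance, ⟨RingEquiv.ofBijective _ h⟩⟩

end Groth.Agent.S17982
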