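import Groth.Statements.S17983
import Mathlib
-- import your own Groth.Agent.* helpers here

set_option autoImplicit false
universe u
open WeilNum

namespace Groth.Agent.S17983

open Polynomial

private theorem reverse_prod (s : Multiset ℂ) (hs : ∀ r ∈ s, r ≠ 0) :
    ((s.map fun r => X - C r).prod).reverse =
      C ((s.map fun r => -r).prod) * (s.map fun r => X - C r⁻¹).prod := by
  induction s using Multiset.induction_on with
  | empty => simp [Polynomial.reverse]
  | cons r s ih =>
    have h1 : (X - C r).reverse = C (-r) * (X - C r⁻¹) := by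
      have hr := hs r (Multiset.mem_cons_self _ _)
      ext n
      rcases n with _ | _ | n <;>
        simp [Polynomial.coeff_reverse, Polynomial.revAt, hr, Polynomial.coeff_X, Polynomial.coeff_C]
    simp only [Multiset.map_cons, Multiset.prod_cons, reverse_mul_of_domain, h1,
      ih (fun a ha => hs a (Multiset.mem_cons_of_mem ha)), map_mul]
    ring

private theorem scaleRoots_prod (s : Multiset ℂ) (c : ℂ) :
    (s.map fun r => X - C (c * r)).prod = ((s.map fun r => X - C r).prod).scaleRoots c := by
  induction s using Multiset.induction_on with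
  | empty => simp
  | cons r s ih =>
    have h1 : (X - C r).scaleRoots c = X - C (c * r) := by
      ext n
      rcases n with _ | _ | n <;> simp [Polynomial.coeff_X, Polynomial.coeff_C, mul_comm]
    simp only [Multiset.map_cons, Multiset.prod_cons, mul_scaleRoots_of_noZeroDivisors, h1, ih]

open scoped ComplexConjugate in
/-- The roots of a nonreal Weil number come in conjugate pairs. -/
private theorem prod_eq (t : Finset ℂ) (c : ℝ) (hc : ∀ z ∈ t, Complex.normSq z = c) (him : ∀ z ∈ t, z.im ≠ 0)
    (hconj : ∀ z ∈ t, conj z ∈ t) : ∃ m : ℕ, t.card = 2 * m ∧ ∏ z ∈ t, z = (c : ℂ) ^ m := by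
  classical
  let a := t.filter fun z => 0 < z.im
  let b := t.filter fun z => ¬ 0 < z.im
  have hb : b = a.image fun z => conj z := by
    ext z
    simp only [a, b, Finset.mem_filter, Finset.mem_image]
    constructor
    · rintro ⟨hz, hn⟩
      refine ⟨conj z, ⟨hconj z hz, ?_⟩, Complex.conj_conj z⟩
      have := him z hz
      rw [Complex.conj_im]
      rcases lt_or_gt_of_ne this with h | h
      · linarith
      · exact absurd h hn
    · rintro ⟨w, ⟨hw, hp⟩, rfl⟩
      exact ⟨hconj w hw, by rw [Complex.conj_im]; linarith⟩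
  have hinj : Set.InjOn (fun z : ℂ => conj z) ↑a := (starRingEnd ℂ).injective.injOn
  refine ⟨a.card, ?_, ?_⟩
  · have := Finset.card_filter_add_card_filter_not (s := t) fun z => 0 < z.im
    rw [← this]
    show a.card + b.card = _
    rw [hb, Finset.card_image_of_injOn hinj]; omega
  · rw [← Finset.prod_filter_mul_prod_filter_not t (fun z => 0 < z.im)]
    show (∏ z ∈ a, z) * ∏ z ∈ b, z = _
    rw [hb, Finset.prod_image hinj, ← Finset.prod_mul_distrib, ← Finset.prod_const]
    refine Finset.prod_congr rfl fun z hz => ?_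
    rw [Complex.mul_conj, hc z (Finset.mem_filter.1 hz).1]


/-- Let p be a prime number, e ≥ 1 and q = p^e. Let π be an element of a field of characteristic zero
which is integral over ℤ, with minimal polynomial P over ℤ, and assume that every complex root of P
has absolute value √q and that no complex root of P is real (π is a nonreal Weil q-number). Then the
degree of P is even, say 2d, and writing a_j for the coefficient of x^j in P one has a_{d−r} = q^r ·
a_{d+r} for every 0 ≤ r ≤ d. -/
theorem result (p e : ℕ) [Fact p.Prime] (he : 0 < e)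
    (K : Type u) [Field K] [CharZero K] (π : K) (hπ : IsIntegral ℤ π)
    (hweil : ∀ z ∈ (minpoly ℤ π).aroots ℂ, ‖z‖ = Real.sqrt ((p : ℝ) ^ e))
    (hnr : ∀ z ∈ (minpoly ℤ π).aroots ℂ, z.im ≠ 0) :
    Even (minpoly ℤ π).natDegree ∧
      ∀ r ≤ (minpoly ℤ π).natDegree / 2,
        (minpoly ℤ π).coeff ((minpoly ℤ π).natDegree / 2 - r) =
          (p : ℤ) ^ (e * r) * (minpoly ℤ π).coeff ((minpoly ℤ π).natDegree / 2 + r) := by
  classical
  let P := minpoly ℤ π
  let g := algebraMap ℤ ℂ
  have hm : P.Monic := minpoly.monic hπ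
  have hn : (P.map g).natDegree = P.natDegree := hm.natDegree_map g
  set s : Multiset ℂ := P.aroots ℂ with hs
  have hs' : (P.map g).roots = s := rfl
  have hprod : P.map g = (s.map fun r => X - C r).prod :=
    (IsAlgClosed.splits (P.map g)).eq_prod_roots_of_monic (hm.map g)
  have hcard : s.card = P.natDegree := by
    rw [← hn]; exact (Polynomial.splits_iff_card_roots.1 (IsAlgClosed.splits (P.map g)))
  have hnodup : s.Nodup := by
    rw [← hs']
    refine Polynomial.nodup_roots ?_
    have hQ : minpoly ℚ π = P.map (algebraMap ℤ ℚ) := minpoly.isIntegrallyClosed_eq_field_fractions' ℚ hπ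
    have hsep : (minpoly ℚ π).Separable := (minpoly.irreducible hπ.tower_top).separable
    rw [hQ] at hsep
    have := hsep.map (f := algebraMap ℚ ℂ)
    rwa [Polynomial.map_map, ← IsScalarTower.algebraMap_eq ℤ ℚ ℂ] at this
  have hnorm : ∀ z ∈ s, Complex.normSq z = (p : ℝ) ^ e := fun z hz => by
    rw [Complex.normSq_eq_norm_sq, hweil z hz, Real.sq_sqrt (by positivity)]
  have hne : ∀ z ∈ s, z ≠ 0 := fun z hz h0 => hnr z hz (by rw [h0]; rfl)
  have hconj : s.map (starRingEnd ℂ) = s := by
    have h1 : ((P.map g).map (starRingEnd ℂ)) = P.map g := by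
      rw [Polynomial.map_map]
      exact congrArg (Polynomial.map · P) (RingHom.ext_int _ _)
    rw [hprod, Polynomial.map_multiset_prod, Multiset.map_map] at h1
    have h2 : ((s.map fun r => X - C r).map (Polynomial.map (starRingEnd ℂ))) =
        (s.map (starRingEnd ℂ)).map fun r => X - C r := by
      simp only [Multiset.map_map, Function.comp_def, Polynomial.map_sub, Polynomial.map_X, Polynomial.map_C]
    rw [Multiset.map_map] at h2
    rw [h2] at h1
    have h3 := congrArg Polynomial.roots h1
    rwa [Polynomial.roots_multiset_prod_X_sub_C, Polynomial.roots_multiset_prod_X_sub_C] at h3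
  obtain ⟨m, hm2, hpr⟩ := prod_eq s.toFinset ((p : ℝ) ^ e) (fun z hz => hnorm z (Multiset.mem_toFinset.1 hz))
    (fun z hz => hnr z (Multiset.mem_toFinset.1 hz))
    (fun z hz => Multiset.mem_toFinset.2 (hconj ▸ Multiset.mem_map_of_mem _ (Multiset.mem_toFinset.1 hz)))
  rw [Multiset.toFinset_card_of_nodup hnodup, hcard] at hm2
  refine ⟨⟨m, by show P.natDegree = _; omega⟩, fun r hr => ?_⟩
  change r ≤ P.natDegree / 2 at hr
  show P.coeff (P.natDegree / 2 - r) = (p : ℤ) ^ (e * r) * P.coeff (P.natDegree / 2 + r)
  rw [show P.natDegree / 2 = m by omega] at hr ⊢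
  let q : ℂ := (p : ℂ) ^ e
  have hq : q ≠ 0 := pow_ne_zero _ (Nat.cast_ne_zero.2 (Fact.out : p.Prime).ne_zero)
  have hneg : (s.map fun z => -z).prod = q ^ m := by
    have h1 : (s.map fun z => -z).prod = s.prod := by
      rw [Multiset.prod_map_neg, hcard, hm2, pow_mul, neg_one_sq, one_pow, one_mul]
    rw [h1, ← (Multiset.dedup_eq_self.2 hnodup)]
    rw [show s.dedup = s.toFinset.val from rfl, Finset.prod_val]
    refine hpr.trans ?_
    simp [q]
  have hinv : (s.map fun z => X - C z⁻¹) = s.map fun z => X - C (q⁻¹ * z) := by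
    conv_rhs => rw [← hconj, Multiset.map_map]
    refine Multiset.map_congr rfl fun z hz => ?_
    show _ = X - C (q⁻¹ * (starRingEnd ℂ) z)
    rw [Complex.inv_def, hnorm z hz, mul_comm]
    simp [q]
  have hrev := reverse_prod s hne
  rw [hinv, scaleRoots_prod, ← hprod, hneg] at hrev
  have hco := congrArg (fun Q : ℂ[X] => Q.coeff (m - r)) hrev
  simp only [Polynomial.coeff_reverse, Polynomial.coeff_C_mul, Polynomial.coeff_scaleRoots, hn,
    Polynomial.revAt_le (show m - r ≤ P.natDegree by omega), Polynomial.coeff_map] at hco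
  rw [show P.natDegree - (m - r) = m + r by omega, inv_pow, pow_add] at hco
  have h4 : g (P.coeff (m - r)) = q ^ r * g (P.coeff (m + r)) := by
    rw [hco]; field_simp
  apply (algebraMap ℤ ℂ).injective_int
  rw [map_mul, map_pow]
  simpa [q, pow_mul] using h4

end Groth.Agent.S17983
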