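import Groth.Statements.S17984
import Mathlib.RingTheory.Regular.RegularSequence
import Mathlib.RingTheory.Regular.IsSMulRegular
import Mathlib.FieldTheory.RatFunc.AsPolynomial
import Mathlib.Analysis.Complex.Polynomial.Basic
import Mathlib.RingTheory.Polynomial.GaussLemma
import Mathlib.FieldTheory.Minpoly.IsIntegrallyClosed
import Mathlib.Algebra.MvPolynomial.Division

set_option autoImplicit false
universe u
open MvPolynomial
open WeilNum
open Pointwise

namespace Groth.Agent.S17984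

open MvPolynomial

/-- `FV - q`. -/
noncomputable abbrev g (q : ℤ) : MvPolynomial (Fin 2) ℤ := X 0 * X 1 - C q

/-- A polynomial in `F`. -/
noncomputable abbrev inF (f : Polynomial ℤ) : MvPolynomial (Fin 2) ℤ := Polynomial.aeval (X 0) f

/-- `F ↦ T`, `V ↦ q / T`. -/
noncomputable def laurent (q : ℤ) : MvPolynomial (Fin 2) ℤ →ₐ[ℤ] RatFunc ℚ :=
  MvPolynomial.aeval ![RatFunc.X, (q : RatFunc ℚ) / RatFunc.X]

theorem laurent_g (q : ℤ) : laurent q (g q) = 0 := by
  simp [laurent, g, RatFunc.X_ne_zero, mul_div_cancel₀]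

theorem laurent_inF (q : ℤ) (f : Polynomial ℤ) :
    laurent q (inF f) = algebraMap (Polynomial ℚ) (RatFunc ℚ) (f.map (Int.castRingHom ℚ)) := by
  have h : (((laurent q).comp (Polynomial.aeval (X 0))) : Polynomial ℤ →ₐ[ℤ] RatFunc ℚ).toRingHom =
      (algebraMap (Polynomial ℚ) (RatFunc ℚ)).comp (Polynomial.mapRingHom (Int.castRingHom ℚ)) := by
    refine Polynomial.ringHom_ext' (RingHom.ext_int _ _) ?_
    simp [laurent, RatFunc.algebraMap_X]
  exact RingHom.congr_fun h f

theorem laurent_inF_eq_zero (q : ℤ) (f : Polynomial ℤ) (h : laurent q (inF f) = 0) : f = 0 := by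
  rw [laurent_inF, map_eq_zero_iff _ (RatFunc.algebraMap_injective ℚ)] at h
  exact (Polynomial.map_eq_zero_iff Int.cast_injective).1 h

theorem laurent_eq_zero_of_mem (q : ℤ) {x : MvPolynomial (Fin 2) ℤ} (h : x ∈ Ideal.span {g q}) :
    laurent q x = 0 := by
  obtain ⟨c, rfl⟩ := Ideal.mem_span_singleton'.1 h
  rw [map_mul, laurent_g, mul_zero]

theorem inF_inj_mod (q : ℤ) {f f' : Polynomial ℤ} (h : inF f - inF f' ∈ Ideal.span {g q}) : f = f' := by
  refine sub_eq_zero.1 (laurent_inF_eq_zero q _ ?_)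
  show laurent q (Polynomial.aeval (X 0) (f - f')) = 0
  rw [map_sub]
  exact laurent_eq_zero_of_mem q h

/-- Clearing `V`: `Fⁿ x` is a polynomial in `F` satisfying a divisibility. -/
theorem exists_inF (q : ℤ) (x : MvPolynomial (Fin 2) ℤ) : ∃ N : ℕ, ∀ n ≥ N, ∃ f : Polynomial ℤ,
    X 0 ^ n * x - inF f ∈ Ideal.span {g q} ∧
      Polynomial.C (q ^ n) ∣ f.comp (Polynomial.C q * Polynomial.X) := by
  induction x using MvPolynomial.induction_on with
  | C a =>
    refine ⟨0, fun n _ => ⟨Polynomial.C a * Polynomial.X ^ n, ?_, ?_⟩⟩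
    · convert Ideal.zero_mem _
      rw [sub_eq_zero, inF, map_mul, map_pow, Polynomial.aeval_C, Polynomial.aeval_X]
      exact mul_comm _ _
    · simp only [Polynomial.mul_comp, Polynomial.C_comp, Polynomial.pow_comp, Polynomial.X_comp, mul_pow,
        ← Polynomial.C_pow]
      exact ⟨Polynomial.C a * Polynomial.X ^ n, by ring⟩
  | add x y hx hy =>
    obtain ⟨N, hN⟩ := hx
    obtain ⟨N', hN'⟩ := hy
    refine ⟨max N N', fun n hn => ?_⟩
    obtain ⟨f, hf, hf'⟩ := hN n ((le_max_left _ _).trans hn)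
    obtain ⟨f', hg, hg'⟩ := hN' n ((le_max_right _ _).trans hn)
    refine ⟨f + f', ?_, ?_⟩
    · convert Ideal.add_mem _ hf hg using 1
      simp only [inF, map_add]; ring
    · rw [Polynomial.add_comp]; exact dvd_add hf' hg'
  | mul_X x i hx =>
    obtain ⟨N, hN⟩ := hx
    fin_cases i
    · refine ⟨N, fun n hn => ?_⟩
      obtain ⟨f, hf, hf'⟩ := hN n hn
      refine ⟨f * Polynomial.X, ?_, ?_⟩
      · convert Ideal.mul_mem_right (X 0) _ hf using 1
        simp only [inF, map_mul, Polynomial.aeval_X, Fin.zero_eta]; ring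
      · rw [Polynomial.mul_comp]; exact Dvd.dvd.mul_right hf' _
    · refine ⟨N + 1, fun n hn => ?_⟩
      obtain ⟨m, rfl⟩ : ∃ m, n = m + 1 := ⟨n - 1, by omega⟩
      obtain ⟨f, hf, hf'⟩ := hN m (by omega)
      refine ⟨Polynomial.C q * f, ?_, ?_⟩
      · convert Ideal.add_mem _ (Ideal.mul_mem_left _ (X 0 * X 1 : MvPolynomial (Fin 2) ℤ) hf)
          (Ideal.mul_mem_left _ (inF f) (Ideal.subset_span (Set.mem_singleton (g q)))) using 1
        simp only [inF, g, map_mul, Polynomial.aeval_C, MvPolynomial.algebraMap_eq, Fin.mk_one]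
        ring
      · rw [Polynomial.mul_comp, Polynomial.C_comp, pow_succ', Polynomial.C_mul]
        exact mul_dvd_mul_left _ hf'

theorem not_X_dvd_g {q : ℤ} (hq : q ≠ 0) : ¬ (X 0 : MvPolynomial (Fin 2) ℤ) ∣ g q := fun ⟨c, hc⟩ => by
  have := congrArg (MvPolynomial.eval (0 : Fin 2 → ℤ)) hc
  simp [g] at this
  exact hq this

theorem cancel_X {q : ℤ} (hq : q ≠ 0) (k : ℕ) {x : MvPolynomial (Fin 2) ℤ}
    (h : X 0 ^ k * x ∈ Ideal.span {g q}) : x ∈ Ideal.span {g q} := by
  induction k with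
  | zero => simpa using h
  | succ k ih =>
    refine ih ?_
    obtain ⟨c, hc⟩ := Ideal.mem_span_singleton.1 h
    have hp : Prime (X 0 : MvPolynomial (Fin 2) ℤ) := MvPolynomial.X_prime
    obtain ⟨c', rfl⟩ : (X 0 : MvPolynomial (Fin 2) ℤ) ∣ c :=
      (hp.dvd_or_dvd ⟨X 0 ^ k * x, by rw [← hc]; ring⟩).resolve_left (not_X_dvd_g hq)
    refine Ideal.mem_span_singleton.2 ⟨c', mul_left_cancel₀ hp.ne_zero ?_⟩
    linear_combination hc

theorem mem_of_laurent {q : ℤ} (hq : q ≠ 0) {x : MvPolynomial (Fin 2) ℤ} (h : laurent q x = 0) :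
    x ∈ Ideal.span {g q} := by
  obtain ⟨N, hN⟩ := exists_inF q x
  obtain ⟨f, hf, -⟩ := hN N le_rfl
  have h0 := laurent_eq_zero_of_mem q hf
  rw [map_sub, map_mul, h, mul_zero, zero_sub, neg_eq_zero] at h0
  rw [laurent_inF_eq_zero q f h0, inF, map_zero, sub_zero] at hf
  exact cancel_X hq N hf

theorem coeff_comp_C_mul_X (q : ℤ) (f : Polynomial ℤ) (i : ℕ) :
    (f.comp (Polynomial.C q * Polynomial.X)).coeff i = q ^ i * f.coeff i := by
  rw [Polynomial.comp_C_mul_X_coeff, mul_comm]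

/-- Enough divisibility makes a polynomial in `F` a multiple of `Fᵏ`. -/
theorem exists_factor {q : ℤ} (hq : q ≠ 0) (m : Polynomial ℤ) (k : ℕ)
    (h : Polynomial.C (q ^ k) ∣ m.comp (Polynomial.C q * Polynomial.X)) :
    ∃ y, inF m - X 0 ^ k * y ∈ Ideal.span {g q} := by
  have hc : ∀ i, q ^ k ∣ q ^ i * m.coeff i := fun i => by
    rw [← coeff_comp_C_mul_X]; exact Polynomial.C_dvd_iff_dvd_coeff _ _ |>.1 h i
  have hterm : ∀ i, ∃ y, C (m.coeff i) * X 0 ^ i - X 0 ^ k * y ∈ Ideal.span {g q} := by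
    intro i
    rcases le_or_gt k i with hik | hik
    · obtain ⟨j, rfl⟩ := Nat.exists_eq_add_of_le hik
      exact ⟨C (m.coeff (k + j)) * X 0 ^ j, by convert Ideal.zero_mem _; ring⟩
    · obtain ⟨j, rfl⟩ := Nat.exists_eq_add_of_le hik.le
      obtain ⟨c, hc⟩ := hc i
      rw [pow_add, mul_assoc] at hc
      have hm : m.coeff i = q ^ j * c := mul_left_cancel₀ (pow_ne_zero i hq) hc
      refine ⟨C c * X 1 ^ j, ?_⟩
      obtain ⟨d, hd⟩ := sub_dvd_pow_sub_pow (X 0 * X 1 : MvPolynomial (Fin 2) ℤ) (C q) j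
      refine Ideal.mem_span_singleton.2 ⟨-(C c * X 0 ^ i * d), ?_⟩
      rw [hm, map_mul, map_pow]
      linear_combination (-(C c * X 0 ^ i) : MvPolynomial (Fin 2) ℤ) * hd
  choose y hy using hterm
  refine ⟨∑ i ∈ m.support, y i, ?_⟩
  have : inF m = ∑ i ∈ m.support, C (m.coeff i) * X 0 ^ i := by
    show Polynomial.aeval (X 0 : MvPolynomial (Fin 2) ℤ) m = _
    rw [Polynomial.aeval_eq_sum_range' (Nat.lt_succ_self m.natDegree), eq_comm]
    rw [Finset.sum_subset (s₂ := Finset.range (m.natDegree + 1))]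
    · refine Finset.sum_congr rfl fun i _ => ?_
      rw [MvPolynomial.smul_eq_C_mul]
    · exact fun i hi => Finset.mem_range.2 (Nat.lt_succ_of_le (Polynomial.le_natDegree_of_mem_supp i hi))
    · intro i _ hi
      rw [Polynomial.notMem_support_iff.1 hi, map_zero, zero_mul]
  rw [this, Finset.mul_sum, ← Finset.sum_sub_distrib]
  exact Ideal.sum_mem _ fun i _ => hy i

theorem norm_coeff_zero {q : ℕ} {P : Polynomial ℤ} (hP : P.Monic)
    (h : ∀ z ∈ P.aroots ℂ, ‖z‖ = Real.sqrt (q : ℝ)) :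
    |(P.coeff 0 : ℝ)| = Real.sqrt (q : ℝ) ^ P.natDegree := by
  let Q := P.map (Int.castRingHom ℂ)
  have hs : Q.Splits := IsAlgClosed.splits Q
  have h0 := hs.coeff_zero_eq_prod_roots_of_monic (hP.map _)
  have hn : Q.natDegree = P.natDegree := hP.natDegree_map _
  have hr : Multiset.card Q.roots = P.natDegree := by rw [← hn]; exact (hs.natDegree_eq_card_roots).symm
  have h1 := congrArg (fun z : ℂ => ‖z‖) h0
  rw [Polynomial.coeff_map] at h1
  simp only [eq_intCast, norm_mul, norm_pow, norm_neg, norm_one, one_pow, one_mul, Complex.norm_intCast] at h1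
  rw [h1]
  have hh : ∀ z ∈ Q.roots, ‖z‖ = Real.sqrt (q : ℝ) := by
    intro z hz
    refine h z ?_
    rwa [Polynomial.aroots_def, algebraMap_int_eq]
  rw [show ‖Q.roots.prod‖ = (Q.roots.map fun z => ‖z‖).prod from map_multiset_prod (normHom : ℂ →*₀ ℝ) _,
    Multiset.map_congr rfl hh, Multiset.map_const', Multiset.prod_replicate, hr]

end Groth.Agent.S17984

namespace Groth.Agent.S17984

/-- Let p be a prime, e ≥ 1 and q = p^e. Let (π_i) be a finite family of pairwise nonconjugate Weil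
q-numbers: π_i is an element of a field K_i of characteristic zero, integral over ℤ with minimal
polynomial P_i, every complex root of P_i has absolute value √q, and P_i ≠ P_j for i ≠ j. Suppose
the total degree Σ_i deg P_i is even, equal to 2D (equivalently, the family contains either none or
both of the rational Weil q-numbers ±q^{1/2}). Put P_w = ∏_i P_i and let h ∈ ℤ[F, V] (F = X_0, V =
X_1) be any polynomial with F^D · h ≡ P_w(F) modulo FV − q; such an h exists, is unique modulo FV −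
q, and the product of the symmetric polynomials h_{π_i} is one. Then the kernel of the ring map ℤ[F,
V] → ∏_i K_i, F ↦ (π_i), V ↦ (q/π_i), whose image is the minimal central order R_w, is the ideal
generated by FV − q and h, and (FV − q, h) is a regular sequence in ℤ[F, V]: R_w is the complete
intersection ℤ[F, V]/(FV − q, h). -/
theorem result (p e : ℕ) [Fact p.Prime] (he : 0 < e)
    (ι : Type) [Fintype ι] (K : ι → Type u) [∀ i, Field (K i)] [∀ i, CharZero (K i)] (π : ∀ i, K i)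
    (hint : ∀ i, IsIntegral ℤ (π i))
    (hweil : ∀ i, ∀ z ∈ (minpoly ℤ (π i)).aroots ℂ, ‖z‖ = Real.sqrt ((p : ℝ) ^ e))
    (hinj : ∀ i j, minpoly ℤ (π i) = minpoly ℤ (π j) → i = j)
    (D : ℕ) (hD : ∑ i, (minpoly ℤ (π i)).natDegree = 2 * D)
    (h : MvPolynomial (Fin 2) ℤ)
    (hh : X 0 ^ D * h - Polynomial.aeval (X 0 : MvPolynomial (Fin 2) ℤ) (∏ i, minpoly ℤ (π i)) ∈
      Ideal.span ({X 0 * X 1 - C ((p : ℤ) ^ e)} : Set (MvPolynomial (Fin 2) ℤ))) :
    RingHom.ker (MvPolynomial.aeval ![fun i => π i, fun i => ((p : K i) ^ e) / π i] :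
        MvPolynomial (Fin 2) ℤ →ₐ[ℤ] ((i : ι) → K i)) =
        Ideal.span {X 0 * X 1 - C ((p : ℤ) ^ e), h} ∧
      RingTheory.Sequence.IsWeaklyRegular (MvPolynomial (Fin 2) ℤ) [X 0 * X 1 - C ((p : ℤ) ^ e), h] := by
  classical
  set q : ℤ := (p : ℤ) ^ e with hqdef
  have hq : q ≠ 0 := pow_ne_zero _ (by exact_mod_cast (Fact.out : p.Prime).ne_zero)
  set ψ := (MvPolynomial.aeval ![fun i => π i, fun i => ((p : K i) ^ e) / π i] :
    MvPolynomial (Fin 2) ℤ →ₐ[ℤ] ((i : ι) → K i))
  set P := fun i => minpoly ℤ (π i)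
  set Q := ∏ i, P i with hQdef
  have hmonic : ∀ i, (P i).Monic := fun i => minpoly.monic (hint i)
  have hQm : Q.Monic := Polynomial.monic_prod_of_monic _ _ fun i _ => hmonic i
  have hQdeg : Q.natDegree = 2 * D := by
    rw [hQdef, Polynomial.natDegree_prod_of_monic _ _ fun i _ => hmonic i, hD]
  have hnorm : ∀ i, |((P i).coeff 0 : ℝ)| = Real.sqrt ((p ^ e : ℕ) : ℝ) ^ (P i).natDegree := fun i =>
    norm_coeff_zero (hmonic i) (by push_cast; exact hweil i)
  have hsq : (0 : ℝ) < Real.sqrt ((p ^ e : ℕ) : ℝ) :=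
    Real.sqrt_pos.2 (by exact_mod_cast pow_pos (Fact.out : p.Prime).pos e)
  have hπ : ∀ i, π i ≠ 0 := by
    intro i h0
    have h2 : (P i).coeff 0 = 0 := by
      have : Polynomial.aeval (π i) (P i) = 0 := minpoly.aeval ℤ (π i)
      generalize P i = R at this ⊢
      rw [h0, ← Polynomial.coeff_zero_eq_aeval_zero'] at this
      exact_mod_cast (map_eq_zero_iff _ (algebraMap ℤ (K i)).injective_int).1 this
    have := hnorm i
    rw [h2] at this
    simp only [Int.cast_zero, abs_zero] at this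
    exact (pow_pos hsq _).ne this
  have hψF : ∀ (f : Polynomial ℤ) i, ψ (inF f) i = Polynomial.aeval (π i) f := by
    intro f i
    have : ((Pi.evalAlgHom ℤ K i).comp ψ).comp (Polynomial.aeval (X 0 : MvPolynomial (Fin 2) ℤ)) =
        Polynomial.aeval (π i) := Polynomial.algHom_ext (by simp [ψ])
    exact AlgHom.congr_fun this f
  have hψg : ψ (g q) = 0 := by
    funext i
    simp [ψ, g, hqdef, mul_div_cancel₀ _ (hπ i)]
  have hψmem : ∀ {x}, x ∈ Ideal.span {g q} → ψ x = 0 := fun {x} hx => by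
    obtain ⟨c, rfl⟩ := Ideal.mem_span_singleton'.1 hx
    rw [map_mul, hψg, mul_zero]
  have hψh : ψ h = 0 := by
    funext i
    have h1 := congrFun (hψmem hh) i
    rw [map_sub, map_mul, map_pow, Pi.sub_apply, Pi.mul_apply, Pi.pow_apply] at h1
    have h2 : Polynomial.aeval (π i) Q = 0 := by
      rw [hQdef, map_prod]
      exact Finset.prod_eq_zero (Finset.mem_univ i) (minpoly.aeval ℤ (π i))
    rw [show ψ (Polynomial.aeval (X 0) Q) i = Polynomial.aeval (π i) Q from hψF Q i, h2, sub_zero,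
      show ψ (X 0) i = π i from by simp [ψ]] at h1
    exact (mul_eq_zero.1 h1).resolve_left (pow_ne_zero _ (hπ i))
  -- `Q(qX) = q^D H` with `H` primitive
  obtain ⟨H, hH, hH0⟩ : ∃ H, Q.comp (Polynomial.C q * Polynomial.X) = Polynomial.C (q ^ D) * H ∧ H.IsPrimitive := by
    obtain ⟨N, hN⟩ := exists_inF q h
    obtain ⟨f, hf, hf'⟩ := hN (max N D) (le_max_left _ _)
    obtain ⟨j, hj⟩ := Nat.exists_eq_add_of_le (le_max_right N D)
    rw [hj] at hf hf'
    have hfeq : f = Polynomial.X ^ j * Q := by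
      refine inF_inj_mod q ?_
      convert Ideal.sub_mem _ (Ideal.mul_mem_left _ (X 0 ^ j) hh) hf using 1
      simp only [inF, map_mul, map_pow, Polynomial.aeval_X]; ring
    rw [hfeq, Polynomial.mul_comp, Polynomial.pow_comp, Polynomial.X_comp, pow_add] at hf'
    have hdvd : Polynomial.C (q ^ D) ∣ Q.comp (Polynomial.C q * Polynomial.X) := by
      rw [Polynomial.C_dvd_iff_dvd_coeff] at hf' ⊢
      intro i
      have := hf' (i + j)
      rw [mul_pow, ← Polynomial.C_pow, mul_assoc, Polynomial.coeff_C_mul, Polynomial.coeff_X_pow_mul, mul_comm] at this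
      exact (mul_dvd_mul_iff_left (pow_ne_zero j hq)).1 this
    obtain ⟨H, hH⟩ := hdvd
    refine ⟨H, hH, ?_⟩
    have h0 : Q.coeff 0 = q ^ D * H.coeff 0 := by
      have := congrArg (fun z => Polynomial.coeff z 0) hH
      rwa [Polynomial.coeff_C_mul, coeff_comp_C_mul_X, pow_zero, one_mul] at this
    have habs : |(Q.coeff 0 : ℝ)| = |((q : ℤ) : ℝ) ^ D| := by
      have : Q.coeff 0 = ∏ i, (P i).coeff 0 := Polynomial.coeff_zero_prod _ _
      rw [this, Int.cast_prod, Finset.abs_prod, Finset.prod_congr rfl fun i _ => hnorm i,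
        Finset.prod_pow_eq_pow_sum, show ∑ i, (P i).natDegree = 2 * D from hD, pow_mul,
        Real.sq_sqrt (Nat.cast_nonneg _), hqdef]
      push_cast
      rw [abs_of_nonneg (by positivity)]
    rw [h0, Int.cast_mul, Int.cast_pow, abs_mul] at habs
    have hu : |(H.coeff 0 : ℝ)| = 1 :=
      mul_left_cancel₀ (abs_ne_zero.2 (pow_ne_zero D (by exact_mod_cast hq : (q : ℝ) ≠ 0))) (habs.trans (mul_one _).symm)
    intro r hr
    refine isUnit_of_dvd_unit ((Polynomial.C_dvd_iff_dvd_coeff _ _).1 hr 0) (Int.isUnit_iff_abs_eq.2 ?_)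
    exact_mod_cast hu
  have hQ0 : Q ≠ 0 := hQm.ne_zero
  have key : ∀ f, ψ f = 0 → f ∈ Ideal.span ({g q, h} : Set (MvPolynomial (Fin 2) ℤ)) := by
    intro f hf
    obtain ⟨N, hN⟩ := exists_inF q f
    obtain ⟨f0, hf0, hf0'⟩ := hN (max N D) (le_max_left _ _)
    obtain ⟨k, hk⟩ := Nat.exists_eq_add_of_le (le_max_right N D)
    rw [hk] at hf0 hf0'
    have hroot : ∀ i, Polynomial.aeval (π i) f0 = 0 := fun i => by
      have := congrFun (hψmem hf0) i
      rw [map_sub, map_mul, hf, mul_zero, zero_sub, Pi.neg_apply, Pi.zero_apply, neg_eq_zero] at this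
      rwa [← hψF]
    obtain ⟨m, hm⟩ : Q ∣ f0 := by
      refine Finset.prod_dvd_of_isRelPrime (fun i _ j _ hij => ?_)
        fun i _ => minpoly.isIntegrallyClosed_dvd (hint i) (hroot i)
      have hi := minpoly.irreducible (hint i)
      refine hi.isRelPrime_iff_not_dvd.2 fun hd => hij (hinj i j ?_)
      exact Polynomial.eq_of_monic_of_associated (hmonic i) (hmonic j)
        (hi.associated_of_dvd (minpoly.irreducible (hint j)) hd)
    have hmk : Polynomial.C (q ^ k) ∣ m.comp (Polynomial.C q * Polynomial.X) := by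
      rw [hm, Polynomial.mul_comp, hH, pow_add, Polynomial.C_mul, mul_assoc] at hf0'
      have h1 := (mul_dvd_mul_iff_left (Polynomial.C_ne_zero.2 (pow_ne_zero D hq))).1 hf0'
      rw [← Polynomial.dvd_content_iff_C_dvd, Polynomial.content_mul, hH0.content_eq_one, one_mul,
        Polynomial.dvd_content_iff_C_dvd] at h1
      exact h1
    obtain ⟨y, hy⟩ := exists_factor hq m k hmk
    rw [Ideal.mem_span_pair]
    obtain ⟨c, hc⟩ := Ideal.mem_span_singleton'.1 (cancel_X hq (D + k) (x := f - h * y) (by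
      convert Ideal.add_mem _ hf0 (Ideal.sub_mem _ (Ideal.mul_mem_left _ (inF Q) hy)
        (Ideal.mul_mem_left _ (X 0 ^ k * y) hh)) using 1
      simp only [inF, hm, map_mul, hQdef]
      simp only [P]
      ring))
    exact ⟨c, y, by linear_combination hc⟩
  refine ⟨le_antisymm (fun f hf => key f hf) (Ideal.span_le.2 ?_), ?_⟩
  · rintro _ (rfl | rfl)
    · exact hψg
    · exact hψh
  · have hg0 : g q ≠ 0 := fun h0 => not_X_dvd_g hq (h0 ▸ dvd_zero _)
    refine (RingTheory.Sequence.isWeaklyRegular_cons_iff _ _ _).2 ⟨fun a b hab => mul_left_cancel₀ hg0 hab, ?_⟩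
    refine (RingTheory.Sequence.isWeaklyRegular_cons_iff _ _ _).2 ⟨?_, RingTheory.Sequence.IsWeaklyRegular.nil _ _⟩
    rw [isSMulRegular_quotient_iff_mem_of_smul_mem]
    intro x hx
    have hspan : (g q) • (⊤ : Submodule (MvPolynomial (Fin 2) ℤ) (MvPolynomial (Fin 2) ℤ)) = Ideal.span {g q} := by
      rw [← Submodule.ideal_span_singleton_smul, smul_eq_mul, Ideal.mul_top]
    rw [hspan] at hx ⊢
    refine mem_of_laurent hq ?_
    have h1 := laurent_eq_zero_of_mem q hx
    have h2 := laurent_eq_zero_of_mem q hh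
    rw [smul_eq_mul, map_mul] at h1
    rw [map_sub, map_mul, sub_eq_zero] at h2
    refine (mul_eq_zero.1 h1).resolve_left fun h3 => hQ0 (laurent_inF_eq_zero q Q ?_)
    rw [h3, mul_zero] at h2
    exact h2.symm


end Groth.Agent.S17984
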