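import Groth.Statements.S17985
import Mathlib
import Groth.Agent.S17984
import Groth.Agent.LC.GorLCI
import Groth.Agent.VarDim.Basic

set_option autoImplicit false
universe u
namespace Groth.Agent.S17985
section
open Polynomial

/-- `∏ (qX - z) = (∏ (-z)) · ∏ (1 - z̄X)` when `z z̄ = q`. -/
theorem comp_eq_reverse_conj {q : ℂ} (s : Multiset ℂ)
    (hs : ∀ z ∈ s, z * (starRingEnd ℂ) z = q) :
    (s.map fun z => X - C z).prod.comp (C q * X) =
      C ((s.map fun z => X - C z).prod.coeff 0) *
        (((s.map fun z => X - C z).prod).map (starRingEnd ℂ)).reverse := by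
  induction s using Multiset.induction_on with
  | empty => simp [reverse]
  | cons z s ih =>
    simp only [Multiset.map_cons, Multiset.prod_cons, mul_comp, mul_coeff_zero, Polynomial.map_mul,
      reverse_mul_of_domain, ih fun w hw => hs w (Multiset.mem_cons_of_mem hw)]
    have h1 : ((X - C z : ℂ[X]).map (starRingEnd ℂ)).reverse = 1 - C (starRingEnd ℂ z) * X := by
      rw [Polynomial.map_sub, map_X, map_C, sub_eq_add_neg, ← map_neg, reverse, natDegree_X_add_C,
        reflect_add, reflect_C, ← pow_one (X : ℂ[X]), reflect_monomial]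
      simp [sub_eq_add_neg]
    rw [h1, sub_comp, X_comp, C_comp, map_mul, coeff_sub, coeff_X_zero, coeff_C_zero, zero_sub]
    have hq : C q = C z * C (starRingEnd ℂ z) := by rw [← map_mul, hs z (Multiset.mem_cons_self _ _)]
    rw [map_neg, hq]
    ring

/-- A polynomial of degree `2D` with all roots of absolute value `√q` has `Q(qX)` divisible by
`q ^ D`. -/
theorem C_pow_dvd_comp {q : ℕ} {Q : ℤ[X]} (hQ : Q.Monic) {D : ℕ} (hD : Q.natDegree = 2 * D)
    (hw : ∀ z ∈ Q.aroots ℂ, ‖z‖ = Real.sqrt (q : ℝ)) :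
    C ((q : ℤ) ^ D) ∣ Q.comp (C (q : ℤ) * X) := by
  have h1 : Q.comp (C (q : ℤ) * X) = C (Q.coeff 0) * Q.reverse := by
    apply Polynomial.map_injective (Int.castRingHom ℂ) Int.cast_injective
    have hsp := (IsAlgClosed.splits (Q.map (Int.castRingHom ℂ))).eq_prod_roots_of_monic (hQ.map _)
    have hs : ∀ z ∈ (Q.map (Int.castRingHom ℂ)).roots, z * (starRingEnd ℂ) z = (q : ℂ) := by
      intro z hz
      rw [Complex.mul_conj', hw z (by rwa [aroots_def, algebraMap_int_eq])]
      norm_cast
      exact Real.sq_sqrt (Nat.cast_nonneg _)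
    have hrev : Q.reverse.map (Int.castRingHom ℂ) = (Q.map (Int.castRingHom ℂ)).reverse := by
      rw [reverse, reverse, natDegree_map_eq_of_injective Int.cast_injective, reflect_map]
    have h3 := comp_eq_reverse_conj (Q.map (Int.castRingHom ℂ)).roots hs
    rw [← hsp, Polynomial.map_map] at h3
    rw [Polynomial.map_comp, Polynomial.map_mul, Polynomial.map_mul, map_C, map_C, map_X, hrev,
      ← coeff_map]
    rw [RingHom.ext_int ((starRingEnd ℂ).comp (Int.castRingHom ℂ)) (Int.castRingHom ℂ)] at h3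
    simpa using h3
  rw [h1]
  refine Dvd.dvd.mul_right (_root_.map_dvd C ?_) _
  have h2 := Groth.Agent.S17984.norm_coeff_zero hQ hw
  rw [hD, pow_mul, Real.sq_sqrt (Nat.cast_nonneg _)] at h2
  have h4 : |Q.coeff 0| = (q : ℤ) ^ D := by exact_mod_cast h2
  rw [← h4, abs_dvd]

/-- A tuple of integral elements is integral. -/
theorem isIntegral_pi {ι : Type*} [Fintype ι] {K : ι → Type*} [∀ i, CommRing (K i)] {x : ∀ i, K i}
    (h : ∀ i, IsIntegral ℤ (x i)) : IsIntegral ℤ x := by
  refine ⟨∏ i, minpoly ℤ (x i), monic_prod_of_monic _ _ fun i _ => minpoly.monic (h i), funext fun i => ?_⟩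
  show aeval x (∏ j, minpoly ℤ (x j)) i = 0
  have h1 := aeval_algHom_apply (Pi.evalAlgHom ℤ K i) x (∏ j, minpoly ℤ (x j))
  simp only [Pi.evalAlgHom_apply] at h1
  rw [← h1, map_prod]
  exact Finset.prod_eq_zero (Finset.mem_univ i) (minpoly.aeval ℤ (x i))

/-- `q / π` is integral when all conjugates of `π` have absolute value `√q`. -/
theorem isIntegral_div {K : Type*} [Field K] [CharZero K] {π : K} (hint : IsIntegral ℤ π) {q : ℕ}
    (hw : ∀ z ∈ (minpoly ℤ π).aroots ℂ, ‖z‖ = Real.sqrt (q : ℝ)) :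
    IsIntegral ℤ ((q : K) / π) := by
  have hπQ : IsIntegral ℚ π := hint.tower_top
  haveI : Algebra.IsAlgebraic ℚ (IntermediateField.adjoin ℚ ({π} : Set K)) :=
    IntermediateField.isAlgebraic_adjoin (by simpa using hπQ)
  let φ : IntermediateField.adjoin ℚ ({π} : Set K) →ₐ[ℚ] ℂ := IsAlgClosed.lift
  let x : IntermediateField.adjoin ℚ ({π} : Set K) :=
    IntermediateField.AdjoinSimple.gen ℚ π
  have hx : IsIntegral ℤ x :=
    (isIntegral_algHom_iff ((IntermediateField.adjoin ℚ ({π} : Set K)).val.restrictScalars ℤ)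
      Subtype.val_injective).1 hint
  have hmem : φ x ∈ (minpoly ℤ π).aroots ℂ := by
    rw [Polynomial.mem_aroots]
    refine ⟨(minpoly.monic hint).ne_zero, ?_⟩
    have h0 : minpoly ℤ π = minpoly ℤ x := minpoly.algHom_eq
      ((IntermediateField.adjoin ℚ ({π} : Set K)).val.restrictScalars ℤ) Subtype.val_injective x
    rw [h0]
    show Polynomial.aeval ((φ.restrictScalars ℤ) x) _ = 0
    rw [Polynomial.aeval_algHom_apply, minpoly.aeval, map_zero]
  have hconj : IsIntegral ℤ ((starRingEnd ℂ) (φ x)) :=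
    (hx.map (φ.restrictScalars ℤ)).map (starRingEnd ℂ).toIntAlgHom
  have heq : (φ.restrictScalars ℤ) ((q : IntermediateField.adjoin ℚ ({π} : Set K)) / x) =
      (starRingEnd ℂ) (φ x) := by
    simp only [AlgHom.restrictScalars_apply, map_div₀, map_natCast]
    rcases eq_or_ne (φ x) 0 with h0 | h0
    · simp [h0]
    · rw [div_eq_iff h0, mul_comm, Complex.mul_conj', hw _ hmem]
      norm_cast
      exact (Real.sq_sqrt (Nat.cast_nonneg _)).symm
  rw [← heq] at hconj
  have h5 := (isIntegral_algHom_iff (φ.restrictScalars ℤ) φ.injective).1 hconj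
  have h6 := h5.map ((IntermediateField.adjoin ℚ ({π} : Set K)).val.restrictScalars ℤ)
  simpa [x] using h6

end
end Groth.Agent.S17985

open MvPolynomial
open WeilNum

open Pointwise

namespace Groth.Agent.S17985

/-- A complete intersection in `ℤ[F, V]` is Gorenstein. -/
theorem gorenstein_range (p e : ℕ) [Fact p.Prime] {T : Type u} [CommRing T]
    (ψ : MvPolynomial (Fin 2) ℤ →ₐ[ℤ] T) (h : MvPolynomial (Fin 2) ℤ)
    (hker : RingHom.ker ψ = Ideal.span {X 0 * X 1 - C ((p : ℤ) ^ e), h})
    (hreg : RingTheory.Sequence.IsWeaklyRegular (MvPolynomial (Fin 2) ℤ)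
      [X 0 * X 1 - C ((p : ℤ) ^ e), h]) :
    LocCoh.IsGorensteinRing ψ.range := by
  set g : MvPolynomial (Fin 2) ℤ := X 0 * X 1 - C ((p : ℤ) ^ e)
  rw [RingTheory.Sequence.isWeaklyRegular_cons_iff, RingTheory.Sequence.isWeaklyRegular_cons_iff] at hreg
  obtain ⟨hg, hh, -⟩ := hreg
  haveI : IsRegularRing (ULift.{u} ℤ) :=
    haveI : IsPrincipalIdealRing (ULift.{u} ℤ) :=
      IsPrincipalIdealRing.of_surjective (ULift.ringEquiv (R := ℤ)).symm.toRingHom
        (ULift.ringEquiv (R := ℤ)).symm.surjective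
    haveI : IsDomain (ULift.{u} ℤ) := (ULift.ringEquiv (R := ℤ)).toMulEquiv.isDomain _
    inferInstance
  haveI := LC.gorensteinRing_of_isRegularRing (ULift.{u} ℤ)
  haveI := LC.gorensteinRing_of_ringEquiv
    ((MvPolynomial.mapEquiv (Fin 2) (ULift.ringEquiv (R := ℤ))).trans
      (ULift.ringEquiv (R := MvPolynomial (Fin 2) ℤ)).symm)
    (LC.gorensteinRing_mvPolynomial_fin (ULift.{u} ℤ) 2)
  let C1 := ULift.{u} (MvPolynomial (Fin 2) ℤ ⧸ Ideal.span {g})
  let π1 : ULift.{u} (MvPolynomial (Fin 2) ℤ) →+* C1 :=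
    (ULift.ringEquiv.symm.toRingHom.comp (Ideal.Quotient.mk (Ideal.span {g}))).comp
      ULift.ringEquiv.toRingHom
  haveI : LocCoh.IsGorensteinRing C1 := by
    refine LC.gorensteinRing_of_surjective π1 ?_ (f := ULift.up g) ?_ ?_
    · rintro ⟨c⟩
      obtain ⟨a, rfl⟩ := Ideal.Quotient.mk_surjective c
      exact ⟨ULift.up a, rfl⟩
    · intro a b hab
      exact ULift.ext _ _ (hg (congrArg ULift.down hab))
    · ext ⟨a⟩
      rw [RingHom.mem_ker, Ideal.mem_span_singleton]
      constructor
      · intro ha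
        obtain ⟨c, hc⟩ := Ideal.mem_span_singleton.1
          (Ideal.Quotient.eq_zero_iff_mem.1 (congrArg ULift.down ha))
        exact ⟨ULift.up c, ULift.ext _ _ hc⟩
      · rintro ⟨c, hc⟩
        exact ULift.ext _ _ (Ideal.Quotient.eq_zero_iff_mem.2
          (Ideal.mem_span_singleton.2 ⟨c.down, congrArg ULift.down hc⟩))
  have hgψ : ∀ x ∈ Ideal.span {g}, ψ.rangeRestrict.toRingHom x = 0 := by
    intro x hx
    have : x ∈ RingHom.ker ψ := hker ▸ Ideal.span_mono (by simp) hx
    exact Subtype.ext this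
  let π2 : C1 →+* ψ.range :=
    (Ideal.Quotient.lift (Ideal.span {g}) ψ.rangeRestrict.toRingHom hgψ).comp
      ULift.ringEquiv.toRingHom
  refine LC.gorensteinRing_of_surjective π2 ?_ (f := ULift.up (Ideal.Quotient.mk _ h)) ?_ ?_
  · rintro ⟨_, a, rfl⟩
    exact ⟨ULift.up (Ideal.Quotient.mk _ a), Subtype.ext rfl⟩
  · have hspan : g • (⊤ : Submodule (MvPolynomial (Fin 2) ℤ) (MvPolynomial (Fin 2) ℤ)) =
        Ideal.span {g} := by
      rw [← Submodule.ideal_span_singleton_smul, smul_eq_mul, Ideal.mul_top]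
    rw [isSMulRegular_quotient_iff_mem_of_smul_mem, hspan] at hh
    rintro ⟨a⟩ ⟨b⟩ hab
    obtain ⟨a, rfl⟩ := Ideal.Quotient.mk_surjective a
    obtain ⟨b, rfl⟩ := Ideal.Quotient.mk_surjective b
    have hab' : Ideal.Quotient.mk (Ideal.span {g}) h * Ideal.Quotient.mk _ a =
        Ideal.Quotient.mk (Ideal.span {g}) h * Ideal.Quotient.mk _ b := congrArg ULift.down hab
    rw [← map_mul, ← map_mul, Ideal.Quotient.eq, ← mul_sub] at hab'
    exact ULift.ext _ _ (Ideal.Quotient.eq.2 (hh (a - b) hab'))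
  · ext ⟨a⟩
    obtain ⟨a, rfl⟩ := Ideal.Quotient.mk_surjective a
    rw [RingHom.mem_ker, Ideal.mem_span_singleton]
    constructor
    · intro ha
      have h1 : a ∈ Ideal.span {g, h} := hker ▸ (congrArg Subtype.val ha : ψ a = 0)
      obtain ⟨c, d, hcd⟩ := Ideal.mem_span_pair.1 h1
      refine ⟨ULift.up (Ideal.Quotient.mk _ d), ULift.ext _ _ ?_⟩
      show Ideal.Quotient.mk _ a = Ideal.Quotient.mk _ h * Ideal.Quotient.mk _ d
      rw [← map_mul, Ideal.Quotient.eq]
      exact Ideal.mem_span_singleton.2 ⟨c, by linear_combination -hcd⟩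
    · rintro ⟨⟨d⟩, hd⟩
      have hh0 : ψ h = 0 := (hker ▸ Ideal.subset_span (by simp) : h ∈ RingHom.ker ψ)
      rw [hd, map_mul]
      have : π2 (ULift.up (Ideal.Quotient.mk _ h)) = 0 := Subtype.ext hh0
      rw [this, zero_mul]

/-- Let p be a prime, e ≥ 1 and q = p^e. Let (π_i) be a nonempty finite family of pairwise nonconjugate
Weil q-numbers: π_i is an element of a field K_i of characteristic zero, integral over ℤ with
minimal polynomial P_i, every complex root of P_i has absolute value √q, and P_i ≠ P_j for i ≠ j.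
Suppose the total degree Σ_i deg P_i is even, equal to 2D. Let R_w be the minimal central order, the
image of ℤ[F, V] → ∏_i K_i, F ↦ (π_i), V ↦ (q/π_i). Then R_w is free of rank 2D as a ℤ-module, has
Krull dimension 1, and is a Gorenstein ring (Noetherian, with all localizations at primes of finite
injective dimension over themselves). -/
theorem result (p e : ℕ) [Fact p.Prime] (he : 0 < e)
    (ι : Type) [Fintype ι] (K : ι → Type u) [∀ i, Field (K i)] [∀ i, CharZero (K i)] (π : ∀ i, K i)
    (hint : ∀ i, IsIntegral ℤ (π i))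
    (hweil : ∀ i, ∀ z ∈ (minpoly ℤ (π i)).aroots ℂ, ‖z‖ = Real.sqrt ((p : ℝ) ^ e))
    (hinj : ∀ i j, minpoly ℤ (π i) = minpoly ℤ (π j) → i = j)
    [Nonempty ι] (D : ℕ) (hD : ∑ i, (minpoly ℤ (π i)).natDegree = 2 * D) :
    Module.Free ℤ (MvPolynomial.aeval ![fun i => π i, fun i => ((p : K i) ^ e) / π i] :
        MvPolynomial (Fin 2) ℤ →ₐ[ℤ] ((i : ι) → K i)).range ∧
      Module.finrank ℤ (MvPolynomial.aeval ![fun i => π i, fun i => ((p : K i) ^ e) / π i] :
        MvPolynomial (Fin 2) ℤ →ₐ[ℤ] ((i : ι) → K i)).range = 2 * D ∧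
      ringKrullDim (MvPolynomial.aeval ![fun i => π i, fun i => ((p : K i) ^ e) / π i] :
        MvPolynomial (Fin 2) ℤ →ₐ[ℤ] ((i : ι) → K i)).range = 1 ∧
      LocCoh.IsGorensteinRing (MvPolynomial.aeval ![fun i => π i, fun i => ((p : K i) ^ e) / π i] :
        MvPolynomial (Fin 2) ℤ →ₐ[ℤ] ((i : ι) → K i)).range := by
  classical
  set ψ := (MvPolynomial.aeval ![fun i => π i, fun i => ((p : K i) ^ e) / π i] :
    MvPolynomial (Fin 2) ℤ →ₐ[ℤ] ((i : ι) → K i)) with hψ
  have hcast : ((p ^ e : ℕ) : ℝ) = (p : ℝ) ^ e := by push_cast; rfl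
  set Q := ∏ i, minpoly ℤ (π i) with hQ
  have hQm : Q.Monic := Polynomial.monic_prod_of_monic _ _ fun i _ => minpoly.monic (hint i)
  have hQdeg : Q.natDegree = 2 * D := by
    rw [hQ, Polynomial.natDegree_prod_of_monic _ _ fun i _ => minpoly.monic (hint i), hD]
  -- integrality
  have hgenI : ∀ j, IsIntegral ℤ (![fun i => π i, fun i => ((p : K i) ^ e) / π i] j :
      (i : ι) → K i) := by
    intro j
    fin_cases j
    · exact isIntegral_pi (fun i => hint i)
    · refine isIntegral_pi (fun i => ?_)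
      simpa using isIntegral_div (hint i) (q := p ^ e) (by rw [hcast]; exact hweil i)
  haveI hfin : Module.Finite ℤ ψ.range := by
    have hr : ψ.range = Algebra.adjoin ℤ (Set.range (![fun i => π i,
        fun i => ((p : K i) ^ e) / π i] : Fin 2 → (i : ι) → K i)) :=
      (Algebra.adjoin_range_eq_range_aeval _ _).symm
    rw [hr]
    exact Module.Finite.of_fg
      (fg_adjoin_of_finite (Set.finite_range _) (by rintro _ ⟨j, rfl⟩; exact hgenI j))
  haveI : IsAddTorsionFree ψ.range :=
    Function.Injective.isAddTorsionFree ψ.range.val.toAddMonoidHom Subtype.val_injective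
  haveI hfree : Module.Free ℤ ψ.range := Module.free_of_finite_type_torsion_free'
  refine ⟨hfree, le_antisymm ?_ ?_, ?_, ?_⟩
  · -- rank ≤ 2D
    let W := ∀ i, IntermediateField.adjoin ℚ ({π i} : Set (K i))
    haveI : ∀ i, FiniteDimensional ℚ (IntermediateField.adjoin ℚ ({π i} : Set (K i))) :=
      fun i => IntermediateField.adjoin.finiteDimensional (hint i).tower_top
    have hW : Module.finrank ℚ W = 2 * D := by
      rw [Module.finrank_pi_fintype, ← hD]
      refine Finset.sum_congr rfl fun i _ => ?_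
      rw [IntermediateField.adjoin.finrank (hint i).tower_top,
        minpoly.isIntegrallyClosed_eq_field_fractions' ℚ (hint i),
        (minpoly.monic (hint i)).natDegree_map]
    have hmemW : ∀ (x : ψ.range) i, (x : (i : ι) → K i) i ∈
        IntermediateField.adjoin ℚ ({π i} : Set (K i)) := by
      rintro ⟨_, f, rfl⟩ i
      show ψ f i ∈ _
      induction f using MvPolynomial.induction_on with
      | C a => simp [hψ]
      | add f f' h h' => rw [map_add, Pi.add_apply]; exact add_mem h h'
      | mul_X f j h =>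
        rw [map_mul, Pi.mul_apply]
        refine mul_mem h ?_
        have hmem := IntermediateField.mem_adjoin_simple_self ℚ (π i)
        fin_cases j
        · simpa [hψ] using hmem
        · simpa [hψ] using div_mem (pow_mem (natCast_mem _ p) e) hmem
    let b := Module.Free.chooseBasis ℤ ψ.range
    let v : Module.Free.ChooseBasisIndex ℤ ψ.range → W := fun k i => ⟨_, hmemW (b k) i⟩
    let toK : W →ₗ[ℤ] ((i : ι) → K i) :=
      { toFun := fun w i => (w i : K i)
        map_add' := fun _ _ => rfl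
        map_smul' := fun n w => by
          funext i
          show ((n • w i : IntermediateField.adjoin ℚ ({π i} : Set (K i))) : K i) = n • (w i : K i)
          simp }
    have hv : LinearIndependent ℤ v := by
      refine LinearIndependent.of_comp toK ?_
      exact b.linearIndependent.map' ψ.range.val.toLinearMap
        (LinearMap.ker_eq_bot.2 Subtype.val_injective)
    rw [LinearIndependent.iff_fractionRing ℤ ℚ] at hv
    rw [← hW, Module.finrank_eq_card_chooseBasisIndex ℤ ψ.range]
    exact hv.fintype_card_le_finrank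
  · -- rank ≥ 2D
    let v : Fin (2 * D) → ψ.range := fun k => ⟨ψ (X 0) ^ (k : ℕ), pow_mem (AlgHom.mem_range_self _ _) _⟩
    have hv : LinearIndependent ℤ v := by
      rw [Fintype.linearIndependent_iff]
      intro g hg
      let f : Polynomial ℤ := ∑ k : Fin (2 * D), Polynomial.C (g k) * Polynomial.X ^ (k : ℕ)
      have hdvd : Q ∣ f := by
        refine Finset.prod_dvd_of_isRelPrime (fun i _ j _ hij => ?_)
          fun i _ => minpoly.isIntegrallyClosed_dvd (hint i) ?_
        · have hi := minpoly.irreducible (hint i)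
          refine hi.isRelPrime_iff_not_dvd.2 fun hd => hij (hinj i j ?_)
          exact Polynomial.eq_of_monic_of_associated (minpoly.monic (hint i)) (minpoly.monic (hint j))
            (hi.associated_of_dvd (minpoly.irreducible (hint j)) hd)
        · have h1 := congrArg (fun z : ψ.range => (z : (i : ι) → K i) i) hg
          simpa [v, f, hψ, map_sum] using h1
      have hf : f = 0 := by
        refine Polynomial.eq_zero_of_dvd_of_degree_lt hdvd ?_
        rw [Polynomial.degree_eq_natDegree hQm.ne_zero, hQdeg]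
        exact Polynomial.degree_sum_fin_lt g
      intro k
      have h2 := congrArg (fun z => Polynomial.coeff z (k : ℕ)) hf
      simpa [f, Polynomial.finset_sum_coeff, Fin.val_inj] using h2
    simpa using hv.fintype_card_le_finrank
  · -- dimension
    obtain ⟨i₀⟩ := ‹Nonempty ι›
    haveI : FaithfulSMul ℤ ψ.range := by
      rw [faithfulSMul_iff_algebraMap_injective]
      intro a b hab
      have := congrArg (fun z : ψ.range => (z : (i : ι) → K i) i₀) hab
      simpa using this
    haveI : Algebra.IsIntegral ℤ ψ.range := Algebra.IsIntegral.of_finite ℤ ψ.range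
    rw [VarDim.ringKrullDim_eq_of_isIntegral (R := ℤ),
      IsPrincipalIdealRing.ringKrullDim_eq_one ℤ Int.not_isField]
  · -- Gorenstein
    have hroots : ∀ z ∈ Q.aroots ℂ, ‖z‖ = Real.sqrt (((p ^ e : ℕ) : ℝ)) := by
      intro z hz
      rw [hcast]
      rw [Polynomial.mem_aroots, hQ, map_prod, Finset.prod_eq_zero_iff] at hz
      obtain ⟨-, i, -, hi⟩ := hz
      exact hweil i z (Polynomial.mem_aroots.2 ⟨(minpoly.monic (hint i)).ne_zero, hi⟩)
    have hdvd := C_pow_dvd_comp hQm hQdeg hroots
    push_cast at hdvd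
    have hq : (p : ℤ) ^ e ≠ 0 := pow_ne_zero _ (by exact_mod_cast (Fact.out : p.Prime).ne_zero)
    obtain ⟨h, hh⟩ := S17984.exists_factor hq Q D hdvd
    have hh' : X 0 ^ D * h - Polynomial.aeval (X 0 : MvPolynomial (Fin 2) ℤ) Q ∈
        Ideal.span ({X 0 * X 1 - C ((p : ℤ) ^ e)} : Set (MvPolynomial (Fin 2) ℤ)) := by
      have hn := neg_mem hh
      rw [neg_sub] at hn
      exact hn
    obtain ⟨hker, hreg⟩ := S17984.result p e he ι K π hint hweil hinj D hD h hh'
    exact gorenstein_range p e ψ h hker hreg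

end Groth.Agent.S17985
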