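import Groth.Statements.S17987
import Mathlib
import Groth.Agent.S17983
-- import your own Groth.Agent.* helpers here

set_option autoImplicit false
universe u
open scoped Classical
open WeilNum

namespace Groth.Agent.S17987

open Polynomial

private theorem norm_int (p : ℕ) [Fact p.Prime] (a : ℤ) :
    ‖algebraMap ℤ (PadicAlgCl p) a‖ = ‖(a : ℚ_[p])‖ := by
  rw [← PadicAlgCl.norm_extends p (a : ℚ_[p])]
  simp

/-- A polynomial with the functional equation of a Weil number is ordinary iff `p` does not divide its middle coefficient. -/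
private theorem ordinary_iff (p e m : ℕ) [Fact p.Prime] (he : 0 < e) (P : ℤ[X]) (hm : P.Monic)
    (hdeg : P.natDegree = 2 * m)
    (hsym : ∀ r ≤ m, P.coeff (m - r) = (p : ℤ) ^ (e * r) * P.coeff (m + r))
    (hnodup : (P.aroots (PadicAlgCl p)).Nodup) :
    2 * Multiset.card ((P.aroots (PadicAlgCl p)).filter fun z => ‖z‖ = 1) = P.natDegree ↔
      ¬ (p : ℤ) ∣ P.coeff m := by
  classical
  let L := PadicAlgCl p
  let g := algebraMap ℤ L
  let q : L := g ((p : ℤ) ^ e)
  set s : Multiset L := P.aroots L with hs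
  let T := s.toFinset
  have hTs : T.val = s := by
    show s.dedup = s
    exact Multiset.dedup_eq_self.2 hnodup
  have hn : (P.map g).natDegree = P.natDegree := hm.natDegree_map g
  have hsplit : (P.map g).Splits := IsAlgClosed.splits _
  have hcard : s.card = 2 * m := by
    rw [← hdeg, ← hn]; exact Polynomial.splits_iff_card_roots.1 hsplit
  have hp0 : (p : ℤ) ≠ 0 := by exact_mod_cast (Fact.out : p.Prime).ne_zero
  have hgi : Function.Injective g := g.injective_int
  have hq1 : ‖q‖ < 1 := by
    rw [norm_int, Padic.norm_intCast_lt_one_iff]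
    exact dvd_pow_self _ he.ne'
  have hq0 : q ≠ 0 := fun h => pow_ne_zero e hp0 (hgi (h.trans (map_zero g).symm))
  have hroot : ∀ r ∈ s, P.eval₂ g r = 0 := fun r hr => (Polynomial.mem_aroots'.1 hr).2
  have hne : ∀ r ∈ s, r ≠ 0 := by
    rintro r hr rfl
    have h := hroot 0 hr
    rw [Polynomial.eval₂_at_zero] at h
    have h2 := hsym m le_rfl
    rw [Nat.sub_self, ← two_mul, ← hdeg, hm.coeff_natDegree, mul_one] at h2
    exact pow_ne_zero _ hp0 (h2.symm.trans (hgi (h.trans (map_zero g).symm)))
  have hle1 : ∀ r ∈ s, ‖r‖ ≤ 1 := by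
    intro r hr
    by_contra hlt
    push Not at hlt
    have h := hroot r hr
    rw [Polynomial.eval₂_eq_sum_range, Finset.sum_range_succ, hm.coeff_natDegree, map_one, one_mul] at h
    have hpos : P.natDegree ≠ 0 := fun h0 => by
      have : 0 < s.card := Multiset.card_pos_iff_exists_mem.2 ⟨r, hr⟩
      omega
    have h2 : ‖∑ j ∈ Finset.range P.natDegree, g (P.coeff j) * r ^ j‖ ≤ ‖r‖ ^ (P.natDegree - 1) := by
      refine IsUltrametricDist.norm_sum_le_of_forall_le_of_nonneg (by positivity) fun j hj => ?_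
      rw [norm_mul, norm_pow]
      refine (mul_le_of_le_one_left (by positivity) ?_).trans
        (pow_le_pow_right₀ hlt.le (by have := Finset.mem_range.1 hj; omega))
      rw [norm_int]; exact Padic.norm_int_le_one _
    rw [eq_neg_of_add_eq_zero_left h, norm_neg, norm_pow] at h2
    exact absurd h2 (not_le.2 (pow_lt_pow_right₀ hlt (by omega)))
  have hsym' : ∀ j ≤ 2 * m, q ^ j * g (P.coeff j) = q ^ m * g (P.coeff (2 * m - j)) := by
    intro j hj
    rcases le_total j m with h | h
    · have h2 := hsym (m - j) (by omega)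
      rw [show m - (m - j) = j by omega, show m + (m - j) = 2 * m - j by omega, pow_mul] at h2
      rw [h2, map_mul, map_pow, ← mul_assoc, ← pow_add, show j + (m - j) = m by omega]
    · have h2 := hsym (j - m) (by omega)
      rw [show m - (j - m) = 2 * m - j by omega, show m + (j - m) = j by omega, pow_mul] at h2
      rw [h2, map_mul, map_pow, ← mul_assoc, ← pow_add, show m + (j - m) = j by omega]
  have hinv : ∀ r ∈ s, q / r ∈ s := by
    intro r hr
    refine Polynomial.mem_aroots'.2 ⟨(hm.map g).ne_zero, ?_⟩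
    show P.eval₂ g (q / r) = 0
    refine (mul_eq_zero.1 (?_ : P.eval₂ g (q / r) * r ^ (2 * m) = 0)).resolve_right (pow_ne_zero _ (hne r hr))
    have h := hroot r hr
    rw [Polynomial.eval₂_eq_sum_range, hdeg] at h ⊢
    rw [Finset.sum_mul]
    have h3 : ∀ j ∈ Finset.range (2 * m + 1),
        g (P.coeff j) * (q / r) ^ j * r ^ (2 * m) = q ^ m * (g (P.coeff (2 * m - j)) * r ^ (2 * m - j)) := by
      intro j hj
      have hj' : j ≤ 2 * m := by have := Finset.mem_range.1 hj; omega
      have hp2 : r ^ (2 * m) = r ^ j * r ^ (2 * m - j) := by rw [← pow_add, Nat.add_sub_cancel' hj']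
      rw [← mul_assoc (q ^ m), ← hsym' j hj', div_pow, hp2, ← mul_assoc, mul_assoc (g (P.coeff j)),
        div_mul_cancel₀ _ (pow_ne_zero j (hne r hr)), mul_comm (g (P.coeff j))]
    rw [Finset.sum_congr rfl h3, ← Finset.mul_sum]
    rw [show (∑ j ∈ Finset.range (2 * m + 1), g (P.coeff (2 * m - j)) * r ^ (2 * m - j)) = 0 from
      (Finset.sum_range_reflect (fun j => g (P.coeff j) * r ^ j) (2 * m + 1)).trans h, mul_zero]
  let A := T.filter fun z => ‖z‖ = 1
  have hA : Multiset.card (s.filter fun z => ‖z‖ = 1) = A.card := by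
    show _ = Multiset.card (T.val.filter fun z => ‖z‖ = 1)
    rw [hTs]
  have hTcard : T.card = 2 * m := by
    show Multiset.card T.val = _
    rw [hTs, hcard]
  have hAm : A.card ≤ m := by
    have h : A.card ≤ (T.filter fun z => ¬ ‖z‖ = 1).card := by
      refine Finset.card_le_card_of_injOn (fun r => q / r) (fun r hr => ?_) fun a ha b hb hab => ?_
      · obtain ⟨hr, hr1⟩ := Finset.mem_filter.1 hr
        refine Finset.mem_filter.2 ⟨Multiset.mem_toFinset.2 (hinv r (Multiset.mem_toFinset.1 hr)), ?_⟩
        rw [norm_div, hr1, div_one]; exact hq1.ne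
      · exact inv_injective (mul_left_cancel₀ hq0 (show q * a⁻¹ = q * b⁻¹ by simp only [← div_eq_mul_inv]; exact hab))
    have := Finset.card_filter_add_card_filter_not (s := T) fun z => ‖z‖ = 1
    change A.card + _ = _ at this
    omega
  have hesymm : ‖g (P.coeff m)‖ = ‖∑ U ∈ T.powersetCard m, ∏ z ∈ U, z‖ := by
    have h1 : g (P.coeff m) = (-1) ^ m * s.esymm m := by
      have h2 := Multiset.prod_X_sub_C_coeff s (show m ≤ Multiset.card s by omega)
      rw [show Multiset.card s - m = m by omega] at h2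
      rw [← h2, ← Polynomial.coeff_map]
      exact congrArg (fun Q : L[X] => Q.coeff m) (hsplit.eq_prod_roots_of_monic (hm.map g))
    have h3 : s.esymm m = ∑ U ∈ T.powersetCard m, ∏ z ∈ U, z := by
      have := Finset.esymm_map_val (fun z : L => z) T m
      rw [Multiset.map_id', hTs] at this
      exact this
    rw [h1, h3, norm_mul, norm_pow, norm_neg, norm_one, one_pow, one_mul]
  have hlt : ∀ U ∈ T.powersetCard m, U ≠ A → (A.card = m ∨ A.card < m) → ‖∏ z ∈ U, z‖ < 1 := by
    intro U hU hUA hc
    obtain ⟨hUT, hUc⟩ := Finset.mem_powersetCard.1 hU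
    obtain ⟨x, hxU, hxA⟩ : ∃ x ∈ U, x ∉ A := by
      by_contra hh
      push Not at hh
      exact hUA (Finset.eq_of_subset_of_card_le hh (by omega))
    have hx : ‖x‖ < 1 := lt_of_le_of_ne (hle1 x (Multiset.mem_toFinset.1 (hUT hxU)))
      fun h => hxA (Finset.mem_filter.2 ⟨hUT hxU, h⟩)
    rw [← Finset.mul_prod_erase U _ hxU, norm_mul, norm_prod]
    exact lt_of_le_of_lt (mul_le_of_le_one_right (norm_nonneg _)
      (Finset.prod_le_one (fun _ _ => norm_nonneg _)
        fun z hz => hle1 z (Multiset.mem_toFinset.1 (hUT (Finset.mem_of_mem_erase hz))))) hx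
  rw [hA, hdeg, ← Padic.norm_intCast_lt_one_iff, ← norm_int, hesymm]
  constructor
  · intro hc
    have hAc : A.card = m := by omega
    have hAmem : A ∈ T.powersetCard m := Finset.mem_powersetCard.2 ⟨Finset.filter_subset _ _, hAc⟩
    rw [← Finset.add_sum_erase _ _ hAmem]
    have hAn : ‖∏ z ∈ A, z‖ = 1 := by
      rw [norm_prod]; exact Finset.prod_eq_one fun z hz => (Finset.mem_filter.1 hz).2
    rcases ((T.powersetCard m).erase A).eq_empty_or_nonempty with h0 | h0
    · rw [h0, Finset.sum_empty, add_zero, hAn]; exact lt_irrefl _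
    · obtain ⟨U, hU, hUle⟩ := IsUltrametricDist.exists_norm_finsetSum_le_of_nonempty h0 fun U => ∏ z ∈ U, z
      have h1 := hlt U (Finset.mem_of_mem_erase hU) (Finset.ne_of_mem_erase hU) (Or.inl hAc)
      have h2 : ‖∑ U ∈ (T.powersetCard m).erase A, ∏ z ∈ U, z‖ < 1 := hUle.trans_lt h1
      rw [IsUltrametricDist.norm_add_eq_max_of_norm_ne_norm (by rw [hAn]; exact h2.ne'), hAn]
      exact not_lt.2 (le_max_left _ _)
  · intro hc
    by_contra hne2
    have hAc : A.card < m := by omega
    apply hc
    have hne3 : (T.powersetCard m).Nonempty := Finset.powersetCard_nonempty.2 (by omega)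
    obtain ⟨U, hU, hUle⟩ := IsUltrametricDist.exists_norm_finsetSum_le_of_nonempty hne3 fun U => ∏ z ∈ U, z
    exact hUle.trans_lt (hlt U hU (fun h => by
      have := (Finset.mem_powersetCard.1 hU).2
      rw [h] at this; omega) (Or.inr hAc))


/-- Let p be a prime, e ≥ 1 and q = p^e, and let (π_i) be a finite family of nonreal Weil q-numbers: π_i
lies in a field K_i of characteristic zero, is integral over ℤ with minimal polynomial P_i, every
complex root of P_i has absolute value √q, and no complex root of P_i is real; in particular deg P_i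
= 2d_i is even. Call π_i ordinary when exactly half of the roots of P_i in an algebraic closure of
ℚ_p, counted with multiplicity, are p-adic units (have absolute value 1). Then all π_i are ordinary
if and only if p does not divide ∏_i a_{d_i}, the product of the middle coefficients of the P_i
(this product is the value at F = V = 0 of the symmetric polynomial h_w of the family). -/
theorem result (p e : ℕ) [Fact p.Prime] (he : 0 < e)
    (ι : Type) [Fintype ι] (K : ι → Type u) [∀ i, Field (K i)] [∀ i, CharZero (K i)] (π : ∀ i, K i)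
    (hint : ∀ i, IsIntegral ℤ (π i))
    (hweil : ∀ i, ∀ z ∈ (minpoly ℤ (π i)).aroots ℂ, ‖z‖ = Real.sqrt ((p : ℝ) ^ e))
    (hnr : ∀ i, ∀ z ∈ (minpoly ℤ (π i)).aroots ℂ, z.im ≠ 0) :
    (∀ i, 2 * Multiset.card (((minpoly ℤ (π i)).aroots (PadicAlgCl p)).filter (fun z => ‖z‖ = 1)) = (minpoly ℤ (π i)).natDegree) ↔
      ¬ ((p : ℤ) ∣ ∏ i, (minpoly ℤ (π i)).coeff ((minpoly ℤ (π i)).natDegree / 2)) := by
  classical
  have key : ∀ i, 2 * Multiset.card (((minpoly ℤ (π i)).aroots (PadicAlgCl p)).filter (fun z => ‖z‖ = 1)) =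
      (minpoly ℤ (π i)).natDegree ↔ ¬ (p : ℤ) ∣ (minpoly ℤ (π i)).coeff ((minpoly ℤ (π i)).natDegree / 2) := by
    intro i
    obtain ⟨⟨m, hm⟩, hsym⟩ := Groth.Agent.S17983.result p e he (K i) (π i) (hint i) (hweil i) (hnr i)
    rw [show (minpoly ℤ (π i)).natDegree / 2 = m by omega] at hsym ⊢
    refine ordinary_iff p e m he _ (minpoly.monic (hint i)) (by omega) hsym ?_
    refine Polynomial.nodup_roots ?_
    have hsep : (minpoly ℚ (π i)).Separable := (minpoly.irreducible (hint i).tower_top).separable
    rw [minpoly.isIntegrallyClosed_eq_field_fractions' ℚ (hint i)] at hsep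
    have := hsep.map (f := algebraMap ℚ (PadicAlgCl p))
    rwa [Polynomial.map_map, Subsingleton.elim ((algebraMap ℚ (PadicAlgCl p)).comp (algebraMap ℤ ℚ))
      (algebraMap ℤ (PadicAlgCl p))] at this
  rw [(Nat.prime_iff_prime_int.1 (Fact.out : p.Prime)).dvd_finsetProd_iff]
  simp only [Finset.mem_univ, true_and, not_exists]
  exact forall_congr' key

end Groth.Agent.S17987
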