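import Groth.Statements.S17986
import Mathlib
import Groth.Agent.S17983
import Groth.Agent.S17984
import Groth.Agent.S17987
import Groth.Agent.S17985
import Groth.Agent.Weil6.NotGor

set_option autoImplicit false
universe u
open MvPolynomial
open scoped Classical
open WeilNum

namespace Groth.Agent.S17986

section
open Polynomial

/-- No conjugate of a nonrational Weil number is real when `q` is a square. -/
theorem im_ne_zero {p e : ℕ} {s : ℤ} (hs : s ^ 2 = (p : ℤ) ^ e) {P : ℤ[X]} (hm : P.Monic)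
    (hirr : Irreducible P) (hdeg : P.natDegree ≠ 1)
    (hw : ∀ z ∈ P.aroots ℂ, ‖z‖ = Real.sqrt ((p : ℝ) ^ e)) : ∀ z ∈ P.aroots ℂ, z.im ≠ 0 := by
  intro z hz him
  have h1 := hw z hz
  have h2 : z.re ^ 2 = (s : ℝ) ^ 2 := by
    have h3 := congrArg (fun r : ℝ => r ^ 2) h1
    simp only [Real.sq_sqrt (by positivity : (0 : ℝ) ≤ (p : ℝ) ^ e)] at h3
    rw [Complex.sq_norm, Complex.normSq_apply, him] at h3
    have h4 : (s : ℝ) ^ 2 = (p : ℝ) ^ e := by exact_mod_cast hs
    rw [h4, ← h3]
    ring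
  obtain ⟨t, ht, ht'⟩ : ∃ t : ℤ, P.IsRoot t ∧ True := by
    have hroot := (Polynomial.mem_aroots.1 hz).2
    rcases sq_eq_sq_iff_eq_or_eq_neg.1 h2 with h | h
    · refine ⟨s, ?_, trivial⟩
      have hzs : z = algebraMap ℤ ℂ s := Complex.ext (by simp [h]) (by simp [him])
      rw [hzs, Polynomial.aeval_algebraMap_apply_eq_algebraMap_eval] at hroot
      exact (map_eq_zero_iff _ (algebraMap ℤ ℂ).injective_int).1 hroot
    · refine ⟨-s, ?_, trivial⟩
      have hzs : z = algebraMap ℤ ℂ (-s) := Complex.ext (by simp [h]) (by simp [him])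
      rw [hzs, Polynomial.aeval_algebraMap_apply_eq_algebraMap_eval] at hroot
      exact (map_eq_zero_iff _ (algebraMap ℤ ℂ).injective_int).1 hroot
  have h5 := Polynomial.eq_of_monic_of_associated (Polynomial.monic_X_sub_C t) hm
    ((Polynomial.irreducible_X_sub_C t).associated_of_dvd hirr (Polynomial.dvd_iff_isRoot.2 ht))
  exact hdeg (by rw [← h5, Polynomial.natDegree_X_sub_C])

/-- Modulo `p` the middle coefficient is multiplicative. -/
theorem coeff_prod_mid {ι : Type*} [Fintype ι] {k : Type*} [CommRing k] (f : ι → k[X]) (m : ι → ℕ)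
    (h : ∀ i, ∀ j < m i, (f i).coeff j = 0) :
    (∏ i, f i).coeff (∑ i, m i) = ∏ i, (f i).coeff (m i) := by
  classical
  choose c hc using fun i => X_pow_dvd_iff.2 (h i)
  have h1 : ∀ i, (f i).coeff (m i) = (c i).coeff 0 := fun i => by
    rw [hc i, coeff_X_pow_mul', if_pos le_rfl, Nat.sub_self]
  rw [Finset.prod_congr rfl fun i _ => hc i, Finset.prod_mul_distrib, Finset.prod_pow_eq_pow_sum,
    coeff_X_pow_mul', if_pos le_rfl, Nat.sub_self, coeff_zero_prod, Finset.prod_congr rfl fun i _ => h1 i]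

end

/-- Let p be a prime, e ≥ 1, and assume q = p^e = s² for an integer s (of either sign; s is then a
rational Weil q-number). Let (π_i) be a finite family of pairwise nonconjugate nonrational Weil
q-numbers: π_i lies in a field K_i of characteristic zero, is integral over ℤ with minimal
polynomial P_i of degree different from 1, every complex root of P_i has absolute value √q, and P_i
≠ P_j for i ≠ j (since q is a square these π_i are nonreal, so Σ_i deg P_i = 2D is even). Put P_v =
∏_i P_i and let h ∈ ℤ[F, V] (F = X_0, V = X_1) be any polynomial with F^D · h ≡ P_v(F) modulo FV −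
q. Consider the ring map ℤ[F, V] → (∏_i K_i) × ℚ sending F to ((π_i)_i, s) and V to ((q/π_i)_i, s);
its image R_w is the minimal central order of the family enlarged by s. Then: (1) its kernel is the
ideal generated by FV − q, h · (F − s) and h · (V − s); (2) R_w is a Gorenstein ring if and only if
every π_i is ordinary, meaning that exactly half of the roots of P_i in an algebraic closure of ℚ_p,
counted with multiplicity, are p-adic units. -/
theorem result (p e : ℕ) [Fact p.Prime] (he : 0 < e)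
    (s : ℤ) (hs : s ^ 2 = (p : ℤ) ^ e)
    (ι : Type) [Fintype ι] (K : ι → Type u) [∀ i, Field (K i)] [∀ i, CharZero (K i)] (π : ∀ i, K i)
    (hint : ∀ i, IsIntegral ℤ (π i)) (hdeg : ∀ i, (minpoly ℤ (π i)).natDegree ≠ 1)
    (hweil : ∀ i, ∀ z ∈ (minpoly ℤ (π i)).aroots ℂ, ‖z‖ = Real.sqrt ((p : ℝ) ^ e))
    (hinj : ∀ i j, minpoly ℤ (π i) = minpoly ℤ (π j) → i = j)
    (D : ℕ) (hD : ∑ i, (minpoly ℤ (π i)).natDegree = 2 * D)
    (h : MvPolynomial (Fin 2) ℤ)
    (hh : X 0 ^ D * h - Polynomial.aeval (X 0 : MvPolynomial (Fin 2) ℤ) (∏ i, minpoly ℤ (π i)) ∈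
      Ideal.span ({X 0 * X 1 - C ((p : ℤ) ^ e)} : Set (MvPolynomial (Fin 2) ℤ))) :
    RingHom.ker (MvPolynomial.aeval ![(⟨fun i => π i, (s : ℚ)⟩ : ((i : ι) → K i) × ℚ), ⟨fun i => ((p : K i) ^ e) / π i, (s : ℚ)⟩] :
        MvPolynomial (Fin 2) ℤ →ₐ[ℤ] (((i : ι) → K i) × ℚ)) =
        Ideal.span {X 0 * X 1 - C ((p : ℤ) ^ e), h * (X 0 - C s), h * (X 1 - C s)} ∧
      (LocCoh.IsGorensteinRing (MvPolynomial.aeval ![(⟨fun i => π i, (s : ℚ)⟩ : ((i : ι) → K i) × ℚ), ⟨fun i => ((p : K i) ^ e) / π i, (s : ℚ)⟩] :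
        MvPolynomial (Fin 2) ℤ →ₐ[ℤ] (((i : ι) → K i) × ℚ)).range ↔
        ∀ i, 2 * Multiset.card (((minpoly ℤ (π i)).aroots (PadicAlgCl p)).filter (fun z => ‖z‖ = 1)) = (minpoly ℤ (π i)).natDegree) := by
  classical
  set φ := (MvPolynomial.aeval ![(⟨fun i => π i, (s : ℚ)⟩ : ((i : ι) → K i) × ℚ), ⟨fun i => ((p : K i) ^ e) / π i, (s : ℚ)⟩] :
      MvPolynomial (Fin 2) ℤ →ₐ[ℤ] (((i : ι) → K i) × ℚ)) with hφ
  set ψ := (MvPolynomial.aeval ![fun i => π i, fun i => ((p : K i) ^ e) / π i] :
      MvPolynomial (Fin 2) ℤ →ₐ[ℤ] ((i : ι) → K i)) with hψ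
  obtain ⟨hkerψ, -⟩ := S17984.result p e he ι K π hint hweil hinj D hD h hh
  rw [← hψ] at hkerψ
  set q : ℤ := (p : ℤ) ^ e with hqdef
  have hq : q ≠ 0 := pow_ne_zero _ (by exact_mod_cast (Fact.out : p.Prime).ne_zero)
  have hfst : ∀ f, (φ f).1 = ψ f := by
    intro f
    have : (AlgHom.fst ℤ ((i : ι) → K i) ℚ).comp φ = ψ := by
      refine MvPolynomial.algHom_ext fun j => ?_
      fin_cases j <;> simp [hφ, hψ]
    exact AlgHom.congr_fun this f
  have hsnd : ∀ f, (φ f).2 = (MvPolynomial.eval ![s, s] f : ℚ) := by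
    intro f
    induction f using MvPolynomial.induction_on with
    | C c => simp [hφ]
    | add a b ha hb => rw [map_add, map_add, Prod.snd_add, ha, hb, Int.cast_add]
    | mul_X a j ha =>
      rw [map_mul, map_mul, Prod.snd_mul, ha, Int.cast_mul]
      congr 1
      fin_cases j <;> simp [hφ]
  have hgs : MvPolynomial.eval ![s, s] (X 0 * X 1 - C q : MvPolynomial (Fin 2) ℤ) = 0 := by
    simp [← pow_two, hs]
  -- `h(s,s) ≠ 0`
  have hev : ∀ f : Polynomial ℤ, MvPolynomial.eval ![s, s] (Polynomial.aeval (X 0) f) = f.eval s := by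
    intro f
    induction f using Polynomial.induction_on' with
    | add a b ha hb => rw [map_add, map_add, Polynomial.eval_add, ha, hb]
    | monomial n c => simp [← Polynomial.C_mul_X_pow_eq_monomial]
  have hP0 : ∀ i, (minpoly ℤ (π i)).eval s ≠ 0 := by
    intro i h0
    have h5 := Polynomial.eq_of_monic_of_associated (Polynomial.monic_X_sub_C s) (minpoly.monic (hint i))
      ((Polynomial.irreducible_X_sub_C s).associated_of_dvd (minpoly.irreducible (hint i))
        (Polynomial.dvd_iff_isRoot.2 h0))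
    exact hdeg i (by rw [← h5, Polynomial.natDegree_X_sub_C])
  have hn0 : MvPolynomial.eval ![s, s] h ≠ 0 := by
    intro h0
    obtain ⟨c, hc⟩ := Ideal.mem_span_singleton'.1 hh
    have h1 := congrArg (MvPolynomial.eval ![s, s]) hc
    rw [map_mul, hgs, mul_zero, map_sub, map_mul, h0, mul_zero, zero_sub, hev, zero_eq_neg,
      Polynomial.eval_prod] at h1
    obtain ⟨i, -, hi⟩ := Finset.prod_eq_zero_iff.1 h1
    exact hP0 i hi
  have hlaurent : S17984.laurent q h ≠ 0 := by
    intro h0
    have h1 := S17984.laurent_eq_zero_of_mem q hh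
    rw [map_sub, map_mul, h0, mul_zero, zero_sub, neg_eq_zero] at h1
    exact (Polynomial.monic_prod_of_monic _ _ fun i _ => minpoly.monic (hint i)).ne_zero
      (S17984.laurent_inF_eq_zero q _ h1)
  -- the kernel
  have hker : RingHom.ker φ =
      Ideal.span {X 0 * X 1 - C q, h * (X 0 - C s), h * (X 1 - C s)} := by
    refine le_antisymm (fun f hf => ?_) (Ideal.span_le.2 ?_)
    · have hψf : f ∈ RingHom.ker ψ := by
        rw [RingHom.mem_ker, ← hfst, RingHom.mem_ker.1 hf]; rfl
      rw [hkerψ] at hψf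
      obtain ⟨a, b, hab⟩ := Ideal.mem_span_pair.1 hψf
      have h1 : (MvPolynomial.eval ![s, s] f : ℚ) = 0 := by
        rw [← hsnd, RingHom.mem_ker.1 hf]; rfl
      rw [Int.cast_eq_zero, ← hab, map_add, map_mul, hgs, mul_zero, zero_add, map_mul,
        mul_eq_zero] at h1
      have h2 := Weil6.sub_eval_mem s s b
      rw [h1.resolve_right hn0, map_zero, sub_zero] at h2
      obtain ⟨b1, b2, hb⟩ := Ideal.mem_span_pair.1 h2
      rw [show f = a * (X 0 * X 1 - C q) + (b1 * (h * (X 0 - C s)) + b2 * (h * (X 1 - C s))) by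
        rw [← hab, ← hb]; ring]
      exact add_mem (Ideal.mul_mem_left _ _ (Ideal.subset_span (by simp)))
        (add_mem (Ideal.mul_mem_left _ _ (Ideal.subset_span (by simp)))
          (Ideal.mul_mem_left _ _ (Ideal.subset_span (by simp))))
    · have hψh : ψ h = 0 := (hkerψ ▸ Ideal.subset_span (by simp) : h ∈ RingHom.ker ψ)
      have hψg : ψ (X 0 * X 1 - C q) = 0 :=
        (hkerψ ▸ Ideal.subset_span (by simp) : X 0 * X 1 - C q ∈ RingHom.ker ψ)
      have hmem : ∀ f, ψ f = 0 → MvPolynomial.eval ![s, s] f = 0 → φ f = 0 := fun f h1 h2 =>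
        Prod.ext (by rw [hfst, h1]; rfl) (by rw [hsnd, h2, Int.cast_zero]; rfl)
      rintro x (rfl | rfl | rfl)
      · exact hmem _ hψg hgs
      · exact hmem _ (by rw [map_mul, hψh, zero_mul]) (by simp)
      · exact hmem _ (by rw [map_mul, hψh, zero_mul]) (by simp)
  refine ⟨hker, ?_⟩
  -- ordinary iff `p ∤ h(s,s)`
  have hnr : ∀ i, ∀ z ∈ (minpoly ℤ (π i)).aroots ℂ, z.im ≠ 0 := fun i =>
    im_ne_zero hs (minpoly.monic (hint i)) (minpoly.irreducible (hint i)) (hdeg i) (hweil i)
  have hps : (p : ℤ) ∣ s := (Nat.prime_iff_prime_int.1 (Fact.out : p.Prime)).dvd_of_dvd_pow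
    (hs ▸ dvd_pow_self _ he.ne' : (p : ℤ) ∣ s ^ 2)
  have hps0 : ((s : ℤ) : ZMod p) = 0 := (ZMod.intCast_zmod_eq_zero_iff_dvd _ _).2 hps
  have horigin' : ∀ f, Weil6.origin p f = (MvPolynomial.eval ![s, s] f : ZMod p) := by
    intro f
    induction f using MvPolynomial.induction_on with
    | C c => simp [Weil6.origin]
    | add a b ha hb => rw [map_add, map_add, Int.cast_add, ha, hb]
    | mul_X a j ha =>
      rw [map_mul, map_mul, Int.cast_mul, ha]
      congr 1
      fin_cases j <;> simp [Weil6.origin, hps0]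
  have horigin := horigin' h
  have hkey : (Weil6.origin p h = 0) ↔
      (p : ℤ) ∣ ∏ i, (minpoly ℤ (π i)).coeff ((minpoly ℤ (π i)).natDegree / 2) := by
    let m := fun i => (minpoly ℤ (π i)).natDegree / 2
    have hsym := fun i => S17983.result p e he (K i) (π i) (hint i) (hweil i) (hnr i)
    have hDm : ∑ i, m i = D := by
      have : ∀ i, 2 * m i = (minpoly ℤ (π i)).natDegree := fun i => by
        obtain ⟨r, hr⟩ := (hsym i).1
        simp only [m]; omega
      have h2 : 2 * ∑ i, m i = 2 * D := by rw [Finset.mul_sum, ← hD]; exact Finset.sum_congr rfl fun i _ => this i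
      omega
    have hax : Polynomial.X ^ D * Weil6.axis p 0 h =
        (∏ i, minpoly ℤ (π i)).map (Int.castRingHom (ZMod p)) := by
      obtain ⟨c, hc⟩ := Ideal.mem_span_singleton'.1 hh
      have h1 := congrArg (Weil6.axis p 0) hc
      have hg0 : Weil6.axis p 0 (X 0 * X 1 - C q) = 0 := by
        simp [Weil6.axis, hqdef, he.ne', CharP.cast_eq_zero (Polynomial (ZMod p)) p]
      have hX0 : Weil6.axis p 0 (X 0) = Polynomial.X := by simp [Weil6.axis]
      rw [map_mul, hg0, mul_zero, map_sub, map_mul, map_pow, hX0, Weil6.axis_inF] at h1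
      exact sub_eq_zero.1 h1.symm
    have hlow : ∀ i, ∀ j < m i, ((minpoly ℤ (π i)).map (Int.castRingHom (ZMod p))).coeff j = 0 := by
      intro i j hj
      have h1 := (hsym i).2 (m i - j) (Nat.sub_le _ _)
      rw [show (minpoly ℤ (π i)).natDegree / 2 - (m i - j) = j by simp only [m] at hj ⊢; omega] at h1
      rw [Polynomial.coeff_map, eq_intCast, ZMod.intCast_zmod_eq_zero_iff_dvd, h1]
      exact Dvd.dvd.mul_right (dvd_pow_self _ (Nat.mul_ne_zero he.ne' (by omega))) _
    have h0 : Weil6.origin p h = ((∏ i, (minpoly ℤ (π i)).coeff (m i) : ℤ) : ZMod p) := by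
      rw [← Weil6.axis_eval_zero p 0, ← Polynomial.coeff_zero_eq_eval_zero]
      have h2 := congrArg (fun f => Polynomial.coeff f D) hax
      simp only [Polynomial.coeff_X_pow_mul', le_refl, if_true, Nat.sub_self] at h2
      rw [h2, Polynomial.map_prod, ← hDm, coeff_prod_mid _ m hlow, Int.cast_prod]
      exact Finset.prod_congr rfl fun i _ => by rw [Polynomial.coeff_map, eq_intCast]
    rw [h0, ZMod.intCast_zmod_eq_zero_iff_dvd]
  rw [S17987.result p e he ι K π hint hweil hnr, ← hkey]
  have hkerR : RingHom.ker φ.rangeRestrict.toRingHom =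
      Ideal.span {X 0 * X 1 - C q, h * (X 0 - C s), h * (X 1 - C s)} := by
    rw [← hker]
    ext f
    rw [RingHom.mem_ker, RingHom.mem_ker]
    exact ⟨fun h1 => congrArg Subtype.val h1, fun h1 => Subtype.ext h1⟩
  constructor
  · intro hG h0
    haveI := hG
    refine Weil6.not_gorenstein_glue φ.rangeRestrict.toRingHom (AlgHom.rangeRestrict_surjective φ) p e he
      s hps h hkerR ?_ ?_ h0
    · intro a b hab
      have hab' : ((p : φ.range) * a : φ.range) = (p : φ.range) * b := hab
      have h1 := congrArg φ.range.val hab'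
      rw [map_mul, map_mul, map_natCast] at h1
      refine Subtype.ext (Prod.ext (funext fun i => ?_) ?_)
      · have h2 := congrFun (congrArg Prod.fst h1) i
        simp only [Prod.fst_mul, Pi.mul_apply, Prod.fst_natCast, Pi.natCast_apply] at h2
        exact mul_left_cancel₀ (Nat.cast_ne_zero.2 (Fact.out : p.Prime).ne_zero) h2
      · have h2 := congrArg Prod.snd h1
        simp only [Prod.snd_mul, Prod.snd_natCast] at h2
        exact mul_left_cancel₀ (Nat.cast_ne_zero.2 (Fact.out : p.Prime).ne_zero) h2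
    · intro j
      have hcast : ((p ^ e : ℕ) : ℝ) = (p : ℝ) ^ e := by push_cast; rfl
      have hi1 : IsIntegral ℤ (φ (X j)).1 := by
        rw [hfst]
        fin_cases j
        · simpa [hψ] using S17985.isIntegral_pi hint
        · simpa [hψ] using S17985.isIntegral_pi fun i =>
            (by simpa using S17985.isIntegral_div (hint i) (q := p ^ e) (by rw [hcast]; exact hweil i) :
              IsIntegral ℤ ((p : K i) ^ e / π i))
      have hi2 : IsIntegral ℤ (φ (X j)).2 := by
        rw [hsnd]; exact isIntegral_algebraMap (R := ℤ) (x := MvPolynomial.eval ![s, s] (X j))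
      obtain ⟨m, hm, hm'⟩ := IsIntegral.pair hi1 hi2
      refine ⟨m, hm, ?_⟩
      rw [hkerR, ← hker, RingHom.mem_ker, ← Polynomial.aeval_algHom_apply]
      exact hm'
  · intro hord
    refine Weil6.gorenstein_glue φ.rangeRestrict.toRingHom (AlgHom.rangeRestrict_surjective φ) p e s hs h
      hlaurent hkerR fun hd => hord ?_
    rw [horigin, (ZMod.intCast_zmod_eq_zero_iff_dvd _ _).2 hd]

end Groth.Agent.S17986
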