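import Groth.Statements.S17988
import Groth.Agent.GorRefl.Basic
import Groth.Agent.S6295
import Mathlib.RingTheory.Ideal.GoingUp
import Mathlib.RingTheory.PrincipalIdealDomain
import Mathlib.LinearAlgebra.FreeModule.PID
import Mathlib.Algebra.Module.FinitePresentation

set_option autoImplicit false
universe u
open CAlg

namespace Groth.Agent.S17988


/-- Let Λ be a principal ideal domain and S a commutative Λ-algebra which is finitely generated and free
as a Λ-module and reduced as a ring; let M be a finitely generated S-module. Then M is torsionless
(the canonical map M → M** to the double S-dual is injective) if and only if M is free as a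
Λ-module. If in addition S is a Gorenstein ring (it has Krull dimension at most 1, being finite over
Λ), then M is reflexive (M → M** bijective) if and only if M is free as a Λ-module, so that for such
S torsionless and reflexive finitely generated modules coincide. The published statement is the case
Λ = ℤ, resp. Λ = ℤ_ℓ for a prime ℓ, with S the minimal central order R_w of a finite set of Weil
q-numbers, resp. its ℓ-adic completion R_w ⊗ ℤ_ℓ, under the assumption that R_w is Gorenstein; the
argument given there uses only that S is finite free over Λ, reduced, and (for reflexivity)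
Gorenstein of dimension one. -/
theorem result (Λ : Type u) [CommRing Λ] [IsDomain Λ] [IsPrincipalIdealRing Λ]
    (S : Type u) [CommRing S] [Algebra Λ S] [Module.Finite Λ S] [Module.Free Λ S] [IsReduced S]
    (M : Type u) [AddCommGroup M] [Module S M] [Module Λ M] [IsScalarTower Λ S M] [Module.Finite S M] :
    (Function.Injective (Module.Dual.eval S M) ↔ Module.Free Λ M) ∧
      (LocCoh.IsGorensteinRing S → (Module.IsReflexive S M ↔ Module.Free Λ M)) := by
  classical
  haveI : IsNoetherianRing Λ := inferInstance
  haveI : IsNoetherianRing S := IsNoetherianRing.of_finite Λ S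
  haveI : Module.Finite Λ M := Module.Finite.trans S M
  haveI : IsNoetherian S M := inferInstance
  have hfree : Module.Free Λ M → Function.Injective (Module.Dual.eval S M) := by
    intro hF
    rw [injective_iff_map_eq_zero]
    intro x hx
    by_contra h0
    obtain ⟨P, hP, hle⟩ := exists_le_isAssociatedPrime_of_isNoetherianRing S x h0
    haveI := hP.isPrime
    obtain ⟨-, y, hy⟩ := isAssociatedPrime_iff.1 hP
    have hy0 : y ≠ 0 := fun h => hP.isPrime.ne_top (by rw [hy, h, Submodule.colon_eq_top_iff_subset]; simp)
    have hbot : P.comap (algebraMap Λ S) = ⊥ := by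
      refine (Submodule.eq_bot_iff _).2 fun a ha => ?_
      rw [Ideal.mem_comap, hy, Submodule.mem_colon_singleton, Submodule.mem_bot, algebraMap_smul] at ha
      exact (smul_eq_zero.1 ha).resolve_right hy0
    have hmin : P ∈ minimalPrimes S := by
      refine ⟨⟨hP.isPrime, bot_le⟩, fun q hq hqP => ?_⟩
      haveI := hq.1
      by_contra hne
      have hlt := Ideal.IsIntegral.comap_lt_comap (R := Λ) (lt_of_le_of_ne hqP fun e => hne (e ▸ le_rfl))
      rw [show Ideal.comap (algebraMap Λ S) P = ⊥ from hbot] at hlt
      exact not_lt_bot hlt
    let F := Localization.AtPrime P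
    have hfield : IsField F := (Groth.Agent.S6295.result S).1 ⟨P, hP.isPrime⟩ hmin
    let xb : LocalizedModule P.primeCompl M := LocalizedModule.mkLinearMap P.primeCompl M x
    have hxb : xb ≠ 0 := by
      intro hz
      obtain ⟨s, hs⟩ := (IsLocalizedModule.eq_zero_iff P.primeCompl (LocalizedModule.mkLinearMap P.primeCompl M)).1 hz
      exact s.2 (hle (by rw [Submodule.mem_colon_singleton, Submodule.mem_bot]; exact hs))
    obtain ⟨g, hg⟩ : ∃ g : LocalizedModule P.primeCompl M →ₗ[F] F, g xb ≠ 0 := by
      letI := hfield.toField
      by_contra! hall
      exact hxb ((Module.forall_dual_apply_eq_zero_iff F xb).1 hall)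
    haveI : Module.FinitePresentation S M := Module.finitePresentation_of_finite S M
    obtain ⟨f, s, hf⟩ := Module.FinitePresentation.exists_lift_of_isLocalizedModule P.primeCompl
      (Algebra.linearMap S F) ((g.restrictScalars S) ∘ₗ LocalizedModule.mkLinearMap P.primeCompl M)
    have h1 := LinearMap.congr_fun hf x
    rw [LinearMap.comp_apply, show f x = 0 from LinearMap.congr_fun hx f, map_zero] at h1
    change 0 = (s : S) • g xb at h1
    rw [Algebra.smul_def] at h1
    exact hg (((IsLocalization.map_units F s).mul_right_eq_zero).1 h1.symm)
  have hinj : Function.Injective (Module.Dual.eval S M) → Module.Free Λ M := by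
    intro h
    obtain ⟨n, i, hi⟩ := Groth.Agent.GorRefl.exists_embedding h
    haveI : Module.IsTorsionFree Λ M := hi.moduleIsTorsionFree _ (fun a z => (i.restrictScalars Λ).map_smul a z)
    exact Module.free_of_finite_type_torsion_free'
  refine ⟨⟨hinj, hfree⟩, fun hG => ⟨fun hR => hinj (Module.bijective_dual_eval S M).1, fun hF => ?_⟩⟩
  haveI := hG
  have hdim : ringKrullDim S ≤ 1 := by
    haveI : Algebra.IsIntegral Λ S := inferInstance
    refine le_trans (Order.krullDim_le_of_strictMono (PrimeSpectrum.comap (algebraMap Λ S))
      fun p q h => ?_) (Ring.krullDimLE_iff.1 (inferInstance : Ring.KrullDimLE 1 Λ))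
    exact Ideal.IsIntegral.comap_lt_comap (R := Λ) (show p.asIdeal < q.asIdeal from h)
  exact ⟨Groth.Agent.GorRefl.bijective_eval hdim (hfree hF)⟩

end Groth.Agent.S17988
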