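import Groth.Statements.S1799
import Groth.Agent.KFlatLib.Ring.ShriekComp
-- import your own Groth.Agent.* helpers here

set_option autoImplicit false
universe u
open CategoryTheory
attribute [local instance] HasDerivedCategory.standard
open Dual2

namespace Groth.Agent.S1799

/-- Let A → B → C be ring maps of finite type between Noetherian rings, where each upper shriek φ^!(K)
is formed from a presentation ψ : P = (base)[x_1, …, x_n] → (target) as RHom_P(target, K ⊗^L P)[n],
the derived base change functors being assumed to exist and RHom_P(target, −) being given as a right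
adjoint of restriction of scalars. Then for every K in D(A) which is bounded below, the upper shriek
of K along A → C is isomorphic to the upper shriek along B → C of the upper shriek along A → B of K. -/
theorem result (A B C : Type u) [CommRing A] [CommRing B] [CommRing C] [IsNoetherianRing A] [IsNoetherianRing B] [IsNoetherianRing C] [Algebra A B] [Algebra B C] [Algebra A C] [IsScalarTower A B C] (n : ℕ) (ψ : MvPolynomial (Fin n) A →ₐ[A] B) (hψ : Function.Surjective ψ) [DRing.HasLBaseChange (algebraMap A (MvPolynomial (Fin n) A))] (Rψ : Dual.D (MvPolynomial (Fin n) A) ⥤ Dual.D B) (adj : DRing.restrictD ψ.toRingHom ⊣ Rψ) (m : ℕ) (χ : MvPolynomial (Fin m) B →ₐ[B] C) (hχ : Function.Surjective χ) [DRing.HasLBaseChange (algebraMap B (MvPolynomial (Fin m) B))] (Rχ : Dual.D (MvPolynomial (Fin m) B) ⥤ Dual.D C) (adjχ : DRing.restrictD χ.toRingHom ⊣ Rχ) (k : ℕ) (θ : MvPolynomial (Fin k) A →ₐ[A] C) (hθ : Function.Surjective θ) [DRing.HasLBaseChange (algebraMap A (MvPolynomial (Fin k) A))] (Rθ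 : Dual.D (MvPolynomial (Fin k) A) ⥤ Dual.D C) (adjθ : DRing.restrictD θ.toRingHom ⊣ Rθ) (K : Dual.D A) (c : ℤ) (hK : ∀ i : ℤ, i < c → Subsingleton (Dual.HD A K i)) : Nonempty (Dual2.shriekVia k Rθ K ≅ Dual2.shriekVia m Rχ (Dual2.shriekVia n Rψ K)) := by
  haveI : K.IsGE c := (DerivedCategory.isGE_iff _ _).2 fun i hi =>
    @ModuleCat.isZero_of_subsingleton _ _ _ (hK i hi)
  haveI := Groth.Agent.KFlatLib.hasLBase (algebraMap A (MvPolynomial (Fin n) A))
  haveI := Groth.Agent.KFlatLib.hasLBase (algebraMap B (MvPolynomial (Fin m) B))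
  haveI := Groth.Agent.KFlatLib.hasLBase (algebraMap A (MvPolynomial (Fin k) A))
  obtain ⟨e₁⟩ := Groth.Agent.KFlatLib.nonempty_LBaseChange_iso (algebraMap A (MvPolynomial (Fin n) A))
  obtain ⟨e₂⟩ := Groth.Agent.KFlatLib.nonempty_LBaseChange_iso (algebraMap B (MvPolynomial (Fin m) B))
  obtain ⟨e₃⟩ := Groth.Agent.KFlatLib.nonempty_LBaseChange_iso (algebraMap A (MvPolynomial (Fin k) A))
  obtain ⟨t⟩ := Groth.Agent.KFlatLib.nonempty_shriekVia_comp n ψ.toRingHom hψ
    (algebraMap A (MvPolynomial (Fin n) A)) rfl adj m χ.toRingHom hχ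
    (algebraMap B (MvPolynomial (Fin m) B)) rfl adjχ k θ.toRingHom hθ
    (RingHom.ext fun r => (θ.commutes r).trans ((IsScalarTower.algebraMap_apply A B C r).trans
      ((χ.commutes _).symm.trans (congrArg (fun b => χ (MvPolynomial.C b)) (ψ.commutes r).symm))))
    (algebraMap A (MvPolynomial (Fin k) A)) rfl adjθ K c
  exact ⟨(shiftFunctor _ (k : ℤ)).mapIso (Rθ.mapIso (e₃.app K)) ≪≫ t ≪≫
    (shiftFunctor _ (m : ℤ)).mapIso (Rχ.mapIso ((DTen.LBase _).mapIso
      ((shiftFunctor _ (n : ℤ)).mapIso (Rψ.mapIso (e₁.app K).symm)) ≪≫ (e₂.app _).symm))⟩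


end Groth.Agent.S1799
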