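import Groth.Statements.S17990
import Mathlib.LinearAlgebra.Dual.Lemmas
import Mathlib.RingTheory.Nakayama
import Mathlib.RingTheory.Ideal.AssociatedPrime.Localization
import Mathlib.RingTheory.Localization.AtPrime.Basic
import Mathlib.Algebra.Module.LocalizedModule.AtPrime
import Groth.Agent.S6295

set_option autoImplicit false
universe u
open CAlg

namespace Groth.Agent.S17990


/-- Let S be a reduced Gorenstein ring (Noetherian, all localizations at primes of finite injective
dimension over themselves) whose Krull dimension is ≤ 1; let M be a finitely generated S-module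
which is reflexive (M → M** bijective). Then M is locally free of rank 1, i.e. the localization M_P
is isomorphic to S_P as an S_P-module for every prime ideal P of S, if and only if the natural ring
map S → End_S(M), sending s to multiplication by s, is bijective. -/
theorem result (S : Type u) [CommRing S]
    [IsReduced S] [LocCoh.IsGorensteinRing S] (hdim : ringKrullDim S ≤ 1)
    (M : Type u) [AddCommGroup M] [Module S M] [Module.Finite S M] [Module.IsReflexive S M] :
    (∀ (P : Ideal S) (_ : P.IsPrime),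
        Nonempty (LocalizedModule P.primeCompl M ≃ₗ[Localization.AtPrime P] Localization.AtPrime P)) ↔
      Function.Bijective (algebraMap S (Module.End S M)) := by
  classical
  constructor
  · intro h
    have hkill : ∀ (P : Ideal S), P.IsPrime → ∀ r : S, (∀ x : M, r • x = 0) → ∃ s ∉ P, s * r = 0 := by
      intro P hP r hr
      obtain ⟨e⟩ := h P hP
      obtain ⟨x, t, hxt⟩ : ∃ x t, LocalizedModule.mk x t = e.symm 1 := by
        induction e.symm 1 using LocalizedModule.induction_on with
        | h x t => exact ⟨x, t, rfl⟩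
      have h1 : algebraMap S (Localization.AtPrime P) r = 0 := by
        have h2 : algebraMap S (Localization.AtPrime P) r • e.symm 1 = 0 := by
          rw [← hxt, algebraMap_smul, LocalizedModule.smul'_mk, hr, LocalizedModule.zero_mk]
        rw [← map_smul, e.symm.map_eq_zero_iff, smul_eq_mul, mul_one] at h2
        exact h2
      obtain ⟨s, hs⟩ := (IsLocalization.map_eq_zero_iff P.primeCompl _ r).1 h1
      exact ⟨s, s.2, hs⟩
    refine ⟨(injective_iff_map_eq_zero _).2 fun r hr => ?_, fun φ => ?_⟩
    · by_contra h0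
      obtain ⟨P, hP, hle⟩ := Ideal.exists_le_maximal (LinearMap.ker (LinearMap.toSpanSingleton S S r))
        (fun ht => h0 (by simpa using ht.ge (Submodule.mem_top (x := (1 : S)))))
      obtain ⟨s, hs, hsr⟩ := hkill P hP.isPrime r fun x => by
        simpa using LinearMap.congr_fun hr x
      exact hs (hle (by simpa using hsr))
    · let Q : Ideal S :=
        { carrier := {r | ∃ c : S, ∀ x, r • φ x = c • x}
          add_mem' := by
            rintro a b ⟨c, hc⟩ ⟨d, hd⟩
            exact ⟨c + d, fun x => by rw [add_smul, add_smul, hc, hd]⟩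
          zero_mem' := ⟨0, fun x => by simp⟩
          smul_mem' := by
            rintro a b ⟨c, hc⟩
            exact ⟨a * c, fun x => by rw [smul_eq_mul, mul_smul, mul_smul, hc]⟩ }
      suffices hQ : Q = ⊤ by
        obtain ⟨c, hc⟩ := (hQ.ge (Submodule.mem_top (x := (1 : S))) : (1 : S) ∈ Q)
        exact ⟨c, LinearMap.ext fun x => by rw [Module.algebraMap_end_apply, ← hc, one_smul]⟩
      by_contra hQ
      obtain ⟨P, hP, hle⟩ := Ideal.exists_le_maximal Q hQ
      haveI := hP.isPrime
      obtain ⟨e⟩ := h P hP.isPrime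
      obtain ⟨x, t, hxt⟩ : ∃ x t, LocalizedModule.mk x t = e.symm 1 := by
        induction e.symm 1 using LocalizedModule.induction_on with
        | h x t => exact ⟨x, t, rfl⟩
      -- every element is locally a multiple of `x`
      have hgen : ∀ y : M, ∃ s ∉ P, ∃ c : S, s • y = c • x := by
        intro y
        have h2 : LocalizedModule.mk y (1 : P.primeCompl) = (e (LocalizedModule.mk y 1)) • e.symm 1 := by
          rw [← map_smul, smul_eq_mul, mul_one, e.symm_apply_apply]
        obtain ⟨a, b, hab⟩ := IsLocalization.exists_mk'_eq P.primeCompl (e (LocalizedModule.mk y 1))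
        rw [← hab, ← hxt, ← Localization.mk_eq_mk', LocalizedModule.mk_smul_mk, LocalizedModule.mk_eq] at h2
        obtain ⟨u, hu⟩ := h2
        refine ⟨(u : S) * (b * t : P.primeCompl), P.primeCompl.mul_mem u.2 (b * t).2, (u : S) * a, ?_⟩
        rw [mul_smul, mul_smul]
        simpa [Submonoid.smul_def] using hu
      choose s hs c hc using hgen
      obtain ⟨n, g, hg⟩ := Submodule.fg_iff_exists_fin_generating_family.1 (Module.Finite.fg_top (R := S) (M := M))
      refine hP.isPrime.mul_notMem (hs (φ x)) (fun hmem => ?_) (hle (x := s (φ x) * ∏ i, s (g i)) ⟨c (φ x) * ∏ i, s (g i), fun y => ?_⟩)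
      · obtain ⟨i, -, hi⟩ := (Ideal.IsPrime.prod_mem_iff (hp := hP.isPrime)).1 hmem
        exact hs (g i) hi
      · have hy : y ∈ Submodule.span S (Set.range g) := hg ▸ Submodule.mem_top
        induction hy using Submodule.span_induction with
        | mem z hz =>
          obtain ⟨i, rfl⟩ := hz
          obtain ⟨w, hw⟩ : s (g i) ∣ ∏ l, s (g l) := Finset.dvd_prod_of_mem _ (Finset.mem_univ i)
          rw [hw, show s (φ x) * (s (g i) * w) = (w * s (φ x)) * s (g i) by ring,
            show c (φ x) * (s (g i) * w) = (w * c (φ x)) * s (g i) by ring,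
            mul_smul, mul_smul (w * c (φ x)), ← map_smul, hc, map_smul, mul_smul, mul_smul, smul_comm (s (φ x)), hc, smul_comm (c (g i))]
        | zero => simp
        | add u v _ _ hu hv => rw [map_add, smul_add, smul_add, hu, hv]
        | smul a u _ hu => rw [map_smul, smul_comm, hu, smul_comm]
  · intro hbij P hP
    haveI := hP
    haveI : IsNoetherianRing S := inferInstance
    have hfaith : ∀ r : S, (∀ x : M, r • x = 0) → r = 0 := fun r hr =>
      hbij.1 (LinearMap.ext fun x => by rw [map_zero]; simpa using hr x)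
    have hsc : ∀ φ : M →ₗ[S] M, ∃ c : S, ∀ x, φ x = c • x := fun φ => by
      obtain ⟨c, rfl⟩ := hbij.2 φ
      exact ⟨c, fun x => rfl⟩
    -- the trace ideal
    let τ : Ideal S := Submodule.span S {t | ∃ (f : M →ₗ[S] S) (x : M), f x = t}
    have hτ : ∀ r : S, (∀ t ∈ τ, r * t = 0) → r = 0 := fun r hr => hfaith r fun x => by
      refine (Module.bijective_dual_eval S M).1 (LinearMap.ext fun f => ?_)
      rw [map_zero]
      show f (r • x) = 0
      rw [map_smul]
      exact hr _ (Submodule.subset_span ⟨f, x, rfl⟩)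
    by_cases hfree : ∃ (f : M →ₗ[S] S) (x : M), f x ∉ P
    · obtain ⟨f, x, hfx⟩ := hfree
      obtain ⟨c, hc⟩ := hsc ((LinearMap.toSpanSingleton S M x) ∘ₗ f)
      have hcx : ∀ y, f y • x = c • y := hc
      have hcP : c ∉ P := by
        intro h
        have h1 := congrArg f (hcx x)
        rw [map_smul, map_smul, smul_eq_mul, smul_eq_mul] at h1
        exact hP.mul_notMem hfx hfx (h1 ▸ P.mul_mem_right _ h)
      let L := Localization.AtPrime P
      let θ : L →ₗ[L] LocalizedModule P.primeCompl M := LinearMap.toSpanSingleton L _ (LocalizedModule.mk x 1)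
      refine ⟨(LinearEquiv.ofBijective θ ⟨?_, ?_⟩).symm⟩
      · rw [injective_iff_map_eq_zero]
        intro l hl
        obtain ⟨a, b, rfl⟩ := IsLocalization.exists_mk'_eq P.primeCompl l
        rw [LinearMap.toSpanSingleton_apply, ← Localization.mk_eq_mk', LocalizedModule.mk_smul_mk,
          ← LocalizedModule.zero_mk 1, LocalizedModule.mk_eq] at hl
        obtain ⟨u, hu⟩ := hl
        simp only [Submonoid.smul_def, smul_zero, smul_smul] at hu
        have h1 := congrArg f hu
        rw [map_smul, map_zero, smul_eq_mul] at h1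
        rw [IsLocalization.mk'_eq_zero_iff]
        refine ⟨⟨(u : S) * f x, P.primeCompl.mul_mem u.2 hfx⟩, ?_⟩
        rw [← h1]
        simp only [OneMemClass.coe_one, one_mul]
        ring
      · intro z
        induction z using LocalizedModule.induction_on with
        | h y b =>
          refine ⟨Localization.mk (f y) (⟨c, hcP⟩ * b), ?_⟩
          rw [LinearMap.toSpanSingleton_apply, LocalizedModule.mk_smul_mk, mul_one, hcx y, LocalizedModule.mk_eq]
          exact ⟨1, by simp [Submonoid.smul_def, smul_smul, mul_comm]⟩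
    push_neg at hfree
    exfalso
    have hτP : τ ≤ P := Submodule.span_le.2 (by rintro _ ⟨f, x, rfl⟩; exact hfree f x)
    have hτfg : τ.FG := IsNoetherian.noetherian τ
    -- endomorphisms of `P` are scalars on `τ`
    have hendo : ∀ ψ : (P : Ideal S) →ₗ[S] S, (∀ y, ψ y ∈ P) → ∃ c : S, ∀ y : P, ψ y = c * y := by
      intro ψ hψ
      let toP : (M →ₗ[S] S) →ₗ[S] (M →ₗ[S] S) :=
        { toFun := fun f => ψ ∘ₗ f.codRestrict P (hfree f)
          map_add' := fun f g => LinearMap.ext fun x => (map_add ψ ⟨f x, hfree f x⟩ ⟨g x, hfree g x⟩ :)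
          map_smul' := fun a f => LinearMap.ext fun x => (map_smul ψ a ⟨f x, hfree f x⟩ :) }
      obtain ⟨c, hc⟩ := hsc ((Module.evalEquiv S M).symm.toLinearMap ∘ₗ toP.dualMap ∘ₗ Module.Dual.eval S M)
      have hkey : ∀ (f : M →ₗ[S] S) (x : M), ψ ⟨f x, hfree f x⟩ = c * f x := by
        intro f x
        have h1 := congrArg (Module.Dual.eval S M) (hc x)
        rw [LinearMap.comp_apply, LinearMap.comp_apply] at h1
        have h2 := LinearMap.congr_fun h1 f
        rw [show (Module.Dual.eval S M) ((Module.evalEquiv S M).symm.toLinearMap (toP.dualMap (Module.Dual.eval S M x))) =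
          toP.dualMap (Module.Dual.eval S M x) from (Module.evalEquiv S M).apply_symm_apply _] at h2
        simp [toP] at h2
        exact h2
      have hkτ : ∀ t (ht : t ∈ τ), ψ ⟨t, hτP ht⟩ = c * t := by
        intro t ht
        induction ht using Submodule.span_induction with
        | mem z hz => obtain ⟨f, x, rfl⟩ := hz; exact hkey f x
        | zero => rw [mul_zero]; exact map_zero ψ
        | add u v hu' hv' hu hv => rw [mul_add, ← hu, ← hv, ← map_add]; rfl
        | smul a u hu' hu =>
          show ψ (a • (⟨u, hτP hu'⟩ : P)) = _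
          rw [map_smul, hu, smul_eq_mul, smul_eq_mul]
          ring
      refine ⟨c, fun y => sub_eq_zero.1 (hτ _ fun t ht => ?_)⟩
      rw [sub_mul, sub_eq_zero]
      have e : t • y = (y : S) • (⟨t, hτP ht⟩ : P) := Subtype.ext (mul_comm _ _)
      have h3 := congrArg ψ e
      rw [map_smul, map_smul, smul_eq_mul, smul_eq_mul, hkτ t ht] at h3
      rw [mul_comm, h3]; ring
    -- `P` is not minimal
    have hnotmin : P ∉ minimalPrimes S := by
      intro hmin
      have hz : ∀ t ∈ τ, ∃ s ∉ P, s * t = 0 := by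
        intro t ht
        have h0 : algebraMap S (Localization.AtPrime P) t = 0 := by
          have hF := (Groth.Agent.S6295.result S).1 ⟨P, hP⟩ hmin
          by_contra hne
          obtain ⟨v, hv⟩ := hF.mul_inv_cancel hne
          exact ((IsLocalization.AtPrime.to_map_mem_maximal_iff (Localization.AtPrime P) P t).2 (hτP ht)) (IsUnit.of_mul_eq_one v hv)
        obtain ⟨s, hs⟩ := (IsLocalization.map_eq_zero_iff P.primeCompl _ t).1 h0
        exact ⟨s, s.2, hs⟩
      choose! s hs hst using hz
      obtain ⟨g, hg⟩ := hτfg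
      have hgm : ∀ t ∈ g, t ∈ τ := fun t ht => hg ▸ Submodule.subset_span ht
      have h1 : (∏ t ∈ g, s t) ∉ P := fun h => by
        obtain ⟨t, ht, h'⟩ := (Ideal.IsPrime.prod_mem_iff (hp := hP)).1 h
        exact hs t (hgm t ht) h'
      have h0 : ∏ t ∈ g, s t = 0 := hτ _ fun t ht => by
        rw [← hg] at ht
        induction ht using Submodule.span_induction with
        | mem z hz => rw [← Finset.prod_erase_mul _ _ hz, mul_assoc, hst z (hgm z hz), mul_zero]
        | zero => rw [mul_zero]
        | add u v _ _ hu hv => rw [mul_add, hu, hv, add_zero]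
        | smul a u _ hu => rw [smul_eq_mul, mul_left_comm, hu, mul_zero]
      exact h1 (h0 ▸ P.zero_mem)
    haveI := (Ring.krullDimLE_iff (n := 1)).2 hdim
    have hcase := Ring.krullDimLE_one_iff.1 (inferInstance : Ring.KrullDimLE 1 S)
    -- a regular element of `P`
    obtain ⟨x₀, hx₀P, hx₀⟩ : ∃ x ∈ P, x ∈ nonZeroDivisors S := by
      by_contra! hall
      have hsub : (P : Set S) ⊆ ⋃ q ∈ minimalPrimes S, (q : Set S) := fun z hz => by
        obtain ⟨q, hq, hzq⟩ := ((Groth.Agent.S6295.result S).2.2 z).1 (hall z hz)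
        exact Set.mem_biUnion hq hzq
      have hfin : (minimalPrimes S).Finite := minimalPrimes.finite_of_isNoetherianRing S
      rw [show (⋃ q ∈ minimalPrimes S, (q : Set S)) = ⋃ q ∈ (hfin.toFinset : Set (Ideal S)), (q : Set S) by simp] at hsub
      obtain ⟨q, hq, hPq⟩ := (Ideal.subset_union_prime ⊥ ⊥ fun q hq _ _ => (hfin.mem_toFinset.1 hq).1.1).1 hsub
      have hqm := hfin.mem_toFinset.1 hq
      exact hnotmin (le_antisymm hPq (hqm.2 ⟨hP, bot_le⟩ hPq) ▸ hqm)
    have hminx : P ∈ (Ideal.span {x₀}).minimalPrimes := by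
      refine ⟨⟨hP, (Ideal.span_singleton_le_iff_mem _).2 hx₀P⟩, fun q hq hqP => ?_⟩
      haveI := hq.1
      by_contra hne
      obtain ⟨q₀, hq₀, hq₀q⟩ := Ideal.exists_minimalPrimes_le (I := ⊥) (J := q) bot_le
      haveI := hq₀.1.1
      have hlt₀ : q₀ < q := lt_of_le_of_ne hq₀q fun e => by
        have := ((Groth.Agent.S6295.result S).2.2 x₀).2 ⟨q₀, hq₀, e ▸ hq.2 (Ideal.mem_span_singleton_self x₀)⟩
        exact this hx₀
      rcases hcase q hq.1 with hqmin | hqmax
      · exact absurd (hqmin.2 ⟨inferInstance, bot_le⟩ hq₀q) (not_le_of_gt hlt₀)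
      · exact hne (hqmax.eq_of_le hP.ne_top hqP).ge
    obtain ⟨-, z, hz⟩ := isAssociatedPrime_iff.1
      (Module.associatedPrimes.minimalPrimes_annihilator_subset_associatedPrimes S (S ⧸ Ideal.span {x₀})
        (by rwa [Ideal.annihilator_quotient]))
    obtain ⟨a, rfl⟩ := Ideal.Quotient.mk_surjective z
    have hdiv : ∀ y : P, ∃ w : S, x₀ * w = a * y := fun y => by
      have hy : (y : S) ∈ Submodule.colon ⊥ {Ideal.Quotient.mk (Ideal.span {x₀}) a} := hz ▸ y.2
      rw [Submodule.mem_colon_singleton, Submodule.mem_bot] at hy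
      change Ideal.Quotient.mk (Ideal.span {x₀}) ((y : S) * a) = 0 at hy
      rw [Ideal.Quotient.eq_zero_iff_mem, Ideal.mem_span_singleton'] at hy
      obtain ⟨w, hw⟩ := hy
      exact ⟨w, by rw [mul_comm, hw, mul_comm]⟩
    choose w hw using hdiv
    have hx₀c : ∀ u v : S, x₀ * u = x₀ * v → u = v := fun u v h =>
      (mem_nonZeroDivisors_iff_right.1 hx₀ (u - v) (by rw [sub_mul, sub_eq_zero, mul_comm, h, mul_comm]) |> sub_eq_zero.1)
    let ψ : (P : Ideal S) →ₗ[S] S :=
      { toFun := w
        map_add' := fun u v => hx₀c _ _ (by rw [mul_add, hw, hw, hw, Submodule.coe_add, mul_add])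
        map_smul' := fun r u => hx₀c _ _ (by
          rw [hw, RingHom.id_apply, smul_eq_mul, Submodule.coe_smul, smul_eq_mul, mul_left_comm x₀, hw, mul_left_comm]) }
    by_cases hψ : ∀ y, ψ y ∈ P
    · obtain ⟨c, hc⟩ := hendo ψ hψ
      have h1 : x₀ * (c * x₀) = a * x₀ := by
        have := hw ⟨x₀, hx₀P⟩
        rwa [show w ⟨x₀, hx₀P⟩ = c * x₀ from hc ⟨x₀, hx₀P⟩] at this
      have h2 : c * x₀ = a := hx₀c _ _ (by rw [h1, mul_comm])
      refine hP.ne_top ((Ideal.eq_top_iff_one P).2 (hz ▸ ?_))
      rw [Submodule.mem_colon_singleton, Submodule.mem_bot, one_smul, Ideal.Quotient.eq_zero_iff_mem, ← h2]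
      exact Ideal.mul_mem_left _ _ (Ideal.mem_span_singleton_self _)
    push_neg at hψ
    obtain ⟨y, hy⟩ := hψ
    have hψτ : ∀ t (ht : t ∈ τ), ψ ⟨t, hτP ht⟩ ∈ τ := by
      intro t ht
      induction ht using Submodule.span_induction with
      | mem z hz =>
        obtain ⟨f, x, rfl⟩ := hz
        exact Submodule.subset_span ⟨ψ ∘ₗ f.codRestrict P (hfree f), x, rfl⟩
      | zero => rw [show (⟨0, hτP (zero_mem _)⟩ : P) = 0 from rfl, map_zero]; exact zero_mem _
      | add u v hu' hv' hu hv =>
        rw [show (⟨u + v, hτP (add_mem hu' hv')⟩ : P) = ⟨u, hτP hu'⟩ + ⟨v, hτP hv'⟩ from rfl, map_add]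
        exact add_mem hu hv
      | smul r u hu' hu =>
        rw [show (⟨r • u, hτP (Submodule.smul_mem _ r hu')⟩ : P) = r • ⟨u, hτP hu'⟩ from rfl, map_smul]
        exact Submodule.smul_mem _ r hu
    obtain ⟨v, i, hi, hvi⟩ := Ideal.IsMaximal.exists_inv (I := P) ((hcase P hP).resolve_left hnotmin) (show ψ y ∉ P from hy)
    obtain ⟨r, hr, hrτ⟩ := Submodule.exists_sub_one_mem_and_smul_eq_zero_of_fg_of_le_smul P τ hτfg (fun t ht => by
      have e : t • y = (y : S) • (⟨t, hτP ht⟩ : P) := Subtype.ext (mul_comm _ _)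
      have h3 := congrArg ψ e
      rw [map_smul, map_smul, smul_eq_mul, smul_eq_mul] at h3
      have h4 : t = (v * (y : S)) • ψ ⟨t, hτP ht⟩ + i • t := by
        rw [smul_eq_mul, smul_eq_mul, mul_assoc, ← h3, mul_comm t, ← mul_assoc, ← add_mul, hvi, one_mul]
      rw [h4]
      exact add_mem (Submodule.smul_mem_smul (P.mul_mem_left v y.2) (hψτ t ht)) (Submodule.smul_mem_smul hi ht))
    have hr0 : r = 0 := hτ r fun t ht => hrτ t ht
    rw [hr0, zero_sub, neg_mem_iff] at hr
    exact hP.ne_top ((Ideal.eq_top_iff_one P).2 hr)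

end Groth.Agent.S17990
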