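import Groth.Statements.S17995
import Groth.Agent.AVTate.PrimeField.Equiv

set_option autoImplicit false
set_option backward.isDefEq.respectTransparency false
set_option backward.isDefEq.respectTransparency.types false
set_option maxHeartbeats 1000000
universe u
open CategoryTheory MonoidalCategory CartesianMonoidalCategory MonObj GrpObj AlgebraicGeometry MvPolynomial
open AbVar

namespace Groth.Agent.S17995

/-- Stated for abelian varieties with Weil support in a fixed finite set w, where the lattice functor is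
M_w = Hom(−, A_w); let p be a prime and k a field with p elements. Let (π_j) be a finite family of
pairwise nonconjugate nonreal Weil p-numbers (π_j in a field K_j of characteristic zero, integral
over ℤ with minimal polynomial P_j, all complex roots of P_j of absolute value √p and none real, P_i
≠ P_j for i ≠ j), P_w = ∏_j P_j, and R_w ⊆ ∏_j K_j the minimal central order, the image of ℤ[F, V] →
∏_j K_j, F ↦ (π_j), V ↦ (p/π_j). An abelian variety over k means a proper, geometrically integral
commutative group scheme over k, taken with its p-Frobenius endomorphism π (the identity on points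
and the p-th power map on sections; a homomorphism); it lies in AV_w when P_w(π) = 0 in its
endomorphism ring. Let A_w be an abelian variety over k together with a ring isomorphism ρ : R_w ≅
End(A_w) sending the class of F to the Frobenius of A_w (so A_w lies in AV_w and its endomorphism
ring is the minimal central order); Hom(X, A_w) is a module over End(A_w) ≅ R_w by postcomposition.
Let A, B lie in AV_w and let f : B → A be a homomorphism. Then the map Hom(A, A_w) → Hom(B, A_w), φ
↦ (f followed by φ), is surjective if and only if f identifies B with an abelian subvariety of A,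
i.e. the underlying morphism of schemes of f is a closed immersion. -/
theorem result (p : ℕ) [Fact p.Prime] (k : Type u) [Field k] [Finite k] (hk : Nat.card k = p)
    (J : Type) [Fintype J] (K : J → Type) [∀ j, Field (K j)] [∀ j, CharZero (K j)] (ϖ : ∀ j, K j)
    (hint : ∀ j, IsIntegral ℤ (ϖ j))
    (hweil : ∀ j, ∀ z ∈ (minpoly ℤ (ϖ j)).aroots ℂ, ‖z‖ = Real.sqrt p)
    (hnr : ∀ j, ∀ z ∈ (minpoly ℤ (ϖ j)).aroots ℂ, z.im ≠ 0)
    (hinj : ∀ i j, minpoly ℤ (ϖ i) = minpoly ℤ (ϖ j) → i = j)
    (Aw : Over (Spec (CommRingCat.of k))) [GrpObj Aw] [IsCommMonObj Aw] [IsProper Aw.hom] [GeometricallyIntegral Aw.hom]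
    (πw : Aw ⟶ Aw) [IsMonHom πw] (hπwb : πw.left.base = 𝟙 _) (hπwle : ∀ U : Aw.left.Opens, U ≤ πw.left ⁻¹ᵁ U)
    (hπwapp : ∀ (U : Aw.left.Opens) (s : Γ(Aw.left, U)), (πw.left.appLE U U (hπwle U)).hom s = s ^ p)
    (ρw : (MvPolynomial.aeval ![fun j => ϖ j, fun j => (p : K j) / ϖ j] : MvPolynomial (Fin 2) ℤ →ₐ[ℤ] ((j : J) → K j)).range ≃+* EndAV.End Aw)
    (hρw : ρw ⟨(MvPolynomial.aeval ![fun j => ϖ j, fun j => (p : K j) / ϖ j] : MvPolynomial (Fin 2) ℤ →ₐ[ℤ] ((j : J) → K j)) (X 0), AlgHom.mem_range_self _ _⟩ = EndAV.End.of πw)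
    (A : Over (Spec (CommRingCat.of k))) [GrpObj A] [IsCommMonObj A] [IsProper A.hom] [GeometricallyIntegral A.hom]
    (πA : A ⟶ A) [IsMonHom πA] (hπAb : πA.left.base = 𝟙 _) (hπAle : ∀ U : A.left.Opens, U ≤ πA.left ⁻¹ᵁ U)
    (hπAapp : ∀ (U : A.left.Opens) (s : Γ(A.left, U)), (πA.left.appLE U U (hπAle U)).hom s = s ^ p)
    (hPA : Polynomial.aeval (EndAV.End.of πA) (∏ j, minpoly ℤ (ϖ j)) = 0)
    (B : Over (Spec (CommRingCat.of k))) [GrpObj B] [IsCommMonObj B] [IsProper B.hom] [GeometricallyIntegral B.hom]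
    (πB : B ⟶ B) [IsMonHom πB] (hπBb : πB.left.base = 𝟙 _) (hπBle : ∀ U : B.left.Opens, U ≤ πB.left ⁻¹ᵁ U)
    (hπBapp : ∀ (U : B.left.Opens) (s : Γ(B.left, U)), (πB.left.appLE U U (hπBle U)).hom s = s ^ p)
    (hPB : Polynomial.aeval (EndAV.End.of πB) (∏ j, minpoly ℤ (ϖ j)) = 0)
    (f : EndAV.Hom B A) :
    Function.Surjective (Preadditive.leftComp (CommGrp.mk Aw) f) ↔ IsClosedImmersion f.toHom.left := by
  have hAw := AVTate.MinOrder.isFrob_of hk πw hπwb hπwle hπwapp
  have hA := AVTate.MinOrder.isFrob_of hk πA hπAb hπAle hπAapp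
  have hB := AVTate.MinOrder.isFrob_of hk πB hπBb hπBle hπBapp
  exact AVTate.PrimeField.surjective_iff_isClosedImmersion hk hint hinj hweil ρw hρw hAw hB hA hPB hPA f

end Groth.Agent.S17995
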