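import Groth.Statements.S17996
import Groth.Agent.AVTate.PrimeField.EndRing

set_option autoImplicit false
set_option backward.isDefEq.respectTransparency false
set_option backward.isDefEq.respectTransparency.types false
set_option maxHeartbeats 1000000
universe u
open CategoryTheory MonoidalCategory CartesianMonoidalCategory MonObj GrpObj AlgebraicGeometry MvPolynomial
open AbVar

namespace Groth.Agent.S17996

/-- (a) ⇒ (b): a Waterhouse-type realization of orders as endomorphism rings; let p be a prime and k a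
field with p elements. Let (π_j) be a finite family of pairwise nonconjugate nonreal Weil p-numbers
(π_j in a field K_j of characteristic zero, integral over ℤ with minimal polynomial P_j, all complex
roots of P_j of absolute value √p and none real, P_i ≠ P_j for i ≠ j), P_w = ∏_j P_j, and R_w ⊆ ∏_j
K_j the minimal central order, the image of ℤ[F, V] → ∏_j K_j, F ↦ (π_j), V ↦ (p/π_j). An abelian
variety over k means a proper, geometrically integral commutative group scheme over k, taken with
its p-Frobenius endomorphism π (the identity on points and the p-th power map on sections; a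
homomorphism); it lies in AV_w when P_w(π) = 0 in its endomorphism ring. Let A_w be an abelian
variety over k together with a ring isomorphism ρ : R_w ≅ End(A_w) sending the class of F to the
Frobenius of A_w (so A_w lies in AV_w and its endomorphism ring is the minimal central order);
Hom(X, A_w) is a module over End(A_w) ≅ R_w by postcomposition. Let S be a subring of ∏_j K_j which
contains R_w, is finitely generated as a ℤ-module, and all of whose elements have a nonzero integer
multiple in R_w (that is, S is an order of R_w ⊗ ℚ = ∏_j ℚ(π_j) containing R_w). Then there exist an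
abelian variety B in AV_w and a ring isomorphism S ≅ End(B) which sends F to the p-Frobenius of B;
consequently B has Weil support exactly w, each simple isogeny factor of B appears exactly once, and
the isomorphism is one of R_w-algebras. The converse implication of the published result is not
stated here. -/
theorem result (p : ℕ) [Fact p.Prime] (k : Type u) [Field k] [Finite k] (hk : Nat.card k = p)
    (J : Type) [Fintype J] (K : J → Type) [∀ j, Field (K j)] [∀ j, CharZero (K j)] (ϖ : ∀ j, K j)
    (hint : ∀ j, IsIntegral ℤ (ϖ j))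
    (hweil : ∀ j, ∀ z ∈ (minpoly ℤ (ϖ j)).aroots ℂ, ‖z‖ = Real.sqrt p)
    (hnr : ∀ j, ∀ z ∈ (minpoly ℤ (ϖ j)).aroots ℂ, z.im ≠ 0)
    (hinj : ∀ i j, minpoly ℤ (ϖ i) = minpoly ℤ (ϖ j) → i = j)
    (Aw : Over (Spec (CommRingCat.of k))) [GrpObj Aw] [IsCommMonObj Aw] [IsProper Aw.hom] [GeometricallyIntegral Aw.hom]
    (πw : Aw ⟶ Aw) [IsMonHom πw] (hπwb : πw.left.base = 𝟙 _) (hπwle : ∀ U : Aw.left.Opens, U ≤ πw.left ⁻¹ᵁ U)
    (hπwapp : ∀ (U : Aw.left.Opens) (s : Γ(Aw.left, U)), (πw.left.appLE U U (hπwle U)).hom s = s ^ p)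
    (ρw : (MvPolynomial.aeval ![fun j => ϖ j, fun j => (p : K j) / ϖ j] : MvPolynomial (Fin 2) ℤ →ₐ[ℤ] ((j : J) → K j)).range ≃+* EndAV.End Aw)
    (hρw : ρw ⟨(MvPolynomial.aeval ![fun j => ϖ j, fun j => (p : K j) / ϖ j] : MvPolynomial (Fin 2) ℤ →ₐ[ℤ] ((j : J) → K j)) (X 0), AlgHom.mem_range_self _ _⟩ = EndAV.End.of πw)
    (S : Subalgebra ℤ ((j : J) → K j)) (hRS : (MvPolynomial.aeval ![fun j => ϖ j, fun j => (p : K j) / ϖ j] : MvPolynomial (Fin 2) ℤ →ₐ[ℤ] ((j : J) → K j)).range ≤ S) [Module.Finite ℤ S]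
    (hSQ : ∀ x ∈ S, ∃ n : ℤ, n ≠ 0 ∧ n • x ∈ (MvPolynomial.aeval ![fun j => ϖ j, fun j => (p : K j) / ϖ j] : MvPolynomial (Fin 2) ℤ →ₐ[ℤ] ((j : J) → K j)).range) :
    ∃ (B : Over (Spec (CommRingCat.of k))) (_ : GrpObj B) (_ : IsCommMonObj B) (πB : B ⟶ B) (_ : IsMonHom πB)
      (hπBle : ∀ U : B.left.Opens, U ≤ πB.left ⁻¹ᵁ U) (σ : S ≃+* EndAV.End B),
      IsProper B.hom ∧ GeometricallyIntegral B.hom ∧ πB.left.base = 𝟙 _ ∧
      (∀ (U : B.left.Opens) (s : Γ(B.left, U)), (πB.left.appLE U U (hπBle U)).hom s = s ^ p) ∧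
      Polynomial.aeval (EndAV.End.of πB) (∏ j, minpoly ℤ (ϖ j)) = 0 ∧
      σ ⟨(MvPolynomial.aeval ![fun j => ϖ j, fun j => (p : K j) / ϖ j] : MvPolynomial (Fin 2) ℤ →ₐ[ℤ] ((j : J) → K j)) (X 0), hRS (AlgHom.mem_range_self _ _)⟩ = EndAV.End.of πB := by
  have hAw := AVTate.MinOrder.isFrob_of hk πw hπwb hπwle hπwapp
  haveI : Module.IsTorsionFree ℤ S := Function.Injective.moduleIsTorsionFree (Subalgebra.val S) Subtype.val_injective
    (fun c x => map_zsmul (Subalgebra.val S) c x)
  obtain ⟨B, _, _, hBp, hBi, πB, _, ⟨hb, hle, happ⟩, hP, σ, -, hσ, -⟩ :=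
    AVTate.PrimeField.exists_endRing hk hint hinj hweil ρw hρw hAw S (Subalgebra.inclusion hRS).toRingHom
      fun L hL x => by
        obtain ⟨n, hn, hnx⟩ := hSQ x.1 x.2
        have hx : (Subalgebra.inclusion hRS).toRingHom ⟨n • x.1, hnx⟩ = n • x := Subtype.ext rfl
        refine smul_right_injective _ hn ?_
        show n • L x = n • (L 1 * x)
        rw [← map_zsmul, ← _root_.mul_one (n • x), ← hx, hL, hx, _root_.mul_comm (n • x), mul_smul_comm]
  exact ⟨B, inferInstance, inferInstance, πB, inferInstance, hle, σ, hBp, hBi, hb,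
    fun U s => (happ U s).trans (by rw [hk]), hP, hσ⟩

end Groth.Agent.S17996
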