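import Groth.Statements.S17999
import Mathlib
import Groth.Agent.S17985
import Groth.Agent.Pic6.Surj

set_option autoImplicit false
universe u
open MvPolynomial
open WeilNum

namespace Groth.Agent.S17999

/-- The quotient of `ℤ[F, V]` by a minimal-order kernel is reduced of dimension at most one. -/
theorem kernel_quotient_props {ι : Type} [Fintype ι] (K : ι → Type u) [∀ i, Field (K i)]
    (v : Fin 2 → (i : ι) → K i) (hv : ∀ j, IsIntegral ℤ (v j)) :
    IsReduced (MvPolynomial (Fin 2) ℤ ⧸ RingHom.ker (MvPolynomial.aeval v : _ →ₐ[ℤ] ((i : ι) → K i))) ∧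
      Ring.KrullDimLE 1
        (MvPolynomial (Fin 2) ℤ ⧸ RingHom.ker (MvPolynomial.aeval v : _ →ₐ[ℤ] ((i : ι) → K i))) := by
  set ψ := (MvPolynomial.aeval v : _ →ₐ[ℤ] ((i : ι) → K i))
  let j := Ideal.kerLiftAlg ψ
  have hj : Function.Injective j := Ideal.kerLiftAlg_injective ψ
  haveI : Algebra.IsIntegral ℤ (MvPolynomial (Fin 2) ℤ ⧸ RingHom.ker ψ) := by
    refine ⟨fun x => (isIntegral_algHom_iff j hj).1 ?_⟩
    obtain ⟨a, rfl⟩ := Ideal.Quotient.mk_surjective x
    show IsIntegral ℤ (ψ a)
    induction a using MvPolynomial.induction_on with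
    | C c => simpa [ψ] using (isIntegral_algebraMap (x := c) : IsIntegral ℤ (algebraMap ℤ ((i : ι) → K i) c))
    | add a b ha hb => rw [map_add]; exact ha.add hb
    | mul_X a k ha => rw [map_mul]; exact ha.mul (by simpa [ψ] using hv k)
  refine ⟨isReduced_of_injective j hj, ?_⟩
  rw [Ring.krullDimLE_iff]
  refine (Order.krullDim_le_of_strictMono _
    (VarDim.strictMono_comap_of_isIntegral (R := ℤ))).trans ?_
  exact (IsPrincipalIdealRing.ringKrullDim_eq_one ℤ Int.not_isField).le

/-- The case of finite sets of Weil numbers; let p be a prime, e ≥ 1 and q = p^e; let (π_j)_{j ∈ J} be a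
finite family of pairwise nonconjugate Weil q-numbers (π_j in a field K_j of characteristic zero,
integral over ℤ with minimal polynomial P_j, all complex roots of P_j of absolute value √q, P_i ≠
P_j for i ≠ j), and let e : J' → J be an injective map selecting a subfamily. Let I_w, resp. I_v, be
the kernel of ℤ[F, V] → ∏_{j ∈ J} K_j, resp. → ∏_{j' ∈ J'} K_{e(j')}, sending F ↦ (π_j) and V ↦
(q/π_j); then I_w ⊆ I_v and ℤ[F,V]/I_w → ℤ[F,V]/I_v is the natural surjection R_w → R_v of minimal
central orders. Then the induced homomorphism of Picard groups Pic(R_w) → Pic(R_v) is surjective.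
The published statement concerns the Picard groups of the pro-rings attached to arbitrary subsets V
⊆ W of Weil q-number classes; only the case of finite sets is stated here. -/
theorem result (p e : ℕ) [Fact p.Prime] (he : 0 < e)
    (J J' : Type) [Fintype J] [Fintype J'] (emb : J' → J) (hemb : Function.Injective emb)
    (K : J → Type u) [∀ j, Field (K j)] [∀ j, CharZero (K j)] (ϖ : ∀ j, K j)
    (hint : ∀ j, IsIntegral ℤ (ϖ j))
    (hweil : ∀ j, ∀ z ∈ (minpoly ℤ (ϖ j)).aroots ℂ, ‖z‖ = Real.sqrt ((p : ℝ) ^ e))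
    (hinj : ∀ i j, minpoly ℤ (ϖ i) = minpoly ℤ (ϖ j) → i = j)
    (hle : RingHom.ker (MvPolynomial.aeval ![fun j => ϖ j, fun j => ((p : K j) ^ e) / ϖ j] :
          MvPolynomial (Fin 2) ℤ →ₐ[ℤ] ((j : J) → K j)) ≤
        RingHom.ker (MvPolynomial.aeval ![fun j' => ϖ (emb j'), fun j' => ((p : K (emb j')) ^ e) / ϖ (emb j')] :
          MvPolynomial (Fin 2) ℤ →ₐ[ℤ] ((j' : J') → K (emb j')))) :
    Function.Surjective (CommRing.Pic.mapRingHom (Ideal.Quotient.factor hle)) := by
  have hcast : ((p ^ e : ℕ) : ℝ) = (p : ℝ) ^ e := by push_cast; rfl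
  have hgen : ∀ j, IsIntegral ℤ (ϖ j) ∧ IsIntegral ℤ ((p : K j) ^ e / ϖ j) := fun j =>
    ⟨hint j, by simpa using S17985.isIntegral_div (hint j) (q := p ^ e) (by rw [hcast]; exact hweil j)⟩
  obtain ⟨hr, hd⟩ := kernel_quotient_props K ![fun j => ϖ j, fun j => ((p : K j) ^ e) / ϖ j] (by
    intro k
    fin_cases k
    · exact S17985.isIntegral_pi fun j => (hgen j).1
    · exact S17985.isIntegral_pi fun j => (hgen j).2)
  obtain ⟨hr', -⟩ := kernel_quotient_props (fun j' => K (emb j'))
    ![fun j' => ϖ (emb j'), fun j' => ((p : K (emb j')) ^ e) / ϖ (emb j')] (by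
    intro k
    fin_cases k
    · exact S17985.isIntegral_pi fun j' => (hgen (emb j')).1
    · exact S17985.isIntegral_pi fun j' => (hgen (emb j')).2)
  letI := (Ideal.Quotient.factor hle).toAlgebra
  exact Pic6.pic_surjective (Ideal.Quotient.factor_surjective hle)

end Groth.Agent.S17999
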