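import Groth.Statements.S1800
import Groth.Agent.KFlatLib.Ring.BaseChangeShriekVia
-- import your own Groth.Agent.* helpers here

set_option autoImplicit false
universe u
open CategoryTheory
open scoped TensorProduct
attribute [local instance] HasDerivedCategory.standard
open Dual2

namespace Groth.Agent.S1800

/-- Let R → R' be a flat homomorphism of Noetherian rings, R → A a ring map of finite type with A
Noetherian, and A' = R' ⊗_R A with the induced map R' → A'; each upper shriek φ^!(K) is formed from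
a presentation ψ : P = (base)[x_1, …, x_n] → (target) as RHom_P(target, K ⊗^L P)[n], the derived
base change functors being assumed to exist and RHom_P(target, −) being given as a right adjoint of
restriction of scalars. Assuming also the derived base change functors D(A) → D(A') and D(R) → D(R')
exist, for every K in D(R) which is bounded below the base change to A' of the upper shriek of K
along R → A is isomorphic to the upper shriek along R' → A' of the base change of K to R'. -/
theorem result (R R' A : Type u) [CommRing R] [CommRing R'] [CommRing A] [IsNoetherianRing R] [IsNoetherianRing R'] [IsNoetherianRing A] [Algebra R R'] [Module.Flat R R'] [Algebra R A] [IsNoetherianRing (R' ⊗[R] A)] (n : ℕ) (ψ : MvPolynomial (Fin n) R →ₐ[R] A) (hψ : Function.Surjective ψ) [DRing.HasLBaseChange (algebraMap R (MvPolynomial (Fin n) R))] (Rψ : Dual.D (MvPolynomial (Fin n) R) ⥤ Dual.D A) (adj : DRing.restrictD ψ.toRingHom ⊣ Rψ) (m : ℕ) (ψ' : MvPolynomial (Fin m) R' →ₐ[R'] (R' ⊗[R] A)) (hψ' : Function.Surjective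 ψ') [DRing.HasLBaseChange (algebraMap R' (MvPolynomial (Fin m) R'))] (Rψ' : Dual.D (MvPolynomial (Fin m) R') ⥤ Dual.D (R' ⊗[R] A)) (adj' : DRing.restrictD ψ'.toRingHom ⊣ Rψ') [DRing.HasLBaseChange (Algebra.TensorProduct.includeRight : A →ₐ[R] R' ⊗[R] A).toRingHom] [DRing.HasLBaseChange (algebraMap R R')] (K : Dual.D R) (c : ℤ) (hK : ∀ i : ℤ, i < c → Subsingleton (Dual.HD R K i)) : Nonempty ((DRing.LBaseChange (Algebra.TensorProduct.includeRight : A →ₐ[R] R' ⊗[R] A).toRingHom).obj (Dual2.shriekVia n Rψ K) ≅ Dual2.shriekVia m Rψ' ((DRing.LBaseChange (algebraMap R R')).obj K)) := by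
  haveI := Groth.Agent.KFlatLib.hasLBase (algebraMap R (MvPolynomial (Fin n) R))
  haveI := Groth.Agent.KFlatLib.hasLBase (algebraMap R' (MvPolynomial (Fin m) R'))
  haveI := Groth.Agent.KFlatLib.hasLBase (algebraMap R R')
  haveI := Groth.Agent.KFlatLib.hasLBase (Groth.Agent.KFlatLib.incRight R R' A)
  obtain ⟨e₁⟩ := Groth.Agent.KFlatLib.nonempty_LBaseChange_iso (algebraMap R (MvPolynomial (Fin n) R))
  obtain ⟨e₂⟩ := Groth.Agent.KFlatLib.nonempty_LBaseChange_iso (algebraMap R' (MvPolynomial (Fin m) R'))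
  obtain ⟨e₃⟩ := Groth.Agent.KFlatLib.nonempty_LBaseChange_iso (algebraMap R R')
  obtain ⟨e₄⟩ := Groth.Agent.KFlatLib.nonempty_LBaseChange_iso
    (Algebra.TensorProduct.includeRight : A →ₐ[R] R' ⊗[R] A).toRingHom
  haveI : K.IsGE c := (DerivedCategory.isGE_iff _ _).2 fun i hi =>
    @ModuleCat.isZero_of_subsingleton _ _ _ (hK i hi)
  obtain ⟨t⟩ := Groth.Agent.KFlatLib.nonempty_shriek_baseChange_of_flat_right ψ.toRingHom hψ
    (RingHom.ext fun r => ψ.commutes r) (algebraMap R (MvPolynomial (Fin n) R)) rfl adj ψ'.toRingHom hψ'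
    (RingHom.ext fun r => ψ'.commutes r) (algebraMap R' (MvPolynomial (Fin m) R')) rfl adj' K c
  exact ⟨e₄.app _ ≪≫ (DTen.LBase _).mapIso ((shiftFunctor _ (n : ℤ)).mapIso (Rψ.mapIso (e₁.app K))) ≪≫ t ≪≫
    (shiftFunctor _ (m : ℤ)).mapIso (Rψ'.mapIso
      ((e₂.app _ ≪≫ (DTen.LBase _).mapIso (e₃.app K)).symm))⟩


end Groth.Agent.S1800
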