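import Groth.Statements.S18001
import Groth.Agent.AVTate.PrimeField.SubOrder

set_option autoImplicit false
set_option backward.isDefEq.respectTransparency false
set_option backward.isDefEq.respectTransparency.types false
set_option maxHeartbeats 1000000
universe u
open CategoryTheory MonoidalCategory CartesianMonoidalCategory MonObj GrpObj AlgebraicGeometry MvPolynomial
open AbVar

namespace Groth.Agent.S18001

/-- Let p be a prime and k a field with p elements. Let (π_j) be a finite family of pairwise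
nonconjugate nonreal Weil p-numbers (π_j in a field K_j of characteristic zero, integral over ℤ with
minimal polynomial P_j, all complex roots of P_j of absolute value √p and none real, P_i ≠ P_j for i
≠ j), P_w = ∏_j P_j, and R_w ⊆ ∏_j K_j the minimal central order, the image of ℤ[F, V] → ∏_j K_j, F
↦ (π_j), V ↦ (p/π_j). An abelian variety over k means a proper, geometrically integral commutative
group scheme over k, taken with its p-Frobenius endomorphism π (the identity on points and the p-th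
power map on sections; a homomorphism); it lies in AV_w when P_w(π) = 0 in its endomorphism ring.
Let A_w be an abelian variety over k together with a ring isomorphism ρ : R_w ≅ End(A_w) sending the
class of F to the Frobenius of A_w (so A_w lies in AV_w and its endomorphism ring is the minimal
central order); Hom(X, A_w) is a module over End(A_w) ≅ R_w by postcomposition. Let e : J' → J be
injective, selecting a subfamily of the π_j whose classes form v ⊆ w, with P_v = ∏_{j'} P_{e(j')}
and R_v the image of ℤ[F, V] → ∏_{j'} K_{e(j')}. Let j : C → A_w be the abelian subvariety of A_w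
generated by the images of all homomorphisms B → A_w with B in AV_v, that is: C is an abelian
variety over k with p-Frobenius π_C, j is a homomorphism whose underlying morphism is a closed
immersion, every homomorphism f : B → A_w with B in AV_v factors through j, and for every other
homomorphism j′ : C′ → A_w which is a closed immersion and through which all such f factor, j
factors through j′. Then C lies in AV_v, i.e. P_v(π_C) = 0 in End(C), and there is a ring
isomorphism R_v ≅ End(C) sending F to π_C; in particular the endomorphism ring of C is the minimal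
central order R_v; the published formulation of this part, freeness of rank one of the Tate and
Dieudonné modules of C, is equivalent to it and is not used here. -/
theorem result (p : ℕ) [Fact p.Prime] (k : Type u) [Field k] [Finite k] (hk : Nat.card k = p)
    (J : Type) [Fintype J] (K : J → Type) [∀ j, Field (K j)] [∀ j, CharZero (K j)] (ϖ : ∀ j, K j)
    (hint : ∀ j, IsIntegral ℤ (ϖ j))
    (hweil : ∀ j, ∀ z ∈ (minpoly ℤ (ϖ j)).aroots ℂ, ‖z‖ = Real.sqrt p)
    (hnr : ∀ j, ∀ z ∈ (minpoly ℤ (ϖ j)).aroots ℂ, z.im ≠ 0)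
    (hinj : ∀ i j, minpoly ℤ (ϖ i) = minpoly ℤ (ϖ j) → i = j)
    (Aw : Over (Spec (CommRingCat.of k))) [GrpObj Aw] [IsCommMonObj Aw] [IsProper Aw.hom] [GeometricallyIntegral Aw.hom]
    (πw : Aw ⟶ Aw) [IsMonHom πw] (hπwb : πw.left.base = 𝟙 _) (hπwle : ∀ U : Aw.left.Opens, U ≤ πw.left ⁻¹ᵁ U)
    (hπwapp : ∀ (U : Aw.left.Opens) (s : Γ(Aw.left, U)), (πw.left.appLE U U (hπwle U)).hom s = s ^ p)
    (ρw : (MvPolynomial.aeval ![fun j => ϖ j, fun j => (p : K j) / ϖ j] : MvPolynomial (Fin 2) ℤ →ₐ[ℤ] ((j : J) → K j)).range ≃+* EndAV.End Aw)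
    (hρw : ρw ⟨(MvPolynomial.aeval ![fun j => ϖ j, fun j => (p : K j) / ϖ j] : MvPolynomial (Fin 2) ℤ →ₐ[ℤ] ((j : J) → K j)) (X 0), AlgHom.mem_range_self _ _⟩ = EndAV.End.of πw)
    (J' : Type) [Fintype J'] (emb : J' → J) (hemb : Function.Injective emb)
    (C : Over (Spec (CommRingCat.of k))) [GrpObj C] [IsCommMonObj C] [IsProper C.hom] [GeometricallyIntegral C.hom]
    (πC : C ⟶ C) [IsMonHom πC] (hπCb : πC.left.base = 𝟙 _) (hπCle : ∀ U : C.left.Opens, U ≤ πC.left ⁻¹ᵁ U)
    (hπCapp : ∀ (U : C.left.Opens) (s : Γ(C.left, U)), (πC.left.appLE U U (hπCle U)).hom s = s ^ p)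
    (j : EndAV.Hom C Aw) [IsClosedImmersion j.toHom.left]
    (hfac : ∀ (B : Over (Spec (CommRingCat.of k))) [GrpObj B] [IsCommMonObj B] [IsProper B.hom] [GeometricallyIntegral B.hom]
      (πB : B ⟶ B) [IsMonHom πB] (hπBb : πB.left.base = 𝟙 _) (hπBle : ∀ U : B.left.Opens, U ≤ πB.left ⁻¹ᵁ U)
      (hπBapp : ∀ (U : B.left.Opens) (s : Γ(B.left, U)), (πB.left.appLE U U (hπBle U)).hom s = s ^ p)
      (hPB : Polynomial.aeval (EndAV.End.of πB) (∏ j', minpoly ℤ (ϖ (emb j'))) = 0)
      (f : EndAV.Hom B Aw), ∃ f₀ : EndAV.Hom B C, f₀ ≫ j = f)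
    (hmin : ∀ (C' : Over (Spec (CommRingCat.of k))) [GrpObj C'] [IsCommMonObj C'] [IsProper C'.hom] [GeometricallyIntegral C'.hom]
      (j' : EndAV.Hom C' Aw) [IsClosedImmersion j'.toHom.left],
      (∀ (B : Over (Spec (CommRingCat.of k))) [GrpObj B] [IsCommMonObj B] [IsProper B.hom] [GeometricallyIntegral B.hom]
        (πB : B ⟶ B) [IsMonHom πB] (hπBb : πB.left.base = 𝟙 _) (hπBle : ∀ U : B.left.Opens, U ≤ πB.left ⁻¹ᵁ U)
        (hπBapp : ∀ (U : B.left.Opens) (s : Γ(B.left, U)), (πB.left.appLE U U (hπBle U)).hom s = s ^ p)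
        (hPB : Polynomial.aeval (EndAV.End.of πB) (∏ j', minpoly ℤ (ϖ (emb j'))) = 0)
        (f : EndAV.Hom B Aw), ∃ f₀ : EndAV.Hom B C', f₀ ≫ j' = f) →
      ∃ i : EndAV.Hom C C', i ≫ j' = j) :
    Polynomial.aeval (EndAV.End.of πC) (∏ j', minpoly ℤ (ϖ (emb j'))) = 0 ∧
      ∃ ρv : (MvPolynomial.aeval ![fun j' => ϖ (emb j'), fun j' => (p : K (emb j')) / ϖ (emb j')] : MvPolynomial (Fin 2) ℤ →ₐ[ℤ] ((j' : J') → K (emb j'))).range ≃+* EndAV.End C,
        ρv ⟨(MvPolynomial.aeval ![fun j' => ϖ (emb j'), fun j' => (p : K (emb j')) / ϖ (emb j')] : MvPolynomial (Fin 2) ℤ →ₐ[ℤ] ((j' : J') → K (emb j'))) (X 0), AlgHom.mem_range_self _ _⟩ = EndAV.End.of πC := by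
  have hAw := AVTate.MinOrder.isFrob_of hk πw hπwb hπwle hπwapp
  have hC := AVTate.MinOrder.isFrob_of hk πC hπCb hπCle hπCapp
  obtain ⟨B, _, _, hBp, hBi, πB, _, hB, hPB, θ, σ, hθ, hσ, huniv⟩ :=
    AVTate.PrimeField.exists_sub hk hint hinj hweil ρw hρw hAw emb hemb
  haveI := hBp; haveI := hBi; haveI := hθ
  have hB' := hB
  obtain ⟨hb, hle, happ⟩ := hB'
  obtain ⟨f₀, hf₀⟩ := hfac B πB hb hle (fun U s => (happ U s).trans (by rw [hk])) hPB θ
  obtain ⟨i, hi⟩ := hmin B θ fun B' _ _ _ _ π' _ hb' hle' happ' hP' f =>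
    huniv B' π' (AVTate.MinOrder.isFrob_of hk π' hb' hle' happ') hP' f
  haveI : Mono θ.toHom := Over.mono_of_mono_left θ.toHom
  haveI : Mono j.toHom := Over.mono_of_mono_left j.toHom
  have hif : i ≫ f₀ = 𝟙 (CommGrp.mk C) := EndAV.Hom.ext ((cancel_mono j.toHom).1 (by
    rw [← EndAV.Hom.toHom_comp, ← EndAV.Hom.toHom_comp, Category.assoc, hf₀, hi, Category.id_comp]))
  have hfi : f₀ ≫ i = 𝟙 (CommGrp.mk B) := EndAV.Hom.ext ((cancel_mono θ.toHom).1 (by
    rw [← EndAV.Hom.toHom_comp, ← EndAV.Hom.toHom_comp, Category.assoc, hi, hf₀, Category.id_comp]))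
  haveI : Mono i.toHom := ⟨fun a b h => by
    have h' := congrArg (· ≫ f₀.toHom) h
    simpa only [Category.assoc, ← EndAV.Hom.toHom_comp, hif, EndAV.Hom.toHom_id, Category.comp_id] using h'⟩
  refine ⟨AVTate.PrimeField.aeval_of_mono hC hB i hPB, ?_⟩
  let c : EndAV.End B ≃+* EndAV.End C :=
    { toFun := fun u => (i ≫ (u : EndAV.Hom B B) ≫ f₀ : EndAV.Hom C C)
      invFun := fun v => (f₀ ≫ (v : EndAV.Hom C C) ≫ i : EndAV.Hom B B)
      left_inv := fun u => by
        show f₀ ≫ (i ≫ (u : EndAV.Hom B B) ≫ f₀) ≫ i = u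
        simp only [Category.assoc, hfi, Category.comp_id]
        rw [← Category.assoc, hfi, Category.id_comp]
      right_inv := fun v => by
        show i ≫ (f₀ ≫ (v : EndAV.Hom C C) ≫ i) ≫ f₀ = v
        simp only [Category.assoc, hif, Category.comp_id]
        rw [← Category.assoc, hif, Category.id_comp]
      map_mul' := fun u v => by
        show i ≫ ((v : EndAV.Hom B B) ≫ (u : EndAV.Hom B B)) ≫ f₀ =
          (i ≫ (v : EndAV.Hom B B) ≫ f₀) ≫ i ≫ (u : EndAV.Hom B B) ≫ f₀
        simp only [Category.assoc]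
        rw [← Category.assoc f₀ i, hfi, Category.id_comp]
      map_add' := fun u v => by
        show i ≫ ((u : EndAV.Hom B B) + (v : EndAV.Hom B B)) ≫ f₀ = _
        rw [Preadditive.add_comp, Preadditive.comp_add] }
  refine ⟨σ.trans c, EndAV.End.ext ?_⟩
  show (c (σ _)).toHom = πC
  rw [hσ]
  show i.toHom ≫ πB ≫ f₀.toHom = πC
  rw [← Category.assoc, ← hC.natural hB i.toHom, Category.assoc, ← EndAV.Hom.toHom_comp, hif, EndAV.Hom.toHom_id,
    Category.comp_id]

end Groth.Agent.S18001
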