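import Groth.Statements.S18003
import Mathlib

set_option autoImplicit false
universe u
open MvPolynomial
open WeilNum

namespace Groth.Agent.S18003

/-- Clearing denominators: on `a * b = q`, a polynomial in `(a, b)` times a power of `a` is a
polynomial in `a`. -/
theorem exists_mul_pow_eq (q : ℤ) (g : MvPolynomial (Fin 2) ℤ) :
    ∃ (n : ℕ) (f : Polynomial ℤ) (h : MvPolynomial (Fin 2) ℤ),
      g * X 0 ^ n = Polynomial.aeval (X 0) f + h * (X 0 * X 1 - C q) := by
  induction g using MvPolynomial.induction_on with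
  | C c => exact ⟨0, Polynomial.C c, 0, by simp⟩
  | add g g' hg hg' =>
    obtain ⟨n, f, h, hf⟩ := hg
    obtain ⟨m, f', h', hf'⟩ := hg'
    refine ⟨n + m, f * Polynomial.X ^ m + f' * Polynomial.X ^ n, h * X 0 ^ m + h' * X 0 ^ n, ?_⟩
    simp only [map_add, map_mul, map_pow, Polynomial.aeval_X]
    linear_combination X 0 ^ m * hf + X 0 ^ n * hf'
  | mul_X g i hg =>
    obtain ⟨n, f, h, hf⟩ := hg
    fin_cases i
    · refine ⟨n, f * Polynomial.X, h * X 0, ?_⟩
      show g * X 0 * X 0 ^ n = _
      simp only [map_mul, Polynomial.aeval_X]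
      linear_combination X 0 * hf
    · refine ⟨n + 1, f * Polynomial.C q, Polynomial.aeval (X 0) f + h * (X 0 * X 1), ?_⟩
      show g * X 1 * X 0 ^ (n + 1) = _
      simp only [map_mul, Polynomial.aeval_C, MvPolynomial.algebraMap_eq]
      linear_combination (X 0 * X 1) * hf

theorem eval_mul_pow_eq {A : Type*} [CommRing A] (q : ℤ) (g : MvPolynomial (Fin 2) ℤ) {n : ℕ}
    {f : Polynomial ℤ} {h : MvPolynomial (Fin 2) ℤ}
    (hf : g * X 0 ^ n = Polynomial.aeval (X 0) f + h * (X 0 * X 1 - C q)) (v : Fin 2 → A)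
    (hv : v 0 * v 1 = (q : A)) : MvPolynomial.aeval v g * v 0 ^ n = Polynomial.aeval (v 0) f := by
  simpa [map_mul, map_add, map_sub, map_pow, ← Polynomial.aeval_algHom_apply, hv] using
    congrArg (MvPolynomial.aeval v) hf

/-- Let p be a prime, e ≥ 1 and q = p^e; let (π_i) be a finite family of pairwise nonconjugate Weil
q-numbers (π_i in a field K_i of characteristic zero, integral over ℤ with minimal polynomial P_i,
all complex roots of P_i of absolute value √q, P_i ≠ P_j for i ≠ j) of even total degree Σ_i deg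
P_i, P_w = ∏_i P_i, and R_w ⊆ ∏_i K_i the minimal central order, the image of ℤ[F, V] → ∏_i K_i, F ↦
(π_i), V ↦ (q/π_i). Let T be a finitely generated free ℤ-module and F_T an endomorphism of T. Then
there exists an R_w-module structure on the additive group T in which the class of F acts as F_T if
and only if P_w(F_T) = 0 (equivalently: F_T is semisimple after tensoring with ℚ, with eigenvalues
among the conjugates of the π_i) and there is an endomorphism V_T of T with F_T ∘ V_T = q. When it
exists the structure is determined by F_T (the class of V acts as V_T = q·F_T⁻¹), and reflexive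
R_w-modules are exactly the ℤ-free finitely generated ones, so this identifies the objects of
Refl(R_w) with such pairs (T, F_T); the uniqueness remark is not part of the formal statement. -/
theorem result (p e : ℕ) [Fact p.Prime] (he : 0 < e)
    (ι : Type) [Fintype ι] (K : ι → Type u) [∀ i, Field (K i)] [∀ i, CharZero (K i)] (π : ∀ i, K i)
    (hint : ∀ i, IsIntegral ℤ (π i))
    (hweil : ∀ i, ∀ z ∈ (minpoly ℤ (π i)).aroots ℂ, ‖z‖ = Real.sqrt ((p : ℝ) ^ e))
    (hinj : ∀ i j, minpoly ℤ (π i) = minpoly ℤ (π j) → i = j)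
    (D : ℕ) (hD : ∑ i, (minpoly ℤ (π i)).natDegree = 2 * D)
    (T : Type) [AddCommGroup T] [Module.Finite ℤ T] [Module.Free ℤ T] (FT : T →ₗ[ℤ] T) :
    (∃ _ : Module (MvPolynomial.aeval ![fun i => π i, fun i => ((p : K i) ^ e) / π i] :
        MvPolynomial (Fin 2) ℤ →ₐ[ℤ] ((i : ι) → K i)).range T,
        ∀ t : T, (⟨(MvPolynomial.aeval ![fun i => π i, fun i => ((p : K i) ^ e) / π i] :
        MvPolynomial (Fin 2) ℤ →ₐ[ℤ] ((i : ι) → K i)) (X 0), AlgHom.mem_range_self _ _⟩ : (MvPolynomial.aeval ![fun i => π i, fun i => ((p : K i) ^ e) / π i] :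
        MvPolynomial (Fin 2) ℤ →ₐ[ℤ] ((i : ι) → K i)).range) • t = FT t) ↔
      (Polynomial.aeval FT (∏ i, minpoly ℤ (π i)) = 0 ∧
        ∃ VT : T →ₗ[ℤ] T, FT ∘ₗ VT = ((p : ℤ) ^ e) • LinearMap.id) := by
    classical
    let q : ℤ := (p : ℤ) ^ e
    let u : Fin 2 → ((i : ι) → K i) := ![fun i => π i, fun i => ((p : K i) ^ e) / π i]
    let φ : MvPolynomial (Fin 2) ℤ →ₐ[ℤ] ((i : ι) → K i) := MvPolynomial.aeval u
    have hq0 : q ≠ 0 := pow_ne_zero _ (Int.natCast_ne_zero.2 (Fact.out : p.Prime).ne_zero)
    have hπ : ∀ i, π i ≠ 0 := fun i hi => by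
      have hd : minpoly ℤ (π i) ∣ Polynomial.X :=
        minpoly.isIntegrallyClosed_dvd (hint i) (by rw [Polynomial.aeval_X, hi])
      have hX : minpoly ℤ (π i) = Polynomial.X := Polynomial.eq_of_monic_of_associated (minpoly.monic (hint i))
        Polynomial.monic_X ((minpoly.irreducible (hint i)).associated_of_dvd Polynomial.irreducible_X hd)
      have := hweil i 0 (by rw [hX, Polynomial.mem_aroots]; exact ⟨Polynomial.X_ne_zero, by simp⟩)
      rw [norm_zero, eq_comm, Real.sqrt_eq_zero (by positivity)] at this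
      exact pow_ne_zero _ (Nat.cast_ne_zero.2 (Fact.out : p.Prime).ne_zero) this
    have huv : u 0 * u 1 = (q : (i : ι) → K i) := funext fun i => by
      show π i * ((p : K i) ^ e / π i) = _
      rw [mul_div_cancel₀ _ (hπ i)]
      simp [q]
    have hP : φ (Polynomial.aeval (MvPolynomial.X 0) (∏ i, minpoly ℤ (π i))) = 0 := by
      rw [← Polynomial.aeval_algHom_apply, MvPolynomial.aeval_X]
      funext i
      show Pi.evalAlgHom ℤ K i (Polynomial.aeval (u 0) _) = 0
      rw [← Polynomial.aeval_algHom_apply, map_prod]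
      exact Finset.prod_eq_zero (Finset.mem_univ i) (minpoly.aeval ℤ (π i))
    constructor
    · rintro ⟨M, hM⟩
      letI := M
      let ρ : φ.range →ₐ[ℤ] Module.End ℤ T := (Module.toModuleEnd (S := φ.range) ℤ T).toIntAlgHom
      let F₀ : φ.range := ⟨φ (MvPolynomial.X 0), AlgHom.mem_range_self _ _⟩
      let V₀ : φ.range := ⟨φ (MvPolynomial.X 1), AlgHom.mem_range_self _ _⟩
      have hρF : ρ F₀ = FT := LinearMap.ext hM
      refine ⟨?_, ρ V₀, ?_⟩
      · rw [← hρF, Polynomial.aeval_algHom_apply, show Polynomial.aeval F₀ (∏ i, minpoly ℤ (π i)) = 0 from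
          Subtype.ext (((Polynomial.aeval_algHom_apply φ.range.val F₀ _).symm.trans
            (Polynomial.aeval_algHom_apply φ (MvPolynomial.X 0) _)).trans hP), map_zero]
      · show FT * ρ V₀ = q • (1 : Module.End ℤ T)
        rw [← hρF, ← map_mul, show F₀ * V₀ = (q : φ.range) from Subtype.ext (by
          show φ (MvPolynomial.X 0) * φ (MvPolynomial.X 1) = _
          rw [MvPolynomial.aeval_X, MvPolynomial.aeval_X, huv, SubringClass.coe_intCast]), map_intCast, zsmul_one]
    · rintro ⟨hFT, VT, hFV⟩
      replace hFV : FT * VT = q • (1 : Module.End ℤ T) := hFV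
      have hinjF : Function.Injective FT := LinearMap.ker_eq_bot.1 <| by
        by_contra h
        have hd := congrArg LinearMap.det hFV
        rw [map_mul, LinearMap.det_eq_zero_iff_ker_ne_bot.2 h, zero_mul, LinearMap.det_smul, map_one, mul_one] at hd
        exact pow_ne_zero _ hq0 hd.symm
      have hVF : VT * FT = q • (1 : Module.End ℤ T) := by
        refine LinearMap.ext fun t => hinjF ?_
        show (FT * VT) (FT t) = FT (q • t)
        rw [hFV, map_smul]
        rfl
      have hcomm : FT * VT = VT * FT := hFV.trans hVF.symm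
      let A := Algebra.adjoin ℤ ({FT, VT} : Set (Module.End ℤ T))
      letI : CommRing A := Algebra.adjoinCommRingOfComm ℤ (fun a ha b hb => by
        rcases ha with rfl | rfl <;> rcases hb with rfl | rfl
        exacts [rfl, hcomm, hcomm.symm, rfl])
      let a₀ : A := ⟨FT, Algebra.subset_adjoin (Or.inl rfl)⟩
      let b₀ : A := ⟨VT, Algebra.subset_adjoin (Or.inr rfl)⟩
      have hab : a₀ * b₀ = (q : A) := Subtype.ext (by
        show FT * VT = _
        rw [hFV, zsmul_one, SubringClass.coe_intCast])
      let ψ : MvPolynomial (Fin 2) ℤ →ₐ[ℤ] A := MvPolynomial.aeval ![a₀, b₀]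
      have hker : RingHom.ker φ.rangeRestrict.toRingHom ≤ RingHom.ker ψ.toRingHom := fun g hg => by
        obtain ⟨n, f, h₀, hf⟩ := exists_mul_pow_eq q g
        have hg' : φ g = 0 := congrArg Subtype.val hg
        have hf0 : ∀ i, Polynomial.aeval (π i) f = 0 := fun i => by
          have h := eval_mul_pow_eq q g hf u huv
          replace h : (0 : (i : ι) → K i) = Polynomial.aeval (u 0) f :=
            (zero_mul _).symm.trans ((congrArg (fun z => z * u 0 ^ n) hg').symm.trans h)
          exact (Polynomial.aeval_algHom_apply (Pi.evalAlgHom ℤ K i) (u 0) f).trans (congrFun h.symm i)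
        obtain ⟨c, rfl⟩ : (∏ i, minpoly ℤ (π i)) ∣ f := Finset.prod_dvd_of_isRelPrime
          (fun i _ j _ hij => (minpoly.irreducible (hint i)).isRelPrime_iff_not_dvd.2 fun hd => hij (hinj i j
            (Polynomial.eq_of_monic_of_associated (minpoly.monic (hint i)) (minpoly.monic (hint j))
              ((minpoly.irreducible (hint i)).associated_of_dvd (minpoly.irreducible (hint j)) hd))))
          fun i _ => minpoly.isIntegrallyClosed_dvd (hint i) (hf0 i)
        have h : ψ g * a₀ ^ n = _ := eval_mul_pow_eq q g hf ![a₀, b₀] hab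
        have h0 : Polynomial.aeval a₀ (∏ i, minpoly ℤ (π i)) = 0 :=
          Subtype.ext ((Polynomial.aeval_algHom_apply A.val a₀ _).symm.trans hFT)
        rw [show (![a₀, b₀] : Fin 2 → A) 0 = a₀ from rfl, map_mul, h0, zero_mul, mul_comm] at h
        refine Subtype.ext (LinearMap.ext fun t => ?_)
        have h' : (FT ^ n) ((ψ g : Module.End ℤ T) t) = 0 :=
          LinearMap.congr_fun (congrArg Subtype.val h) t
        rw [Module.End.pow_apply] at h'
        exact (hinjF.iterate n) (h'.trans (by simp [iterate_map_zero]))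
      let L : φ.range →+* A :=
        φ.rangeRestrict.toRingHom.liftOfSurjective φ.rangeRestrict_surjective ⟨ψ.toRingHom, hker⟩
      refine ⟨Module.compHom T (A.val.toRingHom.comp L), fun t => ?_⟩
      have hL : L (φ.rangeRestrict (MvPolynomial.X 0)) = ψ (MvPolynomial.X 0) :=
        φ.rangeRestrict.toRingHom.liftOfSurjective_comp_apply φ.rangeRestrict_surjective ⟨ψ.toRingHom, hker⟩ _
      show (L (φ.rangeRestrict (MvPolynomial.X 0)) : Module.End ℤ T) t = FT t
      rw [hL, MvPolynomial.aeval_X]
      rfl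

end Groth.Agent.S18003
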