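import Groth.Statements.S18014
import Groth.Agent.PairModels.Arrow

set_option linter.style.haveILetI false
set_option linter.unusedVariables false

set_option autoImplicit false
universe u
open CategoryTheory CategoryTheory.Limits
open Lim

namespace Groth.Agent.S18014

open Groth.Agent.PairModels Groth.Agent.PopescuLib CategoryTheory CategoryTheory.Limits

noncomputable section

variable {A B C : Type u} [CommRing A] [CommRing B] [CommRing C] [Algebra A B] [Algebra A C]

/-- A pair of models with a map between them. -/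
structure Pair (f : B →ₐ[A] C) : Type u where
  X : FPModel A B
  Y : FPModel A C
  g : Over' f X Y

variable (f : B →ₐ[A] C)

/-- The conditions on a pair. -/
structure Good (P : Pair f) : Prop where
  finX : Module.Finite A P.X.Alg
  finY : Module.Finite A P.Y.Alg
  surjX : Function.Surjective (algebraMap A B) → Function.Surjective (algebraMap A P.X.Alg)
  surjY : Function.Surjective (algebraMap A C) → Function.Surjective (algebraMap A P.Y.Alg)
  surjg : Function.Surjective f → Function.Surjective P.g.1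
  nilg : Function.Surjective f → IsNilpotent (RingHom.ker f) → IsNilpotent (RingHom.ker P.g.1)

/-- Morphisms of pairs. -/
@[ext] structure PHom (P Q : Pair f) : Type u where
  left : P.X ⟶ Q.X
  right : P.Y ⟶ Q.Y
  comm : ∀ x, Q.g.1 (homAlg left x) = homAlg right (P.g.1 x)

variable {f}

/-- Composition of morphisms of pairs. -/
def PHom.comp {P Q R : Pair f} (u : PHom f P Q) (v : PHom f Q R) : PHom f P R where
  left := u.left ≫ v.left
  right := u.right ≫ v.right
  comm x := by rw [PairModels.comp_apply, PairModels.comp_apply, v.comm, u.comm]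

theorem exists_monic {D : Type u} [CommRing D] [Algebra A D] [Algebra.IsIntegral A D] (d : D) :
    ∃ p : Polynomial A, p.Monic ∧ Polynomial.aeval d p = 0 ∧
      (Function.Surjective (algebraMap A D) → ∀ (S : Type u) [CommRing S] [Algebra A S] (s : S),
        Polynomial.aeval s p = 0 → s ∈ Set.range (algebraMap A S)) := by
  by_cases h : Function.Surjective (algebraMap A D)
  · obtain ⟨a, rfl⟩ := h d
    refine ⟨Polynomial.X - Polynomial.C a, Polynomial.monic_X_sub_C a, by simp, fun _ S _ _ s hs => ⟨a, ?_⟩⟩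
    simp only [map_sub, Polynomial.aeval_X, Polynomial.aeval_C, sub_eq_zero] at hs
    exact hs.symm
  · obtain ⟨p, hp, hp'⟩ := Algebra.IsIntegral.isIntegral (R := A) d
    exact ⟨p, hp, hp', fun h' => absurd h' h⟩

theorem exists_relations {D : Type u} [CommRing D] [Algebra A D] [Algebra.IsIntegral A D] (X : FPModel A D) :
    ∃ K : Ideal X.Alg, K.FG ∧ K ≤ RingHom.ker X.toB ∧
      ∀ (S : Type u) [CommRing S] [Algebra A S] (q : X.Alg →ₐ[A] S), Function.Surjective q →
        (∀ x ∈ K, q x = 0) → Module.Finite A S ∧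
          (Function.Surjective (algebraMap A D) → Function.Surjective (algebraMap A S)) := by
  choose p hm hz hs using fun k => exists_monic (A := A) (X.toB (gens X k))
  refine ⟨Ideal.span (Set.range fun k => Polynomial.aeval (gens X k) (p k)),
    Submodule.fg_span (Set.finite_range _), Ideal.span_le.2 ?_, fun S _ _ q hq hK => ?_⟩
  · rintro _ ⟨k, rfl⟩
    rw [SetLike.mem_coe, RingHom.mem_ker, ← Polynomial.aeval_algHom_apply]
    exact hz k
  have h0 : ∀ k, Polynomial.aeval (q (gens X k)) (p k) = 0 := fun k => by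
    rw [Polynomial.aeval_algHom_apply]
    exact hK _ (Ideal.subset_span ⟨k, rfl⟩)
  refine ⟨finite_of_integral _ (adjoin_image_gens q hq) fun k => ⟨p k, hm k, h0 k⟩, fun hsurj => ?_⟩
  change Function.Surjective (Algebra.ofId A S)
  rw [← AlgHom.range_eq_top, eq_top_iff, ← adjoin_image_gens q hq, Algebra.adjoin_le_iff]
  rintro _ ⟨k, rfl⟩
  exact hs k hsurj S _ (h0 k)

theorem exists_good [Algebra.IsIntegral A B] [Algebra.IsIntegral A C] (P : Pair f) :
    ∃ (Q : Pair f), Good f Q ∧ Nonempty (PHom f P Q) := by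
  -- enlarge the source
  obtain ⟨X₁, i, g₁, hi, hg₁⟩ : ∃ (X₁ : FPModel A B) (i : P.X ⟶ X₁) (g₁ : Over' f X₁ P.Y),
      (∀ x, g₁.1 (homAlg i x) = P.g.1 x) ∧ (Function.Surjective f → Function.Surjective g₁.1) := by
    by_cases hf : Function.Surjective f
    · obtain ⟨X₁, i, g₁, h1, h2⟩ := exists_surj P.g hf
      exact ⟨X₁, i, g₁, h1, fun _ => h2⟩
    · exact ⟨P.X, 𝟙 _, P.g, fun _ => rfl, fun h => absurd h hf⟩
  -- impose integral equations
  obtain ⟨K, hK, hKle, hKfin⟩ := exists_relations X₁
  obtain ⟨L, hL, hLle, hLfin⟩ := exists_relations P.Y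
  obtain ⟨X₂, Y₂, q, r, g₂, hq, hr, hqK, hrL, hg₂⟩ := exists_quot_pair g₁ K hK hKle L hL hLle
  obtain ⟨hXf, hXs⟩ := hKfin X₂.Alg (homAlg q) hq hqK
  obtain ⟨hYf, hYs⟩ := hLfin Y₂.Alg (homAlg r) hr hrL
  have hg₂s : Function.Surjective f → Function.Surjective g₂.1 := fun hf y => by
    obtain ⟨y, rfl⟩ := hr y
    obtain ⟨x, rfl⟩ := hg₁ hf y
    exact ⟨_, hg₂ x⟩
  -- kill a power of the kernel
  by_cases hf : Function.Surjective f ∧ IsNilpotent (RingHom.ker f)
  · obtain ⟨hf, N, hN⟩ := hf
    obtain ⟨X₃, s, g₃, hs, hg₃, hg₃s, hg₃n⟩ := exists_nilpotent g₂ (hg₂s hf) (N := N) hN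
    refine ⟨⟨X₃, Y₂, g₃⟩, ⟨Module.Finite.of_surjective (homAlg s).toLinearMap hs, hYf, fun h y => ?_, hYs,
      fun _ => hg₃s, fun _ _ => ⟨N + 1, hg₃n⟩⟩, ⟨⟨i ≫ q ≫ s, r, fun x => ?_⟩⟩⟩
    · obtain ⟨x, rfl⟩ := hs y
      obtain ⟨a, rfl⟩ := hXs h x
      exact ⟨a, ((homAlg s).commutes a).symm⟩
    · rw [PairModels.comp_apply, PairModels.comp_apply, hg₃, hg₂, hi]
  · refine ⟨⟨X₂, Y₂, g₂⟩, ⟨hXf, hYf, hXs, hYs, hg₂s, fun h1 h2 => absurd ⟨h1, h2⟩ hf⟩, ⟨⟨i ≫ q, r, fun x => ?_⟩⟩⟩
    rw [PairModels.comp_apply, hg₂, hi]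

/-- The index category. -/
structure Idx (f : B →ₐ[A] C) : Type u where
  P : Pair f
  good : Good f P

instance (f : B →ₐ[A] C) : SmallCategory (Idx f) where
  Hom i j := PHom f i.P j.P
  id i := ⟨𝟙 _, 𝟙 _, fun _ => rfl⟩
  comp u v := u.comp v
  id_comp u := PHom.ext (Category.id_comp _) (Category.id_comp _)
  comp_id u := PHom.ext (Category.comp_id _) (Category.comp_id _)
  assoc u v w := PHom.ext (Category.assoc _ _ _) (Category.assoc _ _ _)

theorem exists_idx [Algebra.IsIntegral A B] [Algebra.IsIntegral A C] (P : Pair f) :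
    ∃ (j : Idx f), Nonempty (PHom f P j.P) := by
  obtain ⟨Q, hQ, hu⟩ := exists_good P
  exact ⟨⟨Q, hQ⟩, hu⟩

theorem nonempty_idx [Algebra.IsIntegral A B] [Algebra.IsIntegral A C] (f : B →ₐ[A] C) : Nonempty (Idx f) := by
  obtain ⟨Y, -⟩ := exists_model_init A C
  obtain ⟨X', e, he⟩ := exists_model_equiv A (Algebra.ofId A B)
  have hg : Y.toB.comp (((Algebra.ofId A Y.Alg)).comp e.symm.toAlgHom) = f.comp X'.toB := by
    refine AlgHom.ext fun x => ?_
    obtain ⟨a, rfl⟩ := e.surjective x
    show Y.toB (Algebra.ofId A Y.Alg (e.symm (e a))) = f (X'.toB (e a))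
    rw [e.symm_apply_apply, he, Algebra.ofId_apply, Algebra.ofId_apply, AlgHom.commutes, AlgHom.commutes]
  obtain ⟨j, -⟩ := exists_idx (f := f) ⟨X', Y, ⟨(Algebra.ofId A Y.Alg).comp e.symm.toAlgHom, fun x => AlgHom.congr_fun hg x⟩⟩
  exact ⟨j⟩

theorem isFiltered_idx [Algebra.IsIntegral A B] [Algebra.IsIntegral A C] (f : B →ₐ[A] C) :
    IsFiltered (Idx f) := by
  haveI := nonempty_idx f
  exact
  { cocone_objs := fun i j => by
      obtain ⟨Z, a, b, hgen, hZ⟩ := exists_coprod i.P.X j.P.X
      obtain ⟨W, a', b', -, -⟩ := exists_coprod i.P.Y j.P.Y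
      obtain ⟨γ, hγa, hγb⟩ := hZ W.Alg ((homAlg a').comp i.P.g.1) ((homAlg b').comp j.P.g.1)
      have hc : W.toB.comp γ = f.comp Z.toB := by
        refine AlgHom.ext_of_adjoin_eq_top hgen ?_
        rintro _ (⟨x, rfl⟩ | ⟨x, rfl⟩)
        · show W.toB (γ _) = f (Z.toB _)
          rw [hγa, toB_hom]
          exact (toB_hom a' _).trans (i.P.g.2 x)
        · show W.toB (γ _) = f (Z.toB _)
          rw [hγb, toB_hom]
          exact (toB_hom b' _).trans (j.P.g.2 x)
      obtain ⟨k, ⟨u⟩⟩ := exists_idx (f := f) ⟨Z, W, ⟨γ, AlgHom.congr_fun hc⟩⟩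
      exact ⟨k, ⟨a ≫ u.left, a' ≫ u.right, fun x => by rw [PairModels.comp_apply, PairModels.comp_apply, u.comm, hγa]; rfl⟩,
        ⟨b ≫ u.left, b' ≫ u.right, fun x => by rw [PairModels.comp_apply, PairModels.comp_apply, u.comm, hγb]; rfl⟩, trivial⟩
    cocone_maps := fun i j u v => by
      obtain ⟨K, hK, hKle, hKd, -⟩ := exists_eq_ideal u.left v.left
      obtain ⟨L, hL, hLle, hLd, -⟩ := exists_eq_ideal u.right v.right
      obtain ⟨X', Y', q, r, g', hq, hr, hqK, hrL, hg'⟩ := exists_quot_pair j.P.g K hK hKle L hL hLle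
      obtain ⟨k, ⟨w⟩⟩ := exists_idx (f := f) ⟨X', Y', g'⟩
      refine ⟨k, PHom.comp ⟨q, r, hg'⟩ w, PHom.ext (Subtype.ext (AlgHom.ext fun x => ?_))
        (Subtype.ext (AlgHom.ext fun y => ?_))⟩
      · show homAlg w.left (homAlg q (homAlg u.left x)) = homAlg w.left (homAlg q (homAlg v.left x))
        have := hqK _ (hKd x)
        rw [map_sub, sub_eq_zero] at this
        rw [this]
      · show homAlg w.right (homAlg r (homAlg u.right y)) = homAlg w.right (homAlg r (homAlg v.right y))
        have := hrL _ (hLd y)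
        rw [map_sub, sub_eq_zero] at this
        rw [this] }

/-- The diagram of sources. -/
def left (f : B →ₐ[A] C) : Idx f ⥤ FPModel A B where
  obj i := i.P.X
  map u := u.left

/-- The diagram of targets. -/
def right (f : B →ₐ[A] C) : Idx f ⥤ FPModel A C where
  obj i := i.P.Y
  map u := u.right

end

end Groth.Agent.S18014

namespace Groth.Agent.S18014

open Groth.Agent.PairModels Groth.Agent.PopescuLib CategoryTheory.Limits

/-- Let A be a commutative ring, B an A-algebra and C a B-algebra, with B and C both integral over A.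
Then B → C is a filtered colimit, in the category of A-algebras, of maps B_i → C_i between
A-algebras each of which is finite and of finite presentation over A: there are a small filtered
index category, two diagrams of A-algebras over it with a morphism of diagrams, and colimiting
cocones with vertices B and C under which the morphism of diagrams induces B → C. Moreover the
system can be chosen so that if A → B (resp. B → C, resp. A → C) is surjective then so is every A →
B_i (resp. B_i → C_i, resp. A → C_i), and if A → B (resp. B → C, resp. A → C) is surjective with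
nilpotent kernel then so is every A → B_i (resp. B_i → C_i, resp. A → C_i). -/
theorem result {A B C : Type u} [CommRing A] [CommRing B]
    [CommRing C] [Algebra A B] [Algebra A C] [Algebra B C] [IsScalarTower A B C]
    [Algebra.IsIntegral A B] [Algebra.IsIntegral A C] :
    ∃ (ι : Type u) (_ : SmallCategory ι) (_ : IsFiltered ι) (DB DC : ι ⥤ Under (CommRingCat.of A)) (τ : DB ⟶ DC)
      (cB : DB ⟶ (Functor.const ι).obj (Under.mk (CommRingCat.ofHom (algebraMap A B))))
      (cC : DC ⟶ (Functor.const ι).obj (Under.mk (CommRingCat.ofHom (algebraMap A C)))),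
      Nonempty (IsColimit (Cocone.mk _ cB)) ∧ Nonempty (IsColimit (Cocone.mk _ cC)) ∧
      (∀ i, (τ.app i).right ≫ (cC.app i).right = (cB.app i).right ≫ CommRingCat.ofHom (algebraMap B C)) ∧
      (∀ i, (DB.obj i).hom.hom.Finite ∧ (DB.obj i).hom.hom.FinitePresentation ∧
        (DC.obj i).hom.hom.Finite ∧ (DC.obj i).hom.hom.FinitePresentation) ∧
      (Function.Surjective (algebraMap A B) → ∀ i, Function.Surjective (DB.obj i).hom.hom) ∧
      (Function.Surjective (algebraMap B C) → ∀ i, Function.Surjective (τ.app i).right.hom) ∧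
      (Function.Surjective (algebraMap A C) → ∀ i, Function.Surjective (DC.obj i).hom.hom) ∧
      (Function.Surjective (algebraMap A B) → IsNilpotent (RingHom.ker (algebraMap A B)) →
        ∀ i, Function.Surjective (DB.obj i).hom.hom ∧ IsNilpotent (RingHom.ker (DB.obj i).hom.hom)) ∧
      (Function.Surjective (algebraMap B C) → IsNilpotent (RingHom.ker (algebraMap B C)) →
        ∀ i, Function.Surjective (τ.app i).right.hom ∧ IsNilpotent (RingHom.ker (τ.app i).right.hom)) ∧
      (Function.Surjective (algebraMap A C) → IsNilpotent (RingHom.ker (algebraMap A C)) →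
        ∀ i, Function.Surjective (DC.obj i).hom.hom ∧ IsNilpotent (RingHom.ker (DC.obj i).hom.hom)) := by
  let f : B →ₐ[A] C := IsScalarTower.toAlgHom A B C
  haveI := isFiltered_idx f
  let dB := left f ⋙ fpDiagram A B
  let dC := right f ⋙ fpDiagram A C
  let τ : dB ⟶ dC :=
    { app := fun i => CategoryTheory.Under.homMk (CommRingCat.ofHom i.P.g.1.toRingHom) (by
        ext a; exact i.P.g.1.commutes a)
      naturality := fun i j u => by
        apply CategoryTheory.Under.UnderMorphism.ext
        ext x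
        exact u.comm x }
  let cB := (fpCocone A B).whisker (left f)
  let cC := (fpCocone A C).whisker (right f)
  refine ⟨Idx f, inferInstance, inferInstance, dB, dC, τ, cB.ι, cC.ι, ?_, ?_, fun i => ?_, fun i => ?_,
    fun h i => i.good.surjX h, fun h i => i.good.surjg h, fun h i => i.good.surjY h,
    fun h hn i => ⟨i.good.surjX h, ?_⟩, fun h hn i => ⟨i.good.surjg h, i.good.nilg h hn⟩,
    fun h hn i => ⟨i.good.surjY h, ?_⟩⟩
  · refine nonempty_isColimit _ (fun (z : B) => ?_) fun i (x y : i.P.X.Alg) h => ?_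
    · obtain ⟨X, e, he⟩ := exists_model_equiv (A := A) (B := B) (Polynomial A) (Polynomial.aeval z)
      obtain ⟨Y, e', he'⟩ := exists_model_equiv (A := A) (B := C) (Polynomial A) (Polynomial.aeval (f z))
      have hc : ∀ x, Y.toB ((e'.toAlgHom.comp e.symm.toAlgHom) x) = f (X.toB x) := fun x => by
        obtain ⟨p, rfl⟩ := e.surjective x
        show Y.toB (e' (e.symm (e p))) = f (X.toB (e p))
        rw [e.symm_apply_apply, he, he', Polynomial.aeval_algHom_apply]
      obtain ⟨k, ⟨u⟩⟩ := exists_idx (f := f) ⟨X, Y, ⟨_, hc⟩⟩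
      refine ⟨k, homAlg u.left (e Polynomial.X), ?_⟩
      show k.P.X.toB _ = z
      rw [toB_hom, he, Polynomial.aeval_X]
    · obtain ⟨X', Y', q, r, g', hq, hr, hqK, -, hg'⟩ := exists_quot_pair i.P.g (Ideal.span {x - y})
        (Submodule.fg_span_singleton _) ((Ideal.span_singleton_le_iff_mem _).2 (by
          rw [RingHom.mem_ker, map_sub]; exact sub_eq_zero.2 h)) ⊥ Submodule.fg_bot bot_le
      obtain ⟨k, ⟨u⟩⟩ := exists_idx (f := f) ⟨X', Y', g'⟩
      refine ⟨k, PHom.comp ⟨q, r, hg'⟩ u, ?_⟩
      have := hqK _ (Ideal.subset_span rfl : x - y ∈ Ideal.span {x - y})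
      rw [map_sub, sub_eq_zero] at this
      exact congrArg (homAlg u.left) this
  · refine nonempty_isColimit _ (fun (z : C) => ?_) fun i (x y : i.P.Y.Alg) h => ?_
    · obtain ⟨X, e, he⟩ := exists_model_equiv (A := A) (B := B) A (Algebra.ofId A B)
      obtain ⟨Y, y, hy⟩ := exists_model_mem (A := A) z
      have hc : ∀ x, Y.toB (((Algebra.ofId A Y.Alg).comp e.symm.toAlgHom) x) = f (X.toB x) := fun x => by
        obtain ⟨a, rfl⟩ := e.surjective x
        show Y.toB (Algebra.ofId A Y.Alg (e.symm (e a))) = f (X.toB (e a))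
        rw [e.symm_apply_apply, he, Algebra.ofId_apply, Algebra.ofId_apply, AlgHom.commutes, AlgHom.commutes]
      obtain ⟨k, ⟨u⟩⟩ := exists_idx (f := f) ⟨X, Y, ⟨_, hc⟩⟩
      refine ⟨k, homAlg u.right y, ?_⟩
      show k.P.Y.toB _ = z
      rw [toB_hom, hy]
    · obtain ⟨X', Y', q, r, g', hq, hr, -, hrL, hg'⟩ := exists_quot_pair i.P.g ⊥ Submodule.fg_bot bot_le
        (Ideal.span {x - y}) (Submodule.fg_span_singleton _) ((Ideal.span_singleton_le_iff_mem _).2 (by
          rw [RingHom.mem_ker, map_sub]; exact sub_eq_zero.2 h))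
      obtain ⟨k, ⟨u⟩⟩ := exists_idx (f := f) ⟨X', Y', g'⟩
      refine ⟨k, PHom.comp ⟨q, r, hg'⟩ u, ?_⟩
      have := hrL _ (Ideal.subset_span rfl : x - y ∈ Ideal.span {x - y})
      rw [map_sub, sub_eq_zero] at this
      exact congrArg (homAlg u.right) this
  · ext x
    exact i.P.g.2 x
  · refine ⟨?_, ?_, ?_, ?_⟩
    · exact RingHom.finite_algebraMap.2 i.good.finX
    · exact (RingHom.finitePresentation_algebraMap (A := A) (B := i.P.X.Alg)).2 inferInstance
    · exact RingHom.finite_algebraMap.2 i.good.finY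
    · exact (RingHom.finitePresentation_algebraMap (A := A) (B := i.P.Y.Alg)).2 inferInstance
  · obtain ⟨N, hN⟩ := hn
    refine ⟨N, eq_bot_iff.2 ((Ideal.pow_right_mono (fun a ha => ?_) N).trans hN.le)⟩
    show algebraMap A B a = 0
    rw [← i.P.X.toB.commutes a]
    exact (congrArg i.P.X.toB ha).trans (map_zero _)
  · obtain ⟨N, hN⟩ := hn
    refine ⟨N, eq_bot_iff.2 ((Ideal.pow_right_mono (fun a ha => ?_) N).trans hN.le)⟩
    show algebraMap A C a = 0
    rw [← i.P.Y.toB.commutes a]
    exact (congrArg i.P.Y.toB ha).trans (map_zero _)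

end Groth.Agent.S18014
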