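import Groth.Statements.S18015
import Mathlib.Tactic
import Mathlib.RingTheory.Ideal.AssociatedPrime.Finiteness
import Mathlib.RingTheory.Finiteness.Basic
import Mathlib.Algebra.Homology.ShortComplex.ModuleCat

set_option autoImplicit false
universe u
open CategoryTheory
open Coh

namespace Groth.Agent.S18015

/-- Let A be a Noetherian commutative ring and F an additive functor from A-modules to A-modules which
is half-exact, i.e. for every short exact sequence 0 → M' → M → M'' → 0 the sequence F(M') → F(M) →
F(M'') is exact at F(M). Then F(M) is a finitely generated A-module for every finitely generated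
A-module M if and only if F(A/p) is a finitely generated A-module for every prime ideal p of A. (The
published statement takes F from quasi-coherent sheaves on Spec A to abelian groups, with A acting
on each F(M) through F; this row allows any additive functor between A-module categories, A-linear
or not, and the same argument applies, since it uses only that each map F(f) is A-linear.) -/
theorem result {A : Type u} [CommRing A] [IsNoetherianRing A]
    (F : ModuleCat.{u} A ⥤ ModuleCat.{u} A) [F.Additive]
    (hF : ∀ S : ShortComplex (ModuleCat.{u} A), S.ShortExact → (S.map F).Exact) :
    (∀ M : ModuleCat.{u} A, Module.Finite A M → Module.Finite A (F.obj M)) ↔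
      ∀ p : PrimeSpectrum A, Module.Finite A (F.obj (ModuleCat.of A (A ⧸ p.asIdeal))) := by
  refine ⟨fun h p => h _ inferInstance, fun h M hM => ?_⟩
  have key : ∀ (N : Type u) [AddCommGroup N] [Module A N], Module.Finite A N →
      Module.Finite A (F.obj (ModuleCat.of A N)) := by
    intro N _ _ hN
    induction hN using IsNoetherianRing.induction_on_isQuotientEquivQuotientPrime A with
    | subsingleton N =>
      have hz := F.map_isZero (ModuleCat.isZero_of_subsingleton (ModuleCat.of A N))
      have := ModuleCat.subsingleton_of_isZero hz
      infer_instance
    | quotient N p e =>
      have := h p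
      exact Module.Finite.equiv (F.mapIso (e.symm.toModuleIso)).toLinearEquiv
    | exact N₁ N₂ N₃ f g hf hg hfg h₁ h₂ =>
      have := isNoetherian_of_isNoetherianRing_of_finite A (F.obj (ModuleCat.of A N₁))
      have := isNoetherian_of_isNoetherianRing_of_finite A (F.obj (ModuleCat.of A N₃))
      let S := ShortComplex.mk (ModuleCat.ofHom f) (ModuleCat.ofHom g)
        (ModuleCat.hom_ext hfg.linearMap_comp_eq_zero)
      have hS : S.ShortExact :=
        { exact := (ShortComplex.ShortExact.moduleCat_exact_iff_function_exact S).2 hfg
          mono_f := (ModuleCat.mono_iff_injective _).2 hf
          epi_g := (ModuleCat.epi_iff_surjective _).2 hg }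
      have hx := (hF S hS)
      rw [ShortComplex.ShortExact.moduleCat_exact_iff_function_exact] at hx
      have : IsNoetherian A (F.obj (ModuleCat.of A N₂)) :=
        isNoetherian_of_range_eq_ker
          (F.map S.f).hom (F.map S.g).hom (LinearMap.exact_iff.1 hx).symm
      infer_instance
  exact key M hM

end Groth.Agent.S18015
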