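import Groth.Statements.S18016
import Groth.Agent.PairModels.Triple

set_option linter.style.haveILetI false
set_option linter.unusedVariables false

set_option autoImplicit false
universe u
open CategoryTheory CategoryTheory.Limits
open Lim

namespace Groth.Agent.S18016

open Groth.Agent.PairModels Groth.Agent.PopescuLib CategoryTheory CategoryTheory.Limits

noncomputable section

variable {R B D D' : Type u} [CommRing R] [CommRing B] [CommRing D] [CommRing D'] [Algebra R B]
  [Algebra R D] [Algebra R D'] (f : B →ₐ[R] D) (i : D' →ₐ[R] D)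

/-- The index category. -/
structure Idx : Type u where
  P : Triple f i
  good : TGood f i P

instance : SmallCategory (Idx f i) where
  Hom a b := THom f i a.P b.P
  id a := THom.id a.P
  comp u v := u.comp v
  id_comp u := THom.ext (Category.id_comp _) (Category.id_comp _) (Category.id_comp _)
  comp_id u := THom.ext (Category.comp_id _) (Category.comp_id _) (Category.comp_id _)
  assoc u v w := THom.ext (Category.assoc _ _ _) (Category.assoc _ _ _) (Category.assoc _ _ _)

variable {f i}

theorem exists_idx (hi : Function.Surjective i) (hnil : ∀ x ∈ RingHom.ker i, IsNilpotent x)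
    (P : Triple f i) : ∃ j : Idx f i, Nonempty (THom f i P j.P) := by
  obtain ⟨Q, hQ, hu⟩ := exists_tgood hi hnil P
  exact ⟨⟨Q, hQ⟩, hu⟩

theorem eq_of_mem {X X' : FPModel R B} (u : X ⟶ X') {x y : X.Alg} (h : homAlg u (x - y) = 0) :
    homAlg u x = homAlg u y := by
  rw [map_sub, sub_eq_zero] at h; exact h

theorem exists_kill (hi : Function.Surjective i) (hnil : ∀ x ∈ RingHom.ker i, IsNilpotent x) (j : Idx f i)
    (x x' : j.P.X.Alg) (hx : j.P.X.toB x = j.P.X.toB x') (y y' : j.P.Y.Alg) (hy : j.P.Y.toB y = j.P.Y.toB y')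
    (z z' : j.P.Z.Alg) (hz : j.P.Z.toB z = j.P.Z.toB z') :
    ∃ (k : Idx f i) (u : j ⟶ k), homAlg u.l x = homAlg u.l x' ∧ homAlg u.m y = homAlg u.m y' ∧
      homAlg u.r z = homAlg u.r z' := by
  obtain ⟨Q, v, h1, h2, h3⟩ := exists_quot_triple j.P (Ideal.span {x - x'}) (Submodule.fg_span_singleton _)
    ((Ideal.span_singleton_le_iff_mem _).2 (by rw [RingHom.mem_ker, map_sub]; exact sub_eq_zero.2 hx))
    (Ideal.span {y - y'}) (Submodule.fg_span_singleton _)
    ((Ideal.span_singleton_le_iff_mem _).2 (by rw [RingHom.mem_ker, map_sub]; exact sub_eq_zero.2 hy))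
    (Ideal.span {z - z'}) (Submodule.fg_span_singleton _)
    ((Ideal.span_singleton_le_iff_mem _).2 (by rw [RingHom.mem_ker, map_sub]; exact sub_eq_zero.2 hz))
  obtain ⟨k, ⟨w⟩⟩ := exists_idx hi hnil Q
  refine ⟨k, v.comp w, ?_, ?_, ?_⟩
  · refine congrArg (homAlg w.l) (sub_eq_zero.1 ?_)
    rw [← map_sub]; exact h1 _ (Ideal.subset_span rfl)
  · refine congrArg (homAlg w.m) (sub_eq_zero.1 ?_)
    rw [← map_sub]; exact h2 _ (Ideal.subset_span rfl)
  · refine congrArg (homAlg w.r) (sub_eq_zero.1 ?_)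
    rw [← map_sub]; exact h3 _ (Ideal.subset_span rfl)

theorem isFiltered_idx (hi : Function.Surjective i) (hnil : ∀ x ∈ RingHom.ker i, IsNilpotent x) :
    IsFiltered (Idx f i) := by
  obtain ⟨P₀⟩ := exists_triple_init f i
  obtain ⟨j₀, -⟩ := exists_idx hi hnil P₀
  haveI : Nonempty (Idx f i) := ⟨j₀⟩
  exact
  { cocone_objs := fun a b => by
      obtain ⟨T, ⟨u⟩, ⟨v⟩⟩ := exists_join a.P b.P
      obtain ⟨k, ⟨w⟩⟩ := exists_idx hi hnil T
      exact ⟨k, u.comp w, v.comp w, trivial⟩
    cocone_maps := fun a b u v => by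
      obtain ⟨K, hK, hKle, hKd, -⟩ := exists_eq_ideal u.l v.l
      obtain ⟨L, hL, hLle, hLd, -⟩ := exists_eq_ideal u.m v.m
      obtain ⟨M, hM, hMle, hMd, -⟩ := exists_eq_ideal u.r v.r
      obtain ⟨Q, q, h1, h2, h3⟩ := exists_quot_triple b.P K hK hKle L hL hLle M hM hMle
      obtain ⟨k, ⟨w⟩⟩ := exists_idx hi hnil Q
      refine ⟨k, q.comp w, THom.ext (Subtype.ext (AlgHom.ext fun x => ?_))
        (Subtype.ext (AlgHom.ext fun y => ?_)) (Subtype.ext (AlgHom.ext fun z => ?_))⟩
      · refine congrArg (homAlg w.l) (sub_eq_zero.1 ?_)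
        rw [← map_sub]; exact h1 _ (hKd x)
      · refine congrArg (homAlg w.m) (sub_eq_zero.1 ?_)
        rw [← map_sub]; exact h2 _ (hLd y)
      · refine congrArg (homAlg w.r) (sub_eq_zero.1 ?_)
        rw [← map_sub]; exact h3 _ (hMd z) }

variable (f i)

/-- Sources. -/
def lF : Idx f i ⥤ FPModel R B where
  obj a := a.P.X
  map u := u.l

/-- Middles. -/
def mF : Idx f i ⥤ FPModel R D where
  obj a := a.P.Y
  map u := u.m

/-- Right ends. -/
def rF : Idx f i ⥤ FPModel R D' where
  obj a := a.P.Z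
  map u := u.r

/-- The fibre product of a triple. -/
abbrev fib (P : Triple f i) : Subalgebra R (P.X.Alg × P.Z.Alg) :=
  AlgHom.equalizer (P.g.1.comp (AlgHom.fst R P.X.Alg P.Z.Alg)) (P.h.1.comp (AlgHom.snd R P.X.Alg P.Z.Alg))

/-- Functoriality of the fibre product. -/
def fibMap {P Q : Triple f i} (u : THom f i P Q) : fib f i P →ₐ[R] fib f i Q :=
  (((homAlg u.l).prodMap (homAlg u.r)).comp (fib f i P).val).codRestrict _ fun p => by
    show Q.g.1 (homAlg u.l p.1.1) = Q.h.1 (homAlg u.r p.1.2)
    rw [u.commg, u.commh, show P.g.1 p.1.1 = P.h.1 p.1.2 from p.2]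

/-- The fibre product as an object under `R`. -/
abbrev fibObj (P : Triple f i) : CategoryTheory.Under (CommRingCat.of R) :=
  CategoryTheory.Under.mk (CommRingCat.ofHom (R := R) (S := fib f i P) (algebraMap R (fib f i P)))

/-- Functoriality, bundled. -/
def fibHom {P Q : Triple f i} (u : THom f i P Q) : fibObj f i P ⟶ fibObj f i Q :=
  CategoryTheory.Under.homMk (CommRingCat.ofHom (fibMap f i u).toRingHom)
    (by ext r; exact (fibMap f i u).commutes r)

/-- First projection, bundled. -/
def fibFst (P : Triple f i) :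
    fibObj f i P ⟶ CategoryTheory.Under.mk (CommRingCat.ofHom (algebraMap R P.X.Alg)) :=
  CategoryTheory.Under.homMk
    (CommRingCat.ofHom ((AlgHom.fst R P.X.Alg P.Z.Alg).comp (fib f i P).val).toRingHom) (by ext r; rfl)

/-- Second projection, bundled. -/
def fibSnd (P : Triple f i) :
    fibObj f i P ⟶ CategoryTheory.Under.mk (CommRingCat.ofHom (algebraMap R P.Z.Alg)) :=
  CategoryTheory.Under.homMk
    (CommRingCat.ofHom ((AlgHom.snd R P.X.Alg P.Z.Alg).comp (fib f i P).val).toRingHom) (by ext r; rfl)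

/-- The diagram of fibre products. -/
def pF : Idx f i ⥤ CategoryTheory.Under (CommRingCat.of R) where
  obj a := fibObj f i a.P
  map u := fibHom f i u
  map_id a := by
    apply CategoryTheory.Under.UnderMorphism.ext
    ext p
    rfl
  map_comp u v := by
    apply CategoryTheory.Under.UnderMorphism.ext
    ext p
    rfl

end

end Groth.Agent.S18016

namespace Groth.Agent.S18016

open Groth.Agent.PairModels Groth.Agent.PopescuLib CategoryTheory.Limits

/-- In ring form, let R be a commutative ring, f : B → D any map of R-algebras and i : D' → D a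
surjective map of R-algebras every element of whose kernel is nilpotent (so Spec D → Spec D' is a
locally nilpotent closed immersion of affine R-schemes and Spec D → Spec B is affine), and let q₁ :
P → B, q₂ : P → D' exhibit P as the fibre product ring B ×_D D' (the pushout of the two affine
schemes). Then the diagram B → D ← D' is a filtered colimit, in R-algebras, of diagrams B_j → D_j ←
D'_j of R-algebras of finite presentation in which D'_j → D_j is surjective with locally nilpotent
kernel; and the fibre products P_j = B_j ×_{D_j} D'_j form a compatible diagram whose colimit is P.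
Moreover: if f is surjective (resp. surjective with locally nilpotent kernel, resp. integral) then
every B_j → D_j can be taken surjective (resp. surjective with locally nilpotent kernel, resp.
integral). (The published statement also covers two further classes, maps that become a closed or a
locally nilpotent immersion after composing with a locally nilpotent closed immersion; those two
clauses are not stated here.) -/
theorem result {R B D D' P : Type u} [CommRing R] [CommRing B]
    [CommRing D] [CommRing D'] [CommRing P] [Algebra R B] [Algebra R D] [Algebra R D'] [Algebra R P]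
    (f : B →ₐ[R] D) (i : D' →ₐ[R] D) (hi : Function.Surjective i)
    (hnil : ∀ x ∈ RingHom.ker i.toRingHom, IsNilpotent x) (q₁ : P →ₐ[R] B) (q₂ : P →ₐ[R] D')
    (hP : IsPullback (CommRingCat.ofHom q₁.toRingHom) (CommRingCat.ofHom q₂.toRingHom)
      (CommRingCat.ofHom f.toRingHom) (CommRingCat.ofHom i.toRingHom)) :
    ∃ (ι : Type u) (_ : SmallCategory ι) (_ : IsFiltered ι) (DB DD DD' DP : ι ⥤ Under (CommRingCat.of R))
      (φ : DB ⟶ DD) (ψ : DD' ⟶ DD) (π₁ : DP ⟶ DB) (π₂ : DP ⟶ DD')
      (cB : DB ⟶ (Functor.const ι).obj (Under.mk (CommRingCat.ofHom (algebraMap R B))))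
      (cD : DD ⟶ (Functor.const ι).obj (Under.mk (CommRingCat.ofHom (algebraMap R D))))
      (cD' : DD' ⟶ (Functor.const ι).obj (Under.mk (CommRingCat.ofHom (algebraMap R D'))))
      (cP : DP ⟶ (Functor.const ι).obj (Under.mk (CommRingCat.ofHom (algebraMap R P)))),
      Nonempty (IsColimit (Cocone.mk _ cB)) ∧ Nonempty (IsColimit (Cocone.mk _ cD)) ∧
      Nonempty (IsColimit (Cocone.mk _ cD')) ∧ Nonempty (IsColimit (Cocone.mk _ cP)) ∧
      (∀ j, (φ.app j).right ≫ (cD.app j).right = (cB.app j).right ≫ CommRingCat.ofHom f.toRingHom) ∧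
      (∀ j, (ψ.app j).right ≫ (cD.app j).right = (cD'.app j).right ≫ CommRingCat.ofHom i.toRingHom) ∧
      (∀ j, (π₁.app j).right ≫ (cB.app j).right = (cP.app j).right ≫ CommRingCat.ofHom q₁.toRingHom) ∧
      (∀ j, (π₂.app j).right ≫ (cD'.app j).right = (cP.app j).right ≫ CommRingCat.ofHom q₂.toRingHom) ∧
      (∀ j, (DB.obj j).hom.hom.FinitePresentation ∧ (DD.obj j).hom.hom.FinitePresentation ∧
        (DD'.obj j).hom.hom.FinitePresentation) ∧
      (∀ j, Function.Surjective (ψ.app j).right.hom ∧ ∀ x ∈ RingHom.ker (ψ.app j).right.hom, IsNilpotent x) ∧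
      (∀ j, IsPullback (π₁.app j).right (π₂.app j).right (φ.app j).right (ψ.app j).right) ∧
      (Function.Surjective f → ∀ j, Function.Surjective (φ.app j).right.hom) ∧
      (Function.Surjective f → (∀ x ∈ RingHom.ker f.toRingHom, IsNilpotent x) →
        ∀ j, Function.Surjective (φ.app j).right.hom ∧ ∀ x ∈ RingHom.ker (φ.app j).right.hom, IsNilpotent x) ∧
      (f.toRingHom.IsIntegral → ∀ j, (φ.app j).right.hom.IsIntegral) := by
  haveI := isFiltered_idx (f := f) hi hnil
  let dB := lF f i ⋙ fpDiagram R B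
  let dD := mF f i ⋙ fpDiagram R D
  let dD' := rF f i ⋙ fpDiagram R D'
  let φ : dB ⟶ dD :=
    { app := fun a => CategoryTheory.Under.homMk (CommRingCat.ofHom a.P.g.1.toRingHom)
        (by ext r; exact a.P.g.1.commutes r)
      naturality := fun a b u => by
        apply CategoryTheory.Under.UnderMorphism.ext
        ext x
        exact u.commg x }
  let ψ : dD' ⟶ dD :=
    { app := fun a => CategoryTheory.Under.homMk (CommRingCat.ofHom a.P.h.1.toRingHom)
        (by ext r; exact a.P.h.1.commutes r)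
      naturality := fun a b u => by
        apply CategoryTheory.Under.UnderMorphism.ext
        ext x
        exact u.commh x }
  let π₁ : pF f i ⟶ dB :=
    { app := fun a => fibFst f i a.P
      naturality := fun a b u => by
        apply CategoryTheory.Under.UnderMorphism.ext
        ext x
        rfl }
  let π₂ : pF f i ⟶ dD' :=
    { app := fun a => fibSnd f i a.P
      naturality := fun a b u => by
        apply CategoryTheory.Under.UnderMorphism.ext
        ext x
        rfl }
  let cB := (fpCocone R B).whisker (lF f i)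
  let cD := (fpCocone R D).whisker (mF f i)
  let cD' := (fpCocone R D').whisker (rF f i)
  -- elements of `P` are compatible pairs
  have hPf := (Types.isPullback_iff _ _ _ _).1 (hP.map (forget CommRingCat.{u}))
  have hcomm : ∀ (a : Idx f i) (p : fib f i a.P), f (a.P.X.toB p.1.1) = i (a.P.Z.toB p.1.2) := fun a p => by
    rw [← a.P.g.2, ← a.P.h.2, show a.P.g.1 p.1.1 = a.P.h.1 p.1.2 from p.2]
  let cp : ∀ a : Idx f i, CommRingCat.of (fib f i a.P) ⟶ CommRingCat.of P := fun a =>
    hP.lift (CommRingCat.ofHom ((a.P.X.toB.comp ((AlgHom.fst R _ _).comp (fib f i a.P).val)).toRingHom))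
      (CommRingCat.ofHom ((a.P.Z.toB.comp ((AlgHom.snd R _ _).comp (fib f i a.P).val)).toRingHom))
      (by ext p; exact hcomm a p)
  have hcp₁ : ∀ (a : Idx f i) (p : fib f i a.P), q₁ ((cp a).hom p) = a.P.X.toB p.1.1 := fun a p =>
    congrArg (fun χ : CommRingCat.of (fib f i a.P) ⟶ CommRingCat.of B => χ.hom p) (hP.lift_fst _ _ _)
  have hcp₂ : ∀ (a : Idx f i) (p : fib f i a.P), q₂ ((cp a).hom p) = a.P.Z.toB p.1.2 := fun a p =>
    congrArg (fun χ : CommRingCat.of (fib f i a.P) ⟶ CommRingCat.of D' => χ.hom p) (hP.lift_snd _ _ _)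
  have hext : ∀ {p p' : P}, q₁ p = q₁ p' → q₂ p = q₂ p' → p = p' := fun h1 h2 => hPf.2.1 _ _ ⟨h1, h2⟩
  let cP : pF f i ⟶ (Functor.const (Idx f i)).obj (Under.mk (CommRingCat.ofHom (algebraMap R P))) :=
    { app := fun a => CategoryTheory.Under.homMk (cp a) (by
        ext r
        refine hext ((hcp₁ a _).trans ?_) ((hcp₂ a _).trans ?_)
        · exact (a.P.X.toB.commutes r).trans (q₁.commutes r).symm
        · exact (a.P.Z.toB.commutes r).trans (q₂.commutes r).symm)
      naturality := fun a b u => by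
        apply CategoryTheory.Under.UnderMorphism.ext
        ext p
        refine hext ?_ ?_
        · exact ((hcp₁ b _).trans (toB_hom u.l _)).trans (hcp₁ a p).symm
        · exact ((hcp₂ b _).trans (toB_hom u.r _)).trans (hcp₂ a p).symm }
  refine ⟨Idx f i, inferInstance, inferInstance, dB, dD, dD', pF f i, φ, ψ, π₁, π₂, cB.ι, cD.ι, cD'.ι, cP,
    ?_, ?_, ?_, ?_, fun j => ?_, fun j => ?_, fun j => ?_, fun j => ?_, fun j => ?_,
    fun j => ⟨j.good.surjh, j.good.nilh⟩, fun j => ?_, fun h j => j.good.surjg h,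
    fun h hn j => ⟨j.good.surjg h, j.good.nilg h hn⟩, fun h j => j.good.intg h⟩
  · refine nonempty_isColimit _ (fun (z : B) => ?_) fun a (x y : a.P.X.Alg) h => ?_
    · obtain ⟨T, x, hx⟩ := exists_triple_mem_left (f := f) (i := i) z
      obtain ⟨k, ⟨u⟩⟩ := exists_idx hi hnil T
      refine ⟨k, homAlg u.l x, ?_⟩
      show k.P.X.toB _ = z
      rw [toB_hom, hx]
    · obtain ⟨k, u, hu, -, -⟩ := exists_kill hi hnil a x y h 0 0 rfl 0 0 rfl
      exact ⟨k, u, hu⟩
  · refine nonempty_isColimit _ (fun (z : D) => ?_) fun a (x y : a.P.Y.Alg) h => ?_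
    · obtain ⟨T, x, hx⟩ := exists_triple_mem_mid (f := f) (i := i) z
      obtain ⟨k, ⟨u⟩⟩ := exists_idx hi hnil T
      refine ⟨k, homAlg u.m x, ?_⟩
      show k.P.Y.toB _ = z
      rw [toB_hom, hx]
    · obtain ⟨k, u, -, hu, -⟩ := exists_kill hi hnil a 0 0 rfl x y h 0 0 rfl
      exact ⟨k, u, hu⟩
  · refine nonempty_isColimit _ (fun (z : D') => ?_) fun a (x y : a.P.Z.Alg) h => ?_
    · obtain ⟨T, x, hx⟩ := exists_triple_mem_right (f := f) (i := i) z
      obtain ⟨k, ⟨u⟩⟩ := exists_idx hi hnil T
      refine ⟨k, homAlg u.r x, ?_⟩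
      show k.P.Z.toB _ = z
      rw [toB_hom, hx]
    · obtain ⟨k, u, -, -, hu⟩ := exists_kill hi hnil a 0 0 rfl 0 0 rfl x y h
      exact ⟨k, u, hu⟩
  · refine nonempty_isColimit _ (fun (p : P) => ?_) fun a (p p' : fib f i a.P) h => ?_
    · obtain ⟨T₁, x, hx⟩ := exists_triple_mem_left (f := f) (i := i) (q₁ p)
      obtain ⟨T₂, z, hz⟩ := exists_triple_mem_right (f := f) (i := i) (q₂ p)
      obtain ⟨T, ⟨u⟩, ⟨v⟩⟩ := exists_join T₁ T₂
      obtain ⟨a, ⟨w⟩⟩ := exists_idx hi hnil T
      let x' := homAlg w.l (homAlg u.l x)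
      let z' := homAlg w.r (homAlg v.r z)
      have hx' : a.P.X.toB x' = q₁ p := by rw [toB_hom, toB_hom, hx]
      have hz' : a.P.Z.toB z' = q₂ p := by rw [toB_hom, toB_hom, hz]
      have hD : a.P.Y.toB (a.P.g.1 x') = a.P.Y.toB (a.P.h.1 z') := by
        rw [a.P.g.2, a.P.h.2, hx', hz']
        exact congr($(hP.w) p)
      obtain ⟨k, t, -, ht, -⟩ := exists_kill hi hnil a 0 0 rfl _ _ hD 0 0 rfl
      refine ⟨k, ⟨(homAlg t.l x', homAlg t.r z'), ?_⟩, hext ?_ ?_⟩
      · show k.P.g.1 (homAlg t.l x') = k.P.h.1 (homAlg t.r z')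
        rw [t.commg, t.commh, ht]
      · refine (hcp₁ k _).trans ?_
        show k.P.X.toB (homAlg t.l x') = q₁ p
        rw [toB_hom, hx']
      · refine (hcp₂ k _).trans ?_
        show k.P.Z.toB (homAlg t.r z') = q₂ p
        rw [toB_hom, hz']
    · obtain ⟨k, u, h1, -, h3⟩ := exists_kill hi hnil a p.1.1 p'.1.1
        ((hcp₁ a p).symm.trans ((congrArg q₁ h).trans (hcp₁ a p'))) 0 0 rfl p.1.2 p'.1.2
        ((hcp₂ a p).symm.trans ((congrArg q₂ h).trans (hcp₂ a p')))
      exact ⟨k, u, Subtype.ext (Prod.ext h1 h3)⟩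
  · ext x; exact j.P.g.2 x
  · ext x; exact j.P.h.2 x
  · ext p; exact (hcp₁ j p).symm
  · ext p; exact (hcp₂ j p).symm
  · exact ⟨(RingHom.finitePresentation_algebraMap (A := R) (B := j.P.X.Alg)).2 inferInstance,
      (RingHom.finitePresentation_algebraMap (A := R) (B := j.P.Y.Alg)).2 inferInstance,
      (RingHom.finitePresentation_algebraMap (A := R) (B := j.P.Z.Alg)).2 inferInstance⟩
  · refine IsPullback.of_map (forget CommRingCat.{u}) (by ext p; exact p.2) ((Types.isPullback_iff _ _ _ _).2 ⟨?_, ?_, ?_⟩)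
    · ext p; exact p.2
    · rintro p p' ⟨h1, h2⟩; exact Subtype.ext (Prod.ext h1 h2)
    · intro x z h; exact ⟨⟨(x, z), h⟩, rfl, rfl⟩

end Groth.Agent.S18016
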