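import Groth.Statements.S18019
import Mathlib.Algebra.CharP.Two
import Mathlib.Algebra.Polynomial.Div
import Mathlib.Algebra.Polynomial.RingDivision

set_option autoImplicit false
universe u
open ClassStk

namespace Groth.Agent.S18019

open Polynomial in
/-- Let R be an integral domain of characteristic 2 and let a be a nonzero element of R, so that x ↦ x +
a defines an R-algebra involution of the polynomial ring R[x] (an action of the group of order two).
A polynomial f is invariant, f(x + a) = f(x), if and only if f belongs to the R-subalgebra generated
by u = x (x + a); in other words the ring of invariants is the polynomial ring R[u]. -/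
theorem result (R : Type u) [CommRing R] [IsDomain R]
    [CharP R 2] (a : R) (ha : a ≠ 0) (f : Polynomial R) :
    f.comp (X + C a) = f ↔ f ∈ Algebra.adjoin R ({X * (X + C a)} : Set (Polynomial R)) := by
  have haa : (C a + C a : Polynomial R) = 0 := by rw [← C_add, CharTwo.add_self_eq_zero, C_0]
  have hu : (X * (X + C a) : Polynomial R).comp (X + C a) = X * (X + C a) := by
    rw [mul_comp, add_comp, X_comp, C_comp, add_assoc, haa, add_zero, mul_comm]
  have hum : (X * (X + C a) : Polynomial R).Monic := Monic.mul monic_X (monic_X_add_C a)
  have hud : (X * (X + C a) : Polynomial R).natDegree = 2 := by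
    rw [Monic.natDegree_mul monic_X (monic_X_add_C a), natDegree_X, natDegree_X_add_C]
  constructor
  · intro hf
    induction hn : f.natDegree using Nat.strong_induction_on generalizing f with
    | _ n ih =>
      subst hn
      by_cases h0 : f.natDegree = 0
      · rw [eq_C_of_natDegree_eq_zero h0]
        exact Subalgebra.algebraMap_mem _ _
      · set u : Polynomial R := X * (X + C a) with hu'
        have hdiv := modByMonic_add_div f u
        have hr1 : (f %ₘ u).natDegree ≤ 1 := by
          have := natDegree_modByMonic_lt f hum (fun h => by rw [h, natDegree_one] at hud; omega)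
          omega
        have hc : ((f %ₘ u).comp (X + C a)) + u * ((f /ₘ u).comp (X + C a)) = f := by
          conv_rhs => rw [← hf, ← hdiv]
          rw [add_comp, mul_comp, hu]
        have hdeg : ((f %ₘ u).comp (X + C a)).degree < u.degree := by
          rw [degree_eq_natDegree hum.ne_zero, hud]
          refine lt_of_le_of_lt degree_le_natDegree ?_
          have := natDegree_comp_le (p := f %ₘ u) (q := X + C a)
          rw [natDegree_X_add_C, mul_one] at this
          exact_mod_cast Nat.lt_succ_of_le (this.trans hr1)
        obtain ⟨hq, hr⟩ := div_modByMonic_unique ((f /ₘ u).comp (X + C a)) _ hum ⟨hc, hdeg⟩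
        have hc1 : (f %ₘ u).coeff 1 = 0 := by
          have e := eq_X_add_C_of_natDegree_le_one hr1
          have e2 : (f %ₘ u).comp (X + C a) = f %ₘ u + C ((f %ₘ u).coeff 1 * a) := by
            conv_lhs => rw [e]
            conv_rhs => arg 1; rw [e]
            simp only [add_comp, mul_comp, C_comp, X_comp, C_mul]
            ring
          rw [← hr, left_eq_add, C_eq_zero, mul_eq_zero] at e2
          exact e2.resolve_right ha
        have hlt : (f /ₘ u).natDegree < f.natDegree := by
          rw [natDegree_divByMonic f hum, hud]; omega
        rw [← hdiv, eq_X_add_C_of_natDegree_le_one hr1, hc1, C_0, zero_mul, zero_add]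
        exact add_mem (Subalgebra.algebraMap_mem _ _)
          (mul_mem (Algebra.self_mem_adjoin_singleton R u) (ih _ hlt (f /ₘ u) hq.symm rfl))
  · intro h
    induction h using Algebra.adjoin_induction with
    | mem x hx => rw [Set.mem_singleton_iff.1 hx]; exact hu
    | algebraMap r => exact C_comp
    | add x y _ _ hx hy => rw [add_comp, hx, hy]
    | mul x y _ _ hx hy => rw [mul_comp, hx, hy]

end Groth.Agent.S18019
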