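import Groth.Statements.S1802
import Groth.Agent.GrLib8.CdOneAffine
-- import your own Groth.Agent.* helpers here

set_option autoImplicit false
universe u
open AlgebraicGeometry
open LocCoh

namespace Groth.Agent.S1802

/-- For a Noetherian ring. Let I be an ideal of a Noetherian ring A with cd(A, I) = 1, i.e. H^i_I(M) = 0
for all modules M and all i ≥ 2 but H^1_I(M) ≠ 0 for some M. Then the open subscheme Spec A minus
V(I) is nonempty and affine. -/
theorem result (A : Type u) [CommRing A] [IsNoetherianRing A] (I : Ideal A) (h1 : LocCoh.CdLE A I 1) (h0 : ¬ LocCoh.CdLE A I 0) : Nonempty (↑(LocCoh.puncturedOpen A I) : Scheme.{u}) ∧ IsAffine (↑(LocCoh.puncturedOpen A I) : Scheme.{u}) := by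
  exact GrLib8.CdOneAffine.nonempty_and_isAffine I h1 h0

end Groth.Agent.S1802
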