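import Groth.Statements.S18020
import Groth.Agent.GrpoidInertia.Eigen

set_option autoImplicit false
set_option backward.isDefEq.respectTransparency false
set_option backward.isDefEq.respectTransparency.types false
open W4c5stacksedinertia

namespace Groth.Agent.S18020

open W4c5stacksedinertia in
/-- In the rational vector space K with basis the isomorphism classes of finite groups (the class of a
group standing for its classifying groupoid), the inertia operator, which sends the class of a
finite group to the sum over its conjugacy classes of the classes of the centralizers of
representatives, preserves the subspace spanned by the classes of groups of order at most `n`. -/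
theorem result (n : ℕ) (v : K) (hv : v ∈ Kle n) :
    inertia v ∈ Kle n := by
  rw [← Finsupp.sum_single v, Finsupp.sum, map_sum]
  refine Submodule.sum_mem _ fun i hi => ?_
  rw [← mul_one (v i), ← smul_eq_mul, ← Finsupp.smul_single, map_smul]
  refine Submodule.smul_mem _ _ ?_
  have h := GrpoidInertia.inertiaR_single_sub_mem 1 i
  have hi' : i.card ≤ n := (Finsupp.mem_supported ℚ v).1 hv hi
  rw [← sub_add_cancel (inertiaR 1 (Finsupp.single i 1)) ((i.centerCard.descFactorial 1 : ℚ) • Finsupp.single i 1)]
  exact Submodule.add_mem _ (Finsupp.supported_mono (fun j hj => le_trans (le_of_lt hj.2) hi') h)
    (Submodule.smul_mem _ _ (Finsupp.single_mem_supported ℚ 1 hi'))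

end Groth.Agent.S18020
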