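import Groth.Statements.S18021
import Groth.Agent.GrpoidInertia.Eigen
import Mathlib.Data.ZMod.Basic
import Mathlib.Algebra.Group.TypeTags.Finite
import Mathlib.GroupTheory.Subgroup.Center

set_option autoImplicit false
set_option backward.isDefEq.respectTransparency false
set_option backward.isDefEq.respectTransparency.types false
open W4c5stacksedinertia

namespace Groth.Agent.S18021

open W4c5stacksedinertia in
/-- In the rational vector space K with basis the isomorphism classes of finite groups (the class of a
group standing for its classifying groupoid), the inertia operator is diagonalizable with spectrum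
the positive integers: the eigenspaces attached to natural numbers span everything, and a rational
number is an eigenvalue if and only if it is a positive integer. -/
theorem result :
    (⨆ n : ℕ, Module.End.eigenspace inertia (n : ℚ)) = ⊤ ∧
    ∀ μ : ℚ, Module.End.HasEigenvalue inertia μ ↔ ∃ n : ℕ, 0 < n ∧ μ = (n : ℚ) := by
  refine ⟨GrpoidInertia.iSup_eigenspace_eq_top, fun μ => ⟨fun hμ => ?_, ?_⟩⟩
  · by_contra hc
    refine hμ (eq_bot_iff.2 fun v hv => ?_)
    have hind := Module.End.eigenspaces_iSupIndep inertia μ
    have hle : (⊤ : Submodule ℚ K) ≤ ⨆ (ν : ℚ) (_ : ν ≠ μ), Module.End.eigenspace inertia ν := by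
      rw [← GrpoidInertia.iSup_succ_eigenspace_eq_top]
      exact iSup_le fun n => le_biSup (f := fun ν : ℚ => Module.End.eigenspace inertia ν)
        (fun h => hc ⟨n + 1, Nat.succ_pos n, h.symm⟩)
    exact (Submodule.mem_bot ℚ).2 (Submodule.disjoint_def.1 hind v hv (hle Submodule.mem_top))
  · rintro ⟨n, hn, rfl⟩
    haveI : NeZero n := ⟨hn.ne'⟩
    let i : Idx := Idx.of (Multiplicative (ZMod n))
    obtain ⟨v, hv, hv0⟩ := GrpoidInertia.eigenvector_exists i
    have hk : i.centerCard = n := by
      rw [GrpoidInertia.centerCard_of, CommGroup.center_eq_top, Subgroup.card_top]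
      exact (Nat.card_congr Multiplicative.toAdd).trans (Nat.card_zmod n)
    rw [hk] at hv
    exact Module.End.hasEigenvalue_of_hasEigenvector ⟨hv, hv0⟩

end Groth.Agent.S18021
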