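import Groth.Statements.S18022
import Groth.Agent.GrpoidInertia.Eigen

set_option autoImplicit false
set_option backward.isDefEq.respectTransparency false
set_option backward.isDefEq.respectTransparency.types false
open W4c5stacksedinertia

namespace Groth.Agent.S18022

open W4c5stacksedinertia in
/-- In the rational vector space K with basis the isomorphism classes of finite groups (the class of a
group standing for its classifying groupoid), the operator `inertiaR r` (class of `G` goes to the
sum, over conjugacy classes of `r`-tuples of pairwise distinct pairwise commuting elements, of the
classes of their common centralizers) preserves the descending filtration by the order of the centre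
and acts on its `k`-th graded piece as multiplication by `r! * Nat.choose k r`: for `v` in the span
of classes with centre of order at least `k`, `inertiaR r v - (r! * Nat.choose k r) • v` lies in the
span of classes with centre of order at least `k + 1`. -/
theorem result (r k : ℕ) (v : K) (hv : v ∈ Kge k) :
    inertiaR r v - ((Nat.factorial r * Nat.choose k r : ℕ) : ℚ) • v ∈ Kge (k + 1) := by
  rw [← Nat.descFactorial_eq_factorial_mul_choose]
  exact GrpoidInertia.inertiaR_sub_mem_Kge r k hv

end Groth.Agent.S18022
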