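import Groth.Statements.S18026
import Groth.Agent.HensSec7.Local
-- import your own Groth.Agent.* helpers here

set_option autoImplicit false
universe u
open Hensel

namespace Groth.Agent.S18026

open AlgebraicGeometry CategoryTheory in
/-- Let `A` be a henselian discrete valuation ring and `f : T ⟶ Spec A` an étale surjective morphism of
schemes. Then some open subscheme `U` of `T` is finite over `Spec A` and still maps onto it; in
particular `U → Spec A` is a finite étale cover sitting inside `T` as an open subscheme (étaleness
of the restriction is automatic, and surjectivity records that `U` meets the closed fibre). (The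
published statement asks for an open component of `T` finite étale over `Spec A`; when `T` is not
separated — two copies of `Spec A` glued along the generic point — no open and closed subset of `T`
is finite over `Spec A`, while the published proof constructs an open subscheme, the spectrum of the
local ring of `T` at a point of the closed fibre; so this row asks only for an open subscheme.) -/
theorem result
    (A : Type u) [CommRing A] [IsDomain A] [IsDiscreteValuationRing A] [HenselianLocalRing A]
    (T : Scheme.{u}) (f : T ⟶ Spec (CommRingCat.of A)) [Etale f] [Surjective f] :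
    ∃ U : T.Opens, IsFinite (U.ι ≫ f) ∧ Surjective (U.ι ≫ f) := by
  obtain ⟨t, ht⟩ := f.surjective (IsLocalRing.closedPoint A)
  obtain ⟨W, hW, htW, -⟩ := exists_isAffineOpen_mem_and_subset (show t ∈ (⊤ : T.Opens) from trivial)
  haveI : IsAffine (W : Scheme.{u}) := hW
  obtain ⟨V, ⟨hVc, hVf, hV⟩, -⟩ := HensSec7.exists_finitePart (W.ι ≫ f)
  haveI : IsFinite (V.ι ≫ W.ι ≫ f) := hVf
  haveI : Surjective (V.ι ≫ W.ι ≫ f) := HensSec7.surjective_of_etale _ ⟨⟨⟨t, htW⟩, hV _ ht⟩, ht⟩
  refine ⟨W.ι ''ᵁ V, ?_⟩
  have e : (W.ι.isoImage V).inv ≫ V.ι ≫ W.ι = (W.ι ''ᵁ V).ι := Scheme.Hom.isoImage_inv_ι ..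
  rw [← e, Category.assoc, Category.assoc]
  exact ⟨inferInstance, inferInstance⟩

end Groth.Agent.S18026
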