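import Groth.Statements.S18027
import Groth.Agent.GrpSchLib.FieldDim
-- import your own Groth.Agent.* helpers here

set_option autoImplicit false
universe u
open CategoryTheory MonoidalCategory CartesianMonoidalCategory MonObj GrpObj AlgebraicGeometry CategoryTheory.Limits
open AlgGrp

namespace Groth.Agent.S18027

/-- Let `k` be a field and `u : G ⟶ H` a homomorphism of smooth `k`-group schemes which is a closed
immersion, where `G` and `H` have the same dimension. Then `u` carries the connected component of
the identity of `G` onto the connected component of the identity of `H`; as `u` is a closed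
immersion and `H` is reduced, `u` therefore restricts to an isomorphism between the identity
components. (The second printed assertion, on the groups of components, is not included.) -/
theorem result (k : Type u) [Field k]
    (G H : Over (Spec (CommRingCat.of k))) [GrpObj G] [GrpObj H]
    [Smooth G.hom] [Smooth H.hom] (u : G ⟶ H) [IsMonHom u] [IsClosedImmersion u.left]
    (hdim : topologicalKrullDim ↥G.left = topologicalKrullDim ↥H.left)
    (t : ↥((𝟙_ (Over (Spec (CommRingCat.of k)))).left)) :
    ⇑u.left.base '' connectedComponent (η[G].left.base t) = connectedComponent (η[H].left.base t) := by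
  obtain ⟨g, hg, hge⟩ := GrpSchLib.exists_isMaxPt (η[G].left (IsLocalRing.closedPoint k))
  obtain ⟨h, hh, hhe⟩ := GrpSchLib.exists_isMaxPt (η[H].left (IsLocalRing.closedPoint k))
  have hη : ∀ {K' : Over (Spec (CommRingCat.of k))} [GrpObj K'],
      η[K'].left.base t = η[K'].left (IsLocalRing.closedPoint k) := fun {K'} _ =>
    congrArg η[K'].left (@Subsingleton.elim (Spec (CommRingCat.of k)) inferInstance _ _)
  rw [hη, hη, GrpSchLib.connectedComponent_one hg hge, GrpSchLib.connectedComponent_one hh hhe]
  have hug : u.left g ⤳ η[H].left (IsLocalRing.closedPoint k) := by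
    have h1 := hge.map u.left.continuous
    have h3 : u.left (η[G].left (IsLocalRing.closedPoint k)) = η[H].left (IsLocalRing.closedPoint k) :=
      (GrpSchLib.left_comp_apply η[G] u _).symm.trans
        (congrArg (fun f : 𝟙_ _ ⟶ H => f.left (IsLocalRing.closedPoint k)) (IsMonHom.one_hom u))
    rw [h3] at h1
    exact h1
  have hsp : h ⤳ u.left g := hh.specializes GrpSchLib.uniComp hhe hug
  -- `u g` is the generic point of the component of the unit of `H`
  have hdeg : VarDim.deg H.hom h ≤ VarDim.deg H.hom (u.left g) := by
    have h1 := GrpSchLib.topologicalKrullDim_eq_deg (G := G) hg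
    rw [hdim, GrpSchLib.topologicalKrullDim_eq_deg (G := H) hh] at h1
    have h2 : Order.height (u.left g) = Order.height g :=
      (GrpSchLib.height_apply_of_isIntegralHom u.left g).symm
    rw [VarDim.height_eq_deg H.hom, VarDim.height_eq_deg G.hom] at h2
    have h1' : VarDim.deg H.hom h = VarDim.deg G.hom g := by exact_mod_cast h1
    have h2' : VarDim.deg H.hom (u.left g) = VarDim.deg G.hom g := by exact_mod_cast h2
    omega
  have hug' : u.left g = h := by
    by_contra hne
    have hlt : VarDim.deg H.hom (u.left g) < VarDim.deg H.hom h :=
      VarDim.deg_strictMono H.hom (lt_iff_le_not_ge.2 ⟨hsp, fun h' => hne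
        (Specializes.antisymm (h' : u.left g ⤳ h) hsp).eq⟩)
    omega
  show u.left '' closure {g} = closure {h}
  rw [← u.left.isClosedEmbedding.closure_image_eq, Set.image_singleton, hug']

end Groth.Agent.S18027
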