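import Groth.Statements.S18029
import Groth.Agent.AVTors.TateInj
import Groth.Agent.GrpSchLib.FieldSmooth
import Groth.Agent.H23.AMonExt
import Groth.Agent.Triage.SchDense
import Groth.Agent.GrpSchLib.MonoSubgroup
import Groth.Agent.S0414
-- import your own Groth.Agent.* helpers here

set_option autoImplicit false
set_option linter.style.haveILetI false
set_option backward.isDefEq.respectTransparency false
set_option backward.isDefEq.respectTransparency.types false
set_option maxHeartbeats 1000000
universe u
open CategoryTheory MonoidalCategory CartesianMonoidalCategory MonObj GrpObj AlgebraicGeometry CategoryTheory.Limits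
open AlgGrp

namespace Groth.Agent.S18029

attribute [local instance] Functor.monObjObj Functor.grpObjObj

set_option synthInstance.maxHeartbeats 100000 in
/-- Closed subgroups of the generic fibre spread out. Let `X` be an integral scheme with generic point
`η : Spec K(X) ⟶ X`, `G` an affine `X`-group scheme locally of finite presentation and `H_η` a
closed subgroup scheme of the generic fibre `G_η = G ×_X Spec K(X)`. Then there are a non-empty open
`U ⊆ X` (through which `η` factors) and a closed subgroup scheme `H_U` of `G ×_X U` whose generic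
fibre is `H_η`: a cartesian square presents `H_η` as `H_U ×_U Spec K(X)`, compatibly with the
embeddings into `G`. -/
theorem result
    (X : Scheme.{u}) [IsIntegral X] (G : Over X) [GrpObj G]
    [IsAffineHom G.hom] [LocallyOfFinitePresentation G.hom]
    (Hη : Over (Spec X.functionField)) [GrpObj Hη]
    (i : Hη ⟶ Red.bc (X.fromSpecStalk (genericPoint X)) G) [IsMonHom i] [IsClosedImmersion i.left] :
    ∃ (U : X.Opens) (ηU : Spec X.functionField ⟶ (U : Scheme.{u})) (HU : Over (U : Scheme.{u}))
      (_ : GrpObj HU) (j : HU ⟶ Red.bc U.ι G) (φ : Hη.left ⟶ HU.left),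
      ηU ≫ U.ι = X.fromSpecStalk (genericPoint X) ∧ IsMonHom j ∧ IsClosedImmersion j.left ∧
      IsPullback φ Hη.hom HU.hom ηU ∧
      φ ≫ j.left ≫ pullback.fst G.hom U.ι = i.left ≫ pullback.fst G.hom (X.fromSpecStalk (genericPoint X)) := by
  haveI : Subsingleton (Spec X.functionField) := inferInstanceAs (Subsingleton (PrimeSpectrum X.functionField))
  let v := X.fromSpecStalk (genericPoint X)
  haveI : Flat v := GrpSchLib.flat_fromSpecStalk _
  haveI : IsDominant v := ⟨by
    intro x
    have hx : genericPoint X ∈ Set.range v := by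
      rw [Scheme.range_fromSpecStalk]; exact specializes_refl _
    exact closure_mono (Set.singleton_subset_iff.2 hx) (specializes_iff_mem_closure.1 (genericPoint_specializes x))⟩
  haveI : IsSchemeTheoreticallyDominant v := IsSchemeTheoreticallyDominant.of_isDominant v
  haveI : QuasiCompact v := by
    refine ⟨fun s hs _ => ?_⟩
    exact (Set.Finite.subset (Set.finite_univ) (Set.subset_univ _)).isCompact
  haveI : IsAffineHom (Red.bc v G).hom := inferInstanceAs (IsAffineHom (Limits.pullback.snd G.hom v))
  haveI : LocallyOfFiniteType (Red.bc v G).hom := inferInstanceAs (LocallyOfFiniteType (Limits.pullback.snd G.hom v))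
  haveI : IsLocallyNoetherian (Red.bc v G).left := LocallyOfFiniteType.isLocallyNoetherian (Red.bc v G).hom
  haveI : CompactSpace (Red.bc v G).left := QuasiCompact.compactSpace_of_compactSpace (Red.bc v G).hom
  haveI : AlgebraicGeometry.IsNoetherian (Red.bc v G).left := ⟨⟩
  haveI : TopologicalSpace.NoetherianSpace Hη.left := i.left.isEmbedding.isInducing.noetherianSpace
  let c : Hη.left ⟶ G.left := i.left ≫ Limits.pullback.fst G.hom v
  haveI : QuasiCompact c := inferInstance
  let P : Over X := Over.mk (c.imageι ≫ G.hom)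
  let i₀ : P ⟶ G := Over.homMk c.imageι rfl
  haveI : IsClosedImmersion i₀.left := inferInstanceAs (IsClosedImmersion c.imageι)
  have hc : c ≫ G.hom = Hη.hom ≫ v := by
    rw [← Over.w i]
    exact (Category.assoc _ _ _).trans ((congrArg (i.left ≫ ·) Limits.pullback.condition).trans (Category.assoc _ _ _).symm)
  have hcP : c.toImage ≫ P.hom = Hη.hom ≫ v :=
    (Category.assoc _ _ _).symm.trans ((congrArg (· ≫ G.hom) c.toImage_imageι).trans hc)
  -- the generic fibre of the closure
  let i' : (Over.pullback v).obj P ⟶ (Over.pullback v).obj G := (Over.pullback v).map i₀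
  let z : Hη ⟶ (Over.pullback v).obj P := Over.homMk (Limits.pullback.lift c.toImage Hη.hom hcP) (Limits.pullback.lift_snd _ _ _)
  have hzi : z ≫ i' = i := by
    refine Over.OverMorphism.ext (Limits.pullback.hom_ext ?_ ?_)
    · simp only [z, i', i₀, Over.comp_left, Over.homMk_left, Over.pullback_map_left, Category.assoc,
        Limits.pullback.lift_fst, Limits.pullback.lift_fst_assoc]
      exact c.toImage_imageι
    · exact (Over.w (z ≫ i')).trans (Over.w i).symm
  haveI : IsIso z := by
    haveI : Mono v := inferInstance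
    let π : ((Over.pullback v).obj P).left ⟶ P.left := Limits.pullback.fst P.hom v
    haveI : Mono π := inferInstanceAs (Mono (Limits.pullback.fst P.hom v))
    haveI : Flat π := inferInstanceAs (Flat (Limits.pullback.fst P.hom v))
    have hzπ : z.left ≫ π = c.toImage := Limits.pullback.lift_fst _ _ _
    haveI : IsSchemeTheoreticallyDominant c.toImage := Triage.SchDense.isSchemeTheoreticallyDominant_toImage c
    haveI : QuasiCompact c.toImage := by
      haveI : QuasiCompact (c.toImage ≫ c.imageι) := by rw [Scheme.Hom.toImage_imageι]; infer_instance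
      exact QuasiCompact.of_comp c.toImage c.imageι
    haveI : IsSchemeTheoreticallyDominant z.left :=
      IsSchemeTheoreticallyDominant.of_isPullback (f := c.toImage) (g := π) (pX := 𝟙 _)
        (IsPullback.of_horiz_isIso_mono ⟨by rw [hzπ, Category.id_comp]⟩)
    haveI : IsClosedImmersion (z.left ≫ i'.left) := by rw [← Over.comp_left, hzi]; infer_instance
    haveI : IsClosedImmersion i'.left := MorphismProperty.baseChange_map (P := @IsClosedImmersion) v i₀ inferInstance
    haveI : IsClosedImmersion z.left := IsClosedImmersion.of_comp z.left i'.left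
    haveI : IsIso z.left := IsClosedImmersion.isIso_iff_ker_eq_bot.mpr z.left.ker_eq_bot
    haveI : IsIso ((Over.forget _).map z) := inferInstanceAs (IsIso z.left)
    exact isIso_of_reflects_iso z (Over.forget _)
  -- points of the closure over the generic point
  let Lands : ∀ {T : Over X}, (T ⟶ G) → Prop := fun {T} x => ∃ y : T ⟶ P, y ≫ i₀ = x
  have hgen : ∀ {T : Over (Spec X.functionField)} (x : (Over.map v).obj T ⟶ G),
      Lands x ↔ ∃ a : T ⟶ Hη, a ≫ i = AVTors.bcPts v T G x := fun {T} x => by
    constructor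
    · rintro ⟨y, hy⟩
      refine ⟨(Over.mapPullbackAdj v).homEquiv T P y ≫ inv z, ?_⟩
      rw [Category.assoc, show inv z ≫ i = i' by rw [IsIso.inv_comp_eq, hzi], ← hy]
      exact ((Over.mapPullbackAdj v).homEquiv_naturality_right y i₀).symm
    · rintro ⟨a, ha⟩
      refine ⟨((Over.mapPullbackAdj v).homEquiv T P).symm (a ≫ z), ?_⟩
      apply (AVTors.bcPts v T G).injective
      rw [← ha, ← hzi, ← Category.assoc]
      refine ((Over.mapPullbackAdj v).homEquiv_naturality_right _ i₀).trans ?_
      rw [Equiv.apply_symm_apply]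
  have hLone : ∀ {T : Over (Spec X.functionField)}, Lands (1 : (Over.map v).obj T ⟶ G) := fun {T} =>
    (hgen _).2 ⟨1, by rw [map_one, MonObj.one_comp]⟩
  have hLmul : ∀ {T : Over (Spec X.functionField)} (x y : (Over.map v).obj T ⟶ G), Lands x → Lands y → Lands (x * y) :=
    fun {T} x y hx hy => by
      obtain ⟨a, ha⟩ := (hgen x).1 hx
      obtain ⟨b, hb⟩ := (hgen y).1 hy
      exact (hgen _).2 ⟨a * b, by rw [MonObj.mul_comp, ha, hb, map_mul]⟩
  have hLinv : ∀ {T : Over (Spec X.functionField)} (x : (Over.map v).obj T ⟶ G), Lands x → Lands x⁻¹ :=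
    fun {T} x hx => by
      obtain ⟨a, ha⟩ := (hgen x).1 hx
      exact (hgen _).2 ⟨a⁻¹, by rw [GrpObj.inv_comp, ha, map_inv]⟩
  -- the open
  haveI : LocallyOfFiniteType P.hom := inferInstanceAs (LocallyOfFiniteType (c.imageι ≫ G.hom))
  haveI : QuasiCompact P.hom := inferInstanceAs (QuasiCompact (c.imageι ≫ G.hom))
  obtain ⟨U, hUd, hUf, -⟩ := S0414.result P.hom
  have hgU : genericPoint X ∈ U := ((genericPoint_spec X).mem_open_set_iff U.2).2 (by
    obtain ⟨x, hx⟩ := hUd.nonempty
    exact ⟨x, trivial, hx⟩)
  have hrange : Set.range v ⊆ Set.range U.ι := by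
    rw [Scheme.range_fromSpecStalk, Scheme.Opens.range_ι]
    exact fun y hy => Specializes.mem_open hy U.2 hgU
  let ηU : Spec X.functionField ⟶ (U : Scheme.{u}) := IsOpenImmersion.lift U.ι v hrange
  have hηU : ηU ≫ U.ι = v := IsOpenImmersion.lift_fac _ _ _
  let HU : Over (U : Scheme.{u}) := (Over.pullback U.ι).obj P
  let j : HU ⟶ Red.bc U.ι G := (Over.pullback U.ι).map i₀
  haveI : IsClosedImmersion j.left := MorphismProperty.baseChange_map (P := @IsClosedImmersion) U.ι i₀ inferInstance
  haveI : Mono j := H23.AMonExt.mono_of_isClosedImmersion j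
  haveI : Flat HU.hom := by
    show Flat (Limits.pullback.snd P.hom U.ι)
    haveI := hUf
    rw [← (isPullback_morphismRestrict P.hom U).flip.isoPullback_inv_snd]
    infer_instance
  have hfac : ∀ {T : Over (U : Scheme.{u})} (x : (Over.map U.ι).obj T ⟶ G),
      Lands x ↔ ∃ a : T ⟶ HU, a ≫ j = AVTors.bcPts U.ι T G x := fun {T} x => by
    constructor
    · rintro ⟨y, hy⟩
      refine ⟨(Over.mapPullbackAdj U.ι).homEquiv T P y, ?_⟩
      rw [← hy]
      exact ((Over.mapPullbackAdj U.ι).homEquiv_naturality_right y i₀).symm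
    · rintro ⟨a, ha⟩
      refine ⟨((Over.mapPullbackAdj U.ι).homEquiv T P).symm a, ?_⟩
      apply (AVTors.bcPts U.ι T G).injective
      rw [← ha]
      refine ((Over.mapPullbackAdj U.ι).homEquiv_naturality_right _ i₀).trans ?_
      rw [Equiv.apply_symm_apply]
  -- points over `U` of flat schemes are tested on the generic fibre
  have hext : ∀ {T : Over (U : Scheme.{u})} [Flat T.hom] (x : (Over.map U.ι).obj T ⟶ G),
      (∀ (T₀ : Over (Spec X.functionField)) (w : (Over.map v).obj T₀ ⟶ (Over.map U.ι).obj T), Lands (w ≫ x)) →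
      Lands x := fun {T} _ x hx => by
    haveI : Flat ((Over.map U.ι).obj T).hom := inferInstanceAs (Flat (T.hom ≫ U.ι))
    let T₀ : Over (Spec X.functionField) := Over.mk (Limits.pullback.snd ((Over.map U.ι).obj T).hom v)
    let w : (Over.map v).obj T₀ ⟶ (Over.map U.ι).obj T := Over.homMk (Limits.pullback.fst _ _) Limits.pullback.condition
    haveI : IsSchemeTheoreticallyDominant w.left :=
      inferInstanceAs (IsSchemeTheoreticallyDominant (Limits.pullback.fst ((Over.map U.ι).obj T).hom v))
    obtain ⟨g, hg⟩ := hx T₀ w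
    exact H23.AMonExt.exists_lift_over w i₀ x g hg
  haveI : Flat (𝟙_ (Over (U : Scheme.{u}))).hom := inferInstanceAs (Flat (𝟙 (U : Scheme.{u})))
  obtain ⟨e, he⟩ := (hfac _).1 (hext (1 : (Over.map U.ι).obj (𝟙_ (Over (U : Scheme.{u}))) ⟶ G)
    fun T₀ w => by rw [MonObj.comp_one]; exact hLone)
  rw [map_one, ← MonObj.one_eq_one] at he
  have hsymm : ∀ {T : Over (U : Scheme.{u})} (a : T ⟶ HU), Lands ((AVTors.bcPts U.ι T G).symm (a ≫ j)) :=
    fun a => (hfac _).2 ⟨a, ((AVTors.bcPts U.ι _ G).apply_symm_apply _).symm⟩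
  have hcompL : ∀ {A B : Over X} (w : A ⟶ B) (x : B ⟶ G), Lands x → Lands (w ≫ x) := fun w x ⟨y, hy⟩ =>
    ⟨w ≫ y, by rw [Category.assoc, hy]⟩
  haveI : Flat (HU ⊗ HU).hom := by
    rw [← Over.w (fst HU HU)]
    haveI : Flat (fst HU HU).left := inferInstanceAs (Flat (Limits.pullback.fst HU.hom HU.hom))
    infer_instance
  obtain ⟨m, hm⟩ := (hfac _).1 (hext
    ((AVTors.bcPts U.ι (HU ⊗ HU) G).symm (fst HU HU ≫ j) * (AVTors.bcPts U.ι (HU ⊗ HU) G).symm (snd HU HU ≫ j))
    fun T₀ w => by
      rw [MonObj.comp_mul]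
      exact hLmul _ _ (hcompL w _ (hsymm _)) (hcompL w _ (hsymm _)))
  rw [map_mul, MulEquiv.apply_symm_apply, MulEquiv.apply_symm_apply] at hm
  obtain ⟨n, hn⟩ := (hfac _).1 (hext ((AVTors.bcPts U.ι HU G).symm (𝟙 HU ≫ j))⁻¹
    fun T₀ w => by
      rw [GrpObj.comp_inv]
      exact hLinv _ (hcompL w _ (hsymm _)))
  rw [map_inv, MulEquiv.apply_symm_apply, Category.id_comp] at hn
  obtain ⟨str, hj⟩ := GrpSchLib.exists_grpObj_of_mono j e he m hm n hn
  let φ : Hη.left ⟶ HU.left := Limits.pullback.lift c.toImage (Hη.hom ≫ ηU) (by rw [Category.assoc, hηU, hcP])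
  refine ⟨U, ηU, HU, str, j, φ, hηU, hj, inferInstance, ?_, ?_⟩
  · refine IsPullback.of_right ?_ (Limits.pullback.lift_snd _ _ _) (IsPullback.of_hasPullback P.hom U.ι)
    rw [hηU, show φ ≫ Limits.pullback.fst P.hom U.ι = c.toImage from Limits.pullback.lift_fst _ _ _]
    haveI : IsIso z.left := inferInstanceAs (IsIso ((Over.forget _).map z))
    exact (IsPullback.of_hasPullback P.hom v).of_iso (asIso z.left).symm (Iso.refl _) (Iso.refl _) (Iso.refl _)
      (by simp [z]) (by
        refine (Category.comp_id _).trans ?_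
        show _ = inv z.left ≫ Hη.hom
        rw [IsIso.eq_inv_comp]
        exact Over.w z) (by simp) (by simp)
  · simp only [φ, j, i₀, Over.pullback_map_left, Over.homMk_left, Limits.pullback.lift_fst, Limits.pullback.lift_fst_assoc]
    exact c.toImage_imageι

end Groth.Agent.S18029
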