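import Groth.Statements.S18040
import Groth.Agent.H23.CB

set_option autoImplicit false
universe u
open AdjLin

namespace Groth.Agent.S18040

/-- Let k be an algebraically closed field of characteristic zero and Z a finite set of points of
projective 3-space over k, realised as points of the projectivization of k⁴, a homogeneous form in
four variables being evaluated at the chosen representative of a point (its vanishing does not
depend on the choice). Suppose Z has the Cayley–Bacharach property in degree n: every form of degree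
n vanishing at all points of Z but one vanishes at that point as well. Then for every m ≤ n, either
there is a nonzero form of degree n − m vanishing at every point of Z, or the rank of the evaluation
map from forms of degree m to functions on Z is at most the number of points of Z minus the
dimension of the space of forms of degree n − m. -/
theorem result (k : Type u) [Field k] [IsAlgClosed k] [CharZero k]
    (Z : Finset (Projectivization k (Fin 4 → k))) (n : ℕ)
    (hCB : (∀ z ∈ Z, ∀ p : MvPolynomial (Fin 4) k, p.IsHomogeneous n →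
      (∀ z' ∈ Z, z' ≠ z → MvPolynomial.eval z'.rep p = 0) → MvPolynomial.eval z.rep p = 0))
    (m : ℕ) (hm : m ≤ n) :
    (∃ s : MvPolynomial (Fin 4) k, s.IsHomogeneous (n - m) ∧ s ≠ 0 ∧ ∀ z ∈ Z, MvPolynomial.eval z.rep s = 0) ∨
      Module.finrank k (LinearMap.range
          ((LinearMap.pi fun z : ↥Z => (MvPolynomial.aeval (R := k) z.1.rep).toLinearMap) ∘ₗ
            (MvPolynomial.homogeneousSubmodule (Fin 4) k m).subtype)) +
        Module.finrank k ↥(MvPolynomial.homogeneousSubmodule (Fin 4) k (n - m)) ≤ Z.card := by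
  classical
  have : Infinite k := inferInstance
  rcases Classical.em (∃ s : MvPolynomial (Fin 4) k, s.IsHomogeneous (n - m) ∧ s ≠ 0 ∧
    ∀ z ∈ Z, MvPolynomial.eval z.rep s = 0) with hs | hs
  · exact Or.inl hs
  refine Or.inr ?_
  let E : ℕ → (MvPolynomial (Fin 4) k →ₗ[k] (↥Z → k)) := fun _ =>
    LinearMap.pi fun z : ↥Z => (MvPolynomial.aeval (R := k) z.1.rep).toLinearMap
  have hE : ∀ (p : MvPolynomial (Fin 4) k) (z : ↥Z), E 0 p z = MvPolynomial.eval z.1.rep p := by
    intro p z; simp [E, MvPolynomial.aeval_eq_eval]
  let I : Submodule k (↥Z → k) := (MvPolynomial.homogeneousSubmodule (Fin 4) k n).map (E 0)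
  -- a functional killing `I` and seeing every point
  obtain ⟨lam, hlam, hne⟩ := Module.Dual.exists_forall_mem_ne_zero_of_forall_exists I.dualAnnihilator
    (fun z : ↥Z => Module.Dual.eval k (↥Z → k) (Pi.single z 1)) (fun z => by
      have hnot : (Pi.single z 1 : ↥Z → k) ∉ I := by
        rintro ⟨p, hp, hpz⟩
        have := hCB z.1 z.2 p hp fun z' hz' hne => by
          rw [← hE p ⟨z', hz'⟩, hpz, Pi.single_eq_of_ne fun h => hne (congrArg Subtype.val h)]
        rw [← hE p z, hpz, Pi.single_eq_same] at this
        exact one_ne_zero this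
      obtain ⟨f, hf, hfI⟩ := Submodule.exists_le_ker_of_notMem hnot
      exact ⟨f, (Submodule.mem_dualAnnihilator f).mpr fun w hw => hfI hw, hf⟩)
  let A : Submodule k (↥Z → k) := LinearMap.range
    ((E 0) ∘ₗ (MvPolynomial.homogeneousSubmodule (Fin 4) k m).subtype)
  let φ : ↥(MvPolynomial.homogeneousSubmodule (Fin 4) k (n - m)) →ₗ[k] Module.Dual k (↥Z → k) :=
    { toFun := fun b => lam.comp (LinearMap.mulRight k (E 0 b.1))
      map_add' := fun a b => by ext; simp [mul_add]
      map_smul' := fun c a => by ext; simp }
  have hφA : ∀ b, φ b ∈ A.dualAnnihilator := by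
    intro b
    rw [Submodule.mem_dualAnnihilator]
    rintro _ ⟨a, rfl⟩
    change lam (E 0 a.1 * E 0 b.1) = 0
    rw [Submodule.mem_dualAnnihilator] at hlam
    refine hlam _ ⟨a.1 * b.1, ?_, funext fun z => by rw [Pi.mul_apply, hE, hE, hE, map_mul]⟩
    have := (show a.1.IsHomogeneous m from a.2).mul (show b.1.IsHomogeneous (n - m) from b.2)
    rwa [Nat.add_sub_cancel' hm] at this
  have hinj : Function.Injective φ := by
    rw [injective_iff_map_eq_zero]
    intro b hb
    apply Subtype.ext
    by_contra hb0
    refine hs ⟨b.1, b.2, hb0, fun z hz => ?_⟩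
    have h := LinearMap.congr_fun hb (Pi.single (⟨z, hz⟩ : ↥Z) 1)
    change lam (Pi.single (⟨z, hz⟩ : ↥Z) 1 * E 0 b.1) = 0 at h
    have e : Pi.single (⟨z, hz⟩ : ↥Z) (1 : k) * E 0 b.1 = E 0 b.1 ⟨z, hz⟩ • Pi.single (⟨z, hz⟩ : ↥Z) (1 : k) := by
      funext w
      rw [Pi.mul_apply, Pi.smul_apply, smul_eq_mul]
      rcases eq_or_ne w ⟨z, hz⟩ with rfl | hw
      · rw [Pi.single_eq_same, one_mul, mul_one]
      · rw [Pi.single_eq_of_ne hw, zero_mul, mul_zero]
    rw [e, map_smul, smul_eq_mul, hE] at h
    exact (mul_eq_zero.mp h).resolve_right (hne ⟨z, hz⟩)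
  have hfr := LinearMap.finrank_le_finrank_of_injective
    (f := φ.codRestrict A.dualAnnihilator hφA) (fun a b h => hinj (congrArg Subtype.val h))
  have hA := Subspace.finrank_add_finrank_dualAnnihilator_eq A
  rw [Module.finrank_fintype_fun_eq_card, Fintype.card_coe] at hA
  exact le_trans (Nat.add_le_add_left hfr _) hA.le


end Groth.Agent.S18040
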