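import Groth.Statements.S18043
import Groth.Agent.Synt29.SerreMain

set_option autoImplicit false
set_option linter.style.haveILetI false
set_option backward.isDefEq.respectTransparency false
set_option backward.isDefEq.respectTransparency.types false
set_option maxHeartbeats 1000000
universe u
open CategoryTheory CategoryTheory.Limits AlgebraicGeometry
open AdjLin

namespace Groth.Agent.S18043

/-- Let k be an algebraically closed field of characteristic zero and X a smooth projective surface over
k (an irreducible proper smooth k-scheme of dimension 2 with an ample invertible O_X-module), ω a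
second exterior power of Ω_{X/k}, U and L invertible O_X-modules with U⁻¹ a tensor inverse of U, and
P ⊂ X a zero-dimensional local complete intersection subscheme, given by a quasi-coherent ideal I_P
with finite support which, on some affine open neighbourhood of every point of X, is generated by
two sections. Then the following are equivalent: (a) there are a locally free O_X-module E of rank 2
and morphisms U → E → L ⊗ I_P forming a short exact sequence 0 → U → E → L ⊗ I_P → 0; (b) for every
quasi-coherent ideal I' covering I_P in the order of ideal sheaves (equivalently, every closed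
subscheme P' ⊂ P of colength one) and every global section σ of (L ⊗ U⁻¹) ⊗ ω whose zero scheme
contains P' (the ideal of the zero scheme is ≤ I'), the zero scheme of σ contains P. -/
theorem result (k : Type u) [Field k] [IsAlgClosed k] [CharZero k]
    (X : Scheme.{u}) [X.Over (Spec (CommRingCat.of k))] [IsProper (X ↘ (Spec (CommRingCat.of k)))]
    [Smooth (X ↘ (Spec (CommRingCat.of k)))] [IrreducibleSpace X] (hdim : topologicalKrullDim X = 2)
    (H : X.Modules) (hH : CohB1.IsAmple H)
    (ω : X.Modules) (hω : ExtPow.IsExtPow 2 (Omega.sheaf (X ↘ (Spec (CommRingCat.of k)))) ω)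
    (U Uinv L : X.Modules) (hU : PicF.IsInvertible U) (hUinv : ClSub.IsInverseOf Uinv U)
    (hL : PicF.IsInvertible L)
    (IP : X.IdealSheafData) (hfin : (IP.support : Set X).Finite)
    (hlci : ∀ x : X, ∃ V : X.affineOpens, x ∈ (V : X.Opens) ∧
      ∃ a b : Γ(X, V), IP.ideal V = Ideal.span {a, b}) :
    (∃ (E : X.Modules) (i : U ⟶ E) (p : E ⟶ CohB1.tensorMod L (ClSub.idealMod IP)) (w : i ≫ p = 0),
        FlatMod.IsFinLocFreeOfRank 2 E ∧ (ShortComplex.mk i p w).ShortExact) ↔
      (∀ I' : X.IdealSheafData, IP ⋖ I' →
        ∀ σ : Coh.structureModule X ⟶ CohB1.tensorMod (CohB1.tensorMod L Uinv) ω,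
          PicF2.zeroScheme (CohB1.tensorMod (CohB1.tensorMod L Uinv) ω) σ ≤ I' →
            PicF2.zeroScheme (CohB1.tensorMod (CohB1.tensorMod L Uinv) ω) σ ≤ IP) := by
  open Groth.Agent Groth.Agent.Synt29 Groth.Agent.H23.PicMul in
  haveI : IsNoetherian X := CurveCohLib.isNoetherian_of_proper (k := k)
  haveI : IsIntegral X := CurveCohLib.isIntegral_of_smooth_connected (X ↘ Spec (CommRingCat.of k))
  haveI := CurveFin.smoothOfRelativeDimension_of_dim (f := X ↘ Spec (CommRingCat.of k)) (d := 2) hdim
  haveI : JacobsonSpace X := LocallyOfFiniteType.jacobsonSpace (X ↘ Spec (CommRingCat.of k))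
  have hωi := SmoothTop.isInvertible_top (X ↘ Spec (CommRingCat.of k)) 2 hω
  letI := H23.PicMul.clMonoid (X := X)
  have hUc : PicF.cl Uinv * PicF.cl U = 1 := cl_eq_iff.2 hUinv
  have hUi : PicF.IsInvertible Uinv := by
    obtain ⟨S, hS, e⟩ := H23.PicInv.exists_inverse hU
    have h2 : PicF.cl U * PicF.cl S = 1 := cl_eq_iff.2 e
    have h3 : PicF.cl S = PicF.cl Uinv := by
      calc PicF.cl S = PicF.cl Uinv * PicF.cl U * PicF.cl S := by rw [hUc, one_mul]
        _ = PicF.cl Uinv := by rw [mul_assoc, h2, mul_one]
    exact H23.PicMul.isInvertible_of_iso (cl_eq_iff.1 h3).some hS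
  refine SerreMain.serre_iff (R := CohB1.tensorMod Uinv ω) hdim hH hω hU (InvX.isInvertible_tensorMod hUi hωi)
    (by rw [cl_tensor, ← mul_assoc, mul_comm (PicF.cl U), hUc, one_mul]) hL
    (InvX.isInvertible_tensorMod (InvX.isInvertible_tensorMod hL hUi) hωi)
    (by rw [cl_tensor, cl_tensor, cl_tensor, mul_assoc]) IP hfin fun z hz =>
      SerreSocle.exists_isSocleGen (k := k) hdim (fun y hy => SerreCover.isClosed_of_finite hfin hy) hlci hz

end Groth.Agent.S18043
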