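import Groth.Statements.S18046
import Groth.Agent.Synt29.CBPairing
import Groth.Agent.Synt29.SerreSocle
import Groth.Agent.Pic13Lib.HypSeq
import Groth.Agent.PnCoh.Chow.Proper

set_option autoImplicit false
set_option linter.style.haveILetI false
set_option backward.isDefEq.respectTransparency false
set_option backward.isDefEq.respectTransparency.types false
set_option maxHeartbeats 1000000
universe u
open CategoryTheory CategoryTheory.Limits AlgebraicGeometry
open AdjLin

namespace Groth.Agent.S18046

/-- Let k be an algebraically closed field of characteristic zero and X ⊂ P³_k a smooth surface of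
degree d, that is, a closed immersion ι : X → P³_k of an irreducible smooth k-scheme of dimension 2
whose hyperplane class H = ι*O(1) has self-intersection (H·H) = d (computed as an alternating sum of
Euler characteristics from two copies of ι*O(−1)); write O_X(j) = ι*O_{P³}(j) and h⁰(F) for the
k-dimension of H⁰(X, F). Let Z ⊂ X be a zero-dimensional local complete intersection subscheme (a
quasi-coherent ideal I_Z with finite support, generated by two sections on an affine neighbourhood
of every point) with the Cayley–Bacharach property for O_X(n): for every quasi-coherent ideal I'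
covering I_Z in the order of ideal sheaves, every global section of O_X(n) whose zero scheme has
ideal ≤ I' has zero scheme with ideal ≤ I_Z. For an integer j put r_Z(j) = h⁰(O_X(j)) − h⁰(O_X(j) ⊗
I_Z), the rank of the evaluation of forms of degree j on Z. Then for every integer m ≤ n, r_Z(m) +
r_Z(n − m) ≤ χ(O_X/I_Z) + h⁰(O_X(d − 4 − m)), where χ(O_X/I_Z), the Euler characteristic of the
structure sheaf of Z pushed to X, is the length of Z. (The published lemma does not assume that Z is
a local complete intersection; its proof constructs a rank-2 vector bundle from Z by the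
Cayley–Bacharach criterion, which needs this, so it is assumed here.) -/
theorem result
    (k : Type u) [Field k] [IsAlgClosed k] [CharZero k]
    (X : Scheme.{u}) [X.Over (Spec (CommRingCat.of k))] [Smooth (X ↘ (Spec (CommRingCat.of k)))]
    [IrreducibleSpace X] (hdim : topologicalKrullDim X = 2)
    (ι : X ⟶ CohB1.ProjSpace 3 k) [IsClosedImmersion ι]
    (hι : ι ≫ CohB1.ProjSpace.toSpec 3 k = X ↘ (Spec (CommRingCat.of k)))
    (d : ℤ) (hd : FGA.intNum k X 2 ![((Scheme.Modules.pullback ι).obj (Twist.twistProjSpace 3 k (-1))), ((Scheme.Modules.pullback ι).obj (Twist.twistProjSpace 3 k (-1)))] (Coh.structureModule X) = d)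
    (IZ : X.IdealSheafData) (hfin : (IZ.support : Set X).Finite)
    (hlci : ∀ x : X, ∃ V : X.affineOpens, x ∈ (V : X.Opens) ∧
      ∃ a b : Γ(X, V), IZ.ideal V = Ideal.span {a, b})
    (n m : ℤ) (hm : m ≤ n)
    (hCB : ∀ I' : X.IdealSheafData, IZ ⋖ I' →
      ∀ σ : Coh.structureModule X ⟶ ((Scheme.Modules.pullback ι).obj (Twist.twistProjSpace 3 k (n))),
        PicF2.zeroScheme ((Scheme.Modules.pullback ι).obj (Twist.twistProjSpace 3 k (n))) σ ≤ I' → PicF2.zeroScheme ((Scheme.Modules.pullback ι).obj (Twist.twistProjSpace 3 k (n))) σ ≤ IZ) :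
    ((Module.finrank k (Coh.HH X ((Scheme.Modules.pullback ι).obj (Twist.twistProjSpace 3 k (m))) 0) : ℤ) - (Module.finrank k (Coh.HH X (CohB1.tensorMod ((Scheme.Modules.pullback ι).obj (Twist.twistProjSpace 3 k (m))) (ClSub.idealMod IZ)) 0) : ℤ)) +
        ((Module.finrank k (Coh.HH X ((Scheme.Modules.pullback ι).obj (Twist.twistProjSpace 3 k (n - m))) 0) : ℤ) - (Module.finrank k (Coh.HH X (CohB1.tensorMod ((Scheme.Modules.pullback ι).obj (Twist.twistProjSpace 3 k (n - m))) (ClSub.idealMod IZ)) 0) : ℤ)) ≤
      FGA.eulerCharLE k X (ClSub.quotMod IZ) 2 + (Module.finrank k (Coh.HH X ((Scheme.Modules.pullback ι).obj (Twist.twistProjSpace 3 k (d - 4 - m))) 0) : ℤ) := by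
  open Groth.Agent Groth.Agent.Synt29 Groth.Agent.H23.PicMul Groth.Agent.Pic13Lib in
  haveI : IsProper (CohB1.ProjSpace.toSpec 3 k) := PnCoh.Chow.isProper_toSpec 3 _
  haveI : IsProper (X ↘ Spec (CommRingCat.of k)) := by rw [← hι]; infer_instance
  haveI : IsNoetherian X := CurveCohLib.isNoetherian_of_proper (k := k)
  haveI : IsIntegral X := CurveCohLib.isIntegral_of_smooth_connected (X ↘ Spec (CommRingCat.of k))
  haveI := CurveFin.smoothOfRelativeDimension_of_dim (f := X ↘ Spec (CommRingCat.of k)) (d := 2) hdim
  haveI : JacobsonSpace X := LocallyOfFiniteType.jacobsonSpace (X ↘ Spec (CommRingCat.of k))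
  letI := H23.PicMul.clMonoid (X := X)
  refine le_trans (CBPairing.rank_add_le (k := k) (I := IZ) hfin (fun z hz =>
      SerreSocle.exists_isSocleGen (k := k) hdim (fun y hy => SerreCover.isClosed_of_finite hfin hy) hlci hz)
    (isInvertible_tw ι m) (isInvertible_tw ι (n - m)) (isInvertible_tw ι n) ?_ hCB)
    (le_add_of_nonneg_right (Int.natCast_nonneg _))
  show tw ι m * tw ι (n - m) = tw ι n
  rw [← tw_add, add_sub_cancel]

end Groth.Agent.S18046
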