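import Groth.Statements.S18048
import Groth.Agent.Synt29.SerreMain
import Groth.Agent.Synt29.SerreSocle
import Groth.Agent.Synt29.SurfP3
import Groth.Agent.S10962
import Groth.Agent.AmpleVan.Pull
import Groth.Agent.KExact.DiagCodim

set_option autoImplicit false
set_option linter.style.haveILetI false
set_option backward.isDefEq.respectTransparency false
set_option backward.isDefEq.respectTransparency.types false
set_option maxHeartbeats 1000000
universe u
open CategoryTheory CategoryTheory.Limits AlgebraicGeometry
open AdjLin

namespace Groth.Agent.S18048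

/-- Let k be an algebraically closed field of characteristic zero and X ⊂ P³_k a smooth surface of
degree d, that is, a closed immersion ι : X → P³_k of an irreducible smooth k-scheme of dimension 2
whose hyperplane class H = ι*O(1) has self-intersection (H·H) = d (computed as an alternating sum of
Euler characteristics from two copies of ι*O(−1)); write O_X(j) = ι*O_{P³}(j). Let P ⊂ X be a
zero-dimensional local complete intersection subscheme (a quasi-coherent ideal I_P with finite
support, generated by two sections on an affine neighbourhood of every point) with the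
Cayley–Bacharach property for O_X(n): for every quasi-coherent ideal I' covering I_P in the order of
ideal sheaves, every global section of O_X(n) whose zero scheme has ideal ≤ I' has zero scheme with
ideal ≤ I_P. Then there exist a locally free O_X-module E of rank 2 and morphisms O_X → E → O_X(n +
4 − d) ⊗ I_P forming a short exact sequence 0 → O_X → E → O_X(n + 4 − d) ⊗ I_P → 0. (The published
corollary is stated for P a general divisor in a base-point-free linear system on a smooth curve in
P³, with X a smooth hypersurface containing P; its proof uses only the Cayley–Bacharach property of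
P in degree n, equivalent to the one for O_X(n) on X, and that property is assumed here for an
arbitrary zero-dimensional local complete intersection P ⊂ X.) -/
theorem result
    (k : Type u) [Field k] [IsAlgClosed k] [CharZero k]
    (X : Scheme.{u}) [X.Over (Spec (CommRingCat.of k))] [Smooth (X ↘ (Spec (CommRingCat.of k)))]
    [IrreducibleSpace X] (hdim : topologicalKrullDim X = 2)
    (ι : X ⟶ CohB1.ProjSpace 3 k) [IsClosedImmersion ι]
    (hι : ι ≫ CohB1.ProjSpace.toSpec 3 k = X ↘ (Spec (CommRingCat.of k)))
    (d : ℤ) (hd : FGA.intNum k X 2 ![((Scheme.Modules.pullback ι).obj (Twist.twistProjSpace 3 k (-1))), ((Scheme.Modules.pullback ι).obj (Twist.twistProjSpace 3 k (-1)))] (Coh.structureModule X) = d)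
    (IP : X.IdealSheafData) (hfin : (IP.support : Set X).Finite)
    (hlci : ∀ x : X, ∃ V : X.affineOpens, x ∈ (V : X.Opens) ∧
      ∃ a b : Γ(X, V), IP.ideal V = Ideal.span {a, b})
    (n : ℤ)
    (hCB : ∀ I' : X.IdealSheafData, IP ⋖ I' →
      ∀ σ : Coh.structureModule X ⟶ ((Scheme.Modules.pullback ι).obj (Twist.twistProjSpace 3 k (n))),
        PicF2.zeroScheme ((Scheme.Modules.pullback ι).obj (Twist.twistProjSpace 3 k (n))) σ ≤ I' → PicF2.zeroScheme ((Scheme.Modules.pullback ι).obj (Twist.twistProjSpace 3 k (n))) σ ≤ IP) :
    ∃ (E : X.Modules) (i : Coh.structureModule X ⟶ E)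
      (p : E ⟶ CohB1.tensorMod ((Scheme.Modules.pullback ι).obj (Twist.twistProjSpace 3 k (n + 4 - d))) (ClSub.idealMod IP)) (w : i ≫ p = 0),
      FlatMod.IsFinLocFreeOfRank 2 E ∧ (ShortComplex.mk i p w).ShortExact := by
  open Groth.Agent Groth.Agent.Synt29 Groth.Agent.H23.PicMul Groth.Agent.Pic13Lib in
  haveI : IsProper (CohB1.ProjSpace.toSpec 3 k) := PnCoh.Chow.isProper_toSpec 3 _
  haveI : IsProper (X ↘ Spec (CommRingCat.of k)) := by rw [← hι]; infer_instance
  haveI : IsNoetherian X := CurveCohLib.isNoetherian_of_proper (k := k)
  haveI : IsIntegral X := CurveCohLib.isIntegral_of_smooth_connected (X ↘ Spec (CommRingCat.of k))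
  haveI := CurveFin.smoothOfRelativeDimension_of_dim (f := X ↘ Spec (CommRingCat.of k)) (d := 2) hdim
  haveI : JacobsonSpace X := LocallyOfFiniteType.jacobsonSpace (X ↘ Spec (CommRingCat.of k))
  letI := H23.PicMul.clMonoid (X := X)
  obtain ⟨ω, -, hω⟩ := H28.ExtSh.exists_extPow (m := 2)
    (PnEuler.isFinLocFree_of_rank (KExact.DiagCodim.rank_omega (X ↘ Spec (CommRingCat.of k)) 2))
  have hωc : PicF.cl ω = tw ι (d - 4) := SurfP3.cl_canonical hdim ι hι hd hω
  have hωi : PicF.IsInvertible ω := isInvertible_of_iso
    (cl_eq_iff.1 (hωc.trans (tw_eq ι (d - 4)))).some.symm (isInvertible_tw ι (d - 4))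
  have hH := AmpleVan.isAmple_pullback_of_isEmbedding ι ι.isClosedEmbedding.isEmbedding
    ((S10962.result k 3 (by norm_num) 1).2 one_pos)
  refine (SerreMain.serre_iff (R := ω) (L := (Scheme.Modules.pullback ι).obj (Twist.twistProjSpace 3 k (n + 4 - d)))
    (Λ := (Scheme.Modules.pullback ι).obj (Twist.twistProjSpace 3 k n)) hdim hH hω
    H23.InvStalk.isInvertible_structureModule hωi (by rw [← H23.PicMul.one_def, one_mul]) (isInvertible_tw ι _)
    (isInvertible_tw ι n) ?_ IP hfin (fun z hz =>
      SerreSocle.exists_isSocleGen (k := k) hdim (fun y hy => SerreCover.isClosed_of_finite hfin hy) hlci hz)).2 hCB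
  rw [hωc, ← tw_eq, ← tw_eq, ← tw_add, show n + 4 - d + (d - 4) = n by ring]

end Groth.Agent.S18048
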