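import Groth.Statements.S18049
import Mathlib.Tactic

set_option autoImplicit false
open STCI

namespace Groth.Agent.S18049

/-- For natural numbers 0 < k < N such that k does not divide N, ⌊N/k⌋ ≤ (N - k)/gcd(k, N); stated here
in the equivalent cleared form ⌊N/k⌋ · gcd(k, N) ≤ N - k. -/
theorem result (k N : ℕ) (hk : 0 < k) (hkN : k < N) (hndvd : ¬ k ∣ N) :
    N / k * Nat.gcd k N ≤ N - k := by
  obtain ⟨r, hr, hN⟩ : ∃ r, r = N % k ∧ k * (N / k) + r = N := ⟨_, rfl, Nat.div_add_mod N k⟩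
  set q := N / k
  set g := Nat.gcd k N
  have hr0 : 0 < r := by
    rcases Nat.eq_zero_or_pos r with h | h
    · exact absurd (Nat.dvd_of_mod_eq_zero (hr ▸ h)) hndvd
    · exact h
  have hgk : g ≤ k := Nat.le_of_dvd hk (Nat.gcd_dvd_left k N)
  have hgr : g ≤ r := Nat.le_of_dvd hr0 (hr ▸ (Nat.dvd_mod_iff (Nat.gcd_dvd_left k N)).2 (Nat.gcd_dvd_right k N))
  have hq : 0 < q := Nat.div_pos hkN.le hk
  obtain ⟨p, hp⟩ := Nat.exists_eq_add_of_le hq
  rw [hp] at hN ⊢
  have h1 : p * g ≤ p * k := Nat.mul_le_mul_left p hgk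
  apply Nat.le_sub_of_add_le
  nlinarith

end Groth.Agent.S18049
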