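import Groth.Statements.S18050
import Mathlib.Tactic

set_option autoImplicit false
open STCI

namespace Groth.Agent.S18050

open W4c5stcicurvesp3 in
/-- Let k ≤ N be positive integers, let t be the least positive integer with rem_t(N, k) = 0, where
rem_0 = k, rem_1 = N mod k and rem_i is the remainder of rem_{i-2} by rem_{i-1} (iterated Euclidean
remainders), and let d_i be the corresponding iterated quotients (d_1 = ⌊N/k⌋, d_i =
⌊rem_{i-2}/rem_{i-1}⌋). Then d_1 + ⋯ + d_t ≤ N/gcd(k, N); stated in the cleared form (d_1 + ⋯ + d_t)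
· gcd(k, N) ≤ N. -/
theorem result (k N t : ℕ) (hk : 0 < k) (hkN : k ≤ N) (ht : 0 < t)
    (hzero : irem N k t = 0) (hmin : ∀ i, 0 < i → i < t → irem N k i ≠ 0) :
    (∑ i ∈ Finset.Icc 1 t, idiv N k i) * Nat.gcd k N ≤ N := by
  have main : ∀ t a b : ℕ, 0 < b → b ≤ a → 0 < t → irem a b t = 0 →
      (∀ i, 0 < i → i < t → irem a b i ≠ 0) →
      (∑ i ∈ Finset.Icc 1 t, idiv a b i) * Nat.gcd b a ≤ a := by
    intro t
    induction t with
    | zero => intro a b _ _ h; omega
    | succ t ih =>
      intro a b hb hba _ hz hm
      have hgb : Nat.gcd b a ≤ b := Nat.le_of_dvd hb (Nat.gcd_dvd_left b a)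
      rcases Nat.eq_zero_or_pos t with rfl | ht
      · simp only [zero_add, Finset.Icc_self, Finset.sum_singleton]
        show a / b * Nat.gcd b a ≤ a
        exact (Nat.mul_le_mul_left _ hgb).trans (Nat.div_mul_le_self a b)
      have hr : a % b ≠ 0 := hm 1 one_pos (by omega)
      have hrec : ∀ n, irem a b (n + 1) = irem b (a % b) n := by
        intro n
        induction n using Nat.strong_induction_on with
        | _ n ihn =>
          match n with
          | 0 => rfl
          | 1 => show (if a % b = 0 then 0 else b % (a % b)) = b % (a % b); rw [if_neg hr]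
          | m + 2 =>
            show (if irem a b (m + 2) = 0 then 0 else irem a b (m + 1) % irem a b (m + 2)) = _
            rw [ihn (m + 1) (by omega), ihn m (by omega)]; rfl
      have hdiv : ∀ n, idiv a b (n + 2) = idiv b (a % b) (n + 1) := by
        intro n
        match n with
        | 0 => show (if a % b = 0 then 0 else b / (a % b)) = b / (a % b); rw [if_neg hr]
        | m + 1 =>
          show (if irem a b (m + 2) = 0 then 0 else irem a b (m + 1) / irem a b (m + 2)) = _
          rw [hrec (m + 1), hrec m]; rfl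
      have hrb : a % b < b := Nat.mod_lt a hb
      have h := ih b (a % b) (Nat.pos_of_ne_zero hr) hrb.le ht (by rw [← hrec]; exact hz)
        (fun i hi hit => by rw [← hrec]; exact hm (i + 1) (by omega) (by omega))
      rw [← Nat.gcd_rec b a] at h
      have hsum : ∑ i ∈ Finset.Icc 1 (t + 1), idiv a b i = a / b + ∑ i ∈ Finset.Icc 1 t, idiv b (a % b) i := by
        rw [← Finset.Ico_add_one_right_eq_Icc, ← Finset.Ico_add_one_right_eq_Icc,
          Finset.sum_Ico_eq_sum_range, Finset.sum_Ico_eq_sum_range]
        simp only [Nat.add_sub_cancel]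
        rw [Finset.sum_range_succ', add_comm]
        congr 1
        refine Finset.sum_congr rfl fun i _ => ?_
        rw [show 1 + (i + 1) = i + 2 by ring, show 1 + i = i + 1 by ring]; exact hdiv i
      rw [hsum, add_mul]
      have hg : Nat.gcd b a ≤ a % b := Nat.le_of_dvd (Nat.pos_of_ne_zero hr)
        ((Nat.dvd_mod_iff (Nat.gcd_dvd_left b a)).2 (Nat.gcd_dvd_right b a))
      obtain ⟨p, hp⟩ := Nat.exists_eq_add_of_le (Nat.div_pos hba hb)
      have h0 := Nat.div_add_mod a b
      have hpg : p * Nat.gcd b a ≤ p * b := Nat.mul_le_mul_left p hgb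
      rw [hp] at h0 ⊢
      nlinarith
  exact main t N k hk hkN ht hzero hmin

end Groth.Agent.S18050
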