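import Groth.Statements.S18051
import Mathlib.Tactic

set_option autoImplicit false
open STCI

namespace Groth.Agent.S18051

open W4c5stcicurvesp3 in
/-- Let k ≤ N/2 be positive integers and let r_i = rem_i(N, k), d_i = div_i(N, k) be the iterated
Euclidean remainders and quotients of (N, k) (r_0 = k, r_1 = N mod k, r_2 = r_0 mod r_1, d_1 =
⌊N/k⌋, d_2 = ⌊r_0/r_1⌋). If the least positive t with r_t = 0 satisfies t ≥ 3, i.e. r_1 ≠ 0 and r_2
≠ 0, then (r_0 - r_1)/d_1 + (r_1 - r_2)/(d_1 + d_2) + r_2/(d_1 + d_2 + 1) ≤ k²/N (in ℚ). -/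
theorem result (k N : ℕ) (hk : 0 < k) (hkN : 2 * k ≤ N)
    (h1 : irem N k 1 ≠ 0) (h2 : irem N k 2 ≠ 0) :
    ((irem N k 0 : ℚ) - irem N k 1) / (idiv N k 1)
      + ((irem N k 1 : ℚ) - irem N k 2) / ((idiv N k 1 : ℚ) + idiv N k 2)
      + (irem N k 2 : ℚ) / ((idiv N k 1 : ℚ) + idiv N k 2 + 1)
      ≤ (k : ℚ) ^ 2 / N := by
  have h0 : (k : ℚ) = idiv N k 2 * irem N k 1 + irem N k 2 := by
    have e1 : irem N k 2 = k % (N % k) := if_neg h1
    have e2 : idiv N k 2 = k / (N % k) := if_neg h1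
    rw [e1, e2]
    exact_mod_cast ((Nat.mul_comm (k / (N % k)) (N % k)).symm ▸ (Nat.div_add_mod k (N % k))).symm
  have hN : (N : ℚ) = idiv N k 1 * k + irem N k 1 := by
    show (N : ℚ) = (N / k : ℕ) * k + (N % k : ℕ)
    exact_mod_cast ((Nat.mul_comm (N / k) k).symm ▸ (Nat.div_add_mod N k)).symm
  have ha : (2 : ℚ) ≤ idiv N k 1 := Nat.ofNat_le_cast.2 ((Nat.le_div_iff_mul_le hk).2 hkN)
  have e2 : idiv N k 2 = k / (N % k) := if_neg h1
  have hb : (1 : ℚ) ≤ idiv N k 2 := by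
    rw [e2]; exact Nat.one_le_cast.2 (Nat.div_pos (Nat.mod_lt N hk).le (Nat.pos_of_ne_zero h1))
  have hy : (0 : ℚ) < irem N k 2 := Nat.cast_pos.2 (Nat.pos_of_ne_zero h2)
  have hxy : (irem N k 2 : ℚ) < irem N k 1 := Nat.cast_lt.2 (by
    show (if N % k = 0 then 0 else k % (N % k)) < N % k
    rw [if_neg (show N % k ≠ 0 from h1)]
    exact Nat.mod_lt _ (Nat.pos_of_ne_zero h1))
  show ((k : ℚ) - _) / _ + _ + _ ≤ _
  rw [hN, h0]
  generalize (idiv N k 1 : ℚ) = a at *
  generalize (idiv N k 2 : ℚ) = b at *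
  generalize (irem N k 1 : ℚ) = x at *
  generalize (irem N k 2 : ℚ) = y at *
  have hx : 0 < x := by linarith
  have hkx : 0 < a * (b * x + y) + x := by nlinarith
  have key : 0 ≤ x * ((b * x) * (a - 1) * (b - 1) + y * (a * b - a - b)) * (a + b + 1)
      + y * a * (a * (b * x + y) + x) := by
    have h' : 0 ≤ (a - 1) * (b - 1) := mul_nonneg (by linarith) (by linarith)
    have t1 : 0 ≤ x * (b * x) * ((a - 1) * (b - 1)) * (a + b + 1) := by positivity
    have t2 : 0 ≤ x * y * ((a - 1) * (b - 1)) * (a + b + 1) := by positivity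
    have t3 : 0 ≤ x * y * (b * ((a - 2) * (a + 2)) + 3 * (b - 1) + 2) :=
      mul_nonneg (by positivity) (add_nonneg (add_nonneg (mul_nonneg (by linarith)
        (mul_nonneg (by linarith) (by linarith))) (by linarith)) (by norm_num))
    have t4 : 0 ≤ y * y * (a * a) := by positivity
    linear_combination t1 + t2 + t3 + t4
  rw [div_add_div _ _ (by positivity) (by positivity), div_add_div _ _ (by positivity) (by positivity),
    div_le_div_iff₀ (by positivity) hkx]
  nlinarith [key]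

end Groth.Agent.S18051
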