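import Groth.Statements.S18052
import Mathlib.Tactic

set_option autoImplicit false
open STCI

namespace Groth.Agent.S18052

open W4c5stcicurvesp3 in
/-- Let k ≤ N/2 be positive integers, let r_i = rem_i(N, k) and d_i = div_i(N, k) be the iterated
Euclidean remainders and quotients of (N, k) (r_0 = k, r_1 = N mod k, …; d_1 = ⌊N/k⌋, d_i =
⌊r_{i-2}/r_{i-1}⌋), and let t be the least positive integer with r_t = 0. Then the sum over i = 0,
…, t - 1 of (r_i - r_{i+1})/(d_1 + ⋯ + d_{i+1}) is at most k²/N (in ℚ). -/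
theorem result (k N t : ℕ) (hk : 0 < k) (hkN : 2 * k ≤ N) (ht : 0 < t)
    (hzero : irem N k t = 0) (hmin : ∀ i, 0 < i → i < t → irem N k i ≠ 0) :
    ∑ i ∈ Finset.range t, ((irem N k i : ℚ) - irem N k (i + 1)) / (∑ j ∈ Finset.Icc 1 (i + 1), (idiv N k j : ℚ))
      ≤ (k : ℚ) ^ 2 / N := by
  have main : ∀ t : ℕ, ∀ (a b : ℕ) (c : ℚ), 0 ≤ c → 0 < b → b ≤ a → 0 < t → irem a b t = 0 →
      (∀ i, 0 < i → i < t → irem a b i ≠ 0) →
      ∑ i ∈ Finset.range t, ((irem a b i : ℚ) - irem a b (i + 1)) /
          (c + ∑ j ∈ Finset.range (i + 1), (idiv a b (j + 1) : ℚ))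
        ≤ (b : ℚ) ^ 2 / (a + c * b) := by
    intro t
    induction t with
    | zero => intro a b c _ _ _ h; omega
    | succ t ih =>
      intro a b c hc hb hba _ hz hm
      have hbq : (0 : ℚ) < b := Nat.cast_pos.2 hb
      have hN : (b : ℚ) * (a / b : ℕ) + (a % b : ℕ) = a := by exact_mod_cast Nat.div_add_mod a b
      have hd : (1 : ℚ) ≤ (a / b : ℕ) := Nat.one_le_cast.2 (Nat.div_pos hba hb)
      have he : 0 < c + (a / b : ℕ) := by linarith
      rcases Nat.eq_zero_or_pos t with rfl | ht
      · have hr : a % b = 0 := hz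
        simp only [zero_add, Finset.sum_range_one]
        show ((b : ℚ) - (a % b : ℕ)) / (c + (a / b : ℕ)) ≤ _
        rw [hr, Nat.cast_zero, sub_zero, ← hN, hr, Nat.cast_zero, add_zero]
        apply le_of_eq
        field_simp
        ring
      have hr : a % b ≠ 0 := hm 1 one_pos (by omega)
      have hrec : ∀ n, irem a b (n + 1) = irem b (a % b) n := by
        intro n
        induction n using Nat.strong_induction_on with
        | _ n ihn =>
          match n with
          | 0 => rfl
          | 1 => show (if a % b = 0 then 0 else b % (a % b)) = b % (a % b); rw [if_neg hr]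
          | m + 2 =>
            show (if irem a b (m + 2) = 0 then 0 else irem a b (m + 1) % irem a b (m + 2)) = _
            rw [ihn (m + 1) (by omega), ihn m (by omega)]; rfl
      have hdiv : ∀ n, idiv a b (n + 2) = idiv b (a % b) (n + 1) := by
        intro n
        match n with
        | 0 => show (if a % b = 0 then 0 else b / (a % b)) = b / (a % b); rw [if_neg hr]
        | m + 1 =>
          show (if irem a b (m + 2) = 0 then 0 else irem a b (m + 1) / irem a b (m + 2)) = _
          rw [hrec (m + 1), hrec m]; rfl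
      have hrq : (0 : ℚ) < (a % b : ℕ) := Nat.cast_pos.2 (Nat.pos_of_ne_zero hr)
      have hrb : ((a % b : ℕ) : ℚ) < b := Nat.cast_lt.2 (Nat.mod_lt a hb)
      have h := ih b (a % b) (c + (a / b : ℕ)) he.le (Nat.pos_of_ne_zero hr) (Nat.mod_lt a hb).le ht
        (by rw [← hrec]; exact hz)
        (fun i hi hit => by rw [← hrec]; exact hm (i + 1) (by omega) (by omega))
      rw [Finset.sum_range_succ']
      simp only [zero_add, Finset.sum_range_one]
      show _ + ((b : ℚ) - (a % b : ℕ)) / (c + (a / b : ℕ)) ≤ _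
      have hs : ∀ i, c + ∑ j ∈ Finset.range (i + 1 + 1), (idiv a b (j + 1) : ℚ) =
          c + (a / b : ℕ) + ∑ j ∈ Finset.range (i + 1), (idiv b (a % b) (j + 1) : ℚ) := by
        intro i
        rw [Finset.sum_range_succ', Finset.sum_congr rfl fun j _ => by rw [hdiv j]]
        show c + (_ + ((a / b : ℕ) : ℚ)) = _
        ring
      simp only [hrec, hs]
      refine (add_le_add_left h _ |> fun h' => by linarith [h] : _ ≤ ((a % b : ℕ) : ℚ) ^ 2 /
        (b + (c + (a / b : ℕ)) * (a % b : ℕ)) + ((b : ℚ) - (a % b : ℕ)) / (c + (a / b : ℕ))).trans ?_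
      rw [← hN]
      generalize hq : (((a / b : ℕ) : ℚ)) = d at *
      generalize hq' : (((a % b : ℕ) : ℚ)) = r at *
      rw [div_add_div _ _ (by positivity) he.ne', div_le_div_iff₀ (by positivity) (by positivity)]
      have h1 : 0 ≤ (b : ℚ) * r * (((c + d) - 1) * ((b : ℚ) - r)) :=
        mul_nonneg (mul_nonneg hbq.le hrq.le) (mul_nonneg (by linarith) (by linarith))
      nlinarith [h1]
  have h := main t N k 0 le_rfl hk (by omega) ht hzero hmin
  simp only [zero_mul, add_zero, zero_add] at h
  refine le_of_eq_of_le (Finset.sum_congr rfl fun i _ => ?_) h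
  congr 1
  rw [← Finset.Ico_add_one_right_eq_Icc, Finset.sum_Ico_eq_sum_range, Nat.add_sub_cancel]
  exact Finset.sum_congr rfl fun j _ => by rw [add_comm]

end Groth.Agent.S18052
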