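import Groth.Statements.S18053
import Mathlib.Tactic

set_option autoImplicit false
open STCI

namespace Groth.Agent.S18053

/-- Let (p_k)_{k ≥ 1} be a sequence of nonnegative integers and n a nonnegative integer such that (i)
p_1 ≤ 9 - (2/5)n, (ii) p_1 ≥ p_2 ≥ p_3 ≥ ⋯, (iii) Σ_k p_k ≤ 19 - n, and (iv) n/4 + Σ_{k ≥ 1}
p_k/(k(k+1)) ≥ 6. Then n = 0 and (p_k) is one of (9, 8, 2), (9, 9), (9, 9, 1) (followed by zeros).
Here the sequence is indexed from 0 (so p 0 is p_1 and the weight of p k is 1/((k+1)(k+2))), (iii)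
is stated for every partial sum, and the series in (iv) is the real sum Σ' over all k. -/
theorem result (p : ℕ → ℕ) (n : ℕ)
    (h1 : (p 0 : ℝ) ≤ 9 - (2 / 5 : ℝ) * n) (h2 : Antitone p)
    (h3 : ∀ m : ℕ, ((∑ k ∈ Finset.range m, p k : ℕ) : ℝ) ≤ 19 - (n : ℝ))
    (h4 : (6 : ℝ) ≤ (n : ℝ) / 4 + ∑' k : ℕ, (p k : ℝ) / (((k : ℝ) + 1) * ((k : ℝ) + 2))) :
    n = 0 ∧ (p = (fun k => if k = 0 then 9 else if k = 1 then 8 else if k = 2 then 2 else 0)
      ∨ p = (fun k => if k = 0 then 9 else if k = 1 then 9 else 0)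
      ∨ p = (fun k => if k = 0 then 9 else if k = 1 then 9 else if k = 2 then 1 else 0)) := by
  have hp19 : ∀ k, 19 ≤ k → p k = 0 := by
    intro k hk
    by_contra hne
    have h := h3 (k + 1)
    have h' : (k + 1) * p k ≤ ∑ j ∈ Finset.range (k + 1), p j := by
      rw [← smul_eq_mul, ← Finset.card_range (k + 1), ← Finset.sum_const]
      rw [Finset.card_range]
      exact Finset.sum_le_sum fun j hj => h2 (by simp at hj; omega)
    have : k + 1 ≤ ∑ j ∈ Finset.range (k + 1), p j :=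
      le_trans (Nat.le_mul_of_pos_right _ (Nat.pos_of_ne_zero hne)) h'
    have hc : ((k + 1 : ℕ) : ℝ) ≤ ((∑ j ∈ Finset.range (k + 1), p j : ℕ) : ℝ) := Nat.cast_le.2 this
    have hk' : (19 : ℝ) ≤ k := Nat.ofNat_le_cast.2 hk
    have hn : (0 : ℝ) ≤ n := Nat.cast_nonneg n
    push_cast at hc h
    linarith
  rw [tsum_eq_sum (s := Finset.range 19) fun k hk => by
    rw [hp19 k (by simpa using hk)]; simp] at h4
  have h19 := h3 19
  push_cast at h19
  simp only [Finset.sum_range_succ, Finset.sum_range_zero] at h4 h19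
  norm_num at h4 h19
  have a1 : p 1 ≤ p 0 := h2 (by omega)
  have a2 : p 2 ≤ p 1 := h2 (by omega)
  have a1' : (p 1 : ℝ) ≤ p 0 := Nat.cast_le.2 a1
  have nn : ∀ k, (0 : ℝ) ≤ p k := fun k => Nat.cast_nonneg _
  have key : 53 ≤ 2 * n + 5 * p 0 + p 1 := by
    have : (53 : ℝ) ≤ 2 * n + 5 * p 0 + p 1 := by
      linarith [nn 3, nn 4, nn 5, nn 6, nn 7, nn 8, nn 9, nn 10, nn 11, nn 12, nn 13, nn 14, nn 15, nn 16, nn 17, nn 18]
    exact_mod_cast this
  have hb : 5 * p 0 + 2 * n ≤ 45 := by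
    have : (5 : ℝ) * p 0 + 2 * n ≤ 45 := by linarith
    exact_mod_cast this
  obtain ⟨rfl, hp0⟩ : n = 0 ∧ p 0 = 9 := by omega
  refine ⟨rfl, ?_⟩
  have hp1 : p 1 = 8 ∨ p 1 = 9 := by omega
  simp only [hp0, Nat.cast_ofNat, Nat.cast_zero] at h4 h19
  rcases hp1 with hp1 | hp1
  · simp only [hp1, Nat.cast_ofNat] at h4 h19
    have hp2 : (2 : ℝ) ≤ p 2 := by
      linarith [nn 4, nn 5, nn 6, nn 7, nn 8, nn 9, nn 10, nn 11, nn 12, nn 13, nn 14, nn 15, nn 16, nn 17, nn 18]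
    have hp3 : p 3 = 0 := by
      have : (p 3 : ℝ) ≤ 0 := by
        linarith [nn 4, nn 5, nn 6, nn 7, nn 8, nn 9, nn 10, nn 11, nn 12, nn 13, nn 14, nn 15, nn 16, nn 17, nn 18]
      exact_mod_cast le_antisymm this (nn 3)
    have hp2' : p 2 = 2 := by
      have : (p 2 : ℝ) ≤ 2 := by
        linarith [nn 3, nn 4, nn 5, nn 6, nn 7, nn 8, nn 9, nn 10, nn 11, nn 12, nn 13, nn 14, nn 15, nn 16, nn 17, nn 18]
      exact_mod_cast le_antisymm this hp2
    left
    funext k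
    match k with
    | 0 => simpa using hp0
    | 1 => simpa using hp1
    | 2 => simpa using hp2'
    | j + 3 => simpa using Nat.eq_zero_of_le_zero (hp3 ▸ h2 (by omega : 3 ≤ j + 3))
  · simp only [hp1, Nat.cast_ofNat] at h4 h19
    have hp2 : p 2 ≤ 1 := by
      have : (p 2 : ℝ) ≤ 1 := by
        linarith [nn 3, nn 4, nn 5, nn 6, nn 7, nn 8, nn 9, nn 10, nn 11, nn 12, nn 13, nn 14, nn 15, nn 16, nn 17, nn 18]
      exact_mod_cast this
    have hp3 : p 3 = 0 := by
      have h23 : p 3 ≤ p 2 := h2 (by omega)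
      have : (p 2 : ℝ) + p 3 ≤ 1 := by
        linarith [nn 4, nn 5, nn 6, nn 7, nn 8, nn 9, nn 10, nn 11, nn 12, nn 13, nn 14, nn 15, nn 16, nn 17, nn 18]
      have : p 2 + p 3 ≤ 1 := by exact_mod_cast this
      omega
    right
    rcases Nat.le_one_iff_eq_zero_or_eq_one.1 hp2 with h | h
    · left
      funext k
      match k with
      | 0 => simpa using hp0
      | 1 => simpa using hp1
      | j + 2 => simpa using Nat.eq_zero_of_le_zero (h ▸ h2 (by omega : 2 ≤ j + 2))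
    · right
      funext k
      match k with
      | 0 => simpa using hp0
      | 1 => simpa using hp1
      | 2 => simpa using h
      | j + 3 => simpa using Nat.eq_zero_of_le_zero (hp3 ▸ h2 (by omega : 3 ≤ j + 3))

end Groth.Agent.S18053
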