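import Groth.Statements.S18054
import Mathlib.Tactic

set_option autoImplicit false
open STCI

namespace Groth.Agent.S18054

/-- Let s, t, d, g be integers with t ≥ s ≥ 4, d ≥ 1, g ≥ 0 and d dividing st; put n = st/d and assume n
≥ 2; put r = d[n(s - 4) + t] + (2 - 2g)n and assume r ≤ (s/3)(2s² - 6s + 7) - 1. Then d ≤ g + 3.
(The bound is written cleared of the denominator 3; s(2s² - 6s + 7) is always divisible by 3, so
this is the same condition.) -/
theorem result (s t d g n : ℤ) (hs : 4 ≤ s) (hst : s ≤ t) (hd : 1 ≤ d) (hg : 0 ≤ g)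
    (hn : s * t = d * n) (hn2 : 2 ≤ n)
    (hr : 3 * (d * (n * (s - 4) + t) + (2 - 2 * g) * n) ≤ s * (2 * s ^ 2 - 6 * s + 7) - 3) :
    d ≤ g + 3 := by
  by_contra h
  push_neg at h
  have hd4 : g + 4 ≤ d := by omega
  have hn0 : 0 < n := by omega
  have h2g : (10 - 2 * d) * n ≤ (2 - 2 * g) * n := mul_le_mul_of_nonneg_right (by omega) hn0.le
  have hr' : 3 * (s * t * (s - 6) + d * t + 10 * n) ≤ s * (2 * s ^ 2 - 6 * s + 7) - 3 := by nlinarith
  have ht : 0 < t := by omega
  have hsq : 40 * s * t ^ 2 ≤ (d * t + 10 * n) ^ 2 := by nlinarith [sq_nonneg (d * t - 10 * n)]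
  have hpos : 0 < d * t + 10 * n := by nlinarith
  rcases (show s = 4 ∨ s = 5 ∨ 6 ≤ s by omega) with rfl | rfl | h6
  · rcases (show t = 4 ∨ 5 ≤ t by omega) with rfl | h5
    · have : d ≤ 8 := by nlinarith
      interval_cases d <;> omega
    · nlinarith
  · have : 14 * t ≤ d * t + 10 * n := by nlinarith
    nlinarith
  · have : 15 * t ≤ d * t + 10 * n := by nlinarith
    nlinarith [mul_le_mul_of_nonneg_left hst (by nlinarith : (0:ℤ) ≤ s * (s - 6) + 15),
      sq_nonneg (s - 6), mul_nonneg (by omega : (0:ℤ) ≤ s) (sq_nonneg (s - 6))]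

end Groth.Agent.S18054
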