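import Groth.Statements.S18055
import Mathlib.Tactic

set_option autoImplicit false
open STCI

namespace Groth.Agent.S18055

/-- Let d ≥ 1, g ≥ 0 and 1 ≤ s ≤ t be integers with d dividing st, put n = st/d and r = d[n(s - 4) + t]
+ (2 - 2g)n, and assume n ≥ 2, r > 0 and (n - 1) divides r. Then s < 2d² and t < 2d⁴. This is the
statement about the degree data (d, g the degree and genus of the curve, s ≤ t the degrees of the
two surfaces) to which the published proof reduces the degree bound: there the divisibility and
positivity express that r/(n - 1), the common value of the type numbers of the pair, is a positive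
integer; the geometric hypotheses themselves are not part of this row. -/
theorem result (d g s t n : ℤ) (hd : 1 ≤ d) (hg : 0 ≤ g) (hs : 1 ≤ s) (hst : s ≤ t)
    (hn : s * t = d * n) (hn2 : 2 ≤ n)
    (hpos : 0 < d * (n * (s - 4) + t) + (2 - 2 * g) * n)
    (hdvd : (n - 1) ∣ d * (n * (s - 4) + t) + (2 - 2 * g) * n) :
    s < 2 * d ^ 2 ∧ t < 2 * d ^ 4 := by
  set A := d * (s - 4) + 2 - 2 * g with hA
  have hr : d * (n * (s - 4) + t) + (2 - 2 * g) * n = n * A + d * t := by rw [hA]; ring
  rw [hr] at hpos hdvd
  have hn0 : 0 < n := by omega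
  have hdt : 0 < d * t := mul_pos (by omega) (by omega)
  have hdvd' : (n - 1) ∣ A + d * t := by
    have e : A + d * t = (n * A + d * t) - (n - 1) * A := by ring
    rw [e]; exact dvd_sub hdvd (dvd_mul_right _ _)
  have hM : 0 < A + d * t := by
    rcases le_or_gt 0 A with h | h
    · omega
    · nlinarith
  obtain ⟨m, hm⟩ := hdvd'
  have hm0 : 0 < m := by nlinarith
  have hAle : A ≤ d * (s - 4) + 2 := by omega
  have hn1 : n - 1 ≤ A + d * t := by rw [hm]; nlinarith
  have hs2 : s < 2 * d ^ 2 := by
    have : s * t < 2 * d ^ 2 * t := by nlinarith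
    exact lt_of_mul_lt_mul_right this (by omega)
  refine ⟨hs2, ?_⟩
  have hkey : t * (m * s - d ^ 2) = d * A + m * d := by
    have : d * (A + d * t) = m * (d * n - d) := by rw [hm]; ring
    rw [← hn] at this; linarith
  have hsA : 0 < s * A + d ^ 2 := by
    have h' : 0 < t * (s * A + d ^ 2) := by
      have e : t * (s * A + d ^ 2) = d * (n * A + d * t) := by
        linear_combination A * hn
      rw [e]; exact mul_pos (by omega) hpos
    exact pos_of_mul_pos_right h' (by omega)
  have ht : 0 < t := by omega
  have hd3 : d ^ 3 ≤ d ^ 4 := by nlinarith [pow_pos (by omega : 0 < d) 3]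
  rcases lt_trichotomy (m * s) (d ^ 2) with h | h | h
  · have h1 : t ≤ -(d * A) := by nlinarith [mul_le_mul_of_nonneg_left (show 1 ≤ d ^ 2 - m * s by omega) ht.le]
    have h2 : -(d * A) ≤ d ^ 3 := by
      rcases le_or_gt 0 A with ha | ha
      · nlinarith
      · nlinarith
    nlinarith
  · exfalso
    rw [h, sub_self, mul_zero] at hkey
    have hAm : A = -m := by nlinarith
    rw [hAm] at hsA
    linarith
  · have h1 : t ≤ d * A + m * d - (m * s - d ^ 2 - 1) := by
      nlinarith [mul_nonneg (show 0 ≤ t - 1 by omega) (show 0 ≤ m * s - d ^ 2 - 1 by omega)]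
    rcases le_or_gt s (d ^ 2) with hs' | hs'
    · have hmle : m ≤ m * s := le_mul_of_one_le_right hm0.le hs
      have hmd : m * d ≤ (m * s - d ^ 2) * d + d ^ 3 :=
        (mul_le_mul_of_nonneg_right hmle (by omega)).trans_eq (by ring)
      have hdA : d * A ≤ d * (d * (s - 4) + 2) := mul_le_mul_of_nonneg_left hAle (by omega)
      rcases le_or_gt t d with htd | htd
      · nlinarith [pow_pos (by omega : 0 < d) 4]
      · have h4 : (t - d) * (m * s - d ^ 2) ≤ d ^ 2 * (s - 4) + 2 * d + d ^ 3 := by linarith
        have h6 : t - d ≤ (t - d) * (m * s - d ^ 2) := le_mul_of_one_le_right (by omega) (by omega)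
        have h7 : d ^ 2 * s ≤ d ^ 2 * d ^ 2 := mul_le_mul_of_nonneg_left hs' (by positivity)
        nlinarith [pow_pos (by omega : 0 < d) 4, mul_pos (show (0:ℤ) < d by omega) (show (0:ℤ) < d by omega)]
    · have h5 : t * (s - d ^ 2) < d ^ 2 * s := by nlinarith
      nlinarith

end Groth.Agent.S18055
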