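import Groth.Statements.S18057
import Groth.Agent.ArtSmooth.Basic
import Groth.Agent.MorLib.FormallyEtaleHom
import Groth.Agent.H9Misc.RatFunLib

set_option autoImplicit false
universe u
open STCI

namespace Groth.Agent.S18057
open AlgebraicGeometry CategoryTheory in
theorem length_congr {X : Scheme.{u}} {x y : X} (h : x = y) :
    Module.length (X.presheaf.stalk x) (X.presheaf.stalk x) = Module.length (X.presheaf.stalk y) (X.presheaf.stalk y) := by
  subst h; rfl


open AlgebraicGeometry CategoryTheory in
/-- For a morphism f : X' → X between irreducible Noetherian schemes that is flat and formally smooth,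
with X defined over a field (rendered: the ring of global sections of X contains a subring that is a
field, which for nonempty X is the same as giving a morphism from X to the spectrum of a field), the
local rings of X' and X at their generic points η', η (Artinian local rings) satisfy length
O_{X',η'} = length O_{X,η}. Formal smoothness is the infinitesimal lifting property against
square-zero thickenings of affine schemes. -/
theorem result {X' X : Scheme.{u}} (f : X' ⟶ X)
    [IrreducibleSpace ↥X'] [IrreducibleSpace ↥X] [IsNoetherian X'] [IsNoetherian X] [Flat f]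
    (hf : MoreMor.IsFormallySmoothHom f) (hK : ∃ K : Subring Γ(X, ⊤), IsField K) :
    Module.length (X'.presheaf.stalk (genericPoint X')) (X'.presheaf.stalk (genericPoint X'))
      = Module.length (X.presheaf.stalk (genericPoint X)) (X.presheaf.stalk (genericPoint X)) := by
  clear hK
  let η' := genericPoint X'
  have hmax : ∀ y, y ⤳ η' → y = η' := H9Misc.RatFunLib.eq_genericPoint
  have hη : f η' = genericPoint X := by
    obtain ⟨x', hx', he⟩ := (AlgebraicGeometry.Flat.generalizingMap f) (genericPoint_specializes (f η'))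
    rw [← he, hmax x' hx']
  rw [length_congr hη.symm]
  haveI : IsArtinianRing (X'.presheaf.stalk η') := H9Misc.RatFunLib.isArtinianRing_stalk _ hmax
  haveI : IsArtinianRing (X.presheaf.stalk (f η')) :=
    H9Misc.RatFunLib.isArtinianRing_stalk _ fun y hy => hη.symm ▸ H9Misc.RatFunLib.eq_genericPoint y (hη ▸ hy)
  obtain ⟨V, hV, hyV, -⟩ := AlgebraicGeometry.exists_isAffineOpen_mem_and_subset (x := f η') (U := (⊤ : X.Opens)) trivial
  obtain ⟨U, hU, hxU, hUV⟩ :=
    AlgebraicGeometry.exists_isAffineOpen_mem_and_subset (x := η') (U := f ⁻¹ᵁ V) hyV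
  let φ := f.appLE V U hUV
  letI : Algebra Γ(X, V) Γ(X', U) := φ.hom.toAlgebra
  haveI : Algebra.FormallySmooth Γ(X, V) Γ(X', U) :=
    MorLib.formallySmooth_of_isFormallySmoothHom_SpecMap φ
      (MorLib.isFormallySmoothHom_of_square (hV.SpecMap_appLE_fromSpec f hU hUV) hf)
  letI : Algebra Γ(X, V) (X.presheaf.stalk (f η')) := (X.presheaf.germ V _ hyV).hom.toAlgebra
  letI : Algebra Γ(X', U) (X'.presheaf.stalk η') := (X'.presheaf.germ U _ hxU).hom.toAlgebra
  letI : Algebra (X.presheaf.stalk (f η')) (X'.presheaf.stalk η') := (f.stalkMap η').hom.toAlgebra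
  letI : Algebra Γ(X, V) (X'.presheaf.stalk η') :=
    ((algebraMap Γ(X', U) (X'.presheaf.stalk η')).comp (algebraMap Γ(X, V) Γ(X', U))).toAlgebra
  haveI : IsScalarTower Γ(X, V) Γ(X', U) (X'.presheaf.stalk η') := IsScalarTower.of_algebraMap_eq fun _ => rfl
  haveI : IsScalarTower Γ(X, V) (X.presheaf.stalk (f η')) (X'.presheaf.stalk η') :=
    IsScalarTower.of_algebraMap_eq' (by
      show (X'.presheaf.germ U η' hxU).hom.comp φ.hom = (f.stalkMap η').hom.comp (X.presheaf.germ V (f η') hyV).hom
      rw [← CommRingCat.hom_comp, ← CommRingCat.hom_comp]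
      refine congrArg CommRingCat.Hom.hom ?_
      rw [f.germ_stalkMap]
      simp [φ, AlgebraicGeometry.Scheme.Hom.appLE, X'.presheaf.germ_res])
  haveI := hU.isLocalization_stalk ⟨η', hxU⟩
  haveI := hV.isLocalization_stalk ⟨f η', hyV⟩
  haveI : Algebra.FormallySmooth Γ(X', U) (X'.presheaf.stalk η') :=
    Algebra.FormallySmooth.of_isLocalization (hU.primeIdealOf ⟨η', hxU⟩).asIdeal.primeCompl
  haveI : Algebra.FormallySmooth Γ(X, V) (X'.presheaf.stalk η') :=
    Algebra.FormallySmooth.comp Γ(X, V) Γ(X', U) _
  haveI : Algebra.FormallySmooth (X.presheaf.stalk (f η')) (X'.presheaf.stalk η') :=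
    Algebra.FormallySmooth.localization_base (hV.primeIdealOf ⟨f η', hyV⟩).asIdeal.primeCompl
  haveI : Module.Flat (X.presheaf.stalk (f η')) (X'.presheaf.stalk η') := AlgebraicGeometry.Flat.stalkMap f η'
  exact (ArtSmooth.length_eq (X.presheaf.stalk (f η')) (X'.presheaf.stalk η')).symm


end Groth.Agent.S18057
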