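import Groth.Statements.S18062
import Groth.Agent.CoradFil.TrigDVR
-- import your own Groth.Agent.* helpers here

set_option autoImplicit false
universe u
open scoped TensorProduct
open HopfRep

namespace Groth.Agent.S18062

/-- A is a discrete valuation ring, K denotes its field of fractions and k its residue field, and G =
Spec H a flat affine A-group scheme of finite presentation, H being a flat, finitely presented
commutative Hopf algebra over A. If the generic fibre G_K is trigonalizable (every simple
finite-dimensional representation is one-dimensional), then so is the special fibre G_k. -/
theorem result (A : Type u) [CommRing A] [IsDomain A] [IsDiscreteValuationRing A]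
    (K : Type u) [Field K] [Algebra A K] [IsFractionRing A K]
    (H : Type u) [CommRing H] [HopfAlgebra A H] [Module.Flat A H] [Algebra.FinitePresentation A H]
    (hK : HopfRep.IsTrigonalizable K (K ⊗[A] H)) :
    HopfRep.IsTrigonalizable (IsLocalRing.ResidueField A) (IsLocalRing.ResidueField A ⊗[A] H) := by
  exact Groth.Agent.CoradFil.isTrigonalizable_of_exh
    (Groth.Agent.CoradFil.exh_glSpan_of_trig_fibre K (IsLocalRing.ResidueField A) hK)

end Groth.Agent.S18062
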