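import Groth.Statements.S18063
import Groth.Agent.GrpSchLib.GenericFibreExt
import Groth.Agent.DSPtsLib.Basic


set_option autoImplicit false
universe u
open CategoryTheory MonoidalCategory CartesianMonoidalCategory MonObj GrpObj AlgebraicGeometry CategoryTheory.Limits
open AlgGrp

namespace Groth.Agent.S18063

/-- A is a discrete valuation ring, K denotes its field of fractions and k its residue field, and G is
an A-group scheme that is flat, separated and of finite presentation. If the generic fibre G_K is
commutative, then the special fibre G_k is commutative. (The published statement does not require G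
separated over A, and its proof argues by density of the generic fibre; without separatedness the
conclusion fails: gluing copies of Spec A indexed by a finite non-abelian group along their common
generic point gives a flat group scheme of finite presentation over A whose generic fibre is the
trivial group and whose special fibre is that non-abelian constant group. So G is taken separated
here.) -/
theorem result (A : Type u) [CommRing A] [IsDomain A] [IsDiscreteValuationRing A]
    (K : Type u) [Field K] [Algebra A K] [IsFractionRing A K]
    (G : Over (Spec (CommRingCat.of A))) [GrpObj G] [Flat G.hom] [LocallyOfFinitePresentation G.hom] [QuasiCompact G.hom]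
    [IsSeparated G.hom] [IsCommMonObj (Red.bc (Spec.map (CommRingCat.ofHom (algebraMap A K))) G)] :
    IsCommMonObj (Red.bc (Spec.map (CommRingCat.ofHom (algebraMap A (IsLocalRing.ResidueField A)))) G) := by
  let q := Spec.map (CommRingCat.ofHom (algebraMap A K))
  have hinj : Function.Injective (algebraMap A K) := IsFractionRing.injective A K
  haveI : Flat (G ⊗ G).hom := inferInstanceAs (Flat (Limits.pullback.fst G.hom G.hom ≫ G.hom))
  let W := G ⊗ G
  let Y : Over (Spec (CommRingCat.of K)) := Over.mk (Limits.pullback.snd W.hom q)
  let p : (Over.map q).obj Y ⟶ W := Over.homMk (Limits.pullback.fst W.hom q) (by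
    show Limits.pullback.fst W.hom q ≫ W.hom = Limits.pullback.snd W.hom q ≫ q
    exact Limits.pullback.condition)
  obtain ⟨a₀, ha⟩ := (DSPtsLib.theta_bijective (H := G) (Y := Y) q).2 (p ≫ fst G G)
  obtain ⟨b₀, hb⟩ := (DSPtsLib.theta_bijective (H := G) (Y := Y) q).2 (p ≫ snd G G)
  have hc : (p ≫ fst G G) * (p ≫ snd G G) = (p ≫ snd G G) * (p ≫ fst G G) := by
    rw [← ha, ← hb, ← DSPtsLib.theta_mul, ← DSPtsLib.theta_mul, _root_.mul_comm a₀ b₀]
  have key : fst G G * snd G G = snd G G * fst G G := by
    refine GrpSchLib.hom_ext_of_generic (K := K) hinj _ _ ?_
    have := congrArg CommaMorphism.left hc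
    rw [← MonObj.comp_mul, ← MonObj.comp_mul] at this
    exact this
  haveI : IsCommMonObj G := ⟨by
    rw [Hom.mul_def, Hom.mul_def] at key
    rw [CartesianMonoidalCategory.lift_fst_snd, Category.id_comp] at key
    refine Eq.trans ?_ key.symm
    congr 1⟩
  infer_instance

end Groth.Agent.S18063
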