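import Groth.Statements.S18069
import Groth.Agent.GrpSchLib.AntiAffineHom


set_option autoImplicit false
universe u
open CategoryTheory MonoidalCategory CartesianMonoidalCategory MonObj GrpObj AlgebraicGeometry CategoryTheory.Limits
open AlgGrp

namespace Groth.Agent.S18069

open Groth.Agent.GrpSchLib

/-- Let k be a field and G₁, G₂ connected k-group schemes of finite type. Then G₁ × G₂ is anti-affine,
i.e. O(G₁ × G₂) = k, if and only if G₁ and G₂ are both anti-affine. -/
theorem result (k : Type u) [Field k]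
    (G₁ G₂ : Over (Spec (CommRingCat.of k))) [GrpObj G₁] [LocallyOfFiniteType G₁.hom] [QuasiCompact G₁.hom] [ConnectedSpace ↥G₁.left]
    [GrpObj G₂] [LocallyOfFiniteType G₂.hom] [QuasiCompact G₂.hom] [ConnectedSpace ↥G₂.left] :
    Function.Bijective ((Scheme.ΓSpecIso (CommRingCat.of k)).inv ≫ (G₁ ⊗ G₂).hom.appTop).hom ↔
      Function.Bijective ((Scheme.ΓSpecIso (CommRingCat.of k)).inv ≫ G₁.hom.appTop).hom ∧ Function.Bijective ((Scheme.ΓSpecIso (CommRingCat.of k)).inv ≫ G₂.hom.appTop).hom := by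
  rw [AntiAffine.bijective_appTop_iff, AntiAffine.bijective_appTop_iff, AntiAffine.bijective_appTop_iff]
  haveI := AntiAffine.isSeparated_grp G₁
  haveI := AntiAffine.isSeparated_grp G₂
  have key : ∀ (A B : Over (Spec (CommRingCat.of k))) [GrpObj A] [GrpObj B] (p : A ⊗ B ⟶ A)
      (s : A ⟶ A ⊗ B), s ≫ p = 𝟙 A → Function.Bijective (A ⊗ B).hom.appTop → Function.Bijective A.hom.appTop := by
    intro A B _ _ p s hs hb
    have hinj : Function.Injective A.hom.appTop := by
      have h0 : A.hom.appTop ≫ (η[A]).left.appTop = 𝟙 _ := by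
        rw [← Scheme.Hom.comp_appTop, show (η[A]).left ≫ A.hom = 𝟙 _ from Over.w η[A]]; rfl
      exact Function.LeftInverse.injective (g := (η[A]).left.appTop) fun c => congr($h0 c)
    refine ⟨hinj, fun z => ?_⟩
    obtain ⟨c, hc⟩ := hb.2 (p.left.appTop z)
    refine ⟨c, ?_⟩
    have e1 : (A ⊗ B).hom.appTop = A.hom.appTop ≫ p.left.appTop := by
      rw [← Scheme.Hom.comp_appTop, Over.w p]
    have h0 : p.left.appTop ≫ s.left.appTop = 𝟙 _ := by
      rw [← Scheme.Hom.comp_appTop, ← Over.comp_left, hs]; rfl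
    have hpinj : Function.Injective p.left.appTop :=
      Function.LeftInverse.injective (g := s.left.appTop) fun c => congr($h0 c)
    apply hpinj
    rw [← hc, e1]
    rfl
  constructor
  · intro hb
    refine ⟨key G₁ G₂ (fst G₁ G₂) (CartesianMonoidalCategory.lift (𝟙 G₁) (toUnit G₁ ≫ η[G₂])) (lift_fst _ _) hb, ?_⟩
    refine key G₂ G₁ (fst G₂ G₁) (CartesianMonoidalCategory.lift (𝟙 G₂) (toUnit G₂ ≫ η[G₁])) (lift_fst _ _) ?_
    have e1 : (G₁ ⊗ G₂).hom.appTop = (G₂ ⊗ G₁).hom.appTop ≫ (β_ G₁ G₂).hom.left.appTop := by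
      rw [← Scheme.Hom.comp_appTop, Over.w (β_ G₁ G₂).hom]
    haveI : IsIso (β_ G₁ G₂).hom.left := inferInstanceAs (IsIso ((Over.forget _).map (β_ G₁ G₂).hom))
    have hi : Function.Bijective (β_ G₁ G₂).hom.left.appTop := by
      have h0 : IsIso ((β_ G₁ G₂).hom.left.app ⊤) := inferInstance
      exact @ConcreteCategory.bijective_of_isIso _ _ _ _ _ _ _ _ (β_ G₁ G₂).hom.left.appTop h0
    rw [e1] at hb
    exact (Function.Bijective.of_comp_iff' hi _).mp hb
  · rintro ⟨h1, h2⟩
    have e1 : (G₁ ⊗ G₂).hom.appTop = G₂.hom.appTop ≫ (snd G₁ G₂).left.appTop := by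
      rw [← Scheme.Hom.comp_appTop, Over.w (snd G₁ G₂)]
    rw [e1]
    exact (AntiAffine.bijective_appTop_snd h1 G₂.hom).comp h2

end Groth.Agent.S18069
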