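import Groth.Statements.S18070
import Groth.Agent.GrpSchLib.AntiAffineBC
import Mathlib.AlgebraicGeometry.Sites.Fpqc


set_option autoImplicit false
universe u
open CategoryTheory MonoidalCategory CartesianMonoidalCategory MonObj GrpObj AlgebraicGeometry CategoryTheory.Limits
open AlgGrp

namespace Groth.Agent.S18070

open Limits Groth.Agent.GrpSchLib

/-- Let k be a field and 1 → G₁ → G → G₂ → 1 an exact sequence of k-group schemes of finite type with
G₁, G₂ connected (i : G₁ → G a homomorphism and closed immersion which is the kernel of the flat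
surjective homomorphism q : G → G₂). Anti-affineness passes from G to the quotient G₂; in the other
direction, G is anti-affine whenever G₁ and G₂ both are. -/
theorem result (k : Type u) [Field k]
    (G₁ G G₂ : Over (Spec (CommRingCat.of k))) [GrpObj G₁] [LocallyOfFiniteType G₁.hom] [QuasiCompact G₁.hom] [ConnectedSpace ↥G₁.left]
    [GrpObj G] [LocallyOfFiniteType G.hom] [QuasiCompact G.hom]
    [GrpObj G₂] [LocallyOfFiniteType G₂.hom] [QuasiCompact G₂.hom] [ConnectedSpace ↥G₂.left]
    (i : G₁ ⟶ G) [IsMonHom i] [IsClosedImmersion i.left] (q : G ⟶ G₂) [IsMonHom q] [Surjective q.left] [Flat q.left]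
    (hex : AlgGrp.IsKernel i q) :
    (Function.Bijective ((Scheme.ΓSpecIso (CommRingCat.of k)).inv ≫ G.hom.appTop).hom → Function.Bijective ((Scheme.ΓSpecIso (CommRingCat.of k)).inv ≫ G₂.hom.appTop).hom) ∧
    (Function.Bijective ((Scheme.ΓSpecIso (CommRingCat.of k)).inv ≫ G₁.hom.appTop).hom → Function.Bijective ((Scheme.ΓSpecIso (CommRingCat.of k)).inv ≫ G₂.hom.appTop).hom → Function.Bijective ((Scheme.ΓSpecIso (CommRingCat.of k)).inv ≫ G.hom.appTop).hom) := by
  rw [AntiAffine.bijective_appTop_iff G.hom, AntiAffine.bijective_appTop_iff G₂.hom, AntiAffine.bijective_appTop_iff G₁.hom]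
  haveI := AntiAffine.isSeparated_grp G₁
  haveI := AntiAffine.isSeparated_grp G
  haveI := AntiAffine.isSeparated_grp G₂
  haveI : QuasiCompact (q.left ≫ G₂.hom) := by rw [Over.w q]; infer_instance
  haveI : QuasiCompact q.left := QuasiCompact.of_comp q.left G₂.hom
  have hinj : ∀ (A : Over (Spec (CommRingCat.of k))) [GrpObj A], Function.Injective A.hom.appTop := fun A _ => by
    have h0 : A.hom.appTop ≫ (η[A]).left.appTop = 𝟙 _ := by
      rw [← Scheme.Hom.comp_appTop, show (η[A]).left ≫ A.hom = 𝟙 _ from Over.w η[A]]; rfl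
    exact Function.LeftInverse.injective (g := (η[A]).left.appTop) fun c => congr($h0 c)
  have hcomp : ∀ c, q.left.appTop (G₂.hom.appTop c) = G.hom.appTop c := fun c => by
    rw [← CommRingCat.comp_apply, ← Scheme.Hom.comp_appTop, Over.w q]
  have hq : Function.Injective q.left.appTop := AntiAffine.appTop_injective_of_epi q.left
  refine ⟨fun hG => ⟨hinj G₂, fun z => ?_⟩, fun h1 h2 => ⟨hinj G, fun z => ?_⟩⟩
  · obtain ⟨c, hc⟩ := hG.2 (q.left.appTop z)
    exact ⟨c, hq (by rw [hcomp, hc])⟩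
  -- invariance of functions under the kernel
  let w : G₁ ⊗ G ⟶ G := (fst G₁ G ≫ i) * snd G₁ G
  let e : G ⟶ G₁ ⊗ G := CartesianMonoidalCategory.lift (toUnit G ≫ η[G₁]) (𝟙 G)
  have hew : e ≫ w = 𝟙 G := by
    simp only [e, w, MonObj.comp_mul, ← Category.assoc, lift_fst, lift_snd]
    rw [Category.assoc, IsMonHom.one_hom i, show toUnit G ≫ η[G] = (1 : G ⟶ G) from rfl, _root_.one_mul]
  have hes : e ≫ snd G₁ G = 𝟙 G := lift_snd _ _
  have hw : w.left.appTop = (snd G₁ G).left.appTop := by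
    ext f
    obtain ⟨f', hf'⟩ := (AntiAffine.bijective_appTop_snd h1 G.hom).2 (w.left.appTop f)
    have e1 : ∀ g : G₁ ⊗ G ⟶ G, e ≫ g = 𝟙 G → ∀ x, e.left.appTop (g.left.appTop x) = x := fun g hg x => by
      rw [← CommRingCat.comp_apply, ← Scheme.Hom.comp_appTop, ← Over.comp_left, hg]; rfl
    have : f' = f := by
      have := congrArg e.left.appTop hf'
      rw [e1 w hew] at this
      exact (e1 (snd G₁ G) hes f').symm.trans this
    subst this
    exact hf'.symm
  have hm : w.left ≫ G.left.toSpecΓ = (snd G₁ G).left ≫ G.left.toSpecΓ := by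
    rw [Scheme.toSpecΓ_naturality, Scheme.toSpecΓ_naturality, hw]
  have hk : IsPullback i (toUnit G₁) q η[G₂] := hex
  have hd : ∀ {T : Scheme.{u}} (g₁ g₂ : T ⟶ G.left), g₁ ≫ q.left = g₂ ≫ q.left →
      g₁ ≫ G.left.toSpecΓ = g₂ ≫ G.left.toSpecΓ := by
    intro T g₁ g₂ hg
    let T' : Over (Spec (CommRingCat.of k)) := Over.mk (g₁ ≫ G.hom)
    let a : T' ⟶ G := Over.homMk g₁ rfl
    let b : T' ⟶ G := Over.homMk g₂ (by
      show g₂ ≫ G.hom = g₁ ≫ G.hom
      rw [← Over.w q, ← Category.assoc, ← hg, Category.assoc])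
    have hab : a ≫ q = b ≫ q := Over.OverMorphism.ext hg
    have hn : (b * a⁻¹) ≫ q = toUnit T' ≫ η[G₂] := by
      rw [MonObj.mul_comp, GrpObj.inv_comp, hab, mul_inv_cancel]; exact Hom.one_def
    let n := hk.lift (b * a⁻¹) (toUnit T') hn
    have hni : n ≫ i = b * a⁻¹ := hk.lift_fst _ _ _
    have h3 : CartesianMonoidalCategory.lift n a ≫ w = b := by
      simp only [w, MonObj.comp_mul, ← Category.assoc, lift_fst, lift_snd, hni, inv_mul_cancel_right]
    have h4 : CartesianMonoidalCategory.lift n a ≫ snd G₁ G = a := lift_snd _ _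
    have h5 := congrArg ((CartesianMonoidalCategory.lift n a).left ≫ ·) hm
    simp only [← Category.assoc, ← Over.comp_left, h3, h4] at h5
    exact h5.symm
  let d := EffectiveEpi.desc q.left G.left.toSpecΓ hd
  have hfac : q.left ≫ d = G.left.toSpecΓ := EffectiveEpi.fac q.left _ hd
  obtain ⟨c, hc⟩ := h2.2 (d.appTop ((Scheme.ΓSpecIso Γ(G.left, ⊤)).inv z))
  refine ⟨c, ?_⟩
  rw [← hcomp, hc, ← CommRingCat.comp_apply, ← CommRingCat.comp_apply, ← Scheme.Hom.comp_appTop, hfac,
    Scheme.toSpecΓ_appTop, Iso.inv_hom_id]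
  rfl

end Groth.Agent.S18070
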