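import Groth.Statements.S18074
import Groth.Agent.AGFLib.AntPart
-- import your own Groth.Agent.* helpers here

set_option autoImplicit false
set_option backward.isDefEq.respectTransparency false
set_option backward.isDefEq.respectTransparency.types false
universe u
open CategoryTheory MonoidalCategory CartesianMonoidalCategory MonObj GrpObj AlgebraicGeometry CategoryTheory.Limits
open AlgGrp

namespace Groth.Agent.S18074

/-- Let k be a field and G a non-trivial k-group scheme of finite type. Then G is non-affine with every
closed subgroup scheme H ≠ G affine if and only if G is anti-affine and every anti-affine closed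
subgroup scheme H ≠ G of G is trivial. -/
theorem result (k : Type u) [Field k]
    (G : Over (Spec (CommRingCat.of k))) [GrpObj G] [LocallyOfFiniteType G.hom] [QuasiCompact G.hom] (hG : ¬ Red.IsTrivialGrp G) :
    (¬ IsAffine G.left ∧ ∀ (H : Over (Spec (CommRingCat.of k))) [GrpObj H] (h : H ⟶ G) [IsMonHom h] [IsClosedImmersion h.left], ¬ IsIso h → IsAffine H.left) ↔
    (Function.Bijective ((Scheme.ΓSpecIso (CommRingCat.of k)).inv ≫ G.hom.appTop).hom ∧ ∀ (H : Over (Spec (CommRingCat.of k))) [GrpObj H] (h : H ⟶ G) [IsMonHom h] [IsClosedImmersion h.left], ¬ IsIso h → Function.Bijective ((Scheme.ΓSpecIso (CommRingCat.of k)).inv ≫ H.hom.appTop).hom → Red.IsTrivialGrp H) := by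
  refine (Groth.Agent.AGFLib.AntPart.ant_nonaffine_iff hG).trans
    (and_congr (Groth.Agent.AGFLib.AntPart.bij_appTop_iff G).symm ⟨fun h H _ j _ _ hj hb => ?_, fun h H _ j _ _ hj hb => ?_⟩)
  · exact h H j hj ((Groth.Agent.AGFLib.AntPart.bij_appTop_iff H).mp hb)
  · exact h H j hj ((Groth.Agent.AGFLib.AntPart.bij_appTop_iff H).mpr hb)

end Groth.Agent.S18074
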