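import Groth.Statements.S18076
import Groth.Agent.AGFLib.ChevalleyPerfect
import Groth.Agent.AGFLib.AntiAffineFinite
-- import your own Groth.Agent.* helpers here

set_option autoImplicit false
set_option backward.isDefEq.respectTransparency.types false
set_option maxHeartbeats 1000000
universe u
open CategoryTheory MonoidalCategory CartesianMonoidalCategory MonObj GrpObj AlgebraicGeometry CategoryTheory.Limits
open AlgGrp

namespace Groth.Agent.S18076

/-- Let k be a finite field and G a connected k-group scheme of finite type, i : N → G a connected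
affine closed normal subgroup scheme which is the kernel of a flat surjective homomorphism q onto an
abelian variety A (for instance N = G_aff; any such N is allowed) and b : B → G the largest abelian
subvariety G_ab of G (a smooth connected proper closed subgroup scheme through which every other one
factors). Then G = N G_ab, i.e. multiplication N × B → G is surjective, and N ∩ G_ab is finite; for
N = G_aff this reads G = G_aff G_ab with G_aff ∩ G_ab finite. -/
theorem result (k : Type u) [Field k] [Finite k]
    (G : Over (Spec (CommRingCat.of k))) [GrpObj G] [LocallyOfFiniteType G.hom] [QuasiCompact G.hom] [ConnectedSpace ↥G.left]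
    (N A : Over (Spec (CommRingCat.of k))) [GrpObj N] [GrpObj A] (i : N ⟶ G) [IsMonHom i] [IsClosedImmersion i.left]
    [IsAffine N.left] [ConnectedSpace ↥N.left] (hN : AlgGrp.IsNormalHom i)
    (q : G ⟶ A) [IsMonHom q] [Surjective q.left] [Flat q.left] [IsProper A.hom] [Smooth A.hom] [ConnectedSpace ↥A.left]
    (hq : AlgGrp.IsKernel i q)
    (B : Over (Spec (CommRingCat.of k))) [GrpObj B] (b : B ⟶ G) [IsMonHom b] [IsClosedImmersion b.left] [Smooth B.hom] [ConnectedSpace ↥B.left] [IsProper B.hom]
    (hBmax : ∀ (B' : Over (Spec (CommRingCat.of k))) [GrpObj B'] (b' : B' ⟶ G) [IsMonHom b'] [IsClosedImmersion b'.left], Smooth B'.hom → ConnectedSpace ↥B'.left → IsProper B'.hom →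
      ∃ g : B' ⟶ B, g ≫ b = b') :
    Surjective ((i ⊗ₘ b) ≫ μ[G]).left ∧
    ∀ (P : Over (Spec (CommRingCat.of k))) (p₁ : P ⟶ N) (p₂ : P ⟶ B), IsPullback p₁ p₂ i b → IsFinite P.hom := by
  haveI := GrpSchLib.AntiAffine.isSeparated_grp G
  obtain ⟨M, _, j, hj, hjc, -, hlft, hqc, hant, -, -⟩ := AGFLib.AntPart.exists_ant (G := G)
  haveI := hj; haveI := hjc; haveI := hlft; haveI := hqc
  have hM := (AGFLib.AntPart.bij_appTop_iff M).2 hant.bij
  haveI : IsProper M.hom := AGFLib.AntiAffineFinite.isProper M hM
  haveI : ConnectedSpace M.left := GrpSchLib.AntiAffine.connectedSpace_of_bijective hant.bij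
  obtain ⟨g, hg⟩ := hBmax M j (GrpSchLib.AntiAffineSmooth.smooth hant.bij) inferInstance inferInstance
  refine ⟨?_, fun P p₁ p₂ hP => AGFLib.ChevalleyPerfect.isFinite_inter i b p₁.left p₂.left
    ((Over.forget _).map_isPullback hP) (Over.w p₁)⟩
  haveI := (AGFLib.AntPart.main_mul i q hq j hant).1
  have e : (i ⊗ₘ j) ≫ μ[G] = (N ◁ g) ≫ (i ⊗ₘ b) ≫ μ[G] := by
    rw [← hg, ← id_tensorHom, MonoidalCategory.tensorHom_comp_tensorHom_assoc, Category.id_comp]
  haveI : Surjective ((N ◁ g) ≫ (i ⊗ₘ b) ≫ μ[G]).left := e ▸ ‹_›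
  exact Surjective.of_comp (N ◁ g).left ((i ⊗ₘ b) ≫ μ[G]).left

end Groth.Agent.S18076
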