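import Groth.Statements.S18081
import Groth.Agent.AGFLib.AntiAffineHomLattice
-- import your own Groth.Agent.* helpers here

set_option autoImplicit false
set_option backward.isDefEq.respectTransparency.types false
set_option maxHeartbeats 1000000
universe u
open CategoryTheory MonoidalCategory CartesianMonoidalCategory MonObj GrpObj AlgebraicGeometry CategoryTheory.Limits
open AlgGrp

namespace Groth.Agent.S18081

/-- Let k be a field, G an anti-affine algebraic group over k and H a connected k-group scheme of finite
type. Then the abelian group of homomorphisms G → H (pointwise multiplication; such homomorphisms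
take values in the centre of H) is free of finite rank: there are homomorphisms b₁, …, bₙ such that
every homomorphism f : G → H is the product b₁^{a₁} ⋯ bₙ^{aₙ} for exactly one n-tuple of integers a. -/
theorem result (k : Type u) [Field k]
    (G H : Over (Spec (CommRingCat.of k))) [GrpObj G] [Smooth G.hom] [QuasiCompact G.hom] (hG : Function.Bijective ((Scheme.ΓSpecIso (CommRingCat.of k)).inv ≫ G.hom.appTop).hom)
    [GrpObj H] [LocallyOfFiniteType H.hom] [QuasiCompact H.hom] [ConnectedSpace ↥H.left] :
    ∃ (n : ℕ) (b : Fin n → (G ⟶ H)), (∀ i, IsMonHom (b i)) ∧
      ∀ f : G ⟶ H, IsMonHom f → ∃! a : Fin n → ℤ, (List.ofFn fun i => b i ^ a i).prod = f := by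
  exact AGFLib.AntiAffineHomLattice.main ((AGFLib.AntPart.bij_appTop_iff G).mp hG)

end Groth.Agent.S18081
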