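import Groth.Statements.S18083
import Groth.Agent.AGF20Lib.SpecRules
-- import your own Groth.Agent.* helpers here

set_option autoImplicit false
set_option backward.isDefEq.respectTransparency.types false
set_option maxHeartbeats 1000000
universe u
open CategoryTheory MonoidalCategory CartesianMonoidalCategory MonObj GrpObj AlgebraicGeometry CategoryTheory.Limits
open AlgGrp

namespace Groth.Agent.S18083

/-- A is a regular local ring, K denotes its field of fractions and k its residue field; G is a flat
separated A-group scheme of finite presentation, and d is a natural number. If G_K contains a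
commutative (resp. nilpotent, resp. solvable) closed subgroup scheme of dimension d, then so does
G_k. (The published statement does not require G separated; its proof goes through the
specialisation of commutativity, nilpotency and solvability over a discrete valuation ring by a
density argument that is valid for separated group schemes, so G is taken separated here.) -/
theorem result (A : Type u) [CommRing A] [IsDomain A] [IsRegularLocalRing A]
    (K : Type u) [Field K] [Algebra A K] [IsFractionRing A K]
    (G : Over (Spec (CommRingCat.of A))) [GrpObj G] [Flat G.hom] [LocallyOfFinitePresentation G.hom] [QuasiCompact G.hom]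
    [IsSeparated G.hom] (d : ℕ) :
    ((∃ (H : Over (Spec (CommRingCat.of K))) (_ : GrpObj H) (i : H ⟶ Red.bc (Spec.map (CommRingCat.ofHom (algebraMap A K))) G),
        IsMonHom i ∧ IsClosedImmersion i.left ∧ IsCommMonObj H ∧ topologicalKrullDim ↥H.left = (d : WithBot ℕ∞)) → ∃ (H : Over (Spec (CommRingCat.of (IsLocalRing.ResidueField A)))) (_ : GrpObj H) (i : H ⟶ Red.bc (Spec.map (CommRingCat.ofHom (algebraMap A (IsLocalRing.ResidueField A)))) G),
        IsMonHom i ∧ IsClosedImmersion i.left ∧ IsCommMonObj H ∧ topologicalKrullDim ↥H.left = (d : WithBot ℕ∞)) ∧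
    ((∃ (H : Over (Spec (CommRingCat.of K))) (_ : GrpObj H) (i : H ⟶ Red.bc (Spec.map (CommRingCat.ofHom (algebraMap A K))) G),
        IsMonHom i ∧ IsClosedImmersion i.left ∧ AGF.IsNilpotentGrp H ∧ topologicalKrullDim ↥H.left = (d : WithBot ℕ∞)) → ∃ (H : Over (Spec (CommRingCat.of (IsLocalRing.ResidueField A)))) (_ : GrpObj H) (i : H ⟶ Red.bc (Spec.map (CommRingCat.ofHom (algebraMap A (IsLocalRing.ResidueField A)))) G),
        IsMonHom i ∧ IsClosedImmersion i.left ∧ AGF.IsNilpotentGrp H ∧ topologicalKrullDim ↥H.left = (d : WithBot ℕ∞)) ∧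
    ((∃ (H : Over (Spec (CommRingCat.of K))) (_ : GrpObj H) (i : H ⟶ Red.bc (Spec.map (CommRingCat.ofHom (algebraMap A K))) G),
        IsMonHom i ∧ IsClosedImmersion i.left ∧ Red.IsSolvableGrp H ∧ topologicalKrullDim ↥H.left = (d : WithBot ℕ∞)) → ∃ (H : Over (Spec (CommRingCat.of (IsLocalRing.ResidueField A)))) (_ : GrpObj H) (i : H ⟶ Red.bc (Spec.map (CommRingCat.ofHom (algebraMap A (IsLocalRing.ResidueField A)))) G),
        IsMonHom i ∧ IsClosedImmersion i.left ∧ Red.IsSolvableGrp H ∧ topologicalKrullDim ↥H.left = (d : WithBot ℕ∞)) := by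
  have hn := (isRegularLocalRing_iff A).mp inferInstance
  have key : ∀ {P : ∀ {S : Scheme.{u}} (H : Over S), GrpObj H → Prop}, AGF20Lib.SpecSub.Rules @P →
      AGF20Lib.SpecSub.HasSub @P G d K (Spec.map (CommRingCat.ofHom (algebraMap A K))) →
      AGF20Lib.SpecSub.HasSub @P G d (IsLocalRing.ResidueField A)
        (Spec.map (CommRingCat.ofHom (algebraMap A (IsLocalRing.ResidueField A)))) := fun hP h => by
    have h1 := AGF20Lib.SpecSub.hasSub_regular hP _ A hn.symm (𝟙 _) K (by rw [Category.comp_id]; exact h)
    rwa [Category.comp_id] at h1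
  exact ⟨key AGF20Lib.SpecSub.rules_comm, key AGF20Lib.SpecSub.rules_nilpotent, key AGF20Lib.SpecSub.rules_solvable⟩

end Groth.Agent.S18083
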