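import Groth.Statements.S18084
import Groth.Agent.AGF20Lib.SpecDer
-- import your own Groth.Agent.* helpers here

set_option autoImplicit false
set_option backward.isDefEq.respectTransparency false
set_option synthInstance.maxHeartbeats 400000
set_option backward.isDefEq.respectTransparency.types false
set_option maxHeartbeats 1000000
universe u
open CategoryTheory MonoidalCategory CartesianMonoidalCategory MonObj GrpObj AlgebraicGeometry CategoryTheory.Limits
open AlgGrp

namespace Groth.Agent.S18084

/-- Let S be a scheme and G a smooth S-group scheme of finite presentation; for s ∈ S let d_ab(s) be the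
dimension of the abelianization of the geometric fibre of G at s, i.e. the dimension of that fibre
minus the dimension of its derived group (the least dimension of a closed normal subgroup scheme
containing all commutators of points). Then d_ab does not decrease under specialization: for every
natural number n, if s specializes to s' (that is, s' lies in the closure of s) and d_ab(s) ≥ n,
then d_ab(s') ≥ n. (The published statement asserts that d_ab is upper semicontinuous on S, i.e.
that the set of points s with d_ab(s) ≥ n is closed; the published argument reduces to the spectrum
of an integral local ring and establishes that this set is stable under specialization, which is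
what is stated here. Closedness would in addition need the set to be locally constructible, which
the argument does not address.) -/
theorem result (S : Scheme.{u}) (G : Over S) [GrpObj G]
    [Smooth G.hom] [QuasiCompact G.hom] [QuasiSeparated G.hom] (n : ℕ) :
    StableUnderSpecialization {s : ↥S | ∃ (N : Over (Spec (CommRingCat.of (AlgebraicClosure (S.residueField s))))) (_ : GrpObj N)
      (i : N ⟶ Red.geomFibre s G), IsMonHom i ∧ IsClosedImmersion i.left ∧ AlgGrp.IsNormalHom i ∧
      (∀ (T : Over (Spec (CommRingCat.of (AlgebraicClosure (S.residueField s))))) (g h : T ⟶ Red.geomFibre s G),
        ∃ m : T ⟶ N, g * h * g⁻¹ * h⁻¹ = m ≫ i) ∧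
      (n : WithBot ℕ∞) + topologicalKrullDim ↥N.left ≤ topologicalKrullDim ↥(Red.geomFibre s G).left} := by
  rintro s s' hss ⟨N, _, i, hi, hic, -, hc, hd⟩
  obtain ⟨N', _, i', hi', hic', hc', hd'⟩ := AGF20Lib.SpecDer.stableUnderSpecialization
    (d := topologicalKrullDim ↥N.left) hss ⟨N, inferInstance, i, hi, hic, AGF20Lib.SpecDer.comm_of_pts hc, le_rfl⟩
  haveI := hi'
  refine ⟨N', inferInstance, i', hi', hic', hc'.normal, hc'.pts, ?_⟩
  exact (add_le_add le_rfl hd').trans (hd.trans_eq (AGF20Lib.SpecDer.dim_geomFibre_eq hss))

end Groth.Agent.S18084
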