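import Groth.Statements.S18085
import Groth.Agent.S14600
import Groth.Agent.AGFLib.QuasiComp.AnyField
import Groth.Agent.GrpSchLib.Cartier
import Groth.Agent.GrpSchLib.KernelGrp
import Groth.Agent.AGFLib.AntPart
import Groth.Agent.AGFLib.QuasiComp.TorusProps
import Groth.Agent.AGF20Lib.UnipDerived
-- import your own Groth.Agent.* helpers here

set_option autoImplicit false
set_option backward.isDefEq.respectTransparency false
set_option backward.isDefEq.respectTransparency.types false
set_option synthInstance.maxHeartbeats 400000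
set_option linter.style.haveILetI false
set_option backward.isDefEq.respectTransparency.types false
set_option maxHeartbeats 1000000
universe u
open CategoryTheory MonoidalCategory CartesianMonoidalCategory MonObj GrpObj AlgebraicGeometry CategoryTheory.Limits
open AlgGrp

open CategoryTheory.Limits

namespace Groth.Agent.S18085

/-- Let k be a field and G a connected k-group scheme of finite type, with G_aff = N (the smallest
normal connected affine closed subgroup scheme with abelian variety quotient), G_ant = M (the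
largest anti-affine closed subgroup scheme) and (G_ant)_aff = M' (the smallest connected affine
closed subgroup scheme of M with abelian variety quotient M/M' = B). Then M' is smooth and contained
in N, and (N ∩ M)/M' is finite: the image of N ∩ M in B is a finite set of points. -/
theorem result (k : Type u) [Field k]
    (G : Over (Spec (CommRingCat.of k))) [GrpObj G] [LocallyOfFiniteType G.hom] [QuasiCompact G.hom] [ConnectedSpace ↥G.left]
    (N : Over (Spec (CommRingCat.of k))) [GrpObj N] (i : N ⟶ G) [IsMonHom i] [IsClosedImmersion i.left]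
    [IsAffine N.left] [ConnectedSpace ↥N.left] (hN : AlgGrp.IsNormalHom i)
    (A : Over (Spec (CommRingCat.of k))) [GrpObj A] (q : G ⟶ A) [IsMonHom q] [Surjective q.left] [Flat q.left]
    [IsProper A.hom] [Smooth A.hom] [ConnectedSpace ↥A.left] (hq : AlgGrp.IsKernel i q)
    (hNmin : ∀ (N₁ : Over (Spec (CommRingCat.of k))) [GrpObj N₁] (i₁ : N₁ ⟶ G) [IsMonHom i₁] [IsClosedImmersion i₁.left]
    [IsAffine N₁.left] [ConnectedSpace ↥N₁.left] (A₁ : Over (Spec (CommRingCat.of k))) [GrpObj A₁] (q₁ : G ⟶ A₁) [IsMonHom q₁]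
      [Surjective q₁.left] [Flat q₁.left] [IsProper A₁.hom] [Smooth A₁.hom] [ConnectedSpace ↥A₁.left],
      AlgGrp.IsNormalHom i₁ → AlgGrp.IsKernel i₁ q₁ → ∃ g : N ⟶ N₁, g ≫ i₁ = i)
    (M : Over (Spec (CommRingCat.of k))) [GrpObj M] [LocallyOfFiniteType M.hom] [QuasiCompact M.hom] (j : M ⟶ G) [IsMonHom j] [IsClosedImmersion j.left]
    (hM : Function.Bijective ((Scheme.ΓSpecIso (CommRingCat.of k)).inv ≫ M.hom.appTop).hom)
    (hMmax : ∀ (M₁ : Over (Spec (CommRingCat.of k))) [GrpObj M₁] [LocallyOfFiniteType M₁.hom] [QuasiCompact M₁.hom] (j₁ : M₁ ⟶ G) [IsMonHom j₁] [IsClosedImmersion j₁.left],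
      Function.Bijective ((Scheme.ΓSpecIso (CommRingCat.of k)).inv ≫ M₁.hom.appTop).hom → ∃ g : M₁ ⟶ M, g ≫ j = j₁)
    (M' : Over (Spec (CommRingCat.of k))) [GrpObj M'] (m : M' ⟶ M) [IsMonHom m] [IsClosedImmersion m.left]
    [IsAffine M'.left] [ConnectedSpace ↥M'.left]
    (B : Over (Spec (CommRingCat.of k))) [GrpObj B] (r : M ⟶ B) [IsMonHom r] [Surjective r.left] [Flat r.left]
    [IsProper B.hom] [Smooth B.hom] [ConnectedSpace ↥B.left] (hr : AlgGrp.IsKernel m r)
    (hM'min : ∀ (M₂ : Over (Spec (CommRingCat.of k))) [GrpObj M₂] (m₂ : M₂ ⟶ M) [IsMonHom m₂] [IsClosedImmersion m₂.left]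
    [IsAffine M₂.left] [ConnectedSpace ↥M₂.left] (B₂ : Over (Spec (CommRingCat.of k))) [GrpObj B₂] (r₂ : M ⟶ B₂) [IsMonHom r₂]
      [Surjective r₂.left] [Flat r₂.left] [IsProper B₂.hom] [Smooth B₂.hom] [ConnectedSpace ↥B₂.left],
      AlgGrp.IsKernel m₂ r₂ → ∃ g : M' ⟶ M₂, g ≫ m₂ = m)
    (P : Over (Spec (CommRingCat.of k))) (p₁ : P ⟶ N) (p₂ : P ⟶ M) (hP : IsPullback p₁ p₂ i j) :
    Smooth M'.hom ∧ (∃ g : M' ⟶ N, g ≫ i = m ≫ j) ∧ (Set.range ⇑(p₂ ≫ r).left.base).Finite := by
  have hM0 : Function.Bijective M.hom.appTop := (AGFLib.AntPart.bij_appTop_iff M).mp hM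
  haveI : LocallyOfFiniteType M'.hom := by rw [← Over.w m]; infer_instance
  haveI : QuasiCompact M'.hom := by rw [← Over.w m]; infer_instance
  have hsm : Smooth M'.hom := by
    obtain ⟨p, hp⟩ := CharP.exists k
    rcases CharP.char_is_prime_or_zero k p with hpp | rfl
    · haveI : Fact p.Prime := ⟨hpp⟩
      obtain ⟨T, _, iT, AT, _, qT, hiT, hiTc, hT, hqT, hqTs, hqTf, hkT, hATp, hATs, hATc⟩ := S14600.result k p M hM
      haveI := hiT; haveI := hiTc; haveI := hqT; haveI := hqTs; haveI := hqTf
      haveI := hATp; haveI := hATs; haveI := hATc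
      obtain ⟨hTa, hTs, hTc⟩ := AGFLib.QuasiComp.torus_props hT
      haveI := hTa; haveI := hTs; haveI := hTc
      obtain ⟨g, hg⟩ := hM'min T iT AT qT hkT
      have h1 : iT ≫ r = 1 := AGFLib.QuasiComp.hom_eq_one_of_affine _
      let h := hr.lift iT (toUnit T) (by rw [h1]; rfl)
      have hh : h ≫ m = iT := hr.lift_fst _ _ _
      haveI : Mono m := GrpSchLib.SemiabIsog.mono_ci m
      haveI : Mono iT := GrpSchLib.SemiabIsog.mono_ci iT
      let e : M' ≅ T := ⟨g, h, by rw [← cancel_mono m, Category.assoc, hh, hg, Category.id_comp],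
        by rw [← cancel_mono iT, Category.assoc, hg, hh, Category.id_comp]⟩
      rw [← Over.w e.hom]
      haveI : IsIso e.hom.left := ((Over.forget _).mapIso e).isIso_hom
      infer_instance
    · haveI : CharZero k := CharP.charP_to_charZero k
      exact GrpSchLib.smooth_of_charZero M'
  haveI := hsm
  refine ⟨hsm, ?_, ?_⟩
  · have h1 : (m ≫ j) ≫ q = 1 := AGFLib.QuasiComp.hom_eq_one_of_affine _
    exact ⟨hq.lift (m ≫ j) (toUnit M') (by rw [h1]; rfl), hq.lift_fst _ _ _⟩
  · obtain ⟨K, _, iK, hiK, hiKc, -, hkK⟩ := GrpSchLib.exists_kernel (j ≫ q)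
    haveI := hiK; haveI := hiKc
    -- the intersection is contained in the kernel
    have hp : p₂ ≫ j ≫ q = toUnit P ≫ η[A] := by
      rw [← hP.w_assoc, hq.w, ← Category.assoc, comp_toUnit]
    let l := hkK.lift p₂ (toUnit P) hp
    have hl : l ≫ iK = p₂ := hkK.lift_fst _ _ _
    let lN := hq.lift (iK ≫ j) (toUnit K) (by rw [Category.assoc]; exact hkK.w)
    have hlN : lN ≫ i = iK ≫ j := hq.lift_fst _ _ _
    -- the kernel is a closed subscheme of the affine group
    haveI : IsAffine K.left := by
      haveI : IsClosedImmersion (lN.left ≫ i.left) := by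
        rw [← Over.comp_left, hlN, Over.comp_left]; infer_instance
      haveI : IsClosedImmersion lN.left := IsClosedImmersion.of_comp lN.left i.left
      exact isAffine_of_isAffineHom lN.left
    haveI : LocallyOfFiniteType K.hom := by rw [← Over.w iK]; infer_instance
    haveI : QuasiCompact K.hom := by rw [← Over.w iK]; infer_instance
    obtain ⟨I, _, a, c, ha, hc, hac, hcc, haf, has, hIl, hIq⟩ := GrpSchLib.ImageFactor.exists_image (iK ≫ r)
    haveI := ha; haveI := hc; haveI := hcc; haveI := haf; haveI := has; haveI := hIl; haveI := hIq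
    haveI : IsAffine I.left := GrpSchLib.isAffine_of_quotient a
    haveI : IsProper I.hom := by rw [← Over.w c]; infer_instance
    haveI : IsFinite I.hom := IsFinite.iff_isProper_and_isAffineHom.2 ⟨inferInstance, isAffineHom_of_isAffine _⟩
    have hfin : (Set.univ : Set I.left).Finite :=
      (I.hom.finite_preimage_singleton (IsLocalRing.closedPoint k)).subset fun x _ =>
        Subsingleton.elim (α := Spec (CommRingCat.of k)) _ _
    refine (hfin.image c.left).subset ?_
    rintro _ ⟨x, rfl⟩
    refine ⟨a.left (l.left x), trivial, ?_⟩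
    show (l ≫ a ≫ c).left x = _
    rw [hac, ← Category.assoc, hl]

end Groth.Agent.S18085
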