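import Groth.Statements.S18086
import Groth.Agent.AGF20Lib.SpecUnip
import Groth.Agent.GrpSchLib.RedSubgroup
import Groth.Agent.GrpSchLib.PerfectSmooth
-- import your own Groth.Agent.* helpers here

set_option autoImplicit false
set_option backward.isDefEq.respectTransparency false
set_option backward.isDefEq.respectTransparency.types false
set_option synthInstance.maxHeartbeats 400000
set_option maxHeartbeats 1000000
set_option backward.isDefEq.respectTransparency.types false
set_option maxHeartbeats 1000000
universe u
open CategoryTheory MonoidalCategory CartesianMonoidalCategory MonObj GrpObj AlgebraicGeometry CategoryTheory.Limits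
open AlgGrp

namespace Groth.Agent.S18086

/-- Let k be a perfect field and G an algebraic k-group. If G_{k((t))} contains a smooth connected
unipotent k((t))-subgroup of dimension at least d, unipotent being expressed for a smooth connected
affine group as having no non-trivial subtorus over the ground field, then G contains a smooth
connected unipotent k-subgroup of dimension at least d. Hence, counting smooth connected unipotent
subgroups, D_u(k, G) = D_u(k((t)), G), the reverse inequality being base change. (The published
lemma is stated over an arbitrary field k and counts unipotent k-subgroups which need not be smooth;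
the subgroup its argument produces over k is the special fibre of a schematic closure over k[[t]]
and need not be smooth. This statement asks for a smooth connected subgroup and therefore takes k
perfect, where the reduced identity component of that special fibre is a smooth connected unipotent
k-subgroup of the same dimension.) -/
theorem result (k : Type u) [Field k] [PerfectField k]
    (G : Over (Spec (CommRingCat.of k))) [GrpObj G] [LocallyOfFiniteType G.hom] [QuasiCompact G.hom] (d : ℕ)
    (hK : ∃ (U : Over (Spec (CommRingCat.of (LaurentSeries k)))) (_ : GrpObj U) (i : U ⟶ Red.bc (Spec.map (CommRingCat.ofHom (algebraMap k (LaurentSeries k)))) G), IsMonHom i ∧ IsClosedImmersion i.left ∧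
        Smooth U.hom ∧ IsAffine U.left ∧ ConnectedSpace ↥U.left ∧ Red.HasNoSubtorus (LaurentSeries k) U ∧
        (d : WithBot ℕ∞) ≤ topologicalKrullDim ↥U.left) :
    ∃ (U : Over (Spec (CommRingCat.of k))) (_ : GrpObj U) (i : U ⟶ G), IsMonHom i ∧ IsClosedImmersion i.left ∧
        Smooth U.hom ∧ IsAffine U.left ∧ ConnectedSpace ↥U.left ∧ Red.HasNoSubtorus k U ∧
        (d : WithBot ℕ∞) ≤ topologicalKrullDim ↥U.left := by
  obtain ⟨U, _, i, h1, h2, h3, h4, h5, h6, h7⟩ := hK
  haveI := h1; haveI := h2; haveI := h3; haveI := h4; haveI := h5
  haveI : QuasiCompact U.hom := inferInstance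
  let σK := Spec.map (CommRingCat.ofHom (algebraMap k (LaurentSeries k)))
  have hg : AGF20Lib.SpecConn.GSub @AGF20Lib.SpecConn.PUnip G d (LaurentSeries k) σK :=
    ⟨U, inferInstance, i, h1, h2, h5, AGF20Lib.SpecConn.PUnip_of_hasNoSubtorus h6, h7⟩
  let φ : Spec (CommRingCat.of (PowerSeries k)) ⟶ Spec (CommRingCat.of k) :=
    Spec.map (CommRingCat.ofHom (algebraMap k (PowerSeries k)))
  have hd := AGF20Lib.SpecConn.gsub_dvr (G := G) (n := d) AGF20Lib.SpecConn.rules_unip (PowerSeries k)
    (LaurentSeries k) φ (by
      have hc : (algebraMap (PowerSeries k) (LaurentSeries k)).comp (algebraMap k (PowerSeries k)) =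
          algebraMap k (LaurentSeries k) := by
        rfl
      rw [← Spec.map_comp, ← CommRingCat.ofHom_comp, hc]
      exact hg)
  haveI : IsLocalHom (PowerSeries.constantCoeff (R := k)) :=
    ⟨fun f hf => PowerSeries.isUnit_iff_constantCoeff.mpr hf⟩
  let r : IsLocalRing.ResidueField (PowerSeries k) →+* k := IsLocalRing.ResidueField.lift (PowerSeries.constantCoeff (R := k))
  obtain ⟨H, _, j, g1, g2, g3, g4, g5⟩ := AGF20Lib.SpecConn.gsub_field AGF20Lib.SpecConn.rules_unip r _ (𝟙 _) (by
    rw [← Spec.map_comp, ← Spec.map_comp, ← Spec.map_id]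
    congr 1) hd
  haveI := g1; haveI := g2; haveI := g3
  let eG : Grp.mk (Red.bc (𝟙 (Spec (CommRingCat.of k))) G) ≅ Grp.mk G :=
    (Functor.mapGrpNatIso Over.pullbackId).app (Grp.mk G)
  let e : Red.bc (𝟙 (Spec (CommRingCat.of k))) G ≅ G := (Grp.forget _).mapIso eG
  haveI : IsMonHom e.hom := eG.hom.hom.isMonHom_hom
  let j' : H ⟶ G := j ≫ e.hom
  haveI : IsClosedImmersion j'.left := AGF20Lib.SpecSub.closedImm_comp_iso j e
  haveI : LocallyOfFiniteType H.hom := by rw [← Over.w j']; infer_instance
  haveI : QuasiCompact H.hom := by rw [← Over.w j']; infer_instance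
  obtain ⟨R, _, q, q1, q2, q3, q4, q5, q6⟩ := GrpSchLib.RedSubgroup.exists_redSubgroup H
  haveI := q1; haveI := q2; haveI := q3; haveI := q4; haveI := q5; haveI := q6
  haveI : Smooth R.hom := GrpSchLib.smooth_of_perfectField_of_isReduced R
  let h := (isHomeomorph_iff_continuous_isClosedMap_bijective.2
    ⟨q.left.continuous, q.left.isClosedEmbedding.isClosedMap, q.left.isClosedEmbedding.injective, q.left.surjective⟩).homeomorph
  haveI : ConnectedSpace ↥R.left := h.symm.surjective.connectedSpace h.symm.continuous
  obtain ⟨k1, k2⟩ := AGF20Lib.SpecConn.hasNoSubtorus_of_PUnip (AGF20Lib.SpecConn.rules_unip.mono k q g4)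
  haveI : IsClosedImmersion (q ≫ j').left := inferInstanceAs (IsClosedImmersion (q.left ≫ j'.left))
  exact ⟨R, inferInstance, q ≫ j', inferInstance, inferInstance, inferInstance, k1, inferInstance, k2,
    g5.trans h.isHomeomorph.topologicalKrullDim_eq.ge⟩

end Groth.Agent.S18086
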