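import Groth.Statements.S18093
import Groth.Agent.AGF20Lib.SpecProps
-- import your own Groth.Agent.* helpers here

set_option autoImplicit false
set_option backward.isDefEq.respectTransparency.types false
set_option maxHeartbeats 1000000
universe u
open CategoryTheory MonoidalCategory CartesianMonoidalCategory MonObj GrpObj AlgebraicGeometry CategoryTheory.Limits
open AlgGrp

namespace Groth.Agent.S18093

/-- Let S be a scheme and G an S-group scheme of finite presentation; for s ∈ S let d_s(s) be the
largest dimension of a smooth connected affine solvable closed subgroup of the geometric fibre of G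
at s. Then d_s does not decrease under specialization: for every natural number n, if s specializes
to s' (that is, s' lies in the closure of s) and d_s(s) ≥ n, then d_s(s') ≥ n. (The published
statement asserts that d_s is upper semicontinuous on S, i.e. that the set of points s with d_s(s) ≥
n is closed; the published argument reduces to the spectrum of an integral local ring and
establishes that this set is stable under specialization, which is what is stated here. Closedness
would in addition need the set to be locally constructible, which the argument does not address.) -/
theorem result (S : Scheme.{u}) (G : Over S) [GrpObj G]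
    [LocallyOfFinitePresentation G.hom] [QuasiCompact G.hom] [QuasiSeparated G.hom] (n : ℕ) :
    StableUnderSpecialization {s : ↥S | ∃ (H : Over (Spec (CommRingCat.of (AlgebraicClosure (S.residueField s))))) (_ : GrpObj H)
      (i : H ⟶ Red.geomFibre s G), IsMonHom i ∧ IsClosedImmersion i.left ∧ Smooth H.hom ∧ IsAffine H.left ∧
      ConnectedSpace ↥H.left ∧ Red.IsSolvableGrp H ∧ (n : WithBot ℕ∞) ≤ topologicalKrullDim ↥H.left} := by
  rintro s s' hss ⟨H, _, i, h1, h2, h3, ha, h4, h5, h6⟩
  obtain ⟨H', _, i', g1, g2, g3, g4, ⟨ga, g5⟩, g6⟩ := AGF20Lib.SpecConn.stableUnderSpecialization_smooth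
    (AGF20Lib.SpecConn.rules_and AGF20Lib.SpecConn.rules_affine AGF20Lib.SpecConn.rules_solvable) hss
    ⟨H, inferInstance, i, h1, h2, h3, h4, ⟨ha, h5⟩, h6⟩
  exact ⟨H', inferInstance, i', g1, g2, g3, ga, g4, g5, g6⟩

end Groth.Agent.S18093
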