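import Groth.Statements.S18096
import Groth.Agent.GrpSchLib.AntiAffineCrit


set_option autoImplicit false
universe u
open CategoryTheory MonoidalCategory CartesianMonoidalCategory MonObj GrpObj AlgebraicGeometry CategoryTheory.Limits
open AlgGrp

namespace Groth.Agent.S18096

open Limits Groth.Agent.GrpSchLib Groth.Agent.GrpSchLib.Kunneth

/-- Let k be a field and G a k-group scheme of finite type. Then G is anti-affine, i.e. O(G) = k, if and
only if every finite-dimensional linear representation of G is trivial, i.e. for every n every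
homomorphism G → GL_{n,k} is trivial. -/
theorem result (k : Type u) [Field k]
    (G : Over (Spec (CommRingCat.of k))) [GrpObj G] [LocallyOfFiniteType G.hom] [QuasiCompact G.hom] :
    Function.Bijective ((Scheme.ΓSpecIso (CommRingCat.of k)).inv ≫ G.hom.appTop).hom ↔
      ∀ (n : ℕ) (ρ : G ⟶ FrB.GLn n (Spec (CommRingCat.of k))), IsMonHom ρ → ρ = 1 := by
  rw [AntiAffine.bijective_appTop_iff]
  refine ⟨fun hG n ρ hρ => ?_, fun h => bijective_of_forall_matrix fun n M hM => hM.eq_one_of_hom (h n _ hM.isMonHom_hom)⟩
  haveI : IsAffine (FrB.GLZ.{u} n).left := inferInstanceAs (IsAffine (Spec _))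
  haveI : IsAffineHom (FrB.GLZ.{u} n).hom := inferInstance
  haveI : IsAffineHom (FrB.GLn n (Spec (CommRingCat.of k))).hom := inferInstanceAs (IsAffineHom (pullback.snd _ _))
  haveI : IsAffine (FrB.GLn n (Spec (CommRingCat.of k))).left := isAffine_of_isAffineHom (FrB.GLn n (Spec (CommRingCat.of k))).hom
  rw [AntiAffine.eq_const_of_isAffine hG ρ η[G], IsMonHom.one_hom ρ]
  exact Hom.one_def.symm

end Groth.Agent.S18096
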