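import Groth.Statements.S18097
import Groth.Agent.AGF20Lib.SolvDimExt
-- import your own Groth.Agent.* helpers here

set_option autoImplicit false
set_option backward.isDefEq.respectTransparency.types false
set_option maxHeartbeats 1000000
universe u
open CategoryTheory MonoidalCategory CartesianMonoidalCategory MonObj GrpObj AlgebraicGeometry CategoryTheory.Limits
open AlgGrp

namespace Groth.Agent.S18097

/-- Let k be an algebraically closed field, F an algebraically closed field extension of k, G an
algebraic k-group (a k-group scheme of finite type) and d a natural number. Then G_F contains a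
smooth connected solvable closed subgroup of dimension at least d if and only if G does; that is,
D'_s(k, G) = D'_s(F, G). -/
theorem result (k : Type u) [Field k] [IsAlgClosed k]
    (F : Type u) [Field F] [IsAlgClosed F] [Algebra k F]
    (G : Over (Spec (CommRingCat.of k))) [GrpObj G] [LocallyOfFiniteType G.hom] [QuasiCompact G.hom] (d : ℕ) :
    (∃ (U : Over (Spec (CommRingCat.of F))) (_ : GrpObj U) (i : U ⟶ Red.bc (Spec.map (CommRingCat.ofHom (algebraMap k F))) G), IsMonHom i ∧ IsClosedImmersion i.left ∧
        Smooth U.hom ∧ ConnectedSpace ↥U.left ∧ Red.IsSolvableGrp U ∧ (d : WithBot ℕ∞) ≤ topologicalKrullDim ↥U.left) ↔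
    (∃ (U : Over (Spec (CommRingCat.of k))) (_ : GrpObj U) (i : U ⟶ G), IsMonHom i ∧ IsClosedImmersion i.left ∧
        Smooth U.hom ∧ ConnectedSpace ↥U.left ∧ Red.IsSolvableGrp U ∧ (d : WithBot ℕ∞) ≤ topologicalKrullDim ↥U.left) := by
  constructor
  · rintro ⟨U, _, i, hi, hic, hs, hc, hsol, hd⟩
    haveI := hi; haveI := hic; haveI := hs; haveI := hc
    obtain ⟨R, _, r, hr, hrc, hRs, hRc, hRsol, hdim⟩ := AGF20Lib.SolvDimExt.exists_solv G i hsol
    exact ⟨R, inferInstance, r, hr, hrc, hRs, hRc, hRsol, hd.trans hdim⟩
  · rintro ⟨U, _, i, hi, hic, hs, hc, hsol, hd⟩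
    haveI := hi; haveI := hic; haveI := hs; haveI := hc
    let σ := Spec.map (CommRingCat.ofHom (algebraMap k F))
    haveI : (Over.pullback σ).IsRightAdjoint := (Over.mapPullbackAdj σ).isRightAdjoint
    haveI : IsClosedImmersion ((Over.pullback σ).map i).left :=
      MorphismProperty.overPullbackMap (P := @IsClosedImmersion) σ i hic
    exact ⟨Red.bc σ U, inferInstance, (Over.pullback σ).map i, inferInstance, inferInstance,
      inferInstanceAs (Smooth (pullback.snd U.hom σ)), AGF20Lib.UnipDimExt.connected_bc U,
      SolvGrp.isSolvableGrp_bc σ hsol, hd.trans (AGF20Lib.UnipDimExt.dim_bc U).ge⟩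

end Groth.Agent.S18097
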