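import Groth.Statements.S18099
import Groth.Agent.AGF20Lib.UnipDerived
-- import your own Groth.Agent.* helpers here

set_option autoImplicit false
set_option backward.isDefEq.respectTransparency false
set_option synthInstance.maxHeartbeats 400000
set_option backward.isDefEq.respectTransparency.types false
set_option maxHeartbeats 1000000
universe u
open CategoryTheory MonoidalCategory CartesianMonoidalCategory MonObj GrpObj AlgebraicGeometry CategoryTheory.Limits
open AlgGrp

namespace Groth.Agent.S18099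

/-- Let k be a perfect field, G a connected algebraic group over k, N = G_aff its largest connected
affine algebraic subgroup, R = R_u(G_aff) the unipotent radical of N, D = [G, G] the derived
subgroup (the smallest closed normal subgroup scheme containing all commutators of points) and H the
smallest normal connected algebraic subgroup of G with semi-abelian quotient. Then H = R_u(G_aff)
[G, G]: the underlying set of H is the image of the multiplication R × D → G (both sides being
smooth closed subgroups, this is an equality of subgroups). The second equality of the published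
statement, R_u(G_aff) [G, G] = R_u(G_aff) [G_aff, G_aff], is not part of this statement. -/
theorem result (k : Type u) [Field k] [PerfectField k]
    (G : Over (Spec (CommRingCat.of k))) [GrpObj G] [Smooth G.hom] [QuasiCompact G.hom] [ConnectedSpace ↥G.left]
    (N : Over (Spec (CommRingCat.of k))) [GrpObj N] (i : N ⟶ G) [IsMonHom i] [IsClosedImmersion i.left]
    [Smooth N.hom] [IsAffine N.left] [ConnectedSpace ↥N.left]
    (hNmax : ∀ (N₁ : Over (Spec (CommRingCat.of k))) [GrpObj N₁] (i₁ : N₁ ⟶ G) [IsMonHom i₁] [IsClosedImmersion i₁.left],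
      Smooth N₁.hom → IsAffine N₁.left → ConnectedSpace ↥N₁.left → ∃ f : N₁ ⟶ N, f ≫ i = i₁)
    (R : Over (Spec (CommRingCat.of k))) [GrpObj R] (u : R ⟶ N) (hR : Par.IsUnipotentRadical u)
    (D : Over (Spec (CommRingCat.of k))) [GrpObj D] (d : D ⟶ G) [IsMonHom d] [IsClosedImmersion d.left] (hDn : AlgGrp.IsNormalHom d)
    (hD : ∀ (T : Over (Spec (CommRingCat.of k))) (g g' : T ⟶ G), ∃ m : T ⟶ D, g * g' * g⁻¹ * g'⁻¹ = m ≫ d)
    (hDmin : ∀ (D' : Over (Spec (CommRingCat.of k))) [GrpObj D'] (d' : D' ⟶ G) [IsMonHom d'] [IsClosedImmersion d'.left],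
      AlgGrp.IsNormalHom d' → (∀ (T : Over (Spec (CommRingCat.of k))) (g g' : T ⟶ G), ∃ m : T ⟶ D', g * g' * g⁻¹ * g'⁻¹ = m ≫ d') →
      ∃ f : D ⟶ D', f ≫ d' = d)
    (H : Over (Spec (CommRingCat.of k))) [GrpObj H] (h : H ⟶ G) [IsMonHom h] [IsClosedImmersion h.left]
    [Smooth H.hom] [ConnectedSpace ↥H.left] (hHn : AlgGrp.IsNormalHom h)
    (Q : Over (Spec (CommRingCat.of k))) [GrpObj Q] (qH : G ⟶ Q) [IsMonHom qH] [Surjective qH.left] [Flat qH.left]
    (hHker : AlgGrp.IsKernel h qH) (hQ : (∃ (T : Over (Spec (CommRingCat.of k))) (_ : GrpObj T) (t : T ⟶ Q) (A : Over (Spec (CommRingCat.of k))) (_ : GrpObj A) (p : Q ⟶ A),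
        IsMonHom t ∧ IsClosedImmersion t.left ∧ Red.IsTorus T ∧ IsMonHom p ∧ Surjective p.left ∧ Flat p.left ∧
        AlgGrp.IsKernel t p ∧ IsProper A.hom ∧ Smooth A.hom ∧ ConnectedSpace ↥A.left))
    (hHmin : ∀ (H' : Over (Spec (CommRingCat.of k))) [GrpObj H'] (h' : H' ⟶ G) [IsMonHom h'] [IsClosedImmersion h'.left]
        (Q' : Over (Spec (CommRingCat.of k))) [GrpObj Q'] (q' : G ⟶ Q') [IsMonHom q'] [Surjective q'.left] [Flat q'.left],
        AlgGrp.IsNormalHom h' → Smooth H'.hom → ConnectedSpace ↥H'.left → AlgGrp.IsKernel h' q' → (∃ (T : Over (Spec (CommRingCat.of k))) (_ : GrpObj T) (t : T ⟶ Q') (A : Over (Spec (CommRingCat.of k))) (_ : GrpObj A) (p : Q' ⟶ A),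
        IsMonHom t ∧ IsClosedImmersion t.left ∧ Red.IsTorus T ∧ IsMonHom p ∧ Surjective p.left ∧ Flat p.left ∧
        AlgGrp.IsKernel t p ∧ IsProper A.hom ∧ Smooth A.hom ∧ ConnectedSpace ↥A.left) →
        ∃ f : H ⟶ H', f ≫ h' = h) :
    Set.range ⇑h.left.base = Set.range ⇑(((u ≫ i) ⊗ₘ d) ≫ μ[G]).left.base := by
  exact AGF20Lib.UnipDerived.range_eq (AGFLib.GeomBC.pt k) i u d h qH hNmax hR hDn hD hDmin hHn hHker hQ
    (fun H' _ h' _ _ hgood => by
      obtain ⟨_, _, h3, h4, h5, E, _, π, hπ, hπs, hπf, hπk, hE⟩ := hgood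
      haveI := hπ; haveI := hπs; haveI := hπf
      exact hHmin H' h' E π h3 h4 h5 hπk hE)

end Groth.Agent.S18099
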