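import Groth.Statements.S18100
import Groth.Agent.AGFLib.ProperSubvar
-- import your own Groth.Agent.* helpers here

set_option autoImplicit false
set_option backward.isDefEq.respectTransparency.types false
set_option maxHeartbeats 1000000
universe u
open CategoryTheory MonoidalCategory CartesianMonoidalCategory MonObj GrpObj AlgebraicGeometry CategoryTheory.Limits
open AlgGrp

namespace Groth.Agent.S18100

/-- Let k be a field and G a non-trivial anti-affine k-group scheme of finite type with no anti-affine
closed subgroup scheme other than G and the trivial one. Then G is either an abelian variety (proper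
over k), or every complete subvariety of G has dimension zero: any closed subscheme of G that is
geometrically integral and proper over k has dimension 0. -/
theorem result (k : Type u) [Field k]
    (G : Over (Spec (CommRingCat.of k))) [GrpObj G] [LocallyOfFiniteType G.hom] [QuasiCompact G.hom] (hG : ¬ Red.IsTrivialGrp G)
    (hGa : Function.Bijective ((Scheme.ΓSpecIso (CommRingCat.of k)).inv ≫ G.hom.appTop).hom)
    (hmin : ∀ (H : Over (Spec (CommRingCat.of k))) [GrpObj H] (h : H ⟶ G) [IsMonHom h] [IsClosedImmersion h.left], ¬ IsIso h → Function.Bijective ((Scheme.ΓSpecIso (CommRingCat.of k)).inv ≫ H.hom.appTop).hom → Red.IsTrivialGrp H) :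
    IsProper G.hom ∨
      ∀ (Z : Over (Spec (CommRingCat.of k))) (z : Z ⟶ G) [IsClosedImmersion z.left] [IsProper Z.hom] [GeometricallyIntegral Z.hom],
        topologicalKrullDim ↥Z.left = 0 := by
  by_cases hp : IsProper G.hom
  · exact Or.inl hp
  · refine Or.inr fun Z z _ _ _ => ?_
    exact AGFLib.ProperSubvar.dim_eq_zero (fun H _ h _ _ hi hb => hmin H h hi ((AGFLib.AntPart.bij_appTop_iff H).mpr hb)) hp z

end Groth.Agent.S18100
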