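import Groth.Statements.S18112
import Mathlib.Algebra.Group.ForwardDiff
import Mathlib.RingTheory.Polynomial.Pochhammer
import Mathlib.Data.Nat.Choose.Basic
import Mathlib.Algebra.Polynomial.Roots
import Mathlib.Tactic.FieldSimp
import Mathlib.Tactic.Linarith
import Mathlib.Tactic.LinearCombination

set_option autoImplicit false
set_option backward.isDefEq.respectTransparency false
set_option backward.isDefEq.respectTransparency.types false
set_option linter.style.haveILetI false
set_option linter.unusedSectionVars false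
set_option maxHeartbeats 400000
universe u
open CategoryTheory CategoryTheory.Limits MonoidalCategory CartesianMonoidalCategory MonObj GrpObj AlgebraicGeometry
open AbVar

namespace Groth.Agent.S18112


open fwdDiff in
/-- A polynomial of degree at most `g` with integer values at `0, …, g` has `g!` times integral coefficients. -/
theorem factorial_mul_mem_lifts (g : ℕ) (P : Polynomial ℚ) (hP : P.natDegree ≤ g) (v : ℕ → ℤ)
    (hv : ∀ i ≤ g, P.eval (i : ℚ) = (v i : ℚ)) :
    ∃ R : Polynomial ℤ, R.map (Int.castRingHom ℚ) = Polynomial.C (g.factorial : ℚ) * P := by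
  let d : ℕ → ℤ := fun i => Δ_[1]^[i] v 0
  let R : Polynomial ℤ := ∑ i ∈ Finset.range (g + 1),
    Polynomial.C (d i * ((g.factorial / i.factorial : ℕ) : ℤ)) * descPochhammer ℤ i
  refine ⟨R, Polynomial.eq_of_natDegree_lt_card_of_eval_eq' _ _ ((Finset.range (g + 1)).image ((↑) : ℕ → ℚ)) ?_ ?_⟩
  · intro x hx
    obtain ⟨n, hn, rfl⟩ := Finset.mem_image.1 hx
    rw [Finset.mem_range, Nat.lt_succ_iff] at hn
    rw [Polynomial.eval_mul, Polynomial.eval_C, hv n hn, show (n : ℚ) = ((n : ℤ) : ℚ) from (Int.cast_natCast n).symm,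
      Polynomial.eval_intCast_map, Polynomial.eval_finsetSum]
    have h1 := shift_eq_sum_fwdDiff_iter (h := 1) v n 0
    rw [zero_add, smul_eq_mul, _root_.mul_one] at h1
    rw [h1, Int.cast_id, eq_intCast]
    norm_cast
    rw [Finset.mul_sum]
    have hsub : Finset.range (n + 1) ⊆ Finset.range (g + 1) := by
      intro i hi
      rw [Finset.mem_range] at hi ⊢
      omega
    rw [← Finset.sum_subset hsub fun i _ hi => ?_]
    · refine Finset.sum_congr rfl fun i hi => ?_
      rw [Polynomial.eval_mul, Polynomial.eval_C, descPochhammer_eval_eq_descFactorial,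
        Nat.descFactorial_eq_factorial_mul_choose]
      have hig : i.factorial ∣ g.factorial := Nat.factorial_dvd_factorial (by
        rw [Finset.mem_range] at hi; omega)
      show d i * _ * _ = _ * (n.choose i • d i)
      rw [nsmul_eq_mul]
      conv_rhs => rw [← Nat.div_mul_cancel hig]
      push_cast
      ring
    · rw [Finset.mem_range, not_lt] at hi
      rw [Polynomial.eval_mul, descPochhammer_eval_eq_descFactorial, Nat.descFactorial_eq_zero_iff_lt.2 (by omega),
        Nat.cast_zero, mul_zero]
  · rw [Finset.card_image_of_injective _ Nat.cast_injective, Finset.card_range, Nat.lt_succ_iff, max_le_iff]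
    refine ⟨(Polynomial.natDegree_map_le).trans (Polynomial.natDegree_sum_le_of_forall_le _ _ fun i hi => ?_),
      (Polynomial.natDegree_C_mul_le _ _).trans hP⟩
    rw [Finset.mem_range] at hi
    exact (Polynomial.natDegree_C_mul_le _ _).trans (by rw [descPochhammer_natDegree]; omega)

/-- Integral values on the fractions with denominator `b` in an interval give integral coefficients up to `b`-powers. -/
theorem pow_mul_coeff (g b : ℕ) (hb : 0 < b) (a : ℤ) (Q : Polynomial ℚ) (hQ : Q.natDegree ≤ g) (v : ℕ → ℤ)
    (hv : ∀ i ≤ g, (b : ℚ) ^ (2 * g) * Q.eval (((a + i : ℤ) : ℚ) / b) = (v i : ℚ)) (j : ℕ) :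
    ∃ z : ℤ, (b : ℚ) ^ (2 * g) * ((g.factorial : ℚ) * Q.coeff j) = z := by
  let L : Polynomial ℚ := Polynomial.C ((b : ℚ)⁻¹) * (Polynomial.X + Polynomial.C (a : ℚ))
  let L' : Polynomial ℤ := Polynomial.C (b : ℤ) * Polynomial.X - Polynomial.C a
  have hb' : (b : ℚ) ≠ 0 := by positivity
  obtain ⟨R, hR⟩ := factorial_mul_mem_lifts g (Polynomial.C ((b : ℚ) ^ (2 * g)) * Q.comp L)
    ((Polynomial.natDegree_C_mul_le _ _).trans (Polynomial.natDegree_comp_le.trans (by
      have : L.natDegree ≤ 1 := (Polynomial.natDegree_C_mul_le _ _).trans (Polynomial.natDegree_X_add_C _).le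
      calc Q.natDegree * L.natDegree ≤ Q.natDegree * 1 := Nat.mul_le_mul_left _ this
        _ ≤ g := by omega))) v (fun i hi => by
      rw [← hv i hi]
      simp only [L, Polynomial.eval_mul, Polynomial.eval_C, Polynomial.eval_comp, Polynomial.eval_add, Polynomial.eval_X]
      push_cast
      congr 2
      field_simp
      ring)
  refine ⟨(R.comp L').coeff j, ?_⟩
  have h : (R.comp L').map (Int.castRingHom ℚ) = Polynomial.C ((b : ℚ) ^ (2 * g) * (g.factorial : ℚ)) * Q := by
    rw [Polynomial.map_comp, hR, ← _root_.mul_assoc, ← Polynomial.C_mul, Polynomial.mul_comp, Polynomial.C_comp,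
      Polynomial.comp_assoc, show L.comp (L'.map (Int.castRingHom ℚ)) = Polynomial.X from ?_, Polynomial.comp_X,
      _root_.mul_comm ((g.factorial : ℚ))]
    refine Polynomial.funext fun x => ?_
    simp [L, L']
    field_simp
  have h' := congrArg (fun p => Polynomial.coeff p j) h
  simp only [Polynomial.coeff_map, Polynomial.coeff_C_mul, eq_intCast] at h'
  rw [h', _root_.mul_assoc]

/-- Let k be an algebraically closed field of characteristic zero, A an abelian variety over k (a proper
smooth k-group scheme with geometrically connected fibres) of dimension g, (A^t, φ) a given dual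
abelian variety of A for the fppf topology with A^t itself an abelian variety, and P an invertible
module on A ×_k A^t whose class is a Poincaré class; for a k-point α of A^t write P_α for the
restriction of P to A × {α}. Let L be an ample invertible O_A-module with an inverse L' (L ⊗ L' ≅
O_A), negative powers of L meaning powers of L'. For a coherent O_A-module G write h^i_gen(G) for
the generic value of h^i(A, G ⊗ P_α), rendered as the minimum over all k-points α of A^t (the
generic value by semicontinuity), and for b ≥ 1 let b_A : A → A be multiplication by b. Let F be a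
coherent O_A-module and i ≥ 0, and consider the i-th cohomological rank function of F with respect
to L, the function on the rationals x = a/b (b ≥ 1) with value b^{-2g} · h^i_gen(b_A^* F ⊗ L^{ab}).
Suppose that on an open interval (u, v), u < v rational, this function agrees with a polynomial Q
with rational coefficients of degree at most g. Then every coefficient of Q lies in (1/g!)ℤ, i.e. g!
· Q has integer coefficients. (Stated for a coherent module; the source allows any object of the
bounded derived category of coherent modules. The degree bound on Q, which the source takes from the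
local polynomiality of rank functions, is made a hypothesis here.) -/
theorem result (k : Type u) [Field k] [IsAlgClosed k] [CharZero k]
    (A At : Over (Spec (CommRingCat.of k))) [GrpObj A] [IsProper A.hom] [Smooth A.hom] [GeometricallyConnected A.hom]
    [GrpObj At] [IsProper At.hom] [Smooth At.hom] [GeometricallyConnected At.hom]
    (φ : ∀ T : Over (Spec (CommRingCat.of k)), PicF.Cl (PicF.XT A.hom T) → (T ⟶ At))
    (hφ : AbDual.IsDualAV Scheme.fppfPrecoverage A At φ)
    (P : (pullback A.hom At.hom).Modules) (hP : PicF.IsInvertible P)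
    (hPξ : AbDual.IsPoincareCl A At φ (PicF.cl P))
    (g : ℕ) (hg : topologicalKrullDim ↥A.left = g)
    (L L' : A.left.Modules) (hL : CohB1.IsAmple L) (hLL' : Nonempty (CohB1.tensorMod L L' ≅ Coh.structureModule A.left))
    (F : A.left.Modules) (hF : Coh.IsCoh F) (i : ℕ) (u v : ℚ) (huv : u < v)
    (Q : Polynomial ℚ) (hQ : Q.natDegree ≤ g)
    (hpoly : ∀ (a : ℤ) (b : ℕ), 0 < b → u < (a : ℚ) / (b : ℚ) → (a : ℚ) / (b : ℚ) < v →
      ((W4c5cohrankabvar.hgen k P (W4c5cohrankabvar.twist A F L L' b (a * b)) i : ℕ) : ℚ) / (b : ℚ) ^ (2 * g) =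
        Q.eval ((a : ℚ) / (b : ℚ)))
    (j : ℕ) : ∃ z : ℤ, (Nat.factorial g : ℚ) * Q.coeff j = (z : ℚ) := by
  have key : ∀ b : ℕ, 0 < b → ((g : ℚ) + 2) < (v - u) * b →
      ∃ z : ℤ, (b : ℚ) ^ (2 * g) * ((g.factorial : ℚ) * Q.coeff j) = z := by
    intro b hb hbig
    have hbq : (0 : ℚ) < b := by exact_mod_cast hb
    let a : ℤ := ⌊u * b⌋ + 1
    refine pow_mul_coeff g b hb a Q hQ
      (fun n => ((W4c5cohrankabvar.hgen k P (W4c5cohrankabvar.twist A F L L' b ((a + n) * b)) i : ℕ) : ℤ))
      (fun n hn => ?_) j
    have h1 : u * b < (a : ℚ) := by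
      show u * b < ((⌊u * b⌋ + 1 : ℤ) : ℚ)
      push_cast
      exact Int.lt_floor_add_one _
    have h2 : (a : ℚ) ≤ u * b + 1 := by
      show ((⌊u * b⌋ + 1 : ℤ) : ℚ) ≤ _
      push_cast
      linarith [Int.floor_le (u * (b : ℚ))]
    have h3 : (n : ℚ) ≤ (g : ℚ) := by exact_mod_cast hn
    rw [← hpoly (a + n) b hb ?_ ?_]
    · rw [mul_div_cancel₀ _ (pow_ne_zero _ hbq.ne'), Int.cast_natCast]
    · rw [lt_div_iff₀ hbq]
      push_cast
      linarith [(Nat.cast_nonneg n : (0 : ℚ) ≤ (n : ℚ))]
    · rw [div_lt_iff₀ hbq]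
      push_cast
      nlinarith [h1, h2, h3, hbig]
  obtain ⟨N, hN⟩ := exists_nat_gt (((g : ℚ) + 2) / (v - u))
  have hvu : (0 : ℚ) < v - u := sub_pos.2 huv
  rw [div_lt_iff₀ hvu] at hN
  obtain ⟨z₁, hz₁⟩ := key (N + 1) N.succ_pos (by push_cast; linarith)
  obtain ⟨z₂, hz₂⟩ := key (N + 2) (N + 1).succ_pos (by push_cast; linarith)
  have hco : Nat.Coprime (N + 1) (N + 2) := by
    rw [show N + 2 = (N + 1) + 1 from rfl, Nat.coprime_self_add_right]
    exact Nat.coprime_one_right _
  obtain ⟨r, s, hrs⟩ : IsCoprime (((N + 1) ^ (2 * g) : ℕ) : ℤ) (((N + 2) ^ (2 * g) : ℕ) : ℤ) :=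
    Nat.isCoprime_iff_coprime.2 (Nat.Coprime.pow _ _ hco)
  refine ⟨r * z₁ + s * z₂, ?_⟩
  have hrs' := congrArg (fun z : ℤ => (z : ℚ)) hrs
  push_cast at hrs' hz₁ hz₂ ⊢
  rw [← hz₁, ← hz₂]
  linear_combination (-(g.factorial : ℚ) * Q.coeff j) * hrs'

end Groth.Agent.S18112
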