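import Groth.Statements.S18121
import Mathlib.RingTheory.AdjoinRoot
import Mathlib.Algebra.MvPolynomial.CommRing
import Mathlib.RingTheory.MvPolynomial.Basic

set_option autoImplicit false
universe u
open Pinch

namespace Groth.Agent.S18121

/-- Let B be a commutative ring, b an element of B, B' := B[z]/(z^2 - b) the rank-two B-algebra with z^2
= b, and Ψ : B[u, v] → B'[t] the B-algebra homomorphism with u ↦ z t and v ↦ t. Then the kernel of Ψ
is the principal ideal generated by u^2 - b v^2, and a polynomial of B'[t] lies in the image of Ψ as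
soon as its constant coefficient lies in B. Equivalently, B[u, v]/(u^2 - b v^2) is the fibre product
of B'[t] and B over B' (for t ↦ 0 and the inclusion of B): the pinching of Spec B' × 𝔸¹ along Spec
B' × {0} by the double cover Spec B' → Spec B is the hypersurface u^2 = b v^2 over B; for B = K[w]
and b = w this is the pinch point u^2 = v^2 w. -/
theorem result (B : Type u) [CommRing B] (b : B) :
    letI Ψ : MvPolynomial (Fin 2) B →ₐ[B] Polynomial (AdjoinRoot (Polynomial.X ^ 2 - Polynomial.C b)) :=
      MvPolynomial.aeval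
        ![Polynomial.C (AdjoinRoot.root (Polynomial.X ^ 2 - Polynomial.C b)) * Polynomial.X, Polynomial.X]
    RingHom.ker Ψ.toRingHom =
        Ideal.span {MvPolynomial.X 0 ^ 2 - MvPolynomial.C b * MvPolynomial.X 1 ^ 2} ∧
      ∀ G : Polynomial (AdjoinRoot (Polynomial.X ^ 2 - Polynomial.C b)),
        (∃ c : B, G.coeff 0 = algebraMap B (AdjoinRoot (Polynomial.X ^ 2 - Polynomial.C b)) c) →
          G ∈ Ψ.range := by
  classical
  let Ψ : MvPolynomial (Fin 2) B →ₐ[B] Polynomial (AdjoinRoot (Polynomial.X ^ 2 - Polynomial.C b)) :=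
    MvPolynomial.aeval
      ![Polynomial.C (AdjoinRoot.root (Polynomial.X ^ 2 - Polynomial.C b)) * Polynomial.X, Polynomial.X]
  show RingHom.ker Ψ.toRingHom =
        Ideal.span {MvPolynomial.X 0 ^ 2 - MvPolynomial.C b * MvPolynomial.X 1 ^ 2} ∧
      ∀ G : Polynomial (AdjoinRoot (Polynomial.X ^ 2 - Polynomial.C b)),
        (∃ c : B, G.coeff 0 = algebraMap B (AdjoinRoot (Polynomial.X ^ 2 - Polynomial.C b)) c) →
          G ∈ Ψ.range
  let g : Polynomial B := Polynomial.X ^ 2 - Polynomial.C b
  rcases subsingleton_or_nontrivial B with hB | hB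
  · refine ⟨Subsingleton.elim _ _, fun G _ => ⟨0, ?_⟩⟩
    have : Subsingleton (Polynomial (AdjoinRoot g)) :=
      (algebraMap B (Polynomial (AdjoinRoot g))).codomain_trivial
    exact Subsingleton.elim _ _
  have hg : g.Monic := Polynomial.monic_X_pow_sub_C b two_ne_zero
  have hg2 : g.natDegree = 2 := Polynomial.natDegree_X_pow_sub_C
  let S := AdjoinRoot g
  let s : S := AdjoinRoot.root g
  have hs : s ^ 2 = algebraMap B S b := by
    have := AdjoinRoot.eval₂_root g
    simp only [g, Polynomial.eval₂_sub, Polynomial.eval₂_pow, Polynomial.eval₂_X, Polynomial.eval₂_C, sub_eq_zero] at this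
    exact this
  have hdec : ∀ z : S, ∃ a c : B, z = algebraMap B S a + algebraMap B S c * s := by
    intro z
    obtain ⟨p, rfl⟩ := AdjoinRoot.mk_surjective z
    refine ⟨(p %ₘ g).coeff 0, (p %ₘ g).coeff 1, ?_⟩
    have hd : (p %ₘ g).natDegree < 2 := hg2 ▸ Polynomial.natDegree_modByMonic_lt p hg (by
      intro h; rw [h] at hg2; simp at hg2)
    have h0 : AdjoinRoot.mk g p = AdjoinRoot.mk g (p %ₘ g) := by
      conv_lhs => rw [← Polynomial.modByMonic_add_div p g]
      rw [map_add, map_mul, AdjoinRoot.mk_self, zero_mul, add_zero]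
    rw [h0]
    conv_lhs => rw [Polynomial.eq_X_add_C_of_natDegree_le_one (Nat.lt_succ_iff.mp hd)]
    simp [s, S, add_comm]
  have hind : ∀ a c : B, algebraMap B S a + algebraMap B S c * s = 0 → a = 0 ∧ c = 0 := by
    intro a c h
    have h1 : AdjoinRoot.mk g (Polynomial.C c * Polynomial.X + Polynomial.C a) = 0 := by
      rw [map_add, map_mul, AdjoinRoot.mk_X, AdjoinRoot.mk_C, AdjoinRoot.mk_C, add_comm]
      exact h
    rw [AdjoinRoot.mk_eq_zero] at h1
    have h2 : Polynomial.C c * Polynomial.X + Polynomial.C a = 0 := by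
      by_contra hne
      refine absurd h1 (Polynomial.Monic.not_dvd_of_natDegree_lt hg hne ?_)
      rw [hg2]
      exact Nat.lt_succ_of_le Polynomial.natDegree_linear_le
    exact ⟨by simpa using congrArg (Polynomial.coeff · 0) h2, by simpa using congrArg (Polynomial.coeff · 1) h2⟩
  let t : MvPolynomial (Fin 2) B := MvPolynomial.X 0
  let y : MvPolynomial (Fin 2) B := MvPolynomial.X 1
  have hΨt : Ψ t = Polynomial.C s * Polynomial.X := by simp [Ψ, t, s, g]
  have hΨy : Ψ y = Polynomial.X := by simp [Ψ, y]
  let rel : MvPolynomial (Fin 2) B := t ^ 2 - MvPolynomial.C b * y ^ 2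
  have hrel : Ψ rel = 0 := by
    rw [map_sub, map_mul, map_pow, map_pow, hΨt, hΨy, ← MvPolynomial.algebraMap_eq, AlgHom.commutes, mul_pow,
      ← Polynomial.C_pow, hs, IsScalarTower.algebraMap_apply B S (Polynomial S), Polynomial.algebraMap_eq, sub_self]
  let ι : Polynomial B →ₐ[B] MvPolynomial (Fin 2) B := Polynomial.aeval y
  have hι : ∀ F : Polynomial B, Ψ (ι F) = F.map (algebraMap B S) := fun F => by
    rw [show Ψ (ι F) = Polynomial.aeval (Ψ y) F from (Polynomial.aeval_algHom_apply Ψ y F).symm, hΨy,
      ← Polynomial.mapAlg_eq_map]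
    exact AlgHom.congr_fun (Polynomial.algHom_ext (f := Polynomial.aeval Polynomial.X)
      (g := Polynomial.mapAlg B S) (by simp [Polynomial.mapAlg_eq_map])) F
  have hnf : ∀ P : MvPolynomial (Fin 2) B, ∃ F G : Polynomial B, P - (ι F + t * ι G) ∈ Ideal.span {rel} := by
    intro P
    induction P using MvPolynomial.induction_on with
    | C a => exact ⟨Polynomial.C a, 0, by simp [ι]⟩
    | add P Q hP hQ =>
      obtain ⟨F, G, hF⟩ := hP
      obtain ⟨F', G', hF'⟩ := hQ
      refine ⟨F + F', G + G', ?_⟩
      convert add_mem hF hF' using 1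
      simp only [map_add]; ring
    | mul_X P i hP =>
      obtain ⟨F, G, hF⟩ := hP
      fin_cases i
      · refine ⟨Polynomial.C b * Polynomial.X ^ 2 * G, F, ?_⟩
        convert add_mem (Ideal.mul_mem_right t _ hF) (Ideal.mul_mem_right (ι G) _ (Ideal.mem_span_singleton_self rel)) using 1
        simp [ι, rel, t, y]; ring
      · refine ⟨F * Polynomial.X, G * Polynomial.X, ?_⟩
        convert Ideal.mul_mem_right y _ hF using 1
        simp [ι, y]; ring
  constructor
  · refine le_antisymm (fun P hP => ?_) (Ideal.span_le.mpr (Set.singleton_subset_iff.mpr hrel))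
    obtain ⟨F, G, hFG⟩ := hnf P
    have h0 : Ψ (ι F + t * ι G) = 0 := by
      obtain ⟨c, hc⟩ := Ideal.mem_span_singleton'.mp hFG
      have h := congrArg Ψ hc
      rw [map_mul, hrel, mul_zero, map_sub, show Ψ P = 0 from hP, zero_sub] at h
      exact neg_eq_zero.mp h.symm
    rw [map_add, map_mul, hι, hι, hΨt] at h0
    have hF0 : ∀ n, F.coeff n = 0 ∧ (Polynomial.X * G).coeff n = 0 := fun n => by
      refine hind _ _ ?_
      have := congrArg (Polynomial.coeff · n) h0
      rw [mul_assoc, ← Polynomial.map_X (algebraMap B S), ← Polynomial.map_mul] at this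
      simp only [Polynomial.coeff_add, Polynomial.coeff_C_mul, Polynomial.coeff_map, Polynomial.coeff_zero] at this
      rw [mul_comm s] at this
      exact this
    have hFz : F = 0 := Polynomial.ext fun n => by simpa using (hF0 n).1
    have hGz : G = 0 := Polynomial.ext fun n => by
      have := (hF0 (n + 1)).2
      rw [Polynomial.coeff_X_mul] at this
      simpa using this
    rw [hFz, hGz, map_zero, mul_zero, add_zero, sub_zero] at hFG
    exact hFG
  · rintro G ⟨c, hc⟩
    have hmon : ∀ (n : ℕ) (z : S), (n = 0 → ∃ c : B, z = algebraMap B S c) → Polynomial.monomial n z ∈ Ψ.range := by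
      intro n z hz
      obtain ⟨a, d, rfl⟩ := hdec z
      rw [map_add]
      refine Subalgebra.add_mem _ ⟨MvPolynomial.C a * y ^ n, ?_⟩ ?_
      · show Ψ (MvPolynomial.C a * y ^ n) = _
        rw [map_mul, map_pow, hΨy, ← MvPolynomial.algebraMap_eq, AlgHom.commutes,
          IsScalarTower.algebraMap_apply B S (Polynomial S), Polynomial.algebraMap_eq,
          Polynomial.C_mul_X_pow_eq_monomial]
      · cases n with
        | zero =>
          obtain ⟨c', hc'⟩ := hz rfl
          have := (hind (a - c') d (by rw [map_sub, sub_add_eq_add_sub, hc', sub_self])).2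
          simp [this]
        | succ n =>
          refine ⟨MvPolynomial.C d * t * y ^ n, ?_⟩
          show Ψ (MvPolynomial.C d * t * y ^ n) = _
          rw [map_mul, map_mul, map_pow, hΨy, hΨt, ← MvPolynomial.algebraMap_eq, AlgHom.commutes,
            IsScalarTower.algebraMap_apply B S (Polynomial S), Polynomial.algebraMap_eq,
            ← Polynomial.C_mul_X_pow_eq_monomial, map_mul, pow_succ' (Polynomial.X : Polynomial S) n]
          simp only [mul_assoc]
    rw [G.as_sum_support]
    refine Subalgebra.sum_mem _ fun n _ => hmon n _ fun hn => ⟨c, ?_⟩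
    subst hn; exact hc


end Groth.Agent.S18121
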