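import Groth.Statements.S18123
import Groth.Agent.Pinch7.Deriv
-- import your own Groth.Agent.* helpers here

set_option autoImplicit false
universe u
open Pinch

namespace Groth.Agent.S18123

/-- Let K be a field in which 2 ≠ 0, S = K[x, y], and R ⊆ S the K-subalgebra generated by x^2, x y, y,
the coordinate ring of the pinch point with normalization S, obtained by gluing the plane along the
line y = 0 via x ↦ -x. A K-derivation D of S maps R into R if and only if D(y) is a multiple of y
and D(x) = y s + x p(x^2) for some s in S and some polynomial p in one variable. Every K-derivation
R → S extends uniquely to S, and under this identification the derivations mapping R into R form the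
image of the tangent sheaf of the pinch point in that of its normalization; so this image contains y
times all derivations of S, and modulo those it is spanned by the odd multiples x^(2k+1) ∂/∂x, the
part of the tangent sheaf of the line y = 0 invariant under x ↦ -x. (The text works over an
algebraically closed field of characteristic different from 2; the computation uses only 2 ≠ 0.) -/
theorem result
    (K : Type u) [Field K] [NeZero (2 : K)]
    (D : Derivation K (MvPolynomial (Fin 2) K) (MvPolynomial (Fin 2) K)) :
    letI x : MvPolynomial (Fin 2) K := MvPolynomial.X 0
    letI y : MvPolynomial (Fin 2) K := MvPolynomial.X 1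
    letI R : Subalgebra K (MvPolynomial (Fin 2) K) := Algebra.adjoin K {x ^ 2, x * y, y}
    (∀ r ∈ R, D r ∈ R) ↔
      (D y ∈ Ideal.span {y} ∧
        ∃ (s : MvPolynomial (Fin 2) K) (p : Polynomial K), D x = y * s + x * Polynomial.aeval (x ^ 2) p) := by
  exact Groth.Agent.Pinch7.maps_into_iff D

end Groth.Agent.S18123
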