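import Groth.Statements.S18125
import Mathlib.RingTheory.Ideal.Colon
import Mathlib.RingTheory.Ideal.Quotient.Operations
import Mathlib.RingTheory.Polynomial.Basic
import Mathlib.RingTheory.MvPolynomial.Basic
import Mathlib.Tactic.LinearCombination

set_option autoImplicit false
universe u
open Pinch

namespace Groth.Agent.S18125

/-- Let K be a field in which 2 ≠ 0, n ≥ 0, S = K[u, v, w, t_1, …, t_n] (u, v, w the first three
variables), h = u^2 - v^2 w the equation of the pinch-point model, and Jac the ideal generated by h
and its three partial derivatives 2u, -2vw, -v^2, which cuts out the scheme-theoretic singular locus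
of {h = 0}. Then the ideal (u, v) of the double locus is Jac + (v), and the colon ideal of Jac by
(v) is (u, v, w). Consequently (u, v)/Jac, the ideal of the double locus restricted to the singular
locus, is an invertible sheaf on the pinch locus u = v = w = 0: it is free of rank one over K[t_1,
…, t_n] on the class of v. (The text states this for every semi-smooth variety and reduces to this
model; K algebraically closed is not needed for the model computation.) -/
theorem result
    (K : Type u) [Field K] [NeZero (2 : K)] (n : ℕ) :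
    letI u : MvPolynomial (Fin (n + 3)) K := MvPolynomial.X 0
    letI v : MvPolynomial (Fin (n + 3)) K := MvPolynomial.X 1
    letI w : MvPolynomial (Fin (n + 3)) K := MvPolynomial.X 2
    letI Jac : Ideal (MvPolynomial (Fin (n + 3)) K) :=
      Ideal.span {u ^ 2 - v ^ 2 * w, 2 * u, -(2 * v * w), -(v ^ 2)}
    Ideal.span {u, v} = Jac ⊔ Ideal.span {v} ∧ Jac.colon (Ideal.span {v}) = Ideal.span {u, v, w} := by
  classical
  let u : MvPolynomial (Fin (n + 3)) K := MvPolynomial.X 0
  let v : MvPolynomial (Fin (n + 3)) K := MvPolynomial.X 1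
  let w : MvPolynomial (Fin (n + 3)) K := MvPolynomial.X 2
  let Jac : Ideal (MvPolynomial (Fin (n + 3)) K) := Ideal.span {u ^ 2 - v ^ 2 * w, 2 * u, -(2 * v * w), -(v ^ 2)}
  show Ideal.span {u, v} = Jac ⊔ Ideal.span {v} ∧ Jac.colon (Ideal.span {v}) = Ideal.span {u, v, w}
  let P := MvPolynomial (Fin (n + 3)) K
  have h2 : IsUnit (2 : P) := by
    rw [← map_ofNat MvPolynomial.C 2]
    exact (Ne.isUnit (NeZero.ne (2 : K))).map MvPolynomial.C
  have hu : u ∈ Jac := by
    rw [← h2.unit.inv_mul_cancel_left u |>.trans rfl]
    exact Ideal.mul_mem_left _ _ (Ideal.subset_span (by simp))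
  have hvv : v ^ 2 ∈ Jac := neg_mem_iff.mp (Ideal.subset_span (by simp))
  have hvw : v * w ∈ Jac := by
    rw [← h2.unit.inv_mul_cancel_left (v * w) |>.trans rfl]
    refine Ideal.mul_mem_left _ _ (neg_mem_iff.mp (Ideal.subset_span ?_))
    simp [mul_assoc]
  have hJle : Jac ≤ Ideal.span {u, v * w, v ^ 2} := by
    refine Ideal.span_le.mpr ?_
    have hu' : u ∈ Ideal.span ({u, v * w, v ^ 2} : Set P) := Ideal.subset_span (by simp)
    have hvw' : v * w ∈ Ideal.span ({u, v * w, v ^ 2} : Set P) := Ideal.subset_span (by simp)
    have hvv' : v ^ 2 ∈ Ideal.span ({u, v * w, v ^ 2} : Set P) := Ideal.subset_span (by simp)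
    rintro x (rfl | rfl | rfl | rfl)
    · exact sub_mem (by rw [pow_two u]; exact Ideal.mul_mem_left _ _ hu') (Ideal.mul_mem_right _ _ hvv')
    · exact Ideal.mul_mem_left _ _ hu'
    · exact neg_mem (by rw [mul_assoc]; exact Ideal.mul_mem_left _ _ hvw')
    · exact neg_mem hvv'
  constructor
  · refine le_antisymm (Ideal.span_le.mpr ?_) (sup_le (hJle.trans (Ideal.span_le.mpr ?_)) (Ideal.span_mono (by simp)))
    · rintro x (rfl | rfl)
      · exact Ideal.mem_sup_left hu
      · exact Ideal.mem_sup_right (Ideal.mem_span_singleton_self _)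
    · rintro x (rfl | rfl | rfl)
      · exact Ideal.subset_span (by simp)
      · exact Ideal.mul_mem_right _ _ (Ideal.subset_span (by simp))
      · rw [pow_two]; exact Ideal.mul_mem_right _ _ (Ideal.subset_span (by simp))
  · refine le_antisymm (fun r hr => ?_) (Ideal.span_le.mpr ?_)
    · have hrv : r * v ∈ Ideal.span ({u, v * w, v ^ 2} : Set P) :=
        hJle (Submodule.mem_colon.mp hr v (Ideal.mem_span_singleton_self v))
      let θ : P →ₐ[K] P := MvPolynomial.aeval fun j => if j = 0 then 0 else if j = 2 then 0 else MvPolynomial.X j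
      have hθu : θ u = 0 := (MvPolynomial.aeval_X _ (0 : Fin (n + 3))).trans (if_pos rfl)
      have hθw : θ w = 0 := (MvPolynomial.aeval_X _ (2 : Fin (n + 3))).trans (by split_ifs <;> first | rfl | contradiction)
      have hθv : θ v = v := by
        have h10 : (1 : Fin (n + 3)) ≠ 0 := by simp
        have h12 : (1 : Fin (n + 3)) ≠ 2 := by simp [Fin.ext_iff, Fin.val_one, Nat.mod_eq_of_lt]
        exact (MvPolynomial.aeval_X _ (1 : Fin (n + 3))).trans ((if_neg h10).trans (if_neg h12))
      have h1 := Ideal.mem_map_of_mem θ hrv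
      rw [Ideal.map_span, map_mul, hθv] at h1
      have h1' : θ r * v ∈ Ideal.span {v ^ 2} := by
        refine (Ideal.span_le.mpr ?_ : Ideal.span _ ≤ _) h1
        rintro _ ⟨x, rfl | rfl | rfl, rfl⟩
        · rw [hθu]; exact zero_mem _
        · rw [map_mul, hθw, mul_zero]; exact zero_mem _
        · rw [map_pow, hθv]; exact Ideal.mem_span_singleton_self _
      obtain ⟨q, hq⟩ := Ideal.mem_span_singleton'.mp h1'
      have hv0 : v ≠ 0 := MvPolynomial.X_ne_zero _
      have h3 : θ r = q * v := mul_right_cancel₀ hv0 (by linear_combination -hq)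
      have h4 : (Ideal.Quotient.mkₐ K (Ideal.span ({u, v, w} : Set P))).comp θ = Ideal.Quotient.mkₐ K _ := by
        refine MvPolynomial.algHom_ext fun j => ?_
        simp only [AlgHom.comp_apply, θ, MvPolynomial.aeval_X]
        split_ifs with h h'
        · subst h
          rw [map_zero]
          exact (Ideal.Quotient.eq_zero_iff_mem.mpr (Ideal.subset_span (by simp [u]))).symm
        · subst h'
          rw [map_zero]
          exact (Ideal.Quotient.eq_zero_iff_mem.mpr (Ideal.subset_span (by simp [w]))).symm
        · rfl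
      have h5 := AlgHom.congr_fun h4 r
      rw [AlgHom.comp_apply, h3] at h5
      refine Ideal.Quotient.eq_zero_iff_mem.mp (h5.symm.trans ?_)
      exact Ideal.Quotient.eq_zero_iff_mem.mpr (Ideal.mul_mem_left _ _ (Ideal.subset_span (by simp)))
    · rintro x hx
      refine Submodule.mem_colon.mpr fun y hy => ?_
      obtain ⟨c, rfl⟩ := Ideal.mem_span_singleton'.mp hy
      rw [smul_eq_mul, mul_left_comm]
      refine Ideal.mul_mem_left _ _ ?_
      obtain rfl | rfl | rfl := hx
      · exact Ideal.mul_mem_right _ _ hu
      · rw [← pow_two]; exact hvv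
      · rw [mul_comm]; exact hvw


end Groth.Agent.S18125
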