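import Groth.Statements.S18126
import Mathlib
import Groth.Agent.S9142
import Groth.Agent.S9664
import Groth.Agent.S9665
import Groth.Agent.S9670
import Groth.Agent.Synt29.Fibres
import Groth.Agent.Synt29.FlatLCI
import Groth.Agent.Synt29.H1Vanish

set_option backward.isDefEq.respectTransparency.types false
attribute [local instance] Algebra.TensorProduct.rightAlgebra

set_option autoImplicit false
universe u
open Deform

namespace Groth.Agent.S18126

/-- Let A be a Noetherian ring in which 2 is invertible and P a flat A-algebra which is a local complete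
intersection over A (of finite type, with Koszul-regular kernel for some polynomial presentation)
and whose fibres are generically smooth: every prime of P minimal among the primes of its fibre over
A lies in the smooth locus of A → P. Then the first homology of the naive cotangent complex of P
over A vanishes, H_1(NL_{P/A}) = 0: for every presentation P = S/I by a polynomial A-algebra S the
conormal sequence 0 → I/I^2 → Ω_{S/A} ⊗_S P → Ω_{P/A} → 0 is exact on the left. Since the cotangent
complex of a local complete intersection is this two-term complex, it is quasi-isomorphic to Ω_{P/A}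
in degree 0, which is the identification that makes T^1 = Ext^1(Ω_{P/A}, P) the degree-one
cohomology of RHom of the cotangent complex into P. (The text states the latter identification for a
flat local complete intersection morphism of Noetherian schemes with generically smooth fibres; the
row is its affine content.) -/
theorem result
    (A : Type u) [CommRing A] [IsNoetherianRing A] (h2 : IsUnit (2 : A))
    (P : Type u) [CommRing P] [Algebra A P] [Module.Flat A P] (hlci : LCI.IsLCI A P)
    (hgs : ∀ 𝔓 : PrimeSpectrum P,
      (∀ 𝔔 : PrimeSpectrum P, 𝔔 ≤ 𝔓 →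
          𝔔.asIdeal.comap (algebraMap A P) = 𝔓.asIdeal.comap (algebraMap A P) → 𝔔 = 𝔓) →
        𝔓 ∈ Algebra.smoothLocus A P) :
    Subsingleton (Algebra.H1Cotangent A P) := by
  haveI := hlci.1
  have hS : Synt.IsSyntomic A P := Synt29.isSyntomic_of_flat_of_isLCI hlci
  haveI : IsNoetherianRing P := Algebra.FiniteType.isNoetherianRing A P
  haveI := hS.2.1
  let G := (Algebra.Presentation.ofFinitePresentation A P).toGenerators
  haveI := Synt29.projective_cotangent_of_isSyntomic G hS
  refine Synt29.subsingleton_h1Cotangent_of_associatedPrimes G fun 𝔓 hP ha => ?_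
  have hsm : Algebra.IsSmoothAt A 𝔓 := hgs ⟨𝔓, hP⟩ fun 𝔔 hle hc => ?_
  · haveI : Algebra.FormallySmooth A (Localization.AtPrime 𝔓) := hsm
    exact Algebra.FormallySmooth.subsingleton_h1Cotangent
  let q := 𝔓.comap (algebraMap A P)
  have h1 : 𝔓 ∈ FlatCA.ass P P := by
    obtain ⟨hp, e, he⟩ := isAssociatedPrime_iff.1 ha
    exact ⟨hp, e, he.trans (by ext r; simp [Submodule.mem_annihilator_span_singleton, Submodule.mem_colon_singleton])⟩
  have h2 : 𝔓 ∈ FlatCA.ass P (TensorProduct A P A) :=
    WeakAss.ass_subset_of_injective
      (TensorProduct.AlgebraTensorModule.rid A P P).symm.toLinearMap (LinearEquiv.injective _) h1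
  have h3 := S9665.result P q 𝔓 rfl (S9670.result P A q 𝔓 rfl h2)
  obtain ⟨Q, hQ, hQP⟩ := (S9664.result P q 𝔓 rfl).1 h3
  have hQ' : Q ∈ FlatCA.ass (q.Fiber P) (q.Fiber P) :=
    WeakAss.ass_subset_of_injective
      (TensorProduct.AlgebraTensorModule.rid P (q.Fiber P) (q.Fiber P)).toLinearMap (LinearEquiv.injective _) hQ
  haveI : IsNoetherianRing (q.Fiber P) := Algebra.FiniteType.isNoetherianRing q.ResidueField _
  haveI : LocCoh.IsCohenMacaulayRing (q.Fiber P) := S9142.result q.ResidueField _ (hS.2.2 ⟨q, inferInstance⟩)
  have hmin : Q ∈ minimalPrimes (q.Fiber P) := LC.Liaison.minimal_of_ass (by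
    obtain ⟨hp, e, he⟩ := hQ'
    exact isAssociatedPrime_iff.2
      ⟨hp, e, he.trans (by ext r; simp [Submodule.mem_annihilator_span_singleton, Submodule.mem_colon_singleton])⟩)
  haveI := hmin.1.1
  let ε := PrimeSpectrum.primesOverOrderIsoFiber A P q
  haveI : 𝔔.asIdeal.LiesOver q := ⟨hc.symm⟩
  haveI : 𝔓.LiesOver q := ⟨rfl⟩
  let a : q.primesOver P := ⟨𝔔.asIdeal, 𝔔.isPrime, inferInstance⟩
  let b : q.primesOver P := ⟨𝔓, hP, inferInstance⟩
  have hb : ε b = ⟨Q, inferInstance⟩ := by
    apply ε.symm.injective
    rw [OrderIso.symm_apply_apply]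
    exact Subtype.ext ((PrimeSpectrum.coe_primesOverOrderIsoFiber_symm_apply (p := q) ⟨Q, inferInstance⟩).trans hQP).symm
  have hab : ε a ≤ ⟨Q, inferInstance⟩ := hb ▸ ε.monotone (show a ≤ b from hle)
  have he : ε a = ε b := hb ▸ PrimeSpectrum.ext (le_antisymm hab (hmin.2 ⟨(ε a).isPrime, bot_le⟩ hab))
  exact PrimeSpectrum.ext (congrArg Subtype.val (ε.injective he))
end Groth.Agent.S18126
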