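import Groth.Statements.S18127
import Mathlib

set_option autoImplicit false
universe u
open LocAlg

namespace Groth.Agent.S18127

/-- Let R be a local ring with maximal ideal m and algebraically closed residue field, and M an n × n
matrix over R whose reduction modulo m has rank at most r. Then the determinant of M lies in m^(n −
r). (The published setting is the local ring of germs of holomorphic functions at a point of a
complex manifold, where this says that the determinant vanishes to order at least n − r at a point
where the matrix has rank at most r.) -/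
theorem result
    {R : Type u} [CommRing R] [IsLocalRing R] [IsAlgClosed (IsLocalRing.ResidueField R)]
    {n : ℕ} (M : Matrix (Fin n) (Fin n) R) (r : ℕ)
    (hr : (M.map (IsLocalRing.residue R)).rank ≤ r) :
    M.det ∈ IsLocalRing.maximalIdeal R ^ (n - r) := by
  classical
  let k := IsLocalRing.ResidueField R
  let M' := M.map (IsLocalRing.residue R)
  obtain ⟨C, hC⟩ := Submodule.exists_isCompl (LinearMap.ker M'.vecMulLinear)
  let W := LinearMap.ker M'.vecMulLinear
  let b₀ := ((Module.finBasis k W).prod (Module.finBasis k C)).map (W.prodEquivOfIsCompl C hC)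
  have hcard : Fintype.card (Fin (Module.finrank k W) ⊕ Fin (Module.finrank k C)) = n := by
    rw [← Module.finrank_eq_card_basis b₀, Module.finrank_fin_fun]
  let e := Fintype.equivFinOfCardEq hcard
  let b := b₀.reindex e
  have hsurj : ∀ x : k, ∃ r : R, IsLocalRing.residue R r = x := IsLocalRing.residue_surjective
  choose σ hσ using hsurj
  let Q : Matrix (Fin n) (Fin n) R := Matrix.of fun i j => σ (b i j)
  have hQ : Q.map (IsLocalRing.residue R) = Matrix.of (fun i => b i) := by
    ext i j; simp [Q, hσ]
  have hQu : IsUnit Q.det := by
    have h1 : IsUnit (Matrix.of (fun i => b i)) :=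
      Matrix.linearIndependent_rows_iff_isUnit.1 (by exact b.linearIndependent)
    rw [Matrix.isUnit_iff_isUnit_det, ← hQ] at h1
    refine (isUnit_map_iff (IsLocalRing.residue R) _).1 ?_
    rwa [RingHom.map_det, RingHom.mapMatrix_apply]
  let s : Finset (Fin n) := Finset.univ.image fun w => e (Sum.inl w)
  have hs : n - r ≤ s.card := by
    simp only [s]
    rw [Finset.card_image_of_injective _ (fun _ _ h => Sum.inl_injective (e.injective h)), Finset.card_univ,
      Fintype.card_fin]
    have h1 := LinearMap.finrank_range_add_finrank_ker M'.vecMulLinear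
    rw [Module.finrank_fin_fun] at h1
    have h2 : Module.finrank k (LinearMap.range M'.vecMulLinear) = M'.rank := by
      rw [← Matrix.rank_transpose M', Matrix.rank, Matrix.mulVecLin_transpose]
    change M'.rank ≤ r at hr
    show n - r ≤ Module.finrank (IsLocalRing.ResidueField R) (LinearMap.ker M'.vecMulLinear)
    have h3 : M'.rank + Module.finrank (IsLocalRing.ResidueField R) (LinearMap.ker M'.vecMulLinear) = n := by
      rw [← h2]; exact h1
    omega
  have hmem : ∀ i ∈ s, ∀ j, (Q * M) i j ∈ IsLocalRing.maximalIdeal R := by
    intro i hi j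
    obtain ⟨w, -, rfl⟩ := Finset.mem_image.1 hi
    have hb : b (e (Sum.inl w)) ∈ W := by
      simp [b, b₀]
    rw [← Ideal.Quotient.eq_zero_iff_mem]
    show IsLocalRing.residue R ((Q * M) (e (Sum.inl w)) j) = 0
    have hMQ : (Q * M).map (IsLocalRing.residue R) = Matrix.of (fun i => b i) * M' := by
      rw [Matrix.map_mul, hQ]
    have := congrFun (congrFun hMQ (e (Sum.inl w))) j
    rw [Matrix.map_apply] at this
    rw [this]
    exact congrFun (LinearMap.mem_ker.1 hb) j
  have hdet : (Q * M).det ∈ IsLocalRing.maximalIdeal R ^ (n - r) := by
    rw [← Matrix.det_transpose, Matrix.det_apply]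
    refine Ideal.sum_mem _ fun σ' _ => ?_
    rw [Units.smul_def, zsmul_eq_mul]
    refine Ideal.mul_mem_left _ _ ?_
    rw [← Finset.prod_mul_prod_compl s]
    refine Ideal.mul_mem_right _ _ (Ideal.pow_le_pow_right hs ?_)
    rw [← Finset.prod_const]
    refine Ideal.prod_mem_prod fun i hi => ?_
    exact hmem i hi _
  rw [Matrix.det_mul] at hdet
  exact (Ideal.unit_mul_mem_iff_mem _ hQu).1 hdet

end Groth.Agent.S18127
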