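import Groth.Agent.CAlgOdd.Acyclicity
import Groth.Statements.S18128
-- import your own Groth.Agent.* helpers here

set_option autoImplicit false
universe u
open CAlg

namespace Groth.Agent.S18128

open CategoryTheory IsLocalRing
open Groth.Agent.CAlgOdd.Acyclicity (DepthGE depthGE_iff depthGE_of_isZero)

variable {R : Type u} [CommRing R] [IsLocalRing R] [IsNoetherianRing R]

/-- No element is killed by a power of the maximal ideal when the depth is positive. -/
theorem eq_zero_of_pow_smul {X : Type u} [AddCommGroup X] [Module R X] (h : DepthGE 1 (ModuleCat.of R X)) :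
    ∀ (t : ℕ) (z : X), (∀ a ∈ maximalIdeal R ^ t, a • z = 0) → z = 0 := by
  intro t
  induction t with
  | zero => exact fun z hz => by simpa using hz 1 (by simp)
  | succ t ih =>
    intro z hz
    have hm : ∀ x ∈ maximalIdeal R, x • z = 0 := fun x hx => ih _ fun a ha => by
      rw [← mul_smul]
      exact hz _ (pow_succ (maximalIdeal R) t ▸ Ideal.mul_mem_mul ha hx)
    let φ : (R ⧸ maximalIdeal R) →ₗ[R] X := Submodule.liftQ _ (LinearMap.toSpanSingleton R X z) fun x hx => hm x hx
    haveI := h 0 one_pos
    have : Subsingleton (ModuleCat.of R (R ⧸ maximalIdeal R) ⟶ ModuleCat.of R X) :=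
      Abelian.Ext.addEquiv₀.symm.subsingleton
    have h0 := congrArg (fun (f : ModuleCat.of R (R ⧸ maximalIdeal R) ⟶ ModuleCat.of R X) => f.hom (Submodule.Quotient.mk 1))
      (Subsingleton.elim (ModuleCat.ofHom φ) 0)
    exact (one_smul R z).symm.trans h0

/-- Depth of a direct summand of a finite sum of copies. -/
theorem depthGE_of_sum {X Y : ModuleCat.{u} R} {n : ℕ} (d : ℕ) (p : Fin n → (X ⟶ Y)) (i : Fin n → (Y ⟶ X))
    (h : ∑ j, p j ≫ i j = 𝟙 X) (hY : DepthGE d Y) : DepthGE d X := fun t ht =>
  subsingleton_of_forall_eq 0 fun z => by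
    haveI := hY t ht
    rw [← Abelian.Ext.comp_mk₀_id z, ← h, Abelian.Ext.mk₀_sum, Abelian.Ext.comp_sum]
    refine Finset.sum_eq_zero fun j _ => ?_
    rw [← Abelian.Ext.mk₀_comp_mk₀, ← Abelian.Ext.comp_assoc _ _ _ (add_zero t) (add_zero 0) (by omega),
      Subsingleton.elim (z.comp (Abelian.Ext.mk₀ (p j)) (add_zero t)) 0, Abelian.Ext.zero_comp]

/-- A finite free module has depth at least the length of a regular sequence. -/
lemma depthGE_pi {rs : List R} (hmem : ∀ x ∈ rs, x ∈ maximalIdeal R)
    (hreg : RingTheory.Sequence.IsRegular R rs) (m : ℕ) :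
    DepthGE rs.length (ModuleCat.of R (Fin m → R)) := by
  have hR : DepthGE rs.length (ModuleCat.of R R) := by
    rw [depthGE_iff]
    show _ ≤ LocCoh.idealDepth (maximalIdeal R) R
    unfold LocCoh.idealDepth
    split_ifs
    · exact le_top
    · exact le_iSup₂ (f := fun (l : List R) (_ : RingTheory.Sequence.IsWeaklyRegular R l ∧ ∀ r ∈ l, r ∈ maximalIdeal R) =>
        (l.length : ℕ∞)) rs ⟨hreg.toIsWeaklyRegular, hmem⟩
  refine depthGE_of_sum _ (fun j => ModuleCat.ofHom (LinearMap.proj j))
    (fun j => ModuleCat.ofHom (LinearMap.single R (fun _ => R) j)) ?_ hR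
  refine ModuleCat.hom_ext (LinearMap.ext fun x => ?_)
  rw [ModuleCat.hom_sum, LinearMap.sum_apply, ModuleCat.hom_id, LinearMap.id_apply]
  exact Finset.univ_sum_single x

/-- An element of a module of positive depth supported at the closed point is zero. -/
lemma eq_zero_of_local {X : Type u} [AddCommGroup X] [Module R X] (h : DepthGE 1 (ModuleCat.of R X))
    (x : X) (hx : ∀ (p : Ideal R) [p.IsPrime], p ≠ maximalIdeal R → ∃ s ∉ p, s • x = 0) : x = 0 := by
  let J : Ideal R := LinearMap.ker (LinearMap.toSpanSingleton R X x)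
  have hJ : maximalIdeal R ≤ J.radical := by
    rw [Ideal.radical_eq_sInf]
    refine le_sInf fun p ⟨hp, hpp⟩ => ?_
    by_contra hne
    obtain ⟨s, hs, hsx⟩ := @hx p hpp (fun e => hne e.ge)
    exact hs (hp (by simpa [J] using hsx))
  obtain ⟨t, ht⟩ := Ideal.exists_pow_le_of_le_radical_of_fg hJ (IsNoetherian.noetherian _)
  exact eq_zero_of_pow_smul h t x fun a ha => by simpa [J] using ht ha

omit [IsLocalRing R] [IsNoetherianRing R] in
/-- Exactness after localization, elementwise. -/
lemma local_mem_range {a b c : ℕ} (M : Matrix (Fin a) (Fin b) R) (N : Matrix (Fin b) (Fin c) R)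
    (p : Ideal R) [p.IsPrime]
    (h : LinearMap.ker (M.map (algebraMap R (Localization.AtPrime p))).mulVecLin ≤
      LinearMap.range (N.map (algebraMap R (Localization.AtPrime p))).mulVecLin)
    (v : Fin b → R) (hv : M.mulVec v = 0) : ∃ s ∉ p, s • v ∈ LinearMap.range N.mulVecLin := by
  classical
  let φ := algebraMap R (Localization.AtPrime p)
  obtain ⟨w, hw⟩ := h (x := φ ∘ v) (by
    rw [LinearMap.mem_ker, Matrix.mulVecLin_apply]
    funext i
    rw [← RingHom.map_mulVec, hv]
    simp)
  obtain ⟨t, ht⟩ := IsLocalization.exist_integer_multiples_of_finite p.primeCompl w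
  choose w' hw' using ht
  have key : ∀ i, φ (N.mulVec w' i) = φ ((t : R) * v i) := fun i => by
    rw [RingHom.map_mulVec, map_mul]
    have : φ ∘ w' = (φ t) • w := funext fun j => by
      show algebraMap _ _ (w' j) = _
      rw [hw', Algebra.smul_def]; rfl
    rw [this, Matrix.mulVec_smul]
    show φ t * _ = _
    congr 1
    exact congrFun hw i
  choose u hu using fun i => (IsLocalization.eq_iff_exists p.primeCompl _).1 (key i)
  refine ⟨(∏ i, u i : p.primeCompl) * t, fun hmem => ?_, ((∏ i, u i : p.primeCompl) : R) • w', funext fun i => ?_⟩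
  · exact ((∏ i, u i) * t).2 hmem
  · rw [Matrix.mulVecLin_apply, Matrix.mulVec_smul]
    simp only [Pi.smul_apply, smul_eq_mul]
    rw [← Finset.prod_erase_mul _ _ (Finset.mem_univ i), Submonoid.coe_mul, mul_assoc, hu i]
    ring

/-- Local step of Buchsbaum–Eisenbud: let R be a Noetherian local ring with maximal ideal m, and 0 →
R^(n_e) → ⋯ → R^(n_1) → R^(n_0) a complex of finite free modules, the map R^(n_(i+1)) → R^(n_i)
being given by the matrix A i, with 1 ≤ e and e at most the depth of R (there is an R-regular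
sequence of length e inside m). If for every prime ideal p ≠ m the complex of matrices over R_p
obtained by localization is exact at R_p^(n_e), …, R_p^(n_1), then the complex is exact at R^(n_e),
…, R^(n_1). -/
theorem result
    {R : Type u} [CommRing R] [IsLocalRing R] [IsNoetherianRing R]
    (e : ℕ) (he : 1 ≤ e) (n : ℕ → ℕ) (A : (i : ℕ) → Matrix (Fin (n i)) (Fin (n (i + 1))) R)
    (hA : ∀ i, i + 2 ≤ e → A i * A (i + 1) = 0)
    (rs : List R) (hlen : rs.length = e) (hmem : ∀ x ∈ rs, x ∈ IsLocalRing.maximalIdeal R)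
    (hreg : RingTheory.Sequence.IsRegular R rs)
    (hloc : ∀ (p : Ideal R) [p.IsPrime], p ≠ IsLocalRing.maximalIdeal R →
      LinearMap.ker ((A (e - 1)).map (algebraMap R (Localization.AtPrime p))).mulVecLin = ⊥ ∧
        ∀ i, i + 2 ≤ e →
          LinearMap.ker ((A i).map (algebraMap R (Localization.AtPrime p))).mulVecLin =
            LinearMap.range ((A (i + 1)).map (algebraMap R (Localization.AtPrime p))).mulVecLin) :
    LinearMap.ker (A (e - 1)).mulVecLin = ⊥ ∧
      ∀ i, i + 2 ≤ e → LinearMap.ker (A i).mulVecLin = LinearMap.range (A (i + 1)).mulVecLin := by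
  have hA0 : ∀ i, i + 2 ≤ e → LinearMap.range (A (i + 1)).mulVecLin ≤ LinearMap.ker (A i).mulVecLin := by
    intro i hi
    rw [LinearMap.range_le_ker_iff, ← Matrix.mulVecLin_mul, hA i hi, Matrix.mulVecLin_zero]
  have hfree : ∀ m : ℕ, DepthGE e (ModuleCat.of R (Fin m → R)) := fun m => hlen ▸ depthGE_pi hmem hreg m
  have hsub : ∀ {m : ℕ} (K : Submodule R (Fin m → R)), DepthGE 1 (ModuleCat.of R K) := fun {m} K t ht => by
    obtain rfl : t = 0 := Nat.lt_one_iff.1 ht
    haveI : Mono (ModuleCat.ofHom K.subtype) := (ModuleCat.mono_iff_injective _).mpr Subtype.val_injective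
    exact Groth.Agent.LC.ext_zero_subsingleton_of_injective _ (ModuleCat.ofHom K.subtype) (hfree m 0 (by omega))
  obtain ⟨e', rfl⟩ : ∃ e', e = e' + 1 := ⟨e - 1, by omega⟩
  have hinj : LinearMap.ker (A e').mulVecLin = ⊥ := by
    refine (Submodule.eq_bot_iff _).2 fun v hv => ?_
    suffices h : (⟨v, hv⟩ : LinearMap.ker (A e').mulVecLin) = 0 from congrArg Subtype.val h
    refine eq_zero_of_local (hsub _) _ fun p _ hp => ?_
    obtain ⟨s, hs, w, hw⟩ := local_mem_range (A e') (0 : Matrix (Fin (n (e' + 1))) (Fin 0) R) p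
      (by have := (hloc p hp).1; exact this.le.trans bot_le) v hv
    exact ⟨s, hs, Subtype.ext (by simpa using hw.symm)⟩
  have hexact : ∀ i, i + 1 ≤ e' →
      DepthGE (i + 2) (ModuleCat.of R (LinearMap.range (A (i + 1)).mulVecLin)) →
      LinearMap.ker (A i).mulVecLin = LinearMap.range (A (i + 1)).mulVecLin := by
    intro i hi hB
    refine le_antisymm (fun v hv => ?_) (hA0 i (by omega))
    let K := LinearMap.ker (A i).mulVecLin
    let B := LinearMap.range (A (i + 1)).mulVecLin
    let f : B →ₗ[R] K := Submodule.inclusion (hA0 i (by omega))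
    let S : ShortComplex (ModuleCat.{u} R) :=
      ShortComplex.mk (ModuleCat.ofHom f) (ModuleCat.ofHom (LinearMap.range f).mkQ)
        (ModuleCat.hom_ext (LinearMap.range_mkQ_comp f))
    have hS : S.ShortExact :=
      { exact := by
          rw [ShortComplex.moduleCat_exact_iff]
          intro x hx
          exact (Submodule.Quotient.mk_eq_zero _).1 hx
        mono_f := (ModuleCat.mono_iff_injective _).mpr (Submodule.inclusion_injective (hA0 i (by omega)))
        epi_g := (ModuleCat.epi_iff_surjective _).mpr (Submodule.mkQ_surjective _) }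
    have hQ : DepthGE 1 S.X₃ := fun t ht => Groth.Agent.LC.ext_subsingleton_X₃ hS _ t (hsub K t ht) (hB (t + 1) (by omega))
    have hz : (LinearMap.range f).mkQ ⟨v, hv⟩ = 0 := eq_zero_of_local hQ _ fun p _ hp => by
      obtain ⟨s, hs, hsv⟩ := local_mem_range (A i) (A (i + 1)) p ((hloc p hp).2 i (by omega)).le v hv
      exact ⟨s, hs, by
        rw [← map_smul, Submodule.mkQ_apply, Submodule.Quotient.mk_eq_zero]
        exact ⟨⟨_, hsv⟩, Subtype.ext rfl⟩⟩
    obtain ⟨⟨w, hw⟩, hwv⟩ := (Submodule.Quotient.mk_eq_zero _).1 hz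
    rw [← show w = v from congrArg Subtype.val hwv]; exact hw
  have hB : ∀ k i, i + k = e' → DepthGE (i + 1) (ModuleCat.of R (LinearMap.range (A i).mulVecLin)) := by
    intro k
    induction k with
    | zero =>
      intro i hi
      obtain rfl : i = e' := hi
      let ε := LinearEquiv.ofInjective (A i).mulVecLin (LinearMap.ker_eq_bot.1 hinj)
      refine depthGE_of_sum (n := 1) _ (fun _ => ModuleCat.ofHom ε.symm.toLinearMap)
        (fun _ => ModuleCat.ofHom ε.toLinearMap) ?_ (hfree _)
      rw [Fin.sum_univ_one]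
      exact ModuleCat.hom_ext (LinearMap.ext fun x => ε.apply_symm_apply x)
    | succ k ih =>
      intro i hi
      have hB' := ih (i + 1) (by omega)
      have hex := hexact i (by omega) hB'
      let S : ShortComplex (ModuleCat.{u} R) :=
        ShortComplex.mk (ModuleCat.ofHom (LinearMap.range (A (i + 1)).mulVecLin).subtype)
          (ModuleCat.ofHom (A i).mulVecLin.rangeRestrict)
          (ModuleCat.hom_ext (LinearMap.ext fun x => Subtype.ext (hA0 i (by omega) x.2)))
      have hS : S.ShortExact :=
        { exact := by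
            rw [ShortComplex.moduleCat_exact_iff]
            intro x hx
            exact ⟨⟨x, hex.le (congrArg Subtype.val hx)⟩, rfl⟩
          mono_f := (ModuleCat.mono_iff_injective _).mpr Subtype.val_injective
          epi_g := (ModuleCat.epi_iff_surjective _).mpr (LinearMap.surjective_rangeRestrict _) }
      exact fun t ht => Groth.Agent.LC.ext_subsingleton_X₃ hS _ t (hfree _ t (by omega)) (hB' (t + 1) (by omega))
  refine ⟨by simpa using hinj, fun i hi => hexact i (by omega) (hB (e' - (i + 1)) (i + 1) (by omega))⟩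

end Groth.Agent.S18128
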