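import Groth.Statements.S18129
import Groth.Agent.Lib.SurfNef

set_option autoImplicit false
set_option backward.isDefEq.respectTransparency false
set_option backward.isDefEq.respectTransparency.types false
set_option linter.style.haveILetI false
set_option linter.unusedSectionVars false
set_option maxHeartbeats 400000
universe u
open CategoryTheory CategoryTheory.Limits AlgebraicGeometry
open Surf

namespace Groth.Agent.S18129

open Groth.Agent.H23 Groth.Agent.H23.TrivBasic
attribute [local instance] PicMul.clMonoid

/-- Let X be a K3 surface over an algebraically closed field k of characteristic zero — an integral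
scheme, smooth and proper over k, of dimension two, carrying an ample invertible module, whose
structure sheaf is a second exterior power of its sheaf of differentials (trivial canonical sheaf)
and with H^1(X, O_X) = 0. If L is an invertible O_X-module which is numerically trivial — the
intersection number (L·M), the alternating sum χ(O_X) − χ(L) − χ(M) + χ(L ⊗ M) of Euler
characteristics, vanishes for every invertible O_X-module M — then L ≅ O_X. Consequently the natural
surjections from Pic(X) to the Néron–Severi group and to the group of numerical equivalence classes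
are bijective. -/
theorem result (k : Type u) [Field k] [IsAlgClosed k] [CharZero k]
    (X : Scheme.{u}) [X.Over (Spec (CommRingCat.of k))] [IsIntegral X]
    [Smooth (X ↘ Spec (CommRingCat.of k))] (hdim : topologicalKrullDim X = 2)
    [IsProper (X ↘ Spec (CommRingCat.of k))]
    (H : X.Modules) (hHa : CohB1.IsAmple H)
    (hK : Canon.IsTopDiff (X ↘ Spec (CommRingCat.of k)) 2 (Coh.structureModule X))
    (hq : Module.finrank k (Coh.HH X (Coh.structureModule X) 1) = 0)
    (L : X.Modules) (hL : PicF.IsInvertible L)
    (hnum : ∀ M : X.Modules, PicF.IsInvertible M →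
      FGA.intNum k X 2 ![L, M] (Coh.structureModule X) = 0) :
    Nonempty (L ≅ Coh.structureModule X) := by
  haveI := CurveCohLib.isNoetherian_of_proper (k := k) (X := X)
  haveI : X.IsSeparated := ⟨by
    rw [← Limits.terminal.comp_from (X ↘ Spec (CommRingCat.of k))]
    infer_instance⟩
  have hO := InvX.isInvertible_structureModule (X := X)
  haveI := CurveFin.smoothOfRelativeDimension_of_dim (f := X ↘ Spec (CommRingCat.of k)) (d := 2) hdim
  obtain ⟨n, ι, hi, hι⟩ := AmpleEmbed.exists_closedImmersion (X ↘ Spec (CommRingCat.of k)) hHa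
  haveI := hi
  obtain ⟨L', hL', e⟩ := PicInv.exists_inverse hL
  have h1 : PicF.cl L * PicF.cl L' = 1 := by
    rw [← PicMul.cl_tensor, PicMul.one_def]
    exact PicMul.cl_eq_iff.2 e
  have h00 : PicF.cl (Coh.structureModule X) * PicF.cl (Coh.structureModule X) = (1 : PicF.Cl X) := by
    rw [← PicMul.one_def, one_mul]
  have hdual := SmoothDuality.finrank_dual ι hι hK hL h1 2 le_rfl
  have hdual0 := SmoothDuality.finrank_dual ι hι hK hO h00 2 le_rfl
  obtain ⟨u⟩ := PicMul.cl_eq_iff.1 (show PicF.cl (CohB1.tensorMod L' (Coh.structureModule X)) = PicF.cl L' by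
    rw [PicMul.cl_tensor, ← PicMul.one_def, mul_one])
  obtain ⟨u0⟩ := PicMul.cl_eq_iff.1 (show PicF.cl (CohB1.tensorMod (Coh.structureModule X) (Coh.structureModule X)) =
      PicF.cl (Coh.structureModule X) by
    rw [PicMul.cl_tensor, ← PicMul.one_def, mul_one])
  have hrr := SurfAdj.rr k hdim hK hL
  have hn1 := hnum L hL
  rw [SurfPairing.intNum_eq_pair k hdim.le hL hL] at hn1
  rw [hn1, ← PicMul.one_def, SurfPairing.pair_one] at hrr
  have hχ : ∀ M : X.Modules, Coh.IsQCoh M → Curv2.euler k X M = (Module.finrank k (Coh.HH X M 0) : ℤ) -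
      Module.finrank k (Coh.HH X M 1) + Module.finrank k (Coh.HH X M 2) := fun M hM => by
    have he := Euler.euler_eq_sum k M 3 fun i hi =>
      Snapper.subsingleton_HH_of_dim_le (d := 2) hdim.le hM (by omega)
    simp only [Finset.sum_range_succ, Finset.sum_range_zero] at he
    push_cast at he
    rw [he]
    ring
  rw [hχ L (AmpleVan.isCoh_invertible hL).1, hχ _ (AmpleVan.isCoh_invertible hO).1, SurfAdj.finrank_h0, hq] at hrr
  have hLH : ∀ M : X.Modules, PicF.IsInvertible M → SurfPairing.pair k (PicF.cl M) (PicF.cl H) = 0 →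
      0 < Module.finrank k (Coh.HH X M 0) → Nonempty (M ≅ Coh.structureModule X) := fun M hM h0 hpos => by
    obtain ⟨s, hs⟩ := CurveAmple.exists_section_ne_zero (Module.nontrivial_of_finrank_pos hpos)
    by_cases htop : locus s = ⊤
    · exact triv_of_frame (locus_eq_top_iff.1 htop)
    · exact absurd h0 (SurfAmple.pair_pos (k := k) hdim (SurfHodge.regular k) hM hHa hs htop).ne'
  have hn2 := hnum H hHa.1
  rw [SurfPairing.intNum_eq_pair k hdim.le hL hHa.1] at hn2
  have he1 : Module.finrank k (Coh.HH X (CohB1.tensorMod L' (Coh.structureModule X)) 0) = Module.finrank k (Coh.HH X L' 0) := by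
    exact (CurveCohLib.hhEquiv (k := k) u 0).finrank_eq
  rw [he1] at hdual
  rcases Nat.eq_zero_or_pos (Module.finrank k (Coh.HH X L 0)) with h0 | h0
  · have hL'H : SurfPairing.pair k (PicF.cl L') (PicF.cl H) = 0 := by
      rw [SurfPairing.pair_comm, SurfPairing.pair_inv k hdim.le hHa.1 hL hL' h1, SurfPairing.pair_comm, hn2, neg_zero]
    obtain ⟨v⟩ := hLH L' hL' hL'H (by omega)
    refine PicMul.cl_eq_iff.1 ?_
    rw [← PicMul.one_def, ← h1, PicMul.cl_eq_iff.2 ⟨v⟩, ← PicMul.one_def, mul_one]
  · exact hLH L hL hn2 h0

end Groth.Agent.S18129
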