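import Groth.Statements.S18130
import Groth.Agent.Synt29.LMBN

set_option autoImplicit false
set_option linter.style.haveILetI false
set_option backward.isDefEq.respectTransparency false
set_option backward.isDefEq.respectTransparency.types false
set_option maxHeartbeats 1000000
universe u
open CategoryTheory CategoryTheory.Limits AlgebraicGeometry
open Surf

namespace Groth.Agent.S18130

/-- Let X be a K3 surface over an algebraically closed field k of characteristic zero — an integral
scheme, smooth and proper over k, of dimension two, carrying an ample invertible module, whose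
structure sheaf is a second exterior power of its sheaf of differentials (trivial canonical sheaf)
and with H^1(X, O_X) = 0. Let i : C → X be a closed immersion over k with C integral, smooth over k
and of dimension one, whose ideal sheaf I_C is invertible and such that the Picard group of X is
infinite cyclic, generated by the class of I_C (equivalently of O_X(C)). Then for every invertible
O_C-module A the Brill–Noether number is non-negative: h^0(C, A) · h^1(C, A) ≤ g(C), where g(C) =
dim_k H^1(C, O_C). -/
theorem result (k : Type u) [Field k] [IsAlgClosed k] [CharZero k]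
    (X : Scheme.{u}) [X.Over (Spec (CommRingCat.of k))] [IsIntegral X]
    [Smooth (X ↘ Spec (CommRingCat.of k))] (hdim : topologicalKrullDim X = 2)
    [IsProper (X ↘ Spec (CommRingCat.of k))]
    (H : X.Modules) (hHa : CohB1.IsAmple H)
    (hK : Canon.IsTopDiff (X ↘ Spec (CommRingCat.of k)) 2 (Coh.structureModule X))
    (hq : Module.finrank k (Coh.HH X (Coh.structureModule X) 1) = 0)
    [PicGrp.Law X]
    (C : Scheme.{u}) [C.Over (Spec (CommRingCat.of k))] [IsIntegral C]
    [Smooth (C ↘ Spec (CommRingCat.of k))] (hC : topologicalKrullDim C = 1)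
    (i : C ⟶ X) [IsClosedImmersion i] (hi : i ≫ (X ↘ Spec (CommRingCat.of k)) = C ↘ Spec (CommRingCat.of k))
    (hI : PicF.IsInvertible (ClSub.idealMod i.ker))
    (hgen : ∀ c : PicLoc.PicSet X, ∃ n : ℤ, c = PicGrp.cls (ClSub.idealMod i.ker) hI ^ n)
    (hfree : ∀ n : ℤ, PicGrp.cls (ClSub.idealMod i.ker) hI ^ n = 1 → n = 0)
    (A : C.Modules) (hA : PicF.IsInvertible A) :
    Module.finrank k (Coh.HH C A 0) * Module.finrank k (Coh.HH C A 1) ≤ Curv2.genus k C := by

  open Groth.Agent Groth.Agent.Synt29 in
  haveI := LMEuler.isProper_curve (k := k) i hi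
  haveI : IsNoetherian X := Groth.Agent.CurveCohLib.isNoetherian_of_proper (k := k)
  by_cases h0 : Module.finrank k (Coh.HH C A 0) = 0
  · rw [h0, zero_mul]; exact Nat.zero_le _
  obtain ⟨A', p', hA', hp', hps, he, hle⟩ := LMBN.exists_gen_part (k := k) hC hA rfl h0
  haveI := hp'
  obtain ⟨lam, hlamE, hlam⟩ := LMBN.exists_lam (k := k) i hi p' (haveI : IsNoetherian C := Groth.Agent.CurveCohLib.isNoetherian_of_proper (k := k); (CurveDeg.isCoh_of_isInvertible hA').1) hps he
  haveI := hlamE
  have hend := LMBN.finrank_h0_end_le (k := k) (fun φ =>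
    S18132.result k X hdim H hHa hK hq C hC i hi hI hgen hfree A' hA' _ lam hlam φ)
  have hEu := LMEuler.euler_end hdim hHa hK hq hC i hi hA' lam hlam
  obtain ⟨hFc, -, hlf, -, -⟩ := LMEuler.kernel_facts (k := k) hdim hC i hA' lam
  rw [LMHom.euler_three hdim hHa (LMHom.isCoh_hom hlf hFc).1,
    LMSimple.finrank_h2_end hdim hHa hK hC i hA' lam, he] at hEu
  calc _ ≤ Module.finrank k (Coh.HH C A 0) * Module.finrank k (Coh.HH C A' 1) :=
        Nat.mul_le_mul_left _ hle
    _ ≤ _ := by
      push_cast at hEu
      have : ((Module.finrank k (Coh.HH C A 0) * Module.finrank k (Coh.HH C A' 1) : ℕ) : ℤ) ≤ Curv2.genus k C := by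
        push_cast
        omega
      exact_mod_cast this

end Groth.Agent.S18130
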