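import Mathlib
import Groth.Statements.S18136
-- import your own Groth.Agent.* helpers here

set_option autoImplicit false
universe u v
open IsLocalRing
open CAlg

namespace Groth.Agent.S18136

section helpers

open IsLocalRing

variable {R : Type u} {A : Type u} [CommRing R] [CommRing A] [IsLocalRing R] [IsLocalRing A]

lemma mem_max_of_map_mem (ψ : R →+* A) {x : R} (hx : ψ x ∈ maximalIdeal A) :
    x ∈ maximalIdeal R :=
  fun hu => hx (hu.map ψ)

lemma linearIndependent_lift {σ : Type*} [Fintype σ] (ψ : R →+* A)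
    (hloc : ∀ x ∈ maximalIdeal R, ψ x ∈ maximalIdeal A)
    (x : σ → maximalIdeal R) (y : σ → maximalIdeal A) (hxy : ∀ i, ψ (x i) = y i)
    (h : LinearIndependent (ResidueField A) (⇑(maximalIdeal A).toCotangent ∘ y)) :
    LinearIndependent (ResidueField R) (⇑(maximalIdeal R).toCotangent ∘ x) := by
  rw [Fintype.linearIndependent_iff] at h ⊢
  intro g hg i
  choose a ha using fun i => IsLocalRing.residue_surjective (g i)
  have h1 : (maximalIdeal R).toCotangent (∑ i, a i • x i) = 0 := by
    rw [map_sum, ← hg]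
    refine Finset.sum_congr rfl fun i _ => ?_
    rw [map_smul, ← ha i]
    rfl
  rw [Ideal.toCotangent_eq_zero] at h1
  have h2 : ψ ((∑ i, a i • x i : maximalIdeal R) : R) ∈ maximalIdeal A ^ 2 := by
    have := Ideal.mem_map_of_mem ψ h1
    rw [Ideal.map_pow] at this
    exact Ideal.pow_right_mono (Ideal.map_le_iff_le_comap.mpr hloc) 2 this
  have h3 : ((∑ i, ψ (a i) • y i : maximalIdeal A) : A) ∈ maximalIdeal A ^ 2 := by
    simpa [hxy] using h2
  rw [← Ideal.toCotangent_eq_zero, map_sum] at h3
  have h4 := h (fun i => IsLocalRing.residue A (ψ (a i))) (by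
    rw [← h3]
    refine Finset.sum_congr rfl fun i _ => ?_
    rw [map_smul]
    rfl) i
  rw [IsLocalRing.residue_eq_zero_iff] at h4
  rw [← ha i, IsLocalRing.residue_eq_zero_iff]
  exact mem_max_of_map_mem ψ h4

end helpers

/-- Let A be a regular local ring with maximal ideal m and residue field k, written as a directed
colimit of regular local rings A_j with local transition maps (compatible maps ψ_j : A_j → A that
are jointly surjective, an element dying in A dying at some later stage). Let f_1, …, f_c, g_1, …,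
g_d ∈ m have linearly independent classes in m/m^2 over k, and put I = (f_1, …, f_c) ⊆ I' = (f_1, …,
f_c, g_1, …, g_d) (so I is generated by part of a regular system of parameters of A and I'/I by part
of a regular system of parameters of A/I; for a regular local ring the condition on I ⊆ I' is stated
through such a joint family). Then there are an index j_0 and ideals I_j ⊆ I'_j ⊆ A_j for j ≥ j_0
such that: each I_j is generated by c elements and I'_j by these together with d further elements of
the maximal ideal m_j, the c + d classes in m_j/m_j^2 being linearly independent over the residue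
field of A_j; the transition maps carry I_i, I'_i onto generators of I_j, I'_j for j_0 ≤ i ≤ j; and
I_j, I'_j generate I, I' in A. -/
theorem result
    {A : Type u} [CommRing A] [IsRegularLocalRing A]
    {ι : Type v} [Preorder ι] [Nonempty ι] [IsDirected ι (· ≤ ·)]
    (B : ι → Type u) [∀ j, CommRing (B j)] [∀ j, IsRegularLocalRing (B j)]
    (φ : ∀ i j, i ≤ j → (B i →+* B j)) (hφloc : ∀ i j (h : i ≤ j), IsLocalHom (φ i j h))
    (hφ : ∀ i j l (hij : i ≤ j) (hjl : j ≤ l), (φ j l hjl).comp (φ i j hij) = φ i l (hij.trans hjl))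
    (ψ : ∀ j, B j →+* A) (hψ : ∀ i j (h : i ≤ j), (ψ j).comp (φ i j h) = ψ i)
    (hsurj : ∀ a : A, ∃ j, ∃ x : B j, ψ j x = a)
    (hker : ∀ j (x : B j), ψ j x = 0 → ∃ l, ∃ h : j ≤ l, φ j l h x = 0)
    (c d : ℕ) (f : Fin c → maximalIdeal A) (g : Fin d → maximalIdeal A)
    (hind : LinearIndependent (ResidueField A) (⇑(maximalIdeal A).toCotangent ∘ Sum.elim f g)) :
    ∃ j₀ : ι, ∃ (P : ∀ j, j₀ ≤ j → Ideal (B j)) (Q : ∀ j, j₀ ≤ j → Ideal (B j)),
      (∀ j (hj : j₀ ≤ j), ∃ (F : Fin c → maximalIdeal (B j)) (E : Fin d → maximalIdeal (B j)),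
        LinearIndependent (ResidueField (B j)) (⇑(maximalIdeal (B j)).toCotangent ∘ Sum.elim F E) ∧
        P j hj = Ideal.span (Set.range (fun s => (F s : B j))) ∧
        Q j hj = P j hj ⊔ Ideal.span (Set.range (fun t => (E t : B j)))) ∧
      (∀ i j (hi : j₀ ≤ i) (hij : i ≤ j),
        (P i hi).map (φ i j hij) = P j (le_trans hi hij) ∧ (Q i hi).map (φ i j hij) = Q j (le_trans hi hij)) ∧
      (∀ j (hj : j₀ ≤ j),
        (P j hj).map (ψ j) = Ideal.span (Set.range (fun s => (f s : A))) ∧
        (Q j hj).map (ψ j) = Ideal.span (Set.range (fun s => (f s : A))) ⊔ Ideal.span (Set.range (fun t => (g t : A)))) := by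
  -- lift the family to one stage
  have hlift : ∀ v : Fin c ⊕ Fin d, ∃ j, ∃ x : B j, ψ j x = (Sum.elim f g v : maximalIdeal A) :=
    fun v => hsurj _
  choose jv xv hxv using hlift
  obtain ⟨j₀, hj₀⟩ := Finite.exists_le jv
  let z : ∀ j, j₀ ≤ j → Fin c ⊕ Fin d → B j := fun j hj v => φ (jv v) j ((hj₀ v).trans hj) (xv v)
  have hz : ∀ j hj v, ψ j (z j hj v) = (Sum.elim f g v : maximalIdeal A) := by
    intro j hj v
    exact (RingHom.congr_fun (hψ (jv v) j ((hj₀ v).trans hj)) (xv v)).trans (hxv v)
  have hzt : ∀ i j (hi : j₀ ≤ i) (hij : i ≤ j) v,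
      φ i j hij (z i hi v) = z j (le_trans hi hij) v := by
    intro i j hi hij v
    exact RingHom.congr_fun (hφ (jv v) i j ((hj₀ v).trans hi) hij) (xv v)
  have hzm : ∀ j hj v, z j hj v ∈ maximalIdeal (B j) := fun j hj v =>
    mem_max_of_map_mem (ψ j) (by rw [hz j hj]; exact (Sum.elim f g v).2)
  have hψloc : ∀ j, ∀ x ∈ maximalIdeal (B j), ψ j x ∈ maximalIdeal A := by
    intro j x hx hu
    obtain ⟨b, hb⟩ := hu.exists_right_inv
    obtain ⟨l, w, rfl⟩ := hsurj b
    obtain ⟨k, hjk, hlk⟩ := exists_ge_ge j l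
    have h1 : ψ k (φ j k hjk x * φ l k hlk w - 1) = 0 := by
      rw [map_sub, map_mul, map_one, ← RingHom.comp_apply, hψ, ← RingHom.comp_apply, hψ, hb,
        sub_self]
    obtain ⟨q, hkq, hq⟩ := hker k _ h1
    rw [map_sub, map_mul, map_one, sub_eq_zero, ← RingHom.comp_apply, hφ] at hq
    haveI := hφloc j q (hjk.trans hkq)
    exact hx (isUnit_of_map_unit (φ j q (hjk.trans hkq)) x (IsUnit.of_mul_eq_one _ hq))
  refine ⟨j₀, fun j hj => Ideal.span (Set.range fun s => z j hj (Sum.inl s)),
    fun j hj => Ideal.span (Set.range fun s => z j hj (Sum.inl s)) ⊔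
      Ideal.span (Set.range fun t => z j hj (Sum.inr t)),
    fun j hj => ⟨fun s => ⟨_, hzm j hj (Sum.inl s)⟩, fun t => ⟨_, hzm j hj (Sum.inr t)⟩, ?_,
      rfl, rfl⟩,
    fun i j hi hij => ?_, fun j hj => ?_⟩
  · refine linearIndependent_lift (ψ j) (hψloc j) _ (Sum.elim f g) (fun v => ?_) hind
    cases v with
    | inl s => exact hz j hj (Sum.inl s)
    | inr t => exact hz j hj (Sum.inr t)
  · simp only [Ideal.map_sup, Ideal.map_span, ← Set.range_comp, Function.comp_def, hzt, and_self]
  · simp only [Ideal.map_sup, Ideal.map_span, ← Set.range_comp, Function.comp_def, hz,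
      Sum.elim_inl, Sum.elim_inr, and_self]

end Groth.Agent.S18136
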