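import Groth.Statements.S1815
import Groth.Agent.GrLib8.ComplGamma.Rlim
-- import your own Groth.Agent.* helpers here

set_option autoImplicit false
universe u
open CategoryTheory CategoryTheory.Limits
attribute [local instance] HasDerivedCategory.standard
open LocCoh

namespace Groth.Agent.S1815

/-- Let I and J be ideals of a Noetherian ring A and M a finite A-module; assume RΓ_J exists as a total
right derived functor, derived I-completion exists, and D(A) has countable products. Then the
derived I-completion of RΓ_J(M) is a derived limit of the inverse system n ↦ RΓ_J(M/I^nM)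
(transition maps induced by the quotient maps), and its cohomology vanishes in negative degrees. -/
theorem result (A : Type u) [CommRing A] [IsNoetherianRing A] (I J : Ideal A) [DRing.HasRgammaI J] [DRing.HasDerivedCompletion I] [∀ K : ℕ → Dual.D A, HasProduct K] (M : Type u) [AddCommGroup M] [Module A M] [Module.Finite A M] : DCoh.IsRlim (fun n : ℕ => (DRing.RgammaI J).obj (Dual.inD A (M ⧸ (I ^ n • ⊤ : Submodule A M)))) (fun n : ℕ => (DRing.RgammaI J).map ((DerivedCategory.singleFunctor (ModuleCat.{u} A) 0).map (ModuleCat.ofHom (Submodule.mapQ (I ^ (n + 1) • ⊤ : Submodule A M) (I ^ n • ⊤ : Submodule A M) LinearMap.id (Submodule.smul_mono (Ideal.pow_le_pow_right (Nat.le_succ n)) le_rfl))))) ((DRing.derivedCompletion I).obj ((DRing.RgammaI J).obj (Dual.inD A M))).obj ∧ ∀ i : ℤ, i < 0 → Subsingleton (Dual.HD A ((DRing.derivedCompletion I).obj ((DRing.RgammaI J).obj (Dual.inD A M))).obj i) := by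
  refine ⟨?_, fun i hi => Groth.Agent.GrLib8.ComplGamma.ge_cpl_rgamma I J (ModuleCat.of A M) i hi⟩
  convert Groth.Agent.GrLib8.ComplGamma.isRlim_cpl I J (ModuleCat.of A M) using 1
  · rfl
  · refine heq_of_eq (funext fun n => ?_)
    refine congrArg (fun φ => (DRing.RgammaI J).map ((DerivedCategory.singleFunctor (ModuleCat.{u} A) 0).map φ)) ?_
    exact ModuleCat.hom_ext (Submodule.linearMap_qext _ rfl)

end Groth.Agent.S1815
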