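import Groth.Statements.S18150
import Groth.Agent.FrobSplit29.Coho
import Groth.Agent.Lib.NegVanAmple
import Groth.Agent.H23.DiagReg
import Groth.Agent.GrpSchLib.SmoothRegular
import Groth.Agent.DescLib.Reduced
import Groth.Agent.S10834
import Groth.Agent.S10934
import Groth.Agent.H23.PicInv

set_option autoImplicit false
universe u
open CategoryTheory AlgebraicGeometry Opposite TopologicalSpace
open FrobSch
open scoped Groth.Agent.H23.PicMul

namespace Groth.Agent.S18150

/-- Let p be a prime, k a perfect field of characteristic p, and X an irreducible smooth proper k-scheme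
of dimension n. Let φ be the p-th power map on the sheaf of additive groups underlying O_X and
suppose X is Frobenius split: φ admits a retraction s, an additive endomorphism of O_X with s ∘ φ
the identity and s(a^p·b) = a·s(b) on every open. Then Kodaira vanishing holds on X: for every ample
invertible module L with tensor inverse L⁻¹ and every i < n, the cohomology group H^i(X, L⁻¹)
vanishes. (The source allows X Gorenstein projective; X is taken smooth, proper with an ample
invertible module, and irreducible so that n is the dimension of every component.) -/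
theorem result (p : ℕ) [Fact p.Prime]
    (k : Type u) [Field k] [CharP k p] [PerfectRing k p]
    (X : Scheme.{u}) [X.Over (Spec (CommRingCat.of k))] [IsProper (X ↘ Spec (CommRingCat.of k))]
    [Smooth (X ↘ Spec (CommRingCat.of k))] [IrreducibleSpace X] (n : ℕ) (hn : topologicalKrullDim X = n)
    (φ : Coh.toAb (Coh.structureModule X) ⟶ Coh.toAb (Coh.structureModule X))
    (hφ : ∀ (U : X.Opens) (t : Γ(X, U)), φ.hom.app (op U) t = t ^ p)
    (s : Coh.toAb (Coh.structureModule X) ⟶ Coh.toAb (Coh.structureModule X))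
    (hs : φ ≫ s = 𝟙 _)
    (hlin : ∀ (U : X.Opens) (a b : Γ(X, U)),
      s.hom.app (op U) (a ^ p * b) = a * @id Γ(X, U) (s.hom.app (op U) b))
    (L Linv : X.Modules) (hL : CohB1.IsAmple L) (hLinv : ClSub.IsInverseOf Linv L)
    (i : ℕ) (hi : i < n) :
    Subsingleton (Coh.HH X Linv i) := by
  classical
  have hM : ClSub.IsInverseOf L Linv := by
    obtain ⟨e⟩ := hLinv
    obtain ⟨c⟩ := Groth.Agent.H23.PicMul.comm L Linv
    exact ⟨c ≪≫ e⟩
  obtain ⟨hMinv, hdep⟩ : PicF.IsInvertible Linv ∧ ∀ x : X, IsClosed ({x} : Set X) →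
      (n : ℕ∞) ≤ LocCoh.depth (X.presheaf.stalk x) ((Coh.structureModule X).presheaf.stalk x) := by
    refine ⟨?_, fun x hx => ?_⟩
    · obtain ⟨D, hD, e⟩ := Groth.Agent.H23.PicInv.exists_inverse hL.1
      have h1 : PicF.cl L * PicF.cl D = 1 := Groth.Agent.H23.PicMul.cl_eq_iff.2 e
      have h2 : PicF.cl L * PicF.cl Linv = 1 := Groth.Agent.H23.PicMul.cl_eq_iff.2 hM
      obtain ⟨w⟩ := Groth.Agent.H23.PicMul.cl_eq_iff.1 (left_inv_eq_right_inv ((mul_comm _ _).trans h1) h2)
      exact Groth.Agent.H23.PicMul.isInvertible_of_iso w hD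
    · haveI := Groth.Agent.DescLib.isReduced_of_smooth_of_isReduced (X ↘ Spec (CommRingCat.of k))
      haveI := isIntegral_of_irreducibleSpace_of_isReduced X
      haveI := Groth.Agent.GrpSchLib.isRegularLocalRing_stalk_of_smooth (X ↘ Spec (CommRingCat.of k)) x
      haveI : IsLocallyNoetherian X := LocallyOfFiniteType.isLocallyNoetherian (X ↘ Spec (CommRingCat.of k))
      have h := Groth.Agent.S10834.depth_of_regular (X.presheaf.stalk x)
      rw [Groth.Agent.H23.DiagReg.dim_stalk_closed (X ↘ Spec (CommRingCat.of k)) hn hx] at h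
      rw [Groth.Agent.S10934.depth_structure X x]
      exact le_of_eq (WithBot.coe_injective (h.symm))
  haveI : IsLocallyNoetherian X := LocallyOfFiniteType.isLocallyNoetherian (X ↘ Spec (CommRingCat.of k))
  obtain ⟨n₀, h⟩ := Groth.Agent.NegVanAmple.exists_vanishing (X ↘ Spec (CommRingCat.of k)) hL hM
    (Groth.Agent.CurveDeg.isCoh_of_isInvertible Groth.Agent.CurveDeg.isInvertible_structureModule) n hdep i hi
  obtain ⟨e⟩ : Nonempty (CohB1.tensorMod (Coh.structureModule X) (CohB1.tensorPow Linv (p ^ n₀)) ≅
      CohB1.tensorPow Linv (p ^ n₀)) := by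
    rw [← Groth.Agent.H23.PicMul.cl_eq_iff, Groth.Agent.H23.PicMul.cl_tensor,
      ← Groth.Agent.H23.PicMul.one_def, one_mul]
  exact Groth.Agent.FrobSplit29.subsingleton_of_pow (k := k) hφ hs hlin hMinv i n₀
    (Groth.Agent.QCoh.subsingleton_HH_of_iso e i (h _ (Nat.lt_pow_self (Fact.out : p.Prime).one_lt).le))

end Groth.Agent.S18150
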