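import Groth.Statements.S18151
import Groth.Agent.FrobSplit29.Coho

set_option autoImplicit false
universe u
open CategoryTheory AlgebraicGeometry Opposite TopologicalSpace
open FrobSch

namespace Groth.Agent.S18151

/-- Let p be a prime, k a perfect field of characteristic p, and X a proper k-scheme. Let φ be the p-th
power map on the sheaf of additive groups underlying O_X and suppose X is Frobenius split: φ admits
a retraction s, an additive endomorphism of O_X with s ∘ φ the identity and s(a^p·b) = a·s(b) on
every open. Then for every invertible module L and every i the dimension of H^i(X, L) over k is at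
most that of H^i(X, L^{⊗p}). (The source shows, for any k-scheme X, that the Frobenius pull-back
H^i(X, L) → H^i(X, L^{⊗p}) is injective, with a left inverse coming from the splitting; that map is
not named here, so the statement records its consequence on dimensions, for X proper so that both
are finite.) -/
theorem result (p : ℕ) [Fact p.Prime]
    (k : Type u) [Field k] [CharP k p] [PerfectRing k p]
    (X : Scheme.{u}) [X.Over (Spec (CommRingCat.of k))] [IsProper (X ↘ Spec (CommRingCat.of k))]
    (φ : Coh.toAb (Coh.structureModule X) ⟶ Coh.toAb (Coh.structureModule X))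
    (hφ : ∀ (U : X.Opens) (t : Γ(X, U)), φ.hom.app (op U) t = t ^ p)
    (s : Coh.toAb (Coh.structureModule X) ⟶ Coh.toAb (Coh.structureModule X))
    (hs : φ ≫ s = 𝟙 _)
    (hlin : ∀ (U : X.Opens) (a b : Γ(X, U)),
      s.hom.app (op U) (a ^ p * b) = a * @id Γ(X, U) (s.hom.app (op U) b))
    (L : X.Modules) (hL : PicF.IsInvertible L) (i : ℕ) :
    Module.finrank k (Coh.HH X L i) ≤ Module.finrank k (Coh.HH X (CohB1.tensorPow L p) i) := by
  exact Groth.Agent.FrobSplit29.finrank_le hφ hs hlin hL i

end Groth.Agent.S18151
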