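import Groth.Statements.S18153
import Mathlib.LinearAlgebra.Matrix.Determinant.Basic
import Mathlib.LinearAlgebra.Matrix.Adjugate
import Mathlib.Algebra.MvPolynomial.PDeriv
import Mathlib.Algebra.Order.BigOperators.Group.Finset
-- import your own Groth.Agent.* helpers here

set_option autoImplicit false
universe u w
open FrobAlg

namespace Groth.Agent.S18153

/-- Let R be a commutative ring of prime characteristic p and f_1, …, f_m (m ≥ 1) polynomials over R in
the variables t_1, …, t_m and a further, possibly empty, family of variables s_a. Then in the m × m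
Jacobian determinant det(∂f_i/∂t_j) with respect to the t-variables, the coefficient of the monomial
t_1^{p-1} ⋯ t_m^{p-1} (all s-exponents zero) vanishes. (In the source this is the claim, for formal
power series in n ≥ m variables over the base field, to which the proof of the proposition reduces;
the coefficient in question only involves truncations of the f_i, so the polynomial form over any
ring of characteristic p is the same assertion.) -/
theorem result
    (p : ℕ) [Fact p.Prime] (R : Type u) [CommRing R] [CharP R p]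
    {m : ℕ} (hm : 0 < m) (σ : Type w) (f : Fin m → MvPolynomial (Fin m ⊕ σ) R) :
    MvPolynomial.coeff
        (Finsupp.sumElim (Finsupp.equivFunOnFinite.symm fun _ : Fin m => p - 1) (0 : σ →₀ ℕ))
        (Matrix.of fun i j : Fin m => MvPolynomial.pderiv (Sum.inl j) (f i)).det = 0 := by
  classical
  set T : (Fin m ⊕ σ) →₀ ℕ :=
    Finsupp.sumElim (Finsupp.equivFunOnFinite.symm fun _ : Fin m => p - 1) (0 : σ →₀ ℕ) with hT
  have hexp : (Matrix.of fun i j : Fin m => MvPolynomial.pderiv (Sum.inl j) (f i)).det =
      ∑ r ∈ Fintype.piFinset fun i => (f i).support,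
        (Matrix.of fun i j : Fin m => MvPolynomial.pderiv (Sum.inl j)
          (MvPolynomial.monomial (r i) (MvPolynomial.coeff (r i) (f i)))).det := by
    have h1 : (Matrix.of fun i j : Fin m => MvPolynomial.pderiv (Sum.inl j) (f i)) =
        Matrix.of fun i => ∑ d ∈ (f i).support, fun j : Fin m => MvPolynomial.pderiv (Sum.inl j)
          (MvPolynomial.monomial d (MvPolynomial.coeff d (f i))) := by
      ext i j : 2
      simp only [Matrix.of_apply, Finset.sum_apply, ← map_sum, ← MvPolynomial.as_sum]
    rw [h1]
    exact Matrix.detRowAlternating.toMultilinearMap.map_sum_finset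
      (fun i d => fun j : Fin m => MvPolynomial.pderiv (Sum.inl j)
        (MvPolynomial.monomial d (MvPolynomial.coeff d (f i)))) _
  rw [hexp, MvPolynomial.coeff_sum]
  refine Finset.sum_eq_zero fun r _ => ?_
  set E : (Fin m ⊕ σ) →₀ ℕ := ∑ i : Fin m, Finsupp.single (Sum.inl i) 1 with hE
  set c : Fin m → R := fun i => MvPolynomial.coeff (r i) (f i) with hc
  set D : (Fin m ⊕ σ) →₀ ℕ := ∑ i, r i with hD
  have hterm : ∀ π : Equiv.Perm (Fin m),
      MvPolynomial.coeff T (∏ i, MvPolynomial.pderiv (Sum.inl i)
        (MvPolynomial.monomial (r (π i)) (c (π i)))) =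
      if D = T + E then ∏ i, c (π i) * ((r (π i) (Sum.inl i) : ℕ) : R) else 0 := by
    intro π
    simp only [MvPolynomial.pderiv_monomial, ← MvPolynomial.monomial_sum_prod, MvPolynomial.coeff_monomial]
    by_cases h0 : ∀ i, 1 ≤ r (π i) (Sum.inl i)
    · have key : (∑ i, (r (π i) - Finsupp.single (Sum.inl i) 1)) + E = D := by
        rw [hE, ← Finset.sum_add_distrib, hD, ← Equiv.sum_comp π r]
        exact Finset.sum_congr rfl fun i _ => tsub_add_cancel_of_le (Finsupp.single_le_iff.2 (h0 i))
      exact if_congr ⟨fun h => by rw [← key, h], fun h => add_right_cancel (key.trans h)⟩ rfl rfl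
    · push Not at h0
      obtain ⟨i, hi⟩ := h0
      have hz : ∏ i, c (π i) * ((r (π i) (Sum.inl i) : ℕ) : R) = 0 :=
        Finset.prod_eq_zero (Finset.mem_univ i) (by rw [Nat.lt_one_iff.1 hi, Nat.cast_zero, mul_zero])
      rw [hz, ite_self, ite_self]
  rw [Matrix.det_apply, MvPolynomial.coeff_sum]
  have hall : ∀ π : Equiv.Perm (Fin m), MvPolynomial.coeff T (Equiv.Perm.sign π • ∏ i,
      (Matrix.of fun i j : Fin m => MvPolynomial.pderiv (Sum.inl j)
        (MvPolynomial.monomial (r i) (c i))) (π i) i) =
      Equiv.Perm.sign π • (if D = T + E then ∏ i, c (π i) * ((r (π i) (Sum.inl i) : ℕ) : R) else 0) := by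
    intro π
    simp only [Matrix.of_apply, Units.smul_def, zsmul_eq_mul, ← map_intCast (MvPolynomial.C (R := R)),
      MvPolynomial.coeff_C_mul]
    rw [← hterm π]
  rw [Finset.sum_congr rfl fun π _ => hall π]
  by_cases hDT : D = T + E
  · simp only [if_pos hDT]
    have hd := (Matrix.det_apply (Matrix.of fun i j : Fin m => c i * ((r i (Sum.inl j) : ℕ) : R))).symm
    simp only [Matrix.of_apply] at hd
    rw [hd]
    change (Matrix.of fun i j : Fin m => c i * Matrix.of (fun i j : Fin m => ((r i (Sum.inl j) : ℕ) : R)) i j).det = 0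
    rw [Matrix.det_mul_column]
    refine mul_eq_zero_of_right _ ?_
    set N := Matrix.of fun i j : Fin m => ((r i (Sum.inl j) : ℕ) : R) with hN
    have hcol : Matrix.vecMul (fun _ : Fin m => (1 : R)) N = 0 := by
      funext j
      simp only [Matrix.vecMul, dotProduct, one_mul, hN, Matrix.of_apply, Pi.zero_apply, ← Nat.cast_sum]
      have h2 := DFunLike.congr_fun hDT (Sum.inl j)
      rw [hD, Finsupp.finsetSum_apply, Finsupp.add_apply, hE, Finsupp.finsetSum_apply,
        Finset.sum_eq_single j (fun b _ hb => Finsupp.single_eq_of_ne (by simpa using hb.symm)) (by simp),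
        Finsupp.single_eq_same, hT, Finsupp.sumElim_inl] at h2
      rw [h2]
      have hp1 : p - 1 + 1 = p := Nat.sub_add_cancel (Fact.out : p.Prime).one_le
      simp [hp1]
    have h3 : Matrix.vecMul (fun _ : Fin m => (1 : R)) (N * N.adjugate) = 0 := by
      rw [← Matrix.vecMul_vecMul, hcol, Matrix.zero_vecMul]
    rw [Matrix.mul_adjugate, Matrix.vecMul_smul, Matrix.vecMul_one] at h3
    simpa using congrFun h3 ⟨0, hm⟩
  · simp [if_neg hDT]

end Groth.Agent.S18153
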