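import Groth.Statements.S18155
import Groth.Agent.FrobW2.EtaleFLift
-- import your own Groth.Agent.* helpers here

set_option autoImplicit false
universe u v
open FrobAlg

namespace Groth.Agent.S18155

/-- Let k be an algebraically closed field of characteristic p, A a commutative k-algebra and C an étale
A-algebra. If A admits a flat lifting over W_2(k) together with a lift of Frobenius, then so does C.
(The source states this for an étale cover Y → X of smooth varieties over k; its argument uses only
that Y is étale over X, and the affine case is stated here with no smoothness or finiteness
hypothesis on A over k.) -/
theorem result
    (p : ℕ) [Fact p.Prime] (k : Type u) [Field k] [IsAlgClosed k] [CharP k p]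
    (A C : Type v) [CommRing A] [CommRing C] [Algebra k A] [Algebra k C]
    [Algebra A C] [IsScalarTower k A C] [Algebra.Etale A C]
    (hA : FrobAlg.IsFLiftable p k A) : FrobAlg.IsFLiftable p k C := by
  exact FrobW2.isFLiftable_of_etale hA

end Groth.Agent.S18155
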