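import Mathlib
import Groth.Statements.S18156
-- import your own Groth.Agent.* helpers here

set_option autoImplicit false
universe u v
open CAlg

noncomputable section

namespace Groth.Agent.S18156

section helpers

variable {k : Type u} [Field k] {A : Type v} [CommRing A] [Algebra k A] (I : Ideal A)
  (D : Derivation k A A)

/-- The ideal defining the n-th level of the completion. -/
abbrev lev (n : ℕ) : Ideal A := (I ^ n • ⊤ : Submodule A A)

lemma mem_lev {n : ℕ} {x : A} : x ∈ lev I n ↔ x ∈ I ^ n := by
  simp [lev, smul_eq_mul]

lemma deriv_pow : ∀ (n : ℕ) (x : A), x ∈ I ^ (n + 1) → D x ∈ I ^ n := by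
  intro n
  induction n with
  | zero => intro x _; simp
  | succ n ih =>
      intro x hx
      rw [pow_succ] at hx
      refine Submodule.mul_induction_on hx (fun a ha b hb => ?_) (fun a b ha hb => ?_)
      · rw [D.leibniz, smul_eq_mul, smul_eq_mul]
        refine add_mem (Ideal.mul_mem_right _ _ ha) ?_
        rw [pow_succ']
        exact Ideal.mul_mem_mul hb (ih a ha)
      · rw [map_add]
        exact add_mem ha hb

/-- A representative of the (n+1)-st component. -/
def rep (x : AdicCompletion I A) (n : ℕ) : A := (Ideal.Quotient.mk_surjective (x.val (n + 1))).choose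

lemma rep_spec (x : AdicCompletion I A) (n : ℕ) :
    Ideal.Quotient.mk (lev I (n + 1)) (rep I x n) = x.val (n + 1) :=
  (Ideal.Quotient.mk_surjective (x.val (n + 1))).choose_spec

lemma comp_eq (x : AdicCompletion I A) (n : ℕ) (a : A)
    (ha : Ideal.Quotient.mk (lev I (n + 1)) a = x.val (n + 1)) :
    Ideal.Quotient.mk (lev I n) (D (rep I x n)) = Ideal.Quotient.mk (lev I n) (D a) := by
  rw [Ideal.Quotient.eq, ← map_sub, mem_lev]
  refine deriv_pow I D n _ ?_
  rw [← mem_lev, ← Ideal.Quotient.eq, rep_spec, ha]

/-- The extension of a derivation to the completion, as a function. -/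
def ext₀ (x : AdicCompletion I A) : AdicCompletion I A :=
  ⟨fun n => Ideal.Quotient.mk (lev I n) (D (rep I x n)), fun {m n} hmn => by
    change Ideal.Quotient.mk (lev I m) (D (rep I x n)) = _
    refine (comp_eq I D x m (rep I x n) ?_).symm
    rw [← x.property (Nat.succ_le_succ hmn), ← rep_spec I x n]
    rfl⟩

lemma ext₀_val (x : AdicCompletion I A) (n : ℕ) (a : A)
    (ha : Ideal.Quotient.mk (lev I (n + 1)) a = x.val (n + 1)) :
    (ext₀ I D x).val n = Ideal.Quotient.mk (lev I n) (D a) :=
  comp_eq I D x n a ha

lemma rep_mk (x : AdicCompletion I A) (n : ℕ) :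
    Ideal.Quotient.mk (lev I n) (rep I x n) = x.val n := by
  rw [← x.property (Nat.le_succ n), ← rep_spec I x n]
  rfl

lemma ext₀_add (x y : AdicCompletion I A) : ext₀ I D (x + y) = ext₀ I D x + ext₀ I D y := by
  refine Subtype.ext (funext fun n => ?_)
  rw [AdicCompletion.val_add_apply, ext₀_val I D (x + y) n (rep I x n + rep I y n)
      (by rw [map_add, rep_spec, rep_spec]; rfl), map_add, map_add]
  rfl

lemma ext₀_smul (c : k) (x : AdicCompletion I A) : ext₀ I D (c • x) = c • ext₀ I D x := by
  refine Subtype.ext (funext fun n => ?_)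
  rw [ext₀_val I D (c • x) n (c • rep I x n) (by
    rw [AdicCompletion.val_smul_apply, ← rep_spec]
    rfl), D.map_smul]
  rfl

lemma ext₀_mul (x y : AdicCompletion I A) :
    ext₀ I D (x * y) = x * ext₀ I D y + y * ext₀ I D x := by
  refine Subtype.ext (funext fun n => ?_)
  rw [AdicCompletion.val_add_apply, ext₀_val I D (x * y) n (rep I x n * rep I y n)
      (by rw [map_mul, rep_spec, rep_spec]; rfl), D.leibniz, map_add]
  change Ideal.Quotient.mk (lev I n) (rep I x n * D (rep I y n)) +
      Ideal.Quotient.mk (lev I n) (rep I y n * D (rep I x n)) =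
    x.val n * (ext₀ I D y).val n + y.val n * (ext₀ I D x).val n
  rw [map_mul, map_mul, rep_mk, rep_mk]
  rfl

/-- The extension as a derivation. -/
def extD : Derivation k (AdicCompletion I A) (AdicCompletion I A) :=
  Derivation.mk' { toFun := ext₀ I D, map_add' := ext₀_add I D, map_smul' := ext₀_smul I D }
    (fun x y => ext₀_mul I D x y)

end helpers

/-- Let k be a field and A a regular local ring that is a k-algebra, with maximal ideal m and m-adic
completion Â. Then every k-derivation D of A into itself extends to a k-derivation D̂ of Â into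
itself along the canonical map ρ : A → Â, in the sense that D̂(ρ(a)) = ρ(D(a)) for every a ∈ A. (The
source works throughout over an algebraically closed field of characteristic p; neither assumption
enters this statement.) -/
theorem result
    (k : Type u) [Field k] (A : Type v) [CommRing A] [Algebra k A] [IsRegularLocalRing A]
    (D : Derivation k A A) :
    ∃ Dhat : Derivation k (AdicCompletion (IsLocalRing.maximalIdeal A) A)
        (AdicCompletion (IsLocalRing.maximalIdeal A) A),
      ∀ a : A, Dhat (algebraMap A (AdicCompletion (IsLocalRing.maximalIdeal A) A) a) =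
        algebraMap A (AdicCompletion (IsLocalRing.maximalIdeal A) A) (D a) := by
  refine ⟨extD (IsLocalRing.maximalIdeal A) D, fun a => ?_⟩
  refine Subtype.ext (funext fun n => ?_)
  exact ext₀_val (IsLocalRing.maximalIdeal A) D _ n a rfl

end Groth.Agent.S18156
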