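import Groth.Statements.S18158
import Groth.Agent.S0118
import Groth.Agent.FrobW2.Basic
import Groth.Agent.EtFound.TopInv
-- import your own Groth.Agent.* helpers here

set_option autoImplicit false
universe u
open CategoryTheory CategoryTheory.Limits AlgebraicGeometry
open Lift

namespace Groth.Agent.S18158

/-- Let k be an algebraically closed field of characteristic p and q : Y → X an étale morphism to a
smooth k-scheme X. Suppose X has a W_2-lifting of its Frobenius: a scheme X~ flat over Spec W_2(k),
a morphism i : X → X~ making X the base change of X~ along Spec k → Spec W_2(k) (the residue map),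
and an endomorphism F~ of X~ with i ∘ F_X = F~ ∘ i, F_X the absolute Frobenius. Then Y has one as
well: there are a scheme Y~ flat over Spec W_2(k), a morphism j : Y → Y~ making Y the base change of
Y~ along the same map, and an endomorphism G~ of Y~ with j ∘ F_Y = G~ ∘ j. (The source speaks of an
étale cover Y → X of smooth varieties; its argument uses only that Y is étale over X and that X
lifts, so X is taken smooth over k and Y étale over X, with no integrality, separatedness or
quasi-compactness assumed.) -/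
theorem result
    (p : ℕ) [Fact p.Prime] (k : Type u) [Field k] [IsAlgClosed k] [CharP k p]
    (X Y : Scheme.{u}) (f : X ⟶ Spec (CommRingCat.of k)) [Smooth f]
    (q : Y ⟶ X) [AlgebraicGeometry.Etale q]
    [FrobSch.IsCharP X p] [FrobSch.IsCharP Y p]
    (Xl : Scheme.{u}) (g : Xl ⟶ Spec (CommRingCat.of (FrobAlg.W2 p k))) [Flat g]
    (i : X ⟶ Xl) (hsq : IsPullback i f g (Spec.map (CommRingCat.ofHom (FrobAlg.res p k))))
    (Fl : Xl ⟶ Xl) (hF : i ≫ Fl = FrobSch.frob X p ≫ i) :
    ∃ (Yl : Scheme.{u}) (gY : Yl ⟶ Spec (CommRingCat.of (FrobAlg.W2 p k))) (j : Y ⟶ Yl) (Gl : Yl ⟶ Yl),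
      Flat gY ∧ IsPullback j (q ≫ f) gY (Spec.map (CommRingCat.ofHom (FrobAlg.res p k))) ∧
        j ≫ Gl = FrobSch.frob Y p ≫ j := by
  haveI : CharP k p := inferInstance
  have hres : Function.Surjective (FrobAlg.res p k) := fun x =>
    ⟨TruncatedWittVector.mk p ![x, 0], by rw [FrobAlg.res_apply, TruncatedWittVector.coeff_mk]; rfl⟩
  haveI : IsClosedImmersion (Spec.map (CommRingCat.ofHom (FrobAlg.res p k))) :=
    IsClosedImmersion.spec_of_surjective _ hres
  haveI : Surjective (Spec.map (CommRingCat.ofHom (FrobAlg.res p k))) := ⟨fun P => by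
    have hnil : ∀ x, FrobAlg.res p k x = 0 → IsNilpotent x := fun x hx => by
      have h1 : x ∈ RingHom.ker (FrobAlg.res p k) := hx
      rw [FrobW2.ker_res_perfect] at h1
      obtain ⟨c, rfl⟩ := Ideal.mem_span_singleton'.1 h1
      exact ⟨2, by rw [sq, mul_mul_mul_comm, FrobW2.p_mul_p, mul_zero]⟩
    obtain ⟨Q, hQ⟩ : P ∈ Set.range (PrimeSpectrum.comap (FrobAlg.res p k)) := by
      rw [range_comap_of_surjective _ _ hres]
      intro x hx
      obtain ⟨n, hn⟩ := hnil x hx
      exact P.isPrime.mem_of_pow_mem n (hn ▸ zero_mem _)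
    exact ⟨Q, hQ⟩⟩
  haveI : IsClosedImmersion i := MorphismProperty.of_isPullback (P := @IsClosedImmersion) hsq.flip inferInstance
  haveI : Surjective i := MorphismProperty.of_isPullback (P := @Surjective) hsq.flip inferInstance
  haveI : (EtCoh.bc i).IsEquivalence := S0118.result i
  let V : Xl.Etale := (EtCoh.bc i).objPreimage (Scheme.Etale.mk q)
  let e := (EtCoh.bc i).objObjPreimageIso (Scheme.Etale.mk q)
  haveI hV : AlgebraicGeometry.Etale V.hom := V.prop
  haveI : IsIso e.inv.left := ⟨e.hom.left, congrArg (fun k => k.left) e.inv_hom_id, congrArg (fun k => k.left) e.hom_inv_id⟩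
  let d : Y ⟶ pullback V.hom i := e.inv.left
  haveI hd : IsIso d := ‹IsIso e.inv.left›
  let j : Y ⟶ V.left := d ≫ pullback.fst V.hom i
  have hw : d ≫ pullback.snd V.hom i = q := MorphismProperty.Over.w e.inv
  have hjY : IsPullback j q V.hom i :=
    IsPullback.of_iso_pullback ⟨by
      rw [show j = d ≫ pullback.fst V.hom i from rfl, Category.assoc, pullback.condition,
        ← Category.assoc, hw]⟩ (asIso d) rfl hw
  haveI : IsClosedImmersion j := MorphismProperty.of_isPullback (P := @IsClosedImmersion) hjY.flip inferInstance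
  haveI : Surjective j := MorphismProperty.of_isPullback (P := @Surjective) hjY.flip inferInstance
  haveI : UniversallyInjective j := inferInstance
  let X₁ : Over V.left := Over.mk (pullback.snd V.hom (V.hom ≫ Fl))
  let Y₁ : Over V.left := Over.mk (𝟙 V.left)
  haveI : AlgebraicGeometry.Etale X₁.hom := inferInstanceAs (AlgebraicGeometry.Etale (pullback.snd V.hom (V.hom ≫ Fl)))
  have hfr : (FrobSch.frob Y p ≫ j) ≫ V.hom = j ≫ V.hom ≫ Fl := by
    rw [Category.assoc, hjY.w, ← Category.assoc (FrobSch.frob Y p), FrobSch.frob_comp, Category.assoc, ← hF,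
      ← Category.assoc q, ← hjY.w, Category.assoc]
  obtain ⟨φ, hφ⟩ := EtFound.surjective_pullback_map j X₁ Y₁ (Over.homMk
    (pullback.lift
      (pullback.lift (pullback.snd (𝟙 V.left) j ≫ FrobSch.frob Y p ≫ j) (pullback.snd (𝟙 V.left) j ≫ j)
        (by rw [Category.assoc, hfr, Category.assoc]; simp [j]))
      (pullback.snd (𝟙 V.left) j) (pullback.lift_snd _ _ _))
    (pullback.lift_snd _ _ _))
  refine ⟨V.left, V.hom ≫ g, j, φ.left ≫ pullback.fst V.hom (V.hom ≫ Fl), inferInstance,
    hjY.paste_vert hsq, ?_⟩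
  let σ : Y ⟶ pullback (𝟙 V.left) j := pullback.lift j (𝟙 Y) (by simp)
  have h1 := congrArg (fun m => σ ≫ m.left ≫ pullback.fst X₁.hom j ≫ pullback.fst V.hom (V.hom ≫ Fl)) hφ
  simp [σ, X₁, Y₁] at h1
  erw [pullback.lift_fst_assoc, pullback.lift_fst_assoc] at h1
  simp only [Category.assoc] at h1
  erw [pullback.lift_fst_assoc, pullback.lift_fst, pullback.lift_snd_assoc] at h1
  exact h1


end Groth.Agent.S18158
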