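import Groth.Statements.S1817
import Groth.Agent.KFlatLib.Ring.RgammaTorsion
-- import your own Groth.Agent.* helpers here

set_option autoImplicit false
universe u
open CategoryTheory
attribute [local instance] HasDerivedCategory.standard
open LocCoh

namespace Groth.Agent.S1817

/-- First statement, for a Noetherian ring (where the functor with supports in V(I) is RΓ_I). Let A be a
Noetherian ring and I an ideal, and assume RΓ_I exists as a total right derived functor. Then every
RΓ_I(K) has I-power torsion cohomology modules, and the resulting functor from D(A) to the full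
subcategory of such objects is right adjoint to the inclusion. -/
theorem result (A : Type u) [CommRing A] [IsNoetherianRing A] (I : Ideal A) [DRing.HasRgammaI I] : ∃ h : ∀ K : Dual.D A, (fun L : Dual.D A => ∀ i : ℤ, LocCoh.IsPowerTorsion I (Dual.HD A L i)) ((DRing.RgammaI I).obj K), Nonempty (ObjectProperty.ι (fun L : Dual.D A => ∀ i : ℤ, LocCoh.IsPowerTorsion I (Dual.HD A L i)) ⊣ ObjectProperty.lift (fun L : Dual.D A => ∀ i : ℤ, LocCoh.IsPowerTorsion I (Dual.HD A L i)) (DRing.RgammaI I) h) := by
  refine ⟨fun K q => Groth.Agent.KFlatLib.isPowerTorsion_hd_rgamma I K q, ⟨?_⟩⟩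
  refine Adjunction.mkOfHomEquiv
    { homEquiv := fun L K =>
        (Equiv.ofBijective _ (Groth.Agent.KFlatLib.rgammaε_bijective I L.obj K L.property)).symm.trans
          ((ObjectProperty.fullyFaithfulι (fun L : Dual.D A => ∀ i : ℤ, LocCoh.IsPowerTorsion I (Dual.HD A L i))).homEquiv (X := L) (Y := (ObjectProperty.lift (fun L : Dual.D A => ∀ i : ℤ, LocCoh.IsPowerTorsion I (Dual.HD A L i)) (DRing.RgammaI I) (fun K q => Groth.Agent.KFlatLib.isPowerTorsion_hd_rgamma I K q)).obj K)).symm
      homEquiv_naturality_left_symm := ?_
      homEquiv_naturality_right := ?_ }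
  · intro L L' K f g
    exact Category.assoc (f := f.hom) (g := g.hom) (h := (DRing.RgammaIε I).app K)
  · intro L K K' g f
    let Φ := fun (K : Dual.D A) => Equiv.ofBijective _
      (Groth.Agent.KFlatLib.rgammaε_bijective I L.obj K L.property)
    refine (ObjectProperty.fullyFaithfulι _).map_injective ?_
    show (Φ K').symm (g ≫ f) = (Φ K).symm g ≫ (DRing.RgammaI I).map f
    refine (Φ K').injective (((Φ K').apply_symm_apply _).trans ?_)
    show g ≫ f = ((Φ K).symm g ≫ (DRing.RgammaI I).map f) ≫ (DRing.RgammaIε I).app K'
    rw [Category.assoc, (DRing.RgammaIε I).naturality f, Functor.id_map]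
    exact (congrArg (· ≫ f) ((Φ K).apply_symm_apply g).symm).trans (Category.assoc _ _ _)

end Groth.Agent.S1817
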