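import Groth.Statements.S18173
import Groth.Agent.FFLib.Small

set_option autoImplicit false
open FunFld Groth.Agent.FFLib WithZero

namespace Groth.Agent.S18173

/-- Let `k` be an algebraically closed field of characteristic zero and `K/k` a function field of one
variable (the function field of a smooth projective curve over `k`). A `g^r_d` is a divisor `D` of
degree `d` with a subspace `V ⊆ L(D)` of dimension `r + 1`; for a place `P` and `n ≥ 0`, `V(-nP) = V
∩ L(D - nP)` is the space of members vanishing to order at least `n` at `P`, so `dim V(-nP)` counts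
the vanishing orders `m_0 < ⋯ < m_r` of `V` at `P` that are at least `n`, and the weight of `V` at
`P` is `∑_{n=1}^{d} dim V(-nP) - r(r+1)/2`. Aspects `(D_Y, V_Y)` on `K_Y` and `(D_Z, V_Z)` on `K_Z`
of a limit `g^r_d` on two components meeting in a node (a place `P` of `K_Y` and a place `Q` of
`K_Z`) are compatible there when `m_i(V_Y, P) + m_{r-i}(V_Z, Q) = d` for every `i`, equivalently
`dim V_Y(-nP) + dim V_Z(-(d+1-n)Q) = r + 1` for `0 ≤ n ≤ d + 1`. If the aspects are compatible at
the node and `P'` is a place of `K_Y` other than `P`, then `m_i(V_Y, P') ≤ m_i(V_Z, Q)` for every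
`i`, that is, `dim V_Y(-nP') ≤ dim V_Z(-nQ)` for every `n`. (The source states this for curves over
the complex numbers.) -/
theorem result
    (k : Type*) [Field k] [IsAlgClosed k] [CharZero k]
    (KY : Type*) [Field KY] [Algebra k KY] (hKY : FunFld.IsFunctionField k KY) (KZ : Type*) [Field KZ] [Algebra k KZ] (hKZ : FunFld.IsFunctionField k KZ)
    (d r : ℕ) (DY : FunFld.Divisor k KY) (hDY : DY.deg = d) (DZ : FunFld.Divisor k KZ) (hDZ : DZ.deg = d)
    (VY : Submodule k KY) (hVY : VY ≤ FunFld.L DY) (hVYr : Module.finrank k ↥VY = r + 1)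
    (VZ : Submodule k KZ) (hVZ : VZ ≤ FunFld.L DZ) (hVZr : Module.finrank k ↥VZ = r + 1)
    (P : FunFld.Place k KY) (Q : FunFld.Place k KZ)
    (hcomp : ∀ n : ℕ, n ≤ d + 1 →
      Module.finrank k ↥(VY ⊓ FunFld.L (DY - Finsupp.single P ((n : ℤ)))) + Module.finrank k ↥(VZ ⊓ FunFld.L (DZ - Finsupp.single Q ((d : ℤ) + 1 - n))) = r + 1)
    (P' : FunFld.Place k KY) (hP' : P' ≠ P) (n : ℕ) :
    Module.finrank k ↥(VY ⊓ FunFld.L (DY - Finsupp.single P' ((n : ℤ)))) ≤ Module.finrank k ↥(VZ ⊓ FunFld.L (DZ - Finsupp.single Q ((n : ℤ)))) := by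
  classical
  have hdeg := deg_eq_one hKY.1
  by_cases hn : n ≤ d
  · have hc := hcomp (d + 1 - n) (by omega)
    rw [show ((d : ℤ) + 1 - ((d + 1 - n : ℕ) : ℤ)) = n by omega] at hc
    have : FiniteDimensional k (FunFld.L DY) := L_finite hKY.1 DY
    have : FiniteDimensional k VY := Submodule.finiteDimensional_of_le hVY
    set A := VY ⊓ FunFld.L (DY - Finsupp.single P ((d + 1 - n : ℕ) : ℤ))
    set B := VY ⊓ FunFld.L (DY - Finsupp.single P' (n : ℤ))
    have : FiniteDimensional k A := Submodule.finiteDimensional_of_le inf_le_left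
    have : FiniteDimensional k B := Submodule.finiteDimensional_of_le inf_le_left
    have h0 : A ⊓ B = ⊥ := by
      refine (Submodule.eq_bot_iff _).mpr fun x ⟨h1, h2⟩ => by_contra fun hx => ?_
      have hm : x ∈ FunFld.L (DY - Finsupp.single P ((d + 1 - n : ℕ) : ℤ) - Finsupp.single P' (n : ℤ)) := by
        rw [mem_L_sub_single (by omega)]
        refine ⟨h1.2, ?_⟩
        have := ((mem_L_sub_single (by omega)).mp h2.2).2
        simpa [Ne.symm hP'] using this
      have hz := ell_eq_zero_of_deg_neg hKY.1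
        (D := DY - Finsupp.single P ((d + 1 - n : ℕ) : ℤ) - Finsupp.single P' (n : ℤ)) (by
          rw [Divisor.deg_sub, Divisor.deg_sub, Divisor.deg_single, Divisor.deg_single, hdeg, hdeg, hDY]
          omega)
      have := L_finite hKY.1 (DY - Finsupp.single P ((d + 1 - n : ℕ) : ℤ) - Finsupp.single P' (n : ℤ))
      rw [Submodule.finrank_eq_zero.mp hz] at hm
      exact hx hm
    have h := Submodule.finrank_sup_add_finrank_inf_eq A B
    rw [h0, finrank_bot, add_zero] at h
    have := Submodule.finrank_mono (sup_le inf_le_left inf_le_left : A ⊔ B ≤ VY)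
    omega
  · have := L_finite hKY.1 (DY - Finsupp.single P' (n : ℤ))
    have h0 := ell_eq_zero_of_deg_neg hKY.1 (D := DY - Finsupp.single P' (n : ℤ)) (by
      rw [Divisor.deg_sub, Divisor.deg_single, hdeg, hDY]; omega)
    have := Submodule.finrank_mono (inf_le_right : VY ⊓ FunFld.L (DY - Finsupp.single P' (n : ℤ)) ≤ _)
    unfold FunFld.ell at h0
    omega

end Groth.Agent.S18173
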