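import Groth.Statements.S18176
import Groth.Agent.FFLib.Small

set_option autoImplicit false
open FunFld Groth.Agent.FFLib WithZero

namespace Groth.Agent.S18176

/-- Let `k` be an algebraically closed field of characteristic zero and `K/k` a function field of one
variable (the function field of a smooth projective curve over `k`). A `g^r_d` is a divisor `D` of
degree `d` with a subspace `V ⊆ L(D)` of dimension `r + 1`; for a place `P` and `n ≥ 0`, `V(-nP) = V
∩ L(D - nP)` is the space of members vanishing to order at least `n` at `P`, so `dim V(-nP)` counts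
the vanishing orders `m_0 < ⋯ < m_r` of `V` at `P` that are at least `n`, and the weight of `V` at
`P` is `∑_{n=1}^{d} dim V(-nP) - r(r+1)/2`. For a `g^r_d` `(D, V)` and two distinct places `P ≠ Q`:
the vanishing sequence at `P` is bounded by `m_i(V, P) ≤ d - m_{r-i}(V, Q)`, that is `dim V(-nP) +
dim V(-(d+1-n)Q) ≤ r + 1` for `0 ≤ n ≤ d + 1`; consequently `w(V, P) + w(V, Q) ≤ (r+1)(d-r)`, that
is `∑_{n=1}^{d} dim V(-nP) + ∑_{n=1}^{d} dim V(-nQ) ≤ (r+1)d`. (In the source the curve is an
elliptic tail of a degenerate curve, `P` its node and `Q` the limit of a moving ramification point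
with vanishing sequence `(m_i)` there, and the bound is rewritten as `w(V, P) ≤ r(g-1) + ρ + r - 1`
with `ρ = 1 + g - (r+1)(g+r-d) - ∑ (m_i - i)` the moving-point Brill–Noether number of the whole
genus-`g` curve, where the printed statement has `r(g+1)` for `r(g-1)`; the argument uses only `P ≠
Q`, so the row is stated for any function field.) (The source states this for curves over the
complex numbers.) -/
theorem result
    (k : Type*) [Field k] [IsAlgClosed k] [CharZero k]
    (K : Type*) [Field K] [Algebra k K] (hK : FunFld.IsFunctionField k K)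
    (d r : ℕ) (D : FunFld.Divisor k K) (hD : D.deg = d)
    (V : Submodule k K) (hV : V ≤ FunFld.L D) (hVr : Module.finrank k ↥V = r + 1)
    (P Q : FunFld.Place k K) (hPQ : P ≠ Q) :
    (∀ n : ℕ, n ≤ d + 1 →
      Module.finrank k ↥(V ⊓ FunFld.L (D - Finsupp.single P ((n : ℤ)))) + Module.finrank k ↥(V ⊓ FunFld.L (D - Finsupp.single Q ((d : ℤ) + 1 - n))) ≤ r + 1) ∧
    (∑ n ∈ Finset.range d, Module.finrank k ↥(V ⊓ FunFld.L (D - Finsupp.single P ((n : ℤ) + 1)))) +
      (∑ n ∈ Finset.range d, Module.finrank k ↥(V ⊓ FunFld.L (D - Finsupp.single Q ((n : ℤ) + 1)))) ≤ (r + 1) * d := by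
  classical
  have hdeg := deg_eq_one hK.1
  have hfin := L_finite hK.1 D
  have : FiniteDimensional k V := Submodule.finiteDimensional_of_le hV
  have key : ∀ n : ℕ, n ≤ d + 1 →
      Module.finrank k ↥(V ⊓ FunFld.L (D - Finsupp.single P (n : ℤ))) +
        Module.finrank k ↥(V ⊓ FunFld.L (D - Finsupp.single Q ((d : ℤ) + 1 - n))) ≤ r + 1 := by
    intro n hn
    set A := V ⊓ FunFld.L (D - Finsupp.single P (n : ℤ))
    set B := V ⊓ FunFld.L (D - Finsupp.single Q ((d : ℤ) + 1 - n))
    have : FiniteDimensional k A := Submodule.finiteDimensional_of_le inf_le_left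
    have : FiniteDimensional k B := Submodule.finiteDimensional_of_le inf_le_left
    have h0 : A ⊓ B = ⊥ := by
      refine (Submodule.eq_bot_iff _).mpr fun x ⟨h1, h2⟩ => by_contra fun hx => ?_
      have hm : x ∈ FunFld.L (D - Finsupp.single P (n : ℤ) - Finsupp.single Q ((d : ℤ) + 1 - n)) := by
        rw [mem_L_sub_single (by omega)]
        refine ⟨h1.2, ?_⟩
        have := ((mem_L_sub_single (by omega)).mp h2.2).2
        simpa [hPQ] using this
      have := deg_nonneg_of_ell_pos hK.1 (D := D - Finsupp.single P (n : ℤ) -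
        Finsupp.single Q ((d : ℤ) + 1 - n)) (by
        have := L_finite hK.1 (D - Finsupp.single P (n : ℤ) - Finsupp.single Q ((d : ℤ) + 1 - n))
        have : Nontrivial (FunFld.L (D - Finsupp.single P (n : ℤ) - Finsupp.single Q ((d : ℤ) + 1 - n))) :=
          ⟨⟨⟨x, hm⟩, 0, fun h => hx (congrArg Subtype.val h)⟩⟩
        exact Module.finrank_pos)
      rw [Divisor.deg_sub, Divisor.deg_sub, Divisor.deg_single, Divisor.deg_single, hdeg, hdeg, hD] at this
      omega
    have h := Submodule.finrank_sup_add_finrank_inf_eq A B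
    rw [h0, finrank_bot, add_zero] at h
    rw [← h, ← hVr]
    exact Submodule.finrank_mono (sup_le inf_le_left inf_le_left)
  refine ⟨key, ?_⟩
  rw [← Finset.sum_range_reflect (fun n => Module.finrank k
      ↥(V ⊓ FunFld.L (D - Finsupp.single Q ((n : ℤ) + 1)))) d, ← Finset.sum_add_distrib]
  refine (Finset.sum_le_card_nsmul _ _ (r + 1) fun n hn => ?_).trans (by simp [mul_comm])
  have hn' := Finset.mem_range.mp hn
  have h := key (n + 1) (by omega)
  rw [show ((d - 1 - n : ℕ) : ℤ) + 1 = (d : ℤ) + 1 - (n + 1 : ℕ) by omega]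
  push_cast at h ⊢
  exact h

end Groth.Agent.S18176
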