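import Groth.Statements.S18177
import Groth.Agent.FFLib.Monomial
import Groth.Agent.FFLib.Chain

set_option autoImplicit false
open FunFld Groth.Agent.FFLib WithZero

namespace Groth.Agent.S18177

/-- Let `k` be an algebraically closed field of characteristic zero and `K/k` a function field of one
variable (the function field of a smooth projective curve over `k`). A `g^r_d` is a divisor `D` of
degree `d` with a subspace `V ⊆ L(D)` of dimension `r + 1`; for a place `P` and `n ≥ 0`, `V(-nP) = V
∩ L(D - nP)` is the space of members vanishing to order at least `n` at `P`, so `dim V(-nP)` counts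
the vanishing orders `m_0 < ⋯ < m_r` of `V` at `P` that are at least `n`, and the weight of `V` at
`P` is `∑_{n=1}^{d} dim V(-nP) - r(r+1)/2`. Let `(D, V)` be a `g^r_d` with `r ≥ 1` and `P ≠ Q`
places at which the weights are large: `w(V, P) + w(V, Q) ≥ (r+1)(d-r) - (r-1)`, that is `(r+1)d + 1
≤ ∑_{n=1}^{d} dim V(-nP) + ∑_{n=1}^{d} dim V(-nQ) + r`. Then `V` contains members with divisors `m_i
Q + (d - m_i) P` for two different indices `i`, and hence `m(Q - P)` is a principal divisor for some
`1 ≤ m ≤ d`. (In the source `K` is an elliptic tail of a degenerate curve, `P` its node and `Q` the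
limit of the moving ramification point, the weight hypothesis coming from `ρ ≤ 0`; it concludes that
only finitely many `Q` are possible. The torsion assertion holds in any genus and is what is stated
here.) (The source states this for curves over the complex numbers.) -/
theorem result
    (k : Type*) [Field k] [IsAlgClosed k] [CharZero k]
    (K : Type*) [Field K] [Algebra k K] (hK : FunFld.IsFunctionField k K)
    (d r : ℕ) (hr : 1 ≤ r) (D : FunFld.Divisor k K) (hD : D.deg = d)
    (V : Submodule k K) (hV : V ≤ FunFld.L D) (hVr : Module.finrank k ↥V = r + 1)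
    (P Q : FunFld.Place k K) (hPQ : P ≠ Q)
    (hw : (r + 1) * d + 1 ≤
      (∑ n ∈ Finset.range d, Module.finrank k ↥(V ⊓ FunFld.L (D - Finsupp.single P ((n : ℤ) + 1)))) +
        (∑ n ∈ Finset.range d, Module.finrank k ↥(V ⊓ FunFld.L (D - Finsupp.single Q ((n : ℤ) + 1)))) + r) :
    ∃ m : ℕ, 1 ≤ m ∧ m ≤ d ∧ ∃ h : K, h ≠ 0 ∧
      FunFld.div k h = Finsupp.single Q (m : ℤ) - Finsupp.single P (m : ℤ) := by
  have h := IsSeries.mk' hK hD hV hVr
  simp only [vsum_eq] at hw
  exact h.exists_ratio hPQ hw

end Groth.Agent.S18177
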