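import Groth.Statements.S1818
import Groth.Agent.KFlatLib.Ring.CompletionDuality
-- import your own Groth.Agent.* helpers here

set_option autoImplicit false
universe u
open CategoryTheory
attribute [local instance] HasDerivedCategory.standard
open Dual

namespace Groth.Agent.S1818

/-- Let A be a Noetherian local ring with maximal ideal m, ω a normalized dualizing complex and κ → E an
injective hull of the residue field. Let K be a complex of A-modules and G a complex representing
RΓ_m(K); assume the derived functors RHom(K, −), RHom(G, −), RΓ_m and derived m-completion exist.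
Then the derived m-completion of RHom_A(K, ω) is isomorphic in D(A) to RHom_A(G, E[0]) =
RHom_A(RΓ_m(K), E[0]). -/
theorem result (A : Type u) [CommRing A] [IsLocalRing A] [IsNoetherianRing A] (ω : Dual.D A) (hω : Dual.IsDualizing A ω) (hn : Dual.IsNormalized A ω) (E : Type u) [AddCommGroup E] [Module A E] (f : IsLocalRing.ResidueField A →ₗ[A] E) (hf : InjHull.IsInjectiveHull f) [DRing.HasRgammaI (IsLocalRing.maximalIdeal A)] [DRing.HasDerivedCompletion (IsLocalRing.maximalIdeal A)] (K : DRing.Cx A) [DRing.HasRHomCx K] (G : DRing.Cx A) [DRing.HasRHomCx G] (hG : Nonempty (DRing.toD G ≅ (DRing.RgammaI (IsLocalRing.maximalIdeal A)).obj (DRing.toD K))) : Nonempty (((DRing.derivedCompletion (IsLocalRing.maximalIdeal A)).obj ((DRing.RHomCx K).obj ω)).obj ≅ (DRing.RHomCx G).obj (Dual.inD A E)) := by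
  obtain ⟨eG⟩ := hG
  obtain ⟨e₁⟩ := Groth.Agent.KFlatLib.CompletionDuality.nonempty_completion_iso
    (IsLocalRing.maximalIdeal A) K G eG ω
  have hGt : ∀ q, LocCoh.IsPowerTorsion (IsLocalRing.maximalIdeal A) (Dual.HD A (DRing.toD G) q) := fun q x => by
    let φ := ((DerivedCategory.homologyFunctor (ModuleCat.{u} A) q).mapIso eG).toLinearEquiv
    obtain ⟨k, hk⟩ := Groth.Agent.KFlatLib.isPowerTorsion_hd_rgamma (IsLocalRing.maximalIdeal A) (DRing.toD K) q (φ x)
    exact ⟨k, fun a ha => φ.injective (by rw [map_smul, hk a ha, map_zero])⟩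
  obtain ⟨e₂⟩ := Groth.Agent.KFlatLib.CompletionDuality.nonempty_rhom_rgamma_iso
    (IsLocalRing.maximalIdeal A) G hGt ω
  obtain ⟨e₃⟩ := Groth.Agent.KFlatLib.CompletionDuality.nonempty_rgamma_dualizing hω hn hf
  exact ⟨e₁ ≪≫ e₂.symm ≪≫ (DRing.RHomCx G).mapIso e₃⟩

end Groth.Agent.S1818
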