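import Groth.Statements.S18187
import Groth.Agent.ArtFunLib.T1Lifting

set_option autoImplicit false
universe u v
open CategoryTheory
open T1Lift

namespace Groth.Agent.S18187

/-- In the set-valued case, let k be a field of characteristic zero and F a functor on local Artinian
k-algebras with residue field k such that F(k) is one point, F satisfies the Rim–Schlessinger
condition (for every fibre-product square A' ×_A A'' with A'' → A surjective the comparison map F(A'
×_A A'') → F(A') ×_{F(A)} F(A'') is bijective), and F has an obstruction theory with values in a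
k-vector space V which is moreover functorial for every commutative square of surjections whose
kernels are killed by the maximal ideal. Write A_m = k[t]/(t^(m+1)), B_m = A_m[y]/(y²), α : A_(m+1)
→ A_m and ξ : B_(m+1) → B_m for t ↦ t, β : B_m → A_m for y ↦ 0 and ε : A_(m+1) → B_m for t ↦ t + y.
Then an element X ∈ F(A_(n+1)) lifts to F(A_(n+2)) along α if and only if there is Y ∈ F(B_(n+1))
with F(β) Y = X and F(ξ) Y = F(ε) X, i.e. if and only if the element of the first-order tangent set
T¹(F(α)X / A_n) defined by F(ε) X lies in the image of T¹(X / A_(n+1)). (Stated here for functors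
with values in sets; the version for predeformation categories in groupoids satisfying the
Rim–Schlessinger condition specialises to it. The functoriality of the obstruction theory for
arbitrary commutative squares is an explicit hypothesis, pinned through linear maps between the
kernels that agree with the given ring map.) -/
theorem result (k : Type u) [Field k] [CharZero k]
    (F : ArtFun.Art k k ⥤ Type v) (h0 : ArtFun.H0 F)
    (hRS : ∀ ⦃P A A' A'' : ArtFun.Art k k⦄ (p' : P ⟶ A') (p'' : P ⟶ A'') (f' : A' ⟶ A) (f'' : A'' ⟶ A)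
      (h : ArtFun.Art.IsFibreProd p' p'' f' f''), Function.Surjective f'' → Function.Bijective (ArtFun.cmp F h))
    (V : Type u) [AddCommGroup V] [Module k V] (O : ArtFun.ObsTheory F V)
    (hnat : ∀ ⦃A' A C' C : ArtFun.Art k k⦄ (φ : A' ⟶ A) (hφ : ArtFun.Art.IsSemismallExt φ)
      (ψ : C' ⟶ C) (hψ : ArtFun.Art.IsSemismallExt ψ) (g' : A' ⟶ C') (g : A ⟶ C), φ ≫ g = g' ≫ ψ →
      ∀ (ℓ : ↥(RingHom.ker φ.toAlgHom) →ₗ[k] ↥(RingHom.ker ψ.toAlgHom)),
        (∀ j : ↥(RingHom.ker φ.toAlgHom), ((ℓ j : ↥(RingHom.ker ψ.toAlgHom)) : C') = g' (j : A')) →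
        ∀ u : F.obj A, O.obs ψ hψ (F.map g u) = LinearMap.lTensor V ℓ (O.obs φ hφ u))
    (n : ℕ) (X : F.obj (T1Lift.A k (n + 1))) :
    (∃ X' : F.obj (T1Lift.A k (n + 2)), F.map (T1Lift.α k (n + 1)) X' = X) ↔
      ∃ Y : F.obj (T1Lift.B k (n + 1)), F.map (T1Lift.β k (n + 1)) Y = X ∧
        F.map (T1Lift.ξ k n) Y = F.map (T1Lift.ε k n) X := by
  exact Groth.Agent.ArtFunLib.T1Lifting.lift_iff F hRS V O hnat n X

end Groth.Agent.S18187
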