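import Groth.Statements.S18188
import Mathlib

set_option autoImplicit false
universe u
open OrbRR

namespace Groth.Agent.S18188

/-- Let K be a field in which 6 ≠ 0, let j < N be natural numbers (so N ≥ 1), and let ζ ∈ K be a
primitive N-th root of unity. Then the sum over i = 1, …, N − 1 of ζ^{ij} / (2 − ζ^i − ζ^{−i})
equals j(j − N)/2 + (N² − 1)/12. (The published setting is characteristic zero; the identity is
stated here over any field of characteristic different from 2 and 3, where the published proof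
applies unchanged: a field containing a primitive N-th root of unity has characteristic prime to N,
and each denominator 2 − ζ^i − ζ^{−i} = −(1 − ζ^i)²/ζ^i with 0 < i < N is nonzero. In
characteristics 2 and 3 the right-hand side has no meaning.) -/
theorem result (K : Type u) [Field K] (h6 : (6 : K) ≠ 0)
    (N j : ℕ) (hj : j < N) (ζ : K) (hζ : IsPrimitiveRoot ζ N) :
    ∑ i ∈ Finset.Ioo 0 N, ζ ^ (i * j) / (2 - ζ ^ i - (ζ ^ i)⁻¹) =
      (j : K) * ((j : K) - (N : K)) / 2 + ((N : K) ^ 2 - 1) / 12 := by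
  classical
  have hN : 0 < N := by omega
  have h2 : (2 : K) ≠ 0 := fun h => h6 (by rw [show (6 : K) = 2 * 3 by norm_num, h, zero_mul])
  have h3 : (3 : K) ≠ 0 := fun h => h6 (by rw [show (6 : K) = 2 * 3 by norm_num, h, mul_zero])
  have h12 : (12 : K) ≠ 0 := by
    rw [show (12 : K) = 2 * 2 * 3 by norm_num]
    exact mul_ne_zero (mul_ne_zero h2 h2) h3
  haveI : NeZero N := ⟨by omega⟩
  have hNK : (N : K) ≠ 0 := (hζ.neZero').out
  have hζ0 : ζ ≠ 0 := hζ.ne_zero (by omega)
  let D : ℕ → K := fun i => 2 - ζ ^ i - (ζ ^ i)⁻¹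
  have hD : ∀ i ∈ Finset.Ioo 0 N, D i ≠ 0 := by
    intro i hi h
    rw [Finset.mem_Ioo] at hi
    have hz : ζ ^ i ≠ 1 := hζ.pow_ne_one_of_pos_of_lt hi.1.ne' hi.2
    have : (1 - ζ ^ i) ^ 2 = 0 := by
      have e : -(ζ ^ i) * D i = (1 - ζ ^ i) ^ 2 := by
        have := pow_ne_zero i hζ0
        simp only [D]
        field_simp
        ring
      rw [← e, h, mul_zero]
    rw [pow_eq_zero_iff two_ne_zero, sub_eq_zero] at this
    exact hz this.symm
  let h : ℕ → K := fun m => ∑ i ∈ Finset.Ioo 0 N, ζ ^ (i * m) / D i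
  let g : ℕ → K := fun m => (m : K) * ((m : K) - (N : K)) / 2 + ((N : K) ^ 2 - 1) / 12
  have hgeom : ∀ m, ¬ N ∣ m → ∑ i ∈ Finset.Ioo 0 N, ζ ^ (i * m) = -1 := by
    intro m hm
    have hne : ζ ^ m ≠ 1 := fun h => hm ((hζ.pow_eq_one_iff_dvd m).mp h)
    have h0 : ∑ i ∈ Finset.range N, (ζ ^ m) ^ i = 0 := by
      rw [geom_sum_eq hne, ← pow_mul, mul_comm, pow_mul, hζ.pow_eq_one]
      simp
    rw [Finset.range_eq_Ico, Finset.sum_eq_sum_Ico_succ_bot hN, pow_zero] at h0
    have e : Finset.Ioo 0 N = Finset.Ico 1 N := by ext; simp; omega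
    rw [e, ← eq_neg_of_add_eq_zero_right h0]
    exact Finset.sum_congr rfl fun i _ => by rw [← pow_mul, mul_comm]
  have hrec : ∀ m, m + 2 ≤ N → h (m + 2) - 2 * h (m + 1) + h m = 1 := by
    intro m hm
    have hnd : ¬ N ∣ m + 1 := fun hd => by have := Nat.le_of_dvd (by omega) hd; omega
    simp only [h, Finset.mul_sum, ← Finset.sum_sub_distrib, ← Finset.sum_add_distrib]
    rw [← neg_neg (1 : K), ← hgeom (m + 1) hnd, ← Finset.sum_neg_distrib]
    refine Finset.sum_congr rfl fun i hi => ?_
    have := hD i hi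
    have hzi := pow_ne_zero i hζ0
    have e1 : ζ ^ (i * (m + 2)) = ζ ^ (i * m) * (ζ ^ i) ^ 2 := by
      rw [← pow_mul, ← pow_add]; ring_nf
    have e2 : ζ ^ (i * (m + 1)) = ζ ^ (i * m) * ζ ^ i := by rw [← pow_add]; ring_nf
    rw [e1, e2]
    field_simp
    simp only [D]
    field_simp
    ring
  have hfirst : h 1 - h 0 = -((N : K) - 1) / 2 := by
    have hsymm : ∑ i ∈ Finset.Ioo 0 N, (ζ ^ i - 1) / D i =
        ∑ i ∈ Finset.Ioo 0 N, ((ζ ^ i)⁻¹ - 1) / D i := by
      refine Finset.sum_nbij' (fun i => N - i) (fun i => N - i) ?_ ?_ ?_ ?_ ?_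
      · intro i hi; simp only [Finset.mem_Ioo] at hi ⊢; omega
      · intro i hi; simp only [Finset.mem_Ioo] at hi ⊢; omega
      · intro i hi; simp only [Finset.mem_Ioo] at hi; omega
      · intro i hi; simp only [Finset.mem_Ioo] at hi; omega
      · intro i hi
        simp only [Finset.mem_Ioo] at hi
        have e : ζ ^ (N - i) = (ζ ^ i)⁻¹ := by
          apply eq_inv_of_mul_eq_one_left
          rw [← pow_add, Nat.sub_add_cancel hi.2.le, hζ.pow_eq_one]
        simp only [D, e, inv_inv]
        ring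
    have hboth : ∑ i ∈ Finset.Ioo 0 N, ((ζ ^ i - 1) / D i + ((ζ ^ i)⁻¹ - 1) / D i) =
        -((N : K) - 1) := by
      rw [Finset.sum_congr rfl (g := fun _ => (-1 : K)) fun i hi => ?_]
      · simp [Nat.cast_sub (show 1 ≤ N from hN)]
      · have := hD i hi
        rw [← add_div, div_eq_iff this]
        simp only [D]
        ring
    rw [Finset.sum_add_distrib, ← hsymm] at hboth
    have e : h 1 - h 0 = ∑ i ∈ Finset.Ioo 0 N, (ζ ^ i - 1) / D i := by
      simp only [h, ← Finset.sum_sub_distrib, mul_one, mul_zero, pow_zero, sub_div]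
    rw [e, eq_div_iff h2, ← hboth]
    ring
  have hdiff : ∀ m, m < N → h m - g m = h 0 - g 0 ∧ (m + 1 < N → h (m + 1) - g (m + 1) = h 0 - g 0) := by
    intro m hm
    induction m with
    | zero =>
      refine ⟨rfl, fun _ => ?_⟩
      have hg1 : g 1 - g 0 = -((N : K) - 1) / 2 := by simp only [g]; push_cast; field_simp; ring
      linear_combination hfirst - hg1
    | succ m ih =>
      obtain ⟨ha, hb⟩ := ih (by omega)
      refine ⟨hb hm, fun hm2 => ?_⟩
      have hg2 : g (m + 2) - 2 * g (m + 1) + g m = 1 := by simp only [g]; push_cast; field_simp; ring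
      linear_combination hrec m (by omega) - hg2 + 2 * hb hm - ha
  have hsumh : ∑ m ∈ Finset.range N, h m = 0 := by
    simp only [h]
    rw [Finset.sum_comm]
    refine Finset.sum_eq_zero fun i hi => ?_
    simp only [Finset.mem_Ioo] at hi
    rw [← Finset.sum_div]
    simp only [pow_mul]
    rw [geom_sum_eq (hζ.pow_ne_one_of_pos_of_lt hi.1.ne' hi.2), ← pow_mul, mul_comm, pow_mul,
      hζ.pow_eq_one]
    simp
  have hsumg : ∑ m ∈ Finset.range N, g m = 0 := by
    have key : ∀ n : ℕ, ∑ m ∈ Finset.range n, g m =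
        (n : K) * (((n : K) - 1) * (2 * (n : K) - 1) - 3 * (N : K) * ((n : K) - 1) +
          ((N : K) ^ 2 - 1)) / 12 := by
      intro n
      induction n with
      | zero => simp
      | succ n ih =>
        rw [Finset.sum_range_succ, ih]
        simp only [g]
        push_cast
        field_simp
        ring
    rw [key]
    ring
  have hconst : ∑ m ∈ Finset.range N, (h m - g m) = (N : K) * (h 0 - g 0) := by
    rw [Finset.sum_congr rfl fun m hm => (hdiff m (Finset.mem_range.mp hm)).1]
    simp [mul_sub]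
  rw [Finset.sum_sub_distrib, hsumh, hsumg, sub_zero, eq_comm, mul_eq_zero] at hconst
  have := (hdiff j hj).1
  rw [hconst.resolve_left hNK, sub_eq_zero] at this
  exact this

end Groth.Agent.S18188
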