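import Groth.Statements.S18189
import Mathlib
import Groth.Agent.S18188

set_option autoImplicit false
open OrbRR

namespace Groth.Agent.S18189

/-- Let N ≥ 1 be a natural number, let ζ ∈ ℂ be a primitive N-th root of unity, and put f(i) = i(i −
N)/2 + (N² − 1)/12 for 0 ≤ i < N. For every natural number m the complex number ε_m = (1/N)
∑_{i=0}^{N−1} f(i) ζ^{mi}, an eigenvalue of the symmetric circulant N × N matrix with (i, j) entry
f(j − i)/N, is real and nonnegative. -/
theorem result (N : ℕ) (hN : 0 < N) (ζ : ℂ)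
    (hζ : IsPrimitiveRoot ζ N) (m : ℕ) :
    (∑ i ∈ Finset.range N,
        ((i : ℂ) * ((i : ℂ) - (N : ℂ)) / 2 + ((N : ℂ) ^ 2 - 1) / 12) / (N : ℂ) * ζ ^ (m * i)).im = 0 ∧
    0 ≤ (∑ i ∈ Finset.range N,
        ((i : ℂ) * ((i : ℂ) - (N : ℂ)) / 2 + ((N : ℂ) ^ 2 - 1) / 12) / (N : ℂ) * ζ ^ (m * i)).re := by
  classical
  haveI : NeZero N := ⟨hN.ne'⟩
  have hζ0 : ζ ≠ 0 := hζ.ne_zero hN.ne'
  have hNC : (N : ℂ) ≠ 0 := by exact_mod_cast hN.ne'
  let D : ℕ → ℂ := fun i => 2 - ζ ^ i - (ζ ^ i)⁻¹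
  have key : ∑ i ∈ Finset.range N,
      ((i : ℂ) * ((i : ℂ) - (N : ℂ)) / 2 + ((N : ℂ) ^ 2 - 1) / 12) / (N : ℂ) * ζ ^ (m * i) =
      ∑ l ∈ Finset.Ioo 0 N, if N ∣ l + m then 1 / D l else 0 := by
    calc _ = ∑ i ∈ Finset.range N, ∑ l ∈ Finset.Ioo 0 N, (ζ ^ (l + m)) ^ i / (D l * N) := by
          refine Finset.sum_congr rfl fun i hi => ?_
          rw [← Groth.Agent.S18188.result ℂ (by norm_num) N i (Finset.mem_range.mp hi) ζ hζ,
            Finset.sum_div, Finset.sum_mul]
          refine Finset.sum_congr rfl fun l _ => ?_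
          rw [← pow_mul, add_mul, pow_add, div_div, div_mul_eq_mul_div]
      _ = _ := by
          rw [Finset.sum_comm]
          refine Finset.sum_congr rfl fun l hl => ?_
          rw [← Finset.sum_div]
          split_ifs with hd
          · simp only [(hζ.pow_eq_one_iff_dvd _).mpr hd, one_pow, Finset.sum_const, Finset.card_range,
              nsmul_eq_mul, mul_one]
            field_simp
          · rw [geom_sum_eq (fun h => hd ((hζ.pow_eq_one_iff_dvd _).mp h)), ← pow_mul, mul_comm,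
              pow_mul, hζ.pow_eq_one]
            simp
  rw [key, Complex.im_sum, Complex.re_sum]
  have hterm : ∀ l, (1 / D l).im = 0 ∧ 0 ≤ (1 / D l).re := by
    intro l
    have hn : ‖ζ ^ l‖ = 1 := by
      rw [norm_pow, Complex.norm_eq_one_of_pow_eq_one hζ.pow_eq_one hN.ne', one_pow]
    have hD : D l = ((2 - 2 * (ζ ^ l).re : ℝ) : ℂ) := by
      simp only [D, Complex.inv_eq_conj hn, sub_sub, Complex.add_conj]
      push_cast
      ring
    have hle : (ζ ^ l).re ≤ 1 := hn ▸ Complex.re_le_norm _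
    rw [hD, ← Complex.ofReal_one, ← Complex.ofReal_div, Complex.ofReal_im, Complex.ofReal_re]
    exact ⟨rfl, div_nonneg zero_le_one (by linarith)⟩
  constructor
  · refine Finset.sum_eq_zero fun l _ => ?_
    split_ifs
    · exact (hterm l).1
    · simp
  · refine Finset.sum_nonneg fun l _ => ?_
    split_ifs
    · exact (hterm l).2
    · simp

end Groth.Agent.S18189
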