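import Groth.Statements.S18190
import Mathlib
import Groth.Agent.S18188

set_option autoImplicit false
open OrbRR

namespace Groth.Agent.S18190

/-- Let N ≥ 1 and let f : ℤ/Nℤ → ℚ be f(x) = x(x − N)/2 + (N² − 1)/12, where x is read as its
representative with 0 ≤ x < N. The real N × N matrix indexed by ℤ/Nℤ whose (i, j) entry is f(j −
i)/N, a symmetric circulant matrix, is positive semidefinite. -/
theorem result (N : ℕ) [NeZero N] :
    (Matrix.of fun i j : ZMod N =>
        ((((j - i).val : ℝ) * (((j - i).val : ℝ) - (N : ℝ))) / 2 + ((N : ℝ) ^ 2 - 1) / 12) / (N : ℝ)).PosSemidef := by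
  classical
  let ζ : ℂ := Complex.exp (2 * Real.pi * Complex.I / N)
  have hζ : IsPrimitiveRoot ζ N := Complex.isPrimitiveRoot_exp N (NeZero.ne N)
  have hN : 0 < N := NeZero.pos N
  let c : ℕ → ℝ := fun l => 1 / ((2 - 2 * (ζ ^ l).re) * N)
  have hn : ∀ l : ℕ, ‖ζ ^ l‖ = 1 := fun l => by
    rw [norm_pow, Complex.norm_eq_one_of_pow_eq_one hζ.pow_eq_one hN.ne', one_pow]
  let w : ℕ → ZMod N → ℂ := fun l a => ζ ^ (l * a.val)
  have hentry : ∀ a b : ZMod N,
      ((((b - a).val : ℝ) * (((b - a).val : ℝ) - (N : ℝ))) / 2 + ((N : ℝ) ^ 2 - 1) / 12) / (N : ℝ) =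
        ∑ l ∈ Finset.Ioo 0 N, c l * ((w l a).re * (w l b).re + (w l a).im * (w l b).im) := by
    intro a b
    apply Complex.ofReal_injective
    push_cast
    rw [← Groth.Agent.S18188.result ℂ (by norm_num) N (b - a).val (ZMod.val_lt _) ζ hζ,
      Finset.sum_div]
    have hw : ∀ l, ζ ^ (l * (b - a).val) = w l b * (starRingEnd ℂ) (w l a) := by
      intro l
      simp only [w]
      rw [← Complex.inv_eq_conj (hn _), eq_mul_inv_iff_mul_eq₀ (pow_ne_zero _ (hζ.ne_zero hN.ne')),
        ← pow_add, ← mul_add]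
      refine pow_eq_pow_of_modEq ?_ hζ.pow_eq_one
      apply Nat.ModEq.mul_left
      rw [← ZMod.natCast_eq_natCast_iff]
      simp
    have hsum : ∑ l ∈ Finset.Ioo 0 N, ζ ^ (l * (b - a).val) / (2 - ζ ^ l - (ζ ^ l)⁻¹) / (N : ℂ) =
        ∑ l ∈ Finset.Ioo 0 N, (c l : ℂ) * (w l b * (starRingEnd ℂ) (w l a)) := by
      refine Finset.sum_congr rfl fun l _ => ?_
      rw [hw, Complex.inv_eq_conj (hn l), sub_sub, Complex.add_conj]
      simp only [c]
      push_cast
      rw [one_div, mul_inv]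
      ring
    rw [hsum]
    have hreal : ∀ z : ℂ, (starRingEnd ℂ) z = z → ((z.re : ℝ) : ℂ) = z := fun z hz =>
      Complex.conj_eq_iff_re.mp hz
    have hconj : (starRingEnd ℂ) (∑ l ∈ Finset.Ioo 0 N, (c l : ℂ) * (w l b * (starRingEnd ℂ) (w l a))) =
        ∑ l ∈ Finset.Ioo 0 N, (c l : ℂ) * (w l b * (starRingEnd ℂ) (w l a)) := by
      rw [← hsum, ← Finset.sum_div, Groth.Agent.S18188.result ℂ (by norm_num) N (b - a).val
        (ZMod.val_lt _) ζ hζ]
      simp [map_div₀, Complex.conj_natCast, Complex.conj_ofNat, -ZMod.natCast_val]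
    rw [← hreal _ hconj, Complex.re_sum, Complex.ofReal_sum]
    refine Finset.sum_congr rfl fun l _ => ?_
    simp only [Complex.mul_re, Complex.mul_im, Complex.conj_re, Complex.conj_im, Complex.ofReal_re,
      Complex.ofReal_im]
    push_cast
    ring
  refine Matrix.PosSemidef.of_dotProduct_mulVec_nonneg ?_ fun x => ?_
  · ext a b
    simp only [Matrix.conjTranspose_apply, Matrix.of_apply, star_trivial, hentry]
    exact Finset.sum_congr rfl fun l _ => by ring
  · simp only [dotProduct, Matrix.mulVec, Matrix.of_apply, star_trivial, hentry]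
    have e : ∑ a, x a * ∑ b, (∑ l ∈ Finset.Ioo 0 N,
        c l * ((w l a).re * (w l b).re + (w l a).im * (w l b).im)) * x b =
        ∑ l ∈ Finset.Ioo 0 N, c l * ((∑ a, x a * (w l a).re) ^ 2 + (∑ a, x a * (w l a).im) ^ 2) := by
      simp only [Finset.sum_mul, Finset.mul_sum, sq, ← Finset.sum_add_distrib]
      conv_rhs => rw [Finset.sum_comm]
      refine Finset.sum_congr rfl fun a _ => ?_
      conv_rhs => rw [Finset.sum_comm]
      refine Finset.sum_congr rfl fun b _ => Finset.sum_congr rfl fun l _ => ?_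
      ring
    rw [e]
    refine Finset.sum_nonneg fun l _ => mul_nonneg ?_ (by positivity)
    have : (ζ ^ l).re ≤ 1 := hn l ▸ Complex.re_le_norm _
    exact div_nonneg zero_le_one (mul_nonneg (by linarith) (Nat.cast_nonneg N))

end Groth.Agent.S18190
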