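import Groth.Statements.S18195
import Groth.Agent.LocImmX.Basic

set_option autoImplicit false
universe u
open LocImm

namespace Groth.Agent.S18195

/-- A localizing composite with injective second map: the second map localizes. -/
theorem isLocHom_of_injective {A B C : Type u} [CommRing A] [CommRing B] [CommRing C] (a : A →+* B)
    (b : B →+* C) (hb : Function.Injective b) (h : LocImm.IsLocHom (b.comp a)) : LocImm.IsLocHom b := by
  letI := (b.comp a).toAlgebra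
  obtain ⟨M, hM⟩ := h
  let M' : Submonoid B := M.map a.toMonoidHom
  show ∃ S : Submonoid B, @IsLocalization B _ S C _ b.toAlgebra
  letI := b.toAlgebra
  refine ⟨M', ⟨⟨?_, ?_, ?_⟩⟩⟩
  · rintro ⟨_, m, hm, rfl⟩
    exact IsLocalization.map_units C (⟨m, hm⟩ : M)
  · intro z
    obtain ⟨⟨x, m⟩, hx⟩ := IsLocalization.surj M z
    exact ⟨⟨a x, ⟨a m, m, m.2, rfl⟩⟩, hx⟩
  · intro x y hxy
    exact ⟨1, by rw [hb hxy]⟩

open CategoryTheory AlgebraicGeometry in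
/-- Let `f : X ⟶ Y` and `g : Y ⟶ Z` be morphisms of Noetherian schemes with `g` separated and `f ≫ g` a
localizing immersion (localizing and injective on points). If `f` has schematically dense image,
i.e. each ring map `Γ(Y, U) → Γ(X, f⁻¹U)` is injective, then `f` is a localizing immersion. -/
theorem result {X Y Z : Scheme.{u}} [IsNoetherian X] [IsNoetherian Y] [IsNoetherian Z]
    (f : X ⟶ Y) (g : Y ⟶ Z) (hfg : LocImm.IsLocImmersion (f ≫ g)) [IsSeparated g]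
    (hd : ∀ U : Y.Opens, Function.Injective (f.app U).hom) : LocImm.IsLocImmersion f := by
  have he := (S18203.result (f ≫ g) hfg).1
  refine LocImmX.isLocImmersion_of_charts f fun x => ?_
  obtain ⟨V, hxV, hV, hU, hφ⟩ := LocImmX.exists_affine_chart (f ≫ g) hfg x
  obtain ⟨_, ⟨W, hW, rfl⟩, hxW, hWV⟩ :=
    Y.isBasis_affineOpens.exists_subset_of_mem_open (show f x ∈ (g ⁻¹ᵁ V : Y.Opens) from hxV)
      (g ⁻¹ᵁ V).isOpen
  -- shrink `V` so that the preimage lands in `W`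
  obtain ⟨O, hO, hOW⟩ := he.isInducing.isOpen_iff.1 (f ⁻¹ᵁ W).isOpen
  have hxO : (f ≫ g) x ∈ O := by
    have : x ∈ (fun z => (f ≫ g) z) ⁻¹' O := hOW.ge hxW
    exact this
  obtain ⟨a, ha, hxa⟩ := hV.exists_basicOpen_le (V := ⟨O, hO⟩) ⟨(f ≫ g) x, hxO⟩ hxV
  let aW := (g.appLE V W hWV).hom a
  have hW' : Y.basicOpen aW = W ⊓ g ⁻¹ᵁ Z.basicOpen a := Scheme.basicOpen_appLE g W V hWV a
  have hpre : f ⁻¹ᵁ Y.basicOpen aW = (f ≫ g) ⁻¹ᵁ Z.basicOpen a := by
    rw [hW']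
    refine le_antisymm (fun z hz => hz.2) fun z hz => ⟨?_, hz⟩
    exact hOW.le (show z ∈ (fun z => (f ≫ g) z) ⁻¹' O from ha hz)
  have haff : IsAffineOpen ((f ≫ g) ⁻¹ᵁ Z.basicOpen a) := by
    rw [Scheme.preimage_basicOpen]; exact hU.basicOpen _
  refine ⟨Y.basicOpen aW, ?_, hW.basicOpen aW, hpre ▸ haff, ?_⟩
  · rw [hW']; exact ⟨hxW, hxa⟩
  letI := ((f ≫ g).app V).hom.toAlgebra
  obtain ⟨M, hM⟩ := hφ
  have hloc : LocImm.IsLocHom ((f ≫ g).app (Z.basicOpen a)).hom := by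
    letI : Algebra Γ(Z, V) Γ(Z, Z.basicOpen a) :=
      (Z.presheaf.map (homOfLE (Z.basicOpen_le a)).op).hom.toAlgebra
    have hle : (f ≫ g) ⁻¹ᵁ Z.basicOpen a ≤ (f ≫ g) ⁻¹ᵁ V := (f ≫ g).preimage_mono (Z.basicOpen_le a)
    letI : Algebra Γ(X, (f ≫ g) ⁻¹ᵁ V) Γ(X, (f ≫ g) ⁻¹ᵁ Z.basicOpen a) :=
      (X.presheaf.map (homOfLE hle).op).hom.toAlgebra
    letI : Algebra Γ(Z, Z.basicOpen a) Γ(X, (f ≫ g) ⁻¹ᵁ Z.basicOpen a) :=
      ((f ≫ g).app (Z.basicOpen a)).hom.toAlgebra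
    letI : Algebra Γ(Z, V) Γ(X, (f ≫ g) ⁻¹ᵁ Z.basicOpen a) :=
      ((f ≫ g).appLE V _ hle).hom.toAlgebra
    haveI : IsScalarTower Γ(Z, V) Γ(X, (f ≫ g) ⁻¹ᵁ V) Γ(X, (f ≫ g) ⁻¹ᵁ Z.basicOpen a) :=
      IsScalarTower.of_algebraMap_eq' (by
        simp only [RingHom.algebraMap_toAlgebra, ← CommRingCat.hom_comp]; rfl)
    haveI : IsScalarTower Γ(Z, V) Γ(Z, Z.basicOpen a) Γ(X, (f ≫ g) ⁻¹ᵁ Z.basicOpen a) :=
      IsScalarTower.of_algebraMap_eq' (by
        simp only [RingHom.algebraMap_toAlgebra, ← CommRingCat.hom_comp,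
          Scheme.Hom.app_eq_appLE, Scheme.Hom.map_appLE])
    haveI : IsLocalization.Away a Γ(Z, Z.basicOpen a) := hV.isLocalization_basicOpen a
    haveI : IsLocalization.Away (algebraMap Γ(Z, V) Γ(X, (f ≫ g) ⁻¹ᵁ V) a)
        Γ(X, (f ≫ g) ⁻¹ᵁ Z.basicOpen a) :=
      hU.isLocalization_of_eq_basicOpen (((f ≫ g).app V).hom a) (homOfLE hle)
        (Scheme.preimage_basicOpen (f ≫ g) a)
    exact LocImmX.isLocHom_away (A := Γ(Z, V)) (B := Γ(X, (f ≫ g) ⁻¹ᵁ V)) M a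
  have hle2 : Y.basicOpen aW ≤ g ⁻¹ᵁ Z.basicOpen a := by rw [hW']; exact inf_le_right
  have key : LocImm.IsLocHom (f.appLE (Y.basicOpen aW) ((f ≫ g) ⁻¹ᵁ Z.basicOpen a) hpre.ge).hom := by
    refine isLocHom_of_injective (g.appLE _ _ hle2).hom _ ?_ ?_
    · rw [Scheme.Hom.appLE, CommRingCat.hom_comp, RingHom.coe_comp]
      refine Function.Injective.comp ?_ (hd _)
      haveI : IsIso (X.presheaf.map (homOfLE hpre.ge).op) := by
        rw [show (homOfLE hpre.ge) = eqToHom hpre.symm from Subsingleton.elim _ _]; infer_instance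
      exact (ConcreteCategory.bijective_of_isIso (X.presheaf.map (homOfLE hpre.ge).op)).1
    · rw [← CommRingCat.hom_comp, Scheme.Hom.appLE_comp_appLE]
      rwa [Scheme.Hom.app_eq_appLE] at hloc
  have fin : ∀ (U' : X.Opens) (e : U' = f ⁻¹ᵁ Y.basicOpen aW),
      LocImm.IsLocHom (f.appLE (Y.basicOpen aW) U' e.le).hom →
        LocImm.IsLocHom (f.app (Y.basicOpen aW)).hom := by
    intro U' e h'
    subst e
    rwa [Scheme.Hom.app_eq_appLE]
  exact fin _ hpre.symm key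

end Groth.Agent.S18195
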