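import Groth.Statements.S18196
import Groth.Agent.LocImmX.Basic

set_option autoImplicit false
universe u
open LocImm

namespace Groth.Agent.S18196

open CategoryTheory AlgebraicGeometry in
/-- Let `f : X ⟶ Y` and `g : Y ⟶ Z` be morphisms of Noetherian schemes with `g` separated and `f ≫ g` a
localizing immersion (localizing and injective on points). If `f` is proper then `f` is a closed
immersion. -/
theorem result {X Y Z : Scheme.{u}} [IsNoetherian X] [IsNoetherian Y] [IsNoetherian Z]
    (f : X ⟶ Y) (g : Y ⟶ Z) (hfg : LocImm.IsLocImmersion (f ≫ g)) [IsSeparated g] [IsProper f] : IsClosedImmersion f := by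
  haveI := LocImmX.isPreimmersion_of_isLocImmersion (f ≫ g) hfg
  haveI : SurjectiveOnStalks f := SurjectiveOnStalks.of_comp f g
  have hinj : Function.Injective f.base := fun a b hab => by
    refine hfg.2 ?_
    show g.base (f.base a) = g.base (f.base b)
    rw [hab]
  have hcm : IsClosedMap f.base := f.isClosedMap
  haveI : IsPreimmersion f :=
    { isEmbedding := (Topology.IsClosedEmbedding.of_continuous_injective_isClosedMap f.continuous hinj hcm).isEmbedding }
  exact IsClosedImmersion.of_isPreimmersion f hcm.isClosed_range

end Groth.Agent.S18196
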