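import Groth.Statements.S1820
import Groth.Agent.KFlatLib.Ring.ShriekPerfect
-- import your own Groth.Agent.* helpers here

set_option autoImplicit false
universe u
open CategoryTheory
attribute [local instance] HasDerivedCategory.standard
open Dual2

namespace Groth.Agent.S1820

/-- For φ flat of finite type (a perfect ring map). Let R → A be a ring map between Noetherian rings
which is flat and of finite type, where φ^!(K) is formed from a presentation ψ : R[x_1, …, x_n] → A
as RHom_P(A, K ⊗^L_R P)[n], assuming the derived base change to P exists and taking for RHom_P(A, −)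
a right adjoint of restriction of scalars along ψ; let W be a complex of A-modules representing
ω_{A/R} = φ^!(R). Assuming the derived base change D(R) → D(A) and the derived tensor product −
⊗^L_A W exist, for every K in D(R) there is an isomorphism φ^!(K) ≅ (K ⊗^L_R A) ⊗^L_A W. -/
theorem result (R A : Type u) [CommRing R] [CommRing A] [IsNoetherianRing R] [IsNoetherianRing A] [Algebra R A] [Module.Flat R A] (n : ℕ) (ψ : MvPolynomial (Fin n) R →ₐ[R] A) (hψ : Function.Surjective ψ) [DRing.HasLBaseChange (algebraMap R (MvPolynomial (Fin n) R))] (Rψ : Dual.D (MvPolynomial (Fin n) R) ⥤ Dual.D A) (adj : DRing.restrictD ψ.toRingHom ⊣ Rψ) (W : DRing.Cx A) (hW : Nonempty (DRing.toD W ≅ Dual2.shriekVia n Rψ (Dual.inD R R))) [DRing.HasLBaseChange (algebraMap R A)] [DRing.HasLTensorCx A W] (K : Dual.D R) : Nonempty (Dual2.shriekVia n Rψ K ≅ (DRing.LTensorCx A W).obj ((DRing.LBaseChange (algebraMap R A)).obj K)) := by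
  let P := MvPolynomial (Fin n) R
  haveI := Groth.Agent.KFlatLib.hasLBase (algebraMap R P)
  haveI := Groth.Agent.KFlatLib.hasLBase (algebraMap R A)
  haveI := Groth.Agent.KFlatLib.hasLTen A
  obtain ⟨e₁⟩ := Groth.Agent.KFlatLib.nonempty_LBaseChange_iso (algebraMap R P)
  obtain ⟨e₂⟩ := Groth.Agent.KFlatLib.nonempty_LBaseChange_iso (algebraMap R A)
  obtain ⟨u⟩ := Groth.Agent.KFlatLib.nonempty_LBase_unit (algebraMap R P)
  obtain ⟨w⟩ := hW
  let u₀ : Dual.inD R R ≅ DTen.unit R :=
    (DerivedCategory.singleFunctorIsoCompQ (ModuleCat R) 0).app (ModuleCat.of R R)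
  obtain ⟨t⟩ := Groth.Agent.KFlatLib.nonempty_shriekVia_iso_ten n ψ.toRingHom hψ (RingHom.ext fun r => ψ.commutes r)
    (algebraMap R P) rfl adj (W := DRing.toD W) (w ≪≫ (shiftFunctor _ (n : ℤ)).mapIso
      (Rψ.mapIso (e₁.app _ ≪≫ (DTen.LBase (algebraMap R P)).mapIso u₀ ≪≫ u))) K
  obtain ⟨b⟩ := Groth.Agent.KFlatLib.nonempty_LTensorCx_obj_iso W ((DRing.LBaseChange (algebraMap R A)).obj K)
  exact ⟨(shiftFunctor _ (n : ℤ)).mapIso (Rψ.mapIso (e₁.app K)) ≪≫ t ≪≫
    (DTen.LTen₂ A).mapIso (Iso.prod (e₂.app K).symm (Iso.refl _)) ≪≫ b.symm⟩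

end Groth.Agent.S1820
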