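import Groth.Statements.S18200
import Groth.Agent.LocImmX.FlatQf
-- import your own Groth.Agent.* helpers here

set_option autoImplicit false
universe u
open LocImm

namespace Groth.Agent.S18200

open CategoryTheory AlgebraicGeometry in
/-- Let `f : X ⟶ Y` be a separated morphism of Noetherian schemes that is essentially quasi-finite:
essentially of finite type with every fibre the spectrum of a finite algebra over the residue field
(equivalently, `f` locally quasi-finite in the fibrewise sense, which carries no finite-type
condition). Then `f` factors as a localizing immersion `i : X ⟶ Z` (localizing and injective on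
points, `Z` Noetherian) followed by a finite morphism `h : Z ⟶ Y`. -/
theorem result {X Y : Scheme.{u}} [IsNoetherian X] [IsNoetherian Y] (f : X ⟶ Y) [IsSeparated f] [EssFT.EssFiniteType f] [LocallyQuasiFinite f] :
    ∃ (Z : Scheme.{u}) (i : X ⟶ Z) (h : Z ⟶ Y), IsNoetherian Z ∧ LocImm.IsLocImmersion i ∧ IsFinite h ∧ i ≫ h = f := by
  exact LocImmX.exists_locImmersion_comp_finite f

end Groth.Agent.S18200
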