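import Groth.Statements.S18202
import Groth.Agent.LocImmX.Basic

set_option autoImplicit false
universe u
open LocImm

namespace Groth.Agent.S18202

open CategoryTheory AlgebraicGeometry Limits in
/-- Let `f : X ⟶ Y` be a localizing immersion (localizing and injective on points) of Noetherian schemes
and `g : Y' ⟶ Y` a morphism with `Y'` Noetherian. Then the base change `X ×_Y Y' ⟶ Y'` is a
localizing immersion. -/
theorem result {X Y Y' : Scheme.{u}} [IsNoetherian X] [IsNoetherian Y] [IsNoetherian Y']
    (f : X ⟶ Y) (g : Y' ⟶ Y) (hf : LocImm.IsLocImmersion f) : LocImm.IsLocImmersion (pullback.snd f g) := by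
  haveI := LocImmX.isPreimmersion_of_isLocImmersion f hf
  exact ⟨LocImmX.isLocalizing_pullback_snd f g hf, (pullback.snd f g).injective⟩

end Groth.Agent.S18202
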