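import Groth.Statements.S18203
import Groth.Agent.H23.RatExtend

set_option autoImplicit false
universe u
open LocImm

namespace Groth.Agent.S18203

open CategoryTheory AlgebraicGeometry in
/-- Let `f : X ⟶ Y` be a localizing immersion (localizing and injective on points) of Noetherian
schemes. Then `f` is a topological embedding, its image is stable under generization, and every
stalk map `O_{Y, f x} → O_{X, x}` is an isomorphism; thus `f` identifies `X` with the subspace
`f(X)` equipped with the restriction of `O_Y`. -/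
theorem result {X Y : Scheme.{u}} [IsNoetherian X] [IsNoetherian Y]
    (f : X ⟶ Y) (hf : LocImm.IsLocImmersion f) :
    Topology.IsEmbedding (fun x => f x) ∧ StableUnderGeneralization (Set.range (fun x => f x)) ∧ ∀ x : X, IsIso (f.stalkMap x) := by
  obtain ⟨hloc, hinj⟩ := hf
  have hchart : ∀ x : X, ∃ (R : CommRingCat.{u}) (i : Spec R ⟶ X), IsOpenImmersion i ∧ x ∈ Set.range i ∧
      IsPreimmersion (i ≫ f) ∧ Flat (i ≫ f) ∧ StableUnderGeneralization (Set.range (i ≫ f)) := by
    intro x
    obtain ⟨U, V, hxV, e, hφ⟩ := hloc x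
    letI := (f.appLE U V e).hom.toAlgebra
    obtain ⟨M, hM⟩ := hφ
    have h1 : IsPreimmersion (Spec.map (f.appLE U V e)) := IsPreimmersion.of_isLocalization (R := Γ(Y, U.1)) (S := Γ(X, V.1)) M
    have h2 : Flat (Spec.map (f.appLE U V e)) :=
      (HasRingHomProperty.Spec_iff (P := @Flat)).2 (IsLocalization.flat (Γ(X, V.1)) M)
    have e1 := U.2.SpecMap_appLE_fromSpec f V.2 e
    refine ⟨Γ(X, V.1), V.2.fromSpec, inferInstance, by rw [V.2.range_fromSpec]; exact hxV, ?_, ?_, ?_⟩
    · rw [← e1]; infer_instance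
    · rw [← e1]; infer_instance
    · rw [← e1]
      rintro a b hab ⟨q, rfl⟩
      rw [Scheme.Hom.comp_apply] at hab
      obtain ⟨p, rfl⟩ : b ∈ Set.range U.2.fromSpec :=
        U.2.fromSpec.isOpenEmbedding.isOpen_range.stableUnderGeneralization hab ⟨_, rfl⟩
      have hp : p ⤳ Spec.map (f.appLE U V e) q :=
        U.2.fromSpec.isOpenEmbedding.isEmbedding.isInducing.specializes_iff.1 hab
      have hle := (PrimeSpectrum.le_iff_specializes _ _).2 hp
      have hd : p ∈ Set.range (PrimeSpectrum.comap (algebraMap Γ(Y, U.1) Γ(X, V.1))) := by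
        rw [PrimeSpectrum.localization_comap_range Γ(X, V.1) M]
        have hq : PrimeSpectrum.comap (algebraMap Γ(Y, U.1) Γ(X, V.1)) q ∈ Set.range (PrimeSpectrum.comap (algebraMap Γ(Y, U.1) Γ(X, V.1))) := ⟨q, rfl⟩
        rw [PrimeSpectrum.localization_comap_range Γ(X, V.1) M] at hq
        exact (show Disjoint (M : Set Γ(Y, U.1)) _ from hq).mono_right hle
      obtain ⟨q', hq'⟩ := hd
      exact ⟨q', by rw [Scheme.Hom.comp_apply]; exact congrArg U.2.fromSpec hq'⟩
  have hgen : ∀ (x : X) (y : Y), y ⤳ f x → ∃ x', f x' = y ∧ x' ⤳ x := by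
    intro x y hy
    obtain ⟨R, i, hi, ⟨q, rfl⟩, hpre, -, hst⟩ := hchart x
    obtain ⟨q', hq'⟩ := hst hy ⟨q, Scheme.Hom.comp_apply i f q⟩
    refine ⟨i q', (Scheme.Hom.comp_apply i f q').symm.trans hq', ?_⟩
    refine (Topology.IsInducing.specializes_iff (i ≫ f).isEmbedding.isInducing).1 ?_ |>.map i.continuous
    rw [hq', Scheme.Hom.comp_apply]; exact hy
  refine ⟨⟨⟨?_⟩, hinj⟩, ?_, fun x => ?_⟩
  · refine TopologicalSpace.ext_iff_isClosed.2 fun C => ⟨fun hC => ?_, fun hC => ?_⟩
    · rw [isClosed_induced_iff]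
      refine ⟨closure (f '' C), isClosed_closure, Set.Subset.antisymm (fun z hz => ?_) fun z hz =>
        subset_closure ⟨z, hz, rfl⟩⟩
      obtain ⟨S, hSf, hSc, hS, hCeq⟩ := TopologicalSpace.NoetherianSpace.exists_finite_set_isClosed_irreducible hC
      rw [Set.sUnion_eq_biUnion] at hCeq
      simp only [Set.mem_preimage, hCeq, Set.image_iUnion, hSf.closure_biUnion, Set.mem_iUnion] at hz
      obtain ⟨T, hT, hzT⟩ := hz
      have hirr : IsIrreducible T := hS T hT
      have hgp : f '' T ⊆ closure {f hirr.genericPoint} := by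
        rintro _ ⟨t, ht, rfl⟩
        refine specializes_iff_mem_closure.1 (Specializes.map ?_ f.continuous)
        rw [specializes_iff_mem_closure, hirr.isGenericPoint_genericPoint_closure]
        exact subset_closure ht
      have h2 : f hirr.genericPoint ⤳ f z :=
        specializes_iff_mem_closure.2 (closure_minimal hgp isClosed_closure hzT)
      obtain ⟨x', hx', hx'z⟩ := hgen z _ h2
      obtain rfl := hinj hx'
      have hmem : hirr.genericPoint ∈ T := by
        have h3 := hirr.isGenericPoint_genericPoint (hSc T hT)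
        exact h3.mem
      rw [hCeq]
      exact Set.mem_biUnion hT (hx'z.mem_closed (hSc T hT) hmem)
    · obtain ⟨D, hD, rfl⟩ := isClosed_induced_iff.1 hC
      exact hD.preimage f.continuous
  · rintro a b hab ⟨x, rfl⟩
    obtain ⟨x', hx', -⟩ := hgen x b hab
    exact ⟨x', hx'⟩
  · obtain ⟨R, i, hi, ⟨q, rfl⟩, hpre, hflat, -⟩ := hchart x
    have h0 := Groth.Agent.H23.RatExtend.isIso_stalkMap (i ≫ f) q
    rw [Scheme.Hom.stalkMap_comp] at h0
    haveI := h0
    exact @IsIso.of_isIso_comp_right _ _ _ _ _ (f.stalkMap (i q)) (i.stalkMap q) inferInstance h0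

end Groth.Agent.S18203
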