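import Groth.Statements.S18206
import Groth.Agent.LocImmX.Basic

set_option autoImplicit false
universe u
open LocImm

namespace Groth.Agent.S18206

open CategoryTheory AlgebraicGeometry in
/-- Let `f : X ⟶ Y` be a localizing immersion (localizing and injective on points) of Noetherian
schemes. Then every quasi-coherent ideal sheaf `I` on `X` is the inverse image ideal `J·O_X` of some
quasi-coherent ideal sheaf `J` on `Y` (all such ideals are coherent, the schemes being Noetherian). -/
theorem result {X Y : Scheme.{u}} [IsNoetherian X] [IsNoetherian Y]
    (f : X ⟶ Y) (hf : LocImm.IsLocImmersion f) (I : X.IdealSheafData) : ∃ J : Y.IdealSheafData, J.comap f = I := by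
  exact ⟨I.map f, LocImmX.exists_comap_eq f hf I⟩

end Groth.Agent.S18206
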