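import Groth.Statements.S1821
import Groth.Agent.KFlatLib.Ring.RelDualizingCompGeneral
import Groth.Agent.KFlatLib.Ring.LTensorCxBridge
-- import your own Groth.Agent.* helpers here

set_option autoImplicit false
universe u
open CategoryTheory
open scoped TensorProduct
attribute [local instance] HasDerivedCategory.standard
open Dual2

namespace Groth.Agent.S1821

/-- Let R → A and A → B be flat ring maps of finite presentation, K a relative dualizing complex for R →
A and L a complex of B-modules whose class is a relative dualizing complex for A → B (relative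
dualizing in the sense: R-perfect with RHom_{S⊗S}(S, − ⊗^L (S ⊗ S)) ≅ S, the base change and RHom
functors being the assumed ones). Assuming the derived base change D(A) → D(B) and − ⊗^L_B L exist,
(K ⊗^L_A B) ⊗^L_B L is a relative dualizing complex for R → B. -/
theorem result (R A B : Type u) [CommRing R] [CommRing A] [CommRing B] [Algebra R A] [Algebra A B] [Algebra R B] [IsScalarTower R A B] [Module.Flat R A] [Algebra.FinitePresentation R A] [Module.Flat A B] [Algebra.FinitePresentation A B] [DRing.HasLBaseChange (Algebra.TensorProduct.includeLeftRingHom : A →+* TensorProduct R A A)] (RμA : Dual.D (TensorProduct R A A) ⥤ Dual.D A) (adjA : DRing.restrictD (Algebra.TensorProduct.lmul' R (S := A)).toRingHom ⊣ RμA) [DRing.HasLBaseChange (Algebra.TensorProduct.includeLeftRingHom : B →+* TensorProduct A B B)] (RμBA : Dual.D (TensorProduct A B B) ⥤ Dual.D B) (adjBA : DRing.restrictD (Algebra.TensorProduct.lmul' A (S := B)).toRingHom ⊣ RμBA) [DRing.HasLBaseChange (Algebra.TensorProduct.includeLeftRingHom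 : B →+* TensorProduct R B B)] (RμB : Dual.D (TensorProduct R B B) ⥤ Dual.D B) (adjB : DRing.restrictD (Algebra.TensorProduct.lmul' R (S := B)).toRingHom ⊣ RμB) (K : Dual.D A) (hK : Dual2.IsRelDualizing R A RμA K) (L : DRing.Cx B) (hL : Dual2.IsRelDualizing A B RμBA (DRing.toD L)) [DRing.HasLBaseChange (algebraMap A B)] [DRing.HasLTensorCx B L] : Dual2.IsRelDualizing R B RμB ((DRing.LTensorCx B L).obj ((DRing.LBaseChange (algebraMap A B)).obj K)) := by
  haveI : Algebra.FinitePresentation R B := Algebra.FinitePresentation.trans R A B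
  haveI : Module.Flat R B := Module.Flat.trans R A B
  obtain ⟨n, ψ₀, hψ, -⟩ := Algebra.FinitePresentation.out (R := R) (A := A)
  obtain ⟨m, χ₀, hχ, -⟩ := Algebra.FinitePresentation.out (R := A) (A := B)
  let ψ := ψ₀.toRingHom
  let χ := χ₀.toRingHom
  have hR : ψ.comp MvPolynomial.C = algebraMap R A := RingHom.ext fun r => ψ₀.commutes r
  have hA : χ.comp MvPolynomial.C = algebraMap A B := RingHom.ext fun r => χ₀.commutes r
  obtain ⟨Rψ, ⟨a⟩⟩ := Groth.Agent.KFlatLib.exists_shriek ψ
  obtain ⟨Rχ, ⟨a₂⟩⟩ := Groth.Agent.KFlatLib.exists_shriek χ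
  haveI := Groth.Agent.KFlatLib.hasLTen B
  haveI := Groth.Agent.KFlatLib.hasLBase (MvPolynomial.C : A →+* MvPolynomial (Fin m) A)
  haveI := Groth.Agent.KFlatLib.hasLBase (algebraMap A B)
  obtain ⟨eK⟩ := Groth.Agent.KFlatLib.nonempty_iso_shriek_unit ψ hψ hR a RμA adjA hK
  obtain ⟨eL⟩ := Groth.Agent.KFlatLib.nonempty_iso_shriek_unit χ hχ hA a₂ RμBA adjBA hL
  obtain ⟨θ, Rθ, hθ, hθC, ⟨a₃⟩, ⟨c⟩⟩ :=
    Groth.Agent.KFlatLib.exists_shriek_unit_comp ψ hψ hR a χ hχ a₂
  have hθR : θ.comp MvPolynomial.C = algebraMap R B := by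
    rw [hθC, hA, IsScalarTower.algebraMap_eq R A B]
  obtain ⟨t⟩ := Groth.Agent.KFlatLib.nonempty_shriekVia_iso_ten' χ hχ hA MvPolynomial.C rfl a₂
    (Rψ.obj ((CategoryTheory.shiftFunctor _ (n : ℤ)).obj (DTen.unit (MvPolynomial (Fin n) R))))
  obtain ⟨eB⟩ := Groth.Agent.KFlatLib.nonempty_LBaseChange_iso (algebraMap A B)
  obtain ⟨b⟩ := Groth.Agent.KFlatLib.nonempty_LTensorCx_obj_iso L ((DRing.LBaseChange (algebraMap A B)).obj K)
  exact Groth.Agent.KFlatLib.isRelDualizing_of_iso RμB (c ≪≫ t ≪≫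
    (DTen.LTen₂ B).mapIso (CategoryTheory.Iso.prod ((DTen.LBase _).mapIso eK.symm ≪≫ (eB.app K).symm) eL.symm) ≪≫ b.symm)
    (Groth.Agent.KFlatLib.isRelDualizing_shriek_unit' θ hθ hθR a₃ RμB adjB)

end Groth.Agent.S1821
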