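import Groth.Statements.S18227
import Groth.Agent.GrLib8.LinSyz.Resolution

set_option autoImplicit false
universe u
open GrSyz

namespace Groth.Agent.S18227

/-- Let k be an algebraically closed field, S = k[x_0, …, x_r] with its standard grading, 𝔪 = (x_0, …,
x_r) so that k = S/𝔪, and R a finitely generated ℤ-graded S-module. Put T^0(R) = R, T^1(R) =
Ker[R(−1) ⊗_k S_1 → R] (the kernel of (m_v) ↦ Σ_v x_v m_v on R(−1)^{r+1}) and T^i(R) =
T^{i−1}(T^1(R)); concretely T^i(R) is the module of R-valued functions m on words c of length i in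
the indices 0, …, r such that Σ_v x_v m(c with the letter in slot s replaced by v) = 0 for every
slot s and every word c, an element being homogeneous of degree j when all its values lie in
R_{j−i}; let d_i(R) be the least d such that T^i(R) is generated over S by elements of degree ≤ d.
Let p ≥ 0 and j an integer with j > p − i + d_i(R) for all 0 ≤ i ≤ p, that is: for every i ≤ p,
T^i(R) is generated over S by its homogeneous elements of degree ≤ j − p + i − 1. Then Tor_p^S(R,
k)_j = 0: every graded free resolution of R by finite-rank free modules with homogeneous bases which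
is minimal (all matrix entries in 𝔪) has no basis vector of degree j in its p-th term. -/
theorem result (k : Type u) [Field k] [IsAlgClosed k] (r : ℕ)
    (R : Type u) [AddCommGroup R] [Module k R] [Module (MvPolynomial (Fin (r + 1)) k) R]
    [IsScalarTower k (MvPolynomial (Fin (r + 1)) k) R] [Module.Finite (MvPolynomial (Fin (r + 1)) k) R]
    (ℛ : ℤ → Submodule k R) [DirectSum.Decomposition ℛ] [SetLike.GradedSMul (GrSyz.stdGr k (Fin (r + 1))) ℛ]
    (p : ℕ) (j : ℤ)
    (hgen : ∀ i : ℕ, i ≤ p → ∀ m : (Fin i → Fin (r + 1)) → R, (∀ (s : Fin i) (c : Fin i → Fin (r + 1)), ∑ v : Fin (r + 1), (MvPolynomial.X v : MvPolynomial (Fin (r + 1)) k) • m (Function.update c s v) = 0) →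
      m ∈ Submodule.span (MvPolynomial (Fin (r + 1)) k) {m' : (Fin i → Fin (r + 1)) → R |
        (∀ (s : Fin i) (c : Fin i → Fin (r + 1)), ∑ v : Fin (r + 1), (MvPolynomial.X v : MvPolynomial (Fin (r + 1)) k) • m' (Function.update c s v) = 0) ∧ ∃ e : ℤ, e ≤ j - (p : ℤ) + (i : ℤ) - 1 ∧ ∀ c : Fin i → Fin (r + 1), m' c ∈ ℛ (e - (i : ℤ))})
    (F : GrSyz.FreeRes (GrSyz.stdGr k (Fin (r + 1))) ℛ)
    (hF : F.IsMinimal (GrSyz.irrel (GrSyz.stdGr k (Fin (r + 1)))).toIdeal) :
    F.betti p j = 0 := by
  refine GrLib8.LinSyz.betti_eq_zero F hF fun i hi m hm => ?_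
  refine Submodule.span_mono ?_ (hgen i hi m (GrLib8.LinSyz.mem_TT.1 hm))
  rintro m' ⟨h1, e, he, h2⟩
  exact ⟨GrLib8.LinSyz.mem_TT.2 h1, e - i, by omega, h2⟩

end Groth.Agent.S18227
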