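import Groth.Statements.S18229
import Groth.Agent.AGFLib.Rosen.Reduce
import Groth.Agent.Lib.AVAmple
import Groth.Agent.Lib.AVDual
import Groth.Agent.Lib.AVSeesaw
import Groth.Agent.AGFLib.BorelFixed
import Groth.Agent.AGFLib.BorelExist
import Groth.Agent.S12003
import Groth.Agent.S12013

set_option autoImplicit false
set_option backward.isDefEq.respectTransparency false
set_option backward.isDefEq.respectTransparency.types false
set_option linter.style.haveILetI false
set_option linter.unusedSectionVars false
set_option maxHeartbeats 400000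
universe u
open CategoryTheory CategoryTheory.Limits MonoidalCategory CartesianMonoidalCategory MonObj GrpObj AlgebraicGeometry
open AbVar

namespace Groth.Agent.S18229


set_option backward.isDefEq.respectTransparency false
set_option backward.isDefEq.respectTransparency.types false
set_option linter.style.haveILetI false
set_option linter.unusedSectionVars false
set_option maxHeartbeats 1000000
open CategoryTheory.Limits TopologicalSpace Groth.Agent Groth.Agent.H23 Groth.Agent.H23.TrivBasic Groth.Agent.InvX
open Groth.Agent.AVPair Groth.Agent.AVCube Groth.Agent.AVAmple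
open scoped Groth.Agent.H23.PicMul

variable {k : Type u} [Field k] [IsAlgClosed k] {A : Over (Spec (CommRingCat.of k))} [GrpObj A] [IsProper A.hom]
  [GeometricallyIntegral A.hom] {L : A.left.Modules}

/-- An effective translation invariant class is trivial. -/
theorem triv_of_effective_invariant (hL : PicF.IsInvertible L) {s : Γ(L, ⊤)} (hs : s ≠ 0)
    (h : ∀ a : 𝟙_ (Over (Spec (CommRingCat.of k))) ⟶ A, pc hL (tr a) = pc hL (𝟙 A)) : Triv L := by
  haveI : IsIntegral A.left := GeometricallyIntegral.isIntegral_of_subsingleton A.hom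
  let iv : A ⟶ A := (𝟙 A)⁻¹
  have e1 : pc hL (𝟙 A) * pc hL iv = 1 := by
    rw [← add_of_invariant hL h, mul_inv_cancel, pc_one]
  have e2 := congrArg Units.val e1
  rw [Units.val_mul, Units.val_one, val_pc_id, val_pc, ← PicMul.cl_tensor] at e2
  let L' := (Scheme.Modules.pullback iv.left).obj L
  have hL' : PicF.IsInvertible L' := PicClLib.isInvertible_pullback _ hL
  have hM : Triv (CohB1.tensorMod L L') := (PicGrp.cl_eq_cl_iff _ _).1 e2
  let t := InvX.one (mulHom (M := L) (N := L') (ofSect s) (ofSect (pullElt iv.left s)))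
  have ht : locus t = locus s ⊓ iv.left ⁻¹ᵁ locus s := by
    show CohB1.genLocus _ (ofSect t) = _
    rw [ofSect_one, genLocus_mulHom hL hL']
    congr 1
    exact locus_pullElt hL iv.left s
  haveI : IsIso iv := ⟨iv, by simp only [iv]; rw [GrpObj.comp_inv, Category.comp_id, _root_.inv_inv],
    by simp only [iv]; rw [GrpObj.comp_inv, Category.comp_id, _root_.inv_inv]⟩
  haveI : IsIso iv.left := inferInstanceAs (IsIso ((Over.forget _).map _))
  obtain ⟨x, hx⟩ : ((locus s : Set A.left) ∩ iv.left ⁻¹' locus s).Nonempty := by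
    refine nonempty_preirreducible_inter (locus s).isOpen ((locus s).isOpen.preimage iv.left.continuous) ?_ ?_
    · exact (Opens.ne_bot_iff_nonempty _).1 (locus_ne_bot hL hs)
    · obtain ⟨z, hz⟩ := (Opens.ne_bot_iff_nonempty _).1 (locus_ne_bot hL hs)
      obtain ⟨w, hw⟩ := iv.left.surjective z
      exact ⟨w, show iv.left w ∈ (locus s : Set A.left) from hw.symm ▸ hz⟩
  have hxt : x ∈ locus t := by
    rw [ht]; exact hx
  refine triv_of_frame (locus_eq_top_iff.1 (top_le_iff.1 fun y _ => ?_) : IsFrame s)
  have hy := mem_locus_of_triv A.hom (𝟙 A.left) (PicMul.isInvertible_tensor hL hL') (triv_id_iff.2 hM) t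
    (c := x) hxt y
  rw [ht] at hy
  exact hy.1

/-- Let k be an algebraically closed field (any characteristic) and X a simple abelian variety over k: a
proper smooth k-group scheme with geometrically connected fibres whose only geometrically integral
closed k-subgroup schemes are the trivial subgroup and X itself. Let G be an invertible O_X-module
which is effective and non-trivial: H^0(X, G) ≠ 0 and G is not isomorphic to O_X. Then G is ample.
(In other words, when the abelian variety is simple, any line bundle that is effective and not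
trivial must be ample.) -/
theorem result (k : Type u) [Field k] [IsAlgClosed k]
    (X : Over (Spec (CommRingCat.of k))) [GrpObj X] [IsProper X.hom] [Smooth X.hom] [GeometricallyConnected X.hom]
    (hsimple : ∀ (B : Over (Spec (CommRingCat.of k))) [GrpObj B] [GeometricallyIntegral B.hom] (i : B ⟶ X) [IsMonHom i]
      [IsClosedImmersion i.left], Subsingleton ↥B.left ∨ IsIso i)
    (G : X.left.Modules) (hG : PicF.IsInvertible G)
    (hsec : Nontrivial (Coh.HH X.left G 0)) (hne : ¬ Nonempty (G ≅ Coh.structureModule X.left)) :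
    CohB1.IsAmple G := by
  haveI := AVDual.geometricallyIntegral_of_smooth X
  haveI : IsIntegral X.left := GeometricallyIntegral.isIntegral_of_subsingleton X.hom
  obtain ⟨z, hz⟩ := exists_ne (0 : Coh.HH X.left G 0)
  let sec : Γ(G, ⊤) := CategoryTheory.Sheaf.H.equiv₀ (Coh.toAb G) Limits.isTerminalTop z
  have hsec0 : sec ≠ 0 := fun h => hz ((CategoryTheory.Sheaf.H.equiv₀ (Coh.toAb G) Limits.isTerminalTop).injective
    (h.trans (map_zero _).symm))
  let s := InvX.ofSect sec
  have hs : s ≠ 0 := fun h => hsec0 (by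
    have := congrArg InvX.one h
    rw [InvX.one_ofSect] at this
    exact this.trans rfl)
  obtain ⟨Z, hZc, hZ⟩ := S12013.result k X G hG s hs
  have hZ' : ∀ a : 𝟙_ (Over (Spec (CommRingCat.of k))) ⟶ X, AGFLib.Gen.cp a ∈ Z ↔ pc hG (AVAmple.tr a) = pc hG (𝟙 X) := by
    intro a
    rw [hZ, Units.ext_iff, val_pc, val_pc_id]
    exact (PicGrp.cl_eq_cl_iff _ _).symm
  refine S12003.result k X G hG s hs ?_
  have hpl : ∀ a b : 𝟙_ (Over (Spec (CommRingCat.of k))) ⟶ X, pc hG (AVAmple.tr b) = pc hG (𝟙 X) →
      pc hG (AVAmple.tr (a * b)) = pc hG (AVAmple.tr a) := by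
    intro a b hb
    have := congrArg (Units.map (PicMul.pullHom (AVAmple.tr a).left : PicF.Cl X.left →* PicF.Cl X.left)) hb
    rwa [pull_pc, pull_pc, AVAmple.tr_tr, Category.comp_id] at this
  obtain ⟨D, _, i, hi, hic, hDs, hDr, hDq, hrange⟩ := AGFLib.BorelFixed.exists_subgroup Z hZc
    ((hZ' 1).2 (by rw [AVAmple.tr_one]))
    (fun a b ha hb => (hZ' _).2 ((hpl a b ((hZ' b).1 hb)).trans ((hZ' a).1 ha)))
    (fun a ha => (hZ' _).2 (by
      have := hpl a⁻¹ a ((hZ' a).1 ha)
      rw [inv_mul_cancel, AVAmple.tr_one] at this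
      exact this.symm))
  haveI := hi; haveI := hic; haveI := hDs; haveI := hDq
  haveI : IsProper D.hom := by rw [← Over.w i]; infer_instance
  obtain ⟨C, _, e, he, hec, hCs, hCc, hCq, S, hS, hcov⟩ := AGFLib.BorelExist.exists_idComp (P := D)
  haveI := he; haveI := hec; haveI := hCs; haveI := hCc; haveI := hCq
  haveI : IsProper C.hom := by rw [← Over.w e]; infer_instance
  haveI : IsReduced C.left := GrpSchLib.isReduced_of_smooth_field C.hom
  haveI : IrreducibleSpace C.left := AGFLib.Rosen.irreducibleSpace_of_connected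
  haveI : IsIntegral C.left := isIntegral_of_irreducibleSpace_of_isReduced C.left
  haveI : GeometricallyIntegral C.hom := H23.EquidimFibres.geometricallyIntegral_of_isAlgClosed
  haveI : IsClosedImmersion (e ≫ i).left := inferInstanceAs (IsClosedImmersion (e.left ≫ i.left))
  rcases hsimple C (e ≫ i) with hsub | hiso
  · haveI := hsub
    have hfin : (Set.range i.left).Finite → ({a : 𝟙_ (Over (Spec (CommRingCat.of k))) ⟶ X |
        AGFLib.Gen.cp a ∈ Z}).Finite := fun hf => by
      refine Set.Finite.of_finite_image (f := fun a : 𝟙_ (Over (Spec (CommRingCat.of k))) ⟶ X => AGFLib.Gen.cp a)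
        ((hrange ▸ hf).subset (by rintro _ ⟨a, ha, rfl⟩; exact ha)) ?_
      intro a _ b _ hab
      exact Over.OverMorphism.ext (ext_of_apply_closedPoint_eq X.hom (Over.w a) (Over.w b) hab)
    refine (?_ : ({a : 𝟙_ (Over (Spec (CommRingCat.of k))) ⟶ X | AGFLib.Gen.cp a ∈ Z}).Finite).subset
      (fun a ha => (hZ a).2 ha)
    have hq : ∀ q : 𝟙_ (Over (Spec (CommRingCat.of k))) ⟶ C, q = 1 := fun q =>
      Over.OverMorphism.ext (ext_of_apply_closedPoint_eq C.hom (Over.w q) (Over.w _) (Subsingleton.elim _ _))
    refine (hS.image fun d => d ≫ i).subset fun a ha => ?_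
    obtain ⟨d, hd⟩ : AGFLib.Gen.cp a ∈ Set.range i.left := hrange.ge ha
    haveI : JacobsonSpace D.left := LocallyOfFiniteType.jacobsonSpace D.hom
    have hdc : IsClosed ({d} : Set D.left) := by
      have : ({d} : Set D.left) = i.left ⁻¹' {AGFLib.Gen.cp a} := by
        ext y
        simp only [Set.mem_singleton_iff, Set.mem_preimage, ← hd]
        exact i.left.isClosedEmbedding.injective.eq_iff.symm
      rw [this]
      exact (AVAmple.isClosed_pt a).preimage i.left.continuous
    obtain ⟨⟨p, hp⟩, hp'⟩ := (pointEquivClosedPoint D.hom).surjective ⟨d, hdc⟩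
    let pd : 𝟙_ (Over (Spec (CommRingCat.of k))) ⟶ D := Over.homMk p hp
    obtain ⟨t, ht, q, hqt⟩ := hcov pd
    refine ⟨t, ht, ?_⟩
    rw [hq q, MonObj.one_comp, _root_.mul_one] at hqt
    subst hqt
    refine Over.OverMorphism.ext (ext_of_apply_closedPoint_eq X.hom (Over.w _) (Over.w a) ?_)
    rw [Over.comp_left, Scheme.Hom.comp_apply]
    exact (congrArg i.left (congrArg Subtype.val hp' :)).trans hd
  · exfalso
    refine hne (triv_of_effective_invariant hG hsec0 fun a => (hZ' a).1 ?_)
    rw [← hrange]
    haveI := hiso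
    haveI : IsIso (e ≫ i).left := inferInstanceAs (IsIso ((Over.forget _).map (e ≫ i)))
    obtain ⟨y, hy⟩ := (e ≫ i).left.surjective (AGFLib.Gen.cp a)
    exact ⟨e.left y, (Scheme.Hom.comp_apply _ _ _).symm.trans hy⟩

end Groth.Agent.S18229
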