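import Groth.Statements.S18233
import Groth.Agent.H28.AttrLfp
import Groth.Agent.S18231
-- import your own Groth.Agent.* helpers here

set_option autoImplicit false
universe u
open CategoryTheory MonoidalCategory CartesianMonoidalCategory AlgebraicGeometry Opposite
open Magnet

namespace Groth.Agent.S18233

/-- Let S be a scheme, M a finitely generated abelian group, N a submonoid of M, X and Y schemes over S
with actions of the diagonalizable group scheme D(M)_S, and f : X → Y a smooth equivariant
S-morphism. If the attractors X^N and Y^N are represented by S-schemes Z_X and Z_Y, and j : Z_X →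
Z_Y is the S-morphism that corresponds to f^N : X^N → Y^N under the two representing bijections,
then j is smooth. (Stated for schemes; the published statement is for algebraic spaces over S and
representability by algebraic spaces.) -/
theorem result (S : Scheme.{u}) (M : Type) [AddCommGroup M] [AddGroup.FG M]
    (N : AddSubmonoid M) {X Y : Over S} (aX : Magnet.MonAct (Magnet.AMonS S M) X)
    (aY : Magnet.MonAct (Magnet.AMonS S M) Y) (f : X ⟶ Y) (hf : Magnet.MonAct.IsEquivariant aX aY f)
    [Smooth f.left] {ZX ZY : Over S} (eX : (Magnet.attr aX N).RepresentableBy ZX) (eY : (Magnet.attr aY N).RepresentableBy ZY)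
    (j : ZX ⟶ ZY) (hj : ∀ (T : Over S) (z : T ⟶ ZX),
      eY.homEquiv (z ≫ j) = (Magnet.MonAct.eqvHom.postcomp (Magnet.subAct S M N) f hf).app (op T) (eX.homEquiv z)) :
    Smooth j.left := by
  have hpt : ∀ (T : Over S) (z : T ⟶ ZX), (eY.homEquiv (z ≫ j)).1 = (eX.homEquiv z).1 ≫ f :=
    fun T z => congrArg Subtype.val (hj T z)
  haveI : LocallyOfFinitePresentation j.left := by
    refine H28.AttrLfp.lfp_of_surj j fun I _ _ D c hc hD _ z i y hzy => ?_
    obtain ⟨k, φ, x', h₁, h₂⟩ := H28.AttrLfp.exists_attr_stage f hD hc hf (eX.homEquiv z) (eY.homEquiv y) (by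
      rw [← hpt, hzy, eY.homEquiv_comp]
      rfl)
    refine ⟨k, φ, eX.homEquiv.symm x', eX.homEquiv.injective (Subtype.ext ?_), eY.homEquiv.injective (Subtype.ext ?_)⟩
    · rw [eX.homEquiv_comp, Equiv.apply_symm_apply]
      exact h₁
    · rw [hpt, Equiv.apply_symm_apply, eY.homEquiv_comp]
      exact h₂
  refine (Groth.Agent.S1488.result j.left).mpr ⟨inferInstance, ?_⟩
  intro A _ I hI a b w
  let str := b ≫ ZY.hom
  let T0 : Over S := Over.mk (Spec.map (CommRingCat.ofHom (Ideal.Quotient.mk I)) ≫ str)
  let T1 : Over S := Over.mk str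
  let ι : T0 ⟶ T1 := Over.homMk (Spec.map (CommRingCat.ofHom (Ideal.Quotient.mk I))) rfl
  let za : T0 ⟶ ZX := Over.homMk a (by
    show a ≫ ZX.hom = _ ≫ b ≫ ZY.hom
    rw [← Over.w j, reassoc_of% w])
  let zb : T1 ⟶ ZY := Over.homMk b rfl
  have hab : za ≫ j = ι ≫ zb := Over.OverMorphism.ext w.symm
  obtain ⟨l, hl₁, hl₂⟩ := S18231.result S M N aX aY f hf A I hI str (eX.homEquiv za) (eY.homEquiv zb) (by
    apply Subtype.ext
    show (eX.homEquiv za).1 ≫ f = _
    rw [← hpt, hab, eY.homEquiv_comp])
  let zl : T1 ⟶ ZX := eX.homEquiv.symm l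
  have h₁ : ι ≫ zl = za := eX.homEquiv.injective (by rw [eX.homEquiv_comp, Equiv.apply_symm_apply]; exact hl₁)
  have h₂ : zl ≫ j = zb := eY.homEquiv.injective (by rw [hj, Equiv.apply_symm_apply]; exact hl₂)
  exact ⟨zl.left, congrArg Over.Hom.left h₁, congrArg Over.Hom.left h₂⟩

end Groth.Agent.S18233
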