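import Groth.Statements.S18234
import Groth.Agent.H23.EqvUnr
-- import your own Groth.Agent.* helpers here

set_option autoImplicit false
universe u
open CategoryTheory MonoidalCategory CartesianMonoidalCategory AlgebraicGeometry Opposite
open Magnet

namespace Groth.Agent.S18234

/-- Let S be a scheme, M a finitely generated abelian group, N a submonoid of M, X and Y schemes over S
with actions of the diagonalizable group scheme D(M)_S, and f : X → Y a formally unramified
equivariant S-morphism. If the attractors X^N and Y^N are represented by S-schemes Z_X and Z_Y, and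
j : Z_X → Z_Y is the S-morphism that corresponds to f^N under the two representing bijections, then
j is formally unramified. (Stated for schemes; the published statement is for algebraic spaces over
S.) -/
theorem result (S : Scheme.{u}) (M : Type) [AddCommGroup M]
    [AddGroup.FG M] (N : AddSubmonoid M) {X Y : Over S} (aX : Magnet.MonAct (Magnet.AMonS S M) X)
    (aY : Magnet.MonAct (Magnet.AMonS S M) Y) (f : X ⟶ Y) (hf : Magnet.MonAct.IsEquivariant aX aY f)
    [FormallyUnramified f.left] {ZX ZY : Over S} (eX : (Magnet.attr aX N).RepresentableBy ZX) (eY : (Magnet.attr aY N).RepresentableBy ZY)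
    (j : ZX ⟶ ZY) (hj : ∀ (T : Over S) (z : T ⟶ ZX),
      eY.homEquiv (z ≫ j) = (Magnet.MonAct.eqvHom.postcomp (Magnet.subAct S M N) f hf).app (op T) (eX.homEquiv z)) :
    FormallyUnramified j.left := by
  refine FormallyUnramified.of_hom_ext j.left fun R R₀ φ hφ hker g₁ g₂ hi hf => ?_
  let str := g₁ ≫ ZX.hom
  have hstr : g₂ ≫ ZX.hom = str := by
    simp only [str]
    rw [← Over.w j, ← Category.assoc, ← Category.assoc, hf]
  let z₁ : Over.mk str ⟶ ZX := Over.homMk g₁ rfl
  let z₂ : Over.mk str ⟶ ZX := Over.homMk g₂ hstr
  let t : Over.mk (Spec.map φ ≫ str) ⟶ Over.mk str := Over.homMk (Spec.map φ) rfl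
  suffices h : z₁ = z₂ from congrArg CommaMorphism.left h
  apply eX.homEquiv.injective
  refine Subtype.ext (Groth.Agent.H23.EqvUnr.ext_whiskerLeft φ hφ hker str f ?_ ?_)
  · have h : t ≫ z₁ = t ≫ z₂ := Over.OverMorphism.ext hi
    have h' := congrArg eX.homEquiv h
    rw [eX.homEquiv_comp, eX.homEquiv_comp] at h'
    exact congrArg Subtype.val h'
  · have h : z₁ ≫ j = z₂ ≫ j := Over.OverMorphism.ext hf
    have h' := congrArg eY.homEquiv h
    rw [hj, hj] at h'
    exact congrArg Subtype.val h'

end Groth.Agent.S18234
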