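import Groth.Statements.S18235
import Groth.Agent.H28.AttrOpen
-- import your own Groth.Agent.* helpers here

set_option autoImplicit false
universe u
open CategoryTheory MonoidalCategory CartesianMonoidalCategory AlgebraicGeometry Opposite
open Magnet

namespace Groth.Agent.S18235

/-- Let S be a scheme, M a finitely generated abelian group, N a submonoid of M, X and Y schemes locally
of finite presentation over S with actions of the diagonalizable group scheme D(M)_S, and f : X → Y
an equivariant S-morphism which is an open immersion. If the attractors X^N and Y^N are represented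
by S-schemes Z_X and Z_Y, and j : Z_X → Z_Y is the S-morphism that corresponds to f^N under the two
representing bijections, then j is an open immersion. (Stated for schemes; the published statement
is for algebraic spaces over S.) -/
theorem result (S : Scheme.{u}) (M : Type) [AddCommGroup M]
    [AddGroup.FG M] (N : AddSubmonoid M) {X Y : Over S} [LocallyOfFinitePresentation X.hom]
    [LocallyOfFinitePresentation Y.hom] (aX : Magnet.MonAct (Magnet.AMonS S M) X)
    (aY : Magnet.MonAct (Magnet.AMonS S M) Y) (f : X ⟶ Y) (hf : Magnet.MonAct.IsEquivariant aX aY f)
    [IsOpenImmersion f.left] {ZX ZY : Over S} (eX : (Magnet.attr aX N).RepresentableBy ZX) (eY : (Magnet.attr aY N).RepresentableBy ZY)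
    (j : ZX ⟶ ZY) (hj : ∀ (T : Over S) (z : T ⟶ ZX),
      eY.homEquiv (z ≫ j) = (Magnet.MonAct.eqvHom.postcomp (Magnet.subAct S M N) f hf).app (op T) (eX.homEquiv z)) :
    IsOpenImmersion j.left := by
  obtain ⟨e, he⟩ := Groth.Agent.H28.StableFace.exists_face_point (S := S) N
  exact Groth.Agent.H28.AttrOpen.isOpenImmersion_of_representable f hf
    (Groth.Agent.H28.StableFace.stablePt N he) eX eY j hj

end Groth.Agent.S18235
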