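import Groth.Statements.S18237
import Groth.Agent.H28.AttrImage
import Groth.Agent.H28.AttrNc
-- import your own Groth.Agent.* helpers here

set_option autoImplicit false
universe u
open CategoryTheory MonoidalCategory CartesianMonoidalCategory AlgebraicGeometry Opposite
open Magnet

namespace Groth.Agent.S18237

/-- Let S be a quasi-compact scheme, M a finitely generated abelian group, X a scheme which is
quasi-compact, separated and locally of finite presentation over S with an action of the
diagonalizable group scheme D(M)_S, and N a submonoid of M with subgroup of invertible elements Z =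
N*. Assume X admits an S-affine N*-FPR atlas: an equivariant, étale and surjective g : U → X with U
affine over S such that, for the actions restricted along D(M/Z)_S → D(M)_S, the square of
fixed-point subfunctors U^{D(M/Z)} → X^{D(M/Z)} over U → X is cartesian. Then there is a finitely
generated submonoid N_c of N with the same invertible elements as N such that the canonical map of
attractors X^{N_c} → X^N is an isomorphism of functors. (Stated for schemes, the published statement
being for algebraic spaces. The published statement assumes only M finitely generated and X → S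
quasi-compact and separated; it fails without X locally of finite presentation over S or without S
quasi-compact, so this row assumes both, and it assumes an S-affine N*-FPR atlas, which the
published argument obtains from a general existence result.) -/
theorem result (S : Scheme.{u}) [CompactSpace S] (M : Type)
    [AddCommGroup M] [AddGroup.FG M] {X : Over S} [QuasiCompact X.hom] [IsSeparated X.hom]
    [LocallyOfFinitePresentation X.hom] (a : Magnet.MonAct (Magnet.AMonS S M) X) (N : AddSubmonoid M)
    (Z : AddSubgroup M) (hZ : ∀ m : M, m ∈ Z ↔ (m ∈ N ∧ -m ∈ N)) (U : Over S) [IsAffineHom U.hom]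
    (aU : Magnet.MonAct (Magnet.AMonS S M) U) (g : U ⟶ X) (hg : Magnet.MonAct.IsEquivariant aU a g)
    [Etale g.left] [Surjective g.left]
    (hgZ : Magnet.MonAct.IsEquivariant (aU.restrict (Magnet.AMonS.map S (QuotientAddGroup.mk' Z))) (a.restrict (Magnet.AMonS.map S (QuotientAddGroup.mk' Z))) g)
    (hfpr : IsPullback (Magnet.MonAct.fixedPsh.map g hgZ)
      (Magnet.MonAct.fixedPshι (aU.restrict (Magnet.AMonS.map S (QuotientAddGroup.mk' Z))))
      (Magnet.MonAct.fixedPshι (a.restrict (Magnet.AMonS.map S (QuotientAddGroup.mk' Z)))) (yoneda.map g)) :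
    ∃ (Nc : AddSubmonoid M) (h : Nc ≤ N), Nc.FG ∧ (∀ m : M, (m ∈ Nc ∧ -m ∈ Nc) ↔ (m ∈ N ∧ -m ∈ N)) ∧
      IsIso (Magnet.attrMap a h) := by
  classical
  haveI : LocallyOfFiniteType U.hom := by rw [← Over.w g]; infer_instance
  obtain ⟨E, hE⟩ := H28.MagnetAff.exists_degrees_global aU
  haveI : Module.Finite ℤ M := Module.Finite.iff_addGroup_fg.mpr inferInstance
  obtain ⟨sZ, hsZ⟩ : Z.toAddSubmonoid.FG := by
    refine (AddSubgroup.fg_iff_addSubmonoid_fg Z).mp ?_
    simpa [Submodule.fg_iff_addSubgroup_fg] using IsNoetherian.noetherian (AddSubgroup.toIntSubmodule Z)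
  let gens : Finset M := E.filter (· ∈ N) ∪ sZ
  let Nc := AddSubmonoid.closure (gens : Set M)
  have hZc : ∀ m ∈ Z, m ∈ Nc := fun m hm => by
    have : AddSubmonoid.closure (sZ : Set M) ≤ Nc := AddSubmonoid.closure_mono (by simp [gens])
    exact this (hsZ ▸ hm)
  have hle : Nc ≤ N := AddSubmonoid.closure_le.mpr fun m hm => by
    rcases Finset.mem_union.mp hm with h | h
    · exact (Finset.mem_filter.mp h).2
    · exact ((hZ m).mp (show m ∈ Z.toAddSubmonoid from hsZ ▸ AddSubmonoid.subset_closure h)).1
  have hQ : Magnet.IsFace N Z.toAddSubmonoid := by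
    rw [show Z = H28.StableFace.units N from AddSubgroup.ext fun m => hZ m]
    exact H28.AttrImage.isFace_units N
  have hiff : ∀ m ∈ E, m ∈ N ↔ m ∈ Nc := fun m hm =>
    ⟨fun h => AddSubmonoid.subset_closure (Finset.mem_union_left _ (Finset.mem_filter.mpr ⟨hm, h⟩)), fun h => hle h⟩
  refine ⟨Nc, hle, ⟨gens, rfl⟩, fun m => ⟨fun h => ⟨hle h.1, hle h.2⟩,
    fun h => ⟨hZc m ((hZ m).mpr h), hZc (-m) (Z.neg_mem ((hZ m).mpr h))⟩⟩, ?_⟩
  exact H28.AttrNc.isIso_attrMap a hle fun T x hx =>
    H28.AttrImage.inAttr_of_atlas_at a aU g hg N Nc Z hQ hgZ hfpr (fun T u hu => hE N Nc hiff T u hu) x hx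

end Groth.Agent.S18237
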