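import Groth.Statements.S18238
import Mathlib.RingTheory.MvPolynomial.Ideal
import Mathlib.RingTheory.Smooth.Basic
import Mathlib.LinearAlgebra.SymmetricAlgebra.Basis
-- import your own Groth.Agent.* helpers here

set_option autoImplicit false
universe u
open DiagMon

namespace Groth.Agent.S18238

open MvPolynomial in
/-- In a sharp cancellative finitely generated monoid, a generating set of minimal cardinality
avoids `0` and all sums of two nonzero elements. -/
lemma exists_generators (N : Type) [AddCommMonoid N] [AddMonoid.FG N] [IsCancelAdd N]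
    (hsharp : ∀ n : N, IsAddUnit n → n = 0) :
    ∃ S : Finset N, AddSubmonoid.closure (S : Set N) = ⊤ ∧ (0 : N) ∉ S ∧
      ∀ b c : N, b ≠ 0 → c ≠ 0 → b + c ∉ S := by
  classical
  have hz : ∀ x y : N, x + y = 0 → x = 0 := fun x y h =>
    hsharp x ⟨⟨x, y, h, by rw [add_comm]; exact h⟩, rfl⟩
  obtain ⟨S₀, hS₀⟩ : ∃ S : Finset N, AddSubmonoid.closure (S : Set N) = ⊤ := AddMonoid.fg_def.mp ‹_›
  let p : ℕ → Prop := fun n => ∃ S : Finset N, AddSubmonoid.closure (S : Set N) = ⊤ ∧ S.card = n
  have hp : ∃ n, p n := ⟨_, S₀, hS₀, rfl⟩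
  obtain ⟨S, hS, hcard⟩ := Nat.find_spec hp
  have hmin : ∀ s ∈ S, AddSubmonoid.closure ((S.erase s : Finset N) : Set N) ≠ ⊤ := by
    intro s hs h
    have := Nat.find_min hp (m := (S.erase s).card) (by rw [← hcard]; exact Finset.card_erase_lt_of_mem hs)
    exact this ⟨_, h, rfl⟩
  have h0 : (0 : N) ∉ S := by
    intro h
    apply hmin 0 h
    rw [← hS]
    refine le_antisymm (AddSubmonoid.closure_mono (by simp)) (AddSubmonoid.closure_le.mpr ?_)
    intro x hx
    by_cases hx0 : x = 0
    · subst hx0; exact zero_mem _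
    · exact AddSubmonoid.subset_closure (by simpa [hx0] using hx)
  refine ⟨S, hS, h0, fun b c hb hc hs => ?_⟩
  set s := b + c with hsdef
  have hs0 : s ≠ 0 := fun h => h0 (h ▸ hs)
  set T := AddSubmonoid.closure ((S.erase s : Finset N) : Set N)
  have hdec : ∀ x : N, ∃ n : ℕ, ∃ y ∈ T, x = n • s + y := by
    intro x
    have hx : x ∈ AddSubmonoid.closure ({s} ∪ ((S.erase s : Finset N) : Set N)) := by
      have : ({s} ∪ ((S.erase s : Finset N) : Set N)) = (S : Set N) := by
        rw [Finset.coe_erase, Set.union_diff_cancel (by simpa using hs)]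
      rw [this, hS]; trivial
    rw [AddSubmonoid.closure_union, AddSubmonoid.mem_sup] at hx
    obtain ⟨a, ha, y, hy, rfl⟩ := hx
    obtain ⟨n, rfl⟩ := AddSubmonoid.mem_closure_singleton.mp ha
    exact ⟨n, y, hy, rfl⟩
  obtain ⟨n, b', hb', hbe⟩ := hdec b
  obtain ⟨m, c', hc', hce⟩ := hdec c
  rcases Nat.eq_zero_or_pos (n + m) with hnm | hnm
  · obtain ⟨rfl, rfl⟩ : n = 0 ∧ m = 0 := by omega
    apply hmin s hs
    rw [← hS]
    refine le_antisymm (AddSubmonoid.closure_mono (by simp)) (AddSubmonoid.closure_le.mpr ?_)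
    intro x hx
    by_cases hxs : x = s
    · have h' : s = b' + c' := by
        calc s = b + c := hsdef
          _ = (0 • s + b') + (0 • s + c') := by rw [← hbe, ← hce]
          _ = b' + c' := by simp
      have h'' : b' + c' ∈ T := add_mem hb' hc'
      rw [← h'] at h''
      rw [hxs]
      exact h''
    · exact AddSubmonoid.subset_closure (by simpa [hxs] using hx)
  · obtain ⟨k, hk⟩ : ∃ k, n + m = k + 1 := ⟨n + m - 1, by omega⟩
    have h1 : s + 0 = s + ((k • s + b') + c') := by
      calc s + 0 = b + c := by rw [_root_.add_zero]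
        _ = (n • s + b') + (m • s + c') := by rw [← hbe, ← hce]
        _ = (n + m) • s + b' + c' := by rw [add_nsmul]; abel
        _ = s + ((k • s + b') + c') := by rw [hk, succ_nsmul']; abel
    have h2 : (k • s + b') + c' = 0 := (add_left_cancel h1).symm
    have hkb : k • s + b' = 0 := hz _ _ h2
    have hc'0 : c' = 0 := by rw [hkb, _root_.zero_add] at h2; exact h2
    have hks : k • s = 0 := hz _ _ hkb
    have hb'0 : b' = 0 := by rw [hks, _root_.zero_add] at hkb; exact hkb
    rcases Nat.eq_zero_or_pos k with hk0 | hk0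
    · rcases Nat.eq_zero_or_pos n with rfl | hn
      · exact hb (by rw [hbe, hb'0, zero_smul, _root_.zero_add])
      · obtain rfl : m = 0 := by omega
        exact hc (by rw [hce, hc'0, zero_smul, _root_.zero_add])
    · obtain ⟨j, rfl⟩ : ∃ j, k = j + 1 := ⟨k - 1, by omega⟩
      rw [succ_nsmul'] at hks
      exact hs0 (hz _ _ hks)

open MvPolynomial in
/-- If `R` is nontrivial and the monoid algebra of a sharp fine monoid is formally smooth, the
monoid is free. -/
lemma exists_equiv_free (R : Type u) [CommRing R] [Nontrivial R] (N : Type)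
    [AddCommMonoid N] [AddMonoid.FG N] [IsCancelAdd N] (hsharp : ∀ n : N, IsAddUnit n → n = 0)
    [Algebra.FormallySmooth R (AddMonoidAlgebra R N)] :
    ∃ S : Finset N, Nonempty (((↥S) →₀ ℕ) ≃+ N) := by
  classical
  have hz : ∀ x y : N, x + y = 0 → x = 0 := fun x y h =>
    hsharp x ⟨⟨x, y, h, by rw [add_comm]; exact h⟩, rfl⟩
  obtain ⟨S, hS, h0, hsum⟩ := exists_generators N hsharp
  refine ⟨S, ?_⟩
  let π : ((↥S) →₀ ℕ) →+ N := Finsupp.liftAddHom fun s => multiplesHom N (s : N)
  have hπ1 : ∀ s : ↥S, π (Finsupp.single s 1) = (s : N) := fun s => by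
    simp [π, Finsupp.liftAddHom_apply_single]
  have hsurj : Function.Surjective π := by
    rw [← AddMonoidHom.mrange_eq_top, eq_top_iff, ← hS, AddSubmonoid.closure_le]
    exact fun x hx => ⟨Finsupp.single ⟨x, hx⟩ 1, hπ1 _⟩
  refine ⟨AddEquiv.ofBijective π ⟨?_, hsurj⟩⟩
  let I := idealOfVars (↥S) R
  let χ₀ : N → MvPolynomial (↥S) R ⧸ I ^ 2 := fun n =>
    if n = 0 then 1 else if h : n ∈ S then Ideal.Quotient.mk (I ^ 2) (X ⟨n, h⟩) else 0
  have hχI : ∀ n, n ≠ 0 → ∃ p ∈ I, χ₀ n = Ideal.Quotient.mk (I ^ 2) p := by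
    intro n hn
    by_cases h : n ∈ S
    · exact ⟨X ⟨n, h⟩, Ideal.subset_span ⟨_, rfl⟩, by simp [χ₀, hn, h]⟩
    · exact ⟨0, zero_mem _, by simp [χ₀, hn, h]⟩
  let χ : Multiplicative N →* MvPolynomial (↥S) R ⧸ I ^ 2 :=
    { toFun := fun x => χ₀ x.toAdd
      map_one' := by simp [χ₀]
      map_mul' := by
        intro x y
        change χ₀ (x.toAdd + y.toAdd) = χ₀ x.toAdd * χ₀ y.toAdd
        generalize x.toAdd = b
        generalize y.toAdd = c
        by_cases hb : b = 0
        · subst hb; simp [χ₀]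
        by_cases hc : c = 0
        · subst hc; simp [χ₀]
        obtain ⟨p, hp, hp'⟩ := hχI b hb
        obtain ⟨q, hq, hq'⟩ := hχI c hc
        have hbc : b + c ≠ 0 := fun h => hb (hz _ _ h)
        have h2 : p * q ∈ I ^ 2 := by rw [pow_two]; exact Ideal.mul_mem_mul hp hq
        rw [hp', hq', ← map_mul, Ideal.Quotient.eq_zero_iff_mem.mpr h2]
        simp [χ₀, hbc, hsum b c hb hc] }
  intro u v huv
  by_contra hne
  wlog hle : Finsupp.degree u ≤ Finsupp.degree v generalizing u v
  · exact this huv.symm (Ne.symm hne) (le_of_not_ge hle)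
  let d := Finsupp.degree u + 2
  have hd : 2 ≤ d := by omega
  let g : MvPolynomial (↥S) R ⧸ I ^ d →ₐ[R] MvPolynomial (↥S) R ⧸ I ^ 2 :=
    Ideal.Quotient.factorₐ R (Ideal.pow_le_pow_right hd)
  have hg : Function.Surjective g := Ideal.Quotient.factor_surjective (Ideal.pow_le_pow_right hd)
  have hgker : ∀ p : MvPolynomial (↥S) R, g (Ideal.Quotient.mk _ p) = Ideal.Quotient.mk _ p :=
    fun p => rfl
  have hg' : IsNilpotent (RingHom.ker (g : MvPolynomial (↥S) R ⧸ I ^ d →+* MvPolynomial (↥S) R ⧸ I ^ 2)) := by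
    refine ⟨d, ?_⟩
    rw [Ideal.zero_eq_bot, eq_bot_iff]
    have hk : RingHom.ker (g : MvPolynomial (↥S) R ⧸ I ^ d →+* MvPolynomial (↥S) R ⧸ I ^ 2)
        ≤ (I ^ 2).map (Ideal.Quotient.mk (I ^ d)) := by
      intro x hx
      obtain ⟨x, rfl⟩ := Ideal.Quotient.mk_surjective x
      rw [RingHom.mem_ker] at hx
      exact Ideal.mem_map_of_mem _ (Ideal.Quotient.eq_zero_iff_mem.mp ((hgker x).symm.trans hx))
    refine le_trans (Ideal.pow_right_mono hk d) ?_
    rw [← Ideal.map_pow, Ideal.map_le_iff_le_comap, ← pow_mul, ← RingHom.ker_eq_comap_bot,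
      Ideal.mk_ker]
    exact Ideal.pow_le_pow_right (by omega)
  let φ : AddMonoidAlgebra R N →ₐ[R] MvPolynomial (↥S) R ⧸ I ^ d :=
    Algebra.FormallySmooth.liftOfSurjective (AddMonoidAlgebra.lift R _ N χ) g hg hg'
  let ψ : Multiplicative N →* MvPolynomial (↥S) R ⧸ I ^ d :=
    (φ : AddMonoidAlgebra R N →* _).comp (AddMonoidAlgebra.of R N)
  let Q : ((↥S) →₀ ℕ) → Prop := fun w => ∃ p : MvPolynomial (↥S) R,
    Ideal.Quotient.mk (I ^ d) p = ψ (Multiplicative.ofAdd (π w)) ∧
      p - monomial w 1 ∈ I ^ (Finsupp.degree w + 1)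
  have hQadd : ∀ a b, Q a → Q b → Q (a + b) := by
    rintro a b ⟨p, hp, hp'⟩ ⟨q, hq, hq'⟩
    refine ⟨p * q, ?_, ?_⟩
    · rw [map_mul, hp, hq, ← map_mul, ← ofAdd_add, ← map_add]
    · have hmon : monomial (a + b) (1 : R) = monomial a 1 * monomial b 1 := by
        rw [monomial_mul, _root_.mul_one]
      have hdeg : Finsupp.degree (a + b) = Finsupp.degree a + Finsupp.degree b := map_add _ _ _
      have ha : monomial a (1 : R) ∈ I ^ Finsupp.degree a :=
        (monomial_mem_pow_idealOfVars_iff _ _ one_ne_zero).mpr le_rfl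
      have hb : monomial b (1 : R) ∈ I ^ Finsupp.degree b :=
        (monomial_mem_pow_idealOfVars_iff _ _ one_ne_zero).mpr le_rfl
      have key : p * q - monomial a 1 * monomial b 1 = (p - monomial a 1) * (q - monomial b 1)
          + (p - monomial a 1) * monomial b 1 + monomial a 1 * (q - monomial b 1) := by ring
      rw [hmon, key, hdeg]
      refine add_mem (add_mem ?_ ?_) ?_
      · have := Ideal.mul_mem_mul hp' hq'
        rw [← pow_add] at this
        exact Ideal.pow_le_pow_right (by omega) this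
      · have := Ideal.mul_mem_mul hp' hb
        rw [← pow_add] at this
        exact Ideal.pow_le_pow_right (by omega) this
      · have := Ideal.mul_mem_mul ha hq'
        rw [← pow_add] at this
        exact Ideal.pow_le_pow_right (by omega) this
  have hQ0 : Q 0 := ⟨1, by simp, by simp [monomial_zero']⟩
  have hQ1 : ∀ s : ↥S, Q (Finsupp.single s 1) := by
    intro s
    obtain ⟨p, hp⟩ := Ideal.Quotient.mk_surjective (ψ (Multiplicative.ofAdd (π (Finsupp.single s 1))))
    refine ⟨p, hp, ?_⟩
    rw [Finsupp.degree_single]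
    have h1 : g (ψ (Multiplicative.ofAdd (π (Finsupp.single s 1)))) = Ideal.Quotient.mk (I ^ 2) (X s) := by
      rw [hπ1]
      refine (Algebra.FormallySmooth.liftOfSurjective_apply _ g hg hg' _).trans ?_
      rw [AddMonoidAlgebra.lift_of]
      have hs0 : (s : N) ≠ 0 := fun h => h0 (h ▸ s.2)
      show χ₀ (s : N) = _
      simp [χ₀, hs0, s.2]
    rw [← hp, hgker] at h1
    exact Ideal.Quotient.eq.mp h1
  have hQ : ∀ w, Q w := by
    intro w
    induction w using Finsupp.induction_linear with
    | zero => exact hQ0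
    | add a b ha hb => exact hQadd a b ha hb
    | single s n =>
      induction n with
      | zero => rw [Finsupp.single_zero]; exact hQ0
      | succ n ih => rw [Finsupp.single_add]; exact hQadd _ _ ih (hQ1 s)
  obtain ⟨p, hp, hp'⟩ := hQ u
  obtain ⟨q, hq, hq'⟩ := hQ v
  rw [huv] at hp
  have h := Ideal.Quotient.eq.mp (hp.trans hq.symm)
  have hpu := (mem_pow_idealOfVars_iff' _ _).mp hp' u (by omega)
  have hqu := (mem_pow_idealOfVars_iff' _ _).mp hq' u (by omega)
  have hpqu := (mem_pow_idealOfVars_iff' _ _).mp h u (by omega)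
  rw [coeff_sub, sub_eq_zero] at hpu hqu hpqu
  rw [coeff_monomial, if_pos rfl] at hpu
  rw [coeff_monomial, if_neg (Ne.symm hne)] at hqu
  rw [hpu, hqu] at hpqu
  exact one_ne_zero hpqu

/-- A monoid algebra over the zero ring, in the shape required. -/
lemma of_subsingleton (R : Type u) [CommRing R] [Subsingleton R] (N : Type) [AddCommMonoid N] :
    Nonempty (AddMonoidAlgebra R N ≃ₐ[R] SymmetricAlgebra R (PUnit.{u+1} →₀ R)) := by
  haveI : Subsingleton (AddMonoidAlgebra R N) := Module.subsingleton R _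
  haveI : Subsingleton (SymmetricAlgebra R (PUnit.{u+1} →₀ R)) := Module.subsingleton R _
  exact ⟨{ toFun := fun _ => 0, invFun := fun _ => 0,
           left_inv := fun _ => Subsingleton.elim _ _, right_inv := fun _ => Subsingleton.elim _ _,
           map_mul' := fun _ _ => Subsingleton.elim _ _, map_add' := fun _ _ => Subsingleton.elim _ _,
           commutes' := fun _ => Subsingleton.elim _ _ }⟩


/-- Let R be a commutative ring and N a fine and sharp commutative monoid (finitely generated,
cancellative, and 0 its only invertible element). If the diagonalizable monoid scheme A(N)_R = Spec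
R[N] is smooth over Spec R, then it is a vector bundle over Spec R: the monoid algebra R[N] is
isomorphic as an R-algebra to the symmetric algebra of a finitely generated projective R-module
(existence of such a module and isomorphism). (Affine base; the published statement is over an
arbitrary base scheme S.) -/
theorem result (R : Type u) [CommRing R] (N : Type)
    [AddCommMonoid N] [AddMonoid.FG N] [IsCancelAdd N] (hsharp : ∀ n : N, IsAddUnit n → n = 0)
    [Algebra.Smooth R (AddMonoidAlgebra R N)] :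
    ∃ (P : Type u) (_ : AddCommGroup P) (_ : Module R P), Module.Finite R P ∧ Module.Projective R P ∧
      Nonempty (AddMonoidAlgebra R N ≃ₐ[R] SymmetricAlgebra R P) := by
  rcases subsingleton_or_nontrivial R with hR | hR
  · exact ⟨_, inferInstance, inferInstance, inferInstance, inferInstance, of_subsingleton R N⟩
  · obtain ⟨S, ⟨e⟩⟩ := exists_equiv_free R N hsharp
    exact ⟨(↥S) →₀ R, inferInstance, inferInstance, inferInstance, inferInstance,
      ⟨(AddMonoidAlgebra.domCongr R R e.symm).trans
        (SymmetricAlgebra.equivMvPolynomial (Finsupp.basisSingleOne (R := R) (ι := ↥S))).symm⟩⟩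

end Groth.Agent.S18238
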