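import Groth.Statements.S18239
import Mathlib.RingTheory.Smooth.Basic
import Mathlib.RingTheory.GradedAlgebra.Basic
import Mathlib.RingTheory.MvPolynomial.Ideal
import Mathlib.LinearAlgebra.SymmetricAlgebra.Basis
import Mathlib.Data.Finsupp.PWO
import Mathlib.Algebra.TrivSqZeroExt.Basic
-- import your own Groth.Agent.* helpers here

set_option autoImplicit false
universe u
open DiagMon

namespace Groth.Agent.S18239

set_option synthInstance.maxHeartbeats 80000

section Sym

variable (C : Type u) [CommRing C] (P : Type u) [AddCommGroup P] [Module C P]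

/-- The irrelevant ideal of a symmetric algebra. -/
noncomputable abbrev irr : Ideal (SymmetricAlgebra C P) :=
  RingHom.ker (SymmetricAlgebra.algebraMapInv (R := C) (M := P) : SymmetricAlgebra C P →+* C)

lemma ι_mem_irr (m : P) : SymmetricAlgebra.ι C P m ∈ irr C P := SymmetricAlgebra.algebraMapInv_ι m

lemma exists_linear_part (x : SymmetricAlgebra C P) : ∃ m : P,
    x - algebraMap C _ (SymmetricAlgebra.algebraMapInv x) - SymmetricAlgebra.ι C P m ∈ irr C P ^ 2 := by
  induction x using SymmetricAlgebra.induction with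
  | algebraMap r => exact ⟨0, by simp⟩
  | ι y => exact ⟨y, by simp [SymmetricAlgebra.algebraMapInv_ι]⟩
  | add a b ha hb =>
    obtain ⟨m, hm⟩ := ha
    obtain ⟨m', hm'⟩ := hb
    refine ⟨m + m', ?_⟩
    convert add_mem hm hm' using 1
    simp only [map_add]
    abel
  | mul a b ha hb =>
    obtain ⟨m, hm⟩ := ha
    obtain ⟨m', hm'⟩ := hb
    let va := SymmetricAlgebra.algebraMapInv a
    let vb := SymmetricAlgebra.algebraMapInv b
    refine ⟨va • m' + vb • m, ?_⟩
    have hJ : (a - algebraMap C _ va) * (b - algebraMap C _ vb) ∈ irr C P ^ 2 := by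
      rw [pow_two]
      exact Ideal.mul_mem_mul (by simp [irr, va]) (by simp [irr, vb])
    have := add_mem (add_mem hJ (Ideal.mul_mem_left _ (algebraMap C _ vb) hm))
      (Ideal.mul_mem_left _ (algebraMap C _ va) hm')
    convert this using 1
    simp only [map_add, map_mul, map_smul, Algebra.smul_def, va, vb]
    ring

/-- The powers of the irrelevant ideal of the symmetric algebra of a projective module meet in zero. -/
lemma eq_zero_of_forall_mem_irr_pow [Module.Projective C P] [Module.Finite C P] (x : SymmetricAlgebra C P)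
    (hx : ∀ n, x ∈ irr C P ^ n) : x = 0 := by
  classical
  obtain ⟨d, f, g, -, -, hfg⟩ := Module.Finite.exists_comp_eq_id_of_projective C P
  let eS := SymmetricAlgebra.equivMvPolynomial (Pi.basisFun C (Fin d))
  let α : SymmetricAlgebra C P →ₐ[C] MvPolynomial (Fin d) C :=
    SymmetricAlgebra.lift (eS.toLinearMap ∘ₗ SymmetricAlgebra.ι C _ ∘ₗ g)
  let β : MvPolynomial (Fin d) C →ₐ[C] SymmetricAlgebra C P :=
    (SymmetricAlgebra.lift (SymmetricAlgebra.ι C P ∘ₗ f)).comp eS.symm.toAlgHom
  have hβα : β.comp α = AlgHom.id C _ := by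
    refine SymmetricAlgebra.algHom_ext (LinearMap.ext fun m => ?_)
    have : f (g m) = m := LinearMap.congr_fun hfg m
    simp [α, β, this]
  have hα : Ideal.map (α : SymmetricAlgebra C P →+* _) (irr C P) ≤ MvPolynomial.idealOfVars (Fin d) C := by
    rw [Ideal.map_le_iff_le_comap]
    intro y hy
    have hy' : SymmetricAlgebra.algebraMapInv y = (0 : C) := hy
    have key : ∀ z : SymmetricAlgebra C P, α z - algebraMap C _ (SymmetricAlgebra.algebraMapInv z) ∈
        MvPolynomial.idealOfVars (Fin d) C := by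
      intro z
      induction z using SymmetricAlgebra.induction with
      | algebraMap r => simp
      | ι m =>
        simp only [SymmetricAlgebra.algebraMapInv_ι, map_zero, sub_zero, α, SymmetricAlgebra.lift_ι_apply,
          LinearMap.comp_apply]
        have hspan : g m = ∑ i, (g m i) • Pi.basisFun C (Fin d) i := ((Pi.basisFun C (Fin d)).sum_repr (g m)).symm
        rw [hspan, map_sum, map_sum]
        refine sum_mem fun i _ => ?_
        rw [map_smul, map_smul]
        refine Submodule.smul_of_tower_mem _ _ (Ideal.subset_span ⟨i, ?_⟩)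
        show MvPolynomial.X i = eS (SymmetricAlgebra.ι C _ (Pi.basisFun C (Fin d) i))
        exact (SymmetricAlgebra.equivMvPolynomial_ι_apply _ _).symm
      | add a b ha hb =>
        convert add_mem ha hb using 1
        simp only [map_add]
        abel
      | mul a b ha hb =>
        convert add_mem (Ideal.mul_mem_right (α b) _ ha)
          (Ideal.mul_mem_left _ (algebraMap C _ (SymmetricAlgebra.algebraMapInv a)) hb) using 1
        simp only [map_mul]
        ring
    simpa [hy'] using key y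
  have h0 : α x = 0 := by
    ext c
    have := (MvPolynomial.mem_pow_idealOfVars_iff' _ _).mp
      (Ideal.pow_right_mono hα (c.degree + 1) (by rw [← Ideal.map_pow]; exact Ideal.mem_map_of_mem _ (hx _))) c
      (Nat.lt_succ_self _)
    simpa using this
  rw [← AlgHom.id_apply (R := C) x, ← hβα, AlgHom.comp_apply, h0, map_zero]

end Sym

set_option maxHeartbeats 1000000 in
theorem core (R A : Type u) [CommRing R] [CommRing A] [Algebra R A]
    (C : Type u) [CommRing C] [Algebra R C] [Algebra C A] [IsScalarTower R C A]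
    (P : Type u) [AddCommGroup P] [Module C P] [Module.Projective C P] [Module.Finite C P]
    [Algebra.FormallySmooth R A] (ε : A →ₐ[C] C) (s : P →ₗ[C] A) (hs : ∀ m, ε (s m) = 0)
    (hinj : ∀ m, s m ∈ RingHom.ker ε.toRingHom * RingHom.ker ε.toRingHom → m = 0)
    (hsurj : Function.Surjective (SymmetricAlgebra.lift s)) :
    Function.Bijective (SymmetricAlgebra.lift s) := by
  refine ⟨?_, hsurj⟩
  set Φ := SymmetricAlgebra.lift s
  set K := RingHom.ker Φ.toRingHom with hK
  set J := irr C P with hJ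
  have hεΦ : ε.comp Φ = SymmetricAlgebra.algebraMapInv := by
    refine SymmetricAlgebra.algHom_ext (LinearMap.ext fun m => ?_)
    simp [Φ, hs, SymmetricAlgebra.algebraMapInv_ι]
  have hKJ : K ≤ J := fun x hx => by
    show SymmetricAlgebra.algebraMapInv x = (0 : C)
    rw [← hεΦ, AlgHom.comp_apply, show Φ x = 0 from hx, map_zero]
  have hJI : Ideal.map Φ.toRingHom J ≤ RingHom.ker ε.toRingHom := by
    rw [Ideal.map_le_iff_le_comap]
    intro x hx
    show ε (Φ x) = 0
    rw [← AlgHom.comp_apply, hεΦ]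
    exact hx
  have hK2 : K ≤ J ^ 2 := by
    intro x hx
    obtain ⟨m, hm⟩ := exists_linear_part C P x
    rw [show SymmetricAlgebra.algebraMapInv x = (0 : C) from hKJ hx, map_zero, sub_zero] at hm
    have hm' : s m ∈ RingHom.ker ε.toRingHom * RingHom.ker ε.toRingHom := by
      have := Ideal.mem_map_of_mem Φ.toRingHom hm
      rw [Ideal.map_pow] at this
      have h2 := Ideal.pow_right_mono hJI 2 this
      rw [pow_two] at h2
      have e : Φ.toRingHom (x - SymmetricAlgebra.ι C P m) = - s m := by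
        show Φ (x - _) = _
        rw [map_sub, show Φ x = 0 from hx, SymmetricAlgebra.lift_ι_apply, zero_sub]
      rw [e] at h2
      exact neg_mem_iff.mp h2
    rw [hinj m hm', map_zero, sub_zero] at hm
    exact hm
  letI : Algebra R (SymmetricAlgebra C P) :=
    ((algebraMap C (SymmetricAlgebra C P)).comp (algebraMap R C)).toAlgebra
  haveI : IsScalarTower R C (SymmetricAlgebra C P) := IsScalarTower.of_algebraMap_eq fun _ => rfl
  let B := SymmetricAlgebra C P ⧸ K ^ 2
  let Φ' : B →ₐ[R] A := Ideal.Quotient.liftₐ (K ^ 2) (Φ.restrictScalars R)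
    fun x hx => Ideal.pow_le_self (two_ne_zero) hx
  have hΦ' : Function.Surjective Φ' := fun y => by
    obtain ⟨x, rfl⟩ := hsurj y
    exact ⟨Ideal.Quotient.mk _ x, rfl⟩
  have hker : RingHom.ker (Φ' : B →+* A) = K.map (Ideal.Quotient.mk (K ^ 2)) := by
    ext b
    obtain ⟨x, rfl⟩ := Ideal.Quotient.mk_surjective b
    rw [Ideal.mem_map_iff_of_surjective _ Ideal.Quotient.mk_surjective]
    refine ⟨fun h => ⟨x, h, rfl⟩, ?_⟩
    rintro ⟨y, hy, hyx⟩
    rw [← hyx]
    exact hy
  have hnil : IsNilpotent (RingHom.ker (Φ' : B →+* A)) := ⟨2, by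
    rw [hker, ← Ideal.map_pow, Ideal.map_quotient_self, Ideal.zero_eq_bot]⟩
  let g : A →ₐ[R] B := Algebra.FormallySmooth.liftOfSurjective (AlgHom.id R A) Φ' hΦ' hnil
  have hg : ∀ x, Φ' (g x) = x := Algebra.FormallySmooth.liftOfSurjective_apply _ Φ' hΦ' hnil
  let e : SymmetricAlgebra C P → B := fun x => Ideal.Quotient.mk _ x - g (Φ x)
  have he : ∀ x, e x ∈ K.map (Ideal.Quotient.mk (K ^ 2)) := fun x => by
    rw [← hker, RingHom.mem_ker]
    show Φ' (Ideal.Quotient.mk _ x - g (Φ x)) = 0
    rw [map_sub, hg]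
    exact sub_self (Φ x)
  let T : Ideal B := (K * J).map (Ideal.Quotient.mk (K ^ 2))
  have heJ : ∀ x ∈ J ^ 2, e x ∈ T := by
    intro x hx
    rw [pow_two] at hx
    refine Submodule.mul_induction_on hx (fun a ha b hb => ?_) (fun a b ha hb => ?_)
    · have e1 : e (a * b) = Ideal.Quotient.mk _ a * e b + Ideal.Quotient.mk _ b * e a - e a * e b := by
        simp only [e, map_mul]
        ring
      rw [e1]
      have hb' : e b ∈ J.map (Ideal.Quotient.mk (K ^ 2)) := Ideal.map_mono hKJ (he b)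
      have hT : T = K.map (Ideal.Quotient.mk (K ^ 2)) * J.map (Ideal.Quotient.mk (K ^ 2)) :=
        Ideal.map_mul (Ideal.Quotient.mk (K ^ 2)) K J
      rw [hT]
      refine sub_mem (add_mem ?_ ?_) (Ideal.mul_mem_mul (he a) hb')
      · rw [mul_comm (Ideal.Quotient.mk (K ^ 2) a)]
        exact Ideal.mul_mem_mul (he b) (Ideal.mem_map_of_mem (Ideal.Quotient.mk (K ^ 2)) ha)
      · rw [mul_comm (Ideal.Quotient.mk (K ^ 2) b)]
        exact Ideal.mul_mem_mul (he a) (Ideal.mem_map_of_mem (Ideal.Quotient.mk (K ^ 2)) hb)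
    · have : e (a + b) = e a + e b := by simp only [e, map_add]; ring
      rw [this]
      exact add_mem ha hb
  have hle : K ≤ K * J := by
    intro x hx
    have h1 := heJ x (hK2 hx)
    rw [show e x = Ideal.Quotient.mk _ x by simp [e, show Φ x = 0 from hx]] at h1
    obtain ⟨y, hy, hyx⟩ := (Ideal.mem_map_iff_of_surjective _ Ideal.Quotient.mk_surjective).mp h1
    have : x - y ∈ K * J := by
      have h2 : x - y ∈ K ^ 2 := Ideal.Quotient.eq.mp hyx.symm
      rw [pow_two] at h2
      exact Ideal.mul_mono_right hKJ h2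
    simpa using add_mem this hy
  have hpow : ∀ n, K ≤ K * J ^ n := fun n => by
    induction n with
    | zero => rw [pow_zero, Ideal.one_eq_top, Ideal.mul_top]
    | succ n ih => rw [pow_succ', ← mul_assoc]; exact ih.trans (Ideal.mul_mono_left hle)
  intro x y hxy
  have hx : x - y ∈ K := by
    show Φ (x - y) = 0
    rw [map_sub, hxy, sub_self]
  refine sub_eq_zero.mp (eq_zero_of_forall_mem_irr_pow C P (x - y) fun n => ?_)
  exact (Ideal.mul_le_right : K * J ^ n ≤ J ^ n) (hpow n hx)

lemma wf_sharp (N : Type) [AddCommMonoid N] [AddMonoid.FG N] [IsCancelAdd N]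
    (hsharp : ∀ n : N, IsAddUnit n → n = 0) : WellFounded fun i n : N => ∃ j, j ≠ 0 ∧ n = i + j := by
  classical
  obtain ⟨S, hS⟩ : ∃ S : Finset N, AddSubmonoid.closure (S : Set N) = ⊤ := AddMonoid.fg_def.mp ‹_›
  let π : ((↥S) →₀ ℕ) →+ N := Finsupp.liftAddHom fun s => multiplesHom N (s : N)
  have hsurj : Function.Surjective π := by
    rw [← AddMonoidHom.mrange_eq_top, eq_top_iff, ← hS, AddSubmonoid.closure_le]
    exact fun x hx => ⟨Finsupp.single ⟨x, hx⟩ 1, by simp [π, Finsupp.liftAddHom_apply_single]⟩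
  rw [wellFounded_iff_isEmpty_descending_chain]
  refine ⟨fun ⟨f, hf⟩ => ?_⟩
  have hz : ∀ x y : N, x + y = 0 → x = 0 := fun x y h =>
    hsharp x ⟨⟨x, y, h, by rw [add_comm]; exact h⟩, rfl⟩
  have hdesc : ∀ i d : ℕ, ∃ c, f i = f (i + d + 1) + c ∧ c ≠ 0 := by
    intro i d
    induction d with
    | zero => obtain ⟨c, hc, e⟩ := hf i; exact ⟨c, e, hc⟩
    | succ d ih =>
      obtain ⟨c, e, hc⟩ := ih
      obtain ⟨c', hc', e'⟩ := hf (i + d + 1)
      refine ⟨c' + c, ?_, fun h => hc' (hz _ _ h)⟩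
      rw [e, e', ← add_assoc, show i + (d + 1) + 1 = i + d + 1 + 1 by omega]
  choose u hu using fun i => hsurj (f i)
  obtain ⟨i, j, hij, hle⟩ := wellQuasiOrdered_le u
  obtain ⟨w, hw⟩ := le_iff_exists_add.mp hle
  obtain ⟨c, e, hc⟩ := hdesc i (j - i - 1)
  rw [show i + (j - i - 1) + 1 = j by omega] at e
  have e' : f j = f i + π w := by rw [← hu, ← hu, hw, map_add]
  rw [e'] at e
  have : π w + c = 0 := by
    rw [add_assoc] at e
    exact (add_left_cancel ((_root_.add_zero (f i)).trans e)).symm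
  exact hc (hz c _ (by rwa [add_comm]))


section Graded

open DirectSum

variable {R A : Type u} [CommRing R] [CommRing A] [Algebra R A] {N : Type} [AddCommMonoid N] [DecidableEq N]
  (𝒜 : N → Submodule R A) [GradedAlgebra 𝒜]

/-- The component of degree `n`, linear over the degree-zero part. -/
noncomputable def comp (n : N) : A →ₗ[𝒜 0] A where
  toFun a := decompose 𝒜 a n
  map_add' a b := by simp
  map_smul' c a := by
    show (decompose 𝒜 ((c : A) * a) n : A) = (c : A) * decompose 𝒜 a n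
    exact coe_decompose_mul_of_left_mem_zero 𝒜 c.2

lemma comp_mem (n : N) (a : A) : comp 𝒜 n a ∈ 𝒜 n := SetLike.coe_mem _

lemma comp_of_mem {n : N} {a : A} (h : a ∈ 𝒜 n) : comp 𝒜 n a = a := decompose_of_mem_same 𝒜 h

lemma comp_of_ne {i n : N} {a : A} (h : a ∈ 𝒜 i) (hne : i ≠ n) : comp 𝒜 n a = 0 := decompose_of_mem_ne 𝒜 h hne

lemma exists_counit (hsharp : ∀ n : N, IsAddUnit n → n = 0) :
    ∃ ε : A →ₐ[𝒜 0] 𝒜 0, ∀ a, (ε a : A) = comp 𝒜 0 a := by
  have hmul : ∀ a b : A, comp 𝒜 0 (a * b) = comp 𝒜 0 a * comp 𝒜 0 b := by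
    intro a b
    induction a using Decomposition.inductionOn 𝒜 with
    | zero => simp
    | add a a' ha ha' => simp [add_mul, ha, ha']
    | homogeneous x =>
      induction b using Decomposition.inductionOn 𝒜 with
      | zero => simp
      | add b b' hb hb' => simp [mul_add, hb, hb']
      | homogeneous y =>
        rename_i i j
        have hxy : (x : A) * y ∈ 𝒜 (i + j) := SetLike.mul_mem_graded x.2 y.2
        by_cases hi : i = 0
        · subst hi
          by_cases hj : j = 0
          · subst hj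
            rw [comp_of_mem 𝒜 x.2, comp_of_mem 𝒜 y.2, comp_of_mem 𝒜 (by simpa using hxy)]
          · rw [comp_of_ne 𝒜 y.2 hj, comp_of_ne 𝒜 hxy (by simpa using hj), mul_zero]
        · rw [comp_of_ne 𝒜 x.2 hi, comp_of_ne 𝒜 hxy ?_, zero_mul]
          exact fun h => hi (hsharp i ⟨⟨i, j, h, by rw [add_comm]; exact h⟩, rfl⟩)
  refine ⟨{ toFun := fun a => ⟨comp 𝒜 0 a, comp_mem 𝒜 0 a⟩
            map_one' := Subtype.ext (comp_of_mem 𝒜 (SetLike.one_mem_graded 𝒜))
            map_mul' := fun a b => Subtype.ext (hmul a b)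
            map_zero' := Subtype.ext (map_zero _)
            map_add' := fun a b => Subtype.ext (map_add _ _ _)
            commutes' := fun c => Subtype.ext (comp_of_mem 𝒜 c.2) }, fun a => rfl⟩

/-- Components of products of elements without constant term. -/
lemma comp_mem_of_mem_mul (T : Submodule (𝒜 0) A) (n : N)
    (h : ∀ i j : N, i ≠ 0 → j ≠ 0 → i + j = n → ∀ a ∈ 𝒜 i, ∀ b ∈ 𝒜 j, a * b ∈ T)
    {I : Ideal A} (hI : ∀ a, a ∈ I ↔ comp 𝒜 0 a = 0) {y : A} (hy : y ∈ I * I) : comp 𝒜 n y ∈ T := by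
  classical
  refine Submodule.mul_induction_on hy (fun a ha b hb => ?_) (fun a b ha hb => by rw [map_add]; exact add_mem ha hb)
  have key : ∀ (z : A) (i : N), comp 𝒜 0 z = 0 → i ∈ (decompose 𝒜 z).support → i ≠ 0 := by
    intro z i hz hi h0
    subst h0
    exact DFinsupp.mem_support_iff.mp hi (Subtype.ext hz)
  rw [← sum_support_decompose 𝒜 a, ← sum_support_decompose 𝒜 b, Finset.sum_mul, map_sum]
  refine sum_mem fun i hi => ?_
  rw [Finset.mul_sum, map_sum]
  refine sum_mem fun j hj => ?_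
  have hij : (decompose 𝒜 a i : A) * decompose 𝒜 b j ∈ 𝒜 (i + j) :=
    SetLike.mul_mem_graded (SetLike.coe_mem _) (SetLike.coe_mem _)
  by_cases e : i + j = n
  · subst e
    rw [comp_of_mem 𝒜 hij]
    exact h i j (key a i ((hI a).mp ha) hi) (key b j ((hI b).mp hb) hj) rfl _ (SetLike.coe_mem _) _ (SetLike.coe_mem _)
  · rw [comp_of_ne 𝒜 hij e]
    exact zero_mem _

lemma exists_generators [Algebra.FiniteType R A] : ∃ (G : Finset A) (d : A → N),
    (∀ a ∈ G, a ∈ 𝒜 (d a)) ∧ Algebra.adjoin R (G : Set A) = ⊤ := by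
  classical
  obtain ⟨S, hS⟩ := ‹Algebra.FiniteType R A›.out
  let G := S.biUnion fun a => (decompose 𝒜 a).support.image fun i => (decompose 𝒜 a i : A)
  have hG : ∀ g ∈ G, ∃ i, g ∈ 𝒜 i := by
    intro g hg
    simp only [G, Finset.mem_biUnion, Finset.mem_image] at hg
    obtain ⟨a, -, i, -, rfl⟩ := hg
    exact ⟨i, SetLike.coe_mem _⟩
  choose! d hd using hG
  refine ⟨G, d, hd, ?_⟩
  rw [eq_top_iff, ← hS, Algebra.adjoin_le_iff]
  intro a ha
  show a ∈ Algebra.adjoin R (G : Set A)
  rw [← sum_support_decompose 𝒜 a]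
  exact sum_mem fun i hi => Algebra.subset_adjoin
    (Finset.mem_biUnion.mpr ⟨a, ha, Finset.mem_image_of_mem _ hi⟩)

set_option maxHeartbeats 1000000 in
theorem main [AddMonoid.FG N] [IsCancelAdd N] (hsharp : ∀ n : N, IsAddUnit n → n = 0) [Algebra.Smooth R A] :
    ∃ (P : Type u) (_ : AddCommGroup P) (_ : Module (𝒜 0) P), Module.Finite (𝒜 0) P ∧
      Module.Projective (𝒜 0) P ∧ Nonempty (A ≃ₐ[𝒜 0] SymmetricAlgebra (𝒜 0) P) := by
  classical
  obtain ⟨ε, hε⟩ := exists_counit 𝒜 hsharp
  haveI : IsScalarTower R (𝒜 0) A := IsScalarTower.of_algebraMap_eq fun _ => rfl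
  obtain ⟨G, d, hd, hG⟩ := exists_generators 𝒜
  set I : Ideal A := RingHom.ker ε.toRingHom with hIdef
  have hI : ∀ a, a ∈ I ↔ comp 𝒜 0 a = 0 := fun a => by
    rw [← hε, hIdef, RingHom.mem_ker]
    exact ⟨fun h => by rw [show ε a = 0 from h]; rfl, fun h => Subtype.ext h⟩
  have hεc : ∀ c : 𝒜 0, ε (algebraMap (𝒜 0) A c) = c := fun c => ε.commutes c
  let ι' := {g : A // g ∈ G ∧ d g ≠ 0}
  haveI : Fintype ι' := Fintype.ofInjective (fun g : ι' => (⟨g.1, g.2.1⟩ : ↥G))
    fun x y h => Subtype.ext (congrArg (fun z : ↥G => z.1) h)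
  let l : (ι' → 𝒜 0) →ₗ[𝒜 0] A := Fintype.linearCombination (𝒜 0) (fun g : ι' => (g : A))
  have hmemI : ∀ {i : N} {a : A}, a ∈ 𝒜 i → i ≠ 0 → a ∈ I := fun ha hi => (hI _).mpr (comp_of_ne 𝒜 ha hi)
  have hlI : ∀ v, l v ∈ I := fun v => by
    rw [Fintype.linearCombination_apply]
    exact sum_mem fun g _ => Submodule.smul_of_tower_mem _ _ (hmemI (hd _ g.2.1) g.2.2)
  let mk : A →ₐ[𝒜 0] A ⧸ I * I := Ideal.Quotient.mkₐ _ _
  have hmk0 : ∀ {x : A}, mk x = 0 ↔ x ∈ I * I := Ideal.Quotient.eq_zero_iff_mem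
  let lb : (ι' → 𝒜 0) →ₗ[𝒜 0] A ⧸ I * I := mk.toLinearMap ∘ₗ l
  let M : Submodule (𝒜 0) (A ⧸ I * I) := LinearMap.range lb
  have hlb : ∀ u v, lb u * lb v = 0 := fun u v => by
    show mk (l u) * mk (l v) = 0
    rw [← map_mul, hmk0]
    exact Ideal.mul_mem_mul (hlI u) (hlI v)
  -- the linear part of an element
  let δ0 : A →ₗ[𝒜 0] A := LinearMap.id - (Algebra.linearMap (𝒜 0) A).comp ε.toLinearMap
  have hδ0 : ∀ a, δ0 a ∈ I := fun a => by
    show ε (a - algebraMap (𝒜 0) A (ε a)) = 0
    rw [map_sub, hεc, sub_self]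
  have hM : ∀ a, mk (δ0 a) ∈ M := by
    intro a
    have ha : a ∈ Algebra.adjoin R (G : Set A) := hG ▸ Algebra.mem_top
    induction ha using Algebra.adjoin_induction with
    | mem x hx =>
      by_cases h0 : d x = 0
      · have h1 : x ∈ 𝒜 0 := h0 ▸ hd x hx
        have : δ0 x = 0 := sub_eq_zero.mpr ((comp_of_mem 𝒜 h1).symm.trans (hε x).symm)
        rw [this, map_zero]
        exact zero_mem _
      · refine ⟨Pi.single ⟨x, hx, h0⟩ 1, ?_⟩
        show mk (l _) = mk (δ0 x)
        have : ε x = 0 := hmemI (hd x hx) h0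
        simp [l, δ0, this, Fintype.linearCombination_apply_single]
    | algebraMap r =>
      have : δ0 (algebraMap R A r) = 0 := by
        show algebraMap R A r - algebraMap (𝒜 0) A (ε (algebraMap R A r)) = 0
        rw [IsScalarTower.algebraMap_apply R (𝒜 0) A, hεc, sub_self]
      rw [this, map_zero]
      exact zero_mem _
    | add x y _ _ hx hy => rw [map_add, map_add]; exact add_mem hx hy
    | mul x y _ _ hx hy =>
      have e : δ0 (x * y) = ε x • δ0 y + ε y • δ0 x + δ0 x * δ0 y := by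
        simp only [δ0, LinearMap.sub_apply, LinearMap.id_apply, LinearMap.comp_apply, AlgHom.toLinearMap_apply,
          Algebra.linearMap_apply, map_mul, Algebra.smul_def]
        ring
      rw [e, map_add, map_add, map_smul, map_smul, hmk0.mpr (Ideal.mul_mem_mul (hδ0 x) (hδ0 y)), add_zero]
      exact add_mem (M.smul_mem _ hy) (M.smul_mem _ hx)
  have hMmk : ∀ a ∈ I, mk a ∈ M := fun a ha => by
    have := hM a
    rwa [show δ0 a = a by simp [δ0, show ε a = 0 from ha]] at this
  -- splitting by formal smoothness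
  let γ : TrivSqZeroExt (𝒜 0) (ι' → 𝒜 0) →ₐ[R] A ⧸ I * I :=
    { toFun := fun b => algebraMap (𝒜 0) _ b.fst + lb b.snd
      map_one' := by simp
      map_zero' := by simp
      map_add' := fun b b' => by simp only [TrivSqZeroExt.fst_add, TrivSqZeroExt.snd_add, map_add]; abel
      map_mul' := fun b b' => by
        simp only [TrivSqZeroExt.fst_mul, TrivSqZeroExt.snd_mul, op_smul_eq_smul]
        rw [lb.map_add, lb.map_smul, lb.map_smul, map_mul, Algebra.smul_def, Algebra.smul_def]
        linear_combination -(hlb b.snd b'.snd)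
      commutes' := fun r => by
        simp [TrivSqZeroExt.algebraMap_eq_inl', ← IsScalarTower.algebraMap_apply] }
  let εb : A ⧸ I * I →ₐ[𝒜 0] 𝒜 0 := Ideal.Quotient.liftₐ _ ε fun x hx => Ideal.mul_le_right hx
  have hεblb : ∀ v, εb (lb v) = 0 := fun v => hlI v
  have hfst : ∀ b, εb (γ b) = b.fst := fun b => by
    show εb (algebraMap (𝒜 0) _ b.fst + lb b.snd) = _
    rw [map_add, AlgHom.commutes, hεblb, add_zero]
    rfl
  have hγ : Function.Surjective γ := by
    intro y
    obtain ⟨a, rfl⟩ := Ideal.Quotient.mk_surjective y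
    obtain ⟨v, hv⟩ := hM a
    refine ⟨TrivSqZeroExt.inl (ε a) + TrivSqZeroExt.inr v, ?_⟩
    show algebraMap (𝒜 0) _ _ + lb _ = mk a
    simp only [TrivSqZeroExt.fst_add, TrivSqZeroExt.fst_inl, TrivSqZeroExt.fst_inr, add_zero,
      TrivSqZeroExt.snd_add, TrivSqZeroExt.snd_inl, TrivSqZeroExt.snd_inr, zero_add, hv]
    rw [← mk.commutes, ← map_add]
    simp [δ0]
  have hnil : IsNilpotent (RingHom.ker (γ : TrivSqZeroExt (𝒜 0) (ι' → 𝒜 0) →+* A ⧸ I * I)) := by
    refine ⟨2, le_antisymm ?_ bot_le⟩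
    rw [Submodule.pow_succ, Submodule.pow_one, Ideal.mul_le]
    intro x hx y hy
    have hx' : x.fst = 0 := by rw [← hfst, show γ x = 0 from hx, map_zero]
    have hy' : y.fst = 0 := by rw [← hfst, show γ y = 0 from hy, map_zero]
    show x * y = 0
    ext <;> simp [hx', hy']
  let g : A →ₐ[R] TrivSqZeroExt (𝒜 0) (ι' → 𝒜 0) :=
    Algebra.FormallySmooth.liftOfSurjective (mk.restrictScalars R) γ hγ hnil
  have hg : ∀ a, γ (g a) = mk a := Algebra.FormallySmooth.liftOfSurjective_apply _ γ hγ hnil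
  have hgfst : ∀ a, (g a).fst = ε a := fun a => by
    rw [← hfst, hg]
    rfl
  let D : A →ₗ[𝒜 0] (ι' → 𝒜 0) :=
    { toFun := fun a => (g (δ0 a)).snd
      map_add' := fun a b => by simp
      map_smul' := fun c a => by
        rw [map_smul, Algebra.smul_def, map_mul, TrivSqZeroExt.snd_mul, hgfst, hgfst, hεc,
          show ε (δ0 a) = 0 from hδ0 a]
        simp }
  have hD : ∀ a ∈ I, lb (D a) = mk a := fun a ha => by
    have e : δ0 a = a := by simp [δ0, show ε a = 0 from ha]
    have h := hg a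
    rw [show γ (g a) = algebraMap (𝒜 0) _ (g a).fst + lb (g a).snd from rfl, hgfst,
      show ε a = 0 from ha, map_zero, zero_add] at h
    show lb (g (δ0 a)).snd = mk a
    rw [e, h]
  have hDI : ((I * I).restrictScalars (𝒜 0)) ≤ LinearMap.ker D := by
    intro y hy
    refine Submodule.mul_induction_on (N := I) (M := I) hy (fun a ha b hb => ?_) (fun a b ha hb => add_mem ha hb)
    show (g (δ0 (a * b))).snd = 0
    have e : δ0 (a * b) = a * b := by simp [δ0, show ε a = 0 from ha]
    rw [e, map_mul, TrivSqZeroExt.snd_mul, hgfst, hgfst, show ε a = 0 from ha, show ε b = 0 from hb]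
    simp
  let qe : (A ⧸ I * I) ≃ₗ[𝒜 0] A ⧸ (I * I).restrictScalars (𝒜 0) :=
    (Submodule.Quotient.restrictScalarsEquiv (𝒜 0) (I * I)).symm
  let c : (A ⧸ I * I) →ₗ[𝒜 0] (ι' → 𝒜 0) := (Submodule.liftQ _ D hDI) ∘ₗ qe.toLinearMap
  have hc : ∀ a, c (mk a) = D a := fun a => rfl
  have hMI : ∀ m ∈ M, ∃ a ∈ I, mk a = m := by
    rintro m ⟨v, rfl⟩
    exact ⟨l v, hlI v, rfl⟩
  have hlc : ∀ m ∈ M, lb (c m) = m := fun m hm => by
    obtain ⟨a, ha, rfl⟩ := hMI m hm
    rw [hc, hD a ha]
  haveI hfin : Module.Finite (𝒜 0) M := Module.Finite.of_surjective lb.rangeRestrict lb.surjective_rangeRestrict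
  haveI hproj : Module.Projective (𝒜 0) M :=
    Module.Projective.of_split (c.domRestrict M) lb.rangeRestrict
      (LinearMap.ext fun m => Subtype.ext (hlc m.1 m.2))
  -- degreewise components modulo `I * I`
  have hhom : ∀ n, (I * I).restrictScalars (𝒜 0) ≤ LinearMap.ker (mk.toLinearMap ∘ₗ comp 𝒜 n) := by
    intro n y hy
    exact hmk0.mpr (comp_mem_of_mem_mul 𝒜 ((I * I).restrictScalars (𝒜 0)) n
      (fun i j hi hj _ a ha b hb => Ideal.mul_mem_mul (hmemI ha hi) (hmemI hb hj)) hI hy)
  let q : N → (A ⧸ I * I) →ₗ[𝒜 0] A ⧸ I * I := fun n => (Submodule.liftQ _ _ (hhom n)) ∘ₗ qe.toLinearMap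
  have hq : ∀ n a, q n (mk a) = mk (comp 𝒜 n a) := fun n a => rfl
  have hqM : ∀ n, n ≠ 0 → ∀ m ∈ M, q n m ∈ M := fun n hn m hm => by
    obtain ⟨a, ha, rfl⟩ := hMI m hm
    rw [hq]
    exact hMmk _ (hmemI (comp_mem 𝒜 n a) hn)
  let Sd : Finset N := (G.image d).erase 0
  let s : M →ₗ[𝒜 0] A :=
    (∑ n ∈ Sd, comp 𝒜 n ∘ₗ l ∘ₗ c ∘ₗ q n) ∘ₗ M.subtype
  have hs_apply : ∀ m : M, s m = ∑ n ∈ Sd, comp 𝒜 n (l (c (q n m))) := fun m => by simp [s]
  have hqsum : ∀ m ∈ M, ∑ n ∈ Sd, q n m = m := by
    rintro m ⟨v, rfl⟩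
    have : (∑ n ∈ Sd, q n).comp lb = lb := by
      refine (Pi.basisFun (𝒜 0) ι').ext fun g => ?_
      have e : lb (Pi.basisFun (𝒜 0) ι' g) = mk (g : A) := by
        simp [lb, l, Fintype.linearCombination_apply_single]
      rw [LinearMap.comp_apply, e, LinearMap.sum_apply, Finset.sum_eq_single (d g)]
      · rw [hq, comp_of_mem 𝒜 (hd _ g.2.1)]
      · intro b _ hb
        rw [hq, comp_of_ne 𝒜 (hd _ g.2.1) (Ne.symm hb), map_zero]
      · intro h
        exact absurd (Finset.mem_erase.mpr ⟨g.2.2, Finset.mem_image_of_mem _ g.2.1⟩) h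
    simpa using LinearMap.congr_fun this v
  have hSd : ∀ n ∈ Sd, n ≠ 0 := fun n hn => (Finset.mem_erase.mp hn).1
  have hs0 : ∀ m : M, s m ∈ I := fun m => by
    rw [hs_apply]
    exact sum_mem fun n hn => hmemI (comp_mem 𝒜 n _) (hSd n hn)
  have hs : ∀ m : M, mk (s m) = m := fun m => by
    rw [hs_apply, map_sum]
    refine Eq.trans (Finset.sum_congr rfl fun n hn => ?_) (hqsum m.1 m.2)
    have h1 : q n m ∈ M := hqM n (hSd n hn) _ m.2
    rw [← hq, show mk (l (c (q n m))) = q n m from hlc _ h1]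
    obtain ⟨a, -, ha⟩ := hMI _ m.2
    rw [← ha, hq, hq, comp_of_mem 𝒜 (comp_mem 𝒜 n a)]
  set Φ := SymmetricAlgebra.lift s
  have hgen : ∀ n, ∀ a ∈ 𝒜 n, a ∈ Φ.range := by
    intro n
    induction n using (wf_sharp N hsharp).induction with
    | _ n ih =>
      intro a ha
      by_cases hn : n = 0
      · subst hn
        exact ⟨algebraMap (𝒜 0) _ ⟨a, ha⟩, AlgHom.commutes Φ _⟩
      · let m : M := ⟨mk a, hMmk a (hmemI ha hn)⟩
        have hmem : s m ∈ 𝒜 n := by
          rw [hs_apply]
          refine sum_mem fun k _ => ?_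
          by_cases hk : k = n
          · subst hk; exact comp_mem 𝒜 _ _
          · rw [show q k m.1 = 0 by rw [show m.1 = mk a from rfl, hq, comp_of_ne 𝒜 ha (Ne.symm hk), map_zero]]
            simp
        have hsub : a - s m ∈ I * I := by
          rw [← hmk0, map_sub, hs m]
          exact sub_self _
        have h2 := comp_mem_of_mem_mul 𝒜 (Subalgebra.toSubmodule Φ.range) n
          (fun i j hi hj e x hx y hy => Subalgebra.mul_mem Φ.range (ih i ⟨j, hj, e.symm⟩ x hx)
            (ih j ⟨i, hi, by rw [add_comm]; exact e.symm⟩ y hy)) hI hsub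
        rw [comp_of_mem 𝒜 (sub_mem ha hmem), Subalgebra.mem_toSubmodule] at h2
        have h3 : s m ∈ Φ.range := ⟨SymmetricAlgebra.ι _ _ m, SymmetricAlgebra.lift_ι_apply _ _⟩
        simpa using add_mem h2 h3
  have hsurj : Function.Surjective Φ := fun a => by
    show a ∈ Φ.range
    rw [← sum_support_decompose 𝒜 a]
    exact sum_mem fun i _ => hgen i _ (SetLike.coe_mem _)
  have hinj : ∀ m : M, s m ∈ I * I → m = 0 := fun m hm => by
    have h1 : mk (s m) = 0 := hmk0.mpr hm
    rw [hs m] at h1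
    exact Subtype.ext h1
  haveI : Algebra.FormallySmooth R A := Algebra.Smooth.formallySmooth
  have hs0' : ∀ m : M, ε (s m) = 0 := fun m => hs0 m
  have hbij := @core R A _ _ _ (𝒜 0) inferInstance inferInstance inferInstance ‹IsScalarTower R (𝒜 0) A›
  have hbij2 := @hbij ↥M inferInstance inferInstance hproj hfin ‹_› ε s
  have hbij3 : Function.Bijective Φ := hbij2 hs0' hinj hsurj
  exact ⟨↥M, inferInstance, inferInstance, hfin, hproj, ⟨(AlgEquiv.ofBijective Φ hbij3).symm⟩⟩

end Graded

/-- Let R be a commutative ring, N a fine and sharp commutative monoid (finitely generated,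
cancellative, and 0 its only invertible element) and A a commutative R-algebra graded by N which is
smooth over R. Then A is isomorphic, as an algebra over its degree-zero part A_0, to the symmetric
algebra of a finitely generated projective A_0-module; that is, Spec A → Spec A_0 is a vector bundle
whose zero section is the closed subscheme Spec A_0 cut out by the elements of non-zero degree.
(This is the affine, graded form of the statement that for a smooth S-scheme X with a
Zariski-locally linearizable action of a diagonalizable group D(M)_S and a finitely generated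
submonoid N of M the map from the attractor X^N to X^{N*} is a vector bundle: here the base is
affine, N* = 0, and X = Spec A equals its own attractor X^N, an N-grading of A being an action of
the monoid scheme of N; the fixed-point scheme X^0 is Spec A_0.) -/
theorem result (R : Type u) [CommRing R] (A : Type u)
    [CommRing A] [Algebra R A] (N : Type) [AddCommMonoid N] [DecidableEq N] [AddMonoid.FG N] [IsCancelAdd N]
    (hsharp : ∀ n : N, IsAddUnit n → n = 0) (𝒜 : N → Submodule R A) [GradedAlgebra 𝒜]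
    [Algebra.Smooth R A] :
    ∃ (P : Type u) (_ : AddCommGroup P) (_ : Module (𝒜 0) P), Module.Finite (𝒜 0) P ∧
      Module.Projective (𝒜 0) P ∧ Nonempty (A ≃ₐ[𝒜 0] SymmetricAlgebra (𝒜 0) P) :=
  main 𝒜 hsharp

end Groth.Agent.S18239
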