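import Groth.Statements.S18240
import Groth.Agent.H28.FacePush
-- import your own Groth.Agent.* helpers here

set_option autoImplicit false
universe u
open CategoryTheory MonoidalCategory CartesianMonoidalCategory AlgebraicGeometry Opposite
open Magnet

namespace Groth.Agent.S18240

/-- Let S be a scheme, M a finitely generated abelian group, N a submonoid of M and F a face of N (x + y
∈ F iff x ∈ F and y ∈ F), and X an S-scheme with an action of the diagonalizable group scheme D(M)_S
such that X → S is smooth. Then the canonical map X^N → X^F (restriction along the closed immersion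
A(F) → A(N) of the face) is formally smooth as a transformation of functors on S-schemes: for every
ring A, ideal I with I² = 0 and Spec A → S, writing T = Spec (A/I) ⊂ T' = Spec A, every x in X^N(T)
and y in X^F(T') with the same image in X^F(T) admit some l in X^N(T') with l|_T = x mapping to y.
(Stated for schemes; the published statement is for algebraic spaces over S.) -/
theorem result (S : Scheme.{u}) (M : Type) [AddCommGroup M] [AddGroup.FG M]
    {N F : AddSubmonoid M} (hF : Magnet.IsFace N F) {X : Over S} [Smooth X.hom]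
    (a : Magnet.MonAct (Magnet.AMonS S M) X) (A : Type u) [CommRing A] (I : Ideal A) (hI : I ^ 2 = ⊥)
    (str : Spec (CommRingCat.of A) ⟶ S)
    (x : (Magnet.attr a N).obj (op (Over.mk (Spec.map (CommRingCat.ofHom (Ideal.Quotient.mk I)) ≫ str))))
    (y : (Magnet.attr a F).obj (op (Over.mk str)))
    (h : (Magnet.attrFace a hF).app _ x = (Magnet.attr a F).map (Over.homMk (Spec.map (CommRingCat.ofHom (Ideal.Quotient.mk I))) rfl :
        Over.mk (Spec.map (CommRingCat.ofHom (Ideal.Quotient.mk I)) ≫ str) ⟶ Over.mk str).op y) :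
    ∃ l : (Magnet.attr a N).obj (op (Over.mk str)),
      (Magnet.attr a N).map (Over.homMk (Spec.map (CommRingCat.ofHom (Ideal.Quotient.mk I))) rfl :
        Over.mk (Spec.map (CommRingCat.ofHom (Ideal.Quotient.mk I)) ≫ str) ⟶ Over.mk str).op l = x ∧ (Magnet.attrFace a hF).app _ l = y := by
  let T0 : Over S := Over.mk (Spec.map (CommRingCat.ofHom (Ideal.Quotient.mk I)) ≫ str)
  let T1 : Over S := Over.mk str
  let ι : T0 ⟶ T1 := Over.homMk (Spec.map (CommRingCat.ofHom (Ideal.Quotient.mk I))) rfl
  haveI : IsAffine T0.left := inferInstanceAs (IsAffine (Spec _))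
  haveI : IsAffine T1.left := inferInstanceAs (IsAffine (Spec _))
  have hι : H28.EqvAvg.IsSqZero ι := H28.SmoothLift.isSqZero_quot A I hI str
  have hjN := H28.SmoothLift.isSqZero_whisker (↥N) hι
  have hjF := H28.SmoothLift.isSqZero_whisker (↥F) hι
  let incl := AMonS.map S (AddSubmonoid.inclusion hF.le)
  obtain ⟨P, hPa, ν₁, ν₂, j, hPO, hj₁, hj₂, hmono, hjsurj⟩ := H28.FacePush.exists_isPO
    (a := AMonS S F ◁ ι) (b := AMonS.faceMap S hF ▷ T0) (AMonS.faceMap S hF ▷ T1) (AMonS S N ◁ ι)
    (whisker_exchange _ _) hjF.surj hjN.surj (incl ▷ T1) (incl ▷ T0)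
    (by rw [← comp_whiskerRight, AMonS.faceMap_comp_map, id_whiskerRight]) (whisker_exchange _ _)
  obtain ⟨aP, he₁, he₂, hej⟩ := hPO.exists_act hj₁ hj₂ ((subAct S M F).prod (MonAct.trivial (AMonS S M) T0))
    ((subAct S M F).prod (MonAct.trivial (AMonS S M) T1)) ((subAct S M N).prod (MonAct.trivial (AMonS S M) T0))
    ((subAct S M N).prod (MonAct.trivial (AMonS S M) T1))
    (MonAct.prod_trivial_act_whiskerLeft (subAct S M F) ι)
    (H28.FacePush.isEquivariant_whiskerRight (isEquivariant_faceMapS S hF))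
    (H28.FacePush.isEquivariant_whiskerRight (isEquivariant_faceMapS S hF))
    (MonAct.prod_trivial_act_whiskerLeft (subAct S M N) ι)
  have hisj : H28.EqvAvg.IsSqZero j := ⟨hjsurj, fun u v hu hv => by
    refine hjN.sq u v ?_ ?_ <;> rw [← hj₂, H28.FacePush.appTop_comp_apply]
    · rw [show j.left.appTop u = 0 from hu, map_zero]
    · rw [show j.left.appTop v = 0 from hv, map_zero]⟩
  obtain ⟨s, hs₁, hs₂⟩ := hPO.exists_desc y.1 x.1 (congrArg Subtype.val h).symm
  have hse : MonAct.IsEquivariant aP a s :=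
    hPO.isEquivariant_of he₁ he₂ (by rw [hs₁]; exact y.2) (by rw [hs₂]; exact x.2)
  haveI : Subsingleton (P ⟶ 𝟙_ (Over S)) := ⟨fun p q => toUnit_unique p q⟩
  have htriv : ∀ {W : Over S} (aW : MonAct (AMonS S M) W) (p : W ⟶ 𝟙_ (Over S)),
      MonAct.IsEquivariant aW (MonAct.trivial (AMonS S M) (𝟙_ (Over S))) p := fun aW p => toUnit_unique _ _
  have hfs : MoreMor.IsFormallySmoothHom (toUnit X).left :=
    ((Groth.Agent.S1488.result X.hom).mp inferInstance).2
  obtain ⟨l₀, h₁, h₂⟩ := H28.SmoothLift.exists_lift_over hisj (toUnit X) hfs s (toUnit _) (toUnit_unique _ _)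
  obtain ⟨l, hl, hl₁, -⟩ := H28.EqvLift.exists_eqv_lift hisj hej (toUnit X) (htriv a _) s hse
    (toUnit _) (htriv _ _) l₀ h₁ h₂
  refine ⟨⟨l, hl⟩, Subtype.ext ?_, Subtype.ext ?_⟩
  · show (AMonS S N ◁ ι) ≫ l = x.1
    rw [← hj₂, Category.assoc, hl₁, hs₂]
  · show (AMonS.faceMap S hF ▷ T1) ≫ l = y.1
    rw [← hj₁, Category.assoc, hl₁, hs₁]

end Groth.Agent.S18240
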