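import Groth.Statements.S18241
import Groth.Agent.H28.AttrLfp
import Groth.Agent.S18240
-- import your own Groth.Agent.* helpers here

set_option autoImplicit false
universe u
open CategoryTheory MonoidalCategory CartesianMonoidalCategory AlgebraicGeometry Opposite
open Magnet

namespace Groth.Agent.S18241

/-- Let S be a scheme, M a finitely generated abelian group, N a submonoid of M and F a face of N, and X
an S-scheme smooth over S with an action of the diagonalizable group scheme D(M)_S. If the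
attractors X^N and X^F are represented by S-schemes Z_N and Z_F, and j : Z_N → Z_F is the S-morphism
that corresponds to the canonical map X^N → X^F under the two representing bijections, then j is
smooth. (Stated for schemes; the published statement is for algebraic spaces over S.) -/
theorem result (S : Scheme.{u}) (M : Type) [AddCommGroup M] [AddGroup.FG M]
    {N F : AddSubmonoid M} (hF : Magnet.IsFace N F) {X : Over S} [Smooth X.hom]
    (a : Magnet.MonAct (Magnet.AMonS S M) X) {ZN ZF : Over S} (eN : (Magnet.attr a N).RepresentableBy ZN)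
    (eF : (Magnet.attr a F).RepresentableBy ZF) (j : ZN ⟶ ZF)
    (hj : ∀ (T : Over S) (z : T ⟶ ZN), eF.homEquiv (z ≫ j) = (Magnet.attrFace a hF).app (op T) (eN.homEquiv z)) :
    Smooth j.left := by
  have hpt : ∀ (T : Over S) (z : T ⟶ ZN),
      (eF.homEquiv (z ≫ j)).1 = (AMonS.faceMap S hF ▷ T) ≫ (eN.homEquiv z).1 :=
    fun T z => congrArg Subtype.val (hj T z)
  let p : X ⟶ 𝟙_ (Over S) := toUnit X
  have hp : MonAct.IsEquivariant a (MonAct.trivial (AMonS S M) (𝟙_ (Over S))) p := toUnit_unique _ _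
  haveI : LocallyOfFinitePresentation p.left := inferInstanceAs (LocallyOfFinitePresentation X.hom)
  haveI : LocallyOfFinitePresentation j.left := by
    refine H28.AttrLfp.lfp_of_surj j fun I _ _ D c hc hD _ z i y hzy => ?_
    obtain ⟨k₁, φ₁, x₁, h₁, -⟩ := H28.AttrLfp.exists_attr_stage p hD hc hp (eN.homEquiv z)
      (⟨toUnit _, toUnit_unique _ _⟩ : (attr (MonAct.trivial (AMonS S M) (𝟙_ (Over S))) N).obj (op (D.obj i)))
      (toUnit_unique _ _)
    obtain ⟨hlim⟩ := H28.AttrLfp.isLimit_whisker hc (AMonS S F)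
    have hA : ∀ k, IsAffine ((D ⋙ tensorLeft (AMonS S F)).obj k).left := fun k => by
      haveI := hD k
      exact inferInstanceAs (IsAffine (AMonS S F ⊗ D.obj k).left)
    have hcF : (AMonS S F ◁ c.π.app i) ≫ (eF.homEquiv y).1 = (AMonS.faceMap S hF ▷ c.pt) ≫ (eN.homEquiv z).1 := by
      rw [← hpt, hzy, eF.homEquiv_comp]
      rfl
    obtain ⟨k, φ, e⟩ := H28.AttrLfp.exists_eq_stage p hA hlim
      ((AMonS S F ◁ D.map φ₁) ≫ (eF.homEquiv y).1) ((AMonS.faceMap S hF ▷ D.obj k₁) ≫ x₁.1) (toUnit_unique _ _) (by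
        show (AMonS S F ◁ c.π.app k₁) ≫ _ = (AMonS S F ◁ c.π.app k₁) ≫ _
        rw [← MonoidalCategory.whiskerLeft_comp_assoc, c.w, whisker_exchange_assoc, h₁, hcF]
        rfl)
    change (AMonS S F ◁ D.map φ) ≫ _ = (AMonS S F ◁ D.map φ) ≫ _ at e
    refine ⟨k, φ ≫ φ₁, eN.homEquiv.symm ((attr a N).map (D.map φ).op x₁), eN.homEquiv.injective (Subtype.ext ?_),
      eF.homEquiv.injective (Subtype.ext ?_)⟩
    · rw [eN.homEquiv_comp, Equiv.apply_symm_apply]
      show (AMonS S N ◁ c.π.app k) ≫ (AMonS S N ◁ D.map φ) ≫ x₁.1 = _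
      rw [← MonoidalCategory.whiskerLeft_comp_assoc, c.w, h₁]
    · rw [hpt, Equiv.apply_symm_apply, eF.homEquiv_comp]
      show (AMonS.faceMap S hF ▷ D.obj k) ≫ (AMonS S N ◁ D.map φ) ≫ x₁.1 =
        (AMonS S F ◁ D.map (φ ≫ φ₁)) ≫ (eF.homEquiv y).1
      rw [← whisker_exchange_assoc, ← e, D.map_comp, MonoidalCategory.whiskerLeft_comp, Category.assoc]
  refine (Groth.Agent.S1488.result j.left).mpr ⟨inferInstance, ?_⟩
  intro A _ I hI u b w
  let str := b ≫ ZF.hom
  let T0 : Over S := Over.mk (Spec.map (CommRingCat.ofHom (Ideal.Quotient.mk I)) ≫ str)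
  let T1 : Over S := Over.mk str
  let ι : T0 ⟶ T1 := Over.homMk (Spec.map (CommRingCat.ofHom (Ideal.Quotient.mk I))) rfl
  let za : T0 ⟶ ZN := Over.homMk u (by
    show u ≫ ZN.hom = _ ≫ b ≫ ZF.hom
    rw [← Over.w j, reassoc_of% w])
  let zb : T1 ⟶ ZF := Over.homMk b rfl
  have hab : za ≫ j = ι ≫ zb := Over.OverMorphism.ext w.symm
  obtain ⟨l, hl₁, hl₂⟩ := S18240.result S M hF a A I hI str (eN.homEquiv za) (eF.homEquiv zb) (by
    rw [← hj, hab, eF.homEquiv_comp])
  let zl : T1 ⟶ ZN := eN.homEquiv.symm l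
  have h₁ : ι ≫ zl = za := eN.homEquiv.injective (by rw [eN.homEquiv_comp, Equiv.apply_symm_apply]; exact hl₁)
  have h₂ : zl ≫ j = zb := eF.homEquiv.injective (by rw [hj, Equiv.apply_symm_apply]; exact hl₂)
  exact ⟨zl.left, congrArg Over.Hom.left h₁, congrArg Over.Hom.left h₂⟩

end Groth.Agent.S18241
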