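import Groth.Statements.S18242
import Groth.Agent.H28.FaceConn
-- import your own Groth.Agent.* helpers here

set_option autoImplicit false
universe u
open CategoryTheory MonoidalCategory CartesianMonoidalCategory AlgebraicGeometry Opposite
open Magnet

namespace Groth.Agent.S18242

/-- Let S be a scheme, M a finitely generated abelian group, N a finitely generated submonoid of M and Z
= N* its subgroup of invertible elements (a face of N); let X be a scheme locally of finite
presentation over S with an action of the diagonalizable group scheme D(M)_S, admitting an N*-FPR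
atlas: an equivariant, étale and surjective g : U → X where U is a disjoint union of D(M)_S-stable
open subschemes each affine over S, such that for the actions restricted along D(M/Z)_S → D(M)_S the
square of fixed-point subfunctors U^{D(M/Z)} → X^{D(M/Z)} over U → X is cartesian. If the attractors
X^N and X^{N*} are represented by S-schemes Z_N and Z_* and j : Z_N → Z_* is the S-morphism
corresponding to the canonical map X^N → X^{N*} under the two representing bijections, then for
every field K and every K-valued point of Z_* the fibre of j is connected (the fibres are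
geometrically connected), and j induces a bijection on the sets of connected components. (Stated for
schemes; the published statement is for algebraic spaces over S.) -/
theorem result (S : Scheme.{u}) (M : Type) [AddCommGroup M]
    [AddGroup.FG M] (N : AddSubmonoid M) (hN : N.FG) (Z : AddSubgroup M)
    (hZ : ∀ m : M, m ∈ Z ↔ m ∈ Magnet.unitFace N)
    {X : Over S} [LocallyOfFinitePresentation X.hom] (a : Magnet.MonAct (Magnet.AMonS S M) X)
    (U : Over S) (aU : Magnet.MonAct (Magnet.AMonS S M) U) (g : U ⟶ X)
    (hg : Magnet.MonAct.IsEquivariant aU a g) [Etale g.left] [Surjective g.left]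
    (ι : Type u) (V : ι → U.left.Opens) (hVd : ∀ i i', i ≠ i' → Disjoint (V i) (V i'))
    (hVc : ⨆ i, V i = ⊤) (hVa : ∀ i, IsAffineHom ((V i).ι ≫ U.hom))
    (hVs : ∀ i, (CartesianMonoidalCategory.snd (Magnet.AMonS S M) U).left ⁻¹ᵁ (V i) ≤ aU.act.left ⁻¹ᵁ (V i))
    (hgZ : Magnet.MonAct.IsEquivariant (aU.restrict (Magnet.AMonS.map S (QuotientAddGroup.mk' Z))) (a.restrict (Magnet.AMonS.map S (QuotientAddGroup.mk' Z))) g)
    (hfpr : IsPullback (Magnet.MonAct.fixedPsh.map g hgZ)
      (Magnet.MonAct.fixedPshι (aU.restrict (Magnet.AMonS.map S (QuotientAddGroup.mk' Z))))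
      (Magnet.MonAct.fixedPshι (a.restrict (Magnet.AMonS.map S (QuotientAddGroup.mk' Z)))) (yoneda.map g))
    {ZN Z0 : Over S} (eN : (Magnet.attr a N).RepresentableBy ZN)
    (e0 : (Magnet.attr a (Magnet.unitFace N)).RepresentableBy Z0) (j : ZN ⟶ Z0)
    (hj : ∀ (T : Over S) (z : T ⟶ ZN), e0.homEquiv (z ≫ j) = (Magnet.attrFace a (Magnet.isFace_unitFace N)).app (op T) (eN.homEquiv z)) :
    (∀ (K : Type u) [Field K] (k : Spec (CommRingCat.of K) ⟶ Z0.left),
        ConnectedSpace ↥(Limits.pullback j.left k)) ∧
      Function.Bijective (Continuous.connectedComponentsMap (Scheme.Hom.continuous j.left)) := by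
  obtain ⟨s, hs, hfib⟩ := H28.FaceConn.fibre_connected hN (Magnet.isFace_unitFace N) eN e0 j hj
  exact ⟨hfib, H28.FaceConn.connectedComponentsMap_bijective j s hs hfib⟩

end Groth.Agent.S18242
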