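import Groth.Statements.S18244
import Groth.Agent.H28.FaceHomotopy
-- import your own Groth.Agent.* helpers here

set_option autoImplicit false
universe u
open CategoryTheory MonoidalCategory CartesianMonoidalCategory AlgebraicGeometry Opposite
open Magnet

namespace Groth.Agent.S18244

/-- Let S be a scheme, M a finitely generated abelian group, X a scheme locally of finite presentation
over S with an action of the diagonalizable group scheme D(M)_S, N a finitely generated submonoid of
M and F a face of N; let ι : X^F → X^N be the canonical section and r : X^N → X^F the face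
projection. Then (ι, r) is a strong deformation retract: there is a morphism δ : X^N ×_S 𝔸¹_S → X^N
of functors on S-schemes — here a family of maps X^N(T) × Γ(T, O_T) → X^N(T) natural in T — such
that δ(x, 0) = ι(r(x)), δ(x, 1) = x, and δ(ι(y), c) = ι(y) for all x in X^N(T), y in X^F(T) and
functions c on T. (Stated for schemes; the published statement is for algebraic spaces over S.) -/
theorem result (S : Scheme.{u}) (M : Type) [AddCommGroup M] [AddGroup.FG M]
    {X : Over S} [LocallyOfFinitePresentation X.hom] (a : Magnet.MonAct (Magnet.AMonS S M) X)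
    {N F : AddSubmonoid M} (hN : N.FG) (hF : Magnet.IsFace N F) :
    ∃ δ : ∀ T : Over S, (Magnet.attr a N).obj (op T) → Γ(T.left, ⊤) → (Magnet.attr a N).obj (op T),
      (∀ (T T' : Over S) (t : T' ⟶ T) (x : (Magnet.attr a N).obj (op T)) (c : Γ(T.left, ⊤)),
          δ T' ((Magnet.attr a N).map t.op x) (t.left.appTop c) = (Magnet.attr a N).map t.op (δ T x c)) ∧
      (∀ (T : Over S) (x : (Magnet.attr a N).obj (op T)),
          δ T x 0 = (Magnet.attrMap a hF.le).app (op T) ((Magnet.attrFace a hF).app (op T) x)) ∧
      (∀ (T : Over S) (x : (Magnet.attr a N).obj (op T)), δ T x 1 = x) ∧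
      (∀ (T : Over S) (y : (Magnet.attr a F).obj (op T)) (c : Γ(T.left, ⊤)),
          δ T ((Magnet.attrMap a hF.le).app (op T) y) c = (Magnet.attrMap a hF.le).app (op T) y) := by
  exact H28.FaceHomotopy.exists_homotopy a hN hF

end Groth.Agent.S18244
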