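import Groth.Statements.S18245
import Groth.Agent.S18241
import Groth.Agent.H28.MagnetVB
-- import your own Groth.Agent.* helpers here

set_option autoImplicit false
universe u
open CategoryTheory MonoidalCategory CartesianMonoidalCategory AlgebraicGeometry Opposite
open Magnet

namespace Groth.Agent.S18245

/-- Let S be a scheme, M a finitely generated abelian group, X a scheme smooth and locally of finite
presentation over S with an action a of the diagonalizable group scheme D(M)_S which is Zariski
locally linearizable (every point of X lies in a D(M)_S-stable open subscheme affine over S), and N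
a submonoid of M such that N is finitely generated or X is quasi-compact over S. If the attractors
X^N and X^{N*} are represented by S-schemes Z_N and Z_* and j : Z_N → Z_* is the S-morphism
corresponding to the canonical map X^N → X^{N*} under the two representing bijections, then j is a
vector bundle, in the following Zariski-local sense: every point of Z_* has an affine open
neighbourhood W with a finitely generated projective module P over B = Γ(W, O) and an isomorphism
j⁻¹(W) ≅ Spec Sym_B(P) over W. (Stated for schemes and for the local structure only; the published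
statement is for algebraic spaces over S and says that X^N → X^{N*} is a vector bundle.) -/
theorem result (S : Scheme.{u}) (M : Type) [AddCommGroup M]
    [AddGroup.FG M] {X : Over S} [LocallyOfFinitePresentation X.hom] [Smooth X.hom]
    (a : Magnet.MonAct (Magnet.AMonS S M) X)
    (hlin : ∀ x : X.left, ∃ V : X.left.Opens, x ∈ V ∧ IsAffineHom (V.ι ≫ X.hom) ∧
      (CartesianMonoidalCategory.snd (Magnet.AMonS S M) X).left ⁻¹ᵁ V ≤ a.act.left ⁻¹ᵁ V)
    (N : AddSubmonoid M) (hN : N.FG ∨ QuasiCompact X.hom) {ZN Z0 : Over S}
    (eN : (Magnet.attr a N).RepresentableBy ZN) (e0 : (Magnet.attr a (Magnet.unitFace N)).RepresentableBy Z0)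
    (j : ZN ⟶ Z0) (hj : ∀ (T : Over S) (z : T ⟶ ZN),
      e0.homEquiv (z ≫ j) = (Magnet.attrFace a (Magnet.isFace_unitFace N)).app (op T) (eN.homEquiv z))
    (z : Z0.left) :
    ∃ (W : Z0.left.Opens) (hW : IsAffineOpen W), z ∈ W ∧
      ∃ (P : Type u) (_ : AddCommGroup P) (_ : Module Γ(Z0.left, W) P),
        Module.Finite Γ(Z0.left, W) P ∧ Module.Projective Γ(Z0.left, W) P ∧
        ∃ e : (↑(j.left ⁻¹ᵁ W) : Scheme.{u}) ≅ Spec (CommRingCat.of (SymmetricAlgebra Γ(Z0.left, W) P)),
          e.hom ≫ Spec.map (CommRingCat.ofHom (algebraMap Γ(Z0.left, W) (SymmetricAlgebra Γ(Z0.left, W) P))) =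
            (j.left ∣_ W) ≫ hW.isoSpec.hom := by
  haveI : Smooth j.left := Groth.Agent.S18241.result S M (Magnet.isFace_unitFace N) a eN e0 j hj
  exact Groth.Agent.H28.MagnetVB.main a hlin N eN e0 j hj z

end Groth.Agent.S18245
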