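import Groth.Statements.S18248
import Groth.Agent.M1CurvLib.Tangent

set_option autoImplicit false
universe u
open W4c5m1nsnscurves
open Curves

namespace Groth.Agent.S18248

/-- Let m ≥ 2, so that n = m + 3 ≥ 5 points are marked. For every field k, the Zariski cotangent space
of U_n over k at the origin, that is I/I² for the ideal I of the coordinate ring of U_n over k
generated by the classes of all the generators a, c, c̄, c_i, c̄_i, c_{ij}, has dimension (n − 1)(n
− 2)/2 = (m + 2)(m + 1)/2 over k; and the weight-one classes a, c_i, c̄_i (all indices i) and c_{ij}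
(i < j) generate the coordinate ring of U_n over ℤ as a ℤ-algebra (so they form a minimal generating
set). -/
theorem result (m : ℕ) (hm : 2 ≤ m) :
    (∀ (k : Type u) [Field k], Module.finrank k (uorigin k m).Cotangent = (m + 2) * (m + 1) / 2) ∧
    Algebra.adjoin ℤ ({ugen ℤ m .a} ∪ Set.range (fun i : Fin m => ugen ℤ m (.ci i)) ∪
        Set.range (fun i : Fin m => ugen ℤ m (.cbi i)) ∪
        Set.range (fun q : {q : Fin m × Fin m // q.1 < q.2} => ugen ℤ m (.cij q.1.1 q.1.2 (ne_of_lt q.2)))) = ⊤ := by
  refine ⟨fun k _ => Groth.Agent.M1CurvLib.finrank_cotangent k hm, ?_⟩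
  rw [eq_top_iff, ← Groth.Agent.M1CurvLib.adjoin_linGen_eq_top (R := ℤ) hm]
  refine Algebra.adjoin_mono ?_
  rintro _ ⟨t, rfl⟩
  match t with
  | none => exact Or.inl (Or.inl (Or.inl rfl))
  | some (.inl (.inl i)) => exact Or.inl (Or.inl (Or.inr ⟨i, rfl⟩))
  | some (.inl (.inr i)) => exact Or.inl (Or.inr ⟨i, rfl⟩)
  | some (.inr q) => exact Or.inr ⟨q, rfl⟩

end Groth.Agent.S18248
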