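import Groth.Statements.S18249
import Groth.Agent.M1CurvLib.Hilbert

set_option autoImplicit false
universe u
open W4c5m1nsnscurves
open Curves

namespace Groth.Agent.S18249

/-- Let m ≥ 2, so that n = m + 3 ≥ 5 points are marked. Grade the coordinate ring of U_n over ℤ by
giving the generators a, c_i, c̄_i, c_{ij} weight 1 and c, c̄ weight 2 (the defining relations are
weighted-homogeneous). Then the coordinate ring of U_n is a free ℤ-module, it is the internal direct
sum of its weight pieces (the weight-d piece being the image of the weighted-homogeneous polynomials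
of weight d), and the weight-d piece has rank the coefficient of t^d in the power series (1 −
t)^{−(n+1)} ∏_{k=3}^{n−3} (1 + k t + t²). -/
theorem result (m : ℕ) (hm : 2 ≤ m) :
    Module.Free ℤ (URing ℤ m) ∧ DirectSum.IsInternal (upiece ℤ m) ∧
      ∀ d : ℕ, (Module.finrank ℤ (upiece ℤ m d) : ℤ) = PowerSeries.coeff d (uhilb m) := by
  obtain ⟨ι, b, deg, hb, hs⟩ := Groth.Agent.M1CurvLib.exists_graded_basis m hm
  obtain ⟨h1, h2⟩ := Groth.Agent.M1CurvLib.upiece_basis b deg hb
  exact ⟨Module.Free.of_basis b, h1, fun d => by rw [h2 d]; exact (hs d).2⟩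

end Groth.Agent.S18249
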