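import Groth.Statements.S1825
import Groth.Agent.KFlatLib.Ring.DualizingFlat
import Groth.Agent.S0507
import Groth.Agent.S0509
-- import your own Groth.Agent.* helpers here

set_option autoImplicit false
universe u
open CategoryTheory
attribute [local instance] HasDerivedCategory.standard
open Dual

namespace Groth.Agent.S1825

/-- Let A be a Noetherian local ring, B a henselization of A (a Noetherian local ring with a local
homomorphism A → B exhibiting it as such) and ω a dualizing complex for A. Assuming the derived base
change functor D(A) → D(B) along A → B exists (carried as an instance binder), the base change of ω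
to B is a dualizing complex for B. -/
theorem result (A B : Type u) [CommRing A] [IsLocalRing A] [IsNoetherianRing A] [CommRing B] [IsLocalRing B] [IsNoetherianRing B] [Algebra A B] [IsLocalHom (algebraMap A B)] [Hensel.IsHenselization A B] [DRing.HasLBaseChange (algebraMap A B)] (ω : Dual.D A) (hω : Dual.IsDualizing A ω) : Dual.IsDualizing B ((DRing.LBaseChange (algebraMap A B)).obj ω) := by
  haveI := Groth.Agent.KFlatLib.hasLBase (algebraMap A B)
  haveI : Module.FaithfullyFlat A B := Groth.Agent.S0509.result A B
  refine Groth.Agent.KFlatLib.isDualizing_LBaseChange hω fun n hn => ⟨IsLocalRing.maximalIdeal A, ?_⟩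
  rw [Groth.Agent.S0507.result A B, IsLocalRing.eq_maximalIdeal hn]

end Groth.Agent.S1825
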