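import Groth.Statements.S18250
import Groth.Agent.CurveGor.DualUnique
import Groth.Agent.CurveGor18.Twist
import Groth.Agent.Lib.CurvePoint
import Groth.Agent.H23.PrincipalGlobal
import Groth.Agent.InvX.GenLocus
import Groth.Agent.S2122

set_option autoImplicit false
universe u
open AlgebraicGeometry CategoryTheory CategoryTheory.Limits
open Curves

namespace Groth.Agent.S18250
set_option backward.isDefEq.respectTransparency false
set_option backward.isDefEq.respectTransparency.types false
set_option synthInstance.maxHeartbeats 200000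
set_option maxHeartbeats 2000000
attribute [local instance] HasDerivedCategory.standard
open Groth.Agent Groth.Agent.CurveGor TFOneX TopologicalSpace in


/-- Let k be an algebraically closed field and C a reduced, connected scheme, proper over k and of
dimension one (a reduced connected projective curve), of arithmetic genus 1, i.e. dim_k H^1(C, O_C)
= 1. Let (ω, tr) be a 1-dualizing pair for C over k (ω a dualizing sheaf with its trace on H^1), let
p be a closed point of C whose local ring is regular (a smooth point), and let L be an invertible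
O_C-module inverse to the ideal sheaf of the reduced point p (L = O_C(p)). Then dim_k H^0(C, L) = 1
if and only if H^1(C, L) = 0; and H^1(C, L) = 0 if and only if every nonzero global section s of ω
generates ω near p, i.e. p lies in the open C_s (equivalently, since H^0(C, ω) and the fibre of ω at
p are one-dimensional, the restriction map from H^0(C, ω) to the fibre of ω at p is an isomorphism). -/
theorem result
    (k : Type u) [Field k] [IsAlgClosed k] (C : Scheme.{u}) [C.Over (Spec (CommRingCat.of k))]
    [IsProper (C ↘ Spec (CommRingCat.of k))] [AlgebraicGeometry.IsReduced C] [ConnectedSpace C]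
    (hdim : topologicalKrullDim C = 1) (hg : Curv2.genus k C = 1)
    (ω : C.Modules) (tr : Coh.HH C ω 1 →ₗ[k] k) (hω : Canon.IsRDualOver k C 1 ω tr)
    (p : C) (hp : IsClosed ({p} : Set C)) (hreg : IsRegularLocalRing (C.presheaf.stalk p))
    (L : C.Modules)
    (hL : ClSub.IsInverseOf L (ClSub.idealMod (Scheme.IdealSheafData.vanishingIdeal ⟨{p}, hp⟩))) :
    (Module.finrank k (Coh.HH C L 0) = 1 ↔ Subsingleton (Coh.HH C L 1)) ∧
      (Subsingleton (Coh.HH C L 1) ↔
        ∀ s : Coh.structureModule C ⟶ ω, s ≠ 0 → p ∈ CohB1.genLocus ω s) := by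
  classical
  haveI := CurveCohLib.isNoetherian_of_proper (k := k) (X := C)
  -- the dualizing module is coherent and free of rank one at `p`
  haveI : DCoh.HasRpush (C ↘ Spec (CommRingCat.of k)) := KFlatLib.hasRpush_scheme _
  have hR : DCoh.RpushPreservesQCoh (C ↘ Spec (CommRingCat.of k)) := fun K hK => S0998.result _ K hK
  haveI : DCoh.HasShriek (C ↘ Spec (CommRingCat.of k)) hR := S1766.result _ _ _ hR
  let OY : DCoh.DQCoh (Spec (CommRingCat.of k)) :=
    ⟨DCoh.inD _ (Coh.structureModule _), RelPC17.isQCohD_structure⟩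
  obtain ⟨t', ht', hc'⟩ := CurveDual.exists_dual hdim.le hR OY ⟨Iso.refl _⟩
  obtain ⟨eω⟩ := exists_iso_of_isRDualOver hω ht'
  have hωc : Coh.IsCoh ω := RefX.isCoh_of_iso eω hc'
  have h00 : Module.finrank k (Coh.HH C (Coh.structureModule C) 0) = 1 := finrank_h0_structure
  haveI := hreg
  obtain ⟨W, hpW, ⟨φW⟩⟩ := exists_restrict_iso_dualizing (C ↘ Spec (CommRingCat.of k)) hR OY ⟨Iso.refl _⟩ p
    LC.gorenstein_of_isRegularLocalRing (by
      rw [CurveDual.support_eq_univ ht' hc' hdim h00]; trivial)
  obtain ⟨f, hf⟩ := H23.PrincipalGlobal.exists_frame_of_iso ((Scheme.Modules.restrictFunctor W.ι).mapIso eω.symm ≪≫ φW)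
  let R := C.presheaf.stalk p
  let 𝔪 := IsLocalRing.maximalIdeal R
  let fp := ω.presheaf.germ W p hpW f
  -- the twist
  obtain ⟨eL⟩ := hL
  have hLi : PicF.IsInvertible L := S2122.result _ _ eL
  obtain ⟨j, hj, ⟨c⟩⟩ := CurveGor18.exists_section hp hLi ⟨eL⟩
  let P := CurvePoint.ptIdeal p hp
  have hcs : ∀ x ∈ CohB1.support (cokernel j), IsClosed ({x} : Set C) := fun x hx => by
    have h1 := CurveTensor.support_tensor_subset (E := L) (support_subset_of_mono c.hom hx)
    exact Set.mem_singleton_iff.1 (CurvePoint.support_quot_subset p hp h1) ▸ hp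
  have hO : Coh.IsCoh (Coh.structureModule C) := QCoh.isCoh_structureModule'
  have hLc := CurveDeg.isCoh_of_isInvertible hLi
  have hQ : Coh.IsCoh (cokernel j) := QCoh.isCoh_cokernel hO.1 hLc j
  have hχ : Curv2.euler k C L = 1 := by
    have e := CurveCohLib.euler_additive (k := k) (CurveSlope.shortExact_cokernel_of_mono j) hO hLc hQ
    dsimp only at e
    rw [CurveCohLib.euler_congr (k := k) c, CurveTensor.euler_tensor_torsion k (InvEnd.isFinLocFreeOfRank_one hLi)
      (ParShLib.isCoh_quotMod _) (closed_support' p hp), euler_point p hp, euler_structure_eq hdim.le, hg] at e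
    simpa using e
  haveI := S0002.result k C L hLc 1
  refine ⟨?_, ?_⟩
  · rw [NefH1.euler_eq k hdim.le hLc.1] at hχ
    refine ⟨fun h => (Module.finrank_zero_iff (R := k)).1 (by rw [h] at hχ; omega), fun h => ?_⟩
    haveI := h
    rw [Module.finrank_zero_of_subsingleton (R := k) (M := Coh.HH C L 1)] at hχ
    omega
  -- values at `p`
  have key : ∀ s : Coh.structureModule C ⟶ ω, ∃ g : R,
      ω.presheaf.germ ⊤ p trivial (InvX.one s) = g • fp ∧ (p ∈ CohB1.genLocus ω s ↔ g ∉ 𝔪) := fun s => by
    obtain ⟨g, hg'⟩ := hf.exists_coord le_rfl (AModX.res ω (le_top : W ≤ ⊤) (InvX.one s))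
    rw [AModX.res_self] at hg'
    refine ⟨C.presheaf.germ W p hpW g, ?_, ?_⟩
    · rw [← InvX.germ_res' (le_top : W ≤ ⊤) hpW (InvX.one s), hg', QCoh.germ_smul']
    · rw [IsLocalRing.mem_maximalIdeal, mem_nonunits_iff, not_not, ← C.mem_basicOpen g p hpW,
        ← InvX.genLocus_inf s hf hg']
      exact ⟨fun h => ⟨h, hpW⟩, fun h => h.1⟩
  have hone : ∀ {M : C.Modules} (s : Coh.structureModule C ⟶ M),
      sm s p ((Coh.structureModule C).presheaf.germ ⊤ p trivial (1 : Γ(C, ⊤))) =
        M.presheaf.germ ⊤ p trivial (InvX.one s) := fun s =>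
    TopCat.Presheaf.stalkFunctor_map_germ_apply ⊤ p trivial ((Scheme.Modules.toPresheaf C).map s) _
  let o1 := (Coh.structureModule C).presheaf.germ ⊤ p trivial (1 : Γ(C, ⊤))
  have hgenO : ∀ o : (DerSch.stalkFunctor C p).obj (Coh.structureModule C), ∃ a : R, a • o1 = o :=
    ((InvX.isFrame_one (X := C) ⊤).germ_bijective (x := p) trivial).2
  refine ⟨fun hH1 s hs => by_contra fun hgen => ?_, fun hall => by_contra fun hH1 => ?_⟩
  · -- a section vanishing at `p` extends to the twist
    obtain ⟨g, hg1, hg2⟩ := key s
    have hgm : g ∈ 𝔪 := by_contra fun h => hgen (hg2.2 h)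
    let G := DCoh.tensorBi.obj ω
    haveI := CurvePoint.epi_toSubscheme P
    have hS := CurveSlope.shortExact_kernel_of_epi (ClSub.toSubscheme P)
    haveI := hS.mono_f
    let u := KFlatLib.tensorUnitIso ω
    haveI : Mono (G.map (ClSub.idealModι P)) := by
      refine Preadditive.mono_of_isZero_kernel _ (KFlatLib.isZero_of_stalk _ fun x => ?_)
      haveI : Mono ((DerSch.stalkFunctor C x).map (ClSub.idealModι P)) :=
        (hS.map_of_exact (DerSch.stalkFunctor C x)).mono_f
      haveI : Mono ((DerSch.stalkFunctor C x).map (G.map (ClSub.idealModι P))) := by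
        have hm : Mono ((MonoidalCategory.tensorLeft ((DerSch.stalkFunctor C x).obj ω)).map
            ((DerSch.stalkFunctor C x).map (ClSub.idealModι P))) := by
          by_cases hx : x = p
          · subst hx
            let e : ((DerSch.stalkFunctor C x).obj ω : Type u) ≃ₗ[C.presheaf.stalk x] C.presheaf.stalk x :=
              (LinearEquiv.ofBijective (LinearMap.toSpanSingleton (C.presheaf.stalk x) _
                (ω.presheaf.germ W x hpW f)) (hf.germ_bijective hpW)).symm
            haveI : Module.Free (C.presheaf.stalk x) ((DerSch.stalkFunctor C x).obj ω : Type u) :=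
              Module.Free.of_equiv e.symm
            exact (ModuleCat.mono_iff_injective _).2
              (Module.Flat.lTensor_preserves_injective_linearMap _ ((ModuleCat.mono_iff_injective _).1
                (inferInstance : Mono ((DerSch.stalkFunctor C x).map (ClSub.idealModι P)))))
          · haveI : IsIso ((DerSch.stalkFunctor C x).map (ClSub.idealModι P)) :=
              (hS.map_of_exact (DerSch.stalkFunctor C x)).isIso_f_iff.2
                (ModuleCat.isZero_of_iff_subsingleton.2 (CurvePoint.subsingleton_stalk_of_ne p hp hx))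
            haveI := Functor.map_isIso (MonoidalCategory.tensorLeft ((DerSch.stalkFunctor C x).obj ω))
              ((DerSch.stalkFunctor C x).map (ClSub.idealModι P))
            exact IsIso.mono_of_iso _
        exact ((MorphismProperty.monomorphisms (ModuleCat.{u} (C.presheaf.stalk x))).arrow_mk_iso_iff
          (((Functor.mapArrowFunctor _ _).mapIso (KFlatLib.stalkTensorLeftIso ω x)).app
            (Arrow.mk (ClSub.idealModι P)))).2 hm
      exact (isZero_kernel_of_mono ((DerSch.stalkFunctor C x).map (G.map (ClSub.idealModι P)))).of_iso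
        (PreservesKernel.iso (DerSch.stalkFunctor C x) (G.map (ClSub.idealModι P)))
    haveI := hS.epi_g
    have hex : ((ShortComplex.mk _ _ (kernel.condition (ClSub.toSubscheme P))).map G).Exact :=
      hS.exact.map_of_epi_of_preservesCokernel G inferInstance inferInstance
    haveI : Mono ((ShortComplex.mk _ _ (kernel.condition (ClSub.toSubscheme P))).map G).f :=
      inferInstanceAs (Mono (G.map (ClSub.idealModι P)))
    let q : ω ⟶ G.obj (ClSub.quotMod P) := u.inv ≫ G.map (ClSub.toSubscheme P)
    have hsq : s ≫ q = 0 := by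
      refine Scheme.Modules.hom_ext _ _ fun U => ?_
      ext a
      refine TopCat.Presheaf.section_ext (show TopCat.Sheaf AddCommGrpCat.{u} C.toPresheafedSpace.carrier
        from ⟨(G.obj (ClSub.quotMod P)).presheaf, (G.obj (ClSub.quotMod P)).isSheaf⟩) U _ _ fun x hx => ?_
      show (G.obj (ClSub.quotMod P)).presheaf.germ U x hx ((s ≫ q).app U a) =
        (G.obj (ClSub.quotMod P)).presheaf.germ U x hx 0
      rw [map_zero, ← DerSch.stalkFunctor_map_germ x (s ≫ q) U hx a]
      show sm (s ≫ q) x _ = 0
      by_cases hxp : x = p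
      · subst hxp
        obtain ⟨a', ha'⟩ := hgenO ((Coh.structureModule C).presheaf.germ U x hx a)
        rw [← ha', LinearMap.map_smul, sm_comp, hone, hg1, LinearMap.map_smul]
        exact (smul_smul _ _ _).trans (CurvePoint.smul_tensor_eq_zero x hp (Ideal.mul_mem_left _ a' hgm) _)
      · exact eq_zero_of_notMem (fun hxs => hxp (Set.mem_singleton_iff.1
          (CurvePoint.support_quot_subset p hp (CurveTensor.support_tensor_subset (E := ω) hxs)))) _
    have hsq' : (s ≫ u.inv) ≫ G.map (ClSub.toSubscheme P) = 0 := (Category.assoc _ _ _).trans hsq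
    let s' := hex.lift (s ≫ u.inv) hsq'
    have hs' : s' ≠ 0 := fun h0 => hs (by
      have h1 := hex.lift_f (s ≫ u.inv) hsq'
      change s' ≫ _ = _ at h1
      rw [h0, zero_comp] at h1
      exact (cancel_mono u.inv).1 (h1.symm.trans zero_comp.symm))
    haveI := H23.Chern.isEquivalence_ten hLi
    haveI : (SheafHomX.ten L).IsEquivalence :=
      Functor.isEquivalence_of_iso ((KFlatLib.tensorBiFlipIso C).app L).symm
    obtain ⟨v⟩ : Nonempty ((SheafHomX.ten L).obj (CohB1.tensorMod ω (ClSub.idealMod P)) ≅ ω) := by
      letI := H23.PicMul.clMonoid C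
      refine H23.PicMul.cl_eq_iff.1 ?_
      have h1 : PicF.cl (CohB1.tensorMod L (ClSub.idealMod P)) = PicF.cl (Coh.structureModule C) :=
        H23.PicMul.cl_eq_iff.2 ⟨eL⟩
      show PicF.cl (CohB1.tensorMod (CohB1.tensorMod ω (ClSub.idealMod P)) L) = PicF.cl ω
      rw [H23.PicMul.cl_tensor] at h1 ⊢
      rw [H23.PicMul.cl_tensor, mul_assoc, mul_comm (PicF.cl (ClSub.idealMod P)), h1]
      exact mul_one _
    have h := CurveDual.hom_eq_zero hω hLc.1 hH1
      ((CurveTensor.structureTensorIso L).inv ≫ (SheafHomX.ten L).map s' ≫ v.hom)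
    rw [← cancel_mono v.inv, zero_comp, Category.assoc, Category.assoc, Iso.hom_inv_id, Category.comp_id,
      ← cancel_epi (CurveTensor.structureTensorIso L).hom, comp_zero, Iso.hom_inv_id_assoc] at h
    exact hs' ((SheafHomX.ten L).map_injective (h.trans ((SheafHomX.ten L).map_zero _ _).symm))
  · -- a map from the twist vanishes at `p` on the constant section
    obtain ⟨h, hh⟩ : ∃ h : L ⟶ ω, h ≠ 0 := by
      by_contra hcon
      exact hH1 (CurveDual.subsingleton_H1_of_hom hω hLc.1 fun h => by_contra fun hh => hcon ⟨h, hh⟩)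
    have hs : j ≫ h ≠ 0 := fun h0 => hh (by
      have hz := CurveDual.hom_eq_zero_of_finite_support hω hQ hcs (cokernel.desc j h h0)
      rw [← cokernel.π_desc j h h0, hz, comp_zero])
    obtain ⟨g, hg1, hg2⟩ := key (j ≫ h)
    obtain ⟨el⟩ := H23.InvStalk.exists_stalk_equiv hLi p
    have hm : el (sm j p o1) ∈ 𝔪 := by
      by_contra hu
      obtain ⟨u, hu'⟩ := IsLocalRing.notMem_maximalIdeal.1 hu
      refine notMem_support_cokernel j (x := p) (fun l => ⟨(el l * (↑u⁻¹ : R)) • o1, el.injective (by
        rw [LinearMap.map_smul, LinearEquiv.map_smul, smul_eq_mul, mul_assoc, ← hu', Units.inv_mul, mul_one])⟩) ?_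
      refine support_subset_of_mono c.inv ?_
      exact fun hsub => CurvePoint.not_subsingleton_stalk p hp (@Equiv.subsingleton _ _
        (((KFlatLib.stalkTensorIso p L (ClSub.quotMod P)).toLinearEquiv.symm.trans
          ((TensorProduct.congr el (LinearEquiv.refl _ _)).trans (TensorProduct.lid _ _)))).symm.toEquiv hsub)
    refine hg2.1 (hall _ hs) ?_
    let e := (LinearEquiv.ofBijective (LinearMap.toSpanSingleton R ((DerSch.stalkFunctor C p).obj ω) fp)
      (hf.germ_bijective hpW))
    have h1 : e g = el (sm j p o1) • sm h p (el.symm 1) := by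
      rw [← LinearMap.map_smul, ← LinearEquiv.map_smul, smul_eq_mul, mul_one, LinearEquiv.symm_apply_apply,
        ← sm_comp, hone]
      exact hg1.symm
    have h2 : g = el (sm j p o1) * e.symm (sm h p (el.symm 1)) := by
      rw [← smul_eq_mul, ← LinearEquiv.map_smul, ← h1, LinearEquiv.symm_apply_apply]
    rw [h2]
    exact Ideal.mul_mem_right _ _ hm


end Groth.Agent.S18250
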