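import Groth.Statements.S18251
import Groth.Agent.M1CurvLib.Three

set_option autoImplicit false
universe u
open W4c5m1nsnscurves
open Curves

namespace Groth.Agent.S18251

/-- Case n = 3: let R be a commutative ring and a, b, c, d elements of R (a point of U_3, which is
affine 4-space, so no condition is imposed). Then in the R-algebra R[x_2, x_3]/(x_2 x_3² − x_2² x_3
− a x_2 x_3 − b x_2 − c x_3 − d) the classes of the monomials 1, x_2^k x_3, x_2^k and x_3^k (k ≥ 1)
are linearly independent over R and span, i.e. form an R-basis. -/
theorem result (R : Type u) [CommRing R] (a b c d : R) :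
    LinearIndependent R (cmon3 R a b c d) ∧
      Submodule.span R (Set.range (cmon3 R a b c d)) = ⊤ := by
  exact Groth.Agent.M1CurvLib.basis3 a b c d

end Groth.Agent.S18251
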