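import Groth.Statements.S18254
import Groth.Agent.PBlow.Conormal

set_option autoImplicit false
universe u
open Omega

namespace Groth.Agent.S18254

open AlgebraicGeometry CategoryTheory CategoryTheory.Limits Opposite in
/-- Let Y be a locally Noetherian scheme, E a finite locally free O_Y-module and u : E → O_Y a
homomorphism with image ideal sheaf J such that around every point of the support of O_Y/J some
affine open U carries a basis of E(U) whose images under u form a regular sequence; thus the closed
subscheme X = V(J) is cut out by a regular section of the dual bundle of E and is a complete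
intersection in Y whose codimension is the rank of E. Let f : Y' → Y be a blowing up of Y in J with
exceptional ideal J' = J·O_{Y'} (an invertible ideal, the ideal of the exceptional divisor), let (π
: P → Y, O(1), q : π^*E → O(1)) be the projective bundle of E (universal for invertible quotients of
pull-backs of E), and let j : Y' → P be the Y-morphism attached to the invertible quotient f^*E → J'
induced by f^*u: j ≫ π = f together with an isomorphism j^*O(1) ≅ J' under which j^*q followed by
the inclusion J' ⊆ O_{Y'} is f^*u followed by the canonical map f^*O_Y → O_{Y'}; j is a closed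
immersion. Then the conormal sheaf of j is isomorphic to the kernel of the epimorphism j^*q :
j^*π^*E → j^*O(1); equivalently there is an exact sequence 0 → C_{Y'/P} → f^*E → J' → 0, and dually
the normal bundle of Y' in P is the quotient of f^*(E^∨) by the line sub-bundle dual to J'. Only the
existence of an isomorphism is asserted, as in the published statement. (The published statement is
for separated, pure-dimensional schemes of finite type over a field that embed in a nonsingular
scheme; this row assumes only that Y is locally Noetherian.) -/
theorem result {Y Y' P : Scheme.{u}}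
    [IsLocallyNoetherian Y]
    (E : Y.Modules) (hE : FlatMod.IsFinLocFree E) (u : E ⟶ Coh.structureModule Y)
    (J : Y.IdealSheafData)
    (hJ : ∀ U : Y.affineOpens, J.ideal U = @Ideal.span Γ(Y, U.1) _
      (Set.range fun s : E.val.obj (op U.1) => ((u.val.app (op U.1)).hom s : Γ(Y, U.1))))
    (hu : ∀ y : Y, y ∈ J.support → ∃ U : Y.affineOpens, y ∈ U.1 ∧
      ∃ (n : ℕ) (b : Module.Basis (Fin n) Γ(Y, U.1) (E.val.obj (op U.1))),
        RegImm.Kind.Seq RegImm.Kind.regular Γ(Y, U.1)
          (List.ofFn fun k => ((u.val.app (op U.1)).hom (b k) : Γ(Y, U.1))))
    (π : P ⟶ Y) (O1 : P.Modules) (q : (Scheme.Modules.pullback π).obj E ⟶ O1)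
    (hP : KRR.IsProjBundle π E O1 q)
    (f : Y' ⟶ Y) (hf : BlowUp.IsBlowUp f J)
    (j : Y' ⟶ P) (hjπ : j ≫ π = f)
    (e : (Scheme.Modules.pullback j).obj O1 ≅ ClSub.idealMod (BlowUp.exceptional f J))
    (hcomp : (Scheme.Modules.pullbackCongr hjπ).inv.app E ≫ (Scheme.Modules.pullbackComp j π).inv.app E ≫
        (Scheme.Modules.pullback j).map q ≫ e.hom ≫ ClSub.idealModι (BlowUp.exceptional f J) =
      (Scheme.Modules.pullback f).map u ≫
        ((Scheme.Modules.pullbackPushforwardAdjunction f).homEquiv _ _).symm
          (SheafOfModules.unitToPushforwardObjUnit f.toRingCatSheafHom)) :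
    Nonempty (Omega.conormal j ≅ kernel ((Scheme.Modules.pullback j).map q)) := by
  exact Groth.Agent.PBlow.nonempty_conormal_iso E hE u J hJ hu π O1 q hP f hf j hjπ e hcomp


end Groth.Agent.S18254
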