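import Groth.Statements.S18256
import Mathlib.RingTheory.Nakayama
import Mathlib.LinearAlgebra.TensorProduct.Quotient
import Mathlib.LinearAlgebra.Dimension.Free
import Mathlib.RingTheory.HopkinsLevitzki
import Mathlib.RingTheory.TensorProduct.Quotient
import Mathlib.Algebra.Module.Torsion.Basic

set_option autoImplicit false
universe u
open ArtFun

namespace Groth.Agent.S18256

open CategoryTheory TensorProduct in
/-- Let R be an Artinian local ring with residue field k and M a finitely generated R-module. Suppose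
that for every small extension p : A' → A of local Artinian R-algebras with residue field k (p
surjective, its kernel I a nonzero principal ideal killed by the maximal ideal of A'), the map M ⊗_R
I → M ⊗_R A' induced by the inclusion I ⊆ A' is injective (equivalently, the sequence 0 → M ⊗_R I →
M ⊗_R A' → M ⊗_R A → 0 is exact). Then M is a free R-module. (The printed conclusion reads free over
the residue field; the proof establishes freeness over R, which is what is stated here.) -/
theorem result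
    (R : Type u) [CommRing R] [IsArtinianRing R] [IsLocalRing R]
    (k : Type u) [Field k] [Algebra R k] (hk : Function.Surjective (algebraMap R k))
    (M : Type u) [AddCommGroup M] [Module R M] [Module.Finite R M]
    (h : ∀ (A' A : ArtFun.Art R k) (p : A' ⟶ A), ArtFun.Art.IsSmallExt p →
      Function.Injective
        (LinearMap.lTensor M (((RingHom.ker p.toAlgHom).restrictScalars R).subtype))) :
    Module.Free R M := by
  classical
  let 𝔪 := IsLocalRing.maximalIdeal R
  have hkm : ∀ r : R, algebraMap R k r = 0 ↔ r ∈ 𝔪 := fun r => by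
    rw [← RingHom.mem_ker, IsLocalRing.eq_maximalIdeal (RingHom.ker_isMaximal_of_surjective _ hk)]
  -- minimal generators
  haveI : IsNoetherianRing R := inferInstance
  haveI : IsNoetherian R M := isNoetherian_of_isNoetherianRing_of_finite R M
  letI : Field (R ⧸ 𝔪) := Ideal.Quotient.field 𝔪
  let b := Module.finBasis (R ⧸ 𝔪) (M ⧸ (𝔪 • ⊤ : Submodule R M))
  choose g hg using fun i => Submodule.mkQ_surjective (𝔪 • ⊤ : Submodule R M) (b i)
  let n := Module.finrank (R ⧸ 𝔪) (M ⧸ (𝔪 • ⊤ : Submodule R M))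
  let f : (Fin n → R) →ₗ[R] M := Fintype.linearCombination R g
  have hf : ∀ v : Fin n → R, f v = ∑ i, v i • g i := fun v => Fintype.linearCombination_apply R g v
  have hm0 : ∀ v : Fin n → R, f v ∈ (𝔪 • ⊤ : Submodule R M) → ∀ i, v i ∈ 𝔪 := by
    intro v hv i
    rw [← Submodule.Quotient.mk_eq_zero, ← Submodule.mkQ_apply, hf, map_sum] at hv
    simp only [map_smul, hg] at hv
    have hv' : ∑ i, (Ideal.Quotient.mk 𝔪 (v i)) • b i = 0 := hv
    exact Ideal.Quotient.eq_zero_iff_mem.1 (Fintype.linearIndependent_iff.1 b.linearIndependent _ hv' i)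
  have hsurj : Function.Surjective f := by
    rw [← LinearMap.range_eq_top]
    refine top_le_iff.1 ?_
    refine Submodule.le_of_le_smul_of_le_jacobson_bot (IsNoetherian.noetherian _)
      (IsLocalRing.maximalIdeal_le_jacobson ⊥) fun x _ => ?_
    choose c hc using fun i => Ideal.Quotient.mk_surjective (b.repr (Submodule.Quotient.mk x) i)
    refine Submodule.mem_sup.2 ⟨f c, ⟨c, rfl⟩, x - f c, ?_, add_sub_cancel _ _⟩
    rw [← Submodule.Quotient.mk_eq_zero, Submodule.Quotient.mk_sub, sub_eq_zero, ← Submodule.mkQ_apply _ (f c),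
      hf, map_sum]
    simp only [map_smul, hg]
    conv_lhs => rw [← b.sum_repr (Submodule.Quotient.mk x)]
    exact Finset.sum_congr rfl fun i _ => by rw [← hc, ← hg]; rfl
  -- the kernel is contained in `J • R ^ n` for every ideal `J`
  have step : ∀ (J' J : Ideal R) (t : R), J = J' ⊔ Ideal.span {t} → t ∉ J' → J ≤ 𝔪 →
      (∀ r ∈ 𝔪, r * t ∈ J') → (∀ v, f v = 0 → ∀ i, v i ∈ J) → ∀ v, f v = 0 → ∀ i, v i ∈ J' := by
    intro J' J t hJ ht hJm hmt hv v hv0
    have hdec : ∀ i, ∃ j ∈ J', ∃ w, v i = j + w * t := fun i => by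
      have h1 := hv v hv0 i
      rw [hJ] at h1
      obtain ⟨j, hj, y, hy, e⟩ := Submodule.mem_sup.1 h1
      obtain ⟨w, rfl⟩ := Ideal.mem_span_singleton'.1 hy
      exact ⟨j, hj, w, e.symm⟩
    choose j hj w hw using hdec
    have hJ'm : J' ≤ 𝔪 := (le_sup_left.trans hJ.ge).trans hJm
    haveI : Nontrivial (R ⧸ J') := Ideal.Quotient.nontrivial_iff.2 fun e => ht (e ▸ trivial)
    haveI : IsLocalRing (R ⧸ J') := IsLocalRing.of_surjective' (Ideal.Quotient.mk J') Ideal.Quotient.mk_surjective
    haveI : Nontrivial (R ⧸ J) := Ideal.Quotient.nontrivial_iff.2 fun e =>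
      (IsLocalRing.maximalIdeal.isMaximal R).ne_top (top_le_iff.1 (e ▸ hJm))
    haveI : IsLocalRing (R ⧸ J) := IsLocalRing.of_surjective' (Ideal.Quotient.mk J) Ideal.Quotient.mk_surjective
    let A' : ArtFun.Art R k := ArtFun.Art.of (R ⧸ J')
      (Ideal.Quotient.liftₐ J' (Algebra.ofId R k) fun a ha => (hkm a).2 (hJ'm ha))
      (fun c => (hk c).elim fun a ha => ⟨Ideal.Quotient.mk J' a, ha⟩)
    let A : ArtFun.Art R k := ArtFun.Art.of (R ⧸ J)
      (Ideal.Quotient.liftₐ J (Algebra.ofId R k) fun a ha => (hkm a).2 (hJm ha))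
      (fun c => (hk c).elim fun a ha => ⟨Ideal.Quotient.mk J a, ha⟩)
    let p : A' ⟶ A := ArtFun.Art.homMk (Ideal.Quotient.factorₐ R (le_sup_left.trans hJ.ge))
      (AlgHom.ext fun z => by obtain ⟨a, rfl⟩ := Ideal.Quotient.mk_surjective z; rfl)
    let τ : R ⧸ J' := Ideal.Quotient.mk J' t
    have hker : RingHom.ker p.toAlgHom = Ideal.span {τ} := by
      ext z
      obtain ⟨a, rfl⟩ := Ideal.Quotient.mk_surjective z
      refine Iff.trans RingHom.mem_ker (Iff.trans ?_ Ideal.mem_span_singleton'.symm)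
      constructor
      · intro ha
        have ha' : a ∈ J := Ideal.Quotient.eq_zero_iff_mem.1 ha
        rw [hJ] at ha'
        obtain ⟨i, hi, y, hy, e⟩ := Submodule.mem_sup.1 ha'
        obtain ⟨c, rfl⟩ := Ideal.mem_span_singleton'.1 hy
        refine ⟨Ideal.Quotient.mk J' c, ?_⟩
        rw [← e, map_add, Ideal.Quotient.eq_zero_iff_mem.2 hi, zero_add]
        exact (map_mul (Ideal.Quotient.mk J') c t).symm
      · rintro ⟨c, hc⟩
        obtain ⟨c, rfl⟩ := Ideal.Quotient.mk_surjective c
        have hc' : Ideal.Quotient.mk J' (c * t) = Ideal.Quotient.mk J' a := (map_mul _ c t).trans hc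
        show p.toAlgHom (Ideal.Quotient.mk J' a) = 0
        rw [← hc']
        exact Ideal.Quotient.eq_zero_iff_mem.2 (hJ ▸ Ideal.mem_sup_right (Ideal.mul_mem_left _ c (Ideal.mem_span_singleton_self t)))
    have hτ : τ ∈ RingHom.ker p.toAlgHom := hker ▸ Ideal.mem_span_singleton_self τ
    have hsm : ArtFun.Art.IsSmallExt p := by
      refine ⟨fun z => ?_, fun e => ?_, ?_, ?_⟩
      · obtain ⟨a, rfl⟩ := Ideal.Quotient.mk_surjective z
        exact ⟨Ideal.Quotient.mk J' a, rfl⟩
      · rw [e] at hτ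
        exact ht (Ideal.Quotient.eq_zero_iff_mem.1 hτ)
      · rw [hker]
        exact ⟨⟨τ, rfl⟩⟩
      · rw [eq_bot_iff, Ideal.mul_le]
        intro x hx y hy
        rw [hker] at hy
        obtain ⟨x, rfl⟩ := Ideal.Quotient.mk_surjective x
        obtain ⟨c, rfl⟩ := Ideal.mem_span_singleton'.1 hy
        obtain ⟨c, rfl⟩ := Ideal.Quotient.mk_surjective c
        rw [Ideal.mem_bot]
        show (Ideal.Quotient.mk J' x * (Ideal.Quotient.mk J' c * Ideal.Quotient.mk J' t) : R ⧸ J') = 0
        rw [← map_mul, ← map_mul, Ideal.Quotient.eq_zero_iff_mem]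
        have hx' : x ∈ 𝔪 := fun hu => hx (hu.map _)
        have := Ideal.mul_mem_left J' c (hmt x hx')
        rwa [mul_left_comm] at this
    let N : Submodule R A' := (RingHom.ker p.toAlgHom).restrictScalars R
    let φ : R →ₗ[R] N := LinearMap.toSpanSingleton R N ⟨τ, hτ⟩
    have hφ : Function.Surjective φ := by
      rintro ⟨z, hz⟩
      have hz' : z ∈ Ideal.span {τ} := hker ▸ hz
      obtain ⟨c, hc⟩ := Ideal.mem_span_singleton'.1 hz'
      obtain ⟨c, rfl⟩ := Ideal.Quotient.mk_surjective c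
      refine ⟨c, Subtype.ext ?_⟩
      show c • τ = z
      rw [← hc, Algebra.smul_def]
      rfl
    have hφk : LinearMap.ker φ = 𝔪 := by
      refine le_antisymm (fun c hc => ?_) fun c hc => ?_
      · intro hu
        obtain ⟨u, rfl⟩ := hu
        have h1 : (u : R) * t ∈ J' := Ideal.Quotient.eq_zero_iff_mem.1 (congrArg Subtype.val (LinearMap.mem_ker.1 hc))
        exact ht (by simpa using Ideal.mul_mem_left J' (↑u⁻¹ : R) h1)
      · refine LinearMap.mem_ker.2 (Subtype.ext ?_)
        exact Ideal.Quotient.eq_zero_iff_mem.2 (hmt c hc)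
    let e : (R ⧸ 𝔪) ≃ₗ[R] N := (Submodule.quotEquivOfEq _ _ hφk.symm).trans (φ.quotKerEquivOfSurjective hφ)
    have h1 : f w ⊗ₜ[R] (⟨τ, hτ⟩ : N) = 0 := by
      refine h A' A p hsm ?_
      rw [map_zero]
      show f w ⊗ₜ[R] τ = 0
      have e1 : τ = t • (1 : R ⧸ J') := by rw [Algebra.smul_def, mul_one]; rfl
      have e2 : t • f w = - ∑ i, j i • g i := by
        rw [eq_neg_iff_add_eq_zero, ← hv0, hf, hf, Finset.smul_sum, ← Finset.sum_add_distrib]
        exact Finset.sum_congr rfl fun i _ => by rw [hw, add_smul, smul_smul, mul_comm t, add_comm]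
      rw [e1, ← TensorProduct.smul_tmul, e2, TensorProduct.neg_tmul, TensorProduct.sum_tmul, neg_eq_zero]
      refine Finset.sum_eq_zero fun i _ => ?_
      rw [TensorProduct.smul_tmul, show j i • (1 : R ⧸ J') = 0 by
        rw [Algebra.smul_def, mul_one]; exact Ideal.Quotient.eq_zero_iff_mem.2 (hj i), TensorProduct.tmul_zero]
    have h2 : f w ⊗ₜ[R] (Submodule.Quotient.mk 1 : R ⧸ 𝔪) = 0 := by
      have e1 : e (Submodule.Quotient.mk 1) = ⟨τ, hτ⟩ := by
        show φ 1 = _
        exact LinearMap.toSpanSingleton_apply_one R N _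
      have := congrArg (LinearMap.lTensor M e.symm.toLinearMap) h1
      rwa [map_zero, LinearMap.lTensor_tmul, LinearEquiv.coe_coe, ← e1, e.symm_apply_apply] at this
    have h3 : f w ∈ (𝔪 • ⊤ : Submodule R M) := by
      have := congrArg (TensorProduct.tensorQuotEquivQuotSMul M 𝔪) h2
      rw [map_zero] at this
      refine (Submodule.Quotient.mk_eq_zero _).1 (Eq.trans ?_ this)
      have e2 : Ideal.Quotient.mk 𝔪 (1 : R) = Submodule.Quotient.mk 1 := rfl
      rw [← e2, TensorProduct.tensorQuotEquivQuotSMul_tmul_mk, one_smul]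
    intro i
    rw [hw i]
    exact Ideal.add_mem _ (hj i) (hmt _ (hm0 w h3 i))
  have hzero : ∀ J : Ideal R, J ≤ 𝔪 → (∀ v, f v = 0 → ∀ i, v i ∈ J) → ∀ v, f v = 0 → ∀ i, v i = 0 := by
    intro J
    induction J using (IsWellFounded.wf : WellFounded ((· < ·) : Ideal R → Ideal R → Prop)).induction with
    | _ J ih => ?_
    intro hJm hv
    by_cases hJ : J = ⊥
    · subst hJ
      exact fun v hv0 i => (Ideal.mem_bot).1 (hv v hv0 i)
    obtain ⟨J', hJ'J, hmax⟩ := set_has_maximal_iff_noetherian.mpr (inferInstance : IsNoetherianRing R)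
      {J' : Ideal R | J' < J} ⟨⊥, bot_lt_iff_ne_bot.2 hJ⟩
    obtain ⟨t, htJ, ht⟩ := SetLike.exists_of_lt (show J' < J from hJ'J)
    have hJ2 : J = J' ⊔ Ideal.span {t} := by
      refine le_antisymm ?_ (sup_le hJ'J.le ((Ideal.span_singleton_le_iff_mem _).2 htJ))
      by_contra hle
      exact hmax _ (lt_of_le_not_ge (sup_le hJ'J.le ((Ideal.span_singleton_le_iff_mem _).2 htJ)) hle)
        (lt_of_le_of_ne le_sup_left fun e => ht (e ▸ Ideal.mem_sup_right (Ideal.mem_span_singleton_self t)))
    have hmt : ∀ r ∈ 𝔪, r * t ∈ J' := by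
      intro r hr
      by_contra hrt
      have hle : J' ⊔ Ideal.span {r * t} ≤ J :=
        sup_le hJ'J.le ((Ideal.span_singleton_le_iff_mem _).2 (Ideal.mul_mem_left _ r htJ))
      have heq : J ≤ J' ⊔ Ideal.span {r * t} := by
        by_contra hle'
        exact hmax _ (lt_of_le_not_ge hle hle')
          (lt_of_le_of_ne le_sup_left fun e => hrt (e ▸ Ideal.mem_sup_right (Ideal.mem_span_singleton_self _)))
      obtain ⟨i, hi, y, hy, e⟩ := Submodule.mem_sup.1 (heq htJ)
      obtain ⟨c, rfl⟩ := Ideal.mem_span_singleton'.1 hy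
      have hu : IsUnit (1 - c * r) := (IsLocalRing.isUnit_or_isUnit_one_sub_self (c * r)).resolve_left
        fun h' => (IsLocalRing.mem_maximalIdeal _).1 hr (isUnit_of_mul_isUnit_right h')
      obtain ⟨u, hu⟩ := hu
      refine ht (?_ : t ∈ J')
      have h2 : (1 - c * r) * t = i := by rw [sub_mul, one_mul, sub_eq_iff_eq_add, mul_assoc]; exact e.symm
      have h3 : (↑u⁻¹ : R) * i = t := by rw [← h2, ← hu, ← mul_assoc, Units.inv_mul, one_mul]
      exact h3 ▸ Ideal.mul_mem_left J' _ hi
    exact ih J' hJ'J (hJ'J.le.trans hJm) (step J' J t hJ2 ht hJm hmt hv)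
  have hinj : Function.Injective f := by
    rw [injective_iff_map_eq_zero]
    intro v hv
    exact funext fun i => hzero 𝔪 le_rfl (fun v hv => hm0 v (by rw [hv]; exact Submodule.zero_mem _)) v hv i
  exact Module.Free.of_equiv (LinearEquiv.ofBijective f ⟨hinj, hsurj⟩)

end Groth.Agent.S18256
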