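import Groth.Statements.S18257
import Groth.Agent.PicTangent.UnitsThick

set_option autoImplicit false
set_option linter.style.haveILetI false
set_option backward.isDefEq.respectTransparency false
set_option backward.isDefEq.respectTransparency.types false
set_option maxHeartbeats 1000000
universe u
open UnitsSh

namespace Groth.Agent.S18257

open AlgebraicGeometry CategoryTheory CategoryTheory.Limits

open CategoryTheory CategoryTheory.Limits AlgebraicGeometry in
/-- In the case of the multiplicative group, for schemes and with Zariski cohomology of the sheaf of
units. Let A be a local ring with maximal ideal m, t a nonzero element of m with m·t = 0, and X' a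
scheme flat over Spec A; let i : X ⟶ X' be the closed subscheme cut out by t (base change to A/(t))
and X₀ the closed fibre (base change to the residue field). If H^{q+1}(X₀, O_{X₀}) = 0, then the map
H^q(X', O_{X'}^×) → H^q(X', i_* O_X^×) induced by the units map of i is surjective. (The published
statement covers any smooth commutative group scheme in place of the multiplicative group, with the
Lie algebra of its closed fibre in place of O_{X₀}, uses étale cohomology, and takes A Artinian;
this row allows any local ring A with t as stated.) -/
theorem result
    (A : Type u) [CommRing A] [IsLocalRing A]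
    (t : A) (ht0 : t ≠ 0) (ht : t ∈ IsLocalRing.maximalIdeal A)
    (hmt : ∀ x ∈ IsLocalRing.maximalIdeal A, x * t = 0)
    (X' : Scheme.{u}) [X'.Over (Spec (CommRingCat.of A))] [Flat (X' ↘ Spec (CommRingCat.of A))]
    (q : ℕ)
    (hvan : Subsingleton (Coh.HH
      (pullback (X' ↘ Spec (CommRingCat.of A)) (Spec.map (CommRingCat.ofHom (IsLocalRing.residue A))))
      (Coh.structureModule _) (q + 1))) :
    Function.Surjective (Sheaf.H.map (UnitsSh.comap
      (pullback.fst (X' ↘ Spec (CommRingCat.of A))
        (Spec.map (CommRingCat.ofHom (Ideal.Quotient.mk (Ideal.span ({t} : Set A))))))) q) := by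
  let f := X' ↘ Spec (CommRingCat.of A)
  have hb := PicTangent.UnitsThick.good_bot f (q + 1)
  have hm : IsLocalRing.maximalIdeal A * Ideal.span ({t} : Set A) ≤ ⊥ := by
    rw [Ideal.mul_le]
    intro x hx y hy
    obtain ⟨c, rfl⟩ := Ideal.mem_span_singleton'.1 hy
    rw [Ideal.mem_bot, mul_left_comm, hmt x hx, mul_zero]
  exact (PicTangent.UnitsThick.good_step f (q + 1) hvan bot_le ((Ideal.span_singleton_le_iff_mem _).2 ht) hm
    ⟨{t}, by simp⟩ hb).2.2 q rfl

end Groth.Agent.S18257
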