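import Groth.Statements.S18258
import Groth.Agent.PicTangent.DualSplit

set_option autoImplicit false
set_option linter.style.haveILetI false
set_option backward.isDefEq.respectTransparency false
set_option backward.isDefEq.respectTransparency.types false
universe u
open UnitsSh
open AlgebraicGeometry CategoryTheory CategoryTheory.Limits

namespace Groth.Agent.S18258

set_option maxHeartbeats 1000000 in
open MonoidalCategory CartesianMonoidalCategory in
theorem isThick_pullback (k : Type u) [Field k] (X : Over (Spec (CommRingCat.of k))) :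
    ∃ p, ∃ ε, PicTangent.SplitUnits.IsThick
      (pullback.fst (pullback.snd X.hom (Spec.map (CommRingCat.ofHom (algebraMap k (DualNumber k)))))
        (Spec.map (CommRingCat.ofHom (TrivSqZeroExt.fstHom k k k).toRingHom))) p ε := by
  have h := PicTangent.DualSplit.isThick (k := k) X
  let c := Spec.map (CommRingCat.ofHom (algebraMap k (DualNumber k)))
  let d := Spec.map (CommRingCat.ofHom (TrivSqZeroExt.fstHom k k k).toRingHom)
  have hdc : d ≫ c = 𝟙 _ := by
    rw [← Spec.map_comp, ← CommRingCat.ofHom_comp]
    rw [show (TrivSqZeroExt.fstHom k k k).toRingHom.comp (algebraMap k (DualNumber k)) = RingHom.id k from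
      RingHom.ext fun a => by simp, CommRingCat.ofHom_id, Spec.map_id]
  let i := pullback.fst (pullback.snd X.hom c) d
  let so : X.left ⟶ pullback X.hom c := (PicTangent.DualSplit.so (k := k) X).left
  have hsf : so ≫ pullback.fst X.hom c = 𝟙 _ := PicTangent.DualSplit.so_fst_left X
  have hss : so ≫ pullback.snd X.hom c = X.hom ≫ d :=
    congrArg CommaMorphism.left (PicTangent.DualSplit.so_snd (k := k) X)
  let e := i ≫ pullback.fst X.hom c
  let g : X.left ⟶ pullback (pullback.snd X.hom c) d := pullback.lift so X.hom hss
  have hge : g ≫ e = 𝟙 _ := by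
    show g ≫ i ≫ pullback.fst X.hom c = _
    rw [pullback.lift_fst_assoc, hsf]
  have hsnd : pullback.snd (pullback.snd X.hom c) d = e ≫ X.hom := by
    show _ = (i ≫ pullback.fst X.hom c) ≫ X.hom
    rw [Category.assoc, pullback.condition]
    show _ = i ≫ pullback.snd X.hom c ≫ c
    rw [pullback.condition_assoc, hdc]
    simp
  have hes : e ≫ so = i := by
    apply pullback.hom_ext
    · rw [Category.assoc, hsf]
      exact Category.comp_id _
    · rw [Category.assoc, hss, ← Category.assoc, ← hsnd]
      exact pullback.condition.symm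
  have heg : e ≫ g = 𝟙 _ := by
    apply pullback.hom_ext
    · rw [Category.assoc, pullback.lift_fst, hes, Category.id_comp]
    · rw [Category.assoc, pullback.lift_snd, ← hsnd, Category.id_comp]
  haveI hg : IsIso g := ⟨e, hge, heg⟩
  haveI he : IsIso e := ⟨g, heg, hge⟩
  haveI := h.clo
  haveI := h.aff
  haveI : IsAffineHom (pullback.fst X.hom c) := h.aff
  haveI : IsClosedImmersion so := h.clo
  refine ⟨pullback.fst X.hom c ≫ g, PicTangent.DualSplit.eps (k := k) X, ?_, ?_, ?_, h.sq, ?_, ?_, ?_⟩
  · show IsClosedImmersion i
    rw [← hes]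
    infer_instance
  · infer_instance
  · show i ≫ pullback.fst X.hom c ≫ g = 𝟙 _
    rw [← Category.assoc]
    exact heg
  · show i.app ⊤ (PicTangent.DualSplit.eps (k := k) X) = 0
    rw [← hes, Scheme.Hom.comp_app, CommRingCat.comp_apply]
    exact (congrArg (e.app _) h.εi).trans (map_zero _)
  · intro V hV a ha
    have hV0 : IsAffineOpen (g ⁻¹ᵁ V) := hV.preimage_of_isIso g
    have hb : Function.Bijective (g.app V) := ConcreteCategory.bijective_of_isIso (g.app V)
    obtain ⟨x, hx⟩ := h.ker (g ⁻¹ᵁ V) hV0 a (by
      have h1 : (e ≫ so).app _ a = 0 := by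
        have hcongr : ∀ (f : pullback (pullback.snd X.hom c) d ⟶ pullback X.hom c) (_ : f = i),
            f.app _ a = 0 := by
          rintro f rfl
          exact ha
        exact hcongr _ hes
      rw [Scheme.Hom.comp_app, CommRingCat.comp_apply] at h1
      exact (ConcreteCategory.bijective_of_isIso (e.app _)).1 (h1.trans (map_zero _).symm))
    obtain ⟨y, rfl⟩ := hb.2 x
    exact ⟨y, hx⟩
  · intro V hV x hx
    have hb : Function.Bijective (g.app V) := ConcreteCategory.bijective_of_isIso (g.app V)
    exact hb.1 ((h.inj (g ⁻¹ᵁ V) (hV.preimage_of_isIso g) (g.app V x) hx).trans (map_zero _).symm)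

open CategoryTheory CategoryTheory.Limits AlgebraicGeometry in
set_option maxHeartbeats 1000000 in
/-- In the case of the multiplicative group, for schemes and with Zariski cohomology of the sheaf of
units. Let k be a field, X₀ a k-scheme, X' = X₀ ×_k Spec k[ε] (k[ε] the dual numbers) and i : X ⟶ X'
the closed subscheme ε = 0 (base change of X' along k[ε] → k, a copy of X₀). Then for every q the
kernel of the map H^q(X', O_{X'}^×) → H^q(X', i_* O_X^×) induced by the units map of i — the tangent
space at the origin of the functor A ↦ H^q(X₀ ⊗_k A, O^×) on local Artinian k-algebras — is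
isomorphic, as an additive group, to H^q(X, O_X). (Existence of an isomorphism only. The published
statement covers any smooth commutative group scheme in place of the multiplicative group, with the
Lie algebra of its closed fibre in place of the structure sheaf, and uses étale cohomology.) -/
theorem result
    (k : Type u) [Field k] (X₀ : Scheme.{u}) [X₀.Over (Spec (CommRingCat.of k))] (q : ℕ) :
    Nonempty ((Sheaf.H.map (UnitsSh.comap (pullback.fst (pullback.snd (X₀ ↘ Spec (CommRingCat.of k)) (Spec.map (CommRingCat.ofHom (algebraMap k (DualNumber k))))) (Spec.map (CommRingCat.ofHom (TrivSqZeroExt.fstHom k k k).toRingHom)))) q).ker ≃+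
      Coh.HH (pullback (pullback.snd (X₀ ↘ Spec (CommRingCat.of k)) (Spec.map (CommRingCat.ofHom (algebraMap k (DualNumber k))))) (Spec.map (CommRingCat.ofHom (TrivSqZeroExt.fstHom k k k).toRingHom))) (Coh.structureModule (pullback (pullback.snd (X₀ ↘ Spec (CommRingCat.of k)) (Spec.map (CommRingCat.ofHom (algebraMap k (DualNumber k))))) (Spec.map (CommRingCat.ofHom (TrivSqZeroExt.fstHom k k k).toRingHom)))) q) := by
  obtain ⟨p, ε, h⟩ := isThick_pullback k (Over.mk (X₀ ↘ Spec (CommRingCat.of k)))
  exact PicTangent.SplitUnits.ker_equiv h q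

end Groth.Agent.S18258
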