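import Groth.Statements.S18263
import Groth.Agent.FormsSLLib.Binary
-- import your own Groth.Agent.* helpers here

set_option autoImplicit false
universe u
open InvQ

namespace Groth.Agent.S18263

open Groth.Agent.FormsSLLib Groth.Agent.SmoothFormLib MvPolynomial
open scoped Groth.Agent.FormsSLLib

/-- Let k be an algebraically closed field in which m! is non-zero, n ≥ 1 and m ≤ n natural numbers, and
p_1, …, p_m non-zero vectors of k^(n+1), an ordered configuration of m points of projective n-space,
encoded by the product π = ∏_i (Σ_j p_i,j x_j) of its linear forms, on which the special linear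
group SL(n+1) acts by substitution; let a be the point of the affine space of degree-m forms in n +
1 variables whose form is π. Then a is not stable for SL(n+1): a configuration of at most n points
of projective n-space is never stable. (The case n = 0 is excluded: there the group is trivial and
the empty configuration is stable. The published statement allows any characteristic; this row
assumes m! non-zero in k, as the space of forms used here requires.) -/
theorem result (k : Type u) [Field k] [IsAlgClosed k] (n m : ℕ) (hn : 1 ≤ n) (hmn : m ≤ n)
    (hm : (Nat.factorial m : k) ≠ 0) (p : Fin m → Fin (n + 1) → k) (hp : ∀ i, p i ≠ 0)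
    (a : CoordGrp.FormIdx (n + 1) m → k)
    (ha : CoordGrp.formPoly a = ∏ i, ∑ j, MvPolynomial.C (p i j) * MvPolynomial.X j) :
    ¬ @GLin.IsStableVec k _ (CoordGrp.SLn (n + 1) k) _ _ (CoordGrp.FormIdx (n + 1) m)
      (GLin.comodAlong ((CoordGrp.SLn.mkHom (n + 1) k).comp (CoordGrp.Mat.toGLn (n + 1) k)) (CoordGrp.formsCoact k (n + 1) m))
      (GLin.isCoactAlg_comodAlong ((CoordGrp.SLn.mkHom (n + 1) k).comp (CoordGrp.Mat.toGLn (n + 1) k)) (CoordGrp.formsCoact k (n + 1) m) (CoordGrp.formsCoact_isCoactAlg k (n + 1) m)) a := by
  classical
  show ¬ GLin.IsStableVec k (CoordGrp.SLn (n + 1) k) a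
  have ha' : CoordGrp.formPoly a = C 1 * ∏ i, linForm (p i) := by rw [map_one, one_mul]; exact ha
  rcases Nat.eq_zero_or_pos m with rfl | hm0
  · -- a constant: every one-parameter subgroup fixes it
    let W : Submodule k (Fin (n + 1) → k) := Submodule.span k {Pi.single 0 1}
    refine not_isStableVec_of_subspace hm p 1 a ha' W ?_ ?_ (by simp)
    · rw [Ne, Submodule.span_singleton_eq_bot]
      exact fun h => by simpa using congrFun h 0
    · intro h
      have h' := congrArg (fun W : Submodule k (Fin (n + 1) → k) => Module.finrank k W) h
      simp only [W, finrank_top, Module.finrank_fintype_fun_eq_card, Fintype.card_fin] at h'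
      rw [finrank_span_singleton (fun h => by simpa using congrFun h 0)] at h'
      omega
  · let W : Submodule k (Fin (n + 1) → k) := Submodule.span k (Set.range p)
    have hr : Module.finrank k W ≤ m := (finrank_range_le_card (R := k) p).trans (by simp)
    refine not_isStableVec_of_subspace hm p 1 a ha' W ?_ ?_ ?_
    · intro h
      exact hp ⟨0, hm0⟩ ((Submodule.mem_bot k).mp (h ▸ Submodule.subset_span ⟨⟨0, hm0⟩, rfl⟩))
    · intro h
      rw [h, finrank_top, Module.finrank_fintype_fun_eq_card, Fintype.card_fin] at hr
      omega
    · have hall : Nat.card {i : Fin m // p i ∈ W} = m := by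
        rw [Nat.card_congr (Equiv.subtypeUnivEquiv (p := fun i : Fin m => p i ∈ W) fun i => Submodule.subset_span (s := Set.range p) ⟨i, rfl⟩), Nat.card_eq_fintype_card,
          Fintype.card_fin]
      rw [hall]
      exact Nat.mul_le_mul_left _ (by omega)

end Groth.Agent.S18263
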