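import Groth.Statements.S18264
import Groth.Agent.SurfMin.Minimal
import Groth.Agent.Lib.AmpleEmbed
import Groth.Agent.Lib.SurfAdj

set_option autoImplicit false
set_option backward.isDefEq.respectTransparency false
set_option backward.isDefEq.respectTransparency.types false
set_option linter.style.haveILetI false
set_option linter.unusedSectionVars false
set_option maxHeartbeats 800000
universe u
open CategoryTheory CategoryTheory.Limits AlgebraicGeometry
open Surf

namespace Groth.Agent.S18264

open Groth.Agent.H23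
attribute [local instance] PicMul.clMonoid

/-- Every surface dominates a minimal surface. Let k be an algebraically closed field and X a surface
over k — an integral scheme of dimension two with all local rings regular, admitting a closed
immersion over k into some projective space P^n_k. Then there are a surface Y over k of the same
kind and a birational k-morphism f : X → Y (f restricts to an isomorphism over a dense open subset
of Y) with Y minimal: every birational k-morphism g : Y → Z to a surface Z of the same kind is an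
isomorphism. -/
theorem result (k : Type u) [Field k] [IsAlgClosed k]
    (X : Scheme.{u}) (sX : X ⟶ Spec (CommRingCat.of k)) [AlgebraicGeometry.IsIntegral X]
    (hdim : topologicalKrullDim X = 2) (hreg : ∀ x : X, IsRegularLocalRing (X.presheaf.stalk x))
    (hproj : (∃ (n : ℕ) (ι : X ⟶ CohB1.ProjSpace n k), IsClosedImmersion ι ∧ ι ≫ CohB1.ProjSpace.toSpec n k = sX)) :
    ∃ (Y : Scheme.{u}) (sY : Y ⟶ Spec (CommRingCat.of k)) (f : X ⟶ Y),
      f ≫ sY = sX ∧ AlgebraicGeometry.IsIntegral Y ∧ topologicalKrullDim Y = 2 ∧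
      (∀ y : Y, IsRegularLocalRing (Y.presheaf.stalk y)) ∧ (∃ (n : ℕ) (ι : Y ⟶ CohB1.ProjSpace n k), IsClosedImmersion ι ∧ ι ≫ CohB1.ProjSpace.toSpec n k = sY) ∧
      (∃ V : Y.Opens, Dense (V : Set Y) ∧ IsIso (f ∣_ V)) ∧
      ∀ (Z : Scheme.{u}) (sZ : Z ⟶ Spec (CommRingCat.of k)), AlgebraicGeometry.IsIntegral Z →
        topologicalKrullDim Z = 2 → (∀ z : Z, IsRegularLocalRing (Z.presheaf.stalk z)) → (∃ (n : ℕ) (ι : Z ⟶ CohB1.ProjSpace n k), IsClosedImmersion ι ∧ ι ≫ CohB1.ProjSpace.toSpec n k = sZ) →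
        ∀ g : Y ⟶ Z, g ≫ sZ = sY → (∃ V : Z.Opens, Dense (V : Set Z) ∧ IsIso (g ∣_ V)) → IsIso g := by
  haveI := hproj
  obtain ⟨N, ι, hι, hιs⟩ := hproj
  haveI := hι
  letI : X.Over (Spec (CommRingCat.of k)) := ⟨sX⟩
  haveI := fun n => Groth.Agent.PnCoh.Chow.isProper_toSpec n k
  haveI hP : IsProper sX := by rw [← hιs]; infer_instance
  haveI : IsNoetherian X :=
    haveI : IsProper (X ↘ Spec (CommRingCat.of k)) := hP
    Groth.Agent.CurveCohLib.isNoetherian_of_proper (k := k) (X := X)
  haveI : IsProper (X ↘ Spec (CommRingCat.of k)) := hP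
  have hS : Groth.Agent.SurfMin.IsSurf k X :=
    ⟨hP, Groth.Agent.CurveCohLib.RegularCurve.smooth_of_regular k fun x _ => hreg x, inferInstance, hdim⟩
  obtain ⟨Y, _, _, f, hfk, hY, hfbir, hno⟩ := Groth.Agent.SurfMin.exists_no_m1 k _ X hS fun n hn =>
    Groth.Agent.SurfMin.Dlog.le_of_wit (sX := sX) hn
  haveI := hY.proper; haveI := hY.smooth; haveI := hY.noeth k
  obtain ⟨H, hH⟩ := Groth.Agent.SurfAdj.exists_ample k hY.dim
  haveI : IsProper (f ≫ (Y ↘ Spec (CommRingCat.of k))) := by rw [hfk]; exact hP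
  haveI : IsProper f := IsProper.of_comp f (Y ↘ Spec (CommRingCat.of k))
  refine ⟨Y, Y ↘ Spec (CommRingCat.of k), f, hfk, inferInstance, hY.dim, hY.regular k,
    Groth.Agent.AmpleEmbed.exists_closedImmersion _ hH,
    Groth.Agent.SurfMin.exists_iso_open (hY.regular k)
      (fun z => (Groth.Agent.SchTop.ringKrullDim_stalk_le z).trans hY.dim.le) f hfbir, ?_⟩
  intro Z sZ _ hZd hZreg hZproj g hg hgiso
  obtain ⟨NZ, ιZ, hιZ, hιsZ⟩ := hZproj
  haveI := hιZ
  letI : Z.Over (Spec (CommRingCat.of k)) := ⟨sZ⟩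
  haveI hPZ : IsProper sZ := by rw [← hιsZ]; infer_instance
  haveI : IsProper (Z ↘ Spec (CommRingCat.of k)) := hPZ
  haveI : IsNoetherian Z := Groth.Agent.CurveCohLib.isNoetherian_of_proper (k := k) (X := Z)
  have hZ : Groth.Agent.SurfMin.IsSurf k Z :=
    ⟨hPZ, Groth.Agent.CurveCohLib.RegularCurve.smooth_of_regular k fun x _ => hZreg x, inferInstance, hZd⟩
  haveI : IsProper (g ≫ sZ) := by rw [hg]; exact hY.proper
  haveI : IsProper g := IsProper.of_comp g sZ
  obtain ⟨V, hV, hVi⟩ := hgiso
  haveI := hVi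
  have hbir := Groth.Agent.SurfMin.bir_of_restrict g V hV.nonempty
  have hseq : Models.IsContractionSeq g := by
    have h := Groth.Agent.SurfSeq.seq_of_birational (hY.regular k)
      (fun z => (Groth.Agent.SchTop.ringKrullDim_stalk_le z).trans hY.dim.le) g hbir hZreg
      (fun z => (Groth.Agent.SchTop.ringKrullDim_stalk_le z).trans hZd.le) Z _ (Models.IsContractionSeq.iso (Iso.refl Z))
    rwa [Iso.refl_hom, Category.comp_id] at h
  exact Groth.Agent.SurfMin.isIso_of_no_m1 k hseq hZ hg hno

end Groth.Agent.S18264
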