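import Groth.Statements.S18265
import Mathlib
-- import your own Groth.Agent.* helpers here

set_option autoImplicit false
universe u
open InvQ

namespace Groth.Agent.S18265

/-- Let k be an algebraically closed field and n, m natural numbers, and let R be the ring of polynomial
functions of m vectors of k^(n+1) invariant under the special linear group SL(n+1, k) acting on all
the vectors at once and under the rescalings of the individual vectors by units with product 1
(equivalently: invariant and homogeneous of one and the same degree in each vector) — the graded
ring of invariant sections whose Proj is the quotient variety of ordered m-point sets in projective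
n-space. Then R is integrally closed in its field of fractions; hence that quotient variety is
normal. (Only the normality assertion of the source's statement is given here; its dimension,
rationality and singular-locus assertions are not.) -/
theorem result (k : Type u) [Field k] [IsAlgClosed k] (n m : ℕ) :
    IsIntegrallyClosed (W4c5pointsetsdelpezzo.invRing k n m) := by
  let R := W4c5pointsetsdelpezzo.invRing k n m
  let P := W4c5pointsetsdelpezzo.TupleRing k n m
  rw [isIntegrallyClosed_iff (FractionRing R)]
  intro x hx
  obtain ⟨a, b, hb, rfl⟩ := IsFractionRing.div_surjective (A := R) x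
  have hb0 : (b : P) ≠ 0 := fun h => nonZeroDivisors.ne_zero hb (Subtype.ext h)
  have hinj : Function.Injective ((algebraMap P (FractionRing P)).comp R.val.toRingHom) :=
    (IsFractionRing.injective P (FractionRing P)).comp Subtype.val_injective
  let f : FractionRing R →+* FractionRing P := IsFractionRing.lift hinj
  have hf : ∀ r : R, f (algebraMap R (FractionRing R) r) = algebraMap P (FractionRing P) r := fun r =>
    IsFractionRing.lift_algebraMap hinj r
  have hint : IsIntegral P (f (algebraMap R (FractionRing R) a / algebraMap R (FractionRing R) b)) := by
    obtain ⟨q, hq, hq0⟩ := hx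
    refine ⟨q.map R.val.toRingHom, hq.map _, ?_⟩
    rw [Polynomial.eval₂_map]
    have h := congrArg f hq0
    rw [Polynomial.hom_eval₂, map_zero, show f.comp (algebraMap R (FractionRing R)) =
      (algebraMap P (FractionRing P)).comp R.val.toRingHom from RingHom.ext hf] at h
    exact h
  obtain ⟨p, hp⟩ := IsIntegrallyClosed.isIntegral_iff.1 hint
  rw [map_div₀, hf, hf] at hp
  have hpb : p * (b : P) = (a : P) := by
    apply IsFractionRing.injective P (FractionRing P)
    rw [map_mul, hp, div_mul_cancel₀ _ (fun h => hb0 (IsFractionRing.injective P (FractionRing P) (h.trans (map_zero _).symm)))]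
  have hfix : ∀ σ : P →ₐ[k] P, σ (a : P) = a → σ (b : P) = b → σ p = p := fun σ ha hb' => by
    refine mul_right_cancel₀ hb0 ?_
    conv_lhs => rw [← hb']
    rw [← map_mul, hpb, ha]
  have ha : (a : P) ∈ W4c5pointsetsdelpezzo.invRing k n m := a.2
  have hb' : (b : P) ∈ W4c5pointsetsdelpezzo.invRing k n m := b.2
  simp only [W4c5pointsetsdelpezzo.invRing, Algebra.mem_inf, Algebra.mem_iInf, AlgHom.mem_equalizer,
    AlgHom.coe_id, id_eq] at ha hb'
  have hp_mem : p ∈ W4c5pointsetsdelpezzo.invRing k n m := by
    simp only [W4c5pointsetsdelpezzo.invRing, Algebra.mem_inf, Algebra.mem_iInf, AlgHom.mem_equalizer,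
      AlgHom.coe_id, id_eq]
    exact ⟨fun g => hfix _ (ha.1 g) (hb'.1 g), fun s => hfix _ (ha.2 s) (hb'.2 s)⟩
  refine ⟨⟨p, hp_mem⟩, ?_⟩
  rw [eq_div_iff (IsFractionRing.to_map_ne_zero_of_mem_nonZeroDivisors hb), ← map_mul]
  exact congrArg _ (Subtype.ext hpb)

end Groth.Agent.S18265
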