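import Groth.Statements.S18266
import Groth.Agent.FlatComplDvr5.Basic

set_option autoImplicit false
universe u
open CategoryTheory AlgebraicGeometry
open FDesc

namespace Groth.Agent.S18266

/-- Let A be a discrete valuation ring, η the generic point of Spec A, and f : X → Spec A a morphism
from an arbitrary scheme X. The scheme-theoretic closure of the generic fibre X_η in X (the flat
completion) is flat over Spec A, and it is the largest closed subscheme of X flat over Spec A: for
every closed immersion i : Z → X with Z flat over Spec A, the ideal sheaf of the flat completion is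
contained in the ideal sheaf of i. -/
theorem result (A : Type u) [CommRing A] [IsDomain A]
    [IsDiscreteValuationRing A] {X : Scheme.{u}} (f : X ⟶ Spec (CommRingCat.of A))
    (η : ↥(Spec (CommRingCat.of A))) (hη : η.asIdeal = ⊥) :
    Flat ((f.fiberι η).imageι ≫ f) ∧
      ∀ (Z : Scheme.{u}) (i : Z ⟶ X), IsClosedImmersion i → Flat (i ≫ f) → (f.fiberι η).ker ≤ i.ker := by
  obtain ⟨π, hπ⟩ := IsDiscreteValuationRing.exists_irreducible A
  constructor
  · refine FlatComplDvr5.flat_of_regular hπ _ fun x => ?_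
    obtain ⟨W, hW, hxW, -⟩ := exists_isAffineOpen_mem_and_subset (x := (f.fiberι η).imageι x) (U := ⊤) trivial
    refine ⟨(f.fiberι η).imageι ⁻¹ᵁ W, hxW, hW.preimage _, fun s hs => ?_⟩
    obtain ⟨t, rfl⟩ := Scheme.IdealSheafData.subschemeι_app_surjective (f.fiberι η).ker ⟨W, hW⟩ s
    have hker : ∀ r : Γ(X, W), (f.fiberι η).imageι.app W r = 0 ↔ r ∈ (f.fiberι η).ker.ideal ⟨W, hW⟩ := fun r => by
      rw [← RingHom.mem_ker]
      exact Eq.to_iff (congrArg (fun I => r ∈ I) (Scheme.IdealSheafData.ker_subschemeι_app (f.fiberι η).ker ⟨W, hW⟩))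
    rw [← FlatComplDvr5.fun'_comp, ← map_mul] at hs
    obtain ⟨n, hn⟩ := (FlatComplDvr5.mem_ker_iff hπ f η hη ⟨W, hW⟩ _).1 ((hker _).1 hs)
    refine (hker t).2 ((FlatComplDvr5.mem_ker_iff hπ f η hη ⟨W, hW⟩ t).2 ⟨n + 1, ?_⟩)
    rw [pow_succ, mul_assoc]
    exact hn
  · intro Z i hi hfl U t ht
    obtain ⟨n, hn⟩ := (FlatComplDvr5.mem_ker_iff hπ f η hη U t).1 ht
    haveI := hi
    rw [Scheme.Hom.ker_apply, RingHom.mem_ker]
    have h := congrArg (i.app U.1) hn
    rw [map_mul, map_pow, map_zero, FlatComplDvr5.fun'_comp] at h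
    let W := i ⁻¹ᵁ U.1
    let Φ : A →+* Γ(Z, W) := ((i ≫ f).appLE ⊤ W le_top).hom.comp (Scheme.ΓSpecIso (CommRingCat.of A)).inv.hom
    letI := Φ.toAlgebra
    haveI : Module.Flat A Γ(Z, W) := by
      haveI := hfl
      refine RingHom.flat_algebraMap_iff.1 ?_
      exact RingHom.Flat.comp (RingHom.Flat.of_bijective
        (ConcreteCategory.bijective_of_isIso (Scheme.ΓSpecIso (CommRingCat.of A)).inv))
        ((i ≫ f).flat_appLE (isAffineOpen_top _) (U.2.preimage i) le_top)
    have hreg := Module.Flat.isSMulRegular_of_nonZeroDivisors (M := Γ(Z, W))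
      (mem_nonZeroDivisors_of_ne_zero (pow_ne_zero n hπ.ne_zero))
    refine hreg (show (π ^ n) • i.app U.1 t = (π ^ n) • (0 : Γ(Z, W)) from ?_)
    rw [smul_zero, Algebra.smul_def, map_pow]
    exact h

end Groth.Agent.S18266
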