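import Groth.Statements.S18268
import Groth.Agent.H23.FibreVanish
-- import your own Groth.Agent.* helpers here

set_option autoImplicit false
open CategoryTheory CategoryTheory.Limits AlgebraicGeometry
open ZCorr

namespace Groth.Agent.S18268

/-- Over the complex numbers let W be a smooth irreducible quasi-projective variety of dimension n, X a
smooth irreducible projective variety and Γ an n-cycle on X × W, viewed as a correspondence from W
to X, with no vertical component (every point of the support of Γ maps to the generic point of W).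
If there is a nonempty open U ⊂ W over whose points the closures of the support points of Γ have
finite fibres, and such that for every complex point u of U the fibre cycle Γ_u on X vanishes, then
Γ = 0. Here Γ_u is the sum, over the support points ξ of Γ with coefficient Γ(ξ), of the fundamental
cycles of the scheme-theoretic fibres over u of the closures of ξ, read on X (the cycle-level fibre
of the family at u; it agrees with the refined intersection of Γ with X × {u} where the components
are flat over u and has the same support wherever they are finite over u). -/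
theorem result
    (W X : Scheme.{0}) [W.Over (Spec (CommRingCat.of ℂ))] [X.Over (Spec (CommRingCat.of ℂ))]
    [AlgebraicGeometry.IsIntegral W] [Smooth (W ↘ Spec (CommRingCat.of ℂ))] (hW : RelProj.IsHQuasiProjective (W ↘ Spec (CommRingCat.of ℂ)))
    (n : ℕ) (hdimW : topologicalKrullDim W = n)
    [AlgebraicGeometry.IsIntegral X] [Smooth (X ↘ Spec (CommRingCat.of ℂ))] (hX : RelProj.IsHProjective (X ↘ Spec (CommRingCat.of ℂ)))
    (δ : ↥(pullback (X ↘ Spec (CommRingCat.of ℂ)) (W ↘ Spec (CommRingCat.of ℂ))) → ℤ)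
    (hδ : Cyc.DeltaCompat (pullback.fst (X ↘ Spec (CommRingCat.of ℂ)) (W ↘ Spec (CommRingCat.of ℂ)) ≫ (X ↘ Spec (CommRingCat.of ℂ))) δ (fun _ => 0))
    (Γ : AlgebraicCycle (pullback (X ↘ Spec (CommRingCat.of ℂ)) (W ↘ Spec (CommRingCat.of ℂ))) ℤ)
    (hΓ : Γ ∈ Cyc.Zk (pullback (X ↘ Spec (CommRingCat.of ℂ)) (W ↘ Spec (CommRingCat.of ℂ))) δ n)
    (hvert : ∀ ξ, Γ ξ ≠ 0 → pullback.snd (X ↘ Spec (CommRingCat.of ℂ)) (W ↘ Spec (CommRingCat.of ℂ)) ξ = genericPoint W)
    (U : W.Opens) (hU : (U : Set W).Nonempty)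
    (hfin : ∀ ξ, Γ ξ ≠ 0 → ∀ w ∈ U,
      (closure {ξ} ∩ pullback.snd (X ↘ Spec (CommRingCat.of ℂ)) (W ↘ Spec (CommRingCat.of ℂ)) ⁻¹' {w}).Finite)
    (hzero : ∀ (u : Spec (CommRingCat.of ℂ) ⟶ W) (hu : u ≫ (W ↘ Spec (CommRingCat.of ℂ)) = 𝟙 _),
      u (IsLocalRing.closedPoint ℂ) ∈ U →
        ∀ x : X, AlgEqCyc.fibreFun (X ↘ Spec (CommRingCat.of ℂ)) (W ↘ Spec (CommRingCat.of ℂ)) Γ u hu x = 0) :
    Γ = 0 :=
  Groth.Agent.H23.FibreVanish.eq_zero (X ↘ Spec (CommRingCat.of ℂ)) (W ↘ Spec (CommRingCat.of ℂ)) hδ Γ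
    (fun ξ hξ => not_not.1 fun h => hξ (hΓ ξ h)) hvert U hU hfin hzero

end Groth.Agent.S18268
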