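import Groth.Statements.S18270
import Groth.Agent.H23.PullInj
import Groth.Agent.CycLib.P1Div
import Groth.Agent.P1Sym.Finite
-- import your own Groth.Agent.* helpers here

set_option autoImplicit false
open CategoryTheory CategoryTheory.Limits AlgebraicGeometry
open ZCorr

namespace Groth.Agent.S18270

/-- Over the complex numbers let T, W and X be smooth irreducible quasi-projective varieties, f : T → W
a morphism over the base that is smooth of relative dimension r, and Γ a k-cycle on X × W, all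
dimension functions being induced from the base. Let F : X × T → X × W be id × f. If the flat
pullback F^*Γ is rationally equivalent to zero on X × T, then for some nonempty open U ⊂ W and some
integer m > 0 the restriction of m·Γ to X × U is rationally equivalent to zero on X × U. -/
theorem result
    (T W X : Scheme.{0}) [T.Over (Spec (CommRingCat.of ℂ))] [W.Over (Spec (CommRingCat.of ℂ))] [X.Over (Spec (CommRingCat.of ℂ))]
    [AlgebraicGeometry.IsIntegral T] [Smooth (T ↘ Spec (CommRingCat.of ℂ))] (hT : RelProj.IsHQuasiProjective (T ↘ Spec (CommRingCat.of ℂ)))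
    [AlgebraicGeometry.IsIntegral W] [Smooth (W ↘ Spec (CommRingCat.of ℂ))] (hW : RelProj.IsHQuasiProjective (W ↘ Spec (CommRingCat.of ℂ)))
    [AlgebraicGeometry.IsIntegral X] [Smooth (X ↘ Spec (CommRingCat.of ℂ))] (hX : RelProj.IsHQuasiProjective (X ↘ Spec (CommRingCat.of ℂ)))
    (f : T ⟶ W) (hf : f ≫ (W ↘ Spec (CommRingCat.of ℂ)) = T ↘ Spec (CommRingCat.of ℂ)) (r : ℕ) [SmoothOfRelativeDimension r f]
    (F : pullback (X ↘ Spec (CommRingCat.of ℂ)) (T ↘ Spec (CommRingCat.of ℂ)) ⟶ pullback (X ↘ Spec (CommRingCat.of ℂ)) (W ↘ Spec (CommRingCat.of ℂ)))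
    (hF₁ : F ≫ pullback.fst (X ↘ Spec (CommRingCat.of ℂ)) (W ↘ Spec (CommRingCat.of ℂ)) = pullback.fst (X ↘ Spec (CommRingCat.of ℂ)) (T ↘ Spec (CommRingCat.of ℂ)))
    (hF₂ : F ≫ pullback.snd (X ↘ Spec (CommRingCat.of ℂ)) (W ↘ Spec (CommRingCat.of ℂ)) = pullback.snd (X ↘ Spec (CommRingCat.of ℂ)) (T ↘ Spec (CommRingCat.of ℂ)) ≫ f)
    (δT : ↥(pullback (X ↘ Spec (CommRingCat.of ℂ)) (T ↘ Spec (CommRingCat.of ℂ))) → ℤ)
    (hδT : Cyc.DeltaCompat (pullback.fst (X ↘ Spec (CommRingCat.of ℂ)) (T ↘ Spec (CommRingCat.of ℂ)) ≫ (X ↘ Spec (CommRingCat.of ℂ))) δT (fun _ => 0))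
    (δW : ↥(pullback (X ↘ Spec (CommRingCat.of ℂ)) (W ↘ Spec (CommRingCat.of ℂ))) → ℤ)
    (hδW : Cyc.DeltaCompat (pullback.fst (X ↘ Spec (CommRingCat.of ℂ)) (W ↘ Spec (CommRingCat.of ℂ)) ≫ (X ↘ Spec (CommRingCat.of ℂ))) δW (fun _ => 0))
    (k : ℤ) (Γ : AlgebraicCycle (pullback (X ↘ Spec (CommRingCat.of ℂ)) (W ↘ Spec (CommRingCat.of ℂ))) ℤ)
    (hΓ : Γ ∈ Cyc.Zk (pullback (X ↘ Spec (CommRingCat.of ℂ)) (W ↘ Spec (CommRingCat.of ℂ))) δW k)
    (γ : AlgebraicCycle (pullback (X ↘ Spec (CommRingCat.of ℂ)) (T ↘ Spec (CommRingCat.of ℂ))) ℤ) (hγ : ⇑γ = Cyc.pullFun F δT δW r ⇑Γ)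
    (h0 : Cyc.RatEquivZero δT (k + r) γ) :
    ∃ (U : W.Opens) (m : ℤ), (U : Set W).Nonempty ∧ 0 < m ∧
      ∀ β : AlgebraicCycle (↑(pullback.snd (X ↘ Spec (CommRingCat.of ℂ)) (W ↘ Spec (CommRingCat.of ℂ)) ⁻¹ᵁ U)) ℤ,
        (∀ y, β y = m * Γ ((pullback.snd (X ↘ Spec (CommRingCat.of ℂ)) (W ↘ Spec (CommRingCat.of ℂ)) ⁻¹ᵁ U).ι y)) →
          Cyc.RatEquivZero (fun y => δW ((pullback.snd (X ↘ Spec (CommRingCat.of ℂ)) (W ↘ Spec (CommRingCat.of ℂ)) ⁻¹ᵁ U).ι y)) k β := by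
  classical
  let pX := X ↘ Spec (CommRingCat.of ℂ)
  let pW := W ↘ Spec (CommRingCat.of ℂ)
  let π := pullback.snd pX pW
  haveI : Smooth f := SmoothOfRelativeDimension.smooth r f
  haveI : QuasiCompact pX := by
    obtain ⟨m', i', _, hqc, hiw⟩ := hX
    show QuasiCompact (X ↘ Spec (CommRingCat.of ℂ))
    rw [← hiw]
    haveI := hqc
    haveI : IsProper (CohB1.ProjSpaceOver.toBase m' (Spec (CommRingCat.of ℂ))) := P1Sym.isProper_toBase _ _
    infer_instance
  let cW := pullback.fst pX pW ≫ pX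
  let cT := pullback.fst pX (T ↘ Spec (CommRingCat.of ℂ)) ≫ pX
  have hQ : Cyc.IsSetup _ δW := H23.SetupLFT.isSetup cW (CycLib.isSetup_spec_field ℂ) hδW
  have hPT : Cyc.IsSetup _ δT := H23.SetupLFT.isSetup cT (CycLib.isSetup_spec_field ℂ) hδT
  have sq : IsPullback F (pullback.snd pX (T ↘ Spec (CommRingCat.of ℂ))) π f := by
    refine IsPullback.of_right ?_ hF₂ (IsPullback.of_hasPullback pX pW)
    rw [hF₁, hf]
    exact IsPullback.of_hasPullback pX (T ↘ Spec (CommRingCat.of ℂ))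
  let e := sq.isoPullback
  have he : e.hom ≫ pullback.fst π f = F := sq.isoPullback_hom_fst
  have he' : e.inv ≫ F = pullback.fst π f := by rw [← he, Iso.inv_hom_id_assoc]
  haveI : LocallyOfFiniteType F := MorphismProperty.of_isPullback sq.flip (inferInstance : LocallyOfFiniteType f)
  haveI := hQ.1
  haveI := hPT.1
  haveI := (H23.PullInj.setup π hQ f).1
  have hcF : F ≫ cW = cT := by rw [show cW = pullback.fst pX pW ≫ pX from rfl, ← Category.assoc, hF₁]
  have hd : ∀ x, δT (e.inv x) = H23.PullInj.δP π δW f x := fun x => by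
    have h3 : (FibDim.rd (pullback.fst π f) x : ℤ) = FibDim.rd F (e.inv x) := by
      have := CycLib.rd_comp e.inv F x
      rw [he', FibDim.rd_eq_zero_of_quasiFinite e.inv, add_zero] at this
      exact_mod_cast this
    have h4 : pullback.fst π f x = F (e.inv x) := by rw [← Scheme.Hom.comp_apply, he']
    show _ = δW (pullback.fst π f x) + (FibDim.rd (pullback.fst π f) x : ℤ)
    rw [h3, h4, CycLib.deltaCompat_eq cT hδT, CycLib.deltaCompat_eq cW hδW,
      show FibDim.rd cT (e.inv x) = FibDim.rd (F ≫ cW) (e.inv x) by rw [hcF], CycLib.rd_comp F cW]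
    push_cast
    ring
  have hrel : Cyc.HasRelDim F r := FibDim.hasRelDim_baseChange sq.flip
    (AlgSpDec.SmoothLocDim.hasRelDim_of_smoothOfRelativeDimension r f)
  have hcomp : Cyc.DeltaCompat F δT δW := fun x => ⟨FibDim.rd F x, (FibDim.rd_eq_rdeg F x).symm, by
    rw [CycLib.deltaCompat_eq cT hδT, CycLib.deltaCompat_eq cW hδW,
      show FibDim.rd cT x = FibDim.rd (F ≫ cW) x by rw [hcF], CycLib.rd_comp F cW]
    push_cast
    ring⟩
  have hT' : H23.PullInj.Triv π δW k ⇑Γ f r := fun γ' hγ' => by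
    have h1 := H23.DivPull.ratEquivZero_pull e.inv (c := 0)
      (fun x _ => by rw [add_zero]; exact (hd x).symm) hPT.2.2 (H23.PullInj.setup π hQ f).2.2 h0 γ' (by
        rw [hγ, H23.FlatShift.pullFun_comp_of_le e.inv F _ _ δW (fun x => by rw [add_zero]; exact (hd x).ge)
          (H23.FlatShift.le_of_hasRelDim F hrel hcomp), he', add_zero, hγ'])
    rwa [add_zero] at h1
  haveI : Nonempty T := inferInstance
  obtain ⟨U, m, hU, hm, h⟩ := H23.PullInj.exists_open_nsmul hQ Γ pW hΓ f r ‹_› hT'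
  exact ⟨U, m, hU, by exact_mod_cast hm, fun β hβ => h β hβ⟩

end Groth.Agent.S18270
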