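import Groth.Statements.S18271
import Groth.Agent.H23.BlowPointLift
import Groth.Agent.H23.BlowPointLines
import Groth.Agent.NormalLib.Finite
import Mathlib.RingTheory.AlgebraicIndependent.Transcendental
-- import your own Groth.Agent.* helpers here

set_option autoImplicit false
open CategoryTheory CategoryTheory.Limits AlgebraicGeometry
open ZCorr

namespace Groth.Agent.S18271

set_option backward.isDefEq.respectTransparency false
set_option backward.isDefEq.respectTransparency.types false
set_option maxHeartbeats 1000000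

/-- Over the complex numbers let X be a smooth irreducible projective variety, x a closed point of X and
π : X' → X a blow-up of X at x (universal property of blowing up in the ideal sheaf of the reduced
closed point x). Then, with the dimension functions induced from the base, π_* : CH_0(X') → CH_0(X)
is bijective: a 0-cycle on X' whose push-forward is rationally equivalent to zero on X is rationally
equivalent to zero on X', and every 0-cycle on X is rationally equivalent to the push-forward of a
0-cycle on X'. (The variety is taken of dimension at least one: for X a single point the blow-up at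
that point is empty and the assertion fails.) -/
theorem result
    (X : Scheme.{0}) [X.Over (Spec (CommRingCat.of ℂ))]
    [AlgebraicGeometry.IsIntegral X] [Smooth (X ↘ Spec (CommRingCat.of ℂ))] (hX : RelProj.IsHProjective (X ↘ Spec (CommRingCat.of ℂ)))
    (hdim : 1 ≤ topologicalKrullDim X)
    (x : X) (hx : IsClosed ({x} : Set X))
    {X' : Scheme.{0}} (π : X' ⟶ X) [QuasiCompact π]
    (hπ : BlowUp.IsBlowUp π (Scheme.IdealSheafData.vanishingIdeal ⟨{x}, hx⟩))
    (δ : X → ℤ) (hδ : Cyc.DeltaCompat (X ↘ Spec (CommRingCat.of ℂ)) δ (fun _ => 0))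
    (δ' : X' → ℤ) (hδ' : Cyc.DeltaCompat (π ≫ (X ↘ Spec (CommRingCat.of ℂ))) δ' (fun _ => 0)) :
    (∀ z : AlgebraicCycle X' ℤ, z ∈ Cyc.Zk X' δ' 0 →
        Cyc.RatEquivZero δ 0 (AlgebraicCycle.map π δ' δ z) → Cyc.RatEquivZero δ' 0 z) ∧
      ∀ α : AlgebraicCycle X ℤ, α ∈ Cyc.Zk X δ 0 →
        ∃ z : AlgebraicCycle X' ℤ, z ∈ Cyc.Zk X' δ' 0 ∧ Cyc.RatEquiv δ 0 (AlgebraicCycle.map π δ' δ z) α := by
  classical
  let f := X ↘ Spec (CommRingCat.of ℂ)
  haveI : IsProper f := Groth.Agent.NormalLib.isProper_of_projective _ hX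
  haveI : IsLocallyNoetherian X := LocallyOfFiniteType.isLocallyNoetherian f
  haveI : IsProper π := Groth.Agent.PointBlow.isProper_point hx hπ
  haveI : CompactSpace X := QuasiCompact.compactSpace_of_compactSpace f
  haveI : CompactSpace X' := QuasiCompact.compactSpace_of_compactSpace (π ≫ f)
  have hXs : Cyc.IsSetup X δ := H23.SetupLFT.isSetup f (CycLib.isSetup_spec_field ℂ) hδ
  have hX's : Cyc.IsSetup X' δ' := H23.SetupLFT.isSetup (π ≫ f) (CycLib.isSetup_spec_field ℂ) hδ'
  have hcomp : Cyc.DeltaCompat π δ' δ := fun w =>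
    ⟨FibDim.rd π w, (FibDim.rd_eq_rdeg π w).symm, by
      rw [CycLib.deltaCompat_eq (π ≫ f) hδ' w, CycLib.rd_comp, CycLib.deltaCompat_eq f hδ (π w)]
      push_cast
      ring⟩
  let V : X.Opens := ⟨{x}ᶜ, hx.isOpen_compl⟩
  haveI := PointBlow.isIso_off hx hπ
  have hoff : ∀ y : X, y ≠ x → ∃ w : X', π w = y := fun y hy => by
    obtain ⟨w, hw⟩ := (π ∣_ V).homeomorph.surjective ⟨y, hy⟩
    refine ⟨(π ⁻¹ᵁ V).ι w, ?_⟩
    rw [← Scheme.Hom.comp_apply, ← morphismRestrict_ι, Scheme.Hom.comp_apply]
    exact congrArg V.ι hw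
  refine ⟨fun z hz hrat => ?_, fun α hα => ?_⟩
  · obtain ⟨z₁, hz₁, hzz₁, hmap⟩ := H23.BlowPoint.exists_rep π hX's hXs hcomp 0 (fun η hη => by
      have hηx : η ≠ x := fun h => by
        rw [h, H23.RatLine.delta_closed f hδ hx] at hη
        omega
      obtain ⟨w, rfl⟩ := hoff η hηx
      haveI := PointBlow.isIso_stalkMap_off hx hπ hηx
      have hbij : Function.Bijective (π.residueFieldMap w) :=
        (IsLocalRing.ResidueField.mapEquiv (asIso (π.stalkMap w)).commRingCatIsoToRingEquiv).bijective
      refine ⟨w, rfl, ?_, hbij⟩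
      obtain ⟨n, hn, he⟩ := hcomp w
      letI := (π.residueFieldMap w).hom.toAlgebra
      haveI : Algebra.IsAlgebraic (X.residueField (π w)) (X'.residueField w) := ⟨fun t => by
        obtain ⟨y, rfl⟩ := hbij.2 t
        exact isAlgebraic_algebraMap y⟩
      rw [trdeg_eq_zero] at hn
      have : n = 0 := by exact_mod_cast hn.symm
      omega) hz hrat
    obtain ⟨S, hS, hsum⟩ := H23.BlowPoint.eq_sum_pc z₁
    have hδS : ∀ w ∈ S, δ' w = 0 := fun w hw => by_contra fun h => (hS w).1 hw (hz₁ w h)
    have hcl : ∀ w ∈ S, IsClosed ({w} : Set X') := fun w hw =>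
      H23.BlowPoint.closed_of_delta_eq_zero hX's hδ' (hδS w hw)
    have hπc : ∀ w ∈ S, δ (π w) = 0 := fun w hw => by
      refine H23.RatLine.delta_closed f hδ ?_
      simpa using π.isClosedMap _ (hcl w hw)
    have hmp : ∀ w ∈ S, AlgebraicCycle.map π δ' δ (H23.RatLine.pc w) = H23.RatLine.pc (π w) :=
      fun w hw => H23.BlowPoint.map_pc π hδ' hδ (hδS w hw) (hπc w hw)
    have hval : ∀ y : X, ∑ w ∈ S, (if y = π w then z₁ w else 0) = 0 := fun y => by
      have h := congrArg (fun c : AlgebraicCycle X ℤ => c y) hmap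
      simp only [Function.locallyFinsuppWithin.coe_zero, Pi.zero_apply] at h
      rw [hsum, ← H23.BlowPoint.pushHom_apply, map_sum, Function.locallyFinsuppWithin.coe_sum,
        Finset.sum_apply] at h
      refine Eq.trans (Finset.sum_congr rfl fun w hw => ?_) h
      rw [map_zsmul, H23.BlowPoint.pushHom_apply, hmp w hw, Function.locallyFinsuppWithin.coe_zsmul, Pi.smul_apply,
        H23.RatLine.pc_apply]
      split_ifs <;> simp
    have hSx : ∀ w ∈ S, π w = x := fun w hw => by
      by_contra hne
      refine (hS w).1 hw ?_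
      have h := hval (π w)
      rwa [Finset.sum_eq_single_of_mem w hw (fun v _ hvw => if_neg fun he =>
        hvw (PointBlow.injective_off hx hπ hne he).symm), if_pos rfl] at h
    have hdeg : ∑ w ∈ S, z₁ w = 0 := by
      refine Eq.trans (Finset.sum_congr rfl fun w hw => ?_) (hval x)
      rw [if_pos (hSx w hw).symm]
    haveI := hX's.1
    refine (H23.ProjBd.mem_ratZero hX's.2.2).1 ?_
    rw [← sub_add_cancel z z₁]
    refine add_mem hzz₁ ?_
    rcases S.eq_empty_or_nonempty with hS0 | ⟨w₀, hw₀⟩
    · rw [hsum, hS0, Finset.sum_empty]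
      exact zero_mem _
    · have h2 : z₁ = ∑ w ∈ S, z₁ w • (H23.RatLine.pc w - H23.RatLine.pc w₀) := by
        simp only [smul_sub]
        rw [Finset.sum_sub_distrib, ← Finset.sum_smul, hdeg, zero_smul, sub_zero]
        exact hsum
      rw [h2]
      exact sum_mem fun w hw => zsmul_mem
        (show H23.RatLine.pc w - H23.RatLine.pc w₀ ∈ H23.ProjBd.ratZero hX's.2.2 0 from
          H23.BlowPoint.ratEquiv_over f hx hπ hδ' (hcl w hw) (hcl w₀ hw₀) (hSx w hw) (hSx w₀ hw₀)) _
  · have hsurj : Function.Surjective π := fun y => by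
      by_cases hy : y = x
      · subst hy
        have hr : IsClosed (Set.range π) := π.isClosedMap.isClosed_range
        by_contra hne
        have hopen : IsOpen ({y} : Set X) := by
          have : (Set.range π)ᶜ = {y} := by
            refine Set.eq_singleton_iff_unique_mem.2 ⟨hne, fun v hv => by_contra fun h => hv (hoff v h)⟩
          exact this ▸ hr.isOpen_compl
        have huniv : ({y} : Set X) = Set.univ := by
          rw [← hx.closure_eq]
          exact (hopen.dense ⟨y, rfl⟩).closure_eq
        haveI : Subsingleton X := ⟨fun a b =>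
          ((huniv ▸ Set.mem_univ a : a ∈ ({y} : Set X)) : a = y).trans
            ((huniv ▸ Set.mem_univ b : b ∈ ({y} : Set X)) : b = y).symm⟩
        haveI : Subsingleton (TopologicalSpace.IrreducibleCloseds X) := ⟨fun A B => by
          ext v
          obtain ⟨p, hp⟩ := A.isIrreducible.nonempty
          obtain ⟨q, hq⟩ := B.isIrreducible.nonempty
          exact ⟨fun _ => Subsingleton.elim q v ▸ hq, fun _ => Subsingleton.elim p v ▸ hp⟩⟩
        exact absurd hdim (not_le.2 (lt_of_le_of_lt Order.krullDim_nonpos_of_subsingleton zero_lt_one))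
      · exact hoff y hy
    obtain ⟨z, hz, rfl⟩ := H23.BlowPoint.exists_preimage π hXs hδ' hδ hsurj hα
    exact ⟨z, hz, H23.Chern.ratEquiv_rfl _⟩

end Groth.Agent.S18271
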