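import Groth.Statements.S18280
import Groth.Agent.H23.ZCorrGraphClosure
import Groth.Agent.H23.ZCorrSym
import Groth.Agent.P1Sym.Finite
-- import your own Groth.Agent.* helpers here

set_option autoImplicit false
open CategoryTheory CategoryTheory.Limits AlgebraicGeometry
open ZCorr

namespace Groth.Agent.S18280

set_option maxHeartbeats 800000 in
/-- Over the complex numbers let W be a smooth irreducible quasi-projective variety of dimension n, X a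
smooth irreducible projective variety with a symmetric product Sym^d X, Γ an effective n-cycle on X
× W, U ⊂ W a nonempty open over which the components of Γ have finite fibres, and F : U → Sym^d X a
morphism over the base whose value at each complex point u of U is the point of the fibre cycle Γ_u.
If G ⊂ W × Sym^d X denotes the closure of the graph of F, then any two complex points of G over the
same point of W have rationally equivalent zero-cycles on X: all cycles in a fibre of G → W over a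
closed point are rationally equivalent. -/
theorem result
    (W X : Scheme.{0}) [W.Over (Spec (CommRingCat.of ℂ))] [X.Over (Spec (CommRingCat.of ℂ))]
    [AlgebraicGeometry.IsIntegral W] [Smooth (W ↘ Spec (CommRingCat.of ℂ))] (hW : RelProj.IsHQuasiProjective (W ↘ Spec (CommRingCat.of ℂ)))
    (n : ℕ) (hdimW : topologicalKrullDim W = n)
    [AlgebraicGeometry.IsIntegral X] [Smooth (X ↘ Spec (CommRingCat.of ℂ))] (hX : RelProj.IsHProjective (X ↘ Spec (CommRingCat.of ℂ)))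
    (d : ℕ) (Sy : Scheme.{0}) (q : SymProd.fibPow (X ↘ Spec (CommRingCat.of ℂ)) d ⟶ Sy) (g : Sy ⟶ Spec (CommRingCat.of ℂ))
    (hS : SymProd.IsSymProd (X ↘ Spec (CommRingCat.of ℂ)) d q g)
    (δX : X → ℤ) (hδX : Cyc.DeltaCompat (X ↘ Spec (CommRingCat.of ℂ)) δX (fun _ => 0))
    (δ : ↥(pullback (X ↘ Spec (CommRingCat.of ℂ)) (W ↘ Spec (CommRingCat.of ℂ))) → ℤ)
    (hδ : Cyc.DeltaCompat (pullback.fst (X ↘ Spec (CommRingCat.of ℂ)) (W ↘ Spec (CommRingCat.of ℂ)) ≫ (X ↘ Spec (CommRingCat.of ℂ))) δ (fun _ => 0))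
    (Γ : AlgebraicCycle (pullback (X ↘ Spec (CommRingCat.of ℂ)) (W ↘ Spec (CommRingCat.of ℂ))) ℤ)
    (hΓ : Γ ∈ Cyc.Zk (pullback (X ↘ Spec (CommRingCat.of ℂ)) (W ↘ Spec (CommRingCat.of ℂ))) δ n) (hΓ0 : ∀ ξ, 0 ≤ Γ ξ)
    (U : W.Opens) (hU : (U : Set W).Nonempty)
    (hfin : ∀ ξ, Γ ξ ≠ 0 → ∀ w ∈ U, (closure {ξ} ∩ pullback.snd (X ↘ Spec (CommRingCat.of ℂ)) (W ↘ Spec (CommRingCat.of ℂ)) ⁻¹' {w}).Finite)
    (F : (U : Scheme.{0}) ⟶ Sy) (hF : U.ι ≫ (W ↘ Spec (CommRingCat.of ℂ)) = F ≫ g)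
    (hFval : ∀ (u : Spec (CommRingCat.of ℂ) ⟶ (U : Scheme.{0})) (hu : (u ≫ U.ι) ≫ (W ↘ Spec (CommRingCat.of ℂ)) = 𝟙 _),
      ZCorr.IsCycleOfSymPt (X ↘ Spec (CommRingCat.of ℂ)) d q (u ≫ F) (AlgEqCyc.fibreFun (X ↘ Spec (CommRingCat.of ℂ)) (W ↘ Spec (CommRingCat.of ℂ)) Γ (u ≫ U.ι) hu))
    (z₁ z₂ : Spec (CommRingCat.of ℂ) ⟶ pullback (W ↘ Spec (CommRingCat.of ℂ)) g)
    (hz₁ : z₁ ≫ pullback.fst (W ↘ Spec (CommRingCat.of ℂ)) g ≫ (W ↘ Spec (CommRingCat.of ℂ)) = 𝟙 _) (hz₂ : z₂ ≫ pullback.fst (W ↘ Spec (CommRingCat.of ℂ)) g ≫ (W ↘ Spec (CommRingCat.of ℂ)) = 𝟙 _)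
    (hG₁ : z₁ (IsLocalRing.closedPoint ℂ) ∈ closure (Set.range ⇑(pullback.lift U.ι F hF)))
    (hG₂ : z₂ (IsLocalRing.closedPoint ℂ) ∈ closure (Set.range ⇑(pullback.lift U.ι F hF)))
    (hsame : z₁ ≫ pullback.fst (W ↘ Spec (CommRingCat.of ℂ)) g = z₂ ≫ pullback.fst (W ↘ Spec (CommRingCat.of ℂ)) g)
    (α₁ α₂ : AlgebraicCycle X ℤ)
    (hα₁ : ZCorr.IsCycleOfSymPt (X ↘ Spec (CommRingCat.of ℂ)) d q (z₁ ≫ pullback.snd (W ↘ Spec (CommRingCat.of ℂ)) g) ⇑α₁)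
    (hα₂ : ZCorr.IsCycleOfSymPt (X ↘ Spec (CommRingCat.of ℂ)) d q (z₂ ≫ pullback.snd (W ↘ Spec (CommRingCat.of ℂ)) g) ⇑α₂) :
    Cyc.RatEquiv δX 0 α₁ α₂ := by
  obtain ⟨m, i, hi, hip⟩ := hX
  haveI := hi
  haveI : IsProper (X ↘ Spec (CommRingCat.of ℂ)) := by
    rw [← hip]
    haveI : IsProper (CohB1.ProjSpaceOver.toBase m (Spec (CommRingCat.of ℂ))) := P1Sym.isProper_toBase _ _
    infer_instance
  haveI : Smooth (X ↘ Spec (CommRingCat.of ℂ)) := inferInstance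
  exact H23.ZCorrGraphClosure.ratEquiv (X ↘ Spec (CommRingCat.of ℂ)) (H23.ZCorrSym.isAF_of_isHProjective _ ⟨m, i, hi, hip⟩) hS
    (W ↘ Spec (CommRingCat.of ℂ)) n hdimW δX hδX U hU F hF z₁ z₂ hz₁ hz₂ hG₁ hG₂ hsame α₁ α₂ hα₁ hα₂

end Groth.Agent.S18280
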