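import Groth.Statements.S18281
import Groth.Agent.H23.CorrLoci
-- import your own Groth.Agent.* helpers here

set_option autoImplicit false
open CategoryTheory CategoryTheory.Limits AlgebraicGeometry
open ZCorr

namespace Groth.Agent.S18281

/-- Over the complex numbers let W be a smooth irreducible quasi-projective variety of dimension n, X a
smooth irreducible projective variety, and Z an integral closed subscheme of X × W of dimension n
(an irreducible component of a correspondence from W to X), with projection π : Z → W. (a) The set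
of points of W over which π is flat (flat at every point of the fibre) is open and nonempty. (b) The
set U of points of W with finite fibre is open and nonempty, and π restricted over U is finite. -/
theorem result
    (W X : Scheme.{0}) [W.Over (Spec (CommRingCat.of ℂ))] [X.Over (Spec (CommRingCat.of ℂ))]
    [AlgebraicGeometry.IsIntegral W] [Smooth (W ↘ Spec (CommRingCat.of ℂ))] (hW : RelProj.IsHQuasiProjective (W ↘ Spec (CommRingCat.of ℂ)))
    (n : ℕ) (hdimW : topologicalKrullDim W = n)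
    [AlgebraicGeometry.IsIntegral X] [Smooth (X ↘ Spec (CommRingCat.of ℂ))] (hX : RelProj.IsHProjective (X ↘ Spec (CommRingCat.of ℂ)))
    {Z : Scheme.{0}} (i : Z ⟶ pullback (X ↘ Spec (CommRingCat.of ℂ)) (W ↘ Spec (CommRingCat.of ℂ))) [IsClosedImmersion i]
    [AlgebraicGeometry.IsIntegral Z] (hdimZ : topologicalKrullDim Z = n) :
    (IsOpen {w : W | ∀ z : Z, (i ≫ pullback.snd (X ↘ Spec (CommRingCat.of ℂ)) (W ↘ Spec (CommRingCat.of ℂ))) z = w →
        ((i ≫ pullback.snd (X ↘ Spec (CommRingCat.of ℂ)) (W ↘ Spec (CommRingCat.of ℂ))).stalkMap z).hom.Flat} ∧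
      {w : W | ∀ z : Z, (i ≫ pullback.snd (X ↘ Spec (CommRingCat.of ℂ)) (W ↘ Spec (CommRingCat.of ℂ))) z = w →
        ((i ≫ pullback.snd (X ↘ Spec (CommRingCat.of ℂ)) (W ↘ Spec (CommRingCat.of ℂ))).stalkMap z).hom.Flat}.Nonempty) ∧
    ∃ U : W.Opens, (U : Set W) = {w : W | ((i ≫ pullback.snd (X ↘ Spec (CommRingCat.of ℂ)) (W ↘ Spec (CommRingCat.of ℂ))) ⁻¹' {w}).Finite} ∧
      (U : Set W).Nonempty ∧ IsFinite ((i ≫ pullback.snd (X ↘ Spec (CommRingCat.of ℂ)) (W ↘ Spec (CommRingCat.of ℂ))) ∣_ U) := by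
  haveI : IsProper (X ↘ Spec (CommRingCat.of ℂ)) := Groth.Agent.NormalLib.isProper_of_projective _ hX
  haveI : IsLocallyNoetherian W := LocallyOfFiniteType.isLocallyNoetherian (W ↘ Spec (CommRingCat.of ℂ))
  haveI : IsProper (pullback.snd (X ↘ Spec (CommRingCat.of ℂ)) (W ↘ Spec (CommRingCat.of ℂ))) :=
    MorphismProperty.pullback_snd _ _ inferInstance
  haveI : IsProper (i ≫ pullback.snd (X ↘ Spec (CommRingCat.of ℂ)) (W ↘ Spec (CommRingCat.of ℂ))) :=
    MorphismProperty.comp_mem _ _ _ inferInstance inferInstance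
  haveI : LocallyOfFinitePresentation (i ≫ pullback.snd (X ↘ Spec (CommRingCat.of ℂ)) (W ↘ Spec (CommRingCat.of ℂ))) :=
    LocallyOfFinitePresentation.iff_locallyOfFiniteType.2 inferInstance
  refine ⟨Groth.Agent.H23.CorrLoci.isOpen_flatFibre_and_nonempty _ (Scheme.Hom.isClosedMap _), ?_⟩
  obtain ⟨U, hU, hfin⟩ := Groth.Agent.H23.CorrLoci.exists_finiteLocus
    (i ≫ pullback.snd (X ↘ Spec (CommRingCat.of ℂ)) (W ↘ Spec (CommRingCat.of ℂ)))
  refine ⟨U, hU, ⟨genericPoint W, ?_⟩, hfin⟩
  rw [hU]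
  exact Groth.Agent.H23.CorrLoci.finite_generic_fibre _ (W ↘ Spec (CommRingCat.of ℂ)) (le_of_eq (hdimZ.trans hdimW.symm))

end Groth.Agent.S18281
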