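import Groth.Statements.S18283
import Mathlib

set_option autoImplicit false
universe u v
open CAlgX

namespace Groth.Agent.S18283

/-- Let A be a commutative ring, ι a finite index type, H a finite set of indices (the head indices) and
c : ι → ι → A a table of coefficients; for j ∈ H put f_j = e_j − Σ_{i ∉ H} c_{ji} e_i in the free
module A^ι, so that each f_j has head e_j with coefficient 1 and tail supported outside H. If a
submodule M of A^ι contains every f_j with j ∈ H, then M is the A-span of these f_j if and only if
every wedge product of |H|+1 elements of M vanishes in the (|H|+1)-st exterior power of A^ι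
(equivalently, every (|H|+1)-minor of every matrix whose rows lie in M vanishes). The published
statement is the case where A is a Noetherian algebra over a field of characteristic zero, A^ι is
the degree-(m+1) part of the polynomial ring over A with its basis of terms, H is the set of
degree-(m+1) terms of a strongly stable monomial ideal generated in degree m, and M is the
degree-(m+1) part of an ideal generated by a marked set on that monomial ideal; this row allows any
commutative ring and any submodule containing the marked polynomials. -/
theorem result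
    {A : Type u} [CommRing A] {ι : Type v} [Fintype ι] [DecidableEq ι]
    (H : Finset ι) (c : ι → ι → A) (M : Submodule A (ι → A))
    (hf : ∀ j ∈ H, (Pi.single j (1 : A) - ∑ i ∈ Hᶜ, c j i • Pi.single i (1 : A)) ∈ M) :
    M = Submodule.span A ((fun j => Pi.single j (1 : A) - ∑ i ∈ Hᶜ, c j i • Pi.single i (1 : A)) '' ↑H)
      ↔ ∀ v : Fin (H.card + 1) → ι → A, (∀ k, v k ∈ M) →
          exteriorPower.ιMulti A (H.card + 1) v = 0 := by
  classical
  set f : ι → ι → A := fun j => Pi.single j (1 : A) - ∑ i ∈ Hᶜ, c j i • Pi.single i (1 : A) with hfdef
  have hfv : ∀ j t, f j t = (if t = j then 1 else 0) - (if t ∈ Hᶜ then c j t else 0) := by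
    intro j t
    simp [f, Pi.single_apply, Finset.sum_apply]
  constructor
  · intro hM v hv
    let Φ : (H → A) →ₗ[A] (ι → A) := Fintype.linearCombination A (fun j : H => f j)
    have hmem : ∀ k, v k ∈ LinearMap.range Φ := by
      intro k
      have := hM ▸ hv k
      rw [Fintype.range_linearCombination]
      refine Submodule.span_mono ?_ this
      rintro _ ⟨j, hj, rfl⟩
      exact ⟨⟨j, hj⟩, rfl⟩
    choose w hw using hmem
    have hz : exteriorPower.ιMulti A (H.card + 1) w = 0 := by
      have : (exteriorPower.ιMulti A (H.card + 1) : (H → A) [⋀^Fin (H.card + 1)]→ₗ[A] _) = 0 := by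
        refine Module.Basis.ext_alternating (Pi.basisFun A H) fun e he => ?_
        exact absurd (Fintype.card_le_of_injective e he) (by simp)
      simp [this]
    rw [show v = Φ ∘ w from funext fun k => (hw k).symm, ← exteriorPower.map_apply_ιMulti, hz, map_zero]
  · intro hw
    refine le_antisymm ?_ (Submodule.span_le.2 ?_)
    swap
    · rintro _ ⟨j, hj, rfl⟩; exact hf j hj
    intro m hm
    let n := H.card
    let e : Fin n ≃ H := H.equivFin.symm
    let m' := m - ∑ j ∈ H, m j • f j
    have hm'M : m' ∈ M := M.sub_mem hm (M.sum_mem fun j hj => M.smul_mem _ (hf j hj))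
    have hm'H : ∀ t ∈ H, m' t = 0 := by
      intro t ht
      simp [m', Finset.sum_apply, hfv, ht, Finset.sum_ite_eq]
    have hm'0 : m' = 0 := by
      funext i
      by_cases hi : i ∈ H
      · exact hm'H i hi
      let P : (ι → A) →ₗ[A] (Fin (n + 1) → A) :=
        LinearMap.funLeft A A (Fin.snoc (fun k => (e k : ι)) i : Fin (n + 1) → ι)
      let v : Fin (n + 1) → ι → A := Fin.snoc (fun k => f (e k)) m'
      have hv : ∀ k, v k ∈ M := by
        intro k
        refine Fin.lastCases ?_ (fun k => ?_) k
        · simpa [v] using hm'M
        · simpa [v] using hf _ (e k).2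
      let D : (ι → A) [⋀^Fin (n + 1)]→ₗ[A] A := Matrix.detRowAlternating.compLinearMap P
      have h0 : D v = 0 := by
        rw [← exteriorPower.alternatingMapLinearEquiv_apply_ιMulti D v, hw v hv, map_zero]
      let Mx : Matrix (Fin (n + 1)) (Fin (n + 1)) A := fun a b => P (v a) b
      have h1 : Mx.det = 0 := h0
      have htri : Mx.IsUpperTriangular := by
        intro a b hab
        change b < a at hab
        obtain ⟨b', rfl⟩ : ∃ b' : Fin n, b = b'.castSucc :=
          ⟨⟨b.val, by omega⟩, by ext; rfl⟩
        refine Fin.lastCases (fun _ => ?_) (fun a hab => ?_) a hab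
        · simp [Mx, P, v, LinearMap.funLeft_apply, hm'H _ (e b').2]
        · simp [Mx, P, v, LinearMap.funLeft_apply, hfv, (e b').2,
            Subtype.coe_injective.ne (e.injective.ne (ne_of_lt (Fin.castSucc_lt_castSucc_iff.1 hab)))]
      rw [Matrix.det_of_upperTriangular htri, Fin.prod_univ_castSucc] at h1
      simpa [Mx, P, v, LinearMap.funLeft_apply, hfv, Finset.sum_ite_eq] using h1
    have : m = ∑ j ∈ H, m j • f j := sub_eq_zero.1 hm'0
    rw [this]
    exact Submodule.sum_mem _ fun j hj => Submodule.smul_mem _ _ (Submodule.subset_span ⟨j, hj, rfl⟩)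


end Groth.Agent.S18283
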