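import Groth.Statements.S18285
import Groth.Agent.MagnetLib.Mono
-- import your own Groth.Agent.* helpers here

set_option autoImplicit false
universe u
open CategoryTheory MonoidalCategory CartesianMonoidalCategory MonObj AlgebraicGeometry Opposite
open Magnet

namespace Groth.Agent.S18285

/-- Let X be an S-scheme separated over S with an action of the diagonalizable monoid scheme A(M)_S of a
commutative monoid M, and N a submonoid of M. Then the canonical map from the attractor X^N to X
(evaluation at the unit section of A(N)_S) is a monomorphism: for every S-scheme T it is injective
on T-points. (The published statement allows X to be an algebraic space over S; here X is a scheme.) -/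
theorem result (S : Scheme.{u}) (M : Type) [AddCommMonoid M]
    (X : Over S) [IsSeparated X.hom] (a : Magnet.MonAct (Magnet.AMonS S M) X) (N : AddSubmonoid M) (T : Over S) :
    Function.Injective (fun φ => (Magnet.attrToX a N).app (op T) φ) := by
  exact Groth.Agent.MagnetLib.attrToX_injective a N T

end Groth.Agent.S18285
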