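import Groth.Statements.S18286
import Groth.Agent.H23.EqvPullback
import Groth.Agent.H23.AMonExt
-- import your own Groth.Agent.* helpers here

set_option autoImplicit false
universe u
open CategoryTheory MonoidalCategory CartesianMonoidalCategory MonObj AlgebraicGeometry Opposite
open Magnet

namespace Groth.Agent.S18286

/-- Let Y be an S-scheme affine over S with an action of the diagonalizable monoid scheme A(M)_S of a
commutative monoid M, let f : Z → Y be an equivariant closed immersion (for an action of A(M)_S on
Z), and let N ⊆ M be a submonoid (magnet). Then Z^N = Z ×_Y Y^N: the square of functors on S-schemes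
formed by f^N : Z^N → Y^N, the canonical maps Z^N → Z and Y^N → Y (evaluation at the unit section)
and f is cartesian. -/
theorem result (S : Scheme.{u}) (M : Type) [AddCommMonoid M]
    (N : AddSubmonoid M) (Y Z : Over S) [IsAffineHom Y.hom] (aY : Magnet.MonAct (Magnet.AMonS S M) Y)
    (aZ : Magnet.MonAct (Magnet.AMonS S M) Z) (f : Z ⟶ Y) [IsClosedImmersion f.left]
    (hf : Magnet.MonAct.IsEquivariant aZ aY f) :
    IsPullback (Magnet.MonAct.eqvHom.postcomp (Magnet.subAct S M N) f hf) (Magnet.attrToX aZ N)
      (Magnet.attrToX aY N) (yoneda.map f) := by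
  haveI := Groth.Agent.H23.AMonExt.mono_of_isClosedImmersion f
  refine Groth.Agent.H23.EqvPullback.isPullback_postcomp _ f hf η[Magnet.AMonS S N] (Magnet.AMonS.map S N.subtype) (fun T g => ?_) (fun T h g hg => ?_)
  · exact ((Magnet.MonAct.lift_restrict_act _ _ _ _).trans (Magnet.MonAct.lift_regular_act _ _)).trans (by rw [← Hom.one_def, _root_.mul_one])
  · exact Groth.Agent.H23.AMonExt.exists_lift_AMonS_map N.subtype Subtype.val_injective T f h g hg

end Groth.Agent.S18286
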