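import Groth.Statements.S18293
import Groth.Agent.MagnetLib.Formal
-- import your own Groth.Agent.* helpers here

set_option autoImplicit false
universe v₁ u₁
open CategoryTheory MonoidalCategory CartesianMonoidalCategory MonObj Opposite
open Magnet Magnet.MonAct

namespace Groth.Agent.S18293

/-- Let A be a monoid object of a cartesian monoidal category acting on X₁, X₂ and X₃, let f₁ : X₁ → X₂
and f₃ : X₃ → X₂ be equivariant, and let p₁ : P → X₁, p₃ : P → X₃ make P the fibre product X₁ ×_{X₂}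
X₃ (in the source A = A(M)_S acts on S-spaces). Then P carries exactly one action of A for which p₁
and p₃ are equivariant (the canonical action g • (x₁, x₃) = (g • x₁, g • x₃)); with it the square is
cartesian among objects with A-action. -/
theorem result {C : Type u₁} [Category.{v₁} C] [CartesianMonoidalCategory C]
    {A X₁ X₂ X₃ P : C} [MonObj A] (a₁ : Magnet.MonAct A X₁) (a₂ : Magnet.MonAct A X₂) (a₃ : Magnet.MonAct A X₃)
    (f₁ : X₁ ⟶ X₂) (f₃ : X₃ ⟶ X₂) (p₁ : P ⟶ X₁) (p₃ : P ⟶ X₃) (hsq : IsPullback p₁ p₃ f₁ f₃)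
    (hf₁ : Magnet.MonAct.IsEquivariant a₁ a₂ f₁) (hf₃ : Magnet.MonAct.IsEquivariant a₃ a₂ f₃) :
    ∃! aP : Magnet.MonAct A P, Magnet.MonAct.IsEquivariant aP a₁ p₁ ∧ Magnet.MonAct.IsEquivariant aP a₃ p₃ := by
  exact Groth.Agent.MagnetLib.existsUnique_monAct_of_isPullback a₁ a₂ a₃ f₁ f₃ p₁ p₃ hsq hf₁ hf₃

end Groth.Agent.S18293
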