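import Groth.Statements.S18294
import Groth.Prelude.Def_CGrpSh
import Mathlib.CategoryTheory.Sites.Subcanonical
-- import your own Groth.Agent.* helpers here

set_option autoImplicit false
universe u
open CategoryTheory MonoidalCategory CartesianMonoidalCategory MonObj AlgebraicGeometry Opposite
open Magnet

namespace Groth.Agent.S18294

/-- Let A be a monoid object in schemes over S acting on S-schemes B and X (in the source A is the
diagonalizable monoid scheme A(M)_S and B = A(N)_S for a magnet N, so that the functor below is the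
attractor X^N). Then the functor on S-schemes T ↦ (morphisms B ×_S T → X over S equivariant for A
acting on the first factor) is a sheaf for the fppf topology. -/
theorem result (S : Scheme.{u}) (A B X : Over S) [MonObj A] (ρ : Magnet.MonAct A B)
    (a : Magnet.MonAct A X) :
    Presheaf.IsSheaf (QuotSh.J Scheme.fppfPrecoverage S) (Magnet.MonAct.eqvHom ρ a) := by
  let J := QuotSh.J Scheme.fppfPrecoverage S
  have hy : Presieve.IsSheaf J (yoneda.obj X) := GrothendieckTopology.Subcanonical.isSheaf_of_isRepresentable _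
  rw [isSheaf_iff_isSheaf_of_type]
  intro T R hR x hx
  let p := snd B T
  let P := R.pullback p
  have hP : P ∈ J (B ⊗ T) := J.pullback_stable p hR
  let x' : Presieve.FamilyOfElements (yoneda.obj X) P.arrows := fun W k hk =>
    lift (k ≫ fst B T) (𝟙 W) ≫ (x (k ≫ p) hk).1
  have hcomp : ∀ {Z W : Over S} (g : W ⟶ Z) (h : Z ⟶ T) (hh : R h) (hh' : R (g ≫ h)),
      (x (g ≫ h) hh').1 = (B ◁ g) ≫ (x h hh).1 := fun g h hh hh' =>
    by simpa using congrArg Subtype.val (hx (𝟙 _) g hh' hh (Category.id_comp _))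
  have hval : ∀ {Z W : Over S} (g : W ⟶ Z) (c : W ⟶ B) (h : Z ⟶ T) (hh : R h) (hh' : R (g ≫ h)),
      lift c (𝟙 W) ≫ (x (g ≫ h) hh').1 = lift c g ≫ (x h hh).1 := fun g c h hh hh' => by
    rw [hcomp g h hh hh', lift_whiskerLeft_assoc, Category.id_comp]
  have hx' : x'.Compatible := by
    intro Y₁ Y₂ Z g₁ g₂ f₁ f₂ h₁ h₂ hf
    show g₁ ≫ lift (f₁ ≫ fst B T) (𝟙 Y₁) ≫ (x (f₁ ≫ p) h₁).1 = g₂ ≫ lift (f₂ ≫ fst B T) (𝟙 Y₂) ≫ (x (f₂ ≫ p) h₂).1
    rw [← Category.assoc, ← Category.assoc, comp_lift, comp_lift, Category.comp_id, Category.comp_id,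
      ← hval g₁ _ (f₁ ≫ p) h₁ (R.downward_closed h₁ g₁), ← hval g₂ _ (f₂ ≫ p) h₂ (R.downward_closed h₂ g₂),
      ← Category.assoc g₁, ← Category.assoc g₂, hf]
    have : ∀ (a b : Z ⟶ T) (ha : R a) (hb : R b), a = b → (x a ha).1 = (x b hb).1 := by
      rintro a b ha hb rfl; rfl
    rw [this _ _ _ _ (show g₁ ≫ f₁ ≫ p = g₂ ≫ f₂ ≫ p by rw [← Category.assoc, hf, Category.assoc])]
  let y := (hy P hP).amalgamate x' hx'
  have hy' : ∀ {Z : Over S} (h : Z ⟶ T) (hh : R h), (B ◁ h) ≫ y = (x h hh).1 := by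
    intro Z h hh
    have hk : P (B ◁ h) := by
      show R ((B ◁ h) ≫ snd B T)
      rw [whiskerLeft_snd]
      exact R.downward_closed hh _
    refine ((hy P hP).valid_glue hx' _ hk).trans ?_
    show lift ((B ◁ h) ≫ fst B T) (𝟙 _) ≫ (x ((B ◁ h) ≫ p) hk).1 = _
    have : ∀ (a b : B ⊗ Z ⟶ T) (ha : R a) (hb : R b), a = b → (x a ha).1 = (x b hb).1 := by
      rintro a b ha hb rfl; rfl
    rw [this _ _ hk (R.downward_closed hh (snd B Z)) (whiskerLeft_snd B h), hval (snd B Z) _ h hh _,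
      whiskerLeft_fst, lift_fst_snd, Category.id_comp]
  have hext : ∀ {u v : B ⊗ T ⟶ X}, (∀ {Z : Over S} (h : Z ⟶ T), R h → (B ◁ h) ≫ u = (B ◁ h) ≫ v) → u = v := by
    intro u v huv
    refine (hy P hP).isSeparatedFor.ext fun W k hk => ?_
    show k ≫ u = k ≫ v
    have e : k = lift (k ≫ fst B T) (𝟙 W) ≫ (B ◁ (k ≫ p)) := by
      rw [lift_whiskerLeft, Category.id_comp, ← comp_lift, lift_fst_snd, Category.comp_id]
    rw [e, Category.assoc, Category.assoc, huv _ hk]
  refine ⟨⟨y, ?_⟩, fun Z h hh => Subtype.ext (hy' h hh), fun z hz => Subtype.ext ?_⟩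
  · rw [Magnet.MonAct.mem_eqvHom_iff]
    intro T' g b t
    refine (hy (R.pullback t) (J.pullback_stable t hR)).isSeparatedFor.ext fun Z h hh => ?_
    show h ≫ lift (lift g b ≫ ρ.act) t ≫ y = h ≫ lift g (lift b t ≫ y) ≫ a.act
    have e : ∀ c : Z ⟶ B, lift c (h ≫ t) ≫ y = lift c (𝟙 Z) ≫ (x (h ≫ t) hh).1 := fun c => by
      rw [← hy' _ hh, lift_whiskerLeft_assoc, Category.id_comp]
    rw [← Category.assoc, comp_lift, ← Category.assoc h (lift g b), comp_lift, e]
    rw [← Category.assoc h (lift g _), comp_lift, ← Category.assoc h (lift b t), comp_lift, e]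
    exact (Magnet.MonAct.mem_eqvHom_iff _).1 (x (h ≫ t) hh).2 Z (h ≫ g) (h ≫ b) (𝟙 Z)
  · exact hext fun h hh => (congrArg Subtype.val (hz h hh)).trans (hy' h hh).symm

end Groth.Agent.S18294
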