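import Groth.Statements.S18303
import Groth.Agent.H23.AttrFaceSquare
-- import your own Groth.Agent.* helpers here

set_option autoImplicit false
universe u
open CategoryTheory MonoidalCategory CartesianMonoidalCategory MonObj AlgebraicGeometry Opposite
open Magnet

namespace Groth.Agent.S18303

/-- Let M be a commutative group, X an S-scheme with an action of the diagonalizable group scheme
D(M)_S, and N, N', L, L' submonoids (magnets) of M with N ≤ L ≤ L', N' ≤ L', L a face of L', N a
face of N', N = L ∩ N', L' = L + N' and N' = L' minus (L minus N). Then the square formed by the
inclusion maps of attractors X^{N'} → X^{L'}, X^N → X^L and the face projections X^{N'} → X^N,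
X^{L'} → X^L is cartesian as a square of functors on S-schemes. (The published statement assumes the
four attractors representable by schemes and concludes that the square of schemes is cartesian; its
argument is on T-valued points and gives the square of functors, which is what is stated.) -/
theorem result (S : Scheme.{u}) (M : Type) [AddCommGroup M] (X : Over S)
    (a : AlgGrp.Action (Red.DS S M) X) (N N' L L' : AddSubmonoid M) (hNL : N ≤ L) (hN'L' : N' ≤ L')
    (hL : Magnet.IsFace L' L) (hN : Magnet.IsFace N' N) (hmeet : N = L ⊓ N') (hjoin : L' = L ⊔ N')
    (hdiff : (N' : Set M) = (L' : Set M) \ ((L : Set M) \ (N : Set M))) :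
    IsPullback (Magnet.attrMap (Magnet.MonAct.ofAction a) hN'L') (Magnet.attrFace (Magnet.MonAct.ofAction a) hN)
      (Magnet.attrFace (Magnet.MonAct.ofAction a) hL) (Magnet.attrMap (Magnet.MonAct.ofAction a) hNL) := by
  exact Groth.Agent.H23.AttrFaceSquare.isPullback (Magnet.MonAct.ofAction a) hNL hN'L' hL hN hdiff

end Groth.Agent.S18303
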