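import Groth.Statements.S18305
import Groth.Agent.H23.AMonPushout
-- import your own Groth.Agent.* helpers here

set_option autoImplicit false
universe u
open CategoryTheory MonoidalCategory CartesianMonoidalCategory MonObj AlgebraicGeometry Opposite
open Magnet

namespace Groth.Agent.S18305

/-- Let M be a commutative monoid and N ≤ L ≤ L' submonoids of M with L a face of L'; let N' be the
submonoid L' minus (L minus N), of which N is a face. Then for every scheme S the diagonalizable
monoid scheme A(N')_S is the push-out of A(L')_S ← A(L)_S → A(N)_S in schemes over S: the square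
formed by the face morphism A(L)_S → A(L')_S, the morphism A(L)_S → A(N)_S dual to N ⊆ L, the
morphism A(L')_S → A(N')_S dual to N' ⊆ L' and the face morphism A(N)_S → A(N')_S is cocartesian.
(That N' is a submonoid with face N is assumed here as data; it is a separate elementary statement.) -/
theorem result (S : Scheme.{u}) (M : Type) [AddCommMonoid M]
    (N N' L L' : AddSubmonoid M) (hNL : N ≤ L) (hN'L' : N' ≤ L') (hL : Magnet.IsFace L' L)
    (hN : Magnet.IsFace N' N) (hdiff : (N' : Set M) = (L' : Set M) \ ((L : Set M) \ (N : Set M))) :
    IsPushout (Magnet.AMonS.faceMap S hL) (Magnet.AMonS.map S (AddSubmonoid.inclusion hNL))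
      (Magnet.AMonS.map S (AddSubmonoid.inclusion hN'L')) (Magnet.AMonS.faceMap S hN) := by
  exact Groth.Agent.H23.AMonPushout.isPushout hNL hN'L' hL hN hdiff

end Groth.Agent.S18305
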