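import Groth.Statements.S18308
import Groth.Agent.AlgSpDec.HensLift

set_option backward.isDefEq.respectTransparency false
set_option backward.isDefEq.respectTransparency.types false
-- import your own Groth.Agent.* helpers here

set_option autoImplicit false
universe u
open CategoryTheory CategoryTheory.Limits AlgebraicGeometry
open AlgSp

namespace Groth.Agent.S18308

/-- Let S be a scheme, X an algebraic space over S (an fppf sheaf on schemes over S with representable
diagonal and an étale atlas; no quasi-separatedness is assumed), R a Henselian local ring with a
structure morphism Spec R → S, and z : h_{Spec R} → X an R-point of X over S. Then there are an
affine scheme Z over S, a representable étale morphism p : h_Z → X and an S-morphism g : Spec R → Z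
with h_g followed by p equal to z. The source states this for algebraic stacks whose diagonal has a
separated S-fibre over the image of the closed point, giving a smooth chart in general and, by a
clause of the same statement, an étale chart when the stack is an algebraic space (no
quasi-separatedness assumed: the proof builds the chart from the algebraic space of n-element finite
étale multisections of a separated scheme atlas, which is étale over X, and a second such step
yields a scheme); only the algebraic-space case is stated here. -/
theorem result {S : Scheme.{u}} (X : AlgSp.Space S)
    (R : Type u) [CommRing R] [HenselianLocalRing R] (str : Spec (CommRingCat.of R) ⟶ S)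
    (z : (AlgSp.yon S).obj (Over.mk str) ⟶ X.obj) :
    ∃ (Z : Over S) (p : (AlgSp.yon S).obj Z ⟶ X.obj) (g : Over.mk str ⟶ Z),
      IsAffine Z.left ∧ AlgSp.RepWith @Etale p ∧ (AlgSp.yon S).map g ≫ p = z := by
  exact Groth.Agent.AlgSpDec.HensLift.exists_affine_etale_lift X.property R str z
end Groth.Agent.S18308
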