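import Groth.Statements.S18311
import Groth.Agent.AlgSpDec.HensLift

set_option backward.isDefEq.respectTransparency false
set_option backward.isDefEq.respectTransparency.types false
-- import your own Groth.Agent.* helpers here

set_option autoImplicit false
universe u
open CategoryTheory CategoryTheory.Limits AlgebraicGeometry
open AlgSp

namespace Groth.Agent.S18311

/-- Let S be a scheme, X an algebraic space over S, and R a Henselian local ring with a structure
morphism Spec R → S. Then there are a scheme Z separated over S and a representable étale morphism p
: h_Z → X such that, for every ideal a of R, every point h_{Spec (R/a)} → X over S (Spec (R/a)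
mapping to S through Spec R) is h_g followed by p for some S-morphism g : Spec (R/a) → Z. The source
states this for algebraic stacks whose diagonal has a separated S-fibre over the image of the closed
point, with Z smooth over the stack in general, Z étale over it when the stack is an algebraic space
(a clause of the same statement; no quasi-separatedness assumed), and essential surjectivity on
R/a-points; only the algebraic-space case is stated here. -/
theorem result {S : Scheme.{u}} (X : AlgSp.Space S)
    (R : Type u) [CommRing R] [HenselianLocalRing R] (str : Spec (CommRingCat.of R) ⟶ S) :
    ∃ (Z : Over S) (p : (AlgSp.yon S).obj Z ⟶ X.obj), IsSeparated Z.hom ∧ AlgSp.RepWith @Etale p ∧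
      ∀ (a : Ideal R) (x : (AlgSp.yon S).obj (Over.mk (Spec.map (CommRingCat.ofHom (Ideal.Quotient.mk a)) ≫ str)) ⟶ X.obj),
        ∃ g : Over.mk (Spec.map (CommRingCat.ofHom (Ideal.Quotient.mk a)) ≫ str) ⟶ Z, (AlgSp.yon S).map g ≫ p = x := by
  exact Groth.Agent.AlgSpDec.HensLift.exists_chart_all R str X.property
end Groth.Agent.S18311
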