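import Groth.Statements.S18313
import Groth.Agent.AlgSpDec.HensLift

set_option backward.isDefEq.respectTransparency false
set_option backward.isDefEq.respectTransparency.types false
-- import your own Groth.Agent.* helpers here

set_option autoImplicit false
universe u
open CategoryTheory CategoryTheory.Limits AlgebraicGeometry
open AlgSp

namespace Groth.Agent.S18313

/-- Let R be a Henselian local ring, S = Spec R, and X an algebraic space over S which is smooth over S,
in the sense that there are a scheme U over S with smooth structure morphism U → S and a
representable étale, representable surjective morphism h_U → X. Then for every ideal a ≠ R, every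
point h_{Spec (R/a)} → X over S is the composite of h_q with a point h_S → X over S, where q : Spec
(R/a) → S is the closed immersion. The source states this for smooth algebraic stacks over R whose
diagonal has a separated fibre over the closed point (essential surjectivity on R/a-points); the
algebraic-space case is stated here. -/
theorem result (R : Type u) [CommRing R] [HenselianLocalRing R]
    (X : AlgSp.Space (Spec (CommRingCat.of R)))
    (hX : ∃ (U : Over (Spec (CommRingCat.of R))) (c : (AlgSp.yon (Spec (CommRingCat.of R))).obj U ⟶ X.obj),
      Smooth U.hom ∧ AlgSp.RepWith @Etale c ∧ AlgSp.RepWith @Surjective c)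
    (a : Ideal R) (ha : a ≠ ⊤)
    (x₀ : (AlgSp.yon (Spec (CommRingCat.of R))).obj (Over.mk (Spec.map (CommRingCat.ofHom (Ideal.Quotient.mk a)))) ⟶ X.obj) :
    ∃ x : (AlgSp.yon (Spec (CommRingCat.of R))).obj (Over.mk (𝟙 (Spec (CommRingCat.of R)))) ⟶ X.obj,
      (AlgSp.yon (Spec (CommRingCat.of R))).map (Over.homMk (Spec.map (CommRingCat.ofHom (Ideal.Quotient.mk a)))
        (Category.comp_id _) : Over.mk (Spec.map (CommRingCat.ofHom (Ideal.Quotient.mk a))) ⟶ Over.mk (𝟙 _)) ≫ x = x₀ := by
  obtain ⟨U, c, hU, hce, hcs⟩ := hX
  haveI := hU
  exact Groth.Agent.AlgSpDec.HensLift.exists_lift_quotient R X.property c hce hcs a ha x₀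
end Groth.Agent.S18313
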