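import Groth.Statements.S18316
import Groth.Agent.FCov14.SmoothBase

set_option backward.isDefEq.respectTransparency false
set_option backward.isDefEq.respectTransparency.types false
-- import your own Groth.Agent.* helpers here

set_option autoImplicit false
universe u
open CategoryTheory AlgebraicGeometry MonoidalCategory
open AlgSt

namespace Groth.Agent.S18316

/-- Let S be a scheme and G a group algebraic space over S, given as a group object over the terminal
fppf sheaf h_S on schemes over S whose underlying sheaf is an algebraic space, with G → h_S flat and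
locally of finite presentation (étale locally on the source and target). Then the classifying stack
BG over (Sch/S), whose objects over T are the fppf G_T-torsors given as fppf sheaves, is smooth over
S in the chart sense: there are schemes U, V over S, a functor (Sch/U) → BG over (Sch/S) which is
representable by algebraic spaces, smooth and surjective, a smooth (Sch/V) → (Sch/S) and a smooth
S-morphism U → V making the square commute up to isomorphism. -/
theorem result (S : Scheme.{u})
    (G : Over ((AlgSp.yon S).obj (Over.mk (𝟙 S)))) [GrpObj G] (hG : AlgSp.IsAlgSpace G.left)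
    (hf : AlgSp.LocP (@Flat ⊓ @LocallyOfFinitePresentation) G.hom) :
    AlgSt.LocQ (AlgSp.LocP @Smooth) (FibCat.toSelf (AlgSt.SpBG Scheme.fppfPrecoverage G)) := by
  have hB : AlgSp.IsAlgSpace ((AlgSp.yon S).obj (Over.mk (𝟙 S))) := AlgSp.IsAlgSpace.yon_obj _
  exact Groth.Agent.FCov14.locQ_smooth_of_baseCover
    (Groth.Agent.FCov14.isAlgStack_spQuot hB hG hf hB _ (Groth.Agent.FCov14.QuotDiag.repByAlgSp1_diag hB hG hB))
    (CategoryTheory.BasedFunctor.comp (AlgSt.ofOverCat (Over.mk (𝟙 S)))
      (AlgSt.spQuotMap Scheme.fppfPrecoverage G (AlgSt.trivGAction G)))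
    (Groth.Agent.FCov14.repByAlgSpWith_coverP_ofOverCat _
      (Groth.Agent.AlgStLib.SpQuot.repByAlgSpWith_spQuotMap hB hG Groth.Agent.FCov14.Chart.stableBC_coverP
        Groth.Agent.FCov14.isLocalOnBase_coverP (Groth.Agent.FCov14.coverP_group hf)))
end Groth.Agent.S18316
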