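import Groth.Statements.S18317
import Groth.Agent.SchTorsor.Point

set_option autoImplicit false
universe u
open CategoryTheory AlgebraicGeometry
open NonAbH1

namespace Groth.Agent.S18317

/-- Let K be a field and G a finite connected K-group scheme (G → Spec K finite, G connected as a
topological space). Then every G-torsor X over Spec K for the étale topology (a K-scheme with an
action of G whose shear map G ×_K X → X ×_K X is an isomorphism and which acquires a section over
the members of some étale covering of Spec K) is trivial: X has a K-point. -/
theorem result (K : Type u) [Field K]
    (G X : Over (Spec (CommRingCat.of K))) [GrpObj G] [IsFinite G.hom] [ConnectedSpace G.left]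
    (a : AlgGrp.Action G X) (h : NonAbH1.IsTorsorFor Scheme.etalePrecoverage a) :
    NonAbH1.HasSectionOver X (𝟙 (Spec (CommRingCat.of K))) := by
  exact Groth.Agent.SchTorsor.hasSectionOver_of_etale h

end Groth.Agent.S18317
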