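import Groth.Statements.S18320
import Groth.Agent.AGF20Lib.FrobQuot
-- import your own Groth.Agent.* helpers here

set_option autoImplicit false
set_option linter.style.haveILetI false
set_option backward.isDefEq.respectTransparency false
set_option backward.isDefEq.respectTransparency.types false
set_option maxHeartbeats 1000000
universe u
open CategoryTheory AlgebraicGeometry
open AlgGrp

open MonoidalCategory CartesianMonoidalCategory MonObj GrpObj

namespace Groth.Agent.S18320

/-- Let K be a field and G a K-group scheme whose structure morphism is locally of finite type. Then G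
is an extension of a smooth K-group scheme by a finite connected one: there are a K-group scheme H
with H → Spec K finite and H connected, a K-group scheme Q with Q → Spec K smooth, and homomorphisms
i : H → G and v : G → Q with i a closed immersion, such that 1 → H → G → Q → 1 is exact for the fppf
topology (i followed by v is trivial, G with H acting through i is a pseudo-torsor over Q, and v
acquires sections over the members of some fppf covering of Q). -/
theorem result (K : Type u) [Field K]
    (G : Over (Spec (CommRingCat.of K))) [GrpObj G] [LocallyOfFiniteType G.hom] :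
    ∃ (H Q : Over (Spec (CommRingCat.of K))) (_ : GrpObj H) (_ : GrpObj Q) (i : H ⟶ G) (v : G ⟶ Q),
      IsFinite H.hom ∧ ConnectedSpace H.left ∧ Smooth Q.hom ∧ IsClosedImmersion i.left ∧
        NonAbH1.IsExactSeq Scheme.fppfPrecoverage i v := by
  obtain ⟨p, hp⟩ := CharP.exists K
  suffices h : ∃ (H Q : Over (Spec (CommRingCat.of K))) (_ : GrpObj H) (_ : GrpObj Q) (i : H ⟶ G) (v : G ⟶ Q),
      IsMonHom i ∧ IsClosedImmersion i.left ∧ Subsingleton H.left ∧ IsMonHom v ∧
        LocallyOfFinitePresentation v.left ∧ Smooth Q.hom ∧ RedSub.IsQuotient i v ∧ AlgGrp.IsKernel i v by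
    obtain ⟨H, Q, _, _, i, v, hi, hic, hsub, hv, hvp, hQ, hq, hk⟩ := h
    haveI := hi; haveI := hic; haveI := hsub; haveI := hv; haveI := hvp
    obtain ⟨hvs, hvf, -, sq⟩ := id hq
    haveI := hvs; haveI := hvf
    haveI : LocallyOfFiniteType H.hom := by rw [← Over.w i]; infer_instance
    haveI : Finite H.left := Finite.of_subsingleton
    haveI : CompactSpace H.left := inferInstance
    haveI : QuasiCompact H.hom := (quasiCompact_iff_compactSpace _).2 inferInstance
    haveI : LocallyQuasiFinite H.hom :=
      LocallyQuasiFinite.of_finite_preimage_singleton H.hom fun x => Set.toFinite _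
    haveI : Nonempty H.left := ⟨η[H].left (IsLocalRing.closedPoint K)⟩
    haveI : PreconnectedSpace H.left := ⟨Set.subsingleton_univ.isPreconnected⟩
    refine ⟨H, Q, inferInstance, inferInstance, i, v, IsFinite.of_locallyQuasiFinite H.hom, ⟨inferInstance⟩, hQ, hic,
      hi, hv, hk.w, sq, Presieve.singleton v.left, v.left.singleton_mem_fppfPrecoverage, ?_⟩
    rintro S' g ⟨⟩
    exact ⟨𝟙 _, Category.id_comp _⟩
  rcases CharP.char_is_prime_or_zero K p with hprime | rfl
  · haveI := Fact.mk hprime
    exact Groth.Agent.AGF20Lib.FrobQuot.exists_quot K p G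
  · haveI : CharZero K := CharP.charP_to_charZero K
    haveI := GrpSchLib.AntiAffine.isSeparated_grp G
    obtain ⟨N, _, i, hi, hic, hn, hk⟩ := GrpSchLib.exists_kernel (𝟙 G)
    haveI := hi; haveI := hic
    haveI : LocallyOfFiniteType N.hom := by rw [← Over.w i]; infer_instance
    haveI : Subsingleton ↥(𝟙_ (Over (Spec (CommRingCat.of K)))).left := inferInstanceAs (Subsingleton (PrimeSpectrum K))
    haveI : Subsingleton N.left := ⟨fun x y => i.left.isClosedEmbedding.injective (by
      rw [show i = toUnit N ≫ η[G] from (Category.comp_id i).symm.trans hk.w, Over.comp_left, Scheme.Hom.comp_apply,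
        Scheme.Hom.comp_apply, Subsingleton.elim ((toUnit N).left x) ((toUnit N).left y)])⟩
    obtain ⟨Q, _, v, hv, hvs, hvf, hvp, -, hvk, hvq⟩ := AlgSpGrp.exists_quot_field i hn
    haveI := hv; haveI := hvs; haveI := hvf; haveI := hvp
    haveI : LocallyOfFinitePresentation G.hom := LocallyOfFinitePresentation.iff_locallyOfFiniteType.2 inferInstance
    haveI : LocallyOfFiniteType Q.hom := by
      haveI : LocallyOfFinitePresentation (v.left ≫ Q.hom) := by rw [Over.w v]; infer_instance
      haveI := SrcDescent.locallyOfFinitePresentation_of_fppf_comp v.left Q.hom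
      infer_instance
    exact ⟨N, Q, inferInstance, inferInstance, i, v, hi, hic, ‹_›, hv, hvp, GrpSchLib.smooth_of_charZero Q, hvq, hvk⟩

end Groth.Agent.S18320
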