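import Groth.Statements.S18326
import Groth.Agent.FCov14.StackHensCharts

set_option backward.isDefEq.respectTransparency false
set_option backward.isDefEq.respectTransparency.types false
-- import your own Groth.Agent.* helpers here

set_option autoImplicit false
universe u
open AlgSt

namespace Groth.Agent.S18326

open CategoryTheory AlgebraicGeometry in
/-- Let S be a scheme, 𝒵 an algebraic stack over (Sch/S) for the fppf topology whose diagonal 𝒵 → 𝒵
×_{(Sch/S)} 𝒵 is separated (representable by algebraic spaces with closed-immersion relative
diagonal), and R a Henselian local ring with a structure morphism Spec R → S. Then there are a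
scheme Z separated over S and a functor p : (Sch/Z) → 𝒵 over (Sch/S) which is representable by
algebraic spaces and smooth, such that for every ideal a of R (Spec (R/a) mapping to S through Spec
R) every functor (Sch/Spec (R/a)) → 𝒵 over (Sch/S) is isomorphic to (Sch/g) followed by p for some
S-morphism g : Spec (R/a) → Z. The source assumes only that the fibre of the diagonal over the image
of the closed point is separated; the diagonal itself is taken separated here. -/
theorem result {S : Scheme.{u}} (𝒵 : AlgSt.Cat S)
    (h𝒵 : AlgSt.IsAlgStack Scheme.fppfPrecoverage 𝒵)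
    (hΔ : AlgSt.RepByAlgSpWith AlgSp.IsSeparatedMor (FibCat.diag (FibCat.toSelf 𝒵)))
    (R : Type u) [CommRing R] [HenselianLocalRing R] (str : Spec (CommRingCat.of R) ⟶ S) :
    ∃ (Z : Over S) (p : FibCat.overCat Z ⥤ᵇ 𝒵), IsSeparated Z.hom ∧ AlgSt.RepByAlgSpWith (AlgSp.LocP @Smooth) p ∧
      ∀ (a : Ideal R) (x : FibCat.overCat (Over.mk (Spec.map (CommRingCat.ofHom (Ideal.Quotient.mk a)) ≫ str)) ⥤ᵇ 𝒵),
        ∃ g : Over.mk (Spec.map (CommRingCat.ofHom (Ideal.Quotient.mk a)) ≫ str) ⟶ Z,
          Nonempty (BasedFunctor.comp (AlgSt.overMap g) p ≅ x) := FCov14.HensLift.exists_chart_all R h𝒵 str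
end Groth.Agent.S18326
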