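import Groth.Statements.S18329
import Groth.Agent.SepIdemLib.Basic
-- import your own Groth.Agent.* helpers here

set_option autoImplicit false
universe u
open TensorProduct
open SGA3

namespace Groth.Agent.S18329

/-- Let k be an algebraically closed field of prime characteristic p and A a commutative Hopf algebra
over k, the coordinate ring of an affine k-group G, quotient groups of G being read as
sub-Hopf-algebras of A (subalgebras stable under comultiplication and antipode). Let B₀ be the
subalgebra of elements of A that are separable over k (its spectrum is the group of connected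
components π₀(G)) and let C be the largest cocommutative sub-Hopf-algebra of A (its spectrum is the
largest commutative quotient group G_ab). Then B₀ ⊓ C, whose spectrum is π₀(G_ab), is the largest
cocommutative sub-Hopf-algebra of A contained in B₀, whose spectrum is the largest commutative
quotient of π₀(G): the canonical homomorphism from π₀(G_ab) to (π₀(G))_ab is an isomorphism. (The
abelianization is rendered through its universal property among affine quotient groups, as the
largest cocommutative sub-Hopf-algebra, rather than as the quotient by the derived subgroup.) -/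
theorem result (k A : Type u) [Field k] [IsAlgClosed k]
    (p : ℕ) [Fact p.Prime] [CharP k p] [CommRing A] [HopfAlgebra k A]
    (B₀ : Subalgebra k A) (hB₀ : ∀ a : A, a ∈ B₀ ↔ IsSeparable k a)
    (C : Subalgebra k A) (hC : SGA3.IsHopfSubalgebra k A C)
    (hCc : ∀ c ∈ C, TensorProduct.comm k A A (Coalgebra.comul c) = Coalgebra.comul c)
    (hCmax : ∀ D : Subalgebra k A, SGA3.IsHopfSubalgebra k A D →
      (∀ d ∈ D, TensorProduct.comm k A A (Coalgebra.comul d) = Coalgebra.comul d) → D ≤ C) :
    IsGreatest {D : Subalgebra k A | SGA3.IsHopfSubalgebra k A D ∧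
      (∀ d ∈ D, TensorProduct.comm k A A (Coalgebra.comul d) = Coalgebra.comul d) ∧ D ≤ B₀}
      (B₀ ⊓ C) := by
  classical
  have hidem : ∀ e : A, IsIdempotentElem e → e ∈ B₀ := fun e he => (hB₀ e).mpr <| by
    have hdvd : minpoly k e ∣ Polynomial.X * (Polynomial.X - Polynomial.C 1) := minpoly.dvd k e (by
      simp only [map_mul, Polynomial.aeval_X, map_sub, Polynomial.aeval_C, map_one]
      rw [mul_sub, mul_one, he.eq, sub_self])
    refine Polynomial.Separable.of_dvd ?_ hdvd
    refine Polynomial.Separable.mul Polynomial.separable_X Polynomial.separable_X_sub_C ⟨1, -1, ?_⟩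
    simp
  have hsepmap : ∀ {T T' : Type u} [CommRing T] [CommRing T'] [Algebra k T] [Algebra k T'] (φ : T →ₐ[k] T') (z : T),
      IsSeparable k z → IsSeparable k (φ z) := fun {T T'} _ _ _ _ φ z hz =>
    Polynomial.Separable.of_dvd hz (minpoly.dvd k (φ z) (by rw [Polynomial.aeval_algHom_apply, minpoly.aeval, map_zero]))
  have hD : SGA3.IsHopfSubalgebra k A (B₀ ⊓ C) := by
    refine ⟨fun b hb => ?_, fun b hb => ?_⟩
    · obtain ⟨hb0, hbC⟩ := Algebra.mem_inf.mp hb
      have hsep : IsSeparable k (CoalgebraStruct.comul (R := k) (A := A) b) :=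
        hsepmap (Bialgebra.comulAlgHom k A) b ((hB₀ b).mp hb0)
      have hspan : CoalgebraStruct.comul (R := k) (A := A) b ∈ SepIdemLib.idemTensor k A A :=
        (Submodule.span_le.mpr fun E hE => SepIdemLib.mem_idemTensor hE) (SepIdemLib.mem_idemSpan_of_isSeparable hsep)
      let W₀ := Subalgebra.toSubmodule B₀
      let WC := Subalgebra.toSubmodule C
      let f : A →ₗ[k] (A ⧸ W₀) × (A ⧸ WC) := W₀.mkQ.prod WC.mkQ
      have hker : LinearMap.ker f = Subalgebra.toSubmodule (B₀ ⊓ C) := by
        ext x
        simp [f, W₀, WC, LinearMap.ker_prod, Algebra.mem_inf]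
      have hzero : ∀ (W : Subalgebra k A), (∀ z ∈ LinearMap.range (TensorProduct.map W.val.toLinearMap W.val.toLinearMap),
          (Subalgebra.toSubmodule W).mkQ.rTensor A z = 0 ∧ (Subalgebra.toSubmodule W).mkQ.lTensor A z = 0) := by
        rintro W _ ⟨w, rfl⟩
        induction w using TensorProduct.induction_on with
        | zero => simp
        | tmul x y =>
          have hx : (Subalgebra.toSubmodule W).mkQ (x : A) = 0 := (Submodule.Quotient.mk_eq_zero _).mpr x.2
          have hy : (Subalgebra.toSubmodule W).mkQ (y : A) = 0 := (Submodule.Quotient.mk_eq_zero _).mpr y.2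
          constructor
          · show (Subalgebra.toSubmodule W).mkQ (x : A) ⊗ₜ[k] (y : A) = 0
            rw [hx, TensorProduct.zero_tmul]
          · show (x : A) ⊗ₜ[k] (Subalgebra.toSubmodule W).mkQ (y : A) = 0
            rw [hy, TensorProduct.tmul_zero]
        | add u v hu hv => simp only [map_add, hu.1, hv.1, hu.2, hv.2, add_zero, and_self]
      have h0 : CoalgebraStruct.comul (R := k) (A := A) b ∈
          LinearMap.range (TensorProduct.map B₀.val.toLinearMap B₀.val.toLinearMap) :=
        (Submodule.span_le.mpr (by
          rintro _ ⟨e, f', he, hf', rfl⟩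
          exact ⟨(⟨e, hidem e he⟩ : B₀) ⊗ₜ[k] (⟨f', hidem f' hf'⟩ : B₀), rfl⟩)) hspan
      have hc := hC.1 b hbC
      have hfr : f.rTensor A (CoalgebraStruct.comul (R := k) (A := A) b) = 0 := by
        refine (TensorProduct.prodLeft k k (A ⧸ W₀) (A ⧸ WC) A).injective ?_
        rw [map_zero]
        have : ∀ z, TensorProduct.prodLeft k k (A ⧸ W₀) (A ⧸ WC) A (f.rTensor A z) =
            (W₀.mkQ.rTensor A z, WC.mkQ.rTensor A z) := fun z => by
          induction z using TensorProduct.induction_on with
          | zero => simp only [map_zero]; rfl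
          | tmul x y => simp [f]
          | add u v hu hv => simp only [map_add, hu, hv, Prod.mk_add_mk]
        rw [this, (hzero B₀ _ h0).1, (hzero C _ hc).1]
        rfl
      have hfl : f.lTensor A (CoalgebraStruct.comul (R := k) (A := A) b) = 0 := by
        refine (TensorProduct.prodRight k k A (A ⧸ W₀) (A ⧸ WC)).injective ?_
        rw [map_zero]
        have : ∀ z, TensorProduct.prodRight k k A (A ⧸ W₀) (A ⧸ WC) (f.lTensor A z) =
            (W₀.mkQ.lTensor A z, WC.mkQ.lTensor A z) := fun z => by
          induction z using TensorProduct.induction_on with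
          | zero => simp only [map_zero]; rfl
          | tmul x y => simp [f]
          | add u v hu hv => simp only [map_add, hu, hv, Prod.mk_add_mk]
        rw [this, (hzero B₀ _ h0).2, (hzero C _ hc).2]
        rfl
      obtain ⟨w, hw⟩ := SepIdemLib.mem_range_map_of_ker f f _ hfr hfl
      let j : LinearMap.ker f →ₗ[k] (B₀ ⊓ C : Subalgebra k A) :=
        ((LinearMap.ker f).subtype).codRestrict (Subalgebra.toSubmodule (B₀ ⊓ C)) fun x => hker ▸ x.2
      refine ⟨TensorProduct.map j j w, ?_⟩
      rw [← LinearMap.comp_apply, ← TensorProduct.map_comp, ← hw]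
      rfl
    · obtain ⟨hb0, hbC⟩ := Algebra.mem_inf.mp hb
      exact Algebra.mem_inf.mpr ⟨(hB₀ _).mpr (hsepmap (HopfAlgebra.antipodeAlgHom k A) b ((hB₀ b).mp hb0)), hC.2 b hbC⟩
  exact ⟨⟨hD, fun d hd => hCc d (Algebra.mem_inf.mp hd).2, inf_le_left⟩,
    fun D hD' => le_inf hD'.2.2 (hCmax D hD'.1 hD'.2.1)⟩

end Groth.Agent.S18329
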