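import Groth.Agent.BunLattice.Basic
import Groth.Statements.S18330
-- import your own Groth.Agent.* helpers here

set_option autoImplicit false
open CAlg

namespace Groth.Agent.S18330

/-- Let r ≥ 1, let δ ≥ 0 and g be integers with δ dividing 2(g - 1), and let d be a vector of ℤ^r whose
coordinates have non-negative gcd D (its divisibility). For a symmetric bilinear form b on ℤ^r the
map x ↦ b(d, x) + (1 - g) b(x, x) taken modulo δ is additive (because δ divides 2(g - 1)); let H be
the subgroup of Hom(ℤ^r, ℤ/δℤ) generated by all such maps. Then the quotient of Hom(ℤ^r, ℤ/δℤ) by H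
is isomorphic to ℤ/gcd(δ, D + 1 - g) × (ℤ/gcd(δ, g - 1, D))^(r-1) (existence of an isomorphism of
abelian groups; for δ = 0 read ℤ/0ℤ = ℤ). (The published corollary is a statement about the cokernel
of the weight homomorphism on the Picard group of the rigidified stack of T-bundles of degree d on a
family of curves of genus g with invariant δ; this row is the lattice computation that its printed
proof carries out, the divisibility δ ∣ 2g - 2 being the standing property of that invariant.) -/
theorem result
    (r : ℕ) (hr : 0 < r) (δ : ℕ) (g : ℤ) (hδ : (δ : ℤ) ∣ 2 * (g - 1))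
    (d : Fin r → ℤ) :
    Nonempty ((((Fin r → ℤ) →+ ZMod δ) ⧸ AddSubgroup.closure
      {φ : (Fin r → ℤ) →+ ZMod δ | ∃ b : LinearMap.BilinForm ℤ (Fin r → ℤ), b.IsSymm ∧
      ∀ x, φ x = ((b d x + (1 - g) * b x x : ℤ) : ZMod δ)}) ≃+
      (ZMod (Int.gcd δ (Finset.univ.gcd d + 1 - g)) ×
        (Fin (r - 1) → ZMod (Int.gcd δ (Int.gcd (g - 1) (Finset.univ.gcd d)))))) := by
  obtain ⟨r', rfl⟩ : ∃ r', r = r' + 1 := ⟨r - 1, by omega⟩
  exact Groth.Agent.BunLattice.quotient_equiv δ g d hδ

end Groth.Agent.S18330
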