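import Groth.Statements.S18332
import Groth.Agent.FCov14.InertiaSep

set_option backward.isDefEq.respectTransparency false
set_option backward.isDefEq.respectTransparency.types false
-- import your own Groth.Agent.* helpers here

set_option autoImplicit false
universe u
open AlgSt

namespace Groth.Agent.S18332

open CategoryTheory AlgebraicGeometry in
/-- Let 𝒳 be an algebraic stack over a scheme S which is locally of finite presentation over S and whose
diagonal over S is quasi-compact, separated and locally quasi-finite. If 𝒳 has a coarse moduli space
π : 𝒳 → M (universal for morphisms to algebraic spaces and bijective on isomorphism classes of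
points with values in algebraically closed fields) such that π is separated, then the inertia of 𝒳
over S is finite over 𝒳. (The converse implication is the Keel–Mori existence result. The diagonal
conditions are taken relative to S; with the absolute conditions, over the integers, the assertion
is the same Zariski-locally on S.) -/
theorem result (S : Scheme.{u}) (𝒳 : AlgSt.Cat S)
    (h𝒳 : AlgSt.IsAlgStack Scheme.fppfPrecoverage 𝒳)
    (hΔ : AlgSt.RepByAlgSpWith (AlgSp.IsSeparatedMor ⊓ AlgSp.IsQuasiCompactMor) (FibCat.diag (FibCat.toSelf 𝒳)))
    (hqf : AlgSt.IsQuasiDMOver 𝒳)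
    (hfp : AlgSt.LocQ (AlgSp.LocP @LocallyOfFinitePresentation) (FibCat.toSelf 𝒳))
    (M : AlgSp.Sp S) (π : 𝒳 ⥤ᵇ AlgSt.ofSp M) (hπ : AlgSt.IsCoarseModuli π)
    (hsep : AlgSt.IsSeparatedMor π) :
    AlgSt.RepByAlgSpWith AlgSp.IsFiniteMor (FibCat.inertiaToBase (FibCat.toSelf 𝒳)) := FCov14.InertiaSep.inertia_finite π hqf hsep
end Groth.Agent.S18332
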