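import Groth.Statements.S1834
import Groth.Agent.TameLib.Ext
import Groth.Agent.IntThLib.Norm

set_option autoImplicit false
open Groth.Agent
universe u
open CycAlg

namespace Groth.Agent.S1834

/-- Let R be a Noetherian local ring of dimension 1 and a, b nonzerodivisors. There is a finite
extension ring R ⊆ R' with R'/R killed by a power of the maximal ideal, and nonzerodivisors t, a',
b' of R' with a = t a', b = t b' and (a', b') the unit ideal of R'. -/
theorem result (R : Type u) [CommRing R] [IsNoetherianRing R] [IsLocalRing R] (hR : ringKrullDim R = 1) (a b : R) (ha : a ∈ nonZeroDivisors R) (hb : b ∈ nonZeroDivisors R) : ∃ (R' : Type u) (_ : CommRing R') (_ : Algebra R R'), CycAlg.IsFinExt R R' (IsLocalRing.maximalIdeal R) ∧ ∃ t a' b' : R', t ∈ nonZeroDivisors R' ∧ a' ∈ nonZeroDivisors R' ∧ b' ∈ nonZeroDivisors R' ∧ algebraMap R R' a = t * a' ∧ algebraMap R R' b = t * b' ∧ Ideal.span {a', b'} = ⊤ := by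
  have := IntThLib.krullDimLE_one_of_dim hR
  obtain ⟨C, i1, i2, φ, hC, -, hreg, -, -, -, t, a', b', e1, e2, e3⟩ :=
    TameLib.exists_step (TameLib.good_self (A := R)) a b ha
  have h1 := mul_mem_nonZeroDivisors.mp (e1 ▸ hreg a ha)
  have h2 := mul_mem_nonZeroDivisors.mp (e2 ▸ hreg b hb)
  refine ⟨C, i1, i2, hC.fin, t, a', b', h1.1, h1.2, h2.2, ?_, ?_, e3⟩
  · rw [← φ.commutes] at *
    exact e1
  · rw [← φ.commutes] at *
    exact e2

end Groth.Agent.S1834
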