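import Groth.Statements.S18340
import Groth.Agent.PopescuLib.CommAlg
import Groth.Agent.PopescuLib.GRingCompletion
import Groth.Agent.PopescuLib.EtalePoint
import Groth.Agent.PopescuLib.Main
import Groth.Agent.PopescuLib.Noetherian
import Groth.Agent.CplFib6.GRingStable

set_option autoImplicit false
universe u
open ArtinApx

namespace Groth.Agent.S18340

open CategoryTheory in
/-- Let k be an algebraically closed field, A a finitely generated k-algebra with a maximal ideal m (a
k-point of Spec A), F a functor from commutative A-algebras to sets which preserves filtered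
colimits, and ξ an element of F(Â), Â the m-adic completion of A. Then for every natural number N
there are an étale A-algebra A′, a surjective A-algebra homomorphism ψ : A′ → A/m^(N+1) and an
element ξ′ of F(A′) whose image under F(ψ) is the image of ξ under F of the canonical map Â →
A/m^(N+1). (Affine form of the statement for limit-preserving functors on schemes over a finite-type
k-scheme S with a k-point s: Spec A′ is the étale neighbourhood of s, the kernel of ψ is the
(N+1)-st power of the maximal ideal of the point above s, and the equation says that ξ′ and ξ agree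
to order N.) -/
theorem result (k : Type u) [Field k] [IsAlgClosed k]
    (A : Type u) [CommRing A] [Algebra k A] [Algebra.FiniteType k A] (m : Ideal A) [m.IsMaximal]
    (F : CommAlgCat.{u} A ⥤ Type u) [Limits.PreservesFilteredColimits F]
    (ξ : F.obj (CommAlgCat.of A (AdicCompletion m A))) (N : ℕ) :
    ∃ (A' : Type u) (_ : CommRing A') (_ : Algebra A A') (_ : Algebra.Etale A A')
      (ψ : A' →ₐ[A] (A ⧸ m ^ (N + 1))) (_ : Function.Surjective ψ) (ξ' : F.obj (CommAlgCat.of A A')),
      F.map (CommAlgCat.ofHom ψ) ξ' =
        F.map (CommAlgCat.ofHom (AdicCompletion.evalₐ m (N + 1))) ξ := by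
  classical
  haveI : IsAdicComplete (IsLocalRing.maximalIdeal k) k := by
    rw [IsLocalRing.maximalIdeal_eq_bot]; infer_instance
  have hG : CAlg.IsGRing A := Groth.Agent.CplFib6.isGRing_of_finiteType (Groth.Agent.CplFib6.isGRing_of_complete k) A
  haveI : IsNoetherianRing A := hG.1
  let T := AdicCompletion m A
  haveI := Groth.Agent.PopescuLib.noetherian_completion m
  have hreg := Groth.Agent.PopescuLib.isRegularHom_adicCompletion A (fun n _ => hG.2 n) m
  have fg : m.FG := IsNoetherian.noetherian m
  haveI : (m.map (algebraMap A T)).IsMaximal := AdicCompletion.isMaximal_map_of_le _ _ le_rfl fg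
  haveI := AdicCompletion.isAdicComplete_self _ fg
  haveI : IsLocalRing T := isLocalRing_of_isAdicComplete_maximal (m.map (algebraMap A T))
  have hmax : IsLocalRing.maximalIdeal T = m.map (algebraMap A T) := (IsLocalRing.eq_maximalIdeal ‹_›).symm
  haveI : IsAdicComplete (IsLocalRing.maximalIdeal T) T := by rw [hmax]; infer_instance
  obtain ⟨P, _, _, hP, f, ξ₀, hξ⟩ := Groth.Agent.PopescuLib.exists_fp_preimage' A T F ξ
  haveI := hP
  obtain ⟨S, _, _, hS, g, h, hgh⟩ := Groth.Agent.PopescuLib.indSmooth_of_isRegularHom hreg P inferInstance f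
  haveI := hS
  have hmem : ∀ t : T, t ∈ IsLocalRing.maximalIdeal T ^ (N + 1) ↔ AdicCompletion.evalₐ m (N + 1) t = 0 := fun t => by
    rw [hmax, ← Ideal.map_pow]
    refine ⟨fun ht => ?_, Groth.Agent.PopescuLib.mem_map_of_evalₐ_eq_zero m fg _⟩
    exact (Ideal.map_le_iff_le_comap.2 (fun z hz => by
      show AdicCompletion.evalₐ m (N + 1) (algebraMap A _ z) = 0
      rw [AlgHom.commutes]; exact Ideal.Quotient.eq_zero_iff_mem.2 hz) :
      (m ^ (N + 1)).map (algebraMap A T) ≤ RingHom.ker (AdicCompletion.evalₐ m (N + 1))) ht
  obtain ⟨A', _, _, hA', ψ, β, hβ⟩ := Groth.Agent.PopescuLib.exists_etale_point h (Nat.succ_pos N) fun l t => by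
    choose x hx using fun i => Ideal.Quotient.mk_surjective (AdicCompletion.evalₐ m (N + 1) (t i))
    refine ⟨A, inferInstance, inferInstance, inferInstance, Algebra.ofId A T, x, fun i => ?_⟩
    rw [hmem, map_sub, Algebra.ofId_apply, AlgHom.commutes, ← hx, sub_eq_zero]
    rfl
  let φ : A' →ₐ[A] A ⧸ m ^ (N + 1) := (AdicCompletion.evalₐ m (N + 1)).comp ψ
  refine ⟨A', inferInstance, inferInstance, hA', φ, fun z => ?_, F.map (CommAlgCat.ofHom (β.comp g)) ξ₀, ?_⟩
  · obtain ⟨a, rfl⟩ := Ideal.Quotient.mk_surjective z
    exact ⟨algebraMap A A' a, φ.commutes a⟩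
  · have key : φ.comp (β.comp g) = (AdicCompletion.evalₐ m (N + 1)).comp f := by
      refine AlgHom.ext fun y => ?_
      have h1 := (hmem _).1 (hβ (g y))
      rw [map_sub, sub_eq_zero] at h1
      rw [← hgh]
      exact h1.symm
    rw [← hξ, ← FunctorToTypes.map_comp_apply, ← FunctorToTypes.map_comp_apply, ← CommAlgCat.ofHom_comp,
      ← CommAlgCat.ofHom_comp, key]

end Groth.Agent.S18340
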