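import Groth.Statements.S18342
import Groth.Agent.CurveHom22.DegDual
import Groth.Agent.Lib.RegEpiGen
-- import your own Groth.Agent.* helpers here

set_option autoImplicit false
universe u
open CategoryTheory CategoryTheory.Limits AlgebraicGeometry
open VBCurve

namespace Groth.Agent.S18342

/-- Let k be an algebraically closed field of characteristic zero and X a smooth proper geometrically
connected curve over k (topological dimension one) of genus g ≥ 2. Let E be a finite locally free
O_X-module of rank r ≥ 1 and degree 0, and F a finite locally free O_X-module of rank n ≥ 1 and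
degree n(g − 1), degrees being χ − rank · χ(O_X). If every morphism E → F is zero, then E is
slope-semistable: deg G · r ≤ 0 for every finite locally free submodule G of E of positive rank. The
published statement concerns quasi-parabolic bundles of rank r with trivial determinant and flags at
a finite set of points, and says that for n ≥ ⌈r²/4⌉ the closed substack of bundles that are not
semistable for a given system of weights is the base locus of the parabolic theta functions of order
n, these being attached to semistable F; this row is one inclusion of it (a bundle at which the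
theta function of some F does not vanish is semistable) for a single bundle with no parabolic
points, for every n ≥ 1 and every F of the stated rank and degree, with degree 0 in place of trivial
determinant, and with the vanishing of Hom(E, F) in place of the vanishing of both Hom(E, F) and
Ext^1(E, F). -/
theorem result (k : Type u) [Field k] [IsAlgClosed k] [CharZero k]
    (X : Scheme.{u}) [X.Over (Spec (CommRingCat.of k))]
    [IsProper (X ↘ Spec (CommRingCat.of k))] [Smooth (X ↘ Spec (CommRingCat.of k))]
    [GeometricallyConnected (X ↘ Spec (CommRingCat.of k))] (hdim : topologicalKrullDim ↥X = 1)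
    (g : ℕ) (hg : Curv2.genus k X = g) (hg2 : 2 ≤ g)
    (E : X.Modules) (r : ℕ) (hr : 0 < r) (hE : FlatMod.IsFinLocFreeOfRank r E)
    (hEdeg : Curv2.deg k X E r = 0)
    (F : X.Modules) (n : ℕ) (hn : 0 < n) (hF : FlatMod.IsFinLocFreeOfRank n F)
    (hFdeg : Curv2.deg k X F n = (n : ℤ) * ((g : ℤ) - 1))
    (hhom : ∀ φ : E ⟶ F, φ = 0) :
    ModFun.IsSlopeSemistable k X E r := by
  haveI := CurveStable.isIntegral_of_geometricallyConnected k (X := X)
  haveI := CurveCohLib.isNoetherian_of_proper (k := k) (X := X)
  intro G r' i hi hr' hG
  haveI := hi
  rw [hEdeg, zero_mul]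
  by_contra hlt
  push Not at hlt
  rw [CurveSlope.deg_eq_dg k hG] at hlt
  have hG0 : 0 < CurveSlope.dg k G := (pos_iff_pos_of_mul_pos hlt).2 (by exact_mod_cast hr)
  have hEf := CurveStable.isFinLocFree_of_rank hE
  obtain ⟨Q, p, hp, hQ, -, hdQ⟩ := CurveStable.exists_quot_bundle k hdim.le hEf (CurveStable.isFinLocFree_of_rank hG) i
  haveI := hp
  rw [← CurveSlope.deg_eq_dg k hE, hEdeg] at hdQ
  have hχ := CurveHom22.euler_hom k hdim (n := n) hQ hF
  rw [hFdeg, CurveRR.euler_structureModule k hdim.le, hg] at hχ
  have hHc : Coh.IsCoh ((SheafHomX.hom Q).obj F) :=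
    CurveStable.coh_of_free k (SheafHomX.isFinLocFree_hom hQ (CurveStable.isFinLocFree_of_rank hF))
  have hle := CurveSlope.euler_le_h0 k hdim.le hHc
  have hn' : (0 : ℤ) < n := by exact_mod_cast hn
  have hpos : (0 : ℤ) < Curv2.euler k X ((SheafHomX.hom Q).obj F) := by
    rw [hχ]; nlinarith [mul_pos hn' (show (0 : ℤ) < - CurveSlope.dg k Q by omega)]
  obtain ⟨s, hs⟩ := CurveRR.exists_hom_ne_zero k (P := (SheafHomX.hom Q).obj F) (by omega)
  apply hs
  apply (SheafHomX.ev Q F).injective
  rw [map_zero, ← cancel_epi p, comp_zero]
  exact hhom _

end Groth.Agent.S18342
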