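import Groth.Statements.S18344
import Groth.Agent.Synt29.PrincipalTwo

set_option autoImplicit false
universe u
open CategoryTheory CategoryTheory.Limits AlgebraicGeometry
open MultCurve

namespace Groth.Agent.S18344

/-- Let C be a scheme and I ⊂ O_C a quasi-coherent ideal with I² = 0, and let D ⊂ C be the closed
subscheme it defines. Then the following are equivalent: (a) every point of C has an affine open
neighbourhood U on which I(U) is generated by one section z such that every a with a z = 0 lies in
I(U); (b) the conormal sheaf of D in C (the ideal I regarded as an O_D-module, which makes sense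
because I² = 0) is an invertible O_D-module. This identifies the line-bundle clause in the
definition of a ribbon with the section-level principal-of-order-two condition. -/
theorem result (C : Scheme.{u}) (I : C.IdealSheafData)
    (hI : I ^ 2 = ⊥) :
    MultCurve.IsPrincipalOfOrder I 2 ↔ PicF.IsInvertible (Omega.conormal I.subschemeι) := by
  have hk : I.subschemeι.ker = I := I.ker_subschemeι
  have h2 : I.subschemeι.ker ^ 2 = ⊥ := by rw [hk]; exact hI
  refine ⟨fun h => Groth.Agent.Synt29.PrincipalTwo.isInvertible_of_principal _ h2 (hk.symm ▸ h), fun h => ?_⟩
  exact hk ▸ Groth.Agent.Synt29.PrincipalTwo.principal_of_isInvertible _ h2 h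

end Groth.Agent.S18344
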