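import Groth.Statements.S18345
import Groth.Agent.Ribbon29.Extend
import Groth.Agent.PPSheaf.OmegaComp

set_option autoImplicit false
universe w u
open CategoryTheory CategoryTheory.Limits AlgebraicGeometry
open MultCurve

namespace Groth.Agent.S18345

/-- Let k be a field and C a ribbon, locally of finite type over k, on the reduced connected scheme D
along i : D ⟶ C, with its restricted cotangent sequence 0 → L → Ω_C|_D → Ω_D → 0 presented by a
universal k-derivation d₁ : O_C → Ω₁, a universal k-derivation d₂ : O_D → Ω₂, the map φ from the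
conormal bundle L of D in C to i^*Ω₁ induced by d₁ and the map c : i^*Ω₁ → Ω₂ compatible with d₁ and
d₂, assumed short exact, that is, with φ injective; let e_C ∈ Ext¹(Ω_D, L) be the class of that
sequence. Then the ribbon is split — i admits a retraction C ⟶ D that is a morphism over k — if and
only if e_C = 0. (The published text treats the restricted cotangent sequence as short exact for
every ribbon and puts the retractions in bijection with the splittings of e_C. Short exactness holds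
over a perfect field but not in general: for k of characteristic p and a ∈ k not a p-th power, the
ribbon Spec k[x]/((x^p − a)²) on D = Spec k(a^{1/p}) has φ = 0 and admits no retraction, although
Ext¹(Ω_D, L) = 0 there. So short exactness is assumed here, and this row states the existence part
of the bijection.) -/
theorem result (k : Type u) [Field k] (D C : Scheme.{u}) (i : D ⟶ C)
    (pC : C ⟶ Spec (CommRingCat.of k)) [LocallyOfFiniteType pC] [ConnectedSpace D] (hR : MultCurve.IsRibbon i)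
    (Ω₁ : C.Modules) (d₁ : OmegaSh.Der pC Ω₁) (hd₁ : OmegaSh.IsUniversal d₁)
    (Ω₂ : D.Modules) (d₂ : OmegaSh.Der (i ≫ pC) Ω₂) (hd₂ : OmegaSh.IsUniversal d₂)
    (φ : Omega.conormal i ⟶ (Scheme.Modules.pullback i).obj Ω₁) (hφ : OmegaSh.IsConormalDiff i d₁ φ)
    (c : (Scheme.Modules.pullback i).obj Ω₁ ⟶ Ω₂) (hc : OmegaSh.IsDiffCompat i d₁ d₂ c)
    (hw : φ ≫ c = 0) (hS : (ShortComplex.mk φ c hw).ShortExact) [HasExt.{w} D.Modules] :
    (∃ r : C ⟶ D, i ≫ r = 𝟙 D ∧ r ≫ i ≫ pC = pC) ↔ hS.extClass = 0 := by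
  have : IsClosedImmersion i := hR.1.1
  have hdf : OmegaSh.IsDiffCompat (𝟙 D) d₂ d₂ ((Scheme.Modules.pullbackId D).hom.app Ω₂) := fun U t =>
    Groth.Agent.PPSheaf.pullbackId_hom_pullSect Ω₂ U (d₂.app U t)
  have hsplit : hS.extClass = 0 ↔ ∃ σ : Ω₂ ⟶ (Scheme.Modules.pullback i).obj Ω₁, σ ≫ c = 𝟙 Ω₂ := by
    constructor
    · intro h
      obtain ⟨y, hy⟩ := Abelian.Ext.covariant_sequence_exact₃ _ hS (Abelian.Ext.mk₀ (𝟙 Ω₂)) (zero_add 1)
        (by rw [Abelian.Ext.mk₀_id_comp]; exact h)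
      obtain ⟨σ, rfl⟩ := (Abelian.Ext.addEquiv₀).symm.surjective y
      exact ⟨σ, Abelian.Ext.addEquiv₀.symm.injective ((Abelian.Ext.mk₀_comp_mk₀ σ c).symm.trans hy)⟩
    · rintro ⟨σ, hσ⟩
      rw [← Abelian.Ext.mk₀_id_comp hS.extClass, ← hσ, ← Abelian.Ext.mk₀_comp_mk₀]
      exact (Abelian.Ext.comp_assoc_of_second_deg_zero (Abelian.Ext.mk₀ σ) (Abelian.Ext.mk₀ c) hS.extClass
        (zero_add 1)).trans ((congrArg (fun z => (Abelian.Ext.mk₀ σ).comp z (zero_add 1))
          hS.comp_extClass).trans (Abelian.Ext.comp_zero _ _ _ _ _))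
  rw [hsplit]
  constructor
  · rintro ⟨r, hr, hrk⟩
    obtain ⟨df, hdf'⟩ : ∃ df : (Scheme.Modules.pullback (i ≫ r)).obj Ω₂ ⟶ Ω₂,
        OmegaSh.IsDiffCompat (i ≫ r) d₂ d₂ df ∧ Epi df ∧
          ∃ τ : Ω₂ ⟶ (Scheme.Modules.pullback (i ≫ r)).obj Ω₂, τ ≫ df = 𝟙 _ := by
      rw [hr]
      exact ⟨_, hdf, inferInstance, (Scheme.Modules.pullbackId D).inv.app Ω₂, Iso.inv_hom_id_app _ _⟩
    obtain ⟨hdf', -, τ, hτ⟩ := hdf'
    obtain ⟨s, hs, -⟩ := Groth.Agent.Ribbon29.exists_slope i d₁ r hrk hd₂ hc df hdf'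
    exact ⟨τ ≫ s, by rw [Category.assoc, hs, hτ]⟩
  · rintro ⟨σ, hσ⟩
    exact Groth.Agent.Ribbon29.exists_extend i d₁ hR.1.2.1 hφ hc hS (𝟙 D) (Category.id_comp _) _ hdf
      ((Scheme.Modules.pullbackId D).hom.app Ω₂ ≫ σ) ((Category.assoc _ _ _).trans ((congrArg _ hσ).trans (Category.comp_id _)))

end Groth.Agent.S18345
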