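import Groth.Statements.S1835
import Groth.Agent.CycLib.EulerDim1

set_option autoImplicit false
open Groth.Agent
universe u
open CycAlg

namespace Groth.Agent.S1835

/-- Let R be a Noetherian local ring of dimension 1, a a nonzerodivisor in the maximal ideal and b a
nonzerodivisor. There is an integer n such that whenever b = a^m c in some finite extension ring R ⊆
R', one has m ≤ n. -/
theorem result (R : Type u) [CommRing R] [IsNoetherianRing R] [IsLocalRing R] (hR : ringKrullDim R = 1) (a b : R) (ha : a ∈ nonZeroDivisors R) (ham : a ∈ IsLocalRing.maximalIdeal R) (hb : b ∈ nonZeroDivisors R) : ∃ n : ℕ, ∀ (R' : Type u) [CommRing R'] [Algebra R R'], Function.Injective (algebraMap R R') → Module.Finite R R' → ∀ (m : ℕ) (c : R'), algebraMap R R' b = algebraMap R R' a ^ m * c → m ≤ n := by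
  obtain ⟨q, hqmin⟩ : (minimalPrimes R).Nonempty := by
    obtain ⟨q, hq, -⟩ := Ideal.exists_minimalPrimes_le (I := (⊥ : Ideal R)) (bot_le : (⊥ : Ideal R) ≤ IsLocalRing.maximalIdeal R)
    exact ⟨q, hq⟩
  have hqp : q.IsPrime := hqmin.1.1
  have haq : a ∉ q := Set.disjoint_left.mp (Ideal.disjoint_nonZeroDivisors_of_mem_minimalPrimes hqmin).symm ha
  have hbq : b ∉ q := Set.disjoint_left.mp (Ideal.disjoint_nonZeroDivisors_of_mem_minimalPrimes hqmin).symm hb
  refine ⟨(Ring.ord (R ⧸ q) (Ideal.Quotient.mk q b)).toNat, fun R' _ _ hinj hfin m c hbc => ?_⟩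
  have hint : Algebra.IsIntegral R R' := Algebra.IsIntegral.of_finite R R'
  obtain ⟨Q, -, hQp, hQ⟩ := Ideal.exists_ideal_over_prime_of_isIntegral q (⊥ : Ideal R')
    (by rw [← RingHom.ker_eq_comap_bot, (RingHom.injective_iff_ker_eq_bot _).mp hinj]; exact bot_le)
  -- the domain `S = R'/Q` over `R`
  have hann : Module.annihilator R (R' ⧸ Q) = q := by
    ext r
    rw [← hQ, Ideal.mem_comap, Module.mem_annihilator]
    refine ⟨fun h => ?_, fun h z => ?_⟩
    · have h1 := h 1
      rw [Algebra.smul_def, mul_one] at h1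
      exact Ideal.Quotient.eq_zero_iff_mem.mp h1
    · rw [Algebra.smul_def, show algebraMap R (R' ⧸ Q) r = Ideal.Quotient.mk Q (algebraMap R R' r) from rfl,
        Ideal.Quotient.eq_zero_iff_mem.mpr h, zero_mul]
  have hfinS : Module.Finite R (R' ⧸ Q) := Module.Finite.of_surjective (Ideal.Quotient.mkₐ R Q).toLinearMap
    Ideal.Quotient.mk_surjective
  have h1 : Module.supportDim R (R' ⧸ Q) ≤ 1 := (Module.supportDim_le_ringKrullDim R (R' ⧸ Q)).trans hR.le
  have hsup : ∀ p : PrimeSpectrum R,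
      p ∈ Module.support R (R' ⧸ Q) ∧ p.asIdeal ≠ IsLocalRing.maximalIdeal R ↔ p = ⟨q, hqp⟩ := by
    have hqm : q ≠ IsLocalRing.maximalIdeal R := fun h => haq (h ▸ ham)
    have hqs : (⟨q, hqp⟩ : PrimeSpectrum R) ∈ Module.support R (R' ⧸ Q) := by
      rw [Module.support_eq_zeroLocus, hann]
      exact fun _ h => h
    refine fun p => ⟨fun hp => ?_, fun hp => hp ▸ ⟨hqs, hqm⟩⟩
    have hle : q ≤ p.asIdeal := hann ▸ Module.annihilator_le_of_mem_support hp.1
    exact (CycLib.eq_of_le_of_ne_max h1 hqs (p := p) hle hp.2).symm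
  have h0 : ∀ x : R, x ∉ q →
      Module.supportDim R (QuotSMulTop x (R' ⧸ Q)) ≤ 0 := fun x hx => by
    have : Subsingleton (Module.support R (QuotSMulTop x (R' ⧸ Q))) := by
      refine Set.subsingleton_coe _ |>.mpr (Set.subsingleton_of_subset_singleton
        (a := IsLocalRing.closedPoint R) fun p hp => ?_)
      rw [Module.support_quotSMulTop] at hp
      refine PrimeSpectrum.ext (not_not.mp fun hne => hx ?_)
      show x ∈ (⟨q, hqp⟩ : PrimeSpectrum R).asIdeal
      rw [← congrArg PrimeSpectrum.asIdeal ((hsup p).mp ⟨hp.1, hne⟩)]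
      simpa [PrimeSpectrum.mem_zeroLocus] using hp.2
    exact Order.krullDim_nonpos_of_subsingleton
  set L := Module.length (Localization.AtPrime q) (LocalizedModule q.primeCompl (R' ⧸ Q))
  have hker : ∀ x : R, x ∉ q → Module.length R (LinearMap.ker (LinearMap.lsmul R (R' ⧸ Q) x)) = 0 := fun x hx => by
    rw [LinearMap.ker_eq_bot.mpr (fun u v h => ?_), Module.length_bot]
    simp only [LinearMap.lsmul_apply, Algebra.smul_def] at h
    refine mul_left_cancel₀ ?_ h
    rw [show algebraMap R (R' ⧸ Q) x = Ideal.Quotient.mk Q (algebraMap R R' x) from rfl, ne_eq,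
      Ideal.Quotient.eq_zero_iff_mem]
    exact fun h' => hx (hQ ▸ h')
  have hlen : ∀ x : R, x ∉ q →
      Module.length R (QuotSMulTop x (R' ⧸ Q)) = Ring.ord (R ⧸ q) (Ideal.Quotient.mk q x) * L := fun x hx => by
    rw [show Module.length R (QuotSMulTop x (R' ⧸ Q)) = _ from CycLib.length_quot_smul x h1 (h0 x hx), hker x hx,
      zero_add, finsum_cond_eq_sum_of_cond_iff (t := {(⟨q, hqp⟩ : PrimeSpectrum R)})
        (f := fun p : PrimeSpectrum R => Ring.ord (R ⧸ p.asIdeal) (Ideal.Quotient.mk p.asIdeal x) *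
          Module.length (Localization.AtPrime p.asIdeal) (LocalizedModule p.asIdeal.primeCompl (R' ⧸ Q)))
        (fun {p} _ => by rw [Finset.mem_singleton]; exact hsup p), Finset.sum_singleton]
  have ham' : a ^ m ∉ q := fun h => haq (hqp.mem_of_pow_mem m h)
  have hle : Module.length R (QuotSMulTop (a ^ m) (R' ⧸ Q)) ≤ Module.length R (QuotSMulTop b (R' ⧸ Q)) := by
    refine Module.length_le_of_surjective (Submodule.mapQ _ _ LinearMap.id ?_) fun z => ?_
    · rintro _ ⟨w, -, rfl⟩
      refine ⟨Ideal.Quotient.mk Q c * w, trivial, ?_⟩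
      show a ^ m • (Ideal.Quotient.mk Q c * w) = b • w
      rw [Algebra.smul_def, Algebra.smul_def, ← mul_assoc,
        show algebraMap R (R' ⧸ Q) b = Ideal.Quotient.mk Q (algebraMap R R' b) from rfl, hbc, map_mul,
        map_pow, map_pow]
      rfl
    · obtain ⟨z, rfl⟩ := Submodule.mkQ_surjective _ z
      exact ⟨Submodule.Quotient.mk z, rfl⟩
  rw [hlen _ ham', hlen _ hbq, map_pow, Ring.ord_pow
    (mem_nonZeroDivisors_of_ne_zero (mt Ideal.Quotient.eq_zero_iff_mem.mp haq)), nsmul_eq_mul] at hle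
  -- finiteness and positivity
  have hLtop : L ≠ ⊤ := CycLib.length_localized_ne_top_of_minimal ⟨q, hqp⟩ fun p hp hpq =>
    le_antisymm hpq (hann ▸ Module.annihilator_le_of_mem_support hp)
  have hL0 : L ≠ 0 := by
    rw [ne_eq, Module.length_eq_zero_iff, not_subsingleton_iff_nontrivial]
    exact Module.mem_support_iff.mp ((hsup ⟨q, hqp⟩).mpr rfl).1
  have hfinord : ∀ x : R, x ∉ q → Ring.ord (R ⧸ q) (Ideal.Quotient.mk q x) ≠ ⊤ := fun x hx h => by
    have h2 := CycLib.length_lt_top_of_supportDim (h0 x hx)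
    rw [hlen x hx, h, ENat.top_mul hL0] at h2
    exact lt_irrefl _ h2
  have hpos : Ring.ord (R ⧸ q) (Ideal.Quotient.mk q a) ≠ 0 := by
    rw [CycLib.ord_eq_length, ne_eq, Module.length_eq_zero_iff, Submodule.Quotient.subsingleton_iff]
    intro h
    refine (IsLocalRing.maximalIdeal.isMaximal R).ne_top (top_le_iff.mp (h.ge.trans ?_))
    exact sup_le (IsLocalRing.le_maximalIdeal hqp.ne_top) ((Ideal.span_singleton_le_iff_mem _).mpr ham)
  obtain ⟨A, hA⟩ := ENat.ne_top_iff_exists.mp (hfinord a haq)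
  obtain ⟨B, hB⟩ := ENat.ne_top_iff_exists.mp (hfinord b hbq)
  obtain ⟨l, hl⟩ := ENat.ne_top_iff_exists.mp hLtop
  rw [← hA, ← hB, ← hl] at hle
  rw [← hA] at hpos
  rw [← hl] at hL0
  rw [← hB, ENat.toNat_natCast]
  norm_cast at hle hpos hL0
  calc m = m * 1 := (mul_one m).symm
    _ ≤ m * A := Nat.mul_le_mul_left m (Nat.pos_of_ne_zero hpos)
    _ ≤ B := Nat.le_of_mul_le_mul_right hle (Nat.pos_of_ne_zero hL0)

end Groth.Agent.S1835
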