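import Groth.Statements.S18352
import Groth.Agent.CurvFam18.Normal
import Groth.Agent.CurveCohLib.SubBundle
import Groth.Agent.S9821
import Mathlib.AlgebraicGeometry.Fiber
import Mathlib.AlgebraicGeometry.Geometrically.Reduced
import Mathlib.RingTheory.Spectrum.Prime.Topology

set_option autoImplicit false
set_option backward.isDefEq.respectTransparency false
set_option backward.isDefEq.respectTransparency.types false
set_option maxHeartbeats 1000000
set_option linter.style.haveILetI false
universe u
open Curv2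

namespace Groth.Agent.S18352

open CategoryTheory CategoryTheory.Limits

open CategoryTheory AlgebraicGeometry in
/-- Let S be an integral Noetherian scheme all of whose local rings are integrally closed domains, and
let f : C → S be a flat, proper, locally finitely presented morphism of schemes whose fibres are
geometrically reduced and geometrically connected, all of Krull dimension one, and whose fibre over
the generic point of S is smooth over the residue field there. Then every local ring of C is an
integrally closed domain. The total space C is a scheme here; the source also allows an algebraic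
space. -/
theorem result (S C : Scheme.{u}) [IsIntegral S] [IsNoetherian S]
    (hS : Pi1.IsNormalScheme S) (f : C ⟶ S) [Flat f] [IsProper f] [LocallyOfFinitePresentation f]
    [GeometricallyReduced f] [GeometricallyConnected f]
    (hdim : ∀ s : ↥S, topologicalKrullDim ↥(f.fiber s) = 1)
    (hsm : Smooth (f.fiberToSpecResidueField (genericPoint ↥S))) :
    Pi1.IsNormalScheme C := by
  intro x
  haveI : IsLocallyNoetherian C := LocallyOfFiniteType.isLocallyNoetherian f
  obtain ⟨_, ⟨U, hU, rfl⟩, hxU, -⟩ :=
    S.isBasis_affineOpens.exists_subset_of_mem_open (Set.mem_univ (f x)) isOpen_univ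
  replace hU : IsAffineOpen U := hU
  obtain ⟨_, ⟨V, hV, rfl⟩, hxV, hVU⟩ :=
    C.isBasis_affineOpens.exists_subset_of_mem_open (show x ∈ (f ⁻¹ᵁ U : Set C) from hxU) (f ⁻¹ᵁ U).isOpen
  replace hV : IsAffineOpen V := hV
  have hVU' : V ≤ f ⁻¹ᵁ U := hVU
  haveI : Nonempty (U : Scheme.{u}) := ⟨⟨f x, hxU⟩⟩
  haveI : IsIntegrallyClosed Γ(S, U) := (Groth.Agent.S9821.result S).1 hS U hU
  haveI : IsNoetherianRing Γ(S, U) := IsLocallyNoetherian.component_noetherian ⟨U, hU⟩
  haveI : IsNoetherianRing Γ(C, V) := IsLocallyNoetherian.component_noetherian ⟨V, hV⟩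
  letI := (f.appLE U V hVU').hom.toAlgebra
  haveI : Module.Flat Γ(S, U) Γ(C, V) := f.flat_appLE hU hV hVU'
  let g := Spec.map (CommRingCat.ofHom (algebraMap Γ(S, U) Γ(C, V)))
  let Φ : ∀ P : PrimeSpectrum Γ(S, U), g.fiber P ⟶ f.fiber (hU.fromSpec P) := fun P =>
    pullback.map g ((Spec Γ(S, U)).fromSpecResidueField P) f (S.fromSpecResidueField (hU.fromSpec P))
      hV.fromSpec (Spec.map (hU.fromSpec.residueFieldMap P)) hU.fromSpec
      (hU.SpecMap_appLE_fromSpec f hV hVU')
      (Scheme.Hom.SpecMap_residueFieldMap_fromSpecResidueField _ _).symm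
  have hΦ : ∀ P, IsOpenImmersion (Φ P) := fun P => Scheme.pullback_map_isOpenImmersion _ _ _ _ _ _ _ _ _
  let Ψ : ∀ P : PrimeSpectrum Γ(S, U), Spec (CommRingCat.of (P.asIdeal.Fiber Γ(C, V))) ⟶ f.fiber (hU.fromSpec P) :=
    fun P => (Spec.fiberToSpecResidueFieldIso Γ(S, U) Γ(C, V) P).inv.left ≫ Φ P
  have hΨ : ∀ P, IsOpenImmersion (Ψ P) := fun P => by
    haveI := hΦ P
    haveI : IsOpenImmersion (Spec.fiberToSpecResidueFieldIso Γ(S, U) Γ(C, V) P).inv.left := inferInstance
    exact IsOpenImmersion.comp _ _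
  have hred : ∀ s : S, AlgebraicGeometry.IsReduced (f.fiber s) := fun s =>
    GeometricallyReduced.geometrically_isReduced (f := f) _ _ _ (IsPullback.of_hasPullback _ _)
  have hmain : IsDomain (Localization.AtPrime (hV.primeIdealOf ⟨x, hxV⟩).asIdeal) ∧
      IsIntegrallyClosed (Localization.AtPrime (hV.primeIdealOf ⟨x, hxV⟩).asIdeal) := by
    refine Groth.Agent.CurvFam18.normal_atPrime (A := Γ(S, U)) (fun p hpp => ?_) (fun p hpp => ?_) (fun p hpp hp Q hQp => ?_) _
    · haveI := hΨ ⟨p, hpp⟩
      haveI := hred (hU.fromSpec ⟨p, hpp⟩)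
      haveI : AlgebraicGeometry.IsReduced (Spec (CommRingCat.of (p.Fiber Γ(C, V)))) :=
        isReduced_of_isOpenImmersion (Ψ ⟨p, hpp⟩)
      exact (affine_isReduced_iff (CommRingCat.of (p.Fiber Γ(C, V)))).mp inferInstance
    · haveI := hΨ ⟨p, hpp⟩
      rw [← PrimeSpectrum.topologicalKrullDim_eq_ringKrullDim]
      exact ((Ψ ⟨p, hpp⟩).isOpenEmbedding.isInducing.topologicalKrullDim_le).trans (hdim _).le
    · let P : PrimeSpectrum Γ(S, U) := ⟨p, hpp⟩
      have hη : hU.fromSpec P = genericPoint S := by
        have hPU : hU.fromSpec P ∈ U := by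
          have := Set.mem_range_self (f := hU.fromSpec) P
          rwa [hU.range_fromSpec] at this
        obtain ⟨r, hr⟩ : genericPoint S ∈ Set.range hU.fromSpec := by
          rw [hU.range_fromSpec]
          exact (genericPoint_specializes (hU.fromSpec P)).mem_open U.2 hPU
        have h1 : hU.fromSpec P ⤳ genericPoint S := by
          rw [← hr]
          refine (show P ⤳ (r : PrimeSpectrum Γ(S, U)) from (PrimeSpectrum.le_iff_specializes _ _).1 ?_).map hU.fromSpec.continuous
          show p ≤ _
          rw [hp]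
          exact bot_le
        exact (h1.antisymm (genericPoint_specializes _)).eq
      haveI : Smooth (f.fiberToSpecResidueField (hU.fromSpec P)) := hη ▸ hsm
      haveI := hΨ P
      haveI : IsRegularLocalRing ((f.fiber (hU.fromSpec P)).presheaf.stalk (Ψ P ⟨Q, hQp⟩)) :=
        Groth.Agent.SmoothReg.isRegularLocalRing_stalk_of_mem_smoothLocus (f.fiberToSpecResidueField (hU.fromSpec P))
          (by rw [Scheme.Hom.smoothLocus_eq_top]; trivial)
      haveI : IsRegularLocalRing ((Spec (CommRingCat.of (p.Fiber Γ(C, V)))).presheaf.stalk ⟨Q, hQp⟩) :=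
        IsRegularLocalRing.of_ringEquiv (asIso ((Ψ P).stalkMap ⟨Q, hQp⟩)).commRingCatIsoToRingEquiv
      exact IsRegularLocalRing.of_ringEquiv
        (R := ((Spec (CommRingCat.of (p.Fiber Γ(C, V)))).presheaf.stalk ⟨Q, hQp⟩ : Type u)) (by
          exact (StructureSheaf.stalkIso (p.Fiber Γ(C, V)) (⟨Q, hQp⟩ : PrimeSpectrum (p.Fiber Γ(C, V)))).toRingEquiv.symm)
  letI := TopCat.Presheaf.algebra_section_stalk C.presheaf (⟨x, hxV⟩ : V)
  haveI := hV.isLocalization_stalk ⟨x, hxV⟩
  let e := (IsLocalization.algEquiv (hV.primeIdealOf ⟨x, hxV⟩).asIdeal.primeCompl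
    (Localization.AtPrime (hV.primeIdealOf ⟨x, hxV⟩).asIdeal) (C.presheaf.stalk x)).toRingEquiv
  haveI := hmain.1
  haveI := hmain.2
  exact ⟨e.symm.toMulEquiv.isDomain _, IsIntegrallyClosed.of_equiv e⟩

end Groth.Agent.S18352
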