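import Groth.Statements.S18353
import Groth.Agent.S18352
import Groth.Agent.S14401
import Groth.Agent.Lib.NormalPush
import Groth.Agent.CurveCohLib.Proper

set_option autoImplicit false
set_option backward.isDefEq.respectTransparency false
set_option backward.isDefEq.respectTransparency.types false
set_option maxHeartbeats 1000000
set_option linter.style.haveILetI false
universe u
open Curv2

namespace Groth.Agent.S18353

open CategoryTheory CategoryTheory.Limits TopologicalSpace

open CategoryTheory AlgebraicGeometry in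
/-- Let S be an integral Noetherian scheme all of whose local rings are integrally closed domains, and
let f₁ : C₁ → S and f₂ : C₂ → S be flat, proper, locally finitely presented morphisms of schemes
whose fibres are geometrically reduced and geometrically connected, all of Krull dimension one, and
whose fibres over the generic point of S are smooth. Let φ : C₁ → C₂ be a morphism over S which is
birational, in the sense that it restricts to an isomorphism over some dense open subset of C₂. Then
the canonical map O_{C₂} → φ_* O_{C₁} is an isomorphism: for every open V of C₂ the pull-back map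
from sections over V to sections over φ⁻¹(V) is an isomorphism of rings. The total spaces are
schemes here; the source also allows algebraic spaces. -/
theorem result (S C₁ C₂ : Scheme.{u}) [IsIntegral S]
    [IsNoetherian S] (hS : Pi1.IsNormalScheme S) (f₁ : C₁ ⟶ S) (f₂ : C₂ ⟶ S)
    [Flat f₁] [IsProper f₁] [LocallyOfFinitePresentation f₁] [GeometricallyReduced f₁] [GeometricallyConnected f₁]
    [Flat f₂] [IsProper f₂] [LocallyOfFinitePresentation f₂] [GeometricallyReduced f₂] [GeometricallyConnected f₂]
    (hdim₁ : ∀ s : ↥S, topologicalKrullDim ↥(f₁.fiber s) = 1) (hdim₂ : ∀ s : ↥S, topologicalKrullDim ↥(f₂.fiber s) = 1)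
    (hsm₁ : Smooth (f₁.fiberToSpecResidueField (genericPoint ↥S)))
    (hsm₂ : Smooth (f₂.fiberToSpecResidueField (genericPoint ↥S)))
    (φ : C₁ ⟶ C₂) (hφ : φ ≫ f₂ = f₁) (hbir : ∃ U : C₂.Opens, Dense (U : Set ↥C₂) ∧ IsIso (φ ∣_ U)) :
    ∀ V : C₂.Opens, IsIso (φ.app V) := by
  have hN₁ := Groth.Agent.S18352.result S C₁ hS f₁ hdim₁ hsm₁
  have hN₂ := Groth.Agent.S18352.result S C₂ hS f₂ hdim₂ hsm₂
  have key : ∀ (C : Scheme.{u}) (f : C ⟶ S) [IsProper f] [LocallyOfFinitePresentation f] [GeometricallyConnected f],
      (∀ s : ↥S, topologicalKrullDim ↥(f.fiber s) = 1) → Pi1.IsNormalScheme C → IsIntegral C := by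
    intro C f _ _ _ hdim hN
    haveI : CompactSpace C := QuasiCompact.compactSpace_of_compactSpace f
    haveI : IsLocallyNoetherian C := LocallyOfFiniteType.isLocallyNoetherian f
    haveI : AlgebraicGeometry.IsNoetherian C := {}
    have hne : ∀ s : S, Nonempty (f.fiber s) := fun s => by
      by_contra h
      haveI := not_nonempty_iff.1 h
      have h1 := hdim s
      haveI : IsEmpty (IrreducibleCloseds (f.fiber s)) := ⟨fun Z => isEmptyElim Z.isIrreducible'.nonempty.some⟩
      rw [show topologicalKrullDim (f.fiber s) = ⊥ from Order.krullDim_eq_bot] at h1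
      exact absurd h1 (by decide)
    haveI hconn : ∀ s : S, ConnectedSpace (f.fiber s) := fun s =>
      GeometricallyConnected.geometrically_connectedSpace (f := f) _ _ _ (IsPullback.of_hasPullback _ _)
    have hpre : ∀ s : S, _root_.IsConnected (f ⁻¹' {s}) := fun s => by
      rw [← f.range_fiberι]
      exact isConnected_range (f.fiberι s).continuous
    have hsurj : Function.Surjective f := fun s => by
      obtain ⟨z, hz⟩ := (hpre s).nonempty
      exact ⟨z, hz⟩
    have hC : _root_.IsConnected (Set.univ : Set C) := by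
      refine ⟨⟨(hpre (genericPoint S)).nonempty.some, trivial⟩, isPreconnected_closed_iff.2 ?_⟩
      intro t t' ht ht' hcov ⟨a, _, ha⟩ ⟨b, _, hb⟩
      obtain ⟨s, -, ⟨y, hy, hys⟩, ⟨y', hy', hy's⟩⟩ := (isPreconnected_closed_iff.1 isPreconnected_univ) _ _
        (f.isClosedMap t ht) (f.isClosedMap t' ht') (fun s _ => by
          obtain ⟨z, hz⟩ := hsurj s
          rcases hcov (Set.mem_univ z) with h | h
          · exact Or.inl ⟨z, h, hz⟩
          · exact Or.inr ⟨z, h, hz⟩) ⟨f a, trivial, a, ha, rfl⟩ ⟨f b, trivial, b, hb, rfl⟩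
      obtain ⟨z, -, hz⟩ := (isPreconnected_closed_iff.1 (hpre s).isPreconnected) t t' ht ht'
        (fun z _ => hcov (Set.mem_univ z)) ⟨y, hys, hy⟩ ⟨y', hy's, hy'⟩
      exact ⟨z, trivial, hz⟩
    haveI : ConnectedSpace C := connectedSpace_iff_univ.2 hC
    haveI : IrreducibleSpace C := by
      obtain ⟨c₀⟩ : Nonempty C := inferInstance
      have hmem := irreducibleComponent_mem_irreducibleComponents c₀
      have hu : irreducibleComponent c₀ = Set.univ :=
        IsClopen.eq_univ ⟨isClosed_irreducibleComponent,
          (Groth.Agent.S14401.result C fun y => (hN y).1).1 _ hmem⟩ ⟨c₀, mem_irreducibleComponent⟩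
      refine (irreducibleSpace_def C).2 ?_
      rw [Set.top_eq_univ, ← hu]
      exact isIrreducible_irreducibleComponent
    haveI : ∀ x : C, _root_.IsReduced (C.presheaf.stalk x) := fun x => by haveI := (hN x).1; infer_instance
    haveI := isReduced_of_isReduced_stalk C
    exact isIntegral_of_irreducibleSpace_of_isReduced C
  haveI := key C₁ f₁ hdim₁ hN₁
  haveI := key C₂ f₂ hdim₂ hN₂
  haveI : IsProper (φ ≫ f₂) := hφ.symm ▸ inferInstance
  haveI : IsProper φ := IsProper.of_comp φ f₂
  obtain ⟨U, hUd, hUiso⟩ := hbir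
  haveI := hUiso
  have hη₂ : genericPoint C₂ ∈ U := by
    obtain ⟨z, hz⟩ := hUd.nonempty
    exact (genericPoint_specializes z).mem_open U.2 hz
  obtain ⟨z, hz⟩ := (φ ∣_ U).surjective ⟨genericPoint C₂, hη₂⟩
  have hz' : φ z.1 = genericPoint C₂ := by
    have h := congrArg (fun w => U.ι w) hz
    simp only [← Scheme.Hom.comp_apply, morphismRestrict_ι] at h
    exact h
  have hdom : φ.base (genericPoint C₁) ⤳ genericPoint C₂ :=
    hz' ▸ (genericPoint_specializes z.1).map φ.continuous
  have hη₁ : genericPoint C₁ ∈ φ ⁻¹ᵁ U := (genericPoint_specializes z.1).mem_open (φ ⁻¹ᵁ U).2 z.2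
  intro V
  refine Groth.Agent.Lib.NormalPush.isIso_app hN₂ φ hdom (fun x _ => ?_) V
  haveI : IsIso (φ.stalkMap (genericPoint C₁)) :=
    ((MorphismProperty.isomorphisms CommRingCat).arrow_mk_iso_iff
      (morphismRestrictStalkMap φ U ⟨genericPoint C₁, hη₁⟩)).1 (MorphismProperty.isomorphisms.infer_property _)
  obtain ⟨y, hy⟩ := (ConcreteCategory.bijective_of_isIso (φ.stalkMap (genericPoint C₁))).2 x
  have heq := Groth.Agent.Lib.NormalPush.eq_genericPoint φ hdom
  obtain ⟨y', hy'⟩ := (ConcreteCategory.bijective_of_isIso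
    (C₂.presheaf.stalkCongr (show Inseparable (genericPoint C₂) (φ (genericPoint C₁)) from
      (heq ▸ Inseparable.refl _))).hom).2 y
  exact ⟨y', by
    show φ.stalkMap (genericPoint C₁) (C₂.presheaf.stalkSpecializes hdom y') = x
    rw [← hy, ← hy']
    rfl⟩

end Groth.Agent.S18353
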