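import Groth.Statements.S18359
import Groth.Agent.Lib.SmoothLift12Core
-- import your own Groth.Agent.* helpers here

set_option autoImplicit false
set_option backward.isDefEq.respectTransparency false
set_option backward.isDefEq.respectTransparency.types false
open CategoryTheory AlgebraicGeometry
universe u
open BlochOgus

namespace Groth.Agent.S18359

/-- Let i₁ : Z₁ → X₁ and i₂ : Z₂ → X₂ be closed immersions, f : X₂ → X₁ smooth of relative dimension n
and g : Z₂ → Z₁ smooth of relative dimension e with i₂ ≫ f = g ≫ i₁, and let T be a finite set of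
points of X₂ contained in one affine open of X₂; assume that e < n or that T lies in the image of
i₂. Then there are an open U ⊇ T of X₂ and a closed subscheme W of U through which Z₂ ∩ U factors,
such that W → X₁ is smooth and Z₂ ∩ U is the fibre product of W and Z₁ over X₁. (The published
statement concerns schemes separated and of finite type over a field or an excellent Dedekind
domain; this row assumes no base. The published statement also lets the finite set lie anywhere in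
X₂ and asks only that f and g be smooth; both relaxations fail over the family xy = t on the plane
with the origin removed, whose fibre over t = 0 is two disjoint punctured lines: with Z₂ one of
these lines and T one point on each line (so e = n = 1 and T leaves Z₂), or with Z₂ one line
together with a single point of the other line and T those two points (so g has relative dimension 1
on one part of Z₂ and 0 on the other), any such W would have to be the whole irreducible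
neighbourhood U. The relative dimensions are therefore taken constant, and the finite set is taken
inside Z₂ unless e < n, in which case the first local equation cutting out W can also be chosen
non-vanishing at the points of T off Z₂.) -/
theorem result
    (X₁ X₂ Z₁ Z₂ : Scheme.{u}) (i₁ : Z₁ ⟶ X₁) (i₂ : Z₂ ⟶ X₂)
    [IsClosedImmersion i₁] [IsClosedImmersion i₂]
    (f : X₂ ⟶ X₁) (g : Z₂ ⟶ Z₁) (n e : ℕ)
    [SmoothOfRelativeDimension n f] [SmoothOfRelativeDimension e g]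
    (hsq : i₂ ≫ f = g ≫ i₁)
    (T : Set X₂) (hT : T.Finite) (hcase : e < n ∨ T ⊆ Set.range i₂.base)
    (V : X₂.Opens) (hV : IsAffineOpen V) (hTV : T ⊆ (V : Set X₂)) :
    ∃ U : X₂.Opens, T ⊆ (U : Set X₂) ∧
      ∃ (W : Scheme.{u}) (k : W ⟶ (U : Scheme.{u}))
        (m : ((i₂ ⁻¹ᵁ U : Z₂.Opens) : Scheme.{u}) ⟶ W),
        IsClosedImmersion k ∧ m ≫ k = i₂ ∣_ U ∧ AlgebraicGeometry.Smooth (k ≫ U.ι ≫ f) ∧
          IsPullback m ((i₂ ⁻¹ᵁ U).ι ≫ g) (k ≫ U.ι ≫ f) i₁ := by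
  haveI : IsAffine (V : Scheme.{u}) := hV
  haveI : IsClosedImmersion (i₂ ∣_ V) := IsZariskiLocalAtTarget.restrict ‹_› V
  haveI : SmoothOfRelativeDimension n (V.ι ≫ f) := by
    have h : SmoothOfRelativeDimension (0 + n) (V.ι ≫ f) := inferInstance
    rwa [zero_add] at h
  haveI : SmoothOfRelativeDimension e ((i₂ ⁻¹ᵁ V).ι ≫ g) := by
    have h : SmoothOfRelativeDimension (0 + e) ((i₂ ⁻¹ᵁ V).ι ≫ g) := inferInstance
    rwa [zero_add] at h
  obtain ⟨U, W0, k0, _, m0, hTU, hm0, hsm, hker⟩ :=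
    Groth.Agent.SmoothLift12.exists_equations (V.ι ≫ f) (i₂ ∣_ V) i₁ ((i₂ ⁻¹ᵁ V).ι ≫ g) n e
      (by rw [morphismRestrict_ι_assoc, hsq, Category.assoc])
      (V.ι ⁻¹' T) (hT.preimage V.ι.isOpenEmbedding.injective.injOn) (by
        refine hcase.imp_right fun h t ht => ?_
        obtain ⟨z, hz⟩ := h ht
        refine ⟨⟨z, show i₂ z ∈ V from (congrArg (fun p => p ∈ V) hz).mpr t.2⟩, Subtype.ext ?_⟩
        show V.ι ((i₂ ∣_ V) _) = V.ι t
        rw [← Scheme.Hom.comp_apply, morphismRestrict_ι]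
        exact hz)
  let U2 : X₂.Opens := V.ι ''ᵁ U
  have hU2V : U2 ≤ V := (V.ι.image_le_opensRange U).trans V.opensRange_ι.le
  let W : Scheme.{u} := k0 ⁻¹ᵁ U
  let k : W ⟶ (U2 : Scheme.{u}) := (k0 ∣_ U) ≫ (V.ι.isoImage U).hom
  have hk : k ≫ U2.ι = (k0 ⁻¹ᵁ U).ι ≫ k0 ≫ V.ι := by
    simp only [k, U2, Category.assoc, Scheme.Hom.isoImage_hom_ι]
    rw [morphismRestrict_ι_assoc]
  haveI : IsClosedImmersion (k0 ∣_ U) := IsZariskiLocalAtTarget.restrict ‹_› U
  haveI hkc : IsClosedImmersion k := inferInstanceAs (IsClosedImmersion ((k0 ∣_ U) ≫ (V.ι.isoImage U).hom))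
  let j := Z₂.homOfLE (i₂.preimage_mono hU2V)
  have hj : j ≫ (i₂ ⁻¹ᵁ V).ι = (i₂ ⁻¹ᵁ U2).ι := Z₂.homOfLE_ι _
  have hjk : (j ≫ m0) ≫ k0 ≫ V.ι = (i₂ ⁻¹ᵁ U2).ι ≫ i₂ := by
    rw [Category.assoc, reassoc_of% hm0, morphismRestrict_ι, reassoc_of% hj]
  let m : ((i₂ ⁻¹ᵁ U2 : Z₂.Opens) : Scheme.{u}) ⟶ W :=
    IsOpenImmersion.lift (k0 ⁻¹ᵁ U).ι (j ≫ m0) (by
      rintro _ ⟨p, rfl⟩
      rw [Scheme.Opens.range_ι]
      have h1 : V.ι (k0 ((j ≫ m0) p)) ∈ U2 := by
        rw [← Scheme.Hom.comp_apply, ← Scheme.Hom.comp_apply, hjk]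
        exact p.2
      obtain ⟨q, hq, hqe⟩ := h1
      show k0 ((j ≫ m0) p) ∈ U
      exact V.ι.isOpenEmbedding.injective hqe ▸ hq)
  have hm : m ≫ (k0 ⁻¹ᵁ U).ι = j ≫ m0 := IsOpenImmersion.lift_fac _ _ _
  have hmk : m ≫ k = i₂ ∣_ U2 := by
    rw [← cancel_mono U2.ι, Category.assoc, hk, reassoc_of% hm, morphismRestrict_ι]
    simpa only [Category.assoc] using hjk
  have hsmW : Smooth (k ≫ U2.ι ≫ f) := by
    rw [reassoc_of% hk]
    exact hsm
  refine ⟨U2, fun t ht => ⟨⟨t, hTV ht⟩, hTU ht, rfl⟩, W, k, m, hkc, hmk, hsmW, ?_⟩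
  haveI : IsClosedImmersion (i₂ ∣_ U2) := IsZariskiLocalAtTarget.restrict ‹_› U2
  haveI : Mono (m ≫ k) := by rw [hmk]; infer_instance
  haveI : Mono m := mono_of_mono m k
  have w : m ≫ k ≫ U2.ι ≫ f = ((i₂ ⁻¹ᵁ U2).ι ≫ g) ≫ i₁ := by
    rw [← Category.assoc m, hmk, morphismRestrict_ι_assoc, Category.assoc, hsq]
  have hex : ∀ (S : Scheme.{u}) (a : S ⟶ W) (b : S ⟶ Z₁), a ≫ k ≫ U2.ι ≫ f = b ≫ i₁ →
      ∃ l : S ⟶ ((i₂ ⁻¹ᵁ U2 : Z₂.Opens) : Scheme.{u}), l ≫ m = a := fun S a b hab => by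
    have hc : (a ≫ (k0 ⁻¹ᵁ U).ι) ≫ k0 ≫ V.ι ≫ f = b ≫ i₁ := by
      rw [← hab, reassoc_of% hk, Category.assoc]
    have hrange : ∀ p, k0 ((a ≫ (k0 ⁻¹ᵁ U).ι) p) ∈ U := fun p => (a p).2
    have hle := hker S (a ≫ (k0 ⁻¹ᵁ U).ι) b hrange hc
    let l0 := IsClosedImmersion.lift (i₂ ∣_ V) ((a ≫ (k0 ⁻¹ᵁ U).ι) ≫ k0) hle
    have hl0 : l0 ≫ (i₂ ∣_ V) = (a ≫ (k0 ⁻¹ᵁ U).ι) ≫ k0 := IsClosedImmersion.lift_fac _ _ _
    have hr : Set.range (l0 ≫ (i₂ ⁻¹ᵁ V).ι) ⊆ Set.range (i₂ ⁻¹ᵁ U2).ι := by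
      rintro _ ⟨p, rfl⟩
      rw [Scheme.Opens.range_ι]
      show i₂ ((l0 ≫ (i₂ ⁻¹ᵁ V).ι) p) ∈ U2
      rw [← Scheme.Hom.comp_apply, Category.assoc, ← morphismRestrict_ι, reassoc_of% hl0]
      exact ⟨_, hrange p, rfl⟩
    have h1 : l0 ≫ (i₂ ⁻¹ᵁ V).ι ≫ i₂ = (a ≫ k) ≫ U2.ι := by
      rw [← morphismRestrict_ι i₂ V, reassoc_of% hl0, Category.assoc, hk]
    refine ⟨IsOpenImmersion.lift (i₂ ⁻¹ᵁ U2).ι (l0 ≫ (i₂ ⁻¹ᵁ V).ι) hr, ?_⟩
    rw [← cancel_mono k, Category.assoc, hmk, ← cancel_mono U2.ι, Category.assoc, morphismRestrict_ι,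
      IsOpenImmersion.lift_fac_assoc, Category.assoc]
    exact h1
  choose l hl using hex
  have hsnd : ∀ (S : Scheme.{u}) (a : S ⟶ W) (b : S ⟶ Z₁) (h : a ≫ k ≫ U2.ι ≫ f = b ≫ i₁),
      l S a b h ≫ (i₂ ⁻¹ᵁ U2).ι ≫ g = b := fun S a b h => by
    rw [← cancel_mono i₁, Category.assoc, ← w, ← Category.assoc, hl]
    exact h
  refine IsPullback.of_isLimit' ⟨w⟩ (Limits.PullbackCone.IsLimit.mk w
    (fun s => l s.pt s.fst s.snd s.condition) (fun s => hl _ _ _ _) (fun s => hsnd _ _ _ _) ?_)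
  · intro s l' h1 _
    rw [← cancel_mono m, hl, h1]

end Groth.Agent.S18359
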