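import Groth.Statements.S18363
import Mathlib

set_option autoImplicit false
universe u
open CategoryTheory
open CAlg

namespace Groth.Agent.S18363

/-- Let R be a Noetherian local ring with maximal ideal m, and P, Q ideals of R such that P + Q contains
a power of m while R/P and R/Q are both reduced of Krull dimension one. Let I and J be nonzero
finitely generated R-modules with P·I = 0 and Q·J = 0, such that every element of R whose class in
R/P is a non-zero-divisor acts injectively on I, and every element whose class in R/Q is a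
non-zero-divisor acts injectively on J. Then the group Ext¹_R(I, J) is nonzero. (This is the stalk
statement behind the existence of a non-split extension of a torsion-free rank-one sheaf on a
subcurve Y by one on a subcurve Z of a reduced projective curve, at a point where Y and Z meet
without sharing a component; in that situation the modules moreover have rank one at the generic
points of their supports and P ∩ Q = 0, two assumptions the argument does not use.) -/
theorem result
    (R : Type u) [CommRing R] [IsNoetherianRing R] [IsLocalRing R]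
    (P Q : Ideal R) (hPQ : ∃ n : ℕ, IsLocalRing.maximalIdeal R ^ n ≤ P ⊔ Q)
    [IsReduced (R ⧸ P)] [IsReduced (R ⧸ Q)]
    (hPdim : ringKrullDim (R ⧸ P) = 1) (hQdim : ringKrullDim (R ⧸ Q) = 1)
    (I J : Type u) [AddCommGroup I] [Module R I] [Module.Finite R I] [Nontrivial I]
    [AddCommGroup J] [Module R J] [Module.Finite R J] [Nontrivial J]
    (hPI : ∀ p ∈ P, ∀ x : I, p • x = 0) (hQJ : ∀ q ∈ Q, ∀ y : J, q • y = 0)
    (hItf : ∀ r : R, Ideal.Quotient.mk P r ∈ nonZeroDivisors (R ⧸ P) → ∀ x : I, r • x = 0 → x = 0)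
    (hJtf : ∀ r : R, Ideal.Quotient.mk Q r ∈ nonZeroDivisors (R ⧸ Q) → ∀ y : J, r • y = 0 → y = 0) :
    Nontrivial (Abelian.Ext (ModuleCat.of R I) (ModuleCat.of R J) 1) := by
  classical
  obtain ⟨n, hn⟩ := hPQ
  haveI hQ1 : Ring.KrullDimLE 1 (R ⧸ Q) := (Ring.krullDimLE_iff).2 hQdim.le
  haveI hQnt : Nontrivial (R ⧸ Q) := by
    by_contra h
    rw [not_nontrivial_iff_subsingleton] at h
    rw [ringKrullDim_eq_bot_of_subsingleton] at hQdim
    exact absurd hQdim (by simp)
  have hQne : Q ≠ ⊤ := Ideal.Quotient.nontrivial_iff.1 hQnt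
  have hPle : P ≤ IsLocalRing.maximalIdeal R := IsLocalRing.le_maximalIdeal fun h => by
    haveI : Subsingleton (R ⧸ P) := Ideal.Quotient.subsingleton_iff.2 h
    rw [ringKrullDim_eq_bot_of_subsingleton] at hPdim
    exact absurd hPdim (by simp)
  have hmin : ∀ q ∈ Q.minimalPrimes, q ≠ IsLocalRing.maximalIdeal R := by
    intro q hq h
    subst h
    have h0 : Ring.KrullDimLE 0 (R ⧸ Q) := by
      refine Ring.krullDimLE_zero_iff.2 fun q' hq' => ?_
      have hc : IsLocalRing.maximalIdeal R ≤ q'.comap (Ideal.Quotient.mk Q) := by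
        refine hq.2 ⟨Ideal.IsPrime.comap _, ?_⟩ (IsLocalRing.le_maximalIdeal (Ideal.IsPrime.comap (Ideal.Quotient.mk Q)).ne_top)
        intro z hz
        rw [Ideal.mem_comap, Ideal.Quotient.eq_zero_iff_mem.2 hz]
        exact zero_mem _
      have := (IsLocalRing.maximalIdeal.isMaximal R).eq_of_le (Ideal.IsPrime.comap (Ideal.Quotient.mk Q)).ne_top hc
      refine (Ideal.map_eq_top_or_isMaximal_of_surjective (Ideal.Quotient.mk Q) Ideal.Quotient.mk_surjective
        (this ▸ IsLocalRing.maximalIdeal.isMaximal R : (q'.comap (Ideal.Quotient.mk Q)).IsMaximal)).elim (fun h => ?_) (fun h => ?_)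
      · rw [Ideal.map_comap_of_surjective _ Ideal.Quotient.mk_surjective] at h
        exact absurd h hq'.ne_top
      · rwa [Ideal.map_comap_of_surjective _ Ideal.Quotient.mk_surjective] at h
    have h1 : ringKrullDim (R ⧸ Q) ≤ 0 := Ring.krullDimLE_iff.1 h0
    rw [hQdim] at h1
    exact absurd h1 (by norm_num)
  obtain ⟨a, haP, haq⟩ : ∃ a ∈ P, ∀ q ∈ Q.minimalPrimes, a ∉ q := by
    by_contra h
    push Not at h
    let s := (Ideal.finite_minimalPrimes_of_isNoetherianRing R Q).toFinset
    have hsub : (P : Set R) ⊆ ⋃ q ∈ (↑s : Set (Ideal R)), (q : Set R) := fun z hz => by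
      obtain ⟨q, hq, hzq⟩ := h z hz
      exact Set.mem_biUnion (by simpa [s] using hq) hzq
    obtain ⟨q, hq, hPq⟩ := (Ideal.subset_union_prime (f := id) ⊥ ⊥ fun q hq _ _ => by
      have : q ∈ Q.minimalPrimes := by simpa [s] using hq
      exact this.1.1).1 hsub
    have hq' : q ∈ Q.minimalPrimes := by simpa [s] using hq
    have hqp : q.IsPrime := hq'.1.1
    exact hmin q hq' ((IsLocalRing.maximalIdeal.isMaximal R).eq_of_le hqp.ne_top
      (Ideal.IsPrime.le_of_pow_le (hn.trans (sup_le hPq hq'.1.2)))).symm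
  have hanzd : Ideal.Quotient.mk Q a ∈ nonZeroDivisors (R ⧸ Q) := by
    refine mem_nonZeroDivisors_iff_right.2 fun c hc => ?_
    obtain ⟨c, rfl⟩ := Ideal.Quotient.mk_surjective c
    rw [← map_mul, Ideal.Quotient.eq_zero_iff_mem] at hc
    rw [Ideal.Quotient.eq_zero_iff_mem]
    have hrad : c ∈ Q.radical := by
      rw [← Ideal.sInf_minimalPrimes, Submodule.mem_sInf]
      intro (q : Ideal R) hq
      exact ((hq.1.1).mem_or_mem (hq.1.2 hc)).resolve_right (haq q hq)
    rwa [Ideal.IsRadical.radical ((Ideal.isRadical_iff_quotient_reduced Q).2 inferInstance)] at hrad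
  have hamax : a ∈ IsLocalRing.maximalIdeal R := hPle haP
  have haJ : ∀ v : J, a • v = 0 → v = 0 := hJtf a hanzd
  let μ : J →ₗ[R] J := a • LinearMap.id
  let π : J →ₗ[R] J ⧸ LinearMap.range μ := (LinearMap.range μ).mkQ
  have hrad : IsLocalRing.maximalIdeal R ≤ (Q ⊔ Ideal.span {a}).radical := by
    rw [Ideal.radical_eq_sInf]
    refine le_sInf fun p hp => ?_
    obtain ⟨hp1, hp2⟩ := hp
    haveI := hp2
    obtain ⟨hQp, hap⟩ := sup_le_iff.1 hp1
    have hmap : (p.map (Ideal.Quotient.mk Q)).IsPrime :=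
      Ideal.map_isPrime_of_surjective Ideal.Quotient.mk_surjective (by rwa [Ideal.mk_ker])
    rcases Ring.krullDimLE_one_iff.1 hQ1 _ hmap with hmn | hmx
    · exfalso
      refine haq p ⟨⟨hp2, hQp⟩, fun q hq hqp => ?_⟩ (hap (Ideal.mem_span_singleton_self a))
      haveI := hq.1
      have hqm : (q.map (Ideal.Quotient.mk Q)).IsPrime :=
        Ideal.map_isPrime_of_surjective Ideal.Quotient.mk_surjective (by rw [Ideal.mk_ker]; exact hq.2)
      have h := Ideal.comap_mono (f := Ideal.Quotient.mk Q) (hmn.2 ⟨hqm, bot_le⟩ (Ideal.map_mono hqp))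
      rw [Ideal.comap_map_of_surjective _ Ideal.Quotient.mk_surjective, Ideal.comap_map_of_surjective _ Ideal.Quotient.mk_surjective,
        ← RingHom.ker_eq_comap_bot, Ideal.mk_ker, sup_eq_left.2 hQp, sup_eq_left.2 hq.2] at h
      exact h
    · have h := Ideal.comap_isMaximal_of_surjective _ Ideal.Quotient.mk_surjective (K := p.map (Ideal.Quotient.mk Q)) (H := hmx)
      rw [Ideal.comap_map_of_surjective _ Ideal.Quotient.mk_surjective, ← RingHom.ker_eq_comap_bot, Ideal.mk_ker,
        sup_eq_left.2 hQp] at h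
      rw [IsLocalRing.eq_maximalIdeal h]
  have hann : Q ⊔ Ideal.span {a} ≤ Module.annihilator R (J ⧸ LinearMap.range μ) := by
    refine sup_le (fun q hq => Module.mem_annihilator.2 fun v => ?_) ?_
    · obtain ⟨v, rfl⟩ := Submodule.Quotient.mk_surjective _ v
      rw [← Submodule.Quotient.mk_smul, hQJ q hq v, Submodule.Quotient.mk_zero]
    · rw [Ideal.span_le, Set.singleton_subset_iff]
      refine Module.mem_annihilator.2 fun v => ?_
      obtain ⟨v, rfl⟩ := Submodule.Quotient.mk_surjective _ v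
      rw [← Submodule.Quotient.mk_smul, Submodule.Quotient.mk_eq_zero]
      exact ⟨v, rfl⟩
  obtain ⟨N, hN⟩ := Ideal.exists_pow_le_of_le_radical_of_fg (hrad.trans (Ideal.radical_mono hann)) (IsNoetherian.noetherian _)
  haveI hnt : Nontrivial (J ⧸ LinearMap.range μ) := by
    refine Submodule.Quotient.nontrivial_iff.2 fun h => ?_
    have hle : (⊤ : Submodule R J) ≤ IsLocalRing.maximalIdeal R • (⊤ : Submodule R J) := by
      intro x _
      obtain ⟨v, rfl⟩ := h.ge (Submodule.mem_top (x := x))
      exact Submodule.smul_mem_smul hamax Submodule.mem_top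
    have := Submodule.eq_bot_of_le_smul_of_le_jacobson_bot _ _ Module.Finite.fg_top hle
      (by rw [IsLocalRing.jacobson_eq_maximalIdeal ⊥ bot_ne_top])
    exact not_subsingleton J ((Submodule.subsingleton_iff R).1 (subsingleton_of_bot_eq_top this.symm))
  obtain ⟨w, hw0, hwm⟩ : ∃ w : J ⧸ LinearMap.range μ, w ≠ 0 ∧ ∀ r ∈ IsLocalRing.maximalIdeal R, r • w = 0 := by
    by_contra h
    push Not at h
    obtain ⟨w0, hw0⟩ := exists_ne (0 : J ⧸ LinearMap.range μ)
    have : ∀ j, ∃ r ∈ IsLocalRing.maximalIdeal R ^ j, r • w0 ≠ 0 := fun j => by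
      induction j with
      | zero => exact ⟨1, by simp, by simpa using hw0⟩
      | succ j ih =>
        obtain ⟨r, hr, hrw⟩ := ih
        obtain ⟨s, hs, hsw⟩ := h (r • w0) hrw
        exact ⟨s * r, by rw [pow_succ']; exact Ideal.mul_mem_mul hs hr, by rwa [mul_smul]⟩
    obtain ⟨r, hr, hrw⟩ := this N
    exact hrw (Module.mem_annihilator.1 (hN hr) w0)
  obtain ⟨f, hf⟩ : ∃ f : I →ₗ[R] J ⧸ LinearMap.range μ, f ≠ 0 := by
    let m := IsLocalRing.maximalIdeal R
    let T : Submodule R I := m • ⊤
    haveI : Nontrivial (I ⧸ T) := by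
      refine Submodule.Quotient.nontrivial_iff.2 fun h => ?_
      have := Submodule.eq_bot_of_le_smul_of_le_jacobson_bot _ _ Module.Finite.fg_top h.ge
        (by rw [IsLocalRing.jacobson_eq_maximalIdeal ⊥ bot_ne_top])
      exact not_subsingleton I ((Submodule.subsingleton_iff R).1 (subsingleton_of_bot_eq_top this.symm))
    haveI : m.IsMaximal := IsLocalRing.maximalIdeal.isMaximal R
    letI := Ideal.Quotient.field m
    obtain ⟨x0, hx0⟩ := exists_ne (0 : I ⧸ T)
    obtain ⟨l, hl⟩ := Module.Projective.exists_dual_ne_zero (R ⧸ m) hx0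
    let ι : R ⧸ m →ₗ[R] J ⧸ LinearMap.range μ :=
      m.liftQ (LinearMap.toSpanSingleton R _ w) fun r hr => hwm r hr
    refine ⟨ι ∘ₗ l.restrictScalars R ∘ₗ T.mkQ, fun h => ?_⟩
    obtain ⟨x0, rfl⟩ := Submodule.Quotient.mk_surjective _ x0
    obtain ⟨c, hc⟩ := Ideal.Quotient.mk_surjective (l (Submodule.Quotient.mk x0))
    have hcu : IsUnit c := by
      by_contra hcu
      exact hl (by rw [← hc]; exact Ideal.Quotient.eq_zero_iff_mem.2 hcu)
    have h1 := LinearMap.congr_fun h x0
    have h2 : ι (l (Submodule.Quotient.mk x0)) = 0 := h1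
    rw [← hc] at h2
    change c • w = 0 at h2
    exact hw0 (hcu.smul_eq_zero.1 h2)
  have hS : (ShortComplex.mk (X₁ := ModuleCat.of R J) (X₂ := ModuleCat.of R J) (X₃ := ModuleCat.of R (J ⧸ LinearMap.range μ))
      (ModuleCat.ofHom μ) (ModuleCat.ofHom π) (ModuleCat.hom_ext (LinearMap.ext fun v =>
        (Submodule.Quotient.mk_eq_zero _).2 ⟨v, rfl⟩))).ShortExact :=
    { exact := (ShortComplex.ShortExact.moduleCat_exact_iff_function_exact _).2 (LinearMap.exact_map_mkQ_range μ)
      mono_f := (ModuleCat.mono_iff_injective _).2 ((injective_iff_map_eq_zero μ).2 haJ)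
      epi_g := (ModuleCat.epi_iff_surjective _).2 (Submodule.mkQ_surjective _) }
  refine ⟨(Abelian.Ext.mk₀ (ModuleCat.ofHom f)).comp hS.extClass (zero_add 1), 0, fun h => hf ?_⟩
  obtain ⟨z, hz⟩ := Abelian.Ext.covariant_sequence_exact₃ _ hS _ (zero_add 1) h
  obtain ⟨g, rfl⟩ := (Abelian.Ext.mk₀_bijective _ _).2 z
  rw [Abelian.Ext.mk₀_comp_mk₀] at hz
  have hg : g.hom = 0 := LinearMap.ext fun v => haJ _ (by rw [← map_smul, hPI a haP v, map_zero])
  have := congrArg ModuleCat.Hom.hom ((Abelian.Ext.mk₀_bijective _ _).1 hz)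
  rw [← show π ∘ₗ g.hom = f from this, hg, LinearMap.comp_zero]

end Groth.Agent.S18363
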