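import Mathlib
import Groth.Statements.S18364
-- import your own Groth.Agent.* helpers here

set_option autoImplicit false
universe u
open CAlg

namespace Groth.Agent.S18364

lemma exists_pow_mul_mem {A : Type u} [CommRing A] {I P : Ideal A} [P.IsPrime] (hP : P ∈ I.minimalPrimes)
    {x : A} (hx : x ∈ P) : ∃ n : ℕ, ∃ t ∉ P, t * x ^ n ∈ I := by
  have hrad : algebraMap A (Localization.AtPrime P) x ∈ (I.map (algebraMap A (Localization.AtPrime P))).radical := by
    rw [Ideal.radical_eq_sInf, Ideal.mem_sInf]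
    rintro Q ⟨hIQ, hQ⟩
    haveI := hQ
    have hle : Q.comap (algebraMap A (Localization.AtPrime P)) ≤ P := fun a ha => by
      by_contra h
      exact hQ.ne_top (Ideal.eq_top_of_isUnit_mem _ ha (IsLocalization.map_units _ (⟨a, h⟩ : P.primeCompl)))
    exact hP.2 ⟨inferInstance, Ideal.map_le_iff_le_comap.mp hIQ⟩ hle hx
  obtain ⟨n, hn⟩ := hrad
  rw [← map_pow] at hn
  obtain ⟨⟨⟨a, ha⟩, s⟩, h⟩ := (IsLocalization.mem_map_algebraMap_iff P.primeCompl _).mp hn
  rw [← map_mul] at h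
  obtain ⟨c, hc⟩ := (IsLocalization.eq_iff_exists P.primeCompl _).mp h
  refine ⟨n, c * s, P.primeCompl.mul_mem c.2 s.2, ?_⟩
  rw [show (c : A) * s * x ^ n = c * (x ^ n * s) by ring, hc]
  exact Ideal.mul_mem_left _ _ ha

/-- Let A be a Noetherian ring, π an element of A, and (𝔓_i)_{i ∈ ι} an injective finite family listing
exactly the minimal prime ideals over (π). Let M be a finitely generated A-module and M̄ = M/πM. For
a subset T of ι let K(T) ⊆ M̄ be the submodule of elements whose image in the localisation of M̄ at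
𝔓_i is zero for every i ∈ T, and N(T) ⊆ M its preimage in M. Assume K(ι) = 0, i.e. no nonzero
element of M̄ vanishes at all the minimal primes (every associated prime of M̄ is one of the 𝔓_i).
Then for every subset Y of ι with complement Z one has N(Y) ∩ N(Z) = πM, and the same construction
applied to the module N(Y) instead of M — the preimage in N(Y) of the elements of N(Y)/πN(Y)
vanishing at every 𝔓_i with i ∈ Z — is, as a submodule of M, equal to N(Y) ∩ N(Z). (Geometric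
meaning: A is the local ring of a flat family of curves over a discrete valuation ring with
uniformizer π at a point of the reduced special fibre, M the stalk of a torsion-free rank-one sheaf
I, Y a set of components of the special fibre through the point, and N(Y) the stalk of the kernel
I^Y of I → I(s)_Y; the statement is (I^Y)^Z = I^Y ∩ I^Z = πI. Reducedness of A/πA, flatness and rank
one are not used.) -/
theorem result
    (A : Type u) [CommRing A] [IsNoetherianRing A] (π : A)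
    (ι : Type) [Finite ι] (𝔓 : ι → Ideal A) [∀ i, (𝔓 i).IsPrime]
    (h𝔓 : ∀ i, 𝔓 i ∈ (Ideal.span {π}).minimalPrimes) (h𝔓inj : Function.Injective 𝔓)
    (h𝔓surj : ∀ 𝔔 ∈ (Ideal.span {π}).minimalPrimes, ∃ i, 𝔓 i = 𝔔)
    (M : Type u) [AddCommGroup M] [Module A M] [Module.Finite A M]
    (K : Set ι → Submodule A (M ⧸ Ideal.span {π} • (⊤ : Submodule A M)))
    (hK : ∀ T : Set ι, K T = ⨅ i ∈ T, LinearMap.ker
      (LocalizedModule.mkLinearMap (𝔓 i).primeCompl (M ⧸ Ideal.span {π} • (⊤ : Submodule A M))))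
    (htf : K Set.univ = ⊥)
    (N : Set ι → Submodule A M)
    (hN : ∀ T : Set ι, N T = (K T).comap (Submodule.mkQ (Ideal.span {π} • (⊤ : Submodule A M))))
    (Y : Set ι) :
    N Y ⊓ N Yᶜ = Ideal.span {π} • (⊤ : Submodule A M) ∧
    Submodule.map (N Y).subtype
      ((⨅ i ∈ Yᶜ, LinearMap.ker (LocalizedModule.mkLinearMap (𝔓 i).primeCompl
          (↥(N Y) ⧸ Ideal.span {π} • (⊤ : Submodule A ↥(N Y))))).comap
        (Submodule.mkQ (Ideal.span {π} • (⊤ : Submodule A ↥(N Y)))))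
      = N Y ⊓ N Yᶜ := by
  classical
  haveI := Fintype.ofFinite ι
  obtain ⟨J, hJ⟩ : ∃ J : Submodule A M, J = Ideal.span {π} • ⊤ := ⟨_, rfl⟩
  rw [← hJ]
  have hmemN : ∀ (T : Set ι) (x : M), x ∈ N T ↔ ∀ i ∈ T, ∃ r ∈ (𝔓 i).primeCompl, r • x ∈ J := by
    intro T x
    simp only [hN, hK, hJ, Submodule.mem_comap, Submodule.mem_iInf, LocalizedModule.mem_ker_mkLinearMap_iff,
      ← map_smul, Submodule.mkQ_apply, ← Submodule.Quotient.mk_smul, Submodule.Quotient.mk_eq_zero]
  have hpart1 : N Y ⊓ N Yᶜ = J := by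
    rw [hN, hN, ← Submodule.comap_inf,
      show K Y ⊓ K Yᶜ = ⊥ by rw [hK, hK, ← iInf_union, Set.union_compl_self, ← hK, htf],
      Submodule.comap_bot, Submodule.ker_mkQ, hJ]
  refine ⟨hpart1, ?_⟩
  have hJL : J ≤ N Y := hpart1 ▸ inf_le_left
  have hπ : ∀ y, y ∈ Ideal.span {π} • (⊤ : Submodule A ↥(N Y)) ↔ ∃ l : N Y, π • l = y := fun y => by
    rw [Submodule.ideal_span_singleton_smul, Submodule.mem_smul_pointwise_iff_exists]
    exact ⟨fun ⟨b, _, h⟩ => ⟨b, h⟩, fun ⟨b, h⟩ => ⟨b, Submodule.mem_top, h⟩⟩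
  have hπM : ∀ y, y ∈ J ↔ ∃ l : M, π • l = y := fun y => by
    rw [hJ, Submodule.ideal_span_singleton_smul, Submodule.mem_smul_pointwise_iff_exists]
    exact ⟨fun ⟨b, _, h⟩ => ⟨b, h⟩, fun ⟨b, h⟩ => ⟨b, Submodule.mem_top, h⟩⟩
  ext x
  simp only [Submodule.mem_map, Submodule.mem_comap, Submodule.mem_iInf, LocalizedModule.mem_ker_mkLinearMap_iff,
    Submodule.mkQ_apply, ← Submodule.Quotient.mk_smul, Submodule.Quotient.mk_eq_zero]
  constructor
  · rintro ⟨y, hy, rfl⟩
    refine ⟨y.2, (hmemN _ _).mpr fun i hi => ?_⟩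
    obtain ⟨r, hr, hry⟩ := hy i hi
    obtain ⟨l, hl⟩ := (hπ _).mp hry
    exact ⟨r, hr, (hπM _).mpr ⟨l, congrArg Subtype.val hl⟩⟩
  · intro hx
    rw [hpart1] at hx
    obtain ⟨m, rfl⟩ := (hπM _).mp hx
    refine ⟨⟨π • m, hJL hx⟩, fun i hi => ?_, rfl⟩
    -- an element outside `𝔓 i` and inside all `𝔓 j`, `j ∈ Y`
    have hsep : ∀ j : ι, j ∈ Y → ∃ a ∈ 𝔓 j, a ∉ 𝔓 i := fun j hj =>
      SetLike.not_le_iff_exists.mp fun hle => by
        have e : 𝔓 j = 𝔓 i := le_antisymm hle ((h𝔓 i).2 ⟨inferInstance, (h𝔓 j).1.2⟩ hle)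
        exact hi (h𝔓inj e ▸ hj)
    choose! a ha hai using hsep
    have hpow : ∀ j : ι, j ∈ Y → ∃ n : ℕ, ∃ t ∉ 𝔓 j, t * a j ^ n ∈ Ideal.span {π} := fun j hj =>
      exists_pow_mul_mem (h𝔓 j) (ha j hj)
    choose! e t ht hte using hpow
    let s := ∏ j ∈ Finset.univ.filter (· ∈ Y), a j ^ e j
    have hs : s ∉ 𝔓 i := fun h => by
      obtain ⟨j, hj, hmem⟩ := (Ideal.IsPrime.prod_mem_iff (hp := inferInstanceAs (𝔓 i).IsPrime)).mp h
      exact hai j (Finset.mem_filter.mp hj).2 (Ideal.IsPrime.mem_of_pow_mem inferInstance _ hmem)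
    have hsm : s • m ∈ N Y := by
      rw [hmemN]
      intro j hj
      refine ⟨t j, ht j hj, ?_⟩
      have hjm : j ∈ Finset.univ.filter (· ∈ Y) := Finset.mem_filter.mpr ⟨Finset.mem_univ j, hj⟩
      rw [hJ, smul_smul]
      refine Submodule.smul_mem_smul ?_ Submodule.mem_top
      show t j * s ∈ _
      rw [show s = a j ^ e j * ∏ l ∈ (Finset.univ.filter (· ∈ Y)).erase j, a l ^ e l from
        (Finset.mul_prod_erase _ (fun l => a l ^ e l) hjm).symm, ← mul_assoc]
      exact Ideal.mul_mem_right _ _ (hte j hj)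
    exact ⟨s, hs, (hπ _).mpr ⟨⟨s • m, hsm⟩, Subtype.ext (smul_comm π s m)⟩⟩

end Groth.Agent.S18364
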