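import Mathlib
import Groth.Statements.S18365
-- import your own Groth.Agent.* helpers here

set_option autoImplicit false
universe u
open CAlg

namespace Groth.Agent.S18365

/-- Let A be a Noetherian ring, π an element of A, (𝔓_i)_{i ∈ ι} an injective finite family listing
exactly the minimal prime ideals over (π), and M a finitely generated A-module on which π acts
injectively; put M̄ = M/πM. For T ⊆ ι let K(T) ⊆ M̄ be the submodule of elements whose image in the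
localisation of M̄ at 𝔓_i vanishes for every i ∈ T, and N(T) ⊆ M its preimage; assume K(ι) = 0.
Suppose that M̄ decomposes at Y, i.e. K(Y) + K(Yᶜ) = M̄, and that for a subset Z the module
N(Y)/πN(Y) decomposes at Z, i.e. its submodule of elements vanishing at every 𝔓_i (i ∈ Z) and its
submodule of elements vanishing at every 𝔓_i (i ∉ Z) together span it. Then M̄ decomposes at Z: K(Z)
+ K(Zᶜ) = M̄. (Geometric meaning: for a flat family of curves over a discrete valuation ring with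
uniformizer π, I a torsion-free rank-one sheaf flat over the base, Y a subcurve of the special fibre
X(s) at which I(s) decomposes and I^Y = ker(I → I(s)_Y): if I^Y(s) decomposes at a subcurve Z then
so does I(s); decomposition of a sheaf at Z is the surjectivity of I(s) → I(s)_Z ⊕ I(s)_{Z^c},
checked on stalks. Reducedness of the special fibre and rank one are not used.) -/
theorem result
    (A : Type u) [CommRing A] [IsNoetherianRing A] (π : A)
    (ι : Type) [Finite ι] (𝔓 : ι → Ideal A) [∀ i, (𝔓 i).IsPrime]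
    (h𝔓 : ∀ i, 𝔓 i ∈ (Ideal.span {π}).minimalPrimes) (h𝔓inj : Function.Injective 𝔓)
    (h𝔓surj : ∀ 𝔔 ∈ (Ideal.span {π}).minimalPrimes, ∃ i, 𝔓 i = 𝔔)
    (M : Type u) [AddCommGroup M] [Module A M] [Module.Finite A M]
    (hπ : ∀ m : M, π • m = 0 → m = 0)
    (K : Set ι → Submodule A (M ⧸ Ideal.span {π} • (⊤ : Submodule A M)))
    (hK : ∀ T : Set ι, K T = ⨅ i ∈ T, LinearMap.ker
      (LocalizedModule.mkLinearMap (𝔓 i).primeCompl (M ⧸ Ideal.span {π} • (⊤ : Submodule A M))))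
    (htf : K Set.univ = ⊥)
    (N : Set ι → Submodule A M)
    (hN : ∀ T : Set ι, N T = (K T).comap (Submodule.mkQ (Ideal.span {π} • (⊤ : Submodule A M))))
    (Y Z : Set ι) (hY : K Y ⊔ K Yᶜ = ⊤)
    (K' : Set ι → Submodule A (↥(N Y) ⧸ Ideal.span {π} • (⊤ : Submodule A ↥(N Y))))
    (hK' : ∀ T : Set ι, K' T = ⨅ i ∈ T, LinearMap.ker
      (LocalizedModule.mkLinearMap (𝔓 i).primeCompl (↥(N Y) ⧸ Ideal.span {π} • (⊤ : Submodule A ↥(N Y)))))
    (hZ : K' Z ⊔ K' Zᶜ = ⊤) :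
    K Z ⊔ K Zᶜ = ⊤ := by
  classical
  obtain ⟨J, hJ⟩ : ∃ J : Submodule A M, J = Ideal.span {π} • ⊤ := ⟨_, rfl⟩
  have hmemN : ∀ (T : Set ι) (x : M), x ∈ N T ↔ ∀ i ∈ T, ∃ r ∈ (𝔓 i).primeCompl, r • x ∈ J := by
    intro T x
    simp only [hN, hK, hJ, Submodule.mem_comap, Submodule.mem_iInf, LocalizedModule.mem_ker_mkLinearMap_iff,
      ← map_smul, Submodule.mkQ_apply, ← Submodule.Quotient.mk_smul, Submodule.Quotient.mk_eq_zero]
  have hπM : ∀ y, y ∈ J ↔ ∃ l : M, π • l = y := fun y => by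
    rw [hJ, Submodule.ideal_span_singleton_smul, Submodule.mem_smul_pointwise_iff_exists]
    exact ⟨fun ⟨b, _, h⟩ => ⟨b, h⟩, fun ⟨b, h⟩ => ⟨b, Submodule.mem_top, h⟩⟩
  have hπL : ∀ y, y ∈ Ideal.span {π} • (⊤ : Submodule A ↥(N Y)) ↔ ∃ l : N Y, π • l = y := fun y => by
    rw [Submodule.ideal_span_singleton_smul, Submodule.mem_smul_pointwise_iff_exists]
    exact ⟨fun ⟨b, _, h⟩ => ⟨b, h⟩, fun ⟨b, h⟩ => ⟨b, Submodule.mem_top, h⟩⟩
  have hJN : ∀ T, J ≤ N T := fun T x hx => (hmemN T x).mpr fun i _ => ⟨1, one_mem _, by rwa [one_smul]⟩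
  have huniv : N Set.univ = J := by rw [hN, htf, Submodule.comap_bot, Submodule.ker_mkQ, hJ]
  -- `K' T` as a condition in `M`
  have hK'mem : ∀ (T : Set ι) (a : N Y), Submodule.Quotient.mk a ∈ K' T ↔
      ∀ i ∈ T, ∃ r ∈ (𝔓 i).primeCompl, ∃ l : N Y, π • (l : M) = r • (a : M) := fun T a => by
    simp only [hK', Submodule.mem_iInf, LocalizedModule.mem_ker_mkLinearMap_iff, ← Submodule.Quotient.mk_smul,
      Submodule.Quotient.mk_eq_zero, hπL]
    exact forall₂_congr fun i _ => exists_congr fun r => and_congr_right fun _ =>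
      exists_congr fun l => Subtype.ext_iff
  have hsplit : ∀ a : N Y, ∃ a₁ a₂ l : N Y, Submodule.Quotient.mk a₁ ∈ K' Z ∧ Submodule.Quotient.mk a₂ ∈ K' Zᶜ ∧
      (a : M) = a₁ + a₂ + π • (l : M) := fun a => by
    obtain ⟨p, hp, q, hq, hpq⟩ := Submodule.mem_sup.mp (hZ.symm ▸ Submodule.mem_top :
      (Submodule.Quotient.mk a : ↥(N Y) ⧸ Ideal.span {π} • (⊤ : Submodule A ↥(N Y))) ∈ K' Z ⊔ K' Zᶜ)
    obtain ⟨a₁, rfl⟩ := Submodule.Quotient.mk_surjective _ p
    obtain ⟨a₂, rfl⟩ := Submodule.Quotient.mk_surjective _ q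
    rw [← Submodule.Quotient.mk_add, eq_comm, Submodule.Quotient.eq] at hpq
    obtain ⟨l, hl⟩ := (hπL _).mp hpq
    refine ⟨a₁, a₂, l, hp, hq, ?_⟩
    have := congrArg (Subtype.val (p := (· ∈ N Y))) hl
    simp only [Submodule.coe_smul, Submodule.coe_sub, Submodule.coe_add] at this
    rw [this]; abel
  have hK'N : ∀ (T : Set ι) (a : N Y), Submodule.Quotient.mk a ∈ K' T → (a : M) ∈ N T := fun T a ha =>
    (hmemN T a).mpr fun i hi => by
      obtain ⟨r, hr, l, hl⟩ := (hK'mem T a).mp ha i hi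
      exact ⟨r, hr, (hπM _).mpr ⟨l, hl⟩⟩
  have hL : N Y ≤ N Z ⊔ N Zᶜ := fun a ha => by
    obtain ⟨a₁, a₂, l, h₁, h₂, e⟩ := hsplit ⟨a, ha⟩
    rw [show a = ((⟨a, ha⟩ : N Y) : M) from rfl, e]
    exact add_mem (add_mem (Submodule.mem_sup_left (hK'N _ _ h₁)) (Submodule.mem_sup_right (hK'N _ _ h₂)))
      (Submodule.mem_sup_left (hJN Z ((hπM _).mpr ⟨l, rfl⟩)))
  have hdec : ∀ m : M, ∃ a ∈ N Y, ∃ b ∈ N Yᶜ, a + b = m := fun m => by
    obtain ⟨p, hp, q, hq, hpq⟩ := Submodule.mem_sup.mp (hY.symm ▸ Submodule.mem_top :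
      (Submodule.Quotient.mk m : M ⧸ Ideal.span {π} • (⊤ : Submodule A M)) ∈ K Y ⊔ K Yᶜ)
    obtain ⟨a, rfl⟩ := Submodule.Quotient.mk_surjective _ p
    obtain ⟨b, rfl⟩ := Submodule.Quotient.mk_surjective _ q
    rw [← Submodule.Quotient.mk_add, eq_comm, Submodule.Quotient.eq, ← hJ] at hpq
    refine ⟨a, by rw [hN]; exact hp, b + (m - (a + b)), add_mem (by rw [hN]; exact hq) (hJN _ hpq), by abel⟩
  -- a piece vanishing at `Yᶜ` splits
  have half : ∀ (T : Set ι) (u : M), (∀ i ∈ T, i ∈ Y → ∃ r ∈ (𝔓 i).primeCompl, r • u ∈ J) →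
      u ∈ N Y ⊔ N T := by
    intro T u hu
    obtain ⟨a, ha, b, hb, rfl⟩ := hdec u
    refine add_mem (Submodule.mem_sup_left ha) (Submodule.mem_sup_right ((hmemN T b).mpr fun i hi => ?_))
    by_cases hiY : i ∈ Y
    · obtain ⟨r, hr, h1⟩ := hu i hi hiY
      obtain ⟨r', hr', h2⟩ := (hmemN Y a).mp ha i hiY
      refine ⟨r' * r, mul_mem hr' hr, ?_⟩
      rw [show (r' * r) • b = r' • (r • (a + b)) - r • (r' • a) by
        simp only [smul_add, smul_smul, mul_comm r r']; abel]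
      exact sub_mem (Submodule.smul_mem _ _ h1) (Submodule.smul_mem _ _ h2)
    · exact (hmemN _ b).mp hb i hiY
  have hR : N Yᶜ ≤ N Z ⊔ N Zᶜ := fun b hb => by
    have hπb : π • b ∈ J := (hπM _).mpr ⟨b, rfl⟩
    obtain ⟨a₁, a₂, l, h₁, h₂, e⟩ := hsplit ⟨π • b, hJN Y hπb⟩
    change π • b = (a₁ : M) + a₂ + π • (l : M) at e
    have hin : ∀ T, ∀ c d : N Y, Submodule.Quotient.mk c ∈ K' T → Submodule.Quotient.mk d ∈ K' Tᶜ →
        (c : M) + d ∈ J → (c : M) ∈ J := fun T c d hc hd hcd => by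
      rw [← huniv, hmemN]
      intro i _
      by_cases hi : i ∈ T
      · exact (hmemN T _).mp (hK'N T c hc) i hi
      · obtain ⟨r, hr, h⟩ := (hmemN Tᶜ _).mp (hK'N Tᶜ d hd) i hi
        refine ⟨r, hr, ?_⟩
        rw [show r • (c : M) = r • ((c : M) + d) - r • (d : M) by rw [smul_add]; abel]
        exact sub_mem (Submodule.smul_mem _ _ hcd) h
    have hsum : (a₁ : M) + a₂ ∈ J := by
      rw [show (a₁ : M) + a₂ = π • b - π • (l : M) by rw [e]; abel]
      exact sub_mem hπb ((hπM _).mpr ⟨l, rfl⟩)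
    obtain ⟨u, hu⟩ := (hπM _).mp (hin Z a₁ a₂ h₁ h₂ hsum)
    obtain ⟨v, hv⟩ := (hπM _).mp (hin Zᶜ a₂ a₁ h₂ (by rwa [compl_compl]) (by rwa [add_comm]))
    have hb' : b = u + v + l := sub_eq_zero.mp (hπ _ (by rw [smul_sub, smul_add, smul_add, hu, hv, e, sub_self]))
    have key : ∀ (T : Set ι) (c : N Y) (w : M), Submodule.Quotient.mk c ∈ K' T → π • w = c → w ∈ N Y ⊔ N T :=
      fun T c w hc hw => half T w fun i hi hiY => by
        obtain ⟨r, hr, x, hx⟩ := (hK'mem T c).mp hc i hi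
        rw [← hw, smul_comm r π w] at hx
        have hxw : (x : M) = r • w := sub_eq_zero.mp (hπ _ (by rw [smul_sub, hx, sub_self]))
        obtain ⟨r', hr', h⟩ := (hmemN Y (x : M)).mp x.2 i hiY
        exact ⟨r' * r, mul_mem hr' hr, by rwa [mul_smul, ← hxw]⟩
    rw [hb']
    exact add_mem (add_mem (sup_le hL le_sup_left (key Z a₁ u h₁ hu)) (sup_le hL le_sup_right (key Zᶜ a₂ v h₂ hv)))
      (hL l.2)
  have htop : N Z ⊔ N Zᶜ = ⊤ := eq_top_iff.mpr fun m _ => by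
    obtain ⟨a, ha, b, hb, rfl⟩ := hdec m
    exact add_mem (hL ha) (hR hb)
  refine eq_top_iff.mpr fun q _ => ?_
  obtain ⟨m, rfl⟩ := Submodule.Quotient.mk_surjective _ q
  obtain ⟨c, hc, d, hd, rfl⟩ := Submodule.mem_sup.mp (htop.symm ▸ Submodule.mem_top : m ∈ N Z ⊔ N Zᶜ)
  rw [Submodule.Quotient.mk_add]
  rw [hN] at hc hd
  exact add_mem (Submodule.mem_sup_left hc) (Submodule.mem_sup_right hd)

end Groth.Agent.S18365
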