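import Groth.Statements.S18366
import Groth.Agent.S2155
import Groth.Agent.GrpSchLib.SepPoints
import Mathlib.AlgebraicGeometry.Geometrically.Reduced
import Mathlib.FieldTheory.IsAlgClosed.AlgebraicClosure

set_option autoImplicit false
universe u
open CategoryTheory CategoryTheory.Limits AlgebraicGeometry
open Variety

namespace Groth.Agent.S18366

open CategoryTheory CategoryTheory.Limits AlgebraicGeometry in
theorem main (k : Type u) [Field k] [IsSepClosed k]
    {X : Scheme.{u}} (f : X ⟶ Spec (CommRingCat.of k)) [LocallyOfFiniteType f] [GeometricallyReduced f]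
    [Nonempty X] :
    ∃ s : Spec (CommRingCat.of k) ⟶ X, s ≫ f = 𝟙 (Spec (CommRingCat.of k)) := by
  haveI : LocallyOfFinitePresentation f := LocallyOfFinitePresentation.iff_locallyOfFiniteType.2 inferInstance
  let τ := Spec.map (CommRingCat.ofHom (algebraMap k (AlgebraicClosure k)))
  have hflat : Flat τ := by
    rw [HasRingHomProperty.Spec_iff (P := @Flat)]
    exact RingHom.Flat.of_isField (Field.toIsField k) _
  haveI : Surjective τ := ⟨fun y => ⟨IsLocalRing.closedPoint _, Subsingleton.elim _ _⟩⟩
  have hsq := IsPullback.of_hasPullback f τ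
  haveI : IsReduced (pullback f τ) :=
    ‹GeometricallyReduced f›.geometrically_isReduced _ _ _ hsq
  haveI : Nonempty ↑(pullback f τ) := by
    obtain ⟨z, -⟩ := (pullback.fst f τ).surjective (Classical.arbitrary X)
    exact ⟨z⟩
  obtain ⟨z, hz⟩ := (Scheme.Hom.dense_smoothLocus_of_perfectField (pullback.snd f τ)).nonempty
  have h := Groth.Agent.S2155.result f τ (pullback.snd f τ) _ hsq (.inr hflat)
  haveI : Smooth (f.smoothLocus.ι ≫ f) := by
    rw [← Scheme.Hom.smoothLocus_eq_top_iff, ← Scheme.Hom.preimage_smoothLocus_eq f.smoothLocus.ι f,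
      Scheme.Opens.ι_preimage_self]
  obtain ⟨s, hs, -⟩ := Groth.Agent.GrpSchLib.exists_point_of_smooth (f.smoothLocus.ι ≫ f) ⊤
    (x := ⟨(pullback.fst f τ).base z, h.le hz⟩) trivial
  exact ⟨s ≫ f.smoothLocus.ι, by rw [Category.assoc]; exact hs⟩


/-- Let k be a separably closed field and X a non-empty k-scheme of finite type which is geometrically
reduced. Then X has a k-rational point, i.e. the structure morphism admits a section. (Non-emptiness
is part of the hypotheses: the empty scheme is geometrically reduced of finite type and has no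
point. The published statement does not assume X non-empty; this row does, since the empty scheme
has no rational point.) -/
theorem result (k : Type u) [Field k] [IsSepClosed k]
    {X : Scheme.{u}} (f : X ⟶ Spec (CommRingCat.of k)) [LocallyOfFiniteType f] [QuasiCompact f] [GeometricallyReduced f]
    [Nonempty X] :
    ∃ s : Spec (CommRingCat.of k) ⟶ X, s ≫ f = 𝟙 (Spec (CommRingCat.of k)) :=
  main k f

end Groth.Agent.S18366
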