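import Groth.Statements.S18367
import Groth.Agent.GrLib8.Acyclicity
-- import your own Groth.Agent.* helpers here

set_option autoImplicit false
universe u
open CategoryTheory CategoryTheory.Limits
open LocAlg

namespace Groth.Agent.S18367

/-- Let R be a Cohen–Macaulay local ring of Krull dimension g and K = (K^0 → K^1 → ⋯) a bounded cochain
complex of finitely generated free R-modules (K^i = 0 for i > N) such that every cohomology module
H^i(K) has finite length. Then H^i(K) = 0 for all i < g. -/
theorem result (R : Type u) [CommRing R]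
    [LocCoh.IsCohenMacaulayLocalRing R] (g : ℕ) (hg : ringKrullDim R = g) (K : CochainComplex (ModuleCat.{u} R) ℕ)
    (N : ℕ) (hbd : ∀ i, N < i → IsZero (K.X i)) (hfree : ∀ i, Module.Free R (K.X i) ∧ Module.Finite R (K.X i))
    (hfl : ∀ i, IsFiniteLength R (K.homology i)) (i : ℕ) (hi : i < g) :
    IsZero (K.homology i) := by
  refine Groth.Agent.GrLib8.Acyclicity.homology_eq_zero g ?_ K hfree hfl i hi
  have h1 : ((LocCoh.depth R R : ℕ∞) : WithBot ℕ∞) = (g : WithBot ℕ∞) := by
    rw [← LocCoh.IsCohenMacaulayLocalRing.supportDim_eq_depth, Module.supportDim_self_eq_ringKrullDim, hg]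
  have h2 : (g : ℕ∞) ≤ LocCoh.idealDepth (IsLocalRing.maximalIdeal R) R := ge_of_eq (WithBot.coe_injective h1)
  exact fun n hn => (Groth.Agent.LC.le_idealDepth_iff_ext _ R g).1 h2 n hn

end Groth.Agent.S18367
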