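import Groth.Statements.S18368
import Groth.Agent.H23.Rigid

set_option autoImplicit false
universe u
open CategoryTheory CategoryTheory.Limits MonoidalCategory CartesianMonoidalCategory AlgebraicGeometry
open AbVar

namespace Groth.Agent.S18368

/-- Let k be a field, X and Y geometrically integral k-schemes of finite type with X proper, Z a
separated k-scheme and f : X ×_k Y → Z a k-morphism (products in the cartesian monoidal category of
k-schemes). If for some algebraically closed field K over k there are points y₀ : Spec K → Y and z₀
: Spec K → Z over k such that f restricted to X ×_k Spec K along y₀ is the constant map z₀, then f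
factors uniquely through the second projection: there is exactly one g : Y → Z over k with f = pr₂ ≫
g. (The target Z is not assumed to be of finite type over k.) -/
theorem result (k : Type u) [Field k]
    (X Y Z : Over (Spec (CommRingCat.of k)))
    [IsProper X.hom] [GeometricallyIntegral X.hom]
    [LocallyOfFiniteType Y.hom] [QuasiCompact Y.hom] [GeometricallyIntegral Y.hom]
    [IsSeparated Z.hom] (f : X ⊗ Y ⟶ Z)
    (K : Type u) [Field K] [Algebra k K] [IsAlgClosed K]
    (y₀ : (Over.mk (Spec.map (CommRingCat.ofHom (algebraMap k K))) : Over (Spec (CommRingCat.of k))) ⟶ Y)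
    (z₀ : (Over.mk (Spec.map (CommRingCat.ofHom (algebraMap k K))) : Over (Spec (CommRingCat.of k))) ⟶ Z)
    (h : (X ◁ y₀) ≫ f = snd X _ ≫ z₀) :
    ∃! g : Y ⟶ Z, f = snd X Y ≫ g := by
  have : IsProper X.hom := inferInstance
  let p := pullback.snd X.hom Y.hom
  have h0 := Groth.Agent.H23.Rigid.bijective_app_snd X.hom Y.hom
  have hsurj := Groth.Agent.H23.Rigid.surjective_of_bijective_app p h0 p.isClosedMap
  let pt : Spec (CommRingCat.of K) := default
  have hs : ∃ z : Z.left, ∀ x : ↥(pullback X.hom Y.hom), p x = y₀.left pt → f.left x = z := by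
    refine ⟨z₀.left pt, fun x hx => ?_⟩
    have H : IsPullback (X ◁ y₀).left (pullback.snd X.hom (Spec.map (CommRingCat.ofHom (algebraMap k K))))
        p y₀.left := by
      refine IsPullback.of_right ?_ ?_ (IsPullback.of_hasPullback X.hom Y.hom)
      · have e1 : (X ◁ y₀).left ≫ pullback.fst X.hom Y.hom =
            pullback.fst X.hom (Spec.map (CommRingCat.ofHom (algebraMap k K))) :=
          congrArg CommaMorphism.left (whiskerLeft_fst X y₀)
        have e2 : y₀.left ≫ Y.hom = Spec.map (CommRingCat.ofHom (algebraMap k K)) := Over.w y₀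
        simpa only [e1, e2] using! (IsPullback.of_hasPullback X.hom (Spec.map (CommRingCat.ofHom (algebraMap k K))))
      · exact congrArg CommaMorphism.left (whiskerLeft_snd X y₀)
    obtain ⟨w, hw1, hw2⟩ := Scheme.exists_preimage_of_isPullback H x pt hx
    have := congr($(congrArg CommaMorphism.left h) w)
    simp only [Over.comp_left, Scheme.Hom.comp_apply, hw1] at this
    refine this.trans ?_
    exact congrArg z₀.left hw2
  have : GeometricallyIntegral X.hom := inferInstance
  obtain ⟨g, hg⟩ := Groth.Agent.H23.Rigid.exists_factor_snd X.hom Y.hom Z.hom f.left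
    (Over.w f) (y₀.left pt) hs
  have hgw : g ≫ Z.hom = Y.hom := Groth.Agent.H23.Rigid.cancel_left p h0 hsurj _ _ (by
    rw [← Category.assoc, hg, ← pullback.condition]; exact Over.w f)
  refine ⟨Over.homMk g hgw, Over.OverMorphism.ext hg.symm, fun g' hg' => Over.OverMorphism.ext ?_⟩
  refine Groth.Agent.H23.Rigid.cancel_left p h0 hsurj _ _ ?_
  exact (congrArg CommaMorphism.left hg').symm.trans hg.symm

end Groth.Agent.S18368
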