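import Groth.Statements.S1837
import Groth.Agent.TameKey.Glue

set_option autoImplicit false
open Groth.Agent
universe u
open TensorProduct
open CycAlg

namespace Groth.Agent.S1837

/-- Let A be Noetherian with pairwise distinct maximal ideals 𝔪₁, …, 𝔪_r, and for each i a ring map φ_i
from A_{𝔪_i} to B_i whose kernel and cokernel are killed by a power of 𝔪_i. Then there is an
A-algebra B whose base change to each A_{𝔪_i} is isomorphic to B_i and whose structure map has
kernel and cokernel killed by a power of 𝔪₁ ∩ … ∩ 𝔪_r; if every φ_i is finite (resp. injective,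
resp. surjective) B can be taken with the same property. -/
theorem result (A : Type u) [CommRing A] [IsNoetherianRing A] (r : ℕ) (m : Fin r → Ideal A) (hm : ∀ i, (m i).IsMaximal) (hinj : Function.Injective m) (B : Fin r → Type u) [∀ i, CommRing (B i)] [∀ i, Algebra (Localization.AtPrime (m i)) (B i)] (hker : ∀ i, ∃ n : ℕ, ∀ x ∈ RingHom.ker (algebraMap (Localization.AtPrime (m i)) (B i)), ∀ y ∈ Ideal.map (algebraMap A (Localization.AtPrime (m i))) (m i) ^ n, y * x = 0) (hcoker : ∀ i, ∃ n : ℕ, ∀ y ∈ Ideal.map (algebraMap A (Localization.AtPrime (m i))) (m i) ^ n, ∀ b : B i, y • b ∈ (algebraMap (Localization.AtPrime (m i)) (B i)).range) : ∃ (C : Type u) (_ : CommRing C) (_ : Algebra A C), (∀ i, Nonempty ((Localization.AtPrime (m i)) ⊗[A] C ≃ₐ[Localization.AtPrime (m i)] B i)) ∧ (∃ n : ℕ, (∀ x ∈ RingHom.ker (algebraMap A C), ∀ y ∈ (⨅ i, m i) ^ n, y * x = 0) ∧ (∀ y ∈ (⨅ i, m i) ^ n, ∀ c : C, y • c ∈ (algebraMap A C).range)) ∧ ((∀ i, (algebraMap (Localization.AtPrime (m i)) (B i)).Finite) → (algebraMap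 A C).Finite) ∧ ((∀ i, Function.Injective (algebraMap (Localization.AtPrime (m i)) (B i))) → Function.Injective (algebraMap A C)) ∧ ((∀ i, Function.Surjective (algebraMap (Localization.AtPrime (m i)) (B i))) → Function.Surjective (algebraMap A C)) := by
  classical
  haveI := hm
  letI iA : ∀ i, Algebra A (B i) := fun i =>
    ((algebraMap (Localization.AtPrime (m i)) (B i)).comp (algebraMap A (Localization.AtPrime (m i)))).toAlgebra
  haveI : ∀ i, IsScalarTower A (Localization.AtPrime (m i)) (B i) := fun i => IsScalarTower.of_algebraMap_eq fun _ => rfl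
  choose k hk using hker
  choose l hl using hcoker
  let n := Finset.univ.sup k + Finset.univ.sup l
  have hkn : ∀ i, k i ≤ n := fun i => (Finset.le_sup (Finset.mem_univ i)).trans (Nat.le_add_right _ _)
  have hln : ∀ i, l i ≤ n := fun i => (Finset.le_sup (Finset.mem_univ i)).trans (Nat.le_add_left _ _)
  have h1 : ∀ (i) (a : A), algebraMap A (B i) a = 0 → ∀ z ∈ m i ^ n, ∃ s ∉ m i, s * (z * a) = 0 := by
    intro i a ha z hz
    have h := hk i _ (RingHom.mem_ker.mpr ha) (algebraMap A _ z) (by
      rw [← Ideal.map_pow]; exact Ideal.mem_map_of_mem _ (Ideal.pow_le_pow_right (hkn i) hz))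
    rw [← map_mul] at h
    obtain ⟨s, hs⟩ := (IsLocalization.map_eq_zero_iff (m i).primeCompl _ _).mp h
    exact ⟨s, s.2, hs⟩
  have h2 : ∀ (i) (z : A), z ∈ m i ^ n → ∀ b : B i, ∃ (a s : A), s ∉ m i ∧ (s * z) • b = algebraMap A (B i) a := by
    intro i z hz b
    obtain ⟨x, hx⟩ := hl i (algebraMap A _ z) (by
      rw [← Ideal.map_pow]; exact Ideal.mem_map_of_mem _ (Ideal.pow_le_pow_right (hln i) hz)) b
    obtain ⟨⟨a, s⟩, has⟩ := IsLocalization.surj (m i).primeCompl x
    refine ⟨a, s, s.2, ?_⟩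
    rw [IsScalarTower.algebraMap_apply A (Localization.AtPrime (m i)) (B i) a, ← has, map_mul, hx, mul_smul,
      algebraMap_smul, Algebra.smul_def (s : A), mul_comm, ← IsScalarTower.algebraMap_apply]
  refine ⟨TameKey.Glue.glue m B, inferInstance, inferInstance,
    fun i => TameKey.Glue.nonempty_equiv h1 h2 hinj i, ⟨n, TameKey.Glue.glue_bounds h1 h2 hinj⟩,
    fun h => TameKey.Glue.glue_finite h1 h2 hinj h, fun h => TameKey.Glue.glue_injective h1 hinj h,
    fun h c => TameKey.Glue.mem_range h1 hinj c fun i => h i _⟩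

end Groth.Agent.S1837
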