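import Groth.Statements.S18370
import Mathlib.CategoryTheory.Monoidal.Cartesian.Grp
import Mathlib.Data.Int.GCD
import Mathlib.Tactic.Linarith
import Mathlib.Tactic.Ring

set_option autoImplicit false
universe u
open CategoryTheory CategoryTheory.Limits MonoidalCategory CartesianMonoidalCategory MonObj GrpObj AlgebraicGeometry
open GrpSch

namespace Groth.Agent.S18370

/-- Let S be a scheme and G a commutative S-group scheme which is killed by a natural number n, i.e. the
n-th power map of G is the trivial homomorphism, and let n = a·b with a and b coprime. If i_a : G_a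
→ G and i_b : G_b → G are scheme-theoretic kernels of the a-th and b-th power maps of G, then the
morphism G_a ×_S G_b → G sending (x, y) to i_a(x)·i_b(y) is an isomorphism of S-schemes. (The
published statement assumes n ≠ 0; the case n = 0, where {a, b} = {0, 1} and one kernel is all of G
while the other is trivial, is included here.) -/
theorem result {S : Scheme.{u}} (G Ga Gb : Over S)
    [GrpObj G] [IsCommMonObj G] (n a b : ℕ) (hn : n = a * b) (hab : Nat.Coprime a b)
    (hG : (𝟙 G) ^ n = 1)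
    (ia : Ga ⟶ G) (hia : AlgGrp.IsKernel ia ((𝟙 G) ^ a))
    (ib : Gb ⟶ G) (hib : AlgGrp.IsKernel ib ((𝟙 G) ^ b)) :
    IsIso ((fst Ga Gb ≫ ia) * (snd Ga Gb ≫ ib)) := by
  obtain ⟨x, y, hxy⟩ : ∃ x y : ℤ, (a : ℤ) * x + (b : ℤ) * y = 1 :=
    ⟨Nat.gcdA a b, Nat.gcdB a b, by rw [← Nat.gcd_eq_gcd_ab, hab]; rfl⟩
  have kill : ∀ {T : Over S} (g : T ⟶ G), g ^ n = 1 := fun {T} g => by
    conv_lhs => rw [← Category.comp_id g]
    rw [← MonObj.comp_pow, hG, MonObj.comp_one]
  have killz : ∀ {T : Over S} (g : T ⟶ G) (z : ℤ), g ^ ((n : ℤ) * z) = 1 := fun {T} g z => by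
    rw [zpow_mul, zpow_natCast, kill, one_zpow]
  have lifts : ∀ (m : ℕ) {N : Over S} (i : N ⟶ G), AlgGrp.IsKernel i ((𝟙 G) ^ m) →
      ∀ g : G ⟶ G, g ^ m = 1 → ∃ z : G ⟶ N, z ≫ i = g := fun m N i hi g hg =>
    ⟨hi.lift g (toUnit G) (by
      rw [MonObj.comp_pow, Category.comp_id, hg, MonObj.one_eq_one, MonObj.comp_one]), hi.lift_fst _ _ _⟩
  have killed : ∀ (m : ℕ) {N : Over S} (i : N ⟶ G), AlgGrp.IsKernel i ((𝟙 G) ^ m) →
      i ^ m = 1 := fun m N i hi => by
    have := hi.w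
    rwa [MonObj.comp_pow, Category.comp_id, MonObj.one_eq_one, MonObj.comp_one] at this
  have ext : ∀ (m : ℕ) {N T : Over S} (i : N ⟶ G), AlgGrp.IsKernel i ((𝟙 G) ^ m) →
      ∀ p q : T ⟶ N, p ≫ i = q ≫ i → p = q := fun m N T i hi p q h =>
    hi.hom_ext h (toUnit_unique _ _)
  obtain ⟨za, hza⟩ := lifts a ia hia ((𝟙 G) ^ ((b : ℤ) * y)) (by
    rw [← zpow_natCast, ← zpow_mul, ← killz (𝟙 G) y]
    congr 1; rw [hn]; push_cast; ring)
  obtain ⟨zb, hzb⟩ := lifts b ib hib ((𝟙 G) ^ ((a : ℤ) * x)) (by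
    rw [← zpow_natCast, ← zpow_mul, ← killz (𝟙 G) x]
    congr 1; rw [hn]; push_cast; ring)
  set φ := (fst Ga Gb ≫ ia) * (snd Ga Gb ≫ ib) with hφ
  have pa : (fst Ga Gb ≫ ia) ^ a = 1 := by rw [← MonObj.comp_pow, killed a ia hia, MonObj.comp_one]
  have pb : (snd Ga Gb ≫ ib) ^ b = 1 := by rw [← MonObj.comp_pow, killed b ib hib, MonObj.comp_one]
  refine ⟨lift za zb, ?_, ?_⟩
  · apply CartesianMonoidalCategory.hom_ext
    · rw [Category.assoc, lift_fst, Category.id_comp]
      refine ext a ia hia _ _ ?_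
      rw [Category.assoc, hza, GrpObj.comp_zpow, Category.comp_id, hφ, mul_zpow]
      rw [zpow_mul (snd Ga Gb ≫ ib), zpow_natCast, pb, one_zpow, _root_.mul_one]
      rw [show (b : ℤ) * y = 1 - (a : ℤ) * x from by linarith, zpow_sub, zpow_one, zpow_mul,
        zpow_natCast, pa, one_zpow, inv_one, _root_.mul_one]
    · rw [Category.assoc, lift_snd, Category.id_comp]
      refine ext b ib hib _ _ ?_
      rw [Category.assoc, hzb, GrpObj.comp_zpow, Category.comp_id, hφ, mul_zpow]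
      rw [zpow_mul (fst Ga Gb ≫ ia), zpow_natCast, pa, one_zpow, _root_.one_mul]
      rw [show (a : ℤ) * x = 1 - (b : ℤ) * y from by linarith, zpow_sub, zpow_one, zpow_mul,
        zpow_natCast, pb, one_zpow, inv_one, _root_.mul_one]
  · rw [hφ, MonObj.comp_mul, lift_fst_assoc, lift_snd_assoc, hza, hzb, ← zpow_add,
      show (b : ℤ) * y + (a : ℤ) * x = 1 from by linarith, zpow_one]

end Groth.Agent.S18370
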