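import Groth.Statements.S18371
import Groth.Agent.Lib.AVKLRank
import Groth.Agent.Lib.AVPoincareExist

set_option autoImplicit false
set_option backward.isDefEq.respectTransparency false
set_option backward.isDefEq.respectTransparency.types false
set_option linter.style.haveILetI false
set_option linter.unusedSectionVars false
set_option maxHeartbeats 400000
universe u
open CategoryTheory CategoryTheory.Limits MonoidalCategory CartesianMonoidalCategory MonObj GrpObj AlgebraicGeometry
open AbVar

namespace Groth.Agent.S18371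

set_option linter.unusedVariables false
open Groth.Agent Groth.Agent.H23 Groth.Agent.AVPair Groth.Agent.AVDual
open scoped Groth.Agent.H23.PicMul

/-- Let k be a field, A and B abelian varieties over k (proper smooth k-group schemes with geometrically
connected fibres) of the same dimension g > 0, and (B^t, φ) a given dual abelian variety of B for
the fppf topology, B^t itself an abelian variety, with a Poincaré invertible module P on B ×_k B^t.
Let Q be an invertible module on B ×_k A, regarded as a family of invertible modules on B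
parametrised by A, which is trivial along the unit section of B and trivial on the fibre over the
unit of A, and whose class is algebraically trivial on every geometric fibre over A (this last
condition follows from the others and is recorded as a hypothesis). Let f_Q = φ_A(Q) : A → B^t be
the classifying homomorphism. Then the Euler characteristic χ(B ×_k A, Q) has absolute value 1 if
and only if f_Q is an isomorphism. (The published statement also asserts the same equivalence for
the homomorphism B → A^t attached to the transposed family; that is this statement applied to the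
pulled-back module on A ×_k B with the roles of A and B exchanged. The dimension of B^t is not
assumed equal to g; it is forced by the duality hypothesis.) -/
theorem result (k : Type u) [Field k]
    (A B Bt : Over (Spec (CommRingCat.of k)))
    [GrpObj A] [IsProper A.hom] [Smooth A.hom] [GeometricallyConnected A.hom]
    [GrpObj B] [IsProper B.hom] [Smooth B.hom] [GeometricallyConnected B.hom]
    [GrpObj Bt] [IsProper Bt.hom] [Smooth Bt.hom] [GeometricallyConnected Bt.hom]
    (φ : ∀ T : Over (Spec (CommRingCat.of k)), PicF.Cl (PicF.XT B.hom T) → (T ⟶ Bt))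
    (hφ : AbDual.IsDualAV Scheme.fppfPrecoverage B Bt φ)
    (P : (PicF.XT B.hom Bt).Modules) (hP : PicF.IsInvertible P) (hPξ : AbDual.IsPoincareCl B Bt φ (PicF.cl P))
    (g : ℕ) (hg : 0 < g) (hA : topologicalKrullDim ↥A.left = g) (hB : topologicalKrullDim ↥B.left = g)
    (Q : (PicF.XT B.hom A).Modules) (hQ : PicF.IsInvertible Q)
    (hQ0 : AbDual.IsPicZeroCl B.hom A (PicF.cl Q))
    (hQB : PicF.IsTrivialCl (PicF.pullCl (PicF.secT B.hom η[B].left (Over.w η[B]) A) (PicF.cl Q)))
    (hQA : PicF.IsTrivialCl (PicF.pullCl (PicF.XTmap B.hom η[A]) (PicF.cl Q))) :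
    (@Curv2.euler k _ (PicF.XT B.hom A) ⟨PicF.XTproj B.hom A ≫ A.hom⟩ Q).natAbs = 1 ↔ IsIso (φ A (PicF.cl Q)) := by
  haveI := geometricallyIntegral_of_smooth (A := A)
  haveI := geometricallyIntegral_of_smooth (A := B)
  haveI := geometricallyIntegral_of_smooth (A := Bt)
  haveI : IsIntegral A.left := GeometricallyIntegral.isIntegral_of_subsingleton A.hom
  haveI : IsIntegral Bt.left := GeometricallyIntegral.isIntegral_of_subsingleton Bt.hom
  haveI : IsCommMonObj A := isCommMonObj_of_isProper_of_geometricallyIntegral A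
  haveI : IsCommMonObj B := isCommMonObj_of_isProper_of_geometricallyIntegral B
  haveI : IsCommMonObj Bt := isCommMonObj_of_isProper_of_geometricallyIntegral Bt
  have hs : AVPoincare.Sep (PicF.cl P : PicF.Cl (B ⊗ Bt).left) := AVPoincare.sep_of_dual hφ hPξ
  have hgt : topologicalKrullDim ↥Bt.left = g := AVPoincare.dim_eq hφ hB
  let f : A ⟶ Bt := φ A (PicF.cl Q)
  let c : PicF.Cl (B ⊗ A).left := PicF.cl Q
  have hc : PZ B A c := hQ0
  have haxis : pl (lift (1 : A ⟶ B) (𝟙 A)) c = 1 := by
    have h := hQB
    rw [secT_eq] at h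
    exact h
  have hQf : c = pl (B ◁ f) (PicF.cl P) := by
    refine eq_of_phi hφ hc (pz_pl f hPξ.1) ?_ (1 : A ⟶ B) ?_
    · rw [phi_pl hφ f hPξ.1, hPξ.2.1, Category.comp_id]
    · rw [haxis, pl_pl, lift_whiskerLeft, Category.id_comp, show lift (1 : A ⟶ B) f = f ≫ lift (1 : Bt ⟶ B) (𝟙 Bt) by
        rw [comp_lift, MonObj.comp_one, Category.comp_id], ← pl_pl, hs.left, map_one]
  haveI : IsMonHom f := AVDegPoly.isMonHom_of_one f (by
    show η[A] ≫ φ A c = η[Bt]
    rw [← phi_pl hφ η[A] hc, show pl (B ◁ η[A]) c = 1 from hQA, phi_one hφ, Hom.one_def,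
      toUnit_unique (toUnit (𝟙_ (Over (Spec (CommRingCat.of k))))) (𝟙 _), Category.id_comp])
  let BA := B ⊗ A
  haveI : IsProper BA.hom := inferInstanceAs (IsProper (Limits.pullback.fst B.hom A.hom ≫ B.hom))
  haveI : GeometricallyIntegral BA.hom := MaxAbelian.geometricallyIntegral_tensor B A
  haveI : IsLocallyNoetherian BA.left := LocallyOfFiniteType.isLocallyNoetherian BA.hom
  haveI : IsProper (B ⊗ Bt).hom := inferInstanceAs (IsProper (Limits.pullback.fst B.hom Bt.hom ≫ B.hom))
  haveI : GeometricallyIntegral (B ⊗ Bt).hom := MaxAbelian.geometricallyIntegral_tensor B Bt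
  haveI : IsLocallyNoetherian (B ⊗ Bt).left := LocallyOfFiniteType.isLocallyNoetherian (B ⊗ Bt).hom
  let Q' : BA.left.Modules := (Scheme.Modules.pullback (B ◁ f).left).obj P
  have hQ' : PicF.IsInvertible Q' := PicClLib.isInvertible_pullback _ hP
  have heQ : @Curv2.euler k _ BA.left ⟨BA.hom⟩ Q = @Curv2.euler k _ BA.left ⟨BA.hom⟩ Q' := by
    letI : BA.left.Over (Spec (CommRingCat.of k)) := ⟨BA.hom⟩
    exact CurveCohLib.euler_congr ((PicGrp.cl_eq_cl_iff _ _).1 hQf).some
  have hproj : PicF.XTproj B.hom A ≫ A.hom = BA.hom := Over.w (snd B A)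
  rw [show @Curv2.euler k _ (PicF.XT B.hom A) ⟨PicF.XTproj B.hom A ≫ A.hom⟩ Q = @Curv2.euler k _ BA.left ⟨BA.hom⟩ Q from by
    rw [hproj]; rfl, heQ]
  haveI : IsProper f.left := by
    haveI : IsProper (f.left ≫ Bt.hom) := by rw [Over.w f]; infer_instance
    exact IsProper.of_comp f.left Bt.hom
  have hfin : @Curv2.euler k _ BA.left ⟨BA.hom⟩ Q' ≠ 0 → IsFinite f.left := by
    intro hne
    refine AVDualIsog.isFinite_of_points f.left fun Ω _ _ p => ?_
    obtain ⟨ι', hι⟩ : ∃ s : Spec (CommRingCat.of Ω) ⟶ Spec (CommRingCat.of k), s = p ≫ Bt.hom := ⟨_, rfl⟩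
    letI : Algebra k Ω := (Spec.preimage ι').hom.toAlgebra
    have hσ : Spec.map (CommRingCat.ofHom (algebraMap k Ω)) = p ≫ Bt.hom := by
      rw [← hι]; exact Spec.map_preimage ι'
    let σ := Spec.map (CommRingCat.ofHom (algebraMap k Ω))
    let G := Over.pullback σ
    haveI : IsProper (G.obj BA).hom := inferInstanceAs (IsProper (Limits.pullback.snd BA.hom σ))
    haveI : GeometricallyIntegral (G.obj BA).hom := inferInstanceAs (GeometricallyIntegral (Limits.pullback.snd BA.hom σ))
    let Qσ : (G.obj BA).left.Modules := (Scheme.Modules.pullback (Limits.pullback.fst BA.hom σ)).obj Q'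
    have hQσ : PicF.IsInvertible Qσ := PicClLib.isInvertible_pullback _ hQ'
    rw [← AVIndexStable.euler_bc Ω (AVIndexStable.isCoh hQ')] at hne
    have hstab := AVIndexStable.finite_stab (A := G.obj BA) (L := Qσ) hQσ hne
    haveI : Finite {x : Over.mk σ ⟶ A // x ≫ f = 1} := by
      haveI := hstab.to_subtype
      have hfix : ∀ x : Over.mk σ ⟶ A, x ≫ f = 1 → Nonempty ((Scheme.Modules.pullback ((𝟙 (G.obj BA) *
          (toUnit (G.obj BA) ≫ AVDualIsog.toFibre σ (lift (1 : Over.mk σ ⟶ B) x)))).left).obj Qσ ≅ Qσ) := by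
        intro x hx
        let t : G.obj BA ⟶ G.obj BA := 𝟙 _ * (toUnit (G.obj BA) ≫ AVDualIsog.toFibre σ (lift (1 : Over.mk σ ⟶ B) x))
        let F : G.obj BA ⟶ G.obj (B ⊗ Bt) := G.map (B ◁ f)
        have hF : ∀ {T : Over (Spec (CommRingCat.of Ω))} (a b : T ⟶ G.obj BA), (a * b) ≫ F = (a ≫ F) * (b ≫ F) := by
          intro T a b
          haveI : IsMonHom (B ◁ f) := inferInstance
          haveI : IsMonHom F := inferInstanceAs (IsMonHom (G.map (B ◁ f)))
          exact MonObj.mul_comp a b F
        have htF : t ≫ F = F := by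
          rw [hF, Category.id_comp, Category.assoc]
          show F * (toUnit _ ≫ AVDualIsog.toFibre σ (lift (1 : Over.mk σ ⟶ B) x) ≫ G.map (B ◁ f)) = F
          rw [← AVDualIsog.toFibre_comp, lift_whiskerLeft, hx,
            show lift (1 : Over.mk σ ⟶ B) (1 : Over.mk σ ⟶ Bt) = 1 from CartesianMonoidalCategory.hom_ext _ _ (by rw [lift_fst, MonObj.one_comp]) (by rw [lift_snd, MonObj.one_comp]), AVDualIsog.toFibre_one,
            MonObj.comp_one, _root_.mul_one]
        refine (PicGrp.cl_eq_cl_iff _ _).1 ?_
        show PicF.pullCl t.left (PicF.pullCl (Limits.pullback.fst BA.hom σ) (PicF.pullCl (B ◁ f).left (PicF.cl P))) =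
          PicF.pullCl (Limits.pullback.fst BA.hom σ) (PicF.pullCl (B ◁ f).left (PicF.cl P))
        have hFfst : Limits.pullback.fst BA.hom σ ≫ (B ◁ f).left = F.left ≫ Limits.pullback.fst (B ⊗ Bt).hom σ := by
          simp [F, G, Over.pullback]
        rw [PicClLib.pullCl_comp (Limits.pullback.fst BA.hom σ), hFfst, PicClLib.pullCl_comp, ← Category.assoc,
          ← Over.comp_left, htF]
      exact Finite.of_injective (fun x => (⟨AVDualIsog.toFibre σ (lift (1 : Over.mk σ ⟶ B) x.1), hfix _ x.2⟩ :
          {a : 𝟙_ (Over (Spec (CommRingCat.of Ω))) ⟶ G.obj BA |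
            Nonempty ((Scheme.Modules.pullback (𝟙 (G.obj BA) * (toUnit (G.obj BA) ≫ a)).left).obj Qσ ≅ Qσ)}))
        fun x y e => Subtype.ext (by
          have h := congrArg (· ≫ snd B A) (AVDualIsog.toFibre_injective σ (congrArg Subtype.val e))
          simpa only [lift_snd] using h)
    rcases isEmpty_or_nonempty {q : Spec (CommRingCat.of Ω) ⟶ A.left // q ≫ f.left = p} with h | ⟨⟨q₀, hq₀⟩⟩
    · exact Finite.of_subsingleton
    let lft : {q : Spec (CommRingCat.of Ω) ⟶ A.left // q ≫ f.left = p} → (Over.mk σ ⟶ A) := fun q =>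
      Over.homMk q.1 (by
        show q.1 ≫ A.hom = σ
        rw [← Over.w f, ← Category.assoc, q.2]
        exact hσ.symm)
    have hl : ∀ q, lft q ≫ f = Over.homMk p hσ.symm := fun q => Over.OverMorphism.ext q.2
    exact Finite.of_injective (fun q => (⟨lft q * (lft ⟨q₀, hq₀⟩)⁻¹, by
        rw [MonObj.mul_comp, GrpObj.inv_comp, hl, hl, mul_inv_cancel]⟩ : {x : Over.mk σ ⟶ A // x ≫ f = 1}))
      fun q r h => Subtype.ext (show (lft q).left = (lft r).left from
        congrArg (fun m : _ ⟶ A => m.left) (mul_right_cancel (Subtype.mk.inj h : lft q * _ = lft r * _)))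
  have key : ∀ [IsFinite f.left], ∃ d : ℕ, 0 < d ∧ (∀ y : ↥Bt.left, Scheme.Hom.finrank f.left y = d) ∧
      Flat f.left ∧ LocallyOfFinitePresentation f.left ∧
      @Curv2.euler k _ BA.left ⟨BA.hom⟩ Q' = (d : ℤ) * (-1) ^ g := by
    intro _
    haveI : Surjective f.left := H23.Isogeny.surjective_of_isFinite A.hom Bt.hom f.left (Over.w f) (hA.trans hgt.symm)
    haveI : Flat f.left := ((S7815.result A Bt f).2 fun s => ⟨inferInstance, inferInstance⟩).1
    haveI : IsLocallyNoetherian Bt.left := LocallyOfFiniteType.isLocallyNoetherian Bt.hom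
    haveI : LocallyOfFinitePresentation f.left :=
      AlgStLib.locallyOfFinitePresentation_of_isLocallyNoetherian f.left inferInstance
    obtain ⟨d, hd0, hd⟩ := AVIndexStable.exists_degree f
    refine ⟨d, hd0, hd, inferInstance, inferInstance, ?_⟩
    have hsq := (AVSepClassify.isPullback_whisker (A := B) f).flip
    haveI : IsFinite (B ◁ f).left := MorphismProperty.of_isPullback hsq ‹IsFinite f.left›
    haveI : Flat (B ◁ f).left := MorphismProperty.of_isPullback hsq ‹Flat f.left›
    haveI : HasInjectiveResolutions (B ⊗ Bt).left.Modules := KFlatLib.hasInjectiveResolutions_modules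
    rw [AVEuler.euler_pullback (B ◁ f) d
      (fun y => (Scheme.Hom.finrank_of_isPullback _ _ _ _ hsq y).trans (hd _)) (CurveDeg.isCoh_of_isInvertible hP)]
    congr 1
    letI : (B ⊗ Bt).left.Over (Spec (CommRingCat.of k)) := ⟨(B ⊗ Bt).hom⟩
    unfold Curv2.euler
    rw [finsum_eq_single _ g fun n hn => by
      haveI := AVPoincare.subsingleton_HH_of_ne_of_sep hP hs hB hgt hn
      rw [Module.finrank_zero_of_subsingleton]; simp]
    rw [show Module.finrank k (Coh.HH (B ⊗ Bt).left P g) = 1 from AVPoincare.finrank_HH_of_sep hP hs hB hgt]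
    simp
  constructor
  · intro h1
    haveI := hfin fun h0 => by rw [h0] at h1; simp at h1
    obtain ⟨d, -, hd, hfl, hfp, he⟩ := key
    rw [he, Int.natAbs_mul, Int.natAbs_pow, Int.natAbs_neg, Int.natAbs_one, one_pow, _root_.mul_one,
      Int.natAbs_natCast] at h1
    haveI := hfl
    haveI := hfp
    haveI : IsIso f.left := f.left.isIso_iff_finrank_eq.2 (funext fun y => (hd y).trans h1)
    haveI : IsIso ((Over.forget (Spec (CommRingCat.of k))).map f) := inferInstanceAs (IsIso f.left)
    exact isIso_of_reflects_iso f (Over.forget _)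
  · intro hiso
    haveI : IsIso f.left := inferInstanceAs (IsIso ((Over.forget (Spec (CommRingCat.of k))).map f))
    obtain ⟨d, -, hd, -, -, he⟩ := key
    obtain ⟨y⟩ := (inferInstance : Nonempty Bt.left)
    rw [he, show d = 1 from (hd y).symm.trans (congrFun (Scheme.Hom.finrank_eq_one_of_isIso f.left) y)]
    simp [Int.natAbs_pow]

end Groth.Agent.S18371
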