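import Groth.Statements.S18372
import Groth.Agent.Lib.AVAmple
import Groth.Agent.Lib.AVDual

set_option autoImplicit false
set_option backward.isDefEq.respectTransparency false
set_option backward.isDefEq.respectTransparency.types false
set_option linter.style.haveILetI false
set_option linter.unusedSectionVars false
set_option maxHeartbeats 400000
universe u
open CategoryTheory CategoryTheory.Limits MonoidalCategory CartesianMonoidalCategory MonObj GrpObj AlgebraicGeometry
open AbVar

namespace Groth.Agent.S18372

open Groth.Agent.AVAmple in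
theorem finite_of_closed_affine {k : Type u} [Field k] {X : Scheme.{u}} (f : X ⟶ Spec (CommRingCat.of k)) [IsProper f]
    {U : X.Opens} (hU : IsAffineOpen U) {C : Set X} (hC : IsClosed C) (hCU : C ⊆ (U : Set X)) : C.Finite := by
  let I := Scheme.IdealSheafData.vanishingIdeal (⟨C, hC⟩ : TopologicalSpace.Closeds X)
  have hr : Set.range I.subschemeι = C := by
    rw [Scheme.IdealSheafData.range_subschemeι, Scheme.IdealSheafData.coe_support_vanishingIdeal]; rfl
  haveI : IsAffine U.toScheme := hU
  let l := IsOpenImmersion.lift U.ι I.subschemeι (by rw [hr, Scheme.Opens.range_ι]; exact hCU)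
  haveI : IsClosedImmersion (l ≫ U.ι) := by rw [IsOpenImmersion.lift_fac]; infer_instance
  haveI : IsClosedImmersion l := IsClosedImmersion.of_comp l U.ι
  haveI : IsAffine I.subscheme := isAffine_of_isAffineHom l
  haveI : IsFinite (I.subschemeι ≫ f) := IsFinite.iff_isProper_and_isAffineHom.2 ⟨inferInstance, inferInstance⟩
  have h := IsFinite.finite_preimage_singleton (I.subschemeι ≫ f) (IsLocalRing.closedPoint k)
  have hu : (I.subschemeι ≫ f) ⁻¹' {IsLocalRing.closedPoint k} = Set.univ :=
    Set.eq_univ_of_forall fun x => Subsingleton.elim _ _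
  rw [hu] at h
  rw [← hr, ← Set.image_univ]
  exact h.image _

/-- Let k be an algebraically closed field, A an abelian variety over k (a proper smooth k-group scheme
with geometrically connected fibres), U an affine open subset of A containing the unit point and D =
A ∖ U. Then only finitely many k-rational points x of A have a translation t_x : z ↦ z + x (the
product of the identity and the constant map x in the group Hom(A, A)) with t_x⁻¹(D) = D as sets. -/
theorem result (k : Type u) [Field k] [IsAlgClosed k]
    (A : Over (Spec (CommRingCat.of k))) [GrpObj A] [IsProper A.hom] [Smooth A.hom] [GeometricallyConnected A.hom]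
    (U : A.left.Opens) (hU : IsAffineOpen U) (he : Set.range η[A].left.base ⊆ (U : Set A.left)) :
    Set.Finite {x : 𝟙_ (Over (Spec (CommRingCat.of k))) ⟶ A |
      (𝟙 A * (toUnit A ≫ x)).left.base ⁻¹' ((U : Set A.left)ᶜ) = (U : Set A.left)ᶜ} := by
  haveI : GeometricallyIntegral A.hom := AVDual.geometricallyIntegral_of_smooth A
  haveI : IsCommMonObj A := isCommMonObj_of_isProper_of_geometricallyIntegral A
  haveI : JacobsonSpace A.left := LocallyOfFiniteType.jacobsonSpace A.hom
  let D : Set A.left := (U : Set A.left)ᶜ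
  have hD : IsClosed D := U.isOpen.isClosed_compl
  have happ : ∀ (a b : 𝟙_ (Over (Spec (CommRingCat.of k))) ⟶ A), (AVAmple.tr b).left (AVAmple.pt a) = AVAmple.pt (a * b) := by
    intro a b
    have h : a ≫ AVAmple.tr b = a * b := by rw [AVAmple.comp_tr, AVAmple.unit_comp]
    rw [← h]
    rfl
  have hinv : ∀ (a : 𝟙_ (Over (Spec (CommRingCat.of k))) ⟶ A), (GrpObj.inv (X := A)).left (AVAmple.pt a) = AVAmple.pt a⁻¹ :=
    fun a => rfl
  let C : Set A.left := ⋂ (b : 𝟙_ (Over (Spec (CommRingCat.of k))) ⟶ A) (_ : AVAmple.pt b ∈ D),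
    (AVAmple.tr b).left ⁻¹' D ∩ ⇑(GrpObj.inv (X := A)).left ⁻¹' ((AVAmple.tr b).left ⁻¹' D)
  have hCc : IsClosed C := isClosed_iInter fun b => isClosed_iInter fun _ =>
    (hD.preimage (AVAmple.tr b).left.continuous).inter
      ((hD.preimage (AVAmple.tr b).left.continuous).preimage (GrpObj.inv (X := A)).left.continuous)
  have hCU : C ⊆ (U : Set A.left) := by
    intro c hc
    by_contra hcD
    obtain ⟨y, ⟨hy, hyD⟩, hyc⟩ := nonempty_inter_closedPoints (Z := C ∩ D) ⟨c, hc, hcD⟩
      (hCc.inter hD).isLocallyClosed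
    obtain ⟨a, rfl⟩ := AVAmple.exists_pt (mem_closedPoints_iff.1 hyc)
    have h2 := ((Set.mem_iInter₂.1 hy) a hyD).2
    rw [Set.mem_preimage, Set.mem_preimage, hinv, happ, inv_mul_cancel] at h2
    exact h2 (he ⟨IsLocalRing.closedPoint k, by rw [Hom.one_def, toUnit_unique (toUnit _) (𝟙 _), Category.id_comp]⟩)
  refine Set.Finite.of_finite_image ((finite_of_closed_affine A.hom hU hCc hCU).subset ?_)
    (f := fun a => AVAmple.pt a) ?_
  · rintro _ ⟨a, ha, rfl⟩
    refine Set.mem_iInter₂.2 fun b hb => ⟨?_, ?_⟩
    · rw [Set.mem_preimage, happ, mul_comm, ← happ]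
      exact (Set.ext_iff.1 ha (AVAmple.pt b)).2 hb
    · rw [Set.mem_preimage, Set.mem_preimage, hinv, happ, mul_comm]
      refine (Set.ext_iff.1 ha (AVAmple.pt (b * a⁻¹))).1 ?_
      show (AVAmple.tr a).left (AVAmple.pt (b * a⁻¹)) ∈ D
      rw [happ, inv_mul_cancel_right]
      exact hb
  · intro a _ b _ h
    exact Over.OverMorphism.ext (congrArg Subtype.val ((pointEquivClosedPoint A.hom).injective
      (a₁ := ⟨a.left, Over.w a⟩) (a₂ := ⟨b.left, Over.w b⟩) (Subtype.ext h)))

end Groth.Agent.S18372
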