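import Groth.Statements.S18373
import Groth.Agent.H23.EquidimFibres
import Groth.Agent.H23.CubeAb
import Groth.Agent.Lib.AbDualBase

set_option autoImplicit false
set_option backward.isDefEq.respectTransparency false
set_option backward.isDefEq.respectTransparency.types false
set_option linter.style.haveILetI false
set_option linter.unusedSectionVars false
set_option maxHeartbeats 400000
universe u
open CategoryTheory CategoryTheory.Limits MonoidalCategory CartesianMonoidalCategory MonObj GrpObj AlgebraicGeometry
open AbVar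

namespace Groth.Agent.S18373


set_option linter.style.haveILetI false
set_option backward.isDefEq.respectTransparency false
set_option backward.isDefEq.respectTransparency.types false
set_option maxHeartbeats 800000

open CategoryTheory CategoryTheory.Limits MonoidalCategory CartesianMonoidalCategory MonObj AlgebraicGeometry TopologicalSpace

namespace Aux

open Groth.Agent.H23 Groth.Agent.H23.EquidimFibres
variable {k : Type u} [Field k] [IsAlgClosed k] {A : Over (Spec (CommRingCat.of k))} [GrpObj A]

local notation "pt" => IsLocalRing.closedPoint k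
local notation "PT" => 𝟙_ (Over (Spec (CommRingCat.of k)))

/-- Translation. -/
noncomputable abbrev tr (a : PT ⟶ A) : A ⟶ A := 𝟙 A * (toUnit A ≫ a)

theorem tr_tr (a b : PT ⟶ A) : tr a ≫ tr b = tr (a * b) := by
  rw [tr, MonObj.comp_mul, Category.comp_id, ← Category.assoc, toUnit_unique (tr a ≫ toUnit A) (toUnit A),
    _root_.mul_assoc, ← MonObj.comp_mul]

theorem tr_one : tr (1 : PT ⟶ A) = 𝟙 A := by rw [tr, MonObj.comp_one, _root_.mul_one]

theorem tr_cancel (a : PT ⟶ A) (z : A.left) : (tr a⁻¹).left ((tr a).left z) = z := by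
  rw [← Scheme.Hom.comp_apply, ← Over.comp_left, tr_tr, mul_inv_cancel, tr_one]
  rfl

theorem main [IsCommMonObj A] [IsProper A.hom] [IsIntegral A.left] (Δ : Set A.left) (hΔ : IsClosed Δ) (ξ : A.left)
    (hξ : closure {ξ} = Δ) (hcodim : ringKrullDim (A.left.presheaf.stalk ξ) = 1)
    (C : Set A.left) (hC : IsClosed C) (hCirr : IsIrreducible C) (hdisj : Disjoint C Δ)
    (x y : PT ⟶ A) (hx : Set.range x.left.base ⊆ C) (hy : Set.range y.left.base ⊆ C) :
    (tr (x * y⁻¹)).left.base ⁻¹' Δ = Δ := by
  have hΔirr : IsIrreducible Δ := hξ ▸ isIrreducible_singleton.closure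
  obtain ⟨V, iV, hiV, hrV, _, _, _⟩ := exists_integral_sub hΔ hΔirr
  obtain ⟨W, iW, hiW, hrW, _, _, _⟩ := exists_integral_sub hC hCirr
  haveI : IsProper (V ⊗ W).hom := inferInstanceAs (IsProper (pullback.fst V.hom W.hom ≫ V.hom))
  haveI : UniversallyOpen W.hom := inferInstance
  haveI : IrreducibleSpace ↥(V ⊗ W).left := inferInstanceAs (IrreducibleSpace ↥(pullback V.hom W.hom))
  let q : V ⊗ W ⟶ A := (fst V W ≫ iV) * (snd V W ≫ iW)⁻¹
  haveI : IsProper q.left := by
    haveI : IsProper (q.left ≫ A.hom) := by rw [Over.w q]; infer_instance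
    exact IsProper.of_comp q.left A.hom
  let Z := Set.range q.left
  have hZc : IsClosed Z := q.left.isClosedMap.isClosed_range
  have hZi : IsIrreducible Z := by
    rw [show Z = q.left '' Set.univ from Set.image_univ.symm]
    exact (IrreducibleSpace.isIrreducible_univ _).image _ q.left.continuous.continuousOn
  -- the origin is not a difference
  have h0 : η[A].left pt ∉ Z := by
    intro h
    obtain ⟨p₀, hp₀⟩ := h
    haveI : JacobsonSpace ↥(V ⊗ W).left := LocallyOfFiniteType.jacobsonSpace (V ⊗ W).hom
    have hcl : IsClosed (q.left ⁻¹' {η[A].left pt}) :=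
      (IsClosedImmersion.base_closed (f := η[A].left)).isClosed_range.preimage q.left.continuous |> fun h' => by
        have hs : ({η[A].left pt} : Set A.left) = Set.range η[A].left := by
          ext z
          constructor
          · rintro rfl; exact ⟨pt, rfl⟩
          · rintro ⟨w, rfl⟩
            exact congrArg η[A].left (@Subsingleton.elim (Spec (CommRingCat.of k)) inferInstance w pt)
        rw [hs]; exact h'
    obtain ⟨p, hp, hpc⟩ := nonempty_inter_closedPoints (Z := q.left ⁻¹' {η[A].left pt}) ⟨p₀, hp₀⟩ hcl.isLocallyClosed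
    obtain ⟨⟨s, hs⟩, hsp⟩ := (pointEquivClosedPoint (V ⊗ W).hom).surjective ⟨p, hpc⟩
    let P : PT ⟶ V ⊗ W := Over.homMk s hs
    have hsp' : s pt = p := congrArg Subtype.val hsp
    have e : P ≫ q = η[A] := by
      refine Over.OverMorphism.ext (ext_of_apply_closedPoint_eq A.hom (Over.w (P ≫ q)) (Over.w η[A]) ?_)
      show q.left (s pt) = _
      rw [hsp']
      exact hp
    rw [show (η[A] : PT ⟶ A) = 1 by rw [Hom.one_def, toUnit_unique (toUnit PT) (𝟙 _), Category.id_comp],
      MonObj.comp_mul, GrpObj.comp_inv, mul_inv_eq_one] at e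
    rw [← Category.assoc, ← Category.assoc] at e
    have e' : iV.left ((P ≫ fst V W).left pt) = iW.left ((P ≫ snd V W).left pt) :=
      congrArg (fun m : PT ⟶ A => m.left pt) e
    have hmem : iV.left ((P ≫ fst V W).left pt) ∈ C := by rw [e', ← hrW]; exact ⟨_, rfl⟩
    exact Set.disjoint_left.1 hdisj hmem (hrV ▸ ⟨_, rfl⟩)
  have hclΔ : ∀ Z' : Set A.left, IsClosed Z' → IsIrreducible Z' → Δ ⊆ Z' → Z' ≠ Set.univ → Z' ⊆ Δ := by
    intro Z' hc hi hsub hne
    obtain ⟨z, hz⟩ := QuasiSober.sober hi hc
    have hzξ : z ⤳ ξ := hz.specializes (hsub (hξ ▸ subset_closure rfl))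
    rw [← hz.def]
    haveI : Ring.KrullDimLE 1 (A.left.presheaf.stalk ξ) := Ring.krullDimLE_iff.2 hcodim.le
    have hmem : z ∈ Set.range (A.left.fromSpecStalk ξ) := by rw [Scheme.range_fromSpecStalk]; exact hzξ
    obtain ⟨p, rfl⟩ := hmem
    by_cases hp : p.asIdeal = ⊥
    · exfalso
      refine hne (hz.def.symm.trans ?_)
      refine Set.eq_univ_of_forall fun w => ?_
      have hgen : A.left.fromSpecStalk ξ p ⤳ genericPoint A.left := by
        obtain ⟨p', hp'⟩ : genericPoint A.left ∈ Set.range (A.left.fromSpecStalk ξ) := by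
          rw [Scheme.range_fromSpecStalk]; exact genericPoint_specializes ξ
        rw [← hp']
        exact ((PrimeSpectrum.le_iff_specializes p p').1 (by show p.asIdeal ≤ p'.asIdeal; rw [hp]; exact bot_le)).map
          (A.left.fromSpecStalk ξ).continuous
      exact (hgen.trans (genericPoint_specializes w)).mem_closure
    · haveI := p.isPrime.isMaximal_of_ne_bot hp
      have : p = IsLocalRing.closedPoint _ := PrimeSpectrum.ext (IsLocalRing.eq_maximalIdeal inferInstance)
      rw [this, Scheme.fromSpecStalk_closedPoint, hξ]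
  -- every translate of the divisor by a point of the curve fills up the differences
  have key : ∀ b : PT ⟶ A, Set.range b.left.base ⊆ C → Z = (tr b⁻¹).left '' Δ := by
    intro b hb
    haveI : IsReduced (PT).left := inferInstanceAs (IsReduced (Spec (CommRingCat.of k)))
    obtain ⟨w₀, hw₀⟩ := RedSub.exists_lift_closed b.left iW.left (by rw [hrW]; exact hb)
    let w : PT ⟶ W := Over.homMk w₀ (by rw [← Over.w iW, ← Category.assoc, hw₀, Over.w])
    have hw : w ≫ iW = b := Over.OverMorphism.ext hw₀
    have hsub : (tr b⁻¹).left '' Δ ⊆ Z := by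
      rintro _ ⟨z, hz, rfl⟩
      rw [← hrV] at hz
      obtain ⟨v, rfl⟩ := hz
      refine ⟨(lift (𝟙 V) (toUnit V ≫ w)).left v, ?_⟩
      have e : lift (𝟙 V) (toUnit V ≫ w) ≫ q = iV ≫ tr b⁻¹ := by
        simp only [q, tr, MonObj.comp_mul, GrpObj.comp_inv, lift_fst_assoc, lift_snd_assoc, Category.id_comp,
          Category.comp_id, Category.assoc, hw]
        rw [← Category.assoc iV, toUnit_unique (iV ≫ toUnit A) (toUnit V)]
      rw [← Scheme.Hom.comp_apply, ← Over.comp_left, e]
      rfl
    refine subset_antisymm (fun z hz => ?_) hsub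
    have hinv : ∀ z, (tr b⁻¹).left ((tr b).left z) = z := tr_cancel b
    have hinv' : ∀ z, (tr b).left ((tr b⁻¹).left z) = z := fun z => by
      have := tr_cancel b⁻¹ z
      rwa [_root_.inv_inv] at this
    have hset : (tr b).left '' Z = (tr b⁻¹).left ⁻¹' Z :=
      Set.image_eq_preimage_of_inverse hinv hinv' ▸ rfl
    refine ⟨(tr b).left z, hclΔ ((tr b⁻¹).left ⁻¹' Z) (hZc.preimage (tr b⁻¹).left.continuous)
      (hset ▸ hZi.image _ (tr b).left.continuous.continuousOn) (fun d hd => hsub ⟨d, hd, rfl⟩) (fun hu => ?_)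
      (by show (tr b⁻¹).left ((tr b).left z) ∈ Z; rw [hinv]; exact hz), hinv z⟩
    refine h0 ?_
    have := hu.ge (Set.mem_univ ((tr b).left (η[A].left pt)))
    rwa [Set.mem_preimage, hinv] at this
  have hxy : (tr x⁻¹).left '' Δ = (tr y⁻¹).left '' Δ := (key x hx).symm.trans (key y hy)
  have hfix : (tr (x * y⁻¹)).left '' Δ = Δ := by
    have h := congrArg ((tr x).left '' ·) hxy
    simp only [← Set.image_comp] at h
    rw [show ((tr x).left ∘ (tr x⁻¹).left) = id from funext fun z => by
      have := tr_cancel x⁻¹ z; rwa [_root_.inv_inv] at this, Set.image_id,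
      show ((tr x).left ∘ (tr y⁻¹).left) = ⇑(tr (x * y⁻¹)).left from funext fun z => by
        rw [mul_comm, ← tr_tr, Over.comp_left]
        exact (Scheme.Hom.comp_apply _ _ _).symm] at h
    exact h.symm
  conv_lhs => rw [← hfix]
  refine Set.preimage_image_eq _ fun a b e => ?_
  rw [← tr_cancel (x * y⁻¹) a, ← tr_cancel (x * y⁻¹) b]
  exact congrArg _ e

end Aux

/-- Let k be an algebraically closed field and A an abelian variety over k (a proper smooth k-group
scheme with geometrically connected fibres). Let Δ ⊆ A be an irreducible closed subset of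
codimension one, with generic point ξ whose local ring O_{A,ξ} has Krull dimension 1 (an irreducible
effective divisor), and let C ⊆ A be an irreducible closed subset of dimension one (a curve)
disjoint from Δ. Then for all k-rational points x, y of A lying on C, translation by x − y (the map
z ↦ z + x − y, written with the group Hom(A, A)) carries Δ onto itself: t_{x−y}⁻¹(Δ) = Δ. -/
theorem result (k : Type u) [Field k] [IsAlgClosed k]
    (A : Over (Spec (CommRingCat.of k))) [GrpObj A] [IsProper A.hom] [Smooth A.hom] [GeometricallyConnected A.hom]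
    (Δ : Set A.left) (hΔ : IsClosed Δ) (ξ : A.left) (hξ : closure {ξ} = Δ)
    (hcodim : ringKrullDim (A.left.presheaf.stalk ξ) = 1)
    (C : Set A.left) (hC : IsClosed C) (hCirr : IsIrreducible C) (hCdim : topologicalKrullDim C = 1)
    (hdisj : Disjoint C Δ)
    (x y : 𝟙_ (Over (Spec (CommRingCat.of k))) ⟶ A)
    (hx : Set.range x.left.base ⊆ C) (hy : Set.range y.left.base ⊆ C) :
    (𝟙 A * (toUnit A ≫ (x * y⁻¹))).left.base ⁻¹' Δ = Δ := by
  haveI : GeometricallyIntegral A.hom := AbDualBase.geometricallyIntegral_hom A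
  haveI : IsIntegral A.left := GeometricallyIntegral.isIntegral_of_subsingleton A.hom
  haveI := isCommMonObj_of_isProper_of_geometricallyIntegral A
  exact Aux.main Δ hΔ ξ hξ hcodim C hC hCirr hdisj x y hx hy

end Groth.Agent.S18373
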