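import Groth.Statements.S18375
import Mathlib
import Groth.Agent.PhiStabLib.Stable

set_option autoImplicit false
universe u
open PhiStab

namespace Groth.Agent.S18375

open PhiStab in
/-- Let (V, E, ends) be a finite multigraph and T a set of edges forming a spanning tree (the spanning
subgraph with edge set T is connected and contains no circuit), b an integer and φ a nondegenerate
real weighting of the vertices with Σ_v φ v = b. Then there is a unique integer multidegree m for
which the sheaf datum (m, Tᶜ), not locally free exactly at the edges outside T, has total degree b
and is φ-stable. This is the statement that a stable pointed curve with this dual graph carries a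
φ-stable rank-1 torsion-free sheaf of degree g - 1 = b failing to be locally free exactly at the
nodes outside T, of uniquely determined multidegree, written for the combinatorial datum. -/
theorem result {V E : Type u} [Fintype V] [Fintype E] [DecidableEq V] [DecidableEq E]
    (ends : E → V × V) (T : Finset E)
    (hT : DualGr.IsTree (spanEnds ends T)) (b : ℤ) (φ : V → ℝ) (hφ : (∑ v : V, φ v) = (b : ℝ))
    (hnd : Nondegenerate ends φ) :
    ∃! m : V → ℤ, totDeg m Tᶜ = b ∧ IsStable ends φ m Tᶜ := by
  exact Groth.Agent.PhiStabLib.existsUnique_stable T hT b φ hφ hnd

end Groth.Agent.S18375
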