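import Groth.Statements.S18376
import Mathlib
import Groth.Agent.PhiStabLib.Stable

set_option autoImplicit false
universe u
open PhiStab

namespace Groth.Agent.S18376

open PhiStab in
/-- Let (V, E, ends) be a connected finite multigraph, b an integer, and φ₁, φ₂ real weightings of the
vertices with Σ_v φ₁ v = Σ_v φ₂ v = b, φ₁ nondegenerate. Then every φ₁-stable sheaf datum (m, N) of
total degree b is φ₂-semistable if and only if φ₂ lies in the closed stability polytope of φ₁, that
is, for every elementary vertex set S and every integer d with d - Σ_{v ∈ S} φ₁ v + cut S / 2 > 0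
one has d - Σ_{v ∈ S} φ₂ v + cut S / 2 ≥ 0. Membership in the closure of the polytope is expressed
by this half-space condition, the form in which the source's proof uses it; the sheaves of degree g
- 1 = b on stable pointed curves with this dual graph enter through their combinatorial data. -/
theorem result {V E : Type u} [Fintype V] [Fintype E] [DecidableEq V] [DecidableEq E]
    (ends : E → V × V)
    (hconn : LabGraph.Connected ends) (b : ℤ) (φ₁ φ₂ : V → ℝ) (h₁ : (∑ v : V, φ₁ v) = (b : ℝ))
    (h₂ : (∑ v : V, φ₂ v) = (b : ℝ)) (hnd : Nondegenerate ends φ₁) :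
    (∀ (m : V → ℤ) (N : Finset E), totDeg m N = b → IsStable ends φ₁ m N → IsSemistable ends φ₂ m N) ↔
      InClosedPolytope ends φ₁ φ₂ := by
  exact Groth.Agent.PhiStabLib.polytope_iff hconn b φ₁ φ₂ h₁ h₂ hnd

end Groth.Agent.S18376
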