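import Groth.Statements.S18377
import Groth.Agent.VerlindeLib.Stair

set_option autoImplicit false
open Complex
open VerlindeComb

namespace Groth.Agent.S18377

/-- Let r, k ≥ 1 be integers and v_1 > v_2 > ⋯ > v_r ≥ 0 integers below r + k; put z_j = exp(2πi v_j /
(r + k)) and, for μ = (μ_1, …, μ_r), let S_μ(z) = det(z_j^{μ_i + r - i}) / det(z_j^{r - i}) be the
value of the Schur polynomial (the z_j are distinct, so the Vandermonde denominator is nonzero).
Then, summing over all μ with k > μ_1 ≥ ⋯ ≥ μ_r ≥ 0 and writing μ* = (k - μ_r, …, k - μ_1), one has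
Σ_μ S_μ(z) S_{μ*}(z) = exp(2πi k (v_1 + ⋯ + v_r) / (r + k)) · k (r + k)^{r-1} / ∏_{i<j} (2 sin(π
(v_i - v_j) / (r + k)))². Indices are 0-based below: μ i stands for μ_{i+1}. -/
theorem result (r k : ℕ) (hr : 1 ≤ r) (hk : 1 ≤ k)
    (v : Fin r → ℕ) (hv : StrictAnti v) (hvlt : ∀ i, v i < r + k)
    (z : Fin r → ℂ) (hz : ∀ j, z j = Complex.exp (2 * Real.pi * Complex.I * (v j : ℂ) / ((r : ℂ) + k)))
    (S : (Fin r → ℕ) → ℂ)
    (hS : ∀ μ : Fin r → ℕ, S μ =
      (Matrix.of fun i j : Fin r => z j ^ (μ i + (r - 1 - (i : ℕ)))).det /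
        (Matrix.of fun i j : Fin r => z j ^ (r - 1 - (i : ℕ))).det) :
    (∑ μ ∈ (Finset.univ : Finset (Fin r → Fin k)).filter (fun μ : Fin r → Fin k => Antitone μ),
        S (fun i => (μ i : ℕ)) * S (fun i => k - (μ (Fin.rev i) : ℕ))) =
      Complex.exp (2 * Real.pi * Complex.I * (k : ℂ) * ((∑ j, v j : ℕ) : ℂ) / ((r : ℂ) + k)) *
        ((k : ℂ) * ((r : ℂ) + k) ^ (r - 1)) /
        (∏ p ∈ (Finset.univ : Finset (Fin r × Fin r)).filter (fun p => p.1 < p.2),
          (((2 : ℝ) * Real.sin (Real.pi * ((v p.1 : ℝ) - (v p.2 : ℝ)) / ((r : ℝ) + k))) ^ 2 : ℝ) : ℂ) := by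
  classical
  haveI : NeZero (r + k) := ⟨by omega⟩
  let V : Fin r → ZMod (r + k) := fun j => (v j : ZMod (r + k))
  have hV : Function.Injective V := by
    intro i j h
    have h' := congrArg ZMod.val h
    simp only [V] at h'
    rw [ZMod.val_natCast_of_lt (hvlt i), ZMod.val_natCast_of_lt (hvlt j)] at h'
    exact hv.injective h'
  have hzV : ∀ j, z j = ZMod.stdAddChar (V j) := fun j => by
    rw [hz, Groth.Agent.VerlindeLib.exp_eq_stdAddChar]
  have hexp : Complex.exp (2 * Real.pi * Complex.I * (k : ℂ) * ((∑ j, v j : ℕ) : ℂ) / ((r : ℂ) + k))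
      = ZMod.stdAddChar ((k : ZMod (r + k)) * ∑ j, V j) := by
    rw [mul_assoc (2 * (Real.pi : ℂ) * Complex.I), ← Nat.cast_mul,
      Groth.Agent.VerlindeLib.exp_eq_stdAddChar]
    congr 1
    simp [V]
  set ε : ℂ := ((Equiv.Perm.sign (Fin.revPerm : Equiv.Perm (Fin r)) : ℤ) : ℂ) with hε
  have hεε : ε * ε = 1 := by
    rcases Int.units_eq_one_or (Equiv.Perm.sign (Fin.revPerm : Equiv.Perm (Fin r))) with h | h <;>
      simp [hε, h]
  open Groth.Agent.VerlindeLib in
  have hD : alt (stair r (r + k)) V ≠ 0 := alt_stair_ne_zero hV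
  set D := Groth.Agent.VerlindeLib.alt (Groth.Agent.VerlindeLib.stair r (r + k)) V with hDdef
  set s := ∑ j, V j with hs
  set A : ℂ := ZMod.stdAddChar (-((r - 1 : ℕ) : ZMod (r + k)) * s) with hA
  set B : ℂ := ZMod.stdAddChar (-s) with hB
  have hden : (Matrix.of fun i j : Fin r => z j ^ (r - 1 - (i : ℕ))).det = D :=
    Groth.Agent.VerlindeLib.det_pow_eq_alt (fun i => r - 1 - (i : ℕ)) V z hzV
  have hterm : ∀ μ : Fin r → Fin k,
      S (fun i => (μ i : ℕ)) * S (fun i => k - (μ (Fin.rev i) : ℕ)) = B * ε / (D * D) *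
        Groth.Agent.VerlindeLib.pair V V
          (Groth.Agent.VerlindeLib.toZ (Groth.Agent.VerlindeLib.upOne μ)) := by
    intro μ
    set U := Groth.Agent.VerlindeLib.toZ (Groth.Agent.VerlindeLib.upOne μ) with hU
    have h1 : (fun i => (((μ i : ℕ) + (r - 1 - (i : ℕ)) : ℕ) : ZMod (r + k))) =
        fun i => U i + (-1) := by
      funext i
      simp only [hU, Groth.Agent.VerlindeLib.toZ, Groth.Agent.VerlindeLib.upOne_val]
      push_cast
      ring
    have h2 : (fun i => ((k - (μ (Fin.rev i) : ℕ) + (r - 1 - (i : ℕ)) : ℕ) : ZMod (r + k))) =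
        (fun i => -U i) ∘ (Fin.revPerm : Equiv.Perm (Fin r)) := by
      funext i
      simp only [hU, Function.comp_apply, Fin.revPerm_apply, Groth.Agent.VerlindeLib.toZ,
        Groth.Agent.VerlindeLib.upOne_val]
      rw [eq_neg_iff_add_eq_zero, ← Nat.cast_add]
      have := (μ i.rev).isLt
      have := i.isLt
      rw [show k - (μ i.rev : ℕ) + (r - 1 - (i : ℕ)) + ((μ i.rev : ℕ) + 1 + (r - 1 - (i.rev : ℕ)))
        = r + k by rw [Fin.val_rev]; omega]
      exact ZMod.natCast_self _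
    have hpair : Groth.Agent.VerlindeLib.pair V V U = Groth.Agent.VerlindeLib.alt U V *
        Groth.Agent.VerlindeLib.alt (fun i => -U i) V := by
      rw [Groth.Agent.VerlindeLib.pair, Groth.Agent.VerlindeLib.alt_comm V U]
      congr 1
      rw [Groth.Agent.VerlindeLib.alt_comm, Groth.Agent.VerlindeLib.alt, Groth.Agent.VerlindeLib.alt]
      congr 1
      ext i j
      simp
    rw [hS, hS, hden, Groth.Agent.VerlindeLib.det_pow_eq_alt _ V z hzV,
      Groth.Agent.VerlindeLib.det_pow_eq_alt _ V z hzV, h1, h2,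
      Groth.Agent.VerlindeLib.alt_add_left, Groth.Agent.VerlindeLib.alt_perm_left, neg_one_mul,
      ← hs, ← hB, ← hε, hpair]
    ring
  rw [Finset.sum_congr rfl fun μ _ => hterm μ, ← Finset.mul_sum,
    Groth.Agent.VerlindeLib.sum_small_box hr
      (fun u => Groth.Agent.VerlindeLib.pair V V (Groth.Agent.VerlindeLib.toZ u))]
  have hN : ((r + k : ℕ) : ℂ) ≠ 0 := by exact_mod_cast NeZero.ne (r + k)
  have hg := Groth.Agent.VerlindeLib.gram_self_det hV
  have htot := Groth.Agent.VerlindeLib.sum_eq_factorial_mul (N := r + k)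
    (Groth.Agent.VerlindeLib.pair V V) (fun σ w => Groth.Agent.VerlindeLib.pair_perm σ V V w)
    (Groth.Agent.VerlindeLib.pair_eq_zero V V)
  rw [Groth.Agent.VerlindeLib.sum_pair, hg] at htot
  have htot' := mul_left_cancel₀ (by exact_mod_cast r.factorial_pos.ne') htot
  have hpts := Groth.Agent.VerlindeLib.sum_pts_pair (N := r + k) hr (x := V) (y := V) rfl
  rw [hg] at hpts
  have hP : ((∏ p ∈ (Finset.univ : Finset (Fin r × Fin r)).filter (fun p => p.1 < p.2),
          (((2 : ℝ) * Real.sin (Real.pi * ((v p.1 : ℝ) - (v p.2 : ℝ)) / ((r : ℝ) + k))) ^ 2 : ℝ)) : ℂ)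
      = D * (ε * (A * D)) := by
    rw [← Complex.ofReal_prod, Groth.Agent.VerlindeLib.prod_sin_sq_eq (N := r + k) v _
      (by push_cast; ring)]
    rw [Groth.Agent.VerlindeLib.pair, Groth.Agent.VerlindeLib.alt_neg_stair]
  rw [hP, hexp, ← htot']
  have hAne : A ≠ 0 := by rw [hA, ZMod.stdAddChar_apply]; exact Circle.coe_ne_zero _
  have hεne : ε ≠ 0 := fun h => by rw [h, zero_mul] at hεε; exact zero_ne_one hεε
  have hAB : ZMod.stdAddChar ((k : ZMod (r + k)) * s) = A * B := by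
    rw [hA, hB, ← AddChar.map_add_eq_mul]
    congr 1
    obtain ⟨m, rfl⟩ : ∃ m, r = m + 1 := ⟨r - 1, by omega⟩
    simp only [Nat.add_sub_cancel]
    have h0 := ZMod.natCast_self (m + 1 + k)
    push_cast at h0
    linear_combination s * h0
  rw [hAB, eq_div_iff (mul_ne_zero hD (mul_ne_zero hεne (mul_ne_zero hAne hD)))]
  obtain ⟨m, hm⟩ : ∃ m, r = m + 1 := ⟨r - 1, by omega⟩
  have hp : ((r + k : ℕ) : ℂ) ^ r = ((r + k : ℕ) : ℂ) * ((r : ℂ) + k) ^ (r - 1) := by
    subst hm
    simp only [Nat.add_sub_cancel]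
    push_cast
    ring
  rw [hp] at hpts ⊢
  have hsum := mul_left_cancel₀ hN (hpts.trans (mul_left_comm _ _ _))
  rw [hsum]
  field_simp
  push_cast
  linear_combination B * ((r : ℂ) + k) ^ (r - 1) * (k : ℂ) * hεε

end Groth.Agent.S18377
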