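import Groth.Statements.S18378
import Groth.Agent.VerlindeLib.Stair

set_option autoImplicit false
open Complex
open VerlindeComb

namespace Groth.Agent.S18378

/-- Let r, k ≥ 1 be integers and v, v' two integer vectors with r + k > v_1 > ⋯ > v_r ≥ 0 and r + k >
v'_1 > ⋯ > v'_r ≥ 0 whose difference v - v' is not a constant vector (a, …, a). Put z_j = exp(2πi
v_j / (r + k)), z'_j = exp(2πi v'_j / (r + k)), let S_μ(w) = det(w_j^{μ_i + r - i}) / det(w_j^{r -
i}) be the Schur value at w = z or z', and write |x| for the sum of the coordinates of a vector and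
μ* = (k - μ_r, …, k - μ_1). Then the sum over all μ with k ≥ μ_1 ≥ ⋯ ≥ μ_{r-1} ≥ μ_r = 0 of exp(-2πi
|μ| |v| / (r (r + k))) · exp(-2πi |μ*| |v'| / (r (r + k))) · S_μ(z) · S_{μ*}(z') is zero. The
vanishing is the orthogonality of distinct characters and holds exactly for non-equivalent v, v';
for v - v' constant the sum is nonzero. Indices are 0-based below: μ i stands for μ_{i+1}. -/
theorem result (r k : ℕ) (hr : 1 ≤ r)
    (hk : 1 ≤ k) (v v' : Fin r → ℕ) (hv : StrictAnti v) (hvlt : ∀ i, v i < r + k) (hv' : StrictAnti v')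
    (hv'lt : ∀ i, v' i < r + k) (hne : ¬ ∃ a : ℤ, ∀ i, (v i : ℤ) - (v' i : ℤ) = a)
    (z z' : Fin r → ℂ) (hz : ∀ j, z j = Complex.exp (2 * Real.pi * Complex.I * (v j : ℂ) / ((r : ℂ) + k)))
    (hz' : ∀ j, z' j = Complex.exp (2 * Real.pi * Complex.I * (v' j : ℂ) / ((r : ℂ) + k)))
    (S S' : (Fin r → ℕ) → ℂ)
    (hS : ∀ μ : Fin r → ℕ, S μ =
      (Matrix.of fun i j : Fin r => z j ^ (μ i + (r - 1 - (i : ℕ)))).det /
        (Matrix.of fun i j : Fin r => z j ^ (r - 1 - (i : ℕ))).det)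
    (hS' : ∀ μ : Fin r → ℕ, S' μ =
      (Matrix.of fun i j : Fin r => z' j ^ (μ i + (r - 1 - (i : ℕ)))).det /
        (Matrix.of fun i j : Fin r => z' j ^ (r - 1 - (i : ℕ))).det) :
    (∑ μ ∈ (Finset.univ : Finset (Fin r → Fin (k + 1))).filter
        (fun μ : Fin r → Fin (k + 1) => Antitone μ ∧ ∀ i : Fin r, (i : ℕ) = r - 1 → (μ i : ℕ) = 0),
      Complex.exp (-(2 * Real.pi * Complex.I * ((∑ i, (μ i : ℕ) : ℕ) : ℂ) * ((∑ j, v j : ℕ) : ℂ) /
          ((r : ℂ) * ((r : ℂ) + k)))) *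
      Complex.exp (-(2 * Real.pi * Complex.I * ((∑ i, (k - (μ (Fin.rev i) : ℕ)) : ℕ) : ℂ) *
          ((∑ j, v' j : ℕ) : ℂ) / ((r : ℂ) * ((r : ℂ) + k)))) *
      S (fun i => (μ i : ℕ)) * S' (fun i => k - (μ (Fin.rev i) : ℕ))) = 0 := by
  classical
  haveI : NeZero (r + k) := ⟨by omega⟩
  let V : Fin r → ZMod (r + k) := fun j => (v j : ZMod (r + k))
  let V' : Fin r → ZMod (r + k) := fun j => (v' j : ZMod (r + k))
  have hzV : ∀ j, z j = ZMod.stdAddChar (V j) := fun j => by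
    rw [hz, Groth.Agent.VerlindeLib.exp_eq_stdAddChar]
  have hzV' : ∀ j, z' j = ZMod.stdAddChar (V' j) := fun j => by
    rw [hz', Groth.Agent.VerlindeLib.exp_eq_stdAddChar]
  let x : Fin r → ℤ := fun i => (v i : ℤ)
  let y : Fin r → ℤ := fun i => (v' i : ℤ)
  let T : ℕ := ∑ i : Fin r, (r - 1 - (i : ℕ))
  let d : ℤ := ∑ i, x i - ∑ i, y i
  let D := (Matrix.of fun i j : Fin r => z j ^ (r - 1 - (i : ℕ))).det
  let D' := (Matrix.of fun i j : Fin r => z' j ^ (r - 1 - (i : ℕ))).det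
  let K : ℂ := Groth.Agent.VerlindeLib.tw (r + k) r 1 ((k * r : ℕ) * ((∑ j, v' j : ℕ) : ℤ) - T * d) *
    (ZMod.stdAddChar ((-1) * ∑ j, V' j) *
      ((Equiv.Perm.sign (Fin.revPerm : Equiv.Perm (Fin r)) : ℤ) : ℂ)) / (D * D')
  rw [Finset.sum_congr rfl (g := fun μ => K * Groth.Agent.VerlindeLib.twPair x y
    (Groth.Agent.VerlindeLib.toZ (Groth.Agent.VerlindeLib.addStair μ))) ?_,
    ← Finset.mul_sum, Groth.Agent.VerlindeLib.sum_box
      (fun u => Groth.Agent.VerlindeLib.twPair x y (Groth.Agent.VerlindeLib.toZ u)),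
    Groth.Agent.VerlindeLib.sum_pts_twPair_eq_zero hr x y
      (fun i j h => by simpa [x] using hv h) (fun i j h => by simpa [y] using hv' h)
      (fun i j => by have := hvlt i; simp only [x]; omega)
      (fun i j => by have := hv'lt i; simp only [y]; omega) hne, mul_zero]
  intro μ hμ
  set u := Groth.Agent.VerlindeLib.addStair μ with hu
  set U := Groth.Agent.VerlindeLib.toZ u with hU
  have h1 : (fun i => (((μ i : ℕ) + (r - 1 - (i : ℕ)) : ℕ) : ZMod (r + k))) = U := rfl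
  have h2 : (fun i => ((k - (μ (Fin.rev i) : ℕ) + (r - 1 - (i : ℕ)) : ℕ) : ZMod (r + k))) =
      (fun i => -U i + (-1)) ∘ (Fin.revPerm : Equiv.Perm (Fin r)) := by
    funext i
    simp only [hU, hu, Function.comp_apply, Fin.revPerm_apply, Groth.Agent.VerlindeLib.toZ,
      Groth.Agent.VerlindeLib.addStair_val]
    rw [← sub_eq_add_neg, eq_sub_iff_add_eq, eq_neg_iff_add_eq_zero]
    have := (μ i.rev).isLt
    have := i.isLt
    rw [← Nat.cast_one (R := ZMod (r + k)), ← Nat.cast_add, ← Nat.cast_add,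
      show k - (μ i.rev : ℕ) + (r - 1 - (i : ℕ)) + 1 + ((μ i.rev : ℕ) + (r - 1 - (i.rev : ℕ)))
      = r + k by rw [Fin.val_rev]; omega]
    exact ZMod.natCast_self _
  have hpair : Groth.Agent.VerlindeLib.pair V V' U = Groth.Agent.VerlindeLib.alt U V *
      Groth.Agent.VerlindeLib.alt (fun i => -U i) V' := by
    rw [Groth.Agent.VerlindeLib.pair, Groth.Agent.VerlindeLib.alt_comm V U]
    congr 1
    rw [Groth.Agent.VerlindeLib.alt_comm, Groth.Agent.VerlindeLib.alt, Groth.Agent.VerlindeLib.alt]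
    congr 1
    ext i j
    simp
  have hsize : Groth.Agent.VerlindeLib.size U = ((∑ i, (μ i : ℕ) : ℕ) : ℤ) + T := by
    simp only [Groth.Agent.VerlindeLib.size, hU, Groth.Agent.VerlindeLib.toZ_val, hu,
      Groth.Agent.VerlindeLib.addStair_val, T]
    push_cast
    rw [Finset.sum_add_distrib]
  have hdual : ((∑ i, (k - (μ (Fin.rev i) : ℕ)) : ℕ) : ℂ) =
      (k : ℂ) * r - ((∑ i, (μ i : ℕ) : ℕ) : ℂ) := by
    have : (∑ i, (k - (μ (Fin.rev i) : ℕ))) + ∑ i, (μ i : ℕ) = k * r := by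
      rw [← Equiv.sum_comp (Fin.revPerm : Equiv.Perm (Fin r)) (fun i => (μ i : ℕ)),
        ← Finset.sum_add_distrib, Finset.sum_congr rfl (g := fun _ => k) fun i _ => ?_]
      · simp [mul_comm]
      · have := (μ i.rev).isLt
        simp only [Fin.revPerm_apply]
        omega
    rw [eq_sub_iff_add_eq, ← Nat.cast_add, this, Nat.cast_mul]
  have htw : Complex.exp (-(2 * Real.pi * Complex.I * ((∑ i, (μ i : ℕ) : ℕ) : ℂ) *
        ((∑ j, v j : ℕ) : ℂ) / ((r : ℂ) * ((r : ℂ) + k)))) *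
      Complex.exp (-(2 * Real.pi * Complex.I * ((∑ i, (k - (μ (Fin.rev i) : ℕ)) : ℕ) : ℂ) *
        ((∑ j, v' j : ℕ) : ℂ) / ((r : ℂ) * ((r : ℂ) + k)))) =
      Groth.Agent.VerlindeLib.tw (r + k) r 1 ((k * r : ℕ) * ((∑ j, v' j : ℕ) : ℤ) - T * d) *
        Groth.Agent.VerlindeLib.tw (r + k) r d (Groth.Agent.VerlindeLib.size U) := by
    rw [Groth.Agent.VerlindeLib.tw, Groth.Agent.VerlindeLib.tw, ← Complex.exp_add,
      ← Complex.exp_add, hdual, hsize]
    congr 1
    simp only [d, x, y]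
    push_cast
    ring
  rw [hS, hS', Groth.Agent.VerlindeLib.det_pow_eq_alt (fun i => (μ i : ℕ) + (r - 1 - (i : ℕ))) V z hzV,
    Groth.Agent.VerlindeLib.det_pow_eq_alt
      (fun i => k - (μ (Fin.rev i) : ℕ) + (r - 1 - (i : ℕ))) V' z' hzV', h1, h2,
    Groth.Agent.VerlindeLib.alt_perm_left, Groth.Agent.VerlindeLib.alt_add_left, htw,
    Groth.Agent.VerlindeLib.twPair]
  have hx : (fun i => (x i : ZMod (r + k))) = V := by funext i; simp [x, V]
  have hy : (fun i => (y i : ZMod (r + k))) = V' := by funext i; simp [y, V']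
  rw [hx, hy, hpair]
  simp only [K, D, D', d]
  ring

end Groth.Agent.S18378
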