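import Groth.Statements.S18379
import Groth.Agent.VerlindeLib.Stair

set_option autoImplicit false
open VerlindeComb

namespace Groth.Agent.S18379

/-- Let r, k ≥ 1 be integers. Summing over all integer vectors v with r + k > v_1 > v_2 > ⋯ > v_{r-1} >
v_r = 0, one has Σ_v ∏_{i<j} (2 sin(π (v_i - v_j) / (r + k)))² = r (r + k)^{r-1}; that is, the
genus-zero Verlinde number of rank r and level k with no parabolic points, defined as (r (r +
k)^{r-1})⁻¹ times this sum, equals 1. Indices are 0-based below: v i stands for v_{i+1}. -/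
theorem result (r k : ℕ) (hr : 1 ≤ r) (hk : 1 ≤ k) :
    (∑ v ∈ (Finset.univ : Finset (Fin r → Fin (r + k))).filter
        (fun v : Fin r → Fin (r + k) => StrictAnti v ∧ ∀ i : Fin r, (i : ℕ) = r - 1 → (v i : ℕ) = 0),
      ∏ p ∈ (Finset.univ : Finset (Fin r × Fin r)).filter (fun p => p.1 < p.2),
        ((2 : ℝ) * Real.sin (Real.pi * ((v p.1 : ℕ) - (v p.2 : ℕ) : ℝ) / ((r : ℝ) + k))) ^ 2) =
      (r : ℝ) * ((r : ℝ) + k) ^ (r - 1) := by
  classical
  haveI : NeZero (r + k) := ⟨by omega⟩
  open Groth.Agent.VerlindeLib in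
  have hst : Function.Injective (stair r (r + k)) := by
    intro i j h
    have h' := congrArg ZMod.val h
    have := i.isLt
    have := j.isLt
    simp only [stair] at h'
    rw [ZMod.val_natCast_of_lt (by omega), ZMod.val_natCast_of_lt (by omega)] at h'
    exact Fin.ext (by omega)
  open Groth.Agent.VerlindeLib in
  have key := sum_pts_pair (N := r + k) hr (x := stair r (r + k)) (y := stair r (r + k)) rfl
  rw [Groth.Agent.VerlindeLib.gram_self_det hst] at key
  apply Complex.ofReal_injective
  rw [Complex.ofReal_sum, Finset.sum_congr rfl fun v _ =>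
    Groth.Agent.VerlindeLib.prod_sin_sq_eq (N := r + k) (fun j => (v j : ℕ)) ((r : ℝ) + k)
      (by push_cast; ring)]
  have hN : ((r + k : ℕ) : ℂ) ≠ 0 := by exact_mod_cast NeZero.ne (r + k)
  apply mul_left_cancel₀ hN
  refine key.trans ?_
  obtain ⟨m, rfl⟩ : ∃ m, r = m + 1 := ⟨r - 1, by omega⟩
  simp only [Nat.add_sub_cancel]
  push_cast
  ring

end Groth.Agent.S18379
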