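import Groth.Statements.S18380
import Groth.Agent.DivEq16.Basic
import Groth.Agent.S1297
import Groth.Agent.PnCoh.Chow.Proper
-- import your own Groth.Agent.* helpers here

set_option autoImplicit false
set_option backward.isDefEq.respectTransparency false
set_option backward.isDefEq.respectTransparency.types false
universe u
open Divisors

namespace Groth.Agent.S18380
open Groth.Agent

open CategoryTheory AlgebraicGeometry in
/-- Let k be an algebraically closed field of characteristic 0 and M a scheme, smooth and projective
over k. Let D₁ and D₂ be effective Cartier divisors on M, given by invertible ideal sheaves with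
I_{D₂} ⊆ I_{D₁} (so D₁ is a closed subscheme of D₂). If I_{D₁} and I_{D₂} are isomorphic as
O_M-modules, that is D₁ and D₂ are linearly equivalent, then D₁ = D₂. The published statement is an
equivalence, for effective divisors on a smooth proper Deligne–Mumford stack with equal divisor
classes; its proof reduces to a smooth projective scheme, the case stated here, and the other
direction is immediate. -/
theorem result (k : Type u) [Field k] [IsAlgClosed k] [CharZero k]
    (M : Scheme.{u}) (f : M ⟶ Spec (CommRingCat.of k)) [Smooth f]
    (hproj : Neron.IsProjectiveOver k (Over.mk f))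
    (D₁ D₂ : M.IdealSheafData) (h₁ : BlowUp.IsEffCartierIdeal D₁) (h₂ : BlowUp.IsEffCartierIdeal D₂)
    (hle : D₂ ≤ D₁) (hiso : Nonempty (ClSub.idealMod D₁ ≅ ClSub.idealMod D₂)) :
    D₁ = D₂ := by
  obtain ⟨θ⟩ := hiso
  obtain ⟨n, i, hi, hif⟩ := hproj
  haveI : IsProper f := by
    rw [show f = i ≫ CohB1.ProjSpaceOver.toBase n _ from hif.symm]
    haveI : IsProper (CohB1.ProjSpaceOver.toBase n (Spec (CommRingCat.of k))) :=
      MorphismProperty.pullback_snd _ _ (PnCoh.Chow.isProper_toSpec n _)
    haveI := hi
    infer_instance
  refine DivEq16.eq_of_le_of_iso (f.appTop.hom.comp (Scheme.ΓSpecIso (CommRingCat.of k)).inv.hom)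
    ((S1297.finite_appTop f).comp ?_) h₁ hle θ
  exact RingHom.Finite.of_surjective _ (Scheme.ΓSpecIso (CommRingCat.of k)).symm.commRingCatIsoToRingEquiv.surjective

end Groth.Agent.S18380
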