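import Groth.Statements.S18381
import Groth.Agent.VerlindeLib.Stair
import Groth.Agent.S18377

set_option autoImplicit false
open Complex
open VerlindeComb

namespace Groth.Agent.S18381

/-- Fix integers r, k ≥ 1. For g ≥ 0, d ∈ ℤ and parabolic data ω given by a finite family of partitions
λ_x with k ≥ λ_{x,1} ≥ ⋯ ≥ λ_{x,r} ≥ 0, write |ω| = Σ_x |λ_x|, z(v)_j = exp(2πi v_j / (r + k)),
S_λ(v) = det(z(v)_j^{λ_i + r - i}) / det(z(v)_j^{r - i}) (Schur value), P(v) = ∏_{i<j} (2 sin(π (v_i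
- v_j)/(r + k)))², and let V_g(r, d, ω) = (-1)^{d(r-1)} (k/r)^g (r (r+k)^{r-1})^{g-1} Σ_v exp(2πi
(d/r - |ω| / (r (r+k))) Σ_j v_j) · ∏_x S_{λ_x}(v) / P(v)^{g-1}, the sum over integer vectors r + k >
v_1 > ⋯ > v_{r-1} > v_r = 0 (the right-hand side of the Verlinde formula; it depends on ω only
through |ω| and the function v ↦ ∏_x S_{λ_x}(v), and is written that way below, with (r
(r+k)^{r-1})^{g-1} as the g-th power divided once and 1/P^{g-1} as P/P^g). Then V_{g+1}(r, d, ω) =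
Σ_μ V_g(r, d, ω^μ), the sum over all μ with k > μ_1 ≥ ⋯ ≥ μ_r ≥ 0, where ω^μ adjoins to ω the two
partitions μ and μ* = (k - μ_r, …, k - μ_1). Indices are 0-based below. -/
theorem result (r k : ℕ) (hr : 1 ≤ r) (hk : 1 ≤ k)
    (g : ℕ) (d : ℤ) (ι : Type) [Fintype ι] (lam : ι → Fin r → ℕ)
    (hlam : ∀ x, Antitone (lam x) ∧ ∀ i, lam x i ≤ k)
    (z : (Fin r → ℕ) → Fin r → ℂ)
    (hz : ∀ v j, z v j = Complex.exp (2 * Real.pi * Complex.I * (v j : ℂ) / ((r : ℂ) + k)))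
    (S : (Fin r → ℕ) → (Fin r → ℕ) → ℂ)
    (hS : ∀ μ v, S μ v = (Matrix.of fun i j : Fin r => z v j ^ (μ i + (r - 1 - (i : ℕ)))).det /
        (Matrix.of fun i j : Fin r => z v j ^ (r - 1 - (i : ℕ))).det)
    (P : (Fin r → ℕ) → ℝ)
    (hP : ∀ v, P v = ∏ p ∈ (Finset.univ : Finset (Fin r × Fin r)).filter (fun p => p.1 < p.2),
        ((2 : ℝ) * Real.sin (Real.pi * ((v p.1 : ℝ) - (v p.2 : ℝ)) / ((r : ℝ) + k))) ^ 2)
    (V : ℕ → ℤ → ℕ → ((Fin r → ℕ) → ℂ) → ℂ)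
    (hV : ∀ (g' : ℕ) (d' : ℤ) (w : ℕ) (Sω : (Fin r → ℕ) → ℂ), V g' d' w Sω =
        (-1 : ℂ) ^ (d' * ((r : ℤ) - 1)) * ((k : ℂ) / r) ^ g' *
          ((((r : ℂ) * ((r : ℂ) + k) ^ (r - 1)) ^ g') / ((r : ℂ) * ((r : ℂ) + k) ^ (r - 1))) *
          ∑ v ∈ (Finset.univ : Finset (Fin r → Fin (r + k))).filter
            (fun v : Fin r → Fin (r + k) => StrictAnti v ∧ ∀ i : Fin r, (i : ℕ) = r - 1 → (v i : ℕ) = 0),
            Complex.exp (2 * Real.pi * Complex.I * ((d' : ℂ) / r - (w : ℂ) / ((r : ℂ) * ((r : ℂ) + k))) *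
                ((∑ j, (v j : ℕ) : ℕ) : ℂ)) *
              Sω (fun j => (v j : ℕ)) *
              (((P (fun j => (v j : ℕ)) : ℂ)) / ((P (fun j => (v j : ℕ)) : ℂ)) ^ g')) :
    V (g + 1) d (∑ x, ∑ i, lam x i) (fun v => ∏ x, S (lam x) v) =
      ∑ μ ∈ (Finset.univ : Finset (Fin r → Fin k)).filter (fun μ : Fin r → Fin k => Antitone μ),
        V g d ((∑ x, ∑ i, lam x i) + (∑ i, (μ i : ℕ)) + (∑ i, (k - (μ (Fin.rev i) : ℕ))))
          (fun v => (∏ x, S (lam x) v) * S (fun i => (μ i : ℕ)) v *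
            S (fun i => k - (μ (Fin.rev i) : ℕ)) v) := by
  classical
  haveI : NeZero (r + k) := ⟨by omega⟩
  set w := ∑ x, ∑ i, lam x i with hw
  have hdual : ∀ μ : Fin r → Fin k,
      w + (∑ i, (μ i : ℕ)) + (∑ i, (k - (μ (Fin.rev i) : ℕ))) = w + k * r := by
    intro μ
    rw [add_assoc, ← Equiv.sum_comp (Fin.revPerm : Equiv.Perm (Fin r)) (fun i => (μ i : ℕ)),
      ← Finset.sum_add_distrib, Finset.sum_congr rfl (g := fun _ => k) fun i _ => ?_]
    · simp [mul_comm]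
    · have := (μ i.rev).isLt
      simp only [Fin.revPerm_apply]
      omega
  simp only [hV, hdual]
  rw [← Finset.mul_sum, Finset.sum_comm, Finset.mul_sum, Finset.mul_sum]
  refine Finset.sum_congr rfl fun v hv => ?_
  simp only [Finset.mem_filter, Finset.mem_univ, true_and] at hv
  have key := Groth.Agent.S18377.result r k hr hk (fun j => (v j : ℕ))
    (fun i j h => hv.1 h) (fun i => (v i).isLt) (z (fun j => (v j : ℕ)))
    (fun j => hz _ j) (fun μ => S μ (fun j => (v j : ℕ))) (fun μ => hS μ _)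
  rw [← Complex.ofReal_prod, ← hP (fun j => (v j : ℕ))] at key
  have hPne : (P (fun j => (v j : ℕ)) : ℂ) ≠ 0 := by
    rw [hP, Groth.Agent.VerlindeLib.prod_sin_sq_eq (N := r + k) (fun j => (v j : ℕ)) _
      (by push_cast; ring), Groth.Agent.VerlindeLib.pair, Groth.Agent.VerlindeLib.alt_neg_stair]
    have hinj := Groth.Agent.VerlindeLib.toZ_injective (N := r + k) hv.1.injective
    have hD := Groth.Agent.VerlindeLib.alt_stair_ne_zero hinj
    refine mul_ne_zero hD (mul_ne_zero ?_ (mul_ne_zero ?_ hD))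
    · rcases Int.units_eq_one_or (Equiv.Perm.sign (Fin.revPerm : Equiv.Perm (Fin r))) with h | h <;>
        simp [h]
    · rw [ZMod.stdAddChar_apply]; exact Circle.coe_ne_zero _
  set Pv : ℂ := (P (fun j => (v j : ℕ)) : ℂ) with hPv
  set Sv : ℂ := ((∑ j, (v j : ℕ) : ℕ) : ℂ) with hSvdef
  set W := ∏ x, S (lam x) (fun j => (v j : ℕ)) with hWdef
  set pre : ℂ := (-1 : ℂ) ^ (d * ((r : ℤ) - 1)) * ((k : ℂ) / r) ^ g *
    ((((r : ℂ) * ((r : ℂ) + k) ^ (r - 1)) ^ g) / ((r : ℂ) * ((r : ℂ) + k) ^ (r - 1))) with hpre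
  have hsplit : Complex.exp (2 * Real.pi * Complex.I * ((d : ℂ) / r -
      ((w + k * r : ℕ) : ℂ) / ((r : ℂ) * ((r : ℂ) + k))) * Sv) =
      Complex.exp (2 * Real.pi * Complex.I * ((d : ℂ) / r -
        (w : ℂ) / ((r : ℂ) * ((r : ℂ) + k))) * Sv) *
      (Complex.exp (2 * Real.pi * Complex.I * (k : ℂ) * Sv / ((r : ℂ) + k)))⁻¹ := by
    rw [← Complex.exp_neg, ← Complex.exp_add]
    congr 1
    have : (r : ℂ) ≠ 0 := by exact_mod_cast (show r ≠ 0 by omega)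
    have : (r : ℂ) + k ≠ 0 := by exact_mod_cast (show r + k ≠ 0 by omega)
    push_cast
    field_simp
    ring
  rw [hsplit]
  set E := Complex.exp (2 * Real.pi * Complex.I * ((d : ℂ) / r -
        (w : ℂ) / ((r : ℂ) * ((r : ℂ) + k))) * Sv) with hE
  set F := Complex.exp (2 * Real.pi * Complex.I * (k : ℂ) * Sv / ((r : ℂ) + k)) with hF
  have hFne : F ≠ 0 := Complex.exp_ne_zero _
  calc _ = pre * (E * F⁻¹ * W * (Pv / Pv ^ g) * (F * ((k : ℂ) * ((r : ℂ) + k) ^ (r - 1)) / Pv)) := by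
        have h0 : (r : ℂ) ≠ 0 := by exact_mod_cast (show r ≠ 0 by omega)
        have h1 : (r : ℂ) + k ≠ 0 := by exact_mod_cast (show r + k ≠ 0 by omega)
        simp only [pre, pow_succ]
        field_simp
    _ = _ := by
        rw [← key, Finset.mul_sum, Finset.mul_sum, Finset.mul_sum]
        exact Finset.sum_congr rfl fun μ _ => by ring

end Groth.Agent.S18381
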