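import Groth.Statements.S18382
import Mathlib
import Groth.Agent.PhiStabLib.Tree

set_option autoImplicit false
universe u
open PhiStab

namespace Groth.Agent.S18382

open PhiStab in
/-- Let (V, E, ends) be a finite tree, that is a connected multigraph without circuits. For every family
of real numbers c_e indexed by the edges and every real c₀ there is exactly one real weighting φ of
the vertices such that, for each edge e, the sum of φ over the side of e containing its first
endpoint (the vertices joined to that endpoint by a chain of edges other than e) equals c_e, and the
sum of φ over all vertices equals c₀. The lemma itself — a system of stability parameters on all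
treelike marked graphs compatible with contractions is determined by its components on the
two-vertex graphs — reduces to this square linear system being nondegenerate. -/
theorem result {V E : Type u} [Fintype V] [Fintype E] [DecidableEq V] [DecidableEq E]
    (ends : E → V × V) (hT : DualGr.IsTree ends)
    (c : E → ℝ) (c₀ : ℝ) :
    ∃! φ : V → ℝ, (∀ e : E, (∑ v ∈ side ends e, φ v) = c e) ∧ (∑ v : V, φ v) = c₀ := by
  obtain ⟨φ, h1, h2⟩ := Groth.Agent.PhiStabLib.exists_side_sums hT c c₀
  exact ⟨φ, ⟨h1, h2⟩, fun ψ hψ => Groth.Agent.PhiStabLib.eq_of_side_sums hT ψ φ
    (fun e => (hψ.1 e).trans (h1 e).symm) (hψ.2.trans h2.symm)⟩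

end Groth.Agent.S18382
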