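import Groth.Statements.S18383
import Mathlib.CategoryTheory.Limits.Shapes.Pullback.IsPullback.Basic
import Mathlib.CategoryTheory.Limits.Constructions.Over.Connected

set_option autoImplicit false
universe u
open CategoryTheory CategoryTheory.Limits MonoidalCategory CartesianMonoidalCategory MonObj GrpObj AlgebraicGeometry
open GrpSch

namespace Groth.Agent.S18383

/-- Let S be a scheme, H an S-group scheme and i : G → H a homomorphism of S-group schemes which is a
closed immersion (G a closed subgroup scheme of H). Then the left-translation action of G on H is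
strictly free: the S-morphism G ×_S H → H ×_S H, (g, h) ↦ (i(g)·h, h), is a closed immersion. -/
theorem result {S : Scheme.{u}} (G H : Over S)
    [GrpObj G] [GrpObj H] (i : G ⟶ H) [IsMonHom i] [IsClosedImmersion i.left] :
    IsClosedImmersion (CartesianMonoidalCategory.lift ((i ▷ H) ≫ μ[H]) (snd G H)).left := by
  let e : H ⊗ H ≅ H ⊗ H :=
    { hom := lift μ[H] (snd H H)
      inv := lift (fst H H * (snd H H)⁻¹) (snd H H)
      hom_inv_id := by
        apply CartesianMonoidalCategory.hom_ext
        · simp [MonObj.comp_mul, GrpObj.comp_inv, MonObj.mul_eq_mul, mul_assoc]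
        · simp
      inv_hom_id := by
        apply CartesianMonoidalCategory.hom_ext
        · simp [MonObj.mul_eq_mul, MonObj.comp_mul, mul_assoc]
        · simp }
  have he : lift ((i ▷ H) ≫ μ[H]) (snd G H) = (i ▷ H) ≫ e.hom := by
    apply CartesianMonoidalCategory.hom_ext <;> simp [e]
  have sq : IsPullback (i ▷ H) (fst G H) (fst H H) i :=
    IsPullback.of_isLimit' ⟨by simp⟩ (PullbackCone.IsLimit.mk _
      (fun s => lift s.snd (s.fst ≫ snd H H))
      (fun s => by
        apply CartesianMonoidalCategory.hom_ext
        · simpa using s.condition.symm
        · simp)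
      (fun s => by simp)
      (fun s m h1 h2 => by
        apply CartesianMonoidalCategory.hom_ext
        · simpa using h2
        · rw [lift_snd, ← h1]; simp))
  have hci : IsClosedImmersion (i ▷ H).left :=
    MorphismProperty.of_isPullback (sq.map (Over.forget S)).flip ‹IsClosedImmersion i.left›
  rw [he, Over.comp_left]
  have : IsIso e.hom.left := ((Over.forget S).mapIso e).isIso_hom
  infer_instance

end Groth.Agent.S18383
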