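import Groth.Statements.S18384
import Mathlib.AlgebraicGeometry.IdealSheaf.Functorial
import Mathlib.AlgebraicGeometry.Noetherian
import Mathlib.RingTheory.Filtration

set_option autoImplicit false
universe u
open CategoryTheory CategoryTheory.Limits AlgebraicGeometry
open Coherent

namespace Groth.Agent.S18384
namespace Aux
open CategoryTheory CategoryTheory.Limits AlgebraicGeometry Opposite TopologicalSpace
set_option backward.isDefEq.respectTransparency false
set_option backward.isDefEq.respectTransparency.types false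

variable {X S : Scheme.{u}} [IsLocallyNoetherian X] (p : X ⟶ S) (I : X.IdealSheafData)

theorem exists_nhd [IsLocallyNoetherian S] (t : S)
    (h : ∀ n : ℕ, ∃ g : pullback p (Spec.map (CommRingCat.ofHom (Ideal.Quotient.mk
        (IsLocalRing.maximalIdeal ↑(S.presheaf.stalk t) ^ (n + 1)))) ≫ S.fromSpecStalk t) ⟶ I.subscheme,
        g ≫ I.subschemeι = pullback.fst p _) :
    ∃ U : X.Opens, (∀ x : X, p.base x = t → x ∈ U) ∧
      ∃ g : (U : Scheme.{u}) ⟶ I.subscheme, g ≫ I.subschemeι = U.ι := by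
  have hgerm : ∀ (x : X), p x = t → ∀ (V : X.affineOpens) (hx : x ∈ V.1), ∀ a ∈ I.ideal V,
      X.presheaf.germ V.1 x hx a = 0 := by
    rintro x rfl V hx a ha
    let m := IsLocalRing.maximalIdeal (X.presheaf.stalk x)
    suffices ∀ n : ℕ, X.presheaf.germ V.1 x hx a ∈ m ^ (n + 1) by
      have h1 : X.presheaf.germ V.1 x hx a ∈ ⨅ n : ℕ, m ^ n := by
        refine Ideal.mem_iInf.2 fun n => ?_
        cases n with
        | zero => simp
        | succ n => exact this n
      rwa [Ideal.iInf_pow_eq_bot_of_isLocalRing m (IsLocalRing.maximalIdeal.isMaximal _).ne_top] at h1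
    intro n
    obtain ⟨g, hg⟩ := h n
    let q := CommRingCat.ofHom (Ideal.Quotient.mk (m ^ (n + 1)))
    have hq : (IsLocalRing.maximalIdeal (S.presheaf.stalk (p x)) ^ (n + 1)).map (p.stalkMap x).hom ≤ m ^ (n + 1) := by
      rw [Ideal.map_pow]
      haveI hl : IsLocalHom (p.stalkMap x).hom := inferInstance
      exact Ideal.pow_right_mono (Ideal.map_le_iff_le_comap.2
        (((IsLocalRing.local_hom_TFAE (p.stalkMap x).hom).out 0 3).1 hl)) _
    let q' : CommRingCat.of (↑(S.presheaf.stalk (p x)) ⧸ IsLocalRing.maximalIdeal (S.presheaf.stalk (p x)) ^ (n + 1)) ⟶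
        CommRingCat.of (↑(X.presheaf.stalk x) ⧸ m ^ (n + 1)) :=
      CommRingCat.ofHom (Ideal.quotientMap _ (p.stalkMap x).hom (Ideal.map_le_iff_le_comap.1 hq))
    have hw : CommRingCat.ofHom (Ideal.Quotient.mk (IsLocalRing.maximalIdeal (S.presheaf.stalk (p x)) ^ (n + 1))) ≫ q' =
        p.stalkMap x ≫ q := rfl
    let τ : Spec (CommRingCat.of (↑(X.presheaf.stalk x) ⧸ m ^ (n + 1))) ⟶ X := Spec.map q ≫ X.fromSpecStalk x
    have hsq : τ ≫ p = Spec.map q' ≫ Spec.map (CommRingCat.ofHom (Ideal.Quotient.mk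
        (IsLocalRing.maximalIdeal (S.presheaf.stalk (p x)) ^ (n + 1)))) ≫ S.fromSpecStalk (p x) := by
      rw [← Spec.map_comp_assoc, hw, Spec.map_comp_assoc, Scheme.SpecMap_stalkMap_fromSpecStalk, Category.assoc]
    have hτ : pullback.lift τ (Spec.map q') hsq ≫ g ≫ I.subschemeι = τ := by
      rw [hg, pullback.lift_fst]
    have h0 : τ.app V.1 a = 0 := by
      rw [← hτ, Scheme.Hom.comp_app, Scheme.Hom.comp_app]
      have : I.subschemeι.app V.1 a = 0 := (I.ker_subschemeι_app V).ge ha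
      simp only [CommRingCat.comp_apply, this, map_zero]
    rw [Scheme.Hom.comp_app, Scheme.fromSpecStalk_app hx] at h0
    simp only [CommRingCat.comp_apply] at h0
    have htop : Spec.map q ⁻¹ᵁ X.fromSpecStalk x ⁻¹ᵁ V.1 = ⊤ := by
      refine top_le_iff.1 fun z _ => ?_
      have hz : (X.fromSpecStalk x) ((Spec.map q) z) ⤳ x :=
        Scheme.range_fromSpecStalk.le ⟨_, rfl⟩
      have hzeq : (Spec.map q) z = IsLocalRing.closedPoint (X.presheaf.stalk x) := by
        refine PrimeSpectrum.ext ((IsLocalRing.maximalIdeal.isMaximal _).eq_of_le ((Spec.map q) z).isPrime.ne_top ?_).symm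
        refine ((Spec.map q) z).isPrime.le_of_pow_le (n := n + 1) fun b hb => ?_
        show q.hom b ∈ z.asIdeal
        rw [show q.hom b = 0 from Ideal.Quotient.eq_zero_iff_mem.2 hb]
        exact zero_mem _
      show (X.fromSpecStalk x) ((Spec.map q) z) ∈ V.1
      rw [hzeq, Scheme.fromSpecStalk_closedPoint]
      exact hx
    have h1 := congr((Spec _).presheaf.map (eqToHom htop.symm).op $h0)
    rw [map_zero] at h1
    have h2 : (Scheme.ΓSpecIso _).inv (q (X.presheaf.germ V.1 x hx a)) = 0 := by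
      refine Eq.trans ?_ h1
      rw [Scheme.Hom.app_eq_appLE, ← CommRingCat.comp_apply, Scheme.ΓSpecIso_inv_naturality, CommRingCat.comp_apply]
      simp only [← CommRingCat.comp_apply, Category.assoc, Scheme.Hom.app_eq_appLE, Scheme.Hom.map_appLE, Scheme.Hom.map_appLE_assoc, Scheme.Hom.appLE_map]
      rfl
      try rw [show (Spec.map q).appTop = (Spec.map q).appLE ⊤ ⊤ le_rfl from Scheme.Hom.app_eq_appLE _]
    have h3 : q (X.presheaf.germ V.1 x hx a) = 0 :=
      (ConcreteCategory.bijective_of_isIso (Scheme.ΓSpecIso _).inv).1 (h2.trans (map_zero _).symm)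
    exact Ideal.Quotient.eq_zero_iff_mem.1 h3
  have hD : ∀ x : X, p x = t → ∃ D : X.affineOpens, x ∈ D.1 ∧ I.ideal D = ⊥ := by
    intro x hxt
    obtain ⟨_, ⟨V, hV, rfl⟩, hx, -⟩ := X.isBasis_affineOpens.exists_subset_of_mem_open (Set.mem_univ x) isOpen_univ
    haveI : IsNoetherianRing Γ(X, V) := IsLocallyNoetherian.component_noetherian ⟨V, hV⟩
    obtain ⟨s, hs⟩ := IsNoetherian.noetherian (I.ideal ⟨V, hV⟩)
    have hz : ∀ a : s, ∃ (r : Γ(X, V)), x ∈ X.basicOpen r ∧
        X.presheaf.map (homOfLE (X.basicOpen_le r)).op a.1 = 0 := fun a => by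
      have h0 : X.presheaf.germ V x hx a.1 = X.presheaf.germ V x hx 0 := by
        rw [map_zero]; exact hgerm x hxt ⟨V, hV⟩ hx _ (hs.le (Submodule.subset_span a.2))
      obtain ⟨W, hxW, iU, iV, hW⟩ := X.presheaf.germ_eq x hx hx _ _ h0
      obtain ⟨r, hr, hxr⟩ := hV.exists_basicOpen_le ⟨x, hxW⟩ hx
      refine ⟨r, hxr, ?_⟩
      have h2 := congr(X.presheaf.map (homOfLE hr).op $hW)
      rw [map_zero, map_zero, ← CommRingCat.comp_apply, ← Functor.map_comp] at h2
      exact h2
    choose r hxr hr using hz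
    have hR : x ∈ X.basicOpen (∏ a : s, r a) := by
      classical
      induction (Finset.univ : Finset s) using Finset.induction_on with
      | empty => simpa using hx
      | insert a u ha ih => rw [Finset.prod_insert ha, Scheme.basicOpen_mul]; exact ⟨hxr a, ih⟩
    refine ⟨⟨X.basicOpen (∏ a : s, r a), hV.basicOpen _⟩, hR, ?_⟩
    rw [← I.map_ideal (V := ⟨V, hV⟩) (X.basicOpen_le _), ← hs, Ideal.map_span, Ideal.span_eq_bot]
    rintro _ ⟨a, ha, rfl⟩
    have hle : X.basicOpen (∏ b : s, r b) ≤ X.basicOpen (r ⟨a, ha⟩) := by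
      classical
      rw [Fintype.prod_eq_mul_prod_compl ⟨a, ha⟩, Scheme.basicOpen_mul]
      exact inf_le_left
    have h2 := congr(X.presheaf.map (homOfLE hle).op $(hr ⟨a, ha⟩))
    rw [map_zero, ← CommRingCat.comp_apply, ← Functor.map_comp] at h2
    exact h2
  choose D hxD hD using hD
  let U : X.Opens := ⨆ x : {x : X // p x = t}, (D x.1 x.2).1
  refine ⟨U, fun x hx => Opens.mem_iSup.2 ⟨⟨x, hx⟩, hxD x hx⟩, ?_⟩
  refine ⟨IsClosedImmersion.lift I.subschemeι U.ι ?_, IsClosedImmersion.lift_fac _ _ _⟩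
  rw [Scheme.IdealSheafData.ker_subschemeι]
  intro V a ha
  rw [Scheme.Hom.ker_apply, RingHom.mem_ker, Scheme.Opens.ι_app]
  refine TopCat.Presheaf.section_ext X.sheaf _ _ _ fun y hy => ?_
  rw [map_zero]
  refine (TopCat.Presheaf.germ_res_apply X.presheaf _ y hy a).trans ?_
  change y ∈ U.ι ''ᵁ (U.ι ⁻¹ᵁ V.1) at hy
  have hy' : y ∈ V.1 ⊓ U := by rwa [Scheme.Hom.image_preimage_eq_opensRange_inf, Scheme.Opens.opensRange_ι, inf_comm] at hy
  obtain ⟨x, hx⟩ := Opens.mem_iSup.1 hy'.2
  obtain ⟨_, ⟨W, hW, rfl⟩, hyW, hWle⟩ := X.isBasis_affineOpens.exists_subset_of_mem_open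
    (show y ∈ V.1 ⊓ (D x.1 x.2).1 from ⟨hy'.1, hx⟩) (V.1 ⊓ (D x.1 x.2).1).2
  have h1 := I.ideal_le_comap_ideal (U := ⟨W, hW⟩) (V := V) (fun z hz => (hWle hz).1) ha
  rw [Ideal.mem_comap, ← I.map_ideal (U := ⟨W, hW⟩) (V := D x.1 x.2) (fun z hz => (hWle hz).2), hD, Ideal.map_bot,
    Ideal.mem_bot] at h1
  rw [← X.presheaf.germ_res_apply (homOfLE (show W ≤ V.1 from fun z hz => (hWle hz).1)) y hyW a]
  exact (congrArg (X.presheaf.germ W y hyW) h1).trans (map_zero _)

end Aux


/-- Let p : X → S be a morphism of locally Noetherian schemes, t a point of S, m the maximal ideal of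
the local ring O_{S,t}, and Z the closed subscheme of X defined by a quasi-coherent ideal I. Suppose
that for every n ≥ 1 the projection X ×_S Spec(O_{S,t}/m^n) → X factors through Z. Then there is an
open subscheme U of X containing every point of the fibre p⁻¹(t) such that the inclusion U → X
factors through Z. -/
theorem result {X S : Scheme.{u}}
    [IsLocallyNoetherian X] [IsLocallyNoetherian S] (p : X ⟶ S) (t : S) (I : X.IdealSheafData)
    (h : ∀ n : ℕ, ∃ g : pullback p (Spec.map (CommRingCat.ofHom (Ideal.Quotient.mk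
        (IsLocalRing.maximalIdeal ↑(S.presheaf.stalk t) ^ (n + 1)))) ≫ S.fromSpecStalk t) ⟶ I.subscheme,
        g ≫ I.subschemeι = pullback.fst p _) :
    ∃ U : X.Opens, (∀ x : X, p.base x = t → x ∈ U) ∧
      ∃ g : (U : Scheme.{u}) ⟶ I.subscheme, g ≫ I.subschemeι = U.ι := by

    exact Aux.exists_nhd p I t h

end Groth.Agent.S18384
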