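import Groth.Statements.S18385
import Groth.Agent.H23.Isogeny
import Groth.Agent.H23.AbImage
-- import your own Groth.Agent.* helpers here

set_option autoImplicit false
universe u
open CategoryTheory CategoryTheory.Limits MonoidalCategory CartesianMonoidalCategory MonObj GrpObj AlgebraicGeometry
open AbSch

namespace Groth.Agent.S18385

open Groth.Agent in
theorem fibre {S : Scheme.{u}} (A B : Over S)
    [GrpObj A] [Smooth A.hom] [IsProper A.hom] [GeometricallyConnected A.hom]
    [GrpObj B] [Smooth B.hom] [IsProper B.hom] [GeometricallyConnected B.hom]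
    (f : A ⟶ B) [IsMonHom f] (s : S)
    (hdim : topologicalKrullDim ↥(A.hom.fiber s) = topologicalKrullDim ↥(B.hom.fiber s)) :
    ∃ fs : A.hom.fiber s ⟶ B.hom.fiber s, (∀ x, f.left (A.hom.fiberι s x) = B.hom.fiberι s (fs x)) ∧
      ((∀ y, (fs ⁻¹' {y}).Finite) → Surjective fs) ∧ (Surjective fs → ∀ y, (fs ⁻¹' {y}).Finite) := by
  let : GrpObj (Over.mk A.hom) := ‹GrpObj A›
  let : GrpObj (Over.mk B.hom) := ‹GrpObj B›
  let g : Over.mk A.hom ⟶ Over.mk B.hom := f
  have : IsMonHom g := ‹IsMonHom f›
  let As : Over (Spec (CommRingCat.of (S.residueField s))) := Over.mk (A.hom.fiberToSpecResidueField s)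
  let Bs : Over (Spec (CommRingCat.of (S.residueField s))) := Over.mk (B.hom.fiberToSpecResidueField s)
  let : GrpObj As := Over.grpObjMkPullbackSnd
  let : GrpObj Bs := Over.grpObjMkPullbackSnd
  let gs : As ⟶ Bs := (Over.pullback (S.fromSpecResidueField s)).map g
  have : IsMonHom gs := inferInstanceAs (IsMonHom ((Over.pullback (S.fromSpecResidueField s)).map g))
  have : IsProper As.hom := inferInstanceAs (IsProper (Limits.pullback.snd A.hom (S.fromSpecResidueField s)))
  have : IsProper Bs.hom := inferInstanceAs (IsProper (Limits.pullback.snd B.hom (S.fromSpecResidueField s)))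
  have : Smooth As.hom := inferInstanceAs (Smooth (Limits.pullback.snd A.hom (S.fromSpecResidueField s)))
  have : Smooth Bs.hom := inferInstanceAs (Smooth (Limits.pullback.snd B.hom (S.fromSpecResidueField s)))
  have := H23.RigidGamma.geometricallyReduced_of_smooth As.hom
  have := H23.RigidGamma.geometricallyReduced_of_smooth Bs.hom
  have : ConnectedSpace As.left := inferInstanceAs (ConnectedSpace (A.hom.fiber s))
  have : ConnectedSpace Bs.left := inferInstanceAs (ConnectedSpace (B.hom.fiber s))
  have hA := H23.MaxAbelian.geometricallyIntegral_of_connected As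
  have hB := H23.MaxAbelian.geometricallyIntegral_of_connected Bs
  have : IsIntegral As.left := H23.MaxAbelian.isIntegral_of_geometricallyIntegral (X := As)
  have : IsIntegral Bs.left := H23.MaxAbelian.isIntegral_of_geometricallyIntegral (X := Bs)
  have hwp : IsProper gs.left := by
    have : IsProper (gs.left ≫ Bs.hom) := by rw [Over.w gs]; infer_instance
    exact IsProper.of_comp gs.left Bs.hom
  have hw : gs.left ≫ B.hom.fiberι s = A.hom.fiberι s ≫ f.left :=
    Limits.pullback.lift_fst _ _ _
  refine ⟨gs.left, fun x => (congrArg (fun φ => φ x) hw).symm, fun h => ?_, fun hs => ?_⟩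
  · have : LocallyQuasiFinite gs.left := LocallyQuasiFinite.of_finite_preimage_singleton gs.left h
    have : IsFinite gs.left := IsFinite.of_isProper_of_locallyQuasiFinite gs.left
    exact H23.Isogeny.surjective_of_isFinite As.hom Bs.hom gs.left (Over.w gs) hdim
  · have : Surjective gs.left := hs
    have := GrpSchLib.flat_of_surjective_hom gs
    have := H23.Isogeny.isFinite_of_flat As.hom Bs.hom gs.left (Over.w gs) hdim
    exact fun y => gs.left.finite_preimage_singleton y

/-- (2) ⇔ (3): let S be a scheme, A and B abelian schemes over S (S-group schemes, smooth and proper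
over S with geometrically connected fibres) whose fibres A_s and B_s have the same dimension for
every point s of S, and f : A → B a homomorphism of S-group schemes. Then f is locally quasi-finite
if and only if f is surjective (and then f is an isogeny). -/
theorem result {S : Scheme.{u}} (A B : Over S)
    [GrpObj A] [Smooth A.hom] [IsProper A.hom] [GeometricallyConnected A.hom]
    [GrpObj B] [Smooth B.hom] [IsProper B.hom] [GeometricallyConnected B.hom]
    (f : A ⟶ B) [IsMonHom f]
    (hdim : ∀ s : S, topologicalKrullDim ↥(A.hom.fiber s) = topologicalKrullDim ↥(B.hom.fiber s)) :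
    LocallyQuasiFinite f.left ↔ Surjective f.left := by
  have hp : IsProper f.left := by
    have : IsProper (f.left ≫ B.hom) := (Over.w f).symm ▸ ‹IsProper A.hom›
    exact IsProper.of_comp f.left B.hom
  constructor
  · intro hl
    refine ⟨fun b => ?_⟩
    obtain ⟨b', hb'⟩ : b ∈ Set.range (B.hom.fiberι (B.hom b)) := by
      rw [B.hom.range_fiberι]; rfl
    obtain ⟨fs, hw, hfin, -⟩ := fibre A B f (B.hom b) (hdim _)
    obtain ⟨a', ha'⟩ := (hfin (fun y => Set.Finite.of_finite_image (f := (A.hom.fiberι (B.hom b)).base)
      ((f.left.finite_preimage_singleton ((B.hom.fiberι (B.hom b)) y)).subset (by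
        rintro _ ⟨x, hx, rfl⟩
        exact (hw x).trans (congrArg (B.hom.fiberι (B.hom b)) hx)))
      (A.hom.fiberι (B.hom b)).isEmbedding.injective.injOn)).1 b'
    exact ⟨_, (hw a').trans ((congrArg (B.hom.fiberι (B.hom b)) ha').trans hb')⟩
  · intro hs
    refine LocallyQuasiFinite.of_finite_preimage_singleton f.left fun b => ?_
    obtain ⟨b', hb'⟩ : b ∈ Set.range (B.hom.fiberι (B.hom b)) := by
      rw [B.hom.range_fiberι]; rfl
    obtain ⟨fs, hw, -, hfin⟩ := fibre A B f (B.hom b) (hdim _)
    have hov : ∀ a, f.left a = b → a ∈ Set.range (A.hom.fiberι (B.hom b)) := fun a ha => by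
      rw [A.hom.range_fiberι]
      have h1 := congrArg (fun φ => φ a) (Over.w f)
      exact h1.symm.trans (congrArg B.hom ha)
    refine ((hfin ⟨fun y => ?_⟩ b').image (A.hom.fiberι (B.hom b))).subset fun a ha => ?_
    · obtain ⟨a, ha⟩ := hs.1 (B.hom.fiberι (B.hom b) y)
      obtain ⟨a', rfl⟩ : a ∈ Set.range (A.hom.fiberι (B.hom b)) := by
        rw [A.hom.range_fiberι]
        have h1 := congrArg (fun φ => φ a) (Over.w f)
        have h2 : B.hom (B.hom.fiberι (B.hom b) y) = B.hom b :=
          (B.hom.range_fiberι (B.hom b)).le ⟨y, rfl⟩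
        exact h1.symm.trans ((congrArg B.hom ha).trans h2)
      exact ⟨a', (B.hom.fiberι (B.hom b)).isEmbedding.injective ((hw a').symm.trans ha)⟩
    · obtain ⟨a', rfl⟩ := hov a ha
      exact ⟨a', (B.hom.fiberι (B.hom b)).isEmbedding.injective ((hw a').symm.trans (ha.trans hb'.symm)), rfl⟩

end Groth.Agent.S18385
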