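import Groth.Statements.S18386
import Mathlib.RingTheory.Ideal.IdempotentFG

set_option autoImplicit false
universe u
open LVCorr

namespace Groth.Agent.S18386

open AlgebraicGeometry in
/-- Let X be a connected Noetherian scheme and I a quasi-coherent sheaf of ideals on X, different from
the structure sheaf, such that I^k = I^(k+1) for some natural number k. Then I^k = 0. -/
theorem result (X : Scheme.{u}) [AlgebraicGeometry.IsNoetherian X]
    [ConnectedSpace X] (I : X.IdealSheafData) (hI : I ≠ ⊤) (k : ℕ)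
    (h : I ^ k = I ^ (k + 1)) : I ^ k = ⊥ := by
  have hk : k ≠ 0 := by
    rintro rfl
    exact hI (by simpa using h.symm)
  have hsq : ∀ U, (I ^ k).ideal U * (I ^ k).ideal U = (I ^ k).ideal U := by
    intro U
    have h1 : I.ideal U ^ k = I.ideal U ^ (k + 1) := by
      have := congrArg (fun J => Scheme.IdealSheafData.ideal J U) h
      simpa using this
    have h2 : ∀ m, I.ideal U ^ (k + m) = I.ideal U ^ k := by
      intro m
      induction m with
      | zero => rfl
      | succ m ih => rw [← add_assoc, pow_succ, ih, ← pow_succ, ← h1]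
    simp only [Scheme.IdealSheafData.ideal_pow, Pi.pow_apply, ← pow_add, h2]
  have hop : IsOpen ((I ^ k).support : Set X) := by
    refine isOpen_iff_forall_mem_open.mpr fun x hx => ?_
    obtain ⟨_, ⟨U, hU, rfl⟩, hxU, -⟩ :=
      X.isBasis_affineOpens.exists_subset_of_mem_open (Set.mem_univ x) isOpen_univ
    haveI : IsNoetherianRing Γ(X, U) := IsLocallyNoetherian.component_noetherian ⟨U, hU⟩
    obtain ⟨e, he, hJ⟩ := (Ideal.isIdempotentElem_iff_of_fg _
      (IsNoetherian.noetherian ((I ^ k).ideal ⟨U, hU⟩))).mp (hsq ⟨U, hU⟩)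
    have hz : ∀ y ∈ U, (y ∈ (I ^ k).support ↔ y ∉ X.basicOpen e) := fun y hy => by
      rw [Scheme.IdealSheafData.mem_support_iff_of_mem (U := ⟨U, hU⟩) hy, hJ]
      change y ∈ X.zeroLocus (U := U) (Ideal.span {e} : Set Γ(X, U)) ↔ _
      rw [Scheme.zeroLocus_span, Scheme.mem_zeroLocus_iff]
      simp
    refine ⟨X.basicOpen (1 - e), fun y hy => (hz y (X.basicOpen_le _ hy)).mpr fun hye => ?_,
      (X.basicOpen _).isOpen, ?_⟩
    · have h0 : y ∈ X.basicOpen ((1 - e) * e) := by rw [Scheme.basicOpen_mul]; exact ⟨hy, hye⟩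
      rw [sub_mul, one_mul, he.eq, sub_self, Scheme.basicOpen_zero] at h0
      exact h0
    · have hxe := (hz x hxU).mp hx
      rw [SetLike.mem_coe, X.mem_basicOpen _ _ hxU]
      rw [X.mem_basicOpen _ _ hxU] at hxe
      rw [map_sub, map_one]
      rcases IsLocalRing.isUnit_or_isUnit_of_add_one
        (show (1 - (X.presheaf.germ U x hxU).hom e) + (X.presheaf.germ U x hxU).hom e = 1 by ring) with h' | h'
      · exact h'
      · exact absurd h' hxe
  rcases isClopen_iff.mp ⟨(I ^ k).support.isClosed, hop⟩ with h0 | h1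
  · exact absurd (show I = ⊤ by
      rw [← Scheme.IdealSheafData.support_eq_bot_iff, ← Scheme.IdealSheafData.support_pow I k hk]
      exact TopologicalSpace.Closeds.ext h0) hI
  · refine Scheme.IdealSheafData.ext (funext fun U => ?_)
    haveI : IsNoetherianRing Γ(X, U.1) := IsLocallyNoetherian.component_noetherian U
    obtain ⟨e, he, hJ⟩ := (Ideal.isIdempotentElem_iff_of_fg _
      (IsNoetherian.noetherian ((I ^ k).ideal U))).mp (hsq U)
    rw [hJ]
    change _ = ⊥
    rw [Ideal.span_eq_bot]
    intro a ha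
    rw [Set.mem_singleton_iff.mp ha]
    have hbot : X.basicOpen e = ⊥ := by
      refine le_bot_iff.mp fun y hy => ?_
      have hy' : y ∈ ((I ^ k).support : Set X) := h1 ▸ Set.mem_univ y
      rw [SetLike.mem_coe, Scheme.IdealSheafData.mem_support_iff_of_mem (U := U) (X.basicOpen_le _ hy), hJ] at hy'
      change y ∈ X.zeroLocus (U := U.1) (Ideal.span {e} : Set Γ(X, U.1)) at hy'
      rw [Scheme.zeroLocus_span, Scheme.mem_zeroLocus_iff] at hy'
      exact absurd hy (hy' e rfl)
    obtain ⟨n, hn⟩ := (Scheme.isNilpotent_iff_basicOpen_eq_bot_of_isCompact U.2.isCompact e).mpr hbot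
    rcases n with - | n
    · rw [← mul_one e, ← pow_zero e, hn, mul_zero]
    · rwa [he.pow_succ_eq n] at hn

end Groth.Agent.S18386
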