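import Groth.Statements.S18389
import Mathlib.AlgebraicGeometry.Morphisms.Proper

set_option autoImplicit false
universe u
open LVCorr

namespace Groth.Agent.S18389

open AlgebraicGeometry CategoryTheory in
/-- Let j : C → C̄ be an open immersion with dense image and jX : X → X̄ an open immersion, and let c₁ :
C → X and c̄₁ : C̄ → X̄ satisfy j followed by c̄₁ equals c₁ followed by jX, with c̄₁ separated. Let
U be an open subset of X such that c₁⁻¹(U) is dense in C and the restriction c₁⁻¹(U) → U of c₁ is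
proper. Then c̄₁⁻¹(jX(U)) = j(c₁⁻¹(U)) as open subsets of C̄. (In the source all schemes are
separated of finite type over a field, C̄ and X̄ are compactifications of a correspondence and of X,
so that c̄₁ is automatically separated.) -/
theorem result {C Cb X Xb : Scheme.{u}}
    (j : C ⟶ Cb) [IsOpenImmersion j] (hj : DenseRange j.base)
    (jX : X ⟶ Xb) [IsOpenImmersion jX] (c₁ : C ⟶ X) (cb₁ : Cb ⟶ Xb) [IsSeparated cb₁]
    (h : j ≫ cb₁ = c₁ ≫ jX) (U : X.Opens) (hU : Dense ((c₁ ⁻¹ᵁ U : C.Opens) : Set C))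
    [IsProper (c₁ ∣_ U)] :
    cb₁ ⁻¹ᵁ (jX ''ᵁ U) = j ''ᵁ (c₁ ⁻¹ᵁ U) := by
  let W := jX ''ᵁ U
  have hle : c₁ ⁻¹ᵁ U ≤ j ⁻¹ᵁ (cb₁ ⁻¹ᵁ W) := fun x hx => by
    show cb₁ (j x) ∈ W
    rw [← Scheme.Hom.comp_apply, h, Scheme.Hom.comp_apply]
    exact ⟨c₁ x, hx, rfl⟩
  let V := cb₁ ⁻¹ᵁ W
  let t : (c₁ ⁻¹ᵁ U : Scheme.{u}) ⟶ (V : Scheme.{u}) :=
    IsOpenImmersion.lift V.ι ((c₁ ⁻¹ᵁ U).ι ≫ j) (by
      rintro _ ⟨x, rfl⟩
      exact (Scheme.Opens.range_ι V).ge (hle x.2))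
  have ht : t ≫ V.ι = (c₁ ⁻¹ᵁ U).ι ≫ j := IsOpenImmersion.lift_fac _ _ _
  let e := (jX.isoImage U)
  have hcomp : t ≫ (cb₁ ∣_ W) = (c₁ ∣_ U) ≫ e.hom := by
    rw [← cancel_mono W.ι, Category.assoc, morphismRestrict_ι, ← Category.assoc, ht, Category.assoc, h,
      Category.assoc, Scheme.Hom.isoImage_hom_ι, morphismRestrict_ι_assoc]
  haveI : IsProper (t ≫ (cb₁ ∣_ W)) := by rw [hcomp]; infer_instance
  haveI : IsSeparated (cb₁ ∣_ W) := IsZariskiLocalAtTarget.restrict ‹IsSeparated cb₁› W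
  haveI : IsProper t := IsProper.of_comp t (cb₁ ∣_ W)
  have hclosed : IsClosed (Set.range t) := t.isClosedMap.isClosed_range
  have hrange : ∀ v : V, v ∈ Set.range t ↔ V.ι v ∈ j ''ᵁ (c₁ ⁻¹ᵁ U) := fun v => by
    constructor
    · rintro ⟨x, rfl⟩
      exact ⟨x.1, x.2, (congr($(ht) x)).symm⟩
    · rintro ⟨x, hx, hxv⟩
      refine ⟨⟨x, hx⟩, V.ι.isOpenEmbedding.injective ((congr($(ht) ⟨x, hx⟩)).trans hxv)⟩
  refine le_antisymm (fun z hz => ?_) ?_
  · have hd : Dense ((j ''ᵁ (c₁ ⁻¹ᵁ U) : Cb.Opens) : Set Cb) :=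
      hj.dense_image j.continuous hU
    have hd' : Dense (Set.range t) := by
      refine Dense.mono (fun v hv => (hrange v).2 hv) (hd.preimage V.ι.isOpenEmbedding.isOpenMap)
    have := hclosed.closure_eq ▸ hd'.closure_eq
    exact (hrange ⟨z, hz⟩).1 (this ▸ trivial)
  · rintro _ ⟨x, hx, rfl⟩
    exact hle hx

end Groth.Agent.S18389
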