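import Groth.Statements.S18390


set_option autoImplicit false
universe u
open LVCorr

namespace Groth.Agent.S18390

/-- In the affine, ring-theoretic form which its proof establishes. Let φ : A' → A be a ring
homomorphism, I' a finitely generated ideal of A' and I an ideal of A containing the image of I'.
Then some power I'^k is mapped into I^(k+1) if and only if for every n ≥ 1 and every a ∈ I'^n there
is a k with φ(a)^k ∈ I^(nk+1). (Geometrically, for a morphism f : (X, Z) → (X', Z') of pairs with Z
a closed subscheme of the preimage of Z', the normal cone of Z in X is the spectrum of the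
associated graded algebra of I, and the second condition says that the induced map of normal cones
sends the normal cone of Z set-theoretically into the zero section Z'; the source states the
equivalence in that language.) -/
theorem result (A' A : Type u) [CommRing A'] [CommRing A]
    (φ : A' →+* A) (I' : Ideal A') (hI' : I'.FG) (I : Ideal A) (hle : I'.map φ ≤ I) :
    (∃ k : ℕ, (I' ^ k).map φ ≤ I ^ (k + 1)) ↔
      ∀ n : ℕ, 1 ≤ n → ∀ a ∈ I' ^ n, ∃ k : ℕ, 1 ≤ k ∧ φ a ^ k ∈ I ^ (n * k + 1) := by
  constructor
  · rintro ⟨k, hk⟩ n hn a ha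
    refine ⟨k + 1, by omega, ?_⟩
    have hk' : (I' ^ (k + 1)).map φ ≤ I ^ (k + 1 + 1) := by
      rw [pow_succ, Ideal.map_mul, pow_succ _ (k + 1)]
      exact Ideal.mul_mono hk hle
    obtain ⟨m, rfl⟩ : ∃ m, n = m + 1 := ⟨n - 1, by omega⟩
    have h1 : φ a ^ (k + 1) ∈ (I' ^ ((m + 1) * (k + 1))).map φ := by
      rw [← map_pow, pow_mul]
      exact Ideal.mem_map_of_mem _ (Ideal.pow_mem_pow ha _)
    refine SetLike.le_def.mp ?_ h1
    rw [add_mul, one_mul, pow_add, Ideal.map_mul, add_assoc, pow_add _ (m * (k + 1))]
    refine Ideal.mul_mono ?_ hk'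
    rw [Ideal.map_pow]
    exact Ideal.pow_right_mono hle _
  · intro h
    classical
    obtain ⟨s, rfl⟩ := hI'
    have key : ∀ t : Finset A', t ⊆ s → ∃ K : ℕ, (Ideal.span (t : Set A')).map φ ^ K ≤ I ^ (K + 1) ∧ 1 ≤ K := by
      intro t
      induction t using Finset.induction_on with
      | empty => exact fun _ => ⟨1, by simp, le_rfl⟩
      | @insert a t hat ih =>
        intro hsub
        obtain ⟨hs, ht⟩ := Finset.insert_subset_iff.mp hsub
        obtain ⟨K, hK, -⟩ := ih ht
        obtain ⟨k, hk1, hk⟩ := h 1 le_rfl a (by simpa using Ideal.subset_span hs)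
        rw [one_mul] at hk
        refine ⟨k + K, ?_, by omega⟩
        rw [Finset.coe_insert, Ideal.span_insert, Ideal.map_sup, Ideal.map_span, Set.image_singleton,
          ← Submodule.add_eq_sup, add_pow]
        have hA : Ideal.span {φ a} ≤ I := by
          rw [Ideal.span_singleton_le_iff_mem]
          exact hle (Ideal.mem_map_of_mem _ (Ideal.subset_span hs))
        have hJ : (Ideal.span (t : Set A')).map φ ≤ I :=
          (Ideal.map_mono (Ideal.span_mono (Finset.coe_subset.mpr ht))).trans hle
        refine Finset.sum_induction _ (fun J => J ≤ I ^ (k + K + 1)) (fun _ _ => sup_le) bot_le ?_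
        intro i hi
        refine le_trans Ideal.mul_le_left ?_
        rw [Finset.mem_range] at hi
        rcases le_or_gt k i with hik | hik
        · obtain ⟨d, rfl⟩ := Nat.exists_eq_add_of_le hik
          have e : k + K + 1 = k + 1 + (d + (k + K - (k + d))) := by omega
          rw [e, pow_add, pow_add, mul_assoc]
          refine Ideal.mul_mono ?_ ?_
          · rw [Ideal.span_singleton_pow, Ideal.span_singleton_le_iff_mem]; exact hk
          · rw [pow_add]
            exact Ideal.mul_mono (Ideal.pow_right_mono hA _) (Ideal.pow_right_mono hJ _)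
        · obtain ⟨d, hd⟩ := Nat.exists_eq_add_of_le (show K ≤ k + K - i by omega)
          have e : k + K + 1 = i + (K + 1 + d) := by omega
          rw [e, hd, pow_add, pow_add I i, pow_add I (K + 1)]
          exact Ideal.mul_mono (Ideal.pow_right_mono hA _) (Ideal.mul_mono hK (Ideal.pow_right_mono hJ _))
    obtain ⟨K, hK, -⟩ := key s (Finset.Subset.refl _)
    exact ⟨K, by rw [Ideal.map_pow]; exact hK⟩

end Groth.Agent.S18390
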