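import Groth.Statements.S18391
import Mathlib.RingTheory.DiscreteValuationRing.TFAE
import Mathlib.RingTheory.Ideal.KrullsHeightTheorem
import Mathlib.RingTheory.Localization.AtPrime.Basic
import Mathlib

set_option autoImplicit false
universe u
open LVCorr

namespace Groth.Agent.S18391

/-- Let A be a normal (integrally closed) Noetherian domain and z an element of A such that the radical
of the principal ideal (z) is prime. Then there exist elements w, t of A and a natural number r,
with w not in the radical of (z), such that in the localization A[1/w] the ideal generated by z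
equals the ideal generated by t^r and the ideal generated by t is prime. (The condition on w is the
one the printed proof produces and the later use of the lemma needs.) -/
theorem result (A : Type u) [CommRing A] [IsDomain A]
    [IsNoetherianRing A] [IsIntegrallyClosed A] (z : A) (hz : (Ideal.span {z}).radical.IsPrime) :
    ∃ (w t : A) (r : ℕ), w ∉ (Ideal.span {z}).radical ∧
      Ideal.span {algebraMap A (Localization.Away w) z} =
        Ideal.span {algebraMap A (Localization.Away w) t ^ r} ∧
      (Ideal.span {algebraMap A (Localization.Away w) t}).IsPrime := by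
  classical
  by_cases hz0 : z = 0
  · subst hz0
    refine ⟨1, 0, 1, fun h => hz.ne_top ((Ideal.eq_top_iff_one _).2 h), by simp, ?_⟩
    rw [map_zero, Ideal.span_singleton_eq_bot.2 rfl]
    haveI : IsDomain (Localization.Away (1 : A)) :=
      IsLocalization.isDomain_localization (powers_le_nonZeroDivisors_of_noZeroDivisors one_ne_zero)
    exact Ideal.isPrime_bot
  let p := (Ideal.span {z}).radical
  haveI : p.IsPrime := hz
  have hzp : z ∈ p := Ideal.le_radical (Ideal.mem_span_singleton_self z)
  have hpmin : p ∈ (Ideal.span {z}).minimalPrimes :=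
    ⟨⟨hz, Ideal.le_radical⟩, fun q hq _ => hq.1.radical_le_iff.2 hq.2⟩
  have hh := Ideal.height_le_one_of_isPrincipal_of_mem_minimalPrimes (Ideal.span {z}) p hpmin
  let R := Localization.AtPrime p
  have hne : IsLocalRing.maximalIdeal R ≠ ⊥ := fun h => hz0 (by
    have : algebraMap A R z ∈ IsLocalRing.maximalIdeal R := (IsLocalization.AtPrime.to_map_mem_maximal_iff R p z).2 hzp
    rw [h, Ideal.mem_bot] at this
    exact IsLocalization.injective R p.primeCompl_le_nonZeroDivisors (this.trans (map_zero _).symm))
  haveI : IsIntegrallyClosed R := isIntegrallyClosed_of_isLocalization R p.primeCompl p.primeCompl_le_nonZeroDivisors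
  haveI : IsNoetherianRing R := IsLocalization.isNoetherianRing p.primeCompl _ inferInstance
  haveI : IsDiscreteValuationRing R := by
    refine ((IsDiscreteValuationRing.TFAE R (fun h => hne (IsLocalRing.isField_iff_maximalIdeal_eq.1 h))).out 0 3 rfl rfl).mpr ?_
    refine ⟨inferInstance, IsLocalRing.maximalIdeal R, ⟨hne, inferInstance⟩, fun Q hQ => ?_⟩
    haveI := hQ.2
    have hle : Q.comap (algebraMap A R) ≤ p := fun a ha =>
      (IsLocalization.AtPrime.to_map_mem_maximal_iff R p a).1 (IsLocalRing.le_maximalIdeal hQ.2.ne_top ha)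
    rcases hle.lt_or_eq with hlt | heq
    · exfalso
      have h1 : (Q.comap (algebraMap A R)).height < p.height := by
          exact Ideal.height_strict_mono_of_isPrime hlt
      have h2 : (Q.comap (algebraMap A R)).height = 0 := ENat.lt_one_iff_eq_zero.1 (lt_of_lt_of_le h1 hh)
      rw [Ideal.height_eq_zero_iff_eq_bot] at h2
      apply hQ.1
      rw [← IsLocalization.map_comap p.primeCompl R Q]
      exact (congrArg (Ideal.map (algebraMap A R)) h2).trans Ideal.map_bot
    · rw [← IsLocalization.map_comap p.primeCompl R Q]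
      exact (congrArg (Ideal.map (algebraMap A R)) heq).trans Localization.AtPrime.map_eq_maximalIdeal
  obtain ⟨π, hπ⟩ := IsDiscreteValuationRing.exists_irreducible R
  obtain ⟨t, s, hts⟩ := IsLocalization.exists_mk'_eq p.primeCompl π
  have htu : Associated (algebraMap A R t) π := by
    rw [← hts]
    refine Associated.symm ⟨(IsLocalization.map_units R s).unit, ?_⟩
    rw [IsUnit.unit_spec, IsLocalization.mk'_spec]
  have ht : Irreducible (algebraMap A R t) := htu.symm.irreducible hπ
  have hmax := (IsDiscreteValuationRing.irreducible_iff_uniformizer _).1 ht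
  have hz' : algebraMap A R z ≠ 0 := fun h => hz0 (IsLocalization.injective R p.primeCompl_le_nonZeroDivisors (h.trans (map_zero _).symm))
  obtain ⟨r, hr⟩ := IsDiscreteValuationRing.associated_pow_irreducible hz' ht
  have hdiv : ∀ a b : A, algebraMap A R b ∣ algebraMap A R a → ∃ s : p.primeCompl, ∃ c : A, (s : A) * a = b * c := by
    rintro a b ⟨c, hc⟩
    obtain ⟨c', s, rfl⟩ := IsLocalization.exists_mk'_eq p.primeCompl c
    refine ⟨s, c', IsLocalization.injective R p.primeCompl_le_nonZeroDivisors ?_⟩
    rw [map_mul, map_mul, hc, mul_left_comm, IsLocalization.mk'_spec']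
  obtain ⟨s₁, c₁, h₁⟩ := hdiv z (t ^ r) (by rw [map_pow]; exact hr.symm.dvd)
  obtain ⟨s₂, c₂, h₂⟩ := hdiv (t ^ r) z (by rw [map_pow]; exact hr.dvd)
  obtain ⟨G, hG⟩ := (IsNoetherian.noetherian p : p.FG)
  have hgen : ∀ g : G, ∃ s : p.primeCompl, ∃ c : A, (s : A) * g = t * c := fun g => hdiv _ _ (by
    have : algebraMap A R g ∈ IsLocalRing.maximalIdeal R :=
      (IsLocalization.AtPrime.to_map_mem_maximal_iff R p _).2 (hG ▸ Ideal.subset_span g.2)
    rwa [hmax, Ideal.mem_span_singleton] at this)
  choose sg cg hg using hgen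
  let w : A := s₁ * s₂ * ∏ g : G, (sg g : A)
  have hw : w ∉ p := fun h => by
    rcases hz.mem_or_mem h with h | h
    · rcases hz.mem_or_mem h with h | h
      · exact s₁.2 h
      · exact s₂.2 h
    · obtain ⟨g, -, hg'⟩ := (Ideal.IsPrime.prod_mem_iff).1 h
      exact (sg g).2 hg'
  have htp : t ∈ p := (IsLocalization.AtPrime.to_map_mem_maximal_iff R p t).1 (hmax ▸ Ideal.mem_span_singleton_self _)
  let W := Localization.Away w
  have hu : ∀ x : A, x ∣ w → IsUnit (algebraMap A W x) := fun x hx =>
    isUnit_of_dvd_unit (map_dvd _ hx) (IsLocalization.Away.algebraMap_isUnit w)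
  have key : ∀ (a b c x : A), x ∣ w → x * a = b * c → algebraMap A W a ∈ Ideal.span {algebraMap A W b} := by
    intro a b c x hx h
    refine ((Ideal.span {algebraMap A W b}).unit_mul_mem_iff_mem (hu x hx)).1 ?_
    rw [← map_mul, h, map_mul]
    exact Ideal.mul_mem_right _ _ (Ideal.mem_span_singleton_self _)
  refine ⟨w, t, r, hw, ?_, ?_⟩
  · rw [← map_pow]
    refine le_antisymm ((Ideal.span_singleton_le_iff_mem _).2 (key _ _ c₁ s₁ ((Dvd.intro _ rfl).trans (Dvd.intro _ rfl)) h₁))
      ((Ideal.span_singleton_le_iff_mem _).2 (key _ _ c₂ s₂ ((Dvd.intro_left _ rfl).trans (Dvd.intro _ rfl)) h₂))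
  · have : Ideal.span {algebraMap A W t} = p.map (algebraMap A W) := by
      refine le_antisymm ((Ideal.span_singleton_le_iff_mem _).2 (Ideal.mem_map_of_mem _ htp)) ?_
      rw [← hG, Ideal.map_span, Ideal.span_le]
      rintro _ ⟨g, hg', rfl⟩
      exact key _ _ (cg ⟨g, hg'⟩) (sg ⟨g, hg'⟩)
        ((Finset.dvd_prod_of_mem (fun g : G => (sg g : A)) (Finset.mem_univ (⟨g, hg'⟩ : G))).trans (Dvd.intro_left _ rfl)) (hg ⟨g, hg'⟩)
    rw [this]
    refine IsLocalization.isPrime_of_isPrime_disjoint (Submonoid.powers w) W p hz ?_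
    exact (Set.disjoint_left.2 fun x hx hxp => by
      obtain ⟨n, rfl⟩ := hx
      exact hw (hz.mem_of_pow_mem n hxp))

end Groth.Agent.S18391
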