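import Groth.Statements.S18392
import Groth.Agent.CDiv6.Normal

set_option autoImplicit false
universe u
open LVCorr

namespace Groth.Agent.S18392

open IsLocalRing in
theorem isDVR_of_assoc (A : Type u) [CommRing A] [IsDomain A] [IsNoetherianRing A] [IsIntegrallyClosed A]
    {z : A} (hz : z ≠ 0) {P : Ideal A} [P.IsPrime] (h : IsAssociatedPrime P (A ⧸ Ideal.span {z})) :
    IsDiscreteValuationRing (Localization.AtPrime P) := by
  obtain ⟨-, y, hy⟩ := Groth.Agent.Alg6.mem_ass_iff.mp h
  obtain ⟨a, rfl⟩ := Ideal.Quotient.mk_surjective y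
  have hy' : ∀ c, c ∈ P ↔ z ∣ c * a := fun c => by
    rw [hy]
    exact (Ideal.Quotient.eq_zero_iff_mem (a := c * a)).trans Ideal.mem_span_singleton
  let L := Localization.AtPrime P
  haveI : IsDomain L := IsLocalization.isDomain_of_le_nonZeroDivisors (R := A) (M := P.primeCompl) (S := L) P.primeCompl_le_nonZeroDivisors
  haveI : IsNoetherianRing L := IsLocalization.isNoetherianRing P.primeCompl L inferInstance
  haveI : IsIntegrallyClosed L := isIntegrallyClosed_of_isLocalization L P.primeCompl P.primeCompl_le_nonZeroDivisors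
  have hb : algebraMap A L z ∈ maximalIdeal L :=
    (IsLocalization.AtPrime.to_map_mem_maximal_iff L P z).2 ((hy' z).2 (dvd_mul_right z a))
  have hb0 : algebraMap A L z ≠ 0 :=
    (map_ne_zero_iff _ (IsLocalization.injective L P.primeCompl_le_nonZeroDivisors)).2 hz
  have hass : maximalIdeal L ∈ associatedPrimes L (QuotSMulTop (algebraMap A L z) L) := by
    refine Groth.Agent.Alg6.mem_ass_iff.mpr ⟨inferInstance, Submodule.Quotient.mk (algebraMap A L a), fun c => ?_⟩
    rw [← Submodule.Quotient.mk_smul, Groth.Agent.Alg6.mem_pointwise_smul_top_iff]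
    obtain ⟨c, s, rfl⟩ := IsLocalization.exists_mk'_eq P.primeCompl c
    rw [IsLocalization.AtPrime.mk'_mem_maximal_iff L P, hy']
    constructor
    · rintro ⟨w, hw⟩
      refine ⟨IsLocalization.mk' L w s, ?_⟩
      rw [smul_eq_mul, smul_eq_mul, mul_comm (IsLocalization.mk' L c s), IsLocalization.mul_mk'_eq_mk'_of_mul,
        IsLocalization.mul_mk'_eq_mk'_of_mul, mul_comm a c, hw]
    · rintro ⟨w, hw⟩
      obtain ⟨w, t, rfl⟩ := IsLocalization.exists_mk'_eq P.primeCompl w
      rw [smul_eq_mul, smul_eq_mul, mul_comm (IsLocalization.mk' L c s), IsLocalization.mul_mk'_eq_mk'_of_mul,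
        IsLocalization.mul_mk'_eq_mk'_of_mul] at hw
      obtain ⟨r, hr⟩ := IsLocalization.eq.1 hw
      have h2 : z ∣ (r.1 * t.1 * c) * a := ⟨r.1 * (s.1 * w), by linear_combination -hr⟩
      rw [← hy'] at h2 ⊢
      exact (‹P.IsPrime›.mem_or_mem h2).resolve_left ((r * t).2)
  have hreg : IsSMulRegular L (algebraMap A L z) := fun u v h => mul_left_cancel₀ hb0 h
  refine Groth.Agent.CDiv6.isDVR_of_depth_eq_one L (le_antisymm ?_ ?_)
  · refine not_lt.1 fun h2 => (Groth.Agent.Alg6.two_le_depth_iff hb hreg).1 ?_ hass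
    exact Order.add_one_le_of_lt h2
  · refine (Groth.Agent.Alg6.one_le_depth_iff (R := L) (M := L)).2 fun hh => ?_
    obtain ⟨-, y, hy⟩ := Groth.Agent.Alg6.mem_ass_iff.mp hh
    have h1 := (hy _).1 hb
    rw [smul_eq_mul, mul_eq_zero] at h1
    have h3 : y = 0 := h1.resolve_left hb0
    exact (maximalIdeal.isMaximal L).ne_top ((Ideal.eq_top_iff_one _).2 ((hy 1).2 (by simp [h3])))

theorem mem_minimalPrimes_of_assoc (A : Type u) [CommRing A] [IsDomain A] [IsNoetherianRing A]
    [IsIntegrallyClosed A] {z : A} (hz : z ≠ 0) {P : Ideal A} (h : IsAssociatedPrime P (A ⧸ Ideal.span {z})) :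
    P ∈ (Ideal.span {z}).minimalPrimes := by
  haveI := h.isPrime
  haveI := isDVR_of_assoc A hz h
  have hd : P.height = 1 := by
    have h1 := IsLocalization.AtPrime.ringKrullDim_eq_height P (Localization.AtPrime P)
    rw [IsPrincipalIdealRing.ringKrullDim_eq_one _ (IsDiscreteValuationRing.not_isField _)] at h1
    exact_mod_cast h1.symm
  have hzP : z ∈ P := by
    obtain ⟨-, y, hy⟩ := Groth.Agent.Alg6.mem_ass_iff.mp h
    obtain ⟨a, rfl⟩ := Ideal.Quotient.mk_surjective y
    exact (hy z).2 ((Ideal.Quotient.eq_zero_iff_mem (a := z * a)).2 (Ideal.mem_span_singleton.2 (dvd_mul_right z a)))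
  refine ⟨⟨h.isPrime, (Ideal.span_singleton_le_iff_mem _).2 hzP⟩, fun Q hQ hQP => ?_⟩
  haveI := hQ.1
  by_contra hne
  have h2 := Ideal.height_strict_mono_of_isPrime (I := Q) (J := P) (lt_of_le_not_ge hQP hne)
  rw [hd, ENat.lt_one_iff_eq_zero, Ideal.height_eq_zero_iff_eq_bot] at h2
  have h3 : Q = ⊥ := h2
  exact hz (by simpa [h3] using hQ.2 (Ideal.mem_span_singleton_self z))


/-- Let A be a normal (integrally closed) Noetherian domain and z an element of A such that the radical
of (z) is prime. Then for every non-empty open subset V of Spec A contained in the basic open set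
D(z) (that is, every non-empty open subset of Spec A[1/z]) there is an element x of A, not in the
radical of (z), such that the basic open set D(xz) = Spec A[1/xz] is contained in V. -/
theorem result (A : Type u) [CommRing A]
    [IsDomain A] [IsNoetherianRing A] [IsIntegrallyClosed A] (z : A)
    (hz : (Ideal.span {z}).radical.IsPrime) (V : Set (PrimeSpectrum A)) (hV : IsOpen V)
    (hVz : V ⊆ (PrimeSpectrum.basicOpen z : Set (PrimeSpectrum A))) (hne : V.Nonempty) :
    ∃ x : A, x ∉ (Ideal.span {z}).radical ∧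
      ((PrimeSpectrum.basicOpen (x * z) : TopologicalSpace.Opens (PrimeSpectrum A)) :
        Set (PrimeSpectrum A)) ⊆ V := by
  classical
  have hz0 : z ≠ 0 := by
    rintro rfl
    obtain ⟨q, hq⟩ := hne
    exact hVz hq q.asIdeal.zero_mem
  set P := (Ideal.span {z}).radical with hPdef
  haveI hP : P.IsPrime := hz
  have hzP : z ∈ P := Ideal.le_radical (Ideal.mem_span_singleton_self z)
  obtain ⟨q, hq⟩ := hne
  obtain ⟨_, ⟨_, ⟨a, rfl⟩, rfl⟩, hqa, haV⟩ :=
    PrimeSpectrum.isBasis_basic_opens.exists_subset_of_mem_open hq hV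
  have ha0 : a ≠ 0 := fun h => hqa (show a ∈ q.asIdeal from h ▸ q.asIdeal.zero_mem)
  have hass : ∀ P' : Ideal A, IsAssociatedPrime P' (A ⧸ Ideal.span {z}) → P' = P := fun P' h' => by
    have hm := mem_minimalPrimes_of_assoc A hz0 h'
    rw [← Ideal.radical_minimalPrimes, ← hPdef, Ideal.minimalPrimes_eq_subsingleton_self] at hm
    exact hm
  have hcancel : ∀ s y : A, s ∉ P → z ∣ s * y → z ∣ y := fun s y hs hd => by
    by_contra hy
    obtain ⟨P', hP', hle⟩ := exists_le_isAssociatedPrime_of_isNoetherianRing A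
      (Ideal.Quotient.mk (Ideal.span {z}) y)
      (by rw [Ne, Ideal.Quotient.eq_zero_iff_mem, Ideal.mem_span_singleton]; exact hy)
    rw [hass P' hP'] at hle
    refine hs (hle (Submodule.mem_colon_singleton.2 ?_))
    rw [Submodule.mem_bot]
    exact (Ideal.Quotient.eq_zero_iff_mem (a := s * y)).2 (Ideal.mem_span_singleton.2 hd)
  have hPass : IsAssociatedPrime P (A ⧸ Ideal.span {z}) := by
    obtain ⟨P', hP', -⟩ := exists_le_isAssociatedPrime_of_isNoetherianRing A (1 : A ⧸ Ideal.span {z})
      (by rw [← map_one (Ideal.Quotient.mk (Ideal.span {z})), Ne, Ideal.Quotient.eq_zero_iff_mem,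
        ← Ideal.eq_top_iff_one]
          exact fun h => hP.ne_top ((Ideal.eq_top_iff_one _).2 (Ideal.le_radical (h ▸ trivial))))
    rwa [← hass P' hP']
  haveI := isDVR_of_assoc A hz0 hPass
  obtain ⟨π, hπ⟩ := IsDiscreteValuationRing.exists_irreducible (Localization.AtPrime P)
  have hinj : Function.Injective (algebraMap A (Localization.AtPrime P)) :=
    IsLocalization.injective _ P.primeCompl_le_nonZeroDivisors
  obtain ⟨α, u, hu⟩ := IsDiscreteValuationRing.eq_unit_mul_pow_irreducible
    (x := algebraMap A (Localization.AtPrime P) a) ((map_ne_zero_iff _ hinj).2 ha0) hπ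
  obtain ⟨β, v, hv⟩ := IsDiscreteValuationRing.eq_unit_mul_pow_irreducible
    (x := algebraMap A (Localization.AtPrime P) z) ((map_ne_zero_iff _ hinj).2 hz0) hπ
  let w : (Localization.AtPrime P)ˣ := u ^ β * (v ^ α)⁻¹
  have hw : algebraMap A (Localization.AtPrime P) (a ^ β) = w * algebraMap A (Localization.AtPrime P) (z ^ α) := by
    rw [map_pow, map_pow, hu, hv, mul_pow, mul_pow, ← pow_mul, ← pow_mul, mul_comm α β]
    simp only [w, Units.val_mul, Units.val_pow_eq_pow_val, ← mul_assoc]
    rw [mul_assoc ((u : Localization.AtPrime P) ^ β), ← Units.val_pow_eq_pow_val v α, Units.inv_mul, mul_one]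
  obtain ⟨t, s, hts⟩ := IsLocalization.exists_mk'_eq P.primeCompl (w : Localization.AtPrime P)
  have ht : t ∉ P := by
    have hu' : IsUnit (IsLocalization.mk' (Localization.AtPrime P) t s) := hts ▸ w.isUnit
    exact (IsLocalization.AtPrime.isUnit_mk'_iff (Localization.AtPrime P) P t s).1 hu'
  have he : (s : A) * a ^ β = t * z ^ α := hinj (by
    rw [map_mul, map_mul, hw, ← hts, ← mul_assoc, IsLocalization.mk'_spec'])
  have hdiv : ∀ k y, z ^ k ∣ (s : A) * y → z ^ k ∣ y := by
    intro k
    induction k with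
    | zero => intro y _; simp
    | succ k ih =>
      intro y hy
      obtain ⟨y', rfl⟩ := ih y (dvd_trans (pow_dvd_pow z k.le_succ) hy)
      rw [pow_succ] at hy ⊢
      rw [mul_left_comm] at hy
      exact mul_dvd_mul_left _ (hcancel s y' s.2 ((mul_dvd_mul_iff_left (pow_ne_zero k hz0)).1 hy))
  obtain ⟨x, hx⟩ := hdiv α (a ^ β) ⟨t, by rw [he, mul_comm]⟩
  have hsx : (s : A) * x = t := by
    apply mul_left_cancel₀ (pow_ne_zero α hz0)
    rw [mul_left_comm, ← hx, he, mul_comm]
  refine ⟨x, fun hxP => ht (hsx ▸ P.mul_mem_left _ hxP), fun r hr => haV (fun har => ?_)⟩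
  have hr1 : x * z ∉ r.asIdeal := hr
  by_cases hβ : β = 0
  · subst hβ
    refine (r.isPrime.ne_top ((Ideal.eq_top_iff_one _).2 ?_))
    exfalso
    have : IsUnit (algebraMap A (Localization.AtPrime P) z) := by rw [hv, pow_zero, mul_one]; exact v.isUnit
    exact (IsLocalization.AtPrime.isUnit_to_map_iff (Localization.AtPrime P) P z).1 this hzP
  · have h1 : z ^ α * x ∈ r.asIdeal := hx ▸ Ideal.pow_mem_of_mem _ har β (Nat.pos_of_ne_zero hβ)
    rcases r.isPrime.mem_or_mem h1 with h2 | h2
    · exact hr1 (Ideal.mul_mem_left _ _ (r.isPrime.mem_of_pow_mem _ h2))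
    · exact hr1 (Ideal.mul_mem_right _ _ h2)

end Groth.Agent.S18392
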