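import Groth.Statements.S18393


set_option autoImplicit false
universe u v
open LVCorr

namespace Groth.Agent.S18393

/-- Stated for the underlying continuous maps. Let c₁, c₂ : C → X be continuous maps with C a Noetherian
topological space, let Z be a closed subset of X and B the closure in C of c₂⁻¹(Z) ∖ c₁⁻¹(Z). Call Z
locally invariant when every point x of Z has an open neighbourhood U such that every y in C with
c₂(y) ∈ Z ∩ U and c₁(y) ∈ U satisfies c₁(y) ∈ Z. Then Z is locally invariant if and only if for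
every irreducible subset T of B the closures of c₁(T) and of c₂(T) in X are disjoint. (The source
states this for a correspondence c = (c₁, c₂) : C → X × X of separated schemes of finite type over
an algebraically closed field and for the irreducible components of B; the condition for all
irreducible subsets of B is the same condition.) -/
theorem result {C : Type u} {X : Type v}
    [TopologicalSpace C] [TopologicalSpace X] [TopologicalSpace.NoetherianSpace C]
    (c₁ c₂ : C → X) (hc₁ : Continuous c₁) (hc₂ : Continuous c₂) (Z : Set X) (hZ : IsClosed Z) :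
    (∀ x ∈ Z, ∃ U : Set X, IsOpen U ∧ x ∈ U ∧
        ∀ y : C, c₂ y ∈ Z → c₂ y ∈ U → c₁ y ∈ U → c₁ y ∈ Z) ↔
      ∀ T : Set C, T ⊆ closure (c₂ ⁻¹' Z \ c₁ ⁻¹' Z) → IsIrreducible T →
        closure (c₁ '' T) ∩ closure (c₂ '' T) = ∅ := by
  classical
  constructor
  · intro h T hTB hT
    by_contra hne
    obtain ⟨x, hx₁, hx₂⟩ := Set.nonempty_iff_ne_empty.mpr hne
    have hB : closure (c₂ ⁻¹' Z \ c₁ ⁻¹' Z) ⊆ c₂ ⁻¹' Z :=
      closure_minimal Set.sdiff_subset (hZ.preimage hc₂)
    have hxZ : x ∈ Z := closure_minimal (Set.image_subset_iff.mpr (hTB.trans hB)) hZ hx₂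
    obtain ⟨U, hU, hxU, hUy⟩ := h x hxZ
    obtain ⟨_, hu₁, a, ha, rfl⟩ := mem_closure_iff.mp hx₁ U hU hxU
    obtain ⟨_, hu₂, b, hb, rfl⟩ := mem_closure_iff.mp hx₂ U hU hxU
    obtain ⟨y, hyT, hy₁, hy₂⟩ :=
      hT.2 (c₁ ⁻¹' U) (c₂ ⁻¹' U) (hU.preimage hc₁) (hU.preimage hc₂) ⟨a, ha, hu₁⟩ ⟨b, hb, hu₂⟩
    obtain ⟨z, ⟨hz₁, hz₂⟩, hzZ, hzn⟩ :=
      mem_closure_iff.mp (hTB hyT) _ ((hU.preimage hc₁).inter (hU.preimage hc₂)) ⟨hy₁, hy₂⟩
    exact hzn (hUy z hzZ hz₂ hz₁)
  · intro h x hxZ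
    obtain ⟨S, hSf, -, hSirr, hS⟩ := TopologicalSpace.NoetherianSpace.exists_finite_set_isClosed_irreducible
      (isClosed_closure (s := c₂ ⁻¹' Z \ c₁ ⁻¹' Z))
    let K : Set C → Set X := fun T => closure (c₁ '' T) ∩ closure (c₂ '' T)
    let W : Set C → Set X := fun T => if x ∈ closure (c₁ '' T) then (closure (c₂ '' T))ᶜ else (closure (c₁ '' T))ᶜ
    refine ⟨⋂ T ∈ S, W T, hSf.isOpen_biInter fun T _ => ?_, Set.mem_iInter₂.mpr fun T hT => ?_,
      fun y hy₂ hyU₂ hyU₁ => ?_⟩
    · simp only [W]; split_ifs <;> exact isClosed_closure.isOpen_compl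
    · simp only [W]
      split_ifs with hx
      · intro hx'
        have := h T (hS.symm ▸ Set.subset_sUnion_of_mem hT) (hSirr T hT)
        exact (Set.eq_empty_iff_forall_notMem.mp this) x ⟨hx, hx'⟩
      · exact hx
    · by_contra hn
      obtain ⟨T, hT, hyT⟩ := Set.mem_sUnion.mp
        (hS ▸ subset_closure ⟨hy₂, hn⟩ : y ∈ ⋃₀ S)
      have e₁ := Set.mem_iInter₂.mp hyU₁ T hT
      have e₂ := Set.mem_iInter₂.mp hyU₂ T hT
      simp only [W] at e₁ e₂
      split_ifs at e₁ e₂
      · exact e₂ (subset_closure ⟨y, hyT, rfl⟩)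
      · exact e₁ (subset_closure ⟨y, hyT, rfl⟩)

end Groth.Agent.S18393
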