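import Groth.Statements.S18399
-- import your own Groth.Agent.* helpers here

set_option autoImplicit false
universe u
open CAlg

namespace Groth.Agent.S18399

/-- Let k be a field and A a regular local k-algebra with residue field k (the structure map from k onto
the residue field of A is surjective), let σ be a k-algebra endomorphism of A of finite order n with
n invertible in k, and let I_σ be the ideal of A generated by the elements f - σ f. Then I_σ is
generated by finitely many elements of the maximal ideal whose classes in the cotangent space m/m^2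
are linearly independent over the residue field. (Such elements are part of a regular system of
parameters of A, hence part of a regular sequence, which is the printed conclusion; the generators
with independent classes are what the argument produces.) -/
theorem result {k : Type u} [Field k] {A : Type u} [CommRing A] [Algebra k A] [IsRegularLocalRing A] (hres : Function.Surjective ⇑(algebraMap k (IsLocalRing.ResidueField A))) (σ : A →ₐ[k] A) (n : ℕ) (hσ : ∀ a : A, (⇑σ)^[n] a = a) (hn : (n : k) ≠ 0) : ∃ (m : ℕ) (f : Fin m → ↥(IsLocalRing.maximalIdeal A)), Ideal.span (Set.range fun i : Fin m => (f i : A)) = Ideal.span (Set.range fun a : A => a - σ a) ∧ LinearIndependent (IsLocalRing.ResidueField A) (fun i : Fin m => (IsLocalRing.maximalIdeal A).toCotangent (f i)) := by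
  classical
  set m := IsLocalRing.maximalIdeal A with hm
  have hn0 : n ≠ 0 := fun h => hn (by simp [h])
  have hσm : ∀ x : A, x ∈ m → σ x ∈ m := by
    intro x hx
    rw [hm, IsLocalRing.mem_maximalIdeal, mem_nonunits_iff] at hx ⊢
    intro hu
    apply hx
    obtain ⟨n', rfl⟩ := Nat.exists_eq_succ_of_ne_zero hn0
    rw [← hσ x, Function.iterate_succ_apply]
    have : ∀ (j : ℕ) (y : A), IsUnit y → IsUnit ((⇑σ)^[j] y) := fun j => by
      induction j with
      | zero => exact fun y hy => hy
      | succ j ih => intro y hy; rw [Function.iterate_succ_apply']; exact (ih y hy).map σ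
    exact this n' _ hu
  have hσjm : ∀ (j : ℕ) (x : A), x ∈ m → (⇑σ)^[j] x ∈ m := fun j => by
    induction j with
    | zero => exact fun x hx => hx
    | succ j ih => intro x hx; rw [Function.iterate_succ_apply']; exact hσm _ (ih x hx)
  set I : Ideal A := Ideal.span (Set.range fun a : A => a - σ a) with hI
  have hone : ∀ a : A, a - σ a ∈ I := fun a => Ideal.subset_span ⟨a, rfl⟩
  have hdiff : ∀ (j : ℕ) (a : A), a - (⇑σ)^[j] a ∈ I := fun j => by
    induction j with
    | zero => intro a; simp
    | succ j ih =>
      intro a
      rw [Function.iterate_succ_apply', ← sub_add_sub_cancel a ((⇑σ)^[j] a) (σ ((⇑σ)^[j] a))]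
      exact add_mem (ih a) (hone _)
  have hm2 : ∀ r ∈ m ^ 2, ∀ j : ℕ, r - (σ ^ j) r ∈ m * I := by
    intro r hr j
    rw [pow_two] at hr
    induction hr using Submodule.mul_induction_on' with
    | mem_mul_mem a ha b hb =>
      have h1 : a * b - (σ ^ j) (a * b) = a * (b - (σ ^ j) b) + (σ ^ j) b * (a - (σ ^ j) a) := by
        rw [map_mul]; ring
      rw [h1, AlgHom.coe_pow]
      exact add_mem (Ideal.mul_mem_mul ha (hdiff j b)) (Ideal.mul_mem_mul (hσjm j b hb) (hdiff j a))
    | add x _ y _ hx hy =>
      rw [map_add, add_sub_add_comm]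
      exact add_mem hx hy
  -- the element `a - σ a` lies in the maximal ideal
  have hlift : ∀ a : A, ∃ c : k, a - algebraMap k A c ∈ m := by
    intro a
    obtain ⟨c, hc⟩ := hres (IsLocalRing.residue A a)
    refine ⟨c, ?_⟩
    rw [hm, ← IsLocalRing.residue_eq_zero_iff, map_sub, sub_eq_zero, ← hc,
      IsScalarTower.algebraMap_apply k A (IsLocalRing.ResidueField A)]
    rfl
  have hgm : ∀ a : A, a - σ a ∈ m := by
    intro a
    obtain ⟨c, hc⟩ := hlift a
    have : a - σ a = (a - algebraMap k A c) - σ (a - algebraMap k A c) := by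
      rw [map_sub, AlgHom.commutes]; ring
    rw [this]
    exact sub_mem hc (hσm _ hc)
  let g : A → m := fun a => ⟨a - σ a, hgm a⟩
  let t : Set m.Cotangent := Set.range fun a => m.toCotangent (g a)
  obtain ⟨b, hbt, hbspan, hbli⟩ := exists_linearIndependent (IsLocalRing.ResidueField A) t
  haveI : Finite b := hbli.finite
  obtain ⟨d, ⟨e⟩⟩ := Finite.exists_equiv_fin b
  choose a ha using fun i : Fin d => hbt (e.symm i).2
  refine ⟨d, fun i => g (a i), ?_, ?_⟩
  swap
  · have := hbli.comp _ e.symm.injective
    convert this using 1
    funext i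
    exact ha i
  · set J : Ideal A := Ideal.span (Set.range fun i : Fin d => (g (a i) : A)) with hJ
    have hJI : J ≤ I := by
      rw [hJ, Ideal.span_le]
      rintro _ ⟨i, rfl⟩
      exact hone _
    refine le_antisymm hJI ?_
    refine Submodule.le_of_le_smul_of_le_jacobson_bot (IsNoetherian.noetherian I)
      (IsLocalRing.maximalIdeal_le_jacobson _) ?_
    rw [hI, Ideal.span_le]
    rintro _ ⟨x, rfl⟩
    have hmem : m.toCotangent (g x) ∈ Submodule.span (IsLocalRing.ResidueField A) b :=
      hbspan ▸ Submodule.subset_span ⟨x, rfl⟩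
    have hb' : b = Set.range fun i => m.toCotangent (g (a i)) := by
      ext v
      constructor
      · intro hv
        exact ⟨e ⟨v, hv⟩, (ha _).trans (by simp)⟩
      · rintro ⟨i, rfl⟩
        show m.toCotangent (g (a i)) ∈ b
        have h' := ha i; simp only at h'; rw [h']; exact (e.symm i).2
    rw [hb', Submodule.mem_span_range_iff_exists_fun] at hmem
    obtain ⟨c, hc⟩ := hmem
    choose c' hc' using fun i => hres (c i)
    have hc'' : m.toCotangent (∑ i, algebraMap k A (c' i) • g (a i)) = m.toCotangent (g x) := by
      rw [← hc, map_sum]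
      refine Finset.sum_congr rfl fun i _ => ?_
      rw [map_smul, ← hc' i, IsScalarTower.algebraMap_apply k A (IsLocalRing.ResidueField A)]
      exact (IsScalarTower.algebraMap_smul (IsLocalRing.ResidueField A) (algebraMap k A (c' i)) _).symm
    have hr := (Ideal.toCotangent_eq _).1 hc''.symm
    set r : A := ((g x : m) : A) - ((∑ i, algebraMap k A (c' i) • g (a i) : m) : A) with hrdef
    have hsum0 : ∀ y : A, ∑ j ∈ Finset.range n, (σ ^ j) (y - σ y) = 0 := by
      intro y
      simp only [map_sub, AlgHom.coe_pow]
      simp_rw [← Function.iterate_succ_apply (⇑σ) _ y]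
      rw [Finset.sum_range_sub' (fun j => (⇑σ)^[j] y)]
      simp [hσ]
    have hr0 : ∑ j ∈ Finset.range n, (σ ^ j) r = 0 := by
      have hcoe : r = (x - σ x) - ∑ i, algebraMap k A (c' i) * (a i - σ (a i)) := by
        simp [hrdef, g, Algebra.smul_def]
      rw [hcoe]
      simp only [map_sub, map_sum, map_mul, AlgHom.commutes, Finset.sum_sub_distrib]
      rw [← Finset.sum_sub_distrib]
      simp only [← map_sub]
      rw [hsum0, zero_sub, neg_eq_zero, Finset.sum_comm]
      refine Finset.sum_eq_zero fun i _ => ?_
      simp only [← map_sub, ← mul_sub, ← Finset.mul_sum, hsum0, mul_zero]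
    have hu : IsUnit ((n : ℕ) : A) := by
      have := (isUnit_iff_ne_zero.2 hn).map (algebraMap k A)
      rwa [map_natCast] at this
    have hnr : (n : A) * r ∈ m * I := by
      have h2 : ∑ j ∈ Finset.range n, (r - (σ ^ j) r) = (n : A) * r := by
        rw [Finset.sum_sub_distrib, hr0, sub_zero, Finset.sum_const, Finset.card_range, nsmul_eq_mul]
      rw [← h2]
      exact Ideal.sum_mem _ fun j _ => hm2 r hr j
    have hrI : r ∈ m * I := (Ideal.unit_mul_mem_iff_mem _ hu).1 hnr
    show x - σ x ∈ J ⊔ m • I
    have hsplit : x - σ x = ((∑ i, algebraMap k A (c' i) • g (a i) : m) : A) + r := by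
      simp [hrdef, g]
    rw [hsplit]
    refine add_mem (Submodule.mem_sup_left ?_) (Submodule.mem_sup_right hrI)
    rw [AddSubmonoidClass.coe_finset_sum]
    exact Ideal.sum_mem _ fun i _ => J.mul_mem_left _ (Ideal.subset_span ⟨i, rfl⟩)

end Groth.Agent.S18399
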