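import Groth.Statements.S1840
import Groth.Agent.CycLib.Det
import Mathlib.LinearAlgebra.ExteriorPower.Basis

set_option autoImplicit false
open Groth.Agent
universe u v
open CycDet

namespace Groth.Agent.S1840

/-- Let M be a finite-dimensional vector space over the residue field κ of a local ring R, viewed as an
R-module. There is a κ-linear isomorphism from det_κ(M) to the top exterior power of M sending the
symbol of an admissible tuple (e₁, …, e_l) to e₁ ∧ … ∧ e_l. -/
theorem result (R : Type u) [CommRing R] [IsLocalRing R] (M : Type v) [AddCommGroup M] [Module R M] [Module (IsLocalRing.ResidueField R) M] [IsScalarTower R (IsLocalRing.ResidueField R) M] [Module.Finite (IsLocalRing.ResidueField R) M] : ∃ Φ : CycDet.Det R M ≃ₗ[IsLocalRing.ResidueField R] (⋀[IsLocalRing.ResidueField R]^((Module.length R M).toNat) M), ∀ e : CycDet.Adm R M (Module.length R M).toNat, Φ (CycDet.symbol R M e) = exteriorPower.ιMulti (IsLocalRing.ResidueField R) ((Module.length R M).toNat) e.1 := by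
  classical
  have hres : ∀ (r : R) (m : M), r • m = IsLocalRing.residue R r • m := fun r m =>
    (IsScalarTower.algebraMap_smul (IsLocalRing.ResidueField R) r m).symm
  have hfin : Module.length R M = Module.finrank (IsLocalRing.ResidueField R) M := by
    rw [← Module.length_eq_finrank]
    exact Module.length_eq_of_surjective IsLocalRing.residue_surjective
  suffices ∀ l, (Module.length R M).toNat = l → ∃ Φ : CycDet.DetOfLen R M l ≃ₗ[IsLocalRing.ResidueField R]
      (⋀[IsLocalRing.ResidueField R]^l M), ∀ e : CycDet.Adm R M l,
      Φ (CycLib.cls e) = exteriorPower.ιMulti (IsLocalRing.ResidueField R) l e.1 from this _ rfl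
  intro l hl
  have hlM : Module.length R M = l := by rw [← hl, hfin, ENat.toNat_natCast]
  have hzero : ∀ (v : Fin l → M) (a : Fin l), v a ∈ CycDet.spanBefore R M v a →
      exteriorPower.ιMulti (IsLocalRing.ResidueField R) l v = 0 := by
    intro v a ha
    refine AlternatingMap.map_linearDependent _ _ fun hli => ?_
    exact hli.notMem_span_image (s := {j : Fin l | (j : ℕ) < a}) (lt_irrefl (a : ℕ))
      (Submodule.span_le_restrictScalars R (IsLocalRing.ResidueField R) _ ha)
  obtain ⟨Φ, hΦ⟩ := CycLib.exists_lift (R := R) (M := M) (l := l)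
    (fun e => exteriorPower.ιMulti (IsLocalRing.ResidueField R) l e.1) (fun e a ha => hzero e.1 a ha)
    (fun e e' a c hj hd => by
      have he : e.1 = Function.update e'.1 a
          (IsLocalRing.residue R (c : R) • e'.1 a + (e.1 a - (c : R) • e'.1 a)) := by
        funext j
        rcases eq_or_ne j a with rfl | h
        · rw [Function.update_self, ← hres, add_sub_cancel]
        · rw [Function.update_of_ne h, hj j h]
      conv_lhs => rw [he]
      rw [AlternatingMap.map_update_add, AlternatingMap.map_update_smul, Function.update_eq_self,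
        hzero (Function.update e'.1 a (e.1 a - (c : R) • e'.1 a)) a ?_, add_zero]
      rw [Function.update_self, CycLib.spanBefore_congr (e' := e.1) fun j hja => ?_]
      · exact hd
      · have hne : j ≠ a := Fin.ne_of_val_ne hja.ne
        rw [Function.update_of_ne hne, hj j hne])
    (fun e e' a b hab _ he' => by
      rw [he', AlternatingMap.map_swap _ _ (Fin.ne_of_val_ne (by omega)), add_neg_cancel])
  obtain ⟨C, hC⟩ := CycLib.exists_equiv (R := R) l M hlM
  have hfr : Module.finrank (IsLocalRing.ResidueField R) M = l := by
    rw [← hl, hfin, ENat.toNat_natCast]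
  let B := Module.finBasisOfFinrankEq (IsLocalRing.ResidueField R) M hfr
  have hadm : CycDet.IsAdmissible R M B := fun i r hr => by
    rw [hres, (IsLocalRing.residue_eq_zero_iff r).mpr hr, zero_smul]
    exact zero_mem _
  let eB : CycDet.Adm R M l := ⟨B, hadm⟩
  have hne : exteriorPower.ιMulti (IsLocalRing.ResidueField R) l B ≠ 0 := fun h0 => by
    have h := congrArg (exteriorPower.alternatingMapLinearEquiv B.det) h0
    rw [exteriorPower.alternatingMapLinearEquiv_apply_ιMulti, map_zero, Module.Basis.det_self] at h
    exact one_ne_zero h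
  have hs : CycLib.Strict R (eB.1) := fun a ha => hne (hzero B a ha)
  have hinj : Function.Injective Φ := by
    refine LinearMap.ker_eq_bot.mp (LinearMap.ker_eq_bot'.mpr fun z hz => ?_)
    obtain ⟨r, rfl⟩ := CycLib.exists_smul_cls hlM eB hs z
    rw [map_smul, hΦ, smul_eq_zero] at hz
    rw [hz.resolve_right hne, zero_smul]
  have hone : Module.finrank (IsLocalRing.ResidueField R) (⋀[IsLocalRing.ResidueField R]^l M) = 1 := by
    rw [exteriorPower.finrank_eq, hfr, Nat.choose_self]
  have hsurj : Function.Surjective Φ := fun w => by
    obtain ⟨r, hr⟩ := exists_smul_eq_of_finrank_eq_one hone hne w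
    exact ⟨r • CycLib.cls eB, by rw [map_smul, hΦ]; exact hr⟩
  exact ⟨LinearEquiv.ofBijective Φ ⟨hinj, hsurj⟩, fun e => hΦ e⟩

end Groth.Agent.S1840
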