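import Groth.Statements.S18402
import Groth.Agent.Pi1X.FEtBasic
import Mathlib.AlgebraicGeometry.Geometrically.Irreducible
import Mathlib.AlgebraicGeometry.Morphisms.UniversallyOpen

set_option autoImplicit false
universe u
open Pi1

namespace Groth.Agent.S18402

open AlgebraicGeometry CategoryTheory CategoryTheory.Limits in
/-- Let X be an irreducible scheme and π : W ⟶ X a flat morphism whose fibre over every field-valued
point of X is irreducible (so every fibre is geometrically irreducible and π is surjective). Then
for every finite étale cover Z of X with Z connected, the base change of Z along π is connected.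
Ranging over all finite étale covers of X, this says that the monodromy group of each cover (the
image of the fundamental group in the permutations of a geometric fibre) is unchanged by pullback
along π. The published statement asserts that equality of monodromy groups, for generically finite,
generically étale covers between irreducible algebraic stacks. -/
theorem result {X W : Scheme.{u}}
    [IrreducibleSpace X] (π : W ⟶ X) [Flat π] [GeometricallyIrreducible π]
    (Z : FEt.Cat X) [ConnectedSpace Z.left] :
    ConnectedSpace ↥(pullback Z.hom π) := by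
  let g : Z.left ⟶ X := Z.hom
  haveI : IsFinite g := Z.prop.1
  haveI : Etale g := Z.prop.2
  show ConnectedSpace ↥(pullback g π)
  let j := pullback.fst g π
  haveI : Flat j := MorphismProperty.pullback_fst g π inferInstance
  haveI : GeometricallyIrreducible j := inferInstance
  haveI : Surjective j := inferInstance
  have hjg : GeneralizingMap j := Flat.generalizingMap j
  have hgg : GeneralizingMap g := Flat.generalizingMap g
  have hfib : ∀ z, _root_.IsPreconnected (j ⁻¹' {z}) := fun z => by
    rw [← j.range_fiberι, ← Set.image_univ]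
    exact ((IrreducibleSpace.isIrreducible_univ _).image _ (j.fiberι _).continuous.continuousOn).isPreirreducible.isPreconnected
  obtain ⟨z₀⟩ := (inferInstance : Nonempty Z.left)
  obtain ⟨p₀, -⟩ := j.surjective z₀
  haveI : Nonempty ↥(pullback g π) := ⟨p₀⟩
  refine connectedSpace_iff_clopen.2 ⟨inferInstance, fun C hC => ?_⟩
  have hsat : ∀ p p', j p = j p' → p ∈ C → p' ∈ C := fun p p' he hp =>
    (hfib (j p)).subset_isClopen hC ⟨p, rfl, hp⟩ he.symm
  have hgen : ∀ z z' : Z.left, z' ⤳ z → (z ∈ j '' C ↔ z' ∈ j '' C) := by
    intro z z' h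
    obtain ⟨p, rfl⟩ := j.surjective z
    obtain ⟨p', hp', rfl⟩ := hjg h
    constructor
    · rintro ⟨q, hq, he⟩
      exact ⟨p', hp'.mem_open hC.2 (hsat q p he hq), rfl⟩
    · rintro ⟨q, hq, he⟩
      exact ⟨p, hp'.mem_closed hC.1 (hsat q p' he hq), rfl⟩
  have hclosed : ∀ T : Set Z.left, (∀ z z' : Z.left, z' ⤳ z → (z ∈ T ↔ z' ∈ T)) → IsClosed T := by
    intro T hT
    have hfin : (g ⁻¹' {genericPoint X}).Finite := IsFinite.finite_preimage_singleton g _
    have : T = ⋃ ξ ∈ g ⁻¹' {genericPoint X} ∩ T, closure {ξ} := by
      ext z
      simp only [Set.mem_iUnion]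
      constructor
      · intro hz
        obtain ⟨ξ, hξ, hξg⟩ := hgg (genericPoint_specializes (g z))
        exact ⟨ξ, ⟨hξg, (hT z ξ hξ).1 hz⟩, specializes_iff_mem_closure.1 hξ⟩
      · rintro ⟨ξ, ⟨-, hξ⟩, hz⟩
        exact (hT z ξ (specializes_iff_mem_closure.2 hz)).2 hξ
    rw [this]
    exact (hfin.inter_of_left T).isClosed_biUnion fun _ _ => isClosed_closure
  have hG : IsClopen (j '' C) :=
    ⟨hclosed _ hgen, isClosed_compl_iff.1 (hclosed _ fun z z' h => not_congr (hgen z z' h))⟩
  have hCeq : C = j ⁻¹' (j '' C) := Set.ext fun p =>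
    ⟨fun hp => ⟨p, hp, rfl⟩, fun ⟨q, hq, he⟩ => hsat q p he hq⟩
  rcases isClopen_iff.1 hG with h | h
  · left
    rw [hCeq, h, Set.preimage_empty]
  · right
    rw [hCeq, h, Set.preimage_univ]

end Groth.Agent.S18402
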