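import Groth.Statements.S18405
import Groth.Agent.CubicLib.HesseConv
import Mathlib.Analysis.Complex.Polynomial.Basic

set_option autoImplicit false
universe u
open Cubic

namespace Groth.Agent.S18405

open MvPolynomial in
/-- Let f be a nonzero homogeneous cubic in three variables over ℂ whose plane curve is smooth (at every
nonzero zero of f some partial derivative is nonzero), and let A be an invertible matrix whose
linear substitution X_i ↦ Σ_j A_ij X_j multiplies f by a constant, so that v ↦ A·v is a projective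
automorphism of the curve. If A·v is proportional to v for every flex v of the curve (every nonzero
zero v of f through which some line meets the curve with multiplicity three: there is w linearly
independent from v with f(v + t·w) = t³·f(w) for all t), then A is a scalar matrix: the projective
automorphisms of a smooth plane cubic act faithfully on its flexes. -/
theorem result (f : MvPolynomial (Fin 3) ℂ) (hf : f.IsHomogeneous 3)
    (hf0 : f ≠ 0) (hsm : ∀ v : Fin 3 → ℂ, v ≠ 0 → eval v f = 0 → ∃ i : Fin 3, eval v (pderiv i f) ≠ 0)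
    (A : Matrix (Fin 3) (Fin 3) ℂ) (hA : IsUnit A.det)
    (hAf : ∃ c : ℂ, aeval (fun i : Fin 3 => ∑ j : Fin 3, C (A i j) * X j) f = C c * f)
    (hfix : ∀ v : Fin 3 → ℂ, v ≠ 0 → eval v f = 0 →
      (∃ w : Fin 3 → ℂ, LinearIndependent ℂ ![v, w] ∧ ∀ t : ℂ, eval (v + t • w) f = t ^ 3 * eval w f) →
      ∃ d : ℂ, A.mulVec v = d • v) :
    ∃ c : ℂ, A = c • (1 : Matrix (Fin 3) (Fin 3) ℂ) := by
  obtain ⟨E, c, k, hc, hk, hE, hflex⟩ := Groth.Agent.CubicLib.exists_hesse_coords f hf hsm
  let B : (Fin 3 → ℂ) →ₗ[ℂ] (Fin 3 → ℂ) := E.symm.toLinearMap ∘ₗ Matrix.toLin' A ∘ₗ E.toLinearMap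
  have key : ∀ P : Fin 3 → ℂ, P ≠ 0 →
      (∃ γ d : ℂ, γ ^ 3 = 1 ∧ (P = d • ![0, 1, -γ] ∨ P = d • ![-γ, 0, 1] ∨ P = d • ![1, -γ, 0])) →
      ∃ d : ℂ, B P = d • P := by
    intro P hP hnine
    obtain ⟨h0, hw⟩ := (hflex P hP).2 hnine
    obtain ⟨d, hd⟩ := hfix (E P) (by simpa using hP) h0 hw
    exact ⟨d, by simp [B, hd]⟩
  obtain ⟨d, hd⟩ := Groth.Agent.CubicLib.scalar_of_fix (B := B) fun γ hγ =>
    ⟨key _ (fun h => by simpa using congrFun h 1) ⟨γ, 1, hγ, Or.inl (one_smul _ _).symm⟩,
      key _ (fun h => by simpa using congrFun h 2) ⟨γ, 1, hγ, Or.inr (Or.inl (one_smul _ _).symm)⟩,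
      key _ (fun h => by simpa using congrFun h 0) ⟨γ, 1, hγ, Or.inr (Or.inr (one_smul _ _).symm)⟩⟩
  refine ⟨d, Matrix.toLin'.injective (LinearMap.ext fun x => ?_)⟩
  have := congrArg E (hd (E.symm x))
  simpa [B] using this

end Groth.Agent.S18405
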