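import Groth.Statements.S18406
import Groth.Agent.CubicLib.HesseConv
import Mathlib.Analysis.Complex.Polynomial.Basic

set_option autoImplicit false
universe u
open Cubic

namespace Groth.Agent.S18406

open MvPolynomial in
/-- Let f be a nonzero homogeneous cubic in three variables over ℂ whose plane curve is smooth (at every
nonzero zero of f some partial derivative is nonzero), and let v and v′ be flexes of the curve, that
is nonzero zeros of f through each of which some line meets the curve with multiplicity three (there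
is a vector w linearly independent from the point with f(point + t·w) = t³·f(w) for every t). Then a
projective automorphism of the curve carries the point of v to the point of v′: there are an
invertible matrix A whose substitution X_i ↦ Σ_j A_ij X_j multiplies f by a constant c, and a
constant d with A·v = d·v′. (The published statement gives more: a subgroup of the projective
automorphism group isomorphic to C₃ × C₃ acts simply transitively on the nine flexes; only
transitivity is stated here.) -/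
theorem result (f : MvPolynomial (Fin 3) ℂ) (hf : f.IsHomogeneous 3)
    (hf0 : f ≠ 0) (hsm : ∀ v : Fin 3 → ℂ, v ≠ 0 → eval v f = 0 → ∃ i : Fin 3, eval v (pderiv i f) ≠ 0)
    (v v' : Fin 3 → ℂ) (hv : v ≠ 0) (hv' : v' ≠ 0) (hfv : eval v f = 0) (hfv' : eval v' f = 0)
    (hflex : (∃ w : Fin 3 → ℂ, LinearIndependent ℂ ![v, w] ∧ ∀ t : ℂ, eval (v + t • w) f = t ^ 3 * eval w f))
    (hflex' : (∃ w : Fin 3 → ℂ, LinearIndependent ℂ ![v', w] ∧ ∀ t : ℂ, eval (v' + t • w) f = t ^ 3 * eval w f)) :
    ∃ (A : Matrix (Fin 3) (Fin 3) ℂ) (c d : ℂ), IsUnit A.det ∧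
      aeval (fun i : Fin 3 => ∑ j : Fin 3, C (A i j) * X j) f = C c * f ∧ A.mulVec v = d • v' := by
  obtain ⟨E, c, k, hc, hk, hE, hdict⟩ := Groth.Agent.CubicLib.exists_hesse_coords f hf hsm
  have key : ∀ u : Fin 3 → ℂ, u ≠ 0 → eval u f = 0 →
      (∃ w : Fin 3 → ℂ, LinearIndependent ℂ ![u, w] ∧ ∀ t : ℂ, eval (u + t • w) f = t ^ 3 * eval w f) →
      ∃ (P : (Fin 3 → ℂ) ≃ₗ[ℂ] (Fin 3 → ℂ)) (d : ℂ), d ≠ 0 ∧
        (∀ x, Groth.Agent.CubicLib.hesse k (P x) = Groth.Agent.CubicLib.hesse k x) ∧
        u = d • E (P ![0, 1, -1]) := by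
    intro u hu h0 hw
    obtain ⟨P, d, hP, hPd⟩ := Groth.Agent.CubicLib.exists_move (k := k)
      ((hdict (E.symm u) (by simpa using hu)).1 (by simpa using ⟨h0, hw⟩))
    refine ⟨P, d, fun hd => hu ?_, hP, ?_⟩
    · simpa [hd] using hPd
    · rw [← map_smul, ← hPd, LinearEquiv.apply_symm_apply]
  obtain ⟨P, d, hd, hP, rfl⟩ := key v hv hfv hflex
  obtain ⟨P', d', hd', hP', rfl⟩ := key v' hv' hfv' hflex'
  let A : (Fin 3 → ℂ) ≃ₗ[ℂ] (Fin 3 → ℂ) := ((E.symm.trans P.symm).trans P').trans E
  refine ⟨LinearMap.toMatrix' A.toLinearMap, 1, d / d', ?_, ?_, ?_⟩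
  · rw [LinearMap.det_toMatrix']; exact LinearEquiv.isUnit_det' A
  · rw [Groth.Agent.CubicLib.substitution_eq_iff]
    intro x
    have hPs : Groth.Agent.CubicLib.hesse k (P.symm (E.symm x)) = Groth.Agent.CubicLib.hesse k (E.symm x) := by
      rw [← hP (P.symm (E.symm x)), LinearEquiv.apply_symm_apply]
    rw [← Matrix.toLin'_apply, Matrix.toLin'_toMatrix', LinearEquiv.coe_toLinearMap, one_mul]
    simp only [A, LinearEquiv.trans_apply]
    rw [hE, hP', hPs, ← hE, LinearEquiv.apply_symm_apply]
  · rw [← Matrix.toLin'_apply, Matrix.toLin'_toMatrix', LinearEquiv.coe_toLinearMap, map_smul]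
    simp only [A, LinearEquiv.trans_apply, LinearEquiv.symm_apply_apply, smul_smul]
    rw [div_mul_cancel₀ d hd']

end Groth.Agent.S18406
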