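import Groth.Statements.S18413
import Groth.Agent.S0002
import Groth.Agent.S0388
import Groth.Agent.S0458
import Groth.Agent.S1025
import Groth.Agent.S1026
import Groth.Agent.S2768
import Groth.Agent.FibDim.BaseField
import Groth.Agent.FibDim.Basic
import Groth.Agent.CurveGor.GenusFormula
import Groth.Agent.Lib.ZMTIso
import Groth.Agent.PicClLib.Basic
import Groth.Agent.CurveCohLib.Rank
import Groth.Agent.H26.FibModel
import Groth.Agent.KZ.LFRes
import Groth.Agent.QCoh.DevissageP

set_option autoImplicit false
set_option backward.isDefEq.respectTransparency false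
set_option backward.isDefEq.respectTransparency.types false
set_option linter.style.haveILetI false
set_option maxHeartbeats 1000000
universe u
open CategoryTheory AlgebraicGeometry
open Curves

namespace Groth.Agent.S18413

open Limits

/-- The residue field at a closed point over an algebraically closed field. -/
theorem isAlgClosed_residueField {k : Type u} [Field k] [IsAlgClosed k] {S : Scheme.{u}}
    (g : S ⟶ Spec (CommRingCat.of k)) [LocallyOfFiniteType g] (s : S) (hs : IsClosed ({s} : Set S)) :
    IsAlgClosed (S.residueField s) := by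
  haveI : IsClosedImmersion (S.fromSpecResidueField s) :=
    IsClosedImmersion.of_isPreimmersion _ (by rw [Scheme.range_fromSpecResidueField]; exact hs)
  let h : Spec (S.residueField s) ⟶ Spec (CommRingCat.of k) := S.fromSpecResidueField s ≫ g
  haveI : LocallyOfFiniteType h := inferInstance
  let φ := Spec.preimage h
  have hft : φ.hom.FiniteType :=
    (HasRingHomProperty.Spec_iff (P := @LocallyOfFiniteType)).1 (by rw [Spec.map_preimage]; infer_instance)
  letI : Algebra k (S.residueField s) := φ.hom.toAlgebra
  haveI : Algebra.FiniteType k (S.residueField s) := hft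
  haveI : Module.Finite k (S.residueField s) := finite_of_finite_type_of_isJacobsonRing k _
  exact IsAlgClosed.of_ringEquiv k (S.residueField s)
    (RingEquiv.ofBijective (algebraMap k (S.residueField s)) IsAlgClosed.algebraMap_bijective_of_isIntegral)

section Curve

variable {k : Type u} [Field k] {X S : Scheme.{u}} (π : X ⟶ S) (g : S ⟶ Spec (CommRingCat.of k))
  [SmoothOfRelativeDimension 1 g] [SmoothOfRelativeDimension 2 (π ≫ g)] [Flat π]

include g in
/-- A closed point of the curve is not the generic point. -/
theorem genericPoint_ne [IrreducibleSpace S] {s : S} (hs : IsClosed ({s} : Set S)) : genericPoint S ≠ s := by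
  intro h
  haveI : Smooth g := SmoothOfRelativeDimension.smooth 1 g
  have hu : ({s} : Set S) = Set.univ := by
    rw [← hs.closure_eq, ← h]
    exact genericPoint_spec S
  haveI : Subsingleton S := ⟨fun a b => by
    have ha : a ∈ ({s} : Set S) := hu ▸ Set.mem_univ a
    have hb : b ∈ ({s} : Set S) := hu ▸ Set.mem_univ b
    exact ha.trans hb.symm⟩
  have h1 : FlatMor.fibreDimAt g s = ((1 : ℕ) : WithBot ℕ∞) := S2768.result 1 g s
  rw [FibDim.fibreDimAt_eq_rd g fun z _ _ => Subsingleton.elim z s] at h1
  have h2 : ((FibDim.rd g s : ℕ∞) : WithBot ℕ∞) ≤ topologicalKrullDim ↥S := by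
    rw [FibDim.topologicalKrullDim_eq_iSup_rd g]
    exact le_iSup (fun x : S => ((FibDim.rd g x : ℕ∞) : WithBot ℕ∞)) s
  rw [h1] at h2
  haveI : Subsingleton (TopologicalSpace.IrreducibleCloseds ↥S) :=
    ⟨fun A B => TopologicalSpace.IrreducibleCloseds.ext
      ((Subsingleton.eq_univ_of_nonempty A.2.nonempty).trans (Subsingleton.eq_univ_of_nonempty B.2.nonempty).symm)⟩
  have h3 : topologicalKrullDim ↥S ≤ 0 := Order.krullDim_nonpos_of_subsingleton
  exact absurd (h2.trans h3) (by norm_num)

include g in
/-- The closed fibres are at most one-dimensional. -/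
theorem dim_fiber_le [IrreducibleSpace S] {s : S} (hs : IsClosed ({s} : Set S)) :
    topologicalKrullDim ↥(π.fiber s) ≤ 1 := by
  haveI : Smooth g := SmoothOfRelativeDimension.smooth 1 g
  haveI : Smooth (π ≫ g) := SmoothOfRelativeDimension.smooth 2 (π ≫ g)
  haveI : LocallyOfFiniteType (π ≫ g) := inferInstance
  let h := π ≫ g
  have hpt : ∀ a b : X, h a = h b := fun a b => Subsingleton.elim _ _
  have hle : ∀ z : X, FibDim.rd h z ≤ 2 := fun z => by
    have h1 := FibDim.rd_le_fibreDimAt h (specializes_rfl (x := z)) rfl
    rw [S2768.result 2 h z] at h1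
    exact ENat.natCast_le_natCast.1 (WithBot.coe_le_coe.1 h1)
  have hZ : IsClosed (π ⁻¹' {s}) := hs.preimage π.continuous
  have hlt : ∀ z ∈ π ⁻¹' {s}, FibDim.rd h z ≤ 1 := fun z hz => by
    have hzs : π z = s := hz
    obtain ⟨z', hz', hπ⟩ := Flat.generalizingMap π
      (show genericPoint S ⤳ π z from genericPoint_specializes _)
    have hne : z' ≠ z := fun e => genericPoint_ne g hs (by rw [← hπ, e, hzs])
    have := FibDim.rd_lt h hz' hne (hpt _ _)
    have := hle z'
    omega
  rw [(π.fiberHomeo s).isHomeomorph.topologicalKrullDim_eq]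
  let y : Spec (CommRingCat.of k) := Classical.arbitrary _
  have hfull : π ⁻¹' {s} ∩ h ⁻¹' {y} = π ⁻¹' {s} :=
    Set.inter_eq_left.2 fun z _ => Subsingleton.elim (h z) y
  rw [← hfull, FibDim.dim_closed_inter_eq_iSup h y hZ]
  exact iSup_le fun z => WithBot.coe_le_coe.2 (ENat.natCast_le_natCast.2 (hlt z.1 z.2.1))

end Curve

section Fibre

variable {X S : Scheme.{u}} (π : X ⟶ S) [IsProper π] (s : S)

/-- The `κ(s)`-structure of the fibre. -/
@[reducible] noncomputable def fibreOver : (π.fiber s).Over (Spec (CommRingCat.of (S.residueField s))) :=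
  ⟨π.fiberToSpecResidueField s⟩

theorem isProper_fibre :
    letI := fibreOver π s
    IsProper (π.fiber s ↘ Spec (CommRingCat.of (S.residueField s))) :=
  MorphismProperty.pullback_snd (P := @IsProper) _ _ ‹IsProper π›

theorem betti_structureModule (i : ℕ) :
    letI := fibreOver π s
    PerfAux.betti π (Coh.structureModule X) s i =
      Module.finrank (S.residueField s) (Coh.HH (π.fiber s) (Coh.structureModule (π.fiber s)) i) := by
  letI := fibreOver π s
  obtain ⟨e⟩ := PicClLib.nonempty_pullback_structureModule (π.fiberι s)
  exact (CurveCohLib.hhEquiv (k := S.residueField s) e i).finrank_eq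

theorem betti_zero_eq_one [IsAlgClosed (S.residueField s)] [AlgebraicGeometry.IsReduced (π.fiber s)]
    [ConnectedSpace ↥(π.fiber s)] : PerfAux.betti π (Coh.structureModule X) s 0 = 1 := by
  letI := fibreOver π s
  haveI := isProper_fibre π s
  rw [betti_structureModule π s 0, (CurveGor.finrank_globalFunctions (S.residueField s)).2]
  exact Nat.card_unique

theorem one_le_betti_zero [ConnectedSpace ↥(π.fiber s)] :
    1 ≤ PerfAux.betti π (Coh.structureModule X) s 0 := by
  letI := fibreOver π s
  haveI := isProper_fibre π s
  haveI := CurveCohLib.isNoetherian_of_proper (k := S.residueField s) (X := π.fiber s)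
  rw [betti_structureModule π s 0]
  haveI := CurveCohLib.finite_HH (k := S.residueField s)
    (QCoh.isCoh_structureModule' (X := π.fiber s)) 0
  haveI : Nonempty (⊤ : (π.fiber s).Opens) := ⟨⟨Classical.arbitrary _, trivial⟩⟩
  let e : Coh.HH (π.fiber s) (Coh.structureModule (π.fiber s)) 0 ≃+ Γ(π.fiber s, ⊤) :=
    Sheaf.H.equiv₀ (Coh.toAb (Coh.structureModule (π.fiber s))) isTerminalTop
  haveI : Nontrivial (Coh.HH (π.fiber s) (Coh.structureModule (π.fiber s)) 0) := e.toEquiv.nontrivial
  exact Module.finrank_pos

theorem betti_eq_zero_of_dim (hd : topologicalKrullDim ↥(π.fiber s) ≤ 1) (i : ℕ) (hi : 2 ≤ i) :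
    PerfAux.betti π (Coh.structureModule X) s i = 0 := by
  letI := fibreOver π s
  haveI := isProper_fibre π s
  haveI := CurveCohLib.isNoetherian_of_proper (k := S.residueField s) (X := π.fiber s)
  haveI : Subsingleton (Coh.HH (π.fiber s) (Coh.structureModule (π.fiber s)) i) :=
    S0458.result (X := (π.fiber s).toPresheafedSpace.carrier) 1 (by exact_mod_cast hd)
      (Coh.toAb (Coh.structureModule (π.fiber s))) i hi
  rw [betti_structureModule π s i]
  exact Module.finrank_zero_of_subsingleton

end Fibre

open CategoryTheory AlgebraicGeometry in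
/-- Let k be an algebraically closed field, X a k-scheme that is smooth of relative dimension 2 and
proper over k (a smooth proper surface), S an irreducible k-scheme smooth of relative dimension 1 (a
smooth curve), and π : X → S a proper flat k-morphism with O_S → π_* O_X bijective on every open
subset of S. For a closed point s of S whose scheme-theoretic fibre X_s is reduced: (a) H^0(X_s,
O_{X_s}) is one-dimensional over κ(s), and (b) the arithmetic genus dim H^1(X_s, O_{X_s}) equals
that of the generic fibre X_η over κ(η). -/
theorem result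
    {k : Type u} [Field k] [IsAlgClosed k] {X S : Scheme.{u}}
    (π : X ⟶ S) (g : S ⟶ Spec (CommRingCat.of k))
    [SmoothOfRelativeDimension 1 g] [IrreducibleSpace S]
    [SmoothOfRelativeDimension 2 (π ≫ g)] [IsProper (π ≫ g)]
    [IsProper π] [Flat π]
    (hO : ∀ U : S.Opens, Function.Bijective (π.app U))
    (s : S) (hs : IsClosed ({s} : Set S)) [AlgebraicGeometry.IsReduced (π.fiber s)] :
    PerfAux.betti π (Coh.structureModule X) s 0 = 1 ∧
      PerfAux.betti π (Coh.structureModule X) s 1 =
        PerfAux.betti π (Coh.structureModule X) (genericPoint S) 1 := by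
  classical
  haveI : Smooth g := SmoothOfRelativeDimension.smooth 1 g
  haveI : IsLocallyNoetherian S := LocallyOfFiniteType.isLocallyNoetherian g
  haveI : IsLocallyNoetherian X := LocallyOfFiniteType.isLocallyNoetherian π
  haveI : LocallyOfFinitePresentation π :=
    LocallyOfFinitePresentation.iff_locallyOfFiniteType.2 inferInstance
  haveI : GeometricallyConnected π := by
    haveI := Lib.ZMTIso.isIso_fromNormalization π hO
    rw [← π.toNormalization_fromNormalization]
    exact (MorphismProperty.cancel_right_of_respectsIso @GeometricallyConnected _ _).2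
      (S0388.result π).1
  haveI := isAlgClosed_residueField g s hs
  have hFP : CohB1.IsFP (Coh.structureModule X) := KZ.LFRes.isFP_of_isCoh QCoh.isCoh_structureModule'
  have hfl : FlatMod.IsFlatOver π (Coh.structureModule X) := H26.FibModel.isFlatOver_structureModule π
  have hsp : genericPoint S ⤳ s := genericPoint_specializes s
  have hmono : ∀ i, PerfAux.betti π (Coh.structureModule X) (genericPoint S) i ≤
      PerfAux.betti π (Coh.structureModule X) s i := fun i =>
    Nat.lt_succ_iff.1 (hsp.mem_open
      (S1025.result π _ hFP hfl i (PerfAux.betti π (Coh.structureModule X) s i + 1))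
      (Nat.lt_succ_self _) :)
  have h0 := betti_zero_eq_one π s
  have h0η : PerfAux.betti π (Coh.structureModule X) (genericPoint S) 0 = 1 :=
    le_antisymm (h0 ▸ hmono 0) (one_le_betti_zero π _)
  have hzero : ∀ i, 2 ≤ i → PerfAux.betti π (Coh.structureModule X) s i = 0 := fun i hi =>
    betti_eq_zero_of_dim π s (dim_fiber_le π g hs) i hi
  have hchi : ∀ t : S, (∀ i, 2 ≤ i → PerfAux.betti π (Coh.structureModule X) t i = 0) →
      PerfAux.eulerChar π (Coh.structureModule X) t = (PerfAux.betti π (Coh.structureModule X) t 0 : ℤ) -
        PerfAux.betti π (Coh.structureModule X) t 1 := fun t ht => by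
    rw [PerfAux.eulerChar, finsum_eq_sum_of_support_subset _ (s := Finset.range 2) fun i hi => by
      by_contra hne
      rw [Finset.coe_range, Set.mem_Iio, not_lt] at hne
      exact hi (by simp [ht i hne])]
    simp [Finset.sum_range_succ]
    ring
  have hc : PerfAux.eulerChar π (Coh.structureModule X) s =
      PerfAux.eulerChar π (Coh.structureModule X) (genericPoint S) :=
    IsLocallyConstant.apply_eq_of_preconnectedSpace (S1026.result π _ hFP hfl) s (genericPoint S)
  refine ⟨h0, ?_⟩
  rw [hchi s hzero, hchi _ fun i hi => Nat.le_zero.1 ((hmono i).trans (hzero i hi).le), h0, h0η] at hc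
  exact_mod_cast sub_right_injective hc

end Groth.Agent.S18413
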