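import Mathlib
import Groth.Statements.S18416
-- import your own Groth.Agent.* helpers here

set_option autoImplicit false
universe u v w
open CAlg

namespace Groth.Agent.S18416

open TensorProduct

/-- Cutting a smooth algebra by elements whose differentials form a basis gives an étale algebra. -/
lemma etale_quotient_of_basis (C : Type v) (S : Type w) [CommRing C] [CommRing S] [Algebra C S]
    [Algebra.Smooth C S] {κ : Type*} [Finite κ] (g : κ → S) (β : Module.Basis κ S Ω[S⁄C])
    (hβ : ∀ i, β i = KaehlerDifferential.D C S (g i)) :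
    Algebra.Etale C (S ⧸ Ideal.span (Set.range g)) := by
  classical
  set I := Ideal.span (Set.range g) with hI
  have hsurj : Function.Surjective (algebraMap S (S ⧸ I)) := Ideal.Quotient.mk_surjective
  have hker : RingHom.ker (algebraMap S (S ⧸ I)) = I := Ideal.mk_ker
  have hgker : ∀ i, g i ∈ RingHom.ker (algebraMap S (S ⧸ I)) := fun i =>
    hker.symm ▸ Ideal.subset_span ⟨i, rfl⟩
  haveI : Algebra.FormallySmooth C (S ⧸ I) := by
    rw [Algebra.FormallySmooth.iff_split_injection hsurj]
    let ψ : Ω[S⁄C] →ₗ[S] (RingHom.ker (algebraMap S (S ⧸ I))).Cotangent :=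
      β.constr S fun i => (RingHom.ker (algebraMap S (S ⧸ I))).toCotangent ⟨g i, hgker i⟩
    have hkill : I • (⊤ : Submodule S Ω[S⁄C]) ≤ LinearMap.ker ψ := by
      rw [Submodule.smul_le]
      intro r hr x _
      rw [LinearMap.mem_ker, map_smul]
      obtain ⟨y, hy⟩ := Ideal.toCotangent_surjective _ (ψ x)
      rw [← hy, ← map_smul, Ideal.toCotangent_eq_zero, sq]
      exact Ideal.mul_mem_mul (hker.symm ▸ hr) y.2
    let l : (S ⧸ I) ⊗[S] Ω[S⁄C] →ₗ[S] (RingHom.ker (algebraMap S (S ⧸ I))).Cotangent :=
      (Submodule.liftQ _ ψ hkill) ∘ₗ (TensorProduct.quotTensorEquivQuotSMul Ω[S⁄C] I).toLinearMap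
    refine ⟨l, LinearMap.ext fun z => ?_⟩
    obtain ⟨⟨y, hy⟩, rfl⟩ := Ideal.toCotangent_surjective _ z
    have hyI : y ∈ I := hker ▸ hy
    have key : ∀ y (hy : y ∈ I), l (KaehlerDifferential.kerCotangentToTensor C S (S ⧸ I)
        ((RingHom.ker (algebraMap S (S ⧸ I))).toCotangent ⟨y, hker.symm ▸ hy⟩)) =
        (RingHom.ker (algebraMap S (S ⧸ I))).toCotangent ⟨y, hker.symm ▸ hy⟩ := by
      intro y hy
      induction hy using Submodule.span_induction with
      | mem y hy =>
        obtain ⟨i, rfl⟩ := hy
        rw [KaehlerDifferential.kerCotangentToTensor_toCotangent]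
        show Submodule.liftQ _ ψ hkill ((TensorProduct.quotTensorEquivQuotSMul Ω[S⁄C] I) ((Ideal.Quotient.mk I 1) ⊗ₜ _)) = _
        rw [TensorProduct.quotTensorEquivQuotSMul_mk_tmul, one_smul, Submodule.liftQ_apply, ← hβ]
        exact Module.Basis.constr_basis _ _ _ _
      | zero =>
        have h0 : (RingHom.ker (algebraMap S (S ⧸ I))).toCotangent ⟨0, hker.symm ▸ zero_mem I⟩ = 0 := map_zero _
        rw [h0, map_zero, map_zero]
      | add a b ha hb h1 h2 =>
        have := congrArg₂ (· + ·) h1 h2
        simp only [← map_add] at this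
        exact this
      | smul r a ha h1 =>
        have := congrArg (r • ·) h1
        simp only [← LinearMap.map_smul] at this
        exact this
    exact key y hyI
  haveI : Algebra.FormallyUnramified C (S ⧸ I) := by
    rw [Algebra.formallyUnramified_iff]
    refine subsingleton_of_forall_eq 0 fun x => ?_
    obtain ⟨t, rfl⟩ := KaehlerDifferential.mapBaseChange_surjective C S (S ⧸ I) hsurj x
    induction t using TensorProduct.induction_on with
    | zero => simp
    | add a b ha hb => rw [map_add, ha, hb, add_zero]
    | tmul a w =>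
      have : KaehlerDifferential.map C C S (S ⧸ I) w = 0 := by
        have h2 : (KaehlerDifferential.map C C S (S ⧸ I)) = 0 := β.ext fun i => by
          rw [hβ, KaehlerDifferential.map_D, LinearMap.zero_apply,
            show algebraMap S (S ⧸ I) (g i) = 0 from Ideal.Quotient.eq_zero_iff_mem.2 (Ideal.subset_span ⟨i, rfl⟩),
            map_zero]
        rw [h2, LinearMap.zero_apply]
      rw [KaehlerDifferential.mapBaseChange_tmul, this, smul_zero]
  haveI : Algebra.FinitePresentation C (S ⧸ I) :=
    Algebra.FinitePresentation.quotient (Submodule.fg_span (Set.finite_range g))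
  haveI : Algebra.FormallyEtale C (S ⧸ I) :=
    (Algebra.FormallyEtale.iff_formallyUnramified_and_formallySmooth).2 ⟨inferInstance, inferInstance⟩
  exact {}

/-- Differentials of elements of `J` generate modulo `J`. -/
lemma exists_sub_D_mem (C : Type v) (B : Type w) [CommRing C] [CommRing B] [Algebra C B] (J : Ideal B)
    (hsurj : Function.Surjective (algebraMap C (B ⧸ J))) (w : Ω[B⁄C]) :
    ∃ g ∈ J, w - KaehlerDifferential.D C B g ∈ J • (⊤ : Submodule B Ω[B⁄C]) := by
  have hs : Function.Surjective (algebraMap B (B ⧸ J)) := Ideal.Quotient.mk_surjective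
  haveI : Algebra.FormallyUnramified C (B ⧸ J) :=
    Algebra.FormallyUnramified.of_surjective (Algebra.ofId C (B ⧸ J)) hsurj
  obtain ⟨z, hz⟩ := (KaehlerDifferential.exact_kerCotangentToTensor_mapBaseChange C B (B ⧸ J) hs
    ((1 : B ⧸ J) ⊗ₜ w)).1 (Subsingleton.elim _ _)
  obtain ⟨⟨g, hg⟩, rfl⟩ := Ideal.toCotangent_surjective _ z
  rw [KaehlerDifferential.kerCotangentToTensor_toCotangent] at hz
  refine ⟨g, Ideal.Quotient.eq_zero_iff_mem.1 hg, ?_⟩
  have h2 := congrArg (TensorProduct.quotTensorEquivQuotSMul Ω[B⁄C] J) hz
  erw [TensorProduct.quotTensorEquivQuotSMul_mk_tmul, TensorProduct.quotTensorEquivQuotSMul_mk_tmul] at h2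
  rw [one_smul, one_smul] at h2
  exact (Submodule.Quotient.eq _).1 h2.symm

/-- The image of a localised standard basis vector. -/
lemma map_basisSingleOne {B : Type w} [CommRing B] (S : Submonoid B) {M : Type*} [AddCommGroup M] [Module B M]
    {κ : Type w} (l : (κ →₀ B) →ₗ[B] M) (i : κ) :
    LocalizedModule.map S l (((Finsupp.basisSingleOne : Module.Basis κ B (κ →₀ B)).ofIsLocalizedModule (Localization S) S
      (LocalizedModule.mkLinearMap S (κ →₀ B))) i) = LocalizedModule.mkLinearMap S M (l (Finsupp.single i 1)) := by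
  rw [Module.Basis.ofIsLocalizedModule_apply, Finsupp.coe_basisSingleOne, LocalizedModule.mkLinearMap_apply,
    LocalizedModule.map_mk, LocalizedModule.mkLinearMap_apply]

/-- A family generating modulo a prime contains a basis on a neighbourhood of that prime. -/
lemma exists_local_basis {B : Type w} [CommRing B] (P : Ideal B) [P.IsPrime] {M : Type*} [AddCommGroup M]
    [Module B M] [Module.FinitePresentation B M] [Module.Flat B M] {ι : Type w} (v : ι → M)
    (hv : ∀ m, ∃ i, m - v i ∈ P • (⊤ : Submodule B M)) :
    ∃ (f : B) (κ : Type w) (_ : Finite κ) (a : κ → ι), f ∉ P ∧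
      ∃ β : Module.Basis κ (Localization.Away f) (LocalizedModule (Submonoid.powers f) M),
        ∀ i, β i = LocalizedModule.mkLinearMap (Submonoid.powers f) M (v (a i)) := by
  classical
  have hspan : Submodule.span (Localization.AtPrime P)
      (Set.range fun i => LocalizedModule.mkLinearMap P.primeCompl M (v i)) = ⊤ := by
    refine top_le_iff.1 (Submodule.le_of_le_smul_of_le_jacobson_bot (Module.finite_def.1 inferInstance)
      (IsLocalRing.maximalIdeal_le_jacobson _) ?_)
    intro m _
    obtain ⟨⟨w, s⟩, hw⟩ := IsLocalizedModule.surj P.primeCompl (LocalizedModule.mkLinearMap P.primeCompl M) m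
    obtain ⟨i, hi⟩ := hv w
    have h1 : ∀ u ∈ P • (⊤ : Submodule B M), LocalizedModule.mkLinearMap P.primeCompl M u ∈
        IsLocalRing.maximalIdeal (Localization.AtPrime P) •
          (⊤ : Submodule (Localization.AtPrime P) (LocalizedModule P.primeCompl M)) := by
      intro u hu
      induction hu using Submodule.smul_induction_on' with
      | smul a ha y _ =>
        rw [map_smul, ← IsScalarTower.algebraMap_smul (Localization.AtPrime P) a]
        exact Submodule.smul_mem_smul
          ((IsLocalization.AtPrime.to_map_mem_maximal_iff (Localization.AtPrime P) P a).2 ha) trivial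
      | add a _ b _ ha hb => rw [map_add]; exact add_mem ha hb
    have h2 := Submodule.add_mem_sup
      (Submodule.subset_span (R := Localization.AtPrime P)
        (Set.mem_range_self (f := fun j => LocalizedModule.mkLinearMap P.primeCompl M (v j)) i)) (h1 _ hi)
    have key : algebraMap B (Localization.AtPrime P) (s : B) • m = LocalizedModule.mkLinearMap P.primeCompl M w := by
      rw [IsScalarTower.algebraMap_smul]
      exact hw
    rw [← map_add, add_sub_cancel, ← key] at h2
    have hu := IsLocalization.map_units (Localization.AtPrime P) s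
    have h3 := Submodule.smul_mem _ ((hu.unit⁻¹ : (Localization.AtPrime P)ˣ) : Localization.AtPrime P) h2
    rwa [smul_smul, IsUnit.val_inv_mul, one_smul] at h3
  obtain ⟨κ, a, b, hb⟩ := Module.exists_basis_of_span_of_flat (R := Localization.AtPrime P) _ hspan
  haveI : Finite κ := Module.Finite.finite_basis b
  let l : (κ →₀ B) →ₗ[B] M := Finsupp.linearCombination B (v ∘ a)
  have hl : ∀ i, l (Finsupp.single i 1) = v (a i) := fun i => by simp [l]
  let bs : Module.Basis κ (Localization.AtPrime P) (LocalizedModule P.primeCompl (κ →₀ B)) :=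
    Finsupp.basisSingleOne.ofIsLocalizedModule _ P.primeCompl (LocalizedModule.mkLinearMap P.primeCompl (κ →₀ B))
  have hmap : IsLocalizedModule.map P.primeCompl (LocalizedModule.mkLinearMap P.primeCompl (κ →₀ B))
      (LocalizedModule.mkLinearMap P.primeCompl M) l =
      ((bs.equiv b (Equiv.refl κ)).toLinearMap).restrictScalars B := by
    refine IsLocalizedModule.ext P.primeCompl (LocalizedModule.mkLinearMap P.primeCompl (κ →₀ B))
      (IsLocalizedModule.map_units (LocalizedModule.mkLinearMap P.primeCompl M)) ?_
    refine Finsupp.basisSingleOne.ext fun i => ?_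
    rw [LinearMap.comp_apply, LinearMap.comp_apply, IsLocalizedModule.map_apply,
      ← Module.Basis.ofIsLocalizedModule_apply (Localization.AtPrime P) P.primeCompl
        (LocalizedModule.mkLinearMap P.primeCompl (κ →₀ B)),
      LinearMap.restrictScalars_apply, LinearEquiv.coe_coe, Module.Basis.equiv_apply, Equiv.refl_apply, hb,
      Finsupp.coe_basisSingleOne, hl]
  obtain ⟨f, hfP, hf⟩ := Module.FinitePresentation.exists_notMem_bijective l P (Mₚ := LocalizedModule P.primeCompl (κ →₀ B))
    (Nₚ := LocalizedModule P.primeCompl M)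
    (LocalizedModule.mkLinearMap P.primeCompl (κ →₀ B)) (LocalizedModule.mkLinearMap P.primeCompl M)
    (by rw [hmap, LinearMap.coe_restrictScalars]; exact (bs.equiv b (Equiv.refl κ)).bijective)
  refine ⟨f, κ, inferInstance, a, hfP,
    (Finsupp.basisSingleOne.ofIsLocalizedModule (Localization.Away f) (Submonoid.powers f)
      (LocalizedModule.mkLinearMap (Submonoid.powers f) (κ →₀ B))).map (LinearEquiv.ofBijective _ hf), fun i => ?_⟩
  rw [Module.Basis.map_apply, LinearEquiv.ofBijective_apply]
  exact (map_basisSingleOne (Submonoid.powers f) l i).trans (congrArg _ (hl i))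

set_option maxHeartbeats 1000000 in
/-- Let R → C and C → B be smooth ring homomorphisms, J an ideal of B and K the preimage of J in C, and
suppose that C surjects onto A = B/J (so that C/K = B/J = A). Then for every prime x of A there
exist f ∈ B whose image in A does not lie in x and an ideal J₀ of B_f contained in J B_f such that
the composite C → B_f → B_f/J₀ is étale. -/
theorem result (R : Type u) (C : Type v) (B : Type w)
    [CommRing R] [CommRing C] [CommRing B] [Algebra R C] [Algebra C B] [Algebra R B] [IsScalarTower R C B]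
    [Algebra.Smooth R C] [Algebra.Smooth C B] (J : Ideal B)
    (hsurj : Function.Surjective ((Ideal.Quotient.mk J).comp (algebraMap C B)))
    (x : PrimeSpectrum (B ⧸ J)) :
    ∃ f : B, Ideal.Quotient.mk J f ∉ x.asIdeal ∧
      ∃ J₀ : Ideal (Localization.Away f), J₀ ≤ J.map (algebraMap B (Localization.Away f)) ∧
        ((Ideal.Quotient.mk J₀).comp ((algebraMap B (Localization.Away f)).comp (algebraMap C B))).Etale := by
  classical
  let P : Ideal B := x.asIdeal.comap (Ideal.Quotient.mk J)
  have hJP : J ≤ P := fun j hj => by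
    show Ideal.Quotient.mk J j ∈ x.asIdeal
    rw [Ideal.Quotient.eq_zero_iff_mem.2 hj]; exact zero_mem _
  haveI : Module.FinitePresentation B Ω[B⁄C] := Module.finitePresentation_of_projective B Ω[B⁄C]
  obtain ⟨f, κ, _, a, hfP, β₀, hβ₀⟩ := exists_local_basis P (fun g : J => KaehlerDifferential.D C B g) fun w => by
    obtain ⟨g, hg, hgw⟩ := exists_sub_D_mem C B J (fun y => hsurj y) w
    exact ⟨⟨g, hg⟩, Submodule.smul_mono hJP le_rfl hgw⟩
  refine ⟨f, fun h => hfP h, ?_⟩
  let S := Localization.Away f
  let e : LocalizedModule (Submonoid.powers f) Ω[B⁄C] ≃ₗ[S] Ω[S⁄C] :=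
    LinearEquiv.extendScalarsOfIsLocalization (Submonoid.powers f) S
      (IsLocalizedModule.iso (Submonoid.powers f) (KaehlerDifferential.map C C B S))
  let β : Module.Basis κ S Ω[S⁄C] := β₀.map e
  have hβ : ∀ i, β i = KaehlerDifferential.D C S (algebraMap B S (a i : B)) := fun i => by
    rw [Module.Basis.map_apply, hβ₀]
    show IsLocalizedModule.iso (Submonoid.powers f) (KaehlerDifferential.map C C B S) _ = _
    rw [LocalizedModule.mkLinearMap_apply, IsLocalizedModule.iso_mk_one, KaehlerDifferential.map_D]
  haveI : Algebra.Smooth B S := inferInstance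
  haveI : Algebra.Smooth C S := Algebra.Smooth.comp C B S
  haveI := etale_quotient_of_basis C S (fun i => algebraMap B S (a i : B)) β hβ
  refine ⟨Ideal.span (Set.range fun i => algebraMap B S (a i : B)), Ideal.span_le.2 ?_, ?_⟩
  · rintro _ ⟨i, rfl⟩
    exact Ideal.mem_map_of_mem _ (a i).2
  · rw [← IsScalarTower.algebraMap_eq C B S]
    show (algebraMap C (S ⧸ Ideal.span (Set.range fun i => algebraMap B S (a i : B)))).Etale
    exact RingHom.etale_algebraMap.2 inferInstance

end Groth.Agent.S18416
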