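import Mathlib
import Groth.Agent.LinType.Basic
import Groth.Statements.S18417
-- import your own Groth.Agent.* helpers here

set_option autoImplicit false
universe u v
open CAlg

namespace Groth.Agent.S18417

section helpers

open MvPolynomial

variable {A : Type v} [CommRing A] {d : ℕ} (x : Fin d → A)

lemma exists_eval_lift {m : ℕ} {y : A} (hy : y ∈ Ideal.span (Set.range x) ^ m) :
    ∃ Q : MvPolynomial (Fin d) A, Q ∈ (idealOfVars (Fin d) A) ^ m ∧ eval x Q = y := by
  rw [show Ideal.span (Set.range x) ^ m = ((idealOfVars (Fin d) A) ^ m).map (eval x) by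
    rw [Ideal.map_pow, idealOfVars, Ideal.map_span, ← Set.range_comp]
    congr 3
    funext i
    simp] at hy
  obtain ⟨Q, hQ, rfl⟩ := (Ideal.mem_map_iff_of_surjective _ (fun a => ⟨C a, eval_C a⟩)).mp hy
  exact ⟨Q, hQ, rfl⟩

end helpers

/-- Let R → A be a ring homomorphism and x_1, …, x_d a weakly regular sequence in A generating an ideal
J such that B = A/J is formally smooth over R. Then for every N ≥ 1 there is an isomorphism of
R-algebras e : A/J^N ≅ B[T_1, …, T_d]/(T_1, …, T_d)^N which sends the class of x_i to the class of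
T_i and which is compatible with the projections to B: for every a ∈ A, e(a mod J^N) is congruent to
the constant a mod J modulo the ideal generated by the variables. (The source also assumes R → A
smooth, which its argument does not use, and a regular sequence; weak regularity is what the
argument uses.) -/
theorem result
    (R : Type u) (A : Type v) [CommRing R] [CommRing A] [Algebra R A] (d : ℕ) (x : Fin d → A)
    (hreg : RingTheory.Sequence.IsWeaklyRegular A (List.ofFn x))
    [Algebra.FormallySmooth R (A ⧸ Ideal.span (Set.range x))] (N : ℕ) (hN : 1 ≤ N) :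
    ∃ e : (A ⧸ Ideal.span (Set.range x) ^ N) ≃ₐ[R]
        (MvPolynomial (Fin d) (A ⧸ Ideal.span (Set.range x)) ⧸
          Ideal.span (Set.range (MvPolynomial.X : Fin d → MvPolynomial (Fin d) (A ⧸ Ideal.span (Set.range x)))) ^ N),
      (∀ i : Fin d, e (Ideal.Quotient.mk _ (x i)) = Ideal.Quotient.mk _ (MvPolynomial.X i)) ∧
      ∀ a : A, e (Ideal.Quotient.mk _ a) - Ideal.Quotient.mk _ (MvPolynomial.C (Ideal.Quotient.mk _ a)) ∈
        (Ideal.span (Set.range (MvPolynomial.X : Fin d → MvPolynomial (Fin d) (A ⧸ Ideal.span (Set.range x))))).map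
          (Ideal.Quotient.mk _) := by
  classical
  set J := Ideal.span (Set.range x) with hJ
  set B := A ⧸ J
  set V := Ideal.span (Set.range (MvPolynomial.X : Fin d → MvPolynomial (Fin d) B)) with hV
  -- a section of the projection
  let g : (A ⧸ J ^ N) →ₐ[R] B :=
    Ideal.Quotient.factorₐ R (Ideal.pow_le_self (show N ≠ 0 by omega) : J ^ N ≤ J)
  have hg : Function.Surjective g := Ideal.Quotient.factor_surjective (Ideal.pow_le_self (show N ≠ 0 by omega) : J ^ N ≤ J)
  have hnil : IsNilpotent (RingHom.ker g) := by
    refine ⟨N, ?_⟩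
    have hle : RingHom.ker g ≤ J.map (Ideal.Quotient.mk (J ^ N)) := by
      intro z hz
      obtain ⟨a, rfl⟩ := Ideal.Quotient.mk_surjective z
      exact Ideal.mem_map_of_mem _ ((Ideal.Quotient.eq_zero_iff_mem (I := J)).mp hz)
    rw [Submodule.zero_eq_bot, eq_bot_iff]
    refine (Ideal.pow_right_mono hle N).trans ?_
    rw [← Ideal.map_pow, Ideal.map_quotient_self]
  let s : B →ₐ[R] A ⧸ J ^ N := Algebra.FormallySmooth.liftOfSurjective (AlgHom.id R B) g hg hnil
  have hs : ∀ b, g (s b) = b := fun b => Algebra.FormallySmooth.liftOfSurjective_apply _ g hg hnil b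
  have hslift : ∀ (c : A) (b : B), Ideal.Quotient.mk (J ^ N) c = s b → Ideal.Quotient.mk J c = b := by
    intro c b hc
    rw [← hs b, ← hc]
    rfl
  let ev : MvPolynomial (Fin d) B →+* A ⧸ J ^ N :=
    MvPolynomial.eval₂Hom s.toRingHom (fun i => Ideal.Quotient.mk (J ^ N) (x i))
  let φ : MvPolynomial (Fin d) B →ₐ[R] A ⧸ J ^ N :=
    { ev with
      commutes' := fun r => by
        change ev (algebraMap R (MvPolynomial (Fin d) B) r) = _
        rw [IsScalarTower.algebraMap_apply R B (MvPolynomial (Fin d) B)]
        simp [ev] }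
  have hφC : ∀ b, φ (MvPolynomial.C b) = s b := fun b => MvPolynomial.eval₂Hom_C _ _ b
  have hφX : ∀ i, φ (MvPolynomial.X i) = Ideal.Quotient.mk _ (x i) :=
    fun i => MvPolynomial.eval₂Hom_X' _ _ i
  -- polynomials over A
  have hmap : ∀ P : MvPolynomial (Fin d) B, ∃ Q : MvPolynomial (Fin d) A,
      (∀ e, Ideal.Quotient.mk J (Q.coeff e) = P.coeff e) ∧
        (∀ e, P.coeff e = 0 → Q.coeff e = 0) ∧ φ P = Ideal.Quotient.mk _ (MvPolynomial.eval x Q) := by
    intro P
    have h' : ∀ b, ∃ c, Ideal.Quotient.mk (J ^ N) c = s b ∧ (b = 0 → c = 0) := by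
      intro b
      by_cases hb : b = 0
      · exact ⟨0, by rw [hb, map_zero, map_zero], fun _ => rfl⟩
      · obtain ⟨c, hc⟩ := Ideal.Quotient.mk_surjective (s b)
        exact ⟨c, hc, fun h => absurd h hb⟩
    choose c hc hc0 using h'
    let Q := ∑ e ∈ P.support, MvPolynomial.monomial e (c (P.coeff e))
    have hQ : ∀ e, Q.coeff e = c (P.coeff e) := by
      intro e
      simp only [Q, MvPolynomial.coeff_sum, MvPolynomial.coeff_monomial, Finset.sum_ite_eq']
      split_ifs with h
      · rfl
      · rw [hc0 _ (MvPolynomial.notMem_support_iff.mp h)]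
    refine ⟨Q, fun e => by rw [hQ]; exact hslift _ _ (hc _), fun e he => by rw [hQ]; exact hc0 _ he, ?_⟩
    conv_lhs => rw [P.as_sum]
    simp only [Q, map_sum]
    refine Finset.sum_congr rfl fun e _ => ?_
    rw [MvPolynomial.eval_monomial, map_mul, Finsupp.prod, map_prod, hc, MvPolynomial.monomial_eq,
      map_mul, hφC, Finsupp.prod, map_prod]
    simp only [map_pow, hφX]
  -- surjectivity
  have hsurj : Function.Surjective φ := by
    have step : ∀ m : ℕ, ∀ a : A, ∃ P, Ideal.Quotient.mk (J ^ N) a - φ P ∈
        (J ^ m).map (Ideal.Quotient.mk (J ^ N)) := by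
      intro m
      induction m with
      | zero => intro a; exact ⟨0, by simp [Ideal.map_top]⟩
      | succ m ih =>
          intro a
          obtain ⟨P, hP⟩ := ih a
          obtain ⟨y, hy, hyP⟩ := (Ideal.mem_map_iff_of_surjective _ Ideal.Quotient.mk_surjective).mp hP
          obtain ⟨Q, hQ, rfl⟩ := exists_eval_lift x hy
          obtain ⟨Q', hQ', hQ'0, hQ'e⟩ := hmap (Q.map (Ideal.Quotient.mk J))
          refine ⟨P + Q.map (Ideal.Quotient.mk J), ?_⟩
          rw [map_add, hQ'e, ← sub_sub, ← hyP, ← map_sub]
          refine Ideal.mem_map_of_mem _ ?_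
          rw [← map_sub]
          have hco : ∀ e, (Q - Q').coeff e ∈ J := fun e => by
            rw [MvPolynomial.coeff_sub, ← Ideal.Quotient.eq, hQ', MvPolynomial.coeff_map]
          rw [MvPolynomial.eval_eq]
          refine Ideal.sum_mem _ fun e he => ?_
          have hdeg : m ≤ Finsupp.degree e := by
            by_contra hlt
            rw [MvPolynomial.mem_support_iff, MvPolynomial.coeff_sub] at he
            have hQe := (MvPolynomial.mem_pow_idealOfVars_iff' m Q).mp hQ e (by omega)
            refine he ?_
            rw [hQe, hQ'0 e (by rw [MvPolynomial.coeff_map, hQe, map_zero]), sub_zero]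
          rw [pow_succ']
          refine Ideal.mul_mem_mul (hco e) (Ideal.pow_le_pow_right hdeg ?_)
          rw [Finsupp.degree_apply, ← Finset.prod_pow_eq_pow_sum]
          exact Ideal.prod_mem_prod fun i _ =>
            Ideal.pow_mem_pow (Ideal.subset_span (Set.mem_range_self i) : x i ∈ J) _
    intro z
    obtain ⟨a, rfl⟩ := Ideal.Quotient.mk_surjective z
    obtain ⟨P, hP⟩ := step N a
    rw [Ideal.map_quotient_self, Submodule.mem_bot, sub_eq_zero] at hP
    exact ⟨P, hP.symm⟩
  -- kernel
  have hker : RingHom.ker φ = V ^ N := by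
    refine le_antisymm (fun P hP => ?_) ?_
    · rw [hV, ← MvPolynomial.idealOfVars, MvPolynomial.mem_pow_idealOfVars_iff']
      suffices h : ∀ m : ℕ, m ≤ N → ∀ e, Finsupp.degree e < m → P.coeff e = 0 by
        exact fun e he => h N le_rfl e he
      intro m
      induction m with
      | zero => intro _ e he; omega
      | succ m ih =>
          intro hm e he
          rcases Nat.lt_succ_iff_lt_or_eq.mp he with he' | he'
          · exact ih (by omega) e he'
          obtain ⟨Q, hQ, hQ0, hQe⟩ := hmap P
          rw [show φ P = 0 from hP, eq_comm, Ideal.Quotient.eq_zero_iff_mem] at hQe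
          have hlow : ∀ k, k < m → MvPolynomial.homogeneousComponent k Q = 0 := fun k hk =>
            MvPolynomial.ext _ _ fun f => by
              rw [MvPolynomial.coeff_homogeneousComponent, MvPolynomial.coeff_zero]
              split_ifs with hf
              · exact hQ0 f (ih (by omega) f (hf ▸ hk))
              · rfl
          have hhom := MvPolynomial.homogeneousComponent_isHomogeneous m Q
          have hrest : MvPolynomial.eval x (Q - MvPolynomial.homogeneousComponent m Q) ∈ J ^ (m + 1) := by
            rw [MvPolynomial.eval_eq]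
            refine Ideal.sum_mem _ fun f hf => ?_
            rw [MvPolynomial.mem_support_iff, MvPolynomial.coeff_sub,
              MvPolynomial.coeff_homogeneousComponent] at hf
            have hdeg : m + 1 ≤ Finsupp.degree f := by
              by_contra hlt
              rcases eq_or_ne (Finsupp.degree f) m with h1 | h1
              · exact hf (by rw [if_pos h1, sub_self])
              · exact hf (by rw [if_neg h1, sub_zero, hQ0 f (ih (by omega) f (by omega))])
            refine Ideal.mul_mem_left _ _ (Ideal.pow_le_pow_right hdeg ?_)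
            rw [Finsupp.degree_apply, ← Finset.prod_pow_eq_pow_sum]
            exact Ideal.prod_mem_prod fun i _ =>
            Ideal.pow_mem_pow (Ideal.subset_span (Set.mem_range_self i) : x i ∈ J) _
          have htot : MvPolynomial.eval x (MvPolynomial.homogeneousComponent m Q) ∈ J ^ (m + 1) := by
            have := sub_mem (Ideal.pow_le_pow_right hm hQe) hrest
            rwa [map_sub, sub_sub_cancel] at this
          have := Groth.Agent.LinType.quasiRegular x hreg hhom htot e
          rw [MvPolynomial.coeff_homogeneousComponent, if_pos he', ← hJ, ← Ideal.Quotient.eq_zero_iff_mem,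
            hQ] at this
          exact this
    · have h1 : V.map φ.toRingHom ≤ J.map (Ideal.Quotient.mk (J ^ N)) := by
        rw [hV, Ideal.map_span, Ideal.span_le]
        rintro _ ⟨_, ⟨i, rfl⟩, rfl⟩
        change φ (MvPolynomial.X i) ∈ _
        rw [hφX]
        exact Ideal.mem_map_of_mem _ (Ideal.subset_span ⟨i, rfl⟩)
      intro P hP
      have h2 := Ideal.pow_right_mono h1 N (Ideal.map_pow φ.toRingHom V N ▸ Ideal.mem_map_of_mem φ.toRingHom hP)
      rw [← Ideal.map_pow, Ideal.map_quotient_self, Submodule.mem_bot] at h2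
      exact h2
  refine ⟨(AlgEquiv.trans (Ideal.quotientEquivAlgOfEq R hker.symm)
    (Ideal.quotientKerAlgEquivOfSurjective hsurj)).symm, fun i => ?_, fun a => ?_⟩
  · rw [AlgEquiv.symm_apply_eq]
    exact (hφX i).symm
  · obtain ⟨P, hP⟩ := hsurj (Ideal.Quotient.mk (J ^ N) a)
    have h0 : (AlgEquiv.trans (Ideal.quotientEquivAlgOfEq R hker.symm)
        (Ideal.quotientKerAlgEquivOfSurjective hsurj)).symm (Ideal.Quotient.mk (J ^ N) a) =
        Ideal.Quotient.mk _ P := by
      rw [AlgEquiv.symm_apply_eq]
      exact hP.symm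
    rw [h0, ← map_sub]
    refine Ideal.mem_map_of_mem _ ?_
    obtain ⟨Q, hQ, -, hQe⟩ := hmap P
    rw [← pow_one V, hV, ← MvPolynomial.idealOfVars, MvPolynomial.mem_pow_idealOfVars_iff']
    intro e he
    have : e = 0 := (Finsupp.degree_eq_zero_iff e).mp (by omega)
    subst this
    rw [MvPolynomial.coeff_sub, MvPolynomial.coeff_C, if_pos rfl, sub_eq_zero, ← hQ, Ideal.Quotient.eq]
    have h1 : a - MvPolynomial.eval x Q ∈ J :=
      Ideal.pow_le_self (by omega) (Ideal.Quotient.eq.mp (hP.symm.trans hQe))
    have h2 : MvPolynomial.eval x Q - Q.coeff 0 ∈ J := by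
      have hm : Q - MvPolynomial.C (Q.coeff 0) ∈ MvPolynomial.idealOfVars (Fin d) A := by
        rw [← pow_one (MvPolynomial.idealOfVars (Fin d) A), MvPolynomial.mem_pow_idealOfVars_iff']
        intro f hf
        have : f = 0 := (Finsupp.degree_eq_zero_iff f).mp (by omega)
        subst this
        simp
      have := Ideal.mem_map_of_mem (MvPolynomial.eval x) hm
      rw [MvPolynomial.idealOfVars, Ideal.map_span, ← Set.range_comp, map_sub, MvPolynomial.eval_C] at this
      rw [hJ]
      convert this using 4
      funext i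
      simp
    have h3 := neg_mem (add_mem h1 h2)
    convert h3 using 1
    ring

end Groth.Agent.S18417
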