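import Groth.Statements.S18423
import Groth.Agent.TraceEtale.Basic
import Mathlib.RingTheory.Ideal.KrullsHeightTheorem
import Mathlib.RingTheory.Localization.BaseChange
import Mathlib.RingTheory.Etale.Locus

set_option autoImplicit false
universe u v
open Pi1

namespace Groth.Agent.S18423

/-- Let A be a Noetherian local ring of Krull dimension at least 2 and B a finite flat commutative
A-algebra. If B is etale over A at every prime of B lying over a non-maximal prime of A (that is,
Spec B is etale over the punctured spectrum of A), then B is etale over A. -/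
theorem result (A : Type u) (B : Type v) [CommRing A] [CommRing B]
    [Algebra A B] [IsNoetherianRing A] [IsLocalRing A] (hdim : (2 : WithBot ℕ∞) ≤ ringKrullDim A)
    [Module.Finite A B] [Module.Flat A B]
    (h : ∀ q : PrimeSpectrum B, q.asIdeal.comap (algebraMap A B) ≠ IsLocalRing.maximalIdeal A →
      Algebra.IsEtaleAt A q.asIdeal) :
    Algebra.Etale A B := by
  classical
  haveI : Small.{u} B := Module.Finite.small.{u} A B
  let B' := Shrink.{u} B
  let eB : B' ≃ₐ[A] B := Shrink.algEquiv A B
  haveI : Module.Finite A B' := Module.Finite.equiv eB.symm.toLinearEquiv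
  haveI : Module.Flat A B' := Module.Flat.of_linearEquiv eB.toLinearEquiv
  haveI : Module.Free A B' := Module.free_of_flat_of_isLocalRing
  haveI : Module.FinitePresentation A B := Module.finitePresentation_of_finite A B
  haveI : Algebra.FinitePresentation A B := Algebra.FinitePresentation.of_finiteType.mp inferInstance
  let b := Module.Free.chooseBasis A B'
  let d := Algebra.discr A b
  by_cases hd : IsUnit d
  · haveI : Algebra.Etale A B' :=
      (Groth.Agent.TraceEtale.etale_iff_bijective_traceForm A B').2 ((Groth.Agent.TraceEtale.bijective_traceForm_iff b).2 hd)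
    exact Algebra.Etale.of_equiv eB
  exfalso
  have key : ∀ a ∈ IsLocalRing.maximalIdeal A, ∃ n, d ∣ a ^ n := by
    intro a ha
    let Aa := Localization.Away a
    letI : Algebra B (TensorProduct A Aa B) := Algebra.TensorProduct.rightAlgebra
    haveI : IsLocalization.Away (algebraMap A B a) (TensorProduct A Aa B) := by
      have := IsLocalization.tensorRight (R := A) (S := B) (A := Aa) (Submonoid.powers a)
      rwa [Algebra.algebraMapSubmonoid_powers] at this
    have hsub : (PrimeSpectrum.basicOpen (algebraMap A B a) : Set (PrimeSpectrum B)) ⊆ Algebra.etaleLocus A B :=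
      fun q hq => h q fun e => hq (show algebraMap A B a ∈ q.asIdeal from Ideal.mem_comap.1 (e ▸ ha))
    haveI : Algebra.Etale A (Localization.Away (algebraMap A B a)) := Algebra.basicOpen_subset_etaleLocus_iff_etale.1 hsub
    haveI : Algebra.Etale A (TensorProduct A Aa B) := by
      haveI : IsScalarTower A B (TensorProduct A Aa B) := IsScalarTower.of_algebraMap_eq fun x => by
        show algebraMap A (TensorProduct A Aa B) x = (1 : Aa) ⊗ₜ[A] algebraMap A B x
        rw [Algebra.algebraMap_eq_smul_one (A := B), TensorProduct.tmul_smul, ← Algebra.TensorProduct.one_def, Algebra.algebraMap_eq_smul_one]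
      exact Algebra.Etale.of_equiv ((IsLocalization.algEquiv (Submonoid.powers (algebraMap A B a))
        (Localization.Away (algebraMap A B a)) (TensorProduct A Aa B)).restrictScalars A)
    haveI : Algebra.Etale A Aa := Algebra.Etale.of_isLocalizationAway a
    haveI : Algebra.Etale Aa (TensorProduct A Aa B) := Algebra.Etale.of_restrictScalars A Aa _
    haveI : Algebra.Etale Aa (TensorProduct A Aa B') :=
      Algebra.Etale.of_equiv (Algebra.TensorProduct.congr (AlgEquiv.refl : Aa ≃ₐ[Aa] Aa) eB.symm)
    have hu : IsUnit (algebraMap A Aa d) := by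
      rw [← Groth.Agent.TraceEtale.discr_baseChange Aa b, ← Groth.Agent.TraceEtale.bijective_traceForm_iff,
        ← Groth.Agent.TraceEtale.etale_iff_bijective_traceForm]
      infer_instance
    obtain ⟨n, hn⟩ := (IsLocalization.Away.algebraMap_isUnit_iff a).1 hu
    exact ⟨n, hn⟩
  have hmin : IsLocalRing.maximalIdeal A ∈ (Ideal.span {d}).minimalPrimes := by
    refine ⟨⟨inferInstance, (Ideal.span_singleton_le_iff_mem _).2 hd⟩, fun q ⟨hq, hle⟩ _ => fun a ha => ?_⟩
    obtain ⟨n, hn⟩ := key a ha
    exact hq.mem_of_pow_mem n (q.mem_of_dvd hn ((Ideal.span_singleton_le_iff_mem _).1 hle))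
  haveI : (Ideal.span {d}).IsPrincipal := ⟨⟨d, rfl⟩⟩
  have h1 := Ideal.height_le_one_of_isPrincipal_of_mem_minimalPrimes _ _ hmin
  rw [← IsLocalRing.maximalIdeal_height_eq_ringKrullDim] at hdim
  have h2 : (2 : ℕ∞) ≤ 1 := (WithBot.coe_le_coe.1 hdim).trans h1
  exact absurd h2 (by decide)

end Groth.Agent.S18423
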