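import Groth.Statements.S18424
import Groth.Agent.Pi1Birat.Basic
-- import your own Groth.Agent.* helpers here

set_option autoImplicit false
set_option backward.isDefEq.respectTransparency false
set_option backward.isDefEq.respectTransparency.types false
set_option linter.style.haveILetI false
universe u
open Pi1

namespace Groth.Agent.S18424

open AlgebraicGeometry CategoryTheory CategoryTheory.Limits in
/-- Let k be a field, X and Y integral schemes separated and of finite type over k with X normal and Y
nonsingular (every local ring of Y regular), and f : X → Y a proper k-morphism which is birational,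
i.e. an isomorphism over some nonempty open subset V of Y. Then pulling back finite etale covers
along f is an equivalence between the categories of finite etale covers of Y and of X; in particular
f induces an isomorphism of etale fundamental groups. -/
theorem result (k : Type u) [Field k]
    {X Y : Scheme.{u}} (f : X ⟶ Y) (g : Y ⟶ Spec (CommRingCat.of k))
    [IsSeparated g] [LocallyOfFiniteType g] [QuasiCompact g]
    [IsSeparated (f ≫ g)] [LocallyOfFiniteType (f ≫ g)] [QuasiCompact (f ≫ g)]
    [IsIntegral X] [IsIntegral Y] (hX : Pi1.IsNormalScheme X)
    (hY : ∀ y : Y, IsRegularLocalRing (Y.presheaf.stalk y)) [IsProper f]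
    (V : Y.Opens) (hV : (V : Set Y).Nonempty) (hf : IsIso (f ∣_ V)) :
    (FEt.restrict f).IsEquivalence := by
  haveI : IsLocallyNoetherian Y := LocallyOfFiniteType.isLocallyNoetherian g
  haveI : CompactSpace Y := QuasiCompact.compactSpace_of_compactSpace g
  haveI : IsNoetherian Y := {}
  haveI := hf
  exact Pi1Birat.isEquivalence hX hY f V hV

end Groth.Agent.S18424
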