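import Groth.Statements.S18426
import Groth.Agent.NormFieldX.Props

set_option autoImplicit false
universe u
open Pi1

namespace Groth.Agent.S18426

open AlgebraicGeometry CategoryTheory CategoryTheory.Limits in
/-- Suppose X is an integral scheme that is Noetherian and normal, write K for its function field, and
take L to be a finite separable extension of K. Then the normalization of X in L, namely the
relative normalization of the morphism Spec L → Spec K → X, is finite over X. (That this
normalization is a normal integral scheme with function field L is not restated.) -/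
theorem result {X : Scheme.{u}} [IsIntegral X] [IsNoetherian X]
    (hX : Pi1.IsNormalScheme X) (L : Type u) [Field L] [Algebra X.functionField L] [FiniteDimensional X.functionField L]
    [Algebra.IsSeparable X.functionField L]
    [QuasiCompact (Spec.map (CommRingCat.ofHom (algebraMap X.functionField L)) ≫ X.fromSpecStalk (genericPoint X))]
    [QuasiSeparated (Spec.map (CommRingCat.ofHom (algebraMap X.functionField L)) ≫ X.fromSpecStalk (genericPoint X))] :
    IsFinite (Spec.map (CommRingCat.ofHom (algebraMap X.functionField L)) ≫ X.fromSpecStalk (genericPoint X)).fromNormalization := by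
  let φ : X.functionField →+* L := algebraMap X.functionField L
  haveI : QuasiCompact (Groth.Agent.NormFieldX.pnt X L φ) := inferInstanceAs (QuasiCompact (Spec.map (CommRingCat.ofHom (algebraMap X.functionField L)) ≫ X.fromSpecStalk (genericPoint X)))
  haveI : QuasiSeparated (Groth.Agent.NormFieldX.pnt X L φ) := inferInstanceAs (QuasiSeparated (Spec.map (CommRingCat.ofHom (algebraMap X.functionField L)) ≫ X.fromSpecStalk (genericPoint X)))
  show IsFinite (Groth.Agent.NormFieldX.ν X L φ)
  refine ⟨fun U hU => ?_⟩
  rcases (U : Set X).eq_empty_or_nonempty with he | ⟨x, hx⟩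
  · have e : U = ⊥ := TopologicalSpace.Opens.ext he
    subst e
    haveI : Subsingleton Γ(Groth.Agent.NormFieldX.norm X L φ, Groth.Agent.NormFieldX.ν X L φ ⁻¹ᵁ ⊥) := by
      rw [Scheme.Hom.preimage_bot]; infer_instance
    exact RingHom.Finite.of_surjective _ fun z => ⟨0, Subsingleton.elim _ _⟩
  have hη := Groth.Agent.NormFieldX.genericPoint_mem_of_nonempty hx
  haveI : Nonempty U := ⟨⟨x, hx⟩⟩
  letI : Algebra Γ(X, U) X.functionField := (X.presheaf.germ U (genericPoint X) hη).hom.toAlgebra
  haveI : IsFractionRing Γ(X, U) X.functionField := functionField_isFractionRing_of_isAffineOpen X U hU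
  letI : Algebra Γ(X, U) L := (Groth.Agent.NormFieldX.baseHom φ hη).toAlgebra
  haveI : IsScalarTower Γ(X, U) X.functionField L := IsScalarTower.of_algebraMap_eq fun a => rfl
  haveI : IsNoetherianRing Γ(X, U) := IsLocallyNoetherian.component_noetherian ⟨U, hU⟩
  haveI : IsIntegrallyClosed Γ(X, U) := IsIntegrallyClosed.of_localization_maximal fun P _ hP => by
    have hy : hU.fromSpec ⟨P, hP.isPrime⟩ ∈ U := hU.range_fromSpec.le ⟨_, rfl⟩
    letI : Algebra Γ(X, U) (X.presheaf.stalk (hU.fromSpec ⟨P, hP.isPrime⟩)) :=
      X.presheaf.algebra_section_stalk ⟨hU.fromSpec ⟨P, hP.isPrime⟩, hy⟩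
    haveI : IsLocalization.AtPrime (X.presheaf.stalk (hU.fromSpec ⟨P, hP.isPrime⟩)) P :=
      hU.isLocalization_stalk' ⟨P, hP.isPrime⟩ hy
    haveI := (hX (hU.fromSpec ⟨P, hP.isPrime⟩)).2
    exact IsIntegrallyClosed.of_equiv (IsLocalization.algEquiv P.primeCompl
      (X.presheaf.stalk (hU.fromSpec ⟨P, hP.isPrime⟩)) (Localization.AtPrime P)).toRingEquiv
  haveI : Module.Finite Γ(X, U) (integralClosure Γ(X, U) L) :=
    IsIntegralClosure.finite Γ(X, U) X.functionField L (integralClosure Γ(X, U) L)
  let e := Groth.Agent.NormFieldX.secEquiv (K := L) (φ := φ) hU hη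
  have h2 : ((Groth.Agent.NormFieldX.ν X L φ).app U).hom =
      e.symm.toRingHom.comp (algebraMap Γ(X, U) (integralClosure Γ(X, U) L)) :=
    RingHom.ext fun a => by
      show _ = e.symm _
      rw [RingEquiv.eq_symm_apply]
      exact Subtype.ext (Groth.Agent.NormFieldX.evalK_app hη a)
  show ((Groth.Agent.NormFieldX.ν X L φ).app U).hom.Finite
  rw [h2]
  exact (RingHom.Finite.of_surjective _ e.symm.surjective).comp (RingHom.finite_algebraMap.2 inferInstance)

end Groth.Agent.S18426
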