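import Groth.Statements.S18427
import Groth.Agent.NQF.ModelConn

set_option autoImplicit false
universe u
open Models

namespace Groth.Agent.S18427

open CategoryTheory AlgebraicGeometry in
/-- Let R be a discrete valuation ring with fraction field K, C a smooth proper geometrically connected
curve over K, and X a regular proper model of C over R (flat and proper over R, regular, with
generic fibre C). Then the structure morphism X → Spec R has geometrically connected fibres; in
particular the special fibre of X is geometrically connected over the residue field of R. -/
theorem result (R : Type u) [CommRing R] [IsDomain R]
    [IsDiscreteValuationRing R] (C X : Scheme.{u})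
    (f : C ⟶ Spec (CommRingCat.of (FractionRing R))) (p : X ⟶ Spec (CommRingCat.of R))
    (hC : Curve.IsSmoothProperCurve (FractionRing R) C f) [GeometricallyConnected f]
    (hX : Models.IsRegularProperModel R X p C f) :
    GeometricallyConnected p := by
  obtain ⟨hp, hs, -, -⟩ := hC
  haveI := hp
  haveI := hs
  exact Groth.Agent.ModelConn.geometricallyConnected_model p f hX (Groth.Agent.ModelConn.bijective_generic f)

end Groth.Agent.S18427
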