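import Groth.Statements.S18429
import Mathlib.Tactic.Ring
import Mathlib.Tactic.LinearCombination
import Mathlib.Tactic.Linarith
import Mathlib.Data.Int.ModEq

set_option autoImplicit false
universe u
open SpinCurv

namespace Groth.Agent.S18429

/-- Let n ≥ 1 and r ≥ 2 be integers and let e_0, …, e_{nr} be integers with e_0 = e_{nr} = 0 (the
coefficients of a chain of nr - 1 exceptional curves joining two non-exceptional components with
coefficient zero) such that at every interior index 1 ≤ j ≤ nr - 1 the second difference e_{j-1} - 2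
e_j + e_{j+1} (the degree of the divisor Σ e_i E_i on the j-th curve of the chain) is divisible by
r. Then there are integers e'_0, …, e'_{nr}, with e'_j ≡ e_j modulo r for every interior j, with
e'_0 = e'_{nr} = 0 and every e'_j ≤ 0, whose second differences at the interior indices are each 0
or r, and are nonzero at no two distinct interior indices. -/
theorem result (n r : ℕ) (hn : 1 ≤ n) (hr : 2 ≤ r)
    (e : ℕ → ℤ) (he0 : e 0 = 0) (henr : e (n * r) = 0)
    (hdiv : ∀ j : ℕ, 1 ≤ j → j < n * r → (r : ℤ) ∣ e (j - 1) - 2 * e j + e (j + 1)) :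
    ∃ e' : ℕ → ℤ, e' 0 = 0 ∧ e' (n * r) = 0 ∧
      (∀ j : ℕ, 1 ≤ j → j < n * r → (r : ℤ) ∣ e' j - e j) ∧
      (∀ j : ℕ, j ≤ n * r → e' j ≤ 0) ∧
      (∀ j : ℕ, 1 ≤ j → j < n * r →
        (e' (j - 1) - 2 * e' j + e' (j + 1) = 0 ∨ e' (j - 1) - 2 * e' j + e' (j + 1) = r)) ∧
      (∀ j j' : ℕ, 1 ≤ j → j < n * r → 1 ≤ j' → j' < n * r →
        e' (j - 1) - 2 * e' j + e' (j + 1) ≠ 0 → e' (j' - 1) - 2 * e' j' + e' (j' + 1) ≠ 0 → j = j') := by
  obtain ⟨a, ha0, har, had⟩ : ∃ a : ℤ, 0 ≤ a ∧ a < r ∧ (r : ℤ) ∣ (e 1 - a) :=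
    ⟨e 1 % r, Int.emod_nonneg _ (by omega), Int.emod_lt_of_pos _ (by omega),
      ⟨e 1 / r, by have := Int.mul_ediv_add_emod (e 1) r; linarith⟩⟩
  have key : ∀ j : ℕ, j + 1 ≤ n * r → ((r : ℤ) ∣ e j - j * e 1) ∧
      ((r : ℤ) ∣ e (j + 1) - (j + 1 : ℕ) * e 1) := by
    intro j
    induction j with
    | zero => intro _; constructor <;> simp [he0]
    | succ j ih =>
      intro hj
      obtain ⟨h1, h2⟩ := ih (by omega)
      refine ⟨h2, ?_⟩
      have h3 := hdiv (j + 1) (by omega) (by omega)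
      rw [Nat.add_sub_cancel] at h3
      have h := dvd_add h3 (dvd_sub (dvd_mul_of_dvd_right h2 2) h1)
      convert! h using 1
      push_cast; ring
  refine ⟨fun j => if (j : ℤ) ≤ n * a then (a - r) * j else a * ((j : ℤ) - n * r), ?_, ?_, ?_, ?_, ?_, ?_⟩
  · simp only [Nat.cast_zero]; rw [if_pos (mul_nonneg (by omega) ha0)]; ring
  · dsimp only
    push_cast
    split_ifs with h
    · exfalso; nlinarith
    · ring
  · intro j h1 h2
    have hk := (key j (by omega)).1
    have h4 : (r : ℤ) ∣ (j : ℤ) * (e 1 - a) := dvd_mul_of_dvd_right had _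
    dsimp only
    split_ifs
    · have := dvd_sub (dvd_neg.2 (dvd_add hk h4)) (Dvd.intro (j : ℤ) rfl : (r : ℤ) ∣ (r : ℤ) * j)
      convert! this using 1; ring
    · have := dvd_sub (dvd_neg.2 (dvd_add hk h4)) (Dvd.intro ((n : ℤ) * a) rfl : (r : ℤ) ∣ (r : ℤ) * ((n : ℤ) * a))
      convert! this using 1; ring
  · intro j hj
    have hj' : (j : ℤ) ≤ n * r := by exact_mod_cast hj
    dsimp only
    split_ifs
    · exact mul_nonpos_of_nonpos_of_nonneg (by omega) (by omega)
    · exact mul_nonpos_of_nonneg_of_nonpos ha0 (by omega)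
  · intro j h1 h2
    obtain ⟨i, rfl⟩ := Nat.exists_eq_add_of_le' h1
    simp only [Nat.add_sub_cancel]
    push_cast
    by_cases hlt : (i : ℤ) + 1 + 1 ≤ n * a
    · left; rw [if_pos (by omega), if_pos (by omega), if_pos hlt]; ring
    · by_cases heq : (i : ℤ) + 1 = n * a
      · right; rw [if_pos (by omega), if_pos (by omega), if_neg hlt]
        linear_combination (r : ℤ) * heq
      · left
        rw [if_neg (show ¬((i : ℤ) + 1 ≤ n * a) by omega), if_neg hlt]
        split_ifs with h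
        · have : (i : ℤ) = n * a := by omega
          linear_combination (-(r : ℤ)) * this
        · ring
  · intro j j' h1 h2 h1' h2' hne hne'
    have aux : ∀ i : ℕ, 1 ≤ i → ((if ((i - 1 : ℕ) : ℤ) ≤ n * a then (a - r) * ((i - 1 : ℕ) : ℤ) else a * (((i - 1 : ℕ) : ℤ) - n * r)) - 2 * (if (i : ℤ) ≤ n * a then (a - r) * (i : ℤ) else a * ((i : ℤ) - n * r)) + (if ((i + 1 : ℕ) : ℤ) ≤ n * a then (a - r) * ((i + 1 : ℕ) : ℤ) else a * (((i + 1 : ℕ) : ℤ) - n * r)) ≠ 0) → (i : ℤ) = n * a := by
      intro i hi hne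
      by_contra hc
      apply hne
      obtain ⟨i, rfl⟩ := Nat.exists_eq_add_of_le' hi
      simp only [Nat.add_sub_cancel]
      push_cast at hc ⊢
      by_cases hlt : (i : ℤ) + 1 + 1 ≤ n * a
      · rw [if_pos (by omega), if_pos (by omega), if_pos hlt]; ring
      · rw [if_neg (show ¬((i : ℤ) + 1 ≤ n * a) by omega), if_neg hlt]
        split_ifs with h
        · have : (i : ℤ) = n * a := by omega
          linear_combination (-(r : ℤ)) * this
        · ring
    have e1 := aux j h1 hne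
    have e2 := aux j' h1' hne'
    omega

end Groth.Agent.S18429
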