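import Groth.Statements.S18432
import Groth.Agent.SpinNodeLib.Alpha

set_option autoImplicit false
universe u
open SpinCurv

namespace Groth.Agent.S18432

/-- Let R be a complete Noetherian local ring, p, q elements of its maximal ideal, A = R[[x, y]]/(xy -
pq), and α(p, q) the A-linear endomorphism of A² with matrix (x p; q y), sending a column (a, b) to
(x a + p b, q a + y b). Then the kernel of α(p, q) is the submodule of A² generated by the columns
(p, -x) and (y, -q); equivalently the image of α(p, q) (the standard rank-one torsion-free module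
E(p, q)) is presented by two generators ξ, v with the relations p ξ = x v and y ξ = q v. -/
theorem result (R : Type u) [CommRing R] [IsNoetherianRing R] [IsLocalRing R]
    [IsAdicComplete (IsLocalRing.maximalIdeal R) R]
    (p q : R) (hp : p ∈ IsLocalRing.maximalIdeal R) (hq : q ∈ IsLocalRing.maximalIdeal R) :
    LinearMap.ker (Matrix.mulVecLin (SpinCurv.nodeAlpha R p q)) =
      Submodule.span (SpinCurv.NodeRing R (p * q))
        {![algebraMap R (SpinCurv.NodeRing R (p * q)) p, -SpinCurv.NodeRing.x R (p * q)],
         ![SpinCurv.NodeRing.y R (p * q), -algebraMap R (SpinCurv.NodeRing R (p * q)) q]} := by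
  have hπ : p * q ∈ IsLocalRing.maximalIdeal R := Ideal.mul_mem_right _ _ hp
  refine le_antisymm (fun w hw => ?_) (Submodule.span_le.2 ?_)
  · rw [LinearMap.mem_ker, Matrix.mulVecLin_apply] at hw
    have hw' : w = ![w 0, w 1] := by funext i; fin_cases i <;> rfl
    generalize w 0 = a, w 1 = b at hw'
    subst hw'
    obtain ⟨u, v, ha, hb, hu, hv, hu', hv'⟩ := SpinNodeLib.exists_reduce hπ a b
    have e1 : ∀ z, (if 0 < z then 1 else p * q) * SpinNodeLib.coord hπ a (z - 1) + p * SpinNodeLib.coord hπ b z = 0 := by
      intro z; rw [← (SpinNodeLib.coord_alpha hπ a b z).1, hw, Pi.zero_apply, map_zero, Pi.zero_apply]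
    have e2 : ∀ z, q * SpinNodeLib.coord hπ a z + (if z < 0 then 1 else p * q) * SpinNodeLib.coord hπ b (z + 1) = 0 := by
      intro z; rw [← (SpinNodeLib.coord_alpha hπ a b z).2, hw, Pi.zero_apply, map_zero, Pi.zero_apply]
    have ha' : a = algebraMap R _ p * u + SpinCurv.NodeRing.y R (p * q) * v := by
      refine SpinNodeLib.coord_injective hπ (funext fun z => ?_)
      rcases lt_or_ge z 0 with hz | hz
      · have := ha z hz
        rwa [map_sub, Pi.sub_apply, sub_eq_zero] at this
      · have h := e1 (z + 1)
        rw [if_pos (by omega), one_mul, show z + 1 - 1 = z by ring] at h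
        rw [map_add, Pi.add_apply, SpinNodeLib.coord_algebraMap_mul, SpinNodeLib.coord_y_mul, if_neg (by omega),
          hu' z hz, hv (z + 1) (by omega)]
        linear_combination h
    have hb' : b = -(SpinCurv.NodeRing.x R (p * q) * u + algebraMap R _ q * v) := by
      refine SpinNodeLib.coord_injective hπ (funext fun z => ?_)
      rcases lt_or_ge 0 z with hz | hz
      · have := hb z hz
        rw [map_add, Pi.add_apply] at this
        rw [map_neg, Pi.neg_apply]
        exact eq_neg_of_add_eq_zero_left this
      · have h := e2 (z - 1)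
        rw [if_pos (by omega), one_mul, show z - 1 + 1 = z by ring] at h
        rw [map_neg, map_add, Pi.neg_apply, Pi.add_apply, SpinNodeLib.coord_algebraMap_mul, SpinNodeLib.coord_x_mul,
          if_neg (by omega), hv' z hz, hu (z - 1) (by omega)]
        linear_combination h
    refine Submodule.mem_span_pair.2 ⟨u, v, ?_⟩
    rw [ha', hb']
    funext i
    fin_cases i <;> simp [mul_comm] <;> ring
  · have h1 := SpinNodeLib.alpha_rel (p := p) (q := q) 1 0
    have h2 := SpinNodeLib.alpha_rel (p := p) (q := q) 0 1
    simp only [mul_one, mul_zero, add_zero, zero_add] at h1 h2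
    rintro _ (rfl | rfl)
    · exact LinearMap.mem_ker.2 h1
    · exact LinearMap.mem_ker.2 h2

end Groth.Agent.S18432
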