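import Groth.Statements.S18433
import Groth.Agent.SpinNodeLib.Alpha

set_option autoImplicit false
universe u
open SpinCurv

namespace Groth.Agent.S18433

/-- Let R be a complete Noetherian local ring, p, q elements of its maximal ideal, A = R[[x, y]]/(xy -
pq), and α(p, q) the endomorphism (a, b) ↦ (x a + p b, q a + y b) of A². Restrict α(p, q) to pairs
(f, g) with f a power series in x alone and g a power series in y alone: the resulting map R[[x]] ×
R[[y]] → A², (f, g) ↦ (x f + p g, q f + y g), is injective and has the same image as α(p, q). Thus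
the image E(p, q) of α(p, q) is identified, R-linearly, with R[[x]] ⊕ R[[y]]. -/
theorem result (R : Type u) [CommRing R] [IsNoetherianRing R] [IsLocalRing R]
    [IsAdicComplete (IsLocalRing.maximalIdeal R) R]
    (p q : R) (hp : p ∈ IsLocalRing.maximalIdeal R) (hq : q ∈ IsLocalRing.maximalIdeal R) :
    Function.Injective (fun fg : PowerSeries R × PowerSeries R =>
        Matrix.mulVec (SpinCurv.nodeAlpha R p q)
          ![SpinCurv.NodeRing.ofX R (p * q) fg.1, SpinCurv.NodeRing.ofY R (p * q) fg.2]) ∧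
    Set.range (fun fg : PowerSeries R × PowerSeries R =>
        Matrix.mulVec (SpinCurv.nodeAlpha R p q)
          ![SpinCurv.NodeRing.ofX R (p * q) fg.1, SpinCurv.NodeRing.ofY R (p * q) fg.2]) =
      Set.range (Matrix.mulVec (SpinCurv.nodeAlpha R p q)) := by
  have hπ : p * q ∈ IsLocalRing.maximalIdeal R := Ideal.mul_mem_right _ _ hp
  refine ⟨fun ⟨f, g⟩ ⟨f', g'⟩ h => ?_, Set.Subset.antisymm ?_ ?_⟩
  · dsimp only at h
    refine Prod.ext (PowerSeries.ext fun n => ?_) (PowerSeries.ext fun n => ?_)
    · have := congrArg (fun w => SpinNodeLib.coord hπ (w 0) ((n : ℤ) + 1)) h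
      simp only [(SpinNodeLib.coord_alpha hπ _ _ _).1, SpinNodeLib.coord_ofX, SpinNodeLib.coord_ofY] at this
      simpa [show (0 : ℤ) < n + 1 by omega, show ¬ ((n : ℤ) + 1 ≤ 0) by omega] using this
    · have := congrArg (fun w => SpinNodeLib.coord hπ (w 1) (-(n : ℤ) - 1)) h
      simp only [(SpinNodeLib.coord_alpha hπ _ _ _).2, SpinNodeLib.coord_ofX, SpinNodeLib.coord_ofY] at this
      simpa [show (-(n : ℤ) - 1 : ℤ) < 0 by omega, show ¬ ((1 : ℤ) ≤ -(n : ℤ)) by omega] using this
  · rintro _ ⟨fg, rfl⟩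
    exact ⟨_, rfl⟩
  · rintro _ ⟨w, rfl⟩
    obtain ⟨u, v, ha, hb, -, -, -, -⟩ := SpinNodeLib.exists_reduce hπ (w 0) (w 1)
    let a := w 0 - (algebraMap R _ p * u + SpinCurv.NodeRing.y R (p * q) * v)
    let b := w 1 + (SpinCurv.NodeRing.x R (p * q) * u + algebraMap R _ q * v)
    refine ⟨(PowerSeries.mk fun n => SpinNodeLib.coord hπ a n, PowerSeries.mk fun n => SpinNodeLib.coord hπ b (-(n : ℤ))), ?_⟩
    dsimp only
    have ea : SpinCurv.NodeRing.ofX R (p * q) (PowerSeries.mk fun n => SpinNodeLib.coord hπ a n) = a := by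
      refine SpinNodeLib.coord_injective hπ (funext fun z => ?_)
      rw [SpinNodeLib.coord_ofX, PowerSeries.coeff_mk]
      split_ifs with h
      · rw [show (z.toNat : ℤ) = z by omega]
      · exact (ha z (by omega)).symm
    have eb : SpinCurv.NodeRing.ofY R (p * q) (PowerSeries.mk fun n => SpinNodeLib.coord hπ b (-(n : ℤ))) = b := by
      refine SpinNodeLib.coord_injective hπ (funext fun z => ?_)
      rw [SpinNodeLib.coord_ofY, PowerSeries.coeff_mk]
      split_ifs with h
      · rw [show -((-z).toNat : ℤ) = z by omega]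
      · exact (hb z (by omega)).symm
    rw [ea, eb, show ![a, b] = w + -![algebraMap R _ p * u + SpinCurv.NodeRing.y R (p * q) * v,
      -(SpinCurv.NodeRing.x R (p * q) * u + algebraMap R _ q * v)] by
        funext i; fin_cases i <;> simp [a, b, sub_eq_add_neg],
      Matrix.mulVec_add, Matrix.mulVec_neg, SpinNodeLib.alpha_rel, neg_zero, add_zero]

end Groth.Agent.S18433
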