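import Groth.Statements.S18434
import Mathlib


set_option autoImplicit false
universe u
open SpinCurv

namespace Groth.Agent.S18434

/-- Let k be a field, u, v ≥ 1 integers and w ∈ k nonzero. In the ring A = k[[x, y]]/(xy), the quotient
A/(x^u, w y^v) has dimension u + v - 1 over k (a basis is 1, x, …, x^{u-1}, y, …, y^{v-1}); this is
the length of the cokernel at the node of a map whose image is generated by x^u and w y^v. -/
theorem result (k : Type u) [Field k] (u v : ℕ) (hu : 1 ≤ u) (hv : 1 ≤ v)
    (w : k) (hw : w ≠ 0) :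
    Module.finrank k (SpinCurv.NodeRing k 0 ⧸
      Ideal.span {SpinCurv.NodeRing.x k 0 ^ u, algebraMap k (SpinCurv.NodeRing k 0) w * SpinCurv.NodeRing.y k 0 ^ v}) =
      u + v - 1 := by
  classical
  let X : MvPowerSeries (Fin 2) k := MvPowerSeries.X 0
  let Y : MvPowerSeries (Fin 2) k := MvPowerSeries.X 1
  let e : ℕ → ℕ → (Fin 2 →₀ ℕ) := fun i j => Finsupp.single 0 i + Finsupp.single 1 j
  have he0 : ∀ i j, e i j 0 = i := fun i j => by simp [e]
  have he1 : ∀ i j, e i j 1 = j := fun i j => by simp [e]
  have hle : ∀ i j (s : Fin 2 →₀ ℕ), e i j ≤ s ↔ i ≤ s 0 ∧ j ≤ s 1 := by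
    intro i j s
    refine ⟨fun h => ⟨by simpa [he0] using h 0, by simpa [he1] using h 1⟩, fun h => fun l => ?_⟩
    fin_cases l
    · simpa [he0] using h.1
    · simpa [he1] using h.2
  have hext : ∀ s : Fin 2 →₀ ℕ, s = e (s 0) (s 1) := by
    intro s; refine Finsupp.ext fun l => ?_
    fin_cases l
    · exact (he0 _ _).symm
    · exact (he1 _ _).symm
  have hXu : X ^ u = MvPowerSeries.monomial (e u 0) 1 := by
    simp [X, e, MvPowerSeries.X_pow_eq]
  have hYv : Y ^ v = MvPowerSeries.monomial (e 0 v) 1 := by
    simp [Y, e, MvPowerSeries.X_pow_eq]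
  have hXY : X * Y - MvPowerSeries.C 0 = MvPowerSeries.monomial (e 1 1) 1 := by
    simp [X, Y, e, MvPowerSeries.X_def, MvPowerSeries.monomial_mul_monomial]
  let Φ : MvPowerSeries (Fin 2) k →ₗ[k] (Fin u → k) × (Fin (v - 1) → k) :=
    (LinearMap.pi fun i : Fin u => MvPowerSeries.coeff (e i 0)).prod
      (LinearMap.pi fun j : Fin (v - 1) => MvPowerSeries.coeff (e 0 (j + 1)))
  have hΦ : Function.Surjective Φ := by
    rintro ⟨a, b⟩
    refine ⟨(∑ i : Fin u, MvPowerSeries.monomial (R := k) (e i 0) (a i)) +
      ∑ j : Fin (v - 1), MvPowerSeries.monomial (R := k) (e 0 (j + 1)) (b j), Prod.ext (funext fun i => ?_) (funext fun j => ?_)⟩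
    · simp only [Φ, LinearMap.prod_apply, Function.prod_apply, LinearMap.pi_apply, Prod.fst_zero, Prod.snd_zero, Pi.zero_apply]
      simp only [map_add, map_sum, MvPowerSeries.coeff_monomial]
      rw [Finset.sum_eq_single i, if_pos rfl, Finset.sum_eq_zero, add_zero]
      · intro j _
        rw [if_neg]
        intro h
        have := congrArg (fun s => s 1) h
        simp [he1] at this
      · intro j _ hj
        rw [if_neg]
        intro h
        have := congrArg (fun s => s 0) h
        simp [he0] at this
        exact hj (Fin.ext this.symm)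
      · simp
    · simp only [Φ, LinearMap.prod_apply, Function.prod_apply, LinearMap.pi_apply, Prod.fst_zero, Prod.snd_zero, Pi.zero_apply]
      simp only [map_add, map_sum, MvPowerSeries.coeff_monomial]
      rw [Finset.sum_eq_zero, zero_add, Finset.sum_eq_single j, if_pos rfl]
      · intro i _ hi
        rw [if_neg]
        intro h
        have := congrArg (fun s => s 1) h
        simp [he1] at this
        exact hi (Fin.ext this.symm)
      · simp
      · intro i _
        rw [if_neg]
        intro h
        have := congrArg (fun s => s 1) h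
        simp [he1] at this
  let I : Ideal (SpinCurv.NodeRing k 0) := Ideal.span {SpinCurv.NodeRing.x k 0 ^ u,
    algebraMap k (SpinCurv.NodeRing k 0) w * SpinCurv.NodeRing.y k 0 ^ v}
  let φ : MvPowerSeries (Fin 2) k →ₐ[k] SpinCurv.NodeRing k 0 ⧸ I :=
    (Ideal.Quotient.mkₐ k I).comp (Ideal.Quotient.mkₐ k _)
  have hφ : Function.Surjective φ := Ideal.Quotient.mk_surjective.comp Ideal.Quotient.mk_surjective
  have hw' : algebraMap k (SpinCurv.NodeRing k 0) w = Ideal.Quotient.mk _ (MvPowerSeries.C w) := rfl
  have hker : LinearMap.ker Φ = LinearMap.ker φ.toLinearMap := by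
    refine le_antisymm (fun f hf => ?_) (fun f hf => ?_)
    · rw [LinearMap.mem_ker] at hf
      let a : MvPowerSeries (Fin 2) k := fun s => if s 1 = 0 then MvPowerSeries.coeff (s + e u 0) f else 0
      let b : MvPowerSeries (Fin 2) k := fun s => if s 0 = 0 then MvPowerSeries.coeff (s + e 0 v) f else 0
      let c : MvPowerSeries (Fin 2) k := fun s => MvPowerSeries.coeff (s + e 1 1) f
      have ha : ∀ s, MvPowerSeries.coeff s a = if s 1 = 0 then MvPowerSeries.coeff (s + e u 0) f else 0 := fun s => rfl
      have hb : ∀ s, MvPowerSeries.coeff s b = if s 0 = 0 then MvPowerSeries.coeff (s + e 0 v) f else 0 := fun s => rfl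
      have hcc : ∀ s, MvPowerSeries.coeff s c = MvPowerSeries.coeff (s + e 1 1) f := fun s => rfl
      have hfe : f = X ^ u * a + Y ^ v * b + (X * Y - MvPowerSeries.C 0) * c := by
        rw [hXu, hYv, hXY]
        refine MvPowerSeries.ext fun s => ?_
        simp only [map_add, MvPowerSeries.coeff_monomial_mul, one_mul, hle, Nat.zero_le, and_true, true_and]
        simp only [ha, hb, hcc, Finsupp.tsub_apply, he0, he1, Nat.sub_zero]
        rcases Nat.eq_zero_or_pos (s 0) with h0 | h0 <;> rcases Nat.eq_zero_or_pos (s 1) with h1 | h1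
        · have h := congrFun (congrArg Prod.fst hf) ⟨0, hu⟩
          change MvPowerSeries.coeff (e 0 0) f = 0 at h
          rw [show s = e 0 0 by rw [hext s, h0, h1]]
          simp only [he0, he1]
          rw [if_neg (by omega), if_neg (by omega), if_neg (by omega), h, add_zero, add_zero]
        · rw [if_neg (by omega), if_neg (show ¬ (1 ≤ s 0 ∧ 1 ≤ s 1) by omega), zero_add, add_zero, if_pos h0]
          split_ifs with hsv
          · rw [tsub_add_cancel_of_le ((hle _ _ _).2 ⟨Nat.zero_le _, hsv⟩)]
          · have h := congrFun (congrArg Prod.snd hf) ⟨s 1 - 1, by omega⟩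
            change MvPowerSeries.coeff (e 0 (s 1 - 1 + 1)) f = 0 at h
            rw [show s 1 - 1 + 1 = s 1 by omega, ← h0, ← hext] at h
            exact h
        · rw [if_neg (show ¬ v ≤ s 1 by omega), if_neg (show ¬ (1 ≤ s 0 ∧ 1 ≤ s 1) by omega), add_zero, add_zero,
            if_pos h1]
          split_ifs with hsu
          · rw [tsub_add_cancel_of_le ((hle _ _ _).2 ⟨hsu, Nat.zero_le _⟩)]
          · have h := congrFun (congrArg Prod.fst hf) ⟨s 0, by omega⟩
            change MvPowerSeries.coeff (e (s 0) 0) f = 0 at h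
            rw [← h1, ← hext] at h
            exact h
        · rw [if_neg (show ¬ s 1 = 0 by omega), if_neg (show ¬ s 0 = 0 by omega), ite_self, ite_self, zero_add,
            zero_add, if_pos ⟨h0, h1⟩, tsub_add_cancel_of_le ((hle _ _ _).2 ⟨h0, h1⟩)]
      rw [LinearMap.mem_ker, hfe]
      change Ideal.Quotient.mk I (Ideal.Quotient.mk _ (_ + _)) = 0
      rw [map_add _ (X ^ u * a + Y ^ v * b), map_mul _ (X * Y - MvPowerSeries.C 0),
        Ideal.Quotient.eq_zero_iff_mem.2 (Ideal.subset_span (show X * Y - MvPowerSeries.C 0 ∈ ({X * Y - MvPowerSeries.C 0} : Set _) from rfl)), zero_mul, add_zero, Ideal.Quotient.eq_zero_iff_mem,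
        map_add, map_mul, map_mul, map_pow, map_pow]
      refine I.add_mem (I.mul_mem_right _ (Ideal.subset_span (Or.inl rfl))) ?_
      have : algebraMap k (SpinCurv.NodeRing k 0) w⁻¹ *
          (algebraMap k (SpinCurv.NodeRing k 0) w * SpinCurv.NodeRing.y k 0 ^ v) ∈ I :=
        I.mul_mem_left _ (Ideal.subset_span (Or.inr rfl))
      rw [← mul_assoc, ← map_mul, inv_mul_cancel₀ hw, map_one, one_mul] at this
      exact I.mul_mem_right _ this
    · rw [LinearMap.mem_ker] at hf
      change Ideal.Quotient.mk I (Ideal.Quotient.mk _ f) = 0 at hf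
      rw [Ideal.Quotient.eq_zero_iff_mem] at hf
      obtain ⟨a', b', hab⟩ := Ideal.mem_span_pair.1 hf
      obtain ⟨a, rfl⟩ := Ideal.Quotient.mk_surjective a'
      obtain ⟨b, rfl⟩ := Ideal.Quotient.mk_surjective b'
      rw [hw', ← map_pow, ← map_pow, ← map_mul, ← map_mul, ← map_mul, ← map_add, Ideal.Quotient.eq,
        Ideal.mem_span_singleton] at hab
      obtain ⟨c, hc⟩ := hab
      have hfe : f = X ^ u * a + Y ^ v * (b * MvPowerSeries.C w) - (X * Y - MvPowerSeries.C 0) * c := by
        linear_combination (-1 : MvPowerSeries (Fin 2) k) * hc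
      rw [LinearMap.mem_ker, hfe, hXu, hYv, hXY]
      refine Prod.ext (funext fun i => ?_) (funext fun j => ?_)
      · simp only [Φ, LinearMap.prod_apply, Function.prod_apply, LinearMap.pi_apply, Prod.fst_zero, Prod.snd_zero, Pi.zero_apply]
        simp only [map_add, map_sub, MvPowerSeries.coeff_monomial_mul, hle, he0, he1]
        rw [if_neg (by have := i.isLt; omega), if_neg (by omega), if_neg (by omega)]
        simp
      · simp only [Φ, LinearMap.prod_apply, Function.prod_apply, LinearMap.pi_apply, Prod.fst_zero, Prod.snd_zero, Pi.zero_apply]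
        simp only [map_add, map_sub, MvPowerSeries.coeff_monomial_mul, hle, he0, he1]
        rw [if_neg (by omega), if_neg (by have := j.isLt; omega), if_neg (by omega)]
        simp
  change Module.finrank k (SpinCurv.NodeRing k 0 ⧸ I) = _
  rw [(((LinearMap.quotKerEquivOfSurjective φ.toLinearMap hφ).symm.trans
    (Submodule.quotEquivOfEq _ _ hker.symm)).trans (LinearMap.quotKerEquivOfSurjective Φ hΦ)).finrank_eq,
    Module.finrank_prod, Module.finrank_fin_fun, Module.finrank_fin_fun]
  omega

end Groth.Agent.S18434
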