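import Groth.Statements.S18435
import Groth.Agent.SpinNodeLib.Poly

set_option autoImplicit false
universe u
open SpinCurv

namespace Groth.Agent.S18435

/-- Let k be a field and A = k[x, y]/(xy) the node, with the two affine charts U = Spec k[s, y]/(sy) and
V = Spec k[t, x]/(tx) of the curve obtained by the (p, q)-construction with p = q = 0, glued along
k[s, s⁻¹] by t = s⁻¹ (y ↦ 0 from U, x ↦ 0 from V), and with A → O(U) given by x ↦ 0, y ↦ y and A →
O(V) by x ↦ x, y ↦ 0. A global section of O(1) is a pair (g, f) with g = s f on U ∩ V. If such a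
pair is annihilated by both x and y (acting through the two restriction maps), then g = 0 and f = 0;
so the module of global sections of O(1) has no nonzero element killed by the maximal ideal (x, y),
i.e. its direct image on the node is torsion-free there. All three coordinate rings are written as
the quotient of the polynomial ring in two variables by the product of the variables, and the four
restriction homomorphisms are k-algebra maps pinned by their values on generators. (The published
proof reduces the torsion-freeness of the direct image of O(1), for general R, p, q, to exactly this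
case of a field with p = q = 0.) -/
theorem result (k : Type u) [Field k]
    (rU : SpinCurv.PolyNodeRing k 0 →ₐ[k] SpinCurv.PolyNodeRing k 0)
    (hrUx : rU (SpinCurv.PolyNodeRing.x k 0) = 0)
    (hrUy : rU (SpinCurv.PolyNodeRing.y k 0) = SpinCurv.PolyNodeRing.y k 0)
    (rV : SpinCurv.PolyNodeRing k 0 →ₐ[k] SpinCurv.PolyNodeRing k 0)
    (hrVx : rV (SpinCurv.PolyNodeRing.x k 0) = SpinCurv.PolyNodeRing.y k 0)
    (hrVy : rV (SpinCurv.PolyNodeRing.y k 0) = 0)
    (gU : SpinCurv.PolyNodeRing k 0 →ₐ[k] LaurentPolynomial k)
    (hgUs : gU (SpinCurv.PolyNodeRing.x k 0) = LaurentPolynomial.T 1)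
    (hgUy : gU (SpinCurv.PolyNodeRing.y k 0) = 0)
    (gV : SpinCurv.PolyNodeRing k 0 →ₐ[k] LaurentPolynomial k)
    (hgVt : gV (SpinCurv.PolyNodeRing.x k 0) = LaurentPolynomial.T (-1))
    (hgVx : gV (SpinCurv.PolyNodeRing.y k 0) = 0)
    (g f : SpinCurv.PolyNodeRing k 0) (hsec : gU g = LaurentPolynomial.T 1 * gV f)
    (hx : rU (SpinCurv.PolyNodeRing.x k 0) * g = 0 ∧ rV (SpinCurv.PolyNodeRing.x k 0) * f = 0)
    (hy : rU (SpinCurv.PolyNodeRing.y k 0) * g = 0 ∧ rV (SpinCurv.PolyNodeRing.y k 0) * f = 0) :
    g = 0 ∧ f = 0 := by
  classical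
  obtain ⟨B, hB⟩ := SpinNodeLib.exists_basis (0 : k)
  have hU : gU (SpinCurv.PolyNodeRing.y k 0) = LaurentPolynomial.C 0 * LaurentPolynomial.T (-1) := by
    rw [hgUy, map_zero, zero_mul]
  have hV : gV (SpinCurv.PolyNodeRing.y k 0) = LaurentPolynomial.C 0 * LaurentPolynomial.T 1 := by
    rw [hgVx, map_zero, zero_mul]
  obtain ⟨u, hu1, hu2⟩ := ((SpinNodeLib.sections gU hgUs hU gV hgVt hV 1 (by norm_num)).2 g f).1 hsec
  -- multiplication by `y` shifts the coefficients of nonpositive index
  have key : ∀ h : SpinCurv.PolyNodeRing k 0, SpinCurv.PolyNodeRing.y k 0 * h = 0 → ∀ z ≤ 0, B.repr h z = 0 := by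
    intro h hh z hz
    have e : B.repr (SpinCurv.PolyNodeRing.y k 0 * h) (z - 1) = B.repr h z := by
      conv_lhs => rw [← B.linearCombination_repr h]
      generalize B.repr h = v
      induction v using Finsupp.induction_linear with
      | zero => simp
      | add a b ha hb => rw [map_add, mul_add, map_add, Finsupp.add_apply, ha, hb, Finsupp.add_apply]
      | single w r =>
        rw [Finsupp.linearCombination_single, mul_smul_comm, hB, map_smul, Finsupp.smul_apply, smul_eq_mul,
          Finsupp.single_apply]
        rcases le_or_gt w 0 with hw | hw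
        · have : SpinCurv.PolyNodeRing.y k 0 * SpinNodeLib.emon 0 w = B (w - 1) := by
            rw [hB, SpinNodeLib.emon, SpinNodeLib.emon, show (w - 1).toNat = 0 by omega, show w.toNat = 0 by omega,
              show (-(w - 1)).toNat = (-w).toNat + 1 by omega, pow_succ]
            ring
          rw [this, B.repr_self, Finsupp.single_apply]
          by_cases h' : w = z
          · rw [if_pos h', if_pos (by omega), mul_one]
          · rw [if_neg h', if_neg (by omega), mul_zero]
        · have : SpinCurv.PolyNodeRing.y k 0 * SpinNodeLib.emon 0 w = 0 := by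
            obtain ⟨m, hm⟩ : ∃ m, w.toNat = m + 1 := ⟨w.toNat - 1, by omega⟩
            rw [SpinNodeLib.emon, show (-w).toNat = 0 by omega, pow_zero, mul_one, hm, pow_succ',
              ← mul_assoc, mul_comm (SpinCurv.PolyNodeRing.y k 0), SpinNodeLib.xy_eq]; simp
          rw [this, map_zero, Finsupp.zero_apply, mul_zero, if_neg (by omega)]
    rw [← e, hh, map_zero, Finsupp.zero_apply]
  have hgz := key g (by rw [← hrUy]; exact hy.1)
  have hfz := key f (by rw [← hrVx]; exact hx.2)
  have hg : ∀ z, B.repr g z = (if 0 ≤ z then SpinNodeLib.cU (0 : k) (1 - z) else 1) * u z := by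
    intro z
    rw [← hu1]
    clear hu1 hu2
    induction u using Finsupp.induction_linear with
    | zero => simp
    | add a b ha hb => rw [map_add, map_add, Finsupp.add_apply, ha, hb, Finsupp.add_apply, mul_add]
    | single w r =>
      rw [Finsupp.linearCombination_single, SpinNodeLib.secU, ← hB, map_smul, map_smul, B.repr_self,
        Finsupp.smul_apply, Finsupp.smul_apply, Finsupp.single_apply, Finsupp.single_apply, smul_eq_mul, smul_eq_mul]
      by_cases h1 : w = z
      · subst h1; simp only [if_pos]; ring
      · simp only [if_neg h1, mul_zero]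
  have hf : ∀ z, B.repr f (1 - z) = (if 0 ≤ z then 1 else SpinNodeLib.cU (0 : k) z) * u z := by
    intro z
    rw [← hu2]
    clear hu1 hu2 hg
    induction u using Finsupp.induction_linear with
    | zero => simp
    | add a b ha hb => rw [map_add, map_add, Finsupp.add_apply, ha, hb, Finsupp.add_apply, mul_add]
    | single w r =>
      rw [Finsupp.linearCombination_single, SpinNodeLib.secV, ← hB, map_smul, map_smul, B.repr_self,
        Finsupp.smul_apply, Finsupp.smul_apply, Finsupp.single_apply, Finsupp.single_apply, smul_eq_mul, smul_eq_mul]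
      by_cases h : w = z
      · subst h; rw [if_pos rfl, if_pos rfl]; ring
      · rw [if_neg (show ¬ 1 - w = 1 - z by omega), if_neg h]; ring
  have h0 : u = 0 := by
    refine Finsupp.ext fun z => ?_
    rcases le_or_gt 1 z with hz | hz
    · have := hf z
      rw [hfz _ (by omega), if_pos (by omega), one_mul] at this
      exact this.symm
    · have := hg z
      rw [hgz _ (by omega)] at this
      by_cases hz0 : 0 ≤ z
      · rw [if_pos hz0, SpinNodeLib.cU, show (-(1 - z)).toNat = 0 by omega, pow_zero, one_mul] at this
        exact this.symm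
      · rw [if_neg hz0, one_mul] at this
        exact this.symm
  subst h0
  exact ⟨by rw [← hu1, map_zero], by rw [← hu2, map_zero]⟩

end Groth.Agent.S18435
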