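import Groth.Statements.S18436
import Groth.Agent.SpinNodeLib.Poly

set_option autoImplicit false
universe u
open SpinCurv

namespace Groth.Agent.S18436

/-- Let R be a commutative ring and p, q ∈ R, and consider the two affine charts U = Spec R[s, y]/(sy -
q) and V = Spec R[t, x]/(xt - p) of the curve obtained from the node xy = pq by the (p,
q)-construction, glued along R[s, s⁻¹] by t = s⁻¹ (so y = q s⁻¹ on U and x = p s on V). For an
integer n ≥ -1 the global sections of the twisting sheaf O(n) (equal to vⁿ O on U and to ξⁿ O on V,
ξ = s v) are the pairs (g, f) of functions on U and V with g = sⁿ f on U ∩ V. This R-module, written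
as the kernel of the R-linear map (g, f) ↦ g|_{U ∩ V} - sⁿ · f|_{U ∩ V} into R[s, s⁻¹], is free over
R (hence the direct image of O(n) on the node is flat over R). Both chart rings are written as the
quotient of the polynomial ring in two variables by (first variable)·(second variable) - constant,
and the two restriction homomorphisms to R[s, s⁻¹] are R-algebra maps pinned by their values on
generators. (The published setting has R complete local and p, q in the maximal ideal; the printed
computation uses neither.) -/
theorem result (R : Type u) [CommRing R] (p q : R)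
    (gU : SpinCurv.PolyNodeRing R q →ₐ[R] LaurentPolynomial R)
    (hgUs : gU (SpinCurv.PolyNodeRing.x R q) = LaurentPolynomial.T 1)
    (hgUy : gU (SpinCurv.PolyNodeRing.y R q) = LaurentPolynomial.C q * LaurentPolynomial.T (-1))
    (gV : SpinCurv.PolyNodeRing R p →ₐ[R] LaurentPolynomial R)
    (hgVt : gV (SpinCurv.PolyNodeRing.x R p) = LaurentPolynomial.T (-1))
    (hgVx : gV (SpinCurv.PolyNodeRing.y R p) = LaurentPolynomial.C p * LaurentPolynomial.T 1)
    (n : ℤ) (hn : -1 ≤ n) :
    Module.Free R (LinearMap.ker
      (gU.toLinearMap.comp (LinearMap.fst R (SpinCurv.PolyNodeRing R q) (SpinCurv.PolyNodeRing R p)) -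
        (LinearMap.mulLeft R (LaurentPolynomial.T n)).comp
          (gV.toLinearMap.comp (LinearMap.snd R (SpinCurv.PolyNodeRing R q) (SpinCurv.PolyNodeRing R p))))) := by
  classical
  obtain ⟨hinj, hiff⟩ := SpinNodeLib.sections gU hgUs hgUy gV hgVt hgVx n hn
  let Φ : (ℤ →₀ R) →ₗ[R] SpinCurv.PolyNodeRing R q × SpinCurv.PolyNodeRing R p :=
    (Finsupp.linearCombination R (SpinNodeLib.secU p q n)).prod (Finsupp.linearCombination R (SpinNodeLib.secV p q n))
  have hΦ : Function.Injective Φ := hinj
  have hr : LinearMap.range Φ = LinearMap.ker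
      (gU.toLinearMap.comp (LinearMap.fst R (SpinCurv.PolyNodeRing R q) (SpinCurv.PolyNodeRing R p)) -
        (LinearMap.mulLeft R (LaurentPolynomial.T n)).comp
          (gV.toLinearMap.comp (LinearMap.snd R (SpinCurv.PolyNodeRing R q) (SpinCurv.PolyNodeRing R p)))) := by
    refine Submodule.ext fun ⟨g, f⟩ => ?_
    rw [LinearMap.mem_range, LinearMap.mem_ker]
    simp only [LinearMap.sub_apply, LinearMap.comp_apply, LinearMap.fst_apply, LinearMap.snd_apply,
      LinearMap.mulLeft_apply, AlgHom.toLinearMap_apply, sub_eq_zero, hiff, Φ, LinearMap.prod_apply,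
      Function.prod_apply, Prod.mk.injEq]
  exact Module.Free.of_equiv ((LinearEquiv.ofInjective Φ hΦ).trans (LinearEquiv.ofEq _ _ hr))

end Groth.Agent.S18436
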