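import Groth.Statements.S18437
import Groth.Agent.SpinNodeLib.Poly

set_option autoImplicit false
universe u
open SpinCurv

namespace Groth.Agent.S18437

/-- Let R be a commutative ring and p, q ∈ R; put A = R[x, y]/(xy - pq) and consider the two affine
charts U = Spec R[s, y]/(sy - q) and V = Spec R[t, x]/(xt - p) of the curve obtained from Spec A by
blowing up as in the (p, q)-construction, glued along R[s, s⁻¹] by t = s⁻¹ (so y = q s⁻¹ on U and x
= p s on V), with the projection to Spec A given by x ↦ p s, y ↦ y on U and x ↦ x, y ↦ q t on V. For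
n ≥ 0 the twisting sheaf O(n) is vⁿ O on U and ξⁿ O on V with ξ = s v, so its global sections are
the pairs (g, f) of functions on U and V with g = sⁿ f on U ∩ V. Then the map A^{n+1} → O(U) × O(V)
sending (F_0, …, F_n), i.e. the section Σ F_i ξ^{n-i} v^i, to (Σ F_i|_U s^{n-i}, Σ F_i|_V t^i) has
image exactly the set of such pairs, and F is sent to zero exactly when it lies in the A-submodule
of A^{n+1} generated by the vectors p e_i - x e_{i+1} and y e_i - q e_{i+1} for 0 ≤ i < n (e_0, …,
e_n the standard basis). So the global sections of O(n) form the degree-n piece of A[ξ, v]/(p ξ - x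
v, q v - y ξ). For n = 0 this says that a ↦ (a|_U, a|_V) is injective on A with image the pairs of
functions that agree on U ∩ V, so that the functions on the blown-up curve are exactly the functions
on Spec A (the direct image of its structure sheaf is the structure sheaf of Spec A); for n = 1 it
presents the global sections of O(1) as A ξ ⊕ A v modulo the relations p ξ = x v and y ξ = q v. Here
R[s, y]/(sy - q) and R[t, x]/(xt - p) are both written as the quotient of the polynomial ring in two
variables by (first variable)·(second variable) - constant, the homomorphisms rU, rV are the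
restriction maps from A to the two charts and gU, gV the restriction maps from the charts to their
intersection R[s, s⁻¹] (Laurent polynomials), each pinned by its values on the two generators. (The
published setting has R complete local and p, q in the maximal ideal, and reduces to this polynomial
computation, which uses neither.) -/
theorem result (R : Type u) [CommRing R] (p q : R)
    (rU : SpinCurv.PolyNodeRing R (p * q) →ₐ[R] SpinCurv.PolyNodeRing R q)
    (hrUx : rU (SpinCurv.PolyNodeRing.x R (p * q)) = algebraMap R _ p * SpinCurv.PolyNodeRing.x R q)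
    (hrUy : rU (SpinCurv.PolyNodeRing.y R (p * q)) = SpinCurv.PolyNodeRing.y R q)
    (rV : SpinCurv.PolyNodeRing R (p * q) →ₐ[R] SpinCurv.PolyNodeRing R p)
    (hrVx : rV (SpinCurv.PolyNodeRing.x R (p * q)) = SpinCurv.PolyNodeRing.y R p)
    (hrVy : rV (SpinCurv.PolyNodeRing.y R (p * q)) = algebraMap R _ q * SpinCurv.PolyNodeRing.x R p)
    (gU : SpinCurv.PolyNodeRing R q →ₐ[R] LaurentPolynomial R)
    (hgUs : gU (SpinCurv.PolyNodeRing.x R q) = LaurentPolynomial.T 1)
    (hgUy : gU (SpinCurv.PolyNodeRing.y R q) = LaurentPolynomial.C q * LaurentPolynomial.T (-1))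
    (gV : SpinCurv.PolyNodeRing R p →ₐ[R] LaurentPolynomial R)
    (hgVt : gV (SpinCurv.PolyNodeRing.x R p) = LaurentPolynomial.T (-1))
    (hgVx : gV (SpinCurv.PolyNodeRing.y R p) = LaurentPolynomial.C p * LaurentPolynomial.T 1) (n : ℕ) :
    Set.range (fun F : Fin (n + 1) → SpinCurv.PolyNodeRing R (p * q) =>
        (∑ i : Fin (n + 1), rU (F i) * SpinCurv.PolyNodeRing.x R q ^ (n - (i : ℕ)),
         ∑ i : Fin (n + 1), rV (F i) * SpinCurv.PolyNodeRing.x R p ^ (i : ℕ))) =
      {gf : SpinCurv.PolyNodeRing R q × SpinCurv.PolyNodeRing R p |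
        gU gf.1 = LaurentPolynomial.T (n : ℤ) * gV gf.2} ∧
    {F : Fin (n + 1) → SpinCurv.PolyNodeRing R (p * q) |
        (∑ i : Fin (n + 1), rU (F i) * SpinCurv.PolyNodeRing.x R q ^ (n - (i : ℕ)),
         ∑ i : Fin (n + 1), rV (F i) * SpinCurv.PolyNodeRing.x R p ^ (i : ℕ)) = 0} =
      (Submodule.span (SpinCurv.PolyNodeRing R (p * q))
        (Set.range (fun i : Fin n =>
            (Pi.single (Fin.castSucc i) (algebraMap R (SpinCurv.PolyNodeRing R (p * q)) p) -
              Pi.single (Fin.succ i) (SpinCurv.PolyNodeRing.x R (p * q)) : Fin (n + 1) → SpinCurv.PolyNodeRing R (p * q))) ∪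
         Set.range (fun i : Fin n =>
            (Pi.single (Fin.castSucc i) (SpinCurv.PolyNodeRing.y R (p * q)) -
              Pi.single (Fin.succ i) (algebraMap R (SpinCurv.PolyNodeRing R (p * q)) q) : Fin (n + 1) → SpinCurv.PolyNodeRing R (p * q)))) :
        Set (Fin (n + 1) → SpinCurv.PolyNodeRing R (p * q))) := by
  classical
  obtain ⟨hinj, hiff⟩ := SpinNodeLib.sections gU hgUs hgUy gV hgVt hgVx (n : ℤ) (by omega)
  obtain ⟨B, hB⟩ := SpinNodeLib.exists_basis (p * q)
  let Ψ : (Fin (n + 1) → (SpinCurv.PolyNodeRing R (p * q))) →ₗ[R] SpinCurv.PolyNodeRing R q × SpinCurv.PolyNodeRing R p :=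
    ∑ i : Fin (n + 1), LinearMap.prod
      ((LinearMap.mulRight R (SpinCurv.PolyNodeRing.x R q ^ (n - (i : ℕ)))).comp
        (rU.toLinearMap.comp (LinearMap.proj i)))
      ((LinearMap.mulRight R (SpinCurv.PolyNodeRing.x R p ^ (i : ℕ))).comp
        (rV.toLinearMap.comp (LinearMap.proj i)))
  have hΨ : ∀ F, Ψ F = (∑ i : Fin (n + 1), rU (F i) * SpinCurv.PolyNodeRing.x R q ^ (n - (i : ℕ)),
      ∑ i : Fin (n + 1), rV (F i) * SpinCurv.PolyNodeRing.x R p ^ (i : ℕ)) := by
    intro F
    simp [Ψ, LinearMap.sum_apply, Prod.ext_iff, Prod.fst_sum, Prod.snd_sum]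
  have hsingle : ∀ (i : Fin (n + 1)) (a : (SpinCurv.PolyNodeRing R (p * q))), Ψ (Pi.single i a) =
      (rU a * SpinCurv.PolyNodeRing.x R q ^ (n - (i : ℕ)), rV a * SpinCurv.PolyNodeRing.x R p ^ (i : ℕ)) := by
    intro i a
    rw [hΨ]
    congr 1
    · rw [Finset.sum_eq_single i (fun j _ hj => by rw [Pi.single_eq_of_ne hj, map_zero, zero_mul]) (by simp),
        Pi.single_eq_same]
    · rw [Finset.sum_eq_single i (fun j _ hj => by rw [Pi.single_eq_of_ne hj, map_zero, zero_mul]) (by simp),
        Pi.single_eq_same]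
  -- normal forms
  let idx : ℤ → Fin (n + 1) := fun z => ⟨min ((n : ℤ) - z).toNat n, by omega⟩
  let nf : ℤ → Fin (n + 1) → (SpinCurv.PolyNodeRing R (p * q)) := fun z => Pi.single (idx z)
    (SpinCurv.PolyNodeRing.x R (p * q) ^ (z - n).toNat * SpinCurv.PolyNodeRing.y R (p * q) ^ (-z).toNat)
  have hnf : ∀ z, Ψ (nf z) = (SpinNodeLib.secU p q n z, SpinNodeLib.secV p q n z) := by
    intro z
    have hsm : ∀ (π : R) (r : R) (a : SpinCurv.PolyNodeRing R π), r • a = algebraMap R _ r * a := by
      intro π r a
      obtain ⟨w, rfl⟩ := Ideal.Quotient.mk_surjective a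
      change Ideal.Quotient.mk _ (r • w) = Ideal.Quotient.mk _ (MvPolynomial.C r) * _
      rw [MvPolynomial.smul_eq_C_mul, map_mul]
    rw [hsingle]
    simp only [map_mul, map_pow, hrUx, hrUy, hrVx, hrVy, mul_pow]
    refine Prod.ext ?_ ?_ <;> dsimp only [idx]
    · rw [SpinNodeLib.secU, hsm, SpinNodeLib.emon,
        show z.toNat = (z - n).toNat + (n - min ((n : ℤ) - z).toNat n) by omega,
        show (if 0 ≤ z then SpinNodeLib.cU p (n - z) else 1) = p ^ (z - n).toNat by
          rw [SpinNodeLib.cU, neg_sub]; split_ifs with h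
          · rfl
          · rw [show (z - n).toNat = 0 by omega, pow_zero], map_pow, pow_add]
      ring
    · rw [SpinNodeLib.secV, hsm, SpinNodeLib.emon, neg_sub,
        show ((n : ℤ) - z).toNat = (-z).toNat + min ((n : ℤ) - z).toNat n by omega,
        show (if 0 ≤ z then 1 else SpinNodeLib.cU q z) = q ^ (-z).toNat by
          rw [SpinNodeLib.cU]; split_ifs with h
          · rw [show (-z).toNat = 0 by omega, pow_zero]
          · rfl, map_pow, pow_add]
      rw [show min ((-z).toNat + min ((n : ℤ) - z).toNat n) n = min ((n : ℤ) - z).toNat n by omega]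
      ring
  let K := Submodule.span (SpinCurv.PolyNodeRing R (p * q))
      (Set.range (fun i : Fin n =>
          (Pi.single (Fin.castSucc i) (algebraMap R (SpinCurv.PolyNodeRing R (p * q)) p) -
            Pi.single (Fin.succ i) (SpinCurv.PolyNodeRing.x R (p * q)) : Fin (n + 1) → (SpinCurv.PolyNodeRing R (p * q)))) ∪
       Set.range (fun i : Fin n =>
          (Pi.single (Fin.castSucc i) (SpinCurv.PolyNodeRing.y R (p * q)) -
            Pi.single (Fin.succ i) (algebraMap R (SpinCurv.PolyNodeRing R (p * q)) q) : Fin (n + 1) → (SpinCurv.PolyNodeRing R (p * q)))))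
  -- the maps are compatible on the overlap
  have hgg : ∀ a : (SpinCurv.PolyNodeRing R (p * q)), gU (rU a) = gV (rV a) := by
    have : gU.comp rU = gV.comp rV := by
      refine Ideal.Quotient.algHom_ext _ (MvPolynomial.algHom_ext fun i => ?_)
      fin_cases i
      · change gU (rU (SpinCurv.PolyNodeRing.x R (p * q))) = gV (rV (SpinCurv.PolyNodeRing.x R (p * q)))
        rw [hrUx, hrVx, map_mul, AlgHom.commutes, hgUs, hgVx]; rfl
      · change gU (rU (SpinCurv.PolyNodeRing.y R (p * q))) = gV (rV (SpinCurv.PolyNodeRing.y R (p * q)))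
        rw [hrUy, hrVy, map_mul, AlgHom.commutes, hgUy, hgVt]; rfl
    exact fun a => AlgHom.congr_fun this a
  have hsec : ∀ F, gU (Ψ F).1 = LaurentPolynomial.T (n : ℤ) * gV (Ψ F).2 := by
    intro F
    rw [hΨ]
    simp only [map_sum, map_mul, map_pow, Finset.mul_sum, hgg, hgUs, hgVt, LaurentPolynomial.T_pow]
    refine Finset.sum_congr rfl fun i _ => ?_
    rw [mul_left_comm, ← LaurentPolynomial.T_add]
    congr 2
    have := i.isLt; omega
  -- the relations
  have hK : ∀ F ∈ K, Ψ F = 0 := by
    intro F hF
    refine Submodule.span_induction ?_ (map_zero Ψ) (fun a b _ _ ha hb => by rw [map_add, ha, hb, add_zero]) ?_ hF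
    · rintro _ (⟨i, rfl⟩ | ⟨i, rfl⟩) <;>
        rw [map_sub, hsingle, hsingle, sub_eq_zero] <;>
        simp only [AlgHom.commutes, hrUx, hrUy, hrVx, hrVy, Fin.val_castSucc, Fin.val_succ, Prod.mk.injEq] <;>
        rw [show n - (i : ℕ) = (n - ((i : ℕ) + 1)) + 1 by have := i.isLt; omega, pow_succ', pow_succ'] <;>
        (try rw [← SpinNodeLib.xy_eq p]) <;> (try rw [← SpinNodeLib.xy_eq q]) <;>
        constructor <;> ring
    · intro a v _ hv
      rw [hΨ] at hv
      obtain ⟨h1, h2⟩ := Prod.mk_eq_zero.1 hv
      rw [hΨ, Prod.mk_eq_zero]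
      constructor
      · rw [← mul_zero (rU a), ← h1, Finset.mul_sum]
        exact Finset.sum_congr rfl fun i _ => by rw [Pi.smul_apply, smul_eq_mul, map_mul, mul_assoc]
      · rw [← mul_zero (rV a), ← h2, Finset.mul_sum]
        exact Finset.sum_congr rfl fun i _ => by rw [Pi.smul_apply, smul_eq_mul, map_mul, mul_assoc]
  -- reduction to the normal forms
  let σ := Finsupp.linearCombination R nf
  let M : Submodule R (Fin (n + 1) → (SpinCurv.PolyNodeRing R (p * q))) := LinearMap.range σ ⊔ K.restrictScalars R
  have hMnf : ∀ z, nf z ∈ M := fun z =>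
    Submodule.mem_sup_left ⟨Finsupp.single z 1, by simp [σ]⟩
  have hx : ∀ (i : ℕ) (hi : i < n + 1) (a : ℕ),
      (Pi.single ⟨i, hi⟩ (SpinCurv.PolyNodeRing.x R (p * q) ^ a) : Fin (n + 1) → (SpinCurv.PolyNodeRing R (p * q))) ∈ M := by
    intro i
    induction i with
    | zero =>
      intro hi a
      convert hMnf ((n : ℤ) + a) using 1
      dsimp only [nf, idx]
      congr 1
      · ext; dsimp only; omega
      · rw [show ((n : ℤ) + a - n).toNat = a by omega, show (-((n : ℤ) + a)).toNat = 0 by omega, pow_zero, mul_one]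
    | succ j ih =>
      intro hi a
      cases a with
      | zero =>
        convert hMnf ((n : ℤ) - (j + 1 : ℕ)) using 1
        dsimp only [nf, idx]
        congr 1
        · ext; dsimp only; omega
        · rw [show ((n : ℤ) - (j + 1 : ℕ) - n).toNat = 0 by omega, show (-((n : ℤ) - (j + 1 : ℕ))).toNat = 0 by omega,
            pow_zero, pow_zero, mul_one]
      | succ a =>
        have hg : SpinCurv.PolyNodeRing.x R (p * q) ^ a •
            (Pi.single (Fin.castSucc (⟨j, by omega⟩ : Fin n)) (algebraMap R (SpinCurv.PolyNodeRing R (p * q)) p) -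
              Pi.single (Fin.succ (⟨j, by omega⟩ : Fin n)) (SpinCurv.PolyNodeRing.x R (p * q)) : Fin (n + 1) → (SpinCurv.PolyNodeRing R (p * q))) ∈ K :=
          K.smul_mem _ (Submodule.subset_span (Or.inl ⟨_, rfl⟩))
        have := M.sub_mem (M.smul_mem p (ih (by omega) a)) (Submodule.mem_sup_right (S := LinearMap.range σ) hg)
        convert this using 1
        rw [smul_sub, ← algebraMap_smul (SpinCurv.PolyNodeRing R (p * q)) p, ← Pi.single_smul', ← Pi.single_smul', ← Pi.single_smul', smul_eq_mul,
          smul_eq_mul, smul_eq_mul, ← pow_succ]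
        rw [mul_comm (algebraMap R (SpinCurv.PolyNodeRing R (p * q)) p)]
        simp
  have hy : ∀ (d i : ℕ) (hi : i < n + 1), i + d = n → ∀ a : ℕ,
      (Pi.single ⟨i, hi⟩ (SpinCurv.PolyNodeRing.y R (p * q) ^ a) : Fin (n + 1) → (SpinCurv.PolyNodeRing R (p * q))) ∈ M := by
    intro d
    induction d with
    | zero =>
      intro i hi hid a
      convert hMnf (-(a : ℤ)) using 1
      dsimp only [nf, idx]
      congr 1
      · ext; dsimp only; omega
      · rw [show (-(a : ℤ) - n).toNat = 0 by omega, show (- -(a : ℤ)).toNat = a by omega, pow_zero, one_mul]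
    | succ d ih =>
      intro i hi hid a
      cases a with
      | zero =>
        convert hx i hi 0 using 1
        simp only [pow_zero]
      | succ a =>
        have hg : SpinCurv.PolyNodeRing.y R (p * q) ^ a •
            (Pi.single (Fin.castSucc (⟨i, by omega⟩ : Fin n)) (SpinCurv.PolyNodeRing.y R (p * q)) -
              Pi.single (Fin.succ (⟨i, by omega⟩ : Fin n)) (algebraMap R (SpinCurv.PolyNodeRing R (p * q)) q) : Fin (n + 1) → (SpinCurv.PolyNodeRing R (p * q))) ∈ K :=
          K.smul_mem _ (Submodule.subset_span (Or.inr ⟨_, rfl⟩))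
        have := M.add_mem (M.smul_mem q (ih (i + 1) (by omega) (by omega) a))
          (Submodule.mem_sup_right (S := LinearMap.range σ) hg)
        convert this using 1
        rw [smul_sub, ← algebraMap_smul (SpinCurv.PolyNodeRing R (p * q)) q, ← Pi.single_smul', ← Pi.single_smul', ← Pi.single_smul', smul_eq_mul,
          smul_eq_mul, smul_eq_mul, ← pow_succ]
        rw [mul_comm (algebraMap R (SpinCurv.PolyNodeRing R (p * q)) q)]
        simp
  have hM : ∀ F, F ∈ M := by
    intro F
    rw [← Finset.univ_sum_single F]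
    refine M.sum_mem fun i _ => ?_
    rw [← B.linearCombination_repr (F i)]
    generalize B.repr (F i) = v
    induction v using Finsupp.induction_linear with
    | zero => rw [map_zero, Pi.single_zero]; exact M.zero_mem
    | add a b ha hb => rw [map_add, Pi.single_add]; exact M.add_mem ha hb
    | single w r =>
      rw [Finsupp.linearCombination_single, hB, Pi.single_smul']
      refine M.smul_mem r ?_
      have := i.isLt
      rcases le_or_gt 0 w with hw | hw
      · rw [SpinNodeLib.emon, show (-w).toNat = 0 by omega, pow_zero, mul_one]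
        exact hx _ i.isLt _
      · rw [SpinNodeLib.emon, show w.toNat = 0 by omega, pow_zero, one_mul]
        exact hy (n - i) i i.isLt (by omega) _
  have hΨσ : ∀ u, Ψ (σ u) = (Finsupp.linearCombination R (SpinNodeLib.secU p q n) u,
      Finsupp.linearCombination R (SpinNodeLib.secV p q n) u) := by
    intro u
    induction u using Finsupp.induction_linear with
    | zero => simp only [map_zero]; rfl
    | add a b ha hb => rw [map_add, map_add, ha, hb, map_add, map_add]; rfl
    | single w r =>
      rw [Finsupp.linearCombination_single, map_smul, hnf, Finsupp.linearCombination_single,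
        Finsupp.linearCombination_single]
      rfl
  refine ⟨Set.ext fun ⟨g, f⟩ => ⟨?_, fun h => ?_⟩, Set.ext fun F => ⟨fun h => ?_, fun h => ?_⟩⟩
  · rintro ⟨F, hF⟩
    have := hsec F
    rw [(hΨ F).trans hF] at this
    exact this
  · obtain ⟨u, rfl, rfl⟩ := (hiff g f).1 h
    exact ⟨σ u, (hΨ _).symm.trans (hΨσ u)⟩
  · obtain ⟨_, ⟨u, rfl⟩, k, hk, rfl⟩ := Submodule.mem_sup.1 (hM F)
    have h0 : Ψ (σ u + k) = 0 := (hΨ _).trans h
    rw [map_add, hK k hk, add_zero, hΨσ] at h0
    have : u = 0 := hinj (by dsimp only; rw [h0, map_zero, map_zero]; rfl)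
    rw [this, map_zero, zero_add]
    exact hk
  · exact (hΨ F).symm.trans (hK F h)

end Groth.Agent.S18437
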