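import Groth.Statements.S18440
import Groth.Agent.SurfRows.RatFacts
import Groth.Agent.SurfRows.OrthClass

set_option autoImplicit false
set_option backward.isDefEq.respectTransparency false
set_option backward.isDefEq.respectTransparency.types false
set_option linter.style.haveILetI false
set_option linter.unusedSectionVars false
set_option maxHeartbeats 800000
universe u
open CategoryTheory CategoryTheory.Limits AlgebraicGeometry TopologicalSpace
open Surf

namespace Groth.Agent.S18440

open Groth.Agent.H23 Groth.Agent.H23.TrivBasic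
attribute [local instance] PicMul.clMonoid

/-- Let k be an algebraically closed field and X a smooth projective surface over k (an integral scheme,
proper and smooth over k of dimension 2) with H¹(X, O_X) = 0, and W a canonical module of X (a
second exterior power of Ω_{X/k}). Let C ⊆ X be an integral closed one-dimensional subscheme, smooth
over k, of arithmetic genus one, written χ(O_C) = 0 with the Euler characteristic of O_C computed on
X through the closed immersion (k being algebraically closed and C integral, H⁰(C, O_C) = k, so this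
says dim_k H¹(C, O_C) = 1), whose module O_X(C) — a tensor inverse N of the ideal I_C — is ample.
Then W ≅ I_C, that is ω_X ≅ O_X(−C) (existence of an isomorphism of invertible modules). (The
published statement is that a smooth del Pezzo surface of degree d embedded in projective d-space
has canonical module O_X(−1); its argument takes C a general hyperplane section and uses about the
embedding only that C is a smooth curve of genus one and that H¹(X, O_X) vanishes, facts it draws
from results quoted without proof; those two properties are the hypotheses here.) -/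
theorem result (k : Type u) [Field k] [IsAlgClosed k] (X : Scheme.{u})
    [X.Over (Spec (CommRingCat.of k))] [IsIntegral X] [IsProper (X ↘ (Spec (CommRingCat.of k)))] [Smooth (X ↘ (Spec (CommRingCat.of k)))]
    (hdim : topologicalKrullDim X = 2)
    (W : X.Modules) (hW : ExtPow.IsExtPow 2 (Omega.sheaf (X ↘ (Spec (CommRingCat.of k)))) W)
    (hq : Subsingleton (Coh.HH X (Coh.structureModule X) 1))
    (C : X.IdealSheafData) (hC : IsIntegral C.subscheme) (hC1 : topologicalKrullDim (C.support : Set X) = 1)
    (hCs : Smooth (C.subschemeι ≫ (X ↘ (Spec (CommRingCat.of k)))))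
    (hg : Curv2.euler k X (ClSub.quotMod C) = 0)
    (N : X.Modules) (hN : ClSub.IsInverseOf N (ClSub.idealMod C)) (hNample : CohB1.IsAmple N) :
    Nonempty (W ≅ ClSub.idealMod C) := by
  haveI := CurveCohLib.isNoetherian_of_proper (k := k) (X := X)
  haveI : X.IsSeparated := ⟨by
    rw [← Limits.terminal.comp_from (X ↘ Spec (CommRingCat.of k))]
    infer_instance⟩
  haveI := hC
  have hO := InvX.isInvertible_structureModule (X := X)
  have hWi := SurfAdj.isInvertible_W k hdim hW
  have hadj := SurfAdj.adjunction k hdim hW hC1
  obtain ⟨hI, hN', hcl⟩ : PicF.IsInvertible (ClSub.idealMod C) ∧ PicF.IsInvertible N ∧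
      PicF.cl N * PicF.cl (ClSub.idealMod C) = 1 :=
    ⟨hadj.1, CurveOnSurf.isInvertible_of_inverse hadj.1 hN⟩
  have hCN := SurfNegDef.pair_curve_ample_neg (k := k) hdim (SurfHodge.regular k) hC1 hNample
  have hinv : ∀ {A : X.Modules}, PicF.IsInvertible A → SurfPairing.pair k (PicF.cl A) (PicF.cl (ClSub.idealMod C)) =
      -SurfPairing.pair k (PicF.cl A) (PicF.cl N) := fun hA =>
    SurfPairing.pair_inv k hdim.le hA hN' hI hcl
  have hχC : SurfPairing.pair k (PicF.cl (ClSub.idealMod C)) (PicF.cl W) -
      SurfPairing.pair k (PicF.cl (ClSub.idealMod C)) (PicF.cl (ClSub.idealMod C)) = 0 := by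
    have h1 := SurfRows.euler_quot_eq k C ((S8914.result C).1 hI)
    have h2 := SurfAdj.rr k hdim hW hI
    rw [hg] at h1
    linarith
  have hWN : SurfPairing.pair k (PicF.cl W) (PicF.cl N) < 0 := by
    have h1 := hinv hWi
    have h2 := hinv hI
    rw [SurfPairing.pair_comm] at h1
    linarith
  have hsec : ∀ {M : X.Modules}, PicF.IsInvertible M → SurfPairing.pair k (PicF.cl M) (PicF.cl N) < 0 →
      Module.finrank k (Coh.HH X M 0) = 0 := fun {M} hM h => by
    by_contra h0
    obtain ⟨s, hs⟩ := CurveAmple.exists_section_ne_zero (M := M)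
      (Module.nontrivial_of_finrank_pos (R := k) (Nat.pos_of_ne_zero h0))
    exact absurd (SurfAmple.pair_nonneg (k := k) hdim.le hM hNample hs) (not_le.2 h)
  haveI := CurveFin.smoothOfRelativeDimension_of_dim (f := X ↘ Spec (CommRingCat.of k)) (d := 2) hdim
  obtain ⟨n, ι, hi, hι⟩ := AmpleEmbed.exists_closedImmersion (X ↘ Spec (CommRingCat.of k)) hNample
  haveI := hi
  have he : ∀ {M : X.Modules}, PicF.IsInvertible M → Curv2.euler k X M = (Module.finrank k (Coh.HH X M 0) : ℤ) -
      Module.finrank k (Coh.HH X M 1) + Module.finrank k (Coh.HH X M 2) := fun {M} hM => by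
    have he := Euler.euler_eq_sum k M 3 fun i hi =>
      Snapper.subsingleton_HH_of_dim_le (d := 2) hdim.le (AmpleVan.isCoh_invertible hM).1 (by omega)
    simp only [Finset.sum_range_succ, Finset.sum_range_zero] at he
    push_cast at he
    rw [he]
    ring
  have h2O : Module.finrank k (Coh.HH X (Coh.structureModule X) 2) = 0 := by
    have h := SmoothDuality.finrank_dual ι hι hW hO (show PicF.cl (Coh.structureModule X) *
      PicF.cl (Coh.structureModule X) = (1 : PicF.Cl X) by rw [← PicMul.one_def, one_mul]) 2 le_rfl
    rw [← h]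
    refine (SurfRows.h0_congr k ?_).trans (hsec hWi hWN)
    rw [PicMul.cl_tensor, ← PicMul.one_def, one_mul]
  have hχ : Curv2.euler k X (Coh.structureModule X) = 1 := by
    rw [he hO, h2O, SurfAdj.finrank_h0, Module.finrank_zero_of_subsingleton (M := Coh.HH X (Coh.structureModule X) 1)]
    rfl
  let M := CohB1.tensorMod W N
  have hM : PicF.IsInvertible M := PicMul.isInvertible_tensor hWi hN'
  have hMN : SurfPairing.pair k (PicF.cl M) (PicF.cl N) = 0 := by
    rw [SurfPairing.pair_comm, PicMul.cl_tensor, SurfPairing.pair_mul k hdim.le hN' hWi hN',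
      SurfPairing.pair_comm k (PicF.cl N) (PicF.cl W)]
    have h1 := hinv hWi
    have h2 := hinv hI
    have h3 := hinv hN'
    rw [SurfPairing.pair_comm] at h1 h3
    linarith
  have hrr := SurfAdj.rr k hdim hW hM
  have hMM : SurfPairing.pair k (PicF.cl M) (PicF.cl M) - SurfPairing.pair k (PicF.cl M) (PicF.cl W) = 0 := by
    conv_lhs => arg 1; arg 3; rw [PicMul.cl_tensor]
    rw [SurfPairing.pair_mul k hdim.le hM hWi hN', hMN]
    ring
  have h2M : Module.finrank k (Coh.HH X M 2) = 0 := by
    obtain ⟨L', hL', e⟩ := PicInv.exists_inverse hM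
    have h : PicF.cl M * PicF.cl L' = 1 := by
      rw [← PicMul.cl_tensor, PicMul.one_def]
      exact PicMul.cl_eq_iff.2 e
    rw [← SmoothDuality.finrank_dual ι hι hW hM h 2 le_rfl]
    refine (SurfRows.h0_congr k (N := ClSub.idealMod C) ?_).trans (hsec hI hCN)
    calc PicF.cl (CohB1.tensorMod L' W) = PicF.cl L' * PicF.cl W * (PicF.cl N * PicF.cl (ClSub.idealMod C)) := by
          rw [hcl, mul_one, PicMul.cl_tensor]
      _ = PicF.cl M * PicF.cl L' * PicF.cl (ClSub.idealMod C) := by
          rw [show PicF.cl M = PicF.cl W * PicF.cl N from PicMul.cl_tensor W N]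
          ac_rfl
      _ = _ := by rw [h, one_mul]
  rw [he hM, h2M, hχ] at hrr
  obtain ⟨s, hs⟩ := CurveAmple.exists_section_ne_zero (M := M)
    (Module.nontrivial_of_finrank_pos (R := k) (by omega))
  have htop : locus s = ⊤ := by
    by_contra h
    exact (SurfAmple.pair_pos (k := k) hdim (SurfHodge.regular k) hM hNample hs h).ne' hMN
  refine PicMul.cl_eq_iff.1 ?_
  have h1 : PicF.cl M = 1 := (PicMul.cl_eq_iff.2 (triv_of_frame (locus_eq_top_iff.1 htop))).trans PicMul.one_def.symm
  calc PicF.cl W = PicF.cl W * (PicF.cl N * PicF.cl (ClSub.idealMod C)) := by rw [hcl, mul_one]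
    _ = PicF.cl M * PicF.cl (ClSub.idealMod C) := by
        rw [show PicF.cl M = PicF.cl W * PicF.cl N from PicMul.cl_tensor W N, mul_assoc]
    _ = _ := by rw [h1, one_mul]

end Groth.Agent.S18440
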