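import Groth.Statements.S18442
import Groth.Agent.Synt29.CITwo

set_option autoImplicit false
set_option linter.style.haveILetI false
set_option backward.isDefEq.respectTransparency false
set_option backward.isDefEq.respectTransparency.types false
set_option maxHeartbeats 1000000
universe u
open CategoryTheory CategoryTheory.Limits AlgebraicGeometry TopologicalSpace
open Surf

namespace Groth.Agent.S18442

/-- Let k be an algebraically closed field and X ⊆ P⁴_k a smooth surface which is the complete
intersection of two quadrics: X is an integral scheme, smooth over k of dimension 2, with a closed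
immersion ι : X → P⁴_k over k whose kernel ideal sheaf is the ideal sheaf generated by two quadratic
forms G_0, G_1. Then a canonical module W of X (a second exterior power of Ω_{X/k}) is isomorphic to
ι^*O(−1) (existence of an isomorphism), so its tensor inverse ι^*O(1) is ample and X is a del Pezzo
surface. -/
theorem result (k : Type u) [Field k] [IsAlgClosed k] (X : Scheme.{u})
    [X.Over (Spec (CommRingCat.of k))] [IsIntegral X] [Smooth (X ↘ (Spec (CommRingCat.of k)))] (hdim : topologicalKrullDim X = 2)
    (ι : X ⟶ CohB1.ProjSpace 4 k) [IsClosedImmersion ι] (hι : ι ≫ CohB1.ProjSpace.toSpec 4 k = X ↘ (Spec (CommRingCat.of k)))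
    (G : Fin 2 → LefPen.Form 4 k 2) (hker : ι.ker = LefPen.ciIdeal G)
    (W : X.Modules) (hW : ExtPow.IsExtPow 2 (Omega.sheaf (X ↘ (Spec (CommRingCat.of k)))) W) :
    Nonempty (W ≅ (Scheme.Modules.pullback ι).obj (Twist.twistProjSpace 4 k (-1))) := by
  open Groth.Agent Groth.Agent.Synt29 Groth.Agent.H23.PicMul Groth.Agent.Pic13Lib in
  letI := H23.PicMul.clMonoid (X := X)
  have hker' : ι.ker = LefPen.hypIdeal (G 0) ⊔ LefPen.hypIdeal (G 1) := by
    rw [hker]
    refine le_antisymm (iSup_le fun j => ?_) (sup_le (le_iSup (fun j => LefPen.hypIdeal (G j)) 0) (le_iSup (fun j => LefPen.hypIdeal (G j)) 1))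
    fin_cases j
    · exact le_sup_left
    · exact le_sup_right
  have h := CITwo.cl_canonical (G 0) (G 1) (m := 2) (by norm_num) hdim ι hι hker' hW
  refine cl_eq_iff.1 (h.trans ((congrArg (tw ι) ?_).trans (tw_eq ι _)))
  norm_num

end Groth.Agent.S18442
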