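import Groth.Statements.S18445
import Groth.Agent.T1Lift.Basic

set_option autoImplicit false
universe u
open CategoryTheory
open Deform

namespace Groth.Agent.S18445

/-- Let k be a field of characteristic zero and R a complete local Noetherian k-algebra with residue
field k, with n the dimension of its cotangent space m_R/m_R². Then R is isomorphic as a k-algebra
to the power series ring k[[x_1, …, x_n]] if and only if for every local Artinian k-algebra A with
residue field k, all A-modules M and M' and every surjective A-linear map f : M' → M, every
k-algebra homomorphism R → A ⊕ M into the trivial square-zero extension is the composite of some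
k-algebra homomorphism R → A ⊕ M' with the map A ⊕ M' → A ⊕ M induced by f. (The modules are taken
in the universe of k, with the A-action on both sides equal; in positive characteristic the
criterion fails, e.g. for k[x]/(x^p).) -/
theorem result
    {k : Type u} [Field k] [CharZero k] (R : ArtFun.CRing k k) :
    Nonempty (R.carrier ≃ₐ[k] MvPowerSeries
        (Fin (Module.finrank (IsLocalRing.ResidueField R.carrier) (IsLocalRing.CotangentSpace R.carrier))) k) ↔
      ∀ (A : ArtFun.Art k k) (M M' : Type u) [AddCommGroup M] [Module (↥A) M] [Module (↥A)ᵐᵒᵖ M]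
        [IsCentralScalar (↥A) M] [Module k M] [IsScalarTower k (↥A) M] [IsScalarTower k (↥A)ᵐᵒᵖ M]
        [AddCommGroup M'] [Module (↥A) M'] [Module (↥A)ᵐᵒᵖ M'] [IsCentralScalar (↥A) M'] [Module k M']
        [IsScalarTower k (↥A) M'] [IsScalarTower k (↥A)ᵐᵒᵖ M'] (f : M' →ₗ[↥A] M),
        Function.Surjective f →
          ∀ φ : R.carrier →ₐ[k] TrivSqZeroExt (↥A) M,
            ∃ ψ : R.carrier →ₐ[k] TrivSqZeroExt (↥A) M',
              ∀ r : R.carrier, (ψ r).fst = (φ r).fst ∧ f (ψ r).snd = (φ r).snd := by
  constructor
  · rintro ⟨eq⟩
    intros
    exact Groth.Agent.T1Lift.lifts_of_iso R eq _ _ _ _ (by assumption) _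
  · exact fun h => Groth.Agent.T1Lift.nonempty_iso_of_lifts R h

end Groth.Agent.S18445
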