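import Groth.Statements.S18447
import Groth.Agent.DefCurve29.Build

set_option autoImplicit false
universe u
open CategoryTheory CategoryTheory.Limits AlgebraicGeometry
open Deform

namespace Groth.Agent.S18447

/-- Generically smooth local complete intersection curves are unobstructed. Let k be a field and X a
scheme of finite type over k, of dimension at most one, such that X → Spec k is a local complete
intersection morphism (syntomic at every point of X) and X is smooth over k on some dense open
subset. Then the functor Def_X of isomorphism classes of deformations of X over local Artinian
k-algebras with residue field k is smooth: for every surjection B → A every deformation over A lifts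
to B. The published statement is for a local complete intersection curve over k that is
geometrically reduced at its generic points; this row assumes instead that X is smooth over k on a
dense open subset (the same condition for schemes of finite type over a field), does not assume
properness, and allows dimension zero. -/
theorem result
    {k : Type u} [Field k] (X : Scheme.{u}) (x : X ⟶ Spec (CommRingCat.of k))
    [LocallyOfFiniteType x] [QuasiCompact x]
    (hdim : topologicalKrullDim X ≤ 1)
    (hlci : ∀ p : X, Synt.IsSyntomicAt x p)
    (hsm : ∃ U : X.Opens, Dense (U : Set X) ∧ Smooth (U.ι ≫ x)) :
    ArtFun.IsSmoothFunctor (ArtFun.defFunctor (Λ := k) X x) := by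
  intro B A μ hμ y
  obtain ⟨ξ₀, rfl⟩ := Groth.Agent.DefGlueLib.cl_surjective y
  obtain ⟨U, hd, hU⟩ := hsm
  obtain ⟨η, hη⟩ := DefCurve29.exists_lift ξ₀ hdim hlci U hd hU hμ
  exact ⟨η.cl, hη⟩

end Groth.Agent.S18447
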