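import Groth.Statements.S18449
import Groth.Agent.SurfRows.RatFacts
-- import your own Groth.Agent.* helpers here

set_option autoImplicit false
set_option backward.isDefEq.respectTransparency false
set_option backward.isDefEq.respectTransparency.types false
universe u
open CategoryTheory CategoryTheory.Limits AlgebraicGeometry TopologicalSpace
open Surf

namespace Groth.Agent.S18449

open Groth.Agent Groth.Agent.H23

attribute [local instance] PicMul.clMonoid

/-- Let k be an algebraically closed field of characteristic zero and X a smooth projective surface over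
k (an integral scheme, proper and smooth over k, of dimension 2). Let Z be a nonzero effective
Cartier divisor on X, given by its ideal sheaf I_Z ≠ O_X, and consider the nonzero effective Cartier
divisors Z' ≤ Z, i.e. those with I_Z = I_{Z'} · J for some effective Cartier ideal J. Then H¹(Z',
O_{Z'}) = 0 for every such Z' if and only if χ(O_{Z'}) ≥ 1, i.e. the arithmetic genus 1 − χ(O_{Z'})
is at most 0, for every such Z'; here cohomology and Euler characteristics are computed on X through
the direct image of O_{Z'}. The published statement is about the cycles supported on the exceptional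
curves of a resolution of a normal surface singularity over the complex numbers, where the first
condition is rationality of the singularity; this row states the equivalence, which the printed
induction proves using only adjunction and the sub-divisors of the given cycle, for the sub-divisors
of one effective divisor. -/
theorem result (k : Type u) [Field k] [IsAlgClosed k] [CharZero k]
    (X : Scheme.{u}) [X.Over (Spec (CommRingCat.of k))] [IsProper (X ↘ (Spec (CommRingCat.of k)))]
    [Smooth (X ↘ (Spec (CommRingCat.of k)))] [IsIntegral X] (hdim : topologicalKrullDim X = 2)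
    (Z : X.IdealSheafData) (hZ : FGA.IsEffCartier Z) (hZ0 : Z ≠ ⊤) :
    (∀ Z' J : X.IdealSheafData, FGA.IsEffCartier Z' → FGA.IsEffCartier J → Z' ≠ ⊤ → Z = Z' * J →
        Subsingleton (Coh.HH X (ClSub.quotMod Z') 1)) ↔
      (∀ Z' J : X.IdealSheafData, FGA.IsEffCartier Z' → FGA.IsEffCartier J → Z' ≠ ⊤ → Z = Z' * J →
        1 ≤ Curv2.euler k X (ClSub.quotMod Z')) := by
  have hinv : ∀ {A : X.IdealSheafData}, BlowUp.IsEffCartierIdeal A → PicF.IsInvertible (ClSub.idealMod A) :=
    fun h => (S8914.result _).2 h
  refine ⟨fun h Z' J hZ' hJ hne he => ?_, fun h Z' J hZ' hJ hne he => ?_⟩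
  · obtain ⟨s, hs, rfl⟩ := SurfRows.exists_curves k hdim hZ'
    haveI := h _ J hZ' hJ hne he
    rw [SurfRows.euler_eq_prod k hdim s hs, Module.finrank_zero_of_subsingleton (M := Coh.HH X (ClSub.quotMod s.prod) 1)]
    have := SurfRows.one_le_h0 k hne
    omega
  · obtain ⟨s₀, hs₀, rfl⟩ := SurfRows.exists_curves k hdim hZ'
    let P : Multiset X.IdealSheafData → Prop := fun s =>
      (∀ C ∈ s, IsIntegral C.subscheme ∧ topologicalKrullDim (C.support : Set X) = 1) ∧
      ∃ K : X.IdealSheafData, BlowUp.IsEffCartierIdeal K ∧ Z = s.prod * K
    refine SurfRows.h1_prod_zero k hdim P (fun C s hP _ => ?_) (fun s hP C hC => ?_) (fun s hP hne' => ?_) s₀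
      ⟨hs₀, J, hJ, he⟩ (fun h0 => hne (by rw [h0, Multiset.prod_zero, Scheme.IdealSheafData.one_eq_top]))
    · obtain ⟨hl, K, hK, e⟩ := hP
      obtain ⟨hint, hd⟩ := hl C (Multiset.mem_cons_self _ _)
      refine ⟨fun D hD => hl D (Multiset.mem_cons_of_mem hD), C * K,
        (S8914.result _).1 (IdealModMul.isInvertible_mul (SurfNef.invertible_ideal k hdim hint hd) (hinv hK)), ?_⟩
      rw [e, Multiset.prod_cons, mul_comm C s.prod, mul_assoc]
    · obtain ⟨hl, K, hK, e⟩ := hP
      obtain ⟨hint, hd⟩ := hl C hC
      obtain ⟨t, rfl⟩ := Multiset.exists_cons_of_mem hC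
      have ht := (SurfRows.eff_prod k hdim t fun D hD => hl D (Multiset.mem_cons_of_mem hD)).1
      have hCne : C ≠ ⊤ := by
        have := SurfRows.ne_top_of_mem (Multiset.mem_singleton_self C) hint
        rwa [Multiset.prod_singleton] at this
      exact ⟨hint, hd, h C (t.prod * K) (SurfRows.isEffCartier_curve k hdim hint hd)
        ((S8914.result _).1 (IdealModMul.isInvertible_mul (hinv ht) (hinv hK))) hCne
        (by rw [e, Multiset.prod_cons, mul_assoc])⟩
    · obtain ⟨hl, K, hK, e⟩ := hP
      obtain ⟨C, hC⟩ := Multiset.exists_mem_of_ne_zero hne'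
      exact SurfRows.exists_peel k hdim s hl
        (h _ K (SurfRows.eff_prod k hdim s hl).1 hK (SurfRows.ne_top_of_mem hC (hl C hC).1) e)

end Groth.Agent.S18449
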