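import Groth.Statements.S18450
import Groth.Agent.SurfRows.NumConn
-- import your own Groth.Agent.* helpers here

set_option autoImplicit false
set_option backward.isDefEq.respectTransparency false
set_option backward.isDefEq.respectTransparency.types false
universe u
open CategoryTheory CategoryTheory.Limits AlgebraicGeometry TopologicalSpace
open Surf

namespace Groth.Agent.S18450

open Groth.Agent Groth.Agent.H23

attribute [local instance] PicMul.clMonoid

/-- Let k be an algebraically closed field of characteristic zero and X a smooth projective surface over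
k (integral, proper and smooth over k, of dimension 2). Let Z be a nonzero effective Cartier divisor
on X (ideal sheaf I_Z ≠ O_X) which is numerically connected: whenever I_Z = I_{Z₁} · I_{Z₂} with Z₁,
Z₂ nonzero effective Cartier divisors, (Z₁·Z₂) = χ(O_X) − χ(I_{Z₁}) − χ(I_{Z₂}) + χ(I_{Z₁} ⊗ I_{Z₂})
> 0. Let L be an invertible O_X-module whose degree χ(O_C ⊗ L) − χ(O_C) is ≤ 0 on every integral
curve C contained in Z (integral closed one-dimensional C with I_Z ⊆ I_C). Then H⁰(Z, L|_Z) has
dimension at most 1 over k, and if the dimension is 1 then L|_Z ≅ O_Z (existence of an isomorphism);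
here L|_Z = O_Z ⊗ L with O_Z the direct image on X of the structure sheaf of Z. The published
statement is over the complex numbers, for a connected cycle admitting a computation sequence, which
numerical connectedness provides, and for any line bundle on Z; this row takes restrictions of
invertible O_X-modules. The converse, that the dimension is 1 when L|_Z is trivial, is not restated. -/
theorem result (k : Type u) [Field k] [IsAlgClosed k] [CharZero k]
    (X : Scheme.{u}) [X.Over (Spec (CommRingCat.of k))] [IsProper (X ↘ (Spec (CommRingCat.of k)))]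
    [Smooth (X ↘ (Spec (CommRingCat.of k)))] [IsIntegral X] (hdim : topologicalKrullDim X = 2)
    (Z : X.IdealSheafData) (hZ : FGA.IsEffCartier Z) (hZ0 : Z ≠ ⊤)
    (hnc : ∀ Z₁ Z₂ : X.IdealSheafData, FGA.IsEffCartier Z₁ → FGA.IsEffCartier Z₂ → Z₁ ≠ ⊤ → Z₂ ≠ ⊤ →
      Z = Z₁ * Z₂ → 0 < FGA.intNum k X 2 ![(ClSub.idealMod Z₁), (ClSub.idealMod Z₂)] (Coh.structureModule X))
    (L : X.Modules) (hL : PicF.IsInvertible L)
    (hdeg : ∀ C : X.IdealSheafData, IsIntegral C.subscheme → topologicalKrullDim (C.support : Set X) = 1 → Z ≤ C →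
      Curv2.euler k X (CohB1.tensorMod (ClSub.quotMod C) L) - Curv2.euler k X (ClSub.quotMod C) ≤ 0) :
    Module.finrank k (Coh.HH X (CohB1.tensorMod (ClSub.quotMod Z) L) 0) ≤ 1 ∧
      (Module.finrank k (Coh.HH X (CohB1.tensorMod (ClSub.quotMod Z) L) 0) = 1 →
        Nonempty (CohB1.tensorMod (ClSub.quotMod Z) L ≅ ClSub.quotMod Z)) := by
  have hle : ∀ A : X.IdealSheafData, FGA.IsEffCartier A → PicF.IsInvertible (ClSub.idealMod A) :=
    fun A h => (S8914.result A).2 h
  have h := SurfRows.numConn k hdim hZ hZ0 (fun A B hA hB hA0 hB0 he => by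
    have := hnc A B hA hB hA0 hB0 he
    rwa [SurfPairing.intNum_eq_pair k hdim.le (hle A hA) (hle B hB)] at this)
    hL (fun C hint hd hZC => by
      have := hdeg C hint hd hZC
      rw [SurfNegDef.euler_quot_tensor (k := k) C (SurfNef.invertible_ideal k hdim hint hd) hL] at this
      linarith)
  obtain ⟨c⟩ := PicMul.comm (ClSub.quotMod Z) L
  rw [← SurfRows.h0_congr k (PicMul.cl_eq_iff.2 ⟨c⟩)] at h
  exact ⟨h.1, fun h1 => (h.2 h1).map fun e => c ≪≫ e⟩

end Groth.Agent.S18450
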