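import Groth.Statements.S18451
import Groth.Agent.Lib.SurfNegDef
import Groth.Agent.Lib.SurfHodge

set_option autoImplicit false
set_option backward.isDefEq.respectTransparency false
set_option backward.isDefEq.respectTransparency.types false
set_option linter.style.haveILetI false
set_option linter.unusedSectionVars false
set_option maxHeartbeats 400000
universe u
open CategoryTheory CategoryTheory.Limits AlgebraicGeometry TopologicalSpace
open Surf

namespace Groth.Agent.S18451

open Groth.Agent.H23 Groth.Agent.H23.TrivBasic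
attribute [local instance] PicMul.clMonoid
variable {k : Type u} [Field k] {X : Scheme.{u}} [X.Over (Spec (CommRingCat.of k))]
  [IsProper (X ↘ Spec (CommRingCat.of k))] [Smooth (X ↘ Spec (CommRingCat.of k))] [IsIntegral X]

variable (k) in
include k in
theorem invertible_curve (hdim : topologicalKrullDim X = 2) {C : X.IdealSheafData} (hi : IsIntegral C.subscheme)
    (hC : topologicalKrullDim (C.support : Set X) = 1) : PicF.IsInvertible (ClSub.idealMod C) := by
  haveI := hi
  have hd : topologicalKrullDim C.subscheme = 1 := by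
    rw [(IsHomeomorph.topologicalKrullDim_eq _ C.subschemeι.isEmbedding.toHomeomorph.isHomeomorph)]
    exact (IsHomeomorph.topologicalKrullDim_eq _ (Homeomorph.setCongr (C.range_subschemeι)).isHomeomorph).trans hC
  have h := CurveOnSurf.isInvertible_ideal (X ↘ Spec (CommRingCat.of k)) hdim (SurfHodge.regular k) C.subschemeι hd
  rwa [Scheme.IdealSheafData.ker_subschemeι] at h

variable (k) in
include k in
theorem off_diag (hdim : topologicalKrullDim X = 2) {r : ℕ} {C : Fin r → X.IdealSheafData} (hC : Function.Injective C)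
    (hCi : ∀ i, IsIntegral (C i).subscheme) (hCd : ∀ i, topologicalKrullDim ((C i).support : Set X) = 1)
    {i j : Fin r} (hij : i ≠ j) :
    0 ≤ SurfPairing.pair k (PicF.cl (ClSub.idealMod (C i))) (PicF.cl (ClSub.idealMod (C j))) := by
  haveI := hCi i; haveI := hCi j
  exact SurfNegDef.pair_ideal_nonneg hdim (SurfHodge.regular k) (hCd i)
    ((S8914.result (C j)).1 (invertible_curve k hdim (hCi j) (hCd j)))
    fun h => hij (hC (SurfNegDef.eq_of_support_subset k (hCd i) (hCd j) h))

/-- Let k be an algebraically closed field of characteristic zero and X a smooth projective surface over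
k (integral, proper and smooth over k, of dimension 2, carrying an ample invertible module). Let
C_1, …, C_r be pairwise distinct integral curves on X (integral closed one-dimensional subschemes
with ideal sheaves I_1, …, I_r) and write G_{ij} = (I_i·I_j) = χ(O_X) − χ(I_i) − χ(I_j) + χ(I_i ⊗
I_j) for their intersection matrix. Suppose the classes of the C_i span a negative definite
sublattice modulo numerical equivalence: for every integer vector a such that Σ_i a_i [C_i] is
numerically nontrivial, meaning that Σ_i a_i (I_i·M) ≠ 0 for some invertible O_X-module M, one has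
Σ_{i,j} a_i a_j G_{ij} < 0. Then the classes are linearly independent, i.e. G itself is negative
definite: Σ_{i,j} a_i a_j G_{ij} < 0 for every nonzero integer vector a. -/
theorem result (k : Type u) [Field k] [IsAlgClosed k] [CharZero k]
    (X : Scheme.{u}) [X.Over (Spec (CommRingCat.of k))] [IsProper (X ↘ (Spec (CommRingCat.of k)))]
    [Smooth (X ↘ (Spec (CommRingCat.of k)))] [IsIntegral X] (hdim : topologicalKrullDim X = 2)
    (hproj : ∃ H : X.Modules, CohB1.IsAmple H)
    (r : ℕ) (C : Fin r → X.IdealSheafData) (hC : Function.Injective C)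
    (hCi : ∀ i, IsIntegral (C i).subscheme) (hCd : ∀ i, topologicalKrullDim ((C i).support : Set X) = 1)
    (hneg : ∀ a : Fin r → ℤ,
      (∃ M : X.Modules, PicF.IsInvertible M ∧
        ∑ i, a i * FGA.intNum k X 2 ![(ClSub.idealMod (C i)), M] (Coh.structureModule X) ≠ 0) →
      ∑ i, ∑ j, a i * a j * FGA.intNum k X 2 ![(ClSub.idealMod (C i)), (ClSub.idealMod (C j))] (Coh.structureModule X) < 0) :
    ∀ a : Fin r → ℤ, a ≠ 0 →
      ∑ i, ∑ j, a i * a j * FGA.intNum k X 2 ![(ClSub.idealMod (C i)), (ClSub.idealMod (C j))] (Coh.structureModule X) < 0 := by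
  letI := PicMul.clMonoid (X := X)
  obtain ⟨H, hH⟩ := hproj
  have hI := fun i => invertible_curve k hdim (hCi i) (hCd i)
  intro a ha
  refine hneg a ?_
  by_contra hno
  push_neg at hno
  let P : Fin r → ℤ := fun i => max (a i) 0
  let N : Fin r → ℤ := fun i => max (-a i) 0
  let G := fun i j => SurfPairing.pair k (PicF.cl (ClSub.idealMod (C i))) (PicF.cl (ClSub.idealMod (C j)))
  have key : ∀ Q R : Fin r → ℤ, (∀ i, 0 ≤ Q i) → (∀ i, 0 ≤ R i) → (∀ i, Q i * R i = 0) →
      (∀ j, ∑ i, Q i * G i j = ∑ i, R i * G i j) → Q = 0 := by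
    intro Q R hQ hR hdisj heq
    by_contra hne
    obtain ⟨i₀, hi₀⟩ := Function.ne_iff.1 hne
    have hQH : ∃ M : X.Modules, PicF.IsInvertible M ∧
        ∑ i, Q i * FGA.intNum k X 2 ![(ClSub.idealMod (C i)), M] (Coh.structureModule X) ≠ 0 := by
      refine ⟨H, hH.1, ne_of_lt ?_⟩
      simp only [fun i => SurfPairing.intNum_eq_pair k hdim.le (hI i) hH.1]
      have hp : ∀ i, SurfPairing.pair k (PicF.cl (ClSub.idealMod (C i))) (PicF.cl H) < 0 := fun i => by
        haveI := hCi i
        exact SurfNegDef.pair_curve_ample_neg hdim (SurfHodge.regular k) (hCd i) hH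
      refine Finset.sum_neg' (fun i _ => mul_nonpos_of_nonneg_of_nonpos (hQ i) (hp i).le)
        ⟨i₀, Finset.mem_univ _, mul_neg_of_pos_of_neg (lt_of_le_of_ne (hQ i₀) (Ne.symm hi₀)) (hp i₀)⟩
    have h1 := hneg Q hQH
    simp only [fun i j => SurfPairing.intNum_eq_pair k hdim.le (hI i) (hI j)] at h1
    rw [Finset.sum_comm] at h1
    refine absurd h1 (not_lt.2 (Finset.sum_nonneg fun j _ => ?_))
    rw [show ∑ i, Q i * Q j * G i j = Q j * ∑ i, Q i * G i j by
      rw [Finset.mul_sum]; exact Finset.sum_congr rfl fun i _ => by ring, heq j, Finset.mul_sum]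
    refine Finset.sum_nonneg fun i _ => ?_
    rcases eq_or_ne i j with rfl | hij
    · rw [← mul_assoc, hdisj, zero_mul]
    · exact mul_nonneg (hQ j) (mul_nonneg (hR i) (off_diag k hdim hC hCi hCd hij))
  have hPN : ∀ j, ∑ i, P i * G i j = ∑ i, N i * G i j := fun j => by
    have h := hno (ClSub.idealMod (C j)) (hI j)
    simp only [fun i => SurfPairing.intNum_eq_pair k hdim.le (hI i) (hI j)] at h
    rw [← sub_eq_zero, ← Finset.sum_sub_distrib]
    refine Eq.trans (Finset.sum_congr rfl fun i _ => ?_) h
    rw [← sub_mul]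
    congr 1
    simp only [P, N]; omega
  have hd : ∀ i, P i * N i = 0 := fun i => by
    rcases le_total (a i) 0 with h | h <;> simp [P, N, h]
  refine ha (funext fun i => ?_)
  have h1 := congrFun (key P N (fun _ => le_max_right _ _) (fun _ => le_max_right _ _) hd hPN) i
  have h2 := congrFun (key N P (fun _ => le_max_right _ _) (fun _ => le_max_right _ _) (fun i => (mul_comm _ _).trans (hd i)) fun j => (hPN j).symm) i
  simp only [P, N, Pi.zero_apply] at h1 h2 ⊢
  omega

end Groth.Agent.S18451
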