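import Groth.Statements.S18453
import Groth.Agent.SurfMin.Factor

set_option autoImplicit false
set_option backward.isDefEq.respectTransparency false
set_option backward.isDefEq.respectTransparency.types false
set_option linter.style.haveILetI false
set_option linter.unusedSectionVars false
set_option maxHeartbeats 800000
universe u
open CategoryTheory CategoryTheory.Limits AlgebraicGeometry TopologicalSpace
open Surf

namespace Groth.Agent.S18453

open Groth.Agent.H23
attribute [local instance] PicMul.clMonoid

/-- Let k be an algebraically closed field of characteristic zero and Y a smooth projective surface over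
k (integral, proper and smooth over k, of dimension 2) one of whose plurigenera is nonzero: H⁰(Y,
W^{⊗N}) ≠ 0 for some N ≥ 1, where W is a second exterior power of Ω_{Y/k}. Let f : Y → X be a
k-morphism onto a minimal surface X which is a finite composite of contractions of exceptional
curves of the first kind (a sequence of blow-downs), minimality meaning that no closed subscheme of
X is an exceptional curve of the first kind. Then Y has X as a strong minimal model: whenever g' :
Y' → Y is a finite composite of such contractions (Y' a blow-up of Y) and g : Y' → X' is a finite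
composite of such contractions onto a k-scheme X' (a birational morphism to a smooth surface,
factored into blow-downs), there is a morphism h : X' → X with g ≫ h = g' ≫ f. -/
theorem result (k : Type u) [Field k] [IsAlgClosed k] [CharZero k]
    (Y : Scheme.{u}) [Y.Over (Spec (CommRingCat.of k))] [IsProper (Y ↘ (Spec (CommRingCat.of k)))]
    [Smooth (Y ↘ (Spec (CommRingCat.of k)))] [IsIntegral Y] (hdimY : topologicalKrullDim Y = 2)
    (W : Y.Modules) (hW : ExtPow.IsExtPow 2 (Omega.sheaf (Y ↘ (Spec (CommRingCat.of k)))) W)
    (N : ℕ) (hN : 0 < N) (hP : Nontrivial (Coh.HH Y (CohB1.tensorPow W N) 0))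
    (X : Scheme.{u}) [X.Over (Spec (CommRingCat.of k))] (f : Y ⟶ X)
    (hfk : f ≫ (X ↘ (Spec (CommRingCat.of k))) = (Y ↘ (Spec (CommRingCat.of k)))) (hf : Models.IsContractionSeq f)
    (hmin : ∀ (E : Scheme.{u}) (ι : E ⟶ X), IsClosedImmersion ι → ¬ Models.IsExcCurve ι)
    (Y' : Scheme.{u}) (g' : Y' ⟶ Y) (hg' : Models.IsContractionSeq g')
    (X' : Scheme.{u}) [X'.Over (Spec (CommRingCat.of k))] (g : Y' ⟶ X')
    (hgk : g ≫ (X' ↘ (Spec (CommRingCat.of k))) = g' ≫ (Y ↘ (Spec (CommRingCat.of k)))) (hg : Models.IsContractionSeq g) :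
    ∃ h : X' ⟶ X, g ≫ h = g' ≫ f := by
  have hY : Groth.Agent.SurfMin.IsSurf k Y := ⟨inferInstance, inferInstance, inferInstance, hdimY⟩
  have hX := Groth.Agent.SurfMin.surf_target k hf hfk hY
  letI : Y'.Over (Spec (CommRingCat.of k)) := ⟨g' ≫ (Y ↘ (Spec (CommRingCat.of k)))⟩
  obtain ⟨hY', hg'P, hg'bir⟩ := Groth.Agent.SurfMin.surf_of_seq k hg' rfl hY
  have hX' := Groth.Agent.SurfMin.surf_target k hg hgk hY'
  obtain ⟨-, hfP, hfbir⟩ := Groth.Agent.SurfMin.surf_of_seq k hf hfk hX
  haveI := hY'.int; haveI := hY'.noeth k; haveI := hX.int; haveI := hX.noeth k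
  haveI := hg'P; haveI := hfP
  have hc : Models.IsContractionSeq (g' ≫ f) := by
    have hcbir : IsIso ((g' ≫ f).stalkMap (genericPoint Y')) := by
      rw [Scheme.Hom.stalkMap_comp]
      haveI := hg'bir
      haveI : IsIso (f.stalkMap (g' (genericPoint Y'))) := by
        rw [Groth.Agent.SurfSeq.map_generic g' hg'bir]; exact hfbir
      infer_instance
    have h := Groth.Agent.SurfSeq.seq_of_birational (hY'.regular k)
      (fun z => (Groth.Agent.SchTop.ringKrullDim_stalk_le z).trans hY'.dim.le) (g' ≫ f) hcbir (hX.regular k)
      (fun z => (Groth.Agent.SchTop.ringKrullDim_stalk_le z).trans hX.dim.le) X _ (Models.IsContractionSeq.iso (Iso.refl X))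
    rwa [Iso.refl_hom, Category.comp_id] at h
  exact Groth.Agent.SurfMin.factor k hX
    (fun C hC a b h1 h2 h3 h4 => Groth.Agent.SurfMin.no_image k hY hX hf hfk hW hN hP hmin hC h1 h2 h3 h4)
    hg hgk hX' (g' ≫ f) (by rw [Category.assoc, hfk]; rfl) hc

end Groth.Agent.S18453
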