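import Groth.Statements.S18454
import Groth.Agent.SurfRows.FundCycle
-- import your own Groth.Agent.* helpers here

set_option autoImplicit false
set_option backward.isDefEq.respectTransparency false
set_option backward.isDefEq.respectTransparency.types false
universe u
open CategoryTheory CategoryTheory.Limits AlgebraicGeometry TopologicalSpace
open Surf

namespace Groth.Agent.S18454

open Groth.Agent Groth.Agent.H23

attribute [local instance] PicMul.clMonoid

/-- Let k be an algebraically closed field of characteristic zero and X a smooth projective surface over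
k (integral, proper and smooth over k, of dimension 2). Let C_1, …, C_r (r ≥ 1) be pairwise distinct
integral curves on X, with ideal sheaves I_i, forming a connected configuration whose intersection
matrix is negative definite: writing (A·B) = χ(O_X) − χ(A) − χ(B) + χ(A ⊗ B), there is no partition
of the indices into two nonempty sets with (I_i·I_j) = 0 for all i, j on opposite sides, and Σ_{i,j}
a_i a_j (I_i·I_j) < 0 for every nonzero integer vector a. Let Z₀ be a fundamental cycle of the
configuration: a nonzero effective Cartier divisor supported on ⋃ C_i such that Z₀·C_i ≤ 0 for every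
i, stated as deg(I_{Z₀}|_{C_i}) = χ(O_{C_i} ⊗ I_{Z₀}) − χ(O_{C_i}) ≥ 0, and such that every nonzero
effective Cartier divisor Z supported on ⋃ C_i with the same property satisfies Z ≥ Z₀ (I_Z ⊆
I_{Z₀}). Then H¹(Z, O_Z) = 0 for every nonzero effective Cartier divisor Z supported on ⋃ C_i if and
only if χ(O_{Z₀}) = 1, i.e. the arithmetic genus of Z₀ is 0; cohomology and Euler characteristics
are computed on X through direct images. The published statement characterises rationality of the
normal surface singularity obtained by contracting the configuration over the complex numbers; this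
row uses the equivalent condition that H¹(O_Z) = 0 for every nonzero effective divisor Z supported
on the configuration, which is what the printed algebraic argument establishes. -/
theorem result (k : Type u) [Field k] [IsAlgClosed k] [CharZero k]
    (X : Scheme.{u}) [X.Over (Spec (CommRingCat.of k))] [IsProper (X ↘ (Spec (CommRingCat.of k)))]
    [Smooth (X ↘ (Spec (CommRingCat.of k)))] [IsIntegral X] (hdim : topologicalKrullDim X = 2)
    (r : ℕ) (hr : 0 < r) (C : Fin r → X.IdealSheafData) (hC : Function.Injective C)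
    (hCi : ∀ i, IsIntegral (C i).subscheme) (hCd : ∀ i, topologicalKrullDim ((C i).support : Set X) = 1)
    (hconn : ∀ S : Finset (Fin r), S.Nonempty → Sᶜ.Nonempty →
      ∃ i ∈ S, ∃ j ∈ Sᶜ, FGA.intNum k X 2 ![(ClSub.idealMod (C i)), (ClSub.idealMod (C j))] (Coh.structureModule X) ≠ 0)
    (hneg : ∀ a : Fin r → ℤ, a ≠ 0 →
      ∑ i, ∑ j, a i * a j * FGA.intNum k X 2 ![(ClSub.idealMod (C i)), (ClSub.idealMod (C j))] (Coh.structureModule X) < 0)
    (Z₀ : X.IdealSheafData) (hZ₀ : FGA.IsEffCartier Z₀) (hZ₀0 : Z₀ ≠ ⊤)
    (hZ₀s : (Z₀.support : Set X) ⊆ ⋃ i, ((C i).support : Set X))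
    (hZ₀C : ∀ i, 0 ≤ Curv2.euler k X (CohB1.tensorMod (ClSub.quotMod (C i)) (ClSub.idealMod Z₀)) -
      Curv2.euler k X (ClSub.quotMod (C i)))
    (hZ₀min : ∀ Z : X.IdealSheafData, FGA.IsEffCartier Z → Z ≠ ⊤ → (Z.support : Set X) ⊆ ⋃ i, ((C i).support : Set X) →
      (∀ i, 0 ≤ Curv2.euler k X (CohB1.tensorMod (ClSub.quotMod (C i)) (ClSub.idealMod Z)) -
        Curv2.euler k X (ClSub.quotMod (C i))) → Z ≤ Z₀) :
    (∀ Z : X.IdealSheafData, FGA.IsEffCartier Z → Z ≠ ⊤ → (Z.support : Set X) ⊆ ⋃ i, ((C i).support : Set X) →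
        Subsingleton (Coh.HH X (ClSub.quotMod Z) 1)) ↔
      Curv2.euler k X (ClSub.quotMod Z₀) = 1 := by
  obtain ⟨s₀, h, rfl⟩ := SurfRows.FC.mk' k hdim C hC hCi hCd hneg Z₀ hZ₀ hZ₀0 hZ₀s hZ₀C hZ₀min
  refine ⟨fun hr' => h.euler_eq_one (hr' _ hZ₀ hZ₀0 hZ₀s), fun hχ Z hZ hZ0 hZs => ?_⟩
  obtain ⟨s, hs, rfl⟩ := SurfRows.exists_curves_config k hdim C hCi hCd hZ hZs
  exact h.rational hχ (h.mem_all hconn) s hs

end Groth.Agent.S18454
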