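import Groth.Statements.S18455
import Groth.Agent.SurfRows.BlowCanon

set_option autoImplicit false
set_option backward.isDefEq.respectTransparency false
set_option backward.isDefEq.respectTransparency.types false
set_option linter.style.haveILetI false
set_option linter.unusedSectionVars false
set_option maxHeartbeats 800000
universe u
open CategoryTheory CategoryTheory.Limits AlgebraicGeometry TopologicalSpace
open Surf

namespace Groth.Agent.S18455

open Groth.Agent.H23
attribute [local instance] PicMul.clMonoid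

/-- Let k be an algebraically closed field of characteristic zero and X a smooth projective surface over
k (integral, proper and smooth over k, of dimension 2) with canonical module W, a second exterior
power of Ω_{X/k}. Let x be a closed point of X and π : X' → X a blowing up of X in the ideal of x
(characterised by its universal property), with X' again an integral scheme of dimension 2, proper
and smooth over k through π, W' a canonical module of X' and I_E the exceptional ideal (the inverse
image of the ideal of x). Let C be an integral curve on X with ideal I_C and C' an integral curve on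
X' with ideal I_{C'}, such that the inverse image ideal of C on X' equals I_{C'} · I_E^m for some
natural number m; thus C' is the proper transform of C and m the multiplicity of C at x. Writing
(A·B) = χ(O) − χ(A) − χ(B) + χ(A ⊗ B) for intersection numbers on X and on X', one has
(I_{C'}·I_{C'}) − (I_{C'}·W') = (I_C·I_C) − (I_C·W) − m(m − 1); in terms of arithmetic genera
2p_a(C') − 2 = K'·C' + C'² = K·C + C² − m(m−1) = 2p_a(C) − 2 − m(m−1), so p_a drops by m(m−1)/2. -/
theorem result (k : Type u) [Field k] [IsAlgClosed k] [CharZero k]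
    (X : Scheme.{u}) [X.Over (Spec (CommRingCat.of k))] [IsProper (X ↘ (Spec (CommRingCat.of k)))]
    [Smooth (X ↘ (Spec (CommRingCat.of k)))] [IsIntegral X] (hdim : topologicalKrullDim X = 2)
    (W : X.Modules) (hW : ExtPow.IsExtPow 2 (Omega.sheaf (X ↘ (Spec (CommRingCat.of k)))) W)
    (x : X) (hx : IsClosed ({x} : Set X))
    (X' : Scheme.{u}) (π : X' ⟶ X) (hπ : BlowUp.IsBlowUp π (Scheme.IdealSheafData.vanishingIdeal ⟨{x}, hx⟩))
    [IsIntegral X'] (hdim' : topologicalKrullDim X' = 2)
    [IsProper (π ≫ (X ↘ (Spec (CommRingCat.of k))))] [Smooth (π ≫ (X ↘ (Spec (CommRingCat.of k))))]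
    (W' : X'.Modules) (hW' : ExtPow.IsExtPow 2 (Omega.sheaf (π ≫ (X ↘ (Spec (CommRingCat.of k))))) W')
    (C : X.IdealSheafData) (hCi : IsIntegral C.subscheme) (hCd : topologicalKrullDim (C.support : Set X) = 1)
    (C' : X'.IdealSheafData) (hC'i : IsIntegral C'.subscheme) (hC'd : topologicalKrullDim (C'.support : Set X') = 1)
    (m : ℕ) (hm : C.comap π = C' * (BlowUp.exceptional π (Scheme.IdealSheafData.vanishingIdeal ⟨{x}, hx⟩)) ^ m) :
    letI : X'.Over (Spec (CommRingCat.of k)) := ⟨π ≫ (X ↘ (Spec (CommRingCat.of k)))⟩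
    FGA.intNum k X' 2 ![(ClSub.idealMod C'), (ClSub.idealMod C')] (Coh.structureModule X') -
        FGA.intNum k X' 2 ![(ClSub.idealMod C'), W'] (Coh.structureModule X') =
      FGA.intNum k X 2 ![(ClSub.idealMod C), (ClSub.idealMod C)] (Coh.structureModule X) -
        FGA.intNum k X 2 ![(ClSub.idealMod C), W] (Coh.structureModule X) - (m : ℤ) * ((m : ℤ) - 1) := by
  letI : X'.Over (Spec (CommRingCat.of k)) := ⟨π ≫ (X ↘ (Spec (CommRingCat.of k)))⟩
  haveI : IsProper (X' ↘ Spec (CommRingCat.of k)) := show IsProper (π ≫ (X ↘ (Spec (CommRingCat.of k)))) from inferInstance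
  haveI : Smooth (X' ↘ Spec (CommRingCat.of k)) := show Smooth (π ≫ (X ↘ (Spec (CommRingCat.of k)))) from inferInstance
  let I := BlowUp.exceptional π (Scheme.IdealSheafData.vanishingIdeal ⟨{x}, hx⟩)
  obtain ⟨hIi, h0, h1⟩ := SurfRows.blowPt_exc k x hx π rfl hπ hdim hdim'
  obtain ⟨H, hH⟩ := SurfAdj.exists_ample k hdim
  have hWi := SurfAdj.isInvertible_W k hdim hW
  have hW'i := SurfAdj.isInvertible_W k hdim' hW'
  have hπW := PicClLib.isInvertible_pullback π hWi
  have hCi := SurfNef.invertible_ideal k hdim hCi hCd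
  have hC'i' := SurfNef.invertible_ideal k hdim' hC'i hC'd
  have hCc : BlowUp.IsEffCartierIdeal C := (S8914.result C).1 hCi
  have hC'c : BlowUp.IsEffCartierIdeal C' := (S8914.result C').1 hC'i'
  have hIc : BlowUp.IsEffCartierIdeal I := hπ.1
  have hpow : ∀ j : ℕ, BlowUp.IsEffCartierIdeal (I ^ j) ∧
      PicF.cl (ClSub.idealMod (I ^ j)) = PicF.cl (ClSub.idealMod I) ^ j := by
    intro j
    induction j with
    | zero => exact ⟨by rw [pow_zero, Scheme.IdealSheafData.one_eq_top]; exact H26.IdealCl.isEffCartier_top, by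
        rw [pow_zero, pow_zero]; exact H26.IdealCl.cl_one⟩
    | succ j ih => exact ⟨by rw [pow_succ']; exact H26.IdealCl.isEffCartier_mul ih.1 hIc, by
        rw [pow_succ', pow_succ', H26.IdealCl.cl_mul _ I hIc, ih.2]⟩
  have hCπc : BlowUp.IsEffCartierIdeal (C.comap π) := hm ▸ H26.IdealCl.isEffCartier_mul (hpow m).1 hC'c
  obtain ⟨e⟩ := H26.InterDiv.nonempty_pullback_idealMod π C hCc hCπc
  have hπC := PicClLib.isInvertible_pullback π hCi
  have hc : PicF.cl ((Scheme.Modules.pullback π).obj (ClSub.idealMod C)) =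
      PicF.cl (ClSub.idealMod C') * PicF.cl (ClSub.idealMod I) ^ m :=
    (PicMul.cl_eq_iff.2 ⟨e⟩).trans (by rw [hm, H26.IdealCl.cl_mul _ _ hC'c, (hpow m).2])
  have hK := SurfRows.blowPt_canonical k x hx π rfl hπ hdim hdim' hW hW'
  have hlin : ∀ {A : X'.Modules}, PicF.IsInvertible A →
      SurfPairing.pair k (PicF.cl A) (PicF.cl ((Scheme.Modules.pullback π).obj (ClSub.idealMod C))) =
        SurfPairing.pair k (PicF.cl A) (PicF.cl (ClSub.idealMod C')) +
          m * SurfPairing.pair k (PicF.cl A) (PicF.cl (ClSub.idealMod I)) := by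
    intro A hA
    rw [hc]
    have : ∀ j : ℕ, ∀ {B : X'.Modules}, PicF.IsInvertible B →
        SurfPairing.pair k (PicF.cl A) (PicF.cl B * PicF.cl (ClSub.idealMod I) ^ j) =
          SurfPairing.pair k (PicF.cl A) (PicF.cl B) + j * SurfPairing.pair k (PicF.cl A) (PicF.cl (ClSub.idealMod I)) := by
      intro j
      induction j with
      | zero => intro B hB; simp
      | succ j ih =>
        intro B hB
        have := ih (PicMul.isInvertible_tensor hB hIi)
        rw [PicMul.cl_tensor, SurfPairing.pair_mul k hdim'.le hA hB hIi] at this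
        rw [pow_succ', ← mul_assoc, this]
        push_cast
        ring
    exact this m hC'i'
  have hI2 : SurfPairing.pair k (PicF.cl (ClSub.idealMod I)) (PicF.cl (ClSub.idealMod I)) = -1 := h1
  have a1 := hlin hIi
  rw [show SurfPairing.pair k (PicF.cl (ClSub.idealMod I))
    (PicF.cl ((Scheme.Modules.pullback π).obj (ClSub.idealMod C))) = 0 from h0 _ hCi, hI2] at a1
  have hCI : SurfPairing.pair k (PicF.cl (ClSub.idealMod C')) (PicF.cl (ClSub.idealMod I)) = m := by
    rw [SurfPairing.pair_comm]; linarith
  have a2 := hlin hC'i'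
  have a3 := hlin hπC
  have a4 := hlin hπW
  rw [SurfRows.blowPt_pair k x hx π rfl hπ hdim hdim' hH hCi hCi,
    SurfPairing.pair_comm k _ (PicF.cl (ClSub.idealMod C')), a2, hCI,
    SurfPairing.pair_comm k _ (PicF.cl (ClSub.idealMod I)),
    show SurfPairing.pair k (PicF.cl (ClSub.idealMod I))
      (PicF.cl ((Scheme.Modules.pullback π).obj (ClSub.idealMod C))) = 0 from h0 _ hCi, mul_zero, add_zero] at a3
  rw [SurfRows.blowPt_pair k x hx π rfl hπ hdim hdim' hH hWi hCi,
    SurfPairing.pair_comm k _ (PicF.cl (ClSub.idealMod I)),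
    show SurfPairing.pair k (PicF.cl (ClSub.idealMod I))
      (PicF.cl ((Scheme.Modules.pullback π).obj W)) = 0 from h0 _ hWi, mul_zero, add_zero,
    SurfPairing.pair_comm k _ (PicF.cl (ClSub.idealMod C'))] at a4
  have a5 := SurfPairing.pair_mul k hdim'.le hC'i' hW'i hIi
  rw [hK, hCI, ← a4, SurfPairing.pair_comm k (PicF.cl W) (PicF.cl (ClSub.idealMod C))] at a5
  rw [SurfPairing.intNum_eq_pair k hdim'.le hC'i' hC'i', SurfPairing.intNum_eq_pair k hdim'.le hC'i' hW'i,
    SurfPairing.intNum_eq_pair k hdim.le hCi hCi, SurfPairing.intNum_eq_pair k hdim.le hCi hWi, a3]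
  linear_combination a5

end Groth.Agent.S18455
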