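import Groth.Statements.S18456
import Groth.Agent.SurfRows.RatFacts
-- import your own Groth.Agent.* helpers here

set_option autoImplicit false
set_option backward.isDefEq.respectTransparency false
set_option backward.isDefEq.respectTransparency.types false
universe u
open CategoryTheory CategoryTheory.Limits AlgebraicGeometry TopologicalSpace
open Surf

namespace Groth.Agent.S18456

open Groth.Agent Groth.Agent.H23

attribute [local instance] PicMul.clMonoid

/-- Let k be an algebraically closed field of characteristic zero and X a smooth projective surface over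
k (integral, proper and smooth over k, of dimension 2). Let C_1, …, C_r be pairwise distinct
integral curves on X with ideal sheaves I_i, each with H¹(C_i, O_{C_i}) = 0 (so C_i ≅ P¹) and
self-intersection (I_i·I_i) = −2, and with negative definite intersection matrix: Σ_{i,j} a_i a_j
(I_i·I_j) < 0 for every nonzero integer vector a, where (A·B) = χ(O_X) − χ(A) − χ(B) + χ(A ⊗ B).
Then H¹(Z, O_Z) = 0 for every nonzero effective Cartier divisor Z on X supported on ⋃ C_i,
cohomology computed on X through the direct image of O_Z. The published statement concludes that the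
singularity obtained by contracting the configuration over the complex numbers is rational; the
vanishing for all supported nonzero effective divisors is the form of rationality the printed
argument establishes, and this row states that form. -/
theorem result (k : Type u) [Field k] [IsAlgClosed k] [CharZero k]
    (X : Scheme.{u}) [X.Over (Spec (CommRingCat.of k))] [IsProper (X ↘ (Spec (CommRingCat.of k)))]
    [Smooth (X ↘ (Spec (CommRingCat.of k)))] [IsIntegral X] (hdim : topologicalKrullDim X = 2)
    (r : ℕ) (C : Fin r → X.IdealSheafData) (hC : Function.Injective C)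
    (hCi : ∀ i, IsIntegral (C i).subscheme) (hCd : ∀ i, topologicalKrullDim ((C i).support : Set X) = 1)
    (hCrat : ∀ i, Subsingleton (Coh.HH X (ClSub.quotMod (C i)) 1))
    (hC2 : ∀ i, FGA.intNum k X 2 ![(ClSub.idealMod (C i)), (ClSub.idealMod (C i))] (Coh.structureModule X) = -2)
    (hneg : ∀ a : Fin r → ℤ, a ≠ 0 →
      ∑ i, ∑ j, a i * a j * FGA.intNum k X 2 ![(ClSub.idealMod (C i)), (ClSub.idealMod (C j))] (Coh.structureModule X) < 0)
    (Z : X.IdealSheafData) (hZ : FGA.IsEffCartier Z) (hZ0 : Z ≠ ⊤)
    (hZs : (Z.support : Set X) ⊆ ⋃ i, ((C i).support : Set X)) :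
    Subsingleton (Coh.HH X (ClSub.quotMod Z) 1) := by
  obtain ⟨s₀, hs₀, rfl⟩ := SurfRows.exists_curves_config k hdim C hCi hCd hZ hZs
  have hI : ∀ i, PicF.IsInvertible (ClSub.idealMod (C i)) := fun i => SurfNef.invertible_ideal k hdim (hCi i) (hCd i)
  let P : Multiset X.IdealSheafData → Prop := fun s => ∀ D ∈ s, ∃ i, D = C i
  have hcurve : ∀ s, P s → ∀ D ∈ s, IsIntegral D.subscheme ∧ topologicalKrullDim (D.support : Set X) = 1 :=
    fun s hP D hD => by obtain ⟨i, rfl⟩ := hP D hD; exact ⟨hCi i, hCd i⟩
  refine SurfRows.h1_prod_zero k hdim P (fun D s hP _ E hE => hP E (Multiset.mem_cons_of_mem hE))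
    (fun s hP D hD => ?_) (fun s hP hne => ?_) s₀ hs₀
    (fun h0 => hZ0 (by rw [h0, Multiset.prod_zero, Scheme.IdealSheafData.one_eq_top]))
  · obtain ⟨i, rfl⟩ := hP D hD
    exact ⟨hCi i, hCd i, (SurfRows.euler_curve_eq_one k hdim (hCi i) (hCd i) (hCrat i)).ge⟩
  · by_contra hcon
    push Not at hcon
    obtain ⟨hse, hss⟩ := SurfRows.eff_prod k hdim s (hcurve s hP)
    have hsi := (S8914.result _).2 hse
    have hnn : 0 ≤ SurfPairing.pair k (PicF.cl (ClSub.idealMod s.prod)) (PicF.cl (ClSub.idealMod s.prod)) := by
      rw [hss _ hsi]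
      refine Multiset.sum_nonneg fun x hx => ?_
      obtain ⟨D, hD, rfl⟩ := Multiset.mem_map.1 hx
      obtain ⟨i, rfl⟩ := hP D hD
      obtain ⟨t, ht, h2⟩ := hcon _ hD
      subst ht
      have hti := (S8914.result _).2 (SurfRows.eff_prod k hdim t
        (fun E hE => hcurve _ hP E (Multiset.mem_cons_of_mem hE))).1
      rw [Multiset.prod_cons, IdealModMul.cl_mul (hI i) hti, SurfPairing.pair_mul k hdim.le (hI i) (hI i) hti]
      have := hC2 i
      rw [SurfPairing.intNum_eq_pair k hdim.le (hI i) (hI i)] at this
      linarith
    have := SurfRows.self_neg_config k hdim C hC hCi hCd (fun a ha => by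
      have := hneg a ha
      simpa only [SurfPairing.intNum_eq_pair k hdim.le (hI _) (hI _)] using this) s hP hne
    linarith

end Groth.Agent.S18456
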