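import Groth.Statements.S18457
import Mathlib.Tactic.Linarith
import Mathlib.Tactic.Ring
import Mathlib.Tactic.Positivity
import Mathlib.Tactic.IntervalCases
import Mathlib.Algebra.Order.Chebyshev
import Mathlib.Algebra.Polynomial.Degree.Lemmas
import Mathlib.Algebra.Polynomial.Eval.Degree
import Mathlib.Algebra.Polynomial.Taylor

set_option autoImplicit false
open Finset
open Surf

namespace Groth.Agent.S18457

/-- In the Picard lattice of the plane blown up at n ≤ 8 points, with basis h, e_1, …, e_n, form h² = 1,
e_i² = −1, all other products 0, and anticanonical class D = 3h − Σ e_i, let d·h − Σ a_i e_i be a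
class with all a_i ≥ 0 (the class of the strict transform of a degree-d plane curve having
multiplicity a_i at the i-th point) which is a (−2)-class orthogonal to D, that is d² − Σ a_i² = −2
and 3d = Σ a_i. Then one of the following holds: d = 1 and every a_i is 0 or 1 with exactly three
equal to 1; d = 2 and every a_i is 0 or 1 with exactly six equal to 1; d = 3, n = 8, and one a_i
equals 2 while the remaining seven equal 1. The published statement is geometric: under the
general-position hypotheses on the points, no smooth rational curve on the blown-up plane is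
orthogonal to D; this row is the lattice enumeration its proof carries out (a line through three of
the points, a conic through six, a cubic through all eight and singular at one). -/
theorem result (n : ℕ) (hn : n ≤ 8)
    (d : ℤ) (a : Fin n → ℤ) (ha : ∀ i, 0 ≤ a i)
    (hsq : d ^ 2 - ∑ i, (a i) ^ 2 = -2) (hK : 3 * d = ∑ i, a i) :
    (d = 1 ∧ (∀ i, a i = 0 ∨ a i = 1) ∧ (Finset.univ.filter (fun i => a i = 1)).card = 3) ∨
      (d = 2 ∧ (∀ i, a i = 0 ∨ a i = 1) ∧ (Finset.univ.filter (fun i => a i = 1)).card = 6) ∨
      (d = 3 ∧ n = 8 ∧ ∃ j, a j = 2 ∧ ∀ i, i ≠ j → a i = 1) := by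
  have hsum : ∑ i, a i = 3 * d := hK.symm
  have hsum2 : ∑ i, (a i) ^ 2 = d ^ 2 + 2 := by linarith
  have hcs : (3 * d) ^ 2 ≤ (n : ℤ) * (d ^ 2 + 2) := by
    have := sq_sum_le_card_mul_sum_sq (s := (Finset.univ : Finset (Fin n))) (f := a)
    simpa [hsum, hsum2] using this
  have hd0 : 0 ≤ d := by have := Finset.sum_nonneg fun i (_ : i ∈ Finset.univ) => ha i; linarith
  have hn' : (n : ℤ) ≤ 8 := by exact_mod_cast hn
  have hd4 : d ≤ 4 := by nlinarith
  have hzero : ∑ i, a i * (a i - 1) = d ^ 2 + 2 - 3 * d := by
    have h1 : ∀ i, a i * (a i - 1) = a i ^ 2 - a i := fun i => by ring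
    simp only [h1, Finset.sum_sub_distrib, hsum, hsum2]
  have hterm : ∀ i, 0 ≤ a i * (a i - 1) := fun i => by
    rcases (ha i).lt_or_eq with h | h
    · exact mul_nonneg (ha i) (by omega)
    · simp [← h]
  have h01 : ∀ s : Finset (Fin n), (∑ i ∈ s, a i * (a i - 1) = 0) → ∀ i ∈ s, a i = 0 ∨ a i = 1 := by
    intro s hs i hi
    have h1 : a i * (a i - 1) = 0 :=
      (Finset.sum_eq_zero_iff_of_nonneg fun j _ => hterm j).1 hs i hi
    rcases mul_eq_zero.1 h1 with h | h
    · exact Or.inl h
    · exact Or.inr (by omega)
  have hcard : (∀ i, a i = 0 ∨ a i = 1) →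
      ((Finset.univ.filter (fun i => a i = 1)).card : ℤ) = 3 * d := by
    intro h
    rw [← hsum, Finset.card_filter, Nat.cast_sum]
    exact Finset.sum_congr rfl fun i _ => by rcases h i with h | h <;> simp [h]
  interval_cases d
  · exfalso
    have h := (Finset.sum_eq_zero_iff_of_nonneg fun j _ => ha j).1 (by simpa using hsum)
    have : ∑ i, (a i) ^ 2 = 0 := Finset.sum_eq_zero fun i hi => by rw [h i hi]; ring
    omega
  · left
    have h := fun i => h01 Finset.univ (by simpa using hzero) i (Finset.mem_univ i)
    have := hcard h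
    exact ⟨rfl, h, by omega⟩
  · right; left
    have h := fun i => h01 Finset.univ (by simpa using hzero) i (Finset.mem_univ i)
    have := hcard h
    exact ⟨rfl, h, by omega⟩
  · right; right
    have hz : ∑ i, a i * (a i - 1) = 2 := by rw [hzero]; norm_num
    obtain ⟨j, -, hj⟩ := Finset.exists_ne_zero_of_sum_ne_zero
      (s := Finset.univ) (f := fun i => a i * (a i - 1)) (by rw [hz]; norm_num)
    have hjle : a j * (a j - 1) ≤ 2 :=
      hz ▸ Finset.single_le_sum (fun i _ => hterm i) (Finset.mem_univ j)
    have hj2 : a j = 2 := by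
      have h0 := ha j
      rcases lt_trichotomy (a j) 2 with h | h | h
      · interval_cases (a j) <;> simp at hj
      · exact h
      · nlinarith
    have hrest : ∀ i, i ≠ j → a i = 0 ∨ a i = 1 := fun i hi => by
      refine h01 (Finset.univ.erase j) ?_ i (Finset.mem_erase.2 ⟨hi, Finset.mem_univ i⟩)
      have := Finset.add_sum_erase Finset.univ (fun i => a i * (a i - 1)) (Finset.mem_univ j)
      simp only [hj2, hz] at this
      linarith
    have hs : ∑ i ∈ Finset.univ.erase j, a i = 7 := by
      have := Finset.add_sum_erase Finset.univ a (Finset.mem_univ j)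
      omega
    have hcardle : (∑ i ∈ Finset.univ.erase j, a i) ≤ ((Finset.univ.erase j).card : ℤ) := by
      rw [Finset.card_eq_sum_ones, Nat.cast_sum]
      exact Finset.sum_le_sum fun i hi => by
        rcases hrest i (Finset.ne_of_mem_erase hi) with h | h <;> simp [h]
    have hc : (Finset.univ.erase j).card = n - 1 := by simp
    have hn8 : n = 8 := by omega
    refine ⟨rfl, hn8, j, hj2, fun i hi => ?_⟩
    rcases hrest i hi with h | h
    · exfalso
      have h7 : ∑ l ∈ Finset.univ.erase j, a l < ∑ l ∈ Finset.univ.erase j, (1 : ℤ) := by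
        refine Finset.sum_lt_sum (fun l hl => ?_) ⟨i, Finset.mem_erase.2 ⟨hi, Finset.mem_univ i⟩, by omega⟩
        rcases hrest l (Finset.ne_of_mem_erase hl) with h' | h' <;> simp [h']
      simp [hn8] at h7 hc
      omega
    · exact h
  · exfalso
    have hn8 : n = 8 := by nlinarith
    subst hn8
    have h12 : ∑ i : Fin 8, (2 * a i - 3) ^ 2 = 0 := by
      have h1 : ∀ i : Fin 8, (2 * a i - 3) ^ 2 = 4 * a i ^ 2 - 12 * a i + 9 := fun i => by ring
      simp only [h1, Finset.sum_add_distrib, Finset.sum_sub_distrib, ← Finset.mul_sum, hsum, hsum2]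
      simp
    have := (Finset.sum_eq_zero_iff_of_nonneg fun i _ => sq_nonneg (2 * a i - 3)).1 h12 0 (Finset.mem_univ _)
    have := pow_eq_zero_iff (n := 2) (by norm_num) |>.1 this
    omega

end Groth.Agent.S18457
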