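import Groth.Statements.S18458
import Groth.Agent.SurfRows.OrthClass

set_option autoImplicit false
set_option backward.isDefEq.respectTransparency false
set_option backward.isDefEq.respectTransparency.types false
set_option linter.style.haveILetI false
set_option linter.unusedSectionVars false
set_option maxHeartbeats 800000
universe u
open CategoryTheory CategoryTheory.Limits AlgebraicGeometry TopologicalSpace
open Surf

namespace Groth.Agent.S18458

open Groth.Agent.H23
attribute [local instance] PicMul.clMonoid

/-- Let k be an algebraically closed field of characteristic zero and X a smooth projective surface over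
k (integral, proper and smooth over k, of dimension 2, carrying an ample invertible module). Let
C_1, …, C_r be pairwise distinct integral curves on X with ideal sheaves I_i whose intersection
matrix is negative definite: Σ_{i,j} a_i a_j (I_i·I_j) < 0 for every nonzero integer vector a, where
(A·B) = χ(O_X) − χ(A) − χ(B) + χ(A ⊗ B). Then there is an invertible O_X-module L (the sheaf of a
divisor H) which is nef and big and is orthogonal to exactly the curves C_i: writing (L·C) = χ(O_C ⊗
L) − χ(O_C) for the degree of L on an integral curve C, one has (L·C) ≥ 0 for every integral curve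
C, (L·L) > 0, and (L·C) = 0 if and only if C is one of the C_i. -/
theorem result (k : Type u) [Field k] [IsAlgClosed k] [CharZero k]
    (X : Scheme.{u}) [X.Over (Spec (CommRingCat.of k))] [IsProper (X ↘ (Spec (CommRingCat.of k)))]
    [Smooth (X ↘ (Spec (CommRingCat.of k)))] [IsIntegral X] (hdim : topologicalKrullDim X = 2)
    (hproj : ∃ H : X.Modules, CohB1.IsAmple H)
    (r : ℕ) (C : Fin r → X.IdealSheafData) (hC : Function.Injective C)
    (hCi : ∀ i, IsIntegral (C i).subscheme) (hCd : ∀ i, topologicalKrullDim ((C i).support : Set X) = 1)
    (hneg : ∀ a : Fin r → ℤ, a ≠ 0 →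
      ∑ i, ∑ j, a i * a j * FGA.intNum k X 2 ![(ClSub.idealMod (C i)), (ClSub.idealMod (C j))] (Coh.structureModule X) < 0) :
    ∃ L : X.Modules, PicF.IsInvertible L ∧
      (∀ D : X.IdealSheafData, IsIntegral D.subscheme → topologicalKrullDim (D.support : Set X) = 1 →
        0 ≤ Curv2.euler k X (CohB1.tensorMod (ClSub.quotMod D) L) - Curv2.euler k X (ClSub.quotMod D)) ∧
      0 < FGA.intNum k X 2 ![L, L] (Coh.structureModule X) ∧
      (∀ D : X.IdealSheafData, IsIntegral D.subscheme → topologicalKrullDim (D.support : Set X) = 1 →
        (Curv2.euler k X (CohB1.tensorMod (ClSub.quotMod D) L) - Curv2.euler k X (ClSub.quotMod D) = 0 ↔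
          ∃ i, D = C i)) := by
  obtain ⟨H, hH⟩ := hproj
  have hI := fun i => SurfNef.invertible_ideal k hdim (hCi i) (hCd i)
  obtain ⟨L, hL, hnef, hLL, -, hiff⟩ := SurfRows.exists_orth_class k hdim C hC hCi hCd (fun a ha => by
    have h := hneg a ha
    simp only [SurfPairing.intNum_eq_pair k hdim.le (hI _) (hI _)] at h
    exact h) hH
  refine ⟨L, hL, (SurfNef.nef_iff k hdim hL).1 hnef, ?_, fun D hD hd => ?_⟩
  · rw [SurfPairing.intNum_eq_pair k hdim.le hL hL]
    exact hLL
  · rw [SurfNegDef.euler_quot_tensor (k := k) D (SurfNef.invertible_ideal k hdim hD hd) hL, neg_eq_zero]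
    exact hiff D hD hd

end Groth.Agent.S18458
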