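import Groth.Statements.S18459
import Groth.Agent.SurfRows.Sections
import Groth.Agent.SurfRows.FibrationSection
import Groth.Agent.SurfRows.OrthClass
import Groth.Agent.SurfRows.FibrationRestrict

set_option autoImplicit false
set_option backward.isDefEq.respectTransparency false
set_option backward.isDefEq.respectTransparency.types false
set_option linter.style.haveILetI false
set_option linter.unusedSectionVars false
set_option maxHeartbeats 800000
universe u
open CategoryTheory CategoryTheory.Limits AlgebraicGeometry TopologicalSpace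
open Surf

namespace Groth.Agent.S18459

open CategoryTheory CategoryTheory.Limits Groth.Agent Groth.Agent.H23 Groth.Agent.H23.TrivBasic Groth.Agent.SurfRows
attribute [local instance] PicMul.clMonoid

/-- Fix an algebraically closed field k of characteristic zero, and suppose X is a smooth projective
surface over k (integral, proper and smooth over k, of dimension 2). Assume given a surjective
k-morphism π : X → P¹_k each of whose fibres over a closed point is isomorphic to P¹_k, together
with an integral curve σ ⊂ X having ideal sheaf I_σ, such that π^*O(1) restricts to a degree-1 sheaf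
on σ (σ·f = 1 for the fibre class f, so σ is a section) and (I_σ·I_σ) = −n for some natural number n
(σ² = −n); in other words X is the rational ruled surface F_n and σ its negative section. Take N to
be a tensor inverse of I_σ (the sheaf O_X(σ)), fix integers a ≥ 0 and b, and set L = N^{⊗a} ⊗
π^*O_{P¹}(b), the sheaf attached to aσ + bf. The conclusions: (i) L is nef, meaning χ(O_C ⊗ L) −
χ(O_C) ≥ 0 for each integral curve C ⊂ X, exactly when na ≤ b; (ii) L is globally generated exactly
when na ≤ b; (iii) L admits a nonzero global section (equivalently, some effective divisor lies in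
the linear class of aσ + bf) exactly when 0 ≤ b. Intersection numbers are computed as (A·B) = χ(O_X)
− χ(A) − χ(B) + χ(A ⊗ B). In the published version a may be any integer, with a ≥ 0 included in the
numerical condition; when a < 0 none of the three properties holds, and here a ≥ 0 is imposed.
Neither the published second condition (|aσ + bf| non-empty with no fixed curve) nor the ampleness
criterion a > 0, b > na is restated. -/
theorem result (k : Type u) [Field k] [IsAlgClosed k] [CharZero k]
    (X : Scheme.{u}) [X.Over (Spec (CommRingCat.of k))] [IsProper (X ↘ (Spec (CommRingCat.of k)))]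
    [Smooth (X ↘ (Spec (CommRingCat.of k)))] [IsIntegral X] (hdim : topologicalKrullDim X = 2)
    (π : X ⟶ CohB1.ProjSpace 1 k) (hπ : π ≫ CohB1.ProjSpace.toSpec 1 k = (X ↘ (Spec (CommRingCat.of k))))
    (hsurj : Function.Surjective π)
    (hfib : ∀ y : CohB1.ProjSpace 1 k, IsClosed ({y} : Set (CohB1.ProjSpace 1 k)) →
      Nonempty (pullback π ((CohB1.ProjSpace 1 k).fromSpecResidueField y) ≅ CohB1.ProjSpace 1 k))
    (σ : X.IdealSheafData) (hσi : IsIntegral σ.subscheme) (hσd : topologicalKrullDim (σ.support : Set X) = 1)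
    (hσf : Curv2.euler k X (CohB1.tensorMod (ClSub.quotMod σ) ((Scheme.Modules.pullback π).obj (Twist.twistProjSpace 1 k 1))) -
      Curv2.euler k X (ClSub.quotMod σ) = 1)
    (n : ℕ) (hσσ : FGA.intNum k X 2 ![(ClSub.idealMod σ), (ClSub.idealMod σ)] (Coh.structureModule X) = -(n : ℤ))
    (N : X.Modules) (hN : ClSub.IsInverseOf N (ClSub.idealMod σ)) (a : ℕ) (b : ℤ) :
    ((∀ C : X.IdealSheafData, IsIntegral C.subscheme → topologicalKrullDim (C.support : Set X) = 1 →
        0 ≤ Curv2.euler k X (CohB1.tensorMod (ClSub.quotMod C)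
          (CohB1.tensorMod (CohB1.tensorPow N a) ((Scheme.Modules.pullback π).obj (Twist.twistProjSpace 1 k b)))) -
          Curv2.euler k X (ClSub.quotMod C)) ↔ (n : ℤ) * a ≤ b) ∧
      (Curv2.IsGloballyGenerated (CohB1.tensorMod (CohB1.tensorPow N a) ((Scheme.Modules.pullback π).obj (Twist.twistProjSpace 1 k b))) ↔
        (n : ℤ) * a ≤ b) ∧
      (Nontrivial (Coh.HH X (CohB1.tensorMod (CohB1.tensorPow N a) ((Scheme.Modules.pullback π).obj (Twist.twistProjSpace 1 k b))) 0) ↔
        0 ≤ b) := by
  haveI := CurveCover.isProper_line k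
  haveI := CurveCover.isIntegral_line k
  haveI := CurveCover.smooth_line k
  haveI := CurveCohLib.isNoetherian_of_proper (k := k) (X := CohB1.ProjSpace 1 k)
  haveI := CurveCohLib.isNoetherian_of_proper (k := k) (X := X)
  haveI : π.IsOver (Spec (CommRingCat.of k)) := ⟨hπ⟩
  haveI : Surjective π := ⟨hsurj⟩
  haveI : HasInjectiveResolutions X.Modules := KFlatLib.hasInjectiveResolutions_modules
  have hdC := CurveCover.dim_line k
  have hσI : PicF.IsInvertible (ClSub.idealMod σ) := SurfNef.invertible_ideal k hdim hσi hσd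
  obtain ⟨hNi, hNc⟩ := CurveOnSurf.isInvertible_of_inverse hσI hN
  have hT := fun m : ℤ => CurveCover.isInvertible_twist k m
  have hF := fun m : ℤ => PicClLib.isInvertible_pullback π (hT m)
  have hPp := fun {L : X.Modules} (hL : PicF.IsInvertible L) => pair_pullback k π hdim hdC hL
  have hσF : ∀ m : ℤ, SurfPairing.pair k (PicF.cl ((Scheme.Modules.pullback π).obj (Twist.twistProjSpace 1 k m)))
      (PicF.cl (ClSub.idealMod σ)) = -m := fun m => by
    obtain ⟨c, hc⟩ := hPp hσI
    have h1 := hc _ (hT 1)
    rw [SurfNegDef.euler_quot_tensor (k := k) σ hσI (hF 1), SurfPairing.pair_comm] at hσf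
    rw [hc _ (hT m), deg_twist]
    rw [deg_twist, mul_one] at h1
    rw [show c = -1 by omega]
    ring
  have hFN : ∀ m : ℤ, SurfPairing.pair k (PicF.cl ((Scheme.Modules.pullback π).obj (Twist.twistProjSpace 1 k m)))
      (PicF.cl N) = m := fun m => by
    rw [SurfPairing.pair_inv k hdim.le (hF m) hσI hNi (by rw [mul_comm, hNc]), hσF, neg_neg]
  rw [SurfPairing.intNum_eq_pair k hdim.le hσI hσI] at hσσ
  have hσN : SurfPairing.pair k (PicF.cl (ClSub.idealMod σ)) (PicF.cl N) = n := by
    rw [SurfPairing.pair_inv k hdim.le hσI hσI hNi (by rw [mul_comm, hNc]), hσσ, neg_neg]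
  have hNN : SurfPairing.pair k (PicF.cl N) (PicF.cl N) = -(n : ℤ) := by
    rw [SurfPairing.pair_inv k hdim.le hNi hσI hNi (by rw [mul_comm, hNc]), SurfPairing.pair_comm, hσN]
  obtain ⟨y, hy, -⟩ := CurveTwist.exists_closed_notMem k hdC
    (Z := (∅ : Set ↥(CohB1.ProjSpace 1 k))) Set.finite_empty
  have hint : ∀ c : CohB1.ProjSpace 1 k, IsClosed ({c} : Set (CohB1.ProjSpace 1 k)) →
      IsIntegral (π.fiber c) ∧ topologicalKrullDim (π.fiber c) = 1 := fun c hc => by
    obtain ⟨e⟩ := hfib c hc
    exact ⟨(line_fibre k π hdC c hc e).2.1, (line_fibre k π hdC c hc e).2.2.1⟩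
  obtain ⟨-, -, hyint, hyd⟩ := integral_fibre k π hint y hy
  obtain ⟨hpt, hdpt, hycl⟩ := fibre_ideal_cl k π hdim hdC y hy
  have hFF : ∀ m l : ℤ, SurfPairing.pair k (PicF.cl ((Scheme.Modules.pullback π).obj (Twist.twistProjSpace 1 k m)))
      (PicF.cl ((Scheme.Modules.pullback π).obj (Twist.twistProjSpace 1 k l))) = 0 := fun m l => by
    obtain ⟨c, hc⟩ := hPp (hF l)
    have h0 := vertical_pullback_pair k π hdim hdC (hT l) y hy hyint hyd (fibre_facts k hdim hdC π y hy).2.1.le
    rw [← hycl, hc _ hpt, hdpt] at h0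
    rw [hc _ (hT m), show c = 0 by omega, zero_mul]
  let M₁ := CohB1.tensorMod N ((Scheme.Modules.pullback π).obj (Twist.twistProjSpace 1 k (n : ℤ)))
  have hM₁ : PicF.IsInvertible M₁ := PicMul.isInvertible_tensor hNi (hF n)
  let L := CohB1.tensorMod (CohB1.tensorPow N a) ((Scheme.Modules.pullback π).obj (Twist.twistProjSpace 1 k b))
  have hL : PicF.IsInvertible L := PicMul.isInvertible_tensor (PicMul.isInvertible_tensorPow hNi a) (hF b)
  have hpL : ∀ {A : X.Modules}, PicF.IsInvertible A → SurfPairing.pair k (PicF.cl A) (PicF.cl L) =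
      a * SurfPairing.pair k (PicF.cl A) (PicF.cl N) +
        SurfPairing.pair k (PicF.cl A) (PicF.cl ((Scheme.Modules.pullback π).obj (Twist.twistProjSpace 1 k b))) := fun {A} hA => by
    show SurfPairing.pair k (PicF.cl A) (PicF.cl (CohB1.tensorMod (CohB1.tensorPow N a) _)) = _
    rw [PicMul.cl_tensor, SurfPairing.pair_mul k hdim.le hA (PicMul.isInvertible_tensorPow hNi a) (hF b),
      SurfAmple.pair_pow hdim.le hA hNi a]
  have hpM : ∀ {A : X.Modules}, PicF.IsInvertible A → SurfPairing.pair k (PicF.cl A) (PicF.cl M₁) =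
      SurfPairing.pair k (PicF.cl A) (PicF.cl N) +
        SurfPairing.pair k (PicF.cl A) (PicF.cl ((Scheme.Modules.pullback π).obj (Twist.twistProjSpace 1 k (n : ℤ)))) := fun {A} hA => by
    show SurfPairing.pair k (PicF.cl A) (PicF.cl (CohB1.tensorMod N _)) = _
    rw [PicMul.cl_tensor, SurfPairing.pair_mul k hdim.le hA hNi (hF n)]
  -- generated modules are nef
  have hggnef : ∀ {A : X.Modules}, PicF.IsInvertible A → Curv2.IsGloballyGenerated A → ∀ C : X.IdealSheafData,
      IsIntegral C.subscheme → topologicalKrullDim (C.support : Set X) = 1 →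
      SurfPairing.pair k (PicF.cl (ClSub.idealMod C)) (PicF.cl A) ≤ 0 := fun {A} hA hg C hC hCd => by
    haveI := hC
    obtain ⟨t, ht⟩ := GenLocusGG.exists_mem_locus hA hg (C.subschemeι (genericPoint C.subscheme))
    have h := SurfNegDef.deg_nonneg_of_locus (k := k) C.subschemeι
      (topologicalKrullDim_subscheme.trans hCd).le hA (genericPoint C.subscheme) ht
    have hCi := SurfNef.invertible_ideal k hdim hC hCd
    have hp := CurveOnSurf.pair_ideal (k := k) C.subschemeι hA (by rw [Scheme.IdealSheafData.ker_subschemeι]; exact hCi)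
    rw [Scheme.IdealSheafData.ker_subschemeι] at hp
    linarith
  have hnef : (n : ℤ) * a ≤ b → ∀ C : X.IdealSheafData, IsIntegral C.subscheme →
      topologicalKrullDim (C.support : Set X) = 1 → SurfPairing.pair k (PicF.cl (ClSub.idealMod C)) (PicF.cl L) ≤ 0 := by
    intro hab C hC hCd
    have hCi := SurfNef.invertible_ideal k hdim hC hCd
    rw [hpL hCi]
    by_cases hCσ : C = σ
    · subst hCσ
      rw [hσN, SurfPairing.pair_comm k (PicF.cl (ClSub.idealMod _)), hσF]
      linarith [mul_comm (n : ℤ) (a : ℤ)]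
    · have h1 := pair_curves_nonneg k hdim hC hCd hσi hσd hCσ
      have h2 : SurfPairing.pair k (PicF.cl (ClSub.idealMod C)) (PicF.cl N) ≤ 0 := by
        rw [SurfPairing.pair_inv k hdim.le hCi hσI hNi (by rw [mul_comm, hNc])]
        linarith
      obtain ⟨c, hc⟩ := hPp hCi
      have h3 := hggnef (hF 1) (GGDesc7.pullback_gg π (gg_twist_line zero_le_one)) C hC hCd
      rw [SurfPairing.pair_comm, hc _ (hT 1), deg_twist, mul_one] at h3
      have hb0 : 0 ≤ b := le_trans (by positivity) hab
      rw [SurfPairing.pair_comm k (PicF.cl (ClSub.idealMod C)) (PicF.cl ((Scheme.Modules.pullback π).obj _)),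
        hc _ (hT b), deg_twist]
      exact add_nonpos (mul_nonpos_of_nonneg_of_nonpos (Int.natCast_nonneg a) h2)
        (mul_nonpos_of_nonpos_of_nonneg h3 hb0)
  have hM₁nef : SurfNef.Nef k M₁ := fun C hC hCd => by
    have hCi := SurfNef.invertible_ideal k hdim hC hCd
    rw [hpM hCi]
    by_cases hCσ : C = σ
    · subst hCσ
      rw [hσN, SurfPairing.pair_comm k (PicF.cl (ClSub.idealMod _)), hσF]
      simp
    · have h1 := pair_curves_nonneg k hdim hC hCd hσi hσd hCσ
      have h2 : SurfPairing.pair k (PicF.cl (ClSub.idealMod C)) (PicF.cl N) ≤ 0 := by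
        rw [SurfPairing.pair_inv k hdim.le hCi hσI hNi (by rw [mul_comm, hNc])]
        linarith
      have h3 := hggnef (hF n) (GGDesc7.pullback_gg π (gg_twist_line (Int.natCast_nonneg n))) C hC hCd
      exact add_nonpos h2 h3
  have hbnd : (∀ C : X.IdealSheafData, IsIntegral C.subscheme → topologicalKrullDim (C.support : Set X) = 1 →
      SurfPairing.pair k (PicF.cl (ClSub.idealMod C)) (PicF.cl L) ≤ 0) → (n : ℤ) * a ≤ b := fun h => by
    have h' := h σ hσi hσd
    rw [hpL hσI, hσN, SurfPairing.pair_comm k (PicF.cl (ClSub.idealMod σ)), hσF] at h'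
    linarith [mul_comm (n : ℤ) (a : ℤ)]
  have hEq : ∀ C : X.IdealSheafData, IsIntegral C.subscheme → topologicalKrullDim (C.support : Set X) = 1 →
      (Curv2.euler k X (CohB1.tensorMod (ClSub.quotMod C) L) - Curv2.euler k X (ClSub.quotMod C) =
        -SurfPairing.pair k (PicF.cl (ClSub.idealMod C)) (PicF.cl L)) := fun C hC hCd =>
    SurfNegDef.euler_quot_tensor (k := k) C (SurfNef.invertible_ideal k hdim hC hCd) hL
  -- the section of the divisor
  have hσeff : BlowUp.IsEffCartierIdeal σ := (S8914.result σ).1 hσI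
  obtain ⟨s, hs, hloc⟩ := AVAmple.exists_divisor_section_ne_zero σ hσeff hNi hN
  refine ⟨⟨fun h => hbnd fun C hC hCd => ?_, fun h C hC hCd => ?_⟩, ⟨fun h => hbnd (hggnef hL h), fun hab => ?_⟩,
    ⟨fun h => ?_, fun hb => ?_⟩⟩
  · have := h C hC hCd
    rw [hEq C hC hCd] at this
    linarith
  · show 0 ≤ Curv2.euler k X (CohB1.tensorMod (ClSub.quotMod C) L) - _
    rw [hEq C hC hCd]
    linarith [hnef h C hC hCd]
  · have hM₁g : Curv2.IsGloballyGenerated M₁ := by
      refine gg_of_locus fun x => ?_
      by_cases hx : x ∈ σ.support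
      · have hpi : ∀ U, Function.Bijective (π.app U).hom := ruled_push_structure k π hfib hdC
        have hconn : IsIso (ClSub.unitToPush π) := by
          refine Scheme.Modules.Hom.isIso_iff_isIso_app.2 fun U => ?_
          rw [ConcreteCategory.isIso_iff_bijective]
          exact hpi U
        have hRn : ∀ p : ℕ, 0 < p → IsZero ((Coh.Rpush π p).obj ((Scheme.Modules.pullback π).obj (Twist.twistProjSpace 1 k (n : ℤ)))) :=
          ruled_Rpush k π hfib hdim hdC (hF n) fun c hc => by
            have hci := (S8914.result _).2 (fibre_facts k hdim hdC π c hc).1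
            obtain ⟨-, -, hcint, hcd⟩ := integral_fibre k π hint c hc
            rw [SurfPairing.intNum_eq_pair k hdim.le (hF n) hci, SurfPairing.pair_comm,
              vertical_pullback_pair k π hdim hdC (hT n) c hc hcint hcd (fibre_facts k hdim hdC π c hc).2.1.le]
        have hRM : ∀ p : ℕ, 0 < p → IsZero ((Coh.Rpush π p).obj M₁) :=
          ruled_Rpush k π hfib hdim hdC hM₁ fun c hc => by
            have hci := (S8914.result _).2 (fibre_facts k hdim hdC π c hc).1
            obtain ⟨hcp, hdcp, hccl⟩ := fibre_ideal_cl k π hdim hdC c hc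
            obtain ⟨-, -, hcint, hcd⟩ := integral_fibre k π hint c hc
            obtain ⟨cN, hcN⟩ := hPp hNi
            have h1 := hFN 1
            rw [hcN _ (hT 1), deg_twist, mul_one] at h1
            rw [SurfPairing.intNum_eq_pair k hdim.le hM₁ hci, SurfPairing.pair_comm, hpM hci,
              vertical_pullback_pair k π hdim hdC (hT n) c hc hcint hcd (fibre_facts k hdim hdC π c hc).2.1.le,
              ← hccl, hcN _ hcp, hdcp, h1]
            norm_num
        obtain ⟨hn0, hn1, hn2, hn3, -⟩ := fibration_leray k π hdim hdC (hF n)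
        obtain ⟨-, -, hm2, hm3, -⟩ := fibration_leray k π hdim hdC hM₁
        have hz : ∀ {A : X.Modules}, IsZero ((Coh.Rpush π 1).obj A) → ∀ j,
            Module.finrank k (Coh.HH (CohB1.ProjSpace 1 k) ((Coh.Rpush π 1).obj A) j) = 0 := fun h j =>
          @Module.finrank_zero_of_subsingleton _ _ _ _ _ _ (Euler.subsingleton_HH_of_isZero h j)
        rw [hz (hRn 1 one_pos)] at hn2
        rw [hz (hRn 1 one_pos), add_zero] at hn1
        rw [hz (hRM 1 one_pos)] at hm2
        obtain ⟨ep⟩ := fibration_push_pullback π hconn (hT n)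
        rw [(CurveCohLib.hhEquiv (k := k) ep 0).finrank_eq] at hn0
        rw [(CurveCohLib.hhEquiv (k := k) ep 1).finrank_eq] at hn1
        haveI h10 := S0844.result k 1 (n : ℤ) 1 (fun h' => absurd h'.1 one_ne_zero) (fun h' => by omega)
        rw [Module.finrank_zero_of_subsingleton (R := k)
          (M := Coh.HH (CohB1.ProjSpace 1 k) (Twist.twistProjSpace 1 k (n : ℤ)) 1)] at hn1
        have hOn : (Module.finrank k (Coh.HH (CohB1.ProjSpace 1 k) (Twist.twistProjSpace 1 k (n : ℤ)) 0) : ℤ) = n + 1 := by
          have hχ := CurveRR.euler_eq_h0_sub_h1 k hdC.le (CurveDeg.isCoh_of_isInvertible (hT n)).1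
          rw [Module.finrank_zero_of_subsingleton (R := k)
            (M := Coh.HH (CohB1.ProjSpace 1 k) (Twist.twistProjSpace 1 k (n : ℤ)) 1)] at hχ
          have hd := deg_twist k (n : ℤ)
          unfold Curv2.deg at hd
          rw [CurveRR.euler_structureModule k (X := CohB1.ProjSpace 1 k) hdC.le, CurveCover.genus_line k] at hd
          push_cast at hd hχ
          omega
        obtain ⟨aM, bM, wM, hS⟩ := exists_restrict_ses hM₁ σ
        obtain ⟨eT⟩ : Nonempty (CohB1.tensorMod M₁ (ClSub.idealMod σ) ≅
            (Scheme.Modules.pullback π).obj (Twist.twistProjSpace 1 k (n : ℤ))) :=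
          PicMul.cl_eq_iff.1 (by
            show PicF.cl (CohB1.tensorMod (CohB1.tensorMod N _) _) = _
            rw [PicMul.cl_tensor, PicMul.cl_tensor, mul_right_comm, hNc, one_mul])
        have hσ1 : Curv2.euler k X (ClSub.quotMod σ) = 1 := by
          refine euler_quot_of_deg_one (k := k) σ hσi hσd (hF 1) (GGDesc7.pullback_gg π (gg_twist_line zero_le_one)) ?_
          have hp := CurveOnSurf.pair_ideal (k := k) σ.subschemeι (hF 1)
            (by rw [Scheme.IdealSheafData.ker_subschemeι]; exact hσI)
          rw [Scheme.IdealSheafData.ker_subschemeι, SurfPairing.pair_comm, hσF] at hp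
          linarith
        have hχ := CurveBundle.euler_add' k _ _ _ hS
          (CurveDeg.isCoh_of_isInvertible (PicMul.isInvertible_tensor hM₁ hσI))
          (CurveDeg.isCoh_of_isInvertible hM₁) (isCoh_restrict hM₁ σ)
        obtain ⟨cQ⟩ := PicMul.comm M₁ (ClSub.quotMod σ)
        change Curv2.euler k X M₁ = Curv2.euler k X (CohB1.tensorMod M₁ (ClSub.idealMod σ)) +
          Curv2.euler k X (CohB1.tensorMod M₁ (ClSub.quotMod σ)) at hχ
        have hq := SurfNegDef.euler_quot_tensor (k := k) σ hσI hM₁
        rw [hpM hσI, hσN, SurfPairing.pair_comm k (PicF.cl (ClSub.idealMod σ)), hσF, hσ1] at hq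
        rw [Euler.euler_congr k eT, Euler.euler_congr k cQ, Euler.euler_eq_sum k M₁ 3 hm3,
          Euler.euler_eq_sum k ((Scheme.Modules.pullback π).obj (Twist.twistProjSpace 1 k (n : ℤ))) 3 hn3] at hχ
        simp only [Finset.sum_range_succ, Finset.sum_range_zero] at hχ
        rw [hn1, hn2, hm2] at hχ
        push_cast at hχ
        have hlt : Module.finrank k (Coh.HH X (CohB1.tensorMod M₁ (ClSub.idealMod σ)) 0) <
            Module.finrank k (Coh.HH X M₁ 0) := by
          rw [(CurveCohLib.hhEquiv (k := k) eT 0).finrank_eq]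
          omega
        haveI := hσi
        obtain ⟨t, z, hzσ, hzt⟩ := exists_section_meeting (k := k) σ hM₁ hlt
        refine ⟨t, ?_⟩
        by_contra hxt
        obtain ⟨c, rfl⟩ := σ.range_subschemeι.ge hzσ
        obtain ⟨d, rfl⟩ := σ.range_subschemeι.ge hx
        letI : σ.subscheme.Over (Spec (CommRingCat.of k)) := ⟨σ.subschemeι ≫ (X ↘ (Spec (CommRingCat.of k)))⟩
        haveI : IsProper (σ.subscheme ↘ Spec (CommRingCat.of k)) :=
          show IsProper (σ.subschemeι ≫ (X ↘ Spec (CommRingCat.of k))) from inferInstance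
        have hmem : c ∈ locus (InvX.pullElt σ.subschemeι t) := by
          rw [locus_pullElt hM₁]; exact hzt
        have hpos := CurveAmple.deg_pos_of_section (k := k) (topologicalKrullDim_subscheme.trans hσd)
          (PicClLib.isInvertible_pullback σ.subschemeι hM₁)
          (ne_zero_of_mem_locus (PicClLib.isInvertible_pullback σ.subschemeι hM₁) hmem) (fun htop => hxt (by
            have : d ∈ locus (InvX.pullElt σ.subschemeι t) := by rw [htop]; trivial
            rw [locus_pullElt hM₁] at this
            exact this))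
        have hp := CurveOnSurf.pair_ideal (k := k) σ.subschemeι hM₁
          (by rw [Scheme.IdealSheafData.ker_subschemeι]; exact hσI)
        rw [Scheme.IdealSheafData.ker_subschemeι, hpM hσI, hσN, SurfPairing.pair_comm k (PicF.cl (ClSub.idealMod σ)),
          hσF] at hp
        linarith
      · obtain ⟨t, ht⟩ := GenLocusGG.exists_mem_locus (hF n) (GGDesc7.pullback_gg π (gg_twist_line (Int.natCast_nonneg n))) x
        exact ⟨_, (NefTriv.locus_mulBy hNi (hF n) t s).ge ⟨(hloc x).2 hx, ht⟩⟩
    have hM₁a := PicMul.isInvertible_tensorPow hM₁ a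
    obtain ⟨e⟩ : Nonempty (CohB1.tensorMod (CohB1.tensorPow M₁ a)
        ((Scheme.Modules.pullback π).obj (Twist.twistProjSpace 1 k (b - n * a))) ≅ L) :=
      PicMul.cl_eq_iff.1 (by
        show _ = PicF.cl (CohB1.tensorMod (CohB1.tensorPow N a) _)
        rw [PicMul.cl_tensor, PicMul.cl_tensor, PicMul.cl_tensorPow, PicMul.cl_tensorPow]
        show PicF.cl (CohB1.tensorMod N _) ^ a * _ = _
        rw [PicMul.cl_tensor, mul_pow, mul_assoc]
        congr 1
        have hd : Nonempty (CohB1.tensorMod (CohB1.tensorPow (Twist.twistProjSpace 1 k (n : ℤ)) a)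
            (Twist.twistProjSpace 1 k (b - n * a)) ≅ Twist.twistProjSpace 1 k b) :=
          iso_of_deg_eq k hdC (CurveCover.genus_line k)
            (PicMul.isInvertible_tensor (PicMul.isInvertible_tensorPow (hT n) a) (hT _)) (hT b) (by
              have := CurveRR.deg_tensor k hdC (PicMul.isInvertible_tensorPow (hT n) a) (hT (b - n * a))
              refine this.trans ?_
              rw [CurveAmple.deg_tensorPow (k := k) hdC (hT n) a, deg_twist, deg_twist, deg_twist]
              ring)
        have h2 := congrArg (PicMul.pullHom π) (PicMul.cl_eq_iff.2 hd)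
        rw [PicMul.cl_tensor, PicMul.cl_tensorPow, map_mul, map_pow] at h2
        exact h2)
    exact AmpleX.isGloballyGenerated_of_iso e
      (gg_tensor hM₁a (hF _) (gg_pow hM₁ hM₁g a) (GGDesc7.pullback_gg π (gg_twist_line (by linarith))))
  · obtain ⟨t, ht⟩ := CurveAmple.exists_section_ne_zero h
    have h0 := SurfNef.nef_section k hdim hM₁ hM₁nef hL ht
    rw [hpL hM₁, SurfPairing.pair_comm k (PicF.cl M₁) (PicF.cl N), hpM hNi,
      SurfPairing.pair_comm k (PicF.cl M₁), hpM (hF b), SurfPairing.pair_comm k (PicF.cl N), hFN, hNN,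
      hFF, SurfPairing.pair_comm k (PicF.cl N), hFN] at h0
    linarith
  · obtain ⟨x⟩ : Nonempty X := inferInstance
    obtain ⟨t, ht⟩ := GenLocusGG.exists_mem_locus (hF b) (GGDesc7.pullback_gg π (gg_twist_line hb)) x
    have hpow : ∀ m : ℕ, ∃ p : Γ(CohB1.tensorPow N m, ⊤), p ≠ 0 := fun m => by
      induction m with
      | zero => exact CurveAmple.exists_section_ne_zero (Module.nontrivial_of_finrank_pos (R := k) (by
          show 0 < Module.finrank k (Coh.HH X (Coh.structureModule X) 0)
          rw [SurfAdj.finrank_h0 k X]; exact one_pos))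
      | succ m ih =>
        obtain ⟨p, hp⟩ := ih
        obtain ⟨r, hr⟩ := nontrivial_tensor (PicMul.isInvertible_tensorPow hNi m) hNi hp hs
        obtain ⟨e⟩ : Nonempty (CohB1.tensorMod (CohB1.tensorPow N m) N ≅ CohB1.tensorPow N (m + 1)) :=
          PicMul.cl_eq_iff.1 (by rw [PicMul.cl_tensor, PicMul.cl_tensorPow, PicMul.cl_tensorPow, pow_succ])
        haveI := CurveAmple.nontrivial_h0 hr
        exact CurveAmple.exists_section_ne_zero (CurveCohLib.hhEquiv (k := k) e 0).symm.toEquiv.nontrivial
    obtain ⟨p, hp⟩ := hpow a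
    obtain ⟨r, hr⟩ := nontrivial_tensor (PicMul.isInvertible_tensorPow hNi a) (hF b) hp
      (ne_zero_of_mem_locus (hF b) ht)
    exact CurveAmple.nontrivial_h0 hr

end Groth.Agent.S18459
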