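import Groth.Statements.S1846
import Groth.Agent.GrpSchLib.HopfDifferential
import Mathlib.LinearAlgebra.FreeModule.Basic
import Mathlib.LinearAlgebra.TensorProduct.Basis
import Mathlib.LinearAlgebra.Basis.VectorSpace
-- import your own Groth.Agent.* helpers here

set_option autoImplicit false
universe u v
open GrpSch

namespace Groth.Agent.S1846

/-- Affine case of the last sentence: for a group scheme over a field the module of differentials is a
free module; stated for an affine group scheme Spec B, i.e. for a commutative Hopf algebra B over a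
field K: Ω_{B/K} is a free B-module. -/
theorem result (K : Type u) [Field K] (B : Type v) [CommRing B] [HopfAlgebra K B] : Module.Free B (Ω[B⁄K]) := by
  let ε := Bialgebra.counitAlgHom K B
  have hmem : ∀ y, y - algebraMap K B (ε y) ∈ RingHom.ker ε := fun y => by simp [RingHom.mem_ker]
  let p : B →ₗ[K] RingHom.ker ε :=
    { toFun := fun y => ⟨y - algebraMap K B (ε y), hmem y⟩
      map_add' := fun y z => Subtype.ext <| by simp [map_add]; abel
      map_smul' := fun c y => Subtype.ext <| by simp [Algebra.smul_def, map_mul]; ring }
  let π : B →ₗ[K] (RingHom.ker ε).Cotangent := (RingHom.ker ε).toCotangent.restrictScalars K ∘ₗ p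
  have hπI : ∀ x : RingHom.ker ε, π (x : B) = (RingHom.ker ε).toCotangent x := fun x =>
    congrArg (RingHom.ker ε).toCotangent (Subtype.ext (by
      have hx : ε (x : B) = 0 := x.2
      show (x : B) - algebraMap K B (ε x) = x
      simp [hx]))
  have hπ1 : π 1 = 0 := by
    have : p 1 = 0 := Subtype.ext (show (1 : B) - algebraMap K B (ε 1) = 0 by simp)
    simp [π, this]
  let dd : Derivation K B (TensorProduct K B (RingHom.ker ε).Cotangent) :=
    Derivation.mk' (π.lTensor B ∘ₗ Coalgebra.comul) (GrpSchLib.lTensor_comul_leibniz π hπI hπ1)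
  obtain ⟨f, hf, -⟩ := GrpSchLib.existsUnique_universal π hπI hπ1 (KaehlerDifferential.D K B)
  let F := dd.liftKaehlerDifferential
  have hFf : F ∘ₗ f = LinearMap.id := by
    obtain ⟨i, _, hu⟩ := GrpSchLib.existsUnique_universal π hπI hπ1 dd
    rw [hu (F ∘ₗ f) (fun a => by
      show F (f _) = _
      rw [hf]; exact dd.liftKaehlerDifferential_comp_D a), hu LinearMap.id (fun a => rfl)]
  have hfF : f ∘ₗ F = LinearMap.id := by
    apply Derivation.liftKaehlerDifferential_unique
    ext a
    show f (F (KaehlerDifferential.D K B a)) = KaehlerDifferential.D K B a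
    rw [dd.liftKaehlerDifferential_comp_D]
    exact hf a
  exact Module.Free.of_equiv (LinearEquiv.ofLinearMap f F hfF hFf)

end Groth.Agent.S1846
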