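import Groth.Statements.S18460
import Groth.Agent.SurfRows.Zariski
import Groth.Agent.SurfRows.LocalFun
import Groth.Agent.SurfRows.OrthClass

set_option autoImplicit false
set_option backward.isDefEq.respectTransparency false
set_option backward.isDefEq.respectTransparency.types false
set_option linter.style.haveILetI false
set_option linter.unusedSectionVars false
set_option maxHeartbeats 800000
universe u
open CategoryTheory CategoryTheory.Limits AlgebraicGeometry TopologicalSpace
open Surf

namespace Groth.Agent.S18460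

open Groth.Agent.H23 TopologicalSpace
attribute [local instance] PicMul.clMonoid

/-- Let k be an algebraically closed field of characteristic zero and X a smooth projective surface over
k (integral, proper and smooth over k, of dimension 2). Let Y be an integral normal scheme of
dimension 2, locally of finite type over k, y a closed point of Y, and π : X → Y a proper k-morphism
which restricts to an isomorphism over Y ∖ {y} and whose fibre over y is, as a set, the union of
pairwise distinct integral curves C_1, …, C_r on X (r ≥ 1, ideal sheaves I_i), this union being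
connected; so π contracts the connected curve C = ⋃ C_i to the normal point y. Then the intersection
matrix of the C_i is negative definite: Σ_{i,j} a_i a_j (I_i·I_j) < 0 for every nonzero integer
vector a, where (A·B) = χ(O_X) − χ(A) − χ(B) + χ(A ⊗ B). The published statement is about a
holomorphic contraction of a compact connected curve in a complex surface to a point of a normal
analytic surface; this row is the algebraic case, with Y locally of finite type so that the local
ring at y is a two-dimensional Noetherian normal domain and a nonzero function vanishing at y cuts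
out a curve through y, which is what the printed argument (pull back such a function and apply the
formal negativity lemma proved there) uses. -/
theorem result (k : Type u) [Field k] [IsAlgClosed k] [CharZero k]
    (X : Scheme.{u}) [X.Over (Spec (CommRingCat.of k))] [IsProper (X ↘ (Spec (CommRingCat.of k)))]
    [Smooth (X ↘ (Spec (CommRingCat.of k)))] [IsIntegral X] (hdim : topologicalKrullDim X = 2)
    (Y : Scheme.{u}) [Y.Over (Spec (CommRingCat.of k))] [IsIntegral Y] (hYn : Pi1.IsNormalScheme Y)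
    (hYd : topologicalKrullDim Y = 2)
    [LocallyOfFiniteType (Y ↘ (Spec (CommRingCat.of k)))]
    (π : X ⟶ Y) (hπk : π ≫ (Y ↘ (Spec (CommRingCat.of k))) = (X ↘ (Spec (CommRingCat.of k)))) [IsProper π]
    (y : Y) (hy : IsClosed ({y} : Set Y)) (hiso : IsIso (π ∣_ (⟨({y} : Set Y)ᶜ, hy.isOpen_compl⟩ : Y.Opens)))
    (r : ℕ) (hr : 0 < r) (C : Fin r → X.IdealSheafData) (hC : Function.Injective C)
    (hCi : ∀ i, IsIntegral (C i).subscheme) (hCd : ∀ i, topologicalKrullDim ((C i).support : Set X) = 1)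
    (hfib : (π.base : X → Y) ⁻¹' {y} = ⋃ i, ((C i).support : Set X))
    (hconn : _root_.IsConnected (⋃ i, ((C i).support : Set X))) :
    ∀ a : Fin r → ℤ, a ≠ 0 →
      ∑ i, ∑ j, a i * a j * FGA.intNum k X 2 ![(ClSub.idealMod (C i)), (ClSub.idealMod (C j))] (Coh.structureModule X) < 0 := by
  classical
  haveI := CurveCohLib.isNoetherian_of_proper (k := k) (X := X)
  haveI : IsLocallyNoetherian Y := LocallyOfFiniteType.isLocallyNoetherian (Y ↘ Spec (CommRingCat.of k))
  have hI := fun i => SurfNef.invertible_ideal k hdim (hCi i) (hCd i)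
  have hE := fun i => SurfRows.isEffCartier_of_curve k hdim (hCi i) (hCd i)
  let G : Fin r → Fin r → ℤ := fun i j => SurfPairing.pair k (PicF.cl (ClSub.idealMod (C i))) (PicF.cl (ClSub.idealMod (C j)))
  have hoff : ∀ i j, i ≠ j → 0 ≤ G i j := fun i j hij =>
    SurfRows.pair_curves_nonneg k hdim (hCi i) (hCd i) (hCi j) (hCd j) fun h => hij (hC h)
  have hconnG := SurfRows.graph_connected k hdim C hC hCi hCd hconn.isPreconnected
  have hsub : ∀ i, ((C i).support : Set X) ⊆ π ⁻¹' {y} := fun i x hx =>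
    hfib.ge (Set.mem_iUnion.2 ⟨i, hx⟩)
  -- generic points
  have hgy : genericPoint Y ≠ y := fun h => by
    have hu : ({y} : Set Y) = Set.univ := by
      rw [← genericPoint_closure (α := Y), h, hy.closure_eq]
    haveI : Subsingleton Y := ⟨fun a b => by
      have ha : a ∈ ({y} : Set Y) := hu.ge trivial
      have hb : b ∈ ({y} : Set Y) := hu.ge trivial
      exact ha.trans hb.symm⟩
    have h0 : topologicalKrullDim Y ≤ 0 := topologicalKrullDim_zero_of_discreteTopology _
    rw [hYd] at h0
    exact absurd h0 (by decide)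
  let O₁ : Y.Opens := ⟨({y} : Set Y)ᶜ, hy.isOpen_compl⟩
  haveI := hiso
  have hsurj : ∀ z, z ≠ y → ∃ x, π x = z := fun z hz => by
    obtain ⟨w, hw⟩ := (π ∣_ O₁).surjective (⟨z, hz⟩ : O₁)
    refine ⟨w.1, ?_⟩
    have h := congrArg Subtype.val hw
    rw [morphismRestrict_base] at h
    exact h
  have hgen : π (genericPoint X) = genericPoint Y := by
    obtain ⟨x, hx⟩ := hsurj _ hgy
    exact ((hx ▸ (genericPoint_specializes x).map π.continuous : π (genericPoint X) ⤳ genericPoint Y).antisymm
      (genericPoint_specializes _)).eq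
  -- a function vanishing at `y`
  obtain ⟨U, hU, hyU, -⟩ := exists_isAffineOpen_mem_and_subset (x := y) (U := ⊤) trivial
  have hgU : genericPoint Y ∈ U := (genericPoint_specializes y).mem_open U.2 hyU
  obtain ⟨g, hg1, hg2⟩ := hU.exists_basicOpen_le (V := O₁) ⟨genericPoint Y, hgy⟩ hgU
  have hyg : y ∉ Y.basicOpen g := fun h => hg1 h rfl
  let V : X.Opens := π ⁻¹ᵁ U
  let h : Γ(X, V) := π.app U g
  have hbo : π ⁻¹ᵁ Y.basicOpen g = X.basicOpen h := Scheme.preimage_basicOpen π g
  have hgenV : genericPoint X ∈ V := show π (genericPoint X) ∈ U by rw [hgen]; exact hgU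
  have hh0 : h ≠ 0 := fun h0 => by
    have h1 : genericPoint X ∈ X.basicOpen h := by
      rw [← hbo]
      show π (genericPoint X) ∈ Y.basicOpen g
      rw [hgen]; exact hg2
    rw [h0, Scheme.basicOpen_zero] at h1
    exact h1
  haveI : Nonempty V := ⟨⟨_, hgenV⟩⟩
  have hCV : ∀ i, ((C i).support : Set X) ⊆ V := fun i x hx => show π x ∈ U by rw [hsub i hx]; exact hyU
  have hCh : ∀ i, ∀ x ∈ (C i).support, x ∉ X.basicOpen h := fun i x hx hxh => by
    rw [← hbo] at hxh
    exact hyg (hsub i hx ▸ hxh)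
  -- a maximal divisor of `h` supported on the curves
  let D : (Fin r → ℕ) → X.IdealSheafData := fun e => ∏ i, C i ^ e i
  have hpow : ∀ i, ∃ N : ℕ, ∀ e, SurfRows.LocMem h (D e) → e i < N := fun i => by
    haveI := hCi i
    let η := (C i).subschemeι (genericPoint (C i).subscheme)
    have hη : η ∈ (C i).support := (C i).range_subschemeι.le ⟨_, rfl⟩
    let R := X.presheaf.stalk η
    have hgerm : X.presheaf.germ V η (hCV i hη) h ≠ 0 := fun h0 =>
      hh0 (germ_injective_of_isIntegral X η (hCV i hη) (h0.trans (map_zero _).symm))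
    obtain ⟨N, hN⟩ : ∃ N, X.presheaf.germ V η (hCV i hη) h ∉ IsLocalRing.maximalIdeal R ^ N := by
      by_contra hcon
      push_neg at hcon
      refine hgerm ?_
      have h1 : X.presheaf.germ V η (hCV i hη) h ∈ ⨅ N, IsLocalRing.maximalIdeal R ^ N := Ideal.mem_iInf.2 hcon
      rwa [Ideal.iInf_pow_eq_bot_of_isLocalRing _ (IsLocalRing.maximalIdeal.isMaximal R).ne_top, Ideal.mem_bot] at h1
    refine ⟨N, fun e he => ?_⟩
    by_contra hle
    rw [not_lt] at hle
    obtain ⟨W, hxW, hWV, hW⟩ := he η (hCV i hη)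
    have h1 : (D e).ideal W ≤ (C i).ideal W ^ N := by
      show (∏ j, C j ^ e j).ideal W ≤ _
      rw [← Finset.mul_prod_erase _ _ (Finset.mem_univ i), Scheme.IdealSheafData.ideal_mul, Pi.mul_apply,
        Scheme.IdealSheafData.ideal_pow, Pi.pow_apply]
      exact Ideal.mul_le_left.trans (Ideal.pow_le_pow_right hle)
    have h2 : ((C i).ideal W).map (X.presheaf.germ W.1 η hxW).hom ≤ IsLocalRing.maximalIdeal R := by
      refine Ideal.map_le_iff_le_comap.2 fun a ha => ?_
      show _ ∈ IsLocalRing.maximalIdeal R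
      rw [IsLocalRing.mem_maximalIdeal, mem_nonunits_iff, ← Scheme.mem_basicOpen]
      intro hb
      exact (Scheme.mem_zeroLocus_iff _ _ _).1 (((C i).coe_support_inter W).le ⟨hη, hxW⟩).1 a ha hb
    refine hN ?_
    have h3 := Ideal.mem_map_of_mem (X.presheaf.germ W.1 η hxW).hom (h1 hW)
    rw [Ideal.map_pow] at h3
    have h4 := Ideal.pow_right_mono h2 N h3
    rwa [← TopCat.Presheaf.germ_res_apply X.presheaf (homOfLE hWV) η hxW h]
  choose N hN using hpow
  let F : Set (Fin r → ℕ) := {e | SurfRows.LocMem h (D e)}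
  have hFfin : F.Finite := (Set.Finite.pi' fun i => Set.finite_Iio (N i)).subset fun e he i => hN i e he
  have hF0 : (0 : Fin r → ℕ) ∈ F := fun x hx => by
    obtain ⟨W, hW, hxW, hWV⟩ := exists_isAffineOpen_mem_and_subset hx
    refine ⟨⟨W, hW⟩, hxW, hWV, ?_⟩
    rw [show D 0 = ⊤ from Finset.prod_eq_one fun i _ => pow_zero _, Scheme.IdealSheafData.ideal_top]
    trivial
  obtain ⟨e, heF, hemax⟩ := hFfin.exists_maximalFor (fun e => ∑ i, e i) F ⟨0, hF0⟩
  have hnm : ∀ j, ¬ SurfRows.LocMem h (C j * D e) := fun j hj => by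
    have h1 : D (e + Pi.single j 1) = C j * D e := by
      simp only [D, Pi.add_apply, pow_add, Finset.prod_mul_distrib]
      rw [mul_comm, Finset.prod_eq_single j (fun b _ hb => by rw [Pi.single_eq_of_ne hb, pow_zero]) (by simp),
        Pi.single_eq_same, pow_one]
    have h2 := hemax (j := e + Pi.single j 1) (show SurfRows.LocMem h (D (e + Pi.single j 1)) by rw [h1]; exact hj)
    simp only [Pi.add_apply, Finset.sum_add_distrib, Finset.sum_pi_single', Finset.mem_univ, if_true] at h2
    have := h2 (by omega)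
    omega
  let t : Multiset X.IdealSheafData := ∑ i, Multiset.replicate (e i) (C i)
  have htD : t.prod = D e := by
    simp only [t, D, Multiset.prod_sum, Multiset.prod_replicate]
  have ht : ∀ A ∈ t, ∃ i, A = C i := fun A hA => by
    obtain ⟨i, -, hi⟩ := Multiset.mem_sum.1 hA
    exact ⟨i, Multiset.eq_of_mem_replicate hi⟩
  have ht' : ∀ A ∈ t, IsIntegral A.subscheme ∧ topologicalKrullDim (A.support : Set X) = 1 := fun A hA => by
    obtain ⟨i, rfl⟩ := ht A hA
    exact ⟨hCi i, hCd i⟩
  have hDe := SurfRows.eff_prod k hdim t ht'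
  rw [htD] at hDe
  have hval : ∀ i, SurfPairing.pair k (PicF.cl (ClSub.idealMod (C i))) (PicF.cl (ClSub.idealMod (D e))) =
      ∑ j, (e j : ℤ) * G i j := fun i => by
    rw [SurfPairing.pair_comm, hDe.2 _ (hI i), ← Multiset.coe_mapAddMonoidHom, map_sum, ← Multiset.coe_sumAddMonoidHom,
      map_sum]
    simp only [Multiset.coe_sumAddMonoidHom, Multiset.coe_mapAddMonoidHom]
    refine Finset.sum_congr rfl fun j _ => ?_
    rw [Multiset.map_replicate, Multiset.sum_replicate, nsmul_eq_mul, SurfPairing.pair_comm]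
  have hlocal := fun i => SurfRows.pair_le_zero_of_fun k hdim (hCi i) (hCd i) hDe.1 (hCV i) h heF (hnm i)
  have hstrict : ∃ i, ∑ j, (e j : ℤ) * G i j < 0 := by
    by_contra hcon
    push_neg at hcon
    have hzero : ∀ i, SurfPairing.pair k (PicF.cl (ClSub.idealMod (C i))) (PicF.cl (ClSub.idealMod (D e))) = 0 :=
      fun i => le_antisymm (hlocal i).1 (by rw [hval]; exact hcon i)
    choose O hxO hOV hO using fun (x : {x : X // π x = y}) => (show ∃ O : X.Opens, x.1 ∈ O ∧ O ≤ V ∧
        ∀ z ∈ O, z ∉ X.basicOpen h → z ∈ (D e).support by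
      obtain ⟨i, hi⟩ := Set.mem_iUnion.1 (hfib.le x.2)
      exact (hlocal i).2 (hzero i) x.1 hi)
    have hcl : IsClosed (π '' ((⨆ x, O x : X.Opens) : Set X)ᶜ) :=
      π.isClosedMap _ (⨆ x, O x : X.Opens).2.isClosed_compl
    have hyZ : y ∈ (⟨(π '' ((⨆ x, O x : X.Opens) : Set X)ᶜ)ᶜ, hcl.isOpen_compl⟩ : Y.Opens) := by
      rintro ⟨x, hx, hxy⟩
      exact hx (Opens.mem_iSup.2 ⟨⟨x, hxy⟩, hxO _⟩)
    obtain ⟨U₂, hU₂, hyU₂, hU₂le⟩ := exists_isAffineOpen_mem_and_subset
      (show y ∈ U ⊓ (⟨(π '' ((⨆ x, O x : X.Opens) : Set X)ᶜ)ᶜ, hcl.isOpen_compl⟩ : Y.Opens) from ⟨hyU, hyZ⟩)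
    let g₂ := Y.presheaf.map (homOfLE (hU₂le.trans inf_le_left : U₂ ≤ U)).op g
    have honly : ∀ z ∈ U₂, z ∉ Y.basicOpen g₂ → z = y := fun z hz hzg => by
      by_contra hzy
      obtain ⟨x, rfl⟩ := hsurj z hzy
      have hxO' : x ∈ (⨆ x, O x : X.Opens) := by
        by_contra hx
        exact (hU₂le hz).2 ⟨x, hx, rfl⟩
      obtain ⟨x₀, hx₀⟩ := Opens.mem_iSup.1 hxO'
      have hxh : x ∉ X.basicOpen h := fun hb => by
        rw [← hbo] at hb
        exact hzg (by rw [Scheme.basicOpen_res]; exact ⟨hz, hb⟩)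
      have hxs := hO x₀ x hx₀ hxh
      rw [← htD] at hxs
      obtain ⟨A, hA, hxA⟩ := SurfRows.exists_mem_support t hxs
      obtain ⟨i, rfl⟩ := ht A hA
      exact hzy (hsub i hxA)
    let p := hU₂.primeIdealOf ⟨y, hyU₂⟩
    have hp : hU₂.fromSpec p = y := hU₂.fromSpec_primeIdealOf _
    have hmem : ∀ q : PrimeSpectrum Γ(Y, U₂), g₂ ∈ q.asIdeal ↔ hU₂.fromSpec q ∉ Y.basicOpen g₂ := fun q => by
      constructor
      · intro hq hb
        have : q ∈ hU₂.fromSpec ⁻¹ᵁ Y.basicOpen g₂ := hb
        rw [hU₂.fromSpec_preimage_basicOpen] at this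
        exact this hq
      · intro hb
        by_contra hq
        refine hb ?_
        have : q ∈ hU₂.fromSpec ⁻¹ᵁ Y.basicOpen g₂ := by
          rw [hU₂.fromSpec_preimage_basicOpen]; exact hq
        exact this
    have hpmem : g₂ ∈ p.asIdeal := (hmem p).2 (by rw [hp, Scheme.basicOpen_res]; exact fun hb => hyg hb.2)
    haveI : IsNoetherianRing Γ(Y, U₂) := IsLocallyNoetherian.component_noetherian ⟨U₂, hU₂⟩
    have hmin : p.asIdeal ∈ (Ideal.span {g₂}).minimalPrimes :=
      ⟨⟨p.2, (Ideal.span_singleton_le_iff_mem _).2 hpmem⟩, fun q ⟨hq, hqg⟩ _ => by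
        have hq' : hU₂.fromSpec ⟨q, hq⟩ = y := honly _
          (hU₂.range_fromSpec.le ⟨_, rfl⟩) ((hmem ⟨q, hq⟩).1 ((Ideal.span_singleton_le_iff_mem _).1 hqg))
        have : (⟨q, hq⟩ : PrimeSpectrum Γ(Y, U₂)) = p := hU₂.fromSpec.isOpenEmbedding.injective (hq'.trans hp.symm)
        exact (congrArg PrimeSpectrum.asIdeal this).ge⟩
    have hh1 := Ideal.height_le_one_of_isPrincipal_of_mem_minimalPrimes (Ideal.span {g₂}) p.asIdeal hmin
    obtain ⟨b, hb, -, hble⟩ := VarDim.exists_deg_add_stalk (Y ↘ Spec (CommRingCat.of k)) y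
    have hb2 : 2 ≤ b := by
      have h1 := hble _ (genericPoint_specializes y)
      rw [DiagReg.deg_eq_zero (Y ↘ Spec (CommRingCat.of k)) hy] at h1
      have h2 : ((VarDim.deg (Y ↘ Spec (CommRingCat.of k)) (genericPoint Y) : ℕ∞) : WithBot ℕ∞) = 2 :=
        (VarDim.topologicalKrullDim_eq_deg_genericPoint (Y ↘ Spec (CommRingCat.of k))).symm.trans hYd
      have h2' : ((VarDim.deg (Y ↘ Spec (CommRingCat.of k)) (genericPoint Y) : ℕ∞)) = 2 := WithBot.coe_injective (h2.trans rfl)
      have h3 : VarDim.deg (Y ↘ Spec (CommRingCat.of k)) (genericPoint Y) = 2 := ENat.natCast_inj.1 h2'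
      omega
    have h4 := VarDim.ringKrullDim_stalk_fromSpec hU₂ p
    rw [hp, hb, ← PrimeSpectrum.height_eq_orderHeight] at h4
    have h5 : (b : ℕ∞) = p.asIdeal.height := by exact_mod_cast h4
    rw [← h5] at hh1
    have : b ≤ 1 := by exact_mod_cast hh1
    omega
  have hGe : ∀ i, ∑ j, (e j : ℤ) * G i j ≤ 0 := fun i => (hval i) ▸ (hlocal i).1
  have hepos : ∀ i, (0 : ℤ) < e i := by
    by_contra hcon
    push_neg at hcon
    obtain ⟨j₀, hj₀⟩ := hcon
    obtain ⟨i₀, hi₀⟩ := hstrict
    obtain ⟨l, hl⟩ : ∃ l, 0 < e l := by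
      by_contra h0
      push_neg at h0
      refine hi₀.ne (Finset.sum_eq_zero fun j _ => ?_)
      rw [Nat.le_zero.1 (h0 j), Nat.cast_zero, zero_mul]
    obtain ⟨i, hi, j, hj, hij⟩ := hconnG (Finset.univ.filter fun i => 0 < e i) ⟨l, by simpa using hl⟩
      ⟨j₀, by simp; omega⟩
    simp only [Finset.mem_compl, Finset.mem_filter, Finset.mem_univ, true_and] at hi hj
    have h1 := hGe j
    have h2 : (e i : ℤ) * G j i ≤ ∑ l, (e l : ℤ) * G j l :=
      Finset.single_le_sum (f := fun l => (e l : ℤ) * G j l) (fun l _ => by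
        rcases eq_or_ne j l with rfl | hne
        · simp [show e j = 0 by omega]
        · exact mul_nonneg (Int.natCast_nonneg _) (hoff j l hne)) (Finset.mem_univ i)
    have h3 : 1 ≤ G j i := by rw [show G j i = G i j from SurfPairing.pair_comm k _ _]; exact hij
    have h4 : (1 : ℤ) ≤ e i := by exact_mod_cast hi
    nlinarith
  intro a ha
  simp only [SurfPairing.intNum_eq_pair k hdim.le (hI _) (hI _)]
  obtain ⟨hle, heq⟩ := SurfRows.zariski_lemma G (fun i j => SurfPairing.pair_comm k _ _) hoff hconnG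
    (fun i => (e i : ℤ)) hepos hGe a
  refine lt_of_le_of_ne hle fun h0 => ?_
  obtain ⟨hprop, hz⟩ := heq h0
  obtain ⟨i₁, hi₁⟩ := hstrict
  obtain ⟨i₂, hi₂⟩ := Function.ne_iff.1 ha
  refine hi₁.ne (hz i₁ fun h1 => hi₂ ?_)
  have := hprop i₂ i₁
  rw [h1, zero_mul] at this
  exact (mul_eq_zero.1 this).resolve_right (hepos i₁).ne'

end Groth.Agent.S18460
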