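import Groth.Statements.S18461
import Groth.Agent.SurfRows.FundCycle
-- import your own Groth.Agent.* helpers here

set_option autoImplicit false
set_option backward.isDefEq.respectTransparency false
set_option backward.isDefEq.respectTransparency.types false
universe u
open CategoryTheory CategoryTheory.Limits AlgebraicGeometry TopologicalSpace
open Surf

namespace Groth.Agent.S18461

open Groth.Agent Groth.Agent.H23

attribute [local instance] PicMul.clMonoid

/-- Let k be an algebraically closed field of characteristic zero and X a smooth projective surface over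
k (integral, proper and smooth over k, of dimension 2). Let C_1, …, C_r (r ≥ 1) be pairwise distinct
integral curves on X, with ideal sheaves I_i, forming a connected configuration with negative
definite intersection matrix (no partition of the indices into two nonempty sets with (I_i·I_j) = 0
across; Σ a_i a_j (I_i·I_j) < 0 for every nonzero integer vector a; (A·B) = χ(O_X) − χ(A) − χ(B) +
χ(A ⊗ B)), and let Z₀ be a fundamental cycle: a nonzero effective Cartier divisor supported on ⋃ C_i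
with deg(I_{Z₀}|_{C_i}) = χ(O_{C_i} ⊗ I_{Z₀}) − χ(O_{C_i}) ≥ 0 for all i, every other such divisor Z
satisfying Z ≥ Z₀ (I_Z ⊆ I_{Z₀}). Suppose the configuration is rational in the sense that H¹(Z, O_Z)
= 0 for every nonzero effective Cartier divisor Z supported on ⋃ C_i. Then for every natural number
N, writing O_{Z₀}(−NZ₀) = O_{Z₀} ⊗ I_{Z₀}^{⊗N}: H¹(Z₀, O_{Z₀}(−NZ₀)) = 0 and dim_k H⁰(Z₀,
O_{Z₀}(−NZ₀)) = −N·(I_{Z₀}·I_{Z₀}) + 1, that is −N·Z₀² + 1; cohomology is computed on X through the
direct image of O_{Z₀}. The published statement assumes the singularity obtained by contracting the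
configuration over the complex numbers rational, which is equivalent to the vanishing assumed here,
and also asserts R¹π_*O_X(−NZ₀) = 0 for the contraction π and two facts on the maximal ideal of that
singularity; those are not restated. -/
theorem result (k : Type u) [Field k] [IsAlgClosed k] [CharZero k]
    (X : Scheme.{u}) [X.Over (Spec (CommRingCat.of k))] [IsProper (X ↘ (Spec (CommRingCat.of k)))]
    [Smooth (X ↘ (Spec (CommRingCat.of k)))] [IsIntegral X] (hdim : topologicalKrullDim X = 2)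
    (r : ℕ) (hr : 0 < r) (C : Fin r → X.IdealSheafData) (hC : Function.Injective C)
    (hCi : ∀ i, IsIntegral (C i).subscheme) (hCd : ∀ i, topologicalKrullDim ((C i).support : Set X) = 1)
    (hconn : ∀ S : Finset (Fin r), S.Nonempty → Sᶜ.Nonempty →
      ∃ i ∈ S, ∃ j ∈ Sᶜ, FGA.intNum k X 2 ![(ClSub.idealMod (C i)), (ClSub.idealMod (C j))] (Coh.structureModule X) ≠ 0)
    (hneg : ∀ a : Fin r → ℤ, a ≠ 0 →
      ∑ i, ∑ j, a i * a j * FGA.intNum k X 2 ![(ClSub.idealMod (C i)), (ClSub.idealMod (C j))] (Coh.structureModule X) < 0)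
    (Z₀ : X.IdealSheafData) (hZ₀ : FGA.IsEffCartier Z₀) (hZ₀0 : Z₀ ≠ ⊤)
    (hZ₀s : (Z₀.support : Set X) ⊆ ⋃ i, ((C i).support : Set X))
    (hZ₀C : ∀ i, 0 ≤ Curv2.euler k X (CohB1.tensorMod (ClSub.quotMod (C i)) (ClSub.idealMod Z₀)) -
      Curv2.euler k X (ClSub.quotMod (C i)))
    (hZ₀min : ∀ Z : X.IdealSheafData, FGA.IsEffCartier Z → Z ≠ ⊤ → (Z.support : Set X) ⊆ ⋃ i, ((C i).support : Set X) →
      (∀ i, 0 ≤ Curv2.euler k X (CohB1.tensorMod (ClSub.quotMod (C i)) (ClSub.idealMod Z)) -
        Curv2.euler k X (ClSub.quotMod (C i))) → Z ≤ Z₀)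
    (hrat : ∀ Z : X.IdealSheafData, FGA.IsEffCartier Z → Z ≠ ⊤ → (Z.support : Set X) ⊆ ⋃ i, ((C i).support : Set X) →
      Subsingleton (Coh.HH X (ClSub.quotMod Z) 1))
    (N : ℕ) :
    Subsingleton (Coh.HH X (CohB1.tensorMod (ClSub.quotMod Z₀) (CohB1.tensorPow (ClSub.idealMod Z₀) N)) 1) ∧
      (Module.finrank k (Coh.HH X (CohB1.tensorMod (ClSub.quotMod Z₀) (CohB1.tensorPow (ClSub.idealMod Z₀) N)) 0) : ℤ) =
        -(N : ℤ) * FGA.intNum k X 2 ![(ClSub.idealMod Z₀), (ClSub.idealMod Z₀)] (Coh.structureModule X) + 1 := by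
  obtain ⟨s₀, h, rfl⟩ := SurfRows.FC.mk' k hdim C hC hCi hCd hneg Z₀ hZ₀ hZ₀0 hZ₀s hZ₀C hZ₀min
  haveI := CurveCohLib.isNoetherian_of_proper (k := k) (X := X)
  have hχ := h.euler_eq_one (hrat _ hZ₀ hZ₀0 hZ₀s)
  have hI := h.inv h.mem
  let M := CohB1.tensorPow (ClSub.idealMod s₀.prod) N
  have hM : PicF.IsInvertible M := PicMul.isInvertible_tensorPow hI N
  have hp : ∀ {B : X.Modules}, PicF.IsInvertible B → SurfPairing.pair k (PicF.cl B) (PicF.cl M) =
      N * SurfPairing.pair k (PicF.cl B) (PicF.cl (ClSub.idealMod s₀.prod)) := fun hB => SurfAmple.pair_pow hdim.le hB hI N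
  have hs1 := h.h1_twist hχ hM fun i => by
    rw [hp (SurfNef.invertible_ideal k hdim (hCi i) (hCd i))]
    exact mul_nonpos_of_nonneg_of_nonpos (Int.natCast_nonneg _) (h.le i)
  obtain ⟨c⟩ := PicMul.comm M (ClSub.quotMod s₀.prod)
  have hsub : Subsingleton (Coh.HH X (CohB1.tensorMod (ClSub.quotMod s₀.prod) M) 1) :=
    SurfRows.hh_congr k (PicMul.cl_eq_iff.2 ⟨c⟩) 1 hs1
  refine ⟨hsub, ?_⟩
  haveI := hsub
  have he := SurfNegDef.euler_quot_tensor (k := k) s₀.prod hI hM
  rw [hp hI, hχ, Euler.euler_eq_sum k _ 2 fun i hi => SurfRows.hh_congr k (PicMul.cl_eq_iff.2 ⟨c⟩) i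
    (SurfRows.dim_prod k hdim s₀ (h.curve h.mem) hM i hi)] at he
  simp only [Finset.sum_range_succ, Finset.sum_range_zero,
    Module.finrank_zero_of_subsingleton (R := k) (M := Coh.HH X (CohB1.tensorMod (ClSub.quotMod s₀.prod) M) 1)] at he
  rw [SurfPairing.intNum_eq_pair k hdim.le hI hI]
  push_cast at he
  linarith

end Groth.Agent.S18461
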