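import Groth.Statements.S18462
import Groth.Agent.Lib.SurfNegDef
import Groth.Agent.Lib.SurfHodge

set_option autoImplicit false
set_option backward.isDefEq.respectTransparency false
set_option backward.isDefEq.respectTransparency.types false
set_option linter.style.haveILetI false
set_option linter.unusedSectionVars false
set_option maxHeartbeats 400000
universe u
open CategoryTheory CategoryTheory.Limits AlgebraicGeometry TopologicalSpace
open Surf

namespace Groth.Agent.S18462

open Groth.Agent.H23 Groth.Agent.H23.TrivBasic
attribute [local instance] PicMul.clMonoid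
variable {k : Type u} [Field k] {X : Scheme.{u}} [X.Over (Spec (CommRingCat.of k))]
  [IsProper (X ↘ Spec (CommRingCat.of k))] [Smooth (X ↘ Spec (CommRingCat.of k))] [IsIntegral X]

variable (k) in
include k in
theorem invertible_curve (hdim : topologicalKrullDim X = 2) {C : X.IdealSheafData} (hi : IsIntegral C.subscheme)
    (hC : topologicalKrullDim (C.support : Set X) = 1) : PicF.IsInvertible (ClSub.idealMod C) := by
  haveI := hi
  have hd : topologicalKrullDim C.subscheme = 1 := by
    rw [(IsHomeomorph.topologicalKrullDim_eq _ C.subschemeι.isEmbedding.toHomeomorph.isHomeomorph)]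
    exact (IsHomeomorph.topologicalKrullDim_eq _ (Homeomorph.setCongr (C.range_subschemeι)).isHomeomorph).trans hC
  have h := CurveOnSurf.isInvertible_ideal (X ↘ Spec (CommRingCat.of k)) hdim (SurfHodge.regular k) C.subschemeι hd
  rwa [Scheme.IdealSheafData.ker_subschemeι] at h

variable (k) in
include k in
theorem off_diag (hdim : topologicalKrullDim X = 2) {r : ℕ} {C : Fin r → X.IdealSheafData} (hC : Function.Injective C)
    (hCi : ∀ i, IsIntegral (C i).subscheme) (hCd : ∀ i, topologicalKrullDim ((C i).support : Set X) = 1)
    {i j : Fin r} (hij : i ≠ j) :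
    0 ≤ SurfPairing.pair k (PicF.cl (ClSub.idealMod (C i))) (PicF.cl (ClSub.idealMod (C j))) := by
  haveI := hCi i; haveI := hCi j
  exact SurfNegDef.pair_ideal_nonneg hdim (SurfHodge.regular k) (hCd i)
    ((S8914.result (C j)).1 (invertible_curve k hdim (hCi j) (hCd j)))
    fun h => hij (hC (SurfNegDef.eq_of_support_subset k (hCd i) (hCd j) h))

/-- Let k be an algebraically closed field of characteristic zero and X a smooth projective surface over
k (integral, proper and smooth over k, of dimension 2, carrying an ample invertible module). Let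
C_1, …, C_r be pairwise distinct integral curves on X with ideal sheaves I_i and negative definite
intersection matrix (Σ_{i,j} a_i a_j (I_i·I_j) < 0 for every nonzero integer vector a, where (A·B) =
χ(O_X) − χ(A) − χ(B) + χ(A ⊗ B)), let F be an effective Cartier divisor on X, with ideal I_F, none
of whose components is a C_i, and let s_1, …, s_r be integers such that the divisor class F + Σ_i
s_i C_i is orthogonal to every C_j, that is (F·C_j) + Σ_i s_i (C_i·C_j) = 0, written here as
deg(I_F|_{C_j}) = χ(O_{C_j} ⊗ I_F) − χ(O_{C_j}) = Σ_i s_i (I_i·I_j) for every j. Then all the s_i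
are nonnegative. The published statement allows real coefficients s_i; this row takes integer
coefficients. Its second assertion, that s_i > 0 on every connected group of the C_i one of which
meets F positively, is not restated. -/
theorem result (k : Type u) [Field k] [IsAlgClosed k] [CharZero k]
    (X : Scheme.{u}) [X.Over (Spec (CommRingCat.of k))] [IsProper (X ↘ (Spec (CommRingCat.of k)))]
    [Smooth (X ↘ (Spec (CommRingCat.of k)))] [IsIntegral X] (hdim : topologicalKrullDim X = 2)
    (hproj : ∃ H : X.Modules, CohB1.IsAmple H)
    (r : ℕ) (C : Fin r → X.IdealSheafData) (hC : Function.Injective C)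
    (hCi : ∀ i, IsIntegral (C i).subscheme) (hCd : ∀ i, topologicalKrullDim ((C i).support : Set X) = 1)
    (hneg : ∀ a : Fin r → ℤ, a ≠ 0 →
      ∑ i, ∑ j, a i * a j * FGA.intNum k X 2 ![(ClSub.idealMod (C i)), (ClSub.idealMod (C j))] (Coh.structureModule X) < 0)
    (F : X.IdealSheafData) (hF : FGA.IsEffCartier F) (hFC : ∀ i, ¬ ((C i).support : Set X) ⊆ (F.support : Set X))
    (s : Fin r → ℤ)
    (horth : ∀ j, Curv2.euler k X (CohB1.tensorMod (ClSub.quotMod (C j)) (ClSub.idealMod F)) - Curv2.euler k X (ClSub.quotMod (C j)) =
      ∑ i, s i * FGA.intNum k X 2 ![(ClSub.idealMod (C i)), (ClSub.idealMod (C j))] (Coh.structureModule X)) :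
    ∀ i, 0 ≤ s i := by
  letI := PicMul.clMonoid (X := X)
  have hI := fun i => invertible_curve k hdim (hCi i) (hCd i)
  have hFi := (S8914.result F).2 hF
  have hint := fun i j => SurfPairing.intNum_eq_pair k hdim.le (hI i) (hI j)
  simp only [hint] at hneg horth
  intro i
  have h := SurfNegDef.nonpos_of_mul
    (fun i j => SurfPairing.pair k (PicF.cl (ClSub.idealMod (C i))) (PicF.cl (ClSub.idealMod (C j))))
    (fun i j hij => off_diag k hdim hC hCi hCd hij) hneg (fun i => -s i) (fun j => ?_) i
  · exact neg_nonpos.1 h
  haveI := hCi j
  have h1 := SurfNegDef.euler_quot_tensor (k := k) (C j) (hI j) hFi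
  have h2 := SurfNegDef.pair_ideal_nonneg (k := k) hdim (SurfHodge.regular k) (hCd j) hF (hFC j)
  rw [horth j] at h1
  simp only [neg_mul, Finset.sum_neg_distrib]
  linarith

end Groth.Agent.S18462
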