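import Groth.Statements.S18463
import Groth.Agent.Lib.SurfNegDef
import Groth.Agent.Lib.SurfHodge

set_option autoImplicit false
set_option backward.isDefEq.respectTransparency false
set_option backward.isDefEq.respectTransparency.types false
set_option linter.style.haveILetI false
set_option linter.unusedSectionVars false
set_option maxHeartbeats 400000
universe u
open CategoryTheory CategoryTheory.Limits AlgebraicGeometry TopologicalSpace
open Surf

namespace Groth.Agent.S18463

open Groth.Agent.H23 Groth.Agent.H23.TrivBasic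
attribute [local instance] PicMul.clMonoid
variable {k : Type u} [Field k] {X : Scheme.{u}} [X.Over (Spec (CommRingCat.of k))]
  [IsProper (X ↘ Spec (CommRingCat.of k))] [Smooth (X ↘ Spec (CommRingCat.of k))] [IsIntegral X]

variable (k) in
include k in
theorem invertible_curve (hdim : topologicalKrullDim X = 2) {C : X.IdealSheafData} (hi : IsIntegral C.subscheme)
    (hC : topologicalKrullDim (C.support : Set X) = 1) : PicF.IsInvertible (ClSub.idealMod C) := by
  haveI := hi
  have hd : topologicalKrullDim C.subscheme = 1 := by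
    rw [(IsHomeomorph.topologicalKrullDim_eq _ C.subschemeι.isEmbedding.toHomeomorph.isHomeomorph)]
    exact (IsHomeomorph.topologicalKrullDim_eq _ (Homeomorph.setCongr (C.range_subschemeι)).isHomeomorph).trans hC
  have h := CurveOnSurf.isInvertible_ideal (X ↘ Spec (CommRingCat.of k)) hdim (SurfHodge.regular k) C.subschemeι hd
  rwa [Scheme.IdealSheafData.ker_subschemeι] at h

variable (k) in
include k in
theorem off_diag (hdim : topologicalKrullDim X = 2) {r : ℕ} {C : Fin r → X.IdealSheafData} (hC : Function.Injective C)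
    (hCi : ∀ i, IsIntegral (C i).subscheme) (hCd : ∀ i, topologicalKrullDim ((C i).support : Set X) = 1)
    {i j : Fin r} (hij : i ≠ j) :
    0 ≤ SurfPairing.pair k (PicF.cl (ClSub.idealMod (C i))) (PicF.cl (ClSub.idealMod (C j))) := by
  haveI := hCi i; haveI := hCi j
  exact SurfNegDef.pair_ideal_nonneg hdim (SurfHodge.regular k) (hCd i)
    ((S8914.result (C j)).1 (invertible_curve k hdim (hCi j) (hCd j)))
    fun h => hij (hC (SurfNegDef.eq_of_support_subset k (hCd i) (hCd j) h))

/-- Let k be an algebraically closed field of characteristic zero and X a smooth projective surface over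
k (integral, proper and smooth over k, of dimension 2, carrying an ample invertible module). Let
C_1, …, C_r be pairwise distinct integral curves on X with ideal sheaves I_i and negative definite
intersection matrix (Σ_{i,j} a_i a_j (I_i·I_j) < 0 for every nonzero integer vector a, where (A·B) =
χ(O_X) − χ(A) − χ(B) + χ(A ⊗ B)), let F be an effective Cartier divisor on X, with ideal I_F, none
of whose components is a C_i, and let s_1, …, s_r be integers such that F is numerically equivalent
to Σ_i s_i C_i: (I_F·M) = Σ_i s_i (I_i·M) for every invertible O_X-module M (equivalently (F·D) = Σ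
s_i (C_i·D) for every divisor D). Then F = 0, i.e. I_F = O_X, and every s_i is 0. The published
statement writes the hypothesis as [F] + Σ s_i[C_i] = 0 with real s_i; this row writes F ≡ Σ s_i C_i
with integer s_i, which is the same after changing the signs of the s_i. -/
theorem result (k : Type u) [Field k] [IsAlgClosed k] [CharZero k]
    (X : Scheme.{u}) [X.Over (Spec (CommRingCat.of k))] [IsProper (X ↘ (Spec (CommRingCat.of k)))]
    [Smooth (X ↘ (Spec (CommRingCat.of k)))] [IsIntegral X] (hdim : topologicalKrullDim X = 2)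
    (hproj : ∃ H : X.Modules, CohB1.IsAmple H)
    (r : ℕ) (C : Fin r → X.IdealSheafData) (hC : Function.Injective C)
    (hCi : ∀ i, IsIntegral (C i).subscheme) (hCd : ∀ i, topologicalKrullDim ((C i).support : Set X) = 1)
    (hneg : ∀ a : Fin r → ℤ, a ≠ 0 →
      ∑ i, ∑ j, a i * a j * FGA.intNum k X 2 ![(ClSub.idealMod (C i)), (ClSub.idealMod (C j))] (Coh.structureModule X) < 0)
    (F : X.IdealSheafData) (hF : FGA.IsEffCartier F) (hFC : ∀ i, ¬ ((C i).support : Set X) ⊆ (F.support : Set X))
    (s : Fin r → ℤ)
    (hnum : ∀ M : X.Modules, PicF.IsInvertible M →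
      FGA.intNum k X 2 ![(ClSub.idealMod F), M] (Coh.structureModule X) =
        ∑ i, s i * FGA.intNum k X 2 ![(ClSub.idealMod (C i)), M] (Coh.structureModule X)) :
    F = ⊤ ∧ ∀ i, s i = 0 := by
  letI := PicMul.clMonoid (X := X)
  obtain ⟨H, hH⟩ := hproj
  have hI := fun i => invertible_curve k hdim (hCi i) (hCd i)
  have hFi := (S8914.result F).2 hF
  have hint := fun i j => SurfPairing.intNum_eq_pair k hdim.le (hI i) (hI j)
  simp only [hint] at hneg
  have hs := SurfNegDef.nonpos_of_mul
    (fun i j => SurfPairing.pair k (PicF.cl (ClSub.idealMod (C i))) (PicF.cl (ClSub.idealMod (C j))))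
    (fun i j hij => off_diag k hdim hC hCi hCd hij) hneg s fun j => by
      haveI := hCi j
      have h1 := hnum (ClSub.idealMod (C j)) (hI j)
      rw [SurfPairing.intNum_eq_pair k hdim.le hFi (hI j)] at h1
      simp only [hint] at h1
      rw [← h1, SurfPairing.pair_comm]
      exact SurfNegDef.pair_ideal_nonneg hdim (SurfHodge.regular k) (hCd j) hF (hFC j)
  have hneg' : ∀ i, SurfPairing.pair k (PicF.cl (ClSub.idealMod (C i))) (PicF.cl H) < 0 := fun i => by
    haveI := hCi i
    exact SurfNegDef.pair_curve_ample_neg hdim (SurfHodge.regular k) (hCd i) hH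
  have h2 := hnum H hH.1
  rw [SurfPairing.intNum_eq_pair k hdim.le hFi hH.1] at h2
  simp only [fun i => SurfPairing.intNum_eq_pair k hdim.le (hI i) hH.1] at h2
  have hnn : ∀ i, 0 ≤ s i * SurfPairing.pair k (PicF.cl (ClSub.idealMod (C i))) (PicF.cl H) := fun i =>
    mul_nonneg_of_nonpos_of_nonpos (hs i) (hneg' i).le
  have hF' : F = ⊤ := by
    by_contra hne
    have h3 := SurfNegDef.pair_divisor_ample_neg (k := k) hdim (SurfHodge.regular k) hF hne hH
    rw [h2] at h3
    exact absurd h3 (not_lt.2 (Finset.sum_nonneg fun i _ => hnn i))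
  refine ⟨hF', fun i => ?_⟩
  subst hF'
  have hTi := hFi
  obtain ⟨L, hL, hLF⟩ := PicInv.exists_inverse hTi
  obtain ⟨c⟩ := PicMul.comm L (ClSub.idealMod (⊤ : X.IdealSheafData))
  have hinv : ClSub.IsInverseOf L (ClSub.idealMod (⊤ : X.IdealSheafData)) := let ⟨e⟩ := hLF; ⟨c ≪≫ e⟩
  obtain ⟨t, ht⟩ := AVAmple.exists_divisor_section (⊤ : X.IdealSheafData) hF hL hinv
  have htop : locus t = ⊤ := top_le_iff.1 fun x _ => (ht x).2 fun hx => by rw [Scheme.IdealSheafData.support_top] at hx; exact hx
  obtain ⟨e⟩ : Triv L := triv_of_frame (AModX.res_self (M := L) t ▸ isFrame_res_of_le_locus htop.ge)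
  have h0 : SurfPairing.pair k (PicF.cl (ClSub.idealMod (⊤ : X.IdealSheafData))) (PicF.cl H) = 0 := by
    have hcl := (CurveOnSurf.isInvertible_of_inverse hTi hinv).2
    rw [PicMul.cl_eq_iff.2 ⟨e⟩, ← PicMul.one_def, one_mul] at hcl
    rw [hcl, SurfPairing.pair_comm, SurfPairing.pair_one]
  rw [h0] at h2
  exact (mul_eq_zero.1 ((Finset.sum_eq_zero_iff_of_nonneg fun i _ => hnn i).1 h2.symm i (Finset.mem_univ i))).resolve_right (hneg' i).ne

end Groth.Agent.S18463
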