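import Groth.Statements.S18465
import Mathlib

set_option autoImplicit false
universe u v w x
open WildLef

namespace Groth.Agent.S18465

/-- Let f : G₁ → G₂ be a homomorphism of groups, ρ : G₂ → Γ a homomorphism with finite image G, and A a
nontrivial commutative ring. Let G₂ act on the group algebra A[G] through ρ followed by the left
regular representation, and G₁ through f. If the elements of A[G] fixed by G₁ coincide with those
fixed by G₂, then ρ ∘ f and ρ have the same image. (The published statement has Γ a general linear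
group GL_r(A); over the zero ring that group is trivial, so requiring A nontrivial and allowing any
target group loses nothing.) -/
theorem result
    {G₁ : Type u} {G₂ : Type v} {Γ : Type w} [Group G₁] [Group G₂] [Group Γ]
    (f : G₁ →* G₂) (ρ : G₂ →* Γ) [Finite ρ.range] (A : Type x) [CommRing A] [Nontrivial A]
    (h : {x : MonoidAlgebra A ρ.range | ∀ g : G₁, MonoidAlgebra.of A ρ.range (ρ.rangeRestrict (f g)) * x = x} =
      {x : MonoidAlgebra A ρ.range | ∀ g : G₂, MonoidAlgebra.of A ρ.range (ρ.rangeRestrict g) * x = x}) :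
    (ρ.comp f).range = ρ.range := by
  classical
  have hle : (ρ.comp f).range ≤ ρ.range := by
    rintro _ ⟨g, rfl⟩
    exact ⟨f g, rfl⟩
  refine le_antisymm hle ?_
  rintro _ ⟨g, rfl⟩
  have := Fintype.ofFinite ρ.range
  let H : Subgroup ρ.range := (ρ.rangeRestrict.comp f).range
  let e : MonoidAlgebra A ρ.range :=
    MonoidAlgebra.ofCoeff (Finsupp.equivFunOnFinite.symm (fun y => if y ∈ H then (1 : A) else 0))
  have he : ∀ y, e.coeff y = if y ∈ H then (1 : A) else 0 := fun y => rfl
  have hfix : ∀ g₁ : G₁, MonoidAlgebra.of A ρ.range (ρ.rangeRestrict (f g₁)) * e = e := by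
    intro g₁
    ext y
    rw [MonoidAlgebra.of_apply, MonoidAlgebra.coeff_single_mul_apply, one_mul, he, he]
    have hm : ρ.rangeRestrict (f g₁) ∈ H := ⟨g₁, rfl⟩
    simp only [Subgroup.mul_mem_cancel_left H (H.inv_mem hm)]
  have hmem : ∀ g₂ : G₂, MonoidAlgebra.of A ρ.range (ρ.rangeRestrict g₂) * e = e :=
    (Set.ext_iff.1 h e).1 hfix
  have h2 : (MonoidAlgebra.of A ρ.range (ρ.rangeRestrict g) * e).coeff (ρ.rangeRestrict g)
      = e.coeff (ρ.rangeRestrict g) := by rw [hmem g]
  rw [MonoidAlgebra.of_apply, MonoidAlgebra.coeff_single_mul_apply, one_mul, inv_mul_cancel, he,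
    he, if_pos H.one_mem] at h2
  by_cases hg : ρ.rangeRestrict g ∈ H
  · obtain ⟨g₁, hg₁⟩ := hg
    exact ⟨g₁, congrArg Subtype.val hg₁⟩
  · rw [if_neg hg] at h2
    exact absurd h2 one_ne_zero

end Groth.Agent.S18465
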