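import Groth.Statements.S18466
import Mathlib.RingTheory.RootsOfUnity.EnoughRootsOfUnity
import Mathlib.RingTheory.Coalgebra.GroupLike
import Mathlib.RingTheory.Bialgebra.MonoidAlgebra
import Mathlib.LinearAlgebra.LinearIndependent.Lemmas
import Mathlib.LinearAlgebra.FreeModule.Finite.Matrix
import Mathlib.LinearAlgebra.FiniteDimensional.Lemmas


set_option autoImplicit false
universe u
open Hopf

namespace Groth.Agent.S18466

/-- Let k be a field and n ≥ 1. The constant group scheme ℤ/n over k is self-dual, that is, isomorphic
to its Cartier dual μ_n — equivalently the Hopf algebra of k-valued functions on the cyclic group of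
order n and the group algebra of that group over k (group elements group-like) are isomorphic as
bialgebras — precisely when the field k has a primitive n-th root of unity, i.e. k contains n
distinct n-th roots of unity in k. (The published statement assumes that the characteristic of k
does not divide n; both directions hold without that assumption by the same argument, since a
primitive n-th root of unity forces n to be nonzero in k, so it is omitted here.) -/
theorem result
    (k : Type u) [Field k] (n : ℕ) [NeZero n] :
    Nonempty (ConstGrp.F k (Multiplicative (ZMod n)) ≃ₐc[k] MonoidAlgebra k (Multiplicative (ZMod n))) ↔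
      ∃ ζ : k, IsPrimitiveRoot ζ n := by
  classical
  let Z := Multiplicative (ZMod n)
  refine ⟨fun ⟨e⟩ => ?_, fun ⟨ζ, hζ⟩ => ?_⟩
  · let f : Z → ConstGrp.F k Z := fun g => e.symm (MonoidAlgebra.single g 1)
    have hf : ∀ g, IsGroupLikeElem k (f g) := fun g =>
      IsGroupLikeElem.map e.symm ⟨by simp, by simp [MonoidAlgebra.comul_single, CommSemiring.comul_apply]⟩
    have hmul : ∀ g a b, f g (a * b) = f g a * f g b := fun g a b => by
      rw [← ConstGrp.pair_comul k Z (f g) a b, (hf g).comul_eq_tmul_self, ConstGrp.pair_tmul]
    have hone : ∀ g, f g 1 = 1 := fun g => (hf g).counit_eq_one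
    let φ : Z → (Z →* k) := fun g => ⟨⟨f g, hone g⟩, hmul g⟩
    let γ : Z := Multiplicative.ofAdd 1
    have hγ : ∀ a : Z, a = γ ^ a.toAdd.val := fun a => by
      show a = Multiplicative.ofAdd (1 : ZMod n) ^ (Multiplicative.toAdd a).val
      rw [← ofAdd_nsmul, nsmul_one, ZMod.natCast_zmod_val, ofAdd_toAdd]
    have hγn : γ ^ n = 1 := by
      show Multiplicative.ofAdd (1 : ZMod n) ^ n = 1
      rw [← ofAdd_nsmul, nsmul_one, ZMod.natCast_self, ofAdd_zero]
    let v : Z → rootsOfUnity n k := fun g => rootsOfUnity.mkOfPowEq (φ g γ) (by rw [← map_pow, hγn, map_one])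
    have hv : Function.Injective v := fun g g' h => by
      have h' : φ g γ = φ g' γ := congrArg (fun x : rootsOfUnity n k => ((x : kˣ) : k)) h
      have hfe : f g = f g' := funext fun a => by
        show φ g a = φ g' a
        rw [hγ a, map_pow, map_pow, h']
      have := e.symm.injective hfe
      exact (MonoidAlgebra.single_left_inj one_ne_zero).mp this
    apply card_rootsOfUnity_eq_iff_exists_isPrimitiveRoot.mp
    refine le_antisymm (card_rootsOfUnity k n) ?_
    calc n = Nat.card Z := (Nat.card_zmod n).symm
      _ ≤ _ := Nat.card_le_card_of_injective v hv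
  · let ψ : Z →* k :=
      { toFun := fun g => ζ ^ g.toAdd.val
        map_one' := by simp
        map_mul' := fun a b => by
          rw [← pow_add, toAdd_mul, ZMod.val_add]
          exact (pow_eq_pow_mod _ hζ.pow_eq_one).symm }
    have hψ : Function.Injective ψ := fun a b h =>
      Multiplicative.toAdd.injective (ZMod.val_injective n (hζ.pow_inj a.toAdd.val_lt b.toAdd.val_lt h))
    let c : Z → (Z →* k) := fun g =>
      { toFun := fun a => ψ (Multiplicative.ofAdd (a.toAdd * g.toAdd))
        map_one' := by simp
        map_mul' := fun a b => by rw [toAdd_mul, add_mul, ofAdd_add, map_mul] }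
    have hc : Function.Injective c := fun g g' h => by
      have := hψ (DFunLike.congr_fun h (Multiplicative.ofAdd 1))
      simpa using this
    let χ : Z →* ConstGrp.F k Z :=
      { toFun := fun g a => c g a
        map_one' := by ext a; show ψ _ = 1; simp
        map_mul' := fun g g' => by
          ext a
          show ψ _ = ψ _ * ψ _
          rw [toAdd_mul, mul_add, ofAdd_add, map_mul] }
    let L := MonoidAlgebra.lift k (ConstGrp.F k Z) Z χ
    let Lb : MonoidAlgebra k Z →ₐc[k] ConstGrp.F k Z := BialgHom.ofAlgHom L
      (by
        ext g
        show (ConstGrp.F k Z) |> fun _ => L (MonoidAlgebra.single g 1) 1 = Coalgebra.counit (MonoidAlgebra.single g (1 : k))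
        simp [L]
        exact (c g).map_one)
      (by
        ext g
        show Algebra.TensorProduct.map L L (Coalgebra.comul (MonoidAlgebra.single g (1 : k))) =
          Coalgebra.comul (L (MonoidAlgebra.single g 1))
        have hL : L (MonoidAlgebra.single g 1) = χ g := by simp [L]
        rw [hL, ConstGrp.comul_eq_sum]
        simp only [MonoidAlgebra.comul_single, CommSemiring.comul_apply, TensorProduct.AlgebraTensorModule.map_tmul,
          TensorProduct.map_tmul, Algebra.TensorProduct.map_tmul, MonoidAlgebra.lsingle_apply, hL]
        conv_lhs => rw [ConstGrp.eq_sum_smul_e (χ g)]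
        rw [TensorProduct.sum_tmul]
        refine Finset.sum_congr rfl fun a _ => ?_
        rw [TensorProduct.tmul_sum]
        refine Finset.sum_congr rfl fun b _ => ?_
        rw [TensorProduct.smul_tmul_smul]
        exact congrArg (· • _) ((c g).map_mul a b).symm)
    have hli : LinearIndependent k (fun g : Z => (χ g : ConstGrp.F k Z)) :=
      (linearIndependent_monoidHom Z k).comp c hc
    have hsurj : Function.Surjective L := by
      have h := hli.span_eq_top_of_card_eq_finrank (Module.finrank_eq_card_basis (ConstGrp.basis k Z)).symm
      intro x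
      have hx : x ∈ LinearMap.range L.toLinearMap := (Submodule.span_le.mpr (by
        rintro _ ⟨g, rfl⟩
        exact ⟨MonoidAlgebra.single g 1, by simp [L]⟩)) (h ▸ Submodule.mem_top : x ∈ Submodule.span k _)
      exact hx
    have hinj : Function.Injective L :=
      (LinearMap.injective_iff_surjective_of_finrank_eq_finrank (f := L.toLinearMap) (by
        rw [Module.finrank_eq_card_basis (MonoidAlgebra.basis Z k), Module.finrank_eq_card_basis (ConstGrp.basis k Z)])).mpr hsurj
    exact ⟨(BialgEquiv.ofBijective Lb ⟨hinj, hsurj⟩).symm⟩


end Groth.Agent.S18466
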