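import Groth.Statements.S18467
import Mathlib.FieldTheory.Finite.Basic
import Mathlib.RingTheory.IntegralDomain
import Mathlib.Algebra.Field.GeomSum
import Mathlib.Tactic.Ring
-- import your own Groth.Agent.* helpers here

set_option autoImplicit false
universe u
open Hopf

namespace Groth.Agent.S18467

/-- Let p be a prime and R a commutative ring containing an element u with u(p − 1) = 1, and let χ be a
homomorphism from the group of units of ℤ/p to the group of units of R such that χ(m) − 1 is a unit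
of R for every m ≠ 1. For 0 ≤ i < p − 1 put e_i = u · Σ_m χ(m)^{−i} [m] in the group algebra
R[(ℤ/p)ˣ]. Then the e_i are idempotents, e_i e_j = 0 for i ≠ j, and Σ_i e_i = 1. (The published
statement is for algebras over the subring of the p-adic integers generated over ℤ by the values of
the Teichmüller character χ and by 1/(p(p − 1)); the hypotheses on R and χ here are the properties
of that situation which the computation uses, so the row is stated for every such pair.) -/
theorem result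
    (p : ℕ) [Fact p.Prime] (R : Type u) [CommRing R] (u : R) (hu : u * ((p - 1 : ℕ) : R) = 1)
    (χ : (ZMod p)ˣ →* Rˣ) (hχ : ∀ m : (ZMod p)ˣ, m ≠ 1 → IsUnit ((χ m : R) - 1)) :
    CompleteOrthogonalIdempotents (fun i : Fin (p - 1) =>
      u • ∑ m : (ZMod p)ˣ, ((χ m⁻¹ : Rˣ) : R) ^ (i : ℕ) • MonoidAlgebra.of R (ZMod p)ˣ m) := by
  classical
  have hp := (Fact.out : p.Prime)
  have hcard : Fintype.card (ZMod p)ˣ = p - 1 := by rw [ZMod.card_units]
  set e := fun i : ℕ => u • ∑ m : (ZMod p)ˣ, ((χ m⁻¹ : Rˣ) : R) ^ i • MonoidAlgebra.of R (ZMod p)ˣ m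
  obtain ⟨g, hg⟩ := IsCyclic.exists_generator (α := (ZMod p)ˣ)
  have hord : orderOf g = p - 1 := by
    rw [orderOf_eq_card_of_forall_mem_zpowers hg, Nat.card_eq_fintype_card, hcard]
  have sum_char : ∀ ψ : (ZMod p)ˣ →* Rˣ, ∀ m₀, IsUnit ((ψ m₀ : R) - 1) →
      ∑ m, (ψ m : R) = 0 := by
    intro ψ m₀ h
    have : (ψ m₀ : R) * ∑ m, (ψ m : R) = ∑ m, (ψ m : R) := by
      rw [Finset.mul_sum]
      exact Fintype.sum_equiv (Equiv.mulLeft m₀) _ _ (fun m => by simp)
    have h' : ((ψ m₀ : R) - 1) * ∑ m, (ψ m : R) = 0 := by rw [sub_mul, this, one_mul, sub_self]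
    exact h.mul_right_eq_zero.mp h'
  have hmul : ∀ i j : ℕ, e i * e j =
      (u * ∑ m, ((χ m⁻¹ : Rˣ) : R) ^ i * ((χ m : Rˣ) : R) ^ j) • e j := by
    intro i j
    simp only [e]
    rw [smul_mul_smul_comm, Finset.sum_mul_sum, smul_smul]
    rw [show ∀ S : R, u * S * u = u * u * S from fun S => by ring, mul_smul (u * u),
      Finset.sum_smul]
    congr 1
    refine Finset.sum_congr rfl fun m _ => ?_
    rw [Finset.smul_sum]
    refine Fintype.sum_equiv (Equiv.mulLeft m) _ _ fun l => ?_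
    rw [smul_mul_smul_comm, ← map_mul, Equiv.coe_mulLeft, smul_smul]
    congr 1
    rw [mul_assoc, ← mul_pow]
    congr 2
    rw [← Units.val_mul, ← map_mul, mul_inv_rev]
    simp [mul_comm]
  have hdiag : ∀ i, u * ∑ m, ((χ m⁻¹ : Rˣ) : R) ^ i * ((χ m : Rˣ) : R) ^ i = 1 := by
    intro i
    simp only [← mul_pow, ← Units.val_mul, ← map_mul, inv_mul_cancel, map_one, Units.val_one,
      one_pow, Finset.sum_const, Finset.card_univ, hcard, nsmul_eq_mul, mul_one, hu]
  have hoff : ∀ i j : Fin (p - 1), i ≠ j →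
      u * ∑ m, ((χ m⁻¹ : Rˣ) : R) ^ (i : ℕ) * ((χ m : Rˣ) : R) ^ (j : ℕ) = 0 := by
    intro i j hij
    let ψ : (ZMod p)ˣ →* Rˣ :=
      { toFun := fun m => (χ m⁻¹) ^ (i:ℕ) * (χ m) ^ (j:ℕ)
        map_one' := by simp
        map_mul' := fun a b => by
          rw [mul_inv, map_mul, map_mul, mul_pow, mul_pow, mul_mul_mul_comm] }
    have : ∑ m, (ψ m : R) = 0 := by
      refine sum_char ψ g ?_
      have hne : g⁻¹ ^ (i:ℕ) * g ^ (j:ℕ) ≠ 1 := by
        intro hc
        rw [inv_pow, inv_mul_eq_one] at hc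
        exact hij (Fin.ext ((pow_injOn_Iio_orderOf (by simp [hord]) (by simp [hord]) hc)))
      have := hχ _ hne
      simpa [ψ, map_mul, map_pow] using this
    have hs : ∑ m, ((χ m⁻¹ : Rˣ) : R) ^ (i : ℕ) * ((χ m : Rˣ) : R) ^ (j : ℕ) = 0 := by
      simpa [ψ] using this
    rw [hs, mul_zero]
  refine ⟨⟨fun i => ?_, fun i j hij => ?_⟩, ?_⟩
  · show e i * e i = e i
    rw [hmul, hdiag, one_smul]
  · show e i * e j = 0
    rw [hmul, hoff i j hij, zero_smul]
  · rw [← Finset.smul_sum, Finset.sum_comm]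
    simp only [← Finset.sum_smul]
    rw [Finset.sum_eq_single 1 ?_ (by simp)]
    · simp [hu, MonoidAlgebra.one_def]
    · intro m _ hm
      have hu' : IsUnit (((χ m⁻¹ : Rˣ) : R) - 1) := hχ _ (by simpa using hm)
      have : (∑ i : Fin (p-1), ((χ m⁻¹ : Rˣ) : R) ^ (i:ℕ)) = 0 := by
        rw [Fin.sum_univ_eq_sum_range (fun i => ((χ m⁻¹ : Rˣ) : R) ^ i)]
        refine hu'.mul_left_eq_zero.mp ?_
        rw [geom_sum_mul, ← Units.val_pow_eq_pow_val, ← map_pow, ZMod.units_pow_card_sub_one_eq_one]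
        simp
      rw [this, zero_smul]

end Groth.Agent.S18467
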