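import Groth.Statements.S18469
import Groth.Agent.GrpSchLib.EigenRank


set_option autoImplicit false
universe u
open OortTate

namespace Groth.Agent.S18469

/-- Let p be a prime, R a commutative ring containing u with u(p − 1) = 1, and χ a homomorphism from the
units of ℤ/p to the units of R such that χ(m) − 1 is a unit for every m ≠ 1 (the situation of an
algebra over the subring Λ_p of the p-adic integers generated by the Teichmüller values and 1/(p(p −
1)), with χ the Teichmüller character, which is the published setting); assume moreover χ(m) ≡ m
modulo pR for every m (as the Teichmüller character satisfies). Let A be a commutative Hopf algebra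
over R which is finitely generated and projective as an R-module, of rank p at every prime of R (a
group scheme G = Spec A of order p over Spec R; such a G is commutative and killed by p, so that the
power map [m] of A depends only on the unit m of ℤ/p). For i ≥ 0 let I_i ⊆ A be the submodule of
those f with ε(f) = 0 and [m]f = χ(m)^i f for every unit m of ℤ/p. Then each I_i is a finitely
generated projective R-module of rank 1 at every prime of R (an invertible R-module), and for 1 ≤ t
≤ p − 1 the t-th power of the submodule I_1 of A is I_t. The published argument obtains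
commutativity and p-torsion of G over a locally Noetherian base; this row allows any commutative
ring R, over which both still hold. -/
theorem result
    (p : ℕ) [Fact p.Prime] (R : Type u) [CommRing R] (u : R) (hu : u * ((p - 1 : ℕ) : R) = 1)
    (χ : (ZMod p)ˣ →* Rˣ) (hχ : ∀ m : (ZMod p)ˣ, m ≠ 1 → IsUnit ((χ m : R) - 1))
    (hχp : ∀ m : (ZMod p)ˣ, ((χ m : Rˣ) : R) - (((m : ZMod p).val : ℕ) : R) ∈ Ideal.span ({(p : R)} : Set R))
    (A : Type u) [CommRing A] [HopfAlgebra R A] [Module.Finite R A] [Module.Projective R A]
    (hrk : ∀ q : PrimeSpectrum R, Module.rankAtStalk A q = p) :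
    (∀ i : ℕ, Module.Finite R (OortTate.eigenAug R A p χ i) ∧
        Module.Projective R (OortTate.eigenAug R A p χ i) ∧
        ∀ q : PrimeSpectrum R, Module.rankAtStalk (↥(OortTate.eigenAug R A p χ i)) q = 1) ∧
      ∀ t : ℕ, 1 ≤ t → t ≤ p - 1 →
        (OortTate.eigenAug R A p χ 1) ^ t = OortTate.eigenAug R A p χ t := 
  ⟨fun i => ⟨(GrpSchLib.finite_projective_eigenAug hrk u hu χ hχ hχp i).1,
      (GrpSchLib.finite_projective_eigenAug hrk u hu χ hχ hχp i).2,
      fun q => GrpSchLib.rankAtStalk_eigenAug hrk u hu χ hχ hχp i q⟩,
    fun t h1 h2 => GrpSchLib.eigenAug_one_pow hrk u hu χ hχ hχp t h1 h2⟩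

end Groth.Agent.S18469
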