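import Groth.Statements.S18470
-- import your own Groth.Agent.* helpers here

set_option autoImplicit false
universe u v
open OortTate

namespace Groth.Agent.S18470

/-- Let R be a commutative ring and A a commutative Hopf algebra over R which is finitely generated and
projective as an R-module (a finite locally free group scheme G = Spec A, not assumed commutative),
and let A^D = Hom_R(A, R) be the dual algebra with its Hopf structure (the Cartier dual when A is
cocommutative), whose counit is evaluation at 1. Then restriction of linear forms to the
augmentation ideal I = ker ε_A of A is a bijection from the augmentation ideal of A^D onto the dual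
module Hom_R(I, R): the dual of the augmentation ideal of G is the augmentation ideal of the dual.
The published statement is for a group scheme of order p over a Λ_p-algebra; the argument uses only
the splitting A = R·1 ⊕ ker ε. -/
theorem result
    (R : Type u) [CommRing R] (A : Type v) [CommRing A] [HopfAlgebra R A]
    [Module.Finite R A] [Module.Projective R A] :
    Function.Bijective (fun f : LinearMap.ker (Bialgebra.counitAlgHom R (CartDual.D R A)).toLinearMap =>
      ((CartDual.toDual R A) (f : CartDual.D R A)).comp
        (LinearMap.ker (Bialgebra.counitAlgHom R A).toLinearMap).subtype) := by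
  set ε := Bialgebra.counitAlgHom R A
  constructor
  · rintro ⟨x, hx⟩ ⟨y, hy⟩ h
    apply Subtype.ext
    apply WithConv.ext
    apply LinearMap.ext
    intro a
    have ha : a - ε a • (1 : A) ∈ LinearMap.ker ε.toLinearMap := by
      simp [LinearMap.mem_ker, map_one]
    have h' := LinearMap.congr_fun h ⟨_, ha⟩
    have hx' : x.ofConv 1 = 0 := hx
    have hy' : y.ofConv 1 = 0 := hy
    simp only [LinearMap.comp_apply, Submodule.coe_subtype, CartDual.toDual_apply, map_sub, map_smul, hx', hy'] at h'
    simpa using h'
  · intro g
    let π : A →ₗ[R] LinearMap.ker ε.toLinearMap :=
      (LinearMap.id - (ε.toLinearMap).smulRight (1 : A)).codRestrict _ (fun a => by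
        simp [LinearMap.mem_ker, map_one])
    refine ⟨⟨WithConv.toConv (g ∘ₗ π), ?_⟩, ?_⟩
    · show g (π 1) = 0
      rw [show π 1 = 0 from Subtype.ext (show (1:A) - ε 1 • (1:A) = 0 by simp), map_zero]
    · apply LinearMap.ext
      rintro ⟨a, ha⟩
      show g (π a) = g ⟨a, ha⟩
      congr 1
      apply Subtype.ext
      have ha' : ε a = 0 := ha
      show a - ε a • (1:A) = a
      simp [ha']

end Groth.Agent.S18470
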