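import Groth.Statements.S18472
import Groth.Agent.GrpSchLib.HopfDifferential
import Mathlib.RingTheory.Smooth.Fiber
import Mathlib.RingTheory.RingHom.Etale
import Mathlib.RingTheory.Finiteness.ModuleFinitePresentation


set_option autoImplicit false
universe u v
open Hopf

namespace Groth.Agent.S18472

/-- Let R be a commutative ring and A a commutative Hopf algebra over R which is finitely generated and
projective as an R-module (a finite locally free group scheme G = Spec A over Spec R), and let I =
ker ε be its augmentation ideal. Then A is étale over R if and only if I² = I. (The published text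
calls G finite flat, meaning that A is finitely generated and projective.) -/
theorem result
    (R : Type u) [CommRing R] (A : Type v) [CommRing A] [HopfAlgebra R A]
    [Module.Finite R A] [Module.Projective R A] :
    Algebra.Etale R A ↔
      RingHom.ker (Bialgebra.counitAlgHom R A) ^ 2 = RingHom.ker (Bialgebra.counitAlgHom R A) := by
  set I := RingHom.ker (Bialgebra.counitAlgHom R A) with hI
  let q : A →ₗ[R] A := LinearMap.id - (Algebra.linearMap R A) ∘ₗ Coalgebra.counit
  have hq : ∀ a, q a ∈ I := fun a => by simp [q, hI, RingHom.mem_ker]
  let π : A →ₗ[R] I.Cotangent := (I.toCotangent.restrictScalars R) ∘ₗ (q.codRestrict (I.restrictScalars R) hq)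
  have hπI : ∀ x : I, π (x : A) = I.toCotangent x := fun x => by
    refine congrArg I.toCotangent (Subtype.ext ?_)
    have hx : Coalgebra.counit (R := R) (x : A) = 0 := x.2
    show q (x : A) = (x : A)
    simp [q, hx]
  have hπ1 : π 1 = 0 := by
    show I.toCotangent _ = 0
    rw [← map_zero I.toCotangent]
    exact congrArg I.toCotangent (Subtype.ext (by show q 1 = 0; simp [q]))
  constructor
  · intro h
    refine le_antisymm (Ideal.pow_le_self two_ne_zero) fun x hx => ?_
    have hε : Bialgebra.counitAlgHom R A x = 0 := hx
    let m : A →ₐ[R] A ⧸ (I ^ 2) := Ideal.Quotient.mkₐ R _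
    have hnil : IsNilpotent (I.map m) := ⟨2, by
      rw [← Ideal.map_pow]
      exact Ideal.map_quotient_self _⟩
    have := Algebra.FormallyUnramified.ext (R := R) (A := A) _ hnil (g₁ := m)
      (g₂ := (Algebra.ofId R _).comp (Bialgebra.counitAlgHom R A)) (fun a => by
        rw [Ideal.Quotient.eq]
        have e : m a - ((Algebra.ofId R _).comp (Bialgebra.counitAlgHom R A)) a = m (q a) := by
          simp [q, m]
        rw [e]
        exact Ideal.mem_map_of_mem _ (hq a))
    have hmx := AlgHom.congr_fun this x
    rw [AlgHom.comp_apply, hε, map_zero] at hmx
    exact Ideal.Quotient.eq_zero_iff_mem.mp hmx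
  · intro h
    haveI : Subsingleton I.Cotangent := I.cotangent_subsingleton_iff.mpr (by
      show I * I = I
      rw [← pow_two]; exact h)
    have hD : ∀ a, KaehlerDifferential.D R A a = 0 := fun a => by
      obtain ⟨f, hf, -⟩ := GrpSchLib.existsUnique_universal π hπI hπ1 (KaehlerDifferential.D R A)
      rw [← hf a, Subsingleton.elim (((π.lTensor A ∘ₗ Coalgebra.comul)) a) 0, map_zero]
    haveI : Algebra.FormallyUnramified R A := by
      rw [Algebra.formallyUnramified_iff]
      refine subsingleton_of_forall_eq 0 fun ω => ?_
      have htop : Submodule.span A (Set.range (KaehlerDifferential.D R A)) = ⊤ :=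
        KaehlerDifferential.span_range_derivation R A
      have hle : Submodule.span A (Set.range (KaehlerDifferential.D R A)) ≤ ⊥ := by
        rw [Submodule.span_le]
        rintro _ ⟨a, rfl⟩
        exact hD a
      exact (Submodule.mem_bot A).mp (hle (htop ▸ Submodule.mem_top))
    haveI : Module.FinitePresentation R A := Module.finitePresentation_of_projective R A
    haveI : Algebra.FinitePresentation R A := inferInstance
    exact Algebra.Etale.of_formallyUnramified_of_flat

end Groth.Agent.S18472
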