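import Groth.Statements.S18473
import Groth.Agent.GrpSchLib.MuAug
import Groth.Agent.S18468


set_option autoImplicit false
universe u
open OortTate

namespace Groth.Agent.S18473

/-- With the preceding computation: let p be a prime, R a commutative ring containing u with u(p − 1) =
1, and χ a homomorphism from the units of ℤ/p to the units of R such that χ(m) − 1 is a unit for
every m ≠ 1 (the situation of an algebra over the subring Λ_p of the p-adic integers generated by
the Teichmüller values and 1/(p(p − 1)), with χ the Teichmüller character, which is the published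
setting); assume moreover χ(m) ≡ m modulo pR for every m. In the group algebra over R of the cyclic
group of order p, written R[T]/(T^p − 1) with T group-like (the Hopf algebra of μ_p, on which the
power map [m] sends T to T^m), put y_i = u Σ_m χ(m)^{−i}(T^m − 1), the average of T − 1 for the
character χ^i. Then the elements y_0, …, y_{p−2} are a basis of the augmentation ideal (they are
linearly independent and span the kernel of the counit), the R-algebra is generated by y_1 alone,
and y_1^p = w·y_1 for a unique w ∈ R (the constant w_p of the classification). -/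
theorem result
    (p : ℕ) [Fact p.Prime] (R : Type u) [CommRing R] (u : R) (hu : u * ((p - 1 : ℕ) : R) = 1)
    (χ : (ZMod p)ˣ →* Rˣ) (hχ : ∀ m : (ZMod p)ˣ, m ≠ 1 → IsUnit ((χ m : R) - 1))
    (hχp : ∀ m : (ZMod p)ˣ, ((χ m : Rˣ) : R) - (((m : ZMod p).val : ℕ) : R) ∈ Ideal.span ({(p : R)} : Set R)) :
    LinearIndependent R (fun i : Fin (p - 1) => OortTate.ygen R p u χ (i : ℕ)) ∧
      Submodule.span R (Set.range (fun i : Fin (p - 1) => OortTate.ygen R p u χ (i : ℕ))) =
        LinearMap.ker (Bialgebra.counitAlgHom R (MonoidAlgebra R (Multiplicative (ZMod p)))).toLinearMap ∧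
      Algebra.adjoin R ({OortTate.ygen R p u χ 1} : Set (MonoidAlgebra R (Multiplicative (ZMod p)))) = ⊤ ∧
      ∃! w : R, OortTate.ygen R p u χ 1 ^ p = w • OortTate.ygen R p u χ 1 := by
  classical
  have hp1 : 0 < p - 1 := Nat.sub_pos_of_lt (Fact.out : p.Prime).one_lt
  have hpk := GrpSchLib.mu_pow_eq_one (R := R) (p := p)
  haveI : Module.Free R (MonoidAlgebra R (Multiplicative (ZMod p))) :=
    Module.Free.of_equiv (MonoidAlgebra.coeffLinearEquiv R).symm
  haveI : Module.Finite R (MonoidAlgebra R (Multiplicative (ZMod p))) :=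
    Module.Finite.equiv ((Finsupp.linearEquivFunOnFinite R R (Multiplicative (ZMod p))).symm ≪≫ₗ
      (MonoidAlgebra.coeffLinearEquiv R).symm)
  obtain ⟨-, hsup, -⟩ := S18468.result p R u hu χ hχ (MonoidAlgebra R (Multiplicative (ZMod p))) hpk
  have hker : LinearMap.ker (Bialgebra.counitAlgHom R (MonoidAlgebra R (Multiplicative (ZMod p)))).toLinearMap ≤
      Submodule.span R (Set.range fun i : Fin (p - 1) => OortTate.ygen R p u χ (i : ℕ)) := by
    rw [← hsup]
    refine iSup_le fun i => (GrpSchLib.eigenAug_mu_le u hu χ hχ _).trans (Submodule.span_mono ?_)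
    exact Set.singleton_subset_iff.mpr ⟨i, rfl⟩
  have hrkμ : ∀ q : PrimeSpectrum R, Module.rankAtStalk (MonoidAlgebra R (Multiplicative (ZMod p))) q = p :=
    fun q => GrpSchLib.rankAtStalk_mu (R := R) (p := p) q
  have hpow : ∀ t, 1 ≤ t → t ≤ p - 1 →
      OortTate.eigenAug R (MonoidAlgebra R (Multiplicative (ZMod p))) p χ t ≤
        Submodule.span R {OortTate.ygen R p u χ 1 ^ t} := by
    intro t h1 h2
    rw [← GrpSchLib.eigenAug_one_pow (A := MonoidAlgebra R (Multiplicative (ZMod p))) hrkμ u hu χ hχ hχp t h1 h2]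
    refine (pow_le_pow_left' (GrpSchLib.eigenAug_mu_le u hu χ hχ 1) t).trans ?_
    rw [Submodule.span_pow, Set.singleton_pow]
  refine ⟨?_, le_antisymm ?_ hker, ?_, ?_⟩
  · rw [Fintype.linearIndependent_iff]
    intro c hc j
    have h := congrArg (OortTate.proj R _ p u χ (j : ℕ)) hc
    rw [map_sum, map_zero, Finset.sum_eq_single j] at h
    · rw [map_smul, GrpSchLib.proj_of_eigen u χ hχ hu j.2 j.2 (GrpSchLib.ygen_mem u χ _), if_pos rfl] at h
      exact GrpSchLib.ygen_smul_eq_zero u hu χ _ h
    · intro l _ hl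
      rw [map_smul, GrpSchLib.proj_of_eigen u χ hχ hu l.2 j.2 (GrpSchLib.ygen_mem u χ _),
        if_neg (fun e => hl (Fin.ext e)), smul_zero]
    · simp
  · rw [Submodule.span_le]
    rintro _ ⟨i, rfl⟩
    exact ((GrpSchLib.mem_eigenAug χ).mp (GrpSchLib.ygen_mem u χ _)).1
  · rw [eq_top_iff]
    intro x _
    rw [show x = algebraMap R _ (Bialgebra.counitAlgHom R _ x) +
      (x - algebraMap R _ (Bialgebra.counitAlgHom R _ x)) by rw [add_sub_cancel]]
    refine Subalgebra.add_mem _ (Subalgebra.algebraMap_mem _ _) ?_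
    have hle : LinearMap.ker (Bialgebra.counitAlgHom R (MonoidAlgebra R (Multiplicative (ZMod p)))).toLinearMap ≤
        (Algebra.adjoin R ({OortTate.ygen R p u χ 1} : Set (MonoidAlgebra R (Multiplicative (ZMod p))))).toSubmodule := by
      rw [← hsup]
      refine iSup_le fun i => ?_
      let t := if (i : ℕ) = 0 then p - 1 else i
      have ht : 1 ≤ t ∧ t ≤ p - 1 ∧ t % (p - 1) = i := by
        have := i.2
        simp only [t]
        split_ifs with h
        · exact ⟨by omega, le_rfl, by rw [Nat.mod_self, h]⟩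
        · exact ⟨by omega, by omega, Nat.mod_eq_of_lt i.2⟩
      rw [show OortTate.eigenAug R _ p χ (i : ℕ) = OortTate.eigenAug R _ p χ t by
        rw [GrpSchLib.eigenAug_mod (i := t), ht.2.2]]
      refine (hpow t ht.1 ht.2.1).trans (Submodule.span_le.mpr (Set.singleton_subset_iff.mpr ?_))
      exact Subalgebra.pow_mem _ (Algebra.subset_adjoin (Set.mem_singleton _)) _
    exact hle (by simp [LinearMap.mem_ker, MonoidAlgebra.counit_single])
  · have hmem : OortTate.ygen R p u χ 1 ^ p ∈ OortTate.eigenAug R _ p χ 1 := by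
      have h := GrpSchLib.eigenAug_pow χ (GrpSchLib.ygen_mem u χ 1) (Fact.out : p.Prime).one_le
      rw [GrpSchLib.eigenAug_mod] at h ⊢
      rwa [show p % (p - 1) = 1 % (p - 1) from (congrArg (· % (p - 1)) (show p = 1 + (p - 1) by omega)).trans
        (Nat.add_mod_right _ _)] at h
    obtain ⟨w, hw⟩ := Submodule.mem_span_singleton.mp (GrpSchLib.eigenAug_mu_le u hu χ hχ 1 hmem)
    refine ⟨w, hw.symm, fun w' hw' => ?_⟩
    have : (w' - w) • OortTate.ygen R p u χ 1 = 0 := by rw [sub_smul, ← hw', hw, sub_self]
    exact sub_eq_zero.mp (GrpSchLib.ygen_smul_eq_zero u hu χ 1 this)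

end Groth.Agent.S18473
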