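import Groth.Statements.S18475
import Groth.Agent.GrpSchLib.EigenIso


set_option autoImplicit false
universe u
open OortTate

namespace Groth.Agent.S18475

/-- Let p be a prime, R a commutative ring containing u with u(p − 1) = 1, and χ a homomorphism from the
units of ℤ/p to the units of R such that χ(m) − 1 is a unit for every m ≠ 1 (the situation of an
algebra over the subring Λ_p of the p-adic integers generated by the Teichmüller values and 1/(p(p −
1)), with χ the Teichmüller character, which is the published setting); assume moreover χ(m) ≡ m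
modulo pR for every m. Let A and A' be commutative and cocommutative Hopf algebras over R, finitely
generated and projective as R-modules of rank p at every prime (group schemes G, G' of order p over
Spec R), with dual Hopf algebras A^D = Hom_R(A, R) and A'^D (the Cartier duals; for a unit m of ℤ/p
the power map [m] acts on all four algebras). Suppose the χ-eigenspaces of the augmentation ideals
are free of rank one with chosen generators: I_1(A) = R·x and I_1(A^D) = R·ξ with ξ(x) = 1, and
similarly I_1(A') = R·x', I_1(A'^D) = R·ξ' with ξ'(x') = 1 (this is the case of a local base R);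
write x^p = α x, ξ^p = β ξ, x'^p = α' x', ξ'^p = β' ξ' with α, β, α', β' ∈ R. If there is a unit v
of R with α' = v^{p−1} α and β' = v^{−(p−1)} β, then A and A' are isomorphic as bialgebras over R,
i.e. G ≅ G'. (This is the injectivity of the classification map G ↦ (I_1, a, b) in the case where
the invertible module I_1 is free, the case the copy spells out; the general statement compares
triples consisting of an invertible module with two maps.) The published argument obtains
commutativity and p-torsion of G over a locally Noetherian base; this row allows any commutative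
ring R, over which both still hold. -/
theorem result
    (p : ℕ) [Fact p.Prime] (R : Type u) [CommRing R] (u : R) (hu : u * ((p - 1 : ℕ) : R) = 1)
    (χ : (ZMod p)ˣ →* Rˣ) (hχ : ∀ m : (ZMod p)ˣ, m ≠ 1 → IsUnit ((χ m : R) - 1))
    (hχp : ∀ m : (ZMod p)ˣ, ((χ m : Rˣ) : R) - (((m : ZMod p).val : ℕ) : R) ∈ Ideal.span ({(p : R)} : Set R))
    (A : Type u) [CommRing A] [HopfAlgebra R A] [Coalgebra.IsCocomm R A] [Module.Finite R A]
    [Module.Projective R A] (hrk : ∀ q : PrimeSpectrum R, Module.rankAtStalk A q = p)
    (A' : Type u) [CommRing A'] [HopfAlgebra R A'] [Coalgebra.IsCocomm R A'] [Module.Finite R A']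
    [Module.Projective R A'] (hrk' : ∀ q : PrimeSpectrum R, Module.rankAtStalk A' q = p)
    (x : A) (hx : Submodule.span R {x} = OortTate.eigenAug R A p χ 1)
    (ξ : CartDual.D R A) (hξ : Submodule.span R {ξ} = OortTate.eigenAug R (CartDual.D R A) p χ 1)
    (hxξ : CartDual.toDual R A ξ x = 1)
    (x' : A') (hx' : Submodule.span R {x'} = OortTate.eigenAug R A' p χ 1)
    (ξ' : CartDual.D R A') (hξ' : Submodule.span R {ξ'} = OortTate.eigenAug R (CartDual.D R A') p χ 1)
    (hxξ' : CartDual.toDual R A' ξ' x' = 1)
    (α β α' β' : R) (hα : x ^ p = α • x) (hβ : ξ ^ p = β • ξ) (hα' : x' ^ p = α' • x')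
    (hβ' : ξ' ^ p = β' • ξ')
    (v : Rˣ) (hαv : α' = ((v ^ (p - 1) : Rˣ) : R) * α) (hβv : β' = ((v⁻¹ ^ (p - 1) : Rˣ) : R) * β) :
    Nonempty (A ≃ₐc[R] A') := by
  classical
  have hfree : ∀ {B : Type u} [CommRing B] [HopfAlgebra R B] [Module.Finite R B] [Module.Projective R B],
      (∀ q : PrimeSpectrum R, Module.rankAtStalk B q = p) → ∀ {y : B},
      Submodule.span R {y} = OortTate.eigenAug R B p χ 1 → Function.Injective (fun r : R => r • y) := by
    intro B _ _ _ _ hB y hy r s hrs
    haveI := (GrpSchLib.finite_projective_eigenAug hB u hu χ hχ hχp 1).1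
    haveI := (GrpSchLib.finite_projective_eigenAug hB u hu χ hχ hχp 1).2
    rw [← sub_eq_zero]
    refine GrpSchLib.eq_zero_of_forall_smul_rank_one (GrpSchLib.rankAtStalk_eigenAug hB u hu χ hχ hχp 1) fun m => ?_
    obtain ⟨c, hc⟩ := Submodule.mem_span_singleton.mp (show (m : B) ∈ Submodule.span R {y} by rw [hy]; exact m.2)
    apply Subtype.ext
    show (r - s) • (m : B) = 0
    rw [← hc, smul_comm, sub_smul, show r • y = s • y from hrs, sub_self, smul_zero]
  have hmem : x ∈ OortTate.eigenAug R A p χ 1 := hx ▸ Submodule.mem_span_singleton_self x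
  have hmem' : x' ∈ OortTate.eigenAug R A' p χ 1 := hx' ▸ Submodule.mem_span_singleton_self x'
  let g : R →ₗ[R] OortTate.eigenAug R A p χ 1 := LinearMap.toSpanSingleton R _ ⟨x, hmem⟩
  let g' : R →ₗ[R] OortTate.eigenAug R A' p χ 1 := LinearMap.toSpanSingleton R _ ((↑v⁻¹ : R) • ⟨x', hmem'⟩)
  have hg : Function.Bijective g := by
    refine ⟨fun r s h => hfree hrk hx (congrArg Subtype.val h), fun m => ?_⟩
    obtain ⟨c, hc⟩ := Submodule.mem_span_singleton.mp (show (m : A) ∈ Submodule.span R {x} by rw [hx]; exact m.2)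
    exact ⟨c, Subtype.ext hc⟩
  have hg' : Function.Bijective g' := by
    refine ⟨fun r s h => ?_, fun m => ?_⟩
    · have h' : r • (↑v⁻¹ : R) • x' = s • (↑v⁻¹ : R) • x' := congrArg Subtype.val h
      rw [smul_smul, smul_smul] at h'
      exact (Units.isUnit v⁻¹).mul_left_inj.mp (hfree hrk' hx' h')
    · obtain ⟨c, hc⟩ := Submodule.mem_span_singleton.mp (show (m : A') ∈ Submodule.span R {x'} by rw [hx']; exact m.2)
      refine ⟨c * v, Subtype.ext ?_⟩
      show (c * (v : R)) • (↑v⁻¹ : R) • x' = (m : A')
      rw [smul_smul, mul_assoc, Units.mul_inv, mul_one, hc]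
  let θ := (LinearEquiv.ofBijective g hg).symm ≪≫ₗ LinearEquiv.ofBijective g' hg'
  have hθ : ∀ r : R, ((θ (g r) : OortTate.eigenAug R A' p χ 1) : A') = (r * (↑v⁻¹ : R)) • x' := fun r => by
    show ((g' ((LinearEquiv.ofBijective g hg).symm (LinearEquiv.ofBijective g hg r)) :
      OortTate.eigenAug R A' p χ 1) : A') = _
    rw [LinearEquiv.symm_apply_apply, mul_smul]
    rfl
  have hval : ∀ r : R, ((g r : OortTate.eigenAug R A p χ 1) : A) = r • x := fun r => rfl
  have hpp : ∀ w : R, w ^ p = w ^ (p - 1) * w := fun w => by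
    rw [← pow_succ, Nat.sub_add_cancel (Fact.out : p.Prime).one_le]
  have hvp : ((v : R)) ^ (p - 1) * (↑v⁻¹ : R) ^ p = (↑v⁻¹ : R) := by
    rw [hpp, ← mul_assoc, ← mul_pow, Units.mul_inv, one_pow, one_mul]
  refine GrpSchLib.nonempty_bialgEquiv_of_eigen hrk u hu χ hχ hχp hrk' θ ?_ ?_
  · intro f h hh
    choose r hr using fun i => hg.2 (f i)
    have hh' : h = g ((∏ i, r i) * α) := by
      apply Subtype.ext
      simp only [hh, ← hr, hval, Finset.prod_smul, Finset.prod_const, Finset.card_univ, Fintype.card_fin, hα,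
        smul_smul]
    subst hh'
    simp only [← hr, hθ, Finset.prod_smul, Finset.prod_mul_distrib, Finset.prod_const, Finset.card_univ,
      Fintype.card_fin, hα', smul_smul]
    congr 1
    rw [hαv]
    push_cast
    calc (∏ i, r i) * α * (↑v⁻¹ : R) = (∏ i, r i) * α * ((v : R) ^ (p - 1) * (↑v⁻¹ : R) ^ p) := by rw [hvp]
      _ = (∏ i, r i) * (↑v⁻¹ : R) ^ p * ((v : R) ^ (p - 1) * α) := by ring
  · intro φ φ' ψ ψ' hrel hψ hψ' z
    have hrkD : ∀ q : PrimeSpectrum R, Module.rankAtStalk (CartDual.D R A) q = p := fun q => by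
      rw [GrpSchLib.rankAtStalk_cartDual, hrk]
    choose s hs using fun i => Submodule.mem_span_singleton.mp
      (show (φ' i : CartDual.D R A') ∈ Submodule.span R {ξ'} by rw [hξ']; exact (φ' i).2)
    choose r hr using fun i => Submodule.mem_span_singleton.mp
      (show (φ i : CartDual.D R A) ∈ Submodule.span R {ξ} by rw [hξ]; exact (φ i).2)
    obtain ⟨c, rfl⟩ := hg.2 z
    have hxξv : ξ.ofConv x = 1 := hxξ
    have hxξv' : ξ'.ofConv x' = 1 := hxξ'
    have hri : ∀ i, r i = s i * (↑v⁻¹ : R) := fun i => by
      have h := hrel i (g 1)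
      rw [hθ] at h
      rw [← hr i, ← hs i] at h
      simpa [hval, CartDual.coe_apply, hxξv, hxξv', mul_comm] using h
    rw [hθ, hψ, hψ']
    simp only [← hr, ← hs, hri, Finset.prod_smul, Finset.prod_mul_distrib, Finset.prod_const, Finset.card_univ,
      Fintype.card_fin, hβ, hβ', smul_smul, hval, CartDual.coe_apply, map_smul, WithConv.ofConv_smul,
      LinearMap.smul_apply, smul_eq_mul]
    simp only [CartDual.toDual_apply, hxξv, hxξv', map_smul, mul_one, smul_eq_mul, LinearMap.smul_apply]
    rw [hβv, hpp]
    push_cast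
    ring

end Groth.Agent.S18475
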