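import Groth.Statements.S18476
import Groth.Agent.FmlGrpFree.Basic

set_option autoImplicit false
set_option backward.isDefEq.respectTransparency false
set_option backward.isDefEq.respectTransparency.types false
universe u
open FmlGrp

namespace Groth.Agent.S18476

/-- Let O be a complete discrete valuation ring whose maximal ideal m contains the prime number p, and
let F be a one-dimensional formal group law over O, with multiplication-by-p series f = [p]_F(X) = X
+_F ⋯ +_F X ∈ O[[X]]. Then f has a coefficient outside m (f is not ≡ 0 mod m) if and only if F is
p-divisible in the sense that O[[X]] is free of finite rank over itself through the substitution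
endomorphism X ↦ f: there are finitely many power series b_1, …, b_n such that every power series g
can be written uniquely as Σ_i c_i(f(X))·b_i. (The published statement asserts instead that F is
p-divisible iff F does not reduce to X + Y modulo m; that is false — over the p-adic integers the
law φ⁻¹(φ(X) + φ(Y)) with φ = X + X^{p+1} is not congruent to X + Y modulo p, yet its
multiplication-by-p series φ⁻¹(pφ(X)) vanishes modulo p — and the printed proof establishes exactly
the criterion on f stated here.) The published setting is the valuation ring of a finite extension
of ℚ_p; the argument uses only that O is a complete discrete valuation ring with p in its maximal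
ideal. -/
theorem result
    (O : Type u) [CommRing O] [IsDomain O] [IsDiscreteValuationRing O]
    [IsAdicComplete (IsLocalRing.maximalIdeal O) O]
    (p : ℕ) [Fact p.Prime] (hp : (p : O) ∈ IsLocalRing.maximalIdeal O)
    (F : FormalGroup O) :
    (∃ n : ℕ, PowerSeries.coeff n
        ((p • (show F.Point Unit from ⟨PowerSeries.X, PowerSeries.HasSubst.X'⟩)).val) ∉
          IsLocalRing.maximalIdeal O) ↔
      ∃ (n : ℕ) (b : Fin n → PowerSeries O), ∀ g : PowerSeries O, ∃! c : Fin n → PowerSeries O,
        g = ∑ i, PowerSeries.subst
          ((p • (show F.Point Unit from ⟨PowerSeries.X, PowerSeries.HasSubst.X'⟩)).val) (c i) * b i := by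
  set x := (p • (show F.Point Unit from ⟨PowerSeries.X, PowerSeries.HasSubst.X'⟩)) with hx
  have hsub : PowerSeries.HasSubst x.val := x.2
  have hf0 : PowerSeries.constantCoeff (x.val : PowerSeries O) = 0 := IsNilpotent.eq_zero hsub
  constructor
  · rintro ⟨n, hn⟩
    refine Groth.Agent.FmlGrpFree.exists_free hf0 hsub fun h => hn ?_
    rw [← IsLocalRing.residue_eq_zero_iff, ← PowerSeries.coeff_map, h, map_zero]
  · rintro ⟨n, b, hb⟩
    by_contra h
    simp only [not_exists, not_not] at h
    refine Groth.Agent.FmlGrpFree.map_ne_zero_of_spanning hsub b (fun g => (hb g).exists)
      (PowerSeries.ext fun i => ?_)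
    rw [PowerSeries.coeff_map, map_zero, IsLocalRing.residue_eq_zero_iff]
    exact h i

end Groth.Agent.S18476
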