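import Groth.Statements.S18477
import Groth.Agent.GrpSchLib.EigenPairing


set_option autoImplicit false
universe u
open scoped TensorProduct
open OortTate

namespace Groth.Agent.S18477

/-- Let p be a prime, R a commutative ring containing u with u(p − 1) = 1, and χ a homomorphism from the
units of ℤ/p to the units of R such that χ(m) − 1 is a unit for every m ≠ 1 (the situation of an
algebra over the subring Λ_p of the p-adic integers generated by the Teichmüller values and 1/(p(p −
1)), with χ the Teichmüller character, which is the published setting); assume moreover χ(m) ≡ m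
modulo pR for every m. Let A be a commutative and cocommutative Hopf algebra over R, finitely
generated and projective as an R-module of rank p at every prime (a group scheme G of order p), A^D
= Hom_R(A, R) its dual Hopf algebra (Cartier dual), δ ∈ A ⊗ A^D the canonical element — the one with
(id ⊗ ev_a)(δ) = a for every a ∈ A, corresponding to the identity of A — and ϕ the R-algebra map
from the group algebra of ℤ/p (the Hopf algebra R[T]/(T^p − 1) of μ_p, T group-like) to A ⊗ A^D with
ϕ(T) = δ; ϕ is the comorphism of the Cartier pairing G × G^D → μ_p. Let I_1(A) ⊆ A and I_1(A^D) ⊆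
A^D be the χ-eigenspaces of the augmentation ideals under the power maps [m], and y_1 = u Σ_m
χ(m)^{−1}(T^m − 1). Then ϕ(y_1) generates the image of I_1(A) ⊗ I_1(A^D) in A ⊗ A^D as an R-module,
and r·ϕ(y_1) = 0 only for r = 0 (so that image is free of rank one on ϕ(y_1)). The published
argument obtains commutativity and p-torsion of G over a locally Noetherian base; this row allows
any commutative ring R, over which both still hold. -/
theorem result
    (p : ℕ) [Fact p.Prime] (R : Type u) [CommRing R] (u : R) (hu : u * ((p - 1 : ℕ) : R) = 1)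
    (χ : (ZMod p)ˣ →* Rˣ) (hχ : ∀ m : (ZMod p)ˣ, m ≠ 1 → IsUnit ((χ m : R) - 1))
    (hχp : ∀ m : (ZMod p)ˣ, ((χ m : Rˣ) : R) - (((m : ZMod p).val : ℕ) : R) ∈ Ideal.span ({(p : R)} : Set R))
    (A : Type u) [CommRing A] [HopfAlgebra R A] [Coalgebra.IsCocomm R A] [Module.Finite R A]
    [Module.Projective R A] (hrk : ∀ q : PrimeSpectrum R, Module.rankAtStalk A q = p)
    (δ : A ⊗[R] CartDual.D R A)
    (hδ : ∀ a : A, TensorProduct.rid R A
      (LinearMap.lTensor A ((Module.Dual.eval R A a) ∘ₗ (CartDual.toDual R A).toLinearMap) δ) = a)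
    (ϕ : MonoidAlgebra R (Multiplicative (ZMod p)) →ₐ[R] A ⊗[R] CartDual.D R A)
    (hϕ : ϕ (OortTate.muT R p) = δ) :
    Submodule.span R {ϕ (OortTate.ygen R p u χ 1)} =
        LinearMap.range (TensorProduct.map (OortTate.eigenAug R A p χ 1).subtype
          (OortTate.eigenAug R (CartDual.D R A) p χ 1).subtype) ∧
      ∀ r : R, r • ϕ (OortTate.ygen R p u χ 1) = 0 → r = 0 := by
  classical
  have hpk := GrpSchLib.pow_eq_one_of_rank (A := A) hrk
  let Φ : A ⊗[R] CartDual.D R A →ₗ[R] (A →ₗ[R] A) :=
    dualTensorHom R A A ∘ₗ TensorProduct.map (CartDual.toDual R A).toLinearMap LinearMap.id ∘ₗ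
      (TensorProduct.comm R A (CartDual.D R A)).toLinearMap
  have hΦt : ∀ x f a, Φ (x ⊗ₜ f) a = f.ofConv a • x := fun x f a => rfl
  have hΦinj : Function.Injective Φ := by
    have h1 : Function.Injective (TensorProduct.map (CartDual.toDual R A).toLinearMap (LinearMap.id (R := R) (M := A))) :=
      (TensorProduct.congr (CartDual.toDual R A) (LinearEquiv.refl R A)).injective
    intro a b h
    exact (TensorProduct.comm R A (CartDual.D R A)).injective (h1 ((dualTensorHomEquiv R A A).injective h))
  have hΦev : ∀ z a, TensorProduct.rid R A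
      (LinearMap.lTensor A ((Module.Dual.eval R A a) ∘ₗ (CartDual.toDual R A).toLinearMap) z) = Φ z a := by
    intro z a
    induction z using TensorProduct.induction_on with
    | zero => simp
    | tmul x f => rw [hΦt]; simp [CartDual.coe_apply]
    | add s t hs ht => simp only [map_add, LinearMap.add_apply, hs, ht]
  let _ : Semiring (A ⊗[R] CartDual.D R A) := inferInstance
  have hΦmul : ∀ s t a, Φ (s * t) a = LinearMap.mul' R A (TensorProduct.map (Φ s) (Φ t) (Coalgebra.comul a)) := by
    intro s t a
    induction s using TensorProduct.induction_on with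
    | zero => simp
    | add s s' hs hs' => simp only [add_mul, map_add, LinearMap.add_apply, TensorProduct.map_add_left, hs, hs']
    | tmul x f =>
      induction t using TensorProduct.induction_on with
      | zero => simp
      | add t t' ht ht' => simp only [mul_add, map_add, LinearMap.add_apply, TensorProduct.map_add_right, ht, ht']
      | tmul y g =>
        rw [Algebra.TensorProduct.tmul_mul_tmul, hΦt, LinearMap.convMul_apply]
        generalize Coalgebra.comul (R := R) a = w
        induction w using TensorProduct.induction_on with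
        | zero => simp
        | tmul b c => simp [hΦt, smul_mul_smul_comm, smul_smul, mul_comm]
        | add w w' hw hw' => simp only [map_add, add_smul, hw, hw']
  have hΦone : ∀ a, Φ 1 a = algebraMap R A (Coalgebra.counit a) := by
    intro a
    rw [Algebra.TensorProduct.one_def, hΦt, LinearMap.convOne_apply]
    simp [Algebra.algebraMap_eq_smul_one]
  have hΦpow : ∀ n a, Φ (δ ^ n) a = SGA3b.powConv R A n a := by
    intro n
    induction n with
    | zero => intro a; rw [pow_zero, hΦone]; rfl
    | succ n ih =>
      intro a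
      rw [pow_succ, hΦmul]
      have e : SGA3b.powConv R A (n + 1) a = LinearMap.mul' R A
          (TensorProduct.map (SGA3b.powConv R A n).toLinearMap LinearMap.id (Coalgebra.comul a)) := by
        refine (congrArg (fun f : WithConv (A →ₐ[R] A) => f.ofConv a) (pow_succ (WithConv.toConv (AlgHom.id R A)) n)).trans ?_
        exact LinearMap.convMul_apply (WithConv.toConv (SGA3b.powConv R A n).toLinearMap) (WithConv.toConv LinearMap.id) a
      have e1 : Φ (δ ^ n) = (SGA3b.powConv R A n).toLinearMap := LinearMap.ext ih
      have e2 : Φ δ = LinearMap.id := LinearMap.ext fun b => by rw [← hΦev]; exact hδ b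
      rw [e, e1, e2]
  let P : A →ₗ[R] A := GrpSchLib.eigenProj u χ 1
  have hy : Φ (ϕ (OortTate.ygen R p u χ 1)) = P := by
    apply LinearMap.ext
    intro a
    have hT : ∀ m : (ZMod p)ˣ, Φ (ϕ (GrpSchLib.pw (R := R) m (OortTate.muT R p - 1))) a =
        GrpSchLib.pw (R := R) m a - algebraMap R A (Coalgebra.counit a) := by
      intro m
      rw [GrpSchLib.pw_muT_sub_one, map_sub, map_one, map_sub, LinearMap.sub_apply, hΦone]
      congr 1
      rw [show MonoidAlgebra.of R (Multiplicative (ZMod p)) (Multiplicative.ofAdd (m : ZMod p)) =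
          OortTate.muT R p ^ (m : ZMod p).val by
        rw [← map_pow, ← ofAdd_nsmul, nsmul_one, ZMod.natCast_val, ZMod.cast_id], map_pow, hϕ, hΦpow]
      rfl
    rw [show OortTate.ygen R p u χ 1 = OortTate.proj R _ p u χ 1 (OortTate.muT R p - 1) from rfl,
      GrpSchLib.proj_apply]
    simp only [map_smul, map_sum, LinearMap.smul_apply, LinearMap.sum_apply, hT]
    simp only [P, GrpSchLib.eigenProj, LinearMap.comp_apply, ← GrpSchLib.proj_mod, GrpSchLib.proj_apply]
    congr 1
    refine Finset.sum_congr rfl fun m _ => ?_
    congr 1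
    · conv_lhs => rw [← Nat.mod_add_div 1 (p - 1)]
      rw [pow_add, pow_mul, ← Units.val_pow_eq_pow_val (χ m⁻¹) (p - 1), ← map_pow,
        ZMod.units_pow_card_sub_one_eq_one, map_one, Units.val_one, one_pow, _root_.mul_one]
    · show _ = GrpSchLib.pw (R := R) m (a - Bialgebra.counitAlgHom R A a • (1 : A))
      rw [map_sub, map_smul, show GrpSchLib.pw (R := R) m (1 : A) = 1 from map_one (SGA3b.powConv R A (m : ZMod p).val),
        Algebra.algebraMap_eq_smul_one]
      rfl
  have hrk1 := GrpSchLib.rankAtStalk_eigenAug hrk u hu χ hχ hχp 1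
  haveI := (GrpSchLib.finite_projective_eigenAug hrk u hu χ hχ hχp 1).1
  haveI := (GrpSchLib.finite_projective_eigenAug hrk u hu χ hχ hχp 1).2
  let Pc : A →ₗ[R] OortTate.eigenAug R A p χ 1 := P.codRestrict _ (GrpSchLib.eigenProj_mem hpk u χ 1)
  have hPc : ∀ x : OortTate.eigenAug R A p χ 1, Pc x = x := fun x =>
    Subtype.ext (GrpSchLib.eigenProj_eq_self u hu χ hχ x.2)
  refine ⟨le_antisymm ?_ ?_, fun r hr => ?_⟩
  · rw [Submodule.span_singleton_le_iff_mem]
    have key : ∀ w : Module.Dual R (OortTate.eigenAug R A p χ 1) ⊗[R] OortTate.eigenAug R A p χ 1,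
        ∃ v, ∀ a, Φ (TensorProduct.map (OortTate.eigenAug R A p χ 1).subtype
          (OortTate.eigenAug R (CartDual.D R A) p χ 1).subtype v) a =
          ((dualTensorHom R _ _ w (Pc a) : OortTate.eigenAug R A p χ 1) : A) := by
      intro w
      induction w using TensorProduct.induction_on with
      | zero => exact ⟨0, fun a => by simp⟩
      | tmul l x =>
        obtain ⟨f, hf⟩ := (S18471.result p R u hu χ hχ A hpk 1).2 l
        refine ⟨x ⊗ₜ f, fun a => ?_⟩
        rw [TensorProduct.map_tmul, hΦt, dualTensorHom_apply]
        show (f : CartDual.D R A).ofConv a • (x : A) = l (Pc a) • (x : A)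
        rw [← hf, ← GrpSchLib.form_eigenProj u hu χ f.2 a]
        rfl
      | add w w' hw hw' =>
        obtain ⟨v, hv⟩ := hw
        obtain ⟨v', hv'⟩ := hw'
        exact ⟨v + v', fun a => by simp only [map_add, LinearMap.add_apply, Submodule.coe_add, hv, hv']⟩
    obtain ⟨v, hv⟩ := key ((dualTensorHomEquiv R _ _).symm LinearMap.id)
    refine ⟨v, hΦinj (LinearMap.ext fun a => ?_)⟩
    have h2 : dualTensorHom R _ _ ((dualTensorHomEquiv R (OortTate.eigenAug R A p χ 1)
        (OortTate.eigenAug R A p χ 1)).symm LinearMap.id) = LinearMap.id :=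
      (dualTensorHomEquiv R _ _).apply_symm_apply _
    rw [hv a, hy, h2]
    rfl
  · rintro _ ⟨w, rfl⟩
    induction w using TensorProduct.induction_on with
    | zero => simp
    | add s t hs ht => rw [map_add]; exact add_mem hs ht
    | tmul x f =>
      obtain ⟨r, hr⟩ := GrpSchLib.endo_eq_smul_of_rank_one hrk1
        ((((f : CartDual.D R A).ofConv).comp (OortTate.eigenAug R A p χ 1).subtype).smulRight x)
      refine Submodule.mem_span_singleton.mpr ⟨r, hΦinj (LinearMap.ext fun a => ?_)⟩
      rw [map_smul, hy, TensorProduct.map_tmul, LinearMap.smul_apply, hΦt]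
      have h := congrArg Subtype.val (LinearMap.congr_fun hr (Pc a))
      show r • P a = (f : CartDual.D R A).ofConv a • (x : A)
      rw [← GrpSchLib.form_eigenProj u hu χ f.2 a]
      exact h.symm
  · have h0 : ∀ x : OortTate.eigenAug R A p χ 1, r • x = 0 := fun x => by
      apply Subtype.ext
      have h := LinearMap.congr_fun (congrArg Φ hr) (x : A)
      rw [map_smul, hy, map_zero, LinearMap.smul_apply] at h
      rw [show P (x : A) = (x : A) from GrpSchLib.eigenProj_eq_self u hu χ hχ x.2] at h
      exact h
    let ann : Ideal R := LinearMap.ker (LinearMap.toSpanSingleton R R r)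
    suffices h : ann = ⊤ by
      have h' : (1 : R) ∈ ann := h ▸ Submodule.mem_top
      simpa [ann] using h'
    by_contra hne
    obtain ⟨q, hq, hle⟩ := Ideal.exists_le_maximal ann hne
    obtain ⟨s, hs, hsr⟩ := GrpSchLib.exists_smul_eq_zero_of_rank_one hrk1 ⟨q, hq.isPrime⟩ h0
    exact hs (hle (show s • r = 0 from hsr))

end Groth.Agent.S18477
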