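import Groth.Statements.S18479
import Mathlib.Tactic.LinearCombination
-- import your own Groth.Agent.* helpers here

set_option autoImplicit false
universe u v
open scoped TensorProduct
open OortTate

namespace Groth.Agent.S18479

/-- Let R be a commutative ring and A a commutative Hopf algebra over R whose augmentation ideal ker ε
is a free R-module of rank one with generator x (this is the situation of a group scheme of order 2
over a local ring: A free of rank 2, so ker ε is free of rank 1). Then there are a, b ∈ R with x² =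
a·x, Δ(x) = x ⊗ 1 + 1 ⊗ x + b·(x ⊗ x), and ab = −2; thus A is the Hopf algebra R[T]/(T² − aT) with
comultiplication T ↦ T ⊗ 1 + 1 ⊗ T + b T ⊗ T. (The copy works over a Noetherian local ring to get
freeness; the computation uses only that ker ε is free on x.) -/
theorem result
    (R : Type u) [CommRing R] (A : Type v) [CommRing A] [HopfAlgebra R A]
    (x : A) (hx : Bialgebra.counitAlgHom R A x = 0)
    (hgen : ∀ f : A, Bialgebra.counitAlgHom R A f = 0 → ∃ r : R, f = r • x)
    (hfree : ∀ r : R, r • x = 0 → r = 0) :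
    ∃ a b : R, x * x = a • x ∧
      Bialgebra.comulAlgHom R A x = x ⊗ₜ[R] 1 + 1 ⊗ₜ[R] x + b • (x ⊗ₜ[R] x) ∧ a * b = -2 := by
  classical
  set ε := Bialgebra.counitAlgHom R A with hε
  have hdec : ∀ y : A, ∃ r : R, y = ε y • 1 + r • x := by
    intro y
    obtain ⟨r, hr⟩ := hgen (y - ε y • 1) (by simp)
    exact ⟨r, by rw [← hr]; simp⟩
  choose φ hφ using hdec
  have hu : ∀ y r, y = ε y • 1 + r • x → φ y = r := by
    intro y r hy
    have := hfree (φ y - r) (by rw [sub_smul, sub_eq_zero]; exact add_left_cancel ((hφ y).symm.trans hy))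
    exact sub_eq_zero.mp this
  let φl : A →ₗ[R] R :=
    { toFun := φ
      map_add' := fun y z => hu _ _ (by
        conv_lhs => rw [hφ y, hφ z]
        rw [map_add, add_smul, add_smul]; abel)
      map_smul' := fun c y => hu _ _ (by
        conv_lhs => rw [hφ y]
        rw [map_smul, smul_add, smul_smul, smul_smul, RingHom.id_apply, smul_eq_mul, smul_eq_mul]) }
  have φ1 : φl 1 = 0 := hu _ _ (by simp)
  have φx : φl x = 1 := hu _ _ (by simp [hx])
  obtain ⟨a, ha⟩ := hgen (x * x) (by simp [map_mul, hx])
  have hspan : ∀ t : A ⊗[R] A, ∃ α β γ δ : R,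
      t = α • (1 ⊗ₜ 1) + β • (x ⊗ₜ 1) + γ • (1 ⊗ₜ x) + δ • (x ⊗ₜ x) := by
    intro t
    induction t using TensorProduct.induction_on with
    | zero => exact ⟨0, 0, 0, 0, by simp⟩
    | tmul y z =>
      refine ⟨ε y * ε z, φ y * ε z, ε y * φ z, φ y * φ z, ?_⟩
      conv_lhs => rw [hφ y, hφ z]
      simp only [TensorProduct.add_tmul, TensorProduct.tmul_add, ← TensorProduct.smul_tmul', TensorProduct.tmul_smul,
        smul_smul]
      module
    | add t t' ht ht' =>
      obtain ⟨α, β, γ, δ, rfl⟩ := ht
      obtain ⟨α', β', γ', δ', rfl⟩ := ht'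
      exact ⟨α + α', β + β', γ + γ', δ + δ', by module⟩
  obtain ⟨α, β, γ, b, hd⟩ := hspan (Bialgebra.comulAlgHom R A x)
  have hεx : Coalgebra.counit (R := R) x = 0 := hx
  have hc : Coalgebra.comul (R := R) x = α • (1 ⊗ₜ 1) + β • (x ⊗ₜ 1) + γ • (1 ⊗ₜ x) + b • (x ⊗ₜ x) := hd
  have hl := congrArg (TensorProduct.lid R A) (Coalgebra.rTensor_counit_comul (R := R) x)
  have hr := congrArg (TensorProduct.rid R A) (Coalgebra.lTensor_counit_comul (R := R) x)
  rw [hc] at hl hr
  simp [hεx] at hl hr
  have hα : α = 0 := by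
    have := congrArg ε hl
    simpa [hx] using this
  have hγ : γ = 1 := by
    have := congrArg φl hl
    simpa [φ1, φx] using this
  have hβ : β = 1 := by
    have := congrArg φl hr
    simpa [φ1, φx] using this
  subst hα hβ hγ
  simp only [zero_smul, one_smul, zero_add] at hd hc
  refine ⟨a, b, ha, hd, ?_⟩
  -- coefficient of `x ⊗ x`
  let Φ : A ⊗[R] A →ₗ[R] R := (TensorProduct.lid R R).toLinearMap ∘ₗ TensorProduct.map φl φl
  have hΦ := congrArg Φ (congrArg (Bialgebra.comulAlgHom R A) ha)
  rw [map_mul, map_smul, hd] at hΦ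
  simp [Φ, add_mul, mul_add, ha, φ1, φx, TensorProduct.smul_tmul', TensorProduct.tmul_smul, smul_smul] at hΦ
  -- antipode
  set S := HopfAlgebra.antipode R (A := A)
  have hSx : ε (S x) = 0 := by
    have := HopfAlgebra.counit_antipode (R := R) x
    rw [hεx] at this; exact this
  obtain ⟨c, hSc⟩ := hgen (S x) hSx
  have hS := HopfAlgebra.mul_antipode_rTensor_comul_apply (R := R) x
  rw [hc] at hS
  simp [hεx, S, hSc, ha, smul_smul] at hS
  have h2 := congrArg φl hS
  simp [φx, smul_smul] at h2
  linear_combination (-c) * hΦ + (a * b + 2) * h2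

end Groth.Agent.S18479
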