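import Groth.Statements.S18480
import Mathlib.RingTheory.Bialgebra.Equiv
import Mathlib.Tactic.LinearCombination
-- import your own Groth.Agent.* helpers here

set_option autoImplicit false
universe u v
open scoped TensorProduct
open OortTate

namespace Groth.Agent.S18480

/-- Let R be a commutative ring and let A and A' be commutative Hopf algebras over R whose augmentation
ideals are free of rank one with generators x and x', with constants a, b and a', b' ∈ R such that
x² = a x, Δ(x) = x ⊗ 1 + 1 ⊗ x + b x ⊗ x and x'² = a' x', Δ(x') = x' ⊗ 1 + 1 ⊗ x' + b' x' ⊗ x' (the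
group schemes of order two G_{a,b} and G_{a',b'}). Then A and A' are isomorphic as bialgebras over R
(G_{a,b} ≅ G_{a',b'} as group schemes) if and only if there is a unit s of R with a = a'·s and b' =
b·s. -/
theorem result
    (R : Type u) [CommRing R] (A : Type v) [CommRing A] [HopfAlgebra R A]
    (x : A) (hx : Bialgebra.counitAlgHom R A x = 0)
    (hgen : ∀ f : A, Bialgebra.counitAlgHom R A f = 0 → ∃ r : R, f = r • x)
    (hfree : ∀ r : R, r • x = 0 → r = 0)
    (a b : R) (hxa : x * x = a • x)
    (hxb : Bialgebra.comulAlgHom R A x = x ⊗ₜ[R] 1 + 1 ⊗ₜ[R] x + b • (x ⊗ₜ[R] x))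
    (A' : Type v) [CommRing A'] [HopfAlgebra R A']
    (x' : A') (hx' : Bialgebra.counitAlgHom R A' x' = 0)
    (hgen' : ∀ f : A', Bialgebra.counitAlgHom R A' f = 0 → ∃ r : R, f = r • x')
    (hfree' : ∀ r : R, r • x' = 0 → r = 0)
    (a' b' : R) (hxa' : x' * x' = a' • x')
    (hxb' : Bialgebra.comulAlgHom R A' x' = x' ⊗ₜ[R] 1 + 1 ⊗ₜ[R] x' + b' • (x' ⊗ₜ[R] x')) :
    Nonempty (A ≃ₐc[R] A') ↔ ∃ s : Rˣ, a = a' * (s : R) ∧ b' = b * (s : R) := by
  classical
  let ε := Bialgebra.counitAlgHom R A
  let ε' := Bialgebra.counitAlgHom R A'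
  have hxc : Coalgebra.counit (R := R) x = 0 := hx
  have hxc' : Coalgebra.counit (R := R) x' = 0 := hx'
  have inj : ∀ r r' : R, r • x = r' • x → r = r' :=
    fun r r' h => sub_eq_zero.mp (hfree _ (by rw [sub_smul, h, sub_self]))
  have inj' : ∀ r r' : R, r • x' = r' • x' → r = r' :=
    fun r r' h => sub_eq_zero.mp (hfree' _ (by rw [sub_smul, h, sub_self]))
  have hdec : ∀ f, ∃ r : R, f = ε f • 1 + r • x := fun f => by
    obtain ⟨r, hr⟩ := hgen (f - ε f • 1) (by simp [ε])
    exact ⟨r, by rw [← hr]; simp⟩
  choose ψ hψ using hdec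
  have hdec' : ∀ f, ∃ r : R, f = ε' f • 1 + r • x' := fun f => by
    obtain ⟨r, hr⟩ := hgen' (f - ε' f • 1) (by simp [ε'])
    exact ⟨r, by rw [← hr]; simp⟩
  choose ψ' hψ' using hdec'
  have hu : ∀ f r c, f = c • 1 + r • x → ε f = c ∧ ψ f = r := by
    intro f r c h
    have hc : ε f = c := by rw [h]; simp [ε, hx, hxc]
    refine ⟨hc, inj _ _ ?_⟩
    have := (hψ f).symm.trans h
    rw [hc] at this
    exact add_left_cancel this
  have hu' : ∀ f r c, f = c • 1 + r • x' → ε' f = c ∧ ψ' f = r := by
    intro f r c h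
    have hc : ε' f = c := by rw [h]; simp [ε', hx', hxc']
    refine ⟨hc, inj' _ _ ?_⟩
    have := (hψ' f).symm.trans h
    rw [hc] at this
    exact add_left_cancel this
  constructor
  · rintro ⟨e⟩
    have he : ε' (e x) = 0 := by
      have h := LinearMap.congr_fun (CoalgHomClass.counit_comp (R := R) e) x
      exact h.trans hx
    obtain ⟨s, hs⟩ := hgen' _ he
    have he' : ε (e.symm x') = 0 := by
      have h := LinearMap.congr_fun (CoalgHomClass.counit_comp (R := R) e.symm) x'
      exact h.trans hx'
    obtain ⟨t, ht⟩ := hgen _ he'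
    have hst : s * t = 1 := by
      apply inj
      have h := e.symm_apply_apply x
      rw [hs, map_smul, ht, smul_smul] at h
      rw [h, one_smul]
    let su : Rˣ := ⟨s, t, hst, by rw [mul_comm]; exact hst⟩
    refine ⟨su, ?_, ?_⟩
    · show a = a' * s
      have h := congrArg e hxa
      rw [map_mul, map_smul, hs, smul_mul_smul_comm, hxa', smul_smul, smul_smul] at h
      have := inj' _ _ h
      linear_combination (-t) * this + (s * a' - a) * hst
    · show b' = b * s
      let φ : A' →ₗ[R] R :=
        { toFun := ψ'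
          map_add' := fun f f' => (hu' _ _ (ε' f + ε' f') (by
            conv_lhs => rw [hψ' f, hψ' f']
            rw [add_smul, add_smul]; abel)).2
          map_smul' := fun c f => (hu' _ _ (c * ε' f) (by
            conv_lhs => rw [hψ' f]
            rw [smul_add, smul_smul, smul_smul, RingHom.id_apply, smul_eq_mul])).2 }
      have hφx : φ x' = 1 := (hu' x' 1 0 (by simp)).2
      have hφ1 : φ 1 = 0 := (hu' 1 0 1 (by simp)).2
      have h := CoalgHomClass.map_comp_comul_apply e x
      have hΔ : Coalgebra.comul (R := R) x = _ := hxb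
      have hΔ' : Coalgebra.comul (R := R) x' = _ := hxb'
      rw [hs, map_smul, hΔ', hΔ] at h
      simp only [map_add, map_smul, TensorProduct.map_tmul] at h
      have he1 : e 1 = 1 := map_one e
      change e x ⊗ₜ[R] e 1 + e 1 ⊗ₜ[R] e x + b • e x ⊗ₜ[R] e x = _ at h
      rw [hs, he1] at h
      have h2 := congrArg ((TensorProduct.lid R R).toLinearMap ∘ₗ TensorProduct.map φ φ) h
      simp [hφx, hφ1] at h2
      linear_combination (-t) * h2 + (b * s - b') * hst
  · rintro ⟨s, ha, hb⟩
    let F : A →ₗ[R] A' :=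
      { toFun := fun f => ε f • 1 + ψ f • (s : R) • x'
        map_add' := fun f f' => by
          rw [(hu (f + f') (ψ f + ψ f') (ε f + ε f') (by
            conv_lhs => rw [hψ f, hψ f']
            rw [add_smul, add_smul]; abel)).1, (hu (f + f') (ψ f + ψ f') (ε f + ε f') (by
            conv_lhs => rw [hψ f, hψ f']
            rw [add_smul, add_smul]; abel)).2, add_smul, add_smul]
          abel
        map_smul' := fun c f => by
          have hh : c • f = (c * ε f) • 1 + (c * ψ f) • x := by
            conv_lhs => rw [hψ f]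
            rw [smul_add, smul_smul, smul_smul]
          rw [(hu _ _ _ hh).1, (hu _ _ _ hh).2, RingHom.id_apply, smul_add, mul_smul, mul_smul] }
    have hF : ∀ c r : R, F (c • 1 + r • x) = c • 1 + r • (s : R) • x' := by
      intro c r
      show ε _ • 1 + ψ _ • (s : R) • x' = _
      rw [(hu _ r c rfl).1, (hu _ r c rfl).2]
    have hF1 : F 1 = 1 := by simpa using hF 1 0
    have hFx : F x = (s : R) • x' := by simpa using hF 0 1
    let Fa : A →ₐ[R] A' := AlgHom.ofLinearMap F hF1 (by
      intro f f'
      rw [hψ f, hψ f', hF, hF]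
      have : (ε f • (1 : A) + ψ f • x) * (ε f' • 1 + ψ f' • x) =
          (ε f * ε f') • 1 + (ε f * ψ f' + ψ f * ε f' + ψ f * ψ f' * a) • x := by
        simp only [add_mul, mul_add, smul_mul_smul_comm, _root_.one_mul, _root_.mul_one, hxa, smul_smul]
        module
      rw [this, hF, ha]
      simp only [add_mul, mul_add, smul_mul_smul_comm, _root_.one_mul, _root_.mul_one, hxa', smul_smul]
      module)
    have hFax : Fa x = (s : R) • x' := hFx
    have hext : ∀ {C : Type v} [Semiring C] [Algebra R C] (f f' : A →ₐ[R] C), f x = f' x → f = f' := by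
      intro C _ _ f f' h
      ext y
      rw [hψ y, map_add, map_add, map_smul, map_smul, map_smul, map_smul, map_one, map_one, h]
    let G : A →ₐc[R] A' := BialgHom.ofAlgHom Fa (by
        apply AlgHom.ext; intro y
        rw [hψ y]
        simp [hFax, hx, hx', hxc, hxc'])
      (hext _ _ (by
        show Algebra.TensorProduct.map Fa Fa (Bialgebra.comulAlgHom R A x) = Bialgebra.comulAlgHom R A' (Fa x)
        rw [hxb, hFax, map_smul, hxb', hb]
        simp only [map_add, map_smul, Algebra.TensorProduct.map_tmul, map_one, hFax, TensorProduct.smul_tmul',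
          TensorProduct.tmul_smul, smul_smul, smul_add]))
    have hG : ∀ f, G f = ε f • 1 + ψ f • (s : R) • x' := fun f => rfl
    have hbij : Function.Bijective G := by
      refine ⟨fun f f' h => ?_, fun y => ?_⟩
      · rw [hG, hG, smul_smul, smul_smul] at h
        have h1 := hu' _ _ _ (rfl : ε f • (1 : A') + (ψ f * (s : R)) • x' = _)
        have h2 := hu' _ _ _ (rfl : ε f' • (1 : A') + (ψ f' * (s : R)) • x' = _)
        rw [hψ f, hψ f', ← h1.1, h, h2.1, s.isUnit.mul_right_cancel (h1.2.symm.trans ((congrArg ψ' h).trans h2.2))]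
      · refine ⟨ε' y • 1 + (ψ' y * (↑s⁻¹ : R)) • x, ?_⟩
        show F _ = y
        rw [hF, smul_smul, mul_assoc, Units.inv_mul, _root_.mul_one]
        exact (hψ' y).symm
    exact ⟨BialgEquiv.ofBijective (R := R) (A := A) (B := A') G hbij⟩

end Groth.Agent.S18480
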