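import Groth.Statements.S18483
import Groth.Agent.WeilExt.Dedekind

set_option autoImplicit false
universe u
open CategoryTheory CategoryTheory.Limits AlgebraicGeometry MonObj
open Neron

namespace Groth.Agent.S18483

/-- Let R be a Dedekind domain with fraction field K and N a proper smooth group scheme over Spec R,
with no connectedness condition on its fibres. Then N is a Néron model of its generic fibre N_K: N
is smooth, separated and of finite type over Spec R, and for every smooth Spec R-scheme Y
restriction to generic fibres is a bijection from R-morphisms Y → N onto K-morphisms Y_K → N_K. (The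
source allows any connected Dedekind scheme as base; the affine case is stated.) -/
theorem result (R : Type u) [CommRing R] [IsDedekindDomain R]
    (N : Over (Spec (CommRingCat.of R))) [GrpObj N] [IsProper N.hom] [Smooth N.hom] :
    Neron.IsNeronModelOf R N ((Neron.genericFibre R).obj N) (Iso.refl _) := by
  refine ⟨inferInstance, inferInstance, inferInstance, inferInstance, fun Y hY => ?_⟩
  haveI : Smooth Y.hom := hY
  let j := Spec.map (CommRingCat.ofHom (algebraMap R (FractionRing R)))
  constructor
  · intro g₁ g₂ h
    have h' := congrArg (fun k => Over.Hom.left k ≫ pullback.fst N.hom j) h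
    simp only [Iso.refl_hom, Category.comp_id] at h'
    replace h' : pullback.fst Y.hom j ≫ g₁.left = pullback.fst Y.hom j ≫ g₂.left :=
      (pullback.lift_fst _ _ _).symm.trans (h'.trans (pullback.lift_fst _ _ _))
    obtain ⟨g, -, hu⟩ := Groth.Agent.WeilExt.existsUnique_extension_generic (X := Y) (G := N)
      (pullback.fst Y.hom j ≫ g₁.left) (by rw [Category.assoc, Over.w])
    exact Over.OverMorphism.ext ((hu _ ⟨Over.w g₁, rfl⟩).trans (hu _ ⟨Over.w g₂, h'.symm⟩).symm)
  · intro h
    obtain ⟨g, ⟨hg, hg0⟩, -⟩ := Groth.Agent.WeilExt.existsUnique_extension_generic (X := Y) (G := N)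
      (Over.Hom.left h ≫ pullback.fst N.hom j) (by
        rw [Category.assoc, pullback.condition, ← Category.assoc, pullback.condition]
        exact congrArg (· ≫ j) (Over.w h))
    refine ⟨Over.homMk g hg, ?_⟩
    simp only [Iso.refl_hom, Category.comp_id]
    apply Over.OverMorphism.ext
    apply pullback.hom_ext
    · exact (pullback.lift_fst _ _ _).trans hg0
    · exact (pullback.lift_snd _ _ _).trans (Over.w h).symm

end Groth.Agent.S18483
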