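import Groth.Statements.S18484
import Groth.Agent.NeronBasic.Basic
import Mathlib.AlgebraicGeometry.Morphisms.Flat
import Mathlib.AlgebraicGeometry.Morphisms.ClosedImmersion
-- import your own Groth.Agent.* helpers here

set_option autoImplicit false
universe u
open CategoryTheory CategoryTheory.Limits AlgebraicGeometry MonObj
open Neron

namespace Groth.Agent.S18484

/-- Let R be a Dedekind domain with fraction field K, X a Spec R-scheme which is a Néron model of its
generic fibre X_K, and i : G → X a closed immersion with G smooth over Spec R. Then G is a Néron
model of its generic fibre G_K: smooth, separated, of finite type, and for every smooth Spec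
R-scheme Y restriction to generic fibres is a bijection from R-morphisms Y → G onto K-morphisms Y_K
→ G_K. (The source states this for a closed subgroup scheme of a Néron model; the group laws play no
part and are not assumed. The converse direction of the source, that a Néron model is a closed
subgroup of a Néron model, is immediate and not stated.) -/
theorem result (R : Type u) [CommRing R] [IsDedekindDomain R]
    (X G : Over (Spec (CommRingCat.of R))) (hX : Neron.IsNeronModelOf R X ((Neron.genericFibre R).obj X) (Iso.refl _))
    (i : G ⟶ X) [IsClosedImmersion i.left] [Smooth G.hom] :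
    Neron.IsNeronModelOf R G ((Neron.genericFibre R).obj G) (Iso.refl _) := by
  obtain ⟨hs, hsep, hlft, hqc, hb⟩ := hX
  have hiG : G.hom = i.left ≫ X.hom := (Over.w i).symm
  refine ⟨inferInstance, by rw [hiG]; infer_instance, by rw [hiG]; infer_instance, by rw [hiG]; infer_instance, fun Y hY => ?_⟩
  haveI := hY
  haveI : Flat Y.hom := inferInstance
  haveI : IsSeparated G.hom := by rw [hiG]; infer_instance
  constructor
  · intro f g h
    exact NeronBasic.eq_of_map_genericFibre R Y G f g (by simpa using h)
  · intro gK
    obtain ⟨g, hg⟩ := (hb Y hY).2 (gK ≫ (Neron.genericFibre R).map i)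
    simp only [Iso.refl_hom, Category.comp_id] at hg
    have hker : i.left.ker ≤ g.left.ker := by
      have hst : IsSchemeTheoreticallyDominant (pullback.fst Y.hom (Neron.genPt R)) := inferInstance
      have e : pullback.fst Y.hom (Neron.genPt R) ≫ g.left = (gK.left ≫ pullback.fst G.hom (Neron.genPt R)) ≫ i.left := by
        have h1 := congrArg (fun k => k.left ≫ pullback.fst X.hom (Neron.genPt R)) hg
        simp only [Over.pullback_map_left, pullback.lift_fst, Over.comp_left, Category.assoc] at h1
        rw [Category.assoc]
        exact h1
      calc i.left.ker ≤ (pullback.fst Y.hom (Neron.genPt R) ≫ g.left).ker := e ▸ Scheme.Hom.le_ker_comp _ _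
        _ = g.left.ker := by
          rw [Scheme.Hom.ker_comp, Scheme.Hom.ker_eq_bot (pullback.fst Y.hom (Neron.genPt R)), Scheme.IdealSheafData.map_bot]
    refine ⟨Over.homMk (IsClosedImmersion.lift i.left g.left hker) (by rw [hiG, IsClosedImmersion.lift_fac_assoc]; exact Over.w g), ?_⟩
    haveI : Mono i := (Over.forget _).mono_of_mono_map (inferInstanceAs (Mono i.left))
    haveI : Mono ((Neron.genericFibre R).map i) := inferInstance
    rw [← cancel_mono ((Neron.genericFibre R).map i)]
    simp only [Iso.refl_hom, Category.comp_id]
    rw [← Functor.map_comp, ← hg]
    congr 1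
    ext
    exact IsClosedImmersion.lift_fac _ _ _

end Groth.Agent.S18484
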