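import Groth.Statements.S18860
import Groth.Agent.SchTorsor.Props

set_option autoImplicit false
universe u
open CategoryTheory MonoidalCategory CartesianMonoidalCategory MonObj GrpObj AlgebraicGeometry
open NonAbH1

namespace Groth.Agent.S18860

/-- Let S be a scheme, G a group scheme over S and X → S a G-torsor for the fpqc topology (a
pseudo-torsor under G acquiring sections on the members of some fpqc covering family of S). If G → S
is locally of finite type, resp. quasi-compact, resp. finite, resp. smooth, resp. étale, then X → S
has the same property. (The source takes for G the base change to a scheme over a field of a group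
scheme over that field and lists the properties affine, of finite type, finite, smooth and étale;
the affine case is stated elsewhere and of finite type is split here into its two halves.) -/
theorem result {S : Scheme.{u}} {G X : Over S} [GrpObj G]
    (a : AlgGrp.Action G X) (ha : NonAbH1.IsTorsorFor Scheme.fpqcPrecoverage a) :
    (LocallyOfFiniteType G.hom → LocallyOfFiniteType X.hom) ∧ (QuasiCompact G.hom → QuasiCompact X.hom) ∧
      (IsFinite G.hom → IsFinite X.hom) ∧ (Smooth G.hom → Smooth X.hom) ∧ (Etale G.hom → Etale X.hom) := by
  haveI := Groth.Agent.EtFound.fpqc_quasiCompact.{u}
  haveI := Groth.Agent.EtFound.fpqc_isFinite.{u}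
  exact ⟨Groth.Agent.SchTorsor.torsor_property @LocallyOfFiniteType ha,
    Groth.Agent.SchTorsor.torsor_property @QuasiCompact ha,
    Groth.Agent.SchTorsor.torsor_property @IsFinite ha,
    Groth.Agent.SchTorsor.torsor_property @Smooth ha,
    Groth.Agent.SchTorsor.torsor_property @Etale ha⟩

end Groth.Agent.S18860
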