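import Groth.Statements.S18486
import Groth.Agent.NMP.Basic
import Groth.Agent.EtFound.Descent
import Groth.Agent.S18860

set_option autoImplicit false
universe u
open CategoryTheory CategoryTheory.Limits AlgebraicGeometry MonObj
open Neron

namespace Groth.Agent.S18486

/-- Let R be a Dedekind domain with fraction field K, X a group scheme over Spec R which is a Néron
model of its generic fibre, and P a Spec R-scheme with an action of X making it an X-torsor for the
fppf topology (a pseudo-torsor which acquires sections on the members of some fppf covering family
of Spec R). Then P is smooth, separated and of finite type over Spec R and has the Néron mapping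
property: for every smooth Spec R-scheme Y restriction to generic fibres is a bijection from
R-morphisms Y → P onto K-morphisms Y_K → P_K; that is, P is a Néron model of P_K. (The source treats
Néron lft models, torsors that are algebraic spaces and the mapping property towards smooth
algebraic spaces; the case of a Néron model of finite type and a torsor which is a scheme is
stated.) -/
theorem result (R : Type u) [CommRing R] [IsDedekindDomain R]
    (X : Over (Spec (CommRingCat.of R))) [GrpObj X] (hX : Neron.IsNeronModelOf R X ((Neron.genericFibre R).obj X) (Iso.refl _))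
    (P : NonAbH1.TorsorSch X Scheme.fppfPrecoverage) :
    Neron.IsNeronModelOf R P.X ((Neron.genericFibre R).obj P.X) (Iso.refl _) := by
  obtain ⟨hsm, hsep, hlft, hqc, hmap⟩ := hX
  haveI := hsm
  have h' : NonAbH1.IsTorsorFor Scheme.fpqcPrecoverage P.act :=
    ⟨P.isTorsor.1, P.isTorsor.2.choose,
      Scheme.fppfPrecoverage_le_fpqcPrecoverage _ P.isTorsor.2.choose_spec.1, P.isTorsor.2.choose_spec.2⟩
  haveI := Groth.Agent.EtFound.fpqc_isSeparated.{u}
  haveI := Groth.Agent.EtFound.fpqc_quasiCompact.{u}
  haveI : Smooth P.X.hom := (Groth.Agent.S18860.result P.act h').2.2.2.1 hsm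
  haveI : Surjective P.X.hom := Groth.Agent.SchTorsor.surjective_hom h'
  refine ⟨inferInstance, Groth.Agent.SchTorsor.torsor_property @IsSeparated h' hsep,
    (Groth.Agent.S18860.result P.act h').1 hlft, (Groth.Agent.S18860.result P.act h').2.1 hqc, fun Y hY => ?_⟩
  simp only [Iso.refl_hom, Category.comp_id] at hmap ⊢
  exact (Groth.Agent.NMP.bijective_pullback_map_iff _ _ _).2
    (Groth.Agent.NMP.bijective_torsor P.isTorsor.1
      (fun Z hZ => (Groth.Agent.NMP.bijective_pullback_map_iff _ _ _).1 (hmap Z hZ)) Y hY)

end Groth.Agent.S18486
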