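import Groth.Statements.S18487
import Groth.Agent.CechTorsorX.PrueferSection
import Groth.Agent.SchTorsor.Props
-- import your own Groth.Agent.* helpers here

set_option autoImplicit false
set_option backward.isDefEq.respectTransparency false
set_option backward.isDefEq.respectTransparency.types false
universe u
open CategoryTheory CategoryTheory.Limits AlgebraicGeometry MonObj
open NonAbH1

namespace Groth.Agent.S18487

/-- Let R be a Dedekind domain with fraction field K, G a proper flat group scheme over Spec R, and P a
Spec R-scheme with an action of G making it a G-torsor for the fppf topology (a pseudo-torsor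
acquiring sections on the members of an fppf covering family). If P acquires a section over the
generic point Spec K → Spec R, then P has a section over Spec R: a generically trivial torsor is
trivial. (The source allows any connected Dedekind scheme as base and torsors that are fppf sheaves,
shown there to be schemes; the affine base and scheme torsors are stated.) -/
theorem result (R : Type u) [CommRing R] [IsDedekindDomain R]
    (G : Over (Spec (CommRingCat.of R))) [GrpObj G] [IsProper G.hom] [Flat G.hom]
    (P : NonAbH1.TorsorSch G Scheme.fppfPrecoverage) (h : NonAbH1.HasSectionOver P.X (Neron.genPt R)) :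
    NonAbH1.HasSectionOver P.X (𝟙 (Spec (CommRingCat.of R))) := by
  obtain ⟨s, hs⟩ := h
  have hP : NonAbH1.IsTorsorFor Scheme.fpqcPrecoverage P.act :=
    ⟨P.isTorsor.1, P.isTorsor.2.imp fun R hR => ⟨Scheme.fppfPrecoverage_le_fpqcPrecoverage _ hR.1, hR.2⟩⟩
  haveI : MorphismProperty.DescendsAlong @IsProper (@Surjective ⊓ @Flat ⊓ @QuasiCompact : MorphismProperty Scheme.{u}) :=
    Groth.Agent.EtFound.fpqc_isProper
  haveI : IsProper P.X.hom := Groth.Agent.SchTorsor.torsor_property @IsProper hP inferInstance
  have hX : ∀ p : Spec (CommRingCat.of R), ValuationRing ((Spec (CommRingCat.of R)).presheaf.stalk p) := fun p => by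
    letI : Algebra R ((Spec (CommRingCat.of R)).presheaf.stalk p) := StructureSheaf.stalkAlgebra R p
    by_cases hp : p.asIdeal = ⊥
    · haveI : IsFractionRing R ((Spec (CommRingCat.of R)).presheaf.stalk p) := by
        have h := StructureSheaf.IsLocalization.to_stalk (CommRingCat.of R) p
        have e : p.asIdeal.primeCompl = nonZeroDivisors R := by
          ext x; simp [hp, Ideal.primeCompl, mem_nonZeroDivisors_iff_ne_zero]
        show IsLocalization _ _
        rw [← e]
        exact h
      letI := IsFractionRing.toField R (K := (Spec (CommRingCat.of R)).presheaf.stalk p)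
      infer_instance
    · haveI : IsLocalization.AtPrime ((Spec (CommRingCat.of R)).presheaf.stalk p) p.asIdeal :=
        StructureSheaf.IsLocalization.to_stalk (CommRingCat.of R) p
      haveI := IsLocalization.AtPrime.isDiscreteValuationRing_of_dedekind_domain R hp ((Spec (CommRingCat.of R)).presheaf.stalk p)
      infer_instance
  let X := Spec (CommRingCat.of R)
  obtain ⟨β, hβ⟩ := Spec.map_surjective (X.fromSpecStalk (genericPoint X))
  have hinj : Function.Injective β.hom := by
    refine (RingHom.injective_iff_ker_eq_bot _).2 (le_bot_iff.1 ?_)
    intro x hx
    have h1 : (Spec.map β) (IsLocalRing.closedPoint X.functionField) = genericPoint X := by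
      rw [hβ]; exact Scheme.fromSpecStalk_closedPoint
    have h2 : x ∈ ((Spec.map β) (IsLocalRing.closedPoint X.functionField)).asIdeal := by
      show β.hom x ∈ IsLocalRing.maximalIdeal X.functionField
      rw [show β.hom x = 0 from hx]
      exact Ideal.zero_mem _
    rw [h1, genericPoint_eq_bot_of_affine] at h2
    exact h2
  let α : FractionRing R →+* X.functionField := IsFractionRing.lift (g := β.hom) hinj
  obtain ⟨σ, hσ, -⟩ := Groth.Agent.CechTorsorX.PrueferSection.exists_section P.X.hom hX
    (Spec.map (CommRingCat.ofHom α) ≫ s) (by
      rw [Category.assoc, hs, ← hβ]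
      show Spec.map _ ≫ Spec.map _ = Spec.map β
      rw [← Spec.map_comp]
      congr 1
      ext x
      exact IsFractionRing.lift_algebraMap hinj x)
  exact ⟨σ, hσ⟩

end Groth.Agent.S18487
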