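import Groth.Statements.S18488
import Groth.Agent.DedTorsor.Extend
import Groth.Agent.CechTorsorX.H1One
-- import your own Groth.Agent.* helpers here

set_option autoImplicit false
set_option backward.isDefEq.respectTransparency false
set_option backward.isDefEq.respectTransparency.types false
universe u
open CategoryTheory CategoryTheory.Limits AlgebraicGeometry MonObj
open NonAbH1

namespace Groth.Agent.S18488

/-- Let R be a Dedekind domain with fraction field K and G a proper flat group scheme over Spec R. Then
restriction to the generic fibre, from the set of classes of G-torsors for the fppf topology (Spec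
R-schemes with a G-action, pseudo-torsors trivialised on an fppf covering family, up to equivariant
isomorphism) to the set of classes of G_K-torsors, is injective. (The source allows any connected
Dedekind scheme as base and all fppf torsors, which it shows to be schemes; the affine base and
torsors representable by schemes are stated.) -/
theorem result (R : Type u) [CommRing R] [IsDedekindDomain R]
    (G : Over (Spec (CommRingCat.of R))) [GrpObj G] [IsProper G.hom] [Flat G.hom] :
    Function.Injective (NonAbH1.H1Sch.bcMap (Neron.genPt R) G Scheme.fppfPrecoverage) := by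
  intro c c'
  induction c using Quot.ind with | _ P => ?_
  induction c' using Quot.ind with | _ Q => ?_
  intro h
  obtain ⟨e⟩ := (Groth.Agent.CechTorsorX.H1One.cl_eq_iff (P.bc (Neron.genPt R)) (Q.bc (Neron.genPt R))).1 h
  have toFpqc : ∀ {Y : Over (Spec (CommRingCat.of R))} {b : AlgGrp.Action G Y},
      NonAbH1.IsTorsorFor Scheme.fppfPrecoverage b → NonAbH1.IsTorsorFor Scheme.fpqcPrecoverage b :=
    fun h => ⟨h.1, h.2.imp fun R' hR => ⟨Scheme.fppfPrecoverage_le_fpqcPrecoverage _ hR.1, hR.2⟩⟩
  have hP := toFpqc P.isTorsor
  have hQ := toFpqc Q.isTorsor
  haveI : MorphismProperty.DescendsAlong @IsProper (@Surjective ⊓ @Flat ⊓ @QuasiCompact : MorphismProperty Scheme.{u}) :=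
    Groth.Agent.EtFound.fpqc_isProper
  haveI : IsProper P.X.hom := SchTorsor.torsor_property @IsProper hP inferInstance
  haveI : IsProper Q.X.hom := SchTorsor.torsor_property @IsProper hQ inferInstance
  haveI : Flat P.X.hom := SchTorsor.torsor_property @Flat hP inferInstance
  haveI : Flat Q.X.hom := SchTorsor.torsor_property @Flat hQ inferInstance
  haveI := SchTorsor.surjective_hom hP
  haveI := SchTorsor.surjective_hom hQ
  obtain ⟨f, hf⟩ := DedTorsor.exists_equivariant P.act Q.act hP.1 hQ.1 e.iso.hom e.comm
  haveI : IsIso f := SchTorsor.isIso_of_equivariant hP hQ.1 f hf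
  exact Quot.sound ⟨⟨asIso f, hf⟩⟩

end Groth.Agent.S18488
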