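import Groth.Statements.S1849
import Groth.Agent.TameLib.Trans
import Groth.Agent.IntThLib.Norm

set_option autoImplicit false
open Groth.Agent
universe u
open CycAlg

namespace Groth.Agent.S1849

/-- Let A be a Noetherian local ring of dimension 1 and A ⊆ B a finite extension with B/A killed by a
power of the maximal ideal 𝔪 and 𝔪 not an associated prime of the A-module B. For nonzerodivisors a,
b of A, ∂_A(a, b) is the product over the maximal ideals 𝔪_j of B of the norms from κ(𝔪_j) to κ of
∂_{B_{𝔪_j}}(a, b). -/
theorem result (A : Type u) [CommRing A] [IsNoetherianRing A] [IsLocalRing A] (hA : ringKrullDim A = 1) (B : Type u) [CommRing B] [Algebra A B] (hB : CycAlg.IsFinExt A B (IsLocalRing.maximalIdeal A)) (hass : IsLocalRing.maximalIdeal A ∉ associatedPrimes A B) [hloc : ∀ q : MaximalSpectrum B, IsLocalHom (algebraMap A (Localization.AtPrime q.asIdeal))] (a b : A) (ha : a ∈ nonZeroDivisors A) (hb : b ∈ nonZeroDivisors A) : CycAlg.tameSymbol A a b = ∏ᶠ q : MaximalSpectrum B, Algebra.norm (IsLocalRing.ResidueField A) (CycAlg.tameSymbol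 (Localization.AtPrime q.asIdeal) (algebraMap A (Localization.AtPrime q.asIdeal) a) (algebraMap A (Localization.AtPrime q.asIdeal) b)) := by
  have := IntThLib.krullDimLE_one_of_dim hA
  obtain ⟨hinj, hfin, n, hn⟩ := hB
  have hB' : TameLib.Good A B := ⟨⟨hinj, hfin, n, hn⟩, fun y hy => by
    refine mem_nonZeroDivisors_iff_right.mpr fun c hc => ?_
    by_contra hc0
    obtain ⟨P, hP, hle⟩ := exists_le_isAssociatedPrime_of_isNoetherianRing A c hc0
    refine hass ((?_ : P = IsLocalRing.maximalIdeal A) ▸ (show P ∈ associatedPrimes A B from hP))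
    refine (((IsLocalRing.maximalIdeal.isMaximal A).eq_of_le hP.isPrime.ne_top
      (hP.isPrime.le_of_pow_le (n := n) fun r hr => hle ?_))).symm
    refine Submodule.mem_colon_singleton.mpr ((Submodule.mem_bot _).mpr ?_)
    obtain ⟨α, hα⟩ := hn r hr c
    have h1 : α * y = 0 := hinj (by
      rw [map_mul, hα, map_zero, Algebra.smul_def, mul_assoc, hc, mul_zero])
    rw [← hα, (mul_right_mem_nonZeroDivisors_eq_zero_iff hy).mp h1, map_zero]⟩
  have := hB'.finite
  obtain ⟨g, hgm, hgA⟩ := TameLib.exists_regular_mem (A := A) fun h =>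
    hass (associatedPrimes.subset_of_injective (f := Algebra.linearMap A B) hinj h)
  exact TameLib.tameSymbol_trans hB' hgm hgA ha hb

end Groth.Agent.S1849
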