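import Groth.Statements.S18490
import Mathlib

set_option autoImplicit false
universe u
open CategoryTheory CategoryTheory.Limits AlgebraicGeometry
open FlatMor

namespace Groth.Agent.S18490

set_option backward.isDefEq.respectTransparency.types false

theorem flat_retract {R N M P : Type u} [CommRing R] [CommRing N] [CommRing M] [CommRing P]
    (φ : R →+* N) (j : N →+* M) (r : M →+* P) (hj : (j.comp φ).Flat)
    (hr : Function.Bijective (r.comp j)) : (r.comp (j.comp φ)).Flat := by
  letI := φ.toAlgebra
  letI := (j.comp φ).toAlgebra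
  letI := (r.comp (j.comp φ)).toAlgebra
  haveI : Module.Flat R M := hj
  let rj : N →ₐ[R] P := ⟨r.comp j, fun _ => rfl⟩
  let e : N ≃ₐ[R] P := AlgEquiv.ofBijective rj hr
  let jl : N →ₐ[R] M := ⟨j, fun _ => rfl⟩
  let rl : M →ₐ[R] P := ⟨r, fun _ => rfl⟩
  exact Module.Flat.of_retract (jl.toLinearMap.comp e.symm.toLinearMap) rl.toLinearMap
    (LinearMap.ext fun p => e.apply_symm_apply p)

/-- Let f : X → S and g : Y → S be morphisms of schemes and suppose that g has a section y : S → Y. If
the structure morphism X ×_S Y → S (first projection followed by f) is quasi-compact, then so is f;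
likewise for locally of finite type, for separated, and for flat. (Finite type, also listed in the
source, is the conjunction of the first two.) -/
theorem result {X Y S : Scheme.{u}} (f : X ⟶ S) (g : Y ⟶ S)
    (y : S ⟶ Y) (hy : y ≫ g = 𝟙 S) :
    (QuasiCompact (pullback.fst f g ≫ f) → QuasiCompact f) ∧
    (LocallyOfFiniteType (pullback.fst f g ≫ f) → LocallyOfFiniteType f) ∧
    (IsSeparated (pullback.fst f g ≫ f) → IsSeparated f) ∧
    (Flat (pullback.fst f g ≫ f) → Flat f) := by
  have hs : ∀ x, pullback.fst f g (pullback.lift (𝟙 X) (f ≫ y) (by simp [hy]) x) = x := by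
    intro x
    rw [← Scheme.Hom.comp_apply, pullback.lift_fst]; rfl
  set s := pullback.lift (f := f) (g := g) (𝟙 X) (f ≫ y) (by simp [hy]) with hsdef
  have hsp : s ≫ pullback.fst f g = 𝟙 X := pullback.lift_fst _ _ _
  have hf : f = s ≫ (pullback.fst f g ≫ f) := by rw [← Category.assoc, hsp, Category.id_comp]
  have : IsImmersion (s ≫ pullback.fst f g) := by rw [hsp]; infer_instance
  have : IsImmersion s := IsImmersion.of_comp s (pullback.fst f g)
  refine ⟨fun h => ⟨fun U hU hU' => ?_⟩, fun h => ?_, fun h => ?_, fun h => ?_⟩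
  · have hc := h.isCompact_preimage U hU hU'
    have := hc.image (pullback.fst f g).continuous
    convert this using 1
    ext x
    constructor
    · intro hx
      exact ⟨s x, by show f (pullback.fst f g (s x)) ∈ U; rw [hs x]; exact hx, hs x⟩
    · rintro ⟨z, hz, rfl⟩
      exact hz
  · rw [hf]; infer_instance
  · rw [hf]; infer_instance
  · refine Flat.of_stalkMap f fun x => ?_
    have hj := Flat.stalkMap (pullback.fst f g ≫ f) (s x)
    have key : f.stalkMap x = (S.presheaf.stalkCongr (.of_eq (congrArg (fun h : X ⟶ S => h x) hf))).hom ≫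
        (pullback.fst f g ≫ f).stalkMap (s x) ≫ s.stalkMap x := by
      exact (Scheme.Hom.stalkMap_congr_hom _ _ hf x).trans
        (congrArg ((S.presheaf.stalkCongr _).hom ≫ ·) (Scheme.Hom.stalkMap_comp s (pullback.fst f g ≫ f) x))
    have hr : Function.Bijective ((pullback.fst f g).stalkMap (s x) ≫ s.stalkMap x).hom := by
      rw [← Scheme.Hom.stalkMap_comp, Scheme.Hom.stalkMap_congr_hom _ _ hsp x,
        Scheme.Hom.stalkMap_id]
      exact (Function.bijective_id.comp (ConcreteCategory.bijective_of_isIso (X.presheaf.stalkCongr (.of_eq (hs x))).hom))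
    rw [key]
    refine RingHom.Flat.comp (RingHom.Flat.of_bijective (ConcreteCategory.bijective_of_isIso _)) ?_
    rw [Scheme.Hom.stalkMap_comp] at hj ⊢
    exact flat_retract (f.stalkMap _).hom ((pullback.fst f g).stalkMap (s x)).hom (s.stalkMap x).hom hj hr

end Groth.Agent.S18490
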