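import Groth.Statements.S18493
import Groth.Agent.S18485
import Groth.Agent.NQF.OpenAffine
import Groth.Agent.NQF.Main
import Groth.Agent.ConsPropLib.QFFactor

set_option autoImplicit false
universe u
open CategoryTheory CategoryTheory.Limits AlgebraicGeometry MonObj
open Neron

namespace Groth.Agent.S18493

/-- Let R be a Dedekind domain with fraction field K, let A and B be group schemes over Spec R which are
Néron models of their generic fibres, both abelian varieties over K (proper and geometrically
integral), let φ : A → B be a homomorphism whose generic fibre is an isogeny (surjective with finite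
kernel), and let i : N → A be a kernel of φ (cartesian square against the unit section of B). If φ
is flat, then N → Spec R is locally quasi-finite, of finite type, flat and affine; if moreover A is
proper over Spec R then N → Spec R is finite. -/
theorem result (R : Type u) [CommRing R]
    [IsDedekindDomain R] (A B : Over (Spec (CommRingCat.of R))) [GrpObj A] [GrpObj B]
    (hA : Neron.IsNeronModelOf R A ((Neron.genericFibre R).obj A) (Iso.refl _))
    (hB : Neron.IsNeronModelOf R B ((Neron.genericFibre R).obj B) (Iso.refl _))
    [IsProper ((Neron.genericFibre R).obj A).hom] [GeometricallyIntegral ((Neron.genericFibre R).obj A).hom]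
    [IsProper ((Neron.genericFibre R).obj B).hom] [GeometricallyIntegral ((Neron.genericFibre R).obj B).hom]
    (φ : A ⟶ B) [IsMonHom φ] (hφ : SGA7.IsIsogenyOver ((Neron.genericFibre R).map φ)) [Flat φ.left]
    (N : Over (Spec (CommRingCat.of R))) (i : N ⟶ A) (hN : AlgGrp.IsKernel i φ) :
    (LocallyQuasiFinite N.hom ∧ QuasiCompact N.hom ∧ Flat N.hom ∧ IsAffineHom N.hom) ∧
    (IsProper A.hom → IsFinite N.hom) := by
  obtain ⟨hAs, hAsep, hAlft, hAqc, hAb⟩ := id hA
  obtain ⟨hBs, hBsep, hBlft, hBqc, hBb⟩ := id hB
  haveI := hAs
  haveI := hAsep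
  haveI := hAqc
  haveI := hBsep
  haveI : LocallyOfFiniteType (φ.left ≫ B.hom) := by rw [Over.w φ]; infer_instance
  haveI : LocallyOfFiniteType φ.left := locallyOfFiniteType_of_comp φ.left B.hom
  haveI : QuasiCompact (φ.left ≫ B.hom) := by rw [Over.w φ]; infer_instance
  haveI : QuasiCompact φ.left := QuasiCompact.of_comp φ.left B.hom
  haveI : IsSeparated (φ.left ≫ B.hom) := by rw [Over.w φ]; infer_instance
  haveI : IsSeparated φ.left := IsSeparated.of_comp φ.left B.hom
  have sqN : IsPullback i.left N.hom φ.left η[B].left := Groth.Agent.GrpSchLib.HomKer.kernel_square (u := φ) i hN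
  haveI : Flat N.hom := MorphismProperty.of_isPullback (P := @Flat) sqN ‹_›
  haveI : LocallyOfFiniteType N.hom := MorphismProperty.of_isPullback (P := @LocallyOfFiniteType) sqN ‹_›
  haveI : QuasiCompact N.hom := MorphismProperty.of_isPullback (P := @QuasiCompact) sqN ‹_›
  haveI : IsSeparated N.hom := MorphismProperty.of_isPullback (P := @IsSeparated) sqN ‹_›
  haveI : IsFinite ((Neron.genericFibre R).obj N).hom := hφ.2 _ _ (Groth.Agent.NQF.isKernel_bc' _ hN)
  haveI : LocallyQuasiFinite N.hom := Groth.Agent.S18485.result R N
  refine ⟨⟨‹_›, ‹_›, ‹_›, Groth.Agent.NQF.isAffineHom_of_lqf N.hom⟩, fun hp => ?_⟩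
  haveI := hp
  haveI : IsClosedImmersion η[B].left := by
    haveI : IsClosedImmersion (η[B].left ≫ B.hom) := by
      rw [Over.w η[B]]
      exact inferInstanceAs (IsClosedImmersion (𝟙 _))
    exact IsClosedImmersion.of_comp η[B].left B.hom
  haveI : IsClosedImmersion i.left := MorphismProperty.of_isPullback (P := @IsClosedImmersion) sqN.flip ‹_›
  haveI : IsProper N.hom := by rw [← Over.w i]; infer_instance
  exact IsFinite.of_isProper_of_locallyQuasiFinite N.hom

end Groth.Agent.S18493
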