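import Groth.Statements.S18494
import Groth.Agent.NIsog.Kernel
import Groth.Agent.S18484

set_option autoImplicit false
universe u
open CategoryTheory CategoryTheory.Limits AlgebraicGeometry MonObj
open Neron

namespace Groth.Agent.S18494

open AlgebraicGeometry in
theorem geometricallyConnected_of_integral {X Y : Scheme.{u}} (f : X ⟶ Y) [GeometricallyIntegral f] :
    GeometricallyConnected f := by
  refine ⟨fun K _ y Z fst snd h => ?_⟩
  haveI := GeometricallyIntegral.geometrically_isIntegral (f := f) y fst snd h
  infer_instance

/-- Let R be a Dedekind domain with fraction field K, let A and B be group schemes over Spec R which are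
Néron models of their generic fibres, both abelian varieties over K (proper and geometrically
integral), let φ : A → B be a homomorphism whose generic fibre φ_K is an isogeny (surjective with
finite kernel), and let i : N → A be a kernel of φ. If the degree of φ_K, that is the order of the
finite K-group scheme N_K (its rank over Spec K), is a unit in R, then N is a Néron model of its
generic fibre N_K (smooth, separated, of finite type, with the Néron mapping property for smooth
Spec R-schemes) and N → Spec R is étale. -/
theorem result (R : Type u) [CommRing R]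
    [IsDedekindDomain R] (A B : Over (Spec (CommRingCat.of R))) [GrpObj A] [GrpObj B]
    (hA : Neron.IsNeronModelOf R A ((Neron.genericFibre R).obj A) (Iso.refl _))
    (hB : Neron.IsNeronModelOf R B ((Neron.genericFibre R).obj B) (Iso.refl _))
    [IsProper ((Neron.genericFibre R).obj A).hom] [GeometricallyIntegral ((Neron.genericFibre R).obj A).hom]
    [IsProper ((Neron.genericFibre R).obj B).hom] [GeometricallyIntegral ((Neron.genericFibre R).obj B).hom]
    (φ : A ⟶ B) [IsMonHom φ] (hφ : SGA7.IsIsogenyOver ((Neron.genericFibre R).map φ))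
    (N : Over (Spec (CommRingCat.of R))) (i : N ⟶ A) (hN : AlgGrp.IsKernel i φ)
    (hdeg : ∀ x : ↥(Spec (CommRingCat.of (FractionRing R))),
      IsUnit ((((Neron.genericFibre R).obj N).hom.finrank x : ℕ) : R)) :
    Neron.IsNeronModelOf R N ((Neron.genericFibre R).obj N) (Iso.refl _) ∧ Etale N.hom := by
  obtain ⟨hAs, hAsep, hAlft, hAqc, hAb⟩ := id hA
  obtain ⟨hBs, hBsep, hBlft, hBqc, hBb⟩ := id hB
  haveI := hAs
  haveI := hBs
  haveI := hAsep
  haveI := hBsep
  haveI := hAqc
  haveI := hBqc
  let j := Neron.genPt R
  haveI : IsProper (Red.bc j A).hom := inferInstanceAs (IsProper ((Neron.genericFibre R).obj A).hom)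
  haveI : IsProper (Red.bc j B).hom := inferInstanceAs (IsProper ((Neron.genericFibre R).obj B).hom)
  haveI : GeometricallyIntegral (Red.bc j A).hom :=
    inferInstanceAs (GeometricallyIntegral ((Neron.genericFibre R).obj A).hom)
  haveI : GeometricallyIntegral (Red.bc j B).hom :=
    inferInstanceAs (GeometricallyIntegral ((Neron.genericFibre R).obj B).hom)
  haveI : Smooth (Red.bc j A).hom := inferInstanceAs (Smooth (Limits.pullback.snd A.hom j))
  haveI : Smooth (Red.bc j B).hom := inferInstanceAs (Smooth (Limits.pullback.snd B.hom j))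
  haveI : GeometricallyConnected (Red.bc j A).hom :=
    geometricallyConnected_of_integral _
  haveI : GeometricallyConnected (Red.bc j B).hom :=
    geometricallyConnected_of_integral _
  haveI : IsCommMonObj (Red.bc j A) := Groth.Agent.S7785.result _
  haveI : IsCommMonObj (Red.bc j B) := Groth.Agent.S7785.result _
  haveI := Groth.Agent.NIsog.isCommMonObj_of_genericFibre A
  haveI := Groth.Agent.NIsog.isCommMonObj_of_genericFibre B
  let φK : Red.bc j A ⟶ Red.bc j B := (Over.pullback j).map φ
  haveI : IsMonHom φK := by open scoped CategoryTheory.Obj in exact inferInstanceAs (IsMonHom ((Over.pullback j).map φ))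
  haveI : Surjective φK.left := hφ.1
  have hker := Groth.Agent.NIsog.isKernel_bc j hN
  haveI : IsFinite (Red.bc j N).hom := hφ.2 _ _ hker
  let n := (Red.bc j N).hom.finrank (IsLocalRing.closedPoint (FractionRing R))
  have hn : ∀ s, (Red.bc j N).hom.finrank s = n := fun s =>
    congrArg _ (Subsingleton.elim (α := PrimeSpectrum (FractionRing R)) _ _)
  have hres : ∀ s : ↥(Spec (CommRingCat.of R)), (n : (Spec (CommRingCat.of R)).residueField s) ≠ 0 := fun s => by
    have h : IsUnit (n : Γ(Spec (CommRingCat.of R), ⊤)) := by
      have h0 : IsUnit ((n : ℕ) : R) := hdeg (IsLocalRing.closedPoint (FractionRing R))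
      simpa using h0.map (Scheme.ΓSpecIso (CommRingCat.of R)).inv.hom
    simpa using (h.map ((Spec (CommRingCat.of R)).evaluation ⊤ s trivial).hom).ne_zero
  obtain ⟨g, hg⟩ := Groth.Agent.NIsog.exists_factor_pow φK _ hker n hn
  obtain ⟨ψ, hψ⟩ := (hAb B hBs).2 g
  simp only [Iso.refl_hom, Category.comp_id] at hψ
  have hcomp : φ ≫ ψ = (𝟙 A : A ⟶ A) ^ n := by
    apply Groth.Agent.NeronBasic.eq_of_map_genericFibre R
    refine (Functor.map_comp _ _ _).trans ((congrArg (φK ≫ ·) hψ).trans (hg.trans ?_))
    exact ((Groth.Agent.NTors.map_pow j (𝟙 A) n).trans (congrArg (fun m : Red.bc j A ⟶ Red.bc j A => m ^ n)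
      ((Over.pullback j).map_id A))).symm
  obtain ⟨het, hci⟩ := Groth.Agent.NIsog.etale_kernel φ ψ n hcomp hres i hN
  haveI := hci
  haveI := het
  haveI : Smooth N.hom := inferInstance
  exact ⟨Groth.Agent.S18484.result R A N hA i, het⟩

end Groth.Agent.S18494
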