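import Groth.Statements.S1850
import Groth.Agent.TameLib.FlatBC
import Groth.Agent.IntThLib.Norm

set_option autoImplicit false
open Groth.Agent
universe u
open CycAlg

namespace Groth.Agent.S1850

/-- Let A → A' be a flat local homomorphism of Noetherian local rings of dimension 1 and m =
length_{A'}(A'/𝔪_A A'). For nonzerodivisors a₁, a₂ of A the image of ∂_A(a₁, a₂)^m in the residue
field of A' equals ∂_{A'}(a₁, a₂). -/
theorem result (A A' : Type u) [CommRing A] [CommRing A'] [IsNoetherianRing A] [IsNoetherianRing A'] [IsLocalRing A] [IsLocalRing A'] [Algebra A A'] [IsLocalHom (algebraMap A A')] [Module.Flat A A'] (hA : ringKrullDim A = 1) (hA' : ringKrullDim A' = 1) (a₁ a₂ : A) (h₁ : a₁ ∈ nonZeroDivisors A) (h₂ : a₂ ∈ nonZeroDivisors A) : IsLocalRing.ResidueField.map (algebraMap A A') (CycAlg.tameSymbol A a₁ a₂) ^ (Module.length A' (A' ⧸ Ideal.map (algebraMap A A') (IsLocalRing.maximalIdeal A))).toNat = CycAlg.tameSymbol A' (algebraMap A A' a₁) (algebraMap A A' a₂)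 := by
  have := IntThLib.krullDimLE_one_of_dim hA
  have := IntThLib.krullDimLE_one_of_dim hA'
  by_cases h : ∃ g ∈ IsLocalRing.maximalIdeal A, g ∈ nonZeroDivisors A
  · obtain ⟨g, hgm, hgA⟩ := h
    exact TameLib.tameSymbol_baseChange hgm hgA h₁ h₂
  have hu : ∀ x ∈ nonZeroDivisors A, IsUnit x := fun x hx => by
    by_contra hn
    exact h ⟨x, (IsLocalRing.mem_maximalIdeal x).mpr hn, hx⟩
  have key : ∀ (R : Type u) [CommRing R] [IsNoetherianRing R] [IsLocalRing R] [Ring.KrullDimLE 1 R] (x y : R),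
      IsUnit x → IsUnit y → CycAlg.tameSymbol R x y = 1 := fun R _ _ _ _ x y hx hy => by
    obtain ⟨c, rfl⟩ := hx
    rw [TameLib.laws.2.2.2.1 c y hy.mem_nonZeroDivisors, Ideal.span_singleton_eq_top.mpr hy, Module.length_eq_zero,
      ENat.toNat_zero, pow_zero]
  rw [key A _ _ (hu _ h₁) (hu _ h₂), key A' _ _ ((hu _ h₁).map _) ((hu _ h₂).map _), map_one, one_pow]

end Groth.Agent.S1850
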