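import Groth.Statements.S18502
import Groth.Agent.GITQuot.Func
import Mathlib.AlgebraicGeometry.Morphisms.Separated
-- import your own Groth.Agent.* helpers here

set_option autoImplicit false
universe u
open CategoryTheory MonoidalCategory CartesianMonoidalCategory MonObj GrpObj AlgebraicGeometry Topology
open EqInt

namespace Groth.Agent.S18502

/-- Over a field k, let an affine group scheme G of finite type act on X, let X and Y be separated and
of finite type over k, and let φ : X → Y be G-invariant, flat and surjective with (σ, p₂) : G × X →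
X ×_Y X an isomorphism (X is a principal G-bundle over Y). Conclusion: the pair (Y, φ) realizes Y as
a geometric quotient of X under G, and G acts freely, meaning (σ, p₂) : G × X → X × X is a closed
immersion. (The source takes X and Y integral; integrality plays no role. A geometric quotient is
taken here with φ universally submersive.) -/
theorem result (k : Type u) [Field k]
    (G X Y : Over (Spec (CommRingCat.of k))) [GrpObj G] [IsAffine G.left] [LocallyOfFiniteType G.hom]
    [LocallyOfFiniteType X.hom] [QuasiCompact X.hom] [IsSeparated X.hom]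
    [LocallyOfFiniteType Y.hom] [QuasiCompact Y.hom] [IsSeparated Y.hom]
    (a : AlgGrp.Action G X) (φ : X ⟶ Y) (hinv : GIT.IsInvariant a φ) [Flat φ.left] [Surjective φ.left]
    (hcart : IsIso (GIT.PsiY a φ hinv)) :
    GIT.IsGeomQuot a φ ∧ IsClosedImmersion (GIT.psi a (𝟙 X)).left := by
  haveI : QuasiCompact (φ.left ≫ Y.hom) := by rw [Over.w]; infer_instance
  haveI : QuasiCompact φ.left := QuasiCompact.of_comp φ.left Y.hom
  haveI := hcart
  refine ⟨GITQuot.isGeomQuot_of_flat hinv, ?_⟩
  have hfac : (GIT.psi a (𝟙 X)).left = GIT.PsiY a φ hinv ≫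
      Limits.pullback.map φ.left φ.left X.hom X.hom (𝟙 _) (𝟙 _) Y.hom (by simp [Over.w]) (by simp [Over.w]) := by
    apply Limits.pullback.hom_ext
    · have h1 : (GIT.psi a (𝟙 X)).left ≫ Limits.pullback.fst X.hom X.hom = a.act.left := by
        show (GIT.psi a (𝟙 X)).left ≫ (fst X X).left = _
        rw [← Over.comp_left, GIT.psi, lift_fst]
        simp
      refine h1.trans ?_
      have h2 : GIT.PsiY a φ hinv ≫ Limits.pullback.fst φ.left φ.left = a.act.left := Limits.pullback.lift_fst _ _ _
      rw [Category.assoc, Limits.pullback.lift_fst, Category.comp_id, h2]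
    · have h1 : (GIT.psi a (𝟙 X)).left ≫ Limits.pullback.snd X.hom X.hom = (snd G X).left := by
        show (GIT.psi a (𝟙 X)).left ≫ (snd X X).left = _
        rw [← Over.comp_left, GIT.psi, lift_snd]
      refine h1.trans ?_
      have h2 : GIT.PsiY a φ hinv ≫ Limits.pullback.snd φ.left φ.left = (snd G X).left := Limits.pullback.lift_snd _ _ _
      rw [Category.assoc, Limits.pullback.lift_snd, Category.comp_id, h2]
  rw [hfac]
  have hw : φ.left ≫ Y.hom = X.hom := Over.w φ
  haveI : IsClosedImmersion (Limits.pullback.map φ.left φ.left X.hom X.hom (𝟙 _) (𝟙 _) Y.hom (by simp [Over.w]) (by simp [Over.w])) := by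
    have gen : ∀ (x : X.left ⟶ Spec (CommRingCat.of k)) (e : φ.left ≫ Y.hom = x),
        IsClosedImmersion (Limits.pullback.map φ.left φ.left x x (𝟙 _) (𝟙 _) Y.hom (by simp [e]) (by simp [e])) := by
      intro x e
      subst e
      exact (inferInstance : IsClosedImmersion (Limits.pullback.mapDesc φ.left φ.left Y.hom))
    exact gen X.hom hw
  infer_instance

end Groth.Agent.S18502
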