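import Groth.Statements.S18503
import Groth.Agent.GrpSchLib.UnramifiedFibre
import Mathlib.AlgebraicGeometry.Morphisms.UniversallyInjective
import Mathlib.AlgebraicGeometry.ZariskisMainTheorem
-- import your own Groth.Agent.* helpers here

set_option autoImplicit false
universe u
open CategoryTheory MonoidalCategory CartesianMonoidalCategory MonObj GrpObj AlgebraicGeometry Topology
open EqInt

namespace Groth.Agent.S18503

theorem mono_of_fibres_iso {W Z : Scheme.{u}} (π : W ⟶ Z) [LocallyOfFiniteType π]
    (h : ∀ z : Z, IsIso (π.fiberToSpecResidueField z)) : Mono π := by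
  haveI : FormallyUnramified π := GrpSchLib.formallyUnramified_of_fibres π fun z => by
    haveI := h z
    infer_instance
  haveI : UniversallyInjective π := by
    refine ((tfae_universallyInjective π).out 0 1).mpr ?_
    intro K _ g₁ g₂ hg
    obtain ⟨ρ, hρ⟩ : ∃ ρ, g₁ ≫ π = Spec.map ρ ≫ Z.fromSpecResidueField ((g₁ ≫ π).base (IsLocalRing.closedPoint K)) :=
      ⟨_, (Scheme.descResidueField_stalkClosedPointTo_fromSpecResidueField (CommRingCat.of K) Z (g₁ ≫ π)).symm⟩
    haveI := h ((g₁ ≫ π).base (IsLocalRing.closedPoint K))
    have hg' : g₂ ≫ π = g₁ ≫ π := hg.symm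
    have e : Limits.pullback.lift g₁ (Spec.map ρ) hρ = Limits.pullback.lift g₂ (Spec.map ρ) (hg'.trans hρ) := by
      refine (cancel_mono (π.fiberToSpecResidueField ((g₁ ≫ π).base (IsLocalRing.closedPoint K)))).mp ?_
      exact (Limits.pullback.lift_snd _ _ _).trans (Limits.pullback.lift_snd _ _ _).symm
    have e' := congrArg (fun t => t ≫ Limits.pullback.fst _ _) e
    simpa only [Limits.pullback.lift_fst] using e'
  haveI : Surjective (Limits.pullback.diagonal π) := (UniversallyInjective.iff_diagonal π).mp inferInstance
  haveI : IsIso (Limits.pullback.diagonal π) :=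
    (isIso_iff_isOpenImmersion_and_epi_base _).mpr
      ⟨inferInstance, (TopCat.epi_iff_surjective _).mpr (Limits.pullback.diagonal π).surjective⟩
  exact (Limits.pullback.isIso_diagonal_iff π).mp inferInstance

/-- Over a field k, let an affine group scheme G of finite type act on a quasi-separated scheme X of
finite type over k. If the action is proper (the morphism (σ, p₂) : G × X → X × X is proper) and the
stabilizer of every point is trivial (for each point x of X the fibre over x of the stabilizer group
scheme (G × X) ×_{X × X} X → X, the pullback of (σ, p₂) along the diagonal, is Spec κ(x) through its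
structure map), then the action is free: (σ, p₂) is a closed immersion. (Stated for X a scheme; the
source allows an algebraic space.) -/
theorem result (k : Type u) [Field k]
    (G X : Over (Spec (CommRingCat.of k))) [GrpObj G] [IsAffine G.left] [LocallyOfFiniteType G.hom]
    [LocallyOfFiniteType X.hom] [QuasiCompact X.hom] [QuasiSeparated X.hom]
    (a : AlgGrp.Action G X) (hp : IsProper (GIT.psi a (𝟙 X)).left)
    (htriv : ∀ x : ↥X.left, IsIso ((Limits.pullback.snd (GIT.psi a (𝟙 X)).left
      (CartesianMonoidalCategory.lift (𝟙 X) (𝟙 X)).left).fiberToSpecResidueField x)) :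
    IsClosedImmersion (GIT.psi a (𝟙 X)).left := by
  let π := Limits.pullback.snd (GIT.psi a (𝟙 X)).left (CartesianMonoidalCategory.lift (𝟙 X) (𝟙 X)).left
  haveI := hp
  haveI : LocallyOfFiniteType (GIT.psi a (𝟙 X)).left := hp.toLocallyOfFiniteType
  haveI : LocallyOfFiniteType π := inferInstanceAs (LocallyOfFiniteType (Limits.pullback.snd _ _))
  haveI : Mono π := mono_of_fibres_iso π htriv
  haveI : Mono (GIT.psi a (𝟙 X)).left := by
    refine ⟨fun {Z} u v huv => ?_⟩
    let T : Over (Spec (CommRingCat.of k)) := Over.mk (u ≫ (G ⊗ X).hom)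
    let p : T ⟶ G ⊗ X := Over.homMk u rfl
    let q : T ⟶ G ⊗ X := Over.homMk v (by
      show v ≫ (G ⊗ X).hom = u ≫ (G ⊗ X).hom
      rw [← Over.w (GIT.psi a (𝟙 X)), ← Category.assoc, ← huv, Category.assoc])
    have hpq : p ≫ GIT.psi a (𝟙 X) = q ≫ GIT.psi a (𝟙 X) := Over.OverMorphism.ext huv
    have hx : p ≫ snd G X = q ≫ snd G X := by
      simpa [GIT.psi] using congrArg (fun T => T ≫ snd X X) hpq
    have ha : p ≫ a.act = q ≫ a.act := by
      simpa [GIT.psi] using congrArg (fun T => T ≫ fst X X) hpq
    set x := p ≫ snd G X with hxdef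
    set g := p ≫ fst G X with hg
    set g' := q ≫ fst G X with hg'
    have hpx : p = lift g x := by apply CartesianMonoidalCategory.hom_ext <;> simp [hg, hxdef]
    have hqx : q = lift g' x := by apply CartesianMonoidalCategory.hom_ext <;> simp [hg', hx]
    have hmul : ∀ (r s : T ⟶ G) (y : T ⟶ X), lift r (lift s y ≫ a.act) ≫ a.act = lift (r * s) y ≫ a.act := by
      intro r s y
      have h := congrArg (lift (lift r s) y ≫ ·) a.mul_act
      simp only [← Category.assoc, lift_whiskerRight, lift_lift_associator_hom, lift_whiskerLeft] at h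
      exact h.symm
    have hone : lift (1 : T ⟶ G) x ≫ a.act = x := by
      have h := congrArg (lift (toUnit T) x ≫ ·) a.one_act
      simp only [← Category.assoc, lift_whiskerRight] at h
      exact h.trans (lift_snd _ _)
    have hfix : lift (g'⁻¹ * g) x ≫ a.act = x := by
      rw [← hmul, ← hpx, ha, hqx, hmul, inv_mul_cancel, hone]
    have hdiag : ∀ (r : T ⟶ G), lift r x ≫ a.act = x →
        (lift r x).left ≫ (GIT.psi a (𝟙 X)).left = x.left ≫ (CartesianMonoidalCategory.lift (𝟙 X) (𝟙 X)).left := by
      intro r hr
      rw [← Over.comp_left, ← Over.comp_left]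
      refine congrArg CommaMorphism.left ?_
      apply CartesianMonoidalCategory.hom_ext
      · simpa [GIT.psi] using hr
      · simp [GIT.psi]
    have e : Limits.pullback.lift _ _ (hdiag _ hfix) = Limits.pullback.lift _ _ (hdiag _ hone) := by
      rw [← cancel_mono π, Limits.pullback.lift_snd, Limits.pullback.lift_snd]
    have e' := congrArg (fun t => t ≫ Limits.pullback.fst _ _) e
    simp only [Limits.pullback.lift_fst] at e'
    have e'' : g'⁻¹ * g = 1 := by
      have := congrArg (fun t : T ⟶ G ⊗ X => t ≫ fst G X) (Over.OverMorphism.ext e' : lift (g'⁻¹ * g) x = lift 1 x)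
      simpa using this
    have hgg : g = g' := (inv_mul_eq_one.mp e'').symm
    have : p = q := by rw [hpx, hqx, hgg]
    exact congrArg CommaMorphism.left this
  exact (IsClosedImmersion.iff_isProper_and_mono _).mpr ⟨hp, inferInstance⟩

end Groth.Agent.S18503
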