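import Groth.Statements.S18505
import Groth.Agent.S9821
import Groth.Agent.Triage.NormInX
import Mathlib.AlgebraicGeometry.Morphisms.Flat
import Mathlib.RingTheory.Flat.TorsionFree
-- import your own Groth.Agent.* helpers here

set_option autoImplicit false
universe u
open CategoryTheory MonoidalCategory CartesianMonoidalCategory MonObj GrpObj AlgebraicGeometry Topology
open EqInt

namespace Groth.Agent.S18505

theorem appLE_congr_hom {Z Y : Scheme.{u}} {f g : Z ⟶ Y} (h : f = g) {U : Y.Opens} {W : Z.Opens}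
    (e : W ≤ f ⁻¹ᵁ U) (e' : W ≤ g ⁻¹ᵁ U) : f.appLE U W e = g.appLE U W e' := by
  subst h; rfl

theorem eq_zero_of_appLE_mul_eq_zero {Z X : Scheme.{u}} (q : Z ⟶ X) [Flat q] [IsIntegral X]
    {V : X.Opens} {c : Γ(X, V)} (hc : c ≠ 0) {W : Z.Opens} (hW : W ≤ q ⁻¹ᵁ V) {z : Γ(Z, W)}
    (hz : q.appLE V W hW c * z = 0) : z = 0 := by
  have hloc : ∀ w : W, ∃ (V' : X.Opens) (U' : Z.Opens) (_ : IsAffineOpen V') (_ : IsAffineOpen U') (_ : V' ≤ V)
      (_ : U' ≤ W) (_ : U' ≤ q ⁻¹ᵁ V'), w.1 ∈ U' := by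
    rintro ⟨w, hw⟩
    obtain ⟨_, ⟨V', hV', rfl⟩, hwV', hV'V⟩ := X.isBasis_affineOpens.exists_subset_of_mem_open
      (show q.base w ∈ (V : Set X) from hW hw) V.isOpen
    obtain ⟨_, ⟨U', hU', rfl⟩, hwU', hU'W⟩ := Z.isBasis_affineOpens.exists_subset_of_mem_open
      (show w ∈ ((W ⊓ q ⁻¹ᵁ V' : Z.Opens) : Set Z) from ⟨hw, hwV'⟩) (W ⊓ q ⁻¹ᵁ V').isOpen
    exact ⟨V', U', hV', hU', hV'V, fun _ ht => (hU'W ht).1, fun _ ht => (hU'W ht).2, hwU'⟩
  choose V' U' hV' hU' hVV hUW hUV hwU using hloc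
  refine TopCat.Sheaf.eq_of_locally_eq' Z.sheaf U' W (fun i => homOfLE (hUW i))
    (fun w hw => TopologicalSpace.Opens.mem_iSup.2 ⟨⟨w, hw⟩, hwU ⟨w, hw⟩⟩) z 0 fun i => ?_
  haveI : Nonempty (V' i : X.Opens) := ⟨⟨q.base i.1, hUV i (hwU i)⟩⟩
  let ρ := (q.appLE (V' i) (U' i) (hUV i)).hom
  have hflat : ρ.Flat := HasRingHomProperty.appLE @Flat q ‹_› ⟨V' i, hV' i⟩ ⟨U' i, hU' i⟩ (hUV i)
  letI : Algebra Γ(X, V' i) Γ(Z, U' i) := ρ.toAlgebra
  haveI : Module.Flat Γ(X, V' i) Γ(Z, U' i) := hflat
  let cr := X.presheaf.map (homOfLE (hVV i)).op c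
  have hcr : cr ≠ 0 := fun h0 => hc (map_injective_of_isIntegral X (homOfLE (hVV i)) (h0.trans (map_zero _).symm))
  refine Eq.trans ?_ (map_zero (Z.presheaf.map (homOfLE (hUW i)).op).hom).symm
  have hreg : IsSMulRegular Γ(Z, U' i) cr :=
    Module.Flat.isSMulRegular_of_nonZeroDivisors (mem_nonZeroDivisors_of_ne_zero hcr)
  apply hreg
  show ρ cr * _ = cr • (0 : Γ(Z, U' i))
  rw [smul_zero]
  have e : ρ cr = Z.presheaf.map (homOfLE (hUW i)).op (q.appLE V W hW c) := by
    show (X.presheaf.map _ ≫ q.appLE _ _ _) c = (q.appLE _ _ _ ≫ Z.presheaf.map _) c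
    rw [Scheme.Hom.map_appLE, Scheme.Hom.appLE_map]
  rw [e]
  exact (map_mul (Z.presheaf.map (homOfLE (hUW i)).op).hom _ z).symm.trans (by rw [hz]; exact map_zero _)

/-- Over an algebraically closed field k of characteristic zero, let an affine group scheme G of finite
type act on a normal variety X (integral, separated, of finite type over k, with integrally closed
local rings) and let (Y, φ) be a geometric quotient of X by G with Y separated of finite type over
k. Then Y is normal. (The other two conditions of the published criterion are immediate from the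
definition of a geometric quotient, and its converse rests on a result quoted there without proof;
only this implication is stated. A geometric quotient is taken here with φ universally submersive.) -/
theorem result (k : Type u) [Field k] [IsAlgClosed k] [CharZero k]
    (G X Y : Over (Spec (CommRingCat.of k))) [GrpObj G] [IsAffine G.left] [LocallyOfFiniteType G.hom]
    [LocallyOfFiniteType X.hom] [QuasiCompact X.hom] [IsSeparated X.hom] [IsIntegral X.left]
    (hX : Pi1.IsNormalScheme X.left)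
    [LocallyOfFiniteType Y.hom] [QuasiCompact Y.hom] [IsSeparated Y.hom]
    (a : AlgGrp.Action G X) (φ : X ⟶ Y) (h : GIT.IsGeomQuot a φ) :
    Pi1.IsNormalScheme Y.left := by
  haveI : Flat G.hom := inferInstance
  haveI : Flat (snd G X).left := inferInstanceAs (Flat (Limits.pullback.snd G.hom X.hom))
  haveI : IrreducibleSpace Y.left := by
    have h1 : IsIrreducible (Set.range φ.left.base) := by
      rw [← Set.image_univ]
      exact (IrreducibleSpace.isIrreducible_univ _).image _ φ.left.base.hom.continuous.continuousOn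
    rw [Set.range_eq_univ.2 h.surj] at h1
    exact { toPreirreducibleSpace := ⟨h1.2⟩, toNonempty := ⟨h1.1.some⟩ }
  haveI : IsReduced Y.left := ⟨fun U => isReduced_of_injective (φ.left.app U).hom (h.sections U).1⟩
  haveI : IsIntegral Y.left := isIntegral_of_irreducibleSpace_of_isReduced _
  refine (Groth.Agent.S9821.result Y.left).2 fun U hne hU => ?_
  obtain ⟨⟨y, hy⟩⟩ := hne
  obtain ⟨x, hx⟩ := h.surj y
  have hxV : x ∈ φ.left ⁻¹ᵁ U := by show φ.left.base x ∈ U; rw [hx]; exact hy
  have hξ : genericPoint X.left ∈ φ.left ⁻¹ᵁ U :=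
    (genericPoint_specializes x).mem_open (φ.left ⁻¹ᵁ U).isOpen hxV
  haveI : Nonempty U := ⟨⟨y, hy⟩⟩
  haveI : Nonempty (φ.left ⁻¹ᵁ U : X.left.Opens) := ⟨⟨x, hxV⟩⟩
  let γ := (X.left.presheaf.germ (φ.left ⁻¹ᵁ U) (genericPoint X.left) hξ).hom
  let A : CommRingCat := Γ(Y.left, U)
  let K := FractionRing A
  let f : A →+* X.left.functionField := γ.comp (φ.left.app U).hom
  have hγ : Function.Injective γ := germ_injective_of_isIntegral X.left (genericPoint X.left) hξ
  have hf : Function.Injective f := hγ.comp (h.sections U).1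
  let L : K →+* X.left.functionField := IsFractionRing.lift hf
  have hL : ∀ t, L (algebraMap A K t) = f t := fun t => IsFractionRing.lift_algebraMap hf t
  refine (isIntegrallyClosed_iff K).2 fun {z} hz => ?_
  obtain ⟨P, hP, hP0⟩ := hz
  obtain ⟨s, hs⟩ := Groth.Agent.Triage.NormInX.exists_section (fun q => (hX q).2) hξ (L z)
    ⟨P.map (φ.left.app U).hom, hP.map _, by
      rw [Polynomial.eval₂_map]
      have := congrArg L hP0
      rw [Polynomial.hom_eval₂, map_zero] at this
      have e : L.comp (algebraMap A K) = f := RingHom.ext hL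
      rw [e] at this
      exact this⟩
  obtain ⟨a₁, b₁, hb, hab⟩ := IsFractionRing.div_surjective (A := A) z
  have hmul : s * (φ.left.app U).hom b₁ = (φ.left.app U).hom a₁ := by
    apply hγ
    rw [map_mul, show γ s = L z from hs]
    show L z * f b₁ = f a₁
    rw [← hL, ← hL, ← map_mul, ← hab, div_mul_cancel₀]
    simpa using nonZeroDivisors.ne_zero hb
  have hb0 : (φ.left.app U).hom b₁ ≠ 0 := fun h0 =>
    nonZeroDivisors.ne_zero hb ((h.sections U).1 (h0.trans (map_zero _).symm))
  have hinv : GIT.IsInvSection a φ U s := by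
    unfold GIT.IsInvSection
    let W : (G ⊗ X).left.Opens := a.act.left ⁻¹ᵁ (φ.left ⁻¹ᵁ U) ⊓ (snd G X).left ⁻¹ᵁ (φ.left ⁻¹ᵁ U)
    let σW := a.act.left.appLE (φ.left ⁻¹ᵁ U) W inf_le_left
    let pW := (snd G X).left.appLE (φ.left ⁻¹ᵁ U) W inf_le_right
    have key : ∀ t, σW ((φ.left.app U).hom t) = pW ((φ.left.app U).hom t) := by
      intro t
      have e1 := Scheme.Hom.appLE_comp_appLE a.act.left φ.left U (φ.left ⁻¹ᵁ U) W le_rfl inf_le_left
      have e2 := Scheme.Hom.appLE_comp_appLE (snd G X).left φ.left U (φ.left ⁻¹ᵁ U) W le_rfl inf_le_right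
      rw [← Scheme.Hom.app_eq_appLE] at e1 e2
      refine (ConcreteCategory.congr_hom e1 t).trans (Eq.trans ?_ (ConcreteCategory.congr_hom e2 t).symm)
      exact ConcreteCategory.congr_hom (appLE_congr_hom h.inv.left _ _) t
    apply sub_eq_zero.1
    refine eq_zero_of_appLE_mul_eq_zero (snd G X).left hb0 inf_le_right ?_
    show pW ((φ.left.app U).hom b₁) * (σW s - pW s) = 0
    have h1 : σW s * σW ((φ.left.app U).hom b₁) = σW ((φ.left.app U).hom a₁) := by rw [← map_mul, hmul]
    have h2 : pW s * pW ((φ.left.app U).hom b₁) = pW ((φ.left.app U).hom a₁) := by rw [← map_mul, hmul]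
    rw [key, key] at h1
    rw [mul_sub, mul_comm, h1, mul_comm, h2, sub_self]
  obtain ⟨t, ht⟩ : s ∈ Set.range (φ.left.app U) := (h.sections U).2.symm ▸ hinv
  refine ⟨t, L.injective ?_⟩
  rw [hL, ← hs]
  exact congrArg γ ht

end Groth.Agent.S18505
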