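import Groth.Statements.S18506
import Groth.Agent.BalLib.AssocZar
-- import your own Groth.Agent.* helpers here

set_option autoImplicit false
universe u
open CategoryTheory MonoidalCategory CartesianMonoidalCategory MonObj GrpObj AlgebraicGeometry Topology
open EqInt

namespace Groth.Agent.S18506

/-- Over a field k, let an affine group scheme G of finite type act on X and on U (quasi-separated
schemes of finite type over k), and let π : U → B be a principal bundle quotient (π is G-invariant,
flat and surjective and (σ, p₂) : G × U → U ×_B U is an isomorphism) which is locally trivial in the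
Zariski topology: every point of B has an open neighbourhood over which π has a section. Then the
diagonal action of G on X × U has a principal bundle quotient X × U → Q in the category of schemes.
(The published hypothesis is that G is special, i.e. every principal G-bundle is Zariski-locally
trivial; only the local triviality of U → B is used, and it is what is assumed here.) -/
theorem result (k : Type u) [Field k]
    (G X U B : Over (Spec (CommRingCat.of k))) [GrpObj G] [IsAffine G.left] [LocallyOfFiniteType G.hom]
    [LocallyOfFiniteType X.hom] [QuasiCompact X.hom] [QuasiSeparated X.hom]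
    [LocallyOfFiniteType U.hom] [QuasiCompact U.hom] [QuasiSeparated U.hom]
    [LocallyOfFiniteType B.hom] [QuasiCompact B.hom] [QuasiSeparated B.hom]
    (a : AlgGrp.Action G X) (b : AlgGrp.Action G U) (π : U ⟶ B) (hinv : GIT.IsInvariant b π)
    [Flat π.left] [Surjective π.left] (hcart : IsIso (GIT.PsiY b π hinv))
    (hzar : ∀ y : ↥B.left, ∃ (W : B.left.Opens) (s : (↑W : Scheme.{u}) ⟶ U.left), y ∈ W ∧ s ≫ π.left = W.ι) :
    ∃ (Q : Over (Spec (CommRingCat.of k))) (ρ : X ⊗ U ⟶ Q) (hρ : GIT.IsInvariant (a.prod b) ρ),
      Flat ρ.left ∧ Surjective ρ.left ∧ IsIso (GIT.PsiY (a.prod b) ρ hρ) := by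
  classical
  have hπw : b.act.left ≫ π.left = (snd G U).left ≫ π.left := congrArg CommaMorphism.left hinv
  haveI := hcart
  have cart : CategoryTheory.IsPullback b.act (snd G U) π π := by
    refine CategoryTheory.IsPullback.of_map (CategoryTheory.Over.forget _) hinv ?_
    exact CategoryTheory.IsPullback.of_iso_pullback ⟨hπw⟩ (@asIso _ _ _ _ (GIT.PsiY b π hinv) hcart)
      (Limits.pullback.lift_fst _ _ _) (Limits.pullback.lift_snd _ _ _)
  haveI : QuasiCompact π.left := by
    haveI : QuasiCompact (π.left ≫ B.hom) := by rw [CategoryTheory.Over.w π]; infer_instance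
    exact QuasiCompact.of_comp π.left B.hom
  obtain ⟨Q, q, r, hw, sq, hq⟩ := Groth.Agent.BalLib.exists_assoc_of_zariski cart a hzar
  let β : X ⊗ U ≅ U ⊗ X := β_ X U
  have hρ : IsPullback (a.prod b).act (snd G (X ⊗ U)) (β.hom ≫ q) (β.hom ≫ q) := by
    refine hq.of_iso (whiskerLeftIso G β.symm) β.symm β.symm (Iso.refl Q) ?_ ?_ ?_ ?_
    · refine AlgGrp.Action.hom_ext_lift₂ fun W g u => ?_
      obtain ⟨p, x, rfl⟩ : ∃ (p : W ⟶ U) (x : W ⟶ X), u = lift p x := ⟨_, _, Groth.Agent.BalLib.lift_fst_snd_self u⟩
      simp [β]
    · simp [β]
    · simp [β]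
    · simp [β]
  have sq' : IsPullback q.left (fst U X).left r.left π.left := sq.map (CategoryTheory.Over.forget _)
  haveI : Flat q.left := MorphismProperty.of_isPullback (P := @Flat) sq'.flip ‹_›
  haveI : Surjective q.left := MorphismProperty.of_isPullback (P := @Surjective) sq'.flip ‹_›
  haveI : IsIso β.hom.left := inferInstanceAs (IsIso ((CategoryTheory.Over.forget _).map β.hom))
  refine ⟨Q, β.hom ≫ q, hρ.w, ?_, ?_, ?_⟩
  · rw [CategoryTheory.Over.comp_left]; infer_instance
  · rw [CategoryTheory.Over.comp_left]; infer_instance
  · have hL : IsPullback (a.prod b).act.left (snd G (X ⊗ U)).left (β.hom ≫ q).left (β.hom ≫ q).left :=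
      hρ.map (CategoryTheory.Over.forget _)
    have : GIT.PsiY (a.prod b) (β.hom ≫ q) hρ.w = hL.isoPullback.hom := by
      apply Limits.pullback.hom_ext
      · rw [IsPullback.isoPullback_hom_fst]; exact Limits.pullback.lift_fst _ _ _
      · rw [IsPullback.isoPullback_hom_snd]; exact Limits.pullback.lift_snd _ _ _
    rw [this]; infer_instance

end Groth.Agent.S18506
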