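import Groth.Statements.S18507
import Groth.Agent.GITQuot.Descent
-- import your own Groth.Agent.* helpers here

set_option autoImplicit false
universe u
open CategoryTheory MonoidalCategory CartesianMonoidalCategory MonObj GrpObj AlgebraicGeometry Topology
open EqInt

namespace Groth.Agent.S18507

/-- Over a field k, let an affine group scheme G of finite type act on X, with X and Y separated of
finite type over k, and let φ : X → Y be G-invariant. Let α : Y' → Y be faithfully flat and
quasi-compact, let X' → Y' be the base change of φ with its induced action of G (the action on X'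
for which X' → X is equivariant and X' → Y' is invariant). If (Y', φ') is a geometric quotient of X'
by G, then (Y, φ) is a geometric quotient of X by G. (The source takes X and Y integral; integrality
plays no role. A geometric quotient is taken here with universally submersive structure map, on both
sides.) -/
theorem result (k : Type u) [Field k]
    (G X Y X' Y' : Over (Spec (CommRingCat.of k))) [GrpObj G] [IsAffine G.left] [LocallyOfFiniteType G.hom]
    [LocallyOfFiniteType X.hom] [QuasiCompact X.hom] [IsSeparated X.hom]
    [LocallyOfFiniteType Y.hom] [QuasiCompact Y.hom] [IsSeparated Y.hom]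
    (a : AlgGrp.Action G X) (φ : X ⟶ Y) (hinv : GIT.IsInvariant a φ)
    (α : Y' ⟶ Y) [Flat α.left] [Surjective α.left] [QuasiCompact α.left]
    (pr : X' ⟶ X) (φ' : X' ⟶ Y') (hpb : IsPullback pr φ' φ α)
    (a' : AlgGrp.Action G X') (heq : a'.act ≫ pr = (G ◁ pr) ≫ a.act) (hinv' : GIT.IsInvariant a' φ')
    (h : GIT.IsGeomQuot a' φ') :
    GIT.IsGeomQuot a φ := by
  haveI : QuasiCompact (φ.left ≫ Y.hom) := by rw [Over.w]; infer_instance
  haveI : QuasiCompact φ.left := QuasiCompact.of_comp φ.left Y.hom
  exact GITQuot.isGeomQuot_of_descent hinv hpb a' heq hinv' h

end Groth.Agent.S18507
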