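import Groth.Statements.S18508
import Groth.Agent.EqIntLib.StabFibre
import Groth.Agent.S18503
-- import your own Groth.Agent.* helpers here

set_option autoImplicit false
universe u
open CategoryTheory MonoidalCategory CartesianMonoidalCategory MonObj GrpObj AlgebraicGeometry Topology
open EqInt

namespace Groth.Agent.S18508

/-- Over a field k, let an affine group scheme G of finite type act on a separated scheme X of finite
type over k, with stabilizer group scheme S = (G × X) ×_{X × X} X → X (the pullback of (σ, p₂) along
the diagonal). Assume that k has characteristic zero or that G is finite étale over k. Then the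
action is set-theoretically free (S → X is universally injective: the stabilizer of every geometric
point inside the group of geometric points is trivial) if and only if it is geometrically free (for
every point x of X the fibre of S over x is Spec κ(x) through its structure map). (The source takes
X integral and tests geometric points with values in an algebraic closure of k; the statement here
is over all points, which is what the argument gives pointwise.) -/
theorem result (k : Type u) [Field k]
    (G X : Over (Spec (CommRingCat.of k))) [GrpObj G] [IsAffine G.left] [LocallyOfFiniteType G.hom]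
    [LocallyOfFiniteType X.hom] [QuasiCompact X.hom] [IsSeparated X.hom]
    (hG : CharZero k ∨ (IsFinite G.hom ∧ Etale G.hom)) (a : AlgGrp.Action G X) :
    UniversallyInjective (Limits.pullback.snd (GIT.psi a (𝟙 X)).left (CartesianMonoidalCategory.lift (𝟙 X) (𝟙 X)).left) ↔
      ∀ x : ↥X.left, IsIso ((Limits.pullback.snd (GIT.psi a (𝟙 X)).left (CartesianMonoidalCategory.lift (𝟙 X) (𝟙 X)).left).fiberToSpecResidueField x) := by
  let π := Groth.Agent.EqIntLib.stabHom a
  haveI : IsAffineHom G.hom := isAffineHom_of_isAffine G.hom
  haveI : LocallyOfFiniteType (G ⊗ X).hom := inferInstanceAs (LocallyOfFiniteType (Limits.pullback.fst _ _ ≫ G.hom))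
  haveI : LocallyOfFiniteType (GIT.psi a (𝟙 X)).left := by
    haveI : LocallyOfFiniteType ((GIT.psi a (𝟙 X)).left ≫ (X ⊗ X).hom) := by rw [Over.w]; infer_instance
    exact locallyOfFiniteType_of_comp _ (X ⊗ X).hom
  haveI : LocallyOfFiniteType π := inferInstanceAs (LocallyOfFiniteType (Limits.pullback.snd _ _))
  constructor
  · intro hui x
    haveI := hui
    haveI : UniversallyInjective π := hui
    let j := X.left.fromSpecResidueField x
    let p := Limits.pullback.snd π j
    haveI : UniversallyInjective p :=
      UniversallyInjective.isStableUnderBaseChange.of_isPullback (IsPullback.of_hasPullback π j) hui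
    haveI : LocallyOfFiniteType p := inferInstanceAs (LocallyOfFiniteType (Limits.pullback.snd π j))
    obtain ⟨s, hs⟩ := Groth.Agent.EqIntLib.exists_section a j
    refine Groth.Agent.EqIntLib.isIso_of_section (K := X.left.residueField x) p s hs ?_
    rcases hG with h0 | ⟨-, het⟩
    · haveI := h0
      haveI : CharZero (X.left.residueField x) := by
        obtain ⟨φ, -⟩ := Spec.map_surjective (j ≫ X.hom)
        exact charZero_of_injective_ringHom φ.hom.injective
      left
      letI : GrpObj (Over.mk p : Over (Spec (CommRingCat.of (X.left.residueField x)))) :=
        Groth.Agent.EqIntLib.fibreGrpObj a j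
      haveI : LocallyOfFiniteType (Over.mk p : Over (Spec (CommRingCat.of (X.left.residueField x)))).hom :=
        ‹LocallyOfFiniteType p›
      haveI := Groth.Agent.GrpSchLib.smooth_of_charZero (Over.mk p : Over (Spec (CommRingCat.of (X.left.residueField x))))
      exact Groth.Agent.GrpSchLib.isReduced_of_smooth_field
        (Over.mk p : Over (Spec (CommRingCat.of (X.left.residueField x)))).hom
    · haveI := het
      right
      haveI : FormallyUnramified (snd G X).left := by
        show FormallyUnramified (Limits.pullback.snd G.hom X.hom)
        infer_instance
      haveI : IsClosedImmersion (lift (𝟙 X) (𝟙 X)).left := by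
        haveI : IsSeparated (fst X X).left := inferInstanceAs (IsSeparated (Limits.pullback.fst X.hom X.hom))
        haveI : IsClosedImmersion ((lift (𝟙 X) (𝟙 X)).left ≫ (fst X X).left) := by
          rw [← Over.comp_left, lift_fst]
          exact inferInstanceAs (IsClosedImmersion (𝟙 X.left))
        exact IsClosedImmersion.of_comp _ (fst X X).left
      haveI : FormallyUnramified π := by
        show FormallyUnramified (Groth.Agent.EqIntLib.stabHom a)
        rw [← Groth.Agent.EqIntLib.fst_comp_snd a]
        exact MorphismProperty.comp_mem _ _ _ inferInstance ‹_›
      exact (inferInstance : MorphismProperty.IsStableUnderBaseChange @FormallyUnramified.{u}).of_isPullback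
        (IsPullback.of_hasPullback π j) ‹FormallyUnramified π›
  · intro h
    haveI : Mono π := Groth.Agent.S18503.mono_of_fibres_iso π h
    infer_instance

end Groth.Agent.S18508
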