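import Groth.Statements.S18511
import Groth.Agent.GITQuot.Descent
-- import your own Groth.Agent.* helpers here

set_option autoImplicit false
universe u
open CategoryTheory MonoidalCategory CartesianMonoidalCategory MonObj GrpObj AlgebraicGeometry Topology
open EqInt

namespace Groth.Agent.S18511

/-- Over a field k, let an affine group scheme G of finite type act on X, with X and Y separated of
finite type over k, and let φ : X → Y be G-invariant. Let α : Y' → Y be faithfully flat and
quasi-compact and let X' → Y' be the base change of φ with its induced action of G (X' → X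
equivariant, X' → Y' invariant). If (Y', φ') is a universal geometric quotient of X' by G, then (Y,
φ) is a universal geometric quotient of X by G. (The source takes X and Y integral; integrality
plays no role. Geometric quotients are taken with universally submersive structure map.) -/
theorem result (k : Type u) [Field k]
    (G X Y X' Y' : Over (Spec (CommRingCat.of k))) [GrpObj G] [IsAffine G.left] [LocallyOfFiniteType G.hom]
    [LocallyOfFiniteType X.hom] [QuasiCompact X.hom] [IsSeparated X.hom]
    [LocallyOfFiniteType Y.hom] [QuasiCompact Y.hom] [IsSeparated Y.hom]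
    (a : AlgGrp.Action G X) (φ : X ⟶ Y) (hinv : GIT.IsInvariant a φ)
    (α : Y' ⟶ Y) [Flat α.left] [Surjective α.left] [QuasiCompact α.left]
    (pr : X' ⟶ X) (φ' : X' ⟶ Y') (hpb : IsPullback pr φ' φ α)
    (a' : AlgGrp.Action G X') (heq : a'.act ≫ pr = (G ◁ pr) ≫ a.act) (hinv' : GIT.IsInvariant a' φ')
    (h : GIT.IsUnivGeomQuot a' φ') :
    GIT.IsUnivGeomQuot a φ := by
  haveI : QuasiCompact (φ.left ≫ Y.hom) := by rw [Over.w]; infer_instance
  haveI : QuasiCompact φ.left := QuasiCompact.of_comp φ.left Y.hom
  refine ⟨GITQuot.isGeomQuot_of_descent hinv hpb a' heq hinv' h.1, ?_⟩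
  intro X₁ Y₁ pr₁ φ₁ g _ hpb₁ a₁ heq₁ hinv₁
  haveI : QuasiCompact φ₁.left := MorphismProperty.of_isPullback (GITQuot.isPullback_left hpb₁) (by infer_instance)
  have hsqY := (IsPullback.of_hasPullback g α).map (Over.forget _)
  haveI : Flat (Limits.pullback.fst g α).left := MorphismProperty.of_isPullback hsqY.flip (show Flat α.left by infer_instance)
  haveI : Surjective (Limits.pullback.fst g α).left := MorphismProperty.of_isPullback hsqY.flip (show Surjective α.left by infer_instance)
  haveI : QuasiCompact (Limits.pullback.fst g α).left := MorphismProperty.of_isPullback hsqY.flip (show QuasiCompact α.left by infer_instance)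
  have hsq := IsPullback.of_hasPullback φ₁ (Limits.pullback.fst g α)
  obtain ⟨a₂, heq₂, hinv₂⟩ := GITQuot.exists_action hinv₁ hsq
  let pr₂ : Limits.pullback φ₁ (Limits.pullback.fst g α) ⟶ X' :=
    hpb.lift (Limits.pullback.fst φ₁ (Limits.pullback.fst g α) ≫ pr₁)
      (Limits.pullback.snd φ₁ (Limits.pullback.fst g α) ≫ Limits.pullback.snd g α) (by
        rw [Category.assoc, hpb₁.w, ← Category.assoc, hsq.w, Category.assoc, Category.assoc, Limits.pullback.condition])
  have h1 : pr₂ ≫ pr = Limits.pullback.fst φ₁ (Limits.pullback.fst g α) ≫ pr₁ := hpb.lift_fst _ _ _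
  have h2 : pr₂ ≫ φ' = Limits.pullback.snd φ₁ (Limits.pullback.fst g α) ≫ Limits.pullback.snd g α := hpb.lift_snd _ _ _
  have hbig : IsPullback (pr₂ ≫ pr) (Limits.pullback.snd φ₁ (Limits.pullback.fst g α)) φ (Limits.pullback.snd g α ≫ α) := by
    rw [h1, ← Limits.pullback.condition]
    exact hsq.paste_horiz hpb₁
  have hsq2 : IsPullback pr₂ (Limits.pullback.snd φ₁ (Limits.pullback.fst g α)) φ' (Limits.pullback.snd g α) :=
    IsPullback.of_right hbig h2 hpb
  refine GITQuot.isGeomQuot_of_descent hinv₁ hsq a₂ heq₂ hinv₂ (h.2 pr₂ _ _ trivial hsq2 a₂ ?_ hinv₂)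
  apply hpb.hom_ext
  · rw [Category.assoc, h1, ← Category.assoc, heq₂, Category.assoc, heq₁, ← Category.assoc,
      ← MonoidalCategory.whiskerLeft_comp, ← h1, MonoidalCategory.whiskerLeft_comp, Category.assoc, Category.assoc, heq]
  · rw [Category.assoc, h2, ← Category.assoc, hinv₂, Category.assoc, ← h2, Category.assoc, hinv',
      ← Category.assoc, ← Category.assoc, whiskerLeft_snd]

end Groth.Agent.S18511
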