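import Groth.Statements.S18515
import Groth.Agent.BCRestrict.Basic
import Mathlib.AlgebraicGeometry.ValuativeCriterion
-- import your own Groth.Agent.* helpers here

set_option autoImplicit false
set_option backward.isDefEq.respectTransparency false
set_option backward.isDefEq.respectTransparency.types false
open CategoryTheory CategoryTheory.Limits MonoidalCategory CartesianMonoidalCategory MonObj GrpObj AlgebraicGeometry
universe u
open NonAbH1

namespace Groth.Agent.S18515

/-- A class represented by a torsor over a complete variety is unramified at every discrete valuation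
ring of the function field. The published lemma assumes G finite, k algebraically closed of
characteristic zero and K finitely generated over k; this row allows any field k, any field K and
any affine k-group scheme of finite type: let k be a field, X a proper k-scheme, G an affine k-group
scheme of finite type and P a torsor over X, locally trivial for the etale topology, under the base
change of G. For every field K with a k-morphism e : Spec K ⟶ X (for instance the generic point of
an integral X) and every discrete valuation ring R with fraction field K containing k compatibly,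
there is a torsor Q over Spec R under the base change of G whose restriction to Spec K is
equivariantly isomorphic to the pullback of P along e, both regarded as actions of the base change
of G to Spec K through the canonical identifications of iterated base changes. -/
theorem result
    (k K R : Type u) [Field k] [Field K] [Algebra k K]
    [CommRing R] [IsDomain R] [IsDiscreteValuationRing R] [Algebra k R] [Algebra R K] [IsFractionRing R K]
    (hc : Spec.map (CommRingCat.ofHom (algebraMap R K)) ≫ Spec.map (CommRingCat.ofHom (algebraMap k R)) =
      Spec.map (CommRingCat.ofHom (algebraMap k K)))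
    (X : Scheme.{u}) (x : X ⟶ Spec (CommRingCat.of k)) [IsProper x]
    (G : Over (Spec (CommRingCat.of k))) [GrpObj G] [IsAffine G.left] [LocallyOfFiniteType G.hom]
    (P : NonAbH1.TorsorSch (Red.bc x G) Scheme.etalePrecoverage)
    (e : Spec (CommRingCat.of K) ⟶ X) (he : e ≫ x = Spec.map (CommRingCat.ofHom (algebraMap k K))) :
    ∃ Q : NonAbH1.TorsorSch (Red.bc (Spec.map (CommRingCat.ofHom (algebraMap k R))) G) Scheme.etalePrecoverage,
      Nonempty (NonAbH1.EquivIso
        ((Q.act.bc (Spec.map (CommRingCat.ofHom (algebraMap R K)))).restrict
          (ActBC.bcCompIso (Spec.map (CommRingCat.ofHom (algebraMap R K)))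
            (Spec.map (CommRingCat.ofHom (algebraMap k R))) G hc).inv)
        ((P.act.bc e).restrict (ActBC.bcCompIso e x G he).inv)) := by
  -- extend the point by the valuative criterion
  have hval : ValuativeCriterion.Existence x := by
    have h : UniversallyClosed x := inferInstance
    rw [UniversallyClosed.eq_valuativeCriterion] at h
    exact h.1
  let sR := Spec.map (CommRingCat.ofHom (algebraMap k R))
  let s := Spec.map (CommRingCat.ofHom (algebraMap R K))
  have hsq : CommSq e s x sR := ⟨he.trans hc.symm⟩
  haveI := hval ⟨R, K, e, sR, hsq⟩
  let e₀ : Spec (CommRingCat.of R) ⟶ X := hsq.lift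
  have he₀ : e₀ ≫ x = sR := hsq.fac_right
  have hse : s ≫ e₀ = e := hsq.fac_left
  let c₁ := ActBC.bcCompIso e₀ x G he₀
  haveI : Scheme.etalePrecoverage.IsStableUnderBaseChange := inferInstance
  have hP := NonAbH1.isTorsorFor_bc e₀ Scheme.etalePrecoverage P.isTorsor
  let Q : NonAbH1.TorsorSch (Red.bc sR G) Scheme.etalePrecoverage :=
    ⟨Red.bc e₀ P.X, (P.act.bc e₀).restrict c₁.inv,
      Groth.Agent.BCRestrict.isPseudoTorsor_restrict hP.1 _, hP.2⟩
  refine ⟨Q, ⟨?_⟩⟩
  let c₂ := ActBC.bcCompIso s sR G hc
  let c₄ := ActBC.bcCompIso s e₀ (Red.bc x G) hse
  let c₃ := ActBC.bcCompIso e x G he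
  have key : (c₂.inv ≫ (Over.pullback s).map c₁.inv) ≫ c₄.hom = c₃.inv := by
    rw [Category.assoc, Iso.inv_comp_eq, Iso.eq_comp_inv, Category.assoc]
    apply (cancel_epi ((Over.pullback s).map c₁.hom)).1
    rw [← CategoryTheory.Functor.map_comp_assoc, c₁.hom_inv_id, CategoryTheory.Functor.map_id, Category.id_comp]
    apply Over.OverMorphism.ext
    apply pullback.hom_ext
    · simp only [Over.comp_left, Category.assoc, c₁, c₂, c₃, c₄, ActBC.bcCompIso_hom_left_fst,
        ActBC.bcCompIso_hom_left_fst_assoc, ActBC.pullback_map_left_fst_assoc]
    · exact (Over.w _).trans (Over.w _).symm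
  haveI : IsMonHom (c₂.inv ≫ (Over.pullback s).map c₁.inv) := inferInstance
  have hact : (Q.act.bc s).restrict c₂.inv =
      ((P.act.bc e₀).bc s).restrict (c₂.inv ≫ (Over.pullback s).map c₁.inv) := by
    show (((P.act.bc e₀).restrict c₁.inv).bc s).restrict c₂.inv = _
    rw [AlgGrp.Action.bc_restrict, Groth.Agent.BCRestrict.restrict_restrict]
  rw [hact]
  have E := Groth.Agent.BCRestrict.equivRestrict (ActBC.equivIsoBcComp s e₀ hse P.act)
    (c₂.inv ≫ (Over.pullback s).map c₁.inv)
  rw [Groth.Agent.BCRestrict.restrict_restrict,
    Groth.Agent.BCRestrict.restrict_congr (P.act.bc e) key] at E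
  exact E

end Groth.Agent.S18515
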