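import Groth.Statements.S1852
import Groth.Agent.CycLib.GoodSeq

set_option autoImplicit false
open Groth.Agent
universe u
open CycAlg

namespace Groth.Agent.S1852

/-- Let R be a Noetherian local ring, M a finite R-module and 𝔮 a minimal prime of the support of M.
There are x₁, …, x_l in M such that 𝔮 is not in the support of M/⟨x₁, …, x_l⟩ and each ⟨x₁, …,
x_i⟩/⟨x₁, …, x_{i−1}⟩ is isomorphic to R/𝔮; and for any such sequence l equals the length of M_𝔮
over R_𝔮. -/
theorem result (R : Type u) [CommRing R] [IsNoetherianRing R] [IsLocalRing R] (M : Type u) [AddCommGroup M] [Module R M] [Module.Finite R M] (q : PrimeSpectrum R) (hq : Minimal (fun p : PrimeSpectrum R => p ∈ Module.support R M) q) : (∃ (l : ℕ) (x : Fin l → M), q ∉ Module.support R (M ⧸ Submodule.span R (Set.range x)) ∧ ∀ i : Fin l, Nonempty ((↥(CycDet.spanBefore R M x (i + 1)) ⧸ (CycDet.spanBefore R M x i).submoduleOf (CycDet.spanBefore R M x (i + 1))) ≃ₗ[R] (R ⧸ q.asIdeal))) ∧ ∀ (l : ℕ) (x : Fin l → M), q ∉ Module.support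 R (M ⧸ Submodule.span R (Set.range x)) → (∀ i : Fin l, Nonempty ((↥(CycDet.spanBefore R M x (i + 1)) ⧸ (CycDet.spanBefore R M x i).submoduleOf (CycDet.spanBefore R M x (i + 1))) ≃ₗ[R] (R ⧸ q.asIdeal))) → (l : ℕ∞) = Module.length (Localization.AtPrime q.asIdeal) (LocalizedModule q.asIdeal.primeCompl M) := by
  exact ⟨CycLib.exists_goodChain hq, fun l x h hx => (CycLib.locLen_of_chain hx h).symm⟩

end Groth.Agent.S1852
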