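import Groth.Statements.S18523
import Groth.Agent.ParShLib.Saturation
import Groth.Agent.Lib.CurveStable
import Groth.Agent.Lib.CurveDualPrep
import Groth.Agent.ConsPropLib.FibreLocFree

set_option autoImplicit false
universe u
open CategoryTheory CategoryTheory.Limits AlgebraicGeometry
open ParSh

namespace Groth.Agent.S18523

/-- Let k be an algebraically closed field of characteristic zero, X a smooth proper geometrically
connected curve over k (topological dimension one) of genus g ≥ 2, and I the ideal of a reduced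
effective Cartier divisor on X. Let F be a finite locally free O_X-module of rank r with a parabolic
structure 𝓕 along I which is parabolic stable: for every finite locally free sub-module F₁ → F of
rank r₁ with 0 < r₁ < r, the structure induced on F₁ has r·par-deg(F₁) < r₁·par-deg(F). Let 0 → F' →
F → F'' → 0 be a parabolic extension (a short exact sequence in which F' carries the structure
induced from 𝓕 as a sub-module and F'' the structure induced as a quotient) with F' and F'' finite
locally free. Then every parabolic homomorphism F'' → F' is zero. The published statement tests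
stability on quotient bundles; on a smooth proper curve this singles out the same parabolic bundles
as the test on sub-modules used here. -/
theorem result (k : Type u) [Field k] [IsAlgClosed k] [CharZero k]
    (X : Scheme.{u}) [X.Over (Spec (CommRingCat.of k))]
    [IsProper (X ↘ Spec (CommRingCat.of k))] [Smooth (X ↘ Spec (CommRingCat.of k))]
    [GeometricallyConnected (X ↘ Spec (CommRingCat.of k))] (hdim : topologicalKrullDim ↥X = 1)
    (g : ℕ) (hg : Curv2.genus k X = g) (hg2 : 2 ≤ g)
    (I : X.IdealSheafData) (hD : FGA.IsEffCartier I) [AlgebraicGeometry.IsReduced I.subscheme]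
    {F F' F'' : X.Modules} (r : ℕ) (hF : FlatMod.IsFinLocFreeOfRank r F)
    (𝓕 : ParSh.Str F) (h𝓕 : 𝓕.Along I) (hst : ParSh.IsParStable k X 𝓕 r)
    (i : F' ⟶ F) (p : F ⟶ F'') [Epi p] (𝓕' : ParSh.Str F') (𝓕'' : ParSh.Str F'')
    (hext : ParSh.IsParExt i p 𝓕' 𝓕 𝓕'') (hF' : FlatMod.IsFinLocFree F') (hF'' : FlatMod.IsFinLocFree F'')
    (φ : F'' ⟶ F') (hφ : ParSh.IsParHom 𝓕'' 𝓕' φ) : φ = 0 := by
  haveI := CurveStable.isIntegral_of_geometricallyConnected (X := X) k
  haveI := CurveCohLib.isNoetherian' (k := k) (X := X)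
  obtain ⟨w, hS, rfl, rfl⟩ := hext
  haveI : Mono i := hS.mono_f
  by_contra hne
  let ψ : F ⟶ F := p ≫ φ ≫ i
  have hψ : ParSh.IsParHom 𝓕 𝓕 ψ := fun a ha ha' => by
    have h1 := hφ a ha ha'
    rw [ParShLib.at_induced, ParShLib.at_coinduced] at h1
    have h2 := Subobject.factorThru_arrow _ _ h1
    have hpb := Subobject.isPullback i (𝓕.at a)
    refine (Subobject.factors_iff _ _).2 ⟨factorThruImageSubobject ((𝓕.at a).arrow ≫ p) ≫
      Subobject.factorThru _ _ h1 ≫ Subobject.pullbackπ i (𝓕.at a), ?_⟩
    show (_ ≫ _ ≫ _) ≫ (𝓕.at a).arrow = (𝓕.at a).arrow ≫ p ≫ φ ≫ i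
    rw [Category.assoc, Category.assoc, hpb.w, reassoc_of% h2, imageSubobject_arrow_comp_assoc, Category.assoc]
  have hFf := (ConsPropLib.isFinLocFreeOfRank_iff.1 hF).1
  have hFc : Coh.IsCoh F := CurveDeg.isCoh_of_isFinLocFree hFf
  have hF'c : Coh.IsCoh F' := CurveDeg.isCoh_of_isFinLocFree hF'
  obtain ⟨a, b, hab, hK, hV, -⟩ := CurveCohLib.exists_ker_image k
    (CurveBundle.isPrincipalIdealRing_stalk k hdim.le) ψ hF hF
  have hKc : Coh.IsCoh (kernel ψ) := CurveDeg.isCoh_of_isFinLocFree (ConsPropLib.isFinLocFreeOfRank_iff.1 hK).1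
  have hVc : Coh.IsCoh (Abelian.image ψ) := CurveDeg.isCoh_of_isFinLocFree (ConsPropLib.isFinLocFreeOfRank_iff.1 hV).1
  have hmono : ∀ {A B : X.Modules} (f : A ⟶ B) [Mono f], Coh.IsCoh B →
      CurveCohLib.genRank A ≤ CurveCohLib.genRank B := fun {A B} f _ hB => by
    have h := CurveCohLib.genRank_add (S := ShortComplex.mk f (cokernel.π f) (cokernel.condition f))
      { exact := ShortComplex.exact_of_g_is_cokernel _ (cokernelIsCokernel f) } hB
    change CurveCohLib.genRank B = CurveCohLib.genRank A + _ at h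
    omega
  have hb : 0 < b := by
    rcases Nat.eq_zero_or_pos b with rfl | hb
    · have hz := CurveCohLib.isZero_of_isFinLocFreeOfRank_zero hV
      have h0 : ψ = 0 := by rw [← Abelian.image.fac ψ, hz.eq_of_tgt (Abelian.factorThruImage ψ) 0, zero_comp]
      refine absurd ?_ hne
      change p ≫ φ ≫ i = 0 at h0
      rwa [← cancel_epi p, ← cancel_mono i, Category.assoc, comp_zero, zero_comp]
    · exact hb
  have ha : 0 < a := by
    have hiψ : i ≫ ψ = 0 := by show i ≫ p ≫ φ ≫ i = 0; rw [reassoc_of% w, zero_comp]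
    haveI : Mono (kernel.lift ψ i hiψ) := mono_of_mono_fac (kernel.lift_ι ψ i hiψ)
    have h1 := hmono (kernel.lift ψ i hiψ) hKc
    have hvp : Abelian.image.ι ψ ≫ p = 0 := by
      rw [← cancel_epi (Abelian.factorThruImage ψ), ← Category.assoc, Abelian.image.fac, comp_zero]
      show (p ≫ φ ≫ i) ≫ p = 0
      rw [Category.assoc, Category.assoc, w, comp_zero, comp_zero]
    haveI : Mono (hS.exact.lift (Abelian.image.ι ψ) hvp) := mono_of_mono_fac (hS.exact.lift_f _ hvp)
    have h2 := hmono (hS.exact.lift (Abelian.image.ι ψ) hvp) hF'c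
    rw [CurveCohLib.genRank_eq hK] at h1
    rw [CurveCohLib.genRank_eq hV] at h2
    change _ ≤ CurveCohLib.genRank F' at h2
    omega
  have hC : Coh.IsCoh (cokernel (Abelian.image.ι ψ)) := QCoh.isCoh_cokernel hVc.1 hFc _
  obtain ⟨P, t, ht, hP, hkt, hkt0, hrk⟩ := CurveDuality.exists_torsionFree_quot k hdim hC
  haveI := ht
  haveI : Epi (cokernel.π (Abelian.image.ι ψ) ≫ t) := epi_comp _ _
  let g := cokernel.π (Abelian.image.ι ψ) ≫ t
  let u : Abelian.image ψ ⟶ kernel g := kernel.lift g (Abelian.image.ι ψ)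
    (by rw [← Category.assoc, cokernel.condition, zero_comp])
  haveI : Mono u := mono_of_mono_fac (kernel.lift_ι g (Abelian.image.ι ψ) _)
  have hSg : (ShortComplex.mk (kernel.ι g) g (kernel.condition g)).ShortExact :=
    { exact := ShortComplex.exact_of_f_is_kernel _ (kernelIsKernel g) }
  have hWc : Coh.IsCoh (kernel g) := QCoh.isCoh_kernel hFc (CurveDeg.isCoh_of_isFinLocFree hP) g
  have hW : FlatMod.IsFinLocFreeOfRank b (kernel g) := by
    have hr := CurveCohLib.isFinLocFreeOfRank_genRank (CurveBundle.isFinLocFree_of_mono k hdim.le hWc (kernel.ι g) hFf)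
    have h1 := CurveCohLib.genRank_add hSg hFc
    have h2 := CurveCohLib.genRank_add (S := ShortComplex.mk (Abelian.image.ι ψ) (cokernel.π _) (cokernel.condition _))
      { exact := ShortComplex.exact_of_g_is_cokernel _ (cokernelIsCokernel _) } hFc
    change CurveCohLib.genRank F = CurveCohLib.genRank (kernel g) + CurveCohLib.genRank P at h1
    change CurveCohLib.genRank F =
      CurveCohLib.genRank (Abelian.image ψ) + CurveCohLib.genRank (cokernel (Abelian.image.ι ψ)) at h2
    change CurveCohLib.genRank P = CurveCohLib.genRank (cokernel (Abelian.image.ι ψ)) at hrk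
    rw [CurveCohLib.genRank_eq hV] at h2
    rwa [show CurveCohLib.genRank (kernel g) = b by omega] at hr
  have hsat : FlatMod.IsFinLocFree (cokernel (kernel.ι g)) :=
    (ConsPropLib.isFinLocFree_iso (IsColimit.coconePointUniqueUpToIso (cokernelIsCokernel (kernel.ι g))
      hSg.gIsCokernel)).2 hP
  have h1 := ParShLib.parDeg_coinduced_le_induced k hdim I hD 𝓕 h𝓕 𝓕 h𝓕 ψ hψ (Abelian.factorThruImage ψ) u
    (kernel.ι g) (by rw [kernel.lift_ι, Abelian.image.fac]) hV hW hsat
  have hz : kernel.ι ψ ≫ Abelian.factorThruImage ψ = 0 := by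
    rw [← cancel_mono (Abelian.image.ι ψ), Category.assoc, Abelian.image.fac, kernel.condition, zero_comp]
  have hSψ : (ShortComplex.mk (kernel.ι ψ) (Abelian.factorThruImage ψ) hz).ShortExact :=
    { exact := ShortComplex.exact_of_f_is_kernel _ (isKernelOfComp (Abelian.image.ι ψ) ψ (kernelIsKernel ψ)
        hz (Abelian.image.fac ψ)) }
  have h2 := ParShLib.parDeg_add k hdim I hD _ _ hz hSψ 𝓕 h𝓕 hFc hVc hKc a b
  rw [hab] at h2
  have h3 := hst (kernel ψ) a (kernel.ι ψ) inferInstance ha (by omega) hK
  have h4 := hst (kernel g) b (kernel.ι g) inferInstance hb (by omega) hW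
  have hr : (r : ℝ) = a + b := by exact_mod_cast hab.symm
  have hb0 : (0 : ℝ) ≤ r := by positivity
  have e1 : 𝓕.parDeg k X r * r = (𝓕.induced (kernel.ι ψ)).parDeg k X a * r +
      (𝓕.coinduced (Abelian.factorThruImage ψ)).parDeg k X b * r := by rw [h2]; ring
  have e2 : 𝓕.parDeg k X r * r = 𝓕.parDeg k X r * a + 𝓕.parDeg k X r * b := by rw [hr]; ring
  linarith [mul_le_mul_of_nonneg_right h1 hb0]

end Groth.Agent.S18523
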