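import Groth.Statements.S18524
import Groth.Agent.ParShLib.Additive

set_option autoImplicit false
universe u
open CategoryTheory CategoryTheory.Limits AlgebraicGeometry
open ParSh

namespace Groth.Agent.S18524

/-- Let X be a scheme proper over a field k with an ample invertible sheaf L, and 0 → F → E → G → 0 a
short exact sequence of coherent O_X-modules. Let 𝓔 be a finite weighted filtration of E by coherent
sub-modules E = E₀ ⊇ E₁ ⊇ ⋯ ⊇ E_l ⊇ B with B coherent and weights 0 ≤ w₀ < ⋯ < w_l < 1, and give F
the filtration pulled back along F → E and G the image filtration along E → G, so that the sequence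
is a parabolic extension. Then for every natural number m the parabolic Hilbert functions are
additive: par-χ(F, m) + par-χ(G, m) = par-χ(E, m), where par-χ(E, m) = χ(B ⊗ L^m) + Σ_j w_j (χ(E_j ⊗
L^m) − χ(E_{j+1} ⊗ L^m)) with E_{l+1} = B. The published statement is for parabolic sheaves along
effective Cartier divisors D on a projective scheme over an algebraically closed field, with B =
E(−D) and the functions averaged over several divisors; the identity holds for each weighted
filtration separately, over any field and for any coherent bottom piece. -/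
theorem result (k : Type u) [Field k] (X : Scheme.{u})
    [X.Over (Spec (CommRingCat.of k))] [IsProper (X ↘ Spec (CommRingCat.of k))]
    (L : X.Modules) (hL : CohB1.IsAmple L) {F E G : X.Modules}
    (hF : Coh.IsCoh F) (hE : Coh.IsCoh E) (hG : Coh.IsCoh G)
    (i : F ⟶ E) (p : E ⟶ G) [Epi p] (𝓕 : ParSh.Str F) (𝓔 : ParSh.Str E) (𝓖 : ParSh.Str G)
    (hext : ParSh.IsParExt i p 𝓕 𝓔 𝓖)
    (hcoh : ∀ j, Coh.IsCoh ((𝓔.piece j : Subobject E) : X.Modules))
    (hbot : Coh.IsCoh ((𝓔.bot : Subobject E) : X.Modules)) (m : ℕ) :
    𝓕.parHilb k X L m + 𝓖.parHilb k X L m = 𝓔.parHilb k X L m := by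
  obtain ⟨w, hS, rfl, rfl⟩ := hext
  let f : X.Modules → ℝ := fun A => (Curv2.euler k X (ShStab.twist X L A m) : ℝ)
  have key : ∀ P : Subobject E, Coh.IsCoh (P : X.Modules) → f (P : X.Modules) =
      f (((Subobject.pullback i).obj P : Subobject F) : X.Modules) +
        f ((imageSubobject (P.arrow ≫ p) : Subobject G) : X.Modules) := fun P hP => by
    have h := Groth.Agent.ParShLib.euler_piece k hS hG hL.1 P hP m
    show (Curv2.euler k X _ : ℝ) = (Curv2.euler k X _ : ℝ) + (Curv2.euler k X _ : ℝ)
    exact_mod_cast h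
  have hX : ∀ j, f ((𝓔.pieceX j : Subobject E) : X.Modules) =
      f (((𝓔.induced i).pieceX j : Subobject F) : X.Modules) +
        f (((𝓔.coinduced p).pieceX j : Subobject G) : X.Modules) := fun j => by
    induction j using Fin.lastCases with
    | last =>
      rw [ParSh.Str.pieceX_last]
      refine (key _ hbot).trans ?_
      congr 1
      · rw [show (𝓔.induced i).pieceX (Fin.last (𝓔.l + 1)) = (𝓔.induced i).bot from (𝓔.induced i).pieceX_last]
        rfl
      · rw [show (𝓔.coinduced p).pieceX (Fin.last (𝓔.l + 1)) = (𝓔.coinduced p).bot from (𝓔.coinduced p).pieceX_last]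
        rfl
    | cast j =>
      rw [ParSh.Str.pieceX_castSucc]
      refine (key _ (hcoh j)).trans ?_
      congr 1
      · rw [show (𝓔.induced i).pieceX j.castSucc = (𝓔.induced i).piece j from (𝓔.induced i).pieceX_castSucc j]
        rfl
      · rw [show (𝓔.coinduced p).pieceX j.castSucc = (𝓔.coinduced p).piece j from (𝓔.coinduced p).pieceX_castSucc j]
        rfl
  show f _ + ∑ j : Fin (𝓔.l + 1), _ + (f _ + ∑ j : Fin (𝓔.l + 1), _) = f _ + ∑ j : Fin (𝓔.l + 1), _
  rw [add_add_add_comm, ← Finset.sum_add_distrib]
  refine congrArg₂ (· + ·) ?_ (Finset.sum_congr rfl fun j _ => ?_)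
  · exact (key _ hbot).symm
  · show 𝓔.wt j * (f _ - f _) + 𝓔.wt j * (f _ - f _) = 𝓔.wt j * (f _ - f _)
    rw [key _ (hcoh j), hX j.succ]
    rw [show (𝓔.induced i).piece j = (Subobject.pullback i).obj (𝓔.piece j) from rfl,
      show (𝓔.coinduced p).piece j = imageSubobject ((𝓔.piece j).arrow ≫ p) from rfl]
    exact (by intros; ring : ∀ t a b c d : ℝ, t * (a - c) + t * (b - d) = t * (a + b - (c + d))) _ _ _ _ _

end Groth.Agent.S18524
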