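import Groth.Statements.S18526
import Groth.Agent.ParShLib.Additive
import Groth.Agent.CurveCohLib.Rank

set_option autoImplicit false
universe u
open CategoryTheory CategoryTheory.Limits AlgebraicGeometry Polynomial
open ParSh

namespace Groth.Agent.S18526

/-- Let X be a scheme proper over a field k with an ample invertible sheaf L, and E a coherent
O_X-module with a finite weighted filtration 𝓔 by coherent sub-modules E = E₀ ⊇ E₁ ⊇ ⋯ ⊇ E_l ⊇
E_{l+1} = B, B coherent, with weights 0 ≤ w₀ < ⋯ < w_l < 1 and w_{l+1} := 1. Let P be the Hilbert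
polynomial of E with respect to L and, for 1 ≤ j ≤ l+1, H_j the Hilbert polynomial of the quotient
E/E_j. Then for every natural number m the parabolic Hilbert function χ(B(m)) + Σ_{j ≤ l} w_j
(χ(E_j(m)) − χ(E_{j+1}(m))) equals P(m) − Σ_{j=1}^{l+1} (w_j − w_{j−1}) H_j(m). The published
statement is for a parabolic sheaf along effective Cartier divisors on a projective scheme over an
algebraically closed field (B = E(−D)), averaged over several divisors; the identity holds for each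
weighted filtration separately. -/
theorem result (k : Type u) [Field k] (X : Scheme.{u})
    [X.Over (Spec (CommRingCat.of k))] [IsProper (X ↘ Spec (CommRingCat.of k))]
    (L : X.Modules) (hL : CohB1.IsAmple L) (E : X.Modules) (hE : Coh.IsCoh E) (𝓔 : ParSh.Str E)
    (hcoh : ∀ j, Coh.IsCoh ((𝓔.pieceX j : Subobject E) : X.Modules))
    (P : ℚ[X]) (hP : ShStab.IsHilbPoly k X L E P) (H : Fin (𝓔.l + 2) → ℚ[X])
    (hH : ∀ j, ShStab.IsHilbPoly k X L (cokernel (𝓔.pieceX j).arrow) (H j)) (m : ℕ) :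
    𝓔.parHilb k X L m =
      ((P.eval (m : ℚ) : ℚ) : ℝ) -
        ∑ j : Fin (𝓔.l + 1), (𝓔.wtX j.succ - 𝓔.wtX j.castSucc) * (((H j.succ).eval (m : ℚ) : ℚ) : ℝ) := by
  haveI := Groth.Agent.CurveCohLib.isNoetherian_of_proper (k := k) (X := X)
  let f : X.Modules → ℝ := fun A => (Curv2.euler k X (ShStab.twist X L A m) : ℝ)
  let h : Fin (𝓔.l + 2) → ℝ := fun j => (((H j).eval (m : ℚ) : ℚ) : ℝ)
  have hfE : f E = ((P.eval (m : ℚ) : ℚ) : ℝ) := by
    show ((Curv2.euler k X _ : ℤ) : ℝ) = _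
    rw [← hP m, Rat.cast_intCast]
  have hkey : ∀ j, f ((𝓔.pieceX j : Subobject E) : X.Modules) = f E - h j := fun j => by
    have hS : (ShortComplex.mk (𝓔.pieceX j).arrow (cokernel.π (𝓔.pieceX j).arrow) (cokernel.condition _)).ShortExact :=
      { exact := ShortComplex.exact_cokernel _, mono_f := inferInstance, epi_g := inferInstance }
    have h1 := Groth.Agent.ParShLib.euler_twist_add k hS (hcoh j) hE
      (Groth.Agent.QCoh.isCoh_cokernel (hcoh j).1 hE _) hL.1 m
    have h2 : h j = f (cokernel (𝓔.pieceX j).arrow) := by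
      show ((_ : ℚ) : ℝ) = ((Curv2.euler k X _ : ℤ) : ℝ)
      rw [← hH j m, Rat.cast_intCast]
    rw [h2, eq_sub_iff_add_eq]
    show ((Curv2.euler k X _ : ℤ) : ℝ) + ((Curv2.euler k X _ : ℤ) : ℝ) = ((Curv2.euler k X _ : ℤ) : ℝ)
    exact_mod_cast h1.symm
  have h00 : h 0 = 0 := by
    have h1 := hkey 0
    have h2 : 𝓔.pieceX 0 = ⊤ := (𝓔.pieceX_castSucc 0).trans 𝓔.piece_zero
    rw [h2] at h1
    have hN := Groth.Agent.InvX.isInvertible_tensorPow hL.1 m
    have h3 : f ((⊤ : Subobject E) : X.Modules) = f E := congrArg Int.cast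
      (Groth.Agent.CurveCohLib.euler_congr (k := k)
        ((Groth.Agent.AmpleVan.tw (CohB1.tensorPow L m)).mapIso (asIso (⊤ : Subobject E).arrow)))
    linarith
  show f _ + ∑ j : Fin (𝓔.l + 1), 𝓔.wt j * (f _ - f _) = _
  have hb : f (𝓔.bot : X.Modules) = f E - h (Fin.last (𝓔.l + 1)) := by
    rw [← hkey, 𝓔.pieceX_last]
  have hp : ∀ j : Fin (𝓔.l + 1), f (𝓔.piece j : X.Modules) = f E - h j.castSucc := fun j => by
    rw [← hkey, 𝓔.pieceX_castSucc]
  let g : Fin (𝓔.l + 2) → ℝ := fun j => 𝓔.wtX j * h j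
  have htel : ∑ j : Fin (𝓔.l + 1), (g j.succ - g j.castSucc) = h (Fin.last (𝓔.l + 1)) := by
    rw [Finset.sum_sub_distrib]
    have e1 := Fin.sum_univ_succ g
    have e2 := Fin.sum_univ_castSucc g
    have e3 : g 0 = 0 := by show _ * h 0 = 0; rw [h00, mul_zero]
    have e4 : g (Fin.last (𝓔.l + 1)) = h (Fin.last (𝓔.l + 1)) := by
      show 𝓔.wtX _ * _ = _; rw [𝓔.wtX_last, one_mul]
    linarith
  rw [hb, ← hfE]
  suffices ∑ j : Fin (𝓔.l + 1), 𝓔.wt j * (f (𝓔.piece j : X.Modules) - f ((𝓔.pieceX j.succ : Subobject E) : X.Modules)) +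
      ∑ j : Fin (𝓔.l + 1), (𝓔.wtX j.succ - 𝓔.wtX j.castSucc) * h j.succ = h (Fin.last (𝓔.l + 1)) by
    linarith
  rw [← htel, ← Finset.sum_add_distrib]
  refine Finset.sum_congr rfl fun j _ => ?_
  rw [hp j, hkey j.succ]
  show _ = 𝓔.wtX j.succ * h j.succ - 𝓔.wtX j.castSucc * h j.castSucc
  rw [𝓔.wtX_castSucc]
  ring

end Groth.Agent.S18526
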