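import Groth.Statements.S18527
import Groth.Agent.ParShLib.Coeff

set_option autoImplicit false
universe u
open CategoryTheory CategoryTheory.Limits AlgebraicGeometry Polynomial
open ParSh

namespace Groth.Agent.S18527

/-- An upper and a lower bound for the second coefficient of the parabolic Hilbert polynomial. Let X be
a scheme proper over a field k with an ample invertible sheaf L, I the ideal of an effective Cartier
divisor D on X, and E a coherent O_X-module with a finite weighted filtration 𝓔 along I by coherent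
pieces E = E₀ ⊇ ⋯ ⊇ E_l ⊇ E_{l+1} = I·E, weights 0 ≤ w₀ < ⋯ < w_l < 1. Let d ≥ 1 be a natural number
with Supp E ∩ Supp D of topological Krull dimension less than d, P the Hilbert polynomial of E with
respect to L and P_j that of E_j (0 ≤ j ≤ l+1). Then the coefficient of degree d − 1 of the
parabolic Hilbert polynomial P_{l+1} + Σ_{j ≤ l} w_j (P_j − P_{j+1}) is at least the coefficient of
degree d − 1 of P_{l+1} and at most that of P. For E pure of dimension d this says that the
parabolic slope lies between the slope of E(−D) and the slope of E; the published statement also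
gives a lower bound μ(E) − b with b depending only on a bound for the multiplicity of E, on d, D and
L, which is not part of this row. -/
theorem result (k : Type u) [Field k] (X : Scheme.{u})
    [X.Over (Spec (CommRingCat.of k))] [IsProper (X ↘ Spec (CommRingCat.of k))]
    (L : X.Modules) (hL : CohB1.IsAmple L) (I : X.IdealSheafData) (hD : FGA.IsEffCartier I)
    (E : X.Modules) (hE : Coh.IsCoh E) (𝓔 : ParSh.Str E) (h𝓔 : 𝓔.Along I)
    (hcoh : ∀ j, Coh.IsCoh ((𝓔.pieceX j : Subobject E) : X.Modules)) (d : ℕ) (hd : 1 ≤ d)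
    (hsupp : topologicalKrullDim ↥(CohB1.support E ∩ (I.support : Set X)) < (d : WithBot ℕ∞))
    (P : ℚ[X]) (hP : ShStab.IsHilbPoly k X L E P) (PX : Fin (𝓔.l + 2) → ℚ[X])
    (hPX : ∀ j, ShStab.IsHilbPoly k X L ((𝓔.pieceX j : Subobject E) : X.Modules) (PX j)) :
    (W4swparbununimod.rpoly (PX (Fin.last (𝓔.l + 1)))).coeff (d - 1) ≤ (W4swparbununimod.parPoly 𝓔 PX).coeff (d - 1) ∧
      (W4swparbununimod.parPoly 𝓔 PX).coeff (d - 1) ≤ (W4swparbununimod.rpoly P).coeff (d - 1) := by
  haveI := Groth.Agent.CurveCohLib.isNoetherian_of_proper (k := k) (X := X)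
  have hA := Groth.Agent.ParShLib.agreeOff_of_along I 𝓔 h𝓔
  have h0 := Groth.Agent.ParShLib.hilb_zero k hL 𝓔 hP hPX
  let c : Fin (𝓔.l + 2) → ℝ := fun j => ((PX j).coeff (d - 1) : ℝ)
  have hstep : ∀ j : Fin (𝓔.l + 1), 0 ≤ c j.castSucc - c j.succ := fun j => by
    have hle := Groth.Agent.ParShLib.pieceX_succ_le 𝓔 j
    have hH := Groth.Agent.ParShLib.hilb_cokernel k hL (Subobject.ofLE _ _ hle) (hcoh j.succ) (hcoh j.castSucc) (hPX j.castSucc) (hPX j.succ)
    have hc := Groth.Agent.ParShLib.coeff_nonneg_of_support k hL (Groth.Agent.QCoh.isCoh_cokernel (hcoh j.succ).1 (hcoh j.castSucc) _)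
      (hA.support_step hE.1 j (hcoh j.castSucc).1 (hcoh j.succ).1) hsupp hH
    rw [Polynomial.coeff_sub] at hc
    have h2 : ((0 : ℚ) : ℝ) ≤ (((PX j.castSucc).coeff (d - 1) - (PX j.succ).coeff (d - 1) : ℚ) : ℝ) := Rat.cast_le.2 hc
    push_cast at h2
    exact h2
  have hpar : (W4swparbununimod.parPoly 𝓔 PX).coeff (d - 1) =
      c (Fin.last _) + ∑ j : Fin (𝓔.l + 1), 𝓔.wt j * (c j.castSucc - c j.succ) := by
    simp [W4swparbununimod.parPoly, c, Polynomial.coeff_map, Polynomial.coeff_C_mul]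
  have htel : ∑ j : Fin (𝓔.l + 1), (c j.castSucc - c j.succ) = c 0 - c (Fin.last _) := by
    rw [Finset.sum_sub_distrib]
    have e1 := Fin.sum_univ_succ c
    have e2 := Fin.sum_univ_castSucc c
    linarith
  have hw : ∀ j, 0 ≤ 𝓔.wt j ∧ 𝓔.wt j ≤ 1 := fun j =>
    ⟨𝓔.wt_nonneg.trans (𝓔.wt_strictMono.monotone (Fin.zero_le j)),
      (𝓔.wt_strictMono.monotone (Fin.le_last j)).trans 𝓔.wt_lt_one.le⟩
  have hlo : 0 ≤ ∑ j : Fin (𝓔.l + 1), 𝓔.wt j * (c j.castSucc - c j.succ) :=
    Finset.sum_nonneg fun j _ => mul_nonneg (hw j).1 (hstep j)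
  have hhi : ∑ j : Fin (𝓔.l + 1), 𝓔.wt j * (c j.castSucc - c j.succ) ≤ c 0 - c (Fin.last _) :=
    htel ▸ Finset.sum_le_sum fun j _ => mul_le_of_le_one_left (hstep j) (hw j).2
  have hc0 : c 0 = (W4swparbununimod.rpoly P).coeff (d - 1) := by simp [c, h0, Polynomial.coeff_map]
  have hcl : c (Fin.last _) = (W4swparbununimod.rpoly (PX (Fin.last (𝓔.l + 1)))).coeff (d - 1) := by
    simp [c, Polynomial.coeff_map]
  constructor <;> linarith

end Groth.Agent.S18527
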