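import Groth.Statements.S18528
import Groth.Agent.ParShLib.Asymp

set_option autoImplicit false
universe u
open CategoryTheory CategoryTheory.Limits AlgebraicGeometry Polynomial
open ParSh

namespace Groth.Agent.S18528

/-- Reduced parabolic Hilbert polynomials versus parabolic slopes, for one test subsheaf. Let X be a
scheme proper over a field k with an ample invertible sheaf L, I the ideal of an effective Cartier
divisor D on X, and E a nonzero coherent O_X-module, pure of dimension d ≥ 1, with Supp E ∩ Supp D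
of topological Krull dimension less than d, carrying a finite weighted filtration 𝓔 along I by
coherent pieces E = E₀ ⊇ ⋯ ⊇ E_{l+1} = I·E with weights 0 ≤ w₀ < ⋯ < w_l < 1. Let P be the Hilbert
polynomial of E and P_j that of E_j. Let ι : W → E be a monomorphism from a coherent module W, give
W the induced filtration (pieces the preimages of the E_j, same weights) with Hilbert polynomials Q
of W and Q_j of its pieces, and write Par_E = P_{l+1} + Σ_j w_j (P_j − P_{j+1}), Par_W = Q_{l+1} +
Σ_j w_j (Q_j − Q_{j+1}), α_d for d! times the coefficient of degree d. Then: (i) if Par_W(m)·α_d(P)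
≤ Par_E(m)·α_d(Q) for all large natural numbers m, the coefficients of degree d − 1 satisfy
coeff(Par_W)·α_d(P) ≤ coeff(Par_E)·α_d(Q); (ii) if this coefficient inequality is strict, then
Par_W(m)·α_d(P) < Par_E(m)·α_d(Q) for all large m. With W running over the saturated nonzero proper
subsheaves this is the published implication: parabolic semistability for the reduced parabolic
Hilbert polynomial implies parabolic slope-semistability, and parabolic slope-stability implies
stability for the reduced parabolic Hilbert polynomial. -/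
theorem result (k : Type u) [Field k] (X : Scheme.{u})
    [X.Over (Spec (CommRingCat.of k))] [IsProper (X ↘ Spec (CommRingCat.of k))]
    (L : X.Modules) (hL : CohB1.IsAmple L) (I : X.IdealSheafData) (hD : FGA.IsEffCartier I)
    (E : X.Modules) (hE : Coh.IsCoh E) (h0 : ¬ IsZero E) (d : ℕ) (hd : 1 ≤ d)
    (hpure : ShStab.IsPure X E d) (𝓔 : ParSh.Str E) (h𝓔 : 𝓔.Along I)
    (hcoh : ∀ j, Coh.IsCoh ((𝓔.pieceX j : Subobject E) : X.Modules))
    (hsupp : topologicalKrullDim ↥(CohB1.support E ∩ (I.support : Set X)) < (d : WithBot ℕ∞))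
    (P : ℚ[X]) (hP : ShStab.IsHilbPoly k X L E P) (PX : Fin (𝓔.l + 2) → ℚ[X])
    (hPX : ∀ j, ShStab.IsHilbPoly k X L ((𝓔.pieceX j : Subobject E) : X.Modules) (PX j))
    {W : X.Modules} (ι : W ⟶ E) [Mono ι] (hW : Coh.IsCoh W)
    (Q : ℚ[X]) (hQ : ShStab.IsHilbPoly k X L W Q) (QX : Fin (𝓔.l + 2) → ℚ[X])
    (hQX : ∀ j, ShStab.IsHilbPoly k X L (((𝓔.induced ι).pieceX j : Subobject W) : X.Modules) (QX j)) :
    ((∃ M : ℕ, ∀ m : ℕ, M ≤ m →
        (W4swparbununimod.parPoly (𝓔.induced ι) QX).eval (m : ℝ) * (StabCat.alpha d P : ℝ) ≤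
          (W4swparbununimod.parPoly 𝓔 PX).eval (m : ℝ) * (StabCat.alpha d Q : ℝ)) →
      (W4swparbununimod.parPoly (𝓔.induced ι) QX).coeff (d - 1) * (StabCat.alpha d P : ℝ) ≤
        (W4swparbununimod.parPoly 𝓔 PX).coeff (d - 1) * (StabCat.alpha d Q : ℝ)) ∧
    ((W4swparbununimod.parPoly (𝓔.induced ι) QX).coeff (d - 1) * (StabCat.alpha d P : ℝ) <
        (W4swparbununimod.parPoly 𝓔 PX).coeff (d - 1) * (StabCat.alpha d Q : ℝ) →
      ∃ M : ℕ, ∀ m : ℕ, M ≤ m →
        (W4swparbununimod.parPoly (𝓔.induced ι) QX).eval (m : ℝ) * (StabCat.alpha d P : ℝ) <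
          (W4swparbununimod.parPoly 𝓔 PX).eval (m : ℝ) * (StabCat.alpha d Q : ℝ)) := by
  haveI := Groth.Agent.CurveCohLib.isNoetherian_of_proper (k := k) (X := X)
  have hA := Groth.Agent.ParShLib.agreeOff_of_along I 𝓔 h𝓔
  have hA' := hA.induced ι
  have hcW : ∀ j, Coh.IsCoh (((𝓔.induced ι).pieceX j : Subobject W) : X.Modules) := fun j =>
    Groth.Agent.ParShLib.isCoh_induced hE hW 𝓔 ι hcoh j
  have hsub := Groth.Agent.QCoh.mem_support_of_mono hW.1 hE.1 ι
  have hdimW : topologicalKrullDim ↥(CohB1.support W ∩ (I.support : Set X)) < (d : WithBot ℕ∞) :=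
    lt_of_le_of_lt ((Topology.IsInducing.subtypeVal.of_comp_iff.1
      (show Topology.IsInducing (Subtype.val ∘ Set.inclusion (Set.inter_subset_inter_left (I.support : Set X) hsub))
        from Topology.IsInducing.subtypeVal)).topologicalKrullDim_le) hsupp
  have hdE : topologicalKrullDim ↥(CohB1.support E) < ((d + 1 : ℕ) : WithBot ℕ∞) := by
    rw [hpure E (𝟙 E) inferInstance hE h0]
    exact_mod_cast Nat.lt_succ_self d
  have hP0 : ∀ n, d < n → P.coeff n = 0 := fun n hn => Polynomial.coeff_eq_zero_of_degree_lt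
    (lt_of_lt_of_le (Groth.Agent.ParShLib.degree_lt_of_support k hL hE le_rfl hdE hP) (Nat.cast_le.2 hn))
  have hQ0 : ∀ n, d < n → Q.coeff n = 0 := fun n hn => Polynomial.coeff_eq_zero_of_degree_lt
    (lt_of_lt_of_le (Groth.Agent.ParShLib.degree_lt_of_support k hL hW hsub hdE hQ) (Nat.cast_le.2 hn))
  let D : Polynomial ℝ := W4swparbununimod.parPoly (𝓔.induced ι) QX * Polynomial.C (StabCat.alpha d P : ℝ) -
    W4swparbununimod.parPoly 𝓔 PX * Polynomial.C (StabCat.alpha d Q : ℝ)
  have hDc : ∀ n, D.coeff n = (W4swparbununimod.parPoly (𝓔.induced ι) QX).coeff n * (StabCat.alpha d P : ℝ) -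
      (W4swparbununimod.parPoly 𝓔 PX).coeff n * (StabCat.alpha d Q : ℝ) := fun n => by simp [D]
  have hDe : ∀ m : ℕ, D.eval (m : ℝ) = (W4swparbununimod.parPoly (𝓔.induced ι) QX).eval (m : ℝ) * (StabCat.alpha d P : ℝ) -
      (W4swparbununimod.parPoly 𝓔 PX).eval (m : ℝ) * (StabCat.alpha d Q : ℝ) := fun m => by simp [D]
  have hD : ∀ n, d - 1 < n → D.coeff n = 0 := fun n hn => by
    have hdn : d ≤ n := by omega
    rw [hDc, Groth.Agent.ParShLib.parPoly_coeff_eq k hL hW hA' hcW hdimW hQ hQX hdn,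
      Groth.Agent.ParShLib.parPoly_coeff_eq k hL hE hA hcoh hsupp hP hPX hdn]
    rcases hdn.eq_or_lt with rfl | h
    · simp [StabCat.alpha]
      ring
    · simp [hP0 n h, hQ0 n h]
  constructor
  · rintro ⟨M, hM⟩
    have h := Groth.Agent.ParShLib.coeff_nonpos_of_eventually hD ⟨M, fun m hm => by
      rw [hDe]; linarith [hM m hm]⟩
    rw [hDc] at h
    linarith
  · intro hlt
    obtain ⟨M, hM⟩ := Groth.Agent.ParShLib.eventually_neg_of_coeff hD (by rw [hDc]; linarith)
    exact ⟨M, fun m hm => by have := hM m hm; rw [hDe] at this; linarith⟩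

end Groth.Agent.S18528
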