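import Groth.Statements.S18529
import Groth.Agent.ParShLib.PolyEq
import Groth.Agent.ParShLib.Weights

set_option autoImplicit false
universe u
open CategoryTheory CategoryTheory.Limits AlgebraicGeometry Polynomial
open ParSh

namespace Groth.Agent.S18529

/-- Kernel and image of a parabolic homomorphism between semistable parabolic sheaves with the same
reduced parabolic Hilbert polynomial, for one divisor. Let X be a scheme proper over a field k with
an ample invertible sheaf L, I the ideal of an effective Cartier divisor D on X, and d ≥ 1. Let E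
and F be nonzero coherent O_X-modules, pure of dimension d, with Supp E ∩ Supp D and Supp F ∩ Supp D
of topological Krull dimension less than d, carrying finite weighted filtrations 𝓔 and 𝓕 along I by
coherent pieces, with the same set of weights and with smallest weight positive. Let P and R be the
Hilbert polynomials of E and F, P_j and R_j those of the pieces, and Par_E = P_{l+1} + Σ_j w_j (P_j
− P_{j+1}), Par_F likewise; α_d denotes d! times the coefficient of degree d. Assume both filtered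
sheaves are semistable for the reduced parabolic Hilbert polynomial: for every nonzero coherent
sub-module W → E whose cokernel is pure of dimension d or zero, with its induced filtration and any
Hilbert polynomials Q of W and Q_j of its pieces, Par_W(m)·α_d(P) ≤ Par_E(m)·α_d(Q) for all large
natural m (and the same for F); and assume Par_E·α_d(R) = Par_F·α_d(P). Let f : E → F be a parabolic
homomorphism, j : K → E a monomorphism with 0 → K → E → F exact at E, and f = q ≫ u with q : E → V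
an epimorphism and u : V → F a monomorphism. Then: (1) for all Hilbert polynomials Q_K of K and
Q_{K,j} of the pieces of the filtration induced on K, Par_K·α_d(P) = Par_E·α_d(Q_K) (the kernel has
the same reduced parabolic Hilbert polynomial); (2) the cokernel of u is pure of dimension d or zero
(the image of f is saturated in F); (3) for every real a with 0 ≤ a ≤ 1, the a-th piece of the
filtration induced on V as a quotient of E equals the a-th piece of the filtration induced on V as a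
sub-module of F. The published statement is phrased for parabolic sheaves along several divisors on
the fibres of a projective X → S over an algebraically closed field and concludes that such sheaves
form an abelian category; this row is the absolute one-divisor case of the kernel and image steps of
its proof, with semistability tested on saturated sub-modules carrying the induced filtration. -/
theorem result (k : Type u) [Field k] (X : Scheme.{u})
    [X.Over (Spec (CommRingCat.of k))] [IsProper (X ↘ Spec (CommRingCat.of k))]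
    (L : X.Modules) (hL : CohB1.IsAmple L) (I : X.IdealSheafData) (hD : FGA.IsEffCartier I) (d : ℕ) (hd : 1 ≤ d)
    {E F : X.Modules} (hE : Coh.IsCoh E) (hF : Coh.IsCoh F) (hE0 : ¬ IsZero E) (hF0 : ¬ IsZero F)
    (hEp : ShStab.IsPure X E d) (hFp : ShStab.IsPure X F d)
    (hEs : topologicalKrullDim ↥(CohB1.support E ∩ (I.support : Set X)) < (d : WithBot ℕ∞))
    (hFs : topologicalKrullDim ↥(CohB1.support F ∩ (I.support : Set X)) < (d : WithBot ℕ∞))
    (𝓔 : ParSh.Str E) (h𝓔 : 𝓔.Along I) (𝓕 : ParSh.Str F) (h𝓕 : 𝓕.Along I)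
    (hcE : ∀ j, Coh.IsCoh ((𝓔.pieceX j : Subobject E) : X.Modules))
    (hcF : ∀ j, Coh.IsCoh ((𝓕.pieceX j : Subobject F) : X.Modules))
    (hw : Set.range 𝓕.wt = Set.range 𝓔.wt) (hw0 : 0 < 𝓔.wt 0)
    (P R : ℚ[X]) (hP : ShStab.IsHilbPoly k X L E P) (hR : ShStab.IsHilbPoly k X L F R)
    (PX : Fin (𝓔.l + 2) → ℚ[X]) (hPX : ∀ j, ShStab.IsHilbPoly k X L ((𝓔.pieceX j : Subobject E) : X.Modules) (PX j))
    (RX : Fin (𝓕.l + 2) → ℚ[X]) (hRX : ∀ j, ShStab.IsHilbPoly k X L ((𝓕.pieceX j : Subobject F) : X.Modules) (RX j))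
    (hssE : (∀ (W : X.Modules) (ι : W ⟶ E), Mono ι → Coh.IsCoh W → ¬ IsZero W → ShStab.IsPure X (cokernel ι) d →
        ∀ (Q : ℚ[X]) (QX : Fin (𝓔.l + 2) → ℚ[X]), ShStab.IsHilbPoly k X L W Q →
          (∀ j, ShStab.IsHilbPoly k X L (((𝓔.induced ι).pieceX j : Subobject W) : X.Modules) (QX j)) →
          ∃ M : ℕ, ∀ m : ℕ, M ≤ m →
            (W4swparbununimod.parPoly (𝓔.induced ι) QX).eval (m : ℝ) * (StabCat.alpha d P : ℝ) ≤
              (W4swparbununimod.parPoly 𝓔 PX).eval (m : ℝ) * (StabCat.alpha d Q : ℝ)))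
    (hssF : (∀ (W : X.Modules) (ι : W ⟶ F), Mono ι → Coh.IsCoh W → ¬ IsZero W → ShStab.IsPure X (cokernel ι) d →
        ∀ (Q : ℚ[X]) (QX : Fin (𝓕.l + 2) → ℚ[X]), ShStab.IsHilbPoly k X L W Q →
          (∀ j, ShStab.IsHilbPoly k X L (((𝓕.induced ι).pieceX j : Subobject W) : X.Modules) (QX j)) →
          ∃ M : ℕ, ∀ m : ℕ, M ≤ m →
            (W4swparbununimod.parPoly (𝓕.induced ι) QX).eval (m : ℝ) * (StabCat.alpha d R : ℝ) ≤
              (W4swparbununimod.parPoly 𝓕 RX).eval (m : ℝ) * (StabCat.alpha d Q : ℝ)))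
    (hred : W4swparbununimod.parPoly 𝓔 PX * Polynomial.C (StabCat.alpha d R : ℝ) =
      W4swparbununimod.parPoly 𝓕 RX * Polynomial.C (StabCat.alpha d P : ℝ))
    (f : E ⟶ F) (hf : ParSh.IsParHom 𝓔 𝓕 f)
    {K V : X.Modules} (j : K ⟶ E) [Mono j] (w : j ≫ f = 0) (hex : (ShortComplex.mk j f w).Exact)
    (q : E ⟶ V) [Epi q] (u : V ⟶ F) [Mono u] (hqu : q ≫ u = f) :
    (∀ (QK : ℚ[X]) (QKX : Fin (𝓔.l + 2) → ℚ[X]), ShStab.IsHilbPoly k X L K QK →
        (∀ j', ShStab.IsHilbPoly k X L (((𝓔.induced j).pieceX j' : Subobject K) : X.Modules) (QKX j')) →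
        W4swparbununimod.parPoly (𝓔.induced j) QKX * Polynomial.C (StabCat.alpha d P : ℝ) =
          W4swparbununimod.parPoly 𝓔 PX * Polynomial.C (StabCat.alpha d QK : ℝ)) ∧
    ShStab.IsPure X (cokernel u) d ∧
    (∀ a : ℝ, 0 ≤ a → a ≤ 1 → (𝓔.coinduced q).at a = (𝓕.induced u).at a) := by
  classical
  haveI := Groth.Agent.CurveCohLib.isNoetherian_of_proper (k := k) (X := X)
  haveI : Mono j := inferInstance
  have hdE := HilbPoly.dim_le_of_isPure hEp hE
  have hdF := HilbPoly.dim_le_of_isPure hFp hF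
  -- the kernel sequence
  have hjq : j ≫ q = 0 := by rw [← cancel_mono u, Category.assoc, hqu, w, Limits.zero_comp]
  have hS : (ShortComplex.mk j q hjq).ShortExact :=
    .mk' (ShortComplex.exact_of_f_is_kernel _ (isKernelOfComp u f hex.fIsKernel hjq hqu)) inferInstance inferInstance
  have hV : Coh.IsCoh V := by
    have hG : Coh.IsCoh (Abelian.image f) := QCoh.isCoh_kernel hF (QCoh.isCoh_cokernel hE.1 hF f) _
    have hu : u ≫ cokernel.π f = 0 := by rw [← cancel_epi q, reassoc_of% hqu, cokernel.condition, Limits.comp_zero]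
    let t : V ⟶ Abelian.image f := kernel.lift _ u hu
    haveI : Mono t := mono_of_mono_fac (kernel.lift_ι _ u hu)
    have ht : q ≫ t = Abelian.factorThruImage f := by
      rw [← cancel_mono (Abelian.image.ι f), Category.assoc, kernel.lift_ι, hqu, Abelian.image.fac]
    haveI : Epi t := epi_of_epi_fac ht
    haveI := isIso_of_mono_of_epi t
    exact HilbPoly.isCoh_of_iso (asIso t).symm hG
  have hK : Coh.IsCoh K := HilbPoly.isCoh_of_iso
    (IsLimit.conePointUniqueUpToIso (kernelIsKernel q) hS.fIsKernel) (QCoh.isCoh_kernel hE hV q)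
  have hdV := HilbPoly.dim_mono hV hF u hdF
  have hdK := HilbPoly.dim_mono hK hE j hdE
  have hαP : 0 < StabCat.alpha d P := HilbPoly.alpha_pos hL hE (hEp E (𝟙 E) inferInstance hE hE0) hP
  have hαR : 0 < StabCat.alpha d R := HilbPoly.alpha_pos hL hF (hFp F (𝟙 F) inferInstance hF hF0) hR
  have hcEK : ∀ i : Fin (𝓔.l + 2), Coh.IsCoh (((𝓔.induced j).pieceX i : Subobject K) : X.Modules) := fun i =>
    ParShLib.isCoh_induced hE hK 𝓔 j hcE i
  have hcFU : ∀ i : Fin (𝓕.l + 2), Coh.IsCoh (((𝓕.induced u).pieceX i : Subobject V) : X.Modules) := fun i =>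
    ParShLib.isCoh_induced hF hV 𝓕 u hcF i
  -- the coinduced pieces
  have hco : ∀ i : Fin (𝓔.l + 2), (𝓔.coinduced q).pieceX i = imageSubobject ((𝓔.pieceX i).arrow ≫ q) := fun i => by
    induction i using Fin.lastCases with
    | last =>
      rw [show (𝓔.coinduced q).pieceX (Fin.last (𝓔.l + 1)) = (𝓔.coinduced q).bot from (𝓔.coinduced q).pieceX_last,
        𝓔.pieceX_last]
      rfl
    | cast i =>
      rw [show (𝓔.coinduced q).pieceX i.castSucc = (𝓔.coinduced q).piece i from (𝓔.coinduced q).pieceX_castSucc i,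
        𝓔.pieceX_castSucc]
      rfl
  have hcV : ∀ i : Fin (𝓔.l + 2), Coh.IsCoh (((𝓔.coinduced q).pieceX i : Subobject V) : X.Modules) := fun i => by
    rw [hco i]
    obtain ⟨w', hT⟩ := ParShLib.shortExact_pullback_image hS (𝓔.pieceX i)
    exact (ParShLib.isCoh_parts _ ((𝓔.pieceX i).arrow ≫ q) (hcE i) hV w' hT).2
  -- matching the indices
  have hl : 𝓕.l = 𝓔.l := by
    have h := congrArg Set.ncard hw
    rw [Set.ncard_range_of_injective 𝓕.wt_strictMono.injective,
      Set.ncard_range_of_injective 𝓔.wt_strictMono.injective, Nat.card_fin, Nat.card_fin] at h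
    omega
  have hl1 : 𝓔.l + 1 = 𝓕.l + 1 := by omega
  have hl2 : 𝓔.l + 2 = 𝓕.l + 2 := by omega
  have hwt : ∀ i : Fin (𝓔.l + 1), 𝓕.wt (Fin.cast hl1 i) = 𝓔.wt i := by
    have h2 : StrictMono (fun i => 𝓕.wt (Fin.cast hl1 i)) := fun a b hab => 𝓕.wt_strictMono (by simpa using hab)
    exact fun i => congrFun ((h2.range_inj 𝓔.wt_strictMono).1 (by
      rw [← hw]
      exact Function.Surjective.range_comp (fun y => ⟨Fin.cast hl1.symm y, by simp⟩) 𝓕.wt)) i
  have hsucc : ∀ i : Fin (𝓔.l + 1), (Fin.cast hl1 i).succ = Fin.cast hl2 i.succ := fun i => Fin.ext (by simp)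
  have hcast : ∀ i : Fin (𝓔.l + 1), (Fin.cast hl1 i).castSucc = Fin.cast hl2 i.castSucc := fun i => Fin.ext (by simp)
  have hwtX : ∀ i : Fin (𝓔.l + 2), 𝓕.wtX (Fin.cast hl2 i) = 𝓔.wtX i := fun i => by
    induction i using Fin.lastCases with
    | last =>
      rw [show Fin.cast hl2 (Fin.last (𝓔.l + 1)) = Fin.last (𝓕.l + 1) from Fin.ext (by simp [hl]),
        𝓕.wtX_last, 𝓔.wtX_last]
    | cast i => rw [← hcast i, 𝓕.wtX_castSucc, 𝓔.wtX_castSucc, hwt i]
  have hle : ∀ i : Fin (𝓔.l + 2), imageSubobject ((𝓔.pieceX i).arrow ≫ q) ≤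
      (Subobject.pullback u).obj (𝓕.pieceX (Fin.cast hl2 i)) := by
    have hgen : ∀ (a : ℝ), 0 ≤ a → a ≤ 1 →
        imageSubobject ((𝓔.at a).arrow ≫ q) ≤ (Subobject.pullback u).obj (𝓕.at a) := fun a h0 h1 => by
      have hpb := Subobject.isPullback u (𝓕.at a)
      have hf' := Subobject.factorThru_arrow (𝓕.at a) ((𝓔.at a).arrow ≫ f) (hf a h0 h1)
      exact imageSubobject_le _ (hpb.lift _ ((𝓔.at a).arrow ≫ q) (by rw [hf', ← hqu, Category.assoc]))
        (hpb.lift_snd _ _ _)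
    intro i
    induction i using Fin.lastCases with
    | last =>
      rw [show Fin.cast hl2 (Fin.last (𝓔.l + 1)) = Fin.last (𝓕.l + 1) from Fin.ext (by simp [hl]),
        𝓔.pieceX_last, 𝓕.pieceX_last]
      have hb : ∀ i', 𝓕.wt i' < 1 := fun i' =>
        lt_of_le_of_lt (𝓕.wt_strictMono.monotone (Fin.le_last i')) 𝓕.wt_lt_one
      have hb' : ∀ i', 𝓔.wt i' < 1 := fun i' =>
        lt_of_le_of_lt (𝓔.wt_strictMono.monotone (Fin.le_last i')) 𝓔.wt_lt_one
      have := hgen 1 zero_le_one le_rfl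
      rwa [𝓕.at_eq_bot hb, 𝓔.at_eq_bot hb'] at this
    | cast i =>
      rw [← hcast i, 𝓔.pieceX_castSucc, 𝓕.pieceX_castSucc]
      have := hgen (𝓔.wt i) (𝓔.wt_nonneg.trans (𝓔.wt_strictMono.monotone (Fin.zero_le i)))
        ((𝓔.wt_strictMono.monotone (Fin.le_last i)).trans 𝓔.wt_lt_one.le)
      rwa [𝓔.at_eq_piece i le_rfl (fun i' hi' => 𝓔.wt_strictMono hi'),
        𝓕.at_eq_piece (Fin.cast hl1 i) (hwt i).ge (fun i' hi' => hwt i ▸ 𝓕.wt_strictMono hi')] at this
  -- semistability on possibly zero saturated submodules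
  have hKc : ShStab.IsPure X (cokernel j) d := HilbPoly.isPure_of_mono
    ((IsColimit.coconePointUniqueUpToIso (cokernelIsCokernel j) hS.gIsCokernel).hom ≫ u) hFp
  obtain ⟨QU, hQU, -, -⟩ := HilbPoly.exists_hilb (k := k) hL.1 hV hdV
  obtain ⟨W, ι', l, hι', hl', hW, hWp, hprop⟩ := HilbPoly.exists_saturation hL hF hdF u hV hQU
  haveI := hι'
  have hdW := HilbPoly.dim_mono hW hF ι' hdF
  obtain ⟨QW, hQW, -, -⟩ := HilbPoly.exists_hilb (k := k) hL.1 hW hdW
  have hcFW : ∀ i : Fin (𝓕.l + 2), Coh.IsCoh (((𝓕.induced ι').pieceX i : Subobject W) : X.Modules) := fun i =>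
    ParShLib.isCoh_induced hF hW 𝓕 ι' hcF i
  choose QUX hQUX _hu1 _hu2 using fun i => HilbPoly.exists_hilb (k := k) hL.1 (hcFU i)
    (HilbPoly.dim_mono (hcFU i) hV ((𝓕.induced u).pieceX i).arrow hdV)
  choose QWX hQWX _hw1 _hw2 using fun i => HilbPoly.exists_hilb (k := k) hL.1 (hcFW i)
    (HilbPoly.dim_mono (hcFW i) hW ((𝓕.induced ι').pieceX i).arrow hdW)
  obtain ⟨QK₀, hQK₀, -, -⟩ := HilbPoly.exists_hilb (k := k) hL.1 hK hdK
  choose QKX₀ hQKX₀ _hk1 _hk2 using fun i => HilbPoly.exists_hilb (k := k) hL.1 (hcEK i)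
    (HilbPoly.dim_mono (hcEK i) hK ((𝓔.induced j).pieceX i).arrow hdK)
  have hQV : QU = P - QK₀ := by
    have h := HilbPoly.hilb_add hL.1 hS hK hE hV hQK₀ hQU
    rw [HilbPoly.isHilbPoly_unique hP h]
    abel
  have hQVX : ∀ i : Fin (𝓔.l + 2), ShStab.IsHilbPoly k X L (((𝓔.coinduced q).pieceX i : Subobject V) : X.Modules)
      (PX i - QKX₀ i) := fun i m => by
    have h1 := ParShLib.euler_piece k hS hV hL.1 (𝓔.pieceX i) (hcE i) m
    have h2 := hQKX₀ i m
    rw [ParShLib.induced_pieceX] at h2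
    rw [hco i, Polynomial.eval_sub, ← hPX i m, ← h2, h1]
    push_cast
    ring
  have e0 := ParShLib.hilb_zero k hL 𝓔 hP hPX
  have k0 := ParShLib.hilb_zero k hL (𝓔.induced j) hQK₀ hQKX₀
  have u0 := ParShLib.hilb_zero k hL (𝓕.induced u) hQU hQUX
  have w0' := ParShLib.hilb_zero k hL (𝓕.induced ι') hQW hQWX
  -- the four polynomials
  let pE : ℕ → ℝ := fun m => (W4swparbununimod.parPoly 𝓔 PX).eval (m : ℝ)
  let pF : ℕ → ℝ := fun m => (W4swparbununimod.parPoly 𝓕 RX).eval (m : ℝ)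
  let pK : ℕ → ℝ := fun m => (W4swparbununimod.parPoly (𝓔.induced j) QKX₀).eval (m : ℝ)
  let pW : ℕ → ℝ := fun m => (W4swparbununimod.parPoly (𝓕.induced ι') QWX).eval (m : ℝ)
  let val : ℚ[X] → ℕ → ℝ := fun p m => ((p.eval (m : ℚ) : ℚ) : ℝ)
  let δ : Fin (𝓔.l + 1) → ℝ := fun i => 𝓔.wtX i.succ - 𝓔.wtX i.castSucc
  have hδ : ∀ i, 0 < δ i := ParShLib.wtX_step_pos 𝓔
  let gU : ℕ → ℝ := fun m => (W4swparbununimod.parPoly (𝓕.induced u) QUX).eval (m : ℝ)
  have hpEK : ∀ m, pE m - pK m = 𝓔.wt 0 * val QU m + ∑ i, δ i * val (PX i.succ - QKX₀ i.succ) m := fun m => by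
    show (W4swparbununimod.parPoly 𝓔 PX).eval (m : ℝ) -
      (W4swparbununimod.parPoly (𝓔.induced j) QKX₀).eval (m : ℝ) = _
    rw [ParShLib.parPoly_eval' 𝓔 P PX e0 m, ParShLib.parPoly_eval' (𝓔.induced j) QK₀ QKX₀ k0 m]
    show (_ + ∑ i : Fin (𝓔.l + 1), δ i * _) - (𝓔.wt 0 * _ + ∑ i : Fin (𝓔.l + 1), δ i * _) = _
    simp only [val, hQV, Polynomial.eval_sub, Rat.cast_sub, mul_sub, Finset.sum_sub_distrib]
    refine Eq.trans ?_ (add_sub_assoc _ _ _)
    exact (add_sub_add_comm _ _ _ _).trans (add_sub_assoc _ _ _).symm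
  have hreindex : ∀ (g : Fin (𝓕.l + 2) → ℝ),
      ∑ i : Fin (𝓕.l + 1), (𝓕.wtX i.succ - 𝓕.wtX i.castSucc) * g i.succ =
        ∑ i : Fin (𝓔.l + 1), δ i * g (Fin.cast hl2 i.succ) := fun g => by
    rw [← (finCongr hl1).sum_comp]
    refine Finset.sum_congr rfl fun i _ => ?_
    show (𝓕.wtX (Fin.cast hl1 i).succ - 𝓕.wtX (Fin.cast hl1 i).castSucc) * g (Fin.cast hl1 i).succ = _
    rw [hsucc, hcast, hwtX, hwtX]
  have hw00 : 𝓕.wt 0 = 𝓔.wt 0 := by
    have := hwt 0
    rwa [show Fin.cast hl1 0 = 0 from Fin.ext (by simp)] at this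
  have hgU : ∀ m, gU m = 𝓔.wt 0 * val QU m + ∑ i, δ i * val (QUX (Fin.cast hl2 i.succ)) m := fun m => by
    show (W4swparbununimod.parPoly (𝓕.induced u) QUX).eval (m : ℝ) = _
    rw [ParShLib.parPoly_eval' (𝓕.induced u) QU QUX u0 m, ← hw00]
    exact congrArg _ (hreindex fun i => val (QUX i) m)
  have hpW : ∀ m, pW m = 𝓔.wt 0 * val QW m + ∑ i, δ i * val (QWX (Fin.cast hl2 i.succ)) m := fun m => by
    show (W4swparbununimod.parPoly (𝓕.induced ι') QWX).eval (m : ℝ) = _
    rw [ParShLib.parPoly_eval' (𝓕.induced ι') QW QWX w0' m, ← hw00]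
    exact congrArg _ (hreindex fun i => val (QWX i) m)
  -- eventual inequalities
  haveI : Mono l := mono_of_mono_fac hl'
  have hUW : ∀ i : Fin (𝓕.l + 2), ∀ᶠ m : ℕ in Filter.atTop, (QUX i).eval (m : ℚ) ≤ (QWX i).eval (m : ℚ) := fun i => by
    have sq := Subobject.isPullback u (𝓕.pieceX i)
    have sq' := Subobject.isPullback ι' (𝓕.pieceX i)
    have hc := hcFU i
    have hc' := hcFW i
    have h1 := hQUX i
    have h1' := hQWX i
    rw [ParShLib.induced_pieceX] at hc hc' h1 h1'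
    let g := sq'.lift (Subobject.pullbackπ u (𝓕.pieceX i)) (((Subobject.pullback u).obj (𝓕.pieceX i)).arrow ≫ l)
      (by rw [sq.w, Category.assoc, hl'])
    haveI : Mono (g ≫ Subobject.pullbackπ ι' (𝓕.pieceX i)) := by rw [sq'.lift_fst]; exact sq.mono_fst_of_mono
    haveI : Mono g := mono_of_mono g (Subobject.pullbackπ ι' (𝓕.pieceX i))
    exact (ParShLib.hilb_le_of_mono hL hc hc'
      (HilbPoly.dim_mono hc' hW ((Subobject.pullback ι').obj (𝓕.pieceX i)).arrow hdW) g h1 h1').1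
  have hdU : ∀ i : Fin (𝓕.l + 2), topologicalKrullDim ↥(CohB1.support (((𝓕.induced u).pieceX i : Subobject V) : X.Modules)) ≤
      (d : WithBot ℕ∞) := fun i => HilbPoly.dim_mono (hcFU i) hV ((𝓕.induced u).pieceX i).arrow hdV
  have hA : ∀ i : Fin (𝓔.l + 2), Coh.IsCoh ((imageSubobject ((𝓔.pieceX i).arrow ≫ q) : Subobject V) : X.Modules) ∧
      ShStab.IsHilbPoly k X L ((imageSubobject ((𝓔.pieceX i).arrow ≫ q) : Subobject V) : X.Modules)
        (PX i - QKX₀ i) := fun i => by
    rw [← hco i]; exact ⟨hcV i, hQVX i⟩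
  have hB : ∀ i : Fin (𝓕.l + 2), Coh.IsCoh (((Subobject.pullback u).obj (𝓕.pieceX i) : Subobject V) : X.Modules) ∧
      topologicalKrullDim ↥(CohB1.support (((Subobject.pullback u).obj (𝓕.pieceX i) : Subobject V) : X.Modules)) ≤
        (d : WithBot ℕ∞) ∧
      ShStab.IsHilbPoly k X L (((Subobject.pullback u).obj (𝓕.pieceX i) : Subobject V) : X.Modules) (QUX i) :=
    fun i => by rw [← ParShLib.induced_pieceX]; exact ⟨hcFU i, hdU i, hQUX i⟩
  have hVU : ∀ i : Fin (𝓔.l + 2), ∀ᶠ m : ℕ in Filter.atTop,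
      (PX i - QKX₀ i).eval (m : ℚ) ≤ (QUX (Fin.cast hl2 i)).eval (m : ℚ) := fun i =>
    (ParShLib.hilb_le_of_mono hL (hA i).1 (hB _).1 (hB _).2.1 (Subobject.ofLE _ _ (hle i)) (hA i).2 (hB _).2.2).1
  have hQ := (ParShLib.hilb_le_of_mono hL hV hW hdW l hQU hQW).1
  have hsK : ∀ᶠ m : ℕ in Filter.atTop, pK m * (StabCat.alpha d P : ℝ) ≤ pE m * (StabCat.alpha d QK₀ : ℝ) := by
    by_cases hz : IsZero K
    · obtain ⟨h1, h2⟩ := ParShLib.parPoly_le_of_isZero (d := d) 𝓔 j hz QK₀ QKX₀ hQK₀ hQKX₀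
      refine Filter.Eventually.of_forall fun m => ?_
      simp [pK, h1, h2]
    · exact Filter.eventually_atTop.2 (hssE K j inferInstance hK hz hKc QK₀ QKX₀ hQK₀ hQKX₀)
  have hsW : ∀ᶠ m : ℕ in Filter.atTop, pW m * (StabCat.alpha d R : ℝ) ≤ pF m * (StabCat.alpha d QW : ℝ) := by
    by_cases hz : IsZero W
    · obtain ⟨h1, h2⟩ := ParShLib.parPoly_le_of_isZero (d := d) 𝓕 ι' hz QW QWX hQW hQWX
      refine Filter.Eventually.of_forall fun m => ?_
      simp [pW, h1, h2]
    · exact Filter.eventually_atTop.2 (hssF W ι' hι' hW hz hWp QW QWX hQW hQWX)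
  have hαQ : (StabCat.alpha d QW : ℝ) = (StabCat.alpha d P : ℝ) - (StabCat.alpha d QK₀ : ℝ) := by
    rw [(hprop QW hQW).1, hQV]
    simp [StabCat.alpha, Polynomial.coeff_sub, mul_sub]
  have hαP' : (0 : ℝ) < (StabCat.alpha d P : ℝ) := by exact_mod_cast hαP
  have hαR' : (0 : ℝ) < (StabCat.alpha d R : ℝ) := by exact_mod_cast hαR
  have hall : ∀ᶠ m : ℕ in Filter.atTop, pK m * (StabCat.alpha d P : ℝ) = pE m * (StabCat.alpha d QK₀ : ℝ) ∧
      val QU m = val QW m ∧ ∀ i : Fin (𝓔.l + 1), val (PX i.succ - QKX₀ i.succ) m = val (QUX (Fin.cast hl2 i.succ)) m := by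
    filter_upwards [hsK, hsW, hQ, Filter.eventually_all.2 hVU, Filter.eventually_all.2 hUW] with m h1 h2 h3 h4 h5
    have hr : pE m * (StabCat.alpha d R : ℝ) = pF m * (StabCat.alpha d P : ℝ) := by
      have := congrArg (Polynomial.eval (m : ℝ)) hred
      simpa [pE, pF] using this
    have h3' : val QU m ≤ val QW m := Rat.cast_le.2 h3
    have h4' : ∀ i, δ i * val (PX i.succ - QKX₀ i.succ) m ≤ δ i * val (QUX (Fin.cast hl2 i.succ)) m := fun i =>
      mul_le_mul_of_nonneg_left (Rat.cast_le.2 (h4 i.succ)) (hδ i).le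
    have h5' : ∀ i, δ i * val (QUX (Fin.cast hl2 i.succ)) m ≤ δ i * val (QWX (Fin.cast hl2 i.succ)) m := fun i =>
      mul_le_mul_of_nonneg_left (Rat.cast_le.2 (h5 _)) (hδ i).le
    have s4 := Finset.sum_le_sum (s := Finset.univ) fun i _ => h4' i
    have s5 := Finset.sum_le_sum (s := Finset.univ) fun i _ => h5' i
    have w3 := mul_le_mul_of_nonneg_left h3' hw0.le
    have eV := hpEK m
    have eW := hpW m
    have b1 : pW m * (StabCat.alpha d P : ℝ) ≤ pE m * (StabCat.alpha d QW : ℝ) := by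
      refine le_of_mul_le_mul_right ?_ hαR'
      calc pW m * (StabCat.alpha d P : ℝ) * (StabCat.alpha d R : ℝ)
          = pW m * (StabCat.alpha d R : ℝ) * (StabCat.alpha d P : ℝ) := by ring
        _ ≤ pF m * (StabCat.alpha d QW : ℝ) * (StabCat.alpha d P : ℝ) := mul_le_mul_of_nonneg_right h2 hαP'.le
        _ = pF m * (StabCat.alpha d P : ℝ) * (StabCat.alpha d QW : ℝ) := by ring
        _ = pE m * (StabCat.alpha d R : ℝ) * (StabCat.alpha d QW : ℝ) := by rw [hr]
        _ = pE m * (StabCat.alpha d QW : ℝ) * (StabCat.alpha d R : ℝ) := by ring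
    rw [hαQ] at b1
    have b2 : pE m - pK m ≤ pW m := by linarith
    have b3 : pW m ≤ pE m - pK m := le_of_mul_le_mul_right (a := (StabCat.alpha d P : ℝ))
      (by rw [sub_mul]; linarith) hαP'
    have b4 := le_antisymm b2 b3
    refine ⟨?_, ?_, fun i => ?_⟩
    · have : (pE m - pK m) * (StabCat.alpha d P : ℝ) = pW m * (StabCat.alpha d P : ℝ) := by rw [b4]
      rw [sub_mul] at this
      linarith
    · exact mul_left_cancel₀ hw0.ne' (by linarith)
    · refine mul_left_cancel₀ (hδ i).ne' ?_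
      have : ∑ i, δ i * val (PX i.succ - QKX₀ i.succ) m = ∑ i, δ i * val (QUX (Fin.cast hl2 i.succ)) m := by linarith
      exact (Finset.sum_eq_sum_iff_of_le fun i _ => h4' i).1 this i (Finset.mem_univ i)
  refine ⟨fun QK QKX hQK hQKX => ?_, ?_, fun a _ _ => ?_⟩
  · obtain rfl : QK = QK₀ := HilbPoly.isHilbPoly_unique hQK hQK₀
    obtain rfl : QKX = QKX₀ := funext fun i => HilbPoly.isHilbPoly_unique (hQKX i) (hQKX₀ i)
    exact ParShLib.realPoly_eq_of_eventually (hall.mono fun m h => by simpa [pK, pE] using h.1)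
  · have he : QU = QW := ParShLib.poly_eq_of_eventually (hall.mono fun m h => Rat.cast_injective h.2.1)
    haveI := (ParShLib.hilb_le_of_mono hL hV hW hdW l hQU hQW).2 he
    exact HilbPoly.isPure_of_mono (cokernel.mapIso u ι' (asIso l) (Iso.refl F) (by simp [hl'])).hom hWp
  · have hpieces : ∀ i : Fin (𝓔.l + 2), imageSubobject ((𝓔.pieceX i).arrow ≫ q) =
        (Subobject.pullback u).obj (𝓕.pieceX (Fin.cast hl2 i)) := fun i => by
      refine Fin.cases ?_ (fun i => ?_) i
      · rw [show Fin.cast hl2 0 = 0 from Fin.ext (by simp),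
          show 𝓕.pieceX 0 = ⊤ from (𝓕.pieceX_castSucc 0).trans 𝓕.piece_zero, Subobject.pullback_top, ← hco 0]
        exact ((𝓔.coinduced q).pieceX_castSucc 0).trans (𝓔.coinduced q).piece_zero
      · exact ParShLib.eq_of_le_of_hilb_eq hL (hle i.succ) (hA _).1 (hB _).1 (hB _).2.1 (hA _).2 (hB _).2.2
          (ParShLib.poly_eq_of_eventually (hall.mono fun m h => Rat.cast_injective (h.2.2 i)))
    rw [ParShLib.at_coinduced, ParShLib.at_induced]
    rcases ParShLib.at_cases 𝓔 a with ⟨i, hi, hlt⟩ | hall'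
    · rw [𝓔.at_eq_piece i hi hlt, 𝓕.at_eq_piece (Fin.cast hl1 i) ((hwt i).symm ▸ hi)
        (fun i' hi' => by
          have := hlt (Fin.cast hl1.symm i') (by simpa [Fin.lt_def] using hi')
          rwa [← hwt, show Fin.cast hl1 (Fin.cast hl1.symm i') = i' from Fin.ext (by simp)] at this)]
      have := hpieces i.castSucc
      rwa [← hcast i, 𝓔.pieceX_castSucc, 𝓕.pieceX_castSucc] at this
    · rw [𝓔.at_eq_bot hall', 𝓕.at_eq_bot (fun i' => by
        have := hall' (Fin.cast hl1.symm i')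
        rwa [← hwt, show Fin.cast hl1 (Fin.cast hl1.symm i') = i' from Fin.ext (by simp)] at this)]
      have := hpieces (Fin.last (𝓔.l + 1))
      rwa [show Fin.cast hl2 (Fin.last (𝓔.l + 1)) = Fin.last (𝓕.l + 1) from Fin.ext (by simp [hl]),
        𝓔.pieceX_last, 𝓕.pieceX_last] at this

end Groth.Agent.S18529
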