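import Groth.Statements.S1853
import Groth.Agent.CycLib.Ratio
import Groth.Agent.IntThLib.Norm

set_option autoImplicit false
open Groth.Agent
universe u
open CycDet

namespace Groth.Agent.S1853

/-- Let R be Noetherian local, 𝔮 a prime with dim R/𝔮 = 1, and φ : M → N a map of finite modules
generated by x₁, …, x_l and y₁, …, y_l respectively, with all successive quotients
⟨x₁..x_i⟩/⟨x₁..x_{i−1}⟩ and ⟨y₁..y_i⟩/⟨y₁..y_{i−1}⟩ isomorphic to R/𝔮. Then φ is injective iff φ_𝔮
is bijective; and in that case, if the symbols of (φ(x_i)) and (y_i) in det_{κ(𝔮)}(N_𝔮) differ by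
the scalar f, the length of coker φ equals ord_{R/𝔮}(f). -/
theorem result (R : Type u) [CommRing R] [IsNoetherianRing R] [IsLocalRing R] (q : PrimeSpectrum R) (hq : ringKrullDim (R ⧸ q.asIdeal) = 1) (M N : Type u) [AddCommGroup M] [Module R M] [AddCommGroup N] [Module R N] [Module.Finite R M] [Module.Finite R N] (φ : M →ₗ[R] N) (l : ℕ) (x : Fin l → M) (y : Fin l → N) (hx : Submodule.span R (Set.range x) = ⊤) (hy : Submodule.span R (Set.range y) = ⊤) (hxq : ∀ i : Fin l, Nonempty ((↥(CycDet.spanBefore R M x (i + 1)) ⧸ (CycDet.spanBefore R M x i).submoduleOf (CycDet.spanBefore R M x (i + 1))) ≃ₗ[R] (R ⧸ q.asIdeal))) (hyq : ∀ i : Fin l, Nonempty ((↥(CycDet.spanBefore R N y (i + 1)) ⧸ (CycDet.spanBefore R N y i).submoduleOf (CycDet.spanBefore R N y (i + 1))) ≃ₗ[R] (R ⧸ q.asIdeal))) : (Function.Injective φ ↔ Function.Bijective (LocalizedModule.map q.asIdeal.primeCompl φ)) ∧ (Function.Injective φ → ∀ (hl : (Module.length (Localization.AtPrime q.asIdeal) (LocalizedModule q.asIdeal.primeCompl N)).toNat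 = l) (ex ey : CycDet.Adm (Localization.AtPrime q.asIdeal) (LocalizedModule q.asIdeal.primeCompl N) (Module.length (Localization.AtPrime q.asIdeal) (LocalizedModule q.asIdeal.primeCompl N)).toNat) (f : q.asIdeal.ResidueField), (ex.1 = fun i => LocalizedModule.mkLinearMap q.asIdeal.primeCompl N (φ (x (Fin.cast hl i)))) → (ey.1 = fun i => LocalizedModule.mkLinearMap q.asIdeal.primeCompl N (y (Fin.cast hl i))) → CycDet.symbol (Localization.AtPrime q.asIdeal) (LocalizedModule q.asIdeal.primeCompl N) ex = f • CycDet.symbol (Localization.AtPrime q.asIdeal) (LocalizedModule q.asIdeal.primeCompl N) ey → ∃ n : ℕ, Module.length R (N ⧸ LinearMap.range φ) = n ∧ (n : ℤ) = CycAlg.ordFrac (R ⧸ q.asIdeal) q.asIdeal.ResidueField f) := by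
  classical
  have hchainx : CycLib.GoodChain q x := hxq
  have hchainy : CycLib.GoodChain q y := hyq
  have hlM : CycLib.locLen q M = l := CycLib.locLen_of_chain hchainx (by
    rw [hx, Module.support_eq_empty (M := M ⧸ (⊤ : Submodule R M))]; exact Set.notMem_empty q)
  have hlN : CycLib.locLen q N = l := CycLib.locLen_of_chain hchainy (by
    rw [hy, Module.support_eq_empty (M := N ⧸ (⊤ : Submodule R N))]; exact Set.notMem_empty q)
  have hbij : Function.Injective φ → Function.Bijective (LocalizedModule.map q.asIdeal.primeCompl φ) := fun h => by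
    have hinj := LocalizedModule.map_injective q.asIdeal.primeCompl φ h
    refine ⟨hinj, LinearMap.range_eq_top.mp (by_contra fun hne => ?_)⟩
    obtain ⟨_, _⟩ : IsNoetherian (Localization.AtPrime q.asIdeal) (LocalizedModule q.asIdeal.primeCompl N) ∧
        IsArtinian (Localization.AtPrime q.asIdeal) (LocalizedModule q.asIdeal.primeCompl N) :=
      isFiniteLength_iff_isNoetherian_isArtinian.mp (Module.length_ne_top_iff.mp (by
        rw [show Module.length _ _ = _ from hlN]; exact ENat.natCast_ne_top l))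
    have hlt := Submodule.length_lt hne
    rw [← (LinearEquiv.ofInjective _ hinj).length_eq, show Module.length _ _ = _ from hlM,
      show Module.length _ _ = _ from hlN] at hlt
    exact lt_irrefl _ hlt
  refine ⟨⟨hbij, fun h => ?_⟩, fun hinj => ?_⟩
  · rw [injective_iff_map_eq_zero]
    intro z hz
    refine CycLib.Ratio.torsion_free q hchainx hx (h.injective ?_)
    rw [map_zero, LocalizedModule.mkLinearMap_apply, LocalizedModule.map_mk, hz, LocalizedModule.zero_mk]
  intro hl ex ey f hex hey hsym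
  subst hl
  have hlen : Module.length (CycLib.Ratio.Rq q) (CycLib.Ratio.Vq q N) =
      (Module.length (Localization.AtPrime q.asIdeal) (LocalizedModule q.asIdeal.primeCompl N)).toNat := hlN
  have hex' : ex.1 = CycLib.Ratio.loc q (φ ∘ x) := by rw [hex]; rfl
  have hey' : ey.1 = CycLib.Ratio.loc q y := by rw [hey]; rfl
  have hu : CycDet.IsAdmissible (CycLib.Ratio.Rq q) (CycLib.Ratio.Vq q N) (CycLib.Ratio.loc q (φ ∘ x)) :=
    hex' ▸ ex.2
  obtain ⟨hyA, hyS⟩ := CycLib.Ratio.chain_adm_strict q hchainy hy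
  have hus : CycLib.Strict (CycLib.Ratio.Rq q) (CycLib.Ratio.loc q (φ ∘ x)) := by
    obtain ⟨hxA, hxS⟩ := CycLib.Ratio.chain_adm_strict q hchainx hx
    have htop : Submodule.span (CycLib.Ratio.Rq q) (Set.range (CycLib.Ratio.loc q x)) = ⊤ :=
      (CycLib.strict_iff_span hxA hlM).mp hxS
    have hcomp : CycLib.Ratio.loc q (φ ∘ x) =
        LocalizedModule.map q.asIdeal.primeCompl φ ∘ CycLib.Ratio.loc q x := by
      funext i
      simp only [Function.comp_apply, LocalizedModule.mkLinearMap_apply, LocalizedModule.map_mk]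
    rw [CycLib.strict_iff_span hu hlen, hcomp, Set.range_comp, ← Submodule.map_span, htop, Submodule.map_top,
      LinearMap.range_eq_top.mpr (hbij hinj).surjective]
  have hPy : CycLib.Ratio.Prop' q y (φ ∘ x) :=
    CycLib.Ratio.prop_all q hchainy hy hlen (k := 0) (Nat.zero_add _) _ hu hus
      fun j hj => absurd hj (Nat.not_lt_zero _)
  obtain ⟨a, s, ha, hs, hcls, htot⟩ := hPy
  have hne : CycLib.cls ey ≠ 0 := CycLib.cls_ne_zero hlen ey (hey' ▸ hyS)
  have hf : f = IsLocalRing.residue _ (algebraMap R (CycLib.Ratio.Rq q) a) /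
      IsLocalRing.residue _ (algebraMap R (CycLib.Ratio.Rq q) s) := by
    rw [← hex', ← hey', CycLib.clsT_adm ex, CycLib.clsT_adm ey] at hcls
    change CycLib.cls ex = f • CycLib.cls ey at hsym
    exact smul_left_injective _ hne (hsym.symm.trans hcls)
  -- the total is the length of the cokernel
  have h0 : CycLib.Ratio.sat q (φ ∘ x) 0 = ⊥ := by
    rw [eq_bot_iff]
    intro z hz
    rw [CycLib.Ratio.mem_sat, CycLib.spanBefore_zero, Submodule.mem_bot] at hz
    exact (Submodule.mem_bot R).mpr (CycLib.Ratio.torsion_free q hchainy hy hz)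
  have hrel := CycLib.Ratio.relLen_total q (u := φ ∘ x) hus (fun j r hr => by
    have h := CycLib.Ratio.chain_smul_mem q hchainx j hr
    have h' := Submodule.mem_map_of_mem (f := φ) h
    rw [CycDet.spanBefore, Submodule.map_span, ← Set.image_comp, map_smul] at h'
    exact h') h0 _ le_rfl
  have htop : CycLib.Ratio.sat q (φ ∘ x)
      (Module.length (Localization.AtPrime q.asIdeal) (LocalizedModule q.asIdeal.primeCompl N)).toNat = ⊤ := by
    refine eq_top_iff.mpr fun z _ => ?_
    rw [CycLib.Ratio.mem_sat, CycLib.spanBefore_last _ le_rfl, CycLib.Ratio.loc_span_top q hlen hu hus]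
    trivial
  have hspan : CycDet.spanBefore R N (φ ∘ x)
      (Module.length (Localization.AtPrime q.asIdeal) (LocalizedModule q.asIdeal.primeCompl N)).toNat =
        LinearMap.range φ := by
    rw [CycLib.spanBefore_last _ le_rfl, Set.range_comp, ← Submodule.map_span, hx, Submodule.map_top]
  rw [htop, hspan] at hrel
  have hcoker : IntThLib.relLen R (⊤ : Submodule R N) (LinearMap.range φ) =
      Module.length R (N ⧸ LinearMap.range φ) :=
    (Submodule.Quotient.equiv _ _ Submodule.topEquiv (by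
      ext z
      simp [Submodule.submoduleOf])).length_eq
  rw [hcoker] at hrel
  have hR1 : Ring.KrullDimLE 1 (R ⧸ q.asIdeal) := IntThLib.krullDimLE_one_of_dim hq
  have hne0 : ∀ r, r ∉ q.asIdeal → Ideal.Quotient.mk q.asIdeal r ≠ 0 :=
    fun r hr => mt Ideal.Quotient.eq_zero_iff_mem.mp hr
  have hordtop : CycLib.Ratio.ordQ q a ≠ ⊤ :=
    Ring.ord_ne_top (mem_nonZeroDivisors_of_ne_zero (hne0 a ha))
  have hordtops : CycLib.Ratio.ordQ q s ≠ ⊤ :=
    Ring.ord_ne_top (mem_nonZeroDivisors_of_ne_zero (hne0 s hs))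
  have htfin : CycLib.Ratio.total q (φ ∘ x) ≠ ⊤ :=
    ne_top_of_le_ne_top hordtop (htot ▸ le_self_add)
  refine ⟨(CycLib.Ratio.total q (φ ∘ x)).toNat, by rw [ENat.natCast_toNat htfin]; exact hrel, ?_⟩
  have hres : ∀ r : R, IsLocalRing.residue _ (algebraMap R (CycLib.Ratio.Rq q) r) =
      algebraMap (R ⧸ q.asIdeal) q.asIdeal.ResidueField (Ideal.Quotient.mk q.asIdeal r) := fun r => rfl
  rw [hres, hres] at hf
  have hA := IntThLib.ordFrac_algebraMap (A := R ⧸ q.asIdeal) (K := q.asIdeal.ResidueField) (hne0 a ha)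
  have hS := IntThLib.ordFrac_algebraMap (A := R ⧸ q.asIdeal) (K := q.asIdeal.ResidueField) (hne0 s hs)
  have hane : algebraMap (R ⧸ q.asIdeal) q.asIdeal.ResidueField (Ideal.Quotient.mk q.asIdeal a) ≠ 0 :=
    (map_ne_zero_iff _ (IsFractionRing.injective _ _)).mpr (hne0 a ha)
  have hsne : algebraMap (R ⧸ q.asIdeal) q.asIdeal.ResidueField (Ideal.Quotient.mk q.asIdeal s) ≠ 0 :=
    (map_ne_zero_iff _ (IsFractionRing.injective _ _)).mpr (hne0 s hs)
  have hfs : f * algebraMap (R ⧸ q.asIdeal) q.asIdeal.ResidueField (Ideal.Quotient.mk q.asIdeal s) =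
      algebraMap (R ⧸ q.asIdeal) q.asIdeal.ResidueField (Ideal.Quotient.mk q.asIdeal a) := by
    rw [hf]
    exact div_mul_cancel₀ _ hsne
  have hmul := IntThLib.ordFrac_mul (A := R ⧸ q.asIdeal) (f := f)
    (by rw [hf]; exact div_ne_zero hane hsne) hsne
  rw [hfs, hA, hS] at hmul
  have h3 := congrArg ENat.toNat htot
  rw [ENat.toNat_add htfin hordtops] at h3
  simp only [CycLib.Ratio.ordQ] at h3
  omega

end Groth.Agent.S1853
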