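import Groth.Statements.S18530
import Groth.Agent.ParShLib.Coeff

set_option autoImplicit false
universe u
open CategoryTheory CategoryTheory.Limits AlgebraicGeometry Polynomial
open ParSh

namespace Groth.Agent.S18530

/-- The two leading coefficients of the first modified parabolic Hilbert polynomial. Let X be a scheme
proper over a field k with an ample invertible sheaf L, I the ideal of an effective Cartier divisor
D on X, and E a coherent O_X-module with a finite weighted filtration 𝓔 along I by coherent pieces E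
= E₀ ⊇ ⋯ ⊇ E_{l+1} = I·E, weights 0 ≤ w₀ < ⋯ < w_l < 1 and w_{l+1} := 1. Let d ≥ 1 with Supp E ∩
Supp D of topological Krull dimension less than d, and let H_j be the Hilbert polynomial of E/E_j,
with α_{d−1}(H_j) ≠ 0 for 1 ≤ j ≤ l+1 (α_i(H) = i!·coefficient of degree i), the numerical type of
𝓔. Let ι : W → E be a monomorphism from a coherent module W, with induced filtration W_j = W ∩ E_j,
Q the Hilbert polynomial of W, Q_j that of W_j and K_j that of W/W_j. Then the first modified
parabolic polynomial par-P₁(W ⊂ E) := Q − Σ_{j=1}^{l+1} (w_j −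
w_{j−1})·(α_{d−1}(K_j)/α_{d−1}(H_j))·H_j and the parabolic polynomial par-P₀(W) := Q_{l+1} + Σ_{j ≤
l} w_j (Q_j − Q_{j+1}) have the same coefficient in degree d and the same coefficient in degree d −
1. The published statement adds the consequences that p₁-semistability implies parabolic
slope-semistability and parabolic slope-stability implies p₁-stability, which are not part of this
row. -/
theorem result (k : Type u) [Field k] (X : Scheme.{u})
    [X.Over (Spec (CommRingCat.of k))] [IsProper (X ↘ Spec (CommRingCat.of k))]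
    (L : X.Modules) (hL : CohB1.IsAmple L) (I : X.IdealSheafData) (hD : FGA.IsEffCartier I)
    (E : X.Modules) (hE : Coh.IsCoh E) (𝓔 : ParSh.Str E) (h𝓔 : 𝓔.Along I)
    (hcoh : ∀ j, Coh.IsCoh ((𝓔.pieceX j : Subobject E) : X.Modules)) (d : ℕ) (hd : 1 ≤ d)
    (hsupp : topologicalKrullDim ↥(CohB1.support E ∩ (I.support : Set X)) < (d : WithBot ℕ∞))
    (H : Fin (𝓔.l + 2) → ℚ[X]) (hH : ∀ j, ShStab.IsHilbPoly k X L (cokernel (𝓔.pieceX j).arrow) (H j))
    (hHa : ∀ j : Fin (𝓔.l + 1), StabCat.alpha (d - 1) (H j.succ) ≠ 0)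
    {W : X.Modules} (ι : W ⟶ E) [Mono ι] (hW : Coh.IsCoh W)
    (Q : ℚ[X]) (hQ : ShStab.IsHilbPoly k X L W Q) (QX : Fin (𝓔.l + 2) → ℚ[X])
    (hQX : ∀ j, ShStab.IsHilbPoly k X L (((𝓔.induced ι).pieceX j : Subobject W) : X.Modules) (QX j))
    (QH : Fin (𝓔.l + 2) → ℚ[X])
    (hQH : ∀ j, ShStab.IsHilbPoly k X L (cokernel ((𝓔.induced ι).pieceX j).arrow) (QH j)) :
    (W4swparbununimod.parPolyOne 𝓔 d Q QH H).coeff d = (W4swparbununimod.parPoly (𝓔.induced ι) QX).coeff d ∧
      (W4swparbununimod.parPolyOne 𝓔 d Q QH H).coeff (d - 1) =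
        (W4swparbununimod.parPoly (𝓔.induced ι) QX).coeff (d - 1) := by
  haveI := Groth.Agent.CurveCohLib.isNoetherian_of_proper (k := k) (X := X)
  have hA := Groth.Agent.ParShLib.agreeOff_of_along I 𝓔 h𝓔
  have hA' := hA.induced ι
  have hcW : ∀ j, Coh.IsCoh (((𝓔.induced ι).pieceX j : Subobject W) : X.Modules) := fun j => Groth.Agent.ParShLib.isCoh_induced hE hW 𝓔 ι hcoh j
  have hdimW : topologicalKrullDim ↥(CohB1.support W ∩ (I.support : Set X)) < (d : WithBot ℕ∞) :=
    lt_of_le_of_lt ((Topology.IsInducing.subtypeVal.of_comp_iff.1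
      (show Topology.IsInducing (Subtype.val ∘ Set.inclusion (Set.inter_subset_inter_left (I.support : Set X)
        (Groth.Agent.QCoh.mem_support_of_mono hW.1 hE.1 ι))) from Topology.IsInducing.subtypeVal)).topologicalKrullDim_le) hsupp
  have hQH' : ∀ j, QH j = Q - QX j := fun j => Groth.Agent.ParShLib.eq_of_eval_nat fun n =>
    (hQH j n).symm.trans (Groth.Agent.ParShLib.hilb_cokernel k hL _ (hcW j) hW hQ (hQX j) n)
  have h0 := Groth.Agent.ParShLib.hilb_zero k hL (𝓔.induced ι) hQ hQX
  have hHdeg : ∀ j, (H j).coeff d = 0 := fun j => Polynomial.coeff_eq_zero_of_degree_lt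
    (Groth.Agent.ParShLib.degree_lt_of_support k hL (Groth.Agent.QCoh.isCoh_cokernel (hcoh j).1 hE _)
      (hA.support_cokernel hE.1 j (hcoh j).1) hsupp (hH j))
  have hone : ∀ n, (W4swparbununimod.parPolyOne 𝓔 d Q QH H).coeff n = (Q.coeff n : ℝ) -
      ∑ j : Fin (𝓔.l + 1), (𝓔.wtX j.succ - 𝓔.wtX j.castSucc) *
        (((StabCat.alpha (d - 1) (QH j.succ) / StabCat.alpha (d - 1) (H j.succ) : ℚ) : ℝ) * ((H j.succ).coeff n : ℝ)) := fun n => by
    simp [W4swparbununimod.parPolyOne, Polynomial.coeff_map, Polynomial.coeff_C_mul, mul_assoc,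
      -Polynomial.map_mul, -map_mul]
  constructor
  · rw [hone, Groth.Agent.ParShLib.parPoly_coeff_eq k hL hW hA' hcW hdimW hQ hQX le_rfl,
      Finset.sum_eq_zero fun j _ => ?_, sub_zero]
    rw [hHdeg]
    simp
  · rw [hone, Groth.Agent.ParShLib.parPoly_coeff (𝓔.induced ι) Q QX h0]
    refine congrArg _ (Finset.sum_congr rfl fun j _ => ?_)
    show (𝓔.wtX j.succ - 𝓔.wtX j.castSucc) * _ = (𝓔.wtX j.succ - 𝓔.wtX j.castSucc) * _
    refine congrArg _ ?_
    have hne : (H j.succ).coeff (d - 1) ≠ 0 := fun h => hHa j (by rw [StabCat.alpha, h, mul_zero])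
    have hfac : (((d - 1).factorial : ℚ)) ≠ 0 := by exact_mod_cast Nat.factorial_ne_zero _
    rw [← Rat.cast_mul, ← Rat.cast_sub]
    refine congrArg _ ?_
    rw [hQH' j.succ, StabCat.alpha, StabCat.alpha, Polynomial.coeff_sub]
    field_simp
    rfl

end Groth.Agent.S18530
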