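import Groth.Statements.S18532
import Groth.Agent.ParShLib.Asymp

set_option autoImplicit false
universe u
open CategoryTheory CategoryTheory.Limits AlgebraicGeometry Polynomial
open ParSh

namespace Groth.Agent.S18532

/-- The comparison of the second and first modified parabolic Hilbert polynomials for one test subsheaf.
Let X be a scheme proper over a field k with an ample invertible sheaf L, I the ideal of an
effective Cartier divisor D on X, d ≥ 1, and E a nonzero coherent O_X-module, pure of dimension d,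
with Supp E ∩ Supp D of topological Krull dimension less than d, carrying a finite weighted
filtration 𝓔 along I by coherent pieces E = E₀ ⊇ ⋯ ⊇ E_{l+1} = I·E, weights 0 ≤ w₀ < ⋯ < w_l < 1,
w_{l+1} := 1. Let P be the Hilbert polynomial of E, P_j of E_j, H_j of E/E_j with α_{d−1}(H_j) ≠ 0
for 1 ≤ j ≤ l+1, and Par_E = P_{l+1} + Σ_j w_j (P_j − P_{j+1}). Let ι : W → E be a monomorphism from
a coherent module W with induced filtration W_j = W ∩ E_j, Q the Hilbert polynomial of W and K_j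
that of W/W_j; put par-P₁(W ⊂ E) = Q − Σ_{j=1}^{l+1} (w_j − w_{j−1})·(α_{d−1}(K_j)/α_{d−1}(H_j))·H_j
and par-P₂(W ⊂ E)(x, y) = Q(x) − Σ_{j=1}^{l+1} (w_j − w_{j−1})·(K_j(y)/H_j(y))·H_j(x). Then: (i) if
there is M such that for every m ≥ M there is N with par-P₂(W ⊂ E)(m, n)·P(n) ≤ Par_E(m)·Q(n) for
all n ≥ N, then par-P₁(W ⊂ E)(m)·α_d(P) ≤ Par_E(m)·α_d(Q) for all large m; (ii) if par-P₁(W ⊂
E)(m)·α_d(P) < Par_E(m)·α_d(Q) for all large m, then there is M such that for every m ≥ M there is N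
with par-P₂(W ⊂ E)(m, n)·P(n) < Par_E(m)·Q(n) for all n ≥ N. With W running over the nonzero
saturated (proper) sub-modules this is the published implication p₂-semistable ⇒ p₁-semistable,
p₁-stable ⇒ p₂-stable; the further implications to and from parabolic slope-(semi)stability in the
published statement are not part of this row. -/
theorem result (k : Type u) [Field k] (X : Scheme.{u})
    [X.Over (Spec (CommRingCat.of k))] [IsProper (X ↘ Spec (CommRingCat.of k))]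
    (L : X.Modules) (hL : CohB1.IsAmple L) (I : X.IdealSheafData) (hD : FGA.IsEffCartier I)
    (E : X.Modules) (hE : Coh.IsCoh E) (𝓔 : ParSh.Str E) (h𝓔 : 𝓔.Along I)
    (hcoh : ∀ j, Coh.IsCoh ((𝓔.pieceX j : Subobject E) : X.Modules)) (d : ℕ) (hd : 1 ≤ d)
    (hsupp : topologicalKrullDim ↥(CohB1.support E ∩ (I.support : Set X)) < (d : WithBot ℕ∞))
    (h0 : ¬ IsZero E) (hpure : ShStab.IsPure X E d)
    (P : ℚ[X]) (hP : ShStab.IsHilbPoly k X L E P) (PX : Fin (𝓔.l + 2) → ℚ[X])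
    (hPX : ∀ j, ShStab.IsHilbPoly k X L ((𝓔.pieceX j : Subobject E) : X.Modules) (PX j))
    (H : Fin (𝓔.l + 2) → ℚ[X]) (hH : ∀ j, ShStab.IsHilbPoly k X L (cokernel (𝓔.pieceX j).arrow) (H j))
    (hHa : ∀ j : Fin (𝓔.l + 1), StabCat.alpha (d - 1) (H j.succ) ≠ 0)
    {W : X.Modules} (ι : W ⟶ E) [Mono ι] (hW : Coh.IsCoh W)
    (Q : ℚ[X]) (hQ : ShStab.IsHilbPoly k X L W Q) (QH : Fin (𝓔.l + 2) → ℚ[X])
    (hQH : ∀ j, ShStab.IsHilbPoly k X L (cokernel ((𝓔.induced ι).pieceX j).arrow) (QH j)) :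
    ((∃ M : ℕ, ∀ m : ℕ, M ≤ m → ∃ N : ℕ, ∀ n : ℕ, N ≤ n →
        (((Q.eval (m : ℚ) : ℚ) : ℝ) -
            ∑ j : Fin (𝓔.l + 1), (𝓔.wtX j.succ - 𝓔.wtX j.castSucc) *
              ((((QH j.succ).eval (n : ℚ) / (H j.succ).eval (n : ℚ) : ℚ) : ℝ) * (((H j.succ).eval (m : ℚ) : ℚ) : ℝ))) *
          ((P.eval (n : ℚ) : ℚ) : ℝ) ≤
        (W4swparbununimod.parPoly 𝓔 PX).eval (m : ℝ) * ((Q.eval (n : ℚ) : ℚ) : ℝ)) →
      ∃ M : ℕ, ∀ m : ℕ, M ≤ m →
        (W4swparbununimod.parPolyOne 𝓔 d Q QH H).eval (m : ℝ) * (StabCat.alpha d P : ℝ) ≤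
          (W4swparbununimod.parPoly 𝓔 PX).eval (m : ℝ) * (StabCat.alpha d Q : ℝ)) ∧
    ((∃ M : ℕ, ∀ m : ℕ, M ≤ m →
        (W4swparbununimod.parPolyOne 𝓔 d Q QH H).eval (m : ℝ) * (StabCat.alpha d P : ℝ) <
          (W4swparbununimod.parPoly 𝓔 PX).eval (m : ℝ) * (StabCat.alpha d Q : ℝ)) →
      ∃ M : ℕ, ∀ m : ℕ, M ≤ m → ∃ N : ℕ, ∀ n : ℕ, N ≤ n →
        (((Q.eval (m : ℚ) : ℚ) : ℝ) -
            ∑ j : Fin (𝓔.l + 1), (𝓔.wtX j.succ - 𝓔.wtX j.castSucc) *
              ((((QH j.succ).eval (n : ℚ) / (H j.succ).eval (n : ℚ) : ℚ) : ℝ) * (((H j.succ).eval (m : ℚ) : ℚ) : ℝ))) *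
          ((P.eval (n : ℚ) : ℚ) : ℝ) <
        (W4swparbununimod.parPoly 𝓔 PX).eval (m : ℝ) * ((Q.eval (n : ℚ) : ℚ) : ℝ)) := by
  haveI := Groth.Agent.CurveCohLib.isNoetherian_of_proper (k := k) (X := X)
  have hA := Groth.Agent.ParShLib.agreeOff_of_along I 𝓔 h𝓔
  have hsub := Groth.Agent.QCoh.mem_support_of_mono hW.1 hE.1 ι
  have hcW : ∀ j, Coh.IsCoh (((𝓔.induced ι).pieceX j : Subobject W) : X.Modules) := fun j =>
    Groth.Agent.ParShLib.isCoh_induced hE hW 𝓔 ι hcoh j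
  have hdimW : topologicalKrullDim ↥(CohB1.support W ∩ (I.support : Set X)) < (d : WithBot ℕ∞) :=
    lt_of_le_of_lt ((Topology.IsInducing.subtypeVal.of_comp_iff.1
      (show Topology.IsInducing (Subtype.val ∘ Set.inclusion (Set.inter_subset_inter_left (I.support : Set X) hsub))
        from Topology.IsInducing.subtypeVal)).topologicalKrullDim_le) hsupp
  have hdE : topologicalKrullDim ↥(CohB1.support E) < ((d + 1 : ℕ) : WithBot ℕ∞) := by
    rw [hpure E (𝟙 E) inferInstance hE h0]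
    exact_mod_cast Nat.lt_succ_self d
  have hP0 : ∀ n, d < n → P.coeff n = 0 := fun n hn => Polynomial.coeff_eq_zero_of_degree_lt
    (lt_of_lt_of_le (Groth.Agent.ParShLib.degree_lt_of_support k hL hE le_rfl hdE hP) (Nat.cast_le.2 hn))
  have hQ0 : ∀ n, d < n → Q.coeff n = 0 := fun n hn => Polynomial.coeff_eq_zero_of_degree_lt
    (lt_of_lt_of_le (Groth.Agent.ParShLib.degree_lt_of_support k hL hW hsub hdE hQ) (Nat.cast_le.2 hn))
  have hHz : ∀ j n, d - 1 < n → (H j).coeff n = 0 := fun j n hn => Polynomial.coeff_eq_zero_of_degree_lt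
    (lt_of_lt_of_le (Groth.Agent.ParShLib.degree_lt_of_support k hL (Groth.Agent.QCoh.isCoh_cokernel (hcoh j).1 hE _)
      (hA.support_cokernel hE.1 j (hcoh j).1) hsupp (hH j)) (Nat.cast_le.2 (by omega)))
  have hQHz : ∀ j n, d - 1 < n → (QH j).coeff n = 0 := fun j n hn => Polynomial.coeff_eq_zero_of_degree_lt
    (lt_of_lt_of_le (Groth.Agent.ParShLib.degree_lt_of_support k hL (Groth.Agent.QCoh.isCoh_cokernel (hcW j).1 hW _)
      ((hA.induced ι).support_cokernel hW.1 j (hcW j).1) hdimW (hQH j)) (Nat.cast_le.2 (by omega)))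
  let p2 : ℕ → ℕ → ℝ := fun m n => ((Q.eval (m : ℚ) : ℚ) : ℝ) -
      ∑ j : Fin (𝓔.l + 1), (𝓔.wtX j.succ - 𝓔.wtX j.castSucc) *
        ((((QH j.succ).eval (n : ℚ) / (H j.succ).eval (n : ℚ) : ℚ) : ℝ) * (((H j.succ).eval (m : ℚ) : ℚ) : ℝ))
  let e1 : ℕ → ℝ := fun m => (W4swparbununimod.parPolyOne 𝓔 d Q QH H).eval (m : ℝ)
  let par : ℕ → ℝ := fun m => (W4swparbununimod.parPoly 𝓔 PX).eval (m : ℝ)
  have hp1 : ∀ m, Filter.Tendsto (fun n => p2 m n) Filter.atTop (nhds (e1 m)) := fun m => by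
    have he : e1 m = ((Q.eval (m : ℚ) : ℚ) : ℝ) - ∑ j : Fin (𝓔.l + 1), (𝓔.wtX j.succ - 𝓔.wtX j.castSucc) *
        (((StabCat.alpha (d - 1) (QH j.succ) / StabCat.alpha (d - 1) (H j.succ) : ℚ) : ℝ) * (((H j.succ).eval (m : ℚ) : ℚ) : ℝ)) := by
      show (W4swparbununimod.parPolyOne 𝓔 d Q QH H).eval (m : ℝ) = _
      rw [W4swparbununimod.parPolyOne, Polynomial.eval_sub, Polynomial.eval_finsetSum, Groth.Agent.ParShLib.eval_rpoly]
      refine congrArg _ (Finset.sum_congr rfl fun j _ => ?_)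
      rw [Polynomial.eval_mul, Polynomial.eval_C, Groth.Agent.ParShLib.eval_rpoly, mul_assoc]
    rw [he]
    refine tendsto_const_nhds.sub (tendsto_finsetSum _ fun j _ => (Filter.Tendsto.mul_const _ ?_).const_mul _)
    have hne : ((H j.succ).coeff (d - 1) : ℝ) ≠ 0 := by
      have := hHa j
      simp only [StabCat.alpha, ne_eq, mul_eq_zero, not_or] at this
      exact_mod_cast this.2
    have h1 := (Groth.Agent.ParShLib.tendsto_rat_div (hQHz j.succ)).div (Groth.Agent.ParShLib.tendsto_rat_div (hHz j.succ)) hne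
    have hval : ((StabCat.alpha (d - 1) (QH j.succ) / StabCat.alpha (d - 1) (H j.succ) : ℚ) : ℝ) =
        ((QH j.succ).coeff (d - 1) : ℝ) / ((H j.succ).coeff (d - 1) : ℝ) := by
      rw [StabCat.alpha, StabCat.alpha, mul_div_mul_left _ _ (by exact_mod_cast Nat.factorial_ne_zero _)]
      push_cast
      rfl
    rw [hval]
    refine h1.congr' ?_
    filter_upwards [Filter.eventually_gt_atTop 0] with n hn
    show _ / (n : ℝ) ^ (d - 1) / (_ / (n : ℝ) ^ (d - 1)) = _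
    rw [div_div_div_cancel_right₀ (pow_ne_zero _ (by exact_mod_cast hn.ne'))]
    push_cast
    rfl
  have hlim : ∀ m, Filter.Tendsto (fun n : ℕ => (p2 m n * ((P.eval (n : ℚ) : ℚ) : ℝ) - par m * ((Q.eval (n : ℚ) : ℚ) : ℝ)) / (n : ℝ) ^ d)
      Filter.atTop (nhds (e1 m * (P.coeff d : ℝ) - par m * (Q.coeff d : ℝ))) := fun m =>
    (((hp1 m).mul (Groth.Agent.ParShLib.tendsto_rat_div hP0)).sub
      ((Groth.Agent.ParShLib.tendsto_rat_div hQ0).const_mul (par m))).congr fun n => by ring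
  have hfac : (0 : ℝ) < (d.factorial : ℝ) := by exact_mod_cast Nat.factorial_pos d
  have hα : ∀ m, e1 m * (StabCat.alpha d P : ℝ) - par m * (StabCat.alpha d Q : ℝ) =
      (d.factorial : ℝ) * (e1 m * (P.coeff d : ℝ) - par m * (Q.coeff d : ℝ)) := fun m => by
    simp only [StabCat.alpha]; push_cast; ring
  constructor
  · rintro ⟨M, hM⟩
    refine ⟨M, fun m hm => ?_⟩
    obtain ⟨N, hN⟩ := hM m hm
    have h := le_of_tendsto (hlim m) (by
      filter_upwards [Filter.eventually_ge_atTop N] with n hn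
      exact div_nonpos_of_nonpos_of_nonneg (sub_nonpos.2 (hN n hn)) (by positivity))
    have := hα m
    show e1 m * _ ≤ par m * _
    nlinarith
  · rintro ⟨M, hM⟩
    refine ⟨M, fun m hm => ?_⟩
    have hneg : e1 m * (P.coeff d : ℝ) - par m * (Q.coeff d : ℝ) < 0 := by
      have h1 : e1 m * (StabCat.alpha d P : ℝ) < par m * (StabCat.alpha d Q : ℝ) := hM m hm
      have := hα m
      nlinarith
    obtain ⟨N, hN⟩ := Filter.eventually_atTop.1 ((hlim m).eventually (Iio_mem_nhds hneg))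
    refine ⟨N, fun n hn => ?_⟩
    show p2 m n * _ < par m * _
    have h := hN n hn
    by_contra hc
    exact not_lt.2 (div_nonneg (sub_nonneg.2 (not_lt.1 hc)) (by positivity)) h

end Groth.Agent.S18532
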