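import Groth.Statements.S18535
import Groth.Agent.WQ7.Free
import Groth.Agent.Hensel.IntegralStrict
import Mathlib
-- import your own Groth.Agent.* helpers here

set_option autoImplicit false
universe u
open EtAlg

namespace Groth.Agent.S18535

/-- Let R be a complete Noetherian local normal domain with maximal ideal m, let S be a normal domain
containing R on which a finite group G acts by R-algebra automorphisms, faithfully and with ring of
invariants exactly R (so that S is the integral closure of R in some finite Galois extension, with
group G, of Frac R), and let n be a maximal ideal of S over m. Then the inertia subgroup of n in G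
(the elements g with g s - s ∈ n for all s ∈ S) is trivial if and only if mS = n and the residue
field S/n is finite and separable over R/m. -/
theorem result
    (R S G : Type u) [CommRing R] [CommRing S] [IsDomain R] [IsDomain S]
    [IsNoetherianRing R] [IsLocalRing R] [IsIntegrallyClosed R]
    [IsAdicComplete (IsLocalRing.maximalIdeal R) R]
    [Algebra R S] [FaithfulSMul R S] [IsIntegrallyClosed S]
    [Group G] [Finite G] [MulSemiringAction G S] [SMulCommClass G R S] [IsGaloisGroup G R S]
    (n : Ideal S) [n.IsMaximal] [n.LiesOver (IsLocalRing.maximalIdeal R)] :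
    n.toAddSubgroup.inertia G = ⊥ ↔
      ((IsLocalRing.maximalIdeal R).map (algebraMap R S) = n ∧
        Module.Finite (R ⧸ IsLocalRing.maximalIdeal R) (S ⧸ n) ∧
        Algebra.IsSeparable (R ⧸ IsLocalRing.maximalIdeal R) (S ⧸ n)) := by
  classical
  haveI : SMulCommClass G R S := inferInstance
  letI := Fintype.ofFinite G
  haveI : Algebra.IsIntegral R S := (IsGaloisGroup.isInvariant (G := G) (A := R) (B := S)).isIntegral
  haveI : HenselianLocalRing R :=
    { is_henselian := fun f hf a₀ h₁ h₂ =>
        HenselianRing.is_henselian (R := R) (I := IsLocalRing.maximalIdeal R) f hf a₀ h₁ (h₂.map _) }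
  haveI : Module.Finite R S := by
    letI : Algebra (FractionRing R) (FractionRing S) := FractionRing.liftAlgebra R (FractionRing S)
    letI := IsFractionRing.mulSemiringAction G S (FractionRing S)
    haveI : IsGaloisGroup G (FractionRing R) (FractionRing S) := IsGaloisGroup.toFractionRing G R S
    haveI := IsGaloisGroup.isGalois G (FractionRing R) (FractionRing S)
    haveI := IsGaloisGroup.finiteDimensional G (FractionRing R) (FractionRing S)
    haveI : IsIntegralClosure S R (FractionRing S) := IsIntegralClosure.of_isIntegrallyClosed _ _ _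
    exact IsIntegralClosure.finite R (FractionRing R) (FractionRing S) S
  haveI : IsLocalRing S := Groth.Agent.Hensel.isLocalRing_of_isIntegral_domain R S
  haveI : IsLocalHom (algebraMap R S) := inferInstance
  have hn : n = IsLocalRing.maximalIdeal S := IsLocalRing.eq_maximalIdeal inferInstance
  subst hn
  letI : Field (R ⧸ IsLocalRing.maximalIdeal R) := Ideal.Quotient.field _
  letI : Field (S ⧸ IsLocalRing.maximalIdeal S) := Ideal.Quotient.field _
  constructor
  · intro hI
    obtain ⟨r, hr, hmem⟩ := Groth.Agent.WQ7.exists_delta (G := G) (A := S) (IsLocalRing.maximalIdeal R)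
      fun Q hQ hQq => by
        haveI : (Q.comap (algebraMap R S)).IsMaximal := hQq ▸ inferInstance
        have : Q = IsLocalRing.maximalIdeal S :=
          IsLocalRing.eq_maximalIdeal (Ideal.isMaximal_of_isIntegral_of_isMaximal_comap Q ‹_›)
        subst this
        exact hI
    obtain ⟨l, c, f, hsum⟩ := Submodule.mem_span_set'.mp hmem
    choose y hy using fun k => (f k).2
    obtain ⟨u, hu⟩ := ((IsLocalRing.notMem_maximalIdeal.mp hr).map (algebraMap R S)).exists_left_inv
    have hδ : ∀ g : G, ∑ k, (u * c k) * (g • (y k : S)) = if g = 1 then 1 else 0 := fun g => by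
      have := congrArg (u * ·) (congrFun hsum g)
      simp only [Finset.sum_apply, Pi.smul_apply, smul_eq_mul, Pi.single_apply, Finset.mul_sum, mul_ite,
        mul_zero, hu] at this
      rw [← this]
      exact Finset.sum_congr rfl fun k _ => by rw [← hy k, mul_assoc]
    obtain ⟨x, hx⟩ : ∃ x : Fin l → S, x = fun k => u * c k := ⟨_, rfl⟩
    have hδ1 : ∀ g : G, ∑ k, x k * (g • (y k : S)) = if g = 1 then 1 else 0 := fun g => by rw [hx]; exact hδ g
    have hδ2 : ∀ g : G, ∑ k, (g • x k) * (y k : S) = if g = 1 then 1 else 0 := fun g => by
      have := congrArg (g • ·) (hδ1 g⁻¹)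
      simpa [Finset.smul_sum, smul_mul', inv_eq_one, apply_ite (g • ·)] using this
    choose t ht using fun a : S => (IsGaloisGroup.isInvariant (G := G) (A := R) (B := S)).isInvariant
      (∑ g : G, g • a) fun h => by
        rw [Finset.smul_sum]
        exact Fintype.sum_equiv (Equiv.mulLeft h) _ _ fun z => (mul_smul h z _).symm
    have hd1 : ∀ a : S, ∑ k, t (a * (y k : S)) • x k = a := fun a => by
      simp only [Algebra.smul_def, ht, Finset.sum_mul, smul_mul']
      rw [Finset.sum_comm]
      calc _ = ∑ g : G, (g • a) * (if g = 1 then 1 else 0) := Finset.sum_congr rfl fun g _ => by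
            rw [← hδ1 g, Finset.mul_sum]
            exact Finset.sum_congr rfl fun k _ => by ring
        _ = a := by simp
    have hd2 : ∀ a : S, ∑ k, t (a * x k) • (y k : S) = a := fun a => by
      simp only [Algebra.smul_def, ht, Finset.sum_mul, smul_mul']
      rw [Finset.sum_comm]
      simp only [mul_assoc, ← Finset.mul_sum, hδ2]
      simp
    refine ⟨le_antisymm (((IsLocalRing.local_hom_TFAE (algebraMap R S)).out 0 2 rfl rfl).mp inferInstance)
      fun a ha => ?_, inferInstance, ?_⟩
    · have hmt : ∀ k, t (a * x k) ∈ IsLocalRing.maximalIdeal R := fun k => by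
        rw [← ((IsLocalRing.local_hom_TFAE (algebraMap R S)).out 0 4 rfl rfl).mp inferInstance, Ideal.mem_comap, ht]
        refine sum_mem fun g _ => ?_
        rw [IsLocalRing.mem_maximalIdeal, mem_nonunits_iff]
        intro h
        have := h.map (MulSemiringAction.toRingHom G S g⁻¹)
        rw [MulSemiringAction.toRingHom_apply, inv_smul_smul] at this
        exact (IsLocalRing.mem_maximalIdeal _).mp (Ideal.mul_mem_right _ _ ha) this
      rw [← hd2 a]
      exact sum_mem fun k _ => by
        rw [Algebra.smul_def]
        exact Ideal.mul_mem_right _ _ (Ideal.mem_map_of_mem _ (hmt k))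
    · haveI : Algebra.FormallyUnramified R S := by
        rw [Algebra.FormallyUnramified.iff_exists_tensorProduct]
        refine ⟨∑ k, (y k : S) ⊗ₜ[R] x k, fun s => ?_, ?_⟩
        · rw [sub_mul, sub_eq_zero, Finset.mul_sum, Finset.mul_sum]
          simp only [Algebra.TensorProduct.tmul_mul_tmul, one_mul]
          conv_rhs => enter [2, k]; rw [← hd2 (s * (y k : S))]
          conv_lhs => enter [2, k]; rw [← hd1 (s * x k)]
          simp only [TensorProduct.tmul_sum, TensorProduct.sum_tmul, TensorProduct.tmul_smul,
            ← TensorProduct.smul_tmul']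
          rw [Finset.sum_comm]
          exact Finset.sum_congr rfl fun j _ => Finset.sum_congr rfl fun k _ => by rw [mul_right_comm]
        · simp only [map_sum, Algebra.TensorProduct.lmul'_apply_tmul, mul_comm (y _ : S)]
          simpa using hδ1 1
      haveI : Algebra.FormallyUnramified S (S ⧸ IsLocalRing.maximalIdeal S) := .quotient _
      haveI : Algebra.FormallyUnramified R (S ⧸ IsLocalRing.maximalIdeal S) := .comp _ S _
      haveI : Algebra.FormallyUnramified (R ⧸ IsLocalRing.maximalIdeal R) (S ⧸ IsLocalRing.maximalIdeal S) :=
        .of_restrictScalars R _ _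
      exact Algebra.FormallyUnramified.isSeparable _ _
  · rintro ⟨hmap, _, hsep⟩
    haveI : Algebra.IsSeparable (IsLocalRing.ResidueField R) (IsLocalRing.ResidueField S) := hsep
    haveI : Algebra.FormallyUnramified R S := Algebra.FormallyUnramified.of_map_maximalIdeal hmap
    rw [Subgroup.eq_bot_iff_forall]
    intro g hg
    haveI : FaithfulSMul G S := IsGaloisGroup.faithful R
    refine FaithfulSMul.eq_of_smul_eq_smul (α := S) fun s => ?_
    rw [one_smul]
    haveI : IsNoetherianRing S := IsNoetherianRing.of_finite R S
    have := Algebra.FormallyUnramified.ext_of_iInf (IsLocalRing.maximalIdeal S)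
      (Ideal.iInf_pow_eq_bot_of_isLocalRing _ (Ideal.IsMaximal.ne_top inferInstance))
      (g₁ := MulSemiringAction.toAlgHom R S g) (g₂ := AlgHom.id R S)
      (fun z => Ideal.Quotient.eq.mpr (hg z))
    exact DFunLike.congr_fun this s

end Groth.Agent.S18535
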