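import Groth.Statements.S18539
import Mathlib
-- imports

set_option autoImplicit false
universe u v w
open CAlg

namespace Groth.Agent.S18539
open scoped Pointwise

/-- For a commutative ring R, R-modules M and N and elements r₁, r₂ of R such that r₁ is a
non-zero-divisor on N and r₂ is a non-zero-divisor on N/r₁N, the element r₁ is a non-zero-divisor on
the module Hom_R(M, N) and r₂ is a non-zero-divisor on Hom_R(M, N)/r₁Hom_R(M, N). (Weak regularity
on both sides: no condition that the quotient by (r₁, r₂) is nonzero, which would fail for M = 0.) -/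
theorem result
    (R : Type u) [CommRing R] (M : Type v) (N : Type w)
    [AddCommGroup M] [Module R M] [AddCommGroup N] [Module R N]
    (r₁ r₂ : R) (h : RingTheory.Sequence.IsWeaklyRegular N [r₁, r₂]) :
    RingTheory.Sequence.IsWeaklyRegular (M →ₗ[R] N) [r₁, r₂] := by
  classical
  rw [RingTheory.Sequence.isWeaklyRegular_cons_iff, RingTheory.Sequence.isWeaklyRegular_singleton_iff] at h ⊢
  obtain ⟨h1, h2⟩ := h
  refine ⟨fun φ ψ hφ => LinearMap.ext fun m => h1 (LinearMap.congr_fun hφ m), ?_⟩
  rw [isSMulRegular_iff_right_eq_zero_of_smul] at h2 ⊢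
  intro q hq
  obtain ⟨φ, rfl⟩ := Submodule.Quotient.mk_surjective _ q
  rw [← Submodule.Quotient.mk_smul, Submodule.Quotient.mk_eq_zero, Submodule.mem_smul_pointwise_iff_exists] at hq
  obtain ⟨ψ, -, hψ⟩ := hq
  have hex : ∀ m, ∃ n : N, r₁ • n = φ m := fun m => by
    have h3 : (Submodule.Quotient.mk (φ m) : N ⧸ r₁ • (⊤ : Submodule R N)) = 0 := by
      refine h2 _ ?_
      rw [← Submodule.Quotient.mk_smul, Submodule.Quotient.mk_eq_zero, Submodule.mem_smul_pointwise_iff_exists]
      exact ⟨ψ m, trivial, LinearMap.congr_fun hψ m⟩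
    rw [Submodule.Quotient.mk_eq_zero, Submodule.mem_smul_pointwise_iff_exists] at h3
    obtain ⟨n, -, hn⟩ := h3
    exact ⟨n, hn⟩
  choose χ hχ using hex
  rw [Submodule.Quotient.mk_eq_zero, Submodule.mem_smul_pointwise_iff_exists]
  exact ⟨{ toFun := χ
           map_add' := fun a b => h1 (by simp only [smul_add, hχ, map_add])
           map_smul' := fun c a => h1 (by simp only [hχ, map_smul, smul_comm r₁ c, RingHom.id_apply]) },
    trivial, LinearMap.ext hχ⟩

end Groth.Agent.S18539
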