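import Groth.Statements.S18540
import Groth.Agent.AVTors.TateInj
import Mathlib.LinearAlgebra.Charpoly.Basic
-- import your own Groth.Agent.* helpers here

set_option autoImplicit false
universe u
open CategoryTheory MonoidalCategory CartesianMonoidalCategory MonObj GrpObj AlgebraicGeometry
open AbVar

namespace Groth.Agent.S18540

set_option linter.style.haveILetI false
set_option backward.isDefEq.respectTransparency false
set_option backward.isDefEq.respectTransparency.types false
set_option maxHeartbeats 1000000

/-- Let k be a field with algebraic closure Ω, ℓ a prime number invertible in k, A an abelian variety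
over k (a commutative group scheme over k which is smooth and proper with geometrically connected
fibres) and f an endomorphism of A over k. Suppose the ℓ-adic Tate module of Ω-valued points of A is
free of finite rank over the ℓ-adic integers, and let P be a polynomial with integer coefficients
mapping to the characteristic polynomial of the endomorphism T_ℓ(f) of that Tate module (the
characteristic polynomial of f). Then P(f) = 0 in the endomorphism ring of A: f satisfies its own
characteristic polynomial. -/
theorem result (k Ω : Type u) [Field k] [Field Ω] [Algebra k Ω]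
    [IsAlgClosure k Ω] (A : Over (Spec (CommRingCat.of k)))
    [GrpObj A] [IsCommMonObj A] [Smooth A.hom] [IsProper A.hom] [GeometricallyConnected A.hom]
    (l : ℕ) [Fact l.Prime] (hl : (l : k) ≠ 0)
    [Module.Free ℤ_[l] (AbDual.TateMod A l (SGA7.pt Ω))] [Module.Finite ℤ_[l] (AbDual.TateMod A l (SGA7.pt Ω))]
    (f : EndAV.End A) (P : Polynomial ℤ)
    (hP : (EndAV.End.tateRep l (SGA7.pt Ω) f).charpoly = P.map (Int.castRingHom ℤ_[l])) :
    Polynomial.aeval f P = 0 := by
  haveI : GeometricallyReduced A.hom := H23.RigidGamma.geometricallyReduced_of_smooth A.hom
  haveI : Nonempty A.left := ⟨(η[A]).left (IsLocalRing.closedPoint k)⟩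
  haveI : ConnectedSpace A.left := GeometricallyConnected.connectedSpace_of_subsingleton (f := A.hom)
  haveI := H23.MaxAbelian.geometricallyIntegral_of_connected A
  haveI : IsAlgClosed Ω := IsAlgClosure.isAlgClosed k
  let ρ := EndAV.End.tateRep (A := A) l (SGA7.pt (K := k) Ω)
  refine (injective_iff_map_eq_zero _).1 (AVTors.tateMap_injective (A := A) (B := A) Ω l hl) _ ?_
  show ρ (Polynomial.aeval f P) = 0
  have h1 := LinearMap.aeval_self_charpoly (ρ f)
  rw [hP] at h1
  rw [← h1, Polynomial.aeval_def, Polynomial.aeval_def, Polynomial.hom_eval₂, Polynomial.eval₂_map]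
  congr 1
  exact RingHom.ext_int _ _

end Groth.Agent.S18540
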