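import Groth.Statements.S18541
import Groth.Agent.Lib.AVLambda
import Groth.Agent.Lib.AVFrobPull

set_option autoImplicit false
set_option backward.isDefEq.respectTransparency false
set_option backward.isDefEq.respectTransparency.types false
set_option linter.style.haveILetI false
set_option linter.unusedSectionVars false
set_option maxHeartbeats 400000
universe u
open CategoryTheory MonoidalCategory CartesianMonoidalCategory MonObj GrpObj AlgebraicGeometry
open AbVar

namespace Groth.Agent.S18541

set_option maxHeartbeats 800000
set_option synthInstance.maxHeartbeats 400000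
open CategoryTheory.Limits
open Groth.Agent Groth.Agent.AVPair Groth.Agent.AVLambda
open scoped Groth.Agent.H23.PicMul

/-- Let k be a finite field with q elements and A an abelian variety over k (a commutative group scheme
over k which is smooth and proper with geometrically connected fibres), given with a dual (A^t, φ)
for the fppf topology. Let π : A → A be the q-power Frobenius endomorphism of A (the identity on the
underlying space and the q-th power map on sections; a homomorphism) and π^t : A^t → A^t a transpose
of π. Let L be an invertible module on A and λ_L : A → A^t the homomorphism Λ(L) attached to L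
through φ. Then π followed by λ_L followed by π^t is q·λ_L, the q-th power of λ_L in the group of
morphisms A → A^t. (The published statement fixes L ample and reads π^‡ ∘ π = [q] for the Rosati
involution ‡ of L; its proof rewrites this as the displayed identity, which uses only that L is
invertible.) -/
theorem result (k : Type u) [Field k] [Finite k]
    (A At : Over (Spec (CommRingCat.of k)))
    [GrpObj A] [IsCommMonObj A] [Smooth A.hom] [IsProper A.hom] [GeometricallyConnected A.hom]
    [GrpObj At] [IsCommMonObj At]
    (φ : AgPol.DualMap A At) (hdual : AbDual.IsDualAV Scheme.fppfPrecoverage A At φ)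
    (π : A ⟶ A) [IsMonHom π] (hπb : π.left.base = 𝟙 _) (hπle : ∀ U : A.left.Opens, U ≤ π.left ⁻¹ᵁ U)
    (hπapp : ∀ (U : A.left.Opens) (s : Γ(A.left, U)), (π.left.appLE U U (hπle U)).hom s = s ^ Nat.card k)
    (πt : At ⟶ At) [IsMonHom πt] (hπt : AbDual.IsTranspose π φ φ πt)
    (L : A.left.Modules) (hL : PicF.IsInvertible L) (lam : A ⟶ At) (hlam : AgPol.IsLambda A At φ L lam) :
    π ≫ lam ≫ πt = lam ^ Nat.card k := by
  haveI := AVDual.geometricallyIntegral_of_smooth A
  rw [eq_lam_of_isLambda hL hlam]
  have hc : AVDual.PZ A A (pl (A ◁ π) (base hL)) := AVDual.pz_pl π (pz_base hL)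
  have h := hπt A _ hc
  rw [AVDual.phi_pl hdual π (pz_base hL)] at h
  rw [← phi_base_pow hL hdual (Nat.card k), ← Category.assoc]
  refine h.symm.trans (congrArg (φ A) ?_)
  obtain ⟨e⟩ := AVFrobPull.nonempty_iso π.left (Nat.card k) hπb hπle hπapp hL
  have hq : ∀ {T : Over (Spec (CommRingCat.of k))} (f : T ⟶ A),
      AVDegPoly.q hL (f ≫ π) = AVDegPoly.q hL f ^ Nat.card k := fun {T} f => Subtype.ext (Units.ext (by
    show PicF.pullCl (f ≫ π).left (PicF.cl L) = val (AVDegPoly.q hL f ^ Nat.card k)
    rw [val_pow, Over.comp_left, ← PicClLib.pullCl_comp]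
    show PicF.pullCl f.left (PicF.cl ((Scheme.Modules.pullback π.left).obj L)) = PicF.pullCl f.left (PicF.cl L) ^ Nat.card k
    rw [H23.PicMul.cl_eq_iff.2 ⟨e⟩, H23.PicMul.cl_tensorPow, H23.PicMul.pullCl_pow]))
  show pl (π ▷ A) (pl (A ◁ π) (base hL)) = base hL ^ Nat.card k
  rw [pl_pl, val_polar, ← val_pow,
    show ((π ▷ A) ≫ (A ◁ π)) ≫ fst A A = fst A A ≫ π by simp,
    show ((π ▷ A) ≫ (A ◁ π)) ≫ snd A A = snd A A ≫ π by simp]
  refine congrArg val ?_
  rw [AVDegPoly.polar, AVDegPoly.polar, hq, hq, ← MonObj.mul_comp, hq, div_pow, mul_pow]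

end Groth.Agent.S18541
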