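import Groth.Statements.S18543
import Mathlib.RingTheory.Artinian.Module
import Mathlib.FieldTheory.IsAlgClosed.Basic
import Mathlib.RingTheory.Etale.Field
import Mathlib.RingTheory.HopfAlgebra.Convolution
import Mathlib.LinearAlgebra.FreeModule.Finite.Matrix
import Mathlib.RingTheory.TensorProduct.Finite


set_option autoImplicit false
universe u
open Hopf

namespace Groth.Agent.S18543

/-- Let p be a prime number, k a field of characteristic p and A a finite-dimensional commutative,
cocommutative Hopf algebra over k — the coordinate ring of a finite commutative group scheme G over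
k — such that A is étale over k and dim_k A = p^n for some n (G is an étale group scheme of p-power
order). Then the Cartier dual A^∨ = Hom_k(A, k), with its convolution ring structure, is a local
ring; that is, the Cartier dual group scheme G^∨ = Spec A^∨ is infinitesimal (its underlying space
is a single point). -/
theorem result (p : ℕ) [Fact p.Prime]
    (k : Type u) [Field k] [CharP k p] (A : Type u) [CommRing A] [HopfAlgebra k A] [Coalgebra.IsCocomm k A]
    [Module.Finite k A] [Algebra.Etale k A] (n : ℕ) (hA : Module.finrank k A = p ^ n) :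
    IsLocalRing (CartDual.D k A) := by
  classical
  let K := AlgebraicClosure k
  haveI : CharP K p := charP_of_injective_algebraMap (algebraMap k K).injective p
  let pts : WithConv (A →ₐ[k] K) → (A →ₗ[k] K) := fun g => g.ofConv.toLinearMap
  have hspan : Submodule.span K (Set.range pts) = ⊤ := by
    let e := LinearMap.liftBaseChangeEquiv K (R := k) (M := A) (N := K)
    apply Submodule.map_injective_of_injective (f := e.toLinearMap) e.injective
    rw [Submodule.map_span, Submodule.map_top, LinearEquiv.range]
    refine Submodule.span_eq_top_of_ne_zero fun z hz => ?_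
    haveI : IsReduced (TensorProduct k K A) := Algebra.FormallyUnramified.isReduced_of_field K _
    haveI : IsArtinianRing (TensorProduct k K A) := IsArtinianRing.of_finite K _
    have hne : IsArtinianRing.equivPi (TensorProduct k K A) z ≠ 0 := by simpa using hz
    obtain ⟨I, hI⟩ := Function.ne_iff.1 hne
    haveI := I.isMaximal
    letI := Ideal.Quotient.field I.asIdeal
    let eI := AlgEquiv.ofBijective (Algebra.ofId K (TensorProduct k K A ⧸ I.asIdeal))
      IsAlgClosed.algebraMap_bijective_of_isIntegral
    let χ : TensorProduct k K A →ₐ[K] K := eI.symm.toAlgHom.comp (Ideal.Quotient.mkₐ K I.asIdeal)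
    refine ⟨χ.toLinearMap, ⟨pts (WithConv.toConv ((χ.restrictScalars k).comp Algebra.TensorProduct.includeRight)),
      ⟨_, rfl⟩, ?_⟩, fun h => hI ?_⟩
    · refine TensorProduct.AlgebraTensorModule.ext fun c a => ?_
      show c • χ (1 ⊗ₜ a) = χ (c ⊗ₜ a)
      rw [← map_smul, TensorProduct.smul_tmul', smul_eq_mul, _root_.mul_one]
    · have := congrArg eI h
      simpa [χ, IsArtinianRing.equivPi_apply] using this
  have hli : LinearIndependent K pts :=
    (linearIndependent_algHom_toLinearMap k A K).comp _ WithConv.ofConv_injective
  haveI : Finite (WithConv (A →ₐ[k] K)) := Finite.of_injective _ WithConv.ofConv_injective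
  haveI := Fintype.ofFinite (WithConv (A →ₐ[k] K))
  have hcard : Nat.card (WithConv (A →ₐ[k] K)) = p ^ n := by
    rw [Nat.card_eq_fintype_card, ← Module.finrank_eq_card_basis (Module.Basis.mk hli hspan.ge),
      Module.finrank_linearMap_self]
    exact hA
  let ι : CartDual.D k A →+* WithConv (A →ₗ[k] K) :=
    { toFun := fun f => WithConv.toConv ((Algebra.linearMap k K).comp f.ofConv)
      map_one' := by ext a; simp
      map_mul' := fun f g => by
        have := LinearMap.algHom_comp_convMul_distrib (Algebra.ofId k K) f g
        exact WithConv.ext this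
      map_zero' := by ext a; simp
      map_add' := fun f g => by ext a; simp }
  have hι : Function.Injective ι := fun f g h => by
    ext a
    exact (algebraMap k K).injective (LinearMap.congr_fun (congrArg WithConv.ofConv h) a)
  let Θ : WithConv (A →ₐ[k] K) →* WithConv (A →ₗ[k] K) :=
    { toFun := fun g => WithConv.toConv g.ofConv.toLinearMap
      map_one' := AlgHom.toLinearMap_convOne
      map_mul' := AlgHom.toLinearMap_convMul }
  haveI : ExpChar (WithConv (A →ₗ[k] K)) p := by
    haveI : Nontrivial (WithConv (A →ₗ[k] K)) := ⟨⟨1, 0, fun h => by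
      have := LinearMap.congr_fun (congrArg WithConv.ofConv h) 1
      simp at this⟩⟩
    haveI : CharP (WithConv (A →ₗ[k] K)) p := charP_of_injective_algebraMap (algebraMap k (WithConv (A →ₗ[k] K))).injective p
    exact ExpChar.prime Fact.out
  have hunit : ∀ g : WithConv (A →ₐ[k] K), IsUnit g := by
    intro g
    refine IsUnit.of_mul_eq_one (WithConv.toConv (g.ofConv.comp (HopfAlgebra.antipodeAlgHom k A))) ?_
    refine WithConv.ofConv_injective (AlgHom.toLinearMap_injective (WithConv.toConv_injective ?_))
    rw [AlgHom.toLinearMap_convMul, AlgHom.toLinearMap_convOne]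
    have h2 := LinearMap.algHom_comp_convMul_distrib g.ofConv
      (WithConv.toConv (LinearMap.id : A →ₗ[k] A)) (WithConv.toConv (HopfAlgebra.antipode k (A := A)))
    rw [LinearMap.id_mul_antipode] at h2
    refine Eq.trans ?_ ((congrArg WithConv.toConv h2).symm.trans ?_)
    · rfl
    · ext a
      simp
  have hpow : ∀ f : CartDual.D k A, f ^ p ^ n = (f 1 ^ p ^ n) • 1 := by
    intro f
    refine hι ?_
    obtain ⟨c, hc⟩ : ∃ c : WithConv (A →ₐ[k] K) → K, ∑ g, c g • Θ g = ι f := by
      obtain ⟨c, hc⟩ := (Submodule.mem_span_range_iff_exists_fun K).1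
        (hspan.symm ▸ Submodule.mem_top : (Algebra.linearMap k K).comp f.ofConv ∈ Submodule.span K (Set.range pts))
      refine ⟨c, WithConv.ext ?_⟩
      rw [WithConv.ofConv_sum]
      exact hc
    have h1 : algebraMap k K (f 1) = ∑ g, c g := by
      have := LinearMap.congr_fun (congrArg WithConv.ofConv hc) 1
      rw [WithConv.ofConv_sum, LinearMap.sum_apply] at this
      simpa [ι, Θ] using this.symm
    rw [map_pow, ← hc, sum_pow_char_pow]
    have hg : ∀ g, (c g • Θ g) ^ p ^ n = (c g ^ p ^ n) • (1 : WithConv (A →ₗ[k] K)) := fun g => by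
      have hg1 : g ^ p ^ n = 1 := by
        obtain ⟨u, rfl⟩ := hunit g
        have hc : Nat.card (WithConv (A →ₐ[k] K))ˣ = p ^ n := hcard ▸ Nat.card_congr (Equiv.ofBijective Units.val
          ⟨Units.val_injective, fun x => ⟨(hunit x).unit, (hunit x).unit_spec⟩⟩)
        rw [← Units.val_pow_eq_pow_val, ← hc, pow_card_eq_one', Units.val_one]
      rw [smul_pow, ← map_pow Θ, hg1, map_one]
    simp only [hg, ← Finset.sum_smul]
    rw [← sum_pow_char_pow, ← h1, ← map_pow]
    ext a
    simp [ι, mul_comm]
  haveI : Nontrivial (CartDual.D k A) := ⟨⟨1, 0, fun h => by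
    have := LinearMap.congr_fun (congrArg WithConv.ofConv h) 1
    simp at this⟩⟩
  refine IsLocalRing.of_nonunits_add fun f g hf hg h => ?_
  have key : ∀ f : CartDual.D k A, f ∈ nonunits (CartDual.D k A) → f 1 = 0 := fun f hf => by
    by_contra hne
    refine hf ((isUnit_pow_iff (pow_ne_zero n (Fact.out : p.Prime).ne_zero)).1 ?_)
    rw [hpow]
    rw [Algebra.smul_def, _root_.mul_one]
    exact (IsUnit.mk0 _ (pow_ne_zero _ hne)).map _
  have h0 : (f + g) 1 = 0 := by
    show f.ofConv 1 + g.ofConv 1 = 0
    rw [show f.ofConv 1 = 0 from key f hf, show g.ofConv 1 = 0 from key g hg, add_zero]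
  have := h.pow (p ^ n)
  rw [hpow, h0, zero_pow (pow_ne_zero n (Fact.out : p.Prime).ne_zero), zero_smul] at this
  exact not_isUnit_zero this

end Groth.Agent.S18543
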