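import Groth.Statements.S18544
import Mathlib

set_option autoImplicit false
universe u
open CAlg

namespace Groth.Agent.S18544

/-- Let F be an algebraically closed field of characteristic zero, n a natural number, and N a nonzero
polynomial over F in the n² matrix entries whose evaluation on n × n matrices is multiplicative,
N(xy) = N(x)·N(y) for all x, y (a norm form on the matrix algebra M_n(F) over F). Then N is a
natural power of the determinant: for some m, N(x) = det(x)^m for every matrix x. The published
statement concerns norm forms of any central simple algebra over a subfield; this row is the case of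
the full matrix algebra over an algebraically closed field, which is the case its proof treats. -/
theorem result (F : Type u) [Field F] [IsAlgClosed F]
    [CharZero F] (n : ℕ) (N : MvPolynomial (Fin n × Fin n) F) (hN : N ≠ 0)
    (hmul : ∀ x y : Matrix (Fin n) (Fin n) F,
      MvPolynomial.eval (fun ij : Fin n × Fin n => (x * y) ij.1 ij.2) N =
        MvPolynomial.eval (fun ij : Fin n × Fin n => x ij.1 ij.2) N * MvPolynomial.eval (fun ij : Fin n × Fin n => y ij.1 ij.2) N) :
    ∃ m : ℕ, ∀ x : Matrix (Fin n) (Fin n) F,
      MvPolynomial.eval (fun ij : Fin n × Fin n => x ij.1 ij.2) N = x.det ^ m := by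
  classical
  let Ev : Matrix (Fin n) (Fin n) F → F := fun x => MvPolynomial.eval (fun ij => x ij.1 ij.2) N
  have hEv : ∀ x y, Ev (x * y) = Ev x * Ev y := hmul
  have h1 : Ev 1 = 1 := by
    have h := hEv 1 1
    rw [one_mul] at h
    by_contra hne
    have h0 : Ev 1 = 0 := by
      by_contra h0
      exact hne (mul_left_cancel₀ h0 (by rw [mul_one]; exact h.symm))
    refine hN (MvPolynomial.funext fun v => ?_)
    have hx := hEv 1 (Matrix.of fun i j => v (i, j))
    rw [one_mul, h0, zero_mul] at hx
    rw [map_zero]
    exact hx
  -- specialise a matrix of polynomials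
  let P : Matrix (Fin n) (Fin n) (Polynomial F) → Polynomial F := fun A =>
    MvPolynomial.eval₂ Polynomial.C (fun ij => A ij.1 ij.2) N
  have hP : ∀ A c, (P A).eval c = Ev (A.map (Polynomial.eval c)) := fun A c => by
    show Polynomial.evalRingHom c (MvPolynomial.eval₂ Polynomial.C (fun ij => A ij.1 ij.2) N) = _
    rw [MvPolynomial.eval₂_comp_left]
    have : (Polynomial.evalRingHom c).comp Polynomial.C = RingHom.id F := by ext; simp
    rw [this]
    rfl
  have htr : ∀ (i j : Fin n) (c : F), i ≠ j → Ev (Matrix.transvection i j c) = 1 := by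
    intro i j c hij
    let f := P (Matrix.transvection i j Polynomial.X)
    have hf : ∀ a, f.eval a = Ev (Matrix.transvection i j a) := fun a => by
      rw [hP]
      congr 1
      ext r t
      simp [Matrix.transvection, Matrix.one_apply, Matrix.single_apply, apply_ite (Polynomial.eval a)]
    have hmul' : f * f.comp (-Polynomial.X) = 1 := Polynomial.funext fun a => by
      simp only [Polynomial.eval_mul, Polynomial.eval_comp, Polynomial.eval_neg, Polynomial.eval_X,
        Polynomial.eval_one]
      rw [hf, hf, ← hEv, Matrix.transvection_mul_transvection_same i j hij, add_neg_cancel,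
        Matrix.transvection_zero, h1]
    obtain ⟨a, -, ha⟩ := Polynomial.isUnit_iff.1 (IsUnit.of_mul_eq_one _ hmul')
    have e0 := hf 0
    rw [Matrix.transvection_zero, h1, ← ha, Polynomial.eval_C] at e0
    rw [← hf c, ← ha, Polynomial.eval_C, e0]
  let D : Fin n → F → Matrix (Fin n) (Fin n) F := fun i t => Matrix.diagonal (Function.update 1 i t)
  have hD : ∀ i, ∃ k : ℕ, ∀ t, Ev (D i t) = t ^ k := by
    intro i
    let g := P (Matrix.diagonal (Function.update 1 i Polynomial.X))
    have hg : ∀ a, g.eval a = Ev (D i a) := fun a => by
      rw [hP]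
      congr 1
      ext r t
      by_cases hrt : r = t
      · subst hrt
        by_cases hri : r = i
        · subst hri; simp [D]
        · simp [D, Function.update_of_ne hri]
      · simp [D, Matrix.diagonal_apply_ne _ hrt]
    have hgm : ∀ s t, g.eval (s * t) = g.eval s * g.eval t := fun s t => by
      rw [hg, hg, hg, ← hEv, Matrix.diagonal_mul_diagonal]
      refine congrArg Ev (congrArg Matrix.diagonal (funext fun r => ?_))
      by_cases hri : r = i
      · subst hri; rw [Function.update_self, Function.update_self, Function.update_self]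
      · rw [Function.update_of_ne hri, Function.update_of_ne hri, Function.update_of_ne hri]; simp
    have hg1 : g.eval 1 = 1 := by
      rw [hg]
      have : D i 1 = 1 := by simp [D]
      rw [this, h1]
    have hg0 : g ≠ 0 := fun h => by simp [h] at hg1
    have hco : g.comp (Polynomial.C 2 * Polynomial.X) = Polynomial.C (g.eval 2) * g :=
      Polynomial.funext fun a => by simp [hgm]
    refine ⟨g.natDegree, fun t => ?_⟩
    have hk : ∀ k, g.coeff k ≠ 0 → (2 : F) ^ k = g.eval 2 := fun k hk => by
      have := congrArg (fun q => Polynomial.coeff q k) hco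
      simp only [Polynomial.comp_C_mul_X_coeff, Polynomial.coeff_C_mul] at this
      exact mul_left_cancel₀ hk (by rw [this, mul_comm])
    have hmono : g = Polynomial.C (g.coeff g.natDegree) * Polynomial.X ^ g.natDegree := by
      ext k
      rw [Polynomial.coeff_C_mul_X_pow]
      split_ifs with h
      · rw [h]
      · by_contra hne
        have e := (hk k hne).trans (hk g.natDegree (by
          rw [← Polynomial.leadingCoeff]; exact Polynomial.leadingCoeff_ne_zero.2 hg0)).symm
        have : ((2 ^ k : ℕ) : F) = ((2 ^ g.natDegree : ℕ) : F) := by push_cast; exact e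
        exact h (Nat.pow_right_injective le_rfl (Nat.cast_injective this))
    have hlc : g.coeff g.natDegree = 1 := by
      have := hg1
      rw [hmono] at this
      simpa using this
    rw [← hg, hmono, hlc]
    simp
  have hperm : ∀ (σ : Equiv.Perm (Fin n)) (A : Matrix (Fin n) (Fin n) F), Ev (A.submatrix σ σ) = Ev A := by
    intro σ A
    let P₁ : Matrix (Fin n) (Fin n) F := (1 : Matrix (Fin n) (Fin n) F).submatrix σ id
    let Q₁ : Matrix (Fin n) (Fin n) F := (1 : Matrix (Fin n) (Fin n) F).submatrix id σ
    have e1 : P₁ * A * Q₁ = A.submatrix σ σ := by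
      ext r t
      simp [P₁, Q₁, Matrix.mul_apply, Matrix.one_apply]
    have e2 : P₁ * Q₁ = 1 := by
      ext r t
      simp [P₁, Q₁, Matrix.mul_apply, Matrix.one_apply, σ.injective.eq_iff]
    have e3 : Ev P₁ * Ev Q₁ = 1 := by rw [← hEv, e2, h1]
    rw [← e1, hEv, hEv]
    calc Ev P₁ * Ev A * Ev Q₁ = Ev A * (Ev P₁ * Ev Q₁) := by ring
      _ = Ev A := by rw [e3, mul_one]
  have hcommon : ∃ m : ℕ, ∀ i t, Ev (D i t) = t ^ m := by
    rcases Nat.eq_zero_or_pos n with hn | hn
    · exact ⟨0, fun i => absurd i.pos (by omega)⟩
    · obtain ⟨m, hm⟩ := hD ⟨0, hn⟩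
      refine ⟨m, fun i t => ?_⟩
      rw [← hm t, ← hperm (Equiv.swap ⟨0, hn⟩ i) (D ⟨0, hn⟩ t)]
      congr 1
      simp only [D]
      rw [Matrix.submatrix_diagonal_equiv]
      congr 1
      funext r
      by_cases hri : r = i
      · subst hri; simp
      · rw [Function.comp_apply, Function.update_of_ne hri, Function.update_of_ne]
        · simp
        · intro h
          apply hri
          apply (Equiv.swap (⟨0, hn⟩ : Fin n) i).injective
          rw [h, Equiv.swap_apply_right]
  obtain ⟨m, hm⟩ := hcommon
  have hdiag : ∀ (d : Fin n → F) (s : Finset (Fin n)),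
      Ev (Matrix.diagonal fun i => if i ∈ s then d i else 1) = ∏ i ∈ s, d i ^ m := by
    intro d s
    induction s using Finset.induction_on with
    | empty => simpa using h1
    | insert a s has ih =>
      rw [Finset.prod_insert has, ← hm a (d a), ← ih, ← hEv, Matrix.diagonal_mul_diagonal]
      congr 2
      funext r
      by_cases hra : r = a
      · subst hra; simp [has]
      · simp [Function.update_of_ne hra, hra]
  refine ⟨m, fun x => ?_⟩
  have hL : ∀ L : List (Matrix.TransvectionStruct (Fin n) F),
      Ev (L.map Matrix.TransvectionStruct.toMatrix).prod = 1 := by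
    intro L
    induction L with
    | nil => simpa using h1
    | cons a L ih => rw [List.map_cons, List.prod_cons, hEv, ih, mul_one]; exact htr _ _ _ a.hij
  obtain ⟨L, L', d, hx⟩ := Matrix.Pivot.exists_list_transvec_mul_diagonal_mul_list_transvec x
  show Ev x = _
  rw [hx, hEv, hEv, hL, hL, Matrix.det_mul, Matrix.det_mul,
    Matrix.TransvectionStruct.det_toMatrix_prod, Matrix.TransvectionStruct.det_toMatrix_prod,
    Matrix.det_diagonal, one_mul, mul_one, one_mul, mul_one, ← Finset.prod_pow]
  simpa using hdiag d Finset.univ

end Groth.Agent.S18544
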