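import Groth.Statements.S18545
import Mathlib.Order.Zorn
import Mathlib.LinearAlgebra.FiniteDimensional.Basic
import Mathlib.RingTheory.Noetherian.Basic

set_option autoImplicit false
universe u
open AbVar

namespace Groth.Agent.S18545

/-- A step in the proof of Tate's isogeny result over finite fields, in linear-algebra form. Let K be a
field and V a K-vector space of finite dimension 2g carrying a nondegenerate alternating bilinear
form e. Let F be a K-subalgebra of End(V) which is isomorphic as a K-algebra to a finite product K ×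
⋯ × K and which is spanned over K by a set S of similitudes of e (for each s in S there is a nonzero
scalar c with e(s x, s y) = c·e(x, y) for all x, y). Let D be a set of endomorphisms of V such that
every F-stable isotropic subspace W of dimension g (a maximal isotropic subspace) is D-stable. Then
every F-stable isotropic subspace of V is D-stable. (In the application V is the rational ℓ-adic
Tate module of an abelian variety over a finite field with the Riemann form of a polarisation, F the
algebra generated by the Galois group, split for the chosen ℓ, and D the commutant of the image of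
the endomorphism algebra; the hypothesis on maximal isotropic subspaces is the step obtained from
the finiteness of isomorphism classes.) -/
theorem result (K : Type u) [Field K]
    (V : Type u) [AddCommGroup V] [Module K V] [FiniteDimensional K V] (g : ℕ) (hV : Module.finrank K V = 2 * g)
    (e : LinearMap.BilinForm K V) (he : e.IsAlt) (hnd : e.Nondegenerate)
    (F : Subalgebra K (Module.End K V)) (r : ℕ) (hF : Nonempty (F ≃ₐ[K] (Fin r → K)))
    (S : Set (Module.End K V)) (hS : Submodule.span K S = Subalgebra.toSubmodule F)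
    (hsim : ∀ s ∈ S, ∃ c : K, c ≠ 0 ∧ ∀ x y : V, e (s x) (s y) = c * e x y)
    (D : Set (Module.End K V))
    (hmax : ∀ W : Submodule K V, (∀ f ∈ F, ∀ w ∈ W, f w ∈ W) → (∀ x ∈ W, ∀ y ∈ W, e x y = 0) →
      Module.finrank K W = g → ∀ d ∈ D, ∀ w ∈ W, d w ∈ W)
    (W : Submodule K V) (hWF : ∀ f ∈ F, ∀ w ∈ W, f w ∈ W) (hWiso : ∀ x ∈ W, ∀ y ∈ W, e x y = 0) :
    ∀ d ∈ D, ∀ w ∈ W, d w ∈ W := by
  classical
  obtain ⟨φ⟩ := hF
  have hrefl : e.IsRefl := he.isRefl
  let ε : Fin r → Module.End K V := fun i => (φ.symm (Pi.single i 1) : F).1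
  have hεF : ∀ i, ε i ∈ F := fun i => (φ.symm (Pi.single i 1)).2
  have hsum : ∀ v : V, ∑ i, ε i v = v := by
    intro v
    have h : (∑ i, φ.symm (Pi.single i (1 : K)) : F) = 1 := by
      rw [← map_sum, Finset.univ_sum_single (fun _ : Fin r => (1 : K))]
      exact map_one _
    have h2 := congrArg (fun a : F => (a : Module.End K V) v) h
    simpa [ε] using h2
  have heig : ∀ f ∈ F, ∀ i v, ∃ c : K, f (ε i v) = c • ε i v := by
    intro f hf i v
    refine ⟨φ ⟨f, hf⟩ i, ?_⟩
    have h : (⟨f, hf⟩ : F) * φ.symm (Pi.single i 1) = φ ⟨f, hf⟩ i • φ.symm (Pi.single i 1) := by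
      apply φ.injective
      rw [map_mul, map_smul, φ.apply_symm_apply]
      funext j
      rcases eq_or_ne j i with rfl | hj <;> simp [*]
    exact congrArg (fun a : F => (a : Module.End K V) v) h
  have horth : ∀ W' : Submodule K V, (∀ f ∈ F, ∀ w ∈ W', f w ∈ W') →
      ∀ f ∈ F, ∀ y ∈ e.orthogonal W', f y ∈ e.orthogonal W' := by
    intro W' hW' f hf y hy
    rw [LinearMap.BilinForm.mem_orthogonal_iff]
    intro w hw
    have hf' : f ∈ Submodule.span K S := hS ▸ hf
    induction hf' using Submodule.span_induction with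
    | mem s hs =>
      obtain ⟨c, hc, hse⟩ := hsim s hs
      have hsF : s ∈ F := by
        have : s ∈ Submodule.span K S := Submodule.subset_span hs
        rwa [hS] at this
      have hinj : Function.Injective s := by
        rw [injective_iff_map_eq_zero]
        intro v hv
        refine hnd.1 v fun v' => ?_
        have h := hse v v'
        rw [hv, map_zero, LinearMap.zero_apply] at h
        exact (mul_eq_zero.mp h.symm).resolve_left hc
      let sW : W' →ₗ[K] W' := s.restrict (hW' s hsF)
      obtain ⟨w', hw'⟩ := (LinearMap.injective_iff_surjective (f := sW)).mp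
        (fun a b h => Subtype.ext (hinj (congrArg Subtype.val h))) ⟨w, hw⟩
      have hww : s (w' : V) = w := congrArg Subtype.val hw'
      change e w (s y) = 0
      rw [← hww, hse, hy _ w'.2, mul_zero]
    | zero => simp
    | add a b ha hb iha ihb =>
      have haF : a ∈ F := by rwa [hS] at ha
      have hbF : b ∈ F := by rwa [hS] at hb
      rw [LinearMap.add_apply, map_add, iha haF, ihb hbF, add_zero]
    | smul c a ha iha =>
      have haF : a ∈ F := by rwa [hS] at ha
      rw [LinearMap.smul_apply, map_smul, iha haF, smul_zero]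
  -- every stable isotropic subspace lies in a stable Lagrangian one
  have hmaximal : ∀ W' : Submodule K V, (∀ f ∈ F, ∀ w ∈ W', f w ∈ W') → (∀ x ∈ W', ∀ y ∈ W', e x y = 0) →
      ∃ L, W' ≤ L ∧ (∀ f ∈ F, ∀ w ∈ L, f w ∈ L) ∧ (∀ x ∈ L, ∀ y ∈ L, e x y = 0) ∧ Module.finrank K L = g := by
    intro W'
    induction W' using WellFoundedGT.induction with
    | ind W' ih =>
      intro hF' hiso
      by_cases hall : e.orthogonal W' ≤ W'
      · refine ⟨W', le_rfl, hF', hiso, ?_⟩
        have heq : e.orthogonal W' = W' := le_antisymm hall fun x hx y hy => hiso y hy x hx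
        have h := LinearMap.BilinForm.finrank_orthogonal hnd W'
        rw [heq, hV] at h
        have := Submodule.finrank_le W'
        omega
      · obtain ⟨y₀, hy₀, hy₀'⟩ := SetLike.not_le_iff_exists.mp hall
        obtain ⟨i, hi⟩ : ∃ i, ε i y₀ ∉ W' := by
          by_contra! hcon
          exact hy₀' (hsum y₀ ▸ Submodule.sum_mem _ fun i _ => hcon i)
        have hyo : ε i y₀ ∈ e.orthogonal W' := horth W' hF' _ (hεF i) _ hy₀
        have hlt : W' < W' ⊔ (K ∙ ε i y₀) := by
          rw [left_lt_sup, Submodule.span_singleton_le_iff_mem]; exact hi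
        have hA : ∀ f ∈ F, ∀ w ∈ W' ⊔ (K ∙ ε i y₀), f w ∈ W' ⊔ (K ∙ ε i y₀) := by
          intro f hf w hw
          obtain ⟨a, ha, b, hb, rfl⟩ := Submodule.mem_sup.mp hw
          obtain ⟨c, rfl⟩ := Submodule.mem_span_singleton.mp hb
          obtain ⟨c', hc'⟩ := heig f hf i y₀
          rw [map_add, map_smul, hc']
          exact add_mem (Submodule.mem_sup_left (hF' f hf a ha))
            (Submodule.mem_sup_right (Submodule.smul_mem _ _ (Submodule.smul_mem _ _ (Submodule.mem_span_singleton_self _))))
        have hB : ∀ u ∈ W' ⊔ (K ∙ ε i y₀), ∀ v ∈ W' ⊔ (K ∙ ε i y₀), e u v = 0 := by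
          intro u hu v hv
          obtain ⟨a, ha, b, hb, rfl⟩ := Submodule.mem_sup.mp hu
          obtain ⟨c, rfl⟩ := Submodule.mem_span_singleton.mp hb
          obtain ⟨a', ha', b', hb', rfl⟩ := Submodule.mem_sup.mp hv
          obtain ⟨c', rfl⟩ := Submodule.mem_span_singleton.mp hb'
          have h1 : e a (ε i y₀) = 0 := hyo a ha
          have h2 : e (ε i y₀) a' = 0 := hrefl _ _ (hyo a' ha')
          simp [hiso a ha a' ha', h1, h2, he (ε i y₀)]
        obtain ⟨L, hle, hL⟩ := ih _ hlt hA hB
        exact ⟨L, le_sup_left.trans hle, hL⟩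
  intro d hd w hw
  by_contra hx
  set x := d w with hxdef
  by_cases hxo : x ∈ e.orthogonal W
  · have hxoo : x ∉ e.orthogonal (e.orthogonal W) := by
      rwa [LinearMap.BilinForm.orthogonal_orthogonal hnd hrefl]
    rw [LinearMap.BilinForm.mem_orthogonal_iff] at hxoo
    push_neg at hxoo
    obtain ⟨y₀, hy₀, hne⟩ := hxoo
    obtain ⟨i, hi⟩ : ∃ i, e (ε i y₀) x ≠ 0 := by
      by_contra! hcon
      exact hne (by rw [← hsum y₀, map_sum, LinearMap.sum_apply]; exact Finset.sum_eq_zero fun i _ => hcon i)
    have hyo : ε i y₀ ∈ e.orthogonal W := horth W hWF _ (hεF i) _ hy₀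
    obtain ⟨L, hle, hLF, hLiso, hLg⟩ := hmaximal (W ⊔ (K ∙ ε i y₀))
      (fun f hf u hu => by
        obtain ⟨a, ha, b, hb, rfl⟩ := Submodule.mem_sup.mp hu
        obtain ⟨c, rfl⟩ := Submodule.mem_span_singleton.mp hb
        obtain ⟨c', hc'⟩ := heig f hf i y₀
        rw [map_add, map_smul, hc']
        exact add_mem (Submodule.mem_sup_left (hWF f hf a ha))
          (Submodule.mem_sup_right (Submodule.smul_mem _ _ (Submodule.smul_mem _ _ (Submodule.mem_span_singleton_self _)))))
      (fun u hu v hv => by
        obtain ⟨a, ha, b, hb, rfl⟩ := Submodule.mem_sup.mp hu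
        obtain ⟨c, rfl⟩ := Submodule.mem_span_singleton.mp hb
        obtain ⟨a', ha', b', hb', rfl⟩ := Submodule.mem_sup.mp hv
        obtain ⟨c', rfl⟩ := Submodule.mem_span_singleton.mp hb'
        have h1 : e a (ε i y₀) = 0 := hyo a ha
        have h2 : e (ε i y₀) a' = 0 := hrefl _ _ (hyo a' ha')
        simp [hWiso a ha a' ha', h1, h2, he (ε i y₀)])
    exact hi (hLiso _ (hle (Submodule.mem_sup_right (Submodule.mem_span_singleton_self _))) _
      (hmax L hLF hLiso hLg d hd w (hle (Submodule.mem_sup_left hw))))
  · obtain ⟨L, hle, hLF, hLiso, hLg⟩ := hmaximal W hWF hWiso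
    exact hxo fun v hv => hLiso v (hle hv) x (hmax L hLF hLiso hLg d hd w (hle hw))


end Groth.Agent.S18545
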