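import Groth.Statements.S18546
import Groth.Agent.GalCohMisc.SymExt

set_option autoImplicit false
open scoped TensorProduct
universe u v
open GalCoh

namespace Groth.Agent.S18546

/-- Let G be a group acting linearly on a vector space V of dimension 2 over the field 𝔽₂ with two
elements. Then the short exact sequence of G-modules 0 → V → S²V → Λ²V → 0 (v ↦ v·v, x·y ↦ x ∧ y)
splits G-equivariantly. Here, for a vector space V over the field with two elements carrying a
linear action ρ of a group G, write N_a ⊆ V ⊗ V for the span of the tensors v ⊗ v and N_s ⊆ N_a for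
the span of the tensors x ⊗ y + y ⊗ x, so that S²V = (V ⊗ V)/N_s, Λ²V = (V ⊗ V)/N_a and the
surjection S²V → Λ²V, x·y ↦ x ∧ y, is G-equivariant for the diagonal action; a G-equivariant linear
section of this surjection is the same thing as a G-stable subspace W of V ⊗ V with W ∩ N_a = N_s
and W + N_a = V ⊗ V, which is how the splitting is stated. (The source has the absolute Galois group
of a field acting continuously; any group is allowed here.) -/
theorem result (G : Type u) [Group G] (V : Type v)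
    [AddCommGroup V] [Module (ZMod 2) V] (hV : Module.finrank (ZMod 2) V = 2)
    (ρ : Representation (ZMod 2) G V) :
    ∃ W : Submodule (ZMod 2) (V ⊗[ZMod 2] V),
      (∀ g : G, ∀ w ∈ W, ρ.tprod ρ g w ∈ W) ∧
      W ⊓ Submodule.span (ZMod 2) (Set.range fun v : V => v ⊗ₜ[ZMod 2] v) =
        Submodule.span (ZMod 2) (Set.range fun p : V × V => p.1 ⊗ₜ[ZMod 2] p.2 + p.2 ⊗ₜ[ZMod 2] p.1) ∧
      W ⊔ Submodule.span (ZMod 2) (Set.range fun v : V => v ⊗ₜ[ZMod 2] v) = ⊤ := by
  classical
  have : FiniteDimensional (ZMod 2) V := Module.finite_of_finrank_eq_succ hV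
  let B : Module.Basis (Fin 2) (ZMod 2) V := Module.finBasisOfFinrankEq (ZMod 2) V hV
  let x : V ⊗[ZMod 2] V := Groth.Agent.GalCohMisc.qTensor (B 0) (B 1)
  let L : V ⊗[ZMod 2] V →ₗ[ZMod 2] ZMod 2 :=
    TensorProduct.lift (LinearMap.mk₂ (ZMod 2)
      (fun v w => B.repr v 0 * B.repr w 1 + B.repr v 1 * B.repr w 0)
      (fun _ _ _ => by simp; ring) (fun _ _ _ => by simp; ring)
      (fun _ _ _ => by simp; ring) (fun _ _ _ => by simp; ring))
  have h2 : ∀ c : ZMod 2, c + c = 0 := by decide
  have hL : ∀ z ∈ Groth.Agent.GalCohMisc.symSq V, L z = 0 := fun z hz => by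
    induction hz using Submodule.span_induction with
    | mem y hy =>
      obtain ⟨w, rfl⟩ := hy
      simp [L, mul_comm (B.repr w 1), h2]
    | zero => simp
    | add a b _ _ iha ihb => rw [map_add, iha, ihb, add_zero]
    | smul c a _ ih => rw [map_smul, ih, smul_zero]
  have hL1 : L (B 0 ⊗ₜ B 1) = 1 := by simp [L]
  have huv : B 0 ⊗ₜ[ZMod 2] B 1 ∉ Groth.Agent.GalCohMisc.symSq V := fun h => by
    simpa [hL1] using hL _ h
  have hspan : ∀ v : V, v ∈ Submodule.span (ZMod 2) {B 0, B 1} := fun v => by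
    rw [← B.sum_repr v, Fin.sum_univ_two]
    exact Submodule.mem_span_pair.2 ⟨_, _, rfl⟩
  have hxL : L x = 1 := by
    have := hL _ (Groth.Agent.GalCohMisc.qTensor_sub_mem_symSq (B 0) (B 1))
    rwa [map_sub, hL1, sub_eq_zero] at this
  refine ⟨Groth.Agent.GalCohMisc.normSq V ⊔ Submodule.span (ZMod 2) {x}, ?_, ?_, ?_⟩
  · intro g w hw
    obtain ⟨a, ha, b, hb, rfl⟩ := Submodule.mem_sup.1 hw
    obtain ⟨c, rfl⟩ := Submodule.mem_span_singleton.1 hb
    rw [map_add, map_smul]
    refine add_mem (Submodule.mem_sup_left (Groth.Agent.GalCohMisc.tprod_normSq ρ g ha))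
      (Submodule.smul_mem _ _ ?_)
    rw [← sub_add_cancel (ρ.tprod ρ g x) x]
    exact add_mem (Submodule.mem_sup_left
      (Groth.Agent.GalCohMisc.tprod_qTensor_sub_mem ρ g huv (hspan _) (hspan _)))
      (Submodule.mem_sup_right (Submodule.mem_span_singleton_self x))
  · refine le_antisymm ?_ (le_inf le_sup_left Groth.Agent.GalCohMisc.normSq_le_symSq)
    rintro w ⟨hw, hw'⟩
    obtain ⟨a, ha, b, hb, rfl⟩ := Submodule.mem_sup.1 hw
    obtain ⟨c, rfl⟩ := Submodule.mem_span_singleton.1 hb
    have := hL _ hw'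
    rw [map_add, map_smul, hL _ (Groth.Agent.GalCohMisc.normSq_le_symSq ha), hxL, zero_add,
      smul_eq_mul, mul_one] at this
    rw [this, zero_smul, add_zero]
    exact ha
  · rw [eq_top_iff, ← (B.tensorProduct B).span_eq, Submodule.span_le]
    rintro _ ⟨⟨i, j⟩, rfl⟩
    rw [Module.Basis.tensorProduct_apply, SetLike.mem_coe]
    have h01 : B 0 ⊗ₜ[ZMod 2] B 1 ∈
        (Groth.Agent.GalCohMisc.normSq V ⊔ Submodule.span (ZMod 2) {x}) ⊔
          Groth.Agent.GalCohMisc.symSq V := by
      rw [← sub_sub_cancel x (B 0 ⊗ₜ[ZMod 2] B 1)]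
      exact sub_mem (Submodule.mem_sup_left (Submodule.mem_sup_right
        (Submodule.mem_span_singleton_self x)))
        (Submodule.mem_sup_right (Groth.Agent.GalCohMisc.qTensor_sub_mem_symSq _ _))
    fin_cases i <;> fin_cases j
    · exact Submodule.mem_sup_right (Groth.Agent.GalCohMisc.self_mem_symSq _)
    · exact h01
    · change B 1 ⊗ₜ[ZMod 2] B 0 ∈ _
      rw [← add_sub_cancel_left (B 0 ⊗ₜ[ZMod 2] B 1) (B 1 ⊗ₜ[ZMod 2] B 0)]
      exact sub_mem (Submodule.mem_sup_left (Submodule.mem_sup_left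
        (Groth.Agent.GalCohMisc.mem_normSq _ _))) h01
    · exact Submodule.mem_sup_right (Groth.Agent.GalCohMisc.self_mem_symSq _)

end Groth.Agent.S18546
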