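import Groth.Statements.S18547
import Groth.Agent.GalCohMisc.SymExt

set_option autoImplicit false
open scoped TensorProduct
universe u v
open GalCoh

namespace Groth.Agent.S18547

/-- Let G be a group acting linearly on a vector space V of dimension 3 over the field 𝔽₂ with two
elements. Then the connecting map (Λ²V)^G → H¹(G, V) of the short exact sequence of G-modules 0 → V
→ S²V → Λ²V → 0 (v ↦ v·v, x·y ↦ x ∧ y) is zero; equivalently, every G-invariant element of Λ²V is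
the image of a G-invariant element of S²V. Here N_a ⊆ V ⊗ V is the span of the tensors v ⊗ v and N_s
⊆ N_a the span of the tensors x ⊗ y + y ⊗ x, so that S²V = (V ⊗ V)/N_s and Λ²V = (V ⊗ V)/N_a with
the diagonal action of G, and the statement reads: a tensor t whose class modulo N_a is G-invariant
is congruent modulo N_a to a tensor whose class modulo N_s is G-invariant. (The source writes the
rank hypothesis on the lattice M with V = M/2M, which has the same rank, and has the absolute Galois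
group of a field acting; any group is allowed here.) -/
theorem result (G : Type u) [Group G] (V : Type v)
    [AddCommGroup V] [Module (ZMod 2) V] (hV : Module.finrank (ZMod 2) V = 3)
    (ρ : Representation (ZMod 2) G V) (t : V ⊗[ZMod 2] V)
    (ht : ∀ g : G, ρ.tprod ρ g t - t ∈ Submodule.span (ZMod 2) (Set.range fun v : V => v ⊗ₜ[ZMod 2] v)) :
    ∃ t' : V ⊗[ZMod 2] V, t' - t ∈ Submodule.span (ZMod 2) (Set.range fun v : V => v ⊗ₜ[ZMod 2] v) ∧
      ∀ g : G, ρ.tprod ρ g t' - t' ∈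
        Submodule.span (ZMod 2) (Set.range fun p : V × V => p.1 ⊗ₜ[ZMod 2] p.2 + p.2 ⊗ₜ[ZMod 2] p.1) := by
  classical
  have : FiniteDimensional (ZMod 2) V := Module.finite_of_finrank_eq_succ hV
  let B : Module.Basis (Fin 3) (ZMod 2) V := Module.finBasisOfFinrankEq (ZMod 2) V hV
  let S := Groth.Agent.GalCohMisc.symSq V
  have hswap : ∀ a b : V, a ⊗ₜ[ZMod 2] b + b ⊗ₜ[ZMod 2] a ∈ S := fun a b =>
    Groth.Agent.GalCohMisc.normSq_le_symSq (Groth.Agent.GalCohMisc.mem_normSq a b)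
  -- modulo squares every tensor is a pure tensor
  have hpure : ∀ z : V ⊗[ZMod 2] V, ∃ x y w : ZMod 2, z - (x • B 0 ⊗ₜ[ZMod 2] B 1
      + y • B 0 ⊗ₜ[ZMod 2] B 2 + w • B 1 ⊗ₜ[ZMod 2] B 2) ∈ S := by
    intro z
    let c := fun i j => (B.tensorProduct B).repr z (i, j)
    have e : z = ∑ i, ∑ j, c i j • B i ⊗ₜ[ZMod 2] B j := by
      conv_lhs => rw [← (B.tensorProduct B).sum_repr z, Fintype.sum_prod_type]
      simp only [Module.Basis.tensorProduct_apply, c]
    refine ⟨c 0 1 - c 1 0, c 0 2 - c 2 0, c 1 2 - c 2 1, ?_⟩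
    have e2 : z - ((c 0 1 - c 1 0) • B 0 ⊗ₜ[ZMod 2] B 1 + (c 0 2 - c 2 0) • B 0 ⊗ₜ[ZMod 2] B 2
        + (c 1 2 - c 2 1) • B 1 ⊗ₜ[ZMod 2] B 2) =
        c 0 0 • B 0 ⊗ₜ[ZMod 2] B 0 + c 1 1 • B 1 ⊗ₜ[ZMod 2] B 1 + c 2 2 • B 2 ⊗ₜ[ZMod 2] B 2 +
        c 1 0 • (B 0 ⊗ₜ[ZMod 2] B 1 + B 1 ⊗ₜ[ZMod 2] B 0) +
        c 2 0 • (B 0 ⊗ₜ[ZMod 2] B 2 + B 2 ⊗ₜ[ZMod 2] B 0) +
        c 2 1 • (B 1 ⊗ₜ[ZMod 2] B 2 + B 2 ⊗ₜ[ZMod 2] B 1) := by
      conv_lhs => rw [e]
      simp only [Fin.sum_univ_three]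
      module
    rw [e2]
    have hd : ∀ a : V, a ⊗ₜ[ZMod 2] a ∈ S := Groth.Agent.GalCohMisc.self_mem_symSq
    exact add_mem (add_mem (add_mem (add_mem (add_mem (Submodule.smul_mem _ _ (hd _))
      (Submodule.smul_mem _ _ (hd _))) (Submodule.smul_mem _ _ (hd _)))
      (Submodule.smul_mem _ _ (hswap _ _))) (Submodule.smul_mem _ _ (hswap _ _)))
      (Submodule.smul_mem _ _ (hswap _ _))
  have huv : ∃ u v : V, t - u ⊗ₜ[ZMod 2] v ∈ S := by
    obtain ⟨x, y, w, h⟩ := hpure t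
    have hz : ∀ a : ZMod 2, a = 0 ∨ a = 1 := by decide
    rcases hz x with rfl | rfl
    · exact ⟨y • B 0 + w • B 1, B 2, by
        simpa [TensorProduct.add_tmul, ← TensorProduct.smul_tmul'] using h⟩
    rcases hz w with rfl | rfl
    · exact ⟨B 0, B 1 + y • B 2, by simpa [TensorProduct.tmul_add] using h⟩
    rcases hz y with rfl | rfl
    · refine ⟨B 0 + B 2, B 1, ?_⟩
      have h' := sub_mem h (hswap (B 2) (B 1))
      convert add_mem h' (Submodule.smul_mem S (2 : ZMod 2) (zero_mem S)) using 1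
      have e22 : ∀ a : V ⊗[ZMod 2] V, a + a = 0 := fun a => by
        rw [← two_smul (ZMod 2) a, show (2 : ZMod 2) = 0 from rfl, zero_smul]
      rw [TensorProduct.add_tmul, smul_zero, add_zero, one_smul, one_smul, zero_smul, add_zero]
      linear_combination (norm := module) e22 (B 1 ⊗ₜ[ZMod 2] B 2)
    · refine ⟨B 0 + B 1, B 1 + B 2, ?_⟩
      convert sub_mem h (Groth.Agent.GalCohMisc.self_mem_symSq (B 1)) using 1
      simp only [TensorProduct.add_tmul, TensorProduct.tmul_add, one_smul]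
      abel
  obtain ⟨u, v, huv⟩ := huv
  by_cases hS : u ⊗ₜ[ZMod 2] v ∈ S
  · exact ⟨0, by rw [zero_sub]; exact neg_mem (by simpa using add_mem huv hS),
      fun g => by simp⟩
  · refine ⟨Groth.Agent.GalCohMisc.qTensor u v, ?_, fun g => ?_⟩
    · rw [← sub_add_sub_cancel _ (u ⊗ₜ[ZMod 2] v) t]
      exact add_mem (Groth.Agent.GalCohMisc.qTensor_sub_mem_symSq u v)
        (by simpa using neg_mem huv)
    · have hg : ρ.tprod ρ g (u ⊗ₜ v) - u ⊗ₜ v ∈ S := by
        have h1 := Groth.Agent.GalCohMisc.tprod_symSq ρ g huv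
        rw [map_sub] at h1
        have e : ρ.tprod ρ g (u ⊗ₜ v) - u ⊗ₜ v =
            (ρ.tprod ρ g t - t) - (ρ.tprod ρ g t - ρ.tprod ρ g (u ⊗ₜ v)) + (t - u ⊗ₜ v) := by abel
        rw [e]
        exact add_mem (sub_mem (ht g) h1) huv
      obtain ⟨h1, h2⟩ := Groth.Agent.GalCohMisc.map_mem_span_pair ρ g hS hg
      exact Groth.Agent.GalCohMisc.tprod_qTensor_sub_mem ρ g hS h1 h2

end Groth.Agent.S18547
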