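import Groth.Statements.S18548
import Groth.Agent.GalCohMisc.SymExt

set_option autoImplicit false
open scoped TensorProduct
universe u v w
open GalCoh

namespace Groth.Agent.S18548

/-- Let G be a group acting linearly on a vector space V over the field 𝔽₂ with two elements, and
suppose V is a permutation module: G permutes the vectors of some basis of V. Then the short exact
sequence of G-modules 0 → V → S²V → Λ²V → 0 (v ↦ v·v, x·y ↦ x ∧ y) splits G-equivariantly. Here, for
a vector space V over the field with two elements carrying a linear action ρ of a group G, write N_a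
⊆ V ⊗ V for the span of the tensors v ⊗ v and N_s ⊆ N_a for the span of the tensors x ⊗ y + y ⊗ x,
so that S²V = (V ⊗ V)/N_s, Λ²V = (V ⊗ V)/N_a and the surjection S²V → Λ²V, x·y ↦ x ∧ y, is
G-equivariant for the diagonal action; a G-equivariant linear section of this surjection is the same
thing as a G-stable subspace W of V ⊗ V with W ∩ N_a = N_s and W + N_a = V ⊗ V, which is how the
splitting is stated. (The source has the absolute Galois group of a field acting continuously; any
group and any basis index set are allowed here.) -/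
theorem result (G : Type u) [Group G] (V : Type v)
    [AddCommGroup V] [Module (ZMod 2) V] (ρ : Representation (ZMod 2) G V)
    (ι : Type w) (b : Module.Basis ι (ZMod 2) V) (hb : ∀ g : G, ∀ i : ι, ∃ j : ι, ρ g (b i) = b j) :
    ∃ W : Submodule (ZMod 2) (V ⊗[ZMod 2] V),
      (∀ g : G, ∀ w ∈ W, ρ.tprod ρ g w ∈ W) ∧
      W ⊓ Submodule.span (ZMod 2) (Set.range fun v : V => v ⊗ₜ[ZMod 2] v) =
        Submodule.span (ZMod 2) (Set.range fun p : V × V => p.1 ⊗ₜ[ZMod 2] p.2 + p.2 ⊗ₜ[ZMod 2] p.1) ∧
      W ⊔ Submodule.span (ZMod 2) (Set.range fun v : V => v ⊗ₜ[ZMod 2] v) = ⊤ := by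
  classical
  letI : LinearOrder ι := linearOrderOfSTO WellOrderingRel
  let T := b.tensorProduct b
  let W : Submodule (ZMod 2) (V ⊗[ZMod 2] V) :=
    Submodule.span (ZMod 2) ((fun p : ι × ι => b p.1 ⊗ₜ[ZMod 2] b p.2) '' {p | p.1 ≠ p.2})
  have h2 : ∀ z : V ⊗[ZMod 2] V, z + z = 0 := fun z => by
    rw [← two_smul (ZMod 2) z, show (2 : ZMod 2) = 0 from rfl, zero_smul]
  let P : V ⊗[ZMod 2] V →ₗ[ZMod 2] V ⊗[ZMod 2] V := T.constr (ZMod 2) fun p =>
    if p.1 < p.2 then b p.1 ⊗ₜ[ZMod 2] b p.2 + b p.2 ⊗ₜ[ZMod 2] b p.1 else 0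
  let D : V ⊗[ZMod 2] V →ₗ[ZMod 2] V ⊗[ZMod 2] V := T.constr (ZMod 2) fun p =>
    if p.1 = p.2 then b p.1 ⊗ₜ[ZMod 2] b p.2 else 0
  let F := P + D - LinearMap.id
  have hP : ∀ i j, P (b i ⊗ₜ b j) =
      if i < j then b i ⊗ₜ[ZMod 2] b j + b j ⊗ₜ[ZMod 2] b i else 0 := fun i j => by
    rw [show b i ⊗ₜ[ZMod 2] b j = T (i, j) by rw [Module.Basis.tensorProduct_apply]]
    exact (T.constr_basis (ZMod 2) _ (i, j)).trans (by simp [T, Module.Basis.tensorProduct_apply])
  have hD : ∀ i j, D (b i ⊗ₜ b j) = if i = j then b i ⊗ₜ[ZMod 2] b j else 0 := fun i j => by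
    rw [show b i ⊗ₜ[ZMod 2] b j = T (i, j) by rw [Module.Basis.tensorProduct_apply]]
    exact (T.constr_basis (ZMod 2) _ (i, j)).trans (by simp [T, Module.Basis.tensorProduct_apply])
  have hF0 : ∀ i j, F (b i ⊗ₜ b j + b j ⊗ₜ b i) = 0 := fun i j => by
    simp only [F, map_add, LinearMap.sub_apply, LinearMap.add_apply, LinearMap.id_apply, hP, hD]
    rcases lt_trichotomy i j with h | rfl | h
    · simp [h, h.ne, h.ne', h.not_gt]
    · simp [h2]
    · simp [h, h.ne, h.ne', h.not_gt]
  let Fc : V →ₗ[ZMod 2] V →ₗ[ZMod 2] V ⊗[ZMod 2] V := (TensorProduct.mk (ZMod 2) V V).compr₂ F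
  have hF1 : Fc + Fc.flip = 0 := b.ext fun i => b.ext fun j => by
    simpa [Fc] using hF0 i j
  have hFsq : ∀ v : V, F (v ⊗ₜ v) = 0 := fun v => by
    have hv : v ∈ Submodule.span (ZMod 2) (Set.range b) := b.span_eq ▸ trivial
    induction hv using Submodule.span_induction with
    | mem x hx =>
      obtain ⟨i, rfl⟩ := hx
      simp only [F, LinearMap.sub_apply, LinearMap.add_apply, LinearMap.id_apply, hP, hD,
        if_neg (lt_irrefl i), if_true, zero_add, sub_self]
    | zero => simp
    | add x y _ _ ihx ihy =>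
      have := LinearMap.congr_fun₂ hF1 x y
      simp only [Fc, LinearMap.add_apply, LinearMap.flip_apply, LinearMap.compr₂_apply,
        TensorProduct.mk_apply, LinearMap.zero_apply] at this
      simp only [TensorProduct.add_tmul, TensorProduct.tmul_add, map_add, ihx, ihy]
      simpa [add_comm] using this
    | smul c x _ ih => simp [← TensorProduct.smul_tmul', ih]
  have hAW : Groth.Agent.GalCohMisc.normSq V ≤ W := by
    rw [Submodule.span_le]
    rintro _ ⟨⟨x, y⟩, rfl⟩
    let M : V →ₗ[ZMod 2] V →ₗ[ZMod 2] V ⊗[ZMod 2] V :=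
      TensorProduct.mk (ZMod 2) V V + (TensorProduct.mk (ZMod 2) V V).flip
    have key : (M.compr₂ W.mkQ) = 0 := b.ext fun i => b.ext fun j => by
      suffices b i ⊗ₜ[ZMod 2] b j + b j ⊗ₜ[ZMod 2] b i ∈ W by
        simpa [M, ← Submodule.Quotient.mk_add, Submodule.Quotient.mk_eq_zero] using this
      rcases eq_or_ne i j with rfl | h
      · rw [h2]; exact zero_mem _
      · exact add_mem (Submodule.subset_span ⟨(i, j), h, rfl⟩)
          (Submodule.subset_span ⟨(j, i), h.symm, rfl⟩)
    simpa [M, ← Submodule.Quotient.mk_add, Submodule.Quotient.mk_eq_zero] using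
      LinearMap.congr_fun₂ key x y
  refine ⟨W, ?_, ?_, ?_⟩
  · intro g w hw
    induction hw using Submodule.span_induction with
    | mem x hx =>
      obtain ⟨⟨i, j⟩, hij, rfl⟩ := hx
      obtain ⟨i', hi⟩ := hb g i
      obtain ⟨j', hj⟩ := hb g j
      refine Submodule.subset_span ⟨(i', j'), fun h : i' = j' => hij ?_, by simp [hi, hj]⟩
      apply b.injective
      have := congrArg (ρ g⁻¹) (hi.trans ((congrArg b h).trans hj.symm))
      simpa only [← Module.End.mul_apply, ← map_mul, inv_mul_cancel, map_one,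
        Module.End.one_apply] using this
    | zero => simp
    | add x y _ _ ihx ihy => rw [map_add]; exact add_mem ihx ihy
    | smul c x _ ih => rw [map_smul]; exact Submodule.smul_mem _ _ ih
  · refine le_antisymm ?_ (le_inf hAW Groth.Agent.GalCohMisc.normSq_le_symSq)
    rintro z ⟨hz, hz'⟩
    have hD0 : D z = 0 := by
      refine LinearMap.mem_ker.1 ((Submodule.span_le (p := LinearMap.ker D)).2 ?_ hz)
      rintro _ ⟨⟨i, j⟩, hij, rfl⟩
      exact LinearMap.mem_ker.2 ((hD i j).trans (if_neg hij))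
    have hF : F z = 0 := by
      refine LinearMap.mem_ker.1 ((Submodule.span_le (p := LinearMap.ker F)).2 ?_ hz')
      rintro _ ⟨v, rfl⟩
      exact LinearMap.mem_ker.2 (hFsq v)
    have hz2 : P z = z := by
      simpa [F, hD0, sub_eq_zero] using hF
    rw [← hz2]
    have hz3 : z ∈ Submodule.span (ZMod 2) (Set.range T) := T.span_eq ▸ trivial
    refine (Submodule.span_le (p := (Groth.Agent.GalCohMisc.normSq V).comap P)).2 ?_ hz3
    rintro _ ⟨⟨i, j⟩, rfl⟩
    simp only [T, Module.Basis.tensorProduct_apply, SetLike.mem_coe, Submodule.mem_comap, hP]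
    split_ifs
    · exact Groth.Agent.GalCohMisc.mem_normSq _ _
    · exact zero_mem _
  · rw [eq_top_iff, ← T.span_eq, Submodule.span_le]
    rintro _ ⟨⟨i, j⟩, rfl⟩
    simp only [T, Module.Basis.tensorProduct_apply, SetLike.mem_coe]
    rcases eq_or_ne i j with rfl | h
    · exact Submodule.mem_sup_right (Groth.Agent.GalCohMisc.self_mem_symSq _)
    · exact Submodule.mem_sup_left (Submodule.subset_span ⟨(i, j), h, rfl⟩)

end Groth.Agent.S18548
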