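import Groth.Statements.S18549
import Groth.Agent.S18548

set_option autoImplicit false
open scoped TensorProduct
universe u v
open GalCoh

namespace Groth.Agent.S18549

/-- Over the real numbers, that is for the group G = Gal(ℂ/ℝ) of order 2 acting linearly on a
finite-dimensional vector space V over the field 𝔽₂ with two elements, the short exact sequence of
G-modules 0 → V → S²V → Λ²V → 0 (v ↦ v·v, x·y ↦ x ∧ y) splits G-equivariantly. Here, for a vector
space V over the field with two elements carrying a linear action ρ of a group G, write N_a ⊆ V ⊗ V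
for the span of the tensors v ⊗ v and N_s ⊆ N_a for the span of the tensors x ⊗ y + y ⊗ x, so that
S²V = (V ⊗ V)/N_s, Λ²V = (V ⊗ V)/N_a and the surjection S²V → Λ²V, x·y ↦ x ∧ y, is G-equivariant for
the diagonal action; a G-equivariant linear section of this surjection is the same thing as a
G-stable subspace W of V ⊗ V with W ∩ N_a = N_s and W + N_a = V ⊗ V, which is how the splitting is
stated. (G is any group of order 2 here; V is taken finite-dimensional, the case covered by the
structure theory of finitely generated modules over 𝔽₂[G] that the argument uses.) -/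
theorem result (G : Type u) [Group G] (hG : Nat.card G = 2)
    (V : Type v) [AddCommGroup V] [Module (ZMod 2) V] [Module.Finite (ZMod 2) V]
    (ρ : Representation (ZMod 2) G V) :
    ∃ W : Submodule (ZMod 2) (V ⊗[ZMod 2] V),
      (∀ g : G, ∀ w ∈ W, ρ.tprod ρ g w ∈ W) ∧
      W ⊓ Submodule.span (ZMod 2) (Set.range fun v : V => v ⊗ₜ[ZMod 2] v) =
        Submodule.span (ZMod 2) (Set.range fun p : V × V => p.1 ⊗ₜ[ZMod 2] p.2 + p.2 ⊗ₜ[ZMod 2] p.1) ∧
      W ⊔ Submodule.span (ZMod 2) (Set.range fun v : V => v ⊗ₜ[ZMod 2] v) = ⊤ := by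
  classical
  have : Finite G := Nat.finite_of_card_ne_zero (by omega)
  obtain ⟨σ, hσ⟩ : ∃ σ : G, σ ≠ 1 := by
    have : Nontrivial G := Finite.one_lt_card_iff_nontrivial.1 (by omega)
    exact exists_ne 1
  have hall : ∀ g : G, g = 1 ∨ g = σ := fun g => by
    by_contra! hg
    have : Fintype G := Fintype.ofFinite G
    have h3 : ({1, σ, g} : Finset G).card = 3 := by
      rw [Finset.card_insert_of_notMem (by simp [hσ.symm, hg.1.symm]), Finset.card_pair hg.2.symm]
    have := Finset.card_le_univ ({1, σ, g} : Finset G)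
    rw [h3, ← Nat.card_eq_fintype_card, hG] at this
    omega
  have hσ2 : σ * σ = 1 := by
    rcases hall (σ * σ) with h | h
    · exact h
    · exact absurd (mul_left_cancel (h.trans (mul_one σ).symm)) hσ
  have h2 : ∀ v : V, v + v = 0 := fun v => by
    rw [← two_smul (ZMod 2) v, show (2 : ZMod 2) = 0 from rfl, zero_smul]
  let S : V →ₗ[ZMod 2] V := ρ σ
  have hS : ∀ v, S (S v) = v := fun v => by
    simp only [S, ← Module.End.mul_apply, ← map_mul, hσ2, map_one, Module.End.one_apply]
  let N : V →ₗ[ZMod 2] V := S + LinearMap.id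
  have hN : ∀ v, N v = S v + v := fun v => rfl
  have hNN : ∀ v, N (N v) = 0 := fun v => by
    rw [hN, hN, map_add, hS, add_comm v (S v)]
    exact h2 _
  have hSN : ∀ v, S v = N v + v := fun v => by rw [hN, add_assoc, h2, add_zero]
  let R : Submodule (ZMod 2) (LinearMap.ker N) :=
    Submodule.comap (LinearMap.ker N).subtype (LinearMap.range N)
  obtain ⟨U, hU⟩ := Submodule.exists_isCompl (LinearMap.ker N)
  obtain ⟨C, hC⟩ := Submodule.exists_isCompl R
  let Ψ : (U × U) × C →ₗ[ZMod 2] V :=
    LinearMap.coprod (LinearMap.coprod U.subtype (S.comp U.subtype))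
      ((LinearMap.ker N).subtype.comp C.subtype)
  have hΨ : ∀ p : (U × U) × C, Ψ p = (p.1.1 : V) + S (p.1.2 : V) + ((p.2 : LinearMap.ker N) : V) :=
    fun p => rfl
  have hinj : Function.Injective Ψ := by
    rw [injective_iff_map_eq_zero]
    rintro ⟨⟨x, y⟩, c⟩ h
    rw [hΨ] at h
    have h1 : N ((x : V) + (y : V)) = 0 := by
      have h' := congrArg N h
      rw [map_add, map_add, map_zero, LinearMap.mem_ker.1 (c : LinearMap.ker N).2, add_zero,
        hSN (y : V), map_add, hNN, zero_add] at h'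
      rw [map_add]
      exact h'
    have hxy : (x : V) + (y : V) = 0 :=
      Submodule.disjoint_def.1 hU.disjoint _ (LinearMap.mem_ker.2 h1) (add_mem x.2 y.2)
    have h3 : ((c : LinearMap.ker N) : V) = N y := by
      have e : ((c : LinearMap.ker N) : V) + N y = 0 := by
        rw [← h, hSN (y : V)]
        linear_combination (norm := abel) (-1 : ℤ) • hxy
      rw [← add_zero ((c : LinearMap.ker N) : V), ← h2 (N (y : V)), ← add_assoc, e, zero_add]
    have hc : (c : LinearMap.ker N) = 0 :=
      Submodule.disjoint_def.1 hC.disjoint _ ⟨(y : V), h3.symm⟩ c.2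
    have hy : (y : V) = 0 := Submodule.disjoint_def.1 hU.disjoint _
      (LinearMap.mem_ker.2 (h3.symm.trans (by rw [hc]; rfl))) y.2
    have hx : (x : V) = 0 := by rwa [hy, add_zero] at hxy
    simp only [Prod.mk_eq_zero]
    exact ⟨⟨Subtype.ext hx, Subtype.ext hy⟩, Subtype.ext hc⟩
  have hsurj : Function.Surjective Ψ := by
    intro v
    obtain ⟨k, hk, u₀, hu₀, rfl⟩ := Submodule.mem_sup.1 (hU.sup_eq_top ▸ Submodule.mem_top (x := v))
    obtain ⟨r, ⟨w, hw⟩, c, hc, hrc⟩ :=
      Submodule.mem_sup.1 (hC.sup_eq_top ▸ Submodule.mem_top (x := (⟨k, hk⟩ : LinearMap.ker N)))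
    obtain ⟨k₁, hk₁, u₁, hu₁, rfl⟩ := Submodule.mem_sup.1 (hU.sup_eq_top ▸ Submodule.mem_top (x := w))
    rw [map_add, LinearMap.mem_ker.1 hk₁, zero_add] at hw
    refine ⟨((⟨u₀ + u₁, add_mem hu₀ hu₁⟩, ⟨u₁, hu₁⟩), ⟨c, hc⟩), ?_⟩
    have hk' : k = (r : V) + (c : V) := (congrArg Subtype.val hrc).symm
    rw [hΨ, hk', hSN u₁]
    change u₀ + u₁ + (N u₁ + u₁) + (c : V) = _
    rw [hw]
    simp only [Submodule.subtype_apply]
    linear_combination (norm := abel) h2 u₁
  let e := LinearEquiv.ofBijective Ψ ⟨hinj, hsurj⟩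
  let bU := Module.Basis.ofVectorSpace (ZMod 2) U
  let bC := Module.Basis.ofVectorSpace (ZMod 2) C
  let b := ((bU.prod bU).prod bC).map e
  refine Groth.Agent.S18548.result G V ρ _ b fun g i => ?_
  rcases hall g with rfl | rfl
  · exact ⟨i, by simp⟩
  change ∃ j, S (b i) = b j
  have hb : ∀ i, b i = Ψ (((bU.prod bU).prod bC) i) := fun i => rfl
  rcases i with (i | i) | i
  · refine ⟨Sum.inl (Sum.inr i), ?_⟩
    simp [hb, hΨ, Module.Basis.prod_apply]
  · refine ⟨Sum.inl (Sum.inl i), ?_⟩
    simp [hb, hΨ, Module.Basis.prod_apply, hS]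
  · refine ⟨Sum.inr i, ?_⟩
    simp [hb, hΨ, Module.Basis.prod_apply]
    rw [hSN, LinearMap.mem_ker.1 (bC i : LinearMap.ker N).2, zero_add]

end Groth.Agent.S18549
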