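import Groth.Statements.S18550
import Groth.Agent.H9Misc.TFactor

set_option autoImplicit false
open CategoryTheory Limits
universe w v u
open CohDer

namespace Groth.Agent.S18550

/-- Let A be an abelian category, X an object of its derived category whose cohomology objects H^i(X)
are zero for all integers i outside the interval [a, a + n], and f : X → X an endomorphism in the
derived category such that H^i(f) = 0 for every i. Then f^(n+1) = 0. (The source works in the
bounded derived category; the statement in D(A) for an object with cohomology bounded in this way is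
the same assertion, the bounded derived category being a full subcategory.) -/
theorem result (A : Type u) [Category.{v} A] [Abelian A]
    [HasDerivedCategory.{w} A] (X : DerivedCategory A) (a : ℤ) (n : ℕ)
    (hX : ∀ i : ℤ, i < a ∨ a + n < i → IsZero ((DerivedCategory.homologyFunctor A i).obj X))
    (f : CategoryTheory.End X) (hf : ∀ i : ℤ, (DerivedCategory.homologyFunctor A i).map f = 0) :
    f ^ (n + 1) = 0 := by
  let t := DerivedCategory.TStructure.t (C := A)
  suffices key : ∀ k : ℕ, ∃ g : X ⟶ (t.truncLT (a + n + 1 - k)).obj X,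
      g ≫ (t.truncLTι (a + n + 1 - k)).app X = f ^ k by
    obtain ⟨g, hg⟩ := key (n + 1)
    have hge : X.IsGE a := (DerivedCategory.isGE_iff X a).2 fun i hi => hX i (Or.inl hi)
    have hz : IsZero ((t.truncLT (a + n + 1 - ((n + 1 : ℕ) : ℤ))).obj X) := by
      have : a + n + 1 - ((n + 1 : ℕ) : ℤ) = a := by push_cast; lia
      rw [this]
      exact t.isZero_truncLT_obj_of_isGE a X
    rw [← hg, hz.eq_of_tgt g 0, zero_comp]
  intro k
  induction k with
  | zero =>
    have hle : X.IsLE (a + n) := (DerivedCategory.isLE_iff X _).2 fun i hi => hX i (Or.inr hi)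
    have : IsIso ((t.truncLTι (a + n + 1 - ((0 : ℕ) : ℤ))).app X) :=
      (t.isLE_iff_isIso_truncLTι_app (a + n) _ (by simp) X).1 hle
    exact ⟨inv ((t.truncLTι (a + n + 1 - ((0 : ℕ) : ℤ))).app X), by rw [IsIso.inv_hom_id]; rfl⟩
  | succ k ih =>
    obtain ⟨g, hg⟩ := ih
    let m := a + n - k
    have : ((t.truncLT (a + n + 1 - k)).obj X).IsLE m := t.isLE_truncLT_obj _ _ _ (by lia)
    obtain ⟨g', hg'⟩ := Groth.Agent.H9Misc.exists_lift_truncLT m
      ((t.truncLTι (a + n + 1 - k)).app X ≫ f) (by rw [Functor.map_comp, hf, comp_zero])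
    have e : a + n + 1 - ((k + 1 : ℕ) : ℤ) = m := by simp only [m]; push_cast; lia
    rw [e]
    refine ⟨g ≫ g', ?_⟩
    rw [Category.assoc]
    erw [hg']
    rw [← Category.assoc, hg, pow_succ', CategoryTheory.End.mul_def]

end Groth.Agent.S18550
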