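import Groth.Statements.S18564
import Groth.Agent.ParShLib.GP

set_option autoImplicit false
universe u
open CategoryTheory CategoryTheory.Limits AlgebraicGeometry
open ParSh

namespace Groth.Agent.S18564

/-- Let Y be a smooth proper integral curve (integral, smooth and proper over k, of dimension one) over
an algebraically closed field k, D an effective Cartier divisor on Y with ideal I, and α a real
weight with 0 ≤ α < 1. A generalised parabolic structure on a finite locally free O_Y-module E is a
k-linear subspace F₁ of H⁰(Y, E ⊗ O_D); its parabolic degree in rank n is deg E + α·dim_k F₁ (deg E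
= χ(E) − n·χ(O_Y)); a homomorphism f : E → E' is parabolic when the induced k-linear map H⁰(E ⊗ O_D)
→ H⁰(E' ⊗ O_D) carries F₁ into F₁'; a submodule G → E gets the preimage structure and (E, F₁) is
semistable (stable) when deg(G, preimage) · n ≤ (<) deg(E, F₁) · r for every finite locally free
submodule G of rank r ≥ 1 (with r < n for stability). Let E and F be finite locally free of the same
rank n ≥ 1 with structures F₁ and F₁', and f : E → F a parabolic monomorphism (a monomorphism
between modules of equal rank, that is, a generic isomorphism). Then the parabolic degree of (E, F₁)
is at most that of (F, F₁'), and equality holds if and only if f is an isomorphism of O_Y-modules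
which, when α > 0, also maps F₁ onto F₁'. The published statement asks in the equality case for an
isomorphism of generalised parabolic bundles (an isomorphism of modules mapping F₁ onto F₁') at
every weight 0 ≤ α < 1; at α = 0 this fails, since the identity of O_Y, from the zero structure to
all of H⁰(O_D) with D a single point, has equal parabolic degrees on both sides without being one,
while the published proof shows only that the cokernel vanishes; so the condition on F₁ is asked
here only for α > 0. The published statement is also set on the normalisation of a singular curve
with D lying over its singular points; neither is used. -/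
theorem result (k : Type u) [Field k] [IsAlgClosed k] (X : Scheme.{u}) [X.Over (Spec (CommRingCat.of k))]
    [AlgebraicGeometry.IsIntegral X] [IsProper (X ↘ Spec (CommRingCat.of k))] [Smooth (X ↘ Spec (CommRingCat.of k))]
    (hdim : topologicalKrullDim X = 1)
    (I : X.IdealSheafData) (hD : FGA.IsEffCartier I) (α : ℝ) (hα0 : 0 ≤ α) (hα1 : α < 1)
    {E F : X.Modules} (n : ℕ) (hn : 0 < n) (hE : FlatMod.IsFinLocFreeOfRank n E) (hF : FlatMod.IsFinLocFreeOfRank n F)
    (F₁ : Submodule k (ParSh.fibD X I E)) (F₁' : Submodule k (ParSh.fibD X I F))
    (f : E ⟶ F) [Mono f] (hf : ParSh.IsGPHom k X I F₁ F₁' f) :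
    ParSh.gpDeg k X α E F₁ n ≤ ParSh.gpDeg k X α F F₁' n ∧
      (ParSh.gpDeg k X α E F₁ n = ParSh.gpDeg k X α F F₁' n ↔
        (IsIso f ∧ (0 < α → Submodule.map (ParSh.fibDMap k X I f) F₁ = F₁'))) := by
  exact ParShLib.gpDeg_le_of_mono k hdim I hD f hE hF α hα0 hα1 F₁ F₁' hf

end Groth.Agent.S18564
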