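import Groth.Statements.S18565
import Groth.Agent.ParShLib.GP
import Groth.Agent.CurveCohLib.Stable
import Groth.Agent.Lib.CurveSlope

set_option autoImplicit false
universe u
open CategoryTheory CategoryTheory.Limits AlgebraicGeometry
open ParSh

namespace Groth.Agent.S18565

theorem rankOfIso {X : Scheme.{u}} {M N : X.Modules} (φ : M ≅ N) {r : ℕ} (h : FlatMod.IsFinLocFreeOfRank r M) :
    FlatMod.IsFinLocFreeOfRank r N := fun x =>
  let ⟨U, hx, ⟨e⟩⟩ := h x
  ⟨U, hx, ⟨(Scheme.Modules.restrictFunctor U.ι).mapIso φ.symm ≪≫ e⟩⟩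

/-- A subbundle of maximal parabolic slope is saturated. -/
theorem exists_cokernel_finLocFree_of_max (k : Type u) [Field k] (X : Scheme.{u}) [X.Over (Spec (CommRingCat.of k))]
    [AlgebraicGeometry.IsIntegral X] [IsProper (X ↘ Spec (CommRingCat.of k))] [Smooth (X ↘ Spec (CommRingCat.of k))]
    (hdim : topologicalKrullDim X = 1)
    (I : X.IdealSheafData) (hD : FGA.IsEffCartier I) (α : ℝ) (hα0 : 0 ≤ α) (hα1 : α < 1)
    {G F : X.Modules} (i : G ⟶ F) [Mono i] (b m : ℕ) (hb : 0 < b) (hm : 0 < m)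
    (hG : FlatMod.IsFinLocFreeOfRank b G) (hF : FlatMod.IsFinLocFreeOfRank m F)
    (F₁' : Submodule k (ParSh.fibD X I F)) (hFss : ParSh.IsGPSemistable k X I α F₁' m)
    (hge : ParSh.gpDeg k X α F F₁' m * (b : ℝ) ≤ ParSh.gpDeg k X α G (ParSh.gpInduced k X I i F₁') b * (m : ℝ)) :
    ∃ r₀ : ℕ, FlatMod.IsFinLocFreeOfRank r₀ (cokernel i) := by
  haveI : IsLocallyNoetherian X := LocallyOfFiniteType.isLocallyNoetherian (X ↘ Spec (CommRingCat.of k))
  have hF' := (ConsPropLib.isFinLocFreeOfRank_iff.1 hF).1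
  have hFc : Coh.IsCoh F := CurveDeg.isCoh_of_isFinLocFree hF'
  have hGc : Coh.IsCoh G := CurveDeg.isCoh_of_isFinLocFree (ConsPropLib.isFinLocFreeOfRank_iff.1 hG).1
  have hQ : Coh.IsCoh (cokernel i) := QCoh.isCoh_cokernel hGc.1 hFc i
  by_contra hne
  have hne' : ¬ FlatMod.IsFinLocFree (cokernel i) := fun h => hne ⟨_, CurveCohLib.isFinLocFreeOfRank_genRank h⟩
  obtain ⟨Q', q, hq, hQ', hrk, hdg⟩ := CurveSlope.exists_quot_dg_lt k hdim.le hQ hne'
  haveI := hq
  haveI : Epi (cokernel.π i ≫ q) := epi_comp _ _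
  obtain ⟨P, j, hj, u, hu, hKc, hrkP, hdgP⟩ : ∃ (P : X.Modules) (j : P ⟶ F), Mono j ∧ ∃ u : G ⟶ P, u ≫ j = i ∧
      Coh.IsCoh P ∧ CurveBundle.rk P = CurveBundle.rk G ∧ CurveSlope.dg k G < CurveSlope.dg k P := by
    have hKc := QCoh.isCoh_kernel hFc hQ' (cokernel.π i ≫ q)
    refine ⟨_, kernel.ι (cokernel.π i ≫ q), inferInstance,
      kernel.lift _ i (by rw [cokernel.condition_assoc, zero_comp]), kernel.lift_ι _ _ _, hKc, ?_, ?_⟩
    · have h1 := CurveSlope.rk_add_coh k _ _ _ (CurveSlope.shortExact_kernel_of_epi (cokernel.π i ≫ q)) hFc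
      have h2 := CurveSlope.rk_add_coh k _ _ _ (CurveSlope.shortExact_cokernel_of_mono i) hFc
      omega
    · have h3 := CurveSlope.dg_add k _ _ _ (CurveSlope.shortExact_kernel_of_epi (cokernel.π i ≫ q)) hKc hFc hQ'
      have h4 := CurveSlope.dg_add k _ _ _ (CurveSlope.shortExact_cokernel_of_mono i) hGc hFc hQ
      linarith
  haveI := hj
  have hP' := CurveBundle.isFinLocFree_of_mono k hdim.le hKc j hF'
  have hP : FlatMod.IsFinLocFreeOfRank b P := by
    have hr := CurveCohLib.isFinLocFreeOfRank_genRank hP'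
    rwa [← CurveBundle.rk_eq hr, hrkP, CurveBundle.rk_eq hG] at hr
  haveI : Mono u := mono_of_mono_fac hu
  have hf : ParSh.IsGPHom k X I (ParSh.gpInduced k X I i F₁')
      (ParSh.gpInduced k X I j F₁') u := by
    refine Submodule.map_le_iff_le_comap.2 fun t ht => ?_
    unfold ParSh.gpInduced at ht ⊢
    rw [Submodule.mem_comap] at ht ⊢
    rw [Submodule.mem_comap, ← ParShLib.fibDMap_comp k hdim I hD hGc hKc hFc u j t, hu]
    exact ht
  have h5 := hFss _ b j hj hb hP
  obtain ⟨h6, h7⟩ := ParShLib.gpDeg_le_of_mono k hdim I hD u hG hP α hα0 hα1 _ _ hf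
  have hm0 : (0 : ℝ) < m := by exact_mod_cast hm
  have heq := le_antisymm h6 (le_of_mul_le_mul_right (h5.trans hge) hm0)
  have hde := ((CurveCohLib.deg_le_of_mono k hdim u hG hP).2).2 (h7.1 heq).1
  rw [CurveSlope.deg_eq_dg k hG, CurveSlope.deg_eq_dg k hP] at hde
  exact hdgP.ne hde



/-- Let Y be a smooth proper integral curve (integral, smooth and proper over k, of dimension one) over
an algebraically closed field k, D an effective Cartier divisor on Y with ideal I, and α a real
weight with 0 ≤ α < 1. A generalised parabolic structure on a finite locally free O_Y-module E is a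
k-linear subspace F₁ of H⁰(Y, E ⊗ O_D); its parabolic degree in rank n is deg E + α·dim_k F₁ (deg E
= χ(E) − n·χ(O_Y)); a homomorphism f : E → E' is parabolic when the induced k-linear map H⁰(E ⊗ O_D)
→ H⁰(E' ⊗ O_D) carries F₁ into F₁'; a submodule G → E gets the preimage structure and (E, F₁) is
semistable (stable) when deg(G, preimage) · n ≤ (<) deg(E, F₁) · r for every finite locally free
submodule G of rank r ≥ 1 (with r < n for stability). Let (E, F₁) and (F, F₁') be semistable of
ranks n ≥ 1 and m ≥ 1 with the same parabolic slope, pardeg(E, F₁)·m = pardeg(F, F₁')·n, and let f :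
E → F be a parabolic homomorphism. Then f has constant rank: the cokernel of f in the category of
O_Y-modules is finite locally free. The published statement is set on the normalisation of a
singular curve with D lying over its singular points; neither is used. -/
theorem result (k : Type u) [Field k] [IsAlgClosed k] (X : Scheme.{u}) [X.Over (Spec (CommRingCat.of k))]
    [AlgebraicGeometry.IsIntegral X] [IsProper (X ↘ Spec (CommRingCat.of k))] [Smooth (X ↘ Spec (CommRingCat.of k))]
    (hdim : topologicalKrullDim X = 1)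
    (I : X.IdealSheafData) (hD : FGA.IsEffCartier I) (α : ℝ) (hα0 : 0 ≤ α) (hα1 : α < 1)
    {E F : X.Modules} (n m : ℕ) (hn : 0 < n) (hm : 0 < m)
    (hE : FlatMod.IsFinLocFreeOfRank n E) (hF : FlatMod.IsFinLocFreeOfRank m F)
    (F₁ : Submodule k (ParSh.fibD X I E)) (F₁' : Submodule k (ParSh.fibD X I F))
    (hEss : ParSh.IsGPSemistable k X I α F₁ n) (hFss : ParSh.IsGPSemistable k X I α F₁' m)
    (hμ : ParSh.gpDeg k X α E F₁ n * (m : ℝ) = ParSh.gpDeg k X α F F₁' m * (n : ℝ))
    (f : E ⟶ F) (hf : ParSh.IsGPHom k X I F₁ F₁' f) :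
    ∃ r₀ : ℕ, FlatMod.IsFinLocFreeOfRank r₀ (cokernel f) := by
  haveI : IsLocallyNoetherian X := LocallyOfFiniteType.isLocallyNoetherian (X ↘ Spec (CommRingCat.of k))
  have hpid := CurveCohLib.isPrincipalIdealRing_stalk_of_smooth (X ↘ Spec (CommRingCat.of k)) hdim.le
  obtain ⟨a, b, hab, hK, hG, hdeg⟩ := CurveCohLib.exists_ker_image k hpid f hE hF
  have hEc : Coh.IsCoh E := CurveDeg.isCoh_of_isFinLocFree (ConsPropLib.isFinLocFreeOfRank_iff.1 hE).1
  have hFc : Coh.IsCoh F := CurveDeg.isCoh_of_isFinLocFree (ConsPropLib.isFinLocFreeOfRank_iff.1 hF).1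
  have hKc : Coh.IsCoh (kernel f) := CurveDeg.isCoh_of_isFinLocFree (ConsPropLib.isFinLocFreeOfRank_iff.1 hK).1
  have hGc : Coh.IsCoh (Abelian.image f) := CurveDeg.isCoh_of_isFinLocFree (ConsPropLib.isFinLocFreeOfRank_iff.1 hG).1
  rcases Nat.eq_zero_or_pos b with rfl | hb
  · have hf0 : f = 0 := by
      rw [← Abelian.image.fac f, (CurveCohLib.isZero_of_isFinLocFreeOfRank_zero hG).eq_of_tgt (Abelian.factorThruImage f) 0,
        zero_comp]
    exact ⟨m, rankOfIso (cokernelIsoOfEq hf0 ≪≫ cokernelZeroIsoTarget).symm hF⟩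
  have hn0 : (0 : ℝ) < n := by exact_mod_cast hn
  rcases Nat.eq_zero_or_pos a with rfl | ha
  · haveI : Mono f := Preadditive.mono_of_isZero_kernel f (CurveCohLib.isZero_of_isFinLocFreeOfRank_zero hK)
    refine exists_cokernel_finLocFree_of_max k X hdim I hD α hα0 hα1 f n m hn hm hE hF F₁' hFss ?_
    rw [← hμ]
    refine mul_le_mul_of_nonneg_right ?_ (Nat.cast_nonneg m)
    haveI := ParShLib.finite_fibD k hdim I hD hEc
    have h : Module.finrank k F₁ ≤ Module.finrank k (ParSh.gpInduced k X I f F₁') :=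
      Submodule.finrank_mono (Submodule.map_le_iff_le_comap.1 hf)
    unfold ParSh.gpDeg ParSh.gpWt
    gcongr
  have hz : kernel.ι f ≫ Abelian.factorThruImage f = 0 := by
    rw [← cancel_mono (Abelian.image.ι f), Category.assoc, Abelian.image.fac, kernel.condition, zero_comp]
  have hS : (ShortComplex.mk (kernel.ι f) (Abelian.factorThruImage f) hz).ShortExact :=
    { exact := ShortComplex.exact_of_f_is_kernel _ (isKernelOfComp (Abelian.image.ι f) f (kernelIsKernel f)
        hz (Abelian.image.fac f)) }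
  have hdim1 := ParShLib.finrank_le_induced k hdim I hD hKc hEc hGc hFc (kernel.ι f) (Abelian.factorThruImage f) hz hS
    (Abelian.image.ι f) f (Abelian.image.fac f) F₁ F₁' hf
  have hKss := hEss (kernel f) a (kernel.ι f) inferInstance ha hK
  have hsum : ParSh.gpDeg k X α E F₁ n ≤ ParSh.gpDeg k X α (kernel f) (ParSh.gpInduced k X I (kernel.ι f) F₁) a +
      ParSh.gpDeg k X α (Abelian.image f) (ParSh.gpInduced k X I (Abelian.image.ι f) F₁') b := by
    unfold ParSh.gpDeg ParSh.gpWt
    have h : (Module.finrank k F₁ : ℝ) ≤ (Module.finrank k (ParSh.gpInduced k X I (kernel.ι f) F₁) : ℝ) +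
        Module.finrank k (ParSh.gpInduced k X I (Abelian.image.ι f) F₁') := by exact_mod_cast hdim1
    have h2 := mul_le_mul_of_nonneg_left h hα0
    have h3 : (Curv2.deg k X E n : ℝ) = Curv2.deg k X (kernel f) a + Curv2.deg k X (Abelian.image f) b := by
      exact_mod_cast hdeg
    linarith
  obtain ⟨r₀, hr₀⟩ := exists_cokernel_finLocFree_of_max k X hdim I hD α hα0 hα1 (Abelian.image.ι f) b m hb hm hG hF F₁' hFss (by
    generalize ParSh.gpDeg k X α E F₁ n = gE at *
    generalize ParSh.gpDeg k X α (kernel f) _ a = gK at *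
    generalize ParSh.gpDeg k X α (Abelian.image f) _ b = gG at *
    generalize ParSh.gpDeg k X α F F₁' m = gF at *
    have hab' : (a : ℝ) + b = n := by exact_mod_cast hab
    have h2 := mul_le_mul_of_nonneg_right hsum hn0.le
    have hm0 : (0 : ℝ) ≤ m := Nat.cast_nonneg m
    have h1 : gE * b ≤ gG * n := by
      rw [← hab'] at h2 hKss ⊢
      linarith
    refine le_of_mul_le_mul_right ?_ hn0
    calc gF * b * n = gE * b * m := by linear_combination (-(b : ℝ)) * hμ
      _ ≤ gG * n * m := mul_le_mul_of_nonneg_right h1 hm0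
      _ = gG * m * n := by ring)
  exact ⟨r₀, rankOfIso ((cokernelEpiComp (Abelian.factorThruImage f) (Abelian.image.ι f)).symm ≪≫
    cokernelIsoOfEq (Abelian.image.fac f)) hr₀⟩

end Groth.Agent.S18565
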