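import Groth.Statements.S18566
import Groth.Agent.ParShLib.GP
import Groth.Agent.ParShLib.Rank

set_option autoImplicit false
universe u
open CategoryTheory CategoryTheory.Limits AlgebraicGeometry
open ParSh

namespace Groth.Agent.S18566

/-- Let Y be a smooth proper integral curve (integral, smooth and proper over k, of dimension one) over
an algebraically closed field k, D an effective Cartier divisor on Y with ideal I, and α a real
weight with 0 ≤ α < 1. A generalised parabolic structure on a finite locally free O_Y-module E is a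
k-linear subspace F₁ of H⁰(Y, E ⊗ O_D); its parabolic degree in rank n is deg E + α·dim_k F₁ (deg E
= χ(E) − n·χ(O_Y)); a homomorphism f : E → E' is parabolic when the induced k-linear map H⁰(E ⊗ O_D)
→ H⁰(E' ⊗ O_D) carries F₁ into F₁'; a submodule G → E gets the preimage structure and (E, F₁) is
semistable (stable) when deg(G, preimage) · n ≤ (<) deg(E, F₁) · r for every finite locally free
submodule G of rank r ≥ 1 (with r < n for stability). Let (E, F₁) and (F, F₁') be semistable and
stable of ranks n ≥ 1 and m ≥ 1 with the same parabolic slope, pardeg(E, F₁)·m = pardeg(F, F₁')·n,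
and let f : E → F be a parabolic homomorphism. Then either f = 0 or f is an isomorphism of
O_Y-modules which, when α > 0, maps F₁ onto F₁'. The published statement concludes an isomorphism of
generalised parabolic bundles (an isomorphism of modules mapping F₁ onto F₁') at every weight 0 ≤ α
< 1; at α = 0 this fails, since the identity of O_Y, from the zero structure to all of H⁰(O_D) with
D a single point, is a nonzero parabolic map between stable rank-one objects of equal slope that is
not one; so the condition on F₁ is asked here only for α > 0. The published statement is also set on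
the normalisation of a singular curve with D lying over its singular points; neither is used. -/
theorem result (k : Type u) [Field k] [IsAlgClosed k] (X : Scheme.{u}) [X.Over (Spec (CommRingCat.of k))]
    [AlgebraicGeometry.IsIntegral X] [IsProper (X ↘ Spec (CommRingCat.of k))] [Smooth (X ↘ Spec (CommRingCat.of k))]
    (hdim : topologicalKrullDim X = 1)
    (I : X.IdealSheafData) (hD : FGA.IsEffCartier I) (α : ℝ) (hα0 : 0 ≤ α) (hα1 : α < 1)
    {E F : X.Modules} (n m : ℕ) (hn : 0 < n) (hm : 0 < m)
    (hE : FlatMod.IsFinLocFreeOfRank n E) (hF : FlatMod.IsFinLocFreeOfRank m F)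
    (F₁ : Submodule k (ParSh.fibD X I E)) (F₁' : Submodule k (ParSh.fibD X I F))
    (hEss : ParSh.IsGPSemistable k X I α F₁ n) (hEst : ParSh.IsGPStable k X I α F₁ n)
    (hFss : ParSh.IsGPSemistable k X I α F₁' m) (hFst : ParSh.IsGPStable k X I α F₁' m)
    (hμ : ParSh.gpDeg k X α E F₁ n * (m : ℝ) = ParSh.gpDeg k X α F F₁' m * (n : ℝ))
    (f : E ⟶ F) (hf : ParSh.IsGPHom k X I F₁ F₁' f) :
    f = 0 ∨ (IsIso f ∧ (0 < α → Submodule.map (ParSh.fibDMap k X I f) F₁ = F₁')) := by
  haveI : IsLocallyNoetherian X := LocallyOfFiniteType.isLocallyNoetherian (X ↘ Spec (CommRingCat.of k))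
  by_cases hf0 : f = 0
  · exact Or.inl hf0
  refine Or.inr ?_
  have hpid := CurveCohLib.isPrincipalIdealRing_stalk_of_smooth (X ↘ Spec (CommRingCat.of k)) hdim.le
  obtain ⟨a, b, hab, hK, hG, hdeg⟩ := CurveCohLib.exists_ker_image k hpid f hE hF
  have hEc : Coh.IsCoh E := QCoh.isCoh_iff_isFP.2 (QCoh.isFP_of_isFinLocFree (ConsPropLib.isFinLocFreeOfRank_iff.1 hE).1)
  have hFc : Coh.IsCoh F := QCoh.isCoh_iff_isFP.2 (QCoh.isFP_of_isFinLocFree (ConsPropLib.isFinLocFreeOfRank_iff.1 hF).1)
  have hKc : Coh.IsCoh (kernel f) := QCoh.isCoh_iff_isFP.2 (QCoh.isFP_of_isFinLocFree (ConsPropLib.isFinLocFreeOfRank_iff.1 hK).1)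
  have hGc : Coh.IsCoh (Abelian.image f) := QCoh.isCoh_iff_isFP.2 (QCoh.isFP_of_isFinLocFree (ConsPropLib.isFinLocFreeOfRank_iff.1 hG).1)
  have hb : 0 < b := by
    rcases Nat.eq_zero_or_pos b with rfl | hb
    · refine absurd ?_ hf0
      rw [← Abelian.image.fac f, (CurveCohLib.isZero_of_isFinLocFreeOfRank_zero hG).eq_of_tgt (Abelian.factorThruImage f) 0,
        zero_comp]
    · exact hb
  have hm0 : (0 : ℝ) < m := by exact_mod_cast hm
  have hn0 : (0 : ℝ) < n := by exact_mod_cast hn
  rcases Nat.eq_zero_or_pos a with rfl | ha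
  · haveI : Mono f := Preadditive.mono_of_isZero_kernel f (CurveCohLib.isZero_of_isFinLocFreeOfRank_zero hK)
    have hnm : n ≤ m := ParShLib.rank_le_of_mono f hE hF
    have hle : ParSh.gpDeg k X α E F₁ n ≤ ParSh.gpDeg k X α E (ParSh.gpInduced k X I f F₁') n := by
      haveI := ParShLib.finite_fibD k hdim I hD hEc
      have h : Module.finrank k F₁ ≤ Module.finrank k (ParSh.gpInduced k X I f F₁') :=
        Submodule.finrank_mono (Submodule.map_le_iff_le_comap.1 hf)
      unfold ParSh.gpDeg ParSh.gpWt
      gcongr
    rcases Nat.lt_or_eq_of_le hnm with hlt | rfl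
    · have h := hFst E n f inferInstance hn hlt hE
      exfalso
      have := mul_le_mul_of_nonneg_right hle hm0.le
      linarith
    · exact (ParShLib.gpDeg_le_of_mono k hdim I hD f hE hF α hα0 hα1 F₁ F₁' hf).2.1
        (mul_right_cancel₀ hn0.ne' hμ)
  exfalso
  have hz : kernel.ι f ≫ Abelian.factorThruImage f = 0 := by
    rw [← cancel_mono (Abelian.image.ι f), Category.assoc, Abelian.image.fac, kernel.condition, zero_comp]
  have hS : (ShortComplex.mk (kernel.ι f) (Abelian.factorThruImage f) hz).ShortExact :=
    { exact := ShortComplex.exact_of_f_is_kernel _ (isKernelOfComp (Abelian.image.ι f) f (kernelIsKernel f)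
        hz (Abelian.image.fac f)) }
  have hdim1 := ParShLib.finrank_le_induced k hdim I hD hKc hEc hGc hFc (kernel.ι f) (Abelian.factorThruImage f) hz hS
    (Abelian.image.ι f) f (Abelian.image.fac f) F₁ F₁' hf
  have hKst := hEst (kernel f) a (kernel.ι f) inferInstance ha (by omega) hK
  have hGss := hFss (Abelian.image f) b (Abelian.image.ι f) inferInstance hb hG
  have hsum : ParSh.gpDeg k X α E F₁ n ≤ ParSh.gpDeg k X α (kernel f) (ParSh.gpInduced k X I (kernel.ι f) F₁) a +
      ParSh.gpDeg k X α (Abelian.image f) (ParSh.gpInduced k X I (Abelian.image.ι f) F₁') b := by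
    unfold ParSh.gpDeg ParSh.gpWt
    have h : (Module.finrank k F₁ : ℝ) ≤ (Module.finrank k (ParSh.gpInduced k X I (kernel.ι f) F₁) : ℝ) +
        Module.finrank k (ParSh.gpInduced k X I (Abelian.image.ι f) F₁') := by exact_mod_cast hdim1
    have h2 := mul_le_mul_of_nonneg_left h hα0
    have h3 : (Curv2.deg k X E n : ℝ) = Curv2.deg k X (kernel f) a + Curv2.deg k X (Abelian.image f) b := by
      exact_mod_cast hdeg
    linarith
  generalize ParSh.gpDeg k X α E F₁ n = gE at *
  generalize ParSh.gpDeg k X α (kernel f) _ a = gK at *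
  generalize ParSh.gpDeg k X α (Abelian.image f) _ b = gG at *
  generalize ParSh.gpDeg k X α F F₁' m = gF at *
  have hab' : (a : ℝ) + b = n := by exact_mod_cast hab
  have h1 : gG * n ≤ gE * b := by
    refine le_of_mul_le_mul_right ?_ hm0
    calc gG * n * m = gG * m * n := by ring
      _ ≤ gF * b * n := mul_le_mul_of_nonneg_right hGss hn0.le
      _ = gE * b * m := by linear_combination (-(b : ℝ)) * hμ
  have h2 := mul_le_mul_of_nonneg_right hsum hn0.le
  rw [← hab'] at h1 h2 hKst
  linarith

end Groth.Agent.S18566
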