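import Groth.Statements.S18567
import Groth.Agent.S18566
import Groth.Agent.ParShLib.GP

set_option autoImplicit false
universe u
open CategoryTheory CategoryTheory.Limits AlgebraicGeometry
open ParSh

namespace Groth.Agent.S18567

theorem exists_root_sub_not_isUnit {k A : Type*} [Field k] [IsAlgClosed k] [Ring A] [Algebra k A] [Nontrivial A]
    (f : A) (p : Polynomial k) (hp : p.Monic) (hpf : Polynomial.aeval f p = 0) :
    ∃ a : k, ¬ IsUnit (f - algebraMap k A a) := by
  by_contra h
  push Not at h
  have hspl : p = (p.roots.map fun a => Polynomial.X - Polynomial.C a).prod :=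
    (IsAlgClosed.splits p).eq_prod_roots_of_monic hp
  have key : ∀ s : Multiset k, IsUnit (Polynomial.aeval f (s.map fun a => Polynomial.X - Polynomial.C a).prod) := by
    intro s
    induction s using Multiset.induction_on with
    | empty => simp
    | cons a s ih =>
      rw [Multiset.map_cons, Multiset.prod_cons, map_mul]
      refine IsUnit.mul ?_ ih
      simpa using h a
  have := key p.roots
  rw [← hspl, hpf] at this
  exact not_isUnit_zero this



/-- Let Y be a smooth proper integral curve (integral, smooth and proper over k, of dimension one) over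
an algebraically closed field k, D an effective Cartier divisor on Y with ideal I, and α a real
weight with 0 ≤ α < 1. A generalised parabolic structure on a finite locally free O_Y-module E is a
k-linear subspace F₁ of H⁰(Y, E ⊗ O_D); its parabolic degree in rank n is deg E + α·dim_k F₁ (deg E
= χ(E) − n·χ(O_Y)); a homomorphism f : E → E' is parabolic when the induced k-linear map H⁰(E ⊗ O_D)
→ H⁰(E' ⊗ O_D) carries F₁ into F₁'; a submodule G → E gets the preimage structure and (E, F₁) is
semistable (stable) when deg(G, preimage) · n ≤ (<) deg(E, F₁) · r for every finite locally free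
submodule G of rank r ≥ 1 (with r < n for stability). Let (E, F₁) be semistable and stable of rank n
≥ 1. Then (E, F₁) is simple: every parabolic endomorphism f : E → E acts on the underlying abelian
sheaf as multiplication by some scalar c ∈ k. The published statement is set on the normalisation of
a singular curve with D lying over its singular points; neither is used. -/
theorem result (k : Type u) [Field k] [IsAlgClosed k] (X : Scheme.{u}) [X.Over (Spec (CommRingCat.of k))]
    [AlgebraicGeometry.IsIntegral X] [IsProper (X ↘ Spec (CommRingCat.of k))] [Smooth (X ↘ Spec (CommRingCat.of k))]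
    (hdim : topologicalKrullDim X = 1)
    (I : X.IdealSheafData) (hD : FGA.IsEffCartier I) (α : ℝ) (hα0 : 0 ≤ α) (hα1 : α < 1)
    {E : X.Modules} (n : ℕ) (hn : 0 < n) (hE : FlatMod.IsFinLocFreeOfRank n E)
    (F₁ : Submodule k (ParSh.fibD X I E))
    (hEss : ParSh.IsGPSemistable k X I α F₁ n) (hEst : ParSh.IsGPStable k X I α F₁ n)
    (f : E ⟶ E) (hf : ParSh.IsGPHom k X I F₁ F₁ f) :
    ∃ c : k, (SheafOfModules.toSheaf X.ringCatSheaf).map f =
      Coh.smulAb E (Coh.toGlobal (X ↘ Spec (CommRingCat.of k)) c) := by
  haveI : IsLocallyNoetherian X := LocallyOfFiniteType.isLocallyNoetherian (X ↘ Spec (CommRingCat.of k))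
  have hEc : Coh.IsCoh E := QCoh.isCoh_iff_isFP.2 (QCoh.isFP_of_isFinLocFree (ConsPropLib.isFinLocFreeOfRank_iff.1 hE).1)
  by_cases h1 : (𝟙 E : E ⟶ E) = 0
  · exact absurd ((IsZero.iff_id_eq_zero E).2 h1) (CurveEnd.not_isZero E n hn hE)
  haveI : Nontrivial (End E) := ⟨⟨1, 0, h1⟩⟩
  letI := CurveEnd.kAlgebra (k := k) E
  obtain ⟨p, hpm, hpf⟩ := CurveEnd.exists_aeval_eq_zero (k := k) E n hE f
  obtain ⟨a, ha⟩ := exists_root_sub_not_isUnit (k := k) (A := End E) f p hpm hpf
  refine ⟨a, ?_⟩
  let c : E ⟶ E := CurveEnd.smulMod E (Coh.toGlobal (X ↘ Spec (CommRingCat.of k)) a)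
  have hc : f - c = 0 := by
    rcases S18566.result k X hdim I hD α hα0 hα1 n n hn hn hE hE F₁ F₁ hEss hEst hEss hEst rfl (f - c)
      (ParShLib.isGPHom_sub_scalar k hdim I hD hEc F₁ f hf a) with h | h
    · exact h
    · refine absurd ?_ ha
      rw [isUnit_iff_isIso]
      exact h.1
  rw [sub_eq_zero.1 hc]
  exact CurveEnd.toSheaf_smulMod E _

end Groth.Agent.S18567
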