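import Groth.Statements.S18568
import Mathlib
import Groth.Agent.ParShLib.Rank

set_option autoImplicit false
universe u
open CategoryTheory CategoryTheory.Limits AlgebraicGeometry
open ParSh

namespace Groth.Agent.S18568

/-- Let Y be a smooth proper integral curve (integral, smooth and proper over k, of dimension one) over
an algebraically closed field k and D an effective Cartier divisor on Y with ideal I, of degree d ≥
1 in the sense that H⁰(Y, G ⊗ O_D) has k-dimension r·d for every finite locally free G of rank r. A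
generalised parabolic structure on a finite locally free E is a k-subspace F₁ of H⁰(E ⊗ O_D); with
weight α its parabolic degree in rank n is deg E + α·dim_k F₁ (deg E = χ(E) − n·χ(O_Y)); a submodule
G → E carries the preimage structure under H⁰(G ⊗ O_D) → H⁰(E ⊗ O_D), and (E, F₁) is α-semistable
(α-stable) when deg_α(G)·n ≤ (<) deg_α(E)·r for every finite locally free submodule G of rank r ≥ 1
(with r < n for stability); weight α = 1 gives 1-semistability and 1-stability. Let E have rank n ≥
2 with structure F₁ and let 0 ≤ α < 1 satisfy 1 − 1/(d·n·(n−1)) < α. If (E, F₁) is α-semistable then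
it is 1-semistable. The published statement is set on the normalisation of a singular curve, with
structures over several disjoint divisors D_i lying over its singular points and d their total
degree; here Y is any smooth proper integral curve with one structure over one divisor, which
contains the several-divisor case (D the sum of the D_i, F₁ the direct sum of the F₁^i). -/
theorem result (k : Type u) [Field k] [IsAlgClosed k] (X : Scheme.{u}) [X.Over (Spec (CommRingCat.of k))]
    [AlgebraicGeometry.IsIntegral X] [IsProper (X ↘ Spec (CommRingCat.of k))] [Smooth (X ↘ Spec (CommRingCat.of k))]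
    (hdim : topologicalKrullDim X = 1)
    (I : X.IdealSheafData) (hD : FGA.IsEffCartier I) (d : ℕ) (hd : 0 < d)
    (hdegD : ∀ (G : X.Modules) (r : ℕ), FlatMod.IsFinLocFreeOfRank r G → Module.finrank k (ParSh.fibD X I G) = r * d)
    {E : X.Modules} (n : ℕ) (hn : 2 ≤ n) (hE : FlatMod.IsFinLocFreeOfRank n E)
    (F₁ : Submodule k (ParSh.fibD X I E))
    (α : ℝ) (hα0 : 0 ≤ α) (hα1 : α < 1) (hα : 1 - 1 / ((d : ℝ) * (n : ℝ) * ((n : ℝ) - 1)) < α)
    (hss : ParSh.IsGPSemistable k X I α F₁ n) :
    ParSh.IsGPSemistable k X I 1 F₁ n := by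
  intro F r i hi hr hF
  have hrn : r ≤ n := ParShLib.rank_le_of_mono i hF hE
  have h := hss F r i hi hr hF
  unfold ParSh.gpDeg ParSh.gpWt at h ⊢
  haveI hFF : Module.Finite k (ParSh.fibD X I F) :=
    Module.finite_of_finrank_pos (by rw [hdegD F r hF]; exact Nat.mul_pos hr hd)
  have ha : Module.finrank k (ParSh.gpInduced k X I i F₁) ≤ r * d := hdegD F r hF ▸ Submodule.finrank_le _
  generalize Module.finrank k ↥(ParSh.gpInduced k X I i F₁) = a at h ha ⊢
  generalize Module.finrank k ↥F₁ = b at h ⊢
  generalize Curv2.deg k X F r = DF at h ⊢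
  generalize Curv2.deg k X E n = DE at h ⊢
  have hn' : (2 : ℝ) ≤ n := by exact_mod_cast hn
  have hd' : (0 : ℝ) < d := by exact_mod_cast hd
  have hA : (0 : ℝ) < (d : ℝ) * n * (n - 1) := mul_pos (mul_pos hd' (by linarith)) (by linarith)
  have h3 : (1 - α) * ((d : ℝ) * n * (n - 1)) < 1 := by
    rw [← lt_div_iff₀ hA]; linarith
  have ha' : (a : ℝ) ≤ r * d := by exact_mod_cast ha
  have hb' : (0 : ℝ) ≤ (1 - α) * ((b : ℝ) * r) := mul_nonneg (by linarith) (by positivity)
  rcases Nat.lt_or_eq_of_le hrn with hlt | rfl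
  · have h2 : (r : ℝ) ≤ n - 1 := by
      have : (r : ℝ) + 1 ≤ n := by exact_mod_cast (show r + 1 ≤ n from hlt)
      linarith
    have h4 : (1 - α) * ((a : ℝ) * n) < 1 := by
      refine lt_of_le_of_lt ?_ h3
      refine mul_le_mul_of_nonneg_left ?_ (by linarith)
      calc (a : ℝ) * n ≤ ((n - 1) * d) * n := by gcongr; exact ha'.trans (by gcongr)
        _ = _ := by ring
    have h5 : (((DF + (a : ℤ)) * (n : ℤ) - (DE + (b : ℤ)) * (r : ℤ) : ℤ) : ℝ) < ((1 : ℤ) : ℝ) := by
      push_cast; linarith
    have h6 : (((DF + (a : ℤ)) * (n : ℤ) - (DE + (b : ℤ)) * (r : ℤ) : ℤ) : ℝ) ≤ ((0 : ℤ) : ℝ) :=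
      Int.cast_le.2 (by have := Int.cast_lt.1 h5; omega)
    push_cast at h6; linarith
  · have h4 : (1 - α) * (a : ℝ) < 1 := by
      refine lt_of_le_of_lt ?_ h3
      refine mul_le_mul_of_nonneg_left (ha'.trans ?_) (by linarith)
      rw [mul_comm ((d : ℝ) * r)]
      have : (1 : ℝ) * ((d : ℝ) * r) ≤ ((r : ℝ) - 1) * ((d : ℝ) * r) := by gcongr; linarith
      linarith
    have hb2 : (0 : ℝ) ≤ (1 - α) * (b : ℝ) := mul_nonneg (by linarith) (by positivity)
    have hn0 : (0 : ℝ) < r := by exact_mod_cast hr
    have h7 : (DF : ℝ) + α * a ≤ DE + α * b := le_of_mul_le_mul_right h hn0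
    have h5 : ((DF + (a : ℤ) - (DE + (b : ℤ)) : ℤ) : ℝ) < ((1 : ℤ) : ℝ) := by push_cast; linarith
    have h6 : ((DF + (a : ℤ) - (DE + (b : ℤ)) : ℤ) : ℝ) ≤ ((0 : ℤ) : ℝ) :=
      Int.cast_le.2 (by have := Int.cast_lt.1 h5; omega)
    push_cast at h6
    refine mul_le_mul_of_nonneg_right ?_ hn0.le
    linarith

end Groth.Agent.S18568
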