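import Groth.Statements.S18569
import Mathlib

set_option autoImplicit false
universe u
open CategoryTheory CategoryTheory.Limits AlgebraicGeometry
open ParSh

namespace Groth.Agent.S18569

/-- Let Y be a smooth proper integral curve (integral, smooth and proper over k, of dimension one) over
an algebraically closed field k and D an effective Cartier divisor on Y with ideal I, of degree d ≥
1 in the sense that H⁰(Y, G ⊗ O_D) has k-dimension r·d for every finite locally free G of rank r. A
generalised parabolic structure on a finite locally free E is a k-subspace F₁ of H⁰(E ⊗ O_D); with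
weight α its parabolic degree in rank n is deg E + α·dim_k F₁ (deg E = χ(E) − n·χ(O_Y)); a submodule
G → E carries the preimage structure under H⁰(G ⊗ O_D) → H⁰(E ⊗ O_D), and (E, F₁) is α-semistable
(α-stable) when deg_α(G)·n ≤ (<) deg_α(E)·r for every finite locally free submodule G of rank r ≥ 1
(with r < n for stability); weight α = 1 gives 1-semistability and 1-stability. Let E have rank n ≥
2 with structure F₁ and let 0 ≤ α < 1 satisfy 1 − 1/(d·n·(n−1)) < α. If (E, F₁) is 1-stable then it
is α-stable. The published statement is set on the normalisation of a singular curve, with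
structures over several disjoint divisors D_i lying over its singular points and d their total
degree; here Y is any smooth proper integral curve with one structure over one divisor, which
contains the several-divisor case (D the sum of the D_i, F₁ the direct sum of the F₁^i). -/
theorem result (k : Type u) [Field k] [IsAlgClosed k] (X : Scheme.{u}) [X.Over (Spec (CommRingCat.of k))]
    [AlgebraicGeometry.IsIntegral X] [IsProper (X ↘ Spec (CommRingCat.of k))] [Smooth (X ↘ Spec (CommRingCat.of k))]
    (hdim : topologicalKrullDim X = 1)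
    (I : X.IdealSheafData) (hD : FGA.IsEffCartier I) (d : ℕ) (hd : 0 < d)
    (hdegD : ∀ (G : X.Modules) (r : ℕ), FlatMod.IsFinLocFreeOfRank r G → Module.finrank k (ParSh.fibD X I G) = r * d)
    {E : X.Modules} (n : ℕ) (hn : 2 ≤ n) (hE : FlatMod.IsFinLocFreeOfRank n E)
    (F₁ : Submodule k (ParSh.fibD X I E))
    (α : ℝ) (hα0 : 0 ≤ α) (hα1 : α < 1) (hα : 1 - 1 / ((d : ℝ) * (n : ℝ) * ((n : ℝ) - 1)) < α)
    (hst : ParSh.IsGPStable k X I 1 F₁ n) :
    ParSh.IsGPStable k X I α F₁ n := by
  intro F r i hi hr hrn hF
  have h := hst F r i hi hr hrn hF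
  unfold ParSh.gpDeg ParSh.gpWt at h ⊢
  haveI hFE : Module.Finite k (ParSh.fibD X I E) :=
    Module.finite_of_finrank_pos (by rw [hdegD E n hE]; exact Nat.mul_pos (by omega) hd)
  have hb : Module.finrank k F₁ ≤ n * d := hdegD E n hE ▸ Submodule.finrank_le _
  generalize Module.finrank k ↥(ParSh.gpInduced k X I i F₁) = a at h ⊢
  generalize Module.finrank k ↥F₁ = b at h hb ⊢
  generalize Curv2.deg k X F r = DF at h ⊢
  generalize Curv2.deg k X E n = DE at h ⊢
  have h' : ((DF + (a : ℤ)) * (n : ℤ) : ℤ) + 1 ≤ (DE + (b : ℤ)) * (r : ℤ) := by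
    have : (((DF + (a : ℤ)) * (n : ℤ) : ℤ) : ℝ) < (((DE + (b : ℤ)) * (r : ℤ) : ℤ) : ℝ) := by
      push_cast; linarith
    exact Int.cast_lt.1 this
  have h'' : ((DF : ℝ) + a) * n + 1 ≤ ((DE : ℝ) + b) * r := by exact_mod_cast h'
  have hd' : (0 : ℝ) < d := by exact_mod_cast hd
  have hn' : (2 : ℝ) ≤ n := by exact_mod_cast hn
  have hA : (0 : ℝ) < (d : ℝ) * n * (n - 1) := mul_pos (mul_pos hd' (by linarith)) (by linarith)
  have hbr : (b : ℝ) * r ≤ (d : ℝ) * n * (n - 1) := by
    have h1 : (b : ℝ) ≤ n * d := by exact_mod_cast hb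
    have h2 : (r : ℝ) ≤ n - 1 := by
      have : r + 1 ≤ n := hrn
      have : (r : ℝ) + 1 ≤ n := by exact_mod_cast this
      linarith
    calc (b : ℝ) * r ≤ (n * d) * (n - 1) := by gcongr
      _ = _ := by ring
  have h3 : (1 - α) * ((d : ℝ) * n * (n - 1)) < 1 := by
    rw [← lt_div_iff₀ hA]; linarith
  have h4 : (1 - α) * ((b : ℝ) * r) < 1 := lt_of_le_of_lt (by gcongr) h3
  have h5 : 0 ≤ (1 - α) * ((a : ℝ) * n) := mul_nonneg (by linarith) (by positivity)
  nlinarith

end Groth.Agent.S18569
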