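import Groth.Statements.S18570
import Groth.Agent.ParShLib.GP
import Groth.Agent.S18568
import Groth.Agent.S18569

set_option autoImplicit false
universe u
open CategoryTheory CategoryTheory.Limits AlgebraicGeometry
open ParSh

namespace Groth.Agent.S18570

/-- A full-rank submodule never destabilises, at any weight in `[0,1]`. -/
theorem gpDeg_induced_le (k : Type u) [Field k] {X : Scheme.{u}} [X.Over (Spec (CommRingCat.of k))]
    [AlgebraicGeometry.IsIntegral X] [IsProper (X ↘ Spec (CommRingCat.of k))] (hdim : topologicalKrullDim X = 1)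
    (I : X.IdealSheafData) (hD : FGA.IsEffCartier I) {E F : X.Modules} (i : F ⟶ E) [Mono i] {n : ℕ}
    (hF : FlatMod.IsFinLocFreeOfRank n F) (hE : FlatMod.IsFinLocFreeOfRank n E)
    (F₁ : Submodule k (ParSh.fibD X I E)) (β : ℝ) (h0 : 0 ≤ β) (h1 : β ≤ 1) :
    ParSh.gpDeg k X β F (ParSh.gpInduced k X I i F₁) n ≤ ParSh.gpDeg k X β E F₁ n := by
  obtain ⟨hFf, hEf, hker⟩ := ParShLib.finrank_ker_fibDMap_le k hdim I hD i hF hE
  haveI := hFf; haveI := hEf
  set φ := ParSh.fibDMap k X I i
  have hc : Module.finrank k (F₁.comap φ) ≤ Module.finrank k F₁ + Module.finrank k (LinearMap.ker φ) := by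
    have h := LinearMap.finrank_range_add_finrank_ker (φ ∘ₗ (F₁.comap φ).subtype)
    rw [LinearMap.range_comp, Submodule.range_subtype] at h
    have h2 := Submodule.finrank_mono (Submodule.map_comap_le φ F₁)
    have h3 : Module.finrank k (LinearMap.ker (φ ∘ₗ (F₁.comap φ).subtype)) ≤ Module.finrank k (LinearMap.ker φ) :=
      LinearMap.finrank_le_finrank_of_injective
        (f := ((F₁.comap φ).subtype ∘ₗ (LinearMap.ker (φ ∘ₗ (F₁.comap φ).subtype)).subtype).codRestrict
          (LinearMap.ker φ) fun t => t.2)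
        fun a b hab => Subtype.ext (Subtype.ext (congrArg (fun v => (v.1 : ParSh.fibD X I F)) hab))
    omega
  unfold ParSh.gpDeg ParSh.gpWt ParSh.gpInduced
  have hk : (Module.finrank k (LinearMap.ker φ) : ℝ) ≤ (Curv2.deg k X E n : ℝ) - Curv2.deg k X F n := by
    exact_mod_cast hker
  have hc' : (Module.finrank k (F₁.comap φ) : ℝ) ≤ Module.finrank k F₁ + Module.finrank k (LinearMap.ker φ) := by
    exact_mod_cast hc
  have h3 := mul_le_mul_of_nonneg_left hc' h0
  nlinarith



/-- Let Y be a smooth proper integral curve (integral, smooth and proper over k, of dimension one) over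
an algebraically closed field k and D an effective Cartier divisor on Y with ideal I, of degree d ≥
1 in the sense that H⁰(Y, G ⊗ O_D) has k-dimension r·d for every finite locally free G of rank r. A
generalised parabolic structure on a finite locally free E is a k-subspace F₁ of H⁰(E ⊗ O_D); with
weight α its parabolic degree in rank n is deg E + α·dim_k F₁ (deg E = χ(E) − n·χ(O_Y)); a submodule
G → E carries the preimage structure under H⁰(G ⊗ O_D) → H⁰(E ⊗ O_D), and (E, F₁) is α-semistable
(α-stable) when deg_α(G)·n ≤ (<) deg_α(E)·r for every finite locally free submodule G of rank r ≥ 1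
(with r < n for stability); weight α = 1 gives 1-semistability and 1-stability. Let E have rank n ≥
2 with structure F₁ and let 0 ≤ α < 1 satisfy 1 − 1/(d·n·(n−1)) < α. Suppose moreover that n and deg
E are coprime and that dim_k F₁ = a·n is a multiple of n. Then α-semistability, α-stability,
1-semistability and 1-stability of (E, F₁) are all equivalent. The published statement is set on the
normalisation of a singular curve, with structures over several disjoint divisors D_i lying over its
singular points, d their total degree and each dim F₁^i a multiple of n; here Y is any smooth proper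
integral curve with one structure over one divisor and only dim F₁ = a·n is assumed, which contains
the several-divisor case (D the sum of the D_i, F₁ the direct sum of the F₁^i). -/
theorem result (k : Type u) [Field k] [IsAlgClosed k] (X : Scheme.{u}) [X.Over (Spec (CommRingCat.of k))]
    [AlgebraicGeometry.IsIntegral X] [IsProper (X ↘ Spec (CommRingCat.of k))] [Smooth (X ↘ Spec (CommRingCat.of k))]
    (hdim : topologicalKrullDim X = 1)
    (I : X.IdealSheafData) (hD : FGA.IsEffCartier I) (d : ℕ) (hd : 0 < d)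
    (hdegD : ∀ (G : X.Modules) (r : ℕ), FlatMod.IsFinLocFreeOfRank r G → Module.finrank k (ParSh.fibD X I G) = r * d)
    {E : X.Modules} (n : ℕ) (hn : 2 ≤ n) (hE : FlatMod.IsFinLocFreeOfRank n E)
    (F₁ : Submodule k (ParSh.fibD X I E))
    (α : ℝ) (hα0 : 0 ≤ α) (hα1 : α < 1) (hα : 1 - 1 / ((d : ℝ) * (n : ℝ) * ((n : ℝ) - 1)) < α)
    (hcop : IsCoprime (n : ℤ) (Curv2.deg k X E n)) (a : ℕ) (ha : Module.finrank k F₁ = a * n) :
    (ParSh.IsGPSemistable k X I α F₁ n ↔ ParSh.IsGPSemistable k X I 1 F₁ n) ∧
      (ParSh.IsGPStable k X I α F₁ n ↔ ParSh.IsGPSemistable k X I 1 F₁ n) ∧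
      (ParSh.IsGPStable k X I 1 F₁ n ↔ ParSh.IsGPSemistable k X I 1 F₁ n) := by
  have lift : ∀ β : ℝ, 0 ≤ β → β ≤ 1 → ParSh.IsGPStable k X I β F₁ n → ParSh.IsGPSemistable k X I β F₁ n := by
    intro β h0 h1 hst F r i hi hr hF
    haveI := hi
    rcases Nat.lt_or_eq_of_le (ParShLib.rank_le_of_mono i hF hE) with hlt | rfl
    · exact (hst F r i hi hr hlt hF).le
    · exact mul_le_mul_of_nonneg_right (gpDeg_induced_le k hdim I hD i hF hE F₁ β h0 h1) (Nat.cast_nonneg _)
  have strict : ParSh.IsGPSemistable k X I 1 F₁ n → ParSh.IsGPStable k X I 1 F₁ n := by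
    intro hss F r i hi hr hrn hF
    have h := hss F r i hi hr hF
    unfold ParSh.gpDeg ParSh.gpWt at h ⊢
    rw [ha] at h ⊢
    refine lt_of_le_of_ne h fun heq => ?_
    generalize Module.finrank k ↥(ParSh.gpInduced k X I i F₁) = c at heq
    generalize Curv2.deg k X F r = DF at heq
    have e : (DF + (c : ℤ)) * (n : ℤ) = (Curv2.deg k X E n + (a : ℤ) * n) * (r : ℤ) := by
      push_cast [one_mul] at heq
      exact_mod_cast heq
    have hdvd : (n : ℤ) ∣ Curv2.deg k X E n * (r : ℤ) :=
      ⟨DF + c - a * r, by linear_combination (-1 : ℤ) * e⟩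
    have := Nat.le_of_dvd hr (Int.natCast_dvd_natCast.1 (hcop.dvd_of_dvd_mul_left hdvd))
    omega
  have up : ParSh.IsGPSemistable k X I α F₁ n → ParSh.IsGPSemistable k X I 1 F₁ n :=
    fun h => S18568.result k X hdim I hD d hd hdegD n hn hE F₁ α hα0 hα1 hα h
  have down : ParSh.IsGPSemistable k X I 1 F₁ n → ParSh.IsGPStable k X I α F₁ n :=
    fun h => S18569.result k X hdim I hD d hd hdegD n hn hE F₁ α hα0 hα1 hα (strict h)
  exact ⟨⟨up, fun h => lift α hα0 hα1.le (down h)⟩, ⟨fun h => up (lift α hα0 hα1.le h), down⟩,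
    ⟨fun h => lift 1 zero_le_one le_rfl h, strict⟩⟩

end Groth.Agent.S18570
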