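import Groth.Statements.S18571
import Groth.Agent.H23.P1Charts
-- import your own Groth.Agent.* helpers here

set_option autoImplicit false
universe u
open CategoryTheory AlgebraicGeometry
open REq

namespace Groth.Agent.S18571

open Groth.Agent.H23 Polynomial in
theorem link {k : Type u} [Field k] {X : Scheme.{u}} {f : X ⟶ Spec (CommRingCat.of k)}
    (U : X.Opens) {n : ℕ} (V : (Spec (CommRingCat.of (MvPolynomial (Fin n) k))).Opens)
    (a : (U : Scheme.{u}) ⟶ (V : Scheme.{u})) (b : (V : Scheme.{u}) ⟶ (U : Scheme.{u}))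
    (hab : a ≫ b = 𝟙 _)
    (ha : a ≫ V.ι ≫ Spec.map (CommRingCat.ofHom (algebraMap k (MvPolynomial (Fin n) k))) = U.ι ≫ f)
    (hb : b ≫ U.ι ≫ f = V.ι ≫ Spec.map (CommRingCat.ofHom (algebraMap k (MvPolynomial (Fin n) k))))
    {K : Type u} [Field K] [Algebra k K] (A B : REq.Pts (U.ι ≫ f) K) : REq.ElemLink (U.ι ≫ f) K A B := by
  have hpt : ∀ C : REq.Pts (U.ι ≫ f) K, ∃ φ : MvPolynomial (Fin n) k →ₐ[k] K,
      Spec.map (CommRingCat.ofHom φ.toRingHom) = C.1 ≫ a ≫ V.ι := fun C => by
    let φ := Spec.preimage (C.1 ≫ a ≫ V.ι)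
    have hφ : CommRingCat.ofHom (algebraMap k (MvPolynomial (Fin n) k)) ≫ φ = CommRingCat.ofHom (algebraMap k K) := by
      apply Spec.map_injective
      rw [Spec.map_comp, Spec.map_preimage, Category.assoc, Category.assoc, ha, C.2]
    exact ⟨{ φ.hom with commutes' := fun r => DFunLike.congr_fun (congrArg CommRingCat.Hom.hom hφ) r },
      Spec.map_preimage _⟩
  obtain ⟨α, hα⟩ := hpt A
  obtain ⟨β, hβ⟩ := hpt B
  let Λ : MvPolynomial (Fin n) k →ₐ[k] K[X] := MvPolynomial.aeval fun i =>
    C (α (MvPolynomial.X i)) + Polynomial.X * C (β (MvPolynomial.X i) - α (MvPolynomial.X i))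
  let L : Spec (CommRingCat.of K[X]) ⟶ Spec (CommRingCat.of (MvPolynomial (Fin n) k)) :=
    Spec.map (CommRingCat.ofHom Λ.toRingHom)
  let c := P1Charts.chart K 0
  let W : (Spec (CommRingCat.of K[X])).Opens := L ⁻¹ᵁ V
  have hev : ∀ (t : K) (γ : MvPolynomial (Fin n) k →ₐ[k] K),
      (∀ i, α (MvPolynomial.X i) + t * (β (MvPolynomial.X i) - α (MvPolynomial.X i)) = γ (MvPolynomial.X i)) →
      Spec.map (CommRingCat.ofHom (evalRingHom t)) ≫ L = Spec.map (CommRingCat.ofHom γ.toRingHom) := by
    intro t γ h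
    rw [← Spec.map_comp]
    congr 1
    ext1
    refine MvPolynomial.ringHom_ext (fun r => ?_) (fun i => ?_)
    · show evalRingHom t (Λ (MvPolynomial.C r)) = γ (MvPolynomial.C r)
      rw [← MvPolynomial.algebraMap_eq, AlgHom.commutes, AlgHom.commutes]
      simp [Polynomial.algebraMap_apply]
    · show evalRingHom t (Λ (MvPolynomial.X i)) = γ (MvPolynomial.X i)
      simp [Λ, h i]
  have hlift : ∀ (t : K) (P : REq.Pts (U.ι ≫ f) K),
      Spec.map (CommRingCat.ofHom (evalRingHom t)) ≫ L = P.1 ≫ a ≫ V.ι →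
      ∃ s : Spec (CommRingCat.of K) ⟶ (c ''ᵁ W : (REq.P1K K).Opens),
        s ≫ (c ''ᵁ W).ι ≫ REq.P1K.toSpec K = 𝟙 _ ∧
        s ≫ (c.isoImage W).inv ≫ (L ∣_ V) ≫ b = P.1 := by
    intro t P h
    let e := Spec.map (CommRingCat.ofHom (evalRingHom t))
    have hr : Set.range e ⊆ Set.range W.ι := by
      rw [Scheme.Opens.range_ι]
      rintro _ ⟨y, rfl⟩
      show L (e y) ∈ V
      rw [← Scheme.Hom.comp_apply, h]
      exact ((P.1 ≫ a) y).2
    refine ⟨IsOpenImmersion.lift W.ι e hr ≫ (c.isoImage W).hom, ?_, ?_⟩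
    · rw [Category.assoc, Scheme.Hom.isoImage_hom_ι_assoc, IsOpenImmersion.lift_fac_assoc]
      change e ≫ c ≫ CohB1.ProjSpaceOver.toBase 1 _ = 𝟙 _
      rw [P1Charts.chart_toBase, ← Spec.map_comp]
      rw [show CommRingCat.ofHom (C (R := K)) ≫ CommRingCat.ofHom (evalRingHom t) = 𝟙 _ by ext r; simp,
        Spec.map_id]
    · rw [Category.assoc, Iso.hom_inv_id_assoc]
      have h1 : IsOpenImmersion.lift W.ι e hr ≫ (L ∣_ V) = P.1 ≫ a := by
        rw [← cancel_mono V.ι, Category.assoc, morphismRestrict_ι, IsOpenImmersion.lift_fac_assoc, h,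
          Category.assoc]
      rw [reassoc_of% h1, hab, Category.comp_id]
  obtain ⟨s, hs, hs'⟩ := hlift 0 A ((hev 0 α (fun i => by simp)).trans hα)
  obtain ⟨s', ht, ht'⟩ := hlift 1 B ((hev 1 β (fun i => by simp)).trans hβ)
  refine ⟨c ''ᵁ W, (c.isoImage W).inv ≫ (L ∣_ V) ≫ b, s, s', ?_, hs, ht, hs', ht'⟩
  rw [Category.assoc, Category.assoc, hb, Iso.inv_comp_eq, Scheme.Hom.isoImage_hom_ι_assoc,
    morphismRestrict_ι_assoc]
  congr 1
  change L ≫ _ = c ≫ CohB1.ProjSpaceOver.toBase 1 _ ≫ _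
  rw [reassoc_of% (P1Charts.chart_toBase K 0), ← Spec.map_comp, ← Spec.map_comp]
  congr 1
  refine CommRingCat.hom_ext (RingHom.ext fun r => ?_)
  show Λ (algebraMap k _ r) = C (algebraMap k K r)
  rw [AlgHom.commutes]
  rfl

/-- Let X be an integral separated scheme of finite type over a field k which is retract rational over
k. Then there is a non-empty open subscheme U of X such that, for every field K containing k, any
two K-points of U are directly R-linked in U: some open subscheme of the projective line over K maps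
to U over k and hits both points at K-rational points. (Fields K are taken in the universe of k;
retract rationality is stated with an open subscheme of an affine space, which for irreducible X is
the same as with an open subscheme of a projective space.) -/
theorem result (k : Type u) [Field k] (X : Scheme.{u})
    (f : X ⟶ Spec (CommRingCat.of k)) [IsIntegral X] [LocallyOfFiniteType f] [QuasiCompact f]
    [IsSeparated f] (hX : REq.IsRetractRational f) :
    ∃ U : X.Opens, (U : Set X).Nonempty ∧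
      ∀ (K : Type u) [Field K] [Algebra k K] (A B : REq.Pts (U.ι ≫ f) K),
        REq.ElemLink (U.ι ≫ f) K A B := by
  obtain ⟨U, n, V, a, b, hne, hab, ha, hb⟩ := hX
  refine ⟨U, hne, fun K _ _ A B => ?_⟩
  exact link U V a b hab ha hb A B

end Groth.Agent.S18571
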