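import Groth.Statements.S18572
import Groth.Agent.S18571
import Mathlib.Algebra.MvPolynomial.Funext
-- import your own Groth.Agent.* helpers here

set_option autoImplicit false
universe u
open CategoryTheory AlgebraicGeometry
open REq

namespace Groth.Agent.S18572

/-- Let k be an infinite field and X an integral separated scheme of finite type over k which is retract
rational over k. Then X is almost R-trivial over k: there is a dense open subscheme U of X such
that, for every field K containing k (in the universe of k), U has a K-point and any two K-points of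
X lying in U are R-equivalent on X. -/
theorem result (k : Type u) [Field k] [Infinite k] (X : Scheme.{u})
    (f : X ⟶ Spec (CommRingCat.of k)) [IsIntegral X] [LocallyOfFiniteType f] [QuasiCompact f]
    [IsSeparated f] (hX : REq.IsRetractRational f) :
    REq.IsAlmostRTrivial f := by
  obtain ⟨U, hUne, hU⟩ := Groth.Agent.S18571.result k X f hX
  obtain ⟨U₀, n, V, a, b, hne, hab, ha, hb⟩ := hX
  refine ⟨U, U.2.dense hUne, fun K _ _ => ⟨?_, fun A B hA hB => ?_⟩⟩
  · obtain ⟨z, hzU, hz0⟩ := nonempty_preirreducible_inter U.2 U₀.2 hUne hne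
    let O := (b ≫ U₀.ι) ⁻¹ᵁ U
    have hO : a ⟨z, hz0⟩ ∈ O := by
      show (a ≫ b ≫ U₀.ι) _ ∈ U
      rw [reassoc_of% hab]
      exact hzU
    obtain ⟨_, ⟨g, rfl⟩, hpg, hgO⟩ := PrimeSpectrum.isTopologicalBasis_basic_opens.exists_subset_of_mem_open
      (show (V.ι (a ⟨z, hz0⟩)) ∈ ((V.ι ''ᵁ O : (Spec (CommRingCat.of (MvPolynomial (Fin n) k))).Opens) : Set _)
        from ⟨_, hO, rfl⟩) (V.ι ''ᵁ O).2
    have hg0 : g ≠ 0 := fun h => hpg (by rw [h]; exact zero_mem _)
    obtain ⟨x, hx⟩ : ∃ x : Fin n → k, MvPolynomial.eval x g ≠ 0 := by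
      by_contra! h
      exact hg0 (MvPolynomial.funext (fun x => by rw [h x, map_zero]))
    let e := Spec.map (CommRingCat.ofHom ((algebraMap k K).comp (MvPolynomial.eval x)))
    have he : ∀ y, e y ∈ V.ι ''ᵁ O := fun y => hgO (fun hmem => hx (by
      change algebraMap k K (MvPolynomial.eval x g) ∈ (y : PrimeSpectrum K).asIdeal at hmem
      rw [Ideal.IsPrime.ne_top' |> fun h => ((y : PrimeSpectrum K).asIdeal.eq_bot_or_top).resolve_right h,
        Ideal.mem_bot] at hmem
      exact (map_eq_zero _).1 hmem))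
    have hr : Set.range e ⊆ Set.range V.ι := by
      rw [Scheme.Opens.range_ι]
      rintro _ ⟨y, rfl⟩
      obtain ⟨o, -, ho⟩ := he y
      rw [← ho]
      exact o.2
    refine ⟨⟨IsOpenImmersion.lift V.ι e hr ≫ b ≫ U₀.ι, ?_⟩, ?_⟩
    · simp only [Category.assoc]
      rw [hb, IsOpenImmersion.lift_fac_assoc, ← Spec.map_comp, REq.specMap]
      congr 1
      ext r
      simp
    · rintro _ ⟨y, rfl⟩
      obtain ⟨o, ho, hoy⟩ := he y
      have : IsOpenImmersion.lift V.ι e hr y = o := V.ι.isOpenEmbedding.injective (by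
        rw [← Scheme.Hom.comp_apply, IsOpenImmersion.lift_fac]; exact hoy.symm)
      show (b ≫ U₀.ι) (IsOpenImmersion.lift V.ι e hr y) ∈ U
      rw [this]
      exact ho
  · have key : ∀ C : REq.Pts f K, REq.InOpen f U C → ∃ C' : REq.Pts (U.ι ≫ f) K, C'.1 ≫ U.ι = C.1 :=
      fun C hC => ⟨⟨IsOpenImmersion.lift U.ι C.1 (by rwa [Scheme.Opens.range_ι]), by
        rw [IsOpenImmersion.lift_fac_assoc, C.2]⟩, IsOpenImmersion.lift_fac _ _ _⟩
    obtain ⟨A', hA'⟩ := key A hA
    obtain ⟨B', hB'⟩ := key B hB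
    obtain ⟨W, h, s, t, h1, h2, h3, h4, h5⟩ := hU K A' B'
    exact Relation.EqvGen.rel _ _ ⟨W, h ≫ U.ι, s, t, by rw [Category.assoc, h1], h2, h3,
      by rw [← Category.assoc, h4, hA'], by rw [← Category.assoc, h5, hB']⟩

end Groth.Agent.S18572
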