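import Groth.Statements.S18573
import Groth.Agent.H23.P1Charts
-- import your own Groth.Agent.* helpers here

set_option autoImplicit false
universe u
open CategoryTheory AlgebraicGeometry
open REq

namespace Groth.Agent.S18573

/-- Let Y be a scheme over a field k and K a field containing k. Let V and W be closed subsets of Y with
V ∪ W = Y such that no K-point of Y has its image in V ∩ W. If p is a K-point of Y lying in V and q
a K-point of Y lying in W, then p and q are not R-equivalent on Y. (The published step concerns
k-points of the special fibre of a proper flat scheme over a discrete valuation ring, that is K = k;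
this row is stated for any scheme Y over k and K-points for any field K containing k.) -/
theorem result (k : Type u) [Field k] (Y : Scheme.{u})
    (g : Y ⟶ Spec (CommRingCat.of k)) (K : Type u) [Field K] [Algebra k K]
    (V W : Set Y) (hV : IsClosed V) (hW : IsClosed W) (hVW : V ∪ W = Set.univ)
    (hT : ∀ z : REq.Pts g K, ¬ (Set.range z.1.base ⊆ V ∩ W))
    (p q : REq.Pts g K) (hp : Set.range p.1.base ⊆ V) (hq : Set.range q.1.base ⊆ W) :
    ¬ REq.REquiv g K p q := by
  have key : ∀ A B : REq.Pts g K, REq.REquiv g K A B → (Set.range A.1.base ⊆ V ↔ Set.range B.1.base ⊆ V) := by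
    intro A B hAB
    induction hAB with
    | rel A B h =>
      obtain ⟨U, h, a, b, -, -, -, ha, hb⟩ := h
      have : AlgebraicGeometry.IsIntegral (REq.P1K K) := inferInstanceAs (AlgebraicGeometry.IsIntegral (CohB1.ProjSpaceOver 1 (Spec (CommRingCat.of K))))
      have hirr : IsPreirreducible (Set.range h.base) := by
        have : Nonempty U := ⟨a (IsLocalRing.closedPoint K)⟩
        have : AlgebraicGeometry.IsIntegral (U : Scheme.{u}) := isIntegral_of_isOpenImmersion U.ι
        rw [← Set.image_univ]
        exact ((IrreducibleSpace.isIrreducible_univ _).image _ h.continuous.continuousOn).2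
      have hsub : Set.range h.base ⊆ V ∨ Set.range h.base ⊆ W :=
        isPreirreducible_iff_isClosed_union_isClosed.1 hirr V W hV hW (by rw [hVW]; exact Set.subset_univ _)
      have hA : Set.range A.1.base ⊆ Set.range h.base := by
        rw [← ha]; rintro _ ⟨y, rfl⟩; exact ⟨_, rfl⟩
      have hB : Set.range B.1.base ⊆ Set.range h.base := by
        rw [← hb]; rintro _ ⟨y, rfl⟩; exact ⟨_, rfl⟩
      rcases hsub with h' | h'
      · exact iff_of_true (hA.trans h') (hB.trans h')
      · exact iff_of_false (fun hc => hT A (Set.subset_inter hc (hA.trans h')))
          (fun hc => hT B (Set.subset_inter hc (hB.trans h')))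
    | refl A => rfl
    | symm A B _ ih => exact ih.symm
    | trans A B C _ _ ih₁ ih₂ => exact ih₁.trans ih₂
  intro h
  exact hT q (Set.subset_inter ((key p q h).1 hp) hq)

end Groth.Agent.S18573
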