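import Groth.Statements.S18574
import Groth.Agent.H23.RatExtend
-- import your own Groth.Agent.* helpers here

set_option autoImplicit false
universe u v
open CategoryTheory AlgebraicGeometry
open REq

namespace Groth.Agent.S18574

open CategoryTheory.Limits Groth.Agent.H23

variable {R : Type u} [CommRing R] [IsDomain R]

/-- The generic point of Spec R. -/
noncomputable abbrev η₀ (R : Type u) [CommRing R] [IsDomain R] : ↥(Spec (CommRingCat.of R)) :=
  genericPoint (Spec (CommRingCat.of R))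

/-- The function field. -/
noncomputable abbrev FF (R : Type u) [CommRing R] [IsDomain R] : Type u :=
  ↥((Spec (CommRingCat.of R)).functionField)

/-- Its point. -/
noncomputable abbrev gen (R : Type u) [CommRing R] [IsDomain R] :
    Spec (CommRingCat.of (FF R)) ⟶ Spec (CommRingCat.of R) :=
  (Spec (CommRingCat.of R)).fromSpecStalk (η₀ R)

theorem mem_of_nonempty (W : (Spec (CommRingCat.of R)).Opens) (h : (W : Set (Spec (CommRingCat.of R))).Nonempty) :
    η₀ R ∈ W := RatExtend.genericPoint_mem W h.choose_spec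

variable {k : Type u} [Field k] {X : Scheme.{u}} (f : X ⟶ Spec (CommRingCat.of k))
  (str : Spec (CommRingCat.of R) ⟶ Spec (CommRingCat.of k))

/-- Two points of the function field extend to maps with the same effect on Φ. -/
def Rel (Φ : (Over (Spec (CommRingCat.of k)))ᵒᵖ ⥤ Type v) (A B : Spec (CommRingCat.of (FF R)) ⟶ X) : Prop :=
  ∃ (W : (Spec (CommRingCat.of R)).Opens) (hW : η₀ R ∈ W) (a b : W.toScheme ⟶ X)
    (ha : a ≫ f = W.ι ≫ str) (hb : b ≫ f = W.ι ≫ str),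
    W.fromSpecStalkOfMem (η₀ R) hW ≫ a = A ∧ W.fromSpecStalkOfMem (η₀ R) hW ≫ b = B ∧
    ∀ x, Φ.map (Over.homMk a ha : Over.mk (W.ι ≫ str) ⟶ Over.mk f).op x =
      Φ.map (Over.homMk b hb : Over.mk (W.ι ≫ str) ⟶ Over.mk f).op x

variable {f str} {Φ : (Over (Spec (CommRingCat.of k)))ᵒᵖ ⥤ Type v}

theorem gen_homOfLE (W W' : (Spec (CommRingCat.of R)).Opens) (hle : W' ≤ W) (hW : η₀ R ∈ W) (hW' : η₀ R ∈ W') :
    W'.fromSpecStalkOfMem (η₀ R) hW' ≫ (Spec (CommRingCat.of R)).homOfLE hle =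
      W.fromSpecStalkOfMem (η₀ R) hW := by
  rw [← cancel_mono W.ι, Category.assoc, Scheme.homOfLE_ι, Scheme.Opens.fromSpecStalkOfMem_ι,
    Scheme.Opens.fromSpecStalkOfMem_ι]

theorem map_restrict (W W' : (Spec (CommRingCat.of R)).Opens) (hle : W' ≤ W) {a : W.toScheme ⟶ X}
    {ha : a ≫ f = W.ι ≫ str} {a' : W'.toScheme ⟶ X} {ha' : a' ≫ f = W'.ι ≫ str}
    (h : (Spec (CommRingCat.of R)).homOfLE hle ≫ a = a') (x : Φ.obj (Opposite.op (Over.mk f))) :
    Φ.map (Over.homMk a' ha' : Over.mk (W'.ι ≫ str) ⟶ Over.mk f).op x =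
      Φ.map (Over.homMk ((Spec (CommRingCat.of R)).homOfLE hle) (Scheme.homOfLE_ι_assoc _ hle str) :
          Over.mk (W'.ι ≫ str) ⟶ Over.mk (W.ι ≫ str)).op
        (Φ.map (Over.homMk a ha : Over.mk (W.ι ≫ str) ⟶ Over.mk f).op x) := by
  have e : (Over.homMk ((Spec (CommRingCat.of R)).homOfLE hle) (Scheme.homOfLE_ι_assoc _ hle str) :
          Over.mk (W'.ι ≫ str) ⟶ Over.mk (W.ι ≫ str)) ≫
      (Over.homMk a ha : Over.mk (W.ι ≫ str) ⟶ Over.mk f) = Over.homMk a' ha' := Over.OverMorphism.ext h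
  rw [← e, op_comp, Functor.map_comp]
  rfl

theorem eq_of_gen [X.IsSeparated] (W : (Spec (CommRingCat.of R)).Opens) (hW : η₀ R ∈ W)
    {a a' : W.toScheme ⟶ X} (h : W.fromSpecStalkOfMem (η₀ R) hW ≫ a = W.fromSpecStalkOfMem (η₀ R) hW ≫ a') :
    a = a' :=
  have := RatExtend.isDominant_fromSpecStalkOfMem W hW
  ext_of_isDominant (W.fromSpecStalkOfMem (η₀ R) hW) h

theorem Rel.trans [X.IsSeparated] {A B C : Spec (CommRingCat.of (FF R)) ⟶ X} (h₁ : Rel f str Φ A B)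
    (h₂ : Rel f str Φ B C) : Rel f str Φ A C := by
  obtain ⟨W₁, hW₁, a, b, ha, hb, hA, hB, he₁⟩ := h₁
  obtain ⟨W₂, hW₂, b', c, hb', hc, hB', hC, he₂⟩ := h₂
  have hW : η₀ R ∈ W₁ ⊓ W₂ := ⟨hW₁, hW₂⟩
  refine ⟨W₁ ⊓ W₂, hW, (Spec (CommRingCat.of R)).homOfLE inf_le_left ≫ a,
    (Spec (CommRingCat.of R)).homOfLE inf_le_right ≫ c, ?_, ?_, ?_, ?_, fun x => ?_⟩
  · rw [Category.assoc, ha, Scheme.homOfLE_ι_assoc]
  · rw [Category.assoc, hc, Scheme.homOfLE_ι_assoc]
  · rw [← Category.assoc, gen_homOfLE _ _ _ hW₁, hA]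
  · rw [← Category.assoc, gen_homOfLE _ _ _ hW₂, hC]
  · have hbb : (Spec (CommRingCat.of R)).homOfLE (inf_le_right : W₁ ⊓ W₂ ≤ W₂) ≫ b' =
        (Spec (CommRingCat.of R)).homOfLE (inf_le_left : W₁ ⊓ W₂ ≤ W₁) ≫ b :=
      eq_of_gen _ hW (by rw [← Category.assoc, gen_homOfLE _ _ _ hW₂, hB', ← Category.assoc,
        gen_homOfLE _ _ _ hW₁, hB])
    rw [map_restrict W₁ _ inf_le_left (a := a) (ha := ha) rfl, he₁,
      map_restrict W₂ _ inf_le_right (a := c) (ha := hc) rfl, ← he₂,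
      ← map_restrict W₁ _ inf_le_left (ha' := by rw [Category.assoc, hb, Scheme.homOfLE_ι_assoc]) rfl,
      ← map_restrict W₂ _ inf_le_right hbb]

/-- A map from a point spreads to an open. -/
theorem spread {Y S : Scheme.{u}} [Y.IsSeparated] [S.IsSeparated] (sR : Spec (CommRingCat.of R) ⟶ S) (sY : Y ⟶ S)
    [LocallyOfFiniteType sY] (A : Spec (CommRingCat.of (FF R)) ⟶ Y) (hA : A ≫ sY = gen R ≫ sR) :
    ∃ (W : (Spec (CommRingCat.of R)).Opens) (hW : η₀ R ∈ W) (a : W.toScheme ⟶ Y),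
      a ≫ sY = W.ι ≫ sR ∧ W.fromSpecStalkOfMem (η₀ R) hW ≫ a = A := by
  obtain ⟨W, hW, H, -, h₁, h₂⟩ := RatExtend.extend sR sY A hA ∅ (fun p hp => hp.elim)
  exact ⟨W, hW, H, h₁, h₂⟩

/-- A directly linked pair is related. -/
theorem rel_of_link [IsProper f] [Smooth str] [IsNoetherianRing R]
    (hΦ : ∀ (Y : Scheme.{u}) (g : Y ⟶ Spec (CommRingCat.of k)) [IsIntegral Y] [Smooth g]
      [IsSeparated g] [QuasiCompact g],
      Function.Bijective (Φ.map (Over.homMk (CohB1.ProjSpaceOver.toBase 1 Y) rfl :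
        Over.mk (CohB1.ProjSpaceOver.toBase 1 Y ≫ g) ⟶ Over.mk g).op))
    (A B : Spec (CommRingCat.of (FF R)) ⟶ X)
    (U : (P1K (FF R)).Opens) (h : (U : Scheme.{u}) ⟶ X) (a b : Spec (CommRingCat.of (FF R)) ⟶ (U : Scheme.{u}))
    (hh : h ≫ f = U.ι ≫ P1K.toSpec (FF R) ≫ gen R ≫ str)
    (ha : a ≫ U.ι ≫ P1K.toSpec (FF R) = 𝟙 _) (hb : b ≫ U.ι ≫ P1K.toSpec (FF R) = 𝟙 _)
    (hA : a ≫ h = A) (hB : b ≫ h = B) : Rel f str Φ A B := by
  have : X.IsSeparated := by
    constructor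
    rw [Limits.terminal.hom_ext (Limits.terminal.from X) (f ≫ Limits.terminal.from _)]
    infer_instance
  let Q : Scheme.{u} := P1K (FF R)
  let P : Scheme.{u} := CohB1.ProjSpaceOver 1 (Spec (CommRingCat.of R))
  have : IsIntegral Q :=
    inferInstanceAs (IsIntegral (CohB1.ProjSpaceOver 1 (Spec (CommRingCat.of (FF R)))))
  let π : Q ⟶ P := P1.toP1 (gen R)
  have hpb := RatExtend.toP1_isPullback (gen R)
  have : IsPreimmersion (gen R) := inferInstance
  have : IsPreimmersion π := MorphismProperty.of_isPullback hpb.flip inferInstance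
  have : Flat (gen R) := RatExtend.flat_fromSpecStalk _ _
  have : Flat π := MorphismProperty.of_isPullback hpb.flip inferInstance
  have hbase : ∀ q : Q, CohB1.ProjSpaceOver.toBase 1 _ (π q) = η₀ R := fun q => by
    refine (congrArg (fun φ => φ q) hpb.w).trans ?_
    obtain ⟨y, hy⟩ : gen R (P1K.toSpec (FF R) q) ∈ Set.range (gen R) := ⟨_, rfl⟩
    rw [Scheme.Hom.comp_apply]
    refine Eq.trans ?_ (Scheme.fromSpecStalk_closedPoint (x := η₀ R))
    exact congrArg (gen R) (@Subsingleton.elim _ (inferInstanceAs (Subsingleton (PrimeSpectrum (FF R)))) _ _)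
  have hrange : ∀ p : P, CohB1.ProjSpaceOver.toBase 1 _ p = η₀ R → p ∈ Set.range π := fun p hp => by
    obtain ⟨q, hq, -⟩ := Scheme.Pullback.exists_preimage_pullback p
      (IsLocalRing.closedPoint (FF R)) (f := CohB1.ProjSpaceOver.toBase 1 (Spec (CommRingCat.of R))) (g := gen R)
      (hp.trans (Scheme.fromSpecStalk_closedPoint (x := η₀ R)).symm)
    refine ⟨hpb.isoPullback.inv q, ?_⟩
    rw [← hq, ← hpb.isoPullback_inv_fst]
    rfl
  have hgen : π (genericPoint Q) = genericPoint P := by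
    let gP := genericPoint P
    have h1 : CohB1.ProjSpaceOver.toBase 1 _ gP = η₀ R := by
      have h2 := (genericPoint_specializes (π (genericPoint Q))).map
        (CohB1.ProjSpaceOver.toBase 1 (Spec (CommRingCat.of R))).continuous
      rw [hbase] at h2
      exact h2.antisymm (genericPoint_specializes _) |>.eq
    obtain ⟨q, hq⟩ := hrange gP h1
    have h3 : π (genericPoint Q) ⤳ gP := hq ▸ (genericPoint_specializes q).map π.continuous
    exact (h3.antisymm (genericPoint_specializes _)).eq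
  -- extend over the projective line of the function field
  have hag : genericPoint Q ∈ U := RatExtend.genericPoint_mem U (a (IsLocalRing.closedPoint (FF R))).2
  let sQ : Q ⟶ Spec (CommRingCat.of k) := π ≫ CohB1.ProjSpaceOver.toBase 1 _ ≫ str
  have hsQ : sQ = P1K.toSpec (FF R) ≫ gen R ≫ str := by
    simp only [sQ, π, ← Category.assoc]
    rw [hpb.w]
  let φQ : Spec (Q.presheaf.stalk (genericPoint Q)) ⟶ X := U.fromSpecStalkOfMem _ hag ≫ h
  have hφQ : φQ ≫ f = Q.fromSpecStalk _ ≫ sQ := by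
    simp only [φQ, Category.assoc, hh, hsQ]
    rw [Scheme.Opens.fromSpecStalkOfMem_ι_assoc]
  obtain ⟨W₀, hgW₀, H₀, hT₀, hH₀, hH₀'⟩ := RatExtend.extend sQ f φQ hφQ Set.univ (fun q _ =>
    RatExtend.exists_lift sQ f φQ hφQ q (RatExtend.valuationRing_stalk (FF R) q))
  have htop : W₀ = ⊤ := top_le_iff.1 (fun q _ => hT₀ (Set.mem_univ q))
  subst htop
  let g : Q ⟶ X := Q.topIso.inv ≫ H₀
  have hg : g ≫ f = π ≫ CohB1.ProjSpaceOver.toBase 1 _ ≫ str := by
    simp only [g, Category.assoc, hH₀]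
    rw [← Scheme.topIso_hom, Iso.inv_hom_id_assoc]
  have hgh : U.ι ≫ g = h := by
    have := RatExtend.isDominant_fromSpecStalkOfMem U hag
    refine ext_of_isDominant (U.fromSpecStalkOfMem _ hag) ?_
    refine Eq.trans ?_ hH₀'
    rw [Scheme.Opens.fromSpecStalkOfMem_ι_assoc]
    simp only [g, ← Category.assoc]
    congr 1
    rw [Iso.comp_inv_eq, Scheme.topIso_hom, Scheme.Opens.fromSpecStalkOfMem_ι]
  obtain ⟨Ω, H, hΩ, hH, hHg⟩ := RatExtend.exists_spread (CohB1.ProjSpaceOver.toBase 1 _ ≫ str) f π hgen g hg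
  -- the base open over which the whole line lies in Ω
  let C : Set (Spec (CommRingCat.of R)) :=
    CohB1.ProjSpaceOver.toBase 1 (Spec (CommRingCat.of R)) '' (Ω : Set P)ᶜ
  have hC : IsClosed C := (CohB1.ProjSpaceOver.toBase 1 _).isClosedMap _ Ω.2.isClosed_compl
  let WC : (Spec (CommRingCat.of R)).Opens := ⟨Cᶜ, hC.isOpen_compl⟩
  have hWC : η₀ R ∈ WC := by
    rintro ⟨p, hp, hpη⟩
    exact hp (hΩ (hrange p hpη))
  -- spread out the sections
  have : IsProper (CohB1.ProjSpace.toSpec 1 (ULift.{u} ℤ)) := P1Charts.isProper_toSpec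
  have : (CohB1.ProjSpace 1 (ULift.{u} ℤ)).IsSeparated := by
    constructor
    rw [Limits.terminal.hom_ext (Limits.terminal.from _)
      (CohB1.ProjSpace.toSpec 1 (ULift.{u} ℤ) ≫ Limits.terminal.from _)]
    infer_instance
  have hsec : ∀ a : Spec (CommRingCat.of (FF R)) ⟶ (U : Scheme.{u}),
      ∃ (W : (Spec (CommRingCat.of R)).Opens) (hW : η₀ R ∈ W) (c : W.toScheme ⟶ CohB1.ProjSpace 1 (ULift.{u} ℤ)),
        W.fromSpecStalkOfMem (η₀ R) hW ≫ c = a ≫ U.ι ≫ π ≫ pullback.fst _ _ := fun a => by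
    obtain ⟨W, hW, c, -, hc⟩ := spread (specULiftZIsTerminal.from _) (CohB1.ProjSpace.toSpec 1 (ULift.{u} ℤ))
      (a ≫ U.ι ≫ π ≫ pullback.fst _ _) (specULiftZIsTerminal.hom_ext _ _)
    exact ⟨W, hW, c, hc⟩
  obtain ⟨Wa, hWa, ca, hca⟩ := hsec a
  obtain ⟨Wb, hWb, cb, hcb⟩ := hsec b
  let W := WC ⊓ (Wa ⊓ Wb)
  have hW : η₀ R ∈ W := ⟨hWC, hWa, hWb⟩
  have : Nonempty W := ⟨⟨η₀ R, hW⟩⟩
  have : IsIntegral W.toScheme := isIntegral_of_isOpenImmersion W.ι
  have hpW := RatExtend.toP1_isPullback W.ι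
  have hl : Set.range (P1.toP1 W.ι) ⊆ Set.range Ω.ι := by
    rw [Scheme.Opens.range_ι]
    rintro _ ⟨y, rfl⟩
    by_contra hy
    have h1 : CohB1.ProjSpaceOver.toBase 1 _ (P1.toP1 W.ι y) ∈ C := ⟨_, hy, rfl⟩
    have h2 := congrArg (fun φ => φ y) hpW.w
    simp only [Scheme.Hom.comp_apply] at h2
    rw [h2] at h1
    exact (CohB1.ProjSpaceOver.toBase 1 W.toScheme y).2.1 h1
  let HW := IsOpenImmersion.lift Ω.ι (P1.toP1 W.ι) hl ≫ H
  have hHW : HW ≫ f = CohB1.ProjSpaceOver.toBase 1 W.toScheme ≫ W.ι ≫ str := by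
    simp only [HW, Category.assoc, hH, IsOpenImmersion.lift_fac_assoc]
    rw [← Category.assoc (P1.toP1 W.ι), hpW.w, Category.assoc]
  have hσ : ∀ (a : Spec (CommRingCat.of (FF R)) ⟶ (U : Scheme.{u}))
      (Wa : (Spec (CommRingCat.of R)).Opens) (hWa : η₀ R ∈ Wa) (hle : W ≤ Wa)
      (ca : Wa.toScheme ⟶ CohB1.ProjSpace 1 (ULift.{u} ℤ)),
      Wa.fromSpecStalkOfMem (η₀ R) hWa ≫ ca = a ≫ U.ι ≫ π ≫ pullback.fst _ _ →
      a ≫ U.ι ≫ P1K.toSpec (FF R) = 𝟙 _ →
      ∃ σ : W.toScheme ⟶ CohB1.ProjSpaceOver 1 W.toScheme, σ ≫ CohB1.ProjSpaceOver.toBase 1 _ = 𝟙 _ ∧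
        W.fromSpecStalkOfMem (η₀ R) hW ≫ σ ≫ HW = a ≫ h := by
    intro a Wa hWa hle ca hca ha
    let σ : W.toScheme ⟶ CohB1.ProjSpaceOver 1 W.toScheme :=
      pullback.lift ((Spec (CommRingCat.of R)).homOfLE hle ≫ ca) (𝟙 _) (specULiftZIsTerminal.hom_ext _ _)
    have hσ1 : σ ≫ CohB1.ProjSpaceOver.toBase 1 _ = 𝟙 _ := pullback.lift_snd _ _ _
    refine ⟨σ, hσ1, ?_⟩
    have key : W.fromSpecStalkOfMem (η₀ R) hW ≫ σ ≫ P1.toP1 W.ι = a ≫ U.ι ≫ π := by
      apply pullback.hom_ext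
      · let fP : CohB1.ProjSpaceOver 1 (Spec (CommRingCat.of R)) ⟶ CohB1.ProjSpace 1 (ULift.{u} ℤ) :=
          pullback.fst _ _
        let fW : CohB1.ProjSpaceOver 1 W.toScheme ⟶ CohB1.ProjSpace 1 (ULift.{u} ℤ) := pullback.fst _ _
        have e1 : P1.toP1 W.ι ≫ fP = fW := (pullback.lift_fst _ _ _).trans (Category.comp_id _)
        have e2 : σ ≫ fW = (Spec (CommRingCat.of R)).homOfLE hle ≫ ca := pullback.lift_fst _ _ _
        change (W.fromSpecStalkOfMem (η₀ R) hW ≫ σ ≫ P1.toP1 W.ι) ≫ fP = (a ≫ U.ι ≫ π) ≫ fP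
        simp only [Category.assoc]
        rw [e1, e2, ← Category.assoc, gen_homOfLE _ _ _ hWa, hca]
      · change (W.fromSpecStalkOfMem (η₀ R) hW ≫ σ ≫ P1.toP1 W.ι) ≫ CohB1.ProjSpaceOver.toBase 1 _ =
          (a ≫ U.ι ≫ π) ≫ CohB1.ProjSpaceOver.toBase 1 _
        simp only [Category.assoc]
        rw [hpW.w, hpb.w, reassoc_of% hσ1, Scheme.Opens.fromSpecStalkOfMem_ι, reassoc_of% ha]
    have := hHg (a ≫ U.ι) (W.fromSpecStalkOfMem (η₀ R) hW ≫ σ ≫ IsOpenImmersion.lift Ω.ι (P1.toP1 W.ι) hl)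
      (by simp only [Category.assoc, IsOpenImmersion.lift_fac]; exact key)
    simp only [Category.assoc, hgh] at this
    exact this
  obtain ⟨σ, hσ1, hσA⟩ := hσ a Wa hWa (inf_le_right.trans inf_le_left) ca hca ha
  obtain ⟨τ, hτ1, hτB⟩ := hσ b Wb hWb (inf_le_right.trans inf_le_right) cb hcb hb
  refine ⟨W, hW, σ ≫ HW, τ ≫ HW, ?_, ?_, hσA.trans hA, hτB.trans hB, fun x => ?_⟩
  · rw [Category.assoc, hHW, reassoc_of% hσ1]
  · rw [Category.assoc, hHW, reassoc_of% hτ1]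
  · have : IsSeparated (W.ι ≫ str) := by
      have : IsSeparated str := by
        rw [← Spec.map_preimage str]; infer_instance
      infer_instance
    have : QuasiCompact (W.ι ≫ str) := by
      have : IsLocallyNoetherian (Spec (CommRingCat.of R)) := inferInstance
      have : IsNoetherian (Spec (CommRingCat.of R)) := { }
      have : QuasiCompact W.ι := inferInstance
      infer_instance
    let g' := W.ι ≫ str
    let p : Over.mk (CohB1.ProjSpaceOver.toBase 1 W.toScheme ≫ g') ⟶ Over.mk g' :=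
      Over.homMk (CohB1.ProjSpaceOver.toBase 1 W.toScheme) rfl
    let H' : Over.mk (CohB1.ProjSpaceOver.toBase 1 W.toScheme ≫ g') ⟶ Over.mk f := Over.homMk HW hHW
    obtain ⟨z, hz⟩ := (hΦ W.toScheme g').2 (Φ.map H'.op x)
    have key : ∀ (σ : W.toScheme ⟶ CohB1.ProjSpaceOver 1 W.toScheme)
        (hσ : σ ≫ CohB1.ProjSpaceOver.toBase 1 _ = 𝟙 _) (h' : (σ ≫ HW) ≫ f = g'),
        Φ.map (Over.homMk (σ ≫ HW) h' : Over.mk g' ⟶ Over.mk f).op x = z := by
      intro σ hσ h'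
      let σ' : Over.mk g' ⟶ Over.mk (CohB1.ProjSpaceOver.toBase 1 W.toScheme ≫ g') :=
        Over.homMk σ (by show σ ≫ _ ≫ g' = g'; rw [reassoc_of% hσ])
      have e : (Over.homMk (σ ≫ HW) h' : Over.mk g' ⟶ Over.mk f) = σ' ≫ H' := Over.OverMorphism.ext rfl
      have e' : σ' ≫ p = 𝟙 _ := Over.OverMorphism.ext hσ
      rw [e, op_comp, Functor.map_comp]
      show Φ.map σ'.op (Φ.map H'.op x) = z
      rw [← hz]
      show (Φ.map p.op ≫ Φ.map σ'.op) z = z
      rw [← Functor.map_comp, ← op_comp, e', op_id, Φ.map_id]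
      rfl
    rw [key σ hσ1, key τ hτ1]

theorem core (k : Type u) [Field k]
    (Φ : (Over (Spec (CommRingCat.of k)))ᵒᵖ ⥤ Type v)
    (hΦ : ∀ (Y : Scheme.{u}) (g : Y ⟶ Spec (CommRingCat.of k)) [IsIntegral Y] [Smooth g]
      [IsSeparated g] [QuasiCompact g],
      Function.Bijective (Φ.map (Over.homMk (CohB1.ProjSpaceOver.toBase 1 Y) rfl :
        Over.mk (CohB1.ProjSpaceOver.toBase 1 Y ≫ g) ⟶ Over.mk g).op))
    (X : Scheme.{u}) (f : X ⟶ Spec (CommRingCat.of k)) [IsIntegral X] [IsProper f]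
    (hR : REq.IsAlmostRTrivial f) (R : Type u) [CommRing R] [IsDomain R]
    (j : Spec (CommRingCat.of R) ⟶ X) [IsOpenImmersion j] [Smooth (j ≫ f)] :
    ∃ U : X.Opens, (U : Set X).Nonempty ∧ Smooth (U.ι ≫ f) ∧
      Set.range (Φ.map (Over.homMk U.ι rfl : Over.mk (U.ι ≫ f) ⟶ Over.mk f).op) =
        Set.range (Φ.map (Over.homMk (U.ι ≫ f) (Category.comp_id _) :
          Over.mk (U.ι ≫ f) ⟶ Over.mk (𝟙 (Spec (CommRingCat.of k)))).op) := by
  have : X.IsSeparated := by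
    constructor
    rw [Limits.terminal.hom_ext (Limits.terminal.from X) (f ≫ Limits.terminal.from _)]
    infer_instance
  let str := j ≫ f
  have : IsNoetherianRing R := by
    have : IsLocallyNoetherian (Spec (CommRingCat.of R)) := LocallyOfFiniteType.isLocallyNoetherian str
    exact isLocallyNoetherian_Spec.1 this
  let : Algebra k (FF R) := (Spec.preimage (gen R ≫ str)).hom.toAlgebra
  have hspec : specMap k (FF R) = gen R ≫ str := Spec.map_preimage _
  obtain ⟨U₀, hU₀, hU₀R⟩ := hR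
  obtain ⟨⟨x₀, hx₀'⟩, -⟩ := hU₀R k
  obtain ⟨hne, heq⟩ := hU₀R (FF R)
  have hx₀ : x₀.1 ≫ f = 𝟙 _ := by rw [x₀.2]; simp [specMap]
  let A : Pts f (FF R) := ⟨gen R ≫ j, by rw [Category.assoc, hspec]⟩
  let B : Pts f (FF R) := ⟨gen R ≫ str ≫ x₀.1, by simp only [Category.assoc, hx₀, hspec, Category.comp_id]⟩
  have hA : InOpen f U₀ A := by
    rintro _ ⟨y, rfl⟩
    have hy : A.1 y = genericPoint X := by
      rw [show y = IsLocalRing.closedPoint (FF R) from
        @Subsingleton.elim _ (inferInstanceAs (Subsingleton (PrimeSpectrum (FF R)))) _ _]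
      show j (gen R _) = _
      rw [show gen R (IsLocalRing.closedPoint (FF R)) = η₀ R from Scheme.fromSpecStalk_closedPoint]
      exact genericPoint_eq_of_isOpenImmersion j
    show A.1 y ∈ U₀
    rw [hy]
    exact RatExtend.genericPoint_mem U₀ hU₀.nonempty.choose_spec
  have hB : InOpen f U₀ B := by
    rintro _ ⟨y, rfl⟩
    exact hx₀' ⟨_, rfl⟩
  have hrefl : ∀ C : Pts f (FF R), Rel f str Φ C.1 C.1 := fun C => by
    obtain ⟨W, hW, c, hc, hc'⟩ := spread str f C.1 (C.2.trans hspec)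
    exact ⟨W, hW, c, c, hc, hc, hc', hc', fun _ => rfl⟩
  have hrel : ∀ C D : Pts f (FF R), REquiv f (FF R) C D → Rel f str Φ C.1 D.1 := by
    intro C D h
    induction h with
    | rel C D h =>
      obtain ⟨U, φ, a, b, h1, h2, h3, h4, h5⟩ := h
      exact rel_of_link hΦ C.1 D.1 U φ a b (by rw [h1, hspec]) h2 h3 h4 h5
    | refl C => exact hrefl C
    | symm C D _ ih =>
      obtain ⟨W, hW, a, b, ha, hb, h1, h2, he⟩ := ih
      exact ⟨W, hW, b, a, hb, ha, h2, h1, fun x => (he x).symm⟩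
    | trans C D E _ _ ih₁ ih₂ => exact ih₁.trans ih₂
  obtain ⟨W, hW, a, b, ha, hb, haA, hbB, he⟩ := hrel A B (heq A B hA hB)
  have ea : a = W.ι ≫ j := eq_of_gen W hW (by rw [haA, Scheme.Opens.fromSpecStalkOfMem_ι_assoc])
  have eb : b = W.ι ≫ str ≫ x₀.1 := eq_of_gen W hW (by rw [hbB, Scheme.Opens.fromSpecStalkOfMem_ι_assoc])
  refine ⟨j ''ᵁ W, ⟨_, ⟨η₀ R, hW, rfl⟩⟩, ?_, ?_⟩
  · have : (j ''ᵁ W).ι ≫ f = (j.isoImage W).inv ≫ W.ι ≫ str := by
      rw [Iso.eq_inv_comp, Scheme.Hom.isoImage_hom_ι_assoc]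
    rw [this]
    infer_instance
  · let V := j ''ᵁ W
    let i : Over.mk (V.ι ≫ f) ⟶ Over.mk (W.ι ≫ str) := Over.homMk (j.isoImage W).inv (by
      show _ ≫ W.ι ≫ str = V.ι ≫ f
      rw [Iso.inv_comp_eq, Scheme.Hom.isoImage_hom_ι_assoc])
    let c : Over.mk (𝟙 (Spec (CommRingCat.of k))) ⟶ Over.mk f := Over.homMk x₀.1 hx₀
    let π₀ : Over.mk f ⟶ Over.mk (𝟙 (Spec (CommRingCat.of k))) := Over.homMk f (Category.comp_id _)
    let ι' : Over.mk (V.ι ≫ f) ⟶ Over.mk f := Over.homMk V.ι rfl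
    let q : Over.mk (V.ι ≫ f) ⟶ Over.mk (𝟙 (Spec (CommRingCat.of k))) :=
      Over.homMk (V.ι ≫ f) (Category.comp_id _)
    have e1 : i ≫ (Over.homMk a ha : Over.mk (W.ι ≫ str) ⟶ Over.mk f) = ι' := Over.OverMorphism.ext (by
      show (j.isoImage W).inv ≫ a = V.ι
      rw [ea, Iso.inv_comp_eq, Scheme.Hom.isoImage_hom_ι])
    have e2 : i ≫ (Over.homMk b hb : Over.mk (W.ι ≫ str) ⟶ Over.mk f) = q ≫ c := Over.OverMorphism.ext (by
      show (j.isoImage W).inv ≫ b = (V.ι ≫ f) ≫ x₀.1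
      rw [eb, Iso.inv_comp_eq]
      simp only [str, Category.assoc]
      exact (j.isoImage_hom_ι_assoc W (f ≫ x₀.1)).symm)
    have e3 : ι' ≫ π₀ = q := Over.OverMorphism.ext rfl
    show Set.range (Φ.map ι'.op) = Set.range (Φ.map q.op)
    refine subset_antisymm ?_ ?_
    · rintro _ ⟨x, rfl⟩
      refine ⟨Φ.map c.op x, ?_⟩
      show (Φ.map c.op ≫ Φ.map q.op) x = _
      rw [← Functor.map_comp, ← op_comp, ← e2, ← e1, op_comp, Functor.map_comp, op_comp, Functor.map_comp]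
      exact congrArg (Φ.map i.op) (he x).symm
    · rintro _ ⟨z, rfl⟩
      refine ⟨Φ.map π₀.op z, ?_⟩
      show (Φ.map π₀.op ≫ Φ.map ι'.op) z = _
      rw [← Functor.map_comp, ← op_comp, e3]

/-- Let k be a field and Φ a contravariant functor from the category of schemes over Spec k to sets.
Assume that for every integral scheme Y smooth, separated and quasi-compact over k, the map Φ(Y) →
Φ(P^1_Y) induced by the projection P^1_Y → Y is bijective. Let X be a proper integral scheme over k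
having a non-empty open subscheme smooth over k, and assume X is almost R-trivial over k. Then there
is a non-empty open subscheme U of X, smooth over k, such that the image of Φ(X) → Φ(U) (restriction
along the inclusion) equals the image of Φ(Spec k) → Φ(U) (along the structure morphism of U). The
functor takes values in an arbitrary universe. -/
theorem result (k : Type u) [Field k]
    (Φ : (Over (Spec (CommRingCat.of k)))ᵒᵖ ⥤ Type v)
    (hΦ : ∀ (Y : Scheme.{u}) (g : Y ⟶ Spec (CommRingCat.of k)) [IsIntegral Y] [Smooth g]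
      [IsSeparated g] [QuasiCompact g],
      Function.Bijective (Φ.map (Over.homMk (CohB1.ProjSpaceOver.toBase 1 Y) rfl :
        Over.mk (CohB1.ProjSpaceOver.toBase 1 Y ≫ g) ⟶ Over.mk g).op))
    (X : Scheme.{u}) (f : X ⟶ Spec (CommRingCat.of k)) [IsIntegral X] [IsProper f]
    (hsm : ∃ V : X.Opens, (V : Set X).Nonempty ∧ Smooth (V.ι ≫ f))
    (hR : REq.IsAlmostRTrivial f) :
    ∃ U : X.Opens, (U : Set X).Nonempty ∧ Smooth (U.ι ≫ f) ∧
      Set.range (Φ.map (Over.homMk U.ι rfl : Over.mk (U.ι ≫ f) ⟶ Over.mk f).op) =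
        Set.range (Φ.map (Over.homMk (U.ι ≫ f) (Category.comp_id _) :
          Over.mk (U.ι ≫ f) ⟶ Over.mk (𝟙 (Spec (CommRingCat.of k)))).op) := by
  obtain ⟨Vsm, ⟨v, hv⟩, hVsm⟩ := hsm
  obtain ⟨_, ⟨V, hV, rfl⟩, hvV, hVle⟩ := X.isBasis_affineOpens.exists_subset_of_mem_open hv Vsm.2
  have : Nonempty V := ⟨⟨v, hvV⟩⟩
  have : IsDomain Γ(X, V) := IsIntegral.component_integral V
  have hj : Smooth (hV.fromSpec ≫ f) := by
    have := hVsm
    rw [← IsOpenImmersion.lift_fac Vsm.ι hV.fromSpec (by rw [hV.range_fromSpec, Scheme.Opens.range_ι]; exact hVle),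
      Category.assoc]
    infer_instance
  exact core k Φ hΦ X f hR Γ(X, V) hV.fromSpec

end Groth.Agent.S18574
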