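import Groth.Statements.S18576
import Groth.Agent.REq2.Move
import Groth.Agent.S18572
import Groth.Agent.PnCoh.Chow.Proper
import Mathlib.AlgebraicGeometry.Geometrically.Integral
import Mathlib.AlgebraicGeometry.Morphisms.ClosedImmersion
import Mathlib.AlgebraicGeometry.Morphisms.Proper

set_option autoImplicit false
universe u
open CategoryTheory AlgebraicGeometry
open REq

namespace Groth.Agent.S18576

/-- Let k be a field of characteristic zero and X a scheme that is smooth, projective and geometrically
integral over k. If X is retract rational over k, in particular if X is stably rational over k, then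
X is R-trivial over k: for every field K containing k (in the universe of k), X(K) is non-empty and
any two K-points are R-equivalent. -/
theorem result (k : Type u) [Field k] [CharZero k]
    (X : Scheme.{u}) (f : X ⟶ Spec (CommRingCat.of k)) [GeometricallyIntegral f] [Smooth f]
    (hproj : Neron.IsProjectiveOver k (Over.mk f)) (hX : REq.IsRetractRational f) :
    REq.IsRTrivial f := by
  haveI : AlgebraicGeometry.IsIntegral X := GeometricallyIntegral.isIntegral_of_subsingleton f
  obtain ⟨n, i, hi, hif⟩ := hproj
  have hif' : i ≫ CohB1.ProjSpaceOver.toBase n _ = f := hif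
  haveI := hi
  haveI : IsProper (CohB1.ProjSpaceOver.toBase n (Spec (CommRingCat.of k))) :=
    MorphismProperty.pullback_snd _ _ (Groth.Agent.PnCoh.Chow.isProper_toSpec n _)
  haveI : IsProper f := by rw [← hif']; infer_instance
  haveI : Infinite k := Infinite.of_injective (Nat.cast : ℕ → k) Nat.cast_injective
  haveI : IsSeparated f := inferInstance
  obtain ⟨U', hU', hpts⟩ := Groth.Agent.S18572.result k X f hX
  intro K _ _
  obtain ⟨⟨A₀, -⟩, hall⟩ := hpts K
  refine ⟨⟨A₀⟩, fun A B => ?_⟩
  haveI : Nonempty X := inferInstance
  obtain ⟨A', hA', hlA⟩ := Groth.Agent.REq2.exists_link f hX U' hU'.nonempty K A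
  obtain ⟨B', hB', hlB⟩ := Groth.Agent.REq2.exists_link f hX U' hU'.nonempty K B
  exact .trans _ _ _ (.rel _ _ hlA) (.trans _ _ _ (hall A' B' hA' hB') (.symm _ _ (.rel _ _ hlB)))


end Groth.Agent.S18576
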