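import Groth.Statements.S18577
import Groth.Agent.H23.PnLine
-- import your own Groth.Agent.* helpers here

set_option autoImplicit false
universe u
open CategoryTheory AlgebraicGeometry
open REq

namespace Groth.Agent.S18577

/-- Let k be a field, V an open subscheme of projective n-space over k and K a field containing k. Then
any two K-points of V are directly R-linked in V: there are an open subscheme of the projective line
over K, a morphism from it to V over k, and two K-rational points of that open mapping to the given
points. (The published remark concerns k-points; this row is stated for K-points, K any field
containing k.) -/
theorem result (k : Type u) [Field k] (n : ℕ)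
    (V : (CohB1.ProjSpaceOver n (Spec (CommRingCat.of k))).Opens) (K : Type u) [Field K] [Algebra k K]
    (A B : REq.Pts (V.ι ≫ CohB1.ProjSpaceOver.toBase n (Spec (CommRingCat.of k))) K) :
    REq.ElemLink (V.ι ≫ CohB1.ProjSpaceOver.toBase n (Spec (CommRingCat.of k))) K A B := by
  exact Groth.Agent.H23.PnLine.elemLink V A B

end Groth.Agent.S18577
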