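import Groth.Statements.S18578
import Groth.Agent.RegUFD.Basic
import Groth.Agent.SmoothReg.Field
import Mathlib.RingTheory.Etale.Kaehler
import Mathlib.RingTheory.Smooth.Field

set_option autoImplicit false
universe u
open LogDiff

namespace Groth.Agent.S18578
open scoped TensorProduct
open KaehlerDifferential

variable {k R : Type u} [Field k] [CharZero k] [CommRing R] [IsDomain R] [Algebra k R]
  [Algebra.EssFiniteType k R] [Algebra.FormallySmooth k R]

/-- In characteristic zero the differential of a prime element is not divisible by that prime. -/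
theorem D_prime_not_smul {π : R} (hπ : Prime π) (ω : Ω[R⁄k]) : D k R π ≠ π • ω := by
  intro h
  haveI hP : (Ideal.span {π} : Ideal R).IsPrime := (Ideal.span_singleton_prime hπ.ne_zero).2 hπ
  let q : Ideal R := Ideal.span {π}
  let S := Localization.AtPrime q
  let κ := IsLocalRing.ResidueField S
  haveI : Algebra.EssFiniteType R S := Algebra.EssFiniteType.of_isLocalization S q.primeCompl
  haveI : Algebra.EssFiniteType k S := Algebra.EssFiniteType.comp k R S
  haveI : Module.Finite S κ := Module.Finite.of_surjective (Algebra.linearMap S κ) IsLocalRing.residue_surjective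
  haveI : Algebra.EssFiniteType S κ := inferInstance
  haveI : Algebra.FormallySmooth R S := Algebra.FormallySmooth.of_isLocalization q.primeCompl
  haveI : Algebra.FormallySmooth k S := Algebra.FormallySmooth.comp k R S
  haveI : Algebra.EssFiniteType k κ := Algebra.EssFiniteType.comp k S κ
  haveI : CharZero k := inferInstance
  have hf : Function.Surjective (algebraMap S κ) := IsLocalRing.residue_surjective
  obtain ⟨l, hl⟩ := (Algebra.FormallySmooth.iff_split_injection (R := k) (P := S) (A := κ) hf).1
    inferInstance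
  have hk : RingHom.ker (algebraMap S κ) = IsLocalRing.maximalIdeal S :=
    IsLocalRing.ker_residue
  have hm : IsLocalRing.maximalIdeal S = Ideal.span {algebraMap R S π} := by
    rw [← Localization.AtPrime.map_eq_maximalIdeal, Ideal.map_span, Set.image_singleton]
  have hmem : algebraMap R S π ∈ RingHom.ker (algebraMap S κ) := by
    rw [hk, hm]; exact Ideal.mem_span_singleton_self _
  have h0 : kerCotangentToTensor k S κ (Ideal.toCotangent _ ⟨_, hmem⟩) = 0 := by
    rw [kerCotangentToTensor_toCotangent]
    show (1 : κ) ⊗ₜ[S] D k S (algebraMap R S π) = 0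
    rw [← KaehlerDifferential.map_D k k R S, h, map_smul, ← IsScalarTower.algebraMap_smul S π,
      ← TensorProduct.smul_tmul, Algebra.smul_def, mul_one, RingHom.mem_ker.1 hmem,
      TensorProduct.zero_tmul]
  have h1 : Ideal.toCotangent (RingHom.ker (algebraMap S κ)) ⟨_, hmem⟩ = 0 := by
    have := LinearMap.congr_fun hl (Ideal.toCotangent _ ⟨_, hmem⟩)
    rw [LinearMap.comp_apply, h0, map_zero] at this
    exact this.symm
  rw [Ideal.toCotangent_eq_zero] at h1
  have h2 : algebraMap R S π ∈ Ideal.span {algebraMap R S π} ^ 2 := by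
    rw [← hm, ← hk]; exact h1
  rw [Ideal.span_singleton_pow, Ideal.mem_span_singleton] at h2
  obtain ⟨t, ht⟩ := h2
  have hne : algebraMap R S π ≠ 0 := by
    rw [← map_zero (algebraMap R S)]
    exact fun e => hπ.ne_zero (IsLocalization.injective S q.primeCompl_le_nonZeroDivisors e)
  have hu : IsUnit (algebraMap R S π) := IsUnit.of_mul_eq_one t (mul_left_cancel₀ hne (by
    rw [mul_one]; linear_combination -ht))
  have : algebraMap R S π ∈ IsLocalRing.maximalIdeal S := by
    rw [hm]; exact Ideal.mem_span_singleton_self _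
  exact (IsLocalRing.mem_maximalIdeal _).1 this hu

theorem not_smul_D_prime [Module.Free R (Ω[R⁄k])] {π c : R} (hπ : Prime π) (hc : ¬ π ∣ c)
    (ω : Ω[R⁄k]) : c • D k R π ≠ π • ω := by
  intro h
  let b := Module.Free.chooseBasis R (Ω[R⁄k])
  have hd : ∀ i, π ∣ b.repr (D k R π) i := fun i => by
    have e : c * b.repr (D k R π) i = π * b.repr ω i := by
      simpa using DFunLike.congr_fun (congrArg b.repr h) i
    exact (hπ.dvd_or_dvd ⟨_, e⟩).resolve_left hc
  choose w hw using hd
  refine D_prime_not_smul hπ
    (b.repr.symm (Finsupp.onFinset (b.repr (D k R π)).support w fun i hi =>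
      Finsupp.mem_support_iff.2 fun e => hi ((mul_eq_zero.1 ((hw i).symm.trans e)).resolve_left hπ.ne_zero))) ?_
  apply b.repr.injective
  ext i
  simp [hw i]

/-- The logarithmic differential. -/
noncomputable def dl {k K : Type u} [Field k] [Field K] [Algebra k K] (x : K) : Ω[K⁄k] :=
  x⁻¹ • D k K x

theorem dl_mul {k K : Type u} [Field k] [Field K] [Algebra k K] {x y : K} (hx : x ≠ 0) (hy : y ≠ 0) :
    (dl (x * y) : Ω[K⁄k]) = dl x + dl y := by
  simp only [dl, Derivation.leibniz, smul_add, smul_smul]
  rw [show (x * y)⁻¹ * x = y⁻¹ by field_simp, show (x * y)⁻¹ * y = x⁻¹ by field_simp, add_comm]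

theorem dl_inv {k K : Type u} [Field k] [Field K] [Algebra k K] {x : K} (hx : x ≠ 0) :
    (dl x⁻¹ : Ω[K⁄k]) = -dl x := by
  rw [eq_neg_iff_add_eq_zero, ← dl_mul (inv_ne_zero hx) hx, inv_mul_cancel₀ hx]
  simp [dl]

theorem dl_pow {k K : Type u} [Field k] [Field K] [Algebra k K] {x : K} (hx : x ≠ 0) (e : ℕ) :
    (dl (x ^ e) : Ω[K⁄k]) = (e : K) • dl x := by
  induction e with
  | zero => simp [dl]
  | succ n ih => rw [pow_succ, dl_mul (pow_ne_zero _ hx) hx, ih, Nat.cast_succ, add_smul, one_smul]

theorem exists_associated [Module.Free R (Ω[R⁄k])] [WfDvdMonoid R] {K : Type u} [Field K] [Algebra R K] [IsFractionRing R K]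
    [Algebra k K] [IsScalarTower k R K] {r : ℕ} (f : Fin r → R) (hf : ∀ i, Prime (f i))
    {a b π : R} (ha : a ≠ 0) (hb : b ≠ 0) (hπ : Prime π) (hπa : π ∣ a) (hπb : ¬ π ∣ b) (θ : Ω[R⁄k])
    (hθ : KaehlerDifferential.map k k R K θ =
      algebraMap R K (∏ i, f i) • (dl (algebraMap R K a) - dl (algebraMap R K b))) :
    ∃ i, Associated π (f i) := by
  by_contra hne
  have hQ : ¬ π ∣ ∏ i, f i := fun hdvd => by
    obtain ⟨i, _, hi⟩ := hπ.exists_mem_finset_dvd hdvd
    exact hne ⟨i, hπ.associated_of_dvd (hf i) hi⟩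
  obtain ⟨e, a', ha', rfl⟩ := WfDvdMonoid.max_power_factor ha hπ.irreducible
  have he : e ≠ 0 := by
    rintro rfl
    exact ha' (by simpa using hπa)
  have ha'0 : a' ≠ 0 := fun h => ha (by rw [h, mul_zero])
  have hι : ∀ x : R, x ≠ 0 → algebraMap R K x ≠ 0 := fun x hx h =>
    hx (IsFractionRing.injective R K (by rw [h, map_zero]))
  have hinj : Function.Injective (KaehlerDifferential.map k k R K) := by
    rw [injective_iff_map_eq_zero]
    intro x hx
    obtain ⟨s, hs⟩ := (IsLocalizedModule.eq_zero_iff (nonZeroDivisors R)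
      (KaehlerDifferential.map k k R K)).1 hx
    let bs := Module.Free.chooseBasis R (Ω[R⁄k])
    apply bs.repr.injective
    ext i
    have := DFunLike.congr_fun (congrArg bs.repr hs) i
    simp [Submonoid.smul_def] at this
    simpa using this
  refine not_smul_D_prime hπ (c := (e : R) * a' * b * ∏ i, f i) ?_
    ((a' * b) • θ - ((∏ i, f i) * b) • D k R a' + ((∏ i, f i) * a') • D k R b) ?_
  · intro hdvd
    rcases hπ.dvd_or_dvd hdvd with h | h
    · rcases hπ.dvd_or_dvd h with h | h
      · rcases hπ.dvd_or_dvd h with h | h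
        · refine hπ.not_unit (isUnit_of_dvd_unit h ?_)
          rw [← map_natCast (algebraMap k R)]
          exact (Nat.cast_ne_zero.2 he : (e : k) ≠ 0).isUnit.map _
        · exact ha' h
      · exact hπb h
    · exact hQ h
  · apply hinj
    have hsm : ∀ (c : R) (x : Ω[R⁄k]), KaehlerDifferential.map k k R K (c • x) =
        algebraMap R K c • KaehlerDifferential.map k k R K x := fun c x => by
      rw [map_smul, algebraMap_smul]
    rw [map_mul, map_pow, dl_mul (pow_ne_zero _ (hι _ hπ.ne_zero)) (hι _ ha'0),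
      dl_pow (hι _ hπ.ne_zero)] at hθ
    simp only [map_add, map_sub, map_neg, hsm, KaehlerDifferential.map_D,
      map_mul, map_natCast, hθ, dl, smul_add, smul_sub, smul_smul, sub_eq_add_neg, add_assoc]
    match_scalars <;> field_simp [hι _ hπ.ne_zero, hι _ ha'0, hι _ hb] <;> ring

/-- `x` has logarithmic differential of the wanted shape. -/
def Good (k : Type u) [Field k] {R K : Type u} [CommRing R] [Field K] [Algebra R K] [Algebra k K]
    {r : ℕ} (f : Fin r → R) (x : K) : Prop :=
  ∃ (v : Rˣ) (b : Fin r → ℤ), (dl x : Ω[K⁄k]) = dl (algebraMap R K (v : R)) +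
    ∑ i, ((b i : K) * (algebraMap R K (f i))⁻¹) • D k K (algebraMap R K (f i))

theorem Good.mul {K : Type u} [Field K] [Algebra R K] [IsFractionRing R K] [Algebra k K] {r : ℕ}
    {f : Fin r → R} {x y : K} (hx0 : x ≠ 0) (hy0 : y ≠ 0) (hx : Good k f x) (hy : Good k f y) :
    Good k f (x * y) := by
  obtain ⟨v, b, hv⟩ := hx
  obtain ⟨w, c, hw⟩ := hy
  refine ⟨v * w, b + c, ?_⟩
  rw [dl_mul hx0 hy0, hv, hw, Units.val_mul, map_mul, dl_mul ((v.isUnit.map (algebraMap R K)).ne_zero)
    ((w.isUnit.map (algebraMap R K)).ne_zero)]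
  simp only [Pi.add_apply, Int.cast_add, add_mul, add_smul, Finset.sum_add_distrib]
  abel

theorem Good.inv {K : Type u} [Field K] [Algebra R K] [IsFractionRing R K] [Algebra k K] {r : ℕ}
    {f : Fin r → R} {x : K} (hx0 : x ≠ 0) (hx : Good k f x) : Good k f x⁻¹ := by
  obtain ⟨v, b, hv⟩ := hx
  refine ⟨v⁻¹, -b, ?_⟩
  rw [dl_inv hx0, hv, map_units_inv, dl_inv ((v.isUnit.map (algebraMap R K)).ne_zero)]
  simp only [Pi.neg_apply, Int.cast_neg, neg_mul, neg_smul, Finset.sum_neg_distrib]
  abel


/-- The degree-one case, stated at the local ring of a point. Let k be a field of characteristic zero, B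
a smooth k-algebra, R the localization of B at a prime ideal, K the fraction field of R and f_1, …,
f_r prime elements of R. If g is a unit of K whose logarithmic differential g⁻¹dg in Ω_{K/k} is the
image of a form η ∈ Ω_{R/k} plus an R-linear combination Σ c_i f_i⁻¹df_i, then g⁻¹dg = v⁻¹dv + Σ b_i
f_i⁻¹df_i for a unit v of R and integers b_i. (When the f_i are part of a regular system of
parameters the hypothesis says that g⁻¹dg has at worst logarithmic poles along the divisor f_1⋯f_r =
0 at this point, and the statement is the stalkwise injectivity of 1-forms with logarithmic poles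
modulo logarithmic differentials of functions invertible off the divisor into Ω¹_K modulo
logarithmic differentials; it is stated here for arbitrary prime elements f_i.) -/
theorem result
    {k B R K : Type u} [Field k] [CharZero k] [CommRing B] [Algebra k B] [Algebra.Smooth k B]
    (p : Ideal B) [p.IsPrime] [CommRing R] [Algebra B R] [IsLocalization.AtPrime R p]
    [Algebra k R] [IsScalarTower k B R]
    [Field K] [Algebra R K] [IsFractionRing R K] [Algebra k K] [IsScalarTower k R K]
    {r : ℕ} (f : Fin r → R) (hf : ∀ i, Prime (f i))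
    (g : Kˣ) (η : Ω[R⁄k]) (c : Fin r → R)
    (h : (g : K)⁻¹ • KaehlerDifferential.D k K (g : K) =
      KaehlerDifferential.map k k R K η +
        ∑ i, (algebraMap R K (c i) * (algebraMap R K (f i))⁻¹) •
          KaehlerDifferential.D k K (algebraMap R K (f i))) :
    ∃ (v : Rˣ) (b : Fin r → ℤ),
      (g : K)⁻¹ • KaehlerDifferential.D k K (g : K) =
        (algebraMap R K (v : R))⁻¹ • KaehlerDifferential.D k K (algebraMap R K (v : R)) +
          ∑ i, ((b i : K) * (algebraMap R K (f i))⁻¹) •
            KaehlerDifferential.D k K (algebraMap R K (f i)) := by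
  haveI : IsNoetherianRing B := Algebra.FiniteType.isNoetherianRing k B
  haveI hreg : IsRegularLocalRing (Localization.AtPrime p) :=
    Groth.Agent.CotTLib.isRegularLocalRing_of_isSmoothAt (k := k) p
  haveI : IsRegularLocalRing R :=
    IsRegularLocalRing.of_ringEquiv (IsLocalization.algEquiv p.primeCompl (Localization.AtPrime p) R).toRingEquiv
  obtain ⟨hdom, hufd⟩ := Groth.Agent.RegUFD.ufd R
  haveI : Algebra.EssFiniteType B R := Algebra.EssFiniteType.of_isLocalization R p.primeCompl
  haveI : Algebra.EssFiniteType k R := Algebra.EssFiniteType.comp k B R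
  haveI : Algebra.FormallySmooth B R := Algebra.FormallySmooth.of_isLocalization p.primeCompl
  haveI : Algebra.FormallySmooth k R := Algebra.FormallySmooth.comp k B R
  haveI : Module.Projective B (Ω[B⁄k]) := inferInstance
  haveI : Module.Projective R (Ω[R⁄k]) :=
    Module.projective_of_isLocalizedModule p.primeCompl (KaehlerDifferential.map k k B R)
  haveI : Module.FinitePresentation R (Ω[R⁄k]) := Module.finitePresentation_of_finite R _
  haveI : Module.Free R (Ω[R⁄k]) := Module.free_of_flat_of_isLocalRing
  obtain ⟨a, b, hrp, hab⟩ := IsFractionRing.exists_reduced_fraction (A := R) (g : K)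
  have hb0 : (b : R) ≠ 0 := nonZeroDivisors.ne_zero b.2
  have hg : (g : K) = algebraMap R K a / algebraMap R K b := by
    rw [← hab, IsFractionRing.mk'_eq_div]
  have ha0 : a ≠ 0 := fun e => g.ne_zero (by rw [hg, e, map_zero, zero_div])
  have hι : ∀ x : R, x ≠ 0 → algebraMap R K x ≠ 0 := fun x hx h' =>
    hx (IsFractionRing.injective R K (by rw [h', map_zero]))
  have hdg : (dl (g : K) : Ω[K⁄k]) = dl (algebraMap R K a) - dl (algebraMap R K b) := by
    rw [hg, div_eq_mul_inv, dl_mul (hι _ ha0) (inv_ne_zero (hι _ hb0)), dl_inv (hι _ hb0), sub_eq_add_neg]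
  let θ : Ω[R⁄k] := (∏ i, f i) • η + ∑ i, (c i * ∏ j ∈ Finset.univ.erase i, f j) • KaehlerDifferential.D k R (f i)
  have hθ : KaehlerDifferential.map k k R K θ =
      algebraMap R K (∏ i, f i) • (dl (algebraMap R K a) - dl (algebraMap R K b)) := by
    rw [← hdg, show (dl (g : K) : Ω[K⁄k]) = _ from h, smul_add, Finset.smul_sum]
    have hsm : ∀ (c : R) (x : Ω[R⁄k]), KaehlerDifferential.map k k R K (c • x) =
        algebraMap R K c • KaehlerDifferential.map k k R K x := fun c x => by
      rw [map_smul, algebraMap_smul]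
    simp only [θ, map_add, hsm, map_sum, KaehlerDifferential.map_D, smul_smul]
    congr 1
    refine Finset.sum_congr rfl fun i _ => ?_
    congr 1
    rw [← Finset.mul_prod_erase _ _ (Finset.mem_univ i), map_mul, map_mul]
    field_simp [hι _ (hf i).ne_zero]
  have hgood : ∀ x : R, x ≠ 0 → (∀ π : R, Prime π → π ∣ x → ∃ i, Associated π (f i)) →
      Good k f (algebraMap R K x) := by
    intro x
    induction x using UniqueFactorizationMonoid.induction_on_prime with
    | h₁ => exact fun h0 => (h0 rfl).elim
    | h₂ u hu => exact fun _ _ => ⟨hu.unit, 0, by simp⟩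
    | h₃ x π hx hπ ih =>
      intro _ hall
      rw [map_mul]
      refine Good.mul (hι _ hπ.ne_zero) (hι _ hx) ?_ (ih hx fun π' h1 h2 => hall π' h1 (h2.mul_left π))
      obtain ⟨i, hi⟩ := hall π hπ (dvd_mul_right π x)
      obtain ⟨u, hu⟩ := hi.symm
      refine ⟨u, Pi.single i 1, ?_⟩
      rw [← hu, map_mul, dl_mul (hι _ (hf i).ne_zero) ((u.isUnit.map (algebraMap R K)).ne_zero),
        Finset.sum_eq_single i (fun j _ hj => by simp [Pi.single_eq_of_ne hj]) (by simp)]
      simp [dl, add_comm]
  have hga : Good k f (algebraMap R K a) := hgood a ha0 fun π hπ hd =>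
    exists_associated f hf ha0 hb0 hπ hd (fun hb => hπ.not_unit (hrp hd hb)) θ hθ
  have hgb : Good k f (algebraMap R K (b : R)) := hgood b hb0 fun π hπ hd =>
    exists_associated f hf hb0 ha0 hπ hd (fun ha => hπ.not_unit (hrp ha hd)) (-θ) (by
      rw [map_neg, hθ, ← smul_neg, neg_sub])
  obtain ⟨v, e, he⟩ := hga.mul (hι _ ha0) (inv_ne_zero (hι _ hb0)) (hgb.inv (hι _ hb0))
  rw [← div_eq_mul_inv, ← hg] at he
  exact ⟨v, e, he⟩


end Groth.Agent.S18578
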