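import Groth.Statements.S18579
import Mathlib

set_option autoImplicit false
universe u
open LogDiff

namespace Groth.Agent.S18579
theorem factor_aux {R : Type*} [CommRing R] [IsDomain R] {r : ℕ} (f : Fin r → R) (hf : ∀ i, Prime (f i))
    (s : Finset (Fin r)) : ∀ (e : Fin r → ℕ) (x y : R) (w : Rˣ), x * y = w * ∏ i ∈ s, f i ^ e i →
      ∃ (u : Rˣ) (a : Fin r → ℕ), x = u * ∏ i ∈ s, f i ^ a i := by
  classical
  induction s using Finset.induction_on with
  | empty =>
    intro e x y w h
    have : IsUnit (x * y) := by rw [h]; simp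
    exact ⟨(isUnit_of_mul_isUnit_left this).unit, 0, by simp⟩
  | insert j s hj ih =>
    intro e x y w h
    rw [Finset.prod_insert hj, mul_left_comm, mul_comm] at h
    obtain ⟨i, l, b, c, hil, hbc, hxb, hyc⟩ := mul_eq_mul_prime_pow (hf j) (show x * y = (↑w * ∏ i ∈ s, f i ^ e i) * f j ^ e j by rw [mul_comm] at h; rw [h]; ring)
    obtain ⟨u, a, hu⟩ := ih e b c w hbc.symm
    refine ⟨u, Function.update a j i, ?_⟩
    rw [Finset.prod_insert hj, Function.update_self, Finset.prod_congr rfl fun t ht => by
      rw [Function.update_of_ne (ne_of_mem_of_not_mem ht hj)], hxb, hu]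
    ring

theorem unique_aux {R : Type*} [CommRing R] [IsDomain R] {r : ℕ} (f : Fin r → R) (hf : ∀ i, Prime (f i))
    (hfa : ∀ i j, Associated (f i) (f j) → i = j) (u w : Rˣ) (a b : Fin r → ℕ)
    (h : (u : R) * ∏ i, f i ^ a i = w * ∏ i, f i ^ b i) : a = b := by
  classical
  by_contra hne
  obtain ⟨j, hj⟩ := Function.ne_iff.1 hne
  have key : ∀ (u w : Rˣ) (a b : Fin r → ℕ), (u : R) * ∏ i, f i ^ a i = w * ∏ i, f i ^ b i →
      a j < b j → False := by
    intro u w a b h hlt
    rw [← Finset.mul_prod_erase _ _ (Finset.mem_univ j), ← Finset.mul_prod_erase _ (fun i => f i ^ b i) (Finset.mem_univ j)] at h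
    obtain ⟨t, ht⟩ := Nat.exists_eq_add_of_lt hlt
    have h' : f j ∣ (u : R) * ∏ i ∈ Finset.univ.erase j, f i ^ a i := by
      refine ⟨w * f j ^ t * ∏ i ∈ Finset.univ.erase j, f i ^ b i, ?_⟩
      refine mul_left_cancel₀ (pow_ne_zero (a j) (hf j).ne_zero) ?_
      rw [ht, pow_add, pow_add, pow_one] at h
      linear_combination h
    rcases (hf j).dvd_or_dvd h' with h1 | h1
    · exact (hf j).not_isUnit (isUnit_of_dvd_unit h1 u.isUnit)
    · obtain ⟨i, hi, hdi⟩ := (Prime.dvd_finsetProd_iff (hf j) _).1 h1
      have := (hf j).associated_of_dvd (hf i) ((hf j).dvd_of_dvd_pow hdi)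
      exact (Finset.mem_erase.1 hi).1 (hfa j i this).symm
  rcases lt_or_gt_of_ne hj with h1 | h1
  · exact key u w a b h h1
  · exact key w u b a h.symm h1


/-- The exact sequence for units (first Milnor K-groups) when every component of the divisor is removed.
Let k be a field, B a smooth k-algebra, R the localization of B at a prime ideal, K the fraction
field of R and f_1, …, f_r pairwise non-associate prime elements of R. If w is a unit of K such that
w and w⁻¹ both lie in R[1/(f_1⋯f_r)], i.e. each becomes an element of R after multiplication by a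
power of f_1⋯f_r, then there is exactly one pair (v, b) consisting of a unit v of R and integers
b_1, …, b_r with w = v · ∏ f_i^{b_i} in K. (This is the exactness of 0 → Γ(Spec R, O^×) → Γ(Spec R ∖
V(f_1⋯f_r), O^×) → ℤ^r → 0, the last map being the orders along the f_i. The published statement
takes the f_i to be local equations of the components of a normal crossings divisor, over a field of
characteristic zero; this row allows arbitrary pairwise non-associate prime elements and any field.) -/
theorem result
    {k B R K : Type u} [Field k] [CommRing B] [Algebra k B] [Algebra.Smooth k B]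
    (p : Ideal B) [p.IsPrime] [CommRing R] [Algebra B R] [IsLocalization.AtPrime R p]
    [Field K] [Algebra R K] [IsFractionRing R K]
    {r : ℕ} (f : Fin r → R) (hf : ∀ i, Prime (f i)) (hfa : ∀ i j, Associated (f i) (f j) → i = j)
    (w : Kˣ)
    (hw : ∃ (a : R) (n : ℕ), (w : K) * algebraMap R K ((∏ i, f i) ^ n) = algebraMap R K a)
    (hw' : ∃ (a : R) (n : ℕ), (w⁻¹ : Kˣ) * algebraMap R K ((∏ i, f i) ^ n) = algebraMap R K a) :
    ∃! vb : Rˣ × (Fin r → ℤ),
      (w : K) = algebraMap R K (vb.1 : R) * ∏ i, (algebraMap R K (f i)) ^ (vb.2 i) := by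
  classical
  haveI : IsDomain R := (IsFractionRing.injective R K).isDomain (algebraMap R K)
  obtain ⟨a, n, ha⟩ := hw
  obtain ⟨a', n', ha'⟩ := hw'
  have hne : ∀ i, algebraMap R K (f i) ≠ 0 := fun i =>
    (map_ne_zero_iff _ (IsFractionRing.injective R K)).2 (hf i).ne_zero
  have hprod : a * a' = ((1 : Rˣ) : R) * ∏ i, f i ^ (n + n') := by
    apply IsFractionRing.injective R K
    rw [map_mul, ← ha, ← ha', Units.val_one, one_mul, Finset.prod_pow, pow_add, map_mul]
    linear_combination (algebraMap R K ((∏ i, f i) ^ n) * algebraMap R K ((∏ i, f i) ^ n')) * w.mul_inv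
  obtain ⟨u, e, he⟩ := factor_aux f hf Finset.univ _ a a' 1 hprod
  refine ⟨(u, fun i => (e i : ℤ) - n), ?_, ?_⟩
  · have h0 : algebraMap R K ((∏ i, f i) ^ n) ≠ 0 := by
      simp [map_prod, Finset.prod_ne_zero_iff, hne]
    refine mul_right_cancel₀ h0 ?_
    rw [ha, he]
    simp only [map_mul, map_prod, map_pow, ← Finset.prod_pow, mul_assoc, ← Finset.prod_mul_distrib]
    congr 1
    refine Finset.prod_congr rfl fun i _ => ?_
    rw [zpow_sub₀ (hne i), zpow_natCast, zpow_natCast, div_mul_cancel₀ _ (pow_ne_zero _ (hne i))]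
  · rintro ⟨u', v⟩ hv
    obtain ⟨N, hN⟩ : ∃ N : ℕ, ∀ i, 0 ≤ v i + N ∧ n ≤ N := by
      refine ⟨n + ∑ i, (v i).natAbs, fun i => ⟨?_, by omega⟩⟩
      have := Finset.single_le_sum (f := fun i => (v i).natAbs) (fun _ _ => Nat.zero_le _) (Finset.mem_univ i)
      omega
    have hn : ∀ i, n ≤ N := fun i => (hN i).2
    have key : (fun i => e i + (N - n)) = fun i => (v i + N).toNat := by
      refine unique_aux f hf hfa u u' _ _ ?_
      apply IsFractionRing.injective R K
      simp only at hv
      have hv' := hv
      have hu : (w : K) = algebraMap R K (u : R) * ∏ i, algebraMap R K (f i) ^ ((e i : ℤ) - n) := by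
        have h0 : algebraMap R K ((∏ i, f i) ^ n) ≠ 0 := by
          simp [map_prod, Finset.prod_ne_zero_iff, hne]
        refine mul_right_cancel₀ h0 ?_
        rw [ha, he]
        simp only [map_mul, map_prod, map_pow, ← Finset.prod_pow, mul_assoc, ← Finset.prod_mul_distrib]
        congr 1
        refine Finset.prod_congr rfl fun i _ => ?_
        rw [zpow_sub₀ (hne i), zpow_natCast, zpow_natCast, div_mul_cancel₀ _ (pow_ne_zero _ (hne i))]
      have h2 := congrArg (fun z => z * ∏ i, algebraMap R K (f i) ^ (N : ℤ)) (hu.symm.trans hv')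
      simp only [mul_assoc, ← Finset.prod_mul_distrib] at h2
      simp only [map_mul, map_prod, map_pow]
      calc _ = algebraMap R K (u : R) * ∏ i, algebraMap R K (f i) ^ ((e i : ℤ) - n) * algebraMap R K (f i) ^ (N : ℤ) := by
            congr 1
            refine Finset.prod_congr rfl fun i _ => ?_
            rw [← zpow_add₀ (hne i), ← zpow_natCast]
            congr 1
            have := hn i
            omega
        _ = _ := h2
        _ = _ := by
            congr 1
            refine Finset.prod_congr rfl fun i _ => ?_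
            rw [← zpow_add₀ (hne i), ← zpow_natCast]
            congr 1
            rw [Int.toNat_of_nonneg (hN i).1]
    have hve : v = fun i => (e i : ℤ) - n := by
      funext i
      have h1 := congrFun key i
      have := hN i
      omega
    subst hve
    have h0 : algebraMap R K ((∏ i, f i) ^ n) ≠ 0 := by
      simp [map_prod, Finset.prod_ne_zero_iff, hne]
    have hz : (∏ i, algebraMap R K (f i) ^ ((e i : ℤ) - n)) ≠ 0 :=
      Finset.prod_ne_zero_iff.2 fun i _ => zpow_ne_zero _ (hne i)
    refine Prod.ext (Units.ext (IsFractionRing.injective R K (mul_right_cancel₀ hz ?_))) rfl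
    simp only at hv ⊢
    rw [← hv]
    refine mul_right_cancel₀ h0 ?_
    rw [ha, he]
    simp only [map_mul, map_prod, map_pow, ← Finset.prod_pow, mul_assoc, ← Finset.prod_mul_distrib]
    congr 1
    refine Finset.prod_congr rfl fun i _ => ?_
    rw [zpow_sub₀ (hne i), zpow_natCast, zpow_natCast, div_mul_cancel₀ _ (pow_ne_zero _ (hne i))]


end Groth.Agent.S18579
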