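import Groth.Statements.S18580
import Groth.Agent.EtFound.SectionUnr

set_option autoImplicit false
universe u
open EtBase

namespace Groth.Agent.S18580

open AlgebraicGeometry CategoryTheory in
/-- Let Y be a connected scheme and f : X ⟶ Y a separated morphism that is unramified (locally of finite
type and formally unramified). Then the sections of f correspond bijectively to the connected
components of X mapping isomorphically onto Y: there is a bijection from the set of sections s of f
to the set of open subschemes U of X whose underlying set is a connected component of X and for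
which U ⟶ X ⟶ Y is an isomorphism, sending s to its image. In particular every section is an
isomorphism onto a connected component of X and is determined by its image. (A connected component
mapping isomorphically onto Y is the image of a section, hence open, so restricting to open
components loses nothing. The published statement also assumes Y Noetherian; that hypothesis plays
no role and is omitted.) -/
theorem result {X Y : Scheme.{u}} (f : X ⟶ Y)
    [FormallyUnramified f] [LocallyOfFiniteType f] [IsSeparated f] [ConnectedSpace Y] :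
    ∃ e : {s : Y ⟶ X // s ≫ f = 𝟙 Y} ≃
        {U : X.Opens // (∃ x : X, (U : Set X) = connectedComponent x) ∧ IsIso (U.ι ≫ f)},
      ∀ s : {s : Y ⟶ X // s ≫ f = 𝟙 Y}, ((e s).1 : Set X) = Set.range s.1 := by
  classical
  have hopen : ∀ s : {s : Y ⟶ X // s ≫ f = 𝟙 Y}, IsOpenImmersion s.1 := fun s =>
    EtFound.isOpenImmersion_section f s.1 s.2
  let U : {s : Y ⟶ X // s ≫ f = 𝟙 Y} → X.Opens := fun s =>
    ⟨Set.range s.1, (haveI := hopen s; s.1.isOpenEmbedding.isOpen_range)⟩
  have hcomp : ∀ s, ∃ x : X, (U s : Set X) = connectedComponent x := fun s => by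
    obtain ⟨y⟩ := (inferInstance : Nonempty Y)
    refine ⟨s.1 y, subset_antisymm ?_ ?_⟩
    · exact (isPreconnected_range s.1.continuous).subset_connectedComponent ⟨y, rfl⟩
    · exact IsClopen.connectedComponent_subset
        ⟨EtFound.isClosed_range_section f s.1 s.2, (U s).isOpen⟩ ⟨y, rfl⟩
  have hiso : ∀ s, IsIso ((U s).ι ≫ f) := fun s => by
    have := hopen s
    have hr : Set.range s.1 ⊆ Set.range (U s).ι := by rw [Scheme.Opens.range_ι]; exact subset_rfl
    refine ⟨IsOpenImmersion.lift (U s).ι s.1 hr, ?_, ?_⟩
    · have hr2 : Set.range (U s).ι ⊆ Set.range s.1 := by rw [Scheme.Opens.range_ι]; exact subset_rfl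
      have e := IsOpenImmersion.lift_fac s.1 (U s).ι hr2
      have e2 : (U s).ι ≫ f = IsOpenImmersion.lift s.1 (U s).ι hr2 := by
        have := congr($e ≫ f)
        rw [Category.assoc, s.2, Category.comp_id] at this
        exact this.symm
      rw [← cancel_mono (U s).ι, Category.id_comp, Category.assoc, IsOpenImmersion.lift_fac, e2, e]
    · rw [← Category.assoc, IsOpenImmersion.lift_fac, s.2]
  let ψ : {U : X.Opens // (∃ x : X, (U : Set X) = connectedComponent x) ∧ IsIso (U.ι ≫ f)} →
      {s : Y ⟶ X // s ≫ f = 𝟙 Y} := fun V =>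
    haveI := V.2.2
    ⟨inv (V.1.ι ≫ f) ≫ V.1.ι, by rw [Category.assoc, IsIso.inv_hom_id]⟩
  have hψ : ∀ V, Set.range (ψ V).1 = (V.1 : Set X) := fun V => by
    have := V.2.2
    have hs : Function.Surjective (inv (V.1.ι ≫ f)) := (inv (V.1.ι ≫ f)).surjective
    change Set.range (inv (V.1.ι ≫ f) ≫ V.1.ι) = _
    rw [← Scheme.Opens.range_ι V.1]
    ext x
    constructor
    · rintro ⟨y, rfl⟩; exact ⟨_, (Scheme.Hom.comp_apply _ _ y).symm⟩
    · rintro ⟨v, rfl⟩
      obtain ⟨y, rfl⟩ := hs v
      exact ⟨y, Scheme.Hom.comp_apply _ _ y⟩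
  refine ⟨
    { toFun := fun s => ⟨U s, hcomp s, hiso s⟩
      invFun := ψ
      left_inv := fun s => ?_
      right_inv := fun V => ?_ }, fun s => rfl⟩
  · exact Subtype.ext (EtFound.section_eq_of_range_eq f s.1 _ s.2 (ψ _).2 (hψ ⟨U s, hcomp s, hiso s⟩))
  · exact Subtype.ext (TopologicalSpace.Opens.ext (hψ V))

end Groth.Agent.S18580
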