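import Groth.Statements.S18587
import Mathlib
import Groth.Agent.WittFilLib.Kummer

set_option autoImplicit false
universe u
open CAlg

namespace Groth.Agent.S18587

/-- Affine form with D = 0: let p be a prime, ℓ ≥ 1 an integer not divisible by p and n ≥ 1. Let A → B
be an injective ring homomorphism of integral domains of characteristic p such that B is spanned as
an A-module by finitely many elements y with y ^ ℓ in the image of A (a weakly ℓ-cyclic extension).
Then for every p-typical Witt vector ζ over B in the image of the n-fold Verschiebung there is a
nonzero a in A such that the product of the Teichmüller representative of (the image of) a with ζ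
lies in the ideal of W(B) generated by the images of the n-fold Verschiebungs of Witt vectors over
A. (This is the case D = 0 of the published statement, written for the coordinate rings; the
published statement allows a twist by a real Weil divisor D and assumes the rings excellent and
normal, hypotheses which the case D = 0 does not use.) -/
theorem result
    (p : ℕ) [Fact p.Prime] (ℓ n : ℕ) (hℓ : 0 < ℓ) (hpℓ : ¬ p ∣ ℓ) (hn : 0 < n)
    (A B : Type u) [CommRing A] [CommRing B] [IsDomain A] [IsDomain B] [Algebra A B]
    [CharP A p] [CharP B p] (hinj : Function.Injective (algebraMap A B))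
    (y : Finset B) (hspan : Submodule.span A (y : Set B) = ⊤)
    (hpow : ∀ b ∈ y, b ^ ℓ ∈ Set.range (algebraMap A B))
    (ζ : WittVector p B)
    (hζ : ∃ η : WittVector p B, (⇑(WittVector.verschiebung : WittVector p B →+ WittVector p B))^[n] η = ζ) :
    ∃ a : A, a ≠ 0 ∧ WittVector.teichmuller p (algebraMap A B a) * ζ ∈
      Ideal.span (Set.range (fun x : WittVector p A =>
        WittVector.map (algebraMap A B) ((⇑(WittVector.verschiebung : WittVector p A →+ WittVector p A))^[n] x))) := by
  classical
  obtain ⟨η, rfl⟩ := hζ
  have hc : ∀ b : {b // b ∈ y}, ∃ c : A, (b : B) ^ ℓ = algebraMap A B c := fun b => by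
    obtain ⟨c, hc⟩ := hpow b b.2
    exact ⟨c, hc.symm⟩
  choose c hc using hc
  haveI : NeZero ℓ := ⟨hℓ.ne'⟩
  refine ⟨∏ b, if c b = 0 then 1 else c b, Finset.prod_ne_zero_iff.2 fun b _ => ?_, ?_⟩
  · split_ifs with h
    · exact one_ne_zero
    · exact h
  refine Groth.Agent.WittFilLib.Kummer.teichmuller_mul_mem
    ((Fact.out : p.Prime).coprime_iff_not_dvd.2 hpℓ) (fun b : {b // b ∈ y} => (b : B)) ?_ c hc
    (fun b => if c b = 0 then 1 else c b) (fun b => ?_) n η
  · rw [← hspan]
    congr 1
    ext b
    simp
  · by_cases h : c b = 0
    · right
      have := hc b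
      rw [h, map_zero] at this
      exact pow_eq_zero_iff hℓ.ne' |>.1 this
    · left
      rw [if_neg h]

end Groth.Agent.S18587
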