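import Groth.Statements.S18589
import Mathlib.RingTheory.WittVector.StructurePolynomial
import Mathlib.RingTheory.MvPolynomial.WeightedHomogeneous

set_option autoImplicit false
open CAlg

namespace Groth.Agent.S18589

/-- For a prime p and every natural number n, the n-th Witt addition polynomial over the integers (the
polynomial S_n with (x + y)_n = S_n(x_0, y_0, …, x_n, y_n) for p-typical Witt vectors x, y) is
weighted homogeneous of weighted degree p ^ n for the grading in which the variables x_i and y_i
have weight p ^ i. -/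
theorem result (p : ℕ) [Fact p.Prime] (n : ℕ) :
    MvPolynomial.IsWeightedHomogeneous (fun i : Fin 2 × ℕ => p ^ i.2) (WittVector.wittAdd p n) (p ^ n) := by
  classical
  have hp : 0 < p := (Fact.out : p.Prime).pos
  induction n using Nat.strong_induction_on with
  | _ n IH =>
    set w : Fin 2 × ℕ → ℕ := fun i => p ^ i.2 with hw
    set S : ℕ → MvPolynomial (Fin 2 × ℕ) ℤ := WittVector.wittAdd p with hS
    have hprop : (∑ i ∈ Finset.range n, MvPolynomial.C ((p : ℤ) ^ i) * S i ^ p ^ (n - i)) +
        MvPolynomial.C ((p : ℤ) ^ n) * S n =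
        MvPolynomial.rename (Prod.mk 0) (wittPolynomial p ℤ n) + MvPolynomial.rename (Prod.mk 1) (wittPolynomial p ℤ n) := by
      have h := wittStructureInt_prop p (MvPolynomial.X 0 + MvPolynomial.X 1 : MvPolynomial (Fin 2) ℤ) n
      rw [wittPolynomial_eq_sum_C_mul_X_pow, map_sum, Finset.sum_range_succ] at h
      simp only [map_mul, map_pow, map_add, MvPolynomial.bind₁_X_right, MvPolynomial.bind₁_C_right,
        Nat.sub_self, pow_zero, pow_one, map_sum, MvPolynomial.rename_X, MvPolynomial.rename_C] at h
      simp only [wittPolynomial_eq_sum_C_mul_X_pow, map_sum, map_mul, map_pow,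
        MvPolynomial.rename_X, MvPolynomial.rename_C] at h ⊢
      exact h
    have hW : ∀ c : Fin 2, (MvPolynomial.rename (Prod.mk c) (wittPolynomial p ℤ n)).IsWeightedHomogeneous w (p ^ n) := by
      intro c
      simp only [wittPolynomial_eq_sum_C_mul_X_pow, map_sum, map_mul, map_pow, MvPolynomial.rename_X, MvPolynomial.rename_C]
      refine MvPolynomial.IsWeightedHomogeneous.sum _ _ _ fun i hi => ?_
      have h1 := (MvPolynomial.isWeightedHomogeneous_X ℤ w (c, i)).pow (p ^ (n - i))
      have h2 := (MvPolynomial.isWeightedHomogeneous_C w ((p : ℤ) ^ i)).mul h1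
      simpa [hw, map_pow, ← pow_add, Nat.sub_add_cancel (Nat.lt_succ_iff.1 (Finset.mem_range.1 hi))] using h2
    have hsum : (∑ i ∈ Finset.range n, MvPolynomial.C ((p : ℤ) ^ i) * S i ^ p ^ (n - i)).IsWeightedHomogeneous w (p ^ n) := by
      refine MvPolynomial.IsWeightedHomogeneous.sum _ _ _ fun i hi => ?_
      have h1 := ((IH i (Finset.mem_range.1 hi)).pow (p ^ (n - i)))
      have h2 := (MvPolynomial.isWeightedHomogeneous_C w ((p : ℤ) ^ i)).mul h1
      simpa [smul_eq_mul, ← pow_add, Nat.sub_add_cancel (Finset.mem_range.1 hi).le] using h2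
    have htot : (MvPolynomial.C ((p : ℤ) ^ n) * S n).IsWeightedHomogeneous w (p ^ n) := by
      rw [eq_sub_of_add_eq' hprop]
      intro d hd
      rw [MvPolynomial.coeff_sub] at hd
      by_contra hne
      apply hd
      rw [((hW 0).add (hW 1)).coeff_eq_zero d hne, hsum.coeff_eq_zero d hne, sub_zero]
    intro d hd
    apply htot
    rw [MvPolynomial.coeff_C_mul]
    exact mul_ne_zero (pow_ne_zero _ (by exact_mod_cast hp.ne')) hd

end Groth.Agent.S18589
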