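import Groth.Statements.S18590
import Mathlib
import Groth.Agent.WittFilLib.Homog

set_option autoImplicit false
universe u
open CAlg

namespace Groth.Agent.S18590

/-- Let p be a prime, A a commutative ring, K a commutative A-algebra of characteristic p and M_0, M_1,
M_2, … A-submodules of K with M_i · M_j ⊆ M_(i+j) for all i, j. Then the subset of the ring W(K) of
p-typical Witt vectors consisting of the vectors whose n-th coordinate lies in M_(p^n) for every n
is closed under addition and under multiplication by the image of W(A) under W of the structure map;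
in other words it is a W(A)-submodule of W(K). (The published statement is the case of an integral
normal noetherian scheme X of characteristic p with function field K, an affine open subset U with
coordinate ring A, and M_k the module of sections over U of the divisorial sheaf of k·D for a real
Weil divisor D on X; these form such a multiplicative family, and the subset is then the module of
sections over U of the Witt divisorial sheaf of D inside W(K). Only the two stated properties of
that family enter.) -/
theorem result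
    (p : ℕ) [Fact p.Prime] (A K : Type u) [CommRing A] [CommRing K] [Algebra A K] [CharP K p]
    (M : ℕ → Submodule A K)
    (hmul : ∀ (i j : ℕ) (a b : K), a ∈ M i → b ∈ M j → a * b ∈ M (i + j)) :
    (∀ φ ψ : WittVector p K, (∀ n : ℕ, φ.coeff n ∈ M (p ^ n)) → (∀ n : ℕ, ψ.coeff n ∈ M (p ^ n)) →
        ∀ n : ℕ, (φ + ψ).coeff n ∈ M (p ^ n)) ∧
      (∀ (x : WittVector p A) (φ : WittVector p K), (∀ n : ℕ, φ.coeff n ∈ M (p ^ n)) →
        ∀ n : ℕ, (WittVector.map (algebraMap A K) x * φ).coeff n ∈ M (p ^ n)) := by
  classical
  have key : ∀ (P : MvPolynomial (Fin 2 × ℕ) ℤ) (w : Fin 2 × ℕ → ℕ) (v : Fin 2 × ℕ → K) (N : ℕ), 0 < N →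
      (∀ d ∈ P.support, (d.sum fun s e => w s * e) = N) →
      (∀ s, v s ∈ M (w s) ∨ (w s = 0 ∧ v s ∈ (algebraMap A K).range)) →
      MvPolynomial.aeval v P ∈ M N := by
    intro P w v N hN hP hv
    let Q : ℕ → K → Prop := fun i z => z ∈ M i ∨ (i = 0 ∧ z ∈ (algebraMap A K).range)
    have h1 : Q 0 1 := Or.inr ⟨rfl, 1, map_one _⟩
    have hm : ∀ i j a b, Q i a → Q j b → Q (i + j) (a * b) := by
      rintro i j a b (ha | ⟨rfl, c, rfl⟩) (hb | ⟨rfl, e, rfl⟩)
      · exact Or.inl (hmul i j a b ha hb)
      · left
        rw [add_zero, mul_comm, ← Algebra.smul_def]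
        exact (M i).smul_mem e ha
      · left
        rw [zero_add, ← Algebra.smul_def]
        exact (M j).smul_mem c hb
      · exact Or.inr ⟨rfl, c * e, map_mul _ _ _⟩
    have hp : ∀ s (e : ℕ), Q (w s * e) (v s ^ e) := by
      intro s e
      induction e with
      | zero => simpa using h1
      | succ e ih => rw [pow_succ, Nat.mul_succ]; exact hm _ _ _ _ ih (hv s)
    have hprod : ∀ (t : Finset (Fin 2 × ℕ)) (d : Fin 2 × ℕ → ℕ),
        Q (∑ s ∈ t, w s * d s) (∏ s ∈ t, v s ^ d s) := by
      intro t d
      induction t using Finset.induction_on with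
      | empty => simpa using h1
      | insert a t ha ih => rw [Finset.sum_insert ha, Finset.prod_insert ha]; exact hm _ _ _ _ (hp a _) ih
    rw [P.as_sum, map_sum]
    refine Submodule.sum_mem _ fun d hd => ?_
    rw [MvPolynomial.aeval_monomial, ← Algebra.smul_def]
    refine zsmul_mem ?_ _
    rcases hprod d.support d with h | ⟨h0, -⟩
    · rwa [show ∑ s ∈ d.support, w s * d s = N from hP d hd] at h
    · have := hP d hd
      rw [Finsupp.sum, h0] at this
      omega
  have hsub : ∀ φ ψ : WittVector p K, (∀ n, φ.coeff n ∈ M (p ^ n)) → (∀ n, ψ.coeff n ∈ M (p ^ n)) →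
      ∀ n, (φ - ψ).coeff n ∈ M (p ^ n) := by
    intro φ ψ hφ hψ n
    rw [WittVector.sub_coeff]
    refine key _ (Groth.Agent.WittFilLib.wt p 1 1) _ _ (pow_pos (Fact.out : p.Prime).pos n)
      (Groth.Agent.WittFilLib.wittSub_weight p n) ?_
    rintro ⟨i, l⟩
    left
    fin_cases i
    · simpa [Groth.Agent.WittFilLib.wt] using hφ l
    · simpa [Groth.Agent.WittFilLib.wt] using hψ l
  refine ⟨fun φ ψ hφ hψ n => ?_, fun x φ hφ n => ?_⟩
  · have hneg := hsub 0 ψ (fun l => by rw [WittVector.zero_coeff]; exact zero_mem _) hψ
    have := hsub φ (0 - ψ) hφ hneg n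
    rwa [zero_sub, sub_neg_eq_add] at this
  · rw [WittVector.mul_coeff]
    refine key _ (Groth.Agent.WittFilLib.wt p 0 1) _ _ (pow_pos (Fact.out : p.Prime).pos n)
      (Groth.Agent.WittFilLib.wittMul_weight_right p n) ?_
    rintro ⟨i, l⟩
    fin_cases i
    · right
      exact ⟨by simp [Groth.Agent.WittFilLib.wt], ⟨x.coeff l, by simp [WittVector.map_coeff]⟩⟩
    · left
      simpa [Groth.Agent.WittFilLib.wt] using hφ l

end Groth.Agent.S18590
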