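import Groth.Statements.S18595
import Groth.Agent.H28.HorizMain
import Groth.Agent.H23.RatSec
-- import your own Groth.Agent.* helpers here

set_option autoImplicit false
set_option backward.isDefEq.respectTransparency false
set_option backward.isDefEq.respectTransparency.types false
universe u
open Cyc

namespace Groth.Agent.S18595

open AlgebraicGeometry CategoryTheory CategoryTheory.Limits in
/-- Let k be a perfect field, X an integral smooth proper curve over k (proper standing for projective)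
and P = X ×_k A¹_k, presented by a pullback square with projections p₁ : P ⟶ X and p₂ : P ⟶ Spec
k[T]. Fix a dimension function δ on P (in the sense of Cyc.IsSetup) and the integer c with δ(z) + 1
= c at every closed point z of P, so that the c-cycles on P are its Weil divisors. Then every
c-cycle α on P is rationally equivalent, as a c-cycle, to a c-cycle β without vertical components:
every point z with β(z) ≠ 0 lies over the generic point of X, i.e. each prime component of β is
quasi-finite and dominant over X (equidimensional of relative dimension zero over X). (The published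
statement is for any smooth projective curve; its connected components are treated one at a time and
a smooth proper curve over a field is projective, so X is taken integral and proper here.) -/
theorem result
    (k : Type u) [Field k] [PerfectField k] {X P : Scheme.{u}} (f : X ⟶ Spec (CommRingCat.of k))
    [IsIntegral X] [IsProper f] [Smooth f] (hdim : topologicalKrullDim X = 1)
    (p₁ : P ⟶ X) (p₂ : P ⟶ Spec (CommRingCat.of (Polynomial k)))
    (hP : IsPullback p₁ p₂ f (Spec.map (CommRingCat.ofHom (Polynomial.C : k →+* Polynomial k))))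
    (δ : P → ℤ) (hδ : Cyc.IsSetup P δ) (c : ℤ)
    (hc : ∀ z : P, IsClosed ({z} : Set P) → δ z + 1 = c)
    (α : AlgebraicCycle P ℤ) (hα : α ∈ Cyc.Zk P δ c) :
    ∃ β ∈ Cyc.Zk P δ c, Cyc.RatEquiv δ c α β ∧ ∀ z : P, β z ≠ 0 → p₁ z = genericPoint X := by
  classical
  haveI := hδ.1
  have hd := hδ.2.2
  haveI : IsLocallyNoetherian X := LocallyOfFiniteType.isLocallyNoetherian f
  haveI : CompactSpace X := QuasiCompact.compactSpace_of_compactSpace f
  haveI : AlgebraicGeometry.IsNoetherian X := {}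
  haveI : X.IsSeparated := ⟨by rw [← terminal.comp_from f]; infer_instance⟩
  haveI := H28.Horiz.isAffineHom_fst hP
  haveI : CompactSpace P := QuasiCompact.compactSpace_of_compactSpace p₁
  set ξ := H28.Horiz.ptGen hP (genericPoint X) with hξdef
  have hη : p₁ ξ = genericPoint X := H28.Horiz.fst_ptGen hP _
  have hgen : ∀ w, ξ ⤳ w := H28.Horiz.ptGen_genericPoint_specializes hP
  have hξ : ξ = H28.Horiz.ptGen hP (p₁ ξ) := by rw [hη]
  have hηgen : ∀ w, p₁ ξ ⤳ w := fun w => hη ▸ (genericPoint_spec X).specializes trivial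
  have hdim' : topologicalKrullDim X ≤ 1 := hdim.le
  have hcl : ∀ w : P, p₁ w ≠ genericPoint X → IsClosed ({p₁ w} : Set X) := fun w hw =>
    DimOneAmple.isClosed_of_not_generic hdim' _ fun hc =>
      hw (FDescent.maximal_of_closure_mem_irreducibleComponents hc ((genericPoint_spec X).specializes trivial)).symm
  have hgenfib : ∀ w : P, p₁ w ≠ genericPoint X → δ w = c → w = H28.Horiz.ptGen hP (p₁ w) := fun w hw hwc =>
    H28.Horiz.eq_ptGen_of_not_isClosed hP w (hcl w hw) fun h => by have := hc w h; omega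
  have hprin : ∀ y : X, (IsLocalRing.maximalIdeal (X.presheaf.stalk y)).IsPrincipal :=
    H28.Horiz.isPrincipal_maximalIdeal (f := f) hdim'
  have hfin : {w : P | α w ≠ 0}.Finite := by
    choose U hU hUf using fun z : P => α.supportLocallyFiniteWithinDomain' z trivial
    obtain ⟨t, -, ht⟩ := isCompact_univ.elim_nhds_subcover U (fun z _ => hU z)
    refine (t.finite_toSet.biUnion fun z _ => hUf z).subset fun w hw => ?_
    obtain ⟨z, hz, hwz⟩ := Set.mem_iUnion₂.1 (ht (Set.mem_univ w))
    exact Set.mem_iUnion₂.2 ⟨z, hz, hwz, hw⟩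
  let T : Finset P := (hfin.inter_of_left {w : P | p₁ w ≠ genericPoint X}).toFinset
  have hT : ∀ w, w ∈ T ↔ α w ≠ 0 ∧ p₁ w ≠ genericPoint X := fun w => by
    simp only [T, Set.Finite.mem_toFinset]; rfl
  rcases T.eq_empty_or_nonempty with hTe | ⟨w₀, hw₀⟩
  · refine ⟨α, hα, ⟨PEmpty, PEmpty.elim, fun i => i.elim, fun i => i.elim, fun i => i.elim,
      fun w => ⟨Set.univ, isOpen_univ, trivial, Set.toFinite _⟩, fun w => ?_⟩, fun w hw => ?_⟩
    · rw [finsum_of_isEmpty]
      exact sub_self (α w)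
    · by_contra hne
      exact absurd ((hT w).2 ⟨hw, hne⟩) (by simp [hTe])
  have hmk : ∀ w ∈ T, δ w = c ∧ IsClosed ({p₁ w} : Set X) ∧ w = H28.Horiz.ptGen hP (p₁ w) ∧ p₁ w ≠ p₁ ξ := by
    intro w hw
    obtain ⟨h1, h2⟩ := (hT w).1 hw
    have hwc : δ w = c := by by_contra hne; exact h1 (hα w hne)
    exact ⟨hwc, hcl w h2, hgenfib w h2 hwc, hη.symm ▸ h2⟩
  have hξc : δ ξ = c + 1 := by
    obtain ⟨h1, h2, h3, h4⟩ := hmk w₀ hw₀
    obtain ⟨π, hπ⟩ := (hprin (p₁ w₀)).principal
    have := H28.Horiz.delta_eq hP hgen w₀ h2 h3 h4 π hπ hd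
    omega
  have hF : ∀ w : ↥T, ∃ h : P.residueField ξ, h ≠ 0 ∧ Cyc.divFun δ ξ h w.1 = 1 ∧
      ∀ z : P, IsClosed ({p₁ z} : Set X) → z = H28.Horiz.ptGen hP (p₁ z) → p₁ z ≠ p₁ ξ → z ≠ w.1 →
        Cyc.divFun δ ξ h z = 0 := fun w =>
    H28.Horiz.exists_fun hP hdim' hprin hd hgen hξ hηgen w.1 (hmk w.1 w.2).2.1 (hmk w.1 w.2).2.2.1 (hmk w.1 w.2).2.2.2
  choose F hF0 hF1 hF2 using hF
  let H : P.residueField ξ := ∏ w : ↥T, F w ^ α w.1
  have hH : H ≠ 0 := Finset.prod_ne_zero_iff.2 fun w _ => zpow_ne_zero _ (hF0 w)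
  have hdiv : ∀ z : P, Cyc.divFun δ ξ H z = ∑ w : ↥T, α w.1 * Cyc.divFun δ ξ (F w) z := by
    intro z
    suffices h : ∀ S : Finset ↥T, Cyc.divFun δ ξ (∏ w ∈ S, F w ^ α w.1) z =
        ∑ w ∈ S, α w.1 * Cyc.divFun δ ξ (F w) z from h Finset.univ
    intro S
    induction S using Finset.induction_on with
    | empty =>
      rw [Finset.prod_empty, Finset.sum_empty]
      by_cases h : ξ ⤳ z ∧ δ z + 1 = δ ξ
      · rw [CycLib.divFun_eq δ _ h.1 h.2, CycLib.ordAt_one hd h.1 h.2]
      · simp [Cyc.divFun, h]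
    | insert a S ha ih =>
      rw [Finset.prod_insert ha, Finset.sum_insert ha, CycLib.divFun_mul hd (zpow_ne_zero _ (hF0 a))
        (Finset.prod_ne_zero_iff.2 fun w _ => zpow_ne_zero _ (hF0 w)), Pi.add_apply, ih,
        H23.RatSec.divFun_zpow hd (hF0 a)]
  refine ⟨α - CycLib.divCycle hd ξ H hH, fun w hw => ?_, ⟨PUnit, fun _ => ξ, fun _ => H,
    fun _ => by omega, fun _ => hH, fun w => ⟨Set.univ, isOpen_univ, trivial, Set.toFinite _⟩, fun w => ?_⟩,
    fun w hw => ?_⟩
  · show α w - Cyc.divFun δ ξ H w = 0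
    rw [hα w hw, CycLib.divFun_eq_zero_of_delta δ H (by omega), sub_zero]
  · rw [finsum_unique]
    show α w - (α w - Cyc.divFun δ ξ H w) = Cyc.divFun δ ξ H w
    ring
  · change α w - Cyc.divFun δ ξ H w ≠ 0 at hw
    by_contra hne
    refine hw ?_
    by_cases hwc : δ w = c
    swap
    · rw [hα w hwc, CycLib.divFun_eq_zero_of_delta δ H (by omega), sub_zero]
    have h1 := hcl w hne
    have h2 := hgenfib w hne hwc
    have h3 : p₁ w ≠ p₁ ξ := hη.symm ▸ hne
    rw [hdiv w]
    by_cases hwT : w ∈ T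
    · rw [Finset.sum_eq_single (⟨w, hwT⟩ : ↥T) (fun b _ hb => ?_) (by simp), hF1 ⟨w, hwT⟩, mul_one, sub_self]
      rw [hF2 b w h1 h2 h3 fun e => hb (Subtype.ext e.symm), mul_zero]
    · have h0 : α w = 0 := by
        by_contra h
        exact hwT ((hT w).2 ⟨h, hne⟩)
      rw [h0, Finset.sum_eq_zero fun b _ => ?_, sub_zero]
      rw [hF2 b w h1 h2 h3 fun e => hwT (e ▸ b.2), mul_zero]

end Groth.Agent.S18595
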