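import Groth.Statements.S18596
import Mathlib
import Groth.Agent.EtRam7.Tame
-- import your own Groth.Agent.* helpers here

set_option autoImplicit false
universe u
open EtRam

namespace Groth.Agent.S18596

open AlgebraicGeometry CategoryTheory in
/-- Let k be a perfect field, X a k-scheme proper over k and f : Y ⟶ X finite étale. Curve-tameness of f
asks that the pullback of f to any regular k-curve mapping to X be tamely ramified at every place of
the curve's function field at infinity; proper targets make every finite étale cover curve-tame.
Stated here unfolded at a single place, in the form the argument yields: for every point y of Y with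
image x, and every discrete valuation ring A of the residue field κ(x) through which Spec κ(x) ⟶
Spec k factors, the finite separable extension κ(y) of κ(x) is tamely ramified with respect to A. -/
theorem result
    (k : Type u) [Field k] [PerfectField k] {X Y : Scheme.{u}} (s : X ⟶ Spec (CommRingCat.of k))
    [IsProper s] (f : Y ⟶ X) [IsFinite f] [Etale f] (y : Y)
    (A : ValuationSubring (X.residueField (f.base y))) [IsDiscreteValuationRing A]
    (a : Spec (CommRingCat.of A) ⟶ Spec (CommRingCat.of k))
    (ha : Spec.map (CommRingCat.ofHom A.subtype) ≫ a = X.fromSpecResidueField (f.base y) ≫ s) :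
    EtRam.IsTamelyRamified A ((f.residueFieldMap y).hom.comp A.subtype) := by
  classical
  let x := f.base y
  let K := X.residueField x
  have hex : ValuativeCriterion.Existence s := by
    have h : UniversallyClosed s := inferInstance
    rw [UniversallyClosed.eq_valuativeCriterion] at h
    exact h.1
  let Sq : ValuativeCommSq s :=
    { R := A, K := K, i₁ := X.fromSpecResidueField x, i₂ := a, commSq := ⟨ha.symm⟩ }
  obtain ⟨⟨⟨l, hl₁, -⟩⟩⟩ := hex Sq
  let Z := Limits.pullback f l
  haveI : IsFinite (Limits.pullback.snd f l) := MorphismProperty.pullback_snd f l inferInstance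
  haveI : Etale (Limits.pullback.snd f l) := MorphismProperty.pullback_snd f l inferInstance
  haveI : IsAffine Z := isAffine_of_isAffineHom (Limits.pullback.snd f l)
  let g : A →+* Y.residueField y := (f.residueFieldMap y).hom.comp A.subtype
  let ψ : Spec (Y.residueField y) ⟶ Z :=
    Limits.pullback.lift (Y.fromSpecResidueField y) (Spec.map (CommRingCat.ofHom g)) (by
      rw [← Scheme.Hom.SpecMap_residueFieldMap_fromSpecResidueField]
      rw [show X.fromSpecResidueField (f.base y) = Spec.map (CommRingCat.ofHom A.subtype) ≫ l from hl₁.symm,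
        ← Category.assoc, ← Spec.map_comp]
      rfl)
  let r : CommRingCat.of A ⟶ Γ(Z, ⊤) := (Scheme.ΓSpecIso (CommRingCat.of A)).inv ≫ (Limits.pullback.snd f l).appTop
  have hsnd : Z.isoSpec.hom ≫ Spec.map r = Limits.pullback.snd f l := by
    show Z.isoSpec.hom ≫ Spec.map (_ ≫ _) = _
    rw [Spec.map_comp, Scheme.isoSpec_hom_naturality_assoc, Scheme.isoSpec, asIso_hom,
      toSpecΓ_SpecMap_ΓSpecIso_inv, Category.comp_id]
  have hetale : r.hom.Etale := (RingHom.Etale.respectsIso).2 _ (Scheme.ΓSpecIso (CommRingCat.of A)).commRingCatIsoToRingEquiv.symm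
    (HasRingHomProperty.appTop (P := @Etale) _ inferInstance)
  have hfin : r.hom.Finite := (Scheme.Hom.finite_appTop (Limits.pullback.snd f l)).comp
    (RingHom.Finite.of_surjective _ (ConcreteCategory.bijective_of_isIso (Scheme.ΓSpecIso (CommRingCat.of A)).inv).2)
  letI : Algebra A Γ(Z, ⊤) := r.hom.toAlgebra
  haveI : Module.Finite A Γ(Z, ⊤) := hfin
  haveI : Algebra.Etale A Γ(Z, ⊤) := hetale
  haveI : SurjectiveOnStalks ψ := by
    haveI : SurjectiveOnStalks (ψ ≫ Limits.pullback.fst f l) := by
      rw [Limits.pullback.lift_fst]
      exact ⟨(Y.fromSpecResidueField y).stalkMap_surjective⟩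
    exact SurjectiveOnStalks.of_comp ψ (Limits.pullback.fst f l)
  let φ : Γ(Z, ⊤) ⟶ Y.residueField y := Spec.preimage (ψ ≫ Z.isoSpec.hom)
  have hs : φ.hom.SurjectiveOnStalks := by
    rw [← SurjectiveOnStalks.Spec_iff, Spec.map_preimage]
    infer_instance
  have hφ : r ≫ φ = CommRingCat.ofHom g := Spec.map_injective (by
    rw [Spec.map_comp, Spec.map_preimage, Category.assoc, hsnd, Limits.pullback.lift_snd]
    rfl)
  have hg : Function.Injective g := (f.residueFieldMap y).hom.injective.comp Subtype.val_injective
  exact EtRam7.isTamelyRamified_of_finite_unramified g hg φ.hom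
    (congrArg CommRingCat.Hom.hom hφ) hs

end Groth.Agent.S18596
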