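import Groth.Statements.S18597
import Mathlib
import Groth.Agent.MorLib.GeomFibre
import Groth.Agent.EtRam7.GaloisTame
-- import your own Groth.Agent.* helpers here

set_option autoImplicit false
universe u
open EtRam

namespace Groth.Agent.S18597

open AlgebraicGeometry CategoryTheory in
/-- Let k be a perfect field and X a k-scheme. A finite étale cover of X by a torsor under a finite
group of order prime to the characteristic of k is curve-tame, i.e. tamely ramified at every place
at infinity of every regular k-curve mapping to X. Stated here unfolded at a single place and for a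
connected Galois cover Z ⟶ X (the X-automorphisms of Z act transitively on geometric fibres) whose
automorphism group has order invertible in k: for every point z of Z with image x and every discrete
valuation ring A of the residue field κ(x) through which Spec κ(x) ⟶ Spec k factors (so A contains k
and has the residue characteristic of k), the finite separable extension κ(z) of κ(x) is tamely
ramified with respect to A. Without the factorisation through Spec A the claim fails already for X =
Spec ℚ, Z = Spec ℚ(√2) and A = ℤ localised at 2. (The published statement is for torsors under a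
finite abelian group of order prime to the characteristic; a connected component of such a torsor is
a Galois cover of this kind.) -/
theorem result
    (k : Type u) [Field k] [PerfectField k] {X : Scheme.{u}} (s : X ⟶ Spec (CommRingCat.of k))
    (Z : FEt.Cat X) (hZ : PiSp.IsGaloisCover Z) (hn : (Nat.card (Aut Z) : k) ≠ 0) (z : Z.left)
    (A : ValuationSubring (X.residueField (Z.hom.base z))) [IsDiscreteValuationRing A]
    (a : Spec (CommRingCat.of A) ⟶ Spec (CommRingCat.of k))
    (ha : Spec.map (CommRingCat.ofHom A.subtype) ≫ a = X.fromSpecResidueField (Z.hom.base z) ≫ s) :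
    EtRam.IsTamelyRamified A ((Z.hom.residueFieldMap z).hom.comp A.subtype) := by
  classical
  let f : Z.left ⟶ X := Z.hom
  haveI : IsFinite f := Z.prop.1
  haveI : Etale f := Z.prop.2
  let K := X.residueField (f.base z)
  let L := Z.left.residueField z
  letI : Algebra K L := (f.residueFieldMap z).hom.toAlgebra
  haveI : Module.Finite K L := Groth.Agent.MorLib.GF.finite_residueFieldMap f z
  haveI : Algebra.IsSeparable K L :=
    inferInstanceAs (letI : Algebra (X.residueField (f.base z)) (Z.left.residueField z) :=
      (f.residueFieldMap z).hom.toAlgebra; Algebra.IsSeparable (X.residueField (f.base z)) (Z.left.residueField z))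
  let Ω := AlgebraicClosure L
  let ι₀ : L →ₐ[K] Ω := IsScalarTower.toAlgHom K L Ω
  let ξ : Spec (CommRingCat.of Ω) ⟶ X :=
    Spec.map (CommRingCat.ofHom (algebraMap K Ω)) ≫ X.fromSpecResidueField (f.base z)
  have hemb : ∀ e : L →ₐ[K] Ω,
      (Spec.map (CommRingCat.ofHom e.toRingHom) ≫ Z.left.fromSpecResidueField z) ≫ f = ξ := fun e => by
    rw [Category.assoc, ← Scheme.Hom.SpecMap_residueFieldMap_fromSpecResidueField, ← Spec.map_comp_assoc]
    show Spec.map _ ≫ _ = Spec.map _ ≫ _
    congr 2
    exact CommRingCat.hom_ext (RingHom.ext fun c => e.commutes c)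
  let sec (e : L →ₐ[K] Ω) : FEt.fiberObj ξ Z := ⟨_, hemb e⟩
  let q : Spec (CommRingCat.of Ω) := IsLocalRing.closedPoint Ω
  have hpt : ∀ e, (sec e).1.base q = z := fun e => (Scheme.Hom.comp_apply _ _ _).trans
    (Scheme.fromSpecResidueField_apply _ _)
  have hsec : ∀ t : FEt.fiberObj ξ Z, t.1.base q = z → ∃ e, sec e = t := by
    intro t ht
    obtain ⟨ψ, hψ⟩ : ∃ ψ : Z.left.residueField z ⟶ CommRingCat.of Ω,
        t.1 = Spec.map ψ ≫ Z.left.fromSpecResidueField z := by
      refine ⟨(Z.left.residueFieldCongr ht.symm).hom ≫ Z.left.descResidueField (Scheme.stalkClosedPointTo t.1), ?_⟩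
      rw [Spec.map_comp, Category.assoc, Scheme.residueFieldCongr_fromSpecResidueField,
        Scheme.descResidueField_stalkClosedPointTo_fromSpecResidueField]
    have h1 : t.1 ≫ f = ξ := t.2
    rw [hψ, Category.assoc, ← Scheme.Hom.SpecMap_residueFieldMap_fromSpecResidueField,
      ← Spec.map_comp_assoc, cancel_mono, Spec.map_inj] at h1
    exact ⟨{ ψ.hom with commutes' := fun c => congr($h1 c) }, Subtype.ext hψ.symm⟩
  have hinj : Function.Injective sec := fun e e' h => by
    have h1 := (cancel_mono _).mp (congrArg Subtype.val h)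
    rw [Spec.map_inj] at h1
    exact AlgHom.ext fun c => congr($h1 c)
  have hsigma : ∀ (σ : Aut Z) (e e' : L →ₐ[K] Ω), (FEt.fiber ξ).map σ.hom (sec e) = sec e' →
      σ.hom.left.base z = z := fun σ e e' h => by
    have h1 := congrArg (fun t : FEt.fiberObj ξ Z => t.1.base q) h
    simp only [hpt] at h1
    exact (congrArg σ.hom.left.base (hpt e)).symm.trans ((Scheme.Hom.comp_apply _ _ _).symm.trans h1)
  haveI : IsGalois K L := by
    have hrange : ∀ (e : L →ₐ[K] Ω) (x : L), ∃ y, ι₀ y = e x := by
      intro e x
      obtain ⟨σ, hσ⟩ := hZ.2 Ω ξ (sec ι₀) (sec e)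
      have hz := hsigma σ ι₀ e hσ
      let ρ : Z.left.residueField z ⟶ Z.left.residueField z :=
        (Z.left.residueFieldCongr hz.symm).hom ≫ σ.hom.left.residueFieldMap z
      have h1 : Spec.map (ρ ≫ CommRingCat.ofHom ι₀.toRingHom) ≫ Z.left.fromSpecResidueField z =
          Spec.map (CommRingCat.ofHom e.toRingHom) ≫ Z.left.fromSpecResidueField z := by
        have h2 := congrArg Subtype.val hσ
        refine Eq.trans ?_ h2
        show _ = (Spec.map (CommRingCat.ofHom ι₀.toRingHom) ≫ Z.left.fromSpecResidueField z) ≫ σ.hom.left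
        rw [Category.assoc (Spec.map (CommRingCat.ofHom ι₀.toRingHom)),
          ← Scheme.Hom.SpecMap_residueFieldMap_fromSpecResidueField, Spec.map_comp, Category.assoc]
        congr 1
        rw [Spec.map_comp, Category.assoc, Scheme.residueFieldCongr_fromSpecResidueField]
      rw [cancel_mono, Spec.map_inj] at h1
      exact ⟨ρ x, congr($h1 x)⟩
    haveI : IsAlgClosed Ω := inferInstance
    have hinj₀ : Function.Injective ι₀ := ι₀.injective
    let r : (L →ₐ[K] Ω) → (L →ₐ[K] L) := fun e =>
      (AlgEquiv.ofInjective ι₀ hinj₀).symm.toAlgHom.comp (e.codRestrict ι₀.range fun x => hrange e x)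
    have hr : ∀ e x, ι₀ (r e x) = e x := fun e x =>
      congrArg Subtype.val ((AlgEquiv.ofInjective ι₀ hinj₀).apply_symm_apply _)
    apply IsGalois.of_card_aut_eq_finrank
    refine le_antisymm ?_ ?_
    · rw [Nat.card_eq_fintype_card]
      exact AlgEquiv.card_le
    · rw [← AlgHom.card K L Ω, ← Nat.card_eq_fintype_card]
      refine Nat.card_le_card_of_injective (fun e => AlgEquiv.ofBijective (r e) (r e).bijective) fun e e' h =>
        AlgHom.ext fun x => ?_
      have h3 : r e x = r e' x := congrArg (fun g : Gal(L/K) => g x) h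
      rw [← hr e x, ← hr e' x, h3]
  haveI : Finite (Aut Z) := Nat.finite_of_card_ne_zero fun h0 => hn (by rw [h0, Nat.cast_zero])
  letI : MulAction (Aut Z) (FEt.fiberObj ξ Z) :=
    { smul := fun σ t => (FEt.fiber ξ).map σ.hom t
      one_smul := fun t => congrArg (fun g => g t) (congrArg ConcreteCategory.hom ((FEt.fiber ξ).map_id Z))
      mul_smul := fun σ τ t => congrArg (fun g => g t)
        (congrArg ConcreteCategory.hom ((FEt.fiber ξ).map_comp τ.hom σ.hom)) }
  have hsmul : ∀ (σ : Aut Z) (t : FEt.fiberObj ξ Z), (σ • t).1.base q = σ.hom.left.base (t.1.base q) :=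
    fun σ t => Scheme.Hom.comp_apply _ _ _
  let H : Subgroup (Aut Z) :=
    { carrier := {σ | σ.hom.left.base z = z}
      one_mem' := rfl
      mul_mem' := fun {σ τ} (hσ : σ.hom.left.base z = z) (hτ : τ.hom.left.base z = z) => by
        show (σ * τ).hom.left.base z = z
        rw [← hpt ι₀, ← hsmul, mul_smul, hsmul, hsmul, hpt, hτ, hσ]
      inv_mem' := fun {σ} (hσ : σ.hom.left.base z = z) => by
        show σ⁻¹.hom.left.base z = z
        have h := hsmul σ⁻¹ (σ • sec ι₀)
        rw [inv_smul_smul, hsmul, hpt, hσ] at h
        exact h.symm }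
  let Fz := {t : FEt.fiberObj ξ Z // t.1.base q = z}
  letI : MulAction H Fz :=
    { smul := fun σ t => ⟨σ.1 • t.1, by rw [hsmul, t.2]; exact σ.2⟩
      one_smul := fun t => Subtype.ext (one_smul (Aut Z) t.1)
      mul_smul := fun σ τ t => Subtype.ext (mul_smul σ.1 τ.1 t.1) }
  have hcard : Module.finrank K L ∣ Nat.card (Aut Z) := by
    haveI : MulAction.IsPretransitive H Fz := ⟨fun s t => by
      obtain ⟨σ, hσ⟩ := hZ.2 Ω ξ s.1 t.1
      have hmem : σ.hom.left.base z = z := by
        have h := hsmul σ s.1
        rw [s.2, show σ • s.1 = t.1 from hσ, t.2] at h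
        exact h.symm
      exact ⟨⟨σ, hmem⟩, Subtype.ext hσ⟩⟩
    have hF : Nat.card Fz = Module.finrank K L := by
      rw [← AlgHom.card K L Ω, ← Nat.card_eq_fintype_card]
      refine (Nat.card_eq_of_bijective (fun e => (⟨sec e, hpt e⟩ : Fz))
        ⟨fun e e' h => hinj (congrArg Subtype.val h), fun t => ?_⟩).symm
      obtain ⟨e, he⟩ := hsec t.1 t.2
      exact ⟨e, Subtype.ext he⟩
    rw [← hF, ← MulAction.index_stabilizer_of_transitive H (⟨sec ι₀, hpt ι₀⟩ : Fz)]
    exact (Subgroup.index_dvd_card _).trans (Subgroup.card_subgroup_dvd_card H)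
  refine Groth.Agent.EtRam7.isTamelyRamified_of_isGalois (K := K) (L := L) fun p hp hc hd => hn ?_
  let j : k →+* IsLocalRing.ResidueField A := (IsLocalRing.residue A).comp (Spec.preimage a).hom
  haveI : CharP k p := (RingHom.charP_iff j j.injective p).2 hc
  exact (CharP.cast_eq_zero_iff k p _).2 (hd.trans hcard)

end Groth.Agent.S18597
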