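import Groth.Statements.S18608
import Groth.Agent.TraceRat.Kill
import Groth.Agent.RegLoc6.Normal
import Groth.Agent.S2654

set_option autoImplicit false
set_option backward.isDefEq.respectTransparency false
set_option backward.isDefEq.respectTransparency.types false
set_option maxHeartbeats 400000
universe u
open CategoryTheory CategoryTheory.Limits AlgebraicGeometry
open Resolve

namespace Groth.Agent.S18608

theorem main {R : CommRingCat.{u}} [IsDomain R] [IsIntegrallyClosed R] {B : Type u} [CommRing B] [IsDomain B]
    [IsNoetherianRing B] [IsIntegrallyClosed B] [Algebra R B] [Module.Finite R B]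
    (hinj : Function.Injective (algebraMap R B)) (hNB : CAlg.IsNagata B) (hB2 : ringKrullDim B = 2)
    (hB : ∀ (n : Ideal B) [n.IsMaximal], ringKrullDim (Localization.AtPrime n) = 2 →
      Curv2.IsRationalSing (Localization.AtPrime n))
    (K L : Type u) [Field K] [Field L] [Algebra R K] [IsFractionRing R K] [Algebra B L] [IsFractionRing B L]
    [Algebra K L] [Algebra R L] [IsScalarTower R K L] [IsScalarTower R B L]
    {Y : Scheme.{u}} (f : Y ⟶ Spec R) [IsProper f] [AlgebraicGeometry.IsIntegral Y]
    (hreg : Models.IsRegularScheme Y)
    (hbir : ∃ U : (Spec R).Opens, (U : Set ↥(Spec R)).Nonempty ∧ IsIso (f ∣_ U))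
    (x : Coh.HH Y (Coh.structureModule Y) 1) : Module.finrank K L • x = 0 := by
  haveI : FaithfulSMul R B := (faithfulSMul_iff_algebraMap_injective R B).2 hinj
  haveI := Algebra.IsIntegral.of_finite R B
  haveI : FiniteDimensional K L := by
    haveI : IsLocalization (Algebra.algebraMapSubmonoid B (nonZeroDivisors R)) L :=
      Algebra.IsAlgebraic.instIsLocalizationAlgebraMapSubmonoidNonZeroDivisors R B L
    exact Module.Finite.of_isLocalization R B (nonZeroDivisors R)
  let KK := (Spec R).functionField
  let e : KK ≃ₐ[R] K := IsLocalization.algEquiv (nonZeroDivisors R) KK K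
  letI : Algebra KK L := ((algebraMap K L).comp e.toRingEquiv.toRingHom).toAlgebra
  haveI : IsScalarTower R KK L := IsScalarTower.of_algebraMap_eq fun a => by
    show _ = algebraMap K L (e (algebraMap R KK a))
    rw [e.commutes, ← IsScalarTower.algebraMap_apply]
  have hd : Module.finrank KK L = Module.finrank K L :=
    Algebra.finrank_eq_of_equiv_equiv e.toRingEquiv (RingEquiv.refl L) (RingHom.ext fun a => rfl)
  haveI : FiniteDimensional KK L := Module.finite_of_finrank_pos (hd ▸ Module.finrank_pos)
  obtain ⟨hgen, hb⟩ := Groth.Agent.RatSing.birational_of_isIso f hbir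
  let N : Groth.Agent.NormSeq.Model (Spec R) := { Z := Y, G := f, gen := hgen, bir := hb }
  haveI : IsProper N.G := ‹IsProper f›
  have hn : ∀ y : N.Z, IsIntegrallyClosed (N.Z.presheaf.stalk y) := fun y => by
    haveI := hreg y
    exact Groth.Agent.RegLoc6.isIntegrallyClosed_of_isRegularLocalRing _
  rw [← hd]
  exact Groth.Agent.TraceRat.nsmul_eq_zero_model N hn _
    (fun m _ => Groth.Agent.TraceRat.solMul_descend KK L hNB hB2 hB m) x

/-- Let A ⊆ B be a finite injective extension of two-dimensional excellent Noetherian normal domains
with fraction fields K ⊆ L and L separable over K (so Spec B → Spec A is finite, surjective and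
generically étale), such that the localization of B at every maximal ideal of height two has a
rational singularity: every normal modification of it has vanishing H^1 of the structure sheaf. Let
Y → Spec A be a resolution of singularities: Y is an integral scheme all of whose local rings are
regular, proper over Spec A and an isomorphism over a nonempty open subset of Spec A. Then the
degree [L : K] annihilates the A-module H^1(Y, O_Y); in particular H^1(Y, O_Y) = 0 when [L : K] is a
unit in A. (Affine form of the published statement, which is for schemes and phrases the conclusion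
as the degree annihilating R^1 of the structure sheaf along the resolution; rational singularities
of the source are taken in the every-normal-modification form.) -/
theorem result (A B : Type u)
    [CommRing A] [CommRing B] [IsDomain A] [IsDomain B] [IsNoetherianRing A] [IsNoetherianRing B]
    [IsIntegrallyClosed A] [IsIntegrallyClosed B]
    (hAe : EGA4.IsExcellent A) (hBe : EGA4.IsExcellent B) (hA2 : ringKrullDim A = 2) (hB2 : ringKrullDim B = 2)
    [Algebra A B] [Module.Finite A B] (hinj : Function.Injective (algebraMap A B))
    (K L : Type u) [Field K] [Field L] [Algebra A K] [IsFractionRing A K] [Algebra B L] [IsFractionRing B L]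
    [Algebra K L] [Algebra A L] [IsScalarTower A K L] [IsScalarTower A B L] [Algebra.IsSeparable K L]
    (hB : ∀ (n : Ideal B) [n.IsMaximal], ringKrullDim (Localization.AtPrime n) = 2 →
      Curv2.IsRationalSing (Localization.AtPrime n))
    (Y : Scheme.{u}) [Y.Over (Spec (CommRingCat.of A))] [IsProper (Y ↘ Spec (CommRingCat.of A))]
    [AlgebraicGeometry.IsIntegral Y] (hreg : Models.IsRegularScheme Y)
    (hbir : ∃ U : (Spec (CommRingCat.of A)).Opens, (U : Set ↥(Spec (CommRingCat.of A))).Nonempty ∧
      IsIso ((Y ↘ Spec (CommRingCat.of A)) ∣_ U))
    (x : Coh.HH Y (Coh.structureModule Y) 1) :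
    (Module.finrank K L : A) • x = 0 := by
  rw [Nat.cast_smul_eq_nsmul]
  exact main (R := CommRingCat.of A) hinj (Groth.Agent.S2654.result B ⟨hBe.1, hBe.2.2.1, hBe.2.2.2⟩) hB2 hB K L
    (Y ↘ Spec (CommRingCat.of A)) hreg hbir x

end Groth.Agent.S18608
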