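import Groth.Statements.S18614
import Groth.Agent.LinTop7.Misc
-- import your own Groth.Agent.* helpers here

set_option autoImplicit false
universe u v
open LinTop

namespace Groth.Agent.S18614

/-- Let k be a field carrying the discrete topology and M a separated topological k-module with a
k-linear topology (the open k-submodules form a basis of neighbourhoods of zero and M is a
topological additive group). For a closed submodule M₁, the perpendicular of the perpendicular of
M₁, both taken with respect to the pairing of M with its continuous dual (the continuous k-linear
maps M → k), is M₁ itself: an element killed by every continuous functional vanishing on M₁ belongs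
to M₁. -/
theorem result (k : Type u) (M : Type v) [Field k]
    [TopologicalSpace k] [DiscreteTopology k] [AddCommGroup M] [Module k M] [TopologicalSpace M]
    [IsTopologicalAddGroup M] [IsLinearTopology k M] [T2Space M]
    (M₁ : Submodule k M) (hM₁ : IsClosed (M₁ : Set M)) (x : M)
    (hx : ∀ φ : M →L[k] k, (∀ m ∈ M₁, φ m = 0) → φ x = 0) : x ∈ M₁ := by
  exact Groth.Agent.LinTop7.mem_of_dual_annihilator k M M₁ hM₁ x hx

end Groth.Agent.S18614
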