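import Groth.Statements.S18615
import Groth.Agent.LinTop7.Misc
-- import your own Groth.Agent.* helpers here

set_option autoImplicit false
universe u v
open LinTop

namespace Groth.Agent.S18615

/-- Let k be a field carrying the discrete topology and M a separated topological k-module with a
k-linear topology (open k-submodules form a basis of neighbourhoods of zero, M a topological
additive group). For closed submodules M₁ ⊆ M₂ there is a short exact sequence 0 → M₂^⊥ → M₁^⊥ →
(M₂/M₁)^* → 0 of plain k-modules, where ⊥ denotes the annihilator in the continuous dual of M and *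
the continuous dual. Stated here as its one non-formal part, surjectivity on the right: every
continuous functional on M₂ (subspace topology) that vanishes on M₁ is the restriction of a
continuous functional on M vanishing on M₁ (continuous functionals on M₂/M₁ being the continuous
functionals on M₂ that kill M₁). -/
theorem result (k : Type u) (M : Type v) [Field k]
    [TopologicalSpace k] [DiscreteTopology k] [AddCommGroup M] [Module k M] [TopologicalSpace M]
    [IsTopologicalAddGroup M] [IsLinearTopology k M] [T2Space M]
    (M₁ M₂ : Submodule k M) (h₁₂ : M₁ ≤ M₂) (hM₁ : IsClosed (M₁ : Set M))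
    (hM₂ : IsClosed (M₂ : Set M)) (ψ : M₂ →L[k] k)
    (hψ : ∀ m : M₂, (m : M) ∈ M₁ → ψ m = 0) :
    ∃ φ : M →L[k] k, (∀ m ∈ M₁, φ m = 0) ∧ ∀ m : M₂, φ (m : M) = ψ m := by
  exact Groth.Agent.LinTop7.exists_dual_extension k M M₁ M₂ h₁₂ ψ hψ

end Groth.Agent.S18615
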