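import Groth.Statements.S18616
import Groth.Agent.Synt29.DRGen
import Mathlib

set_option autoImplicit false
universe u
open DeRham

namespace Groth.Agent.S18616

open exteriorPower in
/-- The formal Poincaré lemma. The published statement is that for a complete separated linearly
topologized commutative algebra K over a field k of characteristic zero the inclusion of the
separated de Rham complex of K into that of K[[t_1, ..., t_n]] is a quasi-isomorphism; this row is
the case K = k in positive degrees. Concretely: k is a field of characteristic 0, σ is finite, A =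
k[[σ]]; the separated differentials are modelled by the free A-module of functions σ → A (the
coordinate dt_i being the i-th basis vector) with the derivation δ whose components are the formal
partial derivatives, so that δ(A) generates it; d is any family of k-linear maps between consecutive
exterior powers of this module over A satisfying the de Rham rule with d ∘ d = 0. Then for every p ≥
1 the closed p-forms are exact. (Degree zero, that a power series with all partial derivatives zero
is constant, is omitted.) -/
theorem result (k : Type u) [Field k] [CharZero k]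
    (σ : Type u) [Finite σ]
    (δ : Derivation k (MvPowerSeries σ k) (σ → MvPowerSeries σ k))
    (hδ : ∀ (f : MvPowerSeries σ k) (i : σ), δ f i = MvPowerSeries.pderiv k i f)
    (hgen : Submodule.span (MvPowerSeries σ k) (Set.range δ) = ⊤)
    (d : ∀ p : ℕ, ↥(⋀[MvPowerSeries σ k]^p (σ → MvPowerSeries σ k)) →ₗ[k]
      ↥(⋀[MvPowerSeries σ k]^(p + 1) (σ → MvPowerSeries σ k)))
    (hd : DeRham.IsDiff δ d) (p : ℕ) :
    DeRham.cocycles d (p + 1) ≤ DeRham.coboundaries d (p + 1) := by
  
  classical
  let _ : LinearOrder σ := linearOrderOfSTO (WellOrderingRel (α := σ))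
  have := Fintype.ofFinite σ
  let A := MvPowerSeries σ k
  let b : Module.Basis σ A (σ → A) := Pi.basisFun A σ
  have hb : ∀ i, b i = δ (MvPowerSeries.X i) := by
    intro i
    funext j
    rw [hδ, MvPowerSeries.pderiv_X, Pi.basisFun_apply, Pi.single_comm]
  -- contraction with the Euler field
  let φ : (σ → A) →ₗ[A] A := Fintype.linearCombination A (fun i => (MvPowerSeries.X i : A))
  have hφb : ∀ i, φ (b i) = MvPowerSeries.X i := fun i => by
    simp [φ, b, Fintype.linearCombination_apply, Pi.single_apply]
  let ι' : ∀ n, ↥(⋀[A]^(n + 1) (σ → A)) →ₗ[A] ↥(⋀[A]^n (σ → A)) := fun n =>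
    exteriorPower.alternatingMapLinearEquiv
      (AlternatingMap.alternatizeUncurryFin (φ.smulRight (exteriorPower.ιMulti A n)))
  have hι : ∀ (n : ℕ) (v : Fin (n + 1) → (σ → A)), ι' n (exteriorPower.ιMulti A (n + 1) v) =
      ∑ i : Fin (n + 1), (-1) ^ (i : ℕ) • (φ (v i) • exteriorPower.ιMulti A n (Fin.removeNth i v)) := by
    intro n v
    simp only [ι', exteriorPower.alternatingMapLinearEquiv_apply_ιMulti,
      AlternatingMap.alternatizeUncurryFin_apply]
    rfl
  let E : A → A := fun c => φ (δ c)
  have hd' : ∀ (n : ℕ) (c : A) (I : Fin n → σ), d n (c • exteriorPower.ιMulti A n (fun i => b (I i))) =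
      exteriorPower.ιMulti A (n + 1) (Fin.cons (δ c) fun i => b (I i)) := by
    intro n c I
    simp only [hb]
    exact hd.1 n c fun i => MvPowerSeries.X (I i)
  -- the Lie derivative is diagonal
  have hL : ∀ (n : ℕ) (I : Fin (n + 1) → σ) (c : A),
      ι' (n + 1) (d (n + 1) (c • exteriorPower.ιMulti A (n + 1) fun i => b (I i))) +
        d n (ι' n (c • exteriorPower.ιMulti A (n + 1) fun i => b (I i))) =
      (E c + ((n + 1 : ℕ) : A) * c) • exteriorPower.ιMulti A (n + 1) fun i => b (I i) := by
    intro n I c
    set v : Fin (n + 1) → (σ → A) := fun i => b (I i) with hv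
    have h1 : ι' (n + 1) (d (n + 1) (c • exteriorPower.ιMulti A (n + 1) v)) =
        E c • exteriorPower.ιMulti A (n + 1) v -
          ∑ i : Fin (n + 1), (-1) ^ (i : ℕ) • (φ (v i) •
            exteriorPower.ιMulti A (n + 1) (Fin.cons (δ c) (Fin.removeNth i v))) := by
      rw [hd' (n + 1) c I, hι, Fin.sum_univ_succ, sub_eq_add_neg, ← Finset.sum_neg_distrib]
      refine congr_arg₂ (· + ·) ?_ (Finset.sum_congr rfl fun i _ => ?_)
      · simp only [Fin.val_zero, pow_zero, one_smul, Fin.cons_zero, Fin.removeNth_zero, Fin.tail_cons, E]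
        rfl
      · simp only [Fin.cons_succ, Fin.val_succ, pow_succ, mul_neg_one, neg_smul]
        congr 4
        funext j
        refine Fin.cases ?_ (fun l => ?_) j
        · simp [Fin.removeNth]
        · simp [Fin.removeNth, Fin.succ_succAbove_succ, hv]
    have h2 : d n (ι' n (c • exteriorPower.ιMulti A (n + 1) v)) =
        ∑ i : Fin (n + 1), (-1) ^ (i : ℕ) • (φ (v i) •
            exteriorPower.ιMulti A (n + 1) (Fin.cons (δ c) (Fin.removeNth i v))) +
          ((n + 1 : ℕ) : A) • (c • exteriorPower.ιMulti A (n + 1) v) := by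
      rw [map_smul, hι, Finset.smul_sum, map_sum,
        show ((n + 1 : ℕ) : A) • (c • exteriorPower.ιMulti A (n + 1) v) =
          ∑ i : Fin (n + 1), c • exteriorPower.ιMulti A (n + 1) v by
            rw [Finset.sum_const, Finset.card_fin, Nat.cast_smul_eq_nsmul],
        ← Finset.sum_add_distrib]
      refine Finset.sum_congr rfl fun i _ => ?_
      have hrem : Fin.removeNth i v = fun j => b (I (i.succAbove j)) := rfl
      rw [smul_comm c ((-1 : ℤ) ^ (i : ℕ)), map_zsmul, smul_smul, hrem, hd', hv, hφb, Derivation.leibniz]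
      have hsplit : ∀ (x y : σ → A) (w : Fin n → (σ → A)) (s t : A),
          exteriorPower.ιMulti A (n + 1) (Fin.cons (s • x + t • y) w) =
            s • exteriorPower.ιMulti A (n + 1) (Fin.cons x w) + t • exteriorPower.ιMulti A (n + 1) (Fin.cons y w) := by
        intro x y w s t
        have e : ∀ z, (Fin.cons z w : Fin (n + 1) → (σ → A)) = Function.update (Fin.cons 0 w) 0 z :=
          fun z => (Fin.update_cons_zero ..).symm
        rw [e, AlternatingMap.map_update_add, AlternatingMap.map_update_smul, AlternatingMap.map_update_smul,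
          ← e, ← e]
      rw [hsplit, ← hb (I i), smul_add]
      refine (add_comm _ _).trans ?_
      congr 1
      have hins := (exteriorPower.ιMulti A (n + 1) (M := σ → A)).neg_one_pow_smul_map_insertNth i (b (I i))
        (Fin.removeNth i v)
      rw [smul_comm ((-1 : ℤ) ^ (i : ℕ)) c]
      congr 1
      rw [show Fin.insertNth i (b (I i)) (Fin.removeNth i v) = v from Fin.insertNth_self_removeNth i v] at hins
      rw [show (Fin.cons (b (I i)) fun j => b (I (i.succAbove j)) : Fin (n + 1) → (σ → A)) =
        Matrix.vecCons (b (I i)) (Fin.removeNth i v) from rfl, ← hins, smul_smul, ← pow_add,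
        Even.neg_one_pow ⟨(i : ℕ), rfl⟩, one_smul]
    rw [h1, h2, add_smul, mul_smul]
    abel
  -- the scalar part is invertible
  have hE : ∀ (c : A) (m : σ →₀ ℕ), MvPowerSeries.coeff m (E c) = ((m.degree : ℕ) : k) * MvPowerSeries.coeff m c := by
    intro c m
    simp only [E, φ, Fintype.linearCombination_apply, smul_eq_mul, map_sum, hδ, Finsupp.degree_eq_sum,
      Nat.cast_sum, Finset.sum_mul]
    refine Finset.sum_congr rfl fun i _ => ?_
    rw [mul_comm, MvPowerSeries.X_def, MvPowerSeries.coeff_monomial_mul]
    split_ifs with h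
    · have h1 : 1 ≤ m i := by simpa using h i
      rw [one_mul, MvPowerSeries.coeff_pderiv, tsub_add_cancel_of_le h, mul_comm]
      congr 1
      rw [Finsupp.tsub_apply, Finsupp.single_eq_same, ← Nat.cast_succ, Nat.succ_eq_add_one, Nat.sub_add_cancel h1]
    · have h0 : m i = 0 := by
        by_contra hne
        exact h (Finsupp.single_le_iff.2 (Nat.one_le_iff_ne_zero.2 hne))
      rw [h0, Nat.cast_zero, zero_mul]
  have hne : ∀ (q : ℕ) (m : σ →₀ ℕ), ((m.degree + (q + 1) : ℕ) : k) ≠ 0 := fun q m =>
    Nat.cast_ne_zero.2 (by omega)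
  have hscal : ∀ (q : ℕ) (c : A) (m : σ →₀ ℕ), MvPowerSeries.coeff m (E c + ((q + 1 : ℕ) : A) * c) =
      ((m.degree + (q + 1) : ℕ) : k) * MvPowerSeries.coeff m c := by
    intro q c m
    rw [map_add, hE, ← map_natCast (MvPowerSeries.C (σ := σ) (R := k)), MvPowerSeries.coeff_C_mul,
      Nat.cast_add m.degree, add_mul]
  let K : ℕ → A → A := fun q c => fun m => ((m.degree + (q + 1) : ℕ) : k)⁻¹ * MvPowerSeries.coeff m c
  have hK : ∀ (q : ℕ) (c : A), E (K q c) + ((q + 1 : ℕ) : A) * K q c = c := by
    intro q c
    refine MvPowerSeries.ext fun m => ?_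
    rw [hscal]
    show _ * (_⁻¹ * MvPowerSeries.coeff m c) = _
    rw [← mul_assoc, mul_inv_cancel₀ (hne q m), one_mul]
  have hinj : ∀ (q : ℕ) (c : A), E c + ((q + 1 : ℕ) : A) * c = 0 → c = 0 := by
    intro q c h
    refine MvPowerSeries.ext fun m => ?_
    have := hscal q c m
    rw [h, map_zero] at this
    rw [map_zero]
    exact (mul_eq_zero.1 this.symm).resolve_left (hne q m)
  let L : ∀ n, ↥(⋀[A]^(n + 1) (σ → A)) →+ ↥(⋀[A]^(n + 1) (σ → A)) := fun n =>
    (ι' (n + 1)).toAddMonoidHom.comp (d (n + 1)).toAddMonoidHom +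
      (d n).toAddMonoidHom.comp (ι' n).toAddMonoidHom
  have hLsum : ∀ (n : ℕ) (f : Set.powersetCard σ (n + 1) → A),
      L n (∑ s, f s • b.exteriorPower (n + 1) s) =
        ∑ s, (E (f s) + ((n + 1 : ℕ) : A) * f s) • b.exteriorPower (n + 1) s := by
    intro n f
    rw [map_sum]
    refine Finset.sum_congr rfl fun s _ => ?_
    rw [exteriorPower.basis_apply]
    exact hL n _ _
  intro ω hω
  have hω' : d (p + 1) ω = 0 := hω
  let η := ∑ s, K p ((b.exteriorPower (p + 1)).repr ω s) • b.exteriorPower (p + 1) s
  have hLη : L p η = ω := by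
    rw [hLsum]
    simp only [hK]
    exact (b.exteriorPower (p + 1)).sum_repr ω
  have hdη : d (p + 1) η = 0 := by
    set z := d (p + 1) η with hz
    have hdd : ∀ n y, d (n + 1) (d n y) = 0 := fun n y => LinearMap.congr_fun (hd.2 n) y
    have h1 : L (p + 1) z = 0 := by
      have h2 := congrArg (d (p + 1)) hLη
      rw [hω'] at h2
      simp only [L, AddMonoidHom.add_apply, AddMonoidHom.comp_apply, LinearMap.toAddMonoidHom_coe, map_add,
        hdd, add_zero] at h2 ⊢
      rw [hz, hdd, map_zero, zero_add]
      exact h2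
    rw [← (b.exteriorPower (p + 2)).sum_repr z] at h1 ⊢
    rw [hLsum] at h1
    refine Finset.sum_eq_zero fun s _ => ?_
    rw [hinj (p + 1) _ (Fintype.linearIndependent_iff.1 (b.exteriorPower (p + 2)).linearIndependent _ h1 s),
      zero_smul]
  refine ⟨ι' p η, ?_⟩
  rw [← hLη]
  simp only [L, AddMonoidHom.add_apply, AddMonoidHom.comp_apply, LinearMap.toAddMonoidHom_coe, hdη, map_zero,
    zero_add]

end Groth.Agent.S18616
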