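import Groth.Statements.S18617
-- import your own Groth.Agent.* helpers here

set_option autoImplicit false
universe u
open LocRes

namespace Groth.Agent.S18617

/-- The published statement is that, for a complete separated linearly topologized commutative algebra K
over a field of characteristic zero, the separated de Rham complex of K tensored with the exterior
algebra on symbols α_1, ..., α_n maps quasi-isomorphically to the separated de Rham complex of the
iterated Laurent series ring K((t_1, ..., t_n)), α_i going to dlog t_i; this row is the case K = k
and n = 1, unpacked: over a field k of characteristic 0, a formal Laurent series f in k((t)) has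
term-by-term derivative zero if and only if it is the constant series on its coefficient of degree
0, and a Laurent series g is the derivative of some Laurent series if and only if its residue (the
coefficient of t⁻¹) vanishes; so H⁰ of the complex k((t)) → k((t)) dt is k and H¹ is the line
spanned by the class of dt/t, on which the residue is 1. -/
theorem result (k : Type u) [Field k] [CharZero k] :
    (∀ f : LaurentSeries k, LocRes.D k f = 0 ↔ f = HahnSeries.C (f.coeff 0)) ∧
      ∀ g : LaurentSeries k, (∃ f : LaurentSeries k, LocRes.D k f = g) ↔ LocRes.res k g = 0 := by
  refine ⟨fun f => ⟨fun h => HahnSeries.ext (funext fun i => ?_), fun h => by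
    rw [h, LocRes.D_apply, LocRes.derivative_C]⟩, fun g => ⟨?_, fun hg => ?_⟩⟩
  · rw [HahnSeries.C_apply, HahnSeries.coeff_single]
    split_ifs with hi
    · rw [hi]
    · have := congrArg (fun z : LaurentSeries k => z.coeff (i - 1)) h
      simp only [LocRes.D_coeff, sub_add_cancel, HahnSeries.coeff_zero, zsmul_eq_mul,
        mul_eq_zero, Int.cast_eq_zero] at this
      exact this.resolve_left hi
  · rintro ⟨f, rfl⟩
    simp [LocRes.res_apply, LocRes.derivative_coeff]
  · have bdd : BddBelow (Function.support fun n : ℤ => g.coeff (n - 1) / (n : k)) := by
      refine ⟨g.order + 1, fun n hn => ?_⟩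
      by_contra hlt
      exact hn (by simp [HahnSeries.coeff_eq_zero_of_lt_order (show n - 1 < g.order by omega)])
    refine ⟨HahnSeries.ofSuppBddBelow _ bdd, HahnSeries.ext (funext fun n => ?_)⟩
    rw [LocRes.D_coeff]
    simp only [HahnSeries.coeff_ofSuppBddBelow, add_sub_cancel_right, zsmul_eq_mul]
    rcases eq_or_ne (n + 1) 0 with h | h
    · rw [h, show n = -1 by omega]
      simpa using hg.symm
    · field_simp

end Groth.Agent.S18617
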