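import Groth.Statements.S18619
import Groth.Agent.Synt29.BlowPtsSimple

set_option autoImplicit false
universe u
open VBPn

namespace Groth.Agent.S18619

open CategoryTheory CategoryTheory.Limits AlgebraicGeometry TopologicalSpace in
/-- Let k be an algebraically closed field of characteristic zero, n ≥ 2, Z = {p_1, …, p_s} distinct
closed points of P^n_k and π : X → P^n_k a blow-up of P^n_k in the ideal of the reduced set Z
(universal property); write O_X(−e₀) = π^*O(−1), O_X(−2e₀) = π^*O(−2). Let f, f′ : P → Q be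
monomorphisms of O_X-modules with P ≅ O_X(−2e₀)^a and Q ≅ O_X(−e₀)^b whose cokernels E and E′ are
finite locally free of rank b − a. Then E ≅ E′ (existence of an isomorphism) if and only if f and f′
lie in one orbit of Aut(Q) × Aut(P), that is f ≫ β = γ ≫ f′ for some automorphisms β of Q and γ of
P. (The published statement takes f and f′ in the open set of matrices of linear forms that are
surjective on global sections after dualising; the argument does not use that condition and it is
not assumed here.) -/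
theorem result (k : Type u) [Field k] [IsAlgClosed k] [CharZero k]
    (n : ℕ) (hn : 2 ≤ n) (s : ℕ) (P : Fin s → ↥(CohB1.ProjSpace n k)) (hP : Function.Injective P)
    (hPc : ∀ i, IsClosed ({P i} : Set ↥(CohB1.ProjSpace n k))) (hZ : IsClosed (Set.range P))
    (X : Scheme.{u}) (π : X ⟶ CohB1.ProjSpace n k)
    (hπ : BlowUp.IsBlowUp π (Scheme.IdealSheafData.vanishingIdeal ⟨Set.range P, hZ⟩))
    (a b : ℕ) (P₁ Q₁ : X.Modules)
    (hP₁ : Nonempty (P₁ ≅ ∐ fun _ : Fin a => (Scheme.Modules.pullback π).obj (Twist.twistProjSpace n k (-2))))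
    (hQ₁ : Nonempty (Q₁ ≅ ∐ fun _ : Fin b => (Scheme.Modules.pullback π).obj (Twist.twistProjSpace n k (-1))))
    (f f' : P₁ ⟶ Q₁) [Mono f] [Mono f'] (hE : FlatMod.IsFinLocFreeOfRank (b - a) (cokernel f))
    (hE' : FlatMod.IsFinLocFreeOfRank (b - a) (cokernel f')) :
    Nonempty (cokernel f ≅ cokernel f') ↔
      ∃ (β : Q₁ ≅ Q₁) (γ : P₁ ≅ P₁), f ≫ β.hom = γ.hom ≫ f' := by
  obtain ⟨eP⟩ := hP₁
  obtain ⟨eQ⟩ := hQ₁
  letI : X.Over (Spec (CommRingCat.of k)) := ⟨π ≫ CohB1.ProjSpace.toSpec n k⟩
  have hfin := Set.finite_range P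
  have hpt : ∀ x ∈ Set.range P, IsClosed ({x} : Set ↥(CohB1.ProjSpace n k)) := by
    rintro _ ⟨i, rfl⟩
    exact hPc i
  exact Synt29.LineSimple.coker_iso_iff (k := k) (Synt29.BlowPts.line π (-1)) eP eQ f f'
    (Synt29.BlowPts.hh_line π (-1) (-2) 0 (Synt29.BlowPts.hh_vanish _ hfin hpt hZ (by omega) hπ _ 0 (by simp)
      (fun h => by omega)))
    (Synt29.BlowPts.hh_line π (-1) (-2) 1 (Synt29.BlowPts.hh_vanish _ hfin hpt hZ (by omega) hπ _ 1 (by simp)
      (fun h => by omega)))

end Groth.Agent.S18619
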