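import Groth.Statements.S18621
import Groth.Agent.Synt29.BlowPtsMulti

set_option autoImplicit false
universe u
open VBPn

namespace Groth.Agent.S18621

open CategoryTheory CategoryTheory.Limits AlgebraicGeometry TopologicalSpace in
/-- Let k be an algebraically closed field of characteristic zero, n ≥ 3, Z = {p_1, …, p_s} distinct
closed points of P^n_k and π : X → P^n_k a blow-up of P^n_k in the ideal of the reduced set Z
(universal property). Write O_X(e₀) = π^*O(1), let e_t be the exceptional divisor over p_t, with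
ideal sheaf the inverse image of the ideal of p_t, and for c ∈ ℤ and integers d_t ≥ 0 put O_X(c e₀ −
Σ d_t e_t) = π^*O(c) ⊗ ⨂_t (ideal of e_t)^{⊗ d_t}. If c < 0 then H^0(X, O_X(c e₀ − Σ d_t e_t)) = 0.
(Stated for d_t ≥ 0, the case in which the text identifies these groups with the cohomology of a
twisted ideal sheaf of a fat point scheme in P^n.) -/
theorem result (k : Type u) [Field k] [IsAlgClosed k] [CharZero k]
    (n : ℕ) (hn : 3 ≤ n) (s : ℕ) (P : Fin s → ↥(CohB1.ProjSpace n k)) (hP : Function.Injective P)
    (hPc : ∀ i, IsClosed ({P i} : Set ↥(CohB1.ProjSpace n k))) (hZ : IsClosed (Set.range P))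
    (X : Scheme.{u}) (π : X ⟶ CohB1.ProjSpace n k)
    (hπ : BlowUp.IsBlowUp π (Scheme.IdealSheafData.vanishingIdeal ⟨Set.range P, hZ⟩))
    (c : ℤ) (hc : c < 0) (d : Fin s → ℕ) :
    Subsingleton (Coh.HH X (CohB1.tensorMod ((Scheme.Modules.pullback π).obj (Twist.twistProjSpace n k c))
        (FGA.multiTwist (fun t : Fin s =>
          ClSub.idealMod ((Scheme.IdealSheafData.vanishingIdeal ⟨{P t}, hPc t⟩).comap π)) d)) 0) := by
  exact Synt29.BlowPts.hh_Md P hPc hZ hP hπ (by omega) c d 0 (by omega)
    (Synt29.BlowPts.hh_vanish _ (Set.finite_range P) (Synt29.BlowPts.hpt_range P hPc) hZ (by omega) hπ c 0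
      (fun h => by omega) (fun h => by omega))

end Groth.Agent.S18621
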