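import Groth.Statements.S18623
import Groth.Agent.Synt29.BlowPtH1

set_option autoImplicit false
universe u
open VBPn

namespace Groth.Agent.S18623

open CategoryTheory CategoryTheory.Limits AlgebraicGeometry TopologicalSpace in
/-- For one blown-up point; let k be an algebraically closed field of characteristic zero, n ≥ 3, p a
closed point of P^n_k and π : X → P^n_k a blow-up of P^n_k in the ideal of p (universal property),
with exceptional divisor e₁ whose ideal sheaf is the inverse image ideal, and O_X(e₀) = π^*O(1); put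
O_X(c e₀ − d e₁) = π^*O(c) ⊗ (ideal of e₁)^{⊗ d} for c ∈ ℤ, d ≥ 0. If d = 0, or if 0 < d ≤ c, then
H^1(X, O_X(c e₀ − d e₁)) = 0. (The published statement also covers no point blown up, where it is
the vanishing of H^1(P^n, O(c)).) -/
theorem result (k : Type u) [Field k] [IsAlgClosed k] [CharZero k]
    (n : ℕ) (hn : 3 ≤ n) (p : ↥(CohB1.ProjSpace n k)) (hp : IsClosed ({p} : Set ↥(CohB1.ProjSpace n k)))
    (X : Scheme.{u}) (π : X ⟶ CohB1.ProjSpace n k)
    (hπ : BlowUp.IsBlowUp π (Scheme.IdealSheafData.vanishingIdeal ⟨{p}, hp⟩))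
    (c : ℤ) (d : ℕ) (hcd : d = 0 ∨ (0 < d ∧ (d : ℤ) ≤ c)) :
    Subsingleton (Coh.HH X (CohB1.tensorMod ((Scheme.Modules.pullback π).obj (Twist.twistProjSpace n k c))
      (CohB1.tensorPow (ClSub.idealMod (BlowUp.exceptional π (Scheme.IdealSheafData.vanishingIdeal ⟨{p}, hp⟩))) d)) 1) := by
  have hpt : ∀ x ∈ ({p} : Set ↥(CohB1.ProjSpace n k)), IsClosed ({x} : Set ↥(CohB1.ProjSpace n k)) :=
    fun x hx => hx ▸ hp
  rcases hcd with rfl | ⟨hd, hdc⟩
  · obtain ⟨e⟩ := H23.PicMul.unit (Synt29.BlowPts.pO π c)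
    exact QCoh.subsingleton_HH_of_iso e.symm 1 (Synt29.BlowPts.hh_vanish _ (Set.finite_singleton p) hpt hp (by omega) hπ c 1
      (fun h => by omega) (fun h => by omega))
  · obtain ⟨c', rfl⟩ : ∃ c' : ℕ, c = (c' : ℤ) := ⟨c.toNat, by omega⟩
    exact Synt29.BlowPts.hh_one_point hp hπ (by omega) c' d (by omega)

end Groth.Agent.S18623
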