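import Groth.Statements.S18624
import Groth.Agent.H28.Blow1.Main
-- import your own Groth.Agent.* helpers here

set_option autoImplicit false
set_option backward.isDefEq.respectTransparency false
set_option backward.isDefEq.respectTransparency.types false
set_option maxHeartbeats 400000
universe u
open VBPn

namespace Groth.Agent.S18624

open CategoryTheory CategoryTheory.Limits AlgebraicGeometry TopologicalSpace in
/-- The bundles are arithmetically Cohen–Macaulay: let k be an algebraically closed field of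
characteristic zero, n ≥ 3, Z a set of s ≤ 1 closed points of P^n_k and π : X → P^n_k a blow-up of
P^n_k in the ideal of the reduced set Z (universal property; for s = 0 this is P^n_k itself). Write
O_X(e₀) = π^*O(1), let I_E be the exceptional ideal (inverse image ideal of Z), and let H be the
anticanonical module, H ≅ π^*O(n+1) ⊗ I_E^{⊗(n−1)}, with a tensor inverse H′. Let g : Q → P be an
epimorphism of O_X-modules with Q ≅ O_X(e₀)^b and P ≅ O_X(2e₀)^a (a matrix of linear forms) whose
induced map on global sections H^0(X, Q) → H^0(X, P) is surjective, and let G = ker g. Then G has no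
intermediate cohomology with respect to H: for 1 ≤ i ≤ n − 1 and every t ≥ 0, H^i(X, G ⊗ H^{⊗t}) = 0
and H^i(X, G ⊗ H′^{⊗t}) = 0. (The published statement asserts this for the dual bundle E = G^∨ and
for a, b of a particular shape; since X is smooth and proper with canonical module H′ and G is
locally free, Serre duality exchanges the two families of vanishings, and the argument uses nothing
about a, b beyond the displayed presentation and the surjectivity on global sections.) -/
theorem result (k : Type u) [Field k] [IsAlgClosed k] [CharZero k]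
    (n : ℕ) (hn : 3 ≤ n) (s : ℕ) (P : Fin s → ↥(CohB1.ProjSpace n k)) (hP : Function.Injective P)
    (hPc : ∀ i, IsClosed ({P i} : Set ↥(CohB1.ProjSpace n k))) (hZ : IsClosed (Set.range P))
    (X : Scheme.{u}) (π : X ⟶ CohB1.ProjSpace n k)
    (hπ : BlowUp.IsBlowUp π (Scheme.IdealSheafData.vanishingIdeal ⟨Set.range P, hZ⟩)) (hs : s ≤ 1)
    (a b : ℕ) (Q₂ P₂ : X.Modules)
    (hQ₂ : Nonempty (Q₂ ≅ ∐ fun _ : Fin b => (Scheme.Modules.pullback π).obj (Twist.twistProjSpace n k 1)))
    (hP₂ : Nonempty (P₂ ≅ ∐ fun _ : Fin a => (Scheme.Modules.pullback π).obj (Twist.twistProjSpace n k 2)))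
    (g : Q₂ ⟶ P₂) [Epi g]
    (hg0 : Function.Surjective (Sheaf.H.map ((SheafOfModules.toSheaf X.ringCatSheaf).map g) 0))
    (Hm Hi : X.Modules)
    (hHm : Nonempty (Hm ≅ CohB1.tensorMod ((Scheme.Modules.pullback π).obj (Twist.twistProjSpace n k ((n : ℤ) + 1)))
      (CohB1.tensorPow (ClSub.idealMod (BlowUp.exceptional π (Scheme.IdealSheafData.vanishingIdeal ⟨Set.range P, hZ⟩))) (n - 1))))
    (hHi : ClSub.IsInverseOf Hi Hm) (i t : ℕ) (hi : 1 ≤ i) (hin : i + 1 ≤ n) :
    Subsingleton (Coh.HH X (CohB1.tensorMod (kernel g) (CohB1.tensorPow Hm t)) i) ∧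
      Subsingleton (Coh.HH X (CohB1.tensorMod (kernel g) (CohB1.tensorPow Hi t)) i) := by
  open Groth.Agent Groth.Agent.H23.PicMul Groth.Agent.H28 Groth.Agent.Synt29.BlowPts in
  obtain ⟨eH⟩ := hHm
  obtain ⟨eQ⟩ := hQ₂
  obtain ⟨eP⟩ := hP₂
  -- sections
  have hgt : Function.Surjective (g.app ⊤) := by
    intro w
    obtain ⟨v, hv⟩ := hg0 ((Sheaf.H.equiv₀ (Coh.toAb P₂) isTerminalTop).symm w)
    refine ⟨Sheaf.H.equiv₀ (Coh.toAb Q₂) isTerminalTop v, ?_⟩
    refine (Sheaf.H.equiv₀_naturality isTerminalTop ((Groth.Agent.QCoh.toAbFunctor X).map g) v).trans ?_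
    exact (congrArg _ hv).trans ((Sheaf.H.equiv₀ (Coh.toAb P₂) isTerminalTop).apply_symm_apply w)
  have hHmi : PicF.IsInvertible Hm := Groth.Agent.H23.PicMul.isInvertible_of_iso eH.symm
    (Groth.Agent.H23.PicMul.isInvertible_tensor
      (Groth.Agent.PicClLib.isInvertible_pullback π (Groth.Agent.Synt29.BlowPts.isInvertible_twist _))
      (Groth.Agent.H23.PicMul.isInvertible_tensorPow (Groth.Agent.H26.IdealCl.isInvertible_idealMod hπ.1) _))
  have hHii : PicF.IsInvertible Hi := (Groth.Agent.CurveOnSurf.isInvertible_of_inverse hHmi hHi).1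
  have h := fun (e : ℤ) (q : ℕ) (hq : 1 ≤ q) (hqn : q + 1 ≤ n) =>
    Groth.Agent.H28.Blow1.hh_twists P hPc hZ hP hπ eH hn hs hHi e t q hq hqn
  -- the twisted sequence
  have main : ∀ (H : X.Modules), PicF.IsInvertible H →
      (∀ q, 1 ≤ q → q + 1 ≤ n → Subsingleton (Coh.HH X (CohB1.tensorMod (Groth.Agent.Synt29.BlowPts.pO π 1) (CohB1.tensorPow H t)) q)) →
      (∀ q, 1 ≤ q → q + 1 < n → Subsingleton (Coh.HH X (CohB1.tensorMod (Groth.Agent.Synt29.BlowPts.pO π 2) (CohB1.tensorPow H t)) q)) →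
      (i = 1 → Function.Surjective (((DCoh.tensorBi.flip.obj (CohB1.tensorPow H t)).map g).app ⊤)) →
      Subsingleton (Coh.HH X (CohB1.tensorMod (kernel g) (CohB1.tensorPow H t)) i) := by
    intro H hH h1 h2 hsur
    let L := CohB1.tensorPow H t
    let R := DCoh.tensorBi.flip.obj L
    haveI : R.Additive := Functor.additive_of_preserves_binary_products _
    have hS : (ShortComplex.mk (kernel.ι g) g (kernel.condition g)).ShortExact :=
      ShortComplex.ShortExact.mk' (ShortComplex.exact_of_f_is_kernel _ (kernelIsKernel g)) inferInstance inferInstance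
    haveI : (DCoh.tensorBi.obj L).Additive := Functor.additive_of_preserves_binary_products _
    have hS' : ((ShortComplex.mk (kernel.ι g) g (kernel.condition g)).map R).ShortExact :=
      ShortComplex.shortExact_of_iso
        ((ShortComplex.mk (kernel.ι g) g (kernel.condition g)).mapNatIso ((Groth.Agent.KFlatLib.tensorBiFlipIso X).app L).symm)
        (Groth.Agent.H28.PBPush.shortExact_tens
          (Groth.Agent.H23.PullPush.isFinLocFree_of_isInvertible (Groth.Agent.H23.PicMul.isInvertible_tensorPow hH t)) hS)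
    have hsum : ∀ {r : ℕ} (c : ℤ) {M : X.Modules}, (M ≅ ∐ fun _ : Fin r => Groth.Agent.Synt29.BlowPts.pO π c) → ∀ q : ℕ,
        Subsingleton (Coh.HH X (CohB1.tensorMod (Groth.Agent.Synt29.BlowPts.pO π c) L) q) →
        Subsingleton (Coh.HH X (R.obj M) q) := fun c M e q hc => by
      obtain ⟨e1⟩ := Groth.Agent.H23.PicMul.comm (Groth.Agent.Synt29.BlowPts.pO π c) L
      obtain ⟨e2⟩ := Groth.Agent.H23.PicMul.comm L M
      exact Groth.Agent.QCoh.subsingleton_HH_of_iso e2 q
        (Groth.Agent.Synt29.LineSimple.hh_tens_sigma L _ q e (Groth.Agent.QCoh.subsingleton_HH_of_iso e1 q hc))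
    have hQ : Subsingleton (Coh.HH X (R.obj Q₂) i) := hsum 1 eQ i (h1 i hi hin)
    rcases Nat.lt_or_ge 1 i with hi2 | hi1
    · obtain ⟨j, rfl⟩ : ∃ j, i = j + 1 := ⟨i - 1, by omega⟩
      exact Groth.Agent.LerayCorner.subsingleton_HH_X₁ hS' j (hsum 2 eP j (h2 j (by omega) (by omega))) hQ
    · obtain rfl : i = 1 := le_antisymm hi1 hi
      exact Groth.Agent.LerayCorner.subsingleton_HH_one_of_surjective hS' (hsur rfl) hQ
  refine ⟨main Hm hHmi (fun q hq hqn => (h 1 q hq hqn).1 ⟨zero_le_one, one_le_two⟩)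
      (fun q hq hqn => (h 2 q hq (by omega)).1 ⟨zero_le_two, le_rfl⟩) fun _ => ?_,
    main Hi hHii (fun q hq hqn => (h 1 q hq hqn).2 ⟨zero_le_one, one_le_two, Or.inr (Or.inl le_rfl)⟩)
      (fun q hq hqn => (h 2 q hq (by omega)).2 ⟨zero_le_two, le_rfl, Or.inr (Or.inr hqn)⟩) fun _ => ?_⟩
  · exact Groth.Agent.H28.Blow1.surjective_twisted
      (fun e he => Groth.Agent.H28.Blow1.hh_koszul P hPc hZ hP hπ eH hn hs t e he) eP g hgt
  · rcases Nat.eq_zero_or_pos t with rfl | ht
    · exact Groth.Agent.H28.Blow1.surjective_twisted (L := CohB1.tensorPow Hi 0)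
        (fun e he => Groth.Agent.H28.Blow1.hh_koszul P hPc hZ hP hπ eH hn hs 0 e he) eP g hgt
    · intro w
      obtain ⟨e2⟩ := Groth.Agent.H23.PicMul.comm (CohB1.tensorPow Hi t) P₂
      obtain ⟨e1⟩ := Groth.Agent.H23.PicMul.comm (Groth.Agent.Synt29.BlowPts.pO π 2) (CohB1.tensorPow Hi t)
      haveI : Subsingleton (Coh.HH X ((DCoh.tensorBi.flip.obj (CohB1.tensorPow Hi t)).obj P₂) 0) :=
        Groth.Agent.QCoh.subsingleton_HH_of_iso e2 0 (Groth.Agent.Synt29.LineSimple.hh_tens_sigma _ _ 0 eP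
          (Groth.Agent.QCoh.subsingleton_HH_of_iso e1 0
            (Groth.Agent.H28.Blow1.hh_inv_zero P hPc hZ hπ eH hn hs hHi t ht)))
      let M₀ := (DCoh.tensorBi.flip.obj (CohB1.tensorPow Hi t)).obj P₂
      haveI : Subsingleton Γ(M₀, ⊤) := (Sheaf.H.equiv₀ (Coh.toAb M₀) isTerminalTop).symm.injective.subsingleton
      exact ⟨0, Subsingleton.elim (α := Γ(M₀, ⊤)) _ _⟩

end Groth.Agent.S18624
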