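import Groth.Statements.S18627
import Groth.Agent.Synt29.QuadricKer

set_option autoImplicit false
universe u
open VBPn

namespace Groth.Agent.S18627

open CategoryTheory CategoryTheory.Limits AlgebraicGeometry TopologicalSpace in
/-- Let k be an algebraically closed field of characteristic zero and X = P¹_k ×_k P¹_k the smooth
quadric surface, O(a, b) = pr₁^*O(a) ⊗ pr₂^*O(b), polarised by the anticanonical module H = O(2, 2)
(which embeds X in P⁸). Let r ≥ 2 and let m : Q₁ ⊞ Q₂ → P be an epimorphism of O_X-modules with Q₁ ≅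
O(1,0)^r, Q₂ ≅ O(0,1)^r and P ≅ O(1,1)^r whose induced map H^0(X, Q₁ ⊞ Q₂) → H^0(X, P) is
surjective, and F = ker m (a vector bundle of rank r). Then H^0(X, F) = 0, H^1(X, F) = 0, H^2(X, F ⊗
O(−2,−2)) = 0, and H^1(X, F ⊗ O(2t, 2t)) = 0 for every t ∈ ℤ. (The published statement says that
E(H) is an initialized Ulrich bundle for E = F^∨; by Serre duality on X, whose canonical module is
O(−2,−2), its vanishing part, that E has no intermediate cohomology in any twist by H, is equivalent
to the H^1-vanishings stated here, and its statement that E is initialized, H^0(X, E) = 0, to the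
H^2-vanishing; the argument establishes the vanishings for F and for E symmetrically; the count
h^0(E(H)) = 8r is not restated.) -/
theorem result (k : Type u) [Field k] [IsAlgClosed k] [CharZero k]
    (r : ℕ) (hr : 2 ≤ r) (Q₁ Q₂ P₂ : (pullback (CohB1.ProjSpace.toSpec 1 k) (CohB1.ProjSpace.toSpec 1 k)).Modules)
    (hQ₁ : Nonempty (Q₁ ≅ ∐ fun _ : Fin r => CohB1.tensorMod
        ((Scheme.Modules.pullback (pullback.fst (CohB1.ProjSpace.toSpec 1 k) (CohB1.ProjSpace.toSpec 1 k))).obj
          (Twist.twistProjSpace 1 k (1)))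
        ((Scheme.Modules.pullback (pullback.snd (CohB1.ProjSpace.toSpec 1 k) (CohB1.ProjSpace.toSpec 1 k))).obj
          (Twist.twistProjSpace 1 k (0)))))
    (hQ₂ : Nonempty (Q₂ ≅ ∐ fun _ : Fin r => CohB1.tensorMod
        ((Scheme.Modules.pullback (pullback.fst (CohB1.ProjSpace.toSpec 1 k) (CohB1.ProjSpace.toSpec 1 k))).obj
          (Twist.twistProjSpace 1 k (0)))
        ((Scheme.Modules.pullback (pullback.snd (CohB1.ProjSpace.toSpec 1 k) (CohB1.ProjSpace.toSpec 1 k))).obj
          (Twist.twistProjSpace 1 k (1)))))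
    (hP₂ : Nonempty (P₂ ≅ ∐ fun _ : Fin r => CohB1.tensorMod
        ((Scheme.Modules.pullback (pullback.fst (CohB1.ProjSpace.toSpec 1 k) (CohB1.ProjSpace.toSpec 1 k))).obj
          (Twist.twistProjSpace 1 k (1)))
        ((Scheme.Modules.pullback (pullback.snd (CohB1.ProjSpace.toSpec 1 k) (CohB1.ProjSpace.toSpec 1 k))).obj
          (Twist.twistProjSpace 1 k (1)))))
    (m : Q₁ ⊞ Q₂ ⟶ P₂) [Epi m]
    (hm0 : Function.Surjective (Sheaf.H.map ((SheafOfModules.toSheaf _).map m) 0)) :
    Subsingleton (Coh.HH _ (kernel m) 0) ∧ Subsingleton (Coh.HH _ (kernel m) 1) ∧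
      Subsingleton (Coh.HH _ (CohB1.tensorMod (kernel m) (CohB1.tensorMod
        ((Scheme.Modules.pullback (pullback.fst (CohB1.ProjSpace.toSpec 1 k) (CohB1.ProjSpace.toSpec 1 k))).obj
          (Twist.twistProjSpace 1 k (-2)))
        ((Scheme.Modules.pullback (pullback.snd (CohB1.ProjSpace.toSpec 1 k) (CohB1.ProjSpace.toSpec 1 k))).obj
          (Twist.twistProjSpace 1 k (-2))))) 2) ∧
      ∀ t : ℤ, Subsingleton (Coh.HH _ (CohB1.tensorMod (kernel m) (CohB1.tensorMod
        ((Scheme.Modules.pullback (pullback.fst (CohB1.ProjSpace.toSpec 1 k) (CohB1.ProjSpace.toSpec 1 k))).obj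
          (Twist.twistProjSpace 1 k (2 * t)))
        ((Scheme.Modules.pullback (pullback.snd (CohB1.ProjSpace.toSpec 1 k) (CohB1.ProjSpace.toSpec 1 k))).obj
          (Twist.twistProjSpace 1 k (2 * t))))) 1) := by
  obtain ⟨e₁⟩ := hQ₁
  obtain ⟨e₂⟩ := hQ₂
  obtain ⟨eP⟩ := hP₂
  have hm : Function.Surjective (Canon.HHlin k m 0) := hm0
  refine ⟨Groth.Agent.Synt29.Quadric.hh_zero_kernel e₁ e₂ eP m hm,
    Groth.Agent.Synt29.Quadric.hh_one_kernel e₁ e₂ m hm, ?_, fun t => ?_⟩
  · exact Groth.Agent.QCoh.subsingleton_HH_of_iso (Groth.Agent.H23.PicMul.comm _ _).some 2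
      (Groth.Agent.Synt29.Quadric.hh_two_dual e₁ e₂ eP m)
  · exact Groth.Agent.QCoh.subsingleton_HH_of_iso (Groth.Agent.H23.PicMul.comm _ _).some 1
      (Groth.Agent.Synt29.Quadric.hh_one_twists e₁ e₂ eP m hm t)

end Groth.Agent.S18627
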