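import Groth.Statements.S1863
import Groth.Agent.CycLib.DivMap
import Groth.Agent.CycLib.RatSum
-- import your own Groth.Agent.* helpers here

set_option autoImplicit false
universe u
open CategoryTheory AlgebraicGeometry
open Cyc

namespace Groth.Agent.S1863

/-- Let U ⊆ X be open and α, β k-cycles on X whose restrictions to U are rationally equivalent on U (for
the restricted dimension function). Then there is a k-cycle γ on X vanishing on U with α rationally
equivalent to β + γ. Here a pair (X, δ) with Cyc.IsSetup plays the role of a scheme locally of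
finite type over a fixed base with a dimension function (X locally Noetherian with universally
catenary local rings, δ a dimension function). -/
theorem result (X : Scheme.{u}) (δ : X → ℤ) (hX : Cyc.IsSetup X δ) (U : X.Opens) (k : ℤ) (α β : AlgebraicCycle X ℤ) (hα : α ∈ Cyc.Zk X δ k) (hβ : β ∈ Cyc.Zk X δ k) (αU βU : AlgebraicCycle (↑U : Scheme.{u}) ℤ) (hαU : ∀ u : ↥U, αU u = α (U.ι u)) (hβU : ∀ u : ↥U, βU u = β (U.ι u)) (h : Cyc.RatEquiv (fun u : ↥U => δ (U.ι u)) k αU βU) : ∃ γ : AlgebraicCycle X ℤ, γ ∈ Cyc.Zk X δ k ∧ (∀ x : X, x ∈ U → γ x = 0) ∧ Cyc.RatEquiv δ k α (β + γ) := by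
  obtain ⟨hN, -, hd⟩ := hX
  haveI := hN
  obtain ⟨ι, ξ, f, hξ, hf, hloc, hsum⟩ := h
  have hb := fun i => Groth.Agent.CycLib.residueFieldMap_bijective U.ι (ξ i)
  choose f' hf' using fun i => (hb i).2 (f i)
  have hloc' : ∀ x : X, ∃ V : Set X, IsOpen V ∧ x ∈ V ∧
      {i | (closure {U.ι (ξ i)} ∩ V).Nonempty}.Finite := by
    intro x
    obtain ⟨_, ⟨V, hV, rfl⟩, hx, -⟩ :=
      X.isBasis_affineOpens.exists_subset_of_mem_open (Set.mem_univ x) isOpen_univ
    refine ⟨(V : Set X), V.2, hx, ?_⟩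
    haveI : IsNoetherianRing Γ(X, V) := IsLocallyNoetherian.component_noetherian ⟨V, hV⟩
    haveI : TopologicalSpace.NoetherianSpace ↥(V : Set X) := noetherianSpace_of_isAffineOpen V hV
    have hc : IsCompact ((V : Set X) ∩ (U : Set X)) := by
      have := (TopologicalSpace.NoetherianSpace.isCompact (α := ↥(V : Set X)) (Subtype.val ⁻¹' (U : Set X))).image continuous_subtype_val
      rwa [Subtype.image_preimage_val] at this
    have hc' : IsCompact (U.ι ⁻¹' (V : Set X)) := by
      rw [U.ι.isOpenEmbedding.isInducing.isCompact_iff, Set.image_preimage_eq_inter_range, Scheme.Opens.range_ι]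
      exact hc
    choose W hWo hWmem hWfin using hloc
    obtain ⟨t, -, hts⟩ := hc'.elim_nhds_subcover W fun u _ => (hWo u).mem_nhds (hWmem u)
    refine (t.finite_toSet.biUnion fun u _ => hWfin u).subset ?_
    rintro i ⟨z, hz, hzV⟩
    have hiV : U.ι (ξ i) ∈ (V : Set X) := (specializes_iff_mem_closure.2 hz).mem_open V.2 hzV
    obtain ⟨u, hu, huW⟩ := Set.mem_iUnion₂.1 (hts (show ξ i ∈ U.ι ⁻¹' (V : Set X) from hiV))
    exact Set.mem_biUnion hu ⟨ξ i, subset_closure rfl, huW⟩
  have hf0 : ∀ i, f' i ≠ 0 := fun i h0 => hf i (by rw [← hf' i, h0, map_zero])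
  let D := Groth.Agent.CycLib.sumDiv hd (fun i => U.ι (ξ i)) f' hf0 hloc'
  refine ⟨α - β - D, ?_, ?_, ?_⟩
  · intro x hx
    have hD : D x = 0 := finsum_eq_zero_of_forall_eq_zero fun i =>
      Groth.Agent.CycLib.divFun_eq_zero_of_delta δ _ (by
        show δ x + 1 ≠ δ (U.ι (ξ i))
        rw [show δ (U.ι (ξ i)) = k + 1 from hξ i]
        omega)
    simp only [Function.locallyFinsuppWithin.coe_sub, Pi.sub_apply, hα x hx, hβ x hx, hD]
    rfl
  · intro x hx
    obtain ⟨u, rfl⟩ : ∃ u : ↥U, U.ι u = x := ⟨⟨x, hx⟩, rfl⟩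
    have hD : D (U.ι u) = ∑ᶠ i, Cyc.divFun (fun u : ↥U => δ (U.ι u)) (ξ i) (f i) u :=
      finsum_congr fun i => by
        rw [← hf' i]
        exact (Groth.Agent.CycLib.divFun_preimmersion U.ι 0 (fun z => (add_zero _).symm) (ξ i) (f' i) u).symm
    have h2 := hsum u
    simp only [Function.locallyFinsuppWithin.coe_sub, Pi.sub_apply, hD, hαU, hβU] at h2 ⊢
    omega
  · refine ⟨ι, fun i => U.ι (ξ i), f', hξ, hf0, hloc', fun x => ?_⟩
    simp only [Function.locallyFinsuppWithin.coe_sub, Function.locallyFinsuppWithin.coe_add, Pi.sub_apply, Pi.add_apply]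
    rw [← Groth.Agent.CycLib.sumDiv_apply hd (fun i => U.ι (ξ i)) f' hf0 hloc' x]
    ring

end Groth.Agent.S1863
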