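import Groth.Statements.S18632
import Groth.Agent.H28.Blow1.Main
-- import your own Groth.Agent.* helpers here

set_option autoImplicit false
set_option backward.isDefEq.respectTransparency false
set_option backward.isDefEq.respectTransparency.types false
set_option maxHeartbeats 400000
universe u
open VBPn

namespace Groth.Agent.S18632

open CategoryTheory CategoryTheory.Limits AlgebraicGeometry TopologicalSpace in
/-- Let k be an algebraically closed field of characteristic zero, n ≥ 3, Z a set of s ≤ 1 closed points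
of P^n_k and π : X → P^n_k a blow-up of P^n_k in the ideal of the reduced set Z (universal
property), with exceptional ideal I_E (inverse image ideal of Z) and anticanonical module H ≅
π^*O(n+1) ⊗ I_E^{⊗(n−1)}, with a tensor inverse H′. Then H^i(X, H^{⊗t}) = 0 and H^i(X, H′^{⊗t}) = 0
for every 1 ≤ i ≤ n − 1 and every t ≥ 0: O_X has no intermediate cohomology in any anticanonical
twist. (The published statement is that X, embedded by the very ample H, is arithmetically
Cohen–Macaulay; the part asserting that the ideal of the embedded X has no H¹ in any twist is not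
restated.) -/
theorem result (k : Type u) [Field k] [IsAlgClosed k] [CharZero k]
    (n : ℕ) (hn : 3 ≤ n) (s : ℕ) (P : Fin s → ↥(CohB1.ProjSpace n k)) (hP : Function.Injective P)
    (hPc : ∀ i, IsClosed ({P i} : Set ↥(CohB1.ProjSpace n k))) (hZ : IsClosed (Set.range P))
    (X : Scheme.{u}) (π : X ⟶ CohB1.ProjSpace n k)
    (hπ : BlowUp.IsBlowUp π (Scheme.IdealSheafData.vanishingIdeal ⟨Set.range P, hZ⟩)) (hs : s ≤ 1)
    (Hm Hi : X.Modules)
    (hHm : Nonempty (Hm ≅ CohB1.tensorMod ((Scheme.Modules.pullback π).obj (Twist.twistProjSpace n k ((n : ℤ) + 1)))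
      (CohB1.tensorPow (ClSub.idealMod (BlowUp.exceptional π (Scheme.IdealSheafData.vanishingIdeal ⟨Set.range P, hZ⟩))) (n - 1))))
    (hHi : ClSub.IsInverseOf Hi Hm) (i t : ℕ) (hi : 1 ≤ i) (hin : i + 1 ≤ n) :
    Subsingleton (Coh.HH X (CohB1.tensorPow Hm t) i) ∧ Subsingleton (Coh.HH X (CohB1.tensorPow Hi t) i) := by
  obtain ⟨eH⟩ := hHm
  have hnd : ∀ (M : X.Modules), Nonempty (CohB1.tensorPow M t ≅ CohB1.tensorMod (Groth.Agent.Synt29.BlowPts.pO π 0) (CohB1.tensorPow M t)) := fun M => by
    open Groth.Agent.H23.PicMul in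
    refine Groth.Agent.H23.PicMul.cl_eq_iff.1 ?_
    open Groth.Agent.H23.PicMul in
    rw [Groth.Agent.H23.PicMul.cl_tensor, Groth.Agent.H23.PicMul.cl_eq_iff.2 (Groth.Agent.Synt29.BlowPts.pO_zero π),
      ← Groth.Agent.H23.PicMul.one_def, one_mul]
  have h := Groth.Agent.H28.Blow1.hh_twists P hPc hZ hP hπ eH hn hs hHi 0 t i hi hin
  obtain ⟨em⟩ := hnd Hm
  obtain ⟨ei⟩ := hnd Hi
  exact ⟨Groth.Agent.QCoh.subsingleton_HH_of_iso em.symm i (h.1 ⟨le_rfl, by norm_num⟩),
    Groth.Agent.QCoh.subsingleton_HH_of_iso ei.symm i (h.2 ⟨le_rfl, by norm_num, Or.inr (Or.inl (by norm_num))⟩)⟩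

end Groth.Agent.S18632
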