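import Groth.Statements.S18633
import Groth.Agent.Synt29.AntiCanonical
import Groth.Agent.S10962
import Groth.Agent.AmpleVan.Pull

set_option autoImplicit false
set_option linter.style.haveILetI false
set_option backward.isDefEq.respectTransparency false
set_option backward.isDefEq.respectTransparency.types false
set_option maxHeartbeats 1000000
universe u
open CategoryTheory CategoryTheory.Limits AlgebraicGeometry TopologicalSpace
open Surf

namespace Groth.Agent.S18633

/-- Let k be an algebraically closed field of characteristic zero and X a strong del Pezzo surface over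
k: an integral scheme, proper and smooth over k of dimension 2, with canonical module W (a second
exterior power of Ω_{X/k}) and a tensor inverse D of W which is very ample relative to k — there is
a closed immersion ι : X → P^N_k over k with ι^*O(1) ≅ D. Assume H¹(X, O_X) = 0. Then H¹(X, D^{⊗m})
= 0 and H¹(X, W^{⊗m}) = 0 for every m ≥ 0; that is, H¹(X, O_X(m)) = 0 for all m ∈ ℤ in the
anticanonical embedding X ⊆ P^d. (The published statement is that the anticanonically embedded X is
arithmetically Cohen–Macaulay; its argument obtains H¹(X, O_X) = 0 from the rationality of del Pezzo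
surfaces, quoted, and that vanishing is the hypothesis here; the part about H¹ of the twisted ideal
sheaves of X is not restated.) -/
theorem result (k : Type u) [Field k] [IsAlgClosed k] [CharZero k] (X : Scheme.{u})
    [X.Over (Spec (CommRingCat.of k))] [IsIntegral X] [IsProper (X ↘ (Spec (CommRingCat.of k)))] [Smooth (X ↘ (Spec (CommRingCat.of k)))]
    (hdim : topologicalKrullDim X = 2)
    (W : X.Modules) (hW : ExtPow.IsExtPow 2 (Omega.sheaf (X ↘ (Spec (CommRingCat.of k)))) W)
    (D : X.Modules) (hD : ClSub.IsInverseOf D W)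
    (hva : ∃ (N : ℕ) (ι : X ⟶ CohB1.ProjSpace N k), IsClosedImmersion ι ∧
      ι ≫ CohB1.ProjSpace.toSpec N k = X ↘ (Spec (CommRingCat.of k)) ∧
      Nonempty ((Scheme.Modules.pullback ι).obj (Twist.twistProjSpace N k 1) ≅ D))
    (hq : Subsingleton (Coh.HH X (Coh.structureModule X) 1)) (m : ℕ) :
    Subsingleton (Coh.HH X (CohB1.tensorPow D m) 1) ∧ Subsingleton (Coh.HH X (CohB1.tensorPow W m) 1) := by
  open Groth.Agent Groth.Agent.Synt29 Groth.Agent.H23.PicMul Groth.Agent.Pic13Lib in
  obtain ⟨N, ι, hι, hfac, ⟨eD⟩⟩ := hva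
  haveI := hι
  haveI : IsNoetherian X := CurveCohLib.isNoetherian_of_proper (k := k)
  letI := H23.PicMul.clMonoid (X := X)
  have hDW : PicF.cl D * PicF.cl W = 1 := cl_eq_iff.2 hD
  have hD1 : PicF.cl D = tw ι 1 := (cl_eq_iff.2 ⟨eD⟩).symm.trans (tw_eq ι 1).symm
  have hW1 : PicF.cl W = tw ι (-1) := by
    calc PicF.cl W = tw ι (-1) * tw ι 1 * PicF.cl W := by rw [← tw_add, neg_add_cancel, tw_zero, one_mul]
      _ = tw ι (-1) := by rw [mul_assoc, ← hD1, hDW, mul_one]
  obtain ⟨H, hH⟩ := SurfAdj.exists_ample k hdim
  have hN : 1 ≤ N := by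
    rcases N with _ | N
    · exfalso
      have h := ι.isClosedEmbedding.isInducing.topologicalKrullDim_le
      rw [hdim, S10829.result k 0] at h
      exact absurd h (by decide)
    · omega
  have hG : CohB1.IsAmple ((Scheme.Modules.pullback ι).obj (Twist.twistProjSpace N k 1)) :=
    AmpleVan.isAmple_pullback_of_isEmbedding ι ι.isClosedEmbedding.isEmbedding
      ((S10962.result k N hN 1).2 one_pos)
  have hneg := fun j => AntiCanonical.h1_neg (k := k) hdim hW ι hW1 hG
    (haveI := hq; Module.finrank_zero_of_subsingleton) j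
  have hWm : ∀ j, Module.finrank k (Coh.HH X (CohB1.tensorPow W j) 1) = 0 := fun j => by
    refine (AntiCanonical.finrank_of_cl (k := k) ?_ 1).trans (hneg j)
    rw [cl_tensorPow, hW1]
    show twCl ι _ ^ j = twCl ι _
    rw [← map_pow, ← ofAdd_nsmul, smul_neg, nsmul_one]
    cases j <;> rfl
  have hWi := SurfAdj.isInvertible_W k hdim hW
  have hDi : PicF.IsInvertible D := isInvertible_of_iso eD (isInvertible_tw ι 1)
  have hDm := InvX.isInvertible_tensorPow hDi m
  haveI := CurveCohLib.finite_HH (k := k) (CurveDeg.isCoh_of_isInvertible hDm) 1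
  haveI := CurveCohLib.finite_HH (k := k) (CurveDeg.isCoh_of_isInvertible (InvX.isInvertible_tensorPow hWi m)) 1
  refine ⟨(Module.finrank_zero_iff (R := k) (M := Coh.HH X (CohB1.tensorPow D m) 1)).1 ?_,
    (Module.finrank_zero_iff (R := k) (M := Coh.HH X (CohB1.tensorPow W m) 1)).1 (hWm m)⟩
  rw [AntiCanonical.h1_dual (k := k) hdim hH hW hDm (B := CohB1.tensorPow W (m + 1))
    (by rw [cl_tensorPow, cl_tensorPow, pow_succ, ← mul_assoc, ← mul_pow, hDW, one_pow, one_mul]), hWm]

end Groth.Agent.S18633
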