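import Groth.Statements.S18635
import Groth.Agent.GrLib8.InjDimInt
-- import your own Groth.Agent.* helpers here

set_option autoImplicit false
universe u
open GrLC

namespace Groth.Agent.S18635

/-- Let R be a commutative Noetherian ℤ-graded ring and M a *injective graded R-module (an injective
object of the category of graded R-modules). Then M fails to be injective as an ordinary R-module —
equivalently, since a *injective graded module has ordinary injective dimension at most 1, its
ordinary injective dimension is exactly 1 — if and only if there is a prime ideal p of R which is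
not graded and whose graded core p* (the largest graded ideal contained in p, itself a prime) is an
associated prime of M. -/
theorem result (R : Type u) [CommRing R] [IsNoetherianRing R] (𝒜 : ℤ → AddSubgroup R) [GradedRing 𝒜] (M : Type u) [AddCommGroup M] [Module R M] (ℳ : ℤ → AddSubgroup M) [DirectSum.Decomposition ℳ] [SetLike.GradedSMul 𝒜 ℳ] (hM : GrLC.IsStarInj 𝒜 ℳ) : ¬ Module.Injective R M ↔ ∃ p : Ideal R, p.IsPrime ∧ ¬ Ideal.IsHomogeneous 𝒜 p ∧ (Ideal.homogeneousCore 𝒜 p).toIdeal ∈ associatedPrimes R M := by
  rw [Module.injective_iff_injective_object, CategoryTheory.injective_iff_hasInjectiveDimensionLT_one]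
  constructor
  · intro h
    by_contra hne
    push Not at hne
    refine h (show CategoryTheory.HasInjectiveDimensionLE (ModuleCat.of R M) 0 from
      CAlgGlobalDim.hasInjectiveDimensionLE_of_ext_cyclic 0 _ fun J =>
        GrLib8.ext_vanish_of_bass M 1 (fun p _ => ?_) (R ⧸ J))
    by_cases hp : Ideal.IsHomogeneous 𝒜 p
    · let P : HomogeneousIdeal 𝒜 := ⟨p, hp⟩
      haveI : P.toIdeal.IsPrime := ‹p.IsPrime›
      exact GrLib8.bass_eq_zero_of_isStarInj M ℳ hM P 0
    · haveI := GrLib8.isPrime_core 𝒜 p
      rw [(S18636.result R 𝒜 M ℳ p hp).2 0]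
      by_contra h0
      exact hne p ‹_› hp ((GrLib8.bass_zero_ne_zero_iff M _).1 h0)
  · rintro ⟨p, hpr, hp, hass⟩ h
    haveI := GrLib8.isPrime_core 𝒜 p
    refine (GrLib8.bass_zero_ne_zero_iff M _).2 hass ?_
    rw [← (S18636.result R 𝒜 M ℳ p hp).2 0]
    exact (GrLib8.bass_eq_zero_iff M p 1).2 fun z => ⟨1, p.one_notMem,
      by rw [one_smul]; exact z.eq_zero_of_hasInjectiveDimensionLT 1 le_rfl⟩

end Groth.Agent.S18635
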