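import Groth.Statements.S18640
import Groth.Agent.GrLib8.CanonLocal
-- import your own Groth.Agent.* helpers here

set_option autoImplicit false
universe u
open scoped TensorProduct
open GrLC

namespace Groth.Agent.S18640

/-- Let R be a graded ring defined over a field which is Cohen–Macaulay, with graded maximal ideal m, n
= dim R, residue field k = R/m and canonical module K_R. Then (iii) the type of K_R is 1: the Bass
number μ_n(m, K_R), the k-dimension of Ext^n over R_m of k into (K_R)_m, equals 1; and (iv) the type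
of R, namely μ_n(m, R), equals ν(K_R) = dim_k (K_R / m K_R), the minimal number of generators of K_R
(written as the k-dimension of k ⊗_R K_R). Here 'graded ring defined over a field' means R = ⊕_{n ≥
0} R_n is Noetherian with R_0 a field (so R is finitely generated over R_0), m = R_+ is its unique
graded maximal ideal and n = dim R; the canonical module K_R (the graded dual of H^n_m(R)) is
represented by a finitely generated graded module C together with a homogeneous isomorphism from
Hom_R(C, E) onto H^n_m(R), where E is a *injective envelope of R/m and H^n_m(R) is computed from a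
*injective resolution of R in the graded category; by graded Matlis duality this says exactly that C
≅ K_R as graded modules. -/
theorem result (R : Type u) [CommRing R] [LocCoh.IsCohenMacaulayRing R] (𝒜 : ℤ → AddSubgroup R) [GradedRing 𝒜] (hpos : ∀ n : ℤ, n < 0 → 𝒜 n = ⊥) (h0 : IsField (GrLC.deg0 𝒜)) (m : HomogeneousIdeal 𝒜) (hm : GrLC.IsStarLocal 𝒜 m) (hmsp : m.toIdeal = Ideal.span (⋃ n ∈ Set.Ioi (0 : ℤ), (𝒜 n : Set R))) [m.toIdeal.IsMaximal] (n : ℕ) (hn : ringKrullDim R = n) (I : GrLC.StarInjRes 𝒜 𝒜) (E' : Type u) [AddCommGroup E'] [Module R E'] (𝓔 : ℤ → AddSubgroup E') [DirectSum.Decomposition 𝓔] [SetLike.GradedSMul 𝒜 𝓔] (e : (R ⧸ m.toIdeal) →ₗ[R] E') (he : GrLC.IsStarInjHull 𝒜 (GrLC.quotGr 𝒜 m) 𝓔 e) (C : Type u) [AddCommGroup C] [Module R C] (𝒞 : ℤ → AddSubgroup C) [DirectSum.Decomposition 𝒞] [SetLike.GradedSMul 𝒜 𝒞] (hC : GrLC.IsStarCanonical 𝒜 𝒞 𝓔 m n I) : GrLC.bassNum m.toIdeal C n = 1 ∧ GrLC.bassNum m.toIdeal R n = (Module.finrank (R ⧸ m.toIdeal) ((R ⧸ m.toIdeal) ⊗[R] C) : ℕ∞) := by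
  classical
  let A := Localization.AtPrime m.toIdeal
  let K := LocalizedModule m.toIdeal.primeCompl C
  haveI : LocCoh.IsCohenMacaulayLocalRing A :=
    LocCoh.IsCohenMacaulayRing.isCohenMacaulayLocalRing_localization (R := R) m.toIdeal
  haveI := GrLib8.Canon.finite_loc hC
  haveI := hC.1
  obtain ⟨E, _, _, f, eK, hf⟩ := GrLib8.Canon.exists_local he hC
  have hdim := GrLib8.Canon.ringKrullDim_atPrime hpos hm hn
  haveI : IsNoetherianRing A := inferInstance
  let M0 := IsLocalRing.maximalIdeal A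
  let r : IsLocalRing.ResidueField A ≃ₗ[A] (A ⧸ M0) :=
    { toFun := id, invFun := id, left_inv := fun _ => rfl, right_inv := fun _ => rfl,
      map_add' := fun _ _ => rfl, map_smul' := fun _ _ => rfl }
  have hkill : ∀ a ∈ M0, ∀ z : (A ⧸ M0), a • z = 0 := fun a ha z => by
    obtain ⟨z, rfl⟩ := Submodule.Quotient.mk_surjective _ z
    exact (Submodule.Quotient.mk_eq_zero M0).2 (M0.mul_mem_right z ha)
  have hk : LocCoh.IsPowerTorsion M0 (A ⧸ M0) := fun z => ⟨1, fun a ha => hkill a (by rwa [pow_one] at ha) z⟩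
  have hsimple : Module.length A (A ⧸ M0) = 1 :=
    Module.length_eq_one_iff.2 ((isSimpleModule_iff_quot_maximal).2
      ⟨M0, IsLocalRing.maximalIdeal.isMaximal A, ⟨LinearEquiv.refl A _⟩⟩)
  constructor
  · let X := CategoryTheory.Abelian.Ext.{u} (ModuleCat.of A (A ⧸ M0)) (ModuleCat.of A K) n
    obtain ⟨φ⟩ := LC.Canon.exists_dualExt hdim hf eK (A ⧸ M0) n 0 (zero_add n)
    have htop : DRing.torsionSub M0 (A ⧸ M0) = ⊤ := eq_top_iff.2 fun v _ => hk v
    let eXk : (X →ₗ[A] E) ≃ₗ[A] (A ⧸ M0) :=
      φ.symm.trans ((LC.H0Equiv M0 (ModuleCat.of A (A ⧸ M0))).trans ((LinearEquiv.ofEq _ _ htop).trans Submodule.topEquiv))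
    haveI : Module.Finite A X := inferInstanceAs (Module.Finite A (CategoryTheory.Abelian.Ext _ _ n))
    have hX : IsFiniteLength A X := LC.Canon.isFiniteLength_of_kill X fun a ha z =>
      LC.smul_ext_eq_zero_of_smul (hkill a ha) z
    unfold GrLC.bassNum GrLC.bassNumLocal
    rw [← (GrLib8.extCongrFst r _ n).length_eq, ← LC.length_dual hf X hX, eXk.length_eq, hsimple]
  · let X := CategoryTheory.Abelian.Ext.{u} (ModuleCat.of A (A ⧸ M0))
      (ModuleCat.of A (LocalizedModule m.toIdeal.primeCompl R)) n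
    have hv : LC.PrevVanish M0 n (ModuleCat.of A A) := LC.prevVanish_of_H (LC.Canon.hlow_ring hdim)
    obtain ⟨e3⟩ := LC.nonempty_ext_linearEquiv_hom hv (A ⧸ M0) hk
    obtain ⟨e1, -⟩ := LC.Canon.exists_dualQuot M0 K E
    obtain ⟨e2⟩ := LC.Canon.exists_torsionBy_congr M0 eK
    let Q := K ⧸ (M0 • ⊤ : Submodule A K)
    let eXQ : X ≃ₗ[A] (Q →ₗ[A] E) :=
      (LC.extCongr (CategoryTheory.Iso.refl _) (LC.selfLoc m.toIdeal.primeCompl).toModuleIso n).trans
        (e3.trans ((LC.quotHomTorsion M0 _).trans (e2.symm.trans e1.symm)))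
    haveI : Module.Finite A Q := inferInstance
    have hQ : IsFiniteLength A Q := LC.Canon.isFiniteLength_of_kill Q fun a ha z => by
      obtain ⟨z, rfl⟩ := Submodule.Quotient.mk_surjective _ z
      rw [← Submodule.Quotient.mk_smul, Submodule.Quotient.mk_eq_zero]
      exact Submodule.smul_mem_smul ha trivial
    unfold GrLC.bassNum GrLC.bassNumLocal
    rw [← (GrLib8.extCongrFst r _ n).length_eq, eXQ.length_eq, LC.length_dual hf Q hQ]
    letI := Ideal.Quotient.field m.toIdeal
    let V := TensorProduct R (R ⧸ m.toIdeal) C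
    haveI : Module.Finite (R ⧸ m.toIdeal) V := inferInstance
    let bV := (Module.finBasis (R ⧸ m.toIdeal) V).equivFun.restrictScalars R
    obtain ⟨q⟩ := LC.exists_locQuot m.toIdeal.primeCompl m.toIdeal
    let q' : TensorProduct R A (R ⧸ m.toIdeal) ≃ₗ[A] (A ⧸ M0) :=
      (LocalizedModule.equivTensorProduct m.toIdeal.primeCompl (R ⧸ m.toIdeal)).symm.trans
        (q.trans (Submodule.quotEquivOfEq _ _ Localization.AtPrime.map_eq_maximalIdeal))
    let g : Q ≃ₗ[A] (Fin (Module.finrank (R ⧸ m.toIdeal) V) → (A ⧸ M0)) :=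
      (TensorProduct.quotTensorEquivQuotSMul K M0).symm.trans
        ((LinearEquiv.lTensor (A ⧸ M0) (LocalizedModule.equivTensorProduct m.toIdeal.primeCompl C)).trans
          ((TensorProduct.AlgebraTensorModule.cancelBaseChange R A A (A ⧸ M0) C).trans
            ((TensorProduct.AlgebraTensorModule.congr q'.symm (LinearEquiv.refl R C)).trans
              ((TensorProduct.AlgebraTensorModule.assoc R R A A (R ⧸ m.toIdeal) C).trans
                ((LinearEquiv.baseChange R A _ _ bV).trans
                  ((TensorProduct.piRight R A A _).trans (LinearEquiv.piCongrRight fun _ => q')))))))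
    rw [g.length_eq, Module.length_pi_of_fintype]
    simp [hsimple, V]

end Groth.Agent.S18640
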