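import Groth.Statements.S18644
import Groth.Agent.GrLib8.PolyChar
-- import your own Groth.Agent.* helpers here

set_option autoImplicit false
universe u
open GrLC

namespace Groth.Agent.S18644

/-- Let R be a graded ring defined over a field k = R_0 which is Cohen–Macaulay and generated over k by
R_1, of dimension r. Then a(R) = −r holds exactly when R is isomorphic to the polynomial ring over k
in r variables. Here 'graded ring defined over a field' means R = ⊕_{n ≥ 0} R_n is Noetherian with
R_0 a field, and m = R_+ is its unique graded maximal ideal. The a-invariant a(R) is the largest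
degree in which the graded local cohomology H^n_m(R) (n = dim R, m = R_+), computed from a
*injective resolution of R in the graded category, is nonzero. (The inequality a(R) ≥ −r of the same
lemma is stated separately.) -/
theorem result (R : Type u) [CommRing R] [LocCoh.IsCohenMacaulayRing R] (𝒜 : ℤ → AddSubgroup R) [GradedRing 𝒜] (hpos : ∀ n : ℤ, n < 0 → 𝒜 n = ⊥) (h0 : IsField (GrLC.deg0 𝒜)) (m : HomogeneousIdeal 𝒜) (hm : GrLC.IsStarLocal 𝒜 m) (hmsp : m.toIdeal = Ideal.span (⋃ n ∈ Set.Ioi (0 : ℤ), (𝒜 n : Set R))) (hstd : Ideal.span (⋃ n ∈ Set.Ioi (0 : ℤ), (𝒜 n : Set R)) = Ideal.span ((𝒜 1 : AddSubgroup R) : Set R)) (r : ℕ) (hr : ringKrullDim R = r) (I : GrLC.StarInjRes 𝒜 𝒜) : GrLC.endDeg (I.Hgr m r) = (((-(r : ℤ) : ℤ) : WithTop ℤ) : WithBot (WithTop ℤ)) ↔ Nonempty (R ≃+* MvPolynomial (Fin r) (GrLC.deg0 𝒜)) := by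
  haveI : IsNoetherianRing R := inferInstance
  exact ⟨fun h => GrLib8.PolyChar.nonempty_equiv_of_endDeg hpos h0 hstd hm hmsp r hr I h,
    fun h => GrLib8.PolyChar.endDeg_of_equiv hpos h0 hstd hm hmsp r hr I h⟩

end Groth.Agent.S18644
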