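import Groth.Statements.S18645
import Groth.Agent.GrLib8.StarDepth
import Groth.Agent.GrLib8.AInvReg
import Groth.Agent.GrLib8.RegStd
import Groth.Agent.GrLib8.FilterInj
-- import your own Groth.Agent.* helpers here

set_option autoImplicit false
universe u
open GrLC

namespace Groth.Agent.S18645

/-- Let R be a graded ring defined over a field which is Cohen–Macaulay, of dimension n, and let f_1, …,
f_t be an R-regular sequence of homogeneous elements of positive degrees d_1, …, d_t, with S =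
R/(f_1, …, f_t). The canonical module of S is (K_R/(f_1, …, f_t)K_R)(d_1 + ⋯ + d_t); consequently —
this is the form stated here — the a-invariants satisfy a(S) = a(R) + d_1 + ⋯ + d_t, where a(S) is
the largest nonzero degree of H^{n−t}_m(S) and a(R) that of H^n_m(R), both graded local cohomologies
over R with support in m = R_+ computed from *injective resolutions in the graded category, and S is
presented as a graded R-module N with a degree-preserving surjection π : R → N whose kernel is (f_1,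
…, f_t). Here 'graded ring defined over a field' means R = ⊕_{n ≥ 0} R_n is Noetherian with R_0 a
field, and m = R_+ is its unique graded maximal ideal. -/
theorem result (R : Type u) [CommRing R] [LocCoh.IsCohenMacaulayRing R] (𝒜 : ℤ → AddSubgroup R) [GradedRing 𝒜] (hpos : ∀ n : ℤ, n < 0 → 𝒜 n = ⊥) (h0 : IsField (GrLC.deg0 𝒜)) (m : HomogeneousIdeal 𝒜) (hm : GrLC.IsStarLocal 𝒜 m) (hmsp : m.toIdeal = Ideal.span (⋃ n ∈ Set.Ioi (0 : ℤ), (𝒜 n : Set R))) (n : ℕ) (hn : ringKrullDim R = n) (I : GrLC.StarInjRes 𝒜 𝒜) (t : ℕ) (htn : t ≤ n) (f : Fin t → R) (deg : Fin t → ℤ) (hfdeg : ∀ i, f i ∈ 𝒜 (deg i)) (hfm : ∀ i, f i ∈ m.toIdeal) (hreg : RingTheory.Sequence.IsRegular R (List.ofFn f)) (N : Type u) [AddCommGroup N] [Module R N] (𝒩 : ℤ → AddSubgroup N) [DirectSum.Decomposition 𝒩] [SetLike.GradedSMul 𝒜 𝒩] (π : R →ₗ[R] N) (hπ : GrLC.IsGrHom 𝒜 𝒩 π) (hπs : Function.Surjective π) (hπk : LinearMap.ker π = Ideal.span (Set.range f)) (F : GrLC.StarInjRes 𝒜 𝒩) : GrLC.endDeg (F.Hgr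 m (n - t)) = GrLC.endDeg (I.Hgr m n) + ((((Finset.univ : Finset (Fin t)).sum deg : ℤ) : WithTop ℤ) : WithBot (WithTop ℤ)) := by
  classical
  let Y := GrLib8.gmodPieces 𝒜 𝒩
  let q : R →ₗ[R] Y.carrier := π
  have hpos' := GrLib8.nonneg_of_bot hpos
  have hlow : ∀ i < n, ∀ g, GrLib8.HVan m (GrLib8.gmodPieces 𝒜 𝒜) i g := fun i hi g =>
    (GrLib8.hVan_of_pieces_res I).2 (GrLib8.Hcomp_eq_bot_of_ne hpos hm hn hi.ne I g)
  obtain ⟨-, key⟩ := GrLib8.top_of_regularSequence hpos' (GrLib8.isMaximal_of_isStarLocal hpos hm).ne_top n hlow t htn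
    f deg hfdeg hfm hreg.toIsWeaklyRegular Y q hπ hπs hπk
  refine GrLib8.eq_of_forall_int_le fun e => ?_
  rw [GrLib8.add_coe_le_iff, GrLib8.endDeg_le_iff, GrLib8.endDeg_le_iff]
  simp only [GrLib8.Hgr_eq_bot_iff, ← GrLib8.hVan_of_pieces_res]
  exact key e

end Groth.Agent.S18645
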