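import Groth.Statements.S18648
import Groth.Agent.GrLib8.SegCMRing
-- import your own Groth.Agent.* helpers here

set_option autoImplicit false
universe u
open scoped TensorProduct
open GrSegre

namespace Groth.Agent.S18648

/-- Let R and S be standard graded rings defined over a field k which are Cohen–Macaulay, of dimensions
r ≥ 2 and s ≥ 2. Then the Segre product T = R # S is a Cohen–Macaulay ring if and only if a(R) < 0
and a(S) < 0. Here a graded ring defined over k is a commutative k-algebra of finite type, graded in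
nonnegative degrees by k-subspaces with degree-zero part k·1, and it is standard graded when its
irrelevant ideal is generated by the degree-one piece; the a-invariant a(R) is the largest degree in
which the graded local cohomology H^{dim R}_{R_+}(R), computed from a *injective resolution of R in
the graded category, is nonzero; the Segre product T = R # S = ⊕_n R_n ⊗_k S_n is presented
abstractly as a graded k-algebra T with an injective k-algebra homomorphism ψ : T → R ⊗_k S carrying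
T_n onto the k-span of the elementary tensors a ⊗ b with a ∈ R_n, b ∈ S_n. -/
theorem result (k : Type u) [Field k] (R : Type u) [CommRing R] [Algebra k R] (𝒜 : ℤ → Submodule k R) [GradedAlgebra 𝒜] (hposR : ∀ n : ℤ, n < 0 → 𝒜 n = ⊥) (h0R : 𝒜 0 = Submodule.span k {(1 : R)}) [Algebra.FiniteType k R] (S : Type u) [CommRing S] [Algebra k S] (ℬ : ℤ → Submodule k S) [GradedAlgebra ℬ] (hposS : ∀ n : ℤ, n < 0 → ℬ n = ⊥) (h0S : ℬ 0 = Submodule.span k {(1 : S)}) [Algebra.FiniteType k S] (T : Type u) [CommRing T] [Algebra k T] (𝒯 : ℤ → Submodule k T) [GradedAlgebra 𝒯] (ψ : T →ₐ[k] TensorProduct k R S) (hψ : Function.Injective ψ) (hdegT : ∀ n : ℤ, (𝒯 n).map ψ.toLinearMap = Submodule.span k {x : TensorProduct k R S | ∃ a ∈ 𝒜 n, ∃ b ∈ ℬ n, x = a ⊗ₜ[k] b}) [LocCoh.IsCohenMacaulayRing R] [LocCoh.IsCohenMacaulayRing S] (mR : HomogeneousIdeal 𝒜) (hmR : mR.toIdeal = Ideal.span (⋃ n ∈ Set.Ioi (0 : ℤ), (𝒜 n : Set R))) (hstdR : Ideal.span (⋃ n ∈ Set.Ioi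 (0 : ℤ), (𝒜 n : Set R)) = Ideal.span ((𝒜 1 : Submodule k R) : Set R)) (I : GrLC.StarInjRes 𝒜 𝒜) (mS : HomogeneousIdeal ℬ) (hmS : mS.toIdeal = Ideal.span (⋃ n ∈ Set.Ioi (0 : ℤ), (ℬ n : Set S))) (hstdS : Ideal.span (⋃ n ∈ Set.Ioi (0 : ℤ), (ℬ n : Set S)) = Ideal.span ((ℬ 1 : Submodule k S) : Set S)) (J : GrLC.StarInjRes ℬ ℬ) (r s : ℕ) (hr : ringKrullDim R = r) (hs : ringKrullDim S = s) (h2r : 2 ≤ r) (h2s : 2 ≤ s) : LocCoh.IsCohenMacaulayRing T ↔ GrLC.endDeg (I.Hgr mR r) < 0 ∧ GrLC.endDeg (J.Hgr mS s) < 0 := by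
  haveI : IsNoetherianRing R := Algebra.FiniteType.isNoetherianRing k R
  haveI : IsNoetherianRing S := Algebra.FiniteType.isNoetherianRing k S
  have hR := GrLib8.Seg.eq_irrel 𝒜 mR hmR
  have hS := GrLib8.Seg.eq_irrel ℬ mS hmS
  subst hR hS
  rw [GrLib8.Seg.isCMRing_segre_iff hposR h0R hposS h0S ⟨hψ, hdegT⟩ (GrLib8.Seg.resAdd I) (GrLib8.Seg.resAdd J) hr hs
    (by omega) (by omega), GrLib8.Seg.endDeg_lt_zero_iff, GrLib8.Seg.endDeg_lt_zero_iff]
  have key : ∀ (A : Type u) [CommRing A] [Algebra k A] [Algebra.FiniteType k A] (𝒞 : ℤ → Submodule k A) [GradedAlgebra 𝒞],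
      (∀ n : ℤ, n < 0 → 𝒞 n = ⊥) → 𝒞 0 = Submodule.span k {(1 : A)} →
      Ideal.span (⋃ n ∈ Set.Ioi (0 : ℤ), (𝒞 n : Set A)) = Ideal.span ((𝒞 1 : Submodule k A) : Set A) →
      ∀ (d : ℕ), ringKrullDim A = d → 1 ≤ d → ∀ g : ℤ, 𝒞 g = ⊥ ↔ g < 0 := by
    intro A _ _ _ 𝒞 _ hp h0 hstd d hd h1 g
    refine ⟨fun h => ?_, hp g⟩
    by_contra hg
    lift g to ℕ using by omega
    exact GrLib8.Seg.piece_ne_bot 𝒞 hp h0 hstd hd h1 g h
  simp only [key R 𝒜 hposR h0R hstdR r hr (by omega), key S ℬ hposS h0S hstdS s hs (by omega), GrLib8.Hgr_eq_bot_iff]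
  constructor
  · rintro ⟨h1, h2⟩
    exact ⟨fun g hg => (h2 h2s g).resolve_right (by omega), fun g hg => (h1 h2r g).resolve_left (by omega)⟩
  · rintro ⟨h1, h2⟩
    refine ⟨fun _ g => ?_, fun _ g => ?_⟩
    · rcases lt_or_ge g 0 with h | h
      · exact Or.inl h
      · exact Or.inr (h2 g h)
    · rcases lt_or_ge g 0 with h | h
      · exact Or.inr h
      · exact Or.inl (h1 g h)

end Groth.Agent.S18648
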