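import Groth.Statements.S18649
import Groth.Agent.GrLib8.SegGorRows
-- import your own Groth.Agent.* helpers here

set_option autoImplicit false
universe u
open scoped TensorProduct
open GrSegre

namespace Groth.Agent.S18649

/-- Let R and S be standard graded rings defined over a field k which are Cohen–Macaulay, of dimensions
r ≥ 2 and s ≥ 2. Whenever their Segre product T = R # S is Gorenstein, both R and S are Gorenstein,
and their a-invariants agree and are negative: a(R) = a(S) < 0. Here a graded ring defined over k is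
a commutative k-algebra of finite type, graded in nonnegative degrees by k-subspaces with
degree-zero part k·1, and it is standard graded when its irrelevant ideal is generated by the
degree-one piece; the a-invariant a(R) is the largest degree in which the graded local cohomology
H^{dim R}_{R_+}(R), computed from a *injective resolution of R in the graded category, is nonzero;
the Segre product T = R # S = ⊕_n R_n ⊗_k S_n is presented abstractly as a graded k-algebra T with
an injective k-algebra homomorphism ψ : T → R ⊗_k S carrying T_n onto the k-span of the elementary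
tensors a ⊗ b with a ∈ R_n, b ∈ S_n. -/
theorem result (k : Type u) [Field k] (R : Type u) [CommRing R] [Algebra k R] (𝒜 : ℤ → Submodule k R) [GradedAlgebra 𝒜] (hposR : ∀ n : ℤ, n < 0 → 𝒜 n = ⊥) (h0R : 𝒜 0 = Submodule.span k {(1 : R)}) [Algebra.FiniteType k R] (S : Type u) [CommRing S] [Algebra k S] (ℬ : ℤ → Submodule k S) [GradedAlgebra ℬ] (hposS : ∀ n : ℤ, n < 0 → ℬ n = ⊥) (h0S : ℬ 0 = Submodule.span k {(1 : S)}) [Algebra.FiniteType k S] (T : Type u) [CommRing T] [Algebra k T] (𝒯 : ℤ → Submodule k T) [GradedAlgebra 𝒯] (ψ : T →ₐ[k] TensorProduct k R S) (hψ : Function.Injective ψ) (hdegT : ∀ n : ℤ, (𝒯 n).map ψ.toLinearMap = Submodule.span k {x : TensorProduct k R S | ∃ a ∈ 𝒜 n, ∃ b ∈ ℬ n, x = a ⊗ₜ[k] b}) [LocCoh.IsCohenMacaulayRing R] [LocCoh.IsCohenMacaulayRing S] (mR : HomogeneousIdeal 𝒜) (hmR : mR.toIdeal = Ideal.span (⋃ n ∈ Set.Ioi (0 : ℤ), (𝒜 n : Set R))) (hstdR : Ideal.span (⋃ n ∈ Set.Ioi (0 : ℤ), (𝒜 n : Set R)) = Ideal.span ((𝒜 1 : Submodule k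 R) : Set R)) (I : GrLC.StarInjRes 𝒜 𝒜) (mS : HomogeneousIdeal ℬ) (hmS : mS.toIdeal = Ideal.span (⋃ n ∈ Set.Ioi (0 : ℤ), (ℬ n : Set S))) (hstdS : Ideal.span (⋃ n ∈ Set.Ioi (0 : ℤ), (ℬ n : Set S)) = Ideal.span ((ℬ 1 : Submodule k S) : Set S)) (J : GrLC.StarInjRes ℬ ℬ) (r s : ℕ) (hr : ringKrullDim R = r) (hs : ringKrullDim S = s) (h2r : 2 ≤ r) (h2s : 2 ≤ s) [LocCoh.IsGorensteinRing T] : LocCoh.IsGorensteinRing R ∧ LocCoh.IsGorensteinRing S ∧ GrLC.endDeg (I.Hgr mR r) = GrLC.endDeg (J.Hgr mS s) ∧ GrLC.endDeg (I.Hgr mR r) < 0 := by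
  have hT : GrSeg.IsSegreRing 𝒜 ℬ 𝒯 ψ := ⟨hψ, hdegT⟩
  obtain rfl := GrLib8.Seg.eq_irrel 𝒜 mR hmR
  obtain rfl := GrLib8.Seg.eq_irrel ℬ mS hmS
  exact GrLib8.Seg.gorenstein_factors hT hposR h0R hposS h0S hr hs h2r h2s hstdR hstdS

end Groth.Agent.S18649
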