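import Groth.Statements.S1865
import Groth.Agent.GrpSchLib.FieldTop
import Groth.Agent.MorLib.GeomFibre
-- import your own Groth.Agent.* helpers here

set_option autoImplicit false
universe u v
open CategoryTheory CategoryTheory.Limits MonoidalCategory CartesianMonoidalCategory MonObj GrpObj AlgebraicGeometry
open GrpSch

namespace Groth.Agent.S1865

open Groth.Agent.GrpSchLib in
/-- Products of open quasi-compact sets are open and quasi-compact. -/
theorem mul_open {K : Type u} [Field K] {G : Over (Spec (CommRingCat.of K))} [GrpObj G]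
    (A : G.left.Opens) (hA : IsCompact (A : Set G.left)) :
    IsOpen (μ[G].left '' prodSet (A : Set G.left) A) ∧ IsCompact (μ[G].left '' prodSet (A : Set G.left) A) := by
  constructor
  · let e : G ⊗ G ≅ G ⊗ G :=
      { hom := lift (fst G G) (fst G G * snd G G)
        inv := lift (fst G G) ((fst G G)⁻¹ * snd G G)
        hom_inv_id := by
          apply CartesianMonoidalCategory.hom_ext <;> simp [MonObj.comp_mul, GrpObj.comp_inv]
        inv_hom_id := by
          apply CartesianMonoidalCategory.hom_ext <;> simp [MonObj.comp_mul, GrpObj.comp_inv] }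
    have he : μ[G] = e.hom ≫ snd G G := by simp [e, Hom.mul_def]
    haveI : IsIso e.hom.left := ((Over.forget _).mapIso e).isIso_hom
    rw [he, Over.comp_left, Scheme.Hom.comp_base, TopCat.coe_comp, Set.image_comp]
    refine (pullback.snd G.hom G.hom).isOpenMap _ (e.hom.left.homeomorph.isOpenMap _ ?_)
    exact (A.2.preimage (fst G G).left.continuous).inter (A.2.preimage (snd G G).left.continuous)
  · refine IsCompact.image ?_ μ[G].left.continuous
    let Ao : Over (Spec (CommRingCat.of K)) := Over.mk (A.ι ≫ G.hom)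
    let iA : Ao ⟶ G := Over.homMk A.ι rfl
    haveI : CompactSpace ↥Ao.left := isCompact_iff_compactSpace.mp hA
    haveI : QuasiCompact Ao.hom := (quasiCompact_iff_compactSpace Ao.hom).mpr inferInstance
    haveI : CompactSpace ↥(Ao ⊗ Ao).left := by
      haveI : CompactSpace ↥(pullback Ao.hom Ao.hom) := QuasiCompact.compactSpace_of_compactSpace (pullback.fst Ao.hom Ao.hom)
      exact ‹CompactSpace ↥(pullback Ao.hom Ao.hom)›
    have := isCompact_range (iA ⊗ₘ iA).left.continuous
    rwa [range_tensorHom, show Set.range iA.left = (A : Set G.left) from A.range_ι] at this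

/-- A group scheme over a field contains an open and closed subset containing the identity point which
is a countable union of affine opens. (The source does not mention the identity point; its
construction contains it, and without it the empty set would do.) -/
theorem result (K : Type u) [Field K] (G : Over (Spec (CommRingCat.of K))) [GrpObj G] : ∃ U : G.left.Opens, IsClosed (U : Set G.left) ∧ η[G].left (IsLocalRing.closedPoint K) ∈ U ∧ ∃ V : ℕ → G.left.Opens, (∀ n, IsAffineOpen (V n)) ∧ (U : Set G.left) = ⋃ n, (V n : Set G.left) := by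
  classical
  set e := η[G].left (IsLocalRing.closedPoint K) with he
  obtain ⟨_, ⟨V₀, hV₀, rfl⟩, heV, -⟩ := G.left.isBasis_affineOpens.exists_subset_of_mem_open (Set.mem_univ e) isOpen_univ
  let P : ℕ → {A : G.left.Opens // IsCompact (A : Set G.left)} := fun n => Nat.rec ⟨V₀, hV₀.isCompact⟩
    (fun _ A => ⟨⟨_, (mul_open A.1 A.2).1⟩, (mul_open A.1 A.2).2⟩) n
  have hsucc : ∀ n, ((P (n + 1)).1 : Set G.left) = μ[G].left '' Groth.Agent.GrpSchLib.prodSet ((P n).1 : Set G.left) (P n).1 :=
    fun n => rfl
  have hstep : ∀ n, e ∈ (P n).1 → (P n).1 ≤ (P (n + 1)).1 := by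
    intro n hn x hx
    show x ∈ ((P (n + 1)).1 : Set G.left)
    rw [hsucc]
    refine ⟨(lift (𝟙 G) (toUnit G ≫ η[G])).left x, ⟨?_, ?_⟩, ?_⟩
    · rw [Set.mem_preimage, ← Groth.Agent.GrpSchLib.left_comp_apply, lift_fst]
      exact hx
    · rw [Set.mem_preimage, ← Groth.Agent.GrpSchLib.left_comp_apply, lift_snd, Groth.Agent.GrpSchLib.apply_pointSection]
      exact hn
    · rw [← Groth.Agent.GrpSchLib.left_comp_apply, Groth.Agent.GrpSchLib.mul_one_section]
      rfl
  have he' : ∀ n, e ∈ (P n).1 := fun n => by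
    induction n with
    | zero => exact heV
    | succ n ih => exact hstep n ih ih
  have hmono : Monotone fun n => (P n).1 := monotone_nat_of_le_succ fun n => hstep n (he' n)
  let U : G.left.Opens := ⨆ n, (P n).1
  have hU : ∀ x, x ∈ U ↔ ∃ n, x ∈ (P n).1 := fun x => TopologicalSpace.Opens.mem_iSup
  have heU : e ∈ U := (hU e).mpr ⟨0, heV⟩
  have hmul : ∀ q ∈ Groth.Agent.GrpSchLib.prodSet (U : Set G.left) U, μ[G].left q ∈ U := by
    rintro q ⟨h1, h2⟩
    obtain ⟨m, hm⟩ := (hU _).mp h1
    obtain ⟨n, hn⟩ := (hU _).mp h2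
    refine (hU _).mpr ⟨max m n + 1, ?_⟩
    show μ[G].left q ∈ ((P (max m n + 1)).1 : Set G.left)
    rw [hsucc]
    exact ⟨q, ⟨hmono (le_max_left m n) hm, hmono (le_max_right m n) hn⟩, rfl⟩
  refine ⟨U, ⟨isOpen_iff_forall_mem_open.mpr fun x hx => ?_⟩, heU, ?_⟩
  · obtain ⟨Ω, _, _, y, hy⟩ := Groth.Agent.MorLib.GF.exists_geomPoint x
    let T : Over (Spec (CommRingCat.of K)) := Over.mk (y ≫ G.hom)
    let pt : T ⟶ G := Over.homMk y rfl
    let h : T ⊗ G ⟶ G := (fst T G ≫ pt) * (snd T G)⁻¹
    let e' : T ⊗ G ≅ T ⊗ G :=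
      { hom := lift (fst T G) h
        inv := lift (fst T G) ((snd T G)⁻¹ * (fst T G ≫ pt))
        hom_inv_id := by
          apply CartesianMonoidalCategory.hom_ext <;>
            simp [h, MonObj.comp_mul, GrpObj.comp_inv]
        inv_hom_id := by
          apply CartesianMonoidalCategory.hom_ext <;>
            simp [h, MonObj.comp_mul, GrpObj.comp_inv] }
    have hh : e'.hom ≫ snd T G = h := lift_snd _ _
    haveI : IsIso e'.hom.left := ((Over.forget _).mapIso e').isIso_hom
    let W : Set G.left := h.left '' ((snd T G).left ⁻¹' (U : Set G.left))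
    have hWo : IsOpen W := by
      show IsOpen (h.left '' _)
      rw [← hh, Over.comp_left, Scheme.Hom.comp_base, TopCat.coe_comp, Set.image_comp]
      exact (pullback.snd T.hom G.hom).isOpenMap _
        (e'.hom.left.homeomorph.isOpenMap _ (U.2.preimage (snd T G).left.continuous))
    refine ⟨W, ?_, hWo, ?_⟩
    · rintro w ⟨z, hz, rfl⟩ hw
      apply hx
      have h1 := hmul ((lift h (snd T G)).left z) ⟨by
          rw [Set.mem_preimage, ← Groth.Agent.GrpSchLib.left_comp_apply, lift_fst]; exact hw, by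
          rw [Set.mem_preimage, ← Groth.Agent.GrpSchLib.left_comp_apply, lift_snd]; exact hz⟩
      rw [← Groth.Agent.GrpSchLib.left_comp_apply,
        show lift h (snd T G) ≫ μ[G] = fst T G ≫ pt by simp [h, ← Hom.mul_def],
        Groth.Agent.GrpSchLib.left_comp_apply] at h1
      convert! h1
      exact hy.symm.trans (congrArg y (@Subsingleton.elim (Spec (CommRingCat.of Ω)) inferInstance _ _))
    · let cl : ↥T.left := IsLocalRing.closedPoint Ω
      refine ⟨(lift (𝟙 T) (toUnit T ≫ η[G])).left cl, ?_, ?_⟩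
      · rw [Set.mem_preimage, ← Groth.Agent.GrpSchLib.left_comp_apply, lift_snd, Groth.Agent.GrpSchLib.apply_pointSection]
        exact heU
      · rw [← Groth.Agent.GrpSchLib.left_comp_apply,
          show lift (𝟙 T) (toUnit T ≫ η[G]) ≫ h = pt by simp [h, MonObj.comp_mul, GrpObj.comp_inv, MonObj.one_eq_one]]
        exact hy
  · have hfin : ∀ n, ∃ I : Set G.left.affineOpens, I.Finite ∧ ((P n).1 : Set G.left) = ⋃ V ∈ I, (V.1 : Set G.left) := fun n => by
      obtain ⟨I, hI, h⟩ := isCompact_iff_finite_and_eq_biUnion_affineOpens.mp (P n).2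
      exact ⟨I, hI, by rw [h]; simp⟩
    choose I hIfin hI using hfin
    obtain ⟨f, hf⟩ := ((Set.countable_iUnion fun n => (hIfin n).countable).insert
      (⟨V₀, hV₀⟩ : G.left.affineOpens)).exists_eq_range (Set.insert_nonempty _ _)
    refine ⟨fun n => (f n).1, fun n => (f n).2, ?_⟩
    refine subset_antisymm ?_ ?_
    · intro x hx
      obtain ⟨n, hn⟩ := (hU x).mp hx
      have hn' : x ∈ ((P n).1 : Set G.left) := hn
      rw [hI] at hn'
      obtain ⟨V, hVI, hxV⟩ := Set.mem_iUnion₂.mp hn'
      obtain ⟨m, rfl⟩ := hf.subset (Set.mem_insert_of_mem _ (Set.mem_iUnion.mpr ⟨n, hVI⟩))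
      exact Set.mem_iUnion.mpr ⟨m, hxV⟩
    · refine Set.iUnion_subset fun m x hx => ?_
      rcases hf.symm.subset (Set.mem_range_self m) with h | h
      · simp only [h] at hx
        exact (hU x).mpr ⟨0, hx⟩
      · obtain ⟨n, hn⟩ := Set.mem_iUnion.mp h
        exact (hU x).mpr ⟨n, (hI n).symm.subset (Set.mem_iUnion₂.mpr ⟨f m, hn, hx⟩)⟩

end Groth.Agent.S1865
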