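import Groth.Statements.S18656
import Groth.Agent.GrLib8.TopRight
import Groth.Agent.GrLib8.FilterInj
import Groth.Agent.LC.CdDim
-- import your own Groth.Agent.* helpers here

set_option autoImplicit false
universe u
open GrLC

namespace Groth.Agent.S18656

/-- Let R be a graded ring defined over a field k = R_0, generated over k by R_1, of dimension r ≥ 1,
and let a(R) be its a-invariant. Then the homogeneous piece H^r_m(R)_n is nonzero for every n ≤
a(R). Here 'graded ring defined over a field' means R = ⊕_{n ≥ 0} R_n is Noetherian with R_0 a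
field, and m = R_+ is its unique graded maximal ideal. The a-invariant a(R) is the largest degree in
which the graded local cohomology H^n_m(R) (n = dim R, m = R_+), computed from a *injective
resolution of R in the graded category, is nonzero. -/
theorem result (R : Type u) [CommRing R] [IsNoetherianRing R] (𝒜 : ℤ → AddSubgroup R) [GradedRing 𝒜] (hpos : ∀ n : ℤ, n < 0 → 𝒜 n = ⊥) (h0 : IsField (GrLC.deg0 𝒜)) (m : HomogeneousIdeal 𝒜) (hm : GrLC.IsStarLocal 𝒜 m) (hmsp : m.toIdeal = Ideal.span (⋃ n ∈ Set.Ioi (0 : ℤ), (𝒜 n : Set R))) (hstd : Ideal.span (⋃ n ∈ Set.Ioi (0 : ℤ), (𝒜 n : Set R)) = Ideal.span ((𝒜 1 : AddSubgroup R) : Set R)) (r : ℕ) (hr : ringKrullDim R = r) (h1 : 1 ≤ r) (I : GrLC.StarInjRes 𝒜 𝒜) (a : ℤ) (ha : GrLC.endDeg (I.Hgr m r) = ((a : WithTop ℤ) : WithBot (WithTop ℤ))) (n : ℤ) (hn : n ≤ a) : I.Hcomp m r n ≠ ⊥ := by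
  classical
  intro hbot
  have hcd : ∀ (X : GrLC.GMod.{u} 𝒜) (g : ℤ), GrLib8.HVan m X (r + 1) g := fun X g F => by
    haveI : Subsingleton (LocCoh.H m.toIdeal (r + 1) X.carrier) :=
      LC.cdLE_of_ringKrullDim_le m.toIdeal hr.le X.carrier (r + 1) (Nat.lt_succ_self r)
    obtain ⟨e⟩ := GrLib8.nonempty_H_equiv X.gr F m (r + 1)
    haveI := e.toEquiv.subsingleton
    exact GrLib8.Hcomp_eq_bot_of_subsingleton F m (r + 1) g
  obtain ⟨T, hT, hTeq⟩ := Submodule.fg_span_iff_fg_span_finset_subset ((𝒜 1 : AddSubgroup R) : Set R) |>.1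
    (IsNoetherian.noetherian (Ideal.span ((𝒜 1 : AddSubgroup R) : Set R)))
  have hof : (GrSyz.irrel 𝒜).toIdeal = Ideal.ofList T.toList := by
    rw [GrLib8.irrel_toIdeal_eq, hstd]
    refine hTeq.trans ?_
    show Ideal.span _ = Ideal.span _
    congr 1
    ext y
    simp
  have hup : ∀ j : ℕ, GrLib8.HVan m (GrLib8.gmodPieces 𝒜 𝒜) r (n + j) := by
    intro j
    induction j with
    | zero => simpa using (GrLib8.hVan_of_pieces_res I).2 hbot
    | succ j ih =>
      refine GrLib8.hVan_top_succ hcd (fun y hy => hT (Finset.mem_toList.1 hy)) (GrSyz.irrel 𝒜) hof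
        (by omega) (hmsp.le.trans GrLib8.irrel_toIdeal_eq.ge) _ ?_
      rwa [Nat.cast_succ, ← add_assoc, add_sub_cancel_right]
  have hle : GrLC.endDeg (I.Hgr m r) ≤ (((n - 1 : ℤ) : WithTop ℤ) : WithBot (WithTop ℤ)) := by
    refine (GrLib8.endDeg_le_iff _ _).2 fun g hg => ?_
    obtain ⟨j, hj⟩ := Int.le.dest (show n ≤ g by omega)
    rw [GrLib8.Hgr_eq_bot_iff, ← hj]
    exact (GrLib8.hVan_of_pieces_res I).1 (hup j)
  rw [ha] at hle
  have := WithTop.coe_le_coe.1 (WithBot.coe_le_coe.1 hle)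
  omega

end Groth.Agent.S18656
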