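import Groth.Statements.S18657
import Groth.Agent.GrLib8.CanonGrowth
-- import your own Groth.Agent.* helpers here

set_option autoImplicit false
universe u
open GrLC

namespace Groth.Agent.S18657

/-- Let R be a graded ring defined over a field k = R_0 which is Cohen–Macaulay and generated over k by
R_1, of dimension r ≥ 2, with canonical module K_R and a-invariant a(R). Then dim_k (K_R)_n ≥ 2 for
every n > −a(R). Here 'graded ring defined over a field' means R = ⊕_{n ≥ 0} R_n is Noetherian with
R_0 a field (so R is finitely generated over R_0), m = R_+ is its unique graded maximal ideal and n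
= dim R; the canonical module K_R (the graded dual of H^n_m(R)) is represented by a finitely
generated graded module C together with a homogeneous isomorphism from Hom_R(C, E) onto H^n_m(R),
where E is a *injective envelope of R/m and H^n_m(R) is computed from a *injective resolution of R
in the graded category; by graded Matlis duality this says exactly that C ≅ K_R as graded modules.
The a-invariant a(R) is the largest degree in which the graded local cohomology H^n_m(R) (n = dim R,
m = R_+), computed from a *injective resolution of R in the graded category, is nonzero. -/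
theorem result (R : Type u) [CommRing R] [LocCoh.IsCohenMacaulayRing R] (𝒜 : ℤ → AddSubgroup R) [GradedRing 𝒜] (hpos : ∀ n : ℤ, n < 0 → 𝒜 n = ⊥) (h0 : IsField (GrLC.deg0 𝒜)) (m : HomogeneousIdeal 𝒜) (hm : GrLC.IsStarLocal 𝒜 m) (hmsp : m.toIdeal = Ideal.span (⋃ n ∈ Set.Ioi (0 : ℤ), (𝒜 n : Set R))) (hstd : Ideal.span (⋃ n ∈ Set.Ioi (0 : ℤ), (𝒜 n : Set R)) = Ideal.span ((𝒜 1 : AddSubgroup R) : Set R)) (n : ℕ) (hn : ringKrullDim R = n) (h2 : 2 ≤ n) (I : GrLC.StarInjRes 𝒜 𝒜) (a : ℤ) (ha : GrLC.endDeg (I.Hgr m n) = ((a : WithTop ℤ) : WithBot (WithTop ℤ))) (E' : Type u) [AddCommGroup E'] [Module R E'] (𝓔 : ℤ → AddSubgroup E') [DirectSum.Decomposition 𝓔] [SetLike.GradedSMul 𝒜 𝓔] (e : (R ⧸ m.toIdeal) →ₗ[R] E') (he : GrLC.IsStarInjHull 𝒜 (GrLC.quotGr 𝒜 m) 𝓔 e) (C : Type u) [AddCommGroup C] [Module R C] (𝒞 : ℤ → AddSubgroup C) [DirectSum.Decomposition 𝒞] [SetLike.GradedSMul 𝒜 𝒞] (hC : GrLC.IsStarCanonical 𝒜 𝒞 𝓔 m n I) (j : ℤ) (hj : -a < j) : 2 ≤ Module.finrank (GrLC.deg0 𝒜) (GrLC.comp 𝒜 𝒞 j) := by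
  haveI : m.toIdeal.IsMaximal := GrLib8.isMaximal_of_isStarLocal hpos hm
  exact GrLib8.Canon.two_le_finrank hpos h0 hm hmsp hstd hn h2 he hC a ha j hj

end Groth.Agent.S18657
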