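import Groth.Statements.S18663
import Groth.Agent.GrLib8.SegCMRing
-- import your own Groth.Agent.* helpers here

set_option autoImplicit false
universe u
open scoped TensorProduct
open GrSegre

namespace Groth.Agent.S18663

/-- Let R and S be graded rings defined over a field k which are Cohen–Macaulay, with dim R = 1 and dim
S = s ≥ 1, and let T = R # S be their Segre product. (iii) If s ≥ 2, then T is a Cohen–Macaulay ring
if and only if H^1_{R_+}(R) # S = 0, that is, for every degree n, H^1_{R_+}(R)_n = 0 or S_n = 0.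
(iv) If s = 1, then T is a Cohen–Macaulay ring. Here a graded ring defined over k is a commutative
k-algebra of finite type, graded in nonnegative degrees by k-subspaces with degree-zero part k·1;
the graded local cohomology pieces are computed from a *injective resolution of R in the graded
category; the Segre product T = ⊕_n R_n ⊗_k S_n is presented abstractly as a graded k-algebra T with
an injective k-algebra homomorphism ψ : T → R ⊗_k S carrying T_n onto the k-span of the elementary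
tensors a ⊗ b with a ∈ R_n, b ∈ S_n. -/
theorem result (k : Type u) [Field k] (R : Type u) [CommRing R] [Algebra k R] (𝒜 : ℤ → Submodule k R) [GradedAlgebra 𝒜] (hposR : ∀ n : ℤ, n < 0 → 𝒜 n = ⊥) (h0R : 𝒜 0 = Submodule.span k {(1 : R)}) [Algebra.FiniteType k R] (S : Type u) [CommRing S] [Algebra k S] (ℬ : ℤ → Submodule k S) [GradedAlgebra ℬ] (hposS : ∀ n : ℤ, n < 0 → ℬ n = ⊥) (h0S : ℬ 0 = Submodule.span k {(1 : S)}) [Algebra.FiniteType k S] (T : Type u) [CommRing T] [Algebra k T] (𝒯 : ℤ → Submodule k T) [GradedAlgebra 𝒯] (ψ : T →ₐ[k] TensorProduct k R S) (hψ : Function.Injective ψ) (hdegT : ∀ n : ℤ, (𝒯 n).map ψ.toLinearMap = Submodule.span k {x : TensorProduct k R S | ∃ a ∈ 𝒜 n, ∃ b ∈ ℬ n, x = a ⊗ₜ[k] b}) [LocCoh.IsCohenMacaulayRing R] [LocCoh.IsCohenMacaulayRing S] (mR : HomogeneousIdeal 𝒜) (hmR : mR.toIdeal = Ideal.span (⋃ n ∈ Set.Ioi (0 : ℤ), (𝒜 n : Set R))) (I : GrLC.StarInjRes 𝒜 𝒜) (hr : ringKrullDim R = 1) (s : ℕ) (hs : ringKrullDim S = s) (h1s : 1 ≤ s)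 : (2 ≤ s → (LocCoh.IsCohenMacaulayRing T ↔ ∀ n : ℤ, I.Hcomp mR 1 n = ⊥ ∨ ℬ n = ⊥)) ∧ (s = 1 → LocCoh.IsCohenMacaulayRing T) := by
  haveI : IsNoetherianRing S := Algebra.FiniteType.isNoetherianRing k S
  have hR := GrLib8.Seg.eq_irrel 𝒜 mR hmR
  subst hR
  have hr' : ringKrullDim R = ((1 : ℕ) : WithBot ℕ∞) := by rw [hr, Nat.cast_one]
  have key := GrLib8.Seg.isCMRing_segre_iff hposR h0R hposS h0S ⟨hψ, hdegT⟩ (GrLib8.Seg.resAdd I)
    (GrLib8.starRes (GrLib8.addPieces ℬ)) hr' hs le_rfl h1s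
  refine ⟨fun h2s => key.trans ⟨fun h => h.2 h2s, fun h => ⟨fun hc => absurd hc (by omega), fun _ => h⟩⟩, fun hs1 => ?_⟩
  exact key.2 ⟨fun hc => absurd hc (by omega), fun hc => absurd hc (by omega)⟩

end Groth.Agent.S18663
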