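import Groth.Statements.S18664
import Groth.Agent.GrLib8.SegDimOne
-- import your own Groth.Agent.* helpers here

set_option autoImplicit false
universe u
open scoped TensorProduct
open GrSegre

namespace Groth.Agent.S18664

/-- Let R and S be standard graded rings defined over a field k which are Cohen–Macaulay, with dim R = 1
and dim S ≥ 2. Then the Segre product T = R # S is a Cohen–Macaulay ring if and only if R is a
polynomial ring over k (in one variable). Here a graded ring defined over k is a commutative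
k-algebra of finite type, graded in nonnegative degrees by k-subspaces with degree-zero part k·1,
standard graded when its irrelevant ideal is generated by the degree-one piece; the Segre product T
= ⊕_n R_n ⊗_k S_n is presented abstractly as a graded k-algebra T with an injective k-algebra
homomorphism ψ : T → R ⊗_k S carrying T_n onto the k-span of the elementary tensors a ⊗ b with a ∈
R_n, b ∈ S_n. -/
theorem result (k : Type u) [Field k] (R : Type u) [CommRing R] [Algebra k R] (𝒜 : ℤ → Submodule k R) [GradedAlgebra 𝒜] (hposR : ∀ n : ℤ, n < 0 → 𝒜 n = ⊥) (h0R : 𝒜 0 = Submodule.span k {(1 : R)}) [Algebra.FiniteType k R] (S : Type u) [CommRing S] [Algebra k S] (ℬ : ℤ → Submodule k S) [GradedAlgebra ℬ] (hposS : ∀ n : ℤ, n < 0 → ℬ n = ⊥) (h0S : ℬ 0 = Submodule.span k {(1 : S)}) [Algebra.FiniteType k S] (T : Type u) [CommRing T] [Algebra k T] (𝒯 : ℤ → Submodule k T) [GradedAlgebra 𝒯] (ψ : T →ₐ[k] TensorProduct k R S) (hψ : Function.Injective ψ) (hdegT : ∀ n : ℤ, (𝒯 n).map ψ.toLinearMap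 = Submodule.span k {x : TensorProduct k R S | ∃ a ∈ 𝒜 n, ∃ b ∈ ℬ n, x = a ⊗ₜ[k] b}) [LocCoh.IsCohenMacaulayRing R] [LocCoh.IsCohenMacaulayRing S] (hstdR : Ideal.span (⋃ n ∈ Set.Ioi (0 : ℤ), (𝒜 n : Set R)) = Ideal.span ((𝒜 1 : Submodule k R) : Set R)) (hstdS : Ideal.span (⋃ n ∈ Set.Ioi (0 : ℤ), (ℬ n : Set S)) = Ideal.span ((ℬ 1 : Submodule k S) : Set S)) (hr : ringKrullDim R = 1) (hs : 2 ≤ ringKrullDim S) : LocCoh.IsCohenMacaulayRing T ↔ Nonempty (R ≃ₐ[k] Polynomial k) := by
  classical
  haveI : IsNoetherianRing R := Algebra.FiniteType.isNoetherianRing k R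
  haveI : IsNoetherianRing S := Algebra.FiniteType.isNoetherianRing k S
  haveI : Nontrivial S := by
    by_contra h
    haveI := not_nontrivial_iff_subsingleton.1 h
    rw [ringKrullDim_eq_bot_of_subsingleton] at hs
    simp at hs
  obtain ⟨s, hs'⟩ : ∃ s : ℕ, ringKrullDim S = s := by
    obtain ⟨n, hn, -⟩ := Algebra.FiniteType.iff_quotient_mvPolynomial''.1 (inferInstance : Algebra.FiniteType k S) |>
      fun ⟨n, f, hf⟩ => (⟨n, ringKrullDim_le_of_surjective f.toRingHom hf, trivial⟩ :
        ∃ n, ringKrullDim S ≤ ringKrullDim (MvPolynomial (Fin n) k) ∧ True)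
    rw [MvPolynomial.ringKrullDim_of_isNoetherianRing, ringKrullDim_eq_zero_of_field, zero_add, Nat.card_fin] at hn
    generalize ringKrullDim S = a at hn hs ⊢
    induction a with
    | bot => simp at hs
    | coe a =>
      induction a using ENat.recTopCoe with
      | top =>
        have h' : (⊤ : ℕ∞) ≤ (n : ℕ∞) := WithBot.coe_le_coe.1 hn
        exact absurd h' (not_le.2 (ENat.natCast_lt_top n))
      | coe a => exact ⟨a, rfl⟩
  have h2s : 2 ≤ s := by rw [hs'] at hs; exact_mod_cast hs
  have hr' : ringKrullDim R = ((1 : ℕ) : WithBot ℕ∞) := by rw [hr, Nat.cast_one]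
  let E := GrLib8.starRes (𝒜 := 𝒜) (GrLib8.addPieces 𝒜)
  rw [GrLib8.Seg.isCMRing_segre_iff hposR h0R hposS h0S ⟨hψ, hdegT⟩ E (GrLib8.starRes (GrLib8.addPieces ℬ)) hr' hs'
    le_rfl (by omega)]
  constructor
  · intro h
    refine GrLib8.DimOne.nonempty_polynomial_of_vanish 𝒜 hposR h0R hstdR hr E fun g hg => ?_
    refine (h.2 h2s g).resolve_right ?_
    lift g to ℕ using hg
    exact GrLib8.Seg.piece_ne_bot ℬ hposS h0S hstdS hs' (by omega) g
  · rintro ⟨e⟩
    obtain ⟨z, hz, hreg, hdiv⟩ := GrLib8.DimOne.exists_gen 𝒜 hposR h0R hstdR hr e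
    refine ⟨fun h => absurd h (by omega), fun _ g => ?_⟩
    rcases lt_or_ge g 0 with h | h
    · exact Or.inr (hposS g h)
    · exact Or.inl (GrLib8.DimOne.vanish_of_principal 𝒜 hposR hz hreg hdiv E g h)

end Groth.Agent.S18664
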