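import Groth.Statements.S18665
import Groth.Agent.GrLib8.SegGorRows
-- import your own Groth.Agent.* helpers here

set_option autoImplicit false
universe u
open scoped TensorProduct
open GrSegre

namespace Groth.Agent.S18665

/-- Let R and S be standard graded rings defined over a field k which are Gorenstein, of dimensions r ≥
2 and s ≥ 2, put a = a(R), b = a(S) with a ≥ b, and assume that the Segre product T = R # S is a
Cohen–Macaulay ring. Then the type r(T) equals dim_k R_{a−b}. Here the type of T is the Bass number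
μ_{r+s−1}(T_+, T), the dimension over the residue field of Ext^{r+s−1} over the local ring of T at
its graded maximal ideal T_+ (T has dimension r + s − 1); a graded ring defined over k is a
commutative k-algebra of finite type, graded in nonnegative degrees by k-subspaces with degree-zero
part k·1, standard graded when its irrelevant ideal is generated by the degree-one piece; the
a-invariant is the largest nonzero degree of the top graded local cohomology with support in the
irrelevant ideal, computed from a *injective resolution in the graded category; the Segre product T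
= ⊕_n R_n ⊗_k S_n is presented abstractly as a graded k-algebra T with an injective k-algebra
homomorphism ψ : T → R ⊗_k S carrying T_n onto the k-span of the elementary tensors a ⊗ b with a ∈
R_n, b ∈ S_n. -/
theorem result (k : Type u) [Field k] (R : Type u) [CommRing R] [Algebra k R] (𝒜 : ℤ → Submodule k R) [GradedAlgebra 𝒜] (hposR : ∀ n : ℤ, n < 0 → 𝒜 n = ⊥) (h0R : 𝒜 0 = Submodule.span k {(1 : R)}) [Algebra.FiniteType k R] (S : Type u) [CommRing S] [Algebra k S] (ℬ : ℤ → Submodule k S) [GradedAlgebra ℬ] (hposS : ∀ n : ℤ, n < 0 → ℬ n = ⊥) (h0S : ℬ 0 = Submodule.span k {(1 : S)}) [Algebra.FiniteType k S] (T : Type u) [CommRing T] [Algebra k T] (𝒯 : ℤ → Submodule k T) [GradedAlgebra 𝒯] (ψ : T →ₐ[k] TensorProduct k R S) (hψ : Function.Injective ψ) (hdegT : ∀ n : ℤ, (𝒯 n).map ψ.toLinearMap = Submodule.span k {x : TensorProduct k R S | ∃ a ∈ 𝒜 n, ∃ b ∈ ℬ n, x = a ⊗ₜ[k] b}) [LocCoh.IsGorensteinRing R] [LocCoh.IsGorensteinRing S] (mR : HomogeneousIdeal 𝒜)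 (hmR : mR.toIdeal = Ideal.span (⋃ n ∈ Set.Ioi (0 : ℤ), (𝒜 n : Set R))) (hstdR : Ideal.span (⋃ n ∈ Set.Ioi (0 : ℤ), (𝒜 n : Set R)) = Ideal.span ((𝒜 1 : Submodule k R) : Set R)) (I : GrLC.StarInjRes 𝒜 𝒜) (mS : HomogeneousIdeal ℬ) (hmS : mS.toIdeal = Ideal.span (⋃ n ∈ Set.Ioi (0 : ℤ), (ℬ n : Set S))) (hstdS : Ideal.span (⋃ n ∈ Set.Ioi (0 : ℤ), (ℬ n : Set S)) = Ideal.span ((ℬ 1 : Submodule k S) : Set S)) (J : GrLC.StarInjRes ℬ ℬ) (r s : ℕ) (hr : ringKrullDim R = r) (hs : ringKrullDim S = s) (h2r : 2 ≤ r) (h2s : 2 ≤ s) (a b : ℤ) (ha : GrLC.endDeg (I.Hgr mR r) = ((a : WithTop ℤ) : WithBot (WithTop ℤ))) (hb : GrLC.endDeg (J.Hgr mS s) = ((b : WithTop ℤ) : WithBot (WithTop ℤ))) (hab : b ≤ a) [LocCoh.IsCohenMacaulayRing T] (mT : HomogeneousIdeal 𝒯) [mT.toIdeal.IsMaximal] (hmT : mT.toIdeal = Ideal.span (⋃ n ∈ Set.Ioi (0 : ℤ), (𝒯 n : Set T))) : GrLC.bassNum mT.toIdeal T (r + s - 1) = (Module.finrank k (𝒜 (a - b)) : ℕ∞) := by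
  have hT : GrSeg.IsSegreRing 𝒜 ℬ 𝒯 ψ := ⟨hψ, hdegT⟩
  obtain rfl := GrLib8.Seg.eq_irrel 𝒜 mR hmR
  obtain rfl := GrLib8.Seg.eq_irrel ℬ mS hmS
  obtain rfl := GrLib8.Seg.eq_irrel 𝒯 mT hmT
  exact GrLib8.Seg.bassNum_segre hT hposR h0R hposS h0S hr hs h2r h2s hstdR hstdS a b ha hb hab

end Groth.Agent.S18665
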