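import Groth.Statements.S18666
import Groth.Agent.GrProj6.Flat
import Groth.Agent.S0344
import Mathlib.AlgebraicGeometry.ProjectiveSpectrum.Scheme

set_option autoImplicit false
universe u
open GrProj

namespace Groth.Agent.S18666

open AlgebraicGeometry Pointwise in
/-- Let A = ⊕_{n ≥ 0} A_n be a commutative Noetherian graded ring satisfying condition (#) — there is an
integer d_0 such that for every d ≥ d_0 the Veronese subring A^(d) is generated by A_d over A_0,
equivalently A_{(n+1)d} is additively generated by the products A_d A_{nd} for every n ≥ 1 — and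
assume A is a Gorenstein ring. Then X = Proj A is a Gorenstein scheme: all of its local rings are
Gorenstein local rings. (The Cohen–Macaulay case of the same lemma is stated separately.) -/
theorem result (A : Type u) [CommRing A] (𝒜 : ℕ → AddSubgroup A) [GradedRing 𝒜] [LocCoh.IsGorensteinRing A] (hsharp : ∃ d₀ : ℕ, ∀ d : ℕ, d₀ ≤ d → ∀ n : ℕ, 1 ≤ n → 𝒜 ((n + 1) * d) = AddSubgroup.closure ((𝒜 d : Set A) * (𝒜 (n * d) : Set A))) (x : Proj 𝒜) : LocCoh.IsGorensteinLocalRing ((Proj 𝒜).presheaf.stalk x) := by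
    classical
    let p : Ideal A := x.asHomogeneousIdeal.toIdeal
    haveI : p.IsPrime := x.isPrime
    obtain ⟨e, he, h, hhe, hhp⟩ : ∃ e, 0 < e ∧ ∃ h ∈ 𝒜 e, h ∉ p := by
      by_contra hcon
      push Not at hcon
      apply x.not_irrelevant_le
      intro a ha
      rw [HomogeneousIdeal.mem_irrelevant_iff] at ha
      change a ∈ p
      rw [← DirectSum.sum_support_decompose 𝒜 a]
      refine sum_mem fun i _ => ?_
      rcases Nat.eq_zero_or_pos i with rfl | hi
      · rw [show (DirectSum.decompose 𝒜 a 0 : A) = 0 from ha]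
        exact p.zero_mem
      · exact hcon i hi _ (DirectSum.decompose 𝒜 a i).2
    obtain ⟨d₀, hd₀⟩ := hsharp
    let d := e * (d₀ + 1)
    have hf : h ^ (d₀ + 1) ∈ 𝒜 d := by
      have := SetLike.pow_mem_graded (d₀ + 1) hhe
      rwa [smul_eq_mul, mul_comm] at this
    have hfp : h ^ (d₀ + 1) ∉ p := fun hh => hhp (Ideal.IsPrime.mem_of_pow_mem inferInstance _ hh)
    obtain ⟨g, hg, hgp⟩ : ∃ g ∈ 𝒜 (d + 1), g ∉ p := by
      by_contra hcon
      push Not at hcon
      apply hhp
      refine Ideal.IsPrime.mem_of_pow_mem inferInstance (2 * (d + 1)) ?_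
      have hmem := SetLike.pow_mem_graded (2 * (d + 1)) hhe
      have hle : d₀ ≤ d + 1 := (Nat.le_succ d₀).trans ((Nat.le_mul_of_pos_left _ he).trans (Nat.le_succ _))
      have e1 : (2 * (d + 1)) • e = ((2 * e - 1) + 1) * (d + 1) := by
        rw [smul_eq_mul, show 2 * e - 1 + 1 = 2 * e by omega]; ring
      rw [e1, hd₀ (d + 1) hle (2 * e - 1) (by omega)] at hmem
      refine AddSubgroup.closure_induction (p := fun z _ => z ∈ p) ?_ p.zero_mem (fun _ _ _ _ hx hy => p.add_mem hx hy)
        (fun _ _ hx => p.neg_mem hx) hmem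
      rintro _ ⟨a, ha, b, -, rfl⟩
      exact p.mul_mem_right _ (hcon a ha)
    obtain ⟨hnoeth, hloc, hflat⟩ := GrProj6.isNoetherianRing_and_flat 𝒜 p hf hg hfp hgp
    haveI := LocCoh.IsGorensteinRing.isGorensteinLocalRing_localization (A := A) p
    haveI : IsNoetherianRing (Localization.AtPrime p) := IsLocalization.isNoetherianRing p.primeCompl _ inferInstance
    haveI : LocCoh.IsGorensteinLocalRing (HomogeneousLocalization.AtPrime 𝒜 p) :=
      ((S0344.result (HomogeneousLocalization.AtPrime 𝒜 p) (Localization.AtPrime p)).1 inferInstance).1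
    let ε : (HomogeneousLocalization.AtPrime 𝒜 p) ≃+* (Proj 𝒜).presheaf.stalk x := (Proj.stalkIso' 𝒜 x).symm
    haveI : IsNoetherianRing ((Proj 𝒜).presheaf.stalk x) := isNoetherianRing_of_ringEquiv _ ε
    exact LC.gorenstein_of_ringEquiv ε

end Groth.Agent.S18666
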