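import Groth.Statements.S18671
import Groth.Agent.GrLib8.Veronese
-- import your own Groth.Agent.* helpers here

set_option autoImplicit false
universe u
open GrLC

namespace Groth.Agent.S18671

/-- Let R be a graded ring defined over a field, q ≥ 1, R' = R^(q) its Veronese subring with m' = R'_+,
and M a graded R-module with Veronese submodule M^(q) = ⊕_j M_{jq}, a graded R'-module. Then
H^p_{m'}(M^(q)) ≅ (H^p_m(M))^(q) for every p. Stated here, for M finitely generated, as the equality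
of dimensions dim H^p_{m'}(M^(q))_j = dim H^p_m(M)_{jq} over the degree-zero fields R'_0 ≅ R_0, for
all p and j (the published isomorphism is one of graded R'-modules; all these pieces are
finite-dimensional). Here 'graded ring defined over a field' means R = ⊕_{n ≥ 0} R_n is Noetherian
with R_0 a field, and m = R_+ is its unique graded maximal ideal. The graded local cohomologies are
computed from *injective resolutions in the respective graded categories; the Veronese subring R^(q)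
= ⊕_j R_{jq}, regraded by (R^(q))_j = R_{jq}, is presented abstractly as a ℤ-graded ring R' with an
injective ring homomorphism φ : R' → R carrying R'_j onto R_{jq} for every j. The module M^(q) is
presented as a graded R'-module M' with an injective additive map g : M' → M, semilinear over φ,
carrying M'_j onto M_{jq} for every j. -/
theorem result (R : Type u) [CommRing R] [IsNoetherianRing R] (𝒜 : ℤ → AddSubgroup R) [GradedRing 𝒜] (hpos : ∀ n : ℤ, n < 0 → 𝒜 n = ⊥) (h0 : IsField (GrLC.deg0 𝒜)) (m : HomogeneousIdeal 𝒜) (hm : GrLC.IsStarLocal 𝒜 m) (hmsp : m.toIdeal = Ideal.span (⋃ n ∈ Set.Ioi (0 : ℤ), (𝒜 n : Set R))) (M : Type u) [AddCommGroup M] [Module R M] (ℳ : ℤ → AddSubgroup M) [DirectSum.Decomposition ℳ] [SetLike.GradedSMul 𝒜 ℳ] [Module.Finite R M] (E : GrLC.StarInjRes 𝒜 ℳ) (q : ℕ) (hq : 0 < q) (R' : Type u) [CommRing R'] (𝒜' : ℤ → AddSubgroup R') [GradedRing 𝒜'] (φ : R' →+* R) (hφ : Function.Injective φ) (hdeg : ∀ j : ℤ, (𝒜' j).map (φ : R' →+ R) = 𝒜 (j *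 q)) (m' : HomogeneousIdeal 𝒜') (hm' : GrLC.IsStarLocal 𝒜' m') (hm'sp : m'.toIdeal = Ideal.span (⋃ j ∈ Set.Ioi (0 : ℤ), (𝒜' j : Set R'))) (M' : Type u) [AddCommGroup M'] [Module R' M'] (ℳ' : ℤ → AddSubgroup M') [DirectSum.Decomposition ℳ'] [SetLike.GradedSMul 𝒜' ℳ'] (g : M' →ₛₗ[φ] M) (hg : Function.Injective g) (hgdeg : ∀ j : ℤ, (ℳ' j).map (g : M' →+ M) = ℳ (j * q)) (F : GrLC.StarInjRes 𝒜' ℳ') (p : ℕ) (j : ℤ) : Module.finrank (GrLC.deg0 𝒜') (F.Hcomp m' p j) = Module.finrank (GrLC.deg0 𝒜) (E.Hcomp m p (j * q)) := by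
  classical
  let M0 := GrLC.GMod.of 𝒜 M ℳ
  let P0 := GrLC.GMod.of 𝒜' M' ℳ'
  let E' : GrLC.StarInjRes 𝒜 M0.gr := E
  let F' : GrLC.StarInjRes 𝒜' P0.gr := F
  haveI := GrLib8.Vero.isNoetherianRing_vero q φ hdeg hφ
  have hmem : ∀ x : M', g x ∈ GrLib8.Vero.vAdd M0.gr q := fun x => by
    induction x using DirectSum.Decomposition.inductionOn ℳ' with
    | zero => rw [map_zero]; exact zero_mem _
    | add a b ha hb => rw [map_add]; exact add_mem ha hb
    | @homogeneous j y =>
      refine AddSubgroup.mem_iSup_of_mem j ?_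
      show g (y : M') ∈ ℳ (j * q)
      exact hgdeg j ▸ AddSubgroup.mem_map_of_mem _ y.2
  let e : P0.carrier →ₗ[R'] (GrLib8.Vero.vero q φ hdeg hq M0).carrier :=
    { toFun := fun x => GrLib8.Vero.retr q φ hdeg hq M0 (g x)
      map_add' := fun a b => GrLib8.Vero.val_injective q φ hdeg hq M0 (by
        simp only [GrLib8.Vero.val_retr, map_add]
        exact (congrArg _ (map_add g a b)).trans (map_add _ _ _))
      map_smul' := fun r a => GrLib8.Vero.val_injective q φ hdeg hq M0 (by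
        rw [RingHom.id_apply, GrLib8.Vero.val_smul, GrLib8.Vero.val_retr, GrLib8.Vero.val_retr]
        exact (congrArg _ (map_smulₛₗ g r a)).trans (GrLib8.Vero.vProj_smul q φ hdeg M0 r _)) }
  have hev : ∀ x, GrLib8.Vero.val q φ hdeg hq M0 (e x) = g x := fun x => GrLib8.Vero.vProj_eq_self M0.gr q (hmem x)
  have he : GrLC.IsGrHom P0.gr (GrLib8.Vero.vero q φ hdeg hq M0).gr e := fun j x hx => by
    rw [GrLib8.Vero.mem_vero_gr, hev]
    exact (hgdeg j).le (AddSubgroup.mem_map_of_mem (g : M' →+ M) hx)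
  have heb : Function.Bijective e := by
    refine ⟨fun a b h => hg ((hev a).symm.trans ((congrArg _ h).trans (hev b))), fun z => ?_⟩
    obtain ⟨x, hx⟩ : ∃ x, g x = GrLib8.Vero.val q φ hdeg hq M0 z := by
      refine AddSubgroup.iSup_induction _ (C := fun y => ∃ x, g x = y) (GrLib8.Vero.val_mem q φ hdeg hq M0 z)
        (fun j y hy => ?_) ⟨0, map_zero g⟩ fun a b ⟨a', ha⟩ ⟨b', hb⟩ => ⟨a' + b', by rw [map_add, ha, hb]⟩
      obtain ⟨x, -, hx⟩ := (hgdeg j).ge (show (y : M) ∈ ℳ (j * q) from hy)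
      exact ⟨x, hx⟩
    exact ⟨x, GrLib8.Vero.val_injective q φ hdeg hq M0 ((hev x).trans hx)⟩
  exact GrLib8.Vero.finrank_Hcomp_vero q φ hdeg hq hmsp hm'sp E' hφ e he heb F' p j

end Groth.Agent.S18671
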