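import Groth.Statements.S18672
import Groth.Agent.GrLib8.StdMul
-- import your own Groth.Agent.* helpers here

set_option autoImplicit false
universe u
open GrLC

namespace Groth.Agent.S18672

/-- Let R be a graded ring defined over a field k = R_0 which is Cohen–Macaulay and generated over k by
R_1 (the standing hypotheses of this section; only generation in degree one is used), q ≥ 1, R' =
R^(q), and a an integer. Then the Veronese submodule [R(a)]^(q) = ⊕_j R_{a+jq} is generated over R'
by its piece R(a)_n = R_{a+n}, where n is the smallest multiple of q with n + a ≥ 0. Here 'graded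
ring defined over a field' means R = ⊕_{n ≥ 0} R_n is Noetherian with R_0 a field, and m = R_+ is
its unique graded maximal ideal. The Veronese subring R^(q) = ⊕_j R_{jq}, regraded by (R^(q))_j =
R_{jq}, is presented abstractly as a ℤ-graded ring R' with an injective ring homomorphism φ : R' → R
carrying R'_j onto R_{jq} for every j. The module [R(a)]^(q) is presented as a graded R'-module M'
with an injective additive map g : M' → R, semilinear over φ, carrying M'_j onto R_{a+jq} for every
j; with n = j₀q, the conclusion is that the R'-span of M'_{j₀} is all of M'. -/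
theorem result (R : Type u) [CommRing R] [LocCoh.IsCohenMacaulayRing R] (𝒜 : ℤ → AddSubgroup R) [GradedRing 𝒜] (hpos : ∀ n : ℤ, n < 0 → 𝒜 n = ⊥) (h0 : IsField (GrLC.deg0 𝒜)) (hstd : Ideal.span (⋃ n ∈ Set.Ioi (0 : ℤ), (𝒜 n : Set R)) = Ideal.span ((𝒜 1 : AddSubgroup R) : Set R)) (q : ℕ) (hq : 0 < q) (R' : Type u) [CommRing R'] (𝒜' : ℤ → AddSubgroup R') [GradedRing 𝒜'] (φ : R' →+* R) (hφ : Function.Injective φ) (hdeg : ∀ j : ℤ, (𝒜' j).map (φ : R' →+ R) = 𝒜 (j * q)) (a : ℤ) (M' : Type u) [AddCommGroup M'] [Module R' M'] (ℳ' : ℤ → AddSubgroup M') [DirectSum.Decomposition ℳ'] [SetLike.GradedSMul 𝒜' ℳ'] (g : M' →ₛₗ[φ] R) (hg : Function.Injective g) (hgdeg : ∀ j : ℤ, (ℳ' j).map (g : M' →+ R) = 𝒜 (a + j * q)) (j₀ : ℤ) (hj₀ : 0 ≤ a + j₀ * q) (hj₀' : a + (j₀ - 1) * q < 0) : Submodule.span R' ((ℳ' j₀ : AddSubgroup M') : Set M') = ⊤ := by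
  classical
  rw [eq_top_iff]
  intro x _
  induction x using DirectSum.Decomposition.inductionOn ℳ' with
  | zero => exact zero_mem _
  | add y z hy hz => exact add_mem (hy Submodule.mem_top) (hz Submodule.mem_top)
  | @homogeneous j y =>
    have hy : g (y : M') ∈ 𝒜 (a + j * q) := hgdeg j ▸ AddSubgroup.mem_map_of_mem _ y.2
    rcases lt_or_ge j j₀ with hj | hj
    · have hneg : a + j * q < 0 := by
        have : j * (q : ℤ) ≤ (j₀ - 1) * q := mul_le_mul_of_nonneg_right (by omega) (by positivity)
        omega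
      rw [hpos _ hneg, AddSubgroup.mem_bot, ← map_zero g] at hy
      rw [hg hy]
      exact zero_mem _
    · have hmem : g (y : M') ∈ (Submodule.span R' ((ℳ' j₀ : AddSubgroup M') : Set M')).toAddSubgroup.map (g : M' →+ R) := by
        rw [show a + j * q = (j - j₀) * q + (a + j₀ * q) by ring] at hy
        refine AddSubgroup.closure_le _ |>.2 ?_ (GrLib8.StdMul.le_closure 𝒜 hstd (mul_nonneg (by omega) (by positivity)) hj₀ hy)
        rintro _ ⟨u, hu, v, hv, rfl⟩
        rw [← hdeg] at hu
        rw [← hgdeg] at hv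
        obtain ⟨r, hr, rfl⟩ := hu
        obtain ⟨w, hw, rfl⟩ := hv
        exact ⟨r • w, Submodule.smul_mem _ r (Submodule.subset_span hw), (map_smulₛₗ g r w).trans rfl⟩
      obtain ⟨w, hw, hgw⟩ := hmem
      exact hg hgw ▸ hw

end Groth.Agent.S18672
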