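import Groth.Statements.S1869
import Groth.Agent.CycLib.Periodic

set_option autoImplicit false
open Groth.Agent
universe u v
open CycAlg

namespace Groth.Agent.S1869

/-- Let 0 → (M₁, N₁, φ₁, ψ₁) → (M₂, N₂, φ₂, ψ₂) → (M₃, N₃, φ₃, ψ₃) → 0 be a short exact sequence of
2-periodic complexes over a ring R (so the maps f_i : M₁ → M₂ → M₃ and g_i : N₁ → N₂ → N₃ commute
with the φ's and ψ's and both rows are short exact). If two of the three complexes have cohomology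
modules of finite length then so does the third, and e_R of the middle one is the sum of e_R of the
outer ones. -/
theorem result {R : Type u} [CommRing R] {M₁ N₁ M₂ N₂ M₃ N₃ : Type v} [AddCommGroup M₁] [Module R M₁] [AddCommGroup N₁] [Module R N₁] [AddCommGroup M₂] [Module R M₂] [AddCommGroup N₂] [Module R N₂] [AddCommGroup M₃] [Module R M₃] [AddCommGroup N₃] [Module R N₃] (φ₁ : M₁ →ₗ[R] N₁) (ψ₁ : N₁ →ₗ[R] M₁) (φ₂ : M₂ →ₗ[R] N₂) (ψ₂ : N₂ →ₗ[R] M₂) (φ₃ : M₃ →ₗ[R] N₃) (ψ₃ : N₃ →ₗ[R] M₃) (h₁ : CycAlg.IsPeriodic φ₁ ψ₁) (h₂ : CycAlg.IsPeriodic φ₂ ψ₂) (h₃ : CycAlg.IsPeriodic φ₃ ψ₃) (f₁ : M₁ →ₗ[R] M₂) (g₁ : N₁ →ₗ[R] N₂) (f₂ : M₂ →ₗ[R] M₃) (g₂ : N₂ →ₗ[R] N₃) (cφ₁ : φ₂ ∘ₗ f₁ = g₁ ∘ₗ φ₁) (cψ₁ : ψ₂ ∘ₗ g₁ = f₁ ∘ₗ ψ₁) (cφ₂ : φ₃ ∘ₗ f₂ = g₂ ∘ₗ φ₂) (cψ₂ : ψ₃ ∘ₗ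 g₂ = f₂ ∘ₗ ψ₂) (hf₁ : Function.Injective f₁) (hg₁ : Function.Injective g₁) (hf₂ : Function.Surjective f₂) (hg₂ : Function.Surjective g₂) (hM : LinearMap.range f₁ = LinearMap.ker f₂) (hN : LinearMap.range g₁ = LinearMap.ker g₂) (htwo : (CycAlg.FinCoh R φ₁ ψ₁ ∧ CycAlg.FinCoh R φ₂ ψ₂) ∨ (CycAlg.FinCoh R φ₁ ψ₁ ∧ CycAlg.FinCoh R φ₃ ψ₃) ∨ (CycAlg.FinCoh R φ₂ ψ₂ ∧ CycAlg.FinCoh R φ₃ ψ₃)) : CycAlg.FinCoh R φ₁ ψ₁ ∧ CycAlg.FinCoh R φ₂ ψ₂ ∧ CycAlg.FinCoh R φ₃ ψ₃ ∧ CycAlg.herbrand R φ₂ ψ₂ = CycAlg.herbrand R φ₁ ψ₁ + CycAlg.herbrand R φ₃ ψ₃ := by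
  exact CycLib.Periodic.additive cφ₁ cψ₁ cφ₂ cψ₂ h₂ hf₁ hg₁ hf₂ hg₂ hM hN htwo

end Groth.Agent.S1869
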