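import Groth.Statements.S18701
import Groth.Agent.KFlatLib.Ring.KerDepth
-- import your own Groth.Agent.* helpers here

set_option autoImplicit false
universe u
open QGor

namespace Groth.Agent.S18701

/-- Affine form. Let A be a Noetherian ring and G the kernel of a linear map u : E⁰ → E¹ of finite
A-modules. If E⁰ has (S_1) then G has (S_1). If Supp G ⊆ Supp E¹, E¹ has (S_1) and E⁰ has (S_2),
then G has (S_2). -/
theorem result (A : Type u) [CommRing A] [IsNoetherianRing A]
    (E0 E1 : Type u) [AddCommGroup E0] [Module A E0] [Module.Finite A E0] [AddCommGroup E1] [Module A E1]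
    [Module.Finite A E1] (u : E0 →ₗ[A] E1) :
    (LocCoh.HasSk 1 A E0 → LocCoh.HasSk 1 A (LinearMap.ker u)) ∧
    (Module.support A (LinearMap.ker u) ⊆ Module.support A E1 → LocCoh.HasSk 1 A E1 → LocCoh.HasSk 2 A E0 →
      LocCoh.HasSk 2 A (LinearMap.ker u)) := ⟨fun h => Groth.Agent.KFlatLib.hasSk_one_of_injective (LinearMap.ker u).subtype Subtype.val_injective h,
  fun h h1 h0 => Groth.Agent.KFlatLib.hasSk_two_of_exact (LinearMap.ker u).subtype u Subtype.val_injective
    (LinearMap.exact_subtype_ker_map u) h h1 h0⟩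

end Groth.Agent.S18701
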