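import Groth.Statements.S18702
import Groth.Agent.KFlatLib.Ring.KerDepth
-- import your own Groth.Agent.* helpers here

set_option autoImplicit false
universe u
open QGor

namespace Groth.Agent.S18702

/-- Affine form, for an arbitrary Noetherian ring A (not assumed to be a domain). Let I be an ideal and
G a finite reflexive A-module (the evaluation map into the double dual is bijective). For k = 1 and
k = 2: if depth_I A ≥ k then depth_I G ≥ k; and if A satisfies (S_k) then G satisfies (S_k). -/
theorem result (A : Type u) [CommRing A] [IsNoetherianRing A] (I : Ideal A)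
    (G : Type u) [AddCommGroup G] [Module A G] [Module.Finite A G] [Module.IsReflexive A G] :
    (1 ≤ LocCoh.idealDepth I A → 1 ≤ LocCoh.idealDepth I G) ∧
    (2 ≤ LocCoh.idealDepth I A → 2 ≤ LocCoh.idealDepth I G) ∧
    (LocCoh.HasSk 1 A A → LocCoh.HasSk 1 A G) ∧ (LocCoh.HasSk 2 A A → LocCoh.HasSk 2 A G) := by
  obtain ⟨n, g, hg⟩ := Module.Finite.exists_fin' A (Module.Dual A G)
  obtain ⟨m, k, hk⟩ := Module.Finite.exists_fin' A (LinearMap.ker g)
  let h' : (Fin (m + 1) → A) →ₗ[A] (Fin n → A) :=
    (LinearMap.ker g).subtype ∘ₗ k ∘ₗ LinearMap.funLeft A A Fin.castSucc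
  let e0 : Module.Dual A (Fin n → A) ≃ₗ[A] (Fin n → A) := (Pi.basisFun A (Fin n)).toDualEquiv.symm
  let e1 : Module.Dual A (Fin (m + 1) → A) ≃ₗ[A] (Fin (m + 1) → A) := (Pi.basisFun A (Fin (m + 1))).toDualEquiv.symm
  let a : G →ₗ[A] (Fin n → A) := e0.toLinearMap ∘ₗ g.dualMap ∘ₗ (Module.evalEquiv A G).toLinearMap
  let b : (Fin n → A) →ₗ[A] (Fin (m + 1) → A) := e1.toLinearMap ∘ₗ h'.dualMap ∘ₗ e0.symm.toLinearMap
  have ha : Function.Injective a := e0.injective.comp
    ((LinearMap.dualMap_injective_of_surjective hg).comp (Module.evalEquiv A G).injective)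
  have hr : LinearMap.range h' = LinearMap.ker g := by
    rw [LinearMap.range_comp, (LinearMap.range_eq_top (f := k ∘ₗ LinearMap.funLeft A A Fin.castSucc)).2
      (hk.comp (LinearMap.funLeft_surjective_of_injective A A Fin.castSucc (Fin.castSucc_injective m))), Submodule.map_top,
      Submodule.range_subtype]
  have hab : Function.Exact a b := fun x => by
    constructor
    · intro hx
      have h2 : h'.dualMap (e0.symm x) = 0 := e1.injective (by rw [map_zero]; exact hx)
      have h3 : LinearMap.ker g ≤ LinearMap.ker (e0.symm x) := by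
        rw [← hr]; rintro _ ⟨z, rfl⟩; exact LinearMap.congr_fun h2 z
      let φ : Module.Dual A (Module.Dual A G) :=
        (Submodule.liftQ _ (e0.symm x) h3) ∘ₗ (LinearMap.quotKerEquivOfSurjective g hg).symm.toLinearMap
      refine ⟨(Module.evalEquiv A G).symm φ, ?_⟩
      show e0 (g.dualMap ((Module.evalEquiv A G) ((Module.evalEquiv A G).symm φ))) = x
      rw [LinearEquiv.apply_symm_apply]
      have : g.dualMap φ = e0.symm x := LinearMap.ext fun z => by
        show (Submodule.liftQ _ (e0.symm x) h3) ((LinearMap.quotKerEquivOfSurjective g hg).symm (g z)) = _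
        rw [show (LinearMap.quotKerEquivOfSurjective g hg).symm (g z) = Submodule.Quotient.mk z from
          (LinearEquiv.symm_apply_eq _).2 (by simp)]
        rfl
      rw [this, LinearEquiv.apply_symm_apply]
    · rintro ⟨z, rfl⟩
      show e1 (h'.dualMap (e0.symm (e0 (g.dualMap ((Module.evalEquiv A G) z))))) = 0
      rw [LinearEquiv.symm_apply_apply, LinearEquiv.map_eq_zero_iff]
      refine LinearMap.ext fun w => ?_
      have hw : h' w ∈ LinearMap.ker g := hr ▸ LinearMap.mem_range_self h' w
      show (Module.evalEquiv A G z) (g (h' w)) = 0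
      rw [LinearMap.mem_ker.1 hw, map_zero]
  have hsupp : Module.support A G ⊆ Module.support A (Fin (m + 1) → A) := fun q _ =>
    Module.mem_support_iff'.2 ⟨1, fun r hr h0 => hr (by
      have h1 : r * 1 = 0 := congrFun h0 0
      rw [mul_one] at h1; rw [h1]; exact q.asIdeal.zero_mem)⟩
  have h1of2 : LocCoh.HasSk 2 A A → LocCoh.HasSk 1 A A := fun h p hp =>
    haveI := hp
    (min_le_min (Nat.cast_le.2 one_le_two) le_rfl).trans (h p)
  refine ⟨fun h => ?_, fun h => ?_, fun h => ?_, fun h => ?_⟩
  · rw [← Nat.cast_one] at h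
    exact Groth.Agent.KFlatLib.le_idealDepth_of_injective I a ha (by
      rw [← Nat.cast_one]; exact Groth.Agent.KFlatLib.le_idealDepth_pi I 1 h n)
  · refine Groth.Agent.KFlatLib.two_le_idealDepth_of_exact I a b ha hab ?_ ?_
    · rw [← Nat.cast_ofNat (R := ℕ∞) (n := 2)] at h ⊢
      exact Groth.Agent.KFlatLib.le_idealDepth_pi I 2 h n
    · rw [← Nat.cast_one]
      exact Groth.Agent.KFlatLib.le_idealDepth_pi I 1 ((Nat.cast_le.2 one_le_two).trans h) _
  · exact Groth.Agent.KFlatLib.hasSk_one_of_injective a ha (Groth.Agent.KFlatLib.hasSk_pi 1 h n)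
  · exact Groth.Agent.KFlatLib.hasSk_two_of_exact a b ha hab hsupp
      (Groth.Agent.KFlatLib.hasSk_pi 1 (h1of2 h) _) (Groth.Agent.KFlatLib.hasSk_pi 2 h n)

end Groth.Agent.S18702
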