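import Groth.Statements.S18704
import Groth.Agent.KFlatLib.Ring.ReflexiveDepth
import Groth.Agent.S18699
import Groth.Agent.S18702
import Groth.Agent.S18724
import Groth.Agent.Synt29.SmoothProps
-- import your own Groth.Agent.* helpers here

set_option autoImplicit false
universe u
open QGor

namespace Groth.Agent.S18704

/-- Affine form. Let A be a Noetherian ring with Serre's condition (S_2), I an ideal with ht I ≥ 2
(every prime containing I has height ≥ 2), and G a finite A-module with G_p reflexive for every
prime p not containing I. Then the following are equivalent: (i) G has (S_2) and dim Supp(G_p) ≥ 2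
for every prime p ⊇ I in Supp G; (ii) depth_I G ≥ 2; (iii) G is reflexive. -/
theorem result (A : Type u) [CommRing A] [IsNoetherianRing A]
    (hA : LocCoh.HasSk 2 A A) (I : Ideal A) (hI : 2 ≤ I.height)
    (G : Type u) [AddCommGroup G] [Module A G] [Module.Finite A G]
    (hU : ∀ p : PrimeSpectrum A, ¬ I ≤ p.asIdeal →
      Module.IsReflexive (Localization.AtPrime p.asIdeal) (LocalizedModule p.asIdeal.primeCompl G)) :
    ((LocCoh.HasSk 2 A G ∧ ∀ p : PrimeSpectrum A, I ≤ p.asIdeal → p ∈ Module.support A G →
        (2 : WithBot ℕ∞) ≤ Module.supportDim (Localization.AtPrime p.asIdeal) (LocalizedModule p.asIdeal.primeCompl G)) ↔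
      2 ≤ LocCoh.idealDepth I G) ∧
    (2 ≤ LocCoh.idealDepth I G ↔ Module.IsReflexive A G) := by
  have h2A : 2 ≤ LocCoh.idealDepth I A :=
    Groth.Agent.S18699.result 2 A A I hA fun p hp _ => by
      rw [Groth.Agent.FlatLoc6.supportDim_self_atPrime]
      exact WithBot.coe_le_coe.2 (hI.trans (Ideal.height_mono hp))
  have h1A : 1 ≤ LocCoh.idealDepth I A := le_trans one_le_two h2A
  refine ⟨⟨fun h => Groth.Agent.S18699.result 2 A G I h.1 h.2, fun h2 => ⟨fun p hp => ?_, fun p hp hs => ?_⟩⟩,
    fun h2 => Groth.Agent.KFlatLib.isReflexive_of_off I h1A G hU h2,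
    fun hr => by haveI := hr; exact (Groth.Agent.S18702.result A I G).2.1 h2A⟩
  · haveI := hp
    by_cases hIp : I ≤ p
    · refine (Groth.Agent.KFlatLib.min_le_coe_iff _ _ _).2 fun j hj _ => (Nat.cast_le.2 hj).trans ?_
      exact h2.trans (Groth.Agent.LC.idealDepth_le_depth_localized I G p hIp)
    · haveI := hU ⟨p, hp⟩ hIp
      haveI : Module.Finite (Localization.AtPrime p) (LocalizedModule p.primeCompl G) :=
        Module.Finite.of_isLocalizedModule p.primeCompl (LocalizedModule.mkLinearMap _ G)
      have hAp : LocCoh.HasSk 2 (Localization.AtPrime p) (Localization.AtPrime p) := by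
        rw [← Groth.Agent.Synt29.SmoothProps.hasSk_congr (Groth.Agent.LC.selfLoc p.primeCompl) 2,
          Groth.Agent.Alg6.hasSk_localization_iff]
        exact fun q _ _ => hA q
      exact (Groth.Agent.Alg6.hasSk_localization_iff p.primeCompl G 2).1
        ((Groth.Agent.S18702.result (Localization.AtPrime p) ⊤ (LocalizedModule p.primeCompl G)).2.2.2 hAp) p
        (Set.disjoint_left.2 fun x hx hxp => hx hxp)
  · exact le_trans (WithBot.coe_le_coe.2 h2) (Groth.Agent.S18724.result A G I p hp hs)

end Groth.Agent.S18704
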