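import Groth.Statements.S18705
import Groth.Agent.KFlatLib.Ring.FibreDepthFlat
-- import your own Groth.Agent.* helpers here

set_option autoImplicit false
universe u
open QGor

namespace Groth.Agent.S18705

/-- Affine-local form. Let A → B be a local homomorphism of Noetherian local rings, m the maximal ideal
of A, J an ideal of B and M a finite B-module whose localizations M_q are flat over A at all primes
q not containing J (M is flat over A off V(J)). If depth_J (M/mM) ≥ 1 (the restriction map of the
closed fibre of M to the complement of V(J) is injective), then M is flat over A. -/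
theorem result (A B : Type u) [CommRing A] [CommRing B]
    [IsNoetherianRing A] [IsNoetherianRing B] [IsLocalRing A] [IsLocalRing B] [Algebra A B]
    [IsLocalHom (algebraMap A B)] (J : Ideal B)
    (M : Type u) [AddCommGroup M] [Module B M] [Module A M] [IsScalarTower A B M] [Module.Finite B M]
    (hU : ∀ q : PrimeSpectrum B, ¬ J ≤ q.asIdeal → FlatCA.FlatAt A q.asIdeal M)
    (h1 : 1 ≤ LocCoh.idealDepth J (EGA4.FibMod A B M)) : Module.Flat A M := Groth.Agent.KFlatLib.flat_of_one_le_fibMod J M hU h1

end Groth.Agent.S18705
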