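import Groth.Statements.S18708
import Groth.Agent.KFlatLib.Ring.FourTerm
-- import your own Groth.Agent.* helpers here

set_option autoImplicit false
universe u
open QGor

namespace Groth.Agent.S18708

/-- Affine-local form at a point of the equivalence (b) ⇔ (c) ⇔ (b″) and of the note after it. Let A → B
be a local homomorphism of Noetherian local rings, m the maximal ideal of A, J an ideal of B and 0 →
F → E⁰ → E¹ → G → 0 an exact sequence of finite B-modules with E⁰, E¹ flat over A, G_q flat over A
for every prime q not containing J, depth_J (E⁰/mE⁰) ≥ 2 and depth_J (E¹/mE¹) ≥ 1. Then depth_J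
(F/mF) ≥ 2 (the restriction map of the closed fibre of F off V(J) is bijective) if and only if G is
flat over A, if and only if depth_J (F/m^(n+1)F) ≥ 2 for all n; and when G is flat over A so is F. -/
theorem result (A B : Type u) [CommRing A] [CommRing B]
    [IsNoetherianRing A] [IsNoetherianRing B] [IsLocalRing A] [IsLocalRing B] [Algebra A B]
    [IsLocalHom (algebraMap A B)] (J : Ideal B)
    (F E0 E1 G : Type u) [AddCommGroup F] [Module B F] [Module A F] [IsScalarTower A B F] [Module.Finite B F]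
    [AddCommGroup E0] [Module B E0] [Module A E0] [IsScalarTower A B E0] [Module.Finite B E0] [Module.Flat A E0]
    [AddCommGroup E1] [Module B E1] [Module A E1] [IsScalarTower A B E1] [Module.Finite B E1] [Module.Flat A E1]
    [AddCommGroup G] [Module B G] [Module A G] [IsScalarTower A B G] [Module.Finite B G]
    (f : F →ₗ[B] E0) (u : E0 →ₗ[B] E1) (v : E1 →ₗ[B] G)
    (hf : Function.Injective f) (hfu : Function.Exact f u) (huv : Function.Exact u v) (hv : Function.Surjective v)
    (hGU : ∀ q : PrimeSpectrum B, ¬ J ≤ q.asIdeal → FlatCA.FlatAt A q.asIdeal G)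
    (h0 : 2 ≤ LocCoh.idealDepth J (EGA4.FibMod A B E0)) (h1 : 1 ≤ LocCoh.idealDepth J (EGA4.FibMod A B E1)) :
    (2 ≤ LocCoh.idealDepth J (EGA4.FibMod A B F) ↔ Module.Flat A G) ∧
    (Module.Flat A G ↔ ∀ n : ℕ, 2 ≤ LocCoh.idealDepth J (F ⧸ ((EGA4.mB A B) ^ (n + 1) • (⊤ : Submodule B F)))) ∧
    (Module.Flat A G → Module.Flat A F) := by
  refine ⟨⟨fun hF => (Groth.Agent.KFlatLib.flat_coker_of_fibMod J hf hfu huv hv hGU h0 hF).1,
    fun hG => by haveI := hG; exact (Groth.Agent.KFlatLib.flat_ker_of_flat J hf hfu huv hv h0 h1).2⟩,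
    ⟨fun hG n => ?_, fun h => ?_⟩, fun hG => by
      haveI := hG; exact (Groth.Agent.KFlatLib.flat_ker_of_flat J hf hfu huv hv h0 h1).1⟩
  · haveI := hG
    obtain ⟨hFf, hF2⟩ := Groth.Agent.KFlatLib.flat_ker_of_flat J hf hfu huv hv h0 h1
    exact Groth.Agent.KFlatLib.le_idealDepth_quot_pow J F
      (Groth.Agent.KFlatLib.flatAt_range_ker J hf hfu huv hv hGU).2 (k := 2) one_le_two hF2 (n + 1)
  · refine (Groth.Agent.KFlatLib.flat_coker_of_fibMod J hf hfu huv hv hGU h0 ?_).1
    have h2 := h 0
    rwa [zero_add, pow_one] at h2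

end Groth.Agent.S18708
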