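import Groth.Statements.S18709
import Mathlib.RingTheory.LocalRing.Module
import Mathlib.Algebra.Module.FinitePresentation
import Mathlib.LinearAlgebra.Dual.Lemmas
-- import your own Groth.Agent.* helpers here

set_option autoImplicit false
universe u
open QGor

namespace Groth.Agent.S18709

/-- Affine form; the flatness and depth hypotheses of the printed lemma only serve to place the sequence
in the situation of the key proposition and are not needed for the existence. Let B be a Noetherian
ring, J an ideal and F a finite reflexive B-module with F_q free for every prime q not containing J.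
Then there is an exact sequence 0 → F → Bⁿ → Bᵐ → G → 0 with G_q free for every prime q not
containing J. -/
theorem result (B : Type u) [CommRing B] [IsNoetherianRing B]
    (J : Ideal B) (F : Type u) [AddCommGroup F] [Module B F] [Module.Finite B F] [Module.IsReflexive B F]
    (hU : ∀ q : PrimeSpectrum B, ¬ J ≤ q.asIdeal →
      Module.Free (Localization.AtPrime q.asIdeal) (LocalizedModule q.asIdeal.primeCompl F)) :
    ∃ (n m : ℕ) (g : F →ₗ[B] (Fin n → B)) (h : (Fin n → B) →ₗ[B] (Fin m → B)),
      Function.Injective g ∧ Function.Exact g h ∧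
      ∀ q : PrimeSpectrum B, ¬ J ≤ q.asIdeal →
        Module.Free (Localization.AtPrime q.asIdeal)
          (LocalizedModule q.asIdeal.primeCompl ((Fin m → B) ⧸ LinearMap.range h)) := by
  haveI : Module.FinitePresentation B F := Module.finitePresentation_of_finite B F
  obtain ⟨n, g, hg⟩ := Module.Finite.exists_fin' B (Module.Dual B F)
  obtain ⟨m, k, hk⟩ := Module.Finite.exists_fin' B (LinearMap.ker g)
  let h' : (Fin m → B) →ₗ[B] (Fin n → B) := (LinearMap.ker g).subtype ∘ₗ k
  let e0 : Module.Dual B (Fin n → B) ≃ₗ[B] (Fin n → B) := (Pi.basisFun B (Fin n)).toDualEquiv.symm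
  let e1 : Module.Dual B (Fin m → B) ≃ₗ[B] (Fin m → B) := (Pi.basisFun B (Fin m)).toDualEquiv.symm
  let a : F →ₗ[B] (Fin n → B) := e0.toLinearMap ∘ₗ g.dualMap ∘ₗ (Module.evalEquiv B F).toLinearMap
  let b : (Fin n → B) →ₗ[B] (Fin m → B) := e1.toLinearMap ∘ₗ h'.dualMap ∘ₗ e0.symm.toLinearMap
  have ha : Function.Injective a := e0.injective.comp
    ((LinearMap.dualMap_injective_of_surjective hg).comp (Module.evalEquiv B F).injective)
  have hgh : ∀ w, g (h' w) = 0 := fun w => LinearMap.mem_ker.1 (k w).2
  have hab : Function.Exact a b := fun x => by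
    constructor
    · intro hx
      have h2 : h'.dualMap (e0.symm x) = 0 := e1.injective (by rw [map_zero]; exact hx)
      have h3 : LinearMap.ker g ≤ LinearMap.ker (e0.symm x) := fun z hz => by
        obtain ⟨w, hw⟩ := hk ⟨z, hz⟩
        have hwz : h' w = z := congrArg Subtype.val hw
        rw [LinearMap.mem_ker, ← hwz]
        exact LinearMap.congr_fun h2 w
      let φ : Module.Dual B (Module.Dual B F) :=
        (Submodule.liftQ _ (e0.symm x) h3) ∘ₗ (LinearMap.quotKerEquivOfSurjective g hg).symm.toLinearMap
      refine ⟨(Module.evalEquiv B F).symm φ, ?_⟩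
      show e0 (g.dualMap ((Module.evalEquiv B F) ((Module.evalEquiv B F).symm φ))) = x
      rw [LinearEquiv.apply_symm_apply]
      have : g.dualMap φ = e0.symm x := LinearMap.ext fun z => by
        show (Submodule.liftQ _ (e0.symm x) h3) ((LinearMap.quotKerEquivOfSurjective g hg).symm (g z)) = _
        rw [show (LinearMap.quotKerEquivOfSurjective g hg).symm (g z) = Submodule.Quotient.mk z from
          (LinearEquiv.symm_apply_eq _).2 (by simp)]
        rfl
      rw [this, LinearEquiv.apply_symm_apply]
    · rintro ⟨z, rfl⟩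
      show e1 (h'.dualMap (e0.symm (e0 (g.dualMap ((Module.evalEquiv B F) z))))) = 0
      rw [LinearEquiv.symm_apply_apply, LinearEquiv.map_eq_zero_iff]
      refine LinearMap.ext fun w => ?_
      show (Module.evalEquiv B F z) (g (h' w)) = 0
      rw [hgh w, map_zero]
  refine ⟨n, m, a, b, ha, hab, fun q hq => ?_⟩
  let S := q.asIdeal.primeCompl
  let A := Localization.AtPrime q.asIdeal
  haveI : Module.Finite A (LocalizedModule S F) :=
    Module.Finite.of_isLocalizedModule S (LocalizedModule.mkLinearMap _ F)
  haveI := hU q hq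
  -- a global idempotent up to a unit at `q`
  obtain ⟨r, p, hp⟩ := Module.Finite.exists_fin' B F
  obtain ⟨σ', hσ'⟩ := Module.projective_lifting_property (LocalizedModule.map S p) LinearMap.id
    (LocalizedModule.map_surjective S p hp)
  obtain ⟨σ, s, hs⟩ := Module.FinitePresentation.exists_lift_of_isLocalizedModule S
    (LocalizedModule.mkLinearMap S (Fin r → B)) ((σ'.restrictScalars B) ∘ₗ LocalizedModule.mkLinearMap S F)
  have hcomp : (LocalizedModule.mkLinearMap S F) ∘ₗ (p ∘ₗ σ) =
      (LocalizedModule.mkLinearMap S F) ∘ₗ ((s : B) • LinearMap.id) := by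
    refine LinearMap.ext fun x => ?_
    show LocalizedModule.mkLinearMap S F (p (σ x)) = LocalizedModule.mkLinearMap S F ((s : B) • x)
    have h1 : LocalizedModule.mkLinearMap S (Fin r → B) (σ x) =
        (s : B) • σ' (LocalizedModule.mkLinearMap S F x) := LinearMap.congr_fun hs x
    have h2 : LocalizedModule.map S p (LocalizedModule.mkLinearMap S (Fin r → B) (σ x)) =
        LocalizedModule.mkLinearMap S F (p (σ x)) := LocalizedModule.map_mk S p (σ x) 1
    rw [← h2, h1, ← algebraMap_smul A (s : B), map_smul, algebraMap_smul, map_smul]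
    exact congrArg ((s : B) • ·) (LinearMap.congr_fun hσ' _)
  obtain ⟨t, ht⟩ := Module.Finite.exists_smul_of_comp_eq_of_isLocalizedModule S
    (LocalizedModule.mkLinearMap S F) _ _ hcomp
  let c : B := (t : B) * s
  have hpσ : ∀ x, p ((t : B) • σ x) = c • x := fun x => by
    rw [map_smul, mul_smul]; exact LinearMap.congr_fun ht x
  have hc : c ∈ S := mul_mem t.2 s.2
  obtain ⟨T, hT⟩ := Module.projective_lifting_property g (((t : B) • σ).dualMap) hg
  let σg : (Fin n → B) →ₗ[B] (Fin n → B) := T ∘ₗ p.dualMap ∘ₗ g
  have hσg : ∀ z, g (σg z) = c • g z := fun z => by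
    refine LinearMap.ext fun x => ?_
    refine (LinearMap.congr_fun (LinearMap.congr_fun hT (p.dualMap (g z))) x).trans ?_
    show g z (p ((t : B) • σ x)) = c • g z x
    rw [hpσ, map_smul]
  let π : (Fin n → B) →ₗ[B] LinearMap.ker g := LinearMap.codRestrict _ (c • LinearMap.id - σg) fun z => by
    rw [LinearMap.mem_ker, LinearMap.sub_apply, map_sub, LinearMap.smul_apply, LinearMap.id_apply, map_smul,
      hσg, sub_self]
  obtain ⟨w, hw⟩ := Module.projective_lifting_property k π hk
  have hwh : ∀ v, h' (w (h' v)) = c • h' v := fun v => by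
    show ((k (w (h' v)) : LinearMap.ker g) : Fin n → B) = _
    rw [show k (w (h' v)) = π (h' v) from LinearMap.congr_fun hw (h' v)]
    show c • h' v - T (p.dualMap (g (h' v))) = c • h' v
    rw [hgh, map_zero, map_zero, sub_zero]
  let w' : (Fin m → B) →ₗ[B] (Fin n → B) := e0.toLinearMap ∘ₗ w.dualMap ∘ₗ e1.symm.toLinearMap
  have hb : ∀ x, b (w' (b x)) = c • b x := fun x => by
    show e1 (h'.dualMap (e0.symm (e0 (w.dualMap (e1.symm (e1 (h'.dualMap (e0.symm x)))))))) =
      c • e1 (h'.dualMap (e0.symm x))
    rw [LinearEquiv.symm_apply_apply, LinearEquiv.symm_apply_apply, ← map_smul]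
    refine congrArg e1 (LinearMap.ext fun v => ?_)
    show e0.symm x (h' (w (h' v))) = c • e0.symm x (h' v)
    rw [hwh, map_smul]
  let Q := (Fin m → B) ⧸ LinearMap.range b
  let sec : Q →ₗ[B] (Fin m → B) := (LinearMap.range b).liftQ (c • LinearMap.id - b ∘ₗ w') (by
    rintro _ ⟨x, rfl⟩
    rw [LinearMap.mem_ker]
    show c • b x - b (w' (b x)) = 0
    rw [hb, sub_self])
  have hsec : ∀ z, (LinearMap.range b).mkQ (sec z) = c • z := fun z => by
    obtain ⟨z, rfl⟩ := Submodule.Quotient.mk_surjective _ z
    show Submodule.Quotient.mk (c • z - b (w' z)) = c • Submodule.Quotient.mk z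
    rw [Submodule.Quotient.mk_sub, (Submodule.Quotient.mk_eq_zero _).2 (LinearMap.mem_range_self b _),
      sub_zero, Submodule.Quotient.mk_smul]
  have hu : IsUnit (algebraMap B A c) := IsLocalization.map_units A ⟨c, hc⟩
  haveI : Module.Free A (LocalizedModule S (Fin m → B)) :=
    Module.free_of_isLocalizedModule S (LocalizedModule.mkLinearMap S (Fin m → B))
  haveI : Module.Finite A (LocalizedModule S Q) :=
    Module.Finite.of_isLocalizedModule S (LocalizedModule.mkLinearMap _ Q)
  haveI : Module.Projective A (LocalizedModule S Q) := by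
    refine Module.Projective.of_split ((↑(hu.unit⁻¹) : A) • LocalizedModule.map S sec)
      (LocalizedModule.map S (LinearMap.range b).mkQ) (LinearMap.ext fun z => ?_)
    induction z using LocalizedModule.induction_on with
    | h z s =>
      show LocalizedModule.map S (LinearMap.range b).mkQ
        ((↑(hu.unit⁻¹) : A) • LocalizedModule.map S sec (LocalizedModule.mk z s)) = LocalizedModule.mk z s
      rw [LocalizedModule.map_mk, map_smul, LocalizedModule.map_mk, hsec, ← LocalizedModule.smul'_mk,
        ← algebraMap_smul A c, smul_smul, IsUnit.val_inv_mul, one_smul]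
  exact Module.free_of_flat_of_isLocalRing

end Groth.Agent.S18709
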