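import Groth.Statements.S18710
import Groth.Agent.KFlatLib.Ring.KerDepth
import Groth.Agent.LC.CohAcyclic
import Mathlib.RingTheory.Ideal.GoingDown
-- import your own Groth.Agent.* helpers here

set_option autoImplicit false
universe u
open QGor

namespace Groth.Agent.S18710

open TensorProduct in
/-- Affine form. Let A → B be a flat homomorphism of Noetherian rings and I an ideal of A with V(I)
contained in the image of Spec B → Spec A (every prime containing I is a contraction of a prime of
B). Then ht(IB) = ht(I) (codimension of the preimage equals codimension), and for every finite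
A-module G one has depth_{IB} (B ⊗_A G) = depth_I G. -/
theorem result (A B : Type u) [CommRing A] [CommRing B]
    [IsNoetherianRing A] [IsNoetherianRing B] [Algebra A B] [Module.Flat A B] (I : Ideal A)
    (hI : ∀ p : PrimeSpectrum A, I ≤ p.asIdeal → ∃ q : PrimeSpectrum B, q.asIdeal.comap (algebraMap A B) = p.asIdeal)
    (G : Type u) [AddCommGroup G] [Module A G] [Module.Finite A G] :
    (I.map (algebraMap A B)).height = I.height ∧
    LocCoh.idealDepth (I.map (algebraMap A B)) (B ⊗[A] G) = LocCoh.idealDepth I G := by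
  let c := algebraMap A B
  refine ⟨le_antisymm ?_ ?_, ?_⟩
  · conv_rhs => rw [Ideal.height_eq_inf_minimalPrimes]
    refine le_iInf₂ fun p hp => ?_
    haveI := hp.1.1
    obtain ⟨q0, hq0⟩ := hI ⟨p, hp.1.1⟩ hp.1.2
    have hle : p.map c ≤ q0.asIdeal := Ideal.map_le_iff_le_comap.2 hq0.ge
    obtain ⟨q, hq, hqle⟩ := Ideal.exists_minimalPrimes_le hle
    haveI := hq.1.1
    haveI : q.LiesOver p := ⟨le_antisymm (Ideal.map_le_iff_le_comap.1 hq.1.2)
      ((Ideal.comap_mono hqle).trans hq0.le)⟩
    have h0 : (q.map (Ideal.Quotient.mk (p.map c))).height = 0 := by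
      haveI : (q.map (Ideal.Quotient.mk (p.map c))).IsPrime :=
        Ideal.map_isPrime_of_surjective Ideal.Quotient.mk_surjective (by rw [Ideal.mk_ker]; exact hq.1.2)
      rw [Ideal.height_eq_zero_iff]
      refine ⟨⟨inferInstance, bot_le⟩, fun J hJ hJq => ?_⟩
      haveI := hJ.1
      refine (Ideal.map_mono (hq.2 ⟨inferInstance, ?_⟩ ?_)).trans
        (Ideal.map_comap_of_surjective _ Ideal.Quotient.mk_surjective J).le
      · intro x hx
        show Ideal.Quotient.mk _ x ∈ J
        rw [Ideal.Quotient.eq_zero_iff_mem.2 hx]; exact J.zero_mem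
      · refine (Ideal.comap_mono hJq).trans ?_
        rw [Ideal.comap_map_of_surjective _ Ideal.Quotient.mk_surjective, sup_le_iff]
        refine ⟨le_rfl, ?_⟩
        rw [← RingHom.ker_eq_comap_bot, Ideal.mk_ker]
        exact hq.1.2
    refine (Ideal.height_mono ((Ideal.map_mono hp.1.2).trans hq.1.2)).trans (le_of_eq ?_)
    rw [Ideal.height_eq_height_add_of_liesOver_of_hasGoingDown p q, h0, add_zero]
  · conv_rhs => rw [Ideal.height_eq_inf_minimalPrimes]
    refine le_iInf₂ fun q hq => ?_
    haveI := hq.1.1
    haveI : q.LiesOver (q.comap c) := ⟨rfl⟩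
    refine (Ideal.height_mono (Ideal.map_le_iff_le_comap.1 hq.1.2)).trans ?_
    rw [Ideal.height_eq_height_add_of_liesOver_of_hasGoingDown (q.comap c) q]
    exact le_self_add
  · refine Groth.Agent.LC.enat_eq_of_nat_le_iff fun n => ?_
    rw [Groth.Agent.LC.le_idealDepth_iff_H, Groth.Agent.LC.le_idealDepth_iff_H]
    refine forall₂_congr fun i _ => ?_
    obtain ⟨e⟩ := Groth.Agent.LC.exists_baseChange (R' := B) I i G
    rw [← e.toEquiv.subsingleton_congr]
    refine ⟨fun h => ?_, fun h => ?_⟩
    · by_contra hne
      rw [not_subsingleton_iff_nontrivial] at hne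
      obtain ⟨P, hP⟩ := associatedPrimes.nonempty A ((localCohomology I i).obj (ModuleCat.of A G))
      obtain ⟨hPp, z, hz⟩ := Groth.Agent.Alg6.mem_ass_iff.1 hP
      have hIP : I ≤ P := Groth.Agent.LC.le_prime_of_mem_support_H I G (p := ⟨P, hPp⟩) (i := i)
        (Module.mem_support_iff_exists_annihilator.2 ⟨z, fun a ha =>
          (hz a).2 ((Submodule.mem_annihilator_span_singleton z a).1 ha)⟩)
      obtain ⟨q, hq⟩ := hI ⟨P, hPp⟩ hIP
      let f := P.liftQ (LinearMap.toSpanSingleton A _ z) fun a ha => (hz a).1 ha
      have hf : Function.Injective f := by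
        rw [injective_iff_map_eq_zero]
        intro a ha
        obtain ⟨a, rfl⟩ := Submodule.Quotient.mk_surjective _ a
        exact (Submodule.Quotient.mk_eq_zero _).2 ((hz a).2 ha)
      haveI : Subsingleton (B ⊗[A] (A ⧸ P)) :=
        (Module.Flat.lTensor_preserves_injective_linearMap (M := B) f hf).subsingleton
      haveI : Subsingleton (B ⧸ P.map c) :=
        (Algebra.TensorProduct.quotIdealMapEquivTensorQuot B P).toEquiv.subsingleton
      exact q.isPrime.ne_top (top_le_iff.1 ((Ideal.Quotient.subsingleton_iff.1 this).ge.trans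
        (Ideal.map_le_iff_le_comap.2 hq.ge)))
    · exact subsingleton_of_forall_eq 0 fun x => by
        induction x using TensorProduct.induction_on with
        | zero => rfl
        | tmul b z => rw [Subsingleton.elim z 0, TensorProduct.tmul_zero]
        | add a b ha hb => rw [ha, hb, add_zero]

end Groth.Agent.S18710
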