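import Groth.Statements.S18711
import Groth.Agent.KFlatLib.Ring.BaseChangeFourTerm
-- import your own Groth.Agent.* helpers here

set_option autoImplicit false
universe u
open QGor

namespace Groth.Agent.S18711

open TensorProduct in
/-- Affine form. Let A → B be a flat homomorphism of Noetherian rings, J an ideal of B such that for
every prime q ⊇ J with contraction p the fibre local ring B_q/pB_q has depth ≥ 2, A → A′ a
homomorphism of Noetherian rings and B′ = A′ ⊗_A B the (Noetherian) pushout. Let 0 → F → E⁰ → E¹ → G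
→ 0 be an exact sequence of finite B-modules with E⁰, E¹ projective and F_q, G_q free for every
prime q not containing J. Then F is reflexive; the kernel K′ of B′ ⊗_B E⁰ → B′ ⊗_B E¹ is a reflexive
B′-module with depth_{JB′} K′ ≥ 2 (so it is the module of sections of the pull-back of F off
V(JB′)); and K′ is flat over A′ with depth ≥ 2 along JB′ on every fibre stalk K′_{q′}/p′K′_{q′} if
and only if B′ ⊗_B G is flat over A′. (The published statement phrases the last left-hand condition
as the relative S₂ condition of K′ over A′; the two agree when the fibres of Spec B′ → Spec A′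
satisfy S₂ off V(JB′), and without that the relative S₂ form fails already for A = A′ a field, J =
B, F = E⁰ = B not S₂ and E¹ = G = 0, so the fibrewise-depth form, which is what the proof
establishes, is stated.) -/
theorem result (A B : Type u) [CommRing A] [CommRing B] [IsNoetherianRing A] [IsNoetherianRing B] [Algebra A B]
    (A' B' : Type u) [CommRing A'] [CommRing B'] [IsNoetherianRing A'] [IsNoetherianRing B']
    [Algebra A A'] [Algebra B B'] [Algebra A' B'] [Algebra A B'] [IsScalarTower A B B'] [IsScalarTower A A' B']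
    [Algebra.IsPushout A B A' B'] [Module.Flat A B] (J : Ideal B)
    (hZ : ∀ q : PrimeSpectrum B, J ≤ q.asIdeal →
      2 ≤ LocCoh.idealDepth (q.asIdeal.map (algebraMap B (EGA4.FibLocRing A B q.asIdeal))) (EGA4.FibLocRing A B q.asIdeal))
    (F E0 E1 G : Type u) [AddCommGroup F] [Module B F] [Module.Finite B F]
    [AddCommGroup E0] [Module B E0] [Module.Finite B E0] [Module.Projective B E0]
    [AddCommGroup E1] [Module B E1] [Module.Finite B E1] [Module.Projective B E1]
    [AddCommGroup G] [Module B G] [Module.Finite B G]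
    (f : F →ₗ[B] E0) (u : E0 →ₗ[B] E1) (v : E1 →ₗ[B] G)
    (hf : Function.Injective f) (hfu : Function.Exact f u) (huv : Function.Exact u v) (hv : Function.Surjective v)
    (hFU : ∀ q : PrimeSpectrum B, ¬ J ≤ q.asIdeal → Module.Free (Localization.AtPrime q.asIdeal) (LocalizedModule q.asIdeal.primeCompl F))
    (hGU : ∀ q : PrimeSpectrum B, ¬ J ≤ q.asIdeal → Module.Free (Localization.AtPrime q.asIdeal) (LocalizedModule q.asIdeal.primeCompl G)) :
    Module.IsReflexive B F ∧
    Module.IsReflexive B' (LinearMap.ker (u.baseChange B')) ∧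
    2 ≤ LocCoh.idealDepth (J.map (algebraMap B B')) (LinearMap.ker (u.baseChange B')) ∧
    ((∀ q' : PrimeSpectrum B', FlatCA.FlatAt A' q'.asIdeal (LinearMap.ker (u.baseChange B')) ∧
        2 ≤ LocCoh.idealDepth ((J.map (algebraMap B B')).map (algebraMap B' (EGA4.FibLocRing A' B' q'.asIdeal)))
          (EGA4.FibLocMod A' B' q'.asIdeal (LinearMap.ker (u.baseChange B')))) ↔
      Module.Flat A' (B' ⊗[B] G)) := by
  classical
  let J' := J.map (algebraMap B B')
  let u' := u.baseChange B'
  let f' := f.baseChange B'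
  let v' := v.baseChange B'
  let K := LinearMap.ker u'
  have hB : 2 ≤ LocCoh.idealDepth J B := KFlatLib.le_idealDepth_of_fibLocRing J 2 hZ
  have hB' : 2 ≤ LocCoh.idealDepth J' B' := KFlatLib.le_idealDepth_baseChange_self (B' := B') J 2 A' hZ
  have hproj : ∀ {R : Type u} [CommRing R] [IsNoetherianRing R] (I : Ideal R) (M : Type u) [AddCommGroup M]
      [Module R M] [Module.Finite R M] [Module.Projective R M],
      2 ≤ LocCoh.idealDepth I R → 2 ≤ LocCoh.idealDepth I M := by
    intro R _ _ I M _ _ _ _ h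
    obtain ⟨n, π, hπ⟩ := Module.Finite.exists_fin' R M
    obtain ⟨s, hs⟩ := Module.projective_lifting_property π LinearMap.id hπ
    exact KFlatLib.le_idealDepth_of_retract I s π (LinearMap.congr_fun hs) (KFlatLib.le_idealDepth_pi I 2 h n)
  have hF2 : 2 ≤ LocCoh.idealDepth J F := KFlatLib.two_le_idealDepth_of_exact J f u hf hfu (hproj J E0 hB)
    (le_trans one_le_two (hproj J E1 hB))
  have hK2 : 2 ≤ LocCoh.idealDepth J' K := KFlatLib.two_le_idealDepth_of_exact J' K.subtype u'
    Subtype.val_injective (LinearMap.exact_subtype_ker_map u') (hproj J' _ hB') (le_trans one_le_two (hproj J' _ hB'))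
  have key : ∀ q : PrimeSpectrum B, ¬ J ≤ q.asIdeal → ∃ (c : B) (h0 : E1 →ₗ[B] E0) (p0 : E0 →ₗ[B] F),
      c ∉ q.asIdeal ∧ (∀ x, p0 (f x) = c • x) ∧ ∀ x, f (p0 x) + h0 (u x) = c • x := fun q hq => by
    haveI := hGU q hq
    exact KFlatLib.exists_kernel_retraction f u v hf hfu huv hv q.asIdeal.primeCompl
  have hdual : ∀ {R : Type u} [CommRing R] [IsNoetherianRing R] (I : Ideal R) (M : Type u) [AddCommGroup M]
      [Module R M] [Module.Finite R M], 2 ≤ LocCoh.idealDepth I R → 2 ≤ LocCoh.idealDepth I M →
      (∀ q : PrimeSpectrum R, ¬ I ≤ q.asIdeal → ∃ s : R, s ∉ q.asIdeal ∧ (∀ x, Module.Dual.eval R M x = 0 → s • x = 0) ∧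
        ∀ y : Module.Dual R (Module.Dual R M), s • y ∈ LinearMap.range (Module.Dual.eval R M)) → Module.IsReflexive R M := by
    intro R _ _ I M _ _ _ hR hM h
    exact ⟨KFlatLib.bijective_of_bijective_off I _
      (fun q hq x hx => by obtain ⟨s, hs, h1, -⟩ := h q hq; exact ⟨s, hs, h1 x hx⟩)
      (fun q hq y => by obtain ⟨s, hs, -, h2⟩ := h q hq; exact ⟨s, hs, h2 y⟩)
      hM (le_trans one_le_two (KFlatLib.two_le_idealDepth_dual I hR _))⟩
  have hKi : Function.Injective K.subtype := fun a b h => Subtype.ext h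
  have hKu : Function.Exact K.subtype u' := LinearMap.exact_subtype_ker_map u'
  have hvu' : Function.Exact u' v' := by
    intro z
    exact lTensor_exact B' huv hv z
  have hv' : Function.Surjective v' := LinearMap.lTensor_surjective B' hv
  refine ⟨hdual J F hB hF2 fun q hq => ?_, hdual J' K hB' hK2 fun q' hq' => ?_, hK2, ?_⟩
  · obtain ⟨c, h0, p0, hc, h1, -⟩ := key q hq
    exact ⟨c, hc, KFlatLib.eval_up_to f p0 c h1⟩
  · obtain ⟨c, h0, p0, hc, -, h2⟩ := key ⟨q'.asIdeal.comap (algebraMap B B'), Ideal.IsPrime.comap _⟩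
      fun h => hq' (Ideal.map_le_iff_le_comap.2 h)
    let rK : (B' ⊗[B] E0) →ₗ[B'] K := (f' ∘ₗ p0.baseChange B').codRestrict K fun x => by
      show u' (f' _) = 0
      rw [← LinearMap.comp_apply, ← LinearMap.baseChange_comp, hfu.linearMap_comp_eq_zero]
      simp
    refine ⟨algebraMap B B' c, hc, KFlatLib.eval_up_to (R := B') (M := K) (N := B' ⊗[B] E0) K.subtype rK (algebraMap B B' c) fun x => ?_⟩
    apply Subtype.ext
    have h3 : f' ∘ₗ p0.baseChange B' + (h0.baseChange B') ∘ₗ u' = algebraMap B B' c • LinearMap.id := by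
      rw [← LinearMap.baseChange_comp, ← LinearMap.baseChange_comp, ← LinearMap.baseChange_add,
        show f ∘ₗ p0 + h0 ∘ₗ u = c • LinearMap.id from LinearMap.ext h2, LinearMap.baseChange_smul,
        LinearMap.baseChange_id, algebraMap_smul]
    have h4 := LinearMap.congr_fun h3 (x : B' ⊗[B] E0)
    simp only [LinearMap.add_apply, LinearMap.comp_apply, LinearMap.smul_apply, LinearMap.id_apply] at h4
    rw [show u' (x : B' ⊗[B] E0) = 0 from x.2, map_zero, add_zero] at h4
    exact h4
  · haveI : Algebra.IsPushout A A' B B' := Algebra.IsPushout.symm inferInstance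
    haveI : Module.Flat A' B' := Module.Flat.isBaseChange A A' B B' (Algebra.IsPushout.out (R := A) (S := A'))
    haveI : Module.Flat A' (B' ⊗[B] E0) := Module.Flat.trans A' B' _
    haveI : Module.Flat A' (B' ⊗[B] E1) := Module.Flat.trans A' B' _
    have hd : ∀ (E : Type u) [AddCommGroup E] [Module B' E] [Module.Finite B' E] [Module.Projective B' E]
        (r : PrimeSpectrum B'), J' ≤ r.asIdeal →
        2 ≤ LocCoh.idealDepth (r.asIdeal.map (algebraMap B' (EGA4.FibLocRing A' B' r.asIdeal)))
          (EGA4.FibLocMod A' B' r.asIdeal E) := fun E _ _ _ _ r hr =>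
      le_trans (KFlatLib.le_idealDepth_fibLocMod_projective J 2 A' hZ E r.asIdeal)
        (LC.idealDepth_le_of_le _ _ (Ideal.map_mono hr))
    constructor
    · intro h
      refine Module.flat_of_isLocalized_maximal B' (B' ⊗[B] G)
        (fun P _ => LocalizedModule P.primeCompl (B' ⊗[B] G)) (fun P _ => LocalizedModule.mkLinearMap _ _) fun P hP => ?_
      haveI := hP.isPrime
      refine (KFlatLib.fourTerm_atPrime (A := A') (F := K) (E0 := B' ⊗[B] E0) (E1 := B' ⊗[B] E1) (G := B' ⊗[B] G) J' hKi hKu hvu' hv' P (fun r hr _ => hd _ r hr)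
        (fun r hr _ => le_trans one_le_two (hd _ r hr))).2 (fun r hr => ?_) fun r hr _ => ?_
      · haveI := hGU ⟨r.asIdeal.comap (algebraMap B B'), Ideal.IsPrime.comap _⟩
          fun h => hr (Ideal.map_le_iff_le_comap.2 h)
        obtain ⟨m, c, α, β, hc, h1, -⟩ :=
          KFlatLib.exists_free_up_to G (r.asIdeal.comap (algebraMap B B')).primeCompl
        haveI : Module.Flat A' (B' ⊗[B] (Fin m → B)) := Module.Flat.trans A' B' _
        refine KFlatLib.flatAt_of_up_to r.asIdeal (α.baseChange B') (β.baseChange B') (algebraMap B B' c) hc fun x => ?_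
        rw [← LinearMap.comp_apply, ← LinearMap.baseChange_comp,
          show β ∘ₗ α = c • LinearMap.id from LinearMap.ext h1, LinearMap.baseChange_smul,
          LinearMap.baseChange_id, algebraMap_smul]
        rfl
      · exact le_trans (h r).2 (LC.idealDepth_le_of_le _ _ (Ideal.map_mono hr))
    · intro hG q'
      have hall : ∀ (r : PrimeSpectrum B'), FlatCA.FlatAt A' r.asIdeal (B' ⊗[B] G) := fun r =>
        KFlatLib.flat_localized r.asIdeal.primeCompl _
      refine ⟨((KFlatLib.fourTerm_atPrime (A := A') (F := K) (E0 := B' ⊗[B] E0) (E1 := B' ⊗[B] E1) (G := B' ⊗[B] G) J' hKi hKu hvu' hv' q'.asIdeal (fun r hr _ => hd _ r hr)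
        (fun r hr _ => le_trans one_le_two (hd _ r hr))).1 (hall q')).1, ?_⟩
      refine KFlatLib.le_idealDepth_fibLocMod_of_le J' q'.asIdeal K 2 fun q hq _ => ?_
      exact ((KFlatLib.fourTerm_atPrime (A := A') (F := K) (E0 := B' ⊗[B] E0) (E1 := B' ⊗[B] E1) (G := B' ⊗[B] G) q.asIdeal hKi hKu hvu' hv' q.asIdeal (fun r hr _ => hd _ r (hq.trans hr))
        (fun r hr _ => le_trans one_le_two (hd _ r (hq.trans hr)))).1 (hall q)).2 rfl

end Groth.Agent.S18711
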