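import Groth.Statements.S18718
import Groth.Agent.KFlatLib.Ring.BaseChangeFibre
import Groth.Agent.KFlatLib.Ring.FreeUpTo
-- import your own Groth.Agent.* helpers here

set_option autoImplicit false
universe u
open QGor

namespace Groth.Agent.S18718

open TensorProduct in
/-- Affine form. Let A → B be a flat homomorphism of Noetherian rings, J an ideal of B such that the
fibre local ring B_q/pB_q has depth ≥ 2 at every prime q ⊇ J (p its contraction), A → A′ a
homomorphism of Noetherian rings with Noetherian pushout B′ = A′ ⊗_A B, and F a finite B-module with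
F_q free for every prime q not containing J. Then depth_J (F^∨∨) ≥ 2 (the double dual is the module
of sections of F off V(J)); the natural map (B′ ⊗_B F)^∨∨ → (B′ ⊗_B F^∨∨)^∨∨ obtained by dualising
twice the base change of F → F^∨∨ is bijective; and if moreover F is flat over A and the fibre
stalks F_q/pF_q have depth ≥ 2 at all primes q ⊇ J, then F and B′ ⊗_B F are reflexive. -/
theorem result (A B : Type u) [CommRing A] [CommRing B] [IsNoetherianRing A] [IsNoetherianRing B] [Algebra A B]
    (A' B' : Type u) [CommRing A'] [CommRing B'] [IsNoetherianRing A'] [IsNoetherianRing B']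
    [Algebra A A'] [Algebra B B'] [Algebra A' B'] [Algebra A B'] [IsScalarTower A B B'] [IsScalarTower A A' B']
    [Algebra.IsPushout A B A' B'] [Module.Flat A B] (J : Ideal B)
    (hZ : ∀ q : PrimeSpectrum B, J ≤ q.asIdeal →
      2 ≤ LocCoh.idealDepth (q.asIdeal.map (algebraMap B (EGA4.FibLocRing A B q.asIdeal))) (EGA4.FibLocRing A B q.asIdeal))
    (F : Type u) [AddCommGroup F] [Module B F] [Module A F] [IsScalarTower A B F] [Module.Finite B F]
    (hFU : ∀ q : PrimeSpectrum B, ¬ J ≤ q.asIdeal → Module.Free (Localization.AtPrime q.asIdeal) (LocalizedModule q.asIdeal.primeCompl F)) :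
    2 ≤ LocCoh.idealDepth J (Module.Dual B (Module.Dual B F)) ∧
    Function.Bijective (((Module.Dual.eval B F).baseChange B').dualMap.dualMap) ∧
    (Module.Flat A F →
      (∀ q : PrimeSpectrum B, J ≤ q.asIdeal →
        2 ≤ LocCoh.idealDepth (q.asIdeal.map (algebraMap B (EGA4.FibLocRing A B q.asIdeal))) (EGA4.FibLocMod A B q.asIdeal F)) →
      Module.IsReflexive B F ∧ Module.IsReflexive B' (B' ⊗[B] F)) := by
  classical
  let J' := J.map (algebraMap B B')
  have hB : 2 ≤ LocCoh.idealDepth J B := KFlatLib.le_idealDepth_of_fibLocRing J 2 hZ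
  have hB' : 2 ≤ LocCoh.idealDepth J' B' := KFlatLib.le_idealDepth_baseChange_self (B' := B') J 2 A' hZ
  have hnot : ∀ q' : PrimeSpectrum B', ¬ J' ≤ q'.asIdeal → ¬ J ≤ q'.asIdeal.comap (algebraMap B B') :=
    fun q' h hJ => h (Ideal.map_le_iff_le_comap.2 hJ)
  refine ⟨KFlatLib.two_le_idealDepth_dual J hB _, ?_, fun hflat hF => ?_⟩
  · have key : ∀ q' : PrimeSpectrum B', ¬ J' ≤ q'.asIdeal → ∃ s ∉ q'.asIdeal,
        (∀ x, ((Module.Dual.eval B F).baseChange B').dualMap.dualMap x = 0 → s • x = 0) ∧
        ∀ y, s • y ∈ LinearMap.range (((Module.Dual.eval B F).baseChange B').dualMap.dualMap) := by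
      intro q' hq'
      haveI : Module.Free (Localization.AtPrime (q'.asIdeal.comap (algebraMap B B')))
          (LocalizedModule (q'.asIdeal.comap (algebraMap B B')).primeCompl F) :=
        hFU ⟨q'.asIdeal.comap (algebraMap B B'), Ideal.IsPrime.comap _⟩ (hnot q' hq')
      have h := KFlatLib.eval_of_isReflexive_localized F (q'.asIdeal.comap (algebraMap B B')).primeCompl
      obtain ⟨c, g, hc, hg1, hg2⟩ := KFlatLib.exists_inverse_up_to (Module.Dual.eval B F) _ h.1 h.2
      refine ⟨algebraMap B B' c, hc, fun x hx => ?_, fun y => ⟨(g.baseChange B').dualMap.dualMap y, ?_⟩⟩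
      · rw [← KFlatLib.baseChange_dual_dual_up_to (Module.Dual.eval B F) g c hg1 x, hx, map_zero]
      · exact KFlatLib.baseChange_dual_dual_up_to g (Module.Dual.eval B F) c hg2 y
    exact KFlatLib.bijective_of_bijective_off J' _
      (fun q' hq' x hx => by obtain ⟨s, hs, h1, -⟩ := key q' hq'; exact ⟨s, hs, h1 x hx⟩)
      (fun q' hq' y => by obtain ⟨s, hs, -, h2⟩ := key q' hq'; exact ⟨s, hs, h2 y⟩)
      (KFlatLib.two_le_idealDepth_dual J' hB' _) (le_trans one_le_two (KFlatLib.two_le_idealDepth_dual J' hB' _))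
  · refine ⟨KFlatLib.isReflexive_of_off J (le_trans one_le_two hB) F (fun q hq => ?_)
      (KFlatLib.le_idealDepth_of_fibLocMod F J 2 hF), ⟨?_⟩⟩
    · haveI := hFU q hq
      haveI : Module.Finite (Localization.AtPrime q.asIdeal) (LocalizedModule q.asIdeal.primeCompl F) :=
        Module.Finite.of_isLocalizedModule q.asIdeal.primeCompl (LocalizedModule.mkLinearMap _ _)
      infer_instance
    · have key : ∀ q' : PrimeSpectrum B', ¬ J' ≤ q'.asIdeal → ∃ s ∉ q'.asIdeal,
          (∀ x, Module.Dual.eval B' (B' ⊗[B] F) x = 0 → s • x = 0) ∧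
          ∀ y, s • y ∈ LinearMap.range (Module.Dual.eval B' (B' ⊗[B] F)) := by
        intro q' hq'
        haveI : Module.Free (Localization.AtPrime (q'.asIdeal.comap (algebraMap B B')))
            (LocalizedModule (q'.asIdeal.comap (algebraMap B B')).primeCompl F) :=
          hFU ⟨q'.asIdeal.comap (algebraMap B B'), Ideal.IsPrime.comap _⟩ (hnot q' hq')
        exact KFlatLib.eval_baseChange_up_to F q'.asIdeal _ rfl
      exact KFlatLib.bijective_of_bijective_off J' _
        (fun q' hq' x hx => by obtain ⟨s, hs, h1, -⟩ := key q' hq'; exact ⟨s, hs, h1 x hx⟩)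
        (fun q' hq' y => by obtain ⟨s, hs, -, h2⟩ := key q' hq'; exact ⟨s, hs, h2 y⟩)
        (KFlatLib.le_idealDepth_baseChange J 2 A' F hF)
        (le_trans one_le_two (KFlatLib.two_le_idealDepth_dual J' hB' _))

end Groth.Agent.S18718
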