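import Groth.Statements.S18721
import Groth.Agent.KFlatLib.Ring.DualizingEquidim
-- import your own Groth.Agent.* helpers here

set_option autoImplicit false
universe u
open CategoryTheory
attribute [local instance] HasDerivedCategory.standard
open QGor

namespace Groth.Agent.S18721

/-- Affine form. Let k be a field and A a finitely generated k-algebra, equidimensional of Krull
dimension n, and let ω be a dualizing complex of A normalized at every maximal ideal m (no nonzero
morphisms A/m → ω[i] in D(A) for i ≠ 0 — the canonical dualizing complex of Spec A over k). Put Z_i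
= Supp H^{-i}(ω). Then H^{-i}(ω) = 0 for every i > n, and for every k′ ≥ 1: A satisfies (S_{k′}) if
and only if dim Z_i ≤ i − k′ for all i ≠ n, where for i < k′ this means H^{-i}(ω) = 0. -/
theorem result (k A : Type u) [Field k] [CommRing A]
    [Algebra k A] (hft : Algebra.FiniteType k A) [IsNoetherianRing A]
    (hEq : EGA4.IsEquidim A) (n : ℕ) (hd : ringKrullDim A = n)
    (ω : Dual.D A) (hω : Dual.IsDualizing A ω)
    (hnorm : ∀ (m : Ideal A) (_ : m.IsMaximal) (i : ℤ), i ≠ 0 → Subsingleton (Dual.inD A (A ⧸ m) ⟶ ω⟦i⟧)) :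
    (∀ i : ℕ, n < i → Subsingleton (Dual.HD A ω (-(i : ℤ)))) ∧
    ∀ k' : ℕ, 1 ≤ k' →
      (LocCoh.HasSk k' A A ↔
        ∀ i : ℕ, i ≠ n →
          (i < k' → Subsingleton (Dual.HD A ω (-(i : ℤ)))) ∧
          (k' ≤ i → Module.supportDim A (Dual.HD A ω (-(i : ℤ))) ≤ ((i - k' : ℕ) : WithBot ℕ∞))) := by
  classical
  obtain ⟨nf, hdeg, hcov, hmono, -⟩ := KFlatLib.exists_extDegree hω
  obtain ⟨a, b, -, _, _⟩ := KFlatLib.exists_bounds_of_isDualizing hω
  have hm : ∀ m : PrimeSpectrum A, m.asIdeal.IsMaximal → nf m = 0 := by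
    intro m hmax
    by_contra hne
    haveI := hnorm m.asIdeal hmax (nf m) hne
    haveI : Subsingleton (LocalizedModule m.asIdeal.primeCompl (Dual.inD A (A ⧸ m.asIdeal) ⟶ ω⟦nf m⟧)) :=
      LocalizedModule.subsingleton_iff.2 fun f => ⟨1, one_mem _, Subsingleton.elim _ _⟩
    haveI := (hdeg m (nf m)).2 rfl
    exact not_subsingleton _ ‹Subsingleton (LocalizedModule _ _)›
  have hdim := KFlatLib.ringKrullDim_quotient_eq_global hcov hmono hm
  have hmin : ∀ P : PrimeSpectrum A, P.asIdeal ∈ (Module.annihilator A A).minimalPrimes → nf P = -(n : ℤ) := by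
    intro P hP
    rw [Module.annihilator_eq_bot.2 inferInstance] at hP
    obtain ⟨e, he, he'⟩ := hdim P
    have h1 := hEq P.asIdeal hP
    rw [he, hd] at h1
    have : e = n := by exact_mod_cast h1
    omega
  have hnonpos : ∀ P : PrimeSpectrum A, -(n : ℤ) ≤ nf P ∧ nf P ≤ 0 := by
    intro P
    obtain ⟨e, he, he'⟩ := hdim P
    have h1 : ringKrullDim (A ⧸ P.asIdeal) ≤ ringKrullDim A :=
      ringKrullDim_le_of_surjective (Ideal.Quotient.mk P.asIdeal) Ideal.Quotient.mk_surjective
    rw [he, hd] at h1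
    have : e ≤ n := by exact_mod_cast h1
    omega
  have heq : ∀ i : ℤ, Nonempty ((Dual.inD A A ⟶ ω⟦i⟧) ≃ₗ[A] Dual.HD A ω i) :=
    fun i => KFlatLib.exists_homRingLEquiv ω i
  refine ⟨fun i hi => ?_, fun k' hk' => ?_⟩
  · obtain ⟨e⟩ := heq (-(i : ℤ))
    haveI := KFlatLib.subsingleton_hom_module_of_lt hdeg A (-(i : ℤ)) fun P _ => by
      have := (hnonpos P).1
      omega
    exact e.symm.injective.subsingleton
  rw [KFlatLib.hasSk_iff_of_degree hω hdeg hmono hdim A n hmin k']
  constructor
  · intro h i hi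
    obtain ⟨h1, h2⟩ := h (-(i : ℤ)) (by omega)
    obtain ⟨e⟩ := heq (-(i : ℤ))
    refine ⟨fun hlt => ?_, fun hle => ?_⟩
    · haveI := h1 (by omega)
      exact e.symm.injective.subsingleton
    · have h3 := h2 (by omega)
      rw [show (-(-(i : ℤ)) - (k' : ℤ)).toNat = i - k' by omega] at h3
      rw [Module.supportDim, ← e.support_eq]
      exact h3
  · intro h j hj
    rcases lt_or_ge 0 j with hpos | hnpos
    · haveI : Subsingleton (Dual.inD A A ⟶ ω⟦j⟧) := by
        rw [← Module.support_eq_empty_iff (R := A), Set.eq_empty_iff_forall_notMem]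
        intro p hp
        have := KFlatLib.le_extDegree_of_mem_support hdeg a hω.finite_cohomology A j hp
        have := (hnonpos p).2
        omega
      exact ⟨fun _ => inferInstance, fun hh => by omega⟩
    · obtain ⟨i, rfl⟩ : ∃ i : ℕ, j = -(i : ℤ) := ⟨(-j).toNat, by omega⟩
      obtain ⟨h1, h2⟩ := h i (by omega)
      obtain ⟨e⟩ := heq (-(i : ℤ))
      refine ⟨fun hlt => ?_, fun hle => ?_⟩
      · haveI := h1 (by omega)
        exact e.injective.subsingleton
      · have h3 := h2 (by omega)
        rw [show (-(-(i : ℤ)) - (k' : ℤ)).toNat = i - k' by omega]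
        rw [Module.supportDim, e.support_eq]
        exact h3

end Groth.Agent.S18721
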