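import Groth.Statements.S18734
import Mathlib.AlgebraicGeometry.ZariskisMainTheorem
import Mathlib.RingTheory.Flat.Basic
import Mathlib.RingTheory.Localization.Module
import Mathlib.RingTheory.Valuation.ValuationRing

set_option autoImplicit false
universe u
open CategoryTheory CategoryTheory.Limits AlgebraicGeometry TopologicalSpace
open ModPair

namespace Groth.Agent.S18734

open TensorProduct in
theorem quasiFinite_of_generic {R A K B : Type u} [CommRing R] [IsDomain R] [ValuationRing R]
    [CommRing A] [Algebra R A] [Field K] [Algebra R K] [IsFractionRing R K]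
    [CommRing B] [Algebra K B] [Algebra R B] [IsScalarTower R K B] [Module.Finite K B]
    (ψ : A →ₐ[R] B) (hψ : Function.Injective ψ) : Algebra.QuasiFinite R A := by
  classical
  refine ⟨fun P _ => ?_⟩
  let v : A → P.Fiber A := fun a => (1 : P.ResidueField) ⊗ₜ[R] a
  have hspan : Submodule.span P.ResidueField (Set.range v) = ⊤ := by
    refine eq_top_iff.mpr fun x _ => ?_
    induction x using TensorProduct.induction_on with
    | zero => exact zero_mem _
    | tmul c a =>
      have h := Submodule.smul_mem _ c (Submodule.subset_span (R := P.ResidueField) ⟨a, rfl⟩ :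
        v a ∈ Submodule.span P.ResidueField (Set.range v))
      rwa [show c • v a = c ⊗ₜ[R] a from by
        simp only [v, smul_tmul', smul_eq_mul, mul_one]] at h
    | add x y hx hy => exact add_mem (hx trivial) (hy trivial)
  obtain ⟨t, htsub, htspan, htind⟩ := exists_linearIndependent P.ResidueField (Set.range v)
  rw [hspan] at htspan
  choose g hg using fun x : t => htsub x.2
  have hbound : ∀ s : Finset t, s.card ≤ Module.finrank K B := by
    intro s
    have hind : LinearIndependent R (fun x : s => g x.1) := by
      refine Fintype.linearIndependent_iff.mpr fun c hc => ?_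
      by_contra! hne
      obtain ⟨i₀, hi₀⟩ := hne
      obtain ⟨j, -, hj⟩ : ∃ j ∈ (Finset.univ : Finset s), ∀ i ∈ (Finset.univ : Finset s), c j ∣ c i := by
        suffices H : ∀ u : Finset s, u.Nonempty → ∃ j ∈ u, ∀ i ∈ u, c j ∣ c i from
          H _ ⟨i₀, Finset.mem_univ _⟩
        intro u hu
        induction hu using Finset.Nonempty.cons_induction with
        | singleton a => exact ⟨a, Finset.mem_singleton_self a, fun i hi => by
            rw [Finset.mem_singleton.mp hi]⟩
        | cons a u ha hu ih =>
          obtain ⟨j, hju, hj⟩ := ih
          rcases ValuationRing.dvd_total (c a) (c j) with h | h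
          · exact ⟨a, Finset.mem_cons_self a u, fun i hi => by
              rcases Finset.mem_cons.mp hi with rfl | hi
              · exact dvd_rfl
              · exact h.trans (hj i hi)⟩
          · exact ⟨j, Finset.mem_cons_of_mem hju, fun i hi => by
              rcases Finset.mem_cons.mp hi with rfl | hi
              · exact h
              · exact hj i hi⟩
      have hcj : c j ≠ 0 := fun h0 => hi₀ (zero_dvd_iff.mp (h0 ▸ hj i₀ (Finset.mem_univ _)))
      choose d hd using fun i => hj i (Finset.mem_univ i)
      have hsum : ∑ i, d i • g i.1 = 0 := by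
        apply hψ
        rw [map_zero]
        have h1 : algebraMap R K (c j) • ψ (∑ i, d i • g i.1) = 0 := by
          rw [algebraMap_smul, ← map_smul, Finset.smul_sum]
          rw [Finset.sum_congr rfl fun i _ => (smul_smul (c j) (d i) (g i.1)), ← map_zero ψ, ← hc]
          exact congrArg ψ (Finset.sum_congr rfl fun i _ => by rw [← hd i])
        exact (smul_eq_zero.mp h1).resolve_left
          ((map_ne_zero_iff _ (IsFractionRing.injective R K)).mpr hcj)
      have h2 : ∑ i, algebraMap R P.ResidueField (d i) • ((i.1 : t) : P.Fiber A) = 0 := by
        have h3 := congrArg (fun a => v a) hsum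
        simp only [v, tmul_zero, tmul_sum, tmul_smul] at h3
        rw [← h3]
        exact Finset.sum_congr rfl fun i _ => by rw [algebraMap_smul, ← hg i.1]
      have hind' : LinearIndependent P.ResidueField (fun x : s => ((x.1 : t) : P.Fiber A)) :=
        htind.comp _ Subtype.val_injective
      have hdj := Fintype.linearIndependent_iff.mp hind' _ h2 j
      have hdj1 : d j = 1 := mul_left_cancel₀ hcj ((hd j).symm.trans (mul_one _).symm)
      rw [hdj1, map_one] at hdj
      exact one_ne_zero hdj
    have hK : LinearIndependent K (fun x : s => ψ (g x.1)) :=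
      (LinearIndependent.iff_fractionRing R K).mp
        (hind.map' ψ.toLinearMap (LinearMap.ker_eq_bot.mpr hψ))
    simpa using hK.fintype_card_le_finrank
  haveI : Finite t := by
    by_contra hinf
    rw [not_finite_iff_infinite] at hinf
    obtain ⟨s, hs⟩ := Infinite.exists_subset_card_eq t (Module.finrank K B + 1)
    have := hbound s
    omega
  exact ⟨⟨(Set.toFinite t).toFinset, by rw [Set.Finite.coe_toFinset]; exact htspan⟩⟩

set_option backward.isDefEq.respectTransparency.types false in
theorem localAtSource : IsZariskiLocalAtSource.{u} @LocallyQuasiFinite := inferInstance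

theorem locallyQuasiFinite_of_generic {R : Type u} [CommRing R] [IsDomain R] [ValuationRing R]
    {A : CommRingCat.{u}} (φ : CommRingCat.of R ⟶ A) [Flat (Spec.map φ)]
    (hgen : LocallyQuasiFinite (pullback.snd (Spec.map φ)
      (Spec.map (CommRingCat.ofHom (algebraMap R (FractionRing R)))))) :
    LocallyQuasiFinite (Spec.map φ) := by
  rw [HasRingHomProperty.Spec_iff (P := @LocallyQuasiFinite)]
  letI : Algebra R A := φ.hom.toAlgebra
  show Algebra.QuasiFinite R A
  haveI : Module.Flat R A := (HasRingHomProperty.Spec_iff (P := @Flat)).mp ‹Flat (Spec.map φ)›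
  let K := FractionRing R
  have h1 : LocallyQuasiFinite ((pullbackSpecIso R A K).inv ≫
      pullback.snd (Spec.map (CommRingCat.ofHom (algebraMap R A)))
        (Spec.map (CommRingCat.ofHom (algebraMap R K)))) := by
    haveI : LocallyQuasiFinite (pullback.snd (Spec.map (CommRingCat.ofHom (algebraMap R A)))
        (Spec.map (CommRingCat.ofHom (algebraMap R K)))) := hgen
    infer_instance
  rw [pullbackSpecIso_inv_snd, HasRingHomProperty.Spec_iff (P := @LocallyQuasiFinite)] at h1
  letI := (Algebra.TensorProduct.includeRight (R := R) (A := (A : Type u)) (B := K)).toRingHom.toAlgebra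
  haveI : Algebra.QuasiFinite K (TensorProduct R A K) := h1
  haveI : IsScalarTower R K (TensorProduct R A K) :=
    IsScalarTower.of_algebraMap_eq fun r =>
      ((Algebra.TensorProduct.includeRight (R := R) (A := (A : Type u)) (B := K)).commutes r).symm
  haveI : Module.Finite K (TensorProduct R A K) := Algebra.QuasiFinite.iff_of_isArtinianRing.mp inferInstance
  exact quasiFinite_of_generic (K := K) (Algebra.TensorProduct.includeLeft : A →ₐ[R] TensorProduct R A K)
    (Algebra.TensorProduct.includeLeft_injective (IsFractionRing.injective R K))



/-- Let R be a valuation ring with fraction field K and f : Y ⟶ Spec R a morphism of schemes which is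
flat, proper and generically finite (the generic fibre Y ×_{Spec R} Spec K ⟶ Spec K is a finite
morphism). Then f is finite. No finite-presentation hypothesis is assumed. -/
theorem result {R : Type u} [CommRing R]
    [IsDomain R] [ValuationRing R] {Y : Scheme.{u}} (f : Y ⟶ Spec (CommRingCat.of R)) [Flat f] [IsProper f]
    (hgen : IsFinite (pullback.snd f
      (Spec.map (CommRingCat.ofHom (algebraMap R (FractionRing R)))))) :
    IsFinite f := by
  haveI : LocallyQuasiFinite f := by
    haveI := localAtSource.{u}
    refine (IsZariskiLocalAtSource.iff_of_openCover Y.affineCover).mpr fun i => ?_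
    have key : ∀ {A : CommRingCat.{u}} (j : Spec A ⟶ Y) [IsOpenImmersion j],
        LocallyQuasiFinite (j ≫ f) := by
      intro A j _
      obtain ⟨φ, hφ⟩ := Spec.map_surjective (j ≫ f)
      rw [← hφ]
      haveI : Flat (Spec.map φ) := hφ ▸ inferInstance
      refine locallyQuasiFinite_of_generic φ ?_
      have hsnd := pullbackRightPullbackFstIso_inv_snd_snd f
        (Spec.map (CommRingCat.ofHom (algebraMap R (FractionRing R)))) j
      haveI := hgen
      haveI : LocallyQuasiFinite (pullback.snd (j ≫ f)
          (Spec.map (CommRingCat.ofHom (algebraMap R (FractionRing R))))) := by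
        rw [← hsnd]; infer_instance
      rw [hφ]
      infer_instance
    exact @key _ (Y.affineCover.f i) (Y.affineCover.map_prop i)
  exact IsFinite.of_isProper_of_locallyQuasiFinite f

end Groth.Agent.S18734
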