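import Groth.Statements.S18737
import Groth.Agent.ModPairLib.Decomp

set_option autoImplicit false
universe u
open CategoryTheory CategoryTheory.Limits AlgebraicGeometry TopologicalSpace
open ModPair

namespace Groth.Agent.S18737

/-- Let X be a scheme and I the quasi-coherent ideal sheaf of an effective Cartier divisor on X, with
open complement U, and suppose U is the disjoint union of two opens U₀, U₁ of X. Let X₀, X₁ ⊆ X be
the scheme-theoretic images of U₀ and U₁ in X and p : X₀ ⨿ X₁ ⟶ X the morphism induced by the two
closed immersions. Then the pulled-back ideal I.comap p is the ideal sheaf of an effective Cartier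
divisor, and p is an abstract admissible blow-up from (X₀ ⨿ X₁, I.comap p) to (X, I): proper, with
the pulled-back modulus, and an isomorphism over U. -/
theorem result {X : Scheme.{u}}
    (I : X.IdealSheafData) (hI : BlowUp.IsEffCartierIdeal I) (U₀ U₁ : X.Opens)
    (hU : U₀ ⊔ U₁ = ModPair.interior I) (hd : Disjoint U₀ U₁) :
    BlowUp.IsEffCartierIdeal (I.comap (coprod.desc U₀.ι.imageι U₁.ι.imageι)) ∧
      ModPair.IsAdmBlowup (I.comap (coprod.desc U₀.ι.imageι U₁.ι.imageι)) I
        (coprod.desc U₀.ι.imageι U₁.ι.imageι) := by
  exact ModPairLib.decomposition hI U₀ U₁ hU hd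

end Groth.Agent.S18737
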