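import Groth.Statements.S18741
import Groth.Agent.ModPairLib.Slice
import Mathlib.CategoryTheory.Localization.Equivalence
import Mathlib.CategoryTheory.ObjectProperty.Equivalence

set_option autoImplicit false
universe v₁ v₂ v₃ u₁ u₂ u₃
open CategoryTheory
open ModPair

namespace Groth.Agent.S18741

/-- Let C be a category, W a class of morphisms of C admitting a calculus of right fractions, and S an
object of C; let W_S be the class of morphisms of the slice category over S whose underlying
morphism lies in W. Then the canonical functor from the localization of the slice category C/S at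
W_S to the slice category over S of the localization of C at W is an equivalence: for every
localization functor L : C ⥤ D at W, every localization functor L' : C/S ⥤ E at W_S, and every
functor Φ : E ⥤ D/L(S) through which the functor C/S ⥤ D/L(S) induced by L factors up to
isomorphism, Φ is an equivalence of categories. -/
theorem result {C : Type u₁}
    [Category.{v₁} C] (W : MorphismProperty C) [W.HasRightCalculusOfFractions] (S : C)
    {D : Type u₂} [Category.{v₂} D] (L : C ⥤ D) [L.IsLocalization W]
    {E : Type u₃} [Category.{v₃} E] (L' : Over S ⥤ E)
    [L'.IsLocalization (W.inverseImage (Over.forget S))]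
    (Φ : E ⥤ Over (L.obj S)) (e : L' ⋙ Φ ≅ Over.post L) : Φ.IsEquivalence := by
  let T := ObjectProperty.topEquivalence (C := Over S)
  have : (T.functor ⋙ L').IsLocalization (ModPairLib.sliceW W S ⊤) :=
    Functor.IsLocalization.of_equivalence_source L' (W.inverseImage (Over.forget S)) _ _ T.symm
      (fun X Y f hf => MorphismProperty.le_isoClosure _ _ hf)
      (fun X Y f hf => Localization.inverts L' (W.inverseImage (Over.forget S)) _ hf)
      ((Functor.associator _ _ _).symm ≪≫ Functor.isoWhiskerRight T.counitIso L' ≪≫ L'.leftUnitor)
  have hP : ModPairLib.ClosedUnderDenominators W S ⊤ := fun _ _ _ _ _ => trivial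
  let e' : (T.functor ⋙ L') ⋙ Φ ≅ ObjectProperty.ι ⊤ ⋙ Over.post L :=
    Functor.associator _ _ _ ≪≫ Functor.isoWhiskerLeft _ e
  have := ModPairLib.faithful_slice hP L _ Φ e'
  have := ModPairLib.full_slice hP L _ Φ e'
  have := ModPairLib.essSurj_slice hP L _ Φ e' (fun _ => trivial)
  exact { }

end Groth.Agent.S18741
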