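import Groth.Statements.S18745
import Groth.Agent.ModDesc.LE
import Groth.Agent.LimDomLib.Basic
import Groth.Agent.ModPairLib.Dense

set_option autoImplicit false
universe u
open CategoryTheory CategoryTheory.Limits AlgebraicGeometry TopologicalSpace
open ModPair

namespace Groth.Agent.S18745

set_option linter.style.haveILetI false
set_option backward.isDefEq.respectTransparency.types false

/-- Let S be a quasi-compact quasi-separated scheme, (X_i, I_i) a cofiltered system of S-schemes, all
quasi-compact and quasi-separated, carrying quasi-coherent ideal sheaves of effective Cartier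
divisors, with affine and minimal transition morphisms, and let X be its limit (as an S-scheme) with
projections π_i and modulus I = I_i.comap π_i for every i. Let Y ⟶ S be locally of finite type with
Y quasi-compact and quasi-separated, carrying the ideal sheaf I_Y of an effective Cartier divisor.
Assume that either every transition morphism is scheme-theoretically dominant, or Y ⟶ S is locally
of finite presentation. Then every S-morphism φ : X ⟶ Y satisfying the modulus condition I ≤
I_Y.comap φ descends: for some i there is an S-morphism φ_i : X_i ⟶ Y satisfying the modulus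
condition I_i ≤ I_Y.comap φ_i with π_i ≫ φ_i = φ. (The base is taken to be a scheme, that is the
base modulus pair with empty modulus; morphisms over an arbitrary base modulus pair are among
these.) -/
theorem result {S : Scheme.{u}}
    [CompactSpace S] [QuasiSeparatedSpace S] {I : Type u} [SmallCategory I] [IsCofiltered I]
    (D : I ⥤ Over S) (c : Cone D) (hc : IsLimit c)
    [∀ (i j : I) (t : i ⟶ j), IsAffineHom (D.map t).left]
    [∀ i, CompactSpace (D.obj i).left] [∀ i, QuasiSeparatedSpace (D.obj i).left]
    (J : ∀ i, (D.obj i).left.IdealSheafData) (hJ : ∀ i, BlowUp.IsEffCartierIdeal (J i))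
    (hmin : ∀ (i j : I) (t : i ⟶ j), ModPair.IsMinimal (J i) (J j) (D.map t).left)
    (IX : c.pt.left.IdealSheafData) (hIX : ∀ i, IX = (J i).comap (c.π.app i).left)
    (Y : Over S) [CompactSpace Y.left] [QuasiSeparatedSpace Y.left] [LocallyOfFiniteType Y.hom]
    (IY : Y.left.IdealSheafData) (hY : BlowUp.IsEffCartierIdeal IY)
    (h : (∀ (i j : I) (t : i ⟶ j), IsSchemeTheoreticallyDominant (D.map t).left) ∨
      LocallyOfFinitePresentation Y.hom)
    (φ : c.pt ⟶ Y) (hφ : ModPair.IsAmbient IX IY φ.left) :
    ∃ (i : I) (φi : D.obj i ⟶ Y), ModPair.IsAmbient (J i) IY φi.left ∧ c.π.app i ≫ φi = φ := by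
  let D' : I ⥤ Scheme.{u} := D ⋙ CategoryTheory.Over.forget S
  let c' : Cone D' := (CategoryTheory.Over.forget S).mapCone c
  have hc' : IsLimit c' := isLimitOfPreserves _ hc
  haveI : ∀ {i j : I} (t : i ⟶ j), IsAffineHom (D'.map t) := fun {i j} t =>
    (inferInstance : IsAffineHom (D.map t).left)
  haveI : ∀ i, CompactSpace (D'.obj i) := fun i => (inferInstance : CompactSpace (D.obj i).left)
  haveI : ∀ i, QuasiSeparatedSpace (D'.obj i) := fun i => (inferInstance : QuasiSeparatedSpace (D.obj i).left)
  let t : D' ⟶ (Functor.const I).obj S := { app := fun i => (D.obj i).hom, naturality := fun i j g => by simp [D'] }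
  have ha : c'.π ≫ t = (Functor.const I).map (φ.left ≫ Y.hom) := by
    ext i
    show (c.π.app i).left ≫ (D.obj i).hom = φ.left ≫ Y.hom
    rw [CategoryTheory.Over.w, CategoryTheory.Over.w]
    rfl
  obtain ⟨i, g, hg, hg'⟩ : ∃ (i : I) (g : D'.obj i ⟶ Y.left),
      c'.π.app i ≫ g = φ.left ∧ g ≫ Y.hom = t.app i := by
    rcases h with hdom | hlfp
    · exact Groth.Agent.LimDomLib.exists_π_app_comp_eq_of_locallyOfFiniteType D' t Y.hom c' hc'
        (Groth.Agent.LimDomLib.isSchemeTheoreticallyDominant_π D' c' hc' fun i j g => hdom i j g) φ.left ha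
    · exact Scheme.exists_π_app_comp_eq_of_locallyOfFinitePresentation D' t Y.hom c' hc' φ.left ha
  have hfg : Groth.Agent.MorLib.IdealFG.IsFG (J i) := fun U =>
    Groth.Agent.MorLib.IdealFG.fg_of_cover _ U fun x _ => by
      obtain ⟨V, hx, a, -, ha'⟩ := hJ i x
      exact ⟨V, hx, ha'.symm ▸ Submodule.fg_span_singleton a⟩
  have hle : (J i).comap (c'.π.app i) ≤ (IY.comap g).comap (c'.π.app i) := by
    rw [← Scheme.IdealSheafData.comap_comp, hg]
    exact (hIX i).ge.trans hφ
  obtain ⟨j, f, hf⟩ := Groth.Agent.ModDesc.exists_comap_le (D := D') (c := c') hc' (J i) (IY.comap g) hfg hle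
  refine ⟨j, D.map f ≫ CategoryTheory.Over.homMk g hg', ?_, ?_⟩
  · rw [ModPair.IsAmbient, show J j = (J i).comap (D.map f).left from hmin j i f]
    refine hf.trans_eq ?_
    rw [← Scheme.IdealSheafData.comap_comp]
    rfl
  · rw [← Category.assoc, c.w]
    exact CategoryTheory.Over.OverMorphism.ext hg

end Groth.Agent.S18745
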