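import Groth.Statements.S18746
import Groth.Agent.ModDesc.Blowup

set_option autoImplicit false
universe u
open CategoryTheory CategoryTheory.Limits AlgebraicGeometry TopologicalSpace
open ModPair

namespace Groth.Agent.S18746

/-- Let (X_i, I_i) be a cofiltered system of quasi-compact quasi-separated schemes with quasi-coherent
ideal sheaves of effective Cartier divisors and affine, minimal transition morphisms, X its limit
with projections π_i and modulus I = I_i.comap π_i for all i, and s : Y ⟶ X an abstract admissible
blow-up of modulus pairs (I.comap s an effective Cartier ideal sheaf, s proper and an isomorphism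
over the interior of (X, I)). Then the blow-up descends: for some index i there are a scheme Y_i
with the ideal sheaf I_{Y_i} of an effective Cartier divisor, an abstract admissible blow-up s_i :
Y_i ⟶ X_i from (Y_i, I_{Y_i}) to (X_i, I_i), and an isomorphism over X between Y and the ambient
product of X and Y_i over X_i, namely the scheme-theoretic image of pr₁⁻¹(X°) ∩ pr₂⁻¹(Y_i°) in X
×_{X_i} Y_i. -/
theorem result {I : Type u}
    [SmallCategory I] [IsCofiltered I] (D : I ⥤ Scheme.{u}) (c : Cone D) (hc : IsLimit c)
    [∀ (i j : I) (t : i ⟶ j), IsAffineHom (D.map t)]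
    [∀ i, CompactSpace (D.obj i)] [∀ i, QuasiSeparatedSpace (D.obj i)]
    (J : ∀ i, (D.obj i).IdealSheafData) (hJ : ∀ i, BlowUp.IsEffCartierIdeal (J i))
    (hmin : ∀ (i j : I) (t : i ⟶ j), ModPair.IsMinimal (J i) (J j) (D.map t))
    (IX : c.pt.IdealSheafData) (hIX : ∀ i, IX = (J i).comap (c.π.app i))
    {Y : Scheme.{u}} (s : Y ⟶ c.pt) (hY : BlowUp.IsEffCartierIdeal (IX.comap s))
    (hs : ModPair.IsAdmBlowup (IX.comap s) IX s) :
    ∃ (i : I) (Yi : Scheme.{u}) (IYi : Yi.IdealSheafData) (si : Yi ⟶ D.obj i),
      BlowUp.IsEffCartierIdeal IYi ∧ ModPair.IsAdmBlowup IYi (J i) si ∧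
        ∃ e : Y ≅ ModPair.mprod (c.π.app i) si IX IYi,
          e.hom ≫ ModPair.mprodι (c.π.app i) si IX IYi ≫ pullback.fst (c.π.app i) si = s := by
  exact Groth.Agent.ModDesc.exists_descend_admBlowup D c hc J hJ hmin IX hIX s hY hs

end Groth.Agent.S18746
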