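import Groth.Statements.S18747
import Groth.Agent.ModPairLib.Coprod

set_option autoImplicit false
universe u
open CategoryTheory CategoryTheory.Limits AlgebraicGeometry TopologicalSpace
open ModPair

namespace Groth.Agent.S18747

/-- The category of modulus pairs and ambient morphisms admits coproducts (indexed by any type in the
universe of the schemes involved), and the total-space functor to schemes preserves them: the
coproduct of a family (X_i, I_i) is the disjoint union of the X_i with the modulus restricting to
I_i on each summand. (The published statement adds that the total-space functor detects coproducts;
read as reflection of coproducts this fails, since the identity of a scheme X is an ambient morphism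
from (X, I) to (X, unit ideal) whose image is trivially a coproduct of the one-member family while
(X, unit ideal) is not the coproduct of (X, I) when I is not the unit ideal; only existence and
preservation are stated.) -/
theorem result (σ : Type u) :
    HasColimitsOfShape (Discrete σ) ModPair.Pair.{u} ∧
      PreservesColimitsOfShape (Discrete σ) ModPair.Pair.forget.{u} := by
  exact ⟨ModPairLib.hasColimitsOfShape σ, ModPairLib.preservesColimitsOfShape σ⟩

end Groth.Agent.S18747
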