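import Groth.Statements.S18748
import Groth.Agent.ModPairLib.LocCoprod
import Groth.Agent.ModPairLib.CoprodAdm

set_option autoImplicit false
universe u
open CategoryTheory CategoryTheory.Limits AlgebraicGeometry TopologicalSpace
open ModPair

namespace Groth.Agent.S18748

/-- The localization of the category of modulus pairs and ambient morphisms at the class of abstract
admissible blow-ups has binary coproducts, and the localization functor carries the coproduct of two
modulus pairs (the disjoint union of the total spaces with the disjoint union of the moduli) to a
coproduct. (The source also states that the interior functor detects these coproducts; that part is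
not included.) -/
theorem result :
    HasBinaryCoproducts (ModPair.Pair.admBlowup.{u}).Localization ∧
      PreservesColimitsOfShape (Discrete WalkingPair) (ModPair.Pair.admBlowup.{u}).Q := by
  let E : Discrete (ULift.{u} WalkingPair) ≌ Discrete WalkingPair :=
    Discrete.equivalence Equiv.ulift
  have := ModPairLib.hasColimitsOfShape.{u} (ULift.{u} WalkingPair)
  have : HasColimitsOfShape (Discrete WalkingPair) ModPair.Pair.{u} :=
    hasColimitsOfShape_of_equivalence E
  have := ModPairLib.admBlowup_isStableUnderCoproductsOfShape.{u} (ULift.{u} WalkingPair)
  have : (ModPair.Pair.admBlowup.{u}).IsStableUnderColimitsOfShape (Discrete WalkingPair) := by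
    rw [MorphismProperty.isStableUnderColimitsOfShape_iff_colimitsOfShape_le,
      ← MorphismProperty.colimitsOfShape_eq_of_equivalence _ E]
    exact MorphismProperty.colimitsOfShape_le
  have : (ModPair.Pair.admBlowup.{u}).ContainsIdentities :=
    ⟨fun P => ModPairLib.isAdmBlowup_id P.mod⟩
  exact ⟨ModPairLib.LocCoprod.hasColimitsOfShape (ModPair.Pair.admBlowup.{u}).Q
      ModPair.Pair.admBlowup WalkingPair,
    ModPairLib.LocCoprod.preservesColimitsOfShape (ModPair.Pair.admBlowup.{u}).Q
      ModPair.Pair.admBlowup WalkingPair⟩

end Groth.Agent.S18748
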