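import Groth.Statements.S18749
import Groth.Agent.ModPairLib.BlowUp

set_option autoImplicit false
universe u
open CategoryTheory CategoryTheory.Limits AlgebraicGeometry TopologicalSpace
open ModPair

namespace Groth.Agent.S18749

/-- Let (S, I_S), (T, J), (X, I) be schemes with quasi-coherent ideal sheaves of effective Cartier
divisors and f : X ⟶ S, g : T ⟶ S morphisms satisfying the modulus condition. Let Y₀ be the
scheme-theoretic image of pr₁⁻¹(X°) ∩ pr₂⁻¹(T°) in X ×_S T, let π : Y ⟶ Y₀ be a blowing up of Y₀ in
the sum of the two ideal sheaves I, J pulled back to Y₀ (the intersection of the two pulled-back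
divisors), and let K be an ideal sheaf on Y whose product with the exceptional ideal is the product
of the pull-backs of I and J to Y. Then K is the ideal sheaf of an effective Cartier divisor (the
divisor D_X + D_T − E), the projections Y ⟶ X and Y ⟶ T satisfy the modulus condition with respect
to K, and the interior of (Y, K) is the preimage of pr₁⁻¹(X°) ∩ pr₂⁻¹(T°). -/
theorem result {S T X Y : Scheme.{u}} (IS : S.IdealSheafData)
    (J : T.IdealSheafData) (I : X.IdealSheafData) (hS : BlowUp.IsEffCartierIdeal IS)
    (hT : BlowUp.IsEffCartierIdeal J) (hX : BlowUp.IsEffCartierIdeal I)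
    (f : X ⟶ S) (hf : ModPair.IsAmbient I IS f) (g : T ⟶ S) (hg : ModPair.IsAmbient J IS g)
    (π : Y ⟶ ModPair.mprod f g I J) (K : Y.IdealSheafData) (hY : ModPair.IsAmbProd f g I J π K) :
    BlowUp.IsEffCartierIdeal K ∧
      ModPair.IsAmbient K I (π ≫ ModPair.mprodι f g I J ≫ pullback.fst f g) ∧
      ModPair.IsAmbient K J (π ≫ ModPair.mprodι f g I J ≫ pullback.snd f g) ∧
      ModPair.interior K = (π ≫ ModPair.mprodι f g I J) ⁻¹ᵁ ModPair.prodInterior f g I J := by
  exact ModPairLib.ambProd_modulus hT hX hY

end Groth.Agent.S18749
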