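import Groth.Statements.S1875
import Groth.Agent.H23.InsepLen
-- import your own Groth.Agent.* helpers here

set_option autoImplicit false
universe u
open TensorProduct
open RelCyc

namespace Groth.Agent.S1875

/-- Let k be a field of exponential characteristic p, K/k any field extension and L/k a finitely
generated field extension (the function field of an integral scheme locally of finite type over k).
For every minimal prime 𝔮 of K ⊗_k L the length of the Artinian local ring (K ⊗_k L)_𝔮 — the
multiplicity of the corresponding irreducible component of the base change — is a power of p (so 1
in characteristic zero). -/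
theorem result (k K L : Type u) [Field k] [Field K] [Field L] [Algebra k K] [Algebra k L] (hL : (⊤ : IntermediateField k L).FG) (p : ℕ) [ExpChar k p] (q : Ideal (K ⊗[k] L)) [q.IsPrime] (hq : q ∈ minimalPrimes (K ⊗[k] L)) : ∃ n : ℕ, Module.length (Localization.AtPrime q) (Localization.AtPrime q) = (p ^ n : ℕ) := by
  
  haveI : Algebra.EssFiniteType k (⊤ : IntermediateField k L) := IntermediateField.essFiniteType_iff.2 hL
  haveI : Algebra.EssFiniteType k L := Algebra.EssFiniteType.of_surjective
    (IntermediateField.topEquiv (F := k) (E := L)).toAlgHom (IntermediateField.topEquiv (F := k) (E := L)).surjective
  exact H23.InsepLen.length_baseChange_pow k K L p q hq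

end Groth.Agent.S1875
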