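import Groth.Statements.S18753
import Groth.Agent.ModPairSemiVal.Basic
import Groth.Agent.BlowUpLib.Local
import Groth.Agent.ModPairLib.Limit

set_option autoImplicit false
universe u
open CategoryTheory CategoryTheory.Limits AlgebraicGeometry TopologicalSpace
open ModPair

namespace Groth.Agent.S18753

theorem aux {A : Type u} [CommRing A] (f : A) (𝔮 : Ideal A) [𝔮.IsPrime]
    (hdiv : ∀ x ∈ 𝔮, ∃ x' ∈ 𝔮, x = f * x')
    (huniq : ∀ t : Ideal A, t.IsPrime → 𝔮 ≤ t → f ∉ t → t = 𝔮)
    (hV : ValuationRing (A ⧸ 𝔮)) {Q : Scheme.{u}} (IQ : Q.IdealSheafData)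
    (hQ : BlowUp.IsEffCartierIdeal IQ) (q : Q ⟶ Spec (CommRingCat.of A))
    (hq : ModPair.IsMinimal IQ
      (Spec.map (CommRingCat.ofHom (Ideal.Quotient.mk (Ideal.span {f})))).ker q)
    [IsProper q]
    (hfin : IsFinite (q ∣_ ModPair.interior
      (Spec.map (CommRingCat.ofHom (Ideal.Quotient.mk (Ideal.span {f})))).ker)) :
    IsFinite q := by
  let π := CommRingCat.ofHom (Ideal.Quotient.mk (Ideal.span {f}))
  let J := (Spec.map π).ker
  let a : Γ(Spec (CommRingCat.of A), ⊤) := (Scheme.ΓSpecIso (CommRingCat.of A)).inv f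
  have hJ : J.ideal ⟨⊤, isAffineOpen_top _⟩ = Ideal.span {a} := by
    show (Spec.map π).ker.ideal _ = _
    rw [Scheme.Hom.ker_apply]
    show RingHom.ker (Spec.map π).appTop.hom = _
    have hnat : (Spec.map π).appTop =
        (Scheme.ΓSpecIso (CommRingCat.of A)).hom ≫ π ≫ (Scheme.ΓSpecIso _).inv := by
      rw [← Category.assoc, Iso.eq_comp_inv, Scheme.ΓSpecIso_naturality]
    rw [hnat, CommRingCat.hom_comp, CommRingCat.hom_comp,
      ← RingHom.comap_ker, RingHom.ker_comp_of_injective _
        (ConcreteCategory.bijective_of_isIso (Scheme.ΓSpecIso _).inv).1]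
    show Ideal.comap _ (RingHom.ker (Ideal.Quotient.mk (Ideal.span {f}))) = _
    rw [Ideal.mk_ker]
    conv_rhs => rw [← Set.image_singleton, ← Ideal.map_span]
    exact (Ideal.map_symm (Scheme.ΓSpecIso (CommRingCat.of A)).commRingCatIsoToRingEquiv).symm
  have hU : ModPair.interior J = (Spec (CommRingCat.of A)).basicOpen a := by
    rw [← ModPairLib.interior_inter_eq_basicOpen hJ, top_inf_eq]
  haveI : LocallyQuasiFinite q := by
    haveI := S18734.localAtSource.{u}
    refine (IsZariskiLocalAtSource.iff_of_openCover Q.affineCover).mpr fun i => ?_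
    have key : ∀ {Γ₀ : CommRingCat.{u}} (j : Spec Γ₀ ⟶ Q) [IsOpenImmersion j],
        LocallyQuasiFinite (j ≫ q) := by
      intro Γ₀ j _
      obtain ⟨φ, hφ⟩ := Spec.map_surjective (j ≫ q)
      rw [← hφ, HasRingHomProperty.Spec_iff (P := @LocallyQuasiFinite)]
      letI : Algebra A Γ₀ := φ.hom.toAlgebra
      show Algebra.QuasiFinite A Γ₀
      haveI : Algebra.FiniteType A Γ₀ := by
        have h : LocallyOfFiniteType (Spec.map φ) := hφ ▸ inferInstance
        exact (HasRingHomProperty.Spec_iff (P := @LocallyOfFiniteType)).mp h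
      have e : (Spec.map φ).appTop a = (Scheme.ΓSpecIso Γ₀).inv (φ f) := by
        show ((Scheme.ΓSpecIso (CommRingCat.of A)).inv ≫ (Spec.map φ).appTop) f = _
        rw [← Scheme.ΓSpecIso_inv_naturality]
        rfl
      have hnzd : algebraMap A Γ₀ f ∈ nonZeroDivisors Γ₀ := by
        have h1 : BlowUp.IsEffCartierIdeal (J.comap (Spec.map φ)) := by
          rw [hφ, Scheme.IdealSheafData.comap_comp, ← show IQ = J.comap q from hq]
          exact BlowUpLib.isEffCartier_comap_flat j hQ
        have h2 := ModPairLib.generator_mem_nonZeroDivisors h1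
          (W := ⟨⊤, isAffineOpen_top _⟩) (a := (Spec.map φ).appTop a)
          (by rw [ModPairLib.comap_ideal_affine, hJ, Ideal.map_span, Set.image_singleton])
        have h3 := ModPairLib.mem_nonZeroDivisors_map (Scheme.ΓSpecIso Γ₀).hom.hom
          (ConcreteCategory.bijective_of_isIso _) h2
        rwa [e, show (Scheme.ΓSpecIso Γ₀).hom.hom ((Scheme.ΓSpecIso Γ₀).inv (φ f)) = φ f from by
          rw [← CommRingCat.comp_apply, Iso.inv_hom_id]; rfl] at h3
      haveI : Algebra.QuasiFinite A (Localization.Away (algebraMap A Γ₀ f)) := by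
        let L := Localization.Away (algebraMap A Γ₀ f)
        let m := Spec.map (CommRingCat.ofHom (algebraMap Γ₀ L))
        haveI : IsOpenImmersion m := IsOpenImmersion.of_isLocalization (algebraMap A Γ₀ f)
        let U := ModPair.interior J
        have hrange : Set.range (m ≫ j) ⊆ Set.range (q ⁻¹ᵁ U).ι := by
          rw [Scheme.Opens.range_ι]
          rintro _ ⟨x, rfl⟩
          have hx : m x ∈ PrimeSpectrum.basicOpen (algebraMap A Γ₀ f) := by
            show _ ∈ (PrimeSpectrum.basicOpen (algebraMap A Γ₀ f) : Set (PrimeSpectrum Γ₀))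
            rw [← PrimeSpectrum.localization_away_comap_range L (algebraMap A Γ₀ f)]
            exact ⟨x, rfl⟩
          show (j ≫ q) (m x) ∈ U
          rw [← hφ, show U = _ from hU, show (Spec (CommRingCat.of A)).basicOpen a = PrimeSpectrum.basicOpen f from basicOpen_eq_of_affine (R := CommRingCat.of A) f]
          exact hx
        let l := IsOpenImmersion.lift (q ⁻¹ᵁ U).ι (m ≫ j) hrange
        haveI : IsFinite (q ∣_ U) := hfin
        haveI : IsOpenImmersion l := by
          haveI : IsOpenImmersion (l ≫ (q ⁻¹ᵁ U).ι) := by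
            rw [IsOpenImmersion.lift_fac]; infer_instance
          exact IsOpenImmersion.of_comp l (q ⁻¹ᵁ U).ι
        have h1 : LocallyQuasiFinite (Spec.map (φ ≫ CommRingCat.ofHom (algebraMap Γ₀ L))) := by
          rw [Spec.map_comp, hφ, ← Category.assoc]
          show LocallyQuasiFinite ((m ≫ j) ≫ q)
          rw [← IsOpenImmersion.lift_fac (q ⁻¹ᵁ U).ι (m ≫ j) hrange, Category.assoc,
            ← morphismRestrict_ι]
          infer_instance
        rw [HasRingHomProperty.Spec_iff (P := @LocallyQuasiFinite)] at h1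
        have h2 : (φ ≫ CommRingCat.ofHom (algebraMap Γ₀ L)).hom = algebraMap A L :=
          (IsScalarTower.algebraMap_eq A Γ₀ L).symm
        rw [h2] at h1
        exact RingHom.quasiFinite_algebraMap.mp h1
      exact ModPairSemiVal.quasiFinite_of_away hnzd 𝔮 hdiv huniq hV
    exact @key _ (Q.affineCover.f i) (Q.affineCover.map_prop i)
  exact IsFinite.of_isProper_of_locallyQuasiFinite q

/-- Let O be a local ring with residue field κ, R a valuation ring of κ, A ⊆ O the subring of elements
whose residue class lies in R (the fibre product ring R ×_κ O, a semi-valuation ring), and f an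
element of A such that O is the localization of A obtained by inverting f. Equip P = Spec A with the
modulus V(f), the closed subscheme cut out by f (an effective Cartier divisor: f is a unit of O, so
a nonzerodivisor of A), whose interior is Spec O. Let q : Q ⟶ P be a proper, minimal morphism of
modulus pairs (the modulus of Q is the pull-back of V(f) and is an effective Cartier divisor) whose
restriction over the interior of P is a finite morphism. Then q is finite. -/
theorem result {O : Type u} [CommRing O]
    [IsLocalRing O] (R : ValuationSubring (IsLocalRing.ResidueField O))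
    (f : ↥((R.toSubring).comap (IsLocalRing.residue O)))
    [IsLocalization.Away f O] {Q : Scheme.{u}} (IQ : Q.IdealSheafData)
    (hQ : BlowUp.IsEffCartierIdeal IQ)
    (q : Q ⟶ Spec (CommRingCat.of ↥((R.toSubring).comap (IsLocalRing.residue O))))
    (hq : ModPair.IsMinimal IQ
      (Spec.map (CommRingCat.ofHom (Ideal.Quotient.mk (Ideal.span {f})))).ker q)
    [IsProper q]
    (hfin : IsFinite (q ∣_ ModPair.interior
      (Spec.map (CommRingCat.ofHom (Ideal.Quotient.mk (Ideal.span {f})))).ker)) :
    IsFinite q := by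
  let A := (R.toSubring).comap (IsLocalRing.residue O)
  let π : ↥A →+* ↥R := ((IsLocalRing.residue O).comp A.subtype).codRestrict R fun x => x.2
  have hπ : Function.Surjective π := fun r => by
    obtain ⟨x, hx⟩ := IsLocalRing.residue_surjective (R := O) r.1
    exact ⟨⟨x, show IsLocalRing.residue O x ∈ R.toSubring from hx ▸ r.2⟩, Subtype.ext hx⟩
  haveI : (RingHom.ker π).IsPrime := RingHom.ker_isPrime π
  have hmem : ∀ x : ↥A, x ∈ RingHom.ker π ↔ IsLocalRing.residue O x.1 = 0 := fun x =>
    ⟨fun h => congrArg Subtype.val h, fun h => Subtype.ext h⟩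
  refine aux f (RingHom.ker π) ?_ ?_ ?_ IQ hQ q hq hfin
  · intro x hx
    obtain ⟨w, hw⟩ := (IsLocalization.Away.algebraMap_isUnit f : IsUnit (algebraMap ↥A O f))
    have h0 : IsLocalRing.residue O (x.1 * (↑w⁻¹ : O)) = 0 := by
      rw [map_mul, (hmem x).1 hx, zero_mul]
    refine ⟨⟨x.1 * (↑w⁻¹ : O), show IsLocalRing.residue O _ ∈ R.toSubring by
      rw [h0]; exact zero_mem _⟩, (hmem _).2 h0, Subtype.ext ?_⟩
    show x.1 = f.1 * (x.1 * (↑w⁻¹ : O))
    rw [show f.1 = (↑w : O) from hw.symm, mul_left_comm, Units.mul_inv, mul_one]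
  · intro t ht hle hft
    refine le_antisymm (fun x hx => (hmem x).2 ?_) hle
    have hd : Disjoint (Submonoid.powers f : Set ↥A) (t : Set ↥A) := by
      rw [Set.disjoint_left]
      rintro _ ⟨n, rfl⟩ h
      exact hft (ht.mem_of_pow_mem n h)
    have hne : t.map (algebraMap ↥A O) ≠ ⊤ := fun h => ht.ne_top <| by
      rw [← IsLocalization.under_map_of_isPrime_disjoint (Submonoid.powers f) O ht hd, h]
      exact Ideal.comap_top
    rw [IsLocalRing.residue_eq_zero_iff]
    exact IsLocalRing.le_maximalIdeal hne (Ideal.mem_map_of_mem _ hx)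
  · exact Function.Surjective.valuationRing
      (RingHom.quotientKerEquivOfSurjective hπ).symm.toRingHom
      (RingHom.quotientKerEquivOfSurjective hπ).symm.surjective

end Groth.Agent.S18753
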