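import Groth.Statements.S18754
import Groth.Agent.MorLib.EventuallyCI
import Groth.Agent.ModPairLib.Dense

set_option autoImplicit false
universe u
open CategoryTheory CategoryTheory.Limits AlgebraicGeometry TopologicalSpace
open ModPair

namespace Groth.Agent.S18754

set_option linter.style.haveILetI false
set_option backward.isDefEq.respectTransparency.types false

/-- Let (Y, I_Y) be a modulus pair with Y quasi-compact and quasi-separated, and let (X_i ⟶ Y) be a
cofiltered system of Y-schemes with affine transition morphisms such that every X_i is quasi-compact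
and quasi-separated, the pulled-back ideal I_Y.comap (X_i ⟶ Y) is the ideal of an effective Cartier
divisor, and X_i ⟶ Y is an abstract admissible blow-up of modulus pairs which is locally of finite
presentation. Let X be the limit of the system over Y and suppose that X ⟶ Y, with the pulled-back
modulus (assumed effective Cartier), is also an abstract admissible blow-up. Then X ⟶ Y is locally
of finite presentation: an abstract admissible blow-up of quasi-compact quasi-separated modulus
pairs which is not of finite presentation is never a limit of finitely presented ones. -/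
theorem result {Y : Scheme.{u}}
    [CompactSpace Y] [QuasiSeparatedSpace Y] (IY : Y.IdealSheafData) (hY : BlowUp.IsEffCartierIdeal IY)
    {I : Type u} [SmallCategory I] [IsCofiltered I] (D : I ⥤ Over Y) (c : Cone D) (hc : IsLimit c)
    [∀ (i j : I) (t : i ⟶ j), IsAffineHom (D.map t).left]
    [∀ i, CompactSpace (D.obj i).left] [∀ i, QuasiSeparatedSpace (D.obj i).left]
    (hI : ∀ i, BlowUp.IsEffCartierIdeal (IY.comap (D.obj i).hom))
    (hadm : ∀ i, ModPair.IsAdmBlowup (IY.comap (D.obj i).hom) IY (D.obj i).hom)
    [∀ i, LocallyOfFinitePresentation (D.obj i).hom]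
    (hX : BlowUp.IsEffCartierIdeal (IY.comap c.pt.hom))
    (hXadm : ModPair.IsAdmBlowup (IY.comap c.pt.hom) IY c.pt.hom) :
    LocallyOfFinitePresentation c.pt.hom := by
  let D' : I ⥤ Scheme.{u} := D ⋙ CategoryTheory.Over.forget Y
  let c' : Cone D' := (CategoryTheory.Over.forget Y).mapCone c
  have hc' : IsLimit c' := isLimitOfPreserves _ hc
  haveI : ∀ {i j : I} (t : i ⟶ j), IsAffineHom (D'.map t) := fun {i j} t =>
    (inferInstance : IsAffineHom (D.map t).left)
  obtain ⟨i₀⟩ : Nonempty I := IsCofiltered.nonempty
  haveI : CompactSpace (D'.obj i₀) := inferInstanceAs (CompactSpace (D.obj i₀).left)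
  haveI : IsProper c.pt.hom := hXadm.2.1
  have hft : LocallyOfFiniteType c.pt.hom := inferInstance
  haveI : LocallyOfFiniteType (𝟙 c'.pt ≫ c'.π.app i₀ ≫ (D.obj i₀).hom) := by
    rw [Category.id_comp, show c'.π.app i₀ ≫ (D.obj i₀).hom = c.pt.hom from CategoryTheory.Over.w (c.π.app i₀)]
    exact hft
  obtain ⟨j, hj⟩ := Groth.Agent.MorLib.EvCI.exists_isClosedImmersion hc' i₀ (D.obj i₀).hom (𝟙 c'.pt)
  let k := j.left
  have hcl : IsClosedImmersion ((c.π.app k).left) := by
    have := hj j (𝟙 j)
    rw [Category.id_comp] at this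
    exact this
  let g := (D.obj k).hom
  let π := (c.π.app k).left
  have hw : π ≫ g = c.pt.hom := CategoryTheory.Over.w (c.π.app k)
  haveI := ModPairLib.isAffineHom_interior (ModPairLib.isLocPrincipal_of_isEffCartier (hI k))
  haveI := ModPairLib.isSchemeTheoreticallyDominant_interior (hI k)
  haveI := hcl
  -- over the interior the projection is an isomorphism
  haveI : IsIso (π ∣_ (g ⁻¹ᵁ ModPair.interior IY)) := by
    haveI : IsIso (g ∣_ ModPair.interior IY) := (hadm k).2.2
    have h2 : IsIso ((π ≫ g) ∣_ ModPair.interior IY) := by rw [hw]; exact hXadm.2.2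
    rw [morphismRestrict_comp] at h2
    exact @IsIso.of_isIso_comp_right _ _ _ _ _ _ (g ∣_ ModPair.interior IY) ‹IsIso (g ∣_ ModPair.interior IY)› h2
  haveI : IsIso π := by
    rw [IsClosedImmersion.isIso_iff_ker_eq_bot, ← le_bot_iff]
    refine le_trans ?_ (ModPair.interior (IY.comap g)).ι.ker_eq_bot.le
    have e : (ModPair.interior (IY.comap g)).ι =
        ((D.obj k).left.isoOfEq (ModPairLib.preimage_interior IY g).symm).hom ≫
          inv (π ∣_ (g ⁻¹ᵁ ModPair.interior IY)) ≫ (π ⁻¹ᵁ (g ⁻¹ᵁ ModPair.interior IY)).ι ≫ π := by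
      rw [← morphismRestrict_ι, IsIso.inv_hom_id_assoc, Scheme.isoOfEq_hom_ι]
    rw [e, ← Category.assoc, ← Category.assoc]
    exact Scheme.Hom.le_ker_comp _ π
  rw [← hw]
  infer_instance

end Groth.Agent.S18754
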