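import Groth.Statements.S18755
import Groth.Agent.ModPairLib.AmbProd

set_option autoImplicit false
universe u
open CategoryTheory CategoryTheory.Limits AlgebraicGeometry TopologicalSpace
open ModPair

namespace Groth.Agent.S18755

/-- Let (S₀, I₀), (S₁, I₁), (T, J), (X, I) be schemes with quasi-coherent ideal sheaves of effective
Cartier divisors, f : X ⟶ S₁, g : T ⟶ S₁ and σ : S₁ ⟶ S₀ morphisms satisfying the modulus condition,
and let (Y₁, K₁) with π₁ and (Y₀, K₀) with π₀ be ambient products of (X, I) and (T, J) over S₁ and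
over S₀ (the latter for f ≫ σ and g ≫ σ): blow-ups of the scheme-theoretic image of the product of
the interiors inside X ×_{S₁} T, resp. X ×_{S₀} T, in the intersection of the pulled-back moduli,
with K·E = D_X·D_T. Then the ambient product is functorial in the base: there is a unique morphism φ
: Y₁ ⟶ Y₀ compatible with the maps to X ×_{S₀} T (through the canonical X ×_{S₁} T ⟶ X ×_{S₀} T),
and every such φ is minimal, K₁ = K₀.comap φ. -/
theorem result {S₀ S₁ T X Y₁ Y₀ : Scheme.{u}} (I₀ : S₀.IdealSheafData)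
    (I₁ : S₁.IdealSheafData) (J : T.IdealSheafData) (I : X.IdealSheafData)
    (h₀ : BlowUp.IsEffCartierIdeal I₀) (h₁ : BlowUp.IsEffCartierIdeal I₁)
    (hT : BlowUp.IsEffCartierIdeal J) (hX : BlowUp.IsEffCartierIdeal I)
    (f : X ⟶ S₁) (hf : ModPair.IsAmbient I I₁ f) (g : T ⟶ S₁) (hg : ModPair.IsAmbient J I₁ g)
    (σ : S₁ ⟶ S₀) (hσ : ModPair.IsAmbient I₁ I₀ σ)
    (π₁ : Y₁ ⟶ ModPair.mprod f g I J) (K₁ : Y₁.IdealSheafData) (hY₁ : ModPair.IsAmbProd f g I J π₁ K₁)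
    (π₀ : Y₀ ⟶ ModPair.mprod (f ≫ σ) (g ≫ σ) I J) (K₀ : Y₀.IdealSheafData)
    (hY₀ : ModPair.IsAmbProd (f ≫ σ) (g ≫ σ) I J π₀ K₀) :
    (∃! φ : Y₁ ⟶ Y₀, φ ≫ π₀ ≫ ModPair.mprodι (f ≫ σ) (g ≫ σ) I J =
        π₁ ≫ ModPair.mprodι f g I J ≫ pullback.mapDesc f g σ) ∧
      ∀ φ : Y₁ ⟶ Y₀, φ ≫ π₀ ≫ ModPair.mprodι (f ≫ σ) (g ≫ σ) I J =
          π₁ ≫ ModPair.mprodι f g I J ≫ pullback.mapDesc f g σ →
        ModPair.IsMinimal K₁ K₀ φ := by
  exact ModPairLib.ambProd_functorial hT hX f g σ hY₁ hY₀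

end Groth.Agent.S18755
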