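import Groth.Statements.S18756
import Groth.Agent.LimSm.Cover
-- import your own Groth.Agent.* helpers here

set_option autoImplicit false
universe u
open CategoryTheory CategoryTheory.Limits AlgebraicGeometry TopologicalSpace
open ModPair

namespace Groth.Agent.S18756

set_option backward.isDefEq.respectTransparency.types false in
/-- Let (X_i) be a cofiltered system of schemes with affine transition morphisms such that X_{i₀} is
quasi-compact and quasi-separated for some index i₀, let X be its limit, and let {U_a ⟶ X} be an
fppf covering: a jointly surjective family of morphisms which are flat and of finite presentation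
(flat, locally of finite presentation, quasi-compact and quasi-separated). Then the covering
descends: for some index i there is a finite fppf covering {V_j ⟶ X_i}_{j < n} such that every V_j
×_{X_i} X is one of the U_a, i.e. for each j some U_{a_j} ⟶ X is the base change of V_j ⟶ X_i along
X ⟶ X_i. (The source states the same for Zariski, Nisnevich and étale coverings; only the fppf case
is given here.) -/
theorem result {I : Type u} [SmallCategory I] [IsCofiltered I]
    (D : I ⥤ Scheme.{u}) (c : Cone D) (hc : IsLimit c)
    [∀ (i j : I) (t : i ⟶ j), IsAffineHom (D.map t)] (i₀ : I) [CompactSpace (D.obj i₀)]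
    [QuasiSeparatedSpace (D.obj i₀)] {ι : Type u} (U : ι → Scheme.{u}) (u : ∀ a, U a ⟶ c.pt)
    [∀ a, Flat (u a)] [∀ a, LocallyOfFinitePresentation (u a)] [∀ a, QuasiCompact (u a)]
    [∀ a, QuasiSeparated (u a)] (hcov : ∀ x : c.pt, ∃ (a : ι) (y : U a), (u a).base y = x) :
    ∃ (i : I) (n : ℕ) (V : Fin n → Scheme.{u}) (v : ∀ j, V j ⟶ D.obj i) (a : Fin n → ι)
      (e : ∀ j, U (a j) ⟶ V j),
      (∀ j, Flat (v j) ∧ LocallyOfFinitePresentation (v j) ∧ QuasiCompact (v j) ∧ QuasiSeparated (v j)) ∧
      (∀ x : D.obj i, ∃ (j : Fin n) (y : V j), (v j).base y = x) ∧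
      ∀ j, IsPullback (e j) (u (a j)) (v j) (c.π.app i) := by
  haveI : MorphismProperty.RespectsIso (@Flat : MorphismProperty Scheme.{u}) :=
    MorphismProperty.IsStableUnderBaseChange.respectsIso
  obtain ⟨i, n, V, v, a, e, h1, h2, h3⟩ := Groth.Agent.LimSm.exists_descend_cover (P := @Flat)
    Groth.Agent.LimSm.core_flat (fun f _ h => by haveI := h; exact f.isOpenMap.isOpen_range)
    D c hc i₀ U u (fun a => inferInstance) hcov
  exact ⟨i, n, V, v, a, e, fun j => ⟨(h1 j).1, (h1 j).2.1, (h1 j).2.2.1, (h1 j).2.2.2⟩, h2, h3⟩

end Groth.Agent.S18756
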