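import Groth.Statements.S18759
import Groth.Agent.ModDesc.Approx

set_option autoImplicit false
universe u
open CategoryTheory CategoryTheory.Limits AlgebraicGeometry TopologicalSpace
open ModPair

namespace Groth.Agent.S18759

/-- Let (X, I_X) and (Y, I_Y) be modulus pairs with X, Y quasi-compact and quasi-separated, and f : X ⟶
Y an ambient morphism (modulus condition I_X ≤ I_Y.comap f) which is locally of finite type. Then X
⟶ Y is a cofiltered limit of Y-schemes X_i such that: (1) every X_i ⟶ Y is of finite presentation
and all transition maps X_i ⟶ X_j and projections X ⟶ X_i are closed immersions; (2) every X_i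
carries a locally principal quasi-coherent ideal sheaf J_i whose pull-back to X is I_X and whose
pull-back along each transition map X_i ⟶ X_j of J_j is J_i; (3) every X_i ⟶ Y satisfies the modulus
condition for J_i, and if f is minimal all X_i ⟶ Y are minimal; (4) if f is proper all X_i ⟶ Y are
proper; (5) if f is minimal and an isomorphism over the interior of Y, every X_i ⟶ Y is an
isomorphism over the interior of Y. (Part (5) is given here in the minimal case, where the interior
of (X_i, J_i) is the preimage of the interior of Y.) -/
theorem result {X Y : Scheme.{u}}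
    [CompactSpace X] [QuasiSeparatedSpace X] [CompactSpace Y] [QuasiSeparatedSpace Y]
    (IX : X.IdealSheafData) (IY : Y.IdealSheafData) (hX : BlowUp.IsEffCartierIdeal IX)
    (hY : BlowUp.IsEffCartierIdeal IY) (f : X ⟶ Y) (hf : ModPair.IsAmbient IX IY f)
    [LocallyOfFiniteType f] :
    ∃ (I : Type u) (_ : SmallCategory I) (_ : IsCofiltered I) (D : I ⥤ Over Y) (c : Cone D)
      (_ : IsLimit c) (e : c.pt ≅ Over.mk f) (J : ∀ i, (D.obj i).left.IdealSheafData),
      (∀ i, LocallyOfFinitePresentation (D.obj i).hom ∧ QuasiCompact (D.obj i).hom ∧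
          QuasiSeparated (D.obj i).hom) ∧
        (∀ (i j : I) (t : i ⟶ j), IsClosedImmersion (D.map t).left) ∧
        (∀ i, IsClosedImmersion (c.π.app i).left) ∧
        (∀ i, Curv2.IsLocPrincipal (J i)) ∧
        (∀ i, IX = (J i).comap (e.inv.left ≫ (c.π.app i).left)) ∧
        (∀ (i j : I) (t : i ⟶ j), J i = (J j).comap (D.map t).left) ∧
        (∀ i, ModPair.IsAmbient (J i) IY (D.obj i).hom) ∧
        (ModPair.IsMinimal IX IY f → ∀ i, ModPair.IsMinimal (J i) IY (D.obj i).hom) ∧
        (IsProper f → ∀ i, IsProper (D.obj i).hom) ∧
        (ModPair.IsMinimal IX IY f → IsIso (f ∣_ ModPair.interior IY) →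
          ∀ i, IsIso ((D.obj i).hom ∣_ ModPair.interior IY)) := by
  exact Groth.Agent.ModDesc.exists_approx IX IY hX hY f hf

end Groth.Agent.S18759
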