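import Groth.Statements.S1876
import Mathlib

set_option autoImplicit false
universe u
open CategoryTheory
attribute [local instance] HasDerivedCategory.standard
open Trace

namespace Groth.Agent.S1876

/-- Commutative coefficient ring, finite free terms: let P and Q be bounded complexes of finite free
Λ-modules with chain endomorphisms f and g, and α : P ≅ Q an isomorphism in the derived category
D(Λ) with α ∘ f = g ∘ α there. Then Σ_i (−1)^i Tr(f^i | P^i) = Σ_i (−1)^i Tr(g^i | Q^i); that is,
the trace of an endomorphism of a perfect object of D(Λ) is well defined. -/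
theorem result (Λ : Type u) [CommRing Λ] (P Q : DRing.Cx Λ) (a b : ℤ) (hP : DRing.VanishesOutside P a b) (hQ : DRing.VanishesOutside Q a b) (hPf : DRing.TermwiseFiniteFree P) (hQf : DRing.TermwiseFiniteFree Q) (f : P ⟶ P) (g : Q ⟶ Q) (α : DRing.toD P ≅ DRing.toD Q) (h : α.hom ≫ DerivedCategory.Q.map g = DerivedCategory.Q.map f ≫ α.hom) : ∑ i ∈ Finset.Icc a b, ((i.negOnePow : ℤˣ) : ℤ) • LinearMap.trace Λ (P.X i) (f.f i).hom = ∑ i ∈ Finset.Icc a b, ((i.negOnePow : ℤˣ) : ℤ) • LinearMap.trace Λ (Q.X i) (g.f i).hom := by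
  classical
  let q := HomotopyCategory.quotient (ModuleCat.{u} Λ) (ComplexShape.up ℤ)
  haveI : ∀ i, Module.Free Λ (P.X i) := fun i => (hPf i).2
  haveI : ∀ i, Module.Free Λ (Q.X i) := fun i => (hQf i).2
  haveI : ∀ i, Module.Finite Λ (P.X i) := fun i => (hPf i).1
  haveI : ∀ i, Module.Finite Λ (Q.X i) := fun i => (hQf i).1
  haveI : P.IsStrictlyLE b := (CochainComplex.isStrictlyLE_iff _ _).2 fun i hi => hP i (Or.inr hi)
  haveI : Q.IsStrictlyLE b := (CochainComplex.isStrictlyLE_iff _ _).2 fun i hi => hQ i (Or.inr hi)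
  haveI : ∀ i, Projective (P.X i) := fun i => (IsProjective.iff_projective _).1 Module.Projective.of_free
  haveI : ∀ i, Projective (Q.X i) := fun i => (IsProjective.iff_projective _).1 Module.Projective.of_free
  haveI := CochainComplex.isKProjective_of_projective P b
  haveI := CochainComplex.isKProjective_of_projective Q b
  -- invariance of the alternating trace under homotopy
  have key : ∀ (K : DRing.Cx Λ) [∀ i, Module.Free Λ (K.X i)] [∀ i, Module.Finite Λ (K.X i)],
      DRing.VanishesOutside K a b → ∀ (φ ψ : K ⟶ K), q.map φ = q.map ψ →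
      ∑ i ∈ Finset.Icc a b, ((i.negOnePow : ℤˣ) : ℤ) • LinearMap.trace Λ (K.X i) (φ.f i).hom =
        ∑ i ∈ Finset.Icc a b, ((i.negOnePow : ℤˣ) : ℤ) • LinearMap.trace Λ (K.X i) (ψ.f i).hom := by
    intro K _ _ hK φ ψ hq
    let H := HomotopyCategory.homotopyOfEq _ _ hq
    let t : ℤ → Λ := fun i => LinearMap.trace Λ (K.X i) (K.d i (i + 1) ≫ H.hom (i + 1) i).hom
    have hc : ∀ i, LinearMap.trace Λ (K.X i) (φ.f i).hom =
        t i + t (i - 1) + LinearMap.trace Λ (K.X i) (ψ.f i).hom := by
      intro i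
      rw [H.comm i, dNext_eq _ (show (ComplexShape.up ℤ).Rel i (i + 1) from rfl),
        prevD_eq _ (show (ComplexShape.up ℤ).Rel (i - 1) i from sub_add_cancel i 1),
        ModuleCat.hom_add, ModuleCat.hom_add, map_add, map_add]
      congr 1
      congr 1
      have e : ∀ (j k : ℤ) (hk : j + 1 = k), LinearMap.trace Λ (K.X k) (H.hom k j ≫ K.d j k).hom = t j := by
        rintro j k rfl
        exact LinearMap.trace_comp_comm' _ _
      exact e (i - 1) i (by omega)
    have ht0 : ∀ i, (i < a ∨ b ≤ i) → t i = 0 := by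
      intro i hi
      have hd : K.d i (i + 1) = 0 := by
        rcases hi with hi | hi
        · exact (hK i (Or.inl hi)).eq_of_src _ _
        · exact (hK (i + 1) (Or.inr (by omega))).eq_of_tgt _ _
      simp [t, hd]
    simp only [hc, smul_add, Finset.sum_add_distrib]
    refine add_eq_right.2 ?_
    have hs : ∀ c : ℤ, a ≤ c →
        ∑ i ∈ Finset.Icc a c, ((i.negOnePow : ℤˣ) : ℤ) • t i +
          ∑ i ∈ Finset.Icc a c, ((i.negOnePow : ℤˣ) : ℤ) • t (i - 1) = ((c.negOnePow : ℤˣ) : ℤ) • t c := by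
      intro c hc'
      induction c, hc' using Int.leInduction with
      | base => simp [ht0 (a - 1) (Or.inl (by omega))]
      | succ c hc' ih =>
        rw [← Finset.insert_Icc_right_eq_Icc_add_one (by omega), Finset.sum_insert (by simp),
          Finset.sum_insert (by simp), add_sub_cancel_right,
          show ((c.negOnePow : ℤˣ) : ℤ) = -(((c + 1).negOnePow : ℤˣ) : ℤ) by simp [Int.negOnePow_succ]] at *
        rw [add_add_add_comm, ih, neg_smul]
        abel
    rcases lt_or_ge b a with hba | hba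
    · simp [Finset.Icc_eq_empty_of_lt hba]
    · rw [hs b hba, ht0 b (Or.inr le_rfl), smul_zero]
  let e := DerivedCategory.quotientCompQhIso (ModuleCat.{u} Λ)
  obtain ⟨u', hu'⟩ := (CochainComplex.IsKProjective.Qh_map_bijective P (q.obj Q)).2
    (e.hom.app P ≫ α.hom ≫ e.inv.app Q)
  obtain ⟨v', hv'⟩ := (CochainComplex.IsKProjective.Qh_map_bijective Q (q.obj P)).2
    (e.hom.app Q ≫ α.inv ≫ e.inv.app P)
  obtain ⟨u₀, rfl⟩ := q.map_surjective u'
  obtain ⟨v₀, rfl⟩ := q.map_surjective v'
  have hQu : DerivedCategory.Q.map u₀ = α.hom :=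
    (cancel_epi (e.hom.app P)).1 ((e.hom.naturality u₀).symm.trans
      ((congrArg (· ≫ e.hom.app Q) hu').trans (by simp)))
  have hQv : DerivedCategory.Q.map v₀ = α.inv :=
    (cancel_epi (e.hom.app Q)).1 ((e.hom.naturality v₀).symm.trans
      ((congrArg (· ≫ e.hom.app P) hv').trans (by simp)))
  have inj : ∀ (X Y : DRing.Cx Λ) [X.IsKProjective] (c d : X ⟶ Y),
      DerivedCategory.Q.map c = DerivedCategory.Q.map d → q.map c = q.map d := fun X Y _ c d hcd => by
    refine (CochainComplex.IsKProjective.Qh_map_bijective X (q.obj Y)).1 ?_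
    have hc := e.hom.naturality c
    have hd := e.hom.naturality d
    simp only [Functor.comp_map] at hc hd
    rw [hcd, ← hd] at hc
    exact (cancel_mono (e.hom.app Y)).1 hc
  have hPfv : q.map f = q.map (u₀ ≫ g ≫ v₀) := inj _ _ _ _ (by
    simp only [Functor.map_comp, hQu, hQv]
    rw [← Category.assoc, h, Category.assoc, α.hom_inv_id, Category.comp_id])
  have hQgv : q.map g = q.map ((g ≫ v₀) ≫ u₀) := inj _ _ _ _ (by
    simp only [Functor.map_comp, hQu, hQv]
    rw [Category.assoc, α.inv_hom_id, Category.comp_id])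
  rw [key P hP f _ hPfv, key Q hQ g _ hQgv]
  refine Finset.sum_congr rfl fun i _ => ?_
  congr 1
  exact LinearMap.trace_comp_comm' (u₀.f i).hom ((g ≫ v₀).f i).hom

end Groth.Agent.S1876
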