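import Groth.Statements.S18761
import Groth.Agent.AGF20Lib.CurveConst
import Groth.Agent.GrpSchLib.HomSplitLocal
import Groth.Agent.MorLib.BddFib
-- import your own Groth.Agent.* helpers here

set_option autoImplicit false
set_option backward.isDefEq.respectTransparency false
set_option backward.isDefEq.respectTransparency.types false
set_option synthInstance.maxHeartbeats 400000
set_option linter.style.haveILetI false
set_option backward.isDefEq.respectTransparency.types false
set_option maxHeartbeats 1000000
universe u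
open CategoryTheory MonoidalCategory CartesianMonoidalCategory MonObj GrpObj AlgebraicGeometry
open AlgGrp

open CategoryTheory.Limits
open scoped CategoryTheory.Obj

namespace Groth.Agent.S18761

/-- Let k be an algebraically closed field, S a smooth, proper and integral curve over k (integral,
smooth and proper over k of dimension one), G a finite group scheme over k, and H a closed subgroup
scheme of the base change G_S = G ×_k S whose structure morphism H → S is faithfully flat, such that
the direct image of O_H on S is locally free of rank m and its space of global sections, that is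
Γ(H, O_H), has dimension exactly m over k. Then H descends to k: there are a group scheme H' over k,
a homomorphism H' → G which is a closed immersion, and an isomorphism of S-group schemes H ≅ H' ×_k
S carrying the inclusion of H into G_S to the base change of H' → G; moreover the induced ring map
Γ(H', O) → Γ(H, O_H) is bijective, so that H' is the spectrum of Γ(H, O_H). -/
theorem result
    (k : Type u) [Field k] [IsAlgClosed k] (S : Scheme.{u}) [S.Over (Spec (CommRingCat.of k))]
    [IsIntegral S] [IsProper (S ↘ Spec (CommRingCat.of k))] [Smooth (S ↘ Spec (CommRingCat.of k))]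
    (hdim : topologicalKrullDim S = 1)
    (G : Over (Spec (CommRingCat.of k))) [GrpObj G] [IsFinite G.hom]
    (H : Over S) [GrpObj H] (i : H ⟶ Red.bc (S ↘ Spec (CommRingCat.of k)) G) [IsMonHom i]
    [IsClosedImmersion i.left] [Flat H.hom] [Surjective H.hom] (m : ℕ)
    (hE : FlatMod.IsFinLocFreeOfRank m ((Coh.push H.hom).obj (Coh.structureModule H.left)))
    (hh0 : Module.finrank k (Coh.HH S ((Coh.push H.hom).obj (Coh.structureModule H.left)) 0) = m) :
    ∃ (H' : Grp (Over (Spec (CommRingCat.of k)))) (j : H'.X ⟶ G), IsMonHom j ∧ IsClosedImmersion j.left ∧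
      ∃ e : H ≅ Red.bc (S ↘ Spec (CommRingCat.of k)) H'.X, IsMonHom e.hom ∧
        e.hom ≫ (Over.pullback (S ↘ Spec (CommRingCat.of k))).map j = i ∧
        Function.Bijective (e.hom.left ≫ Limits.pullback.fst H'.X.hom (S ↘ Spec (CommRingCat.of k))).appTop.hom := by
  let f := S ↘ Spec (CommRingCat.of k)
  let bG := Red.bc f G
  haveI : IsFinite bG.hom := inferInstanceAs (IsFinite (pullback.snd G.hom f))
  haveI : IsFinite H.hom := by
    rw [← Over.w i]; infer_instance
  haveI : LocallyOfFinitePresentation f := inferInstance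
  haveI : IsLocallyNoetherian S := LocallyOfFiniteType.isLocallyNoetherian f
  haveI : IsLocallyNoetherian H.left := LocallyOfFiniteType.isLocallyNoetherian H.hom
  haveI : LocallyOfFinitePresentation H.hom := inferInstance
  -- the rank
  have hr : ∀ y : S, H.hom.finrank y = m := fun y => by
    obtain ⟨U, hU, hy, ⟨l⟩⟩ := H23.CoverPush.crit_of_isFinLocFreeOfRank_push H.hom hE y
    letI := H23.CoverPush.alg H.hom U
    haveI : Module.Free Γ(S, U) Γ(H.left, H.hom ⁻¹ᵁ U) := Module.Free.of_equiv l.symm
    haveI : Module.Finite Γ(S, U) Γ(H.left, H.hom ⁻¹ᵁ U) := Module.Finite.equiv l.symm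
    haveI : Nontrivial Γ(S, U) := (S.presheaf.germ U y hy).hom.domain_nontrivial
    rw [H23.CoverPush.finrank_eq H.hom hU hy, Module.rankAtStalk_eq_finrank_of_free, Pi.natCast_apply, l.finrank_eq,
      Module.finrank_finsupp_self, Fintype.card_ulift, Fintype.card_fin]
    rfl
  -- a rational point
  haveI : Nonempty S := inferInstance
  haveI : JacobsonSpace S := LocallyOfFiniteType.jacobsonSpace f
  obtain ⟨s₀, -, hs₀⟩ := nonempty_inter_closedPoints
    (Set.univ_nonempty (α := S)) isClosed_univ.isLocallyClosed
  let s₁ := (pointEquivClosedPoint f).symm ⟨s₀, hs₀⟩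
  let s : Spec (CommRingCat.of k) ⟶ S := s₁.1
  have hs : s ≫ f = 𝟙 _ := s₁.2
  have hm : 0 < m := by
    have := (Scheme.Hom.one_le_finrank_iff_surjective (f := H.hom)).mpr inferInstance
    have h1 := this s₀
    rw [hr] at h1
    exact h1
  -- the subgroup
  obtain ⟨ν, hν, hνi, hνl⟩ := AGF20Lib.CurveConst.exists_sectionIso s f hs G
  haveI := hν; haveI := hνi
  let H₀ : Over (Spec (CommRingCat.of k)) := Red.bc s H
  let j : H₀ ⟶ G := (Over.pullback s).map i ≫ ν
  haveI : IsMonHom ((Over.pullback s).map i : Red.bc s H ⟶ Red.bc s (Red.bc f G)) :=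
    inferInstanceAs (IsMonHom ((Over.pullback s).map i))
  haveI : IsMonHom j := inferInstance
  haveI : IsIso ν.left := inferInstanceAs (IsIso ((Over.forget _).map ν))
  haveI : IsClosedImmersion j.left := by
    haveI : IsClosedImmersion ((Over.pullback s).map i).left :=
      MorphismProperty.of_isPullback (P := @IsClosedImmersion) (GrpSchLib.HomSplitLocal.isPullback_map i s) inferInstance
    show IsClosedImmersion (((Over.pullback s).map i).left ≫ ν.left)
    infer_instance
  let π : H.left ⟶ G.left := i.left ≫ pullback.fst G.hom f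
  have hπ : π ≫ G.hom = H.hom ≫ f := by
    show (i.left ≫ pullback.fst G.hom f) ≫ G.hom = H.hom ≫ f
    rw [Category.assoc, pullback.condition, ← Over.w i, Category.assoc]
    rfl
  have hjl : j.left = pullback.fst H.hom s ≫ π := by
    show ((Over.pullback s).map i).left ≫ ν.left = _
    rw [hνl, ← Category.assoc]
    exact ((congrArg (· ≫ pullback.fst G.hom f) (pullback.lift_fst _ _ _)).trans (Category.assoc _ _ _))
  haveI : IsAffine G.left := isAffine_of_isAffineHom G.hom
  haveI : IsFinite H₀.hom := inferInstanceAs (IsFinite (pullback.snd H.hom s))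
  haveI : Flat H₀.hom := inferInstanceAs (Flat (pullback.snd H.hom s))
  haveI : IsAffine H₀.left := isAffine_of_isAffineHom H₀.hom
  haveI : LocallyOfFinitePresentation H₀.hom :=
    inferInstanceAs (LocallyOfFinitePresentation (pullback.snd H.hom s))
  -- dimensions
  let a : k →+* Γ(G.left, ⊤) := ((Scheme.ΓSpecIso (CommRingCat.of k)).inv ≫ G.hom.appTop).hom
  letI : Algebra k Γ(G.left, ⊤) := a.toAlgebra
  letI : Algebra k Γ(H.left, ⊤) := (π.appTop.hom.comp a).toAlgebra
  letI : Algebra k Γ(H₀.left, ⊤) := ((Scheme.ΓSpecIso (CommRingCat.of k)).inv ≫ H₀.hom.appTop).hom.toAlgebra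
  let ψ : Γ(G.left, ⊤) →ₐ[k] Γ(H.left, ⊤) := { π.appTop.hom with commutes' := fun c => rfl }
  let ψ₀ : Γ(G.left, ⊤) →ₐ[k] Γ(H₀.left, ⊤) :=
    { j.left.appTop.hom with
      commutes' := fun c => by
        show j.left.appTop (G.hom.appTop ((Scheme.ΓSpecIso (CommRingCat.of k)).inv c)) = _
        rw [← CommRingCat.comp_apply, ← Scheme.Hom.comp_appTop, Over.w j]
        rfl }
  have hψ₀ : Function.Surjective ψ₀ := j.left.app_surjective ⊤ (isAffineOpen_top _)
  have h₀dim : Module.finrank k Γ(H₀.left, ⊤) = m := by
    have h1 := Scheme.Hom.finrank_pullback_snd H.hom s (IsLocalRing.closedPoint k)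
    rw [hr] at h1
    let φ := (Scheme.ΓSpecIso (CommRingCat.of k)).inv ≫ H₀.hom.appTop
    have e := MorLib.BF.eq_isoSpec_hom_comp H₀.hom
    haveI : IsFinite (Spec.map φ) := by
      have : IsFinite (H₀.left.isoSpec.inv ≫ H₀.hom) := inferInstance
      rwa [e, Iso.inv_hom_id_assoc] at this
    have hfin : φ.hom.Finite := (IsFinite.SpecMap_iff φ).mp inferInstance
    haveI : Flat (Spec.map φ) := MorLib.BF.flat_to_field (Field.toIsField k) _
    rw [← h1]
    show _ = H₀.hom.finrank _
    rw [e, Scheme.Hom.finrank_comp_left_of_isIso]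
    exact (MorLib.BF.finrank_SpecMap_of_isField (Field.toIsField k) φ hfin _).symm
  let M := (Coh.push H.hom).obj (Coh.structureModule H.left)
  have hdim : Module.finrank k Γ(H.left, ⊤) = m := by
    rw [← hh0]
    symm
    refine LinearEquiv.finrank_eq (?_ : Coh.HH S M 0 ≃ₗ[k] Γ(H.left, ⊤))
    exact
      { SeesawX.HHzeroEquiv M with
        map_smul' := fun c x => by
          refine Eq.trans (show (SeesawX.HHzeroEquiv M) (Sheaf.H.map (Coh.smulAb M (Coh.toGlobal f c)) 0 x) = _ from
            ((Sheaf.H.equiv₀_naturality Limits.isTerminalTop (Coh.smulAb M (Coh.toGlobal f c)) x).symm.trans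
              (Coh.smulAb_app M _ _ _))) ?_
          show H.hom.appTop _ * _ = π.appTop (a c) * _
          congr 1
          show H.hom.appTop _ = π.appTop (G.hom.appTop ((Scheme.ΓSpecIso (CommRingCat.of k)).inv c))
          rw [← CommRingCat.comp_apply, ← CommRingCat.comp_apply, ← Scheme.Hom.comp_appTop, hπ, Scheme.Hom.comp_appTop]
          simp [Coh.toGlobal, Coh.resTop]
          rfl }
  haveI : Module.Finite k Γ(H.left, ⊤) := Module.finite_of_finrank_pos (by rw [hdim]; exact hm)
  haveI : Module.Finite k Γ(H₀.left, ⊤) := Module.finite_of_finrank_pos (by rw [h₀dim]; exact hm)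
  have hle : RingHom.ker ψ.toRingHom ≤ RingHom.ker ψ₀.toRingHom := fun x hx => by
    show j.left.appTop x = 0
    rw [hjl, Scheme.Hom.comp_appTop, CommRingCat.comp_apply, show π.appTop x = 0 from hx, map_zero]
  obtain ⟨φ, hφ⟩ : ∃ φ : Γ(H₀.left, ⊤) →ₐ[k] Γ(H.left, ⊤), Function.Bijective φ ∧ ∀ x, φ (ψ₀ x) = ψ x := by
    have hR : LinearMap.ker ψ.toLinearMap ≤ LinearMap.ker ψ₀.toLinearMap := fun x hx => hle hx
    let r := LinearMap.range ψ.toLinearMap
    let g : r →ₗ[k] Γ(H₀.left, ⊤) :=
      ((LinearMap.ker ψ.toLinearMap).liftQ ψ₀.toLinearMap hR) ∘ₗ ψ.toLinearMap.quotKerEquivRange.symm.toLinearMap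
    have hg : ∀ x, g ⟨ψ x, LinearMap.mem_range_self _ x⟩ = ψ₀ x := fun x => by
      show (LinearMap.ker ψ.toLinearMap).liftQ ψ₀.toLinearMap hR
        (ψ.toLinearMap.quotKerEquivRange.symm ⟨ψ.toLinearMap x, LinearMap.mem_range_self _ x⟩) = _
      rw [LinearMap.quotKerEquivRange_symm_apply_image]
      rfl
    have hgs : Function.Surjective g := fun y => by
      obtain ⟨x, rfl⟩ := hψ₀ y
      exact ⟨_, hg x⟩
    have h1 : m ≤ Module.finrank k r := h₀dim ▸ LinearMap.finrank_le_finrank_of_surjective hgs
    have h2 : r = ⊤ := Submodule.eq_top_of_finrank_eq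
      (le_antisymm (Submodule.finrank_le r) (by rw [hdim]; exact h1))
    have hψs : Function.Surjective ψ := fun y => by
      have : y ∈ r := by rw [h2]; trivial
      exact this
    have hgb : Function.Injective g :=
      (LinearMap.injective_iff_surjective_of_finrank_eq_finrank (by rw [h2, finrank_top, hdim, h₀dim])).mpr hgs
    have hker : RingHom.ker ψ₀.toRingHom ≤ RingHom.ker ψ.toRingHom := fun x hx => by
      have : g ⟨ψ x, LinearMap.mem_range_self _ x⟩ = g 0 := by rw [hg, map_zero]; exact hx
      exact congrArg Subtype.val (hgb this)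
    refine ⟨AlgHom.liftOfSurjective ψ₀ hψ₀ ψ hker, ⟨?_, fun y => ?_⟩, fun x => AlgHom.liftOfSurjective_apply _ hψ₀ _ _ x⟩
    · intro u v huv
      obtain ⟨x, rfl⟩ := hψ₀ u
      obtain ⟨x', rfl⟩ := hψ₀ v
      rw [AlgHom.liftOfSurjective_apply, AlgHom.liftOfSurjective_apply] at huv
      have h3 : g ⟨ψ x, LinearMap.mem_range_self _ x⟩ = g ⟨ψ x', LinearMap.mem_range_self _ x'⟩ :=
        congrArg g (Subtype.ext huv)
      rwa [hg, hg] at h3
    · obtain ⟨x, rfl⟩ := hψs y
      exact ⟨ψ₀ x, AlgHom.liftOfSurjective_apply _ hψ₀ _ _ x⟩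
  let p : H.left ⟶ H₀.left := H.left.toSpecΓ ≫ Spec.map (CommRingCat.ofHom φ.toRingHom) ≫ H₀.left.isoSpec.inv
  have hp : p.appTop = CommRingCat.ofHom φ.toRingHom := by
    have e0 : H₀.left.isoSpec.inv.appTop ≫ (Scheme.ΓSpecIso Γ(H₀.left, ⊤)).hom = 𝟙 _ := by
      rw [← Scheme.toSpecΓ_appTop, ← Scheme.Hom.comp_appTop,
        show H₀.left.toSpecΓ = H₀.left.isoSpec.hom from rfl, Iso.hom_inv_id, Scheme.Hom.id_appTop]
    simp only [p, Scheme.Hom.comp_appTop, Scheme.toSpecΓ_appTop, Category.assoc, Scheme.ΓSpecIso_naturality]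
    rw [← Category.assoc]
    erw [e0]
    exact Category.id_comp _
  have hpj : p ≫ j.left = π := by
    refine ext_of_isAffine ?_
    rw [Scheme.Hom.comp_appTop, hp]
    ext x
    exact hφ.2 x
  have hpk : p ≫ H₀.hom = H.hom ≫ f := by
    rw [← Over.w j, ← Category.assoc, hpj, hπ]
  let bH := Red.bc f H₀
  haveI : IsFinite bH.hom := inferInstanceAs (IsFinite (pullback.snd H₀.hom f))
  haveI : Flat bH.hom := inferInstanceAs (Flat (pullback.snd H₀.hom f))
  haveI : LocallyOfFinitePresentation bH.hom :=
    inferInstanceAs (LocallyOfFinitePresentation (pullback.snd H₀.hom f))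
  let c : H ⟶ bH := Over.homMk (pullback.lift p H.hom hpk) (pullback.lift_snd _ _ _)
  have hc : c ≫ (Over.pullback f).map j = i := by
    ext1
    show pullback.lift p H.hom hpk ≫ pullback.lift _ _ _ = i.left
    apply pullback.hom_ext
    · rw [Category.assoc, pullback.lift_fst, pullback.lift_fst_assoc, hpj]
    · rw [Category.assoc, pullback.lift_snd, pullback.lift_snd]
      exact (Over.w i).symm
  haveI : IsClosedImmersion c.left := by
    haveI : IsClosedImmersion ((Over.pullback f).map j).left :=
      MorphismProperty.of_isPullback (P := @IsClosedImmersion) (GrpSchLib.HomSplitLocal.isPullback_map j f) inferInstance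
    haveI : IsClosedImmersion (c.left ≫ ((Over.pullback f).map j).left) := by
      rw [← Over.comp_left, hc]; infer_instance
    exact IsClosedImmersion.of_comp c.left ((Over.pullback f).map j).left
  haveI : IsIso c.left := AGF20Lib.CurveConst.isIso_of_finrank c.left H.hom bH.hom (Over.w c) fun y => by
    rw [hr]
    show (pullback.snd H₀.hom f).finrank y = m
    rw [Scheme.Hom.finrank_pullback_snd]
    show (pullback.snd H.hom s).finrank _ = m
    rw [Scheme.Hom.finrank_pullback_snd, hr]
  haveI : IsIso c := by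
    haveI : IsIso ((Over.forget _).map c) := ‹IsIso c.left›
    exact isIso_of_reflects_iso c (Over.forget _)
  haveI : IsMonHom ((Over.pullback f).map j : Red.bc f H₀ ⟶ Red.bc f G) :=
    inferInstanceAs (IsMonHom ((Over.pullback f).map j))
  haveI : Mono ((Over.pullback f).map j) := by
    haveI : IsClosedImmersion ((Over.pullback f).map j).left :=
      MorphismProperty.of_isPullback (P := @IsClosedImmersion) (GrpSchLib.HomSplitLocal.isPullback_map j f) inferInstance
    exact Over.mono_of_mono_left _
  haveI : IsMonHom c := by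
    constructor
    · rw [← cancel_mono ((Over.pullback f).map j), Category.assoc, hc, IsMonHom.one_hom i, IsMonHom.one_hom]
    · rw [← cancel_mono ((Over.pullback f).map j), Category.assoc, hc, IsMonHom.mul_hom i, Category.assoc,
        IsMonHom.mul_hom ((Over.pullback f).map j), ← Category.assoc, MonoidalCategory.tensorHom_comp_tensorHom, hc]
  refine ⟨Grp.mk H₀, j, ‹_›, ‹_›, asIso c, ‹_›, hc, ?_⟩
  show Function.Bijective (c.left ≫ pullback.fst H₀.hom f).appTop.hom
  rw [show c.left ≫ pullback.fst H₀.hom f = p from pullback.lift_fst _ _ _, hp]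
  exact hφ.1

end Groth.Agent.S18761
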