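import Groth.Statements.S18762
import Groth.Agent.CechTorsorX.PointedHom
-- import your own Groth.Agent.* helpers here

set_option autoImplicit false
universe u
open CategoryTheory CategoryTheory.Limits MonoidalCategory CartesianMonoidalCategory MonObj GrpObj AlgebraicGeometry
open NonAbH1

namespace Groth.Agent.S18762

/-- Let X be a connected scheme over a field k with a rational point x, let G, G₁, G₂ be finite group
schemes over k with homomorphisms φ₁ : G₁ → G and φ₂ : G₂ → G, and let T, T₁, T₂ be torsors over X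
(fppf-locally trivial) under the base changes to X of G, G₁, G₂ respectively, each pointed by a
k-point lying over x. Let f₁ : T₁ → T and f₂ : T₂ → T be morphisms of pointed torsors: X-morphisms
which intertwine the actions along φ₁, φ₂ and send the marked points of T₁, T₂ to that of T. Then
the fibre product T₁ ×_T T₂ maps surjectively onto X. (The published statement assumes X also
quasi-compact and reduced and concludes that T₁ ×_T T₂ is a torsor over X; this row assumes only X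
connected and concludes that T₁ ×_T T₂ maps onto X.) -/
theorem result
    (k : Type u) [Field k] (X : Scheme.{u}) [X.Over (Spec (CommRingCat.of k))] [ConnectedSpace X]
    (x : Spec (CommRingCat.of k) ⟶ X) (hx : x ≫ (X ↘ Spec (CommRingCat.of k)) = 𝟙 _)
    (G G₁ G₂ : Over (Spec (CommRingCat.of k))) [GrpObj G] [GrpObj G₁] [GrpObj G₂]
    [IsFinite G.hom] [IsFinite G₁.hom] [IsFinite G₂.hom]
    (φ₁ : G₁ ⟶ G) (φ₂ : G₂ ⟶ G) [IsMonHom φ₁] [IsMonHom φ₂]
    (T T₁ T₂ : Over X)
    (a : AlgGrp.Action (Red.bc (X ↘ Spec (CommRingCat.of k)) G) T)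
    (a₁ : AlgGrp.Action (Red.bc (X ↘ Spec (CommRingCat.of k)) G₁) T₁)
    (a₂ : AlgGrp.Action (Red.bc (X ↘ Spec (CommRingCat.of k)) G₂) T₂)
    (hT : NonAbH1.IsTorsorFor Scheme.fppfPrecoverage a)
    (hT₁ : NonAbH1.IsTorsorFor Scheme.fppfPrecoverage a₁)
    (hT₂ : NonAbH1.IsTorsorFor Scheme.fppfPrecoverage a₂)
    (t : Spec (CommRingCat.of k) ⟶ T.left) (t₁ : Spec (CommRingCat.of k) ⟶ T₁.left)
    (t₂ : Spec (CommRingCat.of k) ⟶ T₂.left)
    (ht : t ≫ T.hom = x) (ht₁ : t₁ ≫ T₁.hom = x) (ht₂ : t₂ ≫ T₂.hom = x)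
    (f₁ : T₁ ⟶ T) (f₂ : T₂ ⟶ T)
    (hf₁ : AlgGrp.Action.IsEquivariant a₁ (a.restrict ((Over.pullback (X ↘ Spec (CommRingCat.of k))).map φ₁)) f₁)
    (hf₂ : AlgGrp.Action.IsEquivariant a₂ (a.restrict ((Over.pullback (X ↘ Spec (CommRingCat.of k))).map φ₂)) f₂)
    (hft₁ : t₁ ≫ f₁.left = t) (hft₂ : t₂ ≫ f₂.left = t) :
    Surjective (pullback f₁ f₂).hom := by
  refine ⟨fun y => ?_⟩
  obtain ⟨Ω, _, _, q, hq, ⟨p⟩⟩ := Groth.Agent.CechTorsorX.PointedHom.exists_geometric_point
    (X ↘ Spec (CommRingCat.of k)) hT.1 hT₁ hT₂ hf₁ hf₂ x hx t₁ t₂ ht₁ ht₂ (hft₁.trans hft₂.symm) y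
  exact ⟨p.left (default : Spec (CommRingCat.of Ω)), by
    rw [← Scheme.Hom.comp_apply, Over.w p]
    exact hq⟩

end Groth.Agent.S18762
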