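import Groth.Statements.S18764
import Groth.Agent.CechTorsorX.PointedHomTorsor
-- import your own Groth.Agent.* helpers here

set_option autoImplicit false
set_option backward.isDefEq.respectTransparency false
set_option backward.isDefEq.respectTransparency.types false
set_option linter.style.haveILetI false
universe u
open CategoryTheory CategoryTheory.Limits MonoidalCategory CartesianMonoidalCategory MonObj GrpObj AlgebraicGeometry
open NonAbH1

open CategoryTheory CategoryTheory.Limits MonoidalCategory CartesianMonoidalCategory AlgebraicGeometry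

namespace Groth.Agent.S18764

/-- Let k be a field and X a quasi-compact k-scheme, connected and reduced, having a k-point x; let G,
G₁, G₂ be finite group schemes over k with homomorphisms φ₁ : G₁ → G and φ₂ : G₂ → G, and let T, T₁,
T₂ be torsors over X (fppf-locally trivial) under the base changes to X of G, G₁, G₂ respectively,
each pointed by a k-point lying over x. Let f₁ : T₁ → T and f₂ : T₂ → T be morphisms of pointed
torsors: X-morphisms which intertwine the actions along φ₁, φ₂ and send the marked points of T₁, T₂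
to that of T. Let P be the fibre product group scheme G₁ ×_G G₂ with its projections π₁, π₂. Then
the fibre product T₁ ×_T T₂ carries an action of the base change of P for which both projections to
T₁ and T₂ are equivariant (along π₁, π₂) and which makes it a torsor over X (fppf-locally trivial).
(The published statement says that such an X has a fundamental group scheme; this row states the
closure of finite pointed torsors under fibre products to which it is reduced.) -/
theorem result
    (k : Type u) [Field k] (X : Scheme.{u}) [X.Over (Spec (CommRingCat.of k))] [ConnectedSpace X]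
    [CompactSpace X] [AlgebraicGeometry.IsReduced X]
    (x : Spec (CommRingCat.of k) ⟶ X) (hx : x ≫ (X ↘ Spec (CommRingCat.of k)) = 𝟙 _)
    (G G₁ G₂ : Over (Spec (CommRingCat.of k))) [GrpObj G] [GrpObj G₁] [GrpObj G₂]
    [IsFinite G.hom] [IsFinite G₁.hom] [IsFinite G₂.hom]
    (φ₁ : G₁ ⟶ G) (φ₂ : G₂ ⟶ G) [IsMonHom φ₁] [IsMonHom φ₂]
    (T T₁ T₂ : Over X)
    (a : AlgGrp.Action (Red.bc (X ↘ Spec (CommRingCat.of k)) G) T)
    (a₁ : AlgGrp.Action (Red.bc (X ↘ Spec (CommRingCat.of k)) G₁) T₁)
    (a₂ : AlgGrp.Action (Red.bc (X ↘ Spec (CommRingCat.of k)) G₂) T₂)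
    (hT : NonAbH1.IsTorsorFor Scheme.fppfPrecoverage a)
    (hT₁ : NonAbH1.IsTorsorFor Scheme.fppfPrecoverage a₁)
    (hT₂ : NonAbH1.IsTorsorFor Scheme.fppfPrecoverage a₂)
    (t : Spec (CommRingCat.of k) ⟶ T.left) (t₁ : Spec (CommRingCat.of k) ⟶ T₁.left)
    (t₂ : Spec (CommRingCat.of k) ⟶ T₂.left)
    (ht : t ≫ T.hom = x) (ht₁ : t₁ ≫ T₁.hom = x) (ht₂ : t₂ ≫ T₂.hom = x)
    (f₁ : T₁ ⟶ T) (f₂ : T₂ ⟶ T)
    (hf₁ : AlgGrp.Action.IsEquivariant a₁ (a.restrict ((Over.pullback (X ↘ Spec (CommRingCat.of k))).map φ₁)) f₁)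
    (hf₂ : AlgGrp.Action.IsEquivariant a₂ (a.restrict ((Over.pullback (X ↘ Spec (CommRingCat.of k))).map φ₂)) f₂)
    (hft₁ : t₁ ≫ f₁.left = t) (hft₂ : t₂ ≫ f₂.left = t)
    (P : Over (Spec (CommRingCat.of k))) [GrpObj P] (π₁ : P ⟶ G₁) (π₂ : P ⟶ G₂) [IsMonHom π₁] [IsMonHom π₂]
    (hP : IsPullback π₁ π₂ φ₁ φ₂) :
    ∃ c : AlgGrp.Action (Red.bc (X ↘ Spec (CommRingCat.of k)) P) (pullback f₁ f₂),
      AlgGrp.Action.IsEquivariant c (a₁.restrict ((Over.pullback (X ↘ Spec (CommRingCat.of k))).map π₁)) (pullback.fst f₁ f₂) ∧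
      AlgGrp.Action.IsEquivariant c (a₂.restrict ((Over.pullback (X ↘ Spec (CommRingCat.of k))).map π₂)) (pullback.snd f₁ f₂) ∧
      NonAbH1.IsTorsorFor Scheme.fppfPrecoverage c := by
  let s := X ↘ Spec (CommRingCat.of k)
  haveI : PreservesLimitsOfSize.{0, 0} (Over.pullback s) := (Over.mapPullbackAdj s).rightAdjoint_preservesLimits
  have hP' := hP.map (Over.pullback s)
  have hPs : IsPullback π₁.left π₂.left φ₁.left φ₂.left := hP.map (Over.forget _)
  haveI : IsFinite φ₂.left := by
    haveI : IsFinite (φ₂.left ≫ G.hom) := (Over.w φ₂).symm ▸ inferInstance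
    exact IsFinite.of_comp φ₂.left G.hom
  haveI : IsFinite π₁.left := MorphismProperty.of_isPullback hPs.flip inferInstance
  haveI : IsFinite P.hom := by
    rw [← Over.w π₁]
    infer_instance
  haveI : IsFinite (Red.bc s P).hom := MorphismProperty.pullback_snd P.hom s inferInstance
  haveI : Flat (Red.bc s P).hom := MorphismProperty.pullback_snd P.hom s inferInstance
  haveI : LocallyOfFinitePresentation (Red.bc s P).hom := MorphismProperty.pullback_snd P.hom s inferInstance
  haveI : MorphismProperty.DescendsAlong @IsFinite (@Surjective ⊓ @Flat ⊓ @QuasiCompact : MorphismProperty Scheme.{u}) :=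
    Groth.Agent.EtFound.fpqc_isFinite
  have toFpqc : ∀ {H : Over X} [GrpObj H] {Y : Over X} {b : AlgGrp.Action H Y},
      NonAbH1.IsTorsorFor Scheme.fppfPrecoverage b → NonAbH1.IsTorsorFor Scheme.fpqcPrecoverage b :=
    fun h => ⟨h.1, h.2.imp fun R hR => ⟨Scheme.fppfPrecoverage_le_fpqcPrecoverage _ hR.1, hR.2⟩⟩
  haveI : IsFinite T₁.hom := Groth.Agent.SchTorsor.torsor_property @IsFinite (toFpqc hT₁)
    (MorphismProperty.pullback_snd G₁.hom s inferInstance)
  haveI : IsFinite T₂.hom := Groth.Agent.SchTorsor.torsor_property @IsFinite (toFpqc hT₂)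
    (MorphismProperty.pullback_snd G₂.hom s inferInstance)
  haveI : IsFinite T.hom := Groth.Agent.SchTorsor.torsor_property @IsFinite (toFpqc hT)
    (MorphismProperty.pullback_snd G.hom s inferInstance)
  haveI : IsFinite (pullback f₁ f₂).hom := by
    haveI : IsFinite f₂.left := by
      haveI : IsFinite (f₂.left ≫ T.hom) := (Over.w f₂).symm ▸ inferInstance
      exact IsFinite.of_comp f₂.left T.hom
    have hl : IsPullback (pullback.fst f₁ f₂).left (pullback.snd f₁ f₂).left f₁.left f₂.left :=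
      (IsPullback.of_hasPullback f₁ f₂).map (Over.forget _)
    haveI : IsFinite (pullback.fst f₁ f₂).left := MorphismProperty.of_isPullback hl.flip inferInstance
    rw [← Over.w (pullback.fst f₁ f₂)]
    infer_instance
  have w : (Over.pullback s).map π₁ ≫ (Over.pullback s).map φ₁ = (Over.pullback s).map π₂ ≫ (Over.pullback s).map φ₂ :=
    hP'.w
  refine ⟨Groth.Agent.CechTorsorX.PointedHomTorsor.pbAction a a₁ a₂ _ _ _ _ w hf₁ hf₂,
    Groth.Agent.CechTorsorX.PointedHomTorsor.isEquivariant_fst a a₁ a₂ _ _ _ _ w hf₁ hf₂,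
    Groth.Agent.CechTorsorX.PointedHomTorsor.isEquivariant_snd a a₁ a₂ _ _ _ _ w hf₁ hf₂,
    Groth.Agent.CechTorsorX.PointedHomTorsor.isTorsor_of_geometric_points _
      (Groth.Agent.CechTorsorX.PointedHomTorsor.pbAction_isPseudoTorsor a a₁ a₂ _ _ _ _ w hf₁ hf₂ hT.1 hT₁.1 hT₂.1 hP')
      fun y => ?_⟩
  obtain ⟨Ω, i, -, q, hq, hp⟩ := Groth.Agent.CechTorsorX.PointedHom.exists_geometric_point s hT.1 hT₁ hT₂ hf₁ hf₂ x hx
    t₁ t₂ ht₁ ht₂ (hft₁.trans hft₂.symm) y
  exact ⟨Ω, i, q, hq, hp⟩

end Groth.Agent.S18764
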