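import Groth.Statements.S18774
import Groth.Agent.Lib.CurveStable
import Groth.Agent.Lib.CurveRR
import Groth.Agent.S1536

set_option autoImplicit false
set_option linter.style.haveILetI false
universe u
open CategoryTheory CategoryTheory.Limits AlgebraicGeometry
open VBCurve

namespace Groth.Agent.S18774

open Groth.Agent.CurveBundle Groth.Agent.CurveSlope Groth.Agent.CurveStable

/-- Let k be a finite field and C a smooth proper geometrically integral curve over k (proper, smooth
and geometrically integral over k, of dimension one), and write g = dim_k H^1(C, O_C). Let E be a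
finite locally free O_C-module and F a finite locally free submodule of E of rank r' ≥ 1 (a
monomorphism F → E). Then deg F ≤ r' · (dim_k H^0(C, E) + g − 1), that is, the slope of F is at most
h^0(C, E) + g − 1; here the degree of a rank-n locally free module G is χ(G) − n·χ(O_C). -/
theorem result (k : Type u) [Field k] [Finite k] (X : Scheme.{u}) [X.Over (Spec (CommRingCat.of k))]
    [IsProper (X ↘ Spec (CommRingCat.of k))] [Smooth (X ↘ Spec (CommRingCat.of k))]
    [GeometricallyIntegral (X ↘ Spec (CommRingCat.of k))] (hdim : topologicalKrullDim ↥X = 1)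
    (E : X.Modules) (hE : FlatMod.IsFinLocFree E) (F : X.Modules) (r' : ℕ) (hr' : 0 < r')
    (hF : FlatMod.IsFinLocFreeOfRank r' F) (i : F ⟶ E) [Mono i] :
    Curv2.deg k X F r' ≤ (r' : ℤ) * ((Module.finrank k (Coh.HH X E 0) : ℤ) + (Curv2.genus k X : ℤ) - 1) := by
  haveI : GeometricallyConnected (X ↘ Spec (CommRingCat.of k)) := ⟨fun K _ y Z g₁ g₂ h =>
    haveI := GeometricallyIrreducible.geometrically_irreducibleSpace (f := X ↘ Spec (CommRingCat.of k)) y g₁ g₂ h
    show ConnectedSpace Z from { toNonempty := inferInstance }⟩
  haveI := isIntegral_of_geometricallyConnected k (X := X)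
  haveI := Groth.Agent.GrpSchLib.geometricallyReduced_of_smooth (X ↘ Spec (CommRingCat.of k))
  have h1 : Module.finrank k (Coh.HH X (Coh.structureModule X) 0) = 1 := Groth.Agent.S1536.result k X
  have hχ : Curv2.euler k X (Coh.structureModule X) = 1 - Curv2.genus k X := by
    rw [Groth.Agent.CurveRR.euler_eq_h0_sub_h1 k hdim.le Groth.Agent.QCoh.isQCoh_structureModule, h1]
    unfold Curv2.genus
    push_cast
    ring
  have h := dg_le_h0 k hdim.le i (coh_of_free k (isFinLocFree_of_rank hF)) (coh_of_free k hE)
  rw [rk_eq hF, hχ] at h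
  rw [deg_eq_dg k hF]
  have h2 : (1 : ℤ) ≤ r' := by exact_mod_cast hr'
  nlinarith

end Groth.Agent.S18774
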