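import Groth.Statements.S18778
import Groth.Agent.Lib.CurveSSVanish
import Groth.Agent.S1536

set_option autoImplicit false
universe u
open CategoryTheory CategoryTheory.Limits AlgebraicGeometry
open VBCurve

namespace Groth.Agent.S18778


set_option linter.style.haveILetI false
open Groth.Agent.CurveBundle Groth.Agent.CurveSlope Groth.Agent.CurveStable

/-- Let k be a finite field and C a smooth proper geometrically integral curve over k (proper, smooth
and geometrically integral over k, of dimension one) of genus one, i.e. dim_k H^1(C, O_C) = 1, with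
a k-rational point O (an elliptic curve over k). Let G be a finite locally free O_C-module of rank r
≥ 1 and degree 0, where the degree of a rank-n locally free module H is χ(H) − n·χ(O_C), which is
semistable: deg H · r ≤ deg G · rk H = 0 for every finite locally free submodule H of G of positive
rank. Then dim_k H^0(C, G) ≤ r. -/
theorem result (k : Type u) [Field k] [Finite k] (X : Scheme.{u}) [X.Over (Spec (CommRingCat.of k))]
    [IsProper (X ↘ Spec (CommRingCat.of k))] [Smooth (X ↘ Spec (CommRingCat.of k))]
    [GeometricallyIntegral (X ↘ Spec (CommRingCat.of k))] (hdim : topologicalKrullDim ↥X = 1)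
    (hg : Curv2.genus k X = 1) (O : Spec (CommRingCat.of k) ⟶ X) (hO : O ≫ (X ↘ Spec (CommRingCat.of k)) = 𝟙 _)
    (G : X.Modules) (r : ℕ) (hr : 0 < r) (hG : FlatMod.IsFinLocFreeOfRank r G)
    (hdeg : Curv2.deg k X G r = 0)
    (hGss : (∀ (H : X.Modules) (r' : ℕ) (i : H ⟶ G), Mono i → 0 < r' → FlatMod.IsFinLocFreeOfRank r' H →
      Curv2.deg k X H r' * (r : ℤ) ≤ Curv2.deg k X G r * (r' : ℤ))) :
    Module.finrank k (Coh.HH X G 0) ≤ r := by
  haveI : GeometricallyConnected (X ↘ Spec (CommRingCat.of k)) := ⟨fun K _ y Z g₁ g₂ h =>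
    haveI := GeometricallyIrreducible.geometrically_irreducibleSpace (f := X ↘ Spec (CommRingCat.of k)) y g₁ g₂ h
    show ConnectedSpace Z from { toNonempty := inferInstance }⟩
  haveI := isIntegral_of_geometricallyConnected k (X := X)
  haveI := Groth.Agent.GrpSchLib.geometricallyReduced_of_smooth (X ↘ Spec (CommRingCat.of k))
  have h1 : Module.finrank k (Coh.HH X (Coh.structureModule X) 0) = 1 := Groth.Agent.S1536.result k X
  have hd := deg_eq_dg k hG
  haveI := CurveCohLib.isNoetherian_of_proper (k := k) (X := X)
  refine CurveDuality.finrank_h0_le_rk k h1 hdim r G (isFinLocFree_of_rank hG) (rk_eq hG) (hd ▸ hdeg) fun F i hi hF => ?_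
  rcases Nat.eq_zero_or_pos (rk F) with h0 | h0
  · exact (dg_eq_zero_of_isZero k (isZero_of_rk_zero hF h0)).le
  have h := hGss F (rk F) i hi h0 (isFinLocFreeOfRank_rk hF)
  rw [deg_eq_dg k (isFinLocFreeOfRank_rk hF), hdeg, zero_mul] at h
  have h2 : (0 : ℤ) < r := by exact_mod_cast hr
  nlinarith

end Groth.Agent.S18778
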