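import Groth.Agent.GenusOneSS.Split
import Groth.Agent.S1536
import Groth.Agent.GrpSchLib.SmoothReduced
import Groth.Statements.S18779
-- import your own Groth.Agent.* helpers here

set_option autoImplicit false
universe u
open CategoryTheory CategoryTheory.Limits AlgebraicGeometry
open VBCurve

namespace Groth.Agent.S18779

/-- Let k be a finite field and C a smooth proper geometrically integral curve over k (proper, smooth
and geometrically integral over k, of dimension one) of genus one, i.e. dim_k H^1(C, O_C) = 1, with
a k-rational point O (an elliptic curve over k). Let 0 → A → E → B → 0 be a short exact sequence of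
O_C-modules in which A and B are finite locally free of ranks a ≥ 1 and b ≥ 1, A is semistable in
the sense that deg G · rk A ≤ deg A · rk G for every finite locally free submodule G of A of
positive rank (the degree of a rank-n locally free module being χ − n·χ(O_C)), likewise for B, and
μ(A) > μ(B), that is deg B · a < deg A · b. Then the sequence splits: E → B is a split epimorphism,
so E ≅ A ⊕ B. (This is the case of a two-step filtration; the published statement, that a vector
bundle on an elliptic curve is the direct sum of the graded pieces of its Harder–Narasimhan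
filtration, follows by induction on the length and is not restated in that form.) (The published
setting takes k of characteristic at least 5; the argument does not use this and the row allows
every finite field.) -/
theorem result (k : Type u) [Field k] [Finite k] (X : Scheme.{u}) [X.Over (Spec (CommRingCat.of k))]
    [IsProper (X ↘ Spec (CommRingCat.of k))] [Smooth (X ↘ Spec (CommRingCat.of k))]
    [GeometricallyIntegral (X ↘ Spec (CommRingCat.of k))] (hdim : topologicalKrullDim ↥X = 1)
    (hg : Curv2.genus k X = 1) (O : Spec (CommRingCat.of k) ⟶ X) (hO : O ≫ (X ↘ Spec (CommRingCat.of k)) = 𝟙 _)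
    (T : ShortComplex X.Modules) (hT : T.ShortExact)
    (a b : ℕ) (ha : 0 < a) (hb : 0 < b)
    (hA : FlatMod.IsFinLocFreeOfRank a T.X₁) (hB : FlatMod.IsFinLocFreeOfRank b T.X₃)
    (hAss : (∀ (G : X.Modules) (r' : ℕ) (i : G ⟶ T.X₁), Mono i → 0 < r' → FlatMod.IsFinLocFreeOfRank r' G →
      Curv2.deg k X G r' * (a : ℤ) ≤ Curv2.deg k X T.X₁ a * (r' : ℤ)))
    (hBss : (∀ (G : X.Modules) (r' : ℕ) (i : G ⟶ T.X₃), Mono i → 0 < r' → FlatMod.IsFinLocFreeOfRank r' G →
      Curv2.deg k X G r' * (b : ℤ) ≤ Curv2.deg k X T.X₃ b * (r' : ℤ)))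
    (hslope : Curv2.deg k X T.X₃ b * (a : ℤ) < Curv2.deg k X T.X₁ a * (b : ℤ)) :
    IsSplitEpi T.g := by
  haveI : GeometricallyConnected (X ↘ Spec (CommRingCat.of k)) := ⟨fun K _ y Z g₁ g₂ h =>
    haveI := GeometricallyIrreducible.geometrically_irreducibleSpace (f := X ↘ Spec (CommRingCat.of k)) y g₁ g₂ h
    show ConnectedSpace Z from { toNonempty := inferInstance }⟩
  haveI := CurveStable.isIntegral_of_geometricallyConnected k (X := X)
  haveI := Groth.Agent.GrpSchLib.geometricallyReduced_of_smooth (X ↘ Spec (CommRingCat.of k))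
  have hone : Module.finrank k (Coh.HH X (Coh.structureModule X) 0) = 1 := Groth.Agent.S1536.result k X
  have hAf := CurveStable.isFinLocFree_of_rank hA
  have hBf := CurveStable.isFinLocFree_of_rank hB
  have conv : ∀ (F : X.Modules) (n : ℕ), FlatMod.IsFinLocFreeOfRank n F → ∀ (G : X.Modules) (i : G ⟶ F),
      (∀ (G : X.Modules) (r' : ℕ) (i : G ⟶ F), Mono i → 0 < r' → FlatMod.IsFinLocFreeOfRank r' G →
        Curv2.deg k X G r' * (n : ℤ) ≤ Curv2.deg k X F n * (r' : ℤ)) → Mono i → FlatMod.IsFinLocFree G →
      CurveSlope.dg k G * (CurveBundle.rk F : ℤ) ≤ CurveSlope.dg k F * (CurveBundle.rk G : ℤ) := by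
    intro F n hF G i hss hi hG
    haveI := CurveSlope.isLocallyNoetherian' k (X := X)
    rcases Nat.eq_zero_or_pos (CurveBundle.rk G) with h0 | h0
    · rw [CurveSlope.dg_eq_zero_of_isZero k (CurveBundle.isZero_of_rk_zero hG h0), h0]; simp
    · have h := hss G _ i hi h0 (CurveBundle.isFinLocFreeOfRank_rk hG)
      rwa [CurveSlope.deg_eq_dg k (CurveBundle.isFinLocFreeOfRank_rk hG), CurveSlope.deg_eq_dg k hF,
        ← CurveBundle.rk_eq hF] at h
  refine GenusOneSS.isSplitEpi_of_hom_eq_zero k hdim hg hone hT hAf hBf fun φ =>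
    GenusOneSS.hom_eq_zero_of_slopes k hdim hAf hBf (fun G i hi hG => conv _ a hA G i hAss hi hG)
      (fun G i hi hG hG0 => ?_) φ
  have h1 := conv _ b hB G i hBss hi hG
  rw [CurveSlope.deg_eq_dg k hA, CurveSlope.deg_eq_dg k hB] at hslope
  rw [CurveBundle.rk_eq hA]
  rw [CurveBundle.rk_eq hB] at h1
  have hG0z : (0 : ℤ) < CurveBundle.rk G := by exact_mod_cast hG0
  have hbz : (0 : ℤ) < b := by exact_mod_cast hb
  nlinarith [mul_lt_mul_of_pos_left hslope hG0z]

end Groth.Agent.S18779
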