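import Groth.Statements.S18784
import Groth.Agent.CurveDual.Props
import Groth.Agent.TFOneX.Deg
import Groth.Agent.S1536
import Groth.Agent.RedComap5.Basic
import Groth.Agent.H28.PBExist
import Groth.Agent.CurveCohLib.Rank

set_option autoImplicit false
universe u
open CategoryTheory CategoryTheory.Limits AlgebraicGeometry
attribute [local instance] HasDerivedCategory.standard
open Curves

namespace Groth.Agent.S18784

set_option backward.isDefEq.respectTransparency false
set_option backward.isDefEq.respectTransparency.types false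
set_option synthInstance.maxHeartbeats 200000
set_option maxHeartbeats 1000000
attribute [local instance] HasDerivedCategory.standard


/-- Let k be a perfect field and X a proper scheme over k of dimension one which is geometrically
connected and geometrically reduced over k, Gorenstein with trivial dualizing sheaf: its dualizing
module ω_X (the degree −1 cohomology sheaf of f^! O for the structure morphism f, assuming Rf_* on
D_QCoh and its right adjoint exist) is isomorphic to O_X. Let D be an effective Cartier divisor on X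
of positive degree, given here as an invertible module L = O_X(D) with a monomorphism s : O_X → L
and deg L = χ(L) − χ(O_X) > 0. Then H^1(X, O_X(D)) = 0. (The first assertion of the lemma, H^0(X,
O_X) = k, is not restated.) -/
theorem result (k : Type u) [Field k] [PerfectField k]
    (X : Scheme.{u}) [X.Over (Spec (CommRingCat.of k))] [IsProper (X ↘ Spec (CommRingCat.of k))]
    [GeometricallyConnected (X ↘ Spec (CommRingCat.of k))] [GeometricallyReduced (X ↘ Spec (CommRingCat.of k))]
    (hdim : topologicalKrullDim ↥X = 1)
    [DCoh.HasRpush (X ↘ Spec (CommRingCat.of k))] (h : DCoh.RpushPreservesQCoh (X ↘ Spec (CommRingCat.of k))) [DCoh.HasShriek (X ↘ Spec (CommRingCat.of k)) h]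
    (OY : DCoh.DQCoh (Spec (CommRingCat.of k))) (hOY : Nonempty (OY.obj ≅ DCoh.inD (Spec (CommRingCat.of k)) (Coh.structureModule (Spec (CommRingCat.of k)))))
    (hω : Nonempty (DCoh.dualizingMod (X ↘ Spec (CommRingCat.of k)) h OY 1 ≅ Coh.structureModule X))
    (L : X.Modules) (hL : PicF.IsInvertible L) (s : Coh.structureModule X ⟶ L) [Mono s]
    (hdeg : 0 < Curv2.deg k X L 1) :
    Subsingleton (Coh.HH X L 1) := by
  classical
  haveI := Groth.Agent.CurveCohLib.isNoetherian_of_proper (k := k) (X := X)
  haveI : AlgebraicGeometry.IsReduced X :=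
    Groth.Agent.RedComap5.isReduced_of_geometricallyReduced (X ↘ Spec (CommRingCat.of k))
  have h0 := Groth.Agent.S1536.result k X
  obtain ⟨t, ht, hc⟩ := Groth.Agent.CurveDual.exists_dual hdim.le h OY hOY
  obtain ⟨eω⟩ := hω
  have hLq : Coh.IsQCoh L := (Groth.Agent.CurveDeg.isCoh_of_isInvertible hL).1
  refine Groth.Agent.CurveDual.subsingleton_H1_of_hom ht hLq fun φ0 => ?_
  suffices hz : φ0 ≫ eω.hom = 0 from (cancel_mono eω.hom).1 (by rw [hz, zero_comp])
  generalize φ0 ≫ eω.hom = φ
  have hE : Module.finrank k (Coh.structureModule X ⟶ Coh.structureModule X) = 1 :=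
    (Groth.Agent.CurveDual.homH0 (k := k) (Coh.structureModule X)).finrank_eq.trans h0
  have hid : (𝟙 (Coh.structureModule X)) ≠ 0 := fun he => by
    haveI : Subsingleton (Coh.structureModule X ⟶ Coh.structureModule X) :=
      subsingleton_of_forall_eq 0 fun e => by rw [← Category.id_comp e, he, zero_comp]
    rw [Module.finrank_zero_of_subsingleton (R := k)] at hE
    exact zero_ne_one hE
  obtain ⟨c, hc'⟩ := (finrank_eq_one_iff_of_nonzero' (K := k)
    (V := (Coh.structureModule X ⟶ Coh.structureModule X)) _ hid).1 hE (s ≫ φ)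
  by_cases hc0 : c = 0
  · rw [hc0, zero_smul] at hc'
    refine Groth.Agent.TFOneX.hom_eq_zero QCoh.isQCoh_structureModule
      Groth.Agent.TFOneX.isTorsionFree_structure φ fun η hη _ a => ?_
    letI := (Groth.Agent.NormAmpleX.isField_stalk_of_generic hη).toField
    obtain ⟨e⟩ := Groth.Agent.TFOneX.exists_stalk_structure (X := X) η
    obtain ⟨b⟩ := Groth.Agent.CurveTensor.exists_basis_stalk (Groth.Agent.InvEnd.isFinLocFreeOfRank_one hL) η
    have hs := Groth.Agent.TFOneX.injective_sm s η
    have hsur : ∃ o, Groth.Agent.TFOneX.sm s η o = a := by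
      set v := Groth.Agent.TFOneX.sm s η (e.symm 1) with hv
      have hv0 : b.repr v 0 ≠ 0 := fun hb => by
        have : v = 0 := b.repr.map_eq_zero_iff.1 (Finsupp.ext fun i => by
          rw [Subsingleton.elim i 0]; exact hb)
        have h1 : e.symm (1 : X.presheaf.stalk η) = 0 := hs (this.trans (map_zero _).symm)
        rw [LinearEquiv.map_eq_zero_iff] at h1
        exact one_ne_zero h1
      refine ⟨(b.repr a 0 * (b.repr v 0)⁻¹) • e.symm 1, ?_⟩
      apply b.repr.injective
      refine Finsupp.ext fun i => ?_
      rw [Subsingleton.elim i 0, LinearMap.map_smul, LinearEquiv.map_smul, Finsupp.smul_apply,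
        smul_eq_mul, mul_assoc, inv_mul_cancel₀ hv0, mul_one]
    obtain ⟨o, rfl⟩ := hsur
    rw [← Groth.Agent.TFOneX.sm_comp, ← hc', Groth.Agent.TFOneX.sm_zero]
  · exfalso
    have hsplit : (c⁻¹ • s) ≫ φ = 𝟙 _ := by
      rw [Linear.smul_comp, ← hc', smul_smul, inv_mul_cancel₀ hc0, one_smul]
    haveI : Epi φ := by
      haveI : Epi ((c⁻¹ • s) ≫ φ) := by rw [hsplit]; infer_instance
      exact epi_of_epi (c⁻¹ • s) φ
    haveI := Groth.Agent.H28.PBExist.isIso_of_epi_line φ (Groth.Agent.InvEnd.isFinLocFreeOfRank_one hL)
      (Groth.Agent.InvEnd.isFinLocFreeOfRank_one Groth.Agent.CurveDeg.isInvertible_structureModule)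
    have he := Groth.Agent.CurveCohLib.euler_congr (k := k) (asIso φ)
    rw [Curv2.deg, he] at hdeg
    simp at hdeg


end Groth.Agent.S18784
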