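import Mathlib
import Groth.Statements.S18789
-- import your own Groth.Agent.* helpers here

set_option autoImplicit false
universe u v w x
open TorusGr

namespace Groth.Agent.S18789

open DirectSum

section Graded

variable {k : Type u} [Field k] {M : Type v} [AddCommGroup M] [DecidableEq M]
  {A : Type w} [CommRing A] [Algebra k A] (𝒜 : M → Submodule k A) [GradedAlgebra 𝒜]
  {P : Type x} [AddCommGroup P] [Module A P] [Module k P] [IsScalarTower k A P]
  (ℳ : M → Submodule k P) [Decomposition ℳ] [SetLike.GradedSMul 𝒜 ℳ]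

lemma comp_smul (a : A) {p : P} {w : M} (hp : p ∈ ℳ w) (v : M) :
    ((decompose ℳ (a • p)) v : P) = ((decompose 𝒜 a) (v - w) : A) • p := by
  induction a using Decomposition.inductionOn 𝒜 with
  | zero => simp
  | add a b ha hb => simp only [add_smul, decompose_add, DirectSum.add_apply, Submodule.coe_add, ha, hb]
  | homogeneous x =>
    rename_i i
    have hmem : (x : A) • p ∈ ℳ (i + w) := SetLike.GradedSMul.smul_mem x.2 hp
    rcases eq_or_ne (i + w) v with rfl | hne
    · rw [decompose_of_mem_same ℳ hmem, add_sub_cancel_right, decompose_of_mem_same 𝒜 x.2]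
    · rw [decompose_of_mem_ne ℳ hmem hne,
        decompose_of_mem_ne 𝒜 x.2 (fun h => hne (eq_sub_iff_add_eq.1 h)), zero_smul]

lemma comp_sum {n : ℕ} (wt : Fin n → M) (f : Fin n → P) (hf : ∀ i, f i ∈ ℳ (wt i)) (c : Fin n → A) (v : M) :
    ((decompose ℳ (∑ i, c i • f i)) v : P) = ∑ i, ((decompose 𝒜 (c i)) (v - wt i) : A) • f i := by
  rw [decompose_sum, DFinsupp.finsetSum_apply, AddSubmonoidClass.coe_finset_sum]
  exact Finset.sum_congr rfl fun i _ => comp_smul 𝒜 ℳ (c i) (hf i) v

lemma exists_comp_notMem (m : Ideal A) {r : A} (hr : r ∉ m) :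
    ∃ d, ((decompose 𝒜 r) d : A) ∉ m := by
  by_contra h
  push Not at h
  apply hr
  classical
  rw [← DirectSum.sum_support_decompose 𝒜 r]
  exact Ideal.sum_mem _ fun d _ => h d

lemma exists_homog_smul_le {n : ℕ} (wt : Fin n → M) (f : Fin n → P) (hf : ∀ i, f i ∈ ℳ (wt i))
    [Module.Finite A P] (m : Ideal A) [m.IsMaximal]
    (hsp : Submodule.span A (Set.range f) ⊔ m • (⊤ : Submodule A P) = ⊤) :
    ∃ s : A, SetLike.IsHomogeneousElem 𝒜 s ∧ s ∉ m ∧ ∀ p : P, s • p ∈ Submodule.span A (Set.range f) := by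
  classical
  set N := Submodule.span A (Set.range f) with hN
  have hQ : (⊤ : Submodule A (P ⧸ N)) ≤ m • ⊤ := by
    rintro z -
    obtain ⟨p, rfl⟩ := N.mkQ_surjective z
    obtain ⟨a, ha, b, hb, rfl⟩ := Submodule.mem_sup.1 (show p ∈ N ⊔ m • (⊤ : Submodule A P) by rw [hsp]; trivial)
    rw [map_add, show N.mkQ a = 0 from (Submodule.Quotient.mk_eq_zero N).2 ha, zero_add]
    have := Submodule.mem_map_of_mem (f := N.mkQ) hb
    rw [Submodule.map_smul''] at this
    exact Submodule.smul_mono le_rfl le_top this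
  obtain ⟨r, hr1, hr⟩ := Submodule.exists_sub_one_mem_and_smul_eq_zero_of_fg_of_le_smul m ⊤
    Module.Finite.fg_top hQ
  have hrm : r ∉ m := fun h => Ideal.IsMaximal.ne_top ‹_› ((Ideal.eq_top_iff_one m).2 (by
    have := sub_mem h hr1; rwa [sub_sub_cancel] at this))
  obtain ⟨d, hd⟩ := exists_comp_notMem 𝒜 m hrm
  refine ⟨(decompose 𝒜 r) d, ⟨d, ((decompose 𝒜 r) d).2⟩, hd, fun p => ?_⟩
  induction p using Decomposition.inductionOn ℳ with
  | zero => rw [smul_zero]; exact zero_mem _
  | add p q hp hq => rw [smul_add]; exact add_mem hp hq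
  | homogeneous p =>
    rename_i w
    have h1 : r • (p : P) ∈ N := (Submodule.Quotient.mk_eq_zero N).1 (hr (N.mkQ (p : P)) trivial)
    obtain ⟨c, hc⟩ := (Submodule.mem_span_range_iff_exists_fun A).1 h1
    have h2 := comp_smul 𝒜 ℳ r p.2 (d + w)
    rw [← hc, comp_sum 𝒜 ℳ wt f hf, add_sub_cancel_right] at h2
    rw [← h2]
    exact Submodule.sum_mem _ fun i _ => Submodule.smul_mem _ _ (Submodule.subset_span ⟨i, rfl⟩)

lemma exists_kills_relations {n : ℕ} (f : Fin n → P) [Module.Projective A P] (m : Ideal A) [m.IsMaximal]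
    (s : A) (hs : s ∉ m) (hsur : ∀ p : P, s • p ∈ Submodule.span A (Set.range f))
    (hrel : ∀ c : Fin n → A, ∑ i, c i • f i = 0 → ∀ i, c i ∈ m) :
    ∃ r : A, r ∉ m ∧ ∀ c : Fin n → A, ∑ i, c i • f i = 0 → ∀ i, r * c i = 0 := by
  classical
  let φ : (Fin n → A) →ₗ[A] P := Fintype.linearCombination A f
  let g : (Fin n → A) →ₗ[A] Submodule.span A (Set.range f) :=
    φ.codRestrict _ fun c => (Submodule.mem_span_range_iff_exists_fun A).2 ⟨c, rfl⟩
  have hg : Function.Surjective g := fun y => by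
    obtain ⟨c, hc⟩ := (Submodule.mem_span_range_iff_exists_fun A).1 y.2
    exact ⟨c, Subtype.ext hc⟩
  obtain ⟨ψ, hψ⟩ := Module.projective_lifting_property g
    ((s • (LinearMap.id : P →ₗ[A] P)).codRestrict _ fun p => hsur p) hg
  have hφψ : ∀ p, φ (ψ p) = s • p := fun p => congrArg Subtype.val (LinearMap.congr_fun hψ p)
  let e : (Fin n → A) →ₗ[A] (Fin n → A) := s • LinearMap.id - ψ ∘ₗ φ
  have he : ∀ c, φ (e c) = 0 := fun c => by simp [e, hφψ]
  let E : Matrix (Fin n) (Fin n) A := LinearMap.toMatrix' e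
  let T : Matrix (Fin n) (Fin n) A := Matrix.scalar (Fin n) s - E
  refine ⟨T.det, fun h => hs ?_, fun c hc i => ?_⟩
  · have hEm : E.map (Ideal.Quotient.mk m) = 0 := by
      ext a b
      exact Ideal.Quotient.eq_zero_iff_mem.2 (hrel _ (he _) a)
    have h0 : Ideal.Quotient.mk m T.det = 0 := Ideal.Quotient.eq_zero_iff_mem.2 h
    rw [RingHom.map_det, show (Ideal.Quotient.mk m).mapMatrix T =
        (Ideal.Quotient.mk m).mapMatrix (Matrix.scalar (Fin n) s) - E.map (Ideal.Quotient.mk m) from map_sub _ _ _,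
      hEm, sub_zero, ← RingHom.map_det, Matrix.scalar_apply, Matrix.det_diagonal, map_prod, Finset.prod_const,
      Finset.card_univ, Fintype.card_fin, ← map_pow, Ideal.Quotient.eq_zero_iff_mem] at h0
    exact (inferInstance : m.IsPrime).mem_of_pow_mem n h0
  · have hec : e c = s • c := by
      have : φ c = 0 := hc
      simp [e, this]
    have hT : T.mulVec c = 0 := by
      rw [Matrix.sub_mulVec, show E.mulVec c = e c from LinearMap.toMatrix'_mulVec e c, hec]
      ext j
      simp [Matrix.scalar_apply, Matrix.mulVec_diagonal]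
    have h3 := congrArg (Matrix.mulVec T.adjugate) hT
    rw [Matrix.mulVec_mulVec, Matrix.adjugate_mul, Matrix.smul_mulVec, Matrix.one_mulVec, Matrix.mulVec_zero] at h3
    exact congrFun h3 i

end Graded

open DirectSum in
/-- Let `A` be a commutative algebra over a field `k`, graded by an additive commutative group `M` (for
`M` the character group of a split torus `T` this is a `T`-action on `Spec A`, and an `M`-graded
`A`-module is a `T`-equivariant quasi-coherent sheaf), let `P` be a finitely generated projective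
`A`-module with a compatible `M`-grading (a locally free `T`-sheaf of finite rank), and let `m` be a
homogeneous maximal ideal with residue field `k` (a `T`-fixed rational point). If homogeneous
elements `f i` of `P` reduce to a basis of `P/mP`, then there is a homogeneous `s ∉ m` such that
after inverting `s` the `f i` generate `P` and every relation among them is killed by a power of
`s`: on the invariant open `D(s)` the module is free on the homogeneous sections `f i`, with the
weights of the fibre `P/mP`. (The published statement has `M ≅ ℤ^r`, a split torus; here `M` is any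
additive commutative group, i.e. any diagonalizable group.) -/
theorem result
    {k : Type u} [Field k] {M : Type v} [AddCommGroup M] [DecidableEq M]
    {A : Type w} [CommRing A] [Algebra k A] (𝒜 : M → Submodule k A) [GradedAlgebra 𝒜]
    {P : Type x} [AddCommGroup P] [Module A P] [Module k P] [IsScalarTower k A P]
    (ℳ : M → Submodule k P) [Decomposition ℳ] [SetLike.GradedSMul 𝒜 ℳ]
    [Module.Finite A P] [Module.Projective A P]
    (m : Ideal A) [m.IsMaximal] (hm : m.IsHomogeneous 𝒜)
    (hrat : Function.Surjective (algebraMap k (A ⧸ m)))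
    {n : ℕ} (wt : Fin n → M) (f : Fin n → P) (hf : ∀ i, f i ∈ ℳ (wt i))
    (hli : LinearIndependent (A ⧸ m)
      (fun i => (Submodule.Quotient.mk (f i) : P ⧸ (m • (⊤ : Submodule A P)))))
    (hsp : Submodule.span A (Set.range f) ⊔ m • (⊤ : Submodule A P) = ⊤) :
    ∃ s : A, SetLike.IsHomogeneousElem 𝒜 s ∧ s ∉ m ∧
      (∀ p : P, ∃ (N : ℕ) (c : Fin n → A), s ^ N • p = ∑ i, c i • f i) ∧
      (∀ c : Fin n → A, ∑ i, c i • f i = 0 → ∃ N : ℕ, ∀ i, s ^ N * c i = 0) := by
  classical
  obtain ⟨s₁, hs₁h, hs₁, hsur⟩ := exists_homog_smul_le 𝒜 ℳ wt f hf m hsp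
  have hrel : ∀ c : Fin n → A, ∑ i, c i • f i = 0 → ∀ i, c i ∈ m := fun c hc i => by
    rw [← Ideal.Quotient.eq_zero_iff_mem]
    refine Fintype.linearIndependent_iff.1 hli (fun i => Ideal.Quotient.mk m (c i)) ?_ i
    calc ∑ i, Ideal.Quotient.mk m (c i) • (Submodule.Quotient.mk (f i) : P ⧸ (m • (⊤ : Submodule A P)))
        = (m • (⊤ : Submodule A P)).mkQ (∑ i, c i • f i) := by rw [map_sum]; rfl
      _ = 0 := by rw [hc, map_zero]
  obtain ⟨r, hr, hkill⟩ := exists_kills_relations f m s₁ hs₁ hsur hrel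
  obtain ⟨d, hd⟩ := exists_comp_notMem 𝒜 m hr
  refine ⟨s₁ * (decompose 𝒜 r) d, SetLike.IsHomogeneousElem.mul hs₁h ⟨d, ((decompose 𝒜 r) d).2⟩,
    fun h => ((inferInstance : m.IsPrime).mem_or_mem h).elim hs₁ hd, fun p => ?_, fun c hc => ⟨1, fun i => ?_⟩⟩
  · obtain ⟨c, hc⟩ := (Submodule.mem_span_range_iff_exists_fun A).1 (hsur (((decompose 𝒜 r) d : A) • p))
    exact ⟨1, c, by rw [pow_one, mul_smul, hc]⟩
  · rw [pow_one, mul_assoc]
    suffices h : ((decompose 𝒜 r) d : A) * c i = 0 by rw [h, mul_zero]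
    rw [← DirectSum.sum_support_decompose 𝒜 (c i), Finset.mul_sum]
    refine Finset.sum_eq_zero fun e _ => ?_
    have hrel' : ∑ j, ((decompose 𝒜 (c j)) (e + wt i - wt j) : A) • f j = 0 := by
      rw [← comp_sum 𝒜 ℳ wt f hf c (e + wt i), hc, decompose_zero]; rfl
    have h1 : r * ((decompose 𝒜 (c i)) (e + wt i - wt i) : A) = 0 := hkill _ hrel' i
    have hmem : ((decompose 𝒜 (c i)) (e + wt i - wt i) : A) ∈ 𝒜 e := by
      rw [add_sub_cancel_right]; exact ((decompose 𝒜 (c i)) e).2
    have h2 := congrArg (fun a : A => ((decompose 𝒜 a) (d + e) : A)) h1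
    simp only [coe_decompose_mul_add_of_right_mem 𝒜 hmem, decompose_zero] at h2
    rw [show ((decompose 𝒜 (c i)) e : A) = ((decompose 𝒜 (c i)) (e + wt i - wt i) : A) by rw [add_sub_cancel_right]]
    exact h2

end Groth.Agent.S18789
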