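import Groth.Statements.S18790
import Mathlib.RingTheory.GradedAlgebra.Basic
import Mathlib.RingTheory.Ideal.Maximal
import Mathlib.Algebra.DirectSum.Decomposition

set_option autoImplicit false
universe u v w
open TorusGr

namespace Groth.Agent.S18790
open DirectSum

/-- Let `A` be a commutative algebra over a field `k`, graded by an additive commutative group `M` (for
`M` the character group of a split torus `T`, a `T`-action on `Spec A`), let `J` be the ideal
generated by the homogeneous elements of non-zero degree (its zero locus is the fixed-point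
subscheme) and let `m ⊇ J` be a maximal ideal with residue field `k` (a fixed rational point) at
which the fixed-point subscheme is the reduced point: `J` and `m` agree after localizing at `m`.
Then the cotangent space `m/m²` has no part of weight zero: every degree-zero element of `m` lies in
`m²`. (The published statement has `M ≅ ℤ^r`, a split torus, and phrases the conclusion as the
non-vanishing of the weights of a semi-invariant basis of `m/m²`; here `M` is any additive
commutative group, i.e. any diagonalizable group.) -/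
theorem result
    {k : Type u} [Field k] {M : Type v} [AddCommGroup M] [DecidableEq M]
    {A : Type w} [CommRing A] [Algebra k A] (𝒜 : M → Submodule k A) [GradedAlgebra 𝒜]
    (m : Ideal A) [m.IsMaximal] (hrat : Function.Surjective (algebraMap k (A ⧸ m)))
    (hfix : ∀ i : M, i ≠ 0 → ∀ a ∈ 𝒜 i, a ∈ m)
    (hred : ∀ a ∈ m, ∃ s ∉ m, s * a ∈ Ideal.span {b : A | ∃ i : M, i ≠ 0 ∧ b ∈ 𝒜 i})
    {f : A} (hf0 : f ∈ 𝒜 0) (hfm : f ∈ m) : f ∈ m ^ 2 := by
  obtain ⟨s, hs, hsf⟩ := hred f hfm
  let π : A → A := fun x => (decompose 𝒜 x 0 : A)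
  have hπ : ∀ x ∈ Ideal.span {b : A | ∃ i : M, i ≠ 0 ∧ b ∈ 𝒜 i}, ∀ c, π (c * x) ∈ m ^ 2 := by
    intro x hx
    induction hx using Submodule.span_induction with
    | mem b hb =>
      obtain ⟨i, hi, hb⟩ := hb
      intro c
      have := coe_decompose_mul_add_of_right_mem 𝒜 (a := c) (i := -i) hb
      rw [neg_add_cancel] at this
      show (decompose 𝒜 (c * b) 0 : A) ∈ m ^ 2
      rw [this, sq]
      exact Ideal.mul_mem_mul (hfix (-i) (neg_ne_zero.2 hi) _ (SetLike.coe_mem _)) (hfix i hi _ hb)
    | zero => intro c; simp [π]
    | add u v _ _ hu hv => intro c; rw [mul_add]; simp only [π, decompose_add, DirectSum.add_apply, Submodule.coe_add]; exact Ideal.add_mem _ (hu c) (hv c)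
    | smul a u _ hu => intro c; rw [smul_eq_mul, ← mul_assoc]; exact hu _
  have h0 : π s * f ∈ m ^ 2 := by
    have := hπ _ hsf 1
    rw [one_mul] at this
    have h2 := coe_decompose_mul_add_of_right_mem 𝒜 (a := s) (i := (0 : M)) hf0
    rw [add_zero] at h2
    show (decompose 𝒜 s 0 : A) * f ∈ m ^ 2
    rwa [← h2]
  have hs0 : π s ∉ m := by
    intro h
    refine hs ?_
    classical
    rw [← DirectSum.sum_support_decompose 𝒜 s]
    refine sum_mem fun i _ => ?_
    by_cases hi : i = 0
    · subst hi; exact h
    · exact hfix i hi _ (SetLike.coe_mem _)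
  obtain ⟨t, u, hu, htu⟩ := Ideal.IsMaximal.exists_inv ‹m.IsMaximal› hs0
  have : f = t * (π s * f) + u * f := by rw [← mul_assoc, ← add_mul, htu, one_mul]
  rw [this]
  exact Ideal.add_mem _ (Ideal.mul_mem_left _ _ h0) (by rw [sq]; exact Ideal.mul_mem_mul hu hfm)

end Groth.Agent.S18790
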