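import Groth.Statements.S18791
import Mathlib.RingTheory.GradedAlgebra.Homogeneous.Ideal
import Mathlib.RingTheory.Localization.AtPrime.Basic
import Mathlib.RingTheory.Nakayama

set_option autoImplicit false
universe u v w x
open TorusGr

namespace Groth.Agent.S18791
open DirectSum

/-- Let `φ : B → A` be a degree-preserving homomorphism of commutative algebras over a field `k` graded
by an additive commutative group `M` (for `M` the character group of a split torus, an equivariant
morphism `Spec A → Spec B`), and let `m` be a maximal ideal of `A` containing all homogeneous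
elements of non-zero degree (a fixed point). Then the ideal of those `b` whose image is zero in the
local ring `A_m` is homogeneous: the homogeneous (weight) components of such a `b` again die in
`A_m`. Since `A_m` embeds in its completion when `A` is Noetherian, these are the elements of `B`
that die in the completed local ring. (The published lemma asserts moreover that, for `B = k[Y_1, …,
Y_d]` mapping the `Y_i` to semi-invariant lifts of a basis of `m/m²`, the kernel of the induced
surjection of completions `k[[Y]] → Â_m` is generated by semi-invariant polynomials; generation of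
that kernel by polynomials can fail, so only the statement about polynomial elements of the kernel
is recorded here. The published statement has `M ≅ ℤ^r` (a split torus) and `B` the polynomial ring
on the lifts; here `M` is any additive commutative group and `B` any `M`-graded `k`-algebra.) -/
theorem result
    {k : Type u} [Field k] {M : Type v} [AddCommGroup M] [DecidableEq M]
    {A : Type w} [CommRing A] [Algebra k A] (𝒜 : M → Submodule k A) [GradedAlgebra 𝒜]
    {B : Type x} [CommRing B] [Algebra k B] (ℬ : M → Submodule k B) [GradedAlgebra ℬ]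
    (φ : B →ₐ[k] A) (hφ : ∀ i : M, ∀ b ∈ ℬ i, φ b ∈ 𝒜 i)
    (m : Ideal A) [m.IsMaximal] (hfix : ∀ i : M, i ≠ 0 → ∀ a ∈ 𝒜 i, a ∈ m) :
    (RingHom.ker ((algebraMap A (Localization.AtPrime m)).comp (φ : B →+* A))).IsHomogeneous ℬ := by
  classical
  intro i b hb
  rw [RingHom.mem_ker, RingHom.comp_apply, IsLocalization.map_eq_zero_iff m.primeCompl] at hb ⊢
  obtain ⟨⟨s, hs⟩, hsb⟩ := hb
  change s * φ b = 0 at hsb
  have hcomp : ∀ j, (decompose 𝒜 (φ b) j : A) = φ (decompose ℬ b j : B) := by
    intro j
    conv_lhs => rw [← DirectSum.sum_support_decompose ℬ b]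
    rw [map_sum, decompose_sum, DFinsupp.finsetSum_apply, Submodule.coe_sum]
    rw [Finset.sum_eq_single j]
    · rw [decompose_of_mem_same 𝒜 (hφ j _ (SetLike.coe_mem _))]
    · intro l _ hl
      rw [decompose_of_mem_ne 𝒜 (hφ l _ (SetLike.coe_mem _)) hl]
    · intro hj
      rw [DFinsupp.notMem_support_iff.1 hj, Submodule.coe_zero, map_zero, decompose_zero, DirectSum.zero_apply, Submodule.coe_zero]
  let N : Submodule A A := Submodule.span A (Set.range fun j => (decompose 𝒜 (φ b) j : A))
  have hN : N.FG := by
    have : N = Submodule.span A ↑((decompose 𝒜 (φ b)).support.image fun j => (decompose 𝒜 (φ b) j : A)) := by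
      refine le_antisymm (Submodule.span_le.2 ?_) (Submodule.span_mono (by simp [Set.subset_def]))
      rintro _ ⟨j, rfl⟩
      by_cases hj : j ∈ (decompose 𝒜 (φ b)).support
      · exact Submodule.subset_span (Finset.mem_coe.2 (Finset.mem_image.2 ⟨j, hj, rfl⟩))
      · simp [DFinsupp.notMem_support_iff.1 hj]
    rw [this]
    exact ⟨_, rfl⟩
  have hs0 : (decompose 𝒜 s 0 : A) ∉ m := by
    intro h
    refine hs ?_
    rw [← DirectSum.sum_support_decompose 𝒜 s]
    refine sum_mem fun l _ => ?_
    by_cases hl : l = 0
    · subst hl; exact h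
    · exact hfix l hl _ (SetLike.coe_mem _)
  have hle : N ≤ m • N := by
    rw [Submodule.span_le]
    rintro _ ⟨j, rfl⟩
    show (decompose 𝒜 (φ b) j : A) ∈ m • N
    have hj : (decompose 𝒜 s 0 : A) * (decompose 𝒜 (φ b) j : A) ∈ m • N := by
      have h := congrArg (fun x => (decompose 𝒜 x j : A)) hsb
      simp only [decompose_zero, DirectSum.zero_apply, Submodule.coe_zero] at h
      rw [← DirectSum.sum_support_decompose 𝒜 s, Finset.sum_mul, decompose_sum, DFinsupp.finsetSum_apply, Submodule.coe_sum] at h
      have key : ∀ l, (decompose 𝒜 ((decompose 𝒜 s l : A) * φ b) j : A) = (decompose 𝒜 s l : A) * (decompose 𝒜 (φ b) (j - l) : A) := fun l => by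
        have := coe_decompose_mul_add_of_left_mem 𝒜 (b := φ b) (j := j - l) (SetLike.coe_mem (decompose 𝒜 s l))
        rwa [add_sub_cancel] at this
      rw [Finset.sum_congr rfl fun l _ => key l] at h
      have hmem : ∀ l, l ≠ 0 → (decompose 𝒜 s l : A) * (decompose 𝒜 (φ b) (j - l) : A) ∈ m • N := fun l hl =>
        Submodule.smul_mem_smul (hfix l hl _ (SetLike.coe_mem _)) (Submodule.subset_span ⟨_, rfl⟩)
      by_cases h0 : (0 : M) ∈ (decompose 𝒜 s).support
      · rw [← Finset.add_sum_erase _ _ h0, sub_zero, add_eq_zero_iff_eq_neg] at h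
        rw [h]
        exact neg_mem (sum_mem fun l hl => hmem l (Finset.ne_of_mem_erase hl))
      · rw [DFinsupp.notMem_support_iff.1 h0, Submodule.coe_zero, zero_mul]
        exact zero_mem _
    obtain ⟨t, u, hu, htu⟩ := Ideal.IsMaximal.exists_inv ‹m.IsMaximal› hs0
    rw [show (decompose 𝒜 (φ b) j : A) = t • ((decompose 𝒜 s 0 : A) * (decompose 𝒜 (φ b) j : A)) + u • (decompose 𝒜 (φ b) j : A) by
      rw [smul_eq_mul, smul_eq_mul, ← mul_assoc, ← add_mul, htu, one_mul]]
    exact add_mem (Submodule.smul_mem _ t hj) (Submodule.smul_mem_smul hu (Submodule.subset_span ⟨j, rfl⟩))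
  obtain ⟨r, hr, hrN⟩ := Submodule.exists_sub_one_mem_and_smul_eq_zero_of_fg_of_le_smul m N hN hle
  refine ⟨⟨r, fun h => (‹m.IsMaximal›.ne_top) ((Ideal.eq_top_iff_one m).2 ?_)⟩, ?_⟩
  · simpa using m.sub_mem h hr
  · show r * φ (decompose ℬ b i : B) = 0
    rw [← hcomp]
    exact hrN _ (Submodule.subset_span ⟨i, rfl⟩)

end Groth.Agent.S18791
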