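import Groth.Statements.S18792
-- import your own Groth.Agent.* helpers here

set_option autoImplicit false
universe u
open DefMod

namespace Groth.Agent.S18792

/-- Let A be an associative unital algebra over ℚ, let a ∈ A be nilpotent and let b ∈ A. Then the
commutator map x ↦ a x − x a is a nilpotent ℚ-linear endomorphism of A, and exp(a) b exp(−a) =
exp(ad a)(b), where exp is the finite exponential series of a nilpotent element and ad a is the
commutator map. (The published statement takes A an algebra over an arbitrary commutative ring; the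
factorials in the exponential series require the rationals to act, so A is taken to be a ℚ-algebra
here. The intermediate double-sum expansion printed between the two sides is not restated.) -/
theorem result {A : Type u} [Ring A] [Algebra ℚ A] (a b : A)
    (ha : IsNilpotent a) :
    IsNilpotent (LinearMap.mulLeft ℚ a - LinearMap.mulRight ℚ a) ∧
      IsNilpotent.exp a * b * IsNilpotent.exp (-a) =
        IsNilpotent.exp (LinearMap.mulLeft ℚ a - LinearMap.mulRight ℚ a) b := by
  obtain ⟨n, hn⟩ := ha
  have hl : (LinearMap.mulLeft ℚ a) ^ n = 0 := by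
    rw [LinearMap.pow_mulLeft, hn, LinearMap.mulLeft_zero_eq_zero]
  have hr : (LinearMap.mulRight ℚ (-a)) ^ n = 0 := by
    rw [LinearMap.pow_mulRight, neg_pow, hn, mul_zero, LinearMap.mulRight_zero_eq_zero]
  have e : LinearMap.mulLeft ℚ a - LinearMap.mulRight ℚ a =
      LinearMap.mulLeft ℚ a + LinearMap.mulRight ℚ (-a) := by
    ext x; simp [sub_eq_add_neg]
  have hc : Commute (LinearMap.mulLeft ℚ a) (LinearMap.mulRight ℚ (-a)) :=
    LinearMap.commute_mulLeft_right a (-a)
  rw [e]
  refine ⟨hc.isNilpotent_add ⟨n, hl⟩ ⟨n, hr⟩, ?_⟩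
  rw [IsNilpotent.exp_add_of_commute hc ⟨n, hl⟩ ⟨n, hr⟩, IsNilpotent.exp_eq_sum hl,
    IsNilpotent.exp_eq_sum hr, IsNilpotent.exp_eq_sum hn,
    IsNilpotent.exp_eq_sum (show (-a) ^ n = 0 by rw [neg_pow, hn, mul_zero])]
  simp only [Module.End.mul_apply, LinearMap.coe_sum, Finset.sum_apply, LinearMap.smul_apply,
    LinearMap.pow_mulLeft, LinearMap.pow_mulRight, LinearMap.mulLeft_apply, LinearMap.mulRight_apply]
  simp only [Finset.sum_mul, Finset.mul_sum, Finset.smul_sum, smul_mul_assoc, mul_smul_comm,
    smul_smul, mul_assoc]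
  rw [Finset.sum_comm]
  refine Finset.sum_congr rfl fun i _ => Finset.sum_congr rfl fun j _ => ?_
  rw [mul_comm (j.factorial : ℚ)⁻¹]

end Groth.Agent.S18792
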