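import Groth.Statements.S18793
import Groth.Agent.DefModLib.ScalarEnd
-- import your own Groth.Agent.* helpers here

set_option autoImplicit false
universe u v w w'
open DefMod

namespace Groth.Agent.S18793

/-- Let E be a nonzero left module over an associative algebra D over a field K of characteristic zero,
whose D-linear endomorphisms are exactly the scalars of K. Let R be an Artinian local K-algebra with
residue field K, and let F carry commuting R- and D-module structures (a left module over R ⊗_K D)
with F flat over R, together with a D-linear map θ : F → E that is semilinear over the augmentation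
R → K, surjective, and whose kernel is m_R F (so θ induces an isomorphism K ⊗_R F ≅ E; that is, (F,
θ) is a deformation of E over R). Then every endomorphism of F that is both R-linear and D-linear is
multiplication by a unique element of R. (The published statement adds that the automorphisms of (F,
θ) are then exactly the elements 1 + m_R of R; that consequence is stated separately.) -/
theorem result
    {K : Type u} [Field K] [CharZero K]
    {D : Type v} [Ring D] [Algebra K D]
    {E : Type w} [AddCommGroup E] [Module K E] [Module D E] [IsScalarTower K D E] [Nontrivial E]
    (hE : ∀ ψ : E →ₗ[D] E, ∃ c : K, ∀ y : E, ψ y = c • y)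
    (R : ArtFun.Art K K)
    {F : Type w'} [AddCommGroup F] [Module K F] [Module R F] [Module D F]
    [IsScalarTower K R F] [IsScalarTower K D F] [SMulCommClass R D F] [Module.Flat R F]
    (θ : F →ₗ[D] E) (hθ : ∀ (r : R) (x : F), θ (r • x) = R.res r • θ x)
    (hsurj : Function.Surjective θ)
    (hker : ∀ x : F, θ x = 0 ↔ x ∈ IsLocalRing.maximalIdeal R • (⊤ : Submodule R F))
    (φ : F →ₗ[R] F) (hφ : ∀ (d : D) (x : F), φ (d • x) = d • φ x) :
    ∃! r : R, ∀ x : F, φ x = r • x := by
  exact DefModLib.existsUnique_smul R hE θ hθ hsurj hker φ hφ

end Groth.Agent.S18793
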