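import Groth.Statements.S18794
import Mathlib.FieldTheory.IsAlgClosed.AlgebraicClosure
import Mathlib.RingTheory.Flat.Basic
import Mathlib.LinearAlgebra.TensorProduct.Finiteness
import Mathlib.LinearAlgebra.Basis.VectorSpace
import Mathlib.RingTheory.Flat.FaithfullyFlat.Basic
-- import your own Groth.Agent.* helpers here

set_option autoImplicit false
universe u v w
open scoped TensorProduct
open DefMod

namespace Groth.Agent.S18794

/-- Let E be a left module over an associative algebra D over a field K of characteristic zero. For a
field extension L of K, the base change L ⊗_K E is a module over L ⊗_K D, i.e. an L-vector space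
with a commuting action of D; call it irreducible when it is nonzero and its only L-subspaces stable
under every element of D are 0 and the whole space. Then E is absolutely irreducible (its base
change to an algebraic closure of K is irreducible) if and only if L ⊗_K E is irreducible for every
finite extension L of K. (Finite extensions are taken in the universe of K.) -/
theorem result
    {K : Type u} [Field K] [CharZero K]
    {D : Type v} [Ring D] [Algebra K D]
    {E : Type w} [AddCommGroup E] [Module K E] [Module D E] [IsScalarTower K D E] :
    (Nontrivial (AlgebraicClosure K ⊗[K] E) ∧ ∀ N : Submodule (AlgebraicClosure K) (AlgebraicClosure K ⊗[K] E), (∀ (d : D) (x : AlgebraicClosure K ⊗[K] E), x ∈ N → (DistribSMul.toLinearMap K E d).baseChange (AlgebraicClosure K) x ∈ N) → N = ⊥ ∨ N = ⊤) ↔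
      ∀ (L : Type u) [Field L] [Algebra K L] [FiniteDimensional K L],
        (Nontrivial (L ⊗[K] E) ∧ ∀ N : Submodule (L) (L ⊗[K] E), (∀ (d : D) (x : L ⊗[K] E), x ∈ N → (DistribSMul.toLinearMap K E d).baseChange (L) x ∈ N) → N = ⊥ ∨ N = ⊤) := by
  classical
  constructor
  · rintro ⟨hnt, hirr⟩ L _ _ _
    haveI : Nontrivial E := by
      by_contra h
      rw [not_nontrivial_iff_subsingleton] at h
      exact not_nontrivial_iff_subsingleton.2 inferInstance hnt
    refine ⟨inferInstance, fun N hN => ?_⟩
    let j : L →ₐ[K] AlgebraicClosure K := IsAlgClosed.lift
    letI : Algebra L (AlgebraicClosure K) := j.toRingHom.toAlgebra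
    let i : L ⊗[K] E →ₗ[K] AlgebraicClosure K ⊗[K] E := j.toLinearMap.rTensor E
    let N' := Submodule.span (AlgebraicClosure K) (i '' N)
    have hst : ∀ (d : D) x, x ∈ N' →
        (DistribSMul.toLinearMap K E d).baseChange (AlgebraicClosure K) x ∈ N' := by
      intro d x hx
      have : Submodule.map ((DistribSMul.toLinearMap K E d).baseChange (AlgebraicClosure K)) N' ≤ N' := by
        rw [Submodule.map_span, Submodule.span_le]
        rintro _ ⟨_, ⟨y, hy, rfl⟩, rfl⟩
        refine Submodule.subset_span ⟨_, hN d y hy, ?_⟩
        clear hy
        induction y using TensorProduct.induction_on with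
        | zero => simp
        | tmul a e => simp [i]
        | add a b ha hb => simp only [map_add, ha, hb]
      exact this ⟨x, hx, rfl⟩
    rcases hirr N' hst with h | h
    · left
      rw [eq_bot_iff]
      intro y hy
      have : i y = 0 := by
        rw [← Submodule.mem_bot (AlgebraicClosure K), ← h]
        exact Submodule.subset_span ⟨y, hy, rfl⟩
      refine (Submodule.mem_bot L).2 (Module.Flat.rTensor_preserves_injective_linearMap j.toLinearMap
        j.toRingHom.injective ?_)
      rw [map_zero]; exact this
    · right
      obtain ⟨π, hπ⟩ := (Algebra.linearMap L (AlgebraicClosure K)).exists_leftInverse_of_injective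
        (LinearMap.ker_eq_bot.2 j.toRingHom.injective)
      haveI : IsScalarTower K L (AlgebraicClosure K) := IsScalarTower.of_algHom j
      let Pr : AlgebraicClosure K ⊗[K] E →ₗ[K] L ⊗[K] E := (π.restrictScalars K).rTensor E
      have hsub : ∀ x ∈ N', Pr x ∈ N := by
        intro x hx
        refine Submodule.span_induction (p := fun x _ => ∀ μ : AlgebraicClosure K, Pr (μ • x) ∈ N)
          ?_ ?_ ?_ ?_ hx 1 |> fun h => by simpa using h
        · rintro _ ⟨y, hy, rfl⟩ μ
          have : Pr (μ • i y) = π μ • y := by
            clear hy
            induction y using TensorProduct.induction_on with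
            | zero => simp
            | tmul a e =>
              simp only [i, LinearMap.rTensor_tmul, AlgHom.toLinearMap_apply,
                TensorProduct.smul_tmul', Pr, LinearMap.coe_restrictScalars, smul_eq_mul]
              congr 1
              rw [mul_comm, show j a * μ = a • μ from rfl, map_smul, smul_eq_mul, mul_comm]
            | add a b ha hb => simp only [map_add, smul_add, ha, hb]
          rw [this]
          exact N.smul_mem _ hy
        · simp
        · intro a b _ _ ha hb μ; rw [smul_add, map_add]; exact N.add_mem (ha μ) (hb μ)
        · intro c a _ ha μ; rw [smul_smul]; exact ha _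
      rw [eq_top_iff]
      rintro y -
      have : Pr (i y) = y := by
        induction y using TensorProduct.induction_on with
        | zero => simp
        | tmul a e =>
          have h1 : π (j a) = a := LinearMap.congr_fun hπ a
          simp [Pr, i, h1]
        | add a b ha hb => simp only [map_add, ha, hb]
      rw [← this]
      exact hsub _ (h ▸ Submodule.mem_top)
  · intro hall
    haveI : Nontrivial E := by
      by_contra h
      rw [not_nontrivial_iff_subsingleton] at h
      exact not_nontrivial_iff_subsingleton.2 inferInstance (hall K).1
    refine ⟨inferInstance, fun N hN => ?_⟩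
    by_cases hbot : N = ⊥
    · exact Or.inl hbot
    right
    obtain ⟨x, hx, hx0⟩ := N.exists_mem_ne_zero_of_ne_bot hbot
    obtain ⟨M, hM⟩ := TensorProduct.exists_finset x
    let L := IntermediateField.adjoin K ((M.image Prod.fst : Finset (AlgebraicClosure K)) : Set (AlgebraicClosure K))
    haveI : FiniteDimensional K L := IntermediateField.finiteDimensional_adjoin
      fun a _ => Algebra.IsIntegral.isIntegral a
    let i : L ⊗[K] E →ₗ[K] AlgebraicClosure K ⊗[K] E := L.val.toLinearMap.rTensor E
    have hsm : ∀ (l : L) (y : L ⊗[K] E), i (l • y) = (l : AlgebraicClosure K) • i y := by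
      intro l y
      induction y using TensorProduct.induction_on with
      | zero => simp
      | tmul a e => simp [i, TensorProduct.smul_tmul']
      | add a b ha hb => simp only [map_add, smul_add, ha, hb]
    let N₀ : Submodule L (L ⊗[K] E) :=
      { carrier := {y | i y ∈ N}
        add_mem' := fun {a b} ha hb => by simpa [Set.mem_setOf_eq] using N.add_mem ha hb
        zero_mem' := by simp
        smul_mem' := fun l y hy => by
          simp only [Set.mem_setOf_eq, hsm]
          exact N.smul_mem _ hy }
    have hst : ∀ (d : D) y, y ∈ N₀ → (DistribSMul.toLinearMap K E d).baseChange L y ∈ N₀ := by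
      intro d y hy
      change i _ ∈ N
      have : i ((DistribSMul.toLinearMap K E d).baseChange L y) =
          (DistribSMul.toLinearMap K E d).baseChange (AlgebraicClosure K) (i y) := by
        clear hy
        induction y using TensorProduct.induction_on with
        | zero => simp
        | tmul a e => simp [i]
        | add a b ha hb => simp only [map_add, ha, hb]
      rw [this]
      exact hN d _ hy
    have hne : N₀ ≠ ⊥ := by
      intro h
      let y : L ⊗[K] E := ∑ p ∈ M.attach, (⟨p.1.1, IntermediateField.subset_adjoin K _
        (Finset.mem_coe.2 (Finset.mem_image_of_mem Prod.fst p.2))⟩ : L) ⊗ₜ p.1.2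
      have hy : i y = x := by
        rw [hM, ← Finset.sum_attach M]
        simp [y, i]
      have : y ∈ (⊥ : Submodule L (L ⊗[K] E)) := h ▸ (show i y ∈ N from hy ▸ hx)
      rw [Submodule.mem_bot] at this
      rw [this, map_zero] at hy
      exact hx0 hy.symm
    have htop := ((hall L).2 N₀ hst).resolve_left hne
    rw [eq_top_iff]
    rintro z -
    induction z using TensorProduct.induction_on with
    | zero => exact N.zero_mem
    | tmul a e =>
      have : ((1 : L) ⊗ₜ[K] e) ∈ N₀ := htop ▸ Submodule.mem_top
      change i _ ∈ N at this
      simp only [i, LinearMap.rTensor_tmul, AlgHom.toLinearMap_apply, map_one] at this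
      simpa [TensorProduct.smul_tmul'] using N.smul_mem a this
    | add a b ha hb => exact N.add_mem ha hb

end Groth.Agent.S18794
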