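import Groth.Statements.S18795
import Mathlib.FieldTheory.IsAlgClosed.AlgebraicClosure
import Mathlib.RingTheory.IntegralClosure.IsIntegralClosure.Basic
import Mathlib.RingTheory.Flat.FaithfullyFlat.Algebra
import Mathlib.LinearAlgebra.Dual.Lemmas
-- import your own Groth.Agent.* helpers here

set_option autoImplicit false
universe u v w
open scoped TensorProduct
open DefMod

namespace Groth.Agent.S18795

/-- Let E be a left module over an associative algebra D over a field K of characteristic zero. Assume
that the D-linear endomorphisms of E form a finite-dimensional K-vector space, that E has a finite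
presentation over D, and that E is absolutely irreducible: its base change K̄ ⊗_K E to an algebraic
closure K̄ of K is nonzero and its only K̄-subspaces stable under every element of D are 0 and the
whole space. Then End_D(E) = K: every D-linear endomorphism of E is multiplication by a scalar from
K. -/
theorem result
    {K : Type u} [Field K] [CharZero K]
    {D : Type v} [Ring D] [Algebra K D]
    {E : Type w} [AddCommGroup E] [Module K E] [Module D E] [IsScalarTower K D E]
    [Module.Finite K (E →ₗ[D] E)] [Module.FinitePresentation D E]
    (habs : (Nontrivial (AlgebraicClosure K ⊗[K] E) ∧ ∀ N : Submodule (AlgebraicClosure K) (AlgebraicClosure K ⊗[K] E), (∀ (d : D) (x : AlgebraicClosure K ⊗[K] E), x ∈ N → (DistribSMul.toLinearMap K E d).baseChange (AlgebraicClosure K) x ∈ N) → N = ⊥ ∨ N = ⊤))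
    (φ : E →ₗ[D] E) : ∃ c : K, ∀ x : E, φ x = c • x := by
  classical
  obtain ⟨hnt, hirr⟩ := habs
  set L := AlgebraicClosure K
  let Φ : Module.End L (L ⊗[K] E) := (φ.restrictScalars K).baseChange L
  let p : Polynomial K := minpoly K (φ : Module.End D E)
  have hint : IsIntegral K (φ : Module.End D E) := Algebra.IsIntegral.isIntegral _
  have hp0 : p ≠ 0 := minpoly.ne_zero hint
  let f : Module.End D E →ₐ[K] Module.End L (L ⊗[K] E) :=
    AlgHom.ofLinearMap
      { toFun := fun ψ => (ψ.restrictScalars K).baseChange L
        map_add' := fun a b => by rw [LinearMap.restrictScalars_add, LinearMap.baseChange_add]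
        map_smul' := fun c a => by
          rw [RingHom.id_apply, LinearMap.restrictScalars_smul, LinearMap.baseChange_smul] }
      (by
        change ((1 : Module.End D E).restrictScalars K).baseChange L = 1
        rw [show ((1 : Module.End D E).restrictScalars K) = 1 from rfl]
        exact LinearMap.baseChange_one K E)
      (fun a b => by
        change ((a * b).restrictScalars K).baseChange L = _
        exact LinearMap.baseChange_mul (a.restrictScalars K) (b.restrictScalars K))
  have hz : Polynomial.aeval Φ (p.map (algebraMap K L)) = 0 := by
    rw [Polynomial.aeval_map_algebraMap]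
    change Polynomial.aeval (f φ) p = 0
    rw [Polynomial.aeval_algHom_apply, minpoly.aeval, map_zero]
  obtain ⟨l, hl⟩ : ∃ l : L, ∃ x, x ≠ 0 ∧ Φ x = l • x := by
    rw [(IsAlgClosed.splits (p.map (algebraMap K L))).eq_prod_roots, map_mul, Polynomial.aeval_C,
      ((minpoly.monic hint).map (algebraMap K L)).leadingCoeff, map_one, one_mul] at hz
    revert hz
    induction (p.map (algebraMap K L)).roots using Multiset.induction with
    | empty =>
      intro h
      simp at h
    | cons a s ih =>
      intro h
      rw [Multiset.map_cons, Multiset.prod_cons, map_mul] at h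
      by_cases hs : Polynomial.aeval Φ (s.map fun a => Polynomial.X - Polynomial.C a).prod = 0
      · exact ih hs
      · obtain ⟨y, hy⟩ := by
          simpa [LinearMap.ext_iff] using hs
        refine ⟨a, _, hy, ?_⟩
        have := LinearMap.congr_fun h y
        simpa [sub_eq_zero, Algebra.algebraMap_eq_smul_one] using this
  obtain ⟨x, hx, hxl⟩ := hl
  have hcomm : ∀ (d : D) (z : L ⊗[K] E), Φ ((DistribSMul.toLinearMap K E d).baseChange L z) =
      (DistribSMul.toLinearMap K E d).baseChange L (Φ z) := by
    intro d z
    induction z using TensorProduct.induction_on with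
    | zero => simp
    | tmul a e => simp [Φ]
    | add a b ha hb => simp only [map_add, ha, hb]
  have htop : LinearMap.ker (Φ - l • LinearMap.id) = ⊤ := by
    refine (hirr _ ?_).resolve_left (fun h => hx ?_)
    · intro d z hz
      simp only [LinearMap.mem_ker, LinearMap.sub_apply, LinearMap.smul_apply, LinearMap.id_apply,
        sub_eq_zero] at hz ⊢
      rw [hcomm, hz, map_smul]
    · rw [← Submodule.mem_bot L, ← h]
      simp [hxl]
  have hkey : ∀ e : E, (1 : L) ⊗ₜ[K] φ e = l ⊗ₜ[K] e := by
    intro e
    have := (LinearMap.mem_ker.1 (htop ▸ Submodule.mem_top : (1 : L) ⊗ₜ[K] e ∈ _))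
    simp only [LinearMap.sub_apply, LinearMap.smul_apply, LinearMap.id_apply, sub_eq_zero,
      TensorProduct.smul_tmul', smul_eq_mul, mul_one] at this
    exact this
  haveI : Nontrivial E := by
    by_contra h
    rw [not_nontrivial_iff_subsingleton] at h
    exact not_nontrivial_iff_subsingleton.2 inferInstance hnt
  obtain ⟨e₀, he₀⟩ := exists_ne (0 : E)
  obtain ⟨g, hg⟩ := Module.Projective.exists_dual_ne_zero K he₀
  refine ⟨g (φ e₀) / g e₀, fun e => ?_⟩
  have hlK : l = algebraMap K L (g (φ e₀) / g e₀) := by
    have := congrArg ((TensorProduct.rid K L).toLinearMap ∘ₗ g.lTensor L) (hkey e₀)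
    simp only [LinearMap.coe_comp, Function.comp_apply, LinearMap.lTensor_tmul,
      LinearEquiv.coe_coe, TensorProduct.rid_tmul, Algebra.smul_def, mul_one] at this
    rw [map_div₀, eq_div_iff (by simpa using hg), this, mul_comm]
  have := hkey e
  rw [hlK, Algebra.algebraMap_eq_smul_one, TensorProduct.smul_tmul] at this
  exact Module.FaithfullyFlat.tensorProduct_mk_injective (A := K) (B := L) E this

end Groth.Agent.S18795
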