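import Groth.Statements.S18796
import Mathlib.LinearAlgebra.Basis.VectorSpace
import Mathlib.LinearAlgebra.TensorProduct.Basis
import Mathlib.RingTheory.TensorProduct.Maps
import Mathlib.RingTheory.Finiteness.Basic
-- import your own Groth.Agent.* helpers here

set_option autoImplicit false
universe u v w w' u'
open scoped TensorProduct
open DefMod

namespace Groth.Agent.S18796

/-- Let K be a field of characteristic zero, D an associative K-algebra, E a left D-module that is
finitely presented over D, F a left D-module and P a commutative K-algebra. The canonical P-linear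
map Φ : P ⊗_K Hom_D(E, F) → Hom_P(P ⊗_K E, P ⊗_K F), determined by p ⊗ f ↦ p · (1_P ⊗ f), is
injective, and its image consists exactly of the P-linear maps that commute with the action of every
element of D; in other words Φ identifies P ⊗_K Hom_D(E, F) with the module of homomorphisms P ⊗_K E
→ P ⊗_K F over P ⊗_K D. The map Φ is pinned here by its values on pure tensors. -/
theorem result
    {K : Type u} [Field K] [CharZero K]
    {D : Type v} [Ring D] [Algebra K D]
    {E : Type w} [AddCommGroup E] [Module K E] [Module D E] [IsScalarTower K D E]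
    [Module.FinitePresentation D E]
    {F : Type w'} [AddCommGroup F] [Module K F] [Module D F] [IsScalarTower K D F]
    (P : Type u') [CommRing P] [Algebra K P]
    (Φ : P ⊗[K] (E →ₗ[D] F) →ₗ[P] (P ⊗[K] E →ₗ[P] P ⊗[K] F))
    (hΦ : ∀ (p : P) (f : E →ₗ[D] F), Φ (p ⊗ₜ[K] f) = p • (f.restrictScalars K).baseChange P) :
    Function.Injective Φ ∧
      ∀ g : P ⊗[K] E →ₗ[P] P ⊗[K] F,
        g ∈ LinearMap.range Φ ↔
          ∀ d : D, g ∘ₗ (DistribSMul.toLinearMap K E d).baseChange P =
            (DistribSMul.toLinearMap K F d).baseChange P ∘ₗ g := by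
  classical
  let b := Module.Basis.ofVectorSpace K P
  let comp : Module.Basis.ofVectorSpaceIndex K P → P ⊗[K] F →ₗ[K] F := fun i =>
    (TensorProduct.lid K F).toLinearMap ∘ₗ (b.coord i).rTensor F
  have hcompd : ∀ i (d : D) (z : P ⊗[K] F),
      comp i ((DistribSMul.toLinearMap K F d).baseChange P z) = d • comp i z := by
    intro i d z
    induction z using TensorProduct.induction_on with
    | zero => simp
    | tmul a f => simp [comp, smul_algebra_smul_comm]
    | add x y hx hy => simp only [map_add, hx, hy, smul_add]
  have hcomp : ∀ i (p : P) (f : F), comp i (p ⊗ₜ f) = b.repr p i • f := fun i p f => by simp [comp]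
  have hext : ∀ z : P ⊗[K] F, ∀ s : Finset _, (∀ i ∉ s, comp i z = 0) →
      z = ∑ i ∈ s, b i ⊗ₜ[K] comp i z := by
    intro z s hs
    apply (TensorProduct.equivFinsuppOfBasisLeft (N := F) b).injective
    ext i
    have hev : ∀ w : P ⊗[K] F, TensorProduct.equivFinsuppOfBasisLeft (N := F) b w i = comp i w := by
      intro w
      induction w using TensorProduct.induction_on with
      | zero => simp
      | tmul a f => simp [hcomp]
      | add x y hx hy => simp [hx, hy]
    rw [hev, hev, map_sum]
    simp only [hcomp, Module.Basis.repr_self, Finsupp.single_apply, ite_smul, one_smul, zero_smul,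
      Finset.sum_ite_eq']
    split_ifs with h
    · rfl
    · exact hs i h
  refine ⟨?_, fun g => ⟨?_, fun hg => ?_⟩⟩
  · rw [injective_iff_map_eq_zero]
    intro z hz
    let compH : Module.Basis.ofVectorSpaceIndex K P → P ⊗[K] (E →ₗ[D] F) →ₗ[K] (E →ₗ[D] F) := fun i =>
      (TensorProduct.lid K (E →ₗ[D] F)).toLinearMap ∘ₗ (b.coord i).rTensor (E →ₗ[D] F)
    have hev : ∀ i (w : P ⊗[K] (E →ₗ[D] F)) (e : E), comp i (Φ w (1 ⊗ₜ e)) = compH i w e := by
      intro i w e
      induction w using TensorProduct.induction_on with
      | zero => simp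
      | tmul a f => simp [hΦ, compH, hcomp, TensorProduct.smul_tmul']
      | add x y hx hy => simp only [map_add, LinearMap.add_apply, hx, hy]
    apply (TensorProduct.equivFinsuppOfBasisLeft (N := E →ₗ[D] F) b).injective
    rw [map_zero]
    ext i e
    have hev' : ∀ w : P ⊗[K] (E →ₗ[D] F), TensorProduct.equivFinsuppOfBasisLeft (N := E →ₗ[D] F) b w i = compH i w := by
      intro w
      induction w using TensorProduct.induction_on with
      | zero => simp
      | tmul a f => simp [compH]
      | add x y hx hy => simp [hx, hy]
    rw [hev', ← hev, hz]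
    simp
  · rintro ⟨z, rfl⟩ d
    induction z using TensorProduct.induction_on with
    | zero => simp
    | tmul a f => ext e; simp [hΦ]
    | add x y hx hy => rw [map_add, LinearMap.add_comp, LinearMap.comp_add, hx, hy]
  · let G : Module.Basis.ofVectorSpaceIndex K P → E →ₗ[D] F := fun i =>
      { toFun := fun e => comp i (g (1 ⊗ₜ e))
        map_add' := fun x y => by simp [TensorProduct.tmul_add]
        map_smul' := fun d e => by
          have := LinearMap.congr_fun (hg d) (1 ⊗ₜ e)
          simp only [LinearMap.comp_apply, LinearMap.baseChange_tmul,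
            DistribSMul.toLinearMap_apply] at this
          simp [this, hcompd] }
    obtain ⟨gens, hgens⟩ := Module.Finite.fg_top (R := D) (M := E)
    have hfin : ∀ z : P ⊗[K] F, ∃ s : Finset _, ∀ i ∉ s, comp i z = 0 := by
      intro z
      induction z using TensorProduct.induction_on with
      | zero => exact ⟨∅, by simp⟩
      | tmul a f => exact ⟨(b.repr a).support, fun i hi => by simp [hcomp, Finsupp.notMem_support_iff.1 hi]⟩
      | add x y hx hy =>
        obtain ⟨s, hs⟩ := hx
        obtain ⟨t, ht⟩ := hy
        exact ⟨s ∪ t, fun i hi => by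
          simp only [Finset.mem_union, not_or] at hi
          simp [hs i hi.1, ht i hi.2]⟩
    choose S hS using hfin
    let T := gens.biUnion fun e => S (g (1 ⊗ₜ e))
    have hT : ∀ i ∉ T, G i = 0 := by
      intro i hi
      refine LinearMap.ext_on hgens fun e he => ?_
      refine hS _ i fun h => hi ?_
      exact Finset.mem_biUnion.2 ⟨e, he, h⟩
    refine ⟨∑ i ∈ T, b i ⊗ₜ G i, ?_⟩
    ext e
    simp only [TensorProduct.AlgebraTensorModule.curry_apply, TensorProduct.curry_apply,
      LinearMap.coe_restrictScalars, map_sum, hΦ, LinearMap.coe_sum, Finset.sum_apply,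
      LinearMap.smul_apply, LinearMap.baseChange_tmul, TensorProduct.smul_tmul', smul_eq_mul, mul_one]
    exact (hext _ T fun i hi => LinearMap.congr_fun (hT i hi) e).symm

end Groth.Agent.S18796
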