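import Groth.Statements.S18802
import Mathlib.LinearAlgebra.Basis.VectorSpace
import Mathlib.Algebra.Algebra.Tower
import Mathlib.Algebra.Exact.Basic
import Mathlib.Algebra.Module.Projective
-- import your own Groth.Agent.* helpers here

set_option autoImplicit false
universe u v w w' w''
open DefMod

namespace Groth.Agent.S18802

/-- Let K be a field of characteristic zero, D an associative K-algebra and E, F left D-modules. A
K-linear map s : D → Hom_K(E, F) with s(ab)(e) = a s(b)(e) + s(a)(b e) (a derivation into the
bimodule Hom_K(E, F), i.e. a Hochschild 1-cocycle) defines the twisted sum F ⊕_s E = F × E with a ·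
(f, e) = (a f + s(a) e, a e), an extension of E by F. Every extension of left D-modules 0 → F → Q →
E → 0 arises this way: there are such an s and a D-linear isomorphism Q ≅ F ⊕_s E carrying the given
map F → Q to the inclusion f ↦ (f, 0) and compatible with the two projections onto E. (Together with
the splitting criterion this identifies derivations modulo principal derivations with Ext¹_D(E, F);
the compatibility of that identification with addition and scalars is not restated.) -/
theorem result
    {K : Type u} [Field K] [CharZero K]
    {D : Type v} [Ring D] [Algebra K D]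
    {E : Type w} [AddCommGroup E] [Module K E] [Module D E] [IsScalarTower K D E]
    {F : Type w'} [AddCommGroup F] [Module K F] [Module D F] [IsScalarTower K D F]
    {Q : Type w''} [AddCommGroup Q] [Module D Q]
    (i : F →ₗ[D] Q) (p : Q →ₗ[D] E) (hi : Function.Injective i) (hp : Function.Surjective p)
    (hex : Function.Exact i p) :
    ∃ (s : D →ₗ[K] E →ₗ[K] F) (hs : W4c6defoisocp1.IsHomDerivation s) (Φ : Q ≃ₗ[D] W4c6defoisocp1.TwistExt s hs),
      (∀ f : F, Φ (i f) = W4c6defoisocp1.TwistExt.inl f) ∧ ∀ q : Q, W4c6defoisocp1.TwistExt.snd (Φ q) = p q := by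
  letI : Module K Q := Module.compHom Q (algebraMap K D)
  haveI : IsScalarTower K D Q := IsScalarTower.of_algebraMap_smul fun _ _ => rfl
  haveI : SMulCommClass D K Q := ⟨fun a c x => by
    rw [← algebraMap_smul D c x, ← algebraMap_smul D c (a • x), smul_smul, smul_smul,
      Algebra.commutes]⟩
  haveI : SMulCommClass D K E := ⟨fun a c x => by
    rw [← algebraMap_smul D c x, ← algebraMap_smul D c (a • x), smul_smul, smul_smul,
      Algebra.commutes]⟩
  obtain ⟨σ, hσ⟩ := (p.restrictScalars K).exists_rightInverse_of_surjective
    (LinearMap.range_eq_top.2 hp)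
  have hσ' : ∀ e, p (σ e) = e := fun e => LinearMap.congr_fun hσ e
  let t : Q → F := fun q => Classical.epsilon fun f => i f = q - σ (p q)
  have ht : ∀ q, i (t q) = q - σ (p q) := fun q =>
    Classical.epsilon_spec ((hex _).1 (by rw [map_sub, hσ', sub_self]) : ∃ f, i f = q - σ (p q))
  let s : D →ₗ[K] E →ₗ[K] F := LinearMap.mk₂ K (fun a e => t (a • σ e))
    (fun a b e => hi (by
      simp only [map_add, ht, map_smul, hσ', add_smul]; abel))
    (fun c a e => hi (by
      simp only [LinearMap.map_smul_of_tower i, ht, map_smul, hσ', smul_assoc, smul_sub,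
        LinearMap.map_smul_of_tower p]))
    (fun a e e' => hi (by
      simp only [map_add, ht, map_smul, hσ', smul_add]; abel))
    (fun c a e => hi (by
      simp only [LinearMap.map_smul_of_tower i, ht, map_smul, hσ', LinearMap.map_smul_of_tower p,
        smul_sub, smul_comm a c]))
  have hs : ∀ a e, i (s a e) = a • σ e - σ (a • e) := fun a e => by
    change i (t (a • σ e)) = _
    rw [ht, map_smul, hσ']
  have hder : W4c6defoisocp1.IsHomDerivation s := fun a b e => hi (by
    rw [map_add, map_smul, hs, hs, hs, smul_sub, mul_smul, mul_smul]; abel)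
  refine ⟨s, hder, {
    toFun := fun q => W4c6defoisocp1.TwistExt.mk (t q, p q)
    invFun := fun x => i (W4c6defoisocp1.TwistExt.val x).1 + σ (W4c6defoisocp1.TwistExt.val x).2
    map_add' := fun x y => W4c6defoisocp1.TwistExt.ext (hi (by
      simp [ht]; abel)) (by simp)
    map_smul' := fun a x => W4c6defoisocp1.TwistExt.ext (hi (by
      simp [ht, hs, smul_sub])) (by simp)
    left_inv := fun q => by simp [ht]
    right_inv := fun x => W4c6defoisocp1.TwistExt.ext (hi (by
      simp [ht, hσ', hex.apply_apply_eq_zero])) (by simp [hσ', hex.apply_apply_eq_zero]) }, fun f => ?_, fun q => ?_⟩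
  · refine W4c6defoisocp1.TwistExt.ext (hi ?_) ?_ <;> simp [ht, hex.apply_apply_eq_zero]
  · simp

end Groth.Agent.S18802
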