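import Groth.Statements.S18803
-- import your own Groth.Agent.* helpers here

set_option autoImplicit false
universe u v w w'
open DefMod

namespace Groth.Agent.S18803

/-- Let K be a field of characteristic zero, D an associative K-algebra, E and F left D-modules, and s :
D → Hom_K(E, F) a K-linear map with s(ab)(e) = a s(b)(e) + s(a)(b e). The twisted sum F ⊕_s E (that
is F × E with a · (f, e) = (a f + s(a) e, a e)) is a trivial extension of E by F — there is a
D-linear isomorphism F ⊕_s E ≅ F × E with the direct-sum module structure, carrying the inclusion f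
↦ (f, 0) to itself and compatible with the second projections — if and only if s is principal:
s(a)(e) = a σ(e) − σ(a e) for some K-linear σ : E → F (a Hochschild 1-coboundary). -/
theorem result
    {K : Type u} [Field K] [CharZero K]
    {D : Type v} [Ring D] [Algebra K D]
    {E : Type w} [AddCommGroup E] [Module K E] [Module D E] [IsScalarTower K D E]
    {F : Type w'} [AddCommGroup F] [Module K F] [Module D F] [IsScalarTower K D F]
    (s : D →ₗ[K] E →ₗ[K] F) (hs : W4c6defoisocp1.IsHomDerivation s) :
    (∃ Ψ : W4c6defoisocp1.TwistExt s hs ≃ₗ[D] F × E,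
        (∀ f : F, Ψ (W4c6defoisocp1.TwistExt.inl f) = (f, 0)) ∧ ∀ x : W4c6defoisocp1.TwistExt s hs, (Ψ x).2 = W4c6defoisocp1.TwistExt.snd x) ↔
      W4c6defoisocp1.IsPrincipal s := by
  constructor
  · rintro ⟨Ψ, h1, h2⟩
    have key : ∀ x : W4c6defoisocp1.TwistExt s hs,
        (Ψ x).1 = (W4c6defoisocp1.TwistExt.val x).1 +
          (Ψ (W4c6defoisocp1.TwistExt.mk (0, (W4c6defoisocp1.TwistExt.val x).2))).1 := by
      intro x
      have hx : x = W4c6defoisocp1.TwistExt.inl (W4c6defoisocp1.TwistExt.val x).1 +
          W4c6defoisocp1.TwistExt.mk (0, (W4c6defoisocp1.TwistExt.val x).2) :=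
        W4c6defoisocp1.TwistExt.ext (by simp) (by simp)
      conv_lhs => rw [hx]
      rw [map_add, h1]
      rfl
    let σ₀ : E →+ F := AddMonoidHom.mk'
      (fun e => (Ψ (W4c6defoisocp1.TwistExt.mk (0, e))).1) fun a b => by
        rw [← Prod.fst_add, ← map_add]
        congr 2
        exact W4c6defoisocp1.TwistExt.ext (by simp) (by simp)
    have hσ : ∀ (a : D) e, a • σ₀ e = s a e + σ₀ (a • e) := by
      intro a e
      have h := key (a • W4c6defoisocp1.TwistExt.mk (0, e))
      rw [map_smul] at h
      simpa [σ₀] using h
    refine ⟨{ σ₀ with map_smul' := fun c e => ?_ }, fun a e => ?_⟩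
    · have hs1 : s (algebraMap K D c) = 0 := by
        rw [Algebra.algebraMap_eq_smul_one, map_smul, W4c6defoisocp1.TwistExt.map_one_eq_zero hs,
          smul_zero]
      have h := hσ (algebraMap K D c) e
      rw [hs1, algebraMap_smul, algebraMap_smul, LinearMap.zero_apply, zero_add] at h
      exact h.symm
    · change s a e = a • σ₀ e - σ₀ (a • e)
      rw [hσ, add_sub_cancel_right]
  · rintro ⟨σ, hσ⟩
    refine ⟨{
      toFun := fun x => ((W4c6defoisocp1.TwistExt.val x).1 + σ (W4c6defoisocp1.TwistExt.val x).2,
        (W4c6defoisocp1.TwistExt.val x).2)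
      invFun := fun y => W4c6defoisocp1.TwistExt.mk (y.1 - σ y.2, y.2)
      map_add' := fun x y => by ext <;> simp <;> abel
      map_smul' := fun a x => by
        ext
        · simp [hσ, smul_add]; abel
        · simp
      left_inv := fun x => W4c6defoisocp1.TwistExt.ext (by simp) (by simp)
      right_inv := fun y => by simp }, fun f => ?_, fun x => ?_⟩
    · simp
    · rfl

end Groth.Agent.S18803
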