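import Groth.Statements.S18804
import Groth.Agent.CurveCohLib.Clifford
import Groth.Agent.CurveCohLib.Rank
import Groth.Agent.CurveCohLib.SmoothCurve
-- import your own Groth.Agent.* helpers here

set_option autoImplicit false
universe u
open CategoryTheory CategoryTheory.Limits AlgebraicGeometry
open Curves

namespace Groth.Agent.S18804

/-- Let k be an algebraically closed field of characteristic zero, X a smooth proper integral curve over
k (integral, proper and smooth over k, of dimension one) of genus g, and L an invertible O_X-module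
of degree deg L = χ(L) − χ(O_X) at least 2g + 3. Then L is 3-very ample: every closed subscheme Z of
X of length 4 imposes independent conditions on H^0(X, L), stated as dim_k H^0(X, L ⊗ I) + 4 = dim_k
H^0(X, L) for every quasi-coherent ideal I of O_X with dim_k H^0(X, O_X/I) = 4. -/
theorem result
    (k : Type u) [Field k] [IsAlgClosed k] [CharZero k]
    (X : Scheme.{u}) [X.Over (Spec (CommRingCat.of k))] [IsIntegral X]
    [IsProper (X ↘ Spec (CommRingCat.of k))] [Smooth (X ↘ Spec (CommRingCat.of k))]
    (hdim : topologicalKrullDim X = 1)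
    (L : X.Modules) (hL : PicF.IsInvertible L)
    (hdeg : 2 * (Curv2.genus k X : ℤ) + 3 ≤ Curv2.deg k X L 1)
    (I : X.IdealSheafData) (hI : Module.finrank k (Coh.HH X (ClSub.quotMod I) 0) = 4) :
    Module.finrank k (Coh.HH X (CohB1.tensorMod L (ClSub.idealMod I)) 0) + 4 =
      Module.finrank k (Coh.HH X L 0) := by
  haveI := Groth.Agent.CurveCohLib.isNoetherian_of_proper (k := k) (X := X)
  have h0 := Groth.Agent.CurveCohLib.Clifford.finrank_h0_structure k (X := X)
  have hO := Groth.Agent.CurveCohLib.Nonspecial.euler_structure k hdim h0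
  have hdimI : topologicalKrullDim (I.support : Set X) ≤ 0 := by
    refine Groth.Agent.CurveDeg.topologicalKrullDim_le_zero_of_ne_univ hdim.le I.support.isClosed fun hu => ?_
    have hbot : I = ⊥ := Scheme.IdealSheafData.support_eq_top_iff.1 (TopologicalSpace.Closeds.ext hu)
    subst hbot
    haveI : IsIso (ClSub.toSubscheme (⊥ : X.IdealSheafData)) :=
      Scheme.Modules.Hom.isIso_iff_isIso_app.2 fun U => by
        rw [ConcreteCategory.isIso_iff_bijective]
        exact ConcreteCategory.bijective_of_isIso ((Scheme.IdealSheafData.subschemeι (⊥ : X.IdealSheafData)).app U)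
    have h := (Groth.Agent.CurveCohLib.hhEquiv (k := k) (asIso (ClSub.toSubscheme (⊥ : X.IdealSheafData))) 0).finrank_eq
    exact absurd ((h0.symm.trans h).trans hI) (by norm_num)
  have hLc := Groth.Agent.CurveDeg.isCoh_of_isInvertible hL
  have hTc := Groth.Agent.CurveCohLib.Nonspecial.isCoh_twist k I hL
  have hT := Groth.Agent.CurveCohLib.Nonspecial.euler_twist k I hL hdim hdimI
  rw [hI, hO] at hT
  haveI hTv := Groth.Agent.CurveCohLib.Nonspecial.h1_of_euler k hdim hTc
    (Groth.Agent.CurveCohLib.Nonspecial.section_twist k I hL) (by push_cast at hT; omega)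
  haveI hLv := Groth.Agent.CurveCohLib.Nonspecial.h1_of_euler k hdim hLc
    (Groth.Agent.CurveCohLib.Nonspecial.section_of_sub k hLc hL (𝟙 L))
    (by
      have h' := hdeg
      unfold Curv2.deg at h'
      rw [hO] at h'
      push_cast at h'
      omega)
  have h1 := Groth.Agent.CurveRR.euler_eq_h0_sub_h1 k hdim.le hTc.1
  have h2 := Groth.Agent.CurveCohLib.Clifford.deg_eq k hdim hL
  rw [Module.finrank_zero_of_subsingleton (M := Coh.HH X L 1)] at h2
  rw [Module.finrank_zero_of_subsingleton (M := Coh.HH X (Groth.Agent.CurveCohLib.Nonspecial.twist I L) 1)] at h1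
  change Module.finrank k (Coh.HH X (Groth.Agent.CurveCohLib.Nonspecial.twist I L) 0) + 4 = _
  push_cast at hT h1 h2
  omega

end Groth.Agent.S18804
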