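import Groth.Statements.S18805
import Groth.Agent.CurveCohLib.Clifford
import Groth.Agent.Lib.CurveCanonical
import Groth.Agent.Lib.CurveDualPrep
import Groth.Agent.CurveBC.Main
import Groth.Agent.Lib.CurvePoint
-- import your own Groth.Agent.* helpers here

set_option autoImplicit false
universe u
open CategoryTheory CategoryTheory.Limits AlgebraicGeometry
open Curves

set_option backward.isDefEq.respectTransparency false
set_option backward.isDefEq.respectTransparency.types false
set_option linter.style.haveILetI false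
set_option linter.unusedSectionVars false

namespace Groth.Agent.S18805

open CategoryTheory CategoryTheory.Limits AlgebraicGeometry
open Groth.Agent Groth.Agent.CurveBundle Groth.Agent.CurveSlope Groth.Agent.CurveStable

/-- Riemann–Roch with duality for the ideal of four points. -/
theorem aux (k : Type u) [Field k] [IsAlgClosed k]
    (X : Scheme.{u}) [X.Over (Spec (CommRingCat.of k))] [IsIntegral X]
    [IsProper (X ↘ Spec (CommRingCat.of k))] [Smooth (X ↘ Spec (CommRingCat.of k))]
    (hdim : topologicalKrullDim X = 1) (I : X.IdealSheafData)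
    (hI : Module.finrank k (Coh.HH X (ClSub.quotMod I) 0) = 4) :
    ∃ D : X.Modules, ClSub.IsInverseOf (ClSub.idealMod I) D ∧
      (∀ M : X.Modules, ClSub.IsInverseOf (ClSub.idealMod I) M →
        Module.finrank k (Coh.HH X M 0) = Module.finrank k (Coh.HH X D 0)) ∧
      (Module.finrank k (Coh.HH X (CohB1.tensorMod (Omega.sheaf (X ↘ Spec (CommRingCat.of k))) (ClSub.idealMod I)) 0) + 4 =
        Module.finrank k (Coh.HH X (Omega.sheaf (X ↘ Spec (CommRingCat.of k))) 0) ↔
        Module.finrank k (Coh.HH X D 0) = 1) := by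
  haveI := CurveCohLib.isNoetherian_of_proper (k := k) (X := X)
  have hO := CurveCohLib.Clifford.finrank_h0_structure k (X := X)
  have hO1 := InvEnd.isFinLocFreeOfRank_one (CurveDeg.isInvertible_structureModule (X := X))
  have hQc : Coh.IsCoh (ClSub.quotMod I) := ParShLib.isCoh_quotMod I
  haveI := CurvePoint.epi_toSubscheme I
  have hS := CurveSlope.shortExact_kernel_of_epi (ClSub.toSubscheme I)
  have hOc : Coh.IsCoh (Coh.structureModule X) := QCoh.isCoh_structureModule'
  have hKc : Coh.IsCoh (ClSub.idealMod I) := QCoh.isCoh_kernel hOc hQc _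
  haveI : Mono (ClSub.idealModι I) := hS.mono_f
  have hKf := isFinLocFree_of_mono k hdim.le hKc (ClSub.idealModι I) (isFinLocFree_of_rank hO1)
  have hr := rk_add_coh k _ _ _ hS hOc
  rw [rk_eq hO1] at hr
  have hr1 : rk (ClSub.idealMod I) = 1 := by
    by_contra hne
    have h0 : rk (ClSub.idealMod I) = 0 := by
      change 1 = rk (ClSub.idealMod I) + _ at hr
      omega
    have hz := isZero_of_rk_zero hKf h0
    haveI : Mono (ClSub.toSubscheme I) := hS.exact.mono_g (hz.eq_of_src _ _)
    haveI : IsIso (ClSub.toSubscheme I) := isIso_of_mono_of_epi _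
    rw [← (CurveCohLib.hhEquiv (k := k) (asIso (ClSub.toSubscheme I)) 0).finrank_eq, hO] at hI
    omega
  have hK : PicF.IsInvertible (ClSub.idealMod I) :=
    CurveDuality.isInvertible_of_rank_one (hr1 ▸ isFinLocFreeOfRank_rk hKf)
  have hQ0 : rk (ClSub.quotMod I) = 0 := by
    change 1 = rk (ClSub.idealMod I) + rk (ClSub.quotMod I) at hr
    omega
  haveI := CurveDuality.subsingleton_HH_of_rk_zero k hdim hQc hQ0
  have he := euler_add' k _ _ _ hS hKc hOc hQc
  rw [CurveRR.euler_eq_h0_sub_h1 k hdim.le hQc.1, hI,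
    Module.finrank_zero_of_subsingleton (R := k) (M := Coh.HH X (ClSub.quotMod I) 1)] at he
  obtain ⟨D, hD, hdD, ⟨e⟩⟩ := CurveDuality.exists_inverse_deg k hdim hK
  refine ⟨D, ⟨e⟩, fun M ⟨eM⟩ => ?_, ?_⟩
  · let e' : (DCoh.tensorBi.obj D).obj (ClSub.idealMod I) ≅ Coh.structureModule X :=
      CurveTensor.commIso D (ClSub.idealMod I) ≪≫ e
    exact (CurveCohLib.hhEquiv (k := k) (((CurveRR.cancelIso e').app M).symm ≪≫
      (DCoh.tensorBi.obj D).mapIso eM ≪≫ KFlatLib.tensorUnitIso D) 0).finrank_eq
  obtain ⟨ω, μ, hω⟩ := CurveDuality.exists_isDualizing k hdim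
  have hg := (CurveDuality.canonical_invariants k hO hω hdim).1
  have hgd := (CurveDuality.canonical_invariants k hO hω hdim).2.2
  obtain ⟨eω⟩ := CurveBC.nonempty_iso_omega k X hdim hO hω.inv hgd hg.ge
  have eD : (DCoh.tensorBi.obj D).obj (ClSub.idealMod I) ≅ Coh.structureModule X :=
    CurveTensor.commIso D (ClSub.idealMod I) ≪≫ e
  have h1 := CurveDuality.finrank_h1_eq k hω hdim hD eD
  let u : (DCoh.tensorBi.obj (ClSub.idealMod I)).obj ω ≅
      (DCoh.tensorBi.obj (Omega.sheaf (X ↘ Spec (CommRingCat.of k)))).obj (ClSub.idealMod I) :=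
    CurveTensor.commIso _ _ ≪≫ (DCoh.tensorBi.mapIso eω).app _
  rw [(CurveCohLib.hhEquiv (k := k) u 0).finrank_eq] at h1
  rw [← (CurveCohLib.hhEquiv (k := k) eω 0).finrank_eq, hg]
  change Module.finrank k (Coh.HH X D 1) = Module.finrank k (Coh.HH X (CohB1.tensorMod
    (Omega.sheaf (X ↘ Spec (CommRingCat.of k))) (ClSub.idealMod I)) 0) at h1
  have hRR := CurveCohLib.Clifford.deg_eq k hdim hD
  have hdI : Curv2.deg k X (ClSub.idealMod I) 1 = -4 := by
    unfold Curv2.deg
    push_cast
    change _ = Curv2.euler k X (ClSub.idealMod I) + _ at he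
    push_cast at he
    linarith
  rw [hdD, hdI] at hRR
  omega


/-- Let k be an algebraically closed field of characteristic zero and X a smooth proper integral curve
over k (integral, proper and smooth over k, of dimension one), with sheaf of differentials ω =
Ω_(X/k). Then ω is 3-very ample, meaning dim_k H^0(X, ω ⊗ I) + 4 = dim_k H^0(X, ω) for every
quasi-coherent ideal I of O_X with dim_k H^0(X, O_X/I) = 4, if and only if X carries no g^1_4,
meaning that for every such I (the ideal of an effective divisor D of degree 4) every module M with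
I ⊗ M ≅ O_X (so M plays the role of O_X(D)) has dim_k H^0(X, M) = 1. -/
theorem result
    (k : Type u) [Field k] [IsAlgClosed k] [CharZero k]
    (X : Scheme.{u}) [X.Over (Spec (CommRingCat.of k))] [IsIntegral X]
    [IsProper (X ↘ Spec (CommRingCat.of k))] [Smooth (X ↘ Spec (CommRingCat.of k))]
    (hdim : topologicalKrullDim X = 1) :
    (∀ (I : X.IdealSheafData), Module.finrank k (Coh.HH X (ClSub.quotMod I) 0) = 4 →
      Module.finrank k (Coh.HH X (CohB1.tensorMod (Omega.sheaf (X ↘ Spec (CommRingCat.of k))) (ClSub.idealMod I)) 0) + 4 =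
        Module.finrank k (Coh.HH X (Omega.sheaf (X ↘ Spec (CommRingCat.of k))) 0)) ↔
    (∀ (I : X.IdealSheafData), Module.finrank k (Coh.HH X (ClSub.quotMod I) 0) = 4 →
      ∀ (M : X.Modules), ClSub.IsInverseOf (ClSub.idealMod I) M →
        Module.finrank k (Coh.HH X M 0) = 1) := by
  constructor
  · intro h I hI M hM
    obtain ⟨D, -, hall, hiff⟩ := aux k X hdim I hI
    rw [hall M hM]
    exact hiff.1 (h I hI)
  · intro h I hI
    obtain ⟨D, hinv, -, hiff⟩ := aux k X hdim I hI
    exact hiff.2 (h I hI D hinv)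

end Groth.Agent.S18805
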