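import Groth.Statements.S18806
import Groth.Agent.ComodLib.Push

set_option autoImplicit false
universe u v v' w w' x
open TensorProduct
open HopfRep

namespace Groth.Agent.S18806

open Groth.Agent.ComodLib TensorProduct

/-- Let k be a field, i : C → D an injective morphism of k-coalgebras and V a right D-comodule with
coaction ρ : V → V ⊗ D. If ρ(v) lies in the image of V ⊗ C → V ⊗ D (induced by i) for every v, then
V comes from a C-comodule: there is a C-comodule structure on V whose coaction, followed by V ⊗ C →
V ⊗ D, is ρ. (The source states this for left comodules over the coordinate bialgebras of an affine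
monoid scheme over k and of its group of units, assumed open and schematically dense, and uses that
assumption only through the injectivity of the restriction map of coordinate rings; the row is the
right-comodule mirror image for any injective coalgebra map. The converse direction is immediate.) -/
theorem result (k : Type u) [Field k]
    (C : Type v) [AddCommGroup C] [Module k C] [Coalgebra k C]
    (D : Type v') [AddCommGroup D] [Module k D] [Coalgebra k D]
    (i : C →ₗc[k] D) (hi : Function.Injective i)
    (V : Type w) [AddCommGroup V] [Module k V] [HopfRep.Comod k D V]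
    (h : ∀ v : V, HopfRep.Comod.coact (k := k) (A := D) v ∈ LinearMap.range ((i : C →ₗ[k] D).lTensor V)) :
    ∃ c : HopfRep.Comod k C V,
      (i : C →ₗ[k] D).lTensor V ∘ₗ c.coact = HopfRep.Comod.coact (k := k) (A := D) := by
  obtain ⟨p, hp⟩ := LinearMap.exists_leftInverse_of_injective (i : C →ₗ[k] D) (LinearMap.ker_eq_bot.mpr hi)
  set cc : V →ₗ[k] V ⊗[k] C := p.lTensor V ∘ₗ HopfRep.Comod.coact (k := k) (A := D) with hcc
  have key : (i : C →ₗ[k] D).lTensor V ∘ₗ cc = HopfRep.Comod.coact (k := k) (A := D) := by
    ext v
    obtain ⟨y, hy⟩ := h v
    rw [hcc, LinearMap.comp_apply, LinearMap.comp_apply, ← hy,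
      ← LinearMap.comp_apply (LinearMap.lTensor V p), ← LinearMap.lTensor_comp, hp, LinearMap.lTensor_id]
    rfl
  refine ⟨{ coact := cc, coassoc := ?_, counit_comp := ?_ }, key⟩
  · ext v
    have hinj : Function.Injective ((TensorProduct.map (i : C →ₗ[k] D) (i : C →ₗ[k] D)).lTensor V) :=
      Module.Flat.lTensor_preserves_injective_linearMap _
        (TensorProduct.map_injective_of_flat_flat' _ _ hi hi)
    apply hinj
    have hd := LinearMap.congr_fun (HopfRep.Comod.coassoc (k := k) (A := D) (V := V)) v
    simp only [LinearMap.comp_apply, LinearEquiv.coe_coe] at hd ⊢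
    have e : (i : C →ₗ[k] D).lTensor V (cc v) = HopfRep.Comod.coact (k := k) (A := D) v :=
      LinearMap.congr_fun key v
    have h1 : ∀ z : V ⊗[k] C, TensorProduct.map ((i : C →ₗ[k] D).lTensor V) (i : C →ₗ[k] D) (cc.rTensor C z) =
        (HopfRep.Comod.coact (k := k) (A := D)).rTensor D ((i : C →ₗ[k] D).lTensor V z) := by
      intro z
      induction z using TensorProduct.induction_on with
      | zero => simp
      | tmul a b => simp [← LinearMap.congr_fun key a]
      | add p q hp hq => simp only [map_add, hp, hq]
    have h2 : ∀ z : V ⊗[k] C, (TensorProduct.map (i : C →ₗ[k] D) (i : C →ₗ[k] D)).lTensor V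
          (CoalgebraStruct.comul.lTensor V z) =
        CoalgebraStruct.comul.lTensor V ((i : C →ₗ[k] D).lTensor V z) := by
      intro z
      induction z using TensorProduct.induction_on with
      | zero => simp
      | tmul a b =>
        simp only [LinearMap.lTensor_tmul]
        exact congrArg (fun t => a ⊗ₜ[k] t) (CoalgHomClass.map_comp_comul_apply i b)
      | add p q hp hq => simp only [map_add, hp, hq]
    rw [← assoc_map_lTensor, h1, h2, e, hd]
  · have e : CoalgebraStruct.counit (R := k) (A := C) = CoalgebraStruct.counit (R := k) (A := D) ∘ₗ (i : C →ₗ[k] D) :=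
      (CoalgHomClass.counit_comp i).symm
    rw [e, LinearMap.lTensor_comp, LinearMap.comp_assoc, key, HopfRep.Comod.counit_comp]

end Groth.Agent.S18806
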