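import Groth.Statements.S18808
import Groth.Agent.ComodLib.Basic
-- import your own Groth.Agent.* helpers here

set_option autoImplicit false
universe u v v' w w' x
open TensorProduct
open HopfRep

namespace Groth.Agent.S18808

/-- Let k be a field, i : C → D an injective morphism of k-coalgebras and V a right D-comodule with
coaction ρ. Call a D-subcomodule K of V admissible when the induced coaction of V/K, namely ρ
followed by the projection V ⊗ D → (V/K) ⊗ D, takes all its values in the image of (V/K) ⊗ C → (V/K)
⊗ D (so that V/K comes from a C-comodule). Then there is a least admissible D-subcomodule of V: V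
has a largest quotient D-comodule coming from C, through which every D-comodule map from V to a
comodule coming from C factors. (The source states this for left comodules over the coordinate
bialgebras of an affine monoid scheme and its open schematically dense group of units, as the
existence of a universal map from a representation of the unit group to a representation of the
monoid; it uses that assumption only through the injectivity of the restriction map.) -/
theorem result (k : Type u) [Field k]
    (C : Type v) [AddCommGroup C] [Module k C] [Coalgebra k C]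
    (D : Type v') [AddCommGroup D] [Module k D] [Coalgebra k D]
    (i : C →ₗc[k] D) (hi : Function.Injective i)
    (V : Type w) [AddCommGroup V] [Module k V] [HopfRep.Comod k D V] :
    ∃ K : Submodule k V, HopfRep.IsSubcomod (k := k) (A := D) K ∧
      (∀ v : V, K.mkQ.rTensor D (HopfRep.Comod.coact (k := k) (A := D) v) ∈
        LinearMap.range ((i : C →ₗ[k] D).lTensor (V ⧸ K))) ∧
      ∀ K' : Submodule k V, HopfRep.IsSubcomod (k := k) (A := D) K' →
        (∀ v : V, K'.mkQ.rTensor D (HopfRep.Comod.coact (k := k) (A := D) v) ∈
          LinearMap.range ((i : C →ₗ[k] D).lTensor (V ⧸ K'))) → K ≤ K' := by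
  let P : Submodule k V → Prop := fun K => HopfRep.IsSubcomod (k := k) (A := D) K ∧
    ∀ φ : D →ₗ[k] k, φ ∘ₗ (i : C →ₗ[k] D) = 0 → ∀ v, Groth.Agent.ComodLib.actF φ v ∈ K
  have hiff : ∀ K : Submodule k V, (∀ v : V, K.mkQ.rTensor D (HopfRep.Comod.coact (k := k) (A := D) v) ∈
      LinearMap.range ((i : C →ₗ[k] D).lTensor (V ⧸ K))) ↔
      ∀ φ : D →ₗ[k] k, φ ∘ₗ (i : C →ₗ[k] D) = 0 → ∀ v, Groth.Agent.ComodLib.actF φ v ∈ K := fun K => by
    constructor
    · intro h φ hφ v
      obtain ⟨z, hz⟩ := h v
      have h1 := Groth.Agent.ComodLib.slice_rTensor φ K.mkQ (HopfRep.Comod.coact (k := k) (A := D) v)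
      rw [← hz, Groth.Agent.ComodLib.slice_lTensor, hφ] at h1
      have h2 : Groth.Agent.ComodLib.slice (0 : C →ₗ[k] k) z = 0 := by
        rw [show (0 : C →ₗ[k] k) = (0 : k) • (0 : C →ₗ[k] k) from (zero_smul k _).symm,
          Groth.Agent.ComodLib.slice_smul, zero_smul]
      rw [h2] at h1
      exact (Submodule.Quotient.mk_eq_zero K).mp h1.symm
    · intro h v
      refine (lTensor_exact (V ⧸ K) (LinearMap.exact_map_mkQ_range (i : C →ₗ[k] D))
        (Submodule.mkQ_surjective _) _).mp ?_
      refine Groth.Agent.ComodLib.eq_zero_of_forall_slice_eq_zero fun φ => ?_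
      rw [Groth.Agent.ComodLib.slice_lTensor, Groth.Agent.ComodLib.slice_rTensor]
      refine (Submodule.Quotient.mk_eq_zero K).mpr (h _ ?_ v)
      rw [LinearMap.comp_assoc, LinearMap.range_mkQ_comp, LinearMap.comp_zero]
  have hP : P (⨅ K : {K : Submodule k V // P K}, K.1) :=
    ⟨Groth.Agent.ComodLib.isSubcomod_iInf fun K => K.2.1, fun φ hφ v =>
      Submodule.mem_iInf _ |>.mpr fun K => K.2.2 φ hφ v⟩
  exact ⟨_, hP.1, (hiff _).mpr hP.2, fun K' h1 h2 => iInf_le_of_le ⟨K', h1, (hiff K').mp h2⟩ le_rfl⟩

end Groth.Agent.S18808
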