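import Groth.Statements.S18810
import Groth.Agent.ComodLib.Isotypic

set_option autoImplicit false
universe u v v' w w' x
open TensorProduct
open HopfRep

namespace Groth.Agent.S18810

open Groth.Agent.ComodLib

/-- Let k be a field, C a k-coalgebra, V a right C-comodule and (S_j) a family of simple C-comodules
which are pairwise non-isomorphic (for j ≠ j' no k-linear isomorphism S_j ≃ S_j' commutes with the
coactions). For each j let V[j] be the isotypic component of type S_j: the sum of the images of all
comodule maps S_j → V (equivalently of all simple subcomodules of V isomorphic to S_j, a nonzero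
such map being injective). Then the family j ↦ V[j] is independent, so that the socle of V is the
direct sum of its isotypic components. (The source states this for representations of an affine
monoid scheme over k, i.e. left comodules over its coordinate bialgebra; the row is the
right-comodule form over any coalgebra.) -/
theorem result (k : Type u) [Field k]
    (C : Type v) [AddCommGroup C] [Module k C] [Coalgebra k C]
    (V : Type w) [AddCommGroup V] [Module k V] [HopfRep.Comod k C V]
    {ι : Type x} (S : ι → Type w') [∀ j, AddCommGroup (S j)] [∀ j, Module k (S j)]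
    [∀ j, HopfRep.Comod k C (S j)] (hS : ∀ j, HopfRep.IsSimpleComod k C (S j))
    (hne : ∀ j j', j ≠ j' → ∀ e : S j ≃ₗ[k] S j', ¬ Hoch.IsComodHom C (e : S j →ₗ[k] S j')) :
    iSupIndep (fun j => ⨆ f : {f : S j →ₗ[k] V // Hoch.IsComodHom C f}, LinearMap.range f.1) := by
  haveI : ∀ j, IsSimpleModule (WithConv (C →ₗ[k] k)) (S j) := fun j => isSimpleComod_iff_isSimpleModule.mp (hS j)
  let T : ι → Submodule (WithConv (C →ₗ[k] k)) V := fun j =>
    ⨆ f : S j →ₗ[WithConv (C →ₗ[k] k)] V, LinearMap.range f
  have hT : (fun j => ⨆ f : {f : S j →ₗ[k] V // Hoch.IsComodHom C f}, LinearMap.range f.1) =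
      fun j => (T j).restrictScalars k := by
    ext1 j
    simp only [T, Submodule.restrictScalars_iSup]
    refine le_antisymm (iSup_le fun f => ?_) (iSup_le fun f => ?_)
    · exact le_iSup (fun f : S j →ₗ[WithConv (C →ₗ[k] k)] V => (LinearMap.range f).restrictScalars k)
        (toConvLin f.1 f.2)
    · exact le_iSup (fun f : {f : S j →ₗ[k] V // Hoch.IsComodHom C f} => LinearMap.range f.1)
        ⟨_, isComodHom_of_convLinear f⟩
  rw [hT]
  apply iSupIndep_of_isInternal_conv
  intro j
  rw [disjoint_iff]
  by_contra hbad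
  haveI : ∀ i, IsSemisimpleModule (WithConv (C →ₗ[k] k)) (T i) := fun i => by
    have key : IsSemisimpleModule (WithConv (C →ₗ[k] k))
        ↥(⨆ f ∈ (Set.univ : Set (S i →ₗ[WithConv (C →ₗ[k] k)] V)), LinearMap.range f) := by
      refine isSemisimpleModule_biSup_of_isSemisimpleModule_submodule fun f _ => ?_
      rcases LinearMap.injective_or_eq_zero f with h | h
      · exact IsSemisimpleModule.congr (R := WithConv (C →ₗ[k] k)) (LinearEquiv.ofInjective f h).symm
      · subst h
        rw [LinearMap.range_zero]
        exact isSemisimpleModule_iff _ _ |>.mpr Subsingleton.instComplementedLattice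
    rw [iSup_univ] at key
    exact key
  haveI : IsSemisimpleModule (WithConv (C →ₗ[k] k)) ↥(T j ⊓ ⨆ (i) (_ : i ≠ j), T i) :=
    by
    have h := IsSemisimpleModule.of_injective
      (Submodule.inclusion (inf_le_left : T j ⊓ (⨆ (i) (_ : i ≠ j), T i) ≤ T j))
    exact h (Submodule.inclusion_injective inf_le_left)
  obtain ⟨N, hN, hNs⟩ := (IsSemisimpleModule.eq_bot_or_exists_simple_le
    (T j ⊓ ⨆ (i) (_ : i ≠ j), T i)).resolve_left hbad
  haveI := hNs
  obtain ⟨p, -, ⟨e₁⟩⟩ := exists_equiv_of_le_iSup_range (K := fun _ : (S j →ₗ[WithConv (C →ₗ[k] k)] V) => S j)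
    (fun f => f) N (hN.trans inf_le_left)
  obtain ⟨⟨⟨i, hi⟩, q⟩, -, ⟨e₂⟩⟩ := exists_equiv_of_le_iSup_range
    (K := fun p : Σ i : {i // i ≠ j}, (S i.1 →ₗ[WithConv (C →ₗ[k] k)] V) => S p.1.1) (fun p => p.2) N
    (hN.trans (inf_le_right.trans (iSup₂_le fun i hi => iSup_le fun f =>
      le_iSup (fun p : Σ i : {i // i ≠ j}, (S i.1 →ₗ[WithConv (C →ₗ[k] k)] V) => LinearMap.range p.2) ⟨⟨i, hi⟩, f⟩)))
  exact hne i j hi ((e₂.symm.trans e₁).restrictScalars k)
    (isComodHom_of_convLinear (e₂.symm.trans e₁).toLinearMap)

end Groth.Agent.S18810
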