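import Groth.Statements.S18814
import Groth.Agent.ComodLib.Basic
-- import your own Groth.Agent.* helpers here

set_option autoImplicit false
universe u v v' w w'
open TensorProduct
open HopfRep

namespace Groth.Agent.S18814

/-- Let k be a field, C and D commutative bialgebras over k (coordinate rings of affine monoid schemes M
and N) and V a k-vector space carrying a right C-comodule structure with coaction ρ_C : V → V ⊗ C
and a right D-comodule structure with coaction ρ_D : V → V ⊗ D which commute: (ρ_C ⊗ id_D) ∘ ρ_D and
(ρ_D ⊗ id_C) ∘ ρ_C agree in V ⊗ C ⊗ D after reassociating and swapping the last two factors (the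
actions of M and N on V commute). Assume V is semisimple as a D-comodule. Then for every simple
D-comodule S the isotypic component of V of type S, the sum of the images of all D-comodule maps S →
V, is a C-subcomodule of V. (The source works with left comodules; this is the right-comodule form.) -/
theorem result (k : Type u) [Field k]
    (C : Type v) [CommRing C] [Bialgebra k C] (D : Type v') [CommRing D] [Bialgebra k D]
    (V : Type w) [AddCommGroup V] [Module k V] [HopfRep.Comod k C V] [HopfRep.Comod k D V]
    (hcomm : (TensorProduct.assoc k V C D).toLinearMap ∘ₗ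
        (HopfRep.Comod.coact (k := k) (A := C) (V := V)).rTensor D ∘ₗ HopfRep.Comod.coact (k := k) (A := D) =
      (TensorProduct.comm k D C).toLinearMap.lTensor V ∘ₗ (TensorProduct.assoc k V D C).toLinearMap ∘ₗ
        (HopfRep.Comod.coact (k := k) (A := D) (V := V)).rTensor C ∘ₗ HopfRep.Comod.coact (k := k) (A := C))
    (hV : HopfRep.IsSemisimpleComod k D V)
    (S : Type w') [AddCommGroup S] [Module k S] [HopfRep.Comod k D S] (hS : HopfRep.IsSimpleComod k D S) :
    HopfRep.IsSubcomod (k := k) (A := C)
      (⨆ f : {f : S →ₗ[k] V // Hoch.IsComodHom D f}, LinearMap.range f.1) := by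
  refine Groth.Agent.ComodLib.isSubcomod_iff_actF.mpr fun φ u hu => ?_
  have hg : Hoch.IsComodHom D (Groth.Agent.ComodLib.actF φ : V →ₗ[k] V) := by
    refine LinearMap.ext fun v => ?_
    let Φ : V ⊗[k] (C ⊗[k] D) →ₗ[k] V ⊗[k] D :=
      ((TensorProduct.lid k D).toLinearMap ∘ₗ φ.rTensor D).lTensor V
    have h := congrArg Φ (LinearMap.congr_fun hcomm v)
    simp only [LinearMap.comp_apply, LinearEquiv.coe_coe] at h
    have key1 : ∀ z : V ⊗[k] D, Φ (TensorProduct.assoc k V C D
        ((HopfRep.Comod.coact (k := k) (A := C)).rTensor D z)) =
        (Groth.Agent.ComodLib.actF φ).rTensor D z := fun z => by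
      induction z using TensorProduct.induction_on with
      | zero => simp
      | add p q hp hq => simp only [map_add, hp, hq]
      | tmul x d =>
        rw [LinearMap.rTensor_tmul, LinearMap.rTensor_tmul, Groth.Agent.ComodLib.actF_apply]
        induction HopfRep.Comod.coact (k := k) (A := C) x using TensorProduct.induction_on with
        | zero => simp
        | tmul y c => simp [Φ, TensorProduct.smul_tmul]
        | add p q hp hq => simp only [map_add, TensorProduct.add_tmul, hp, hq]
    have key2 : ∀ z : V ⊗[k] C, Φ ((TensorProduct.comm k D C).toLinearMap.lTensor V (TensorProduct.assoc k V D C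
        ((HopfRep.Comod.coact (k := k) (A := D)).rTensor C z))) =
        HopfRep.Comod.coact (k := k) (A := D) (Groth.Agent.ComodLib.slice φ z) := fun z => by
      induction z using TensorProduct.induction_on with
      | zero => simp
      | add p q hp hq => simp only [map_add, hp, hq]
      | tmul x c =>
        rw [LinearMap.rTensor_tmul, Groth.Agent.ComodLib.slice_tmul, map_smul]
        induction HopfRep.Comod.coact (k := k) (A := D) x using TensorProduct.induction_on with
        | zero => simp
        | tmul y d => simp [Φ, TensorProduct.smul_tmul']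
        | add p q hp hq => simp only [map_add, smul_add, TensorProduct.add_tmul, hp, hq]
    rw [key1, key2] at h
    exact h.symm
  have hle : (⨆ f : {f : S →ₗ[k] V // Hoch.IsComodHom D f}, LinearMap.range f.1) ≤
      (⨆ f : {f : S →ₗ[k] V // Hoch.IsComodHom D f}, LinearMap.range f.1).comap (Groth.Agent.ComodLib.actF φ) := by
    refine iSup_le fun f => ?_
    rintro _ ⟨s, rfl⟩
    refine Submodule.mem_iSup_of_mem ⟨Groth.Agent.ComodLib.actF φ ∘ₗ f.1, ?_⟩ ⟨s, rfl⟩
    exact Groth.Agent.ComodLib.isComodHom_iff_actF.mpr fun ψ x => by
      simp only [LinearMap.comp_apply]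
      rw [Groth.Agent.ComodLib.comodHom_actF f.2, Groth.Agent.ComodLib.comodHom_actF hg]
  exact hle hu

end Groth.Agent.S18814
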