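import Groth.Statements.S18817
import Groth.Agent.GrpSchLib.ThickIso
import Groth.Agent.AssLib.FlatField
import Groth.Agent.GrpSchLib.Coincidence

set_option autoImplicit false
universe u
open CategoryTheory MonoidalCategory CartesianMonoidalCategory MonObj AlgebraicGeometry Limits
open AlgGrp

namespace Groth.Agent.S18817

variable {C : Type*} [Category C] [CartesianMonoidalCategory C]

/-- Left multiplication by a `T`-point, as an endomorphism of `T ⊗ M`. -/
def Λ {T M : C} [MonObj M] (m : T ⟶ M) : T ⊗ M ⟶ T ⊗ M :=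
  lift (fst T M) ((fst T M ≫ m) * snd T M)

theorem Λ_comp {T M : C} [MonObj M] (m n : T ⟶ M) : Λ m ≫ Λ n = Λ (n * m) := by
  refine CartesianMonoidalCategory.hom_ext _ _ (by simp [Λ]) ?_
  simp [Λ, MonObj.comp_mul, _root_.mul_assoc]

theorem Λ_one {T M : C} [MonObj M] : Λ (1 : T ⟶ M) = 𝟙 (T ⊗ M) := by
  refine CartesianMonoidalCategory.hom_ext _ _ (by simp [Λ]) ?_
  simp [Λ, MonObj.comp_one]

theorem Λ_natural {T' T M : C} [MonObj M] (j : T' ⟶ T) (m : T ⟶ M) :
    (j ▷ M) ≫ Λ m = Λ (j ≫ m) ≫ (j ▷ M) := by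
  refine CartesianMonoidalCategory.hom_ext _ _ (by simp [Λ]) ?_
  simp [Λ, MonObj.comp_mul]

theorem isPullback_whiskerRight {S : Scheme.{u}} {T' T : Over S} (j : T' ⟶ T) (M : Over S) :
    IsPullback (j ▷ M).left (fst T' M).left (fst T M).left j.left := by
  refine (IsPullback.of_bot (h₁₁ := (fst T' M).left) (v₁₁ := (j ▷ M).left) (v₁₂ := j.left) ?_
    (congrArg CommaMorphism.left (whiskerRight_fst j M)).symm
    (IsPullback.of_hasPullback T.hom M.hom)).flip
  have h1 : (j ▷ M).left ≫ pullback.snd T.hom M.hom = pullback.snd T'.hom M.hom :=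
    congrArg CommaMorphism.left (whiskerRight_snd j M)
  have h2 : j.left ≫ T.hom = T'.hom := Over.w j
  rw [h1, h2]
  exact IsPullback.of_hasPullback T'.hom M.hom

/-- A point of a monoid with invertible left translation is a unit. -/
theorem isUnit_of_isIso {T M : C} [MonObj M] (m : T ⟶ M) [IsIso (Λ m)] : IsUnit m := by
  have key : ∀ a : T ⟶ M, lift (𝟙 T) a ≫ Λ m = lift (𝟙 T) (m * a) := fun a => by
    refine CartesianMonoidalCategory.hom_ext _ _ (by simp [Λ]) ?_
    simp [Λ, MonObj.comp_mul]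
  let n : T ⟶ M := lift (𝟙 T) 1 ≫ inv (Λ m) ≫ snd T M
  have hfst : lift (𝟙 T) (1 : T ⟶ M) ≫ inv (Λ m) ≫ fst T M = 𝟙 T := by
    have : inv (Λ m) ≫ fst T M = fst T M := by rw [IsIso.inv_comp_eq]; simp [Λ]
    rw [this, lift_fst]
  have hn : lift (𝟙 T) n = lift (𝟙 T) 1 ≫ inv (Λ m) := by
    refine CartesianMonoidalCategory.hom_ext _ _ ?_ ?_
    · rw [lift_fst, Category.assoc, hfst]
    · rw [lift_snd, Category.assoc]
  have h1 : m * n = 1 := by
    have h := key n
    rw [hn, Category.assoc, IsIso.inv_hom_id, Category.comp_id] at h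
    simpa using congrArg (· ≫ snd T M) h.symm
  have hinj : ∀ a b : T ⟶ M, m * a = m * b → a = b := fun a b h => by
    have h' : lift (𝟙 T) a ≫ Λ m = lift (𝟙 T) b ≫ Λ m := by rw [key, key, h]
    simpa using congrArg (· ≫ snd T M) ((cancel_mono (Λ m)).1 h')
  exact ⟨⟨m, n, h1, hinj _ _ (by rw [← _root_.mul_assoc, h1, _root_.one_mul, _root_.mul_one])⟩, rfl⟩

theorem lft_units (k : Type u) [Field k]
    (M G : Over (Spec (CommRingCat.of k))) [MonObj M] [LocallyOfFiniteType M.hom] (i : G ⟶ M) [Mono i]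
    (hi : ∀ (T : Over (Spec (CommRingCat.of k))) (m : T ⟶ M), (∃ g : T ⟶ G, g ≫ i = m) ↔ IsUnit m) :
    LocallyOfFiniteType G.hom := by
  let Q := Spec (CommRingCat.of k)
  -- `G` is a closed subscheme of `M ⊗ M`
  obtain ⟨a, ha⟩ : ∃ a : M ⊗ M ⟶ M ⊗ M, a = lift (fst M M * snd M M) (snd M M * fst M M) := ⟨_, rfl⟩
  obtain ⟨b, hb⟩ : ∃ b : 𝟙_ (Over Q) ⟶ M ⊗ M, b = lift 1 1 := ⟨_, rfl⟩
  haveI : LocallyOfFiniteType (fst M M).left := inferInstanceAs (LocallyOfFiniteType (pullback.fst M.hom M.hom))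
  haveI : LocallyOfFiniteType (M ⊗ M).hom := by rw [← Over.w (fst M M)]; infer_instance
  haveI : LocallyOfFiniteType b.left := by
    haveI : LocallyOfFiniteType (b.left ≫ (M ⊗ M).hom) := by
      rw [Over.w b]; exact inferInstanceAs (LocallyOfFiniteType (𝟙 Q))
    exact locallyOfFiniteType_of_comp b.left (M ⊗ M).hom
  let P : Over Q := Over.mk (pullback.fst a.left b.left ≫ (M ⊗ M).hom)
  haveI : LocallyOfFiniteType P.hom := inferInstanceAs
    (LocallyOfFiniteType (pullback.fst a.left b.left ≫ (M ⊗ M).hom))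
  let p : P ⟶ M ⊗ M := Over.homMk (pullback.fst a.left b.left) rfl
  haveI : Mono p := by
    haveI : IsPreimmersion b.left := by
      haveI : IsImmersion (b.left ≫ (M ⊗ M).hom) := by
        rw [Over.w b]; exact inferInstanceAs (IsImmersion (𝟙 Q))
      haveI : IsImmersion b.left := IsImmersion.of_comp b.left (M ⊗ M).hom
      infer_instance
    haveI : Mono p.left := inferInstanceAs (Mono (pullback.fst a.left b.left))
    exact Over.mono_of_mono_left p
  let u : P ⟶ 𝟙_ (Over Q) := Over.homMk (pullback.snd a.left b.left) (by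
    show _ = pullback.fst a.left b.left ≫ (M ⊗ M).hom
    rw [← Over.w b, ← Category.assoc, ← pullback.condition, Category.assoc, Over.w a])
  have hp : p ≫ a = lift 1 1 := by
    have : p ≫ a = u ≫ b := Over.OverMorphism.ext pullback.condition
    rw [this, hb, comp_lift, MonObj.comp_one]
  have hp' : (p ≫ fst M M) * (p ≫ snd M M) = 1 ∧ (p ≫ snd M M) * (p ≫ fst M M) = 1 := by
    constructor
    · simpa [ha, MonObj.comp_mul] using congrArg (· ≫ fst M M) hp
    · simpa [ha, MonObj.comp_mul] using congrArg (· ≫ snd M M) hp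
  obtain ⟨g, hg⟩ := (hi P (p ≫ fst M M)).2 ⟨⟨_, _, hp'.1, hp'.2⟩, rfl⟩
  obtain ⟨ν, hν⟩ := (hi G i).1 ⟨𝟙 G, Category.id_comp i⟩
  have hw : lift i ↑ν⁻¹ ≫ a = toUnit G ≫ b := by
    rw [ha, hb, comp_lift, comp_lift, MonObj.comp_mul, MonObj.comp_mul, MonObj.comp_one, lift_fst, lift_snd,
      ← hν, Units.mul_inv, Units.inv_mul]
  have hw' : (lift i ↑ν⁻¹).left ≫ a.left = (toUnit G).left ≫ b.left := by
    rw [← Over.comp_left, ← Over.comp_left, hw]
  obtain ⟨r, hr⟩ : ∃ r : G.left ⟶ pullback a.left b.left, r ≫ pullback.fst a.left b.left = (lift i ↑ν⁻¹).left :=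
    ⟨_, pullback.lift_fst _ _ hw'⟩
  obtain ⟨h, hhp⟩ : ∃ h : G ⟶ P, h ≫ p = lift i ↑ν⁻¹ :=
    ⟨Over.homMk r (show r ≫ pullback.fst a.left b.left ≫ (M ⊗ M).hom = G.hom by
      rw [← Category.assoc, hr]; exact Over.w _), Over.OverMorphism.ext hr⟩
  have hhg : h ≫ g = 𝟙 G := by
    rw [← cancel_mono i, Category.assoc, hg, ← Category.assoc, hhp, lift_fst, Category.id_comp]
  have hgh : g ≫ h = 𝟙 P := by
    rw [← cancel_mono p, Category.assoc, hhp, Category.id_comp, comp_lift, hg]
    refine CartesianMonoidalCategory.hom_ext _ _ (lift_fst _ _) ?_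
    rw [lift_snd]
    have h2 : (g ≫ ↑ν⁻¹) * (g ≫ i) = 1 := by rw [← MonObj.comp_mul, ← hν, Units.inv_mul, MonObj.comp_one]
    rw [hg] at h2
    exact left_inv_eq_right_inv h2 hp'.1
  haveI : IsIso h.left := ⟨g.left, congrArg Over.Hom.left hhg, congrArg Over.Hom.left hgh⟩
  rw [← Over.w h]; infer_instance

/-- Let k be a field and M an algebraic monoid over k, i.e. a monoid object in k-schemes whose
underlying scheme is of finite type over k, and assume M is geometrically integral. Let i : G → M be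
the group of units of M: a monomorphism of k-schemes such that, for every k-scheme T, a T-valued
point of M factors through i if and only if it is invertible in the monoid M(T). Then i is an open
immersion. -/
theorem result (k : Type u) [Field k]
    (M G : Over (Spec (CommRingCat.of k))) [MonObj M] [LocallyOfFiniteType M.hom] [QuasiCompact M.hom]
    [GeometricallyIntegral M.hom] (i : G ⟶ M) [Mono i]
    (hi : ∀ (T : Over (Spec (CommRingCat.of k))) (m : T ⟶ M), (∃ g : T ⟶ G, g ≫ i = m) ↔ IsUnit m) :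
    IsOpenImmersion i.left := by
  haveI : LocallyOfFiniteType G.hom := lft_units k M G i hi
  let Q := Spec (CommRingCat.of k)
  haveI : LocallyOfFiniteType i.left := by
    haveI : LocallyOfFiniteType (i.left ≫ M.hom) := by rw [Over.w i]; infer_instance
    exact locallyOfFiniteType_of_comp i.left M.hom
  haveI : IsLocallyNoetherian M.left := LocallyOfFiniteType.isLocallyNoetherian M.hom
  haveI : LocallyOfFinitePresentation i.left := inferInstance
  haveI : Mono i.left := Functor.map_mono (Over.forget Q) i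
  haveI : Etale i.left := by
    refine GrpSchLib.ThickIso.etale_of_mono_of_lift i.left fun A _ I hI q q₀ hq => ?_
    let π := Spec.map (CommRingCat.ofHom (Ideal.Quotient.mk I))
    let T : Over Q := Over.mk (q ≫ M.hom)
    let T₀ : Over Q := Over.mk (π ≫ q ≫ M.hom)
    let m : T ⟶ M := Over.homMk q
    let j : T₀ ⟶ T := Over.homMk π
    have hU : IsUnit (j ≫ m) := (hi T₀ _).1 ⟨Over.homMk q₀ (by
      show q₀ ≫ G.hom = _
      rw [← Over.w i, reassoc_of% hq]; rfl), Over.OverMorphism.ext hq⟩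
    obtain ⟨w, hw'⟩ := hU
    haveI : IsIso (Λ (j ≫ m)) := ⟨Λ ↑w⁻¹, by rw [Λ_comp, ← hw', Units.inv_mul, Λ_one],
      by rw [Λ_comp, ← hw', Units.mul_inv, Λ_one]⟩
    haveI : IsIso (Λ m).left := by
      haveI : IsIso (Λ (j ≫ m)).left := inferInstanceAs (IsIso ((Over.forget Q).map (Λ (j ≫ m))))
      have hX : IsPullback (j ▷ M).left (fst T₀ M).left (fst T M).left π := isPullback_whiskerRight j M
      haveI : Flat (fst T M).left := by
        haveI : Flat M.hom := AssLib.flat_over_field M.hom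
        exact inferInstanceAs (Flat (pullback.fst T.hom M.hom))
      refine GrpSchLib.ThickIso.isIso_of_thickening I ⟨2, hI⟩ (fst T M).left (fst T M).left (j ▷ M).left
        ((Λ (j ≫ m)).left ≫ (j ▷ M).left) (fst T₀ M).left (X₀ := (T₀ ⊗ M).left) (A := A) ?_ ?_ (Λ m).left ?_ ?_
      · exact hX
      · have h₀ : IsPullback (Λ (j ≫ m)).left (fst T₀ M).left (fst T₀ M).left (𝟙 T₀.left) :=
          IsPullback.of_horiz_isIso ⟨(congrArg Over.Hom.left (lift_fst (fst T₀ M) _)).trans (Category.comp_id _).symm⟩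
        simpa using h₀.paste_horiz hX
      · exact congrArg Over.Hom.left (lift_fst _ _)
      · exact congrArg Over.Hom.left (Λ_natural j m)
    haveI : IsIso ((Over.forget Q).map (Λ m)) := inferInstanceAs (IsIso (Λ m).left)
    haveI : IsIso (Λ m) := isIso_of_reflects_iso _ (Over.forget Q)
    obtain ⟨l, hl⟩ := (hi T m).2 (isUnit_of_isIso m)
    exact ⟨l.left, congrArg Over.Hom.left hl⟩
  exact IsOpenImmersion.of_flat_of_mono i.left

end Groth.Agent.S18817
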