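import Groth.Statements.S18819
import Groth.Agent.ComodLib.Isotypic

set_option autoImplicit false
universe u v w w'
open TensorProduct
open HopfRep

namespace Groth.Agent.S18819

open Groth.Agent.ComodLib

/-- Let k be a field, C a k-coalgebra and V a right C-comodule which is the sum of finitely many simple
subcomodules, given as the images of comodule maps g_i : K_i → V (i < n) from simple comodules K_i.
If S is a simple comodule and f : S → V a nonzero comodule map (so that its image is a simple
subcomodule of V), then S is isomorphic as a comodule to some K_i: there is a k-linear isomorphism S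
≃ K_i commuting with the coactions. (The source states this for representations of an affine monoid
scheme over k with the subrepresentations given as subspaces; here the simple subcomodules are
presented as images of maps from simple comodules.) -/
theorem result (k : Type u) [Field k]
    (C : Type v) [AddCommGroup C] [Module k C] [Coalgebra k C]
    (V : Type w) [AddCommGroup V] [Module k V] [HopfRep.Comod k C V]
    {n : ℕ} (K : Fin n → Type w') [∀ i, AddCommGroup (K i)] [∀ i, Module k (K i)] [∀ i, HopfRep.Comod k C (K i)]
    (hK : ∀ i, HopfRep.IsSimpleComod k C (K i)) (g : ∀ i, K i →ₗ[k] V) (hg : ∀ i, Hoch.IsComodHom C (g i))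
    (hsum : (⨆ i, LinearMap.range (g i)) = ⊤)
    (S : Type w') [AddCommGroup S] [Module k S] [HopfRep.Comod k C S] (hS : HopfRep.IsSimpleComod k C S)
    (f : S →ₗ[k] V) (hf : Hoch.IsComodHom C f) (hf0 : f ≠ 0) :
    ∃ (i : Fin n) (e : S ≃ₗ[k] K i), Hoch.IsComodHom C (e : S →ₗ[k] K i) := by
  haveI : ∀ i, IsSimpleModule (WithConv (C →ₗ[k] k)) (K i) := fun i => isSimpleComod_iff_isSimpleModule.mp (hK i)
  haveI := isSimpleComod_iff_isSimpleModule.mp hS
  let f' := toConvLin (C := C) f hf
  have hf' : Function.Injective f' := (LinearMap.injective_or_eq_zero f').resolve_right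
    fun h => hf0 (LinearMap.ext fun x => LinearMap.congr_fun h x)
  let eS := LinearEquiv.ofInjective f' hf'
  haveI : IsSimpleModule (WithConv (C →ₗ[k] k)) ↥(LinearMap.range f') :=
    LinearMap.isSimpleModule_iff_of_bijective eS.toLinearMap eS.bijective |>.mp inferInstance
  have hle : LinearMap.range f' ≤ ⨆ i, LinearMap.range (toConvLin (C := C) (g i) (hg i)) := by
    intro x _
    have hx : x ∈ (⨆ i, LinearMap.range (toConvLin (C := C) (g i) (hg i))).restrictScalars k := by
      rw [Submodule.restrictScalars_iSup]
      have : x ∈ ⨆ i, LinearMap.range (g i) := hsum ▸ Submodule.mem_top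
      exact this
    exact hx
  obtain ⟨i, -, ⟨e⟩⟩ := exists_equiv_of_le_iSup_range _ _ hle
  exact ⟨i, (eS.trans e).restrictScalars k, isComodHom_of_convLinear (eS.trans e).toLinearMap⟩

end Groth.Agent.S18819
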