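import Groth.Statements.S18820


set_option autoImplicit false
universe u
open CategoryTheory MonoidalCategory CartesianMonoidalCategory AlgebraicGeometry
open AlgGrp

namespace Groth.Agent.S18820

/-- Let k be a field, M a k-scheme (in the source a monoid k-scheme) acting on a k-scheme X through a :
M ×_k X → X, and z : Z → X a closed immersion which is surjective (a closed subscheme defined by an
ideal all of whose sections are nilpotent, e.g. the reduction of X), stable under the action: a_Z :
M ×_k Z → Z satisfies (id_M × z) followed by a = a_Z followed by z. For an open subset U of X the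
following are equivalent: (i) U is stable, i.e. a maps M ×_k U into U; (ii) U ∩ Z is stable, i.e.
a_Z maps M ×_k (U ∩ Z) into U ∩ Z. (The monoid axioms of the source play no role and are not
assumed.) -/
theorem result (k : Type u) [Field k]
    (M X Z : Over (Spec (CommRingCat.of k))) (a : M ⊗ X ⟶ X) (aZ : M ⊗ Z ⟶ Z) (z : Z ⟶ X)
    [IsClosedImmersion z.left] [Surjective z.left] (hz : (M ◁ z) ≫ a = aZ ≫ z) (U : X.left.Opens) :
    (CartesianMonoidalCategory.snd M X).left ⁻¹ᵁ U ≤ a.left ⁻¹ᵁ U ↔
      (CartesianMonoidalCategory.snd M Z).left ⁻¹ᵁ (z.left ⁻¹ᵁ U) ≤ aZ.left ⁻¹ᵁ (z.left ⁻¹ᵁ U) := by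
  have hsurj : Surjective (M ◁ z).left := by
    have sq : IsPullback (M ◁ z) (snd M Z) (snd M X) z :=
      IsPullback.of_isLimit' ⟨by simp⟩ (Limits.PullbackCone.IsLimit.mk _
        (fun s => lift (s.fst ≫ fst M X) s.snd)
        (fun s => by
          apply CartesianMonoidalCategory.hom_ext
          · simp
          · simpa using s.condition.symm)
        (fun s => by simp)
        (fun s m h1 h2 => by
          apply CartesianMonoidalCategory.hom_ext
          · rw [lift_fst, ← h1]; simp
          · simpa using h2))
    exact MorphismProperty.of_isPullback (sq.map (Over.forget _)).flip ‹Surjective z.left›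
  have e1 : ∀ w, a.left ((M ◁ z).left w) = z.left (aZ.left w) := fun w => by
    simpa using congrArg (fun r : M ⊗ Z ⟶ X => r.left w) hz
  have e2 : ∀ w, (snd M X).left ((M ◁ z).left w) = z.left ((snd M Z).left w) := fun w => by
    have h : (M ◁ z) ≫ snd M X = snd M Z ≫ z := whiskerLeft_snd _ _
    exact congrArg (fun r : M ⊗ Z ⟶ X => r.left w) h
  constructor
  · intro h w hw
    show z.left (aZ.left w) ∈ U
    rw [← e1]
    exact h (show (snd M X).left ((M ◁ z).left w) ∈ U by rw [e2]; exact hw)
  · intro h p hp
    obtain ⟨w, rfl⟩ := hsurj.surj p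
    show a.left ((M ◁ z).left w) ∈ U
    rw [e1]
    exact h (show z.left ((snd M Z).left w) ∈ U by rw [← e2]; exact hp)

end Groth.Agent.S18820
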