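import Groth.Statements.S18822
import Mathlib.AlgebraicGeometry.Sites.BigZariski
import Mathlib.CategoryTheory.Sites.SubcanonicalOver
-- import your own Groth.Agent.* helpers here

set_option autoImplicit false
universe u
open CategoryTheory MonoidalCategory CartesianMonoidalCategory MonObj AlgebraicGeometry Opposite
open Magnet

namespace Groth.Agent.S18822

/-- Let k be a commutative ring, M a monoid k-scheme and X a k-scheme with an action a of M. Then the
fixed-point subpresheaf X^M of X, whose T-valued points are the k-morphisms x : T → X such that g ·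
(x ∘ t) = x ∘ t for every k-scheme T', every t : T' → T and every T'-valued point g of M, is a sheaf
for the Zariski topology on k-schemes (the topology induced on schemes over Spec k). -/
theorem result (k : Type u) [CommRing k]
    (M X : Over (Spec (CommRingCat.of k))) [MonObj M] (a : Magnet.MonAct M X) :
    Presheaf.IsSheaf (Scheme.zariskiTopology.over (Spec (CommRingCat.of k))) (Magnet.MonAct.fixedPsh a) := by
  let J := Scheme.zariskiTopology.over (Spec (CommRingCat.of k))
  have hy : Presieve.IsSheaf J (yoneda.obj X) := GrothendieckTopology.Subcanonical.isSheaf_of_isRepresentable _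
  rw [isSheaf_iff_isSheaf_of_type]
  intro T S hS x hx
  let x' : Presieve.FamilyOfElements (yoneda.obj X) S.arrows := fun Z h hh => (x h hh).1
  have hx' : x'.Compatible := fun Y₁ Y₂ Z g₁ g₂ f₁ f₂ h₁ h₂ hf =>
    congrArg Subtype.val (hx g₁ g₂ h₁ h₂ hf)
  let y := (hy S hS).amalgamate x' hx'
  have hy' : ∀ {Z} (h : Z ⟶ T) (hh : S h), h ≫ y = (x h hh).1 :=
    fun h hh => (hy S hS).valid_glue hx' h hh
  refine ⟨⟨y, fun T' t g => ?_⟩, fun Z h hh => Subtype.ext (hy' h hh), fun z hz => Subtype.ext ?_⟩
  · refine (hy (S.pullback t) (J.pullback_stable t hS)).isSeparatedFor.ext fun Z h hh => ?_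
    show h ≫ lift g (t ≫ y) ≫ a.act = h ≫ t ≫ y
    have h2 := (x (h ≫ t) hh).2 Z (𝟙 Z) (h ≫ g)
    rw [Category.id_comp, ← hy' _ hh, Category.assoc] at h2
    rw [← Category.assoc, comp_lift]
    exact h2
  · exact (hy S hS).isSeparatedFor.ext fun Z h hh => (congrArg Subtype.val (hz h hh)).trans (hy' h hh).symm

end Groth.Agent.S18822
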