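import Groth.Statements.S18823
import Groth.Agent.GrpSchLib.NormalPoints
-- import your own Groth.Agent.* helpers here

set_option autoImplicit false
universe u
open CategoryTheory MonoidalCategory CartesianMonoidalCategory AlgebraicGeometry
open AlgGrp

namespace Groth.Agent.S18823

/-- Let k be a field, X a separated k-scheme, M a k-scheme (in the source a monoid k-scheme) acting on X
through a : M ×_k X → X, and i : G → M a morphism of k-schemes which is a scheme-theoretically
dominant open immersion: no nonzero quasi-coherent ideal of O_M restricts to zero on G (for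
quasi-compact i this is the usual schematic density, O_M → i_*O_G injective; in the source G is the
group of units of M, open and schematically dense). For a k-scheme T and a T-valued point x of X, x
is fixed under M, i.e. a ∘ (id_M × x) = x ∘ pr_T on M ×_k T, if and only if x is fixed under G, i.e.
a ∘ (i × x) = x ∘ pr_T on G ×_k T. Thus the fixed-point subpresheaves X^M and X^G of X are equal.
(The published statement has no separatedness assumption on X and reduces to points landing in an
affine open; the step asserting that the equalizer of the two maps M ×_k T → X is closed uses that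
the target is separated, so X is taken separated here, the case the printed argument establishes.
The monoid structure and the action axioms play no role in that argument and are not assumed.) -/
theorem result (k : Type u) [Field k]
    (M G X : Over (Spec (CommRingCat.of k))) [IsSeparated X.hom] (a : M ⊗ X ⟶ X) (i : G ⟶ M)
    [IsOpenImmersion i.left] [IsSchemeTheoreticallyDominant i.left]
    (T : Over (Spec (CommRingCat.of k))) (x : T ⟶ X) :
    (M ◁ x) ≫ a = CartesianMonoidalCategory.snd M T ≫ x ↔
      (G ◁ x) ≫ (i ▷ X) ≫ a = CartesianMonoidalCategory.snd G T ≫ x := by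
  refine ⟨fun h => ?_, fun h => ?_⟩
  · have := congrArg (fun e => (i ▷ T) ≫ e) h
    simpa [← whisker_exchange_assoc] using this
  let dg : X ⟶ X ⊗ X := lift (𝟙 X) (𝟙 X)
  have : IsClosedImmersion dg.left := by
    have : dg.left = Limits.pullback.diagonal X.hom := by
      apply Limits.pullback.hom_ext <;> simp [dg] <;> first | exact Limits.pullback.lift_fst _ _ _ | exact Limits.pullback.lift_snd _ _ _
    rw [this]; infer_instance
  let f₁ : T ⊗ M ⟶ X := lift (snd T M) (fst T M ≫ x) ≫ a
  let f₂ : T ⊗ M ⟶ X := fst T M ≫ x
  obtain ⟨Z, c, hc, hZ⟩ := GrpSchLib.exists_closed_universal (lift f₁ f₂) dg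
  obtain ⟨z, hz⟩ := (hZ i).mpr ⟨fst T G ≫ x, by
    have h' := congrArg (fun e => lift (snd T G) (fst T G) ≫ e) h
    apply CartesianMonoidalCategory.hom_ext
    · simp only [lift_whiskerLeft_assoc, lift_whiskerRight_assoc, lift_snd_assoc] at h'
      simp only [dg, f₁, Category.assoc, lift_fst, Category.comp_id, comp_lift_assoc, whiskerLeft_snd,
        whiskerLeft_fst_assoc]
      exact h'.symm
    · simp [dg, f₂]⟩
  have hker : c.left.ker = ⊥ := by
    have hz' : z.left ≫ c.left = i.left := congrArg CommaMorphism.left hz
    rw [eq_bot_iff, ← Scheme.Hom.ker_eq_bot i.left, ← hz']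
    exact Scheme.Hom.le_ker_comp z.left c.left
  obtain ⟨f', hf'⟩ : ∃ f' : T ⊗ M ⟶ X, f' ≫ dg = lift f₁ f₂ := by
    have hle : c.left.ker ≤ Scheme.Hom.ker (𝟙 M.left) := hker.trans_le bot_le
    obtain ⟨l, hl⟩ := (hZ (𝟙 M)).mp ⟨Over.homMk (IsClosedImmersion.lift c.left (𝟙 _) hle)
      (by rw [← Over.w c, ← Category.assoc, IsClosedImmersion.lift_fac, Category.id_comp]),
      Over.OverMorphism.ext (IsClosedImmersion.lift_fac _ _ _)⟩
    exact ⟨l, by simpa using hl⟩
  have e : f₁ = f₂ := by
    have e1 := congrArg (· ≫ fst X X) hf'
    have e2 := congrArg (· ≫ snd X X) hf'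
    simp [dg] at e1 e2
    rw [← e1, ← e2]
  have := congrArg (fun e => lift (snd M T) (fst M T) ≫ e) e
  simp only [f₁, f₂, comp_lift_assoc, lift_snd, lift_fst_assoc] at this
  rw [← this]
  congr 1

end Groth.Agent.S18823
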