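import Groth.Statements.S18824
import Groth.Agent.GrpSchLib.Action
import Mathlib.AlgebraicGeometry.Morphisms.UniversallyOpen
import Mathlib.AlgebraicGeometry.PullbackCarrier

set_option autoImplicit false
universe u
open CategoryTheory MonoidalCategory CartesianMonoidalCategory MonObj AlgebraicGeometry
open AlgGrp

namespace Groth.Agent.S18824

/-- Let k be a field, G a locally algebraic group over k (a group k-scheme locally of finite type)
acting on a k-scheme X through a : G ×_k X → X, and U an open subset of X. Let G·U ⊆ X be the image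
under a of G ×_k U (the preimage of U under the projection). Then G·U is open in X, contains U, is
G-stable in the sense that a maps G ×_k (G·U) into G·U, and is the smallest such set: every G-stable
open subset of X containing U contains G·U. -/
theorem result (k : Type u) [Field k]
    (G X : Over (Spec (CommRingCat.of k))) [GrpObj G] [LocallyOfFiniteType G.hom] (a : AlgGrp.Action G X)
    (U : Set ↥X.left) (hU : IsOpen U) :
    IsOpen (a.act.left.base '' ((CartesianMonoidalCategory.snd G X).left.base ⁻¹' U)) ∧
      U ⊆ a.act.left.base '' ((CartesianMonoidalCategory.snd G X).left.base ⁻¹' U) ∧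
      a.act.left.base '' ((CartesianMonoidalCategory.snd G X).left.base ⁻¹'
          (a.act.left.base '' ((CartesianMonoidalCategory.snd G X).left.base ⁻¹' U))) ⊆
        a.act.left.base '' ((CartesianMonoidalCategory.snd G X).left.base ⁻¹' U) ∧
      ∀ W : Set ↥X.left, IsOpen W → U ⊆ W →
        a.act.left.base '' ((CartesianMonoidalCategory.snd G X).left.base ⁻¹' W) ⊆ W →
          a.act.left.base '' ((CartesianMonoidalCategory.snd G X).left.base ⁻¹' U) ⊆ W := by
  have huo : UniversallyOpen a.act.left :=
    Groth.Agent.GrpSchLib.property_act a @UniversallyOpen inferInstance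
  have hmin : ∀ (V W : Set ↥X.left), V ⊆ W →
      a.act.left.base '' ((snd G X).left.base ⁻¹' V) ⊆ a.act.left.base '' ((snd G X).left.base ⁻¹' W) :=
    fun V W h => Set.image_mono (Set.preimage_mono h)
  refine ⟨(Scheme.Hom.isOpenMap a.act.left) _ (hU.preimage (snd G X).left.continuous), ?_, ?_,
    fun W _ hUW hW => (hmin U W hUW).trans hW⟩
  · intro x hx
    let s : X ⟶ G ⊗ X := lift 1 (𝟙 X)
    have h1 : s ≫ snd G X = 𝟙 X := lift_snd _ _
    have h2 : s ≫ a.act = 𝟙 X := Groth.Agent.GrpSchLib.act_one a _
    refine ⟨s.left.base x, ?_, ?_⟩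
    · have := congrArg (fun q : X ⟶ X => q.left.base x) h1
      simp at this
      simpa [Set.mem_preimage, this] using hx
    · have := congrArg (fun q : X ⟶ X => q.left.base x) h2
      simpa using this
  · rintro _ ⟨p, hp, rfl⟩
    obtain ⟨q, hq, hqp⟩ := hp
    have sq := (Groth.Agent.GrpSchLib.isPullback_act_pairs a).map (Over.forget _)
    obtain ⟨w, hw1, hw2⟩ := Scheme.exists_preimage_of_isPullback sq p q hqp.symm
    let μ' : G ⊗ (G ⊗ X) ⟶ G ⊗ X := lift (fst G (G ⊗ X) * (snd G (G ⊗ X) ≫ fst G X)) (snd G (G ⊗ X) ≫ snd G X)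
    have e1 : μ' ≫ a.act = (G ◁ a.act) ≫ a.act := by
      rw [← Groth.Agent.GrpSchLib.act_mul]
      congr 1
      apply CartesianMonoidalCategory.hom_ext
      · simp
      · simp [← Category.assoc, ← comp_lift, lift_fst_snd]
    have e2 : μ' ≫ snd G X = snd G (G ⊗ X) ≫ snd G X := lift_snd _ _
    refine ⟨μ'.left.base w, ?_, ?_⟩
    · have h : (snd G X).left.base (μ'.left.base w) = (snd G X).left.base ((snd G (G ⊗ X)).left.base w) :=
        congrArg (fun r : G ⊗ (G ⊗ X) ⟶ X => r.left.base w) e2
      show (snd G X).left.base (μ'.left.base w) ∈ U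
      rw [h, show (snd G (G ⊗ X)).left.base w = q from hw2]
      exact hq
    · have h : a.act.left.base (μ'.left.base w) = a.act.left.base ((G ◁ a.act).left.base w) :=
        congrArg (fun r : G ⊗ (G ⊗ X) ⟶ X => r.left.base w) e1
      rw [h, show (G ◁ a.act).left.base w = p from hw1]

end Groth.Agent.S18824
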