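import Groth.Statements.S18826
import Groth.Agent.GrpSchLib.Action
import Groth.Agent.AssLib.FlatField
import Groth.Agent.VarGeom.OpenMap


set_option autoImplicit false
universe u
open CategoryTheory MonoidalCategory CartesianMonoidalCategory MonObj AlgebraicGeometry
open AlgGrp

namespace Groth.Agent.S18826

open Limits in
theorem isPullback_whisker {k : Type u} [Field k] (G X Y : Over (Spec (CommRingCat.of k))) (f : X ⟶ Y) :
    IsPullback (G ◁ f) (snd G X) (snd G Y) f :=
  IsPullback.of_isLimit' ⟨by simp⟩ (Limits.PullbackCone.IsLimit.mk _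
    (fun s => lift (s.fst ≫ fst G Y) s.snd)
    (fun s => by
      apply CartesianMonoidalCategory.hom_ext
      · simp
      · simpa using s.condition.symm)
    (fun s => by simp)
    (fun s m h1 h2 => by
      apply CartesianMonoidalCategory.hom_ext
      · rw [lift_fst, ← h1]; simp
      · simpa using h2))

theorem isPullback_whisker_act {k : Type u} [Field k] {G X Y : Over (Spec (CommRingCat.of k))} [GrpObj G]
    (aX : AlgGrp.Action G X) (aY : AlgGrp.Action G Y) (f : X ⟶ Y) (hf : (G ◁ f) ≫ aY.act = aX.act ≫ f) :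
    IsPullback (G ◁ f) aX.act aY.act f := by
  have hc : (G ◁ f) ≫ (GrpSchLib.actShear aY).hom = (GrpSchLib.actShear aX).hom ≫ (G ◁ f) := by
    apply CartesianMonoidalCategory.hom_ext
    · simp [GrpSchLib.actShear]
    · simp [GrpSchLib.actShear, hf]
  have h := (IsPullback.of_vert_isIso ⟨hc⟩).paste_vert (isPullback_whisker G X Y f)
  rwa [GrpSchLib.actShear_hom_snd, GrpSchLib.actShear_hom_snd] at h

/-- Pull back a restriction along a morphism of opens. -/
theorem isPullback_restrict {P A B C : Scheme.{u}} {F : P ⟶ A} {p : P ⟶ B} {q : A ⟶ C} {f : B ⟶ C}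
    (sq : IsPullback F p q f) (U : A.Opens) (W : C.Opens) (e : U ≤ q ⁻¹ᵁ W) :
    ∃ r, IsPullback (F ∣_ U) r (q.resLE W U e) (f ∣_ W) := by
  have s := (isPullback_morphismRestrict F U).paste_vert sq
  rw [← Scheme.Hom.resLE_comp_ι q e] at s
  exact ⟨_, s.of_bot' (isPullback_morphismRestrict f W)⟩


/-- Let k be a field, G a locally algebraic group over k (a group k-scheme locally of finite type)
acting on k-schemes X and Y, and f : X → Y a G-equivariant k-morphism. Let P be a property of
morphisms of schemes which is local on the target for the Zariski topology, stable under base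
change, and descends along flat surjective universally open morphisms (the published hypothesis is
descent along fpqc morphisms; the printed argument descends only along the restriction G ×_k U → G·U
of the action, which is flat, surjective and universally open). Then there is a largest open subset
V of Y such that the restriction f⁻¹(V) → V of f has P, and this V is G-stable: the action G ×_k Y →
Y maps G ×_k V into V. -/
theorem result (k : Type u) [Field k]
    (G X Y : Over (Spec (CommRingCat.of k))) [GrpObj G] [LocallyOfFiniteType G.hom]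
    (aX : AlgGrp.Action G X) (aY : AlgGrp.Action G Y) (f : X ⟶ Y) (hf : (G ◁ f) ≫ aY.act = aX.act ≫ f)
    (P : MorphismProperty Scheme.{u}) [IsZariskiLocalAtTarget P] [P.IsStableUnderBaseChange]
    [P.DescendsAlong (@Flat ⊓ @Surjective ⊓ @UniversallyOpen)] :
    ∃ V : Y.left.Opens, P (f.left ∣_ V) ∧ (∀ V' : Y.left.Opens, P (f.left ∣_ V') → V' ≤ V) ∧
      (CartesianMonoidalCategory.snd G Y).left ⁻¹ᵁ V ≤ aY.act.left ⁻¹ᵁ V := by
  classical
  let V : Y.left.Opens := sSup {V' | P (f.left ∣_ V')}
  have hV : P (f.left ∣_ V) := by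
    refine IsZariskiLocalAtTarget.of_iSup_eq_top
      (fun i : {V' : Y.left.Opens // P (f.left ∣_ V')} => V.ι ⁻¹ᵁ i.1) ?_ fun i => ?_
    · refine top_le_iff.mp fun v _ => ?_
      obtain ⟨W, hW, hv⟩ := TopologicalSpace.Opens.mem_sSup.mp v.2
      exact TopologicalSpace.Opens.mem_iSup.mpr ⟨⟨W, hW⟩, hv⟩
    · refine (P.arrow_mk_iso_iff (morphismRestrictRestrict f.left V _)).mpr ?_
      rw [show V.ι ''ᵁ (V.ι ⁻¹ᵁ i.1) = i.1 by
        rw [Scheme.Hom.image_preimage_eq_opensRange_inf, Scheme.Opens.opensRange_ι]
        exact inf_eq_right.mpr (le_sSup i.2)]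
      exact i.2
  refine ⟨V, hV, fun V' h => le_sSup h, ?_⟩
  haveI : Flat G.hom := AssLib.flat_over_field G.hom
  haveI : UniversallyOpen G.hom := VarGeom.universallyOpen_of_field _
  haveI : Flat aY.act.left := GrpSchLib.property_act aY @Flat inferInstance
  haveI : UniversallyOpen aY.act.left := GrpSchLib.property_act aY @UniversallyOpen inferInstance
  let U := (CartesianMonoidalCategory.snd G Y).left ⁻¹ᵁ V
  let W : Y.left.Opens := ⟨aY.act.left '' (U : Set ↥(G ⊗ Y).left), aY.act.left.isOpenMap _ U.isOpen⟩
  have eV : U ≤ (CartesianMonoidalCategory.snd G Y).left ⁻¹ᵁ V := le_rfl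
  have eW : U ≤ aY.act.left ⁻¹ᵁ W := fun u hu => ⟨u, hu, rfl⟩
  obtain ⟨r₁, s₁⟩ := isPullback_restrict ((isPullback_whisker G X Y f).map (Over.forget _)) U V eV
  obtain ⟨r₂, s₂⟩ := isPullback_restrict ((isPullback_whisker_act aX aY f hf).map (Over.forget _)) U W eW
  have hU := P.of_isPullback s₁.flip hV
  have hsurj : Surjective (aY.act.left.resLE W U eW) := ⟨fun w => by
    obtain ⟨u, hu, he⟩ := w.2
    refine ⟨⟨u, hu⟩, Subtype.ext ?_⟩
    have h := congr($(Scheme.Hom.resLE_comp_ι aY.act.left eW) ⟨u, hu⟩)
    exact h.trans he⟩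
  have hflat : Flat (aY.act.left.resLE W U eW) := by rw [Scheme.Hom.resLE]; infer_instance
  have hopen : UniversallyOpen (aY.act.left.resLE W U eW) := by
    rw [Scheme.Hom.resLE]
    haveI : UniversallyOpen (aY.act.left ∣_ W) :=
      MorphismProperty.of_isPullback (isPullback_morphismRestrict _ W).flip ‹UniversallyOpen aY.act.left›
    infer_instance
  have hW : P (f.left ∣_ W) := MorphismProperty.of_isPullback_of_descendsAlong
    (Q := @Flat ⊓ @Surjective ⊓ @UniversallyOpen) s₂ ⟨⟨hflat, hsurj⟩, hopen⟩ hU
  exact fun u hu => le_sSup (a := W) hW ⟨u, hu, rfl⟩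


end Groth.Agent.S18826
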