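import Groth.Statements.S18828
import Groth.Agent.GrpSchLib.HomKer
import Groth.Agent.LocalCrit.Completion
import Mathlib.AlgebraicGeometry.Morphisms.FlatMono
import Mathlib.RingTheory.Flat.Basic
-- import your own Groth.Agent.* helpers here

set_option autoImplicit false
universe u
open CategoryTheory MonoidalCategory CartesianMonoidalCategory MonObj AlgebraicGeometry
open AlgGrp

namespace Groth.Agent.S18828

open Groth.Agent.LocalCrit in
/-- A local homomorphism of noetherian local rings which is bijective modulo all powers of the maximal
ideals is flat. -/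
theorem flat_of_bijective_levels {A B : Type u} [CommRing A] [IsLocalRing A] [IsNoetherianRing A]
    [CommRing B] [IsLocalRing B] [IsNoetherianRing B] (φ : A →+* B)
    (h : ∀ n : ℕ, Function.Surjective ((Ideal.Quotient.mk (IsLocalRing.maximalIdeal B ^ (n + 1))).comp φ) ∧
      ∀ a : A, φ a ∈ IsLocalRing.maximalIdeal B ^ (n + 1) ↔ a ∈ IsLocalRing.maximalIdeal A ^ (n + 1)) :
    φ.Flat := by
  letI := φ.toAlgebra
  set m := IsLocalRing.maximalIdeal A
  set M := IsLocalRing.maximalIdeal B
  have hle : m.map φ ≤ M := Ideal.map_le_iff_le_comap.mpr fun a ha => by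
    have := ((h 0).2 a).mpr (by simpa using ha)
    simpa using this
  have heq : m.map φ = M := by
    refine le_antisymm hle (Submodule.le_of_le_smul_of_le_jacobson_bot (I := M) (IsNoetherian.noetherian M)
      (IsLocalRing.maximalIdeal_le_jacobson ⊥) ?_)
    intro b hb
    obtain ⟨a, ha⟩ := (h 1).1 (Ideal.Quotient.mk _ b)
    have hab : φ a - b ∈ M ^ 2 := (Ideal.Quotient.eq).mp ha
    have haM : φ a ∈ M := by
      have := Ideal.add_mem _ (Ideal.pow_le_self two_ne_zero hab) hb
      simpa using this
    have ham : a ∈ m := by simpa using ((h 0).2 a).mp (by simpa using haM)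
    refine Submodule.mem_sup.mpr ⟨φ a, Ideal.mem_map_of_mem _ ham, -(φ a - b), ?_, by ring⟩
    rw [smul_eq_mul, ← pow_two]
    exact neg_mem hab
  show Module.Flat A B
  refine flat_of_forall_quotient_pow (B := B) m ?_ fun n => ?_
  · exact hle.trans (IsLocalRing.maximalIdeal_le_jacobson ⊥)
  · refine keepsInjective_of_bijective_mod (C := A) (m ^ n) (Algebra.ofId A B) (fun b => ?_) fun c hc => ?_
    · rcases n with _ | n
      · exact ⟨0, by rw [pow_zero, Ideal.one_eq_top, Ideal.map_top]; trivial⟩
      · obtain ⟨a, ha⟩ := (h n).1 (Ideal.Quotient.mk _ b)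
        refine ⟨a, ?_⟩
        rw [Ideal.map_pow, show m.map (algebraMap A B) = M from heq, ← neg_mem_iff, neg_sub]
        exact (Ideal.Quotient.eq).mp ha
    · rw [Algebra.algebraMap_self, Ideal.map_id]
      rcases n with _ | n
      · simp
      · rw [Ideal.map_pow, show m.map (algebraMap A B) = M from heq] at hc
        exact ((h n).2 c).mp hc

/-- Let k be a field and f : H → G a homomorphism of locally algebraic groups over k (group k-schemes
locally of finite type). Write e_H for the unit point of H (the image under the unit section of the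
point pt of the base Spec k) and φ : O_{G,f(e_H)} → O_{H,e_H} for the induced local homomorphism of
local rings. Assume (1) φ induces an isomorphism of completed local rings, stated here as: for every
n, φ followed by reduction modulo the (n+1)-st power of the maximal ideal of O_{H,e_H} is
surjective, and an element of O_{G,f(e_H)} maps into that power exactly when it lies in the (n+1)-st
power of the maximal ideal of O_{G,f(e_H)}; and (2) f is a monomorphism of schemes. Then f is an
open immersion. -/
theorem result (k : Type u) [Field k]
    (H G : Over (Spec (CommRingCat.of k))) [GrpObj H] [GrpObj G]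
    [LocallyOfFiniteType H.hom] [LocallyOfFiniteType G.hom] (f : H ⟶ G) [IsMonHom f] [Mono f.left]
    (pt : ↥(𝟙_ (Over (Spec (CommRingCat.of k)))).left)
    (h : ∀ n : ℕ,
      Function.Surjective ((Ideal.Quotient.mk (IsLocalRing.maximalIdeal
          ↑(H.left.presheaf.stalk (η[H].left.base pt)) ^ (n + 1))).comp
        (f.left.stalkMap (η[H].left.base pt)).hom) ∧
      ∀ a : ↑(G.left.presheaf.stalk (f.left.base (η[H].left.base pt))),
        (f.left.stalkMap (η[H].left.base pt)).hom a ∈
            IsLocalRing.maximalIdeal ↑(H.left.presheaf.stalk (η[H].left.base pt)) ^ (n + 1) ↔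
          a ∈ IsLocalRing.maximalIdeal ↑(G.left.presheaf.stalk (f.left.base (η[H].left.base pt))) ^ (n + 1)) :
    IsOpenImmersion f.left := by
  haveI : IsLocallyNoetherian H.left := LocallyOfFiniteType.isLocallyNoetherian H.hom
  haveI : IsLocallyNoetherian G.left := LocallyOfFiniteType.isLocallyNoetherian G.hom
  haveI : LocallyOfFiniteType (f.left ≫ G.hom) := by rw [Over.w]; infer_instance
  haveI : LocallyOfFiniteType f.left := locallyOfFiniteType_of_comp f.left G.hom
  haveI : LocallyOfFinitePresentation f.left := inferInstance
  haveI : LocallyOfFinitePresentation H.hom := inferInstance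
  haveI : Flat H.hom := inferInstance
  haveI : Flat f.left := by
    have hall := Groth.Agent.GrpSchLib.HomKer.all_of_unit f Groth.Agent.GrpSchLib.Loci.compat_FL
      (Groth.Agent.GrpSchLib.HomFibre.flat_iff f) (fun s => inferInstance) fun s => by
        rw [Groth.Agent.GrpSchLib.HomFibre.mem_loc_FL_iff, show s = pt from
          @Subsingleton.elim ↥(Spec (CommRingCat.of k)) inferInstance s pt]
        exact flat_of_bijective_levels _ h
    refine Flat.of_stalkMap _ fun x => ?_
    exact (Groth.Agent.GrpSchLib.HomFibre.mem_loc_FL_iff f.left x).mp (hall x)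
  exact IsOpenImmersion.of_flat_of_mono f.left

end Groth.Agent.S18828
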