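import Groth.Statements.S18830
import Groth.Agent.GrpSchLib.Units
-- import your own Groth.Agent.* helpers here

set_option autoImplicit false
universe u
open CategoryTheory MonoidalCategory CartesianMonoidalCategory MonObj AlgebraicGeometry
open AlgGrp

namespace Groth.Agent.S18830

/-- Let k be a field and M an algebraic monoid over k (a monoid k-scheme of finite type). Let i : G → M
be its group of units: a monomorphism of k-schemes through which a T-valued point of M factors if
and only if it is invertible in the monoid M(T). Then G is of finite type over k, i.e. the unit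
group is an algebraic group. -/
theorem result (k : Type u) [Field k]
    (M G : Over (Spec (CommRingCat.of k))) [MonObj M] [LocallyOfFiniteType M.hom] [QuasiCompact M.hom]
    (i : G ⟶ M) [Mono i]
    (hi : ∀ (T : Over (Spec (CommRingCat.of k))) (m : T ⟶ M), (∃ g : T ⟶ G, g ≫ i = m) ↔ IsUnit m) :
    LocallyOfFiniteType G.hom ∧ QuasiCompact G.hom := by
  -- `G` is isomorphic to the object of units
  obtain ⟨φ, hφ⟩ := (GrpSchLib.exists_fac_unitsMap_iff M i).mpr ((hi G i).mp ⟨𝟙 G, Category.id_comp i⟩)
  obtain ⟨ψ, hψ⟩ := (hi (GrpSchLib.unitsObj M) (GrpSchLib.unitsMap M)).mpr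
    ((GrpSchLib.exists_fac_unitsMap_iff M _).mp ⟨𝟙 _, Category.id_comp _⟩)
  have := GrpSchLib.mono_unitsMap M
  let e : G ≅ GrpSchLib.unitsObj M :=
    ⟨φ, ψ, by rw [← cancel_mono i, Category.assoc, hψ, hφ, Category.id_comp],
      by rw [← cancel_mono (GrpSchLib.unitsMap M), Category.assoc, hφ, hψ, Category.id_comp]⟩
  have : CompactSpace M.left := QuasiCompact.compactSpace_of_compactSpace M.hom
  let one : Spec (CommRingCat.of k) ⟶ (M ⊗ M).left := (lift (MonObj.one (X := M)) (MonObj.one (X := M))).left
  have : IsClosedImmersion one :=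
    isClosedImmersion_of_comp_eq_id (M ⊗ M).hom one (Over.w (lift (MonObj.one (X := M)) (MonObj.one (X := M))))
  have hMM : LocallyOfFiniteType (M ⊗ M).hom :=
    inferInstanceAs (LocallyOfFiniteType (Limits.pullback.fst M.hom M.hom ≫ M.hom))
  have hMMc : QuasiCompact (M ⊗ M).hom :=
    inferInstanceAs (QuasiCompact (Limits.pullback.fst M.hom M.hom ≫ M.hom))
  have h1 : LocallyOfFiniteType (GrpSchLib.unitsObj M).hom :=
    inferInstanceAs (LocallyOfFiniteType (Limits.pullback.fst (GrpSchLib.unitsPair M).left one ≫ (M ⊗ M).hom))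
  have h2 : QuasiCompact (GrpSchLib.unitsObj M).hom :=
    inferInstanceAs (QuasiCompact (Limits.pullback.fst (GrpSchLib.unitsPair M).left one ≫ (M ⊗ M).hom))
  have : IsIso e.hom.left := ((Over.forget _).mapIso e).isIso_hom
  rw [← Over.w e.hom]
  exact ⟨inferInstance, inferInstance⟩

end Groth.Agent.S18830
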