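import Groth.Statements.S18831
import Groth.Agent.Lib.CurveSection

set_option autoImplicit false
set_option linter.style.haveILetI false
universe u
open CategoryTheory CategoryTheory.Limits AlgebraicGeometry
open VBCurve

namespace Groth.Agent.S18831

/-- Let X be a smooth projective integral curve over an algebraically closed field k of characteristic
zero, and G a finite locally free O_X-module of rank r ≥ 1 which is slope-semistable, of slope μ =
deg G / r (deg G = χ(G) − r χ(O_X)). Then dim_k H^0(X, G) ≤ r · max(⌊μ⌋ + 1, 0); in particular a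
slope-semistable bundle of negative slope has no nonzero global section. -/
theorem result (k : Type u) [Field k] [IsAlgClosed k] [CharZero k]
    (X : Scheme.{u}) [X.Over (Spec (CommRingCat.of k))]
    [IsIntegral X] [IsProper (X ↘ Spec (CommRingCat.of k))] [Smooth (X ↘ Spec (CommRingCat.of k))]
    (hdim : topologicalKrullDim X = 1)
    (r : ℕ) (hr : 0 < r) (G : X.Modules) (hG : FlatMod.IsFinLocFreeOfRank r G)
    (hss : ModFun.IsSlopeSemistable k X G r) :
    (Module.finrank k (Coh.HH X G 0) : ℤ) ≤
      (r : ℤ) * max (⌊(Curv2.deg k X G r : ℚ) / (r : ℚ)⌋ + 1) 0 := by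
  haveI := Groth.Agent.CurveCohLib.isNoetherian_of_proper (k := k) (X := X)
  by_contra hlt
  push Not at hlt
  set μ : ℚ := (Curv2.deg k X G r : ℚ) / (r : ℚ) with hμ
  set n : ℕ := (max (⌊μ⌋ + 1) 0).toNat with hn
  have hn' : (n : ℤ) = max (⌊μ⌋ + 1) 0 := Int.toNat_of_nonneg (le_max_right _ _)
  obtain ⟨S, hS, hScl⟩ := Groth.Agent.CurveSection.exists_closed_finset k hdim n
  obtain ⟨M, i, hi, hM, hdeg⟩ := Groth.Agent.CurveSection.exists_line_sub k hdim hG S hScl (by
    rw [← hn'] at hlt
    rw [hS]
    exact_mod_cast hlt)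
  rw [← Groth.Agent.CurveSlope.deg_eq_dg k hM, hS] at hdeg
  have h := hss M 1 i hi Nat.one_pos hM
  rw [Nat.cast_one, mul_one] at h
  have h1 : ((n : ℤ) : ℚ) ≤ μ := by
    rw [hμ, le_div_iff₀ (by exact_mod_cast hr)]
    have : (n : ℤ) * (r : ℤ) ≤ Curv2.deg k X G r :=
      (mul_le_mul_of_nonneg_right hdeg (Int.natCast_nonneg r)).trans h
    exact_mod_cast this
  have h2 := Int.le_floor.2 h1
  have h3 := le_max_left (⌊μ⌋ + 1) 0
  omega

end Groth.Agent.S18831
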