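import Groth.Statements.S18832
import Groth.Agent.SmoothReg.Field
import Groth.Agent.Synt29.JetLift
import Groth.Agent.Synt29.JetCoords
import Mathlib

set_option autoImplicit false
universe u
open Polynomial
open DefT

namespace Groth.Agent.S18832

/-- Let k be an algebraically closed field of characteristic zero, A a finitely generated k-algebra and
m a maximal ideal of A. Then A_m is a regular local ring (the pointed scheme (Spec A, m) is smooth
at m) if and only if, for every l ≥ 1, every k-algebra homomorphism φ : A → k[X]/(X^l) mapping m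
into the nilpotent elements extends to a k-algebra homomorphism ψ : A → k[X]/(X^(l+1)) reducing to φ
modulo X^l. Only jets along Spec k[X]/(X^l) are tested, not all local Artinian algebras. -/
theorem result (k : Type u) [Field k] [IsAlgClosed k] [CharZero k]
    (A : Type u) [CommRing A] [Algebra k A] [Algebra.FiniteType k A]
    (m : Ideal A) [m.IsMaximal] :
    IsRegularLocalRing (Localization.AtPrime m) ↔
      ∀ (l : ℕ), 1 ≤ l →
        ∀ (φ : A →ₐ[k] (k[X] ⧸ Ideal.span {(X : k[X]) ^ l})),
          (∀ a ∈ m, IsNilpotent (φ a)) →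
          ∃ ψ : A →ₐ[k] (k[X] ⧸ Ideal.span {(X : k[X]) ^ (l + 1)}),
            (Ideal.Quotient.factorₐ k
                (Ideal.span_singleton_le_span_singleton.mpr (pow_dvd_pow (X : k[X]) (Nat.le_succ l)))).comp ψ = φ := by
  
  classical
  have : IsNoetherianRing A := Algebra.FiniteType.isNoetherianRing k A
  let R := Localization.AtPrime m
  have : IsNoetherianRing R := IsLocalization.isNoetherianRing m.primeCompl R ‹_›
  let J : ℕ → Type u := fun l => k[X] ⧸ Ideal.span {(X : k[X]) ^ l}
  let π : ∀ l, J (l + 1) →ₐ[k] J l := fun l => Ideal.Quotient.factorₐ k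
    (Ideal.span_singleton_le_span_singleton.mpr (pow_dvd_pow (X : k[X]) (Nat.le_succ l)))
  have hπ : ∀ l, Function.Surjective (π l) := fun l => Ideal.Quotient.factor_surjective
    (Ideal.span_singleton_le_span_singleton.mpr (pow_dvd_pow (X : k[X]) (Nat.le_succ l)))
  have hkerπ : ∀ l, 1 ≤ l → ∀ z : J (l + 1), π l z = 0 → z ^ 2 = 0 := by
    intro l hl z hz
    obtain ⟨F, rfl⟩ := Ideal.Quotient.mk_surjective z
    obtain ⟨G, rfl⟩ := Ideal.mem_span_singleton.1 (Ideal.Quotient.eq_zero_iff_mem.1 hz)
    refine (map_pow _ _ _).symm.trans ?_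
    rw [Ideal.Quotient.eq_zero_iff_mem, Ideal.mem_span_singleton, mul_pow, ← pow_mul]
    exact (pow_dvd_pow _ (by omega)).mul_right _
  -- residue field
  have hAm : Function.Surjective (algebraMap k (A ⧸ m)) := by
    have : Module.Finite k (A ⧸ m) := by
      let _ := Ideal.Quotient.field m
      exact finite_of_finite_type_of_isJacobsonRing k (A ⧸ m)
    exact (IsAlgClosed.algebraMap_bijective_of_isIntegral (k := k) (K := A ⧸ m)).2
  have hm : ∀ a : A, ∃ c : k, a - algebraMap k A c ∈ m := fun a => by
    obtain ⟨c, hc⟩ := hAm (Ideal.Quotient.mk m a)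
    refine ⟨c, Ideal.Quotient.eq.1 ?_⟩
    rw [← hc]
    rfl
  have hunit : ∀ (l : ℕ) (φ : A →ₐ[k] J l), (∀ a ∈ m, IsNilpotent (φ a)) → ∀ s : m.primeCompl, IsUnit (φ s) := by
    intro l φ hφ s
    obtain ⟨c, hc⟩ := hm s
    have hc0 : c ≠ 0 := by
      rintro rfl
      rw [map_zero, sub_zero] at hc
      exact s.2 hc
    have h1 := (hφ _ hc).isUnit_add_right_of_commute
      ((isUnit_iff_ne_zero.2 hc0).map (algebraMap k (J l))) (Commute.all _ _)
    rwa [map_sub, AlgHom.commutes, sub_add_cancel] at h1
  constructor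
  · intro hreg l hl φ hφ
    have : Algebra.FormallySmooth k R :=
      (Groth.Agent.SmoothReg.isSmoothAt_iff_isRegularLocalRing m).2 hreg
    let φR : R →ₐ[k] J l := IsLocalization.liftAlgHom (f := φ) (hunit l φ hφ)
    have hnil : IsNilpotent (RingHom.ker (π l).toRingHom) := by
      refine ⟨2, eq_bot_iff.2 ?_⟩
      rw [show (2 : ℕ) = 1 + 1 from rfl, Submodule.pow_succ, Submodule.pow_one]
      refine Ideal.mul_le.2 fun a ha b hb => ?_
      obtain ⟨F, rfl⟩ := Ideal.Quotient.mk_surjective a
      obtain ⟨G, rfl⟩ := Ideal.Quotient.mk_surjective b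
      obtain ⟨F, rfl⟩ := Ideal.mem_span_singleton.1 (Ideal.Quotient.eq_zero_iff_mem.1 (RingHom.mem_ker.1 ha))
      obtain ⟨G, rfl⟩ := Ideal.mem_span_singleton.1 (Ideal.Quotient.eq_zero_iff_mem.1 (RingHom.mem_ker.1 hb))
      rw [Submodule.mem_bot, ← map_mul, Ideal.Quotient.eq_zero_iff_mem, Ideal.mem_span_singleton,
        mul_mul_mul_comm, ← pow_add]
      exact (pow_dvd_pow _ (by omega)).mul_right _
    refine ⟨(Algebra.FormallySmooth.liftOfSurjective φR (π l) (hπ l) hnil).comp (IsScalarTower.toAlgHom k A R), ?_⟩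
    refine AlgHom.ext fun a => ?_
    exact (DFunLike.congr_fun (Algebra.FormallySmooth.comp_liftOfSurjective φR (π l) (hπ l) hnil)
      (algebraMap A R a)).trans (IsLocalization.lift_eq (hunit l φ hφ) a)
  intro H
  have hXdvd : ∀ l, 1 ≤ l → ∀ F : k[X], IsNilpotent (Ideal.Quotient.mk (Ideal.span {(X : k[X]) ^ l}) F) → X ∣ F := by
    rintro l hl F ⟨t, ht⟩
    rw [← map_pow, Ideal.Quotient.eq_zero_iff_mem, Ideal.mem_span_singleton] at ht
    exact Prime.dvd_of_dvd_pow prime_X ((dvd_pow_self X (by omega)).trans ht)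
  have hnilR : ∀ l, 1 ≤ l → ∀ (φ : R →ₐ[k] J l), ∀ r ∈ IsLocalRing.maximalIdeal R, IsNilpotent (φ r) := by
    intro l hl φ r hr
    let cst : J l →ₐ[k] k := Ideal.Quotient.liftₐ _ (Polynomial.aeval (0 : k)) fun z hz => by
      obtain ⟨w, rfl⟩ := Ideal.mem_span_singleton.1 hz
      simp [zero_pow (by omega : l ≠ 0)]
    have hmax : (RingHom.ker (cst.comp φ).toRingHom).IsMaximal :=
      RingHom.ker_isMaximal_of_surjective _ fun c => ⟨algebraMap k R c, (cst.comp φ).commutes c⟩
    rw [← IsLocalRing.eq_maximalIdeal hmax, RingHom.mem_ker] at hr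
    obtain ⟨F, hF⟩ := Ideal.Quotient.mk_surjective (φ r)
    have h2 : cst (Ideal.Quotient.mk _ F) = 0 := by rw [hF]; exact hr
    obtain ⟨w, rfl⟩ : X ∣ F := by
      rw [X_dvd_iff, coeff_zero_eq_aeval_zero]
      exact h2
    refine ⟨l, ?_⟩
    rw [← hF, ← map_pow, Ideal.Quotient.eq_zero_iff_mem, Ideal.mem_span_singleton, mul_pow]
    exact dvd_mul_right _ _
  have hresR : Function.Surjective (algebraMap k (IsLocalRing.ResidueField R)) := by
    intro y
    obtain ⟨y, rfl⟩ := IsLocalRing.residue_surjective y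
    obtain ⟨⟨a, s⟩, rfl⟩ := IsLocalization.mk'_surjective m.primeCompl y
    obtain ⟨c, hc⟩ := hm a
    obtain ⟨e, he⟩ := hm s
    have hmem : ∀ z ∈ m, IsLocalRing.residue R (algebraMap A R z) = 0 := fun z hz => by
      rw [IsLocalRing.residue_eq_zero_iff]
      exact (IsLocalization.AtPrime.to_map_mem_maximal_iff R m z).2 hz
    have hval : ∀ (z : A) (w : k), z - algebraMap k A w ∈ m →
        IsLocalRing.residue R (algebraMap A R z) = algebraMap k (IsLocalRing.ResidueField R) w := by
      intro z w hzw
      have := hmem _ hzw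
      rw [map_sub, map_sub, sub_eq_zero, ← IsScalarTower.algebraMap_apply] at this
      rw [this]
      rfl
    refine ⟨c / e, ?_⟩
    have h1 := congrArg (IsLocalRing.residue R) (IsLocalization.mk'_spec R a s)
    rw [map_mul, hval _ _ he, hval _ _ hc] at h1
    have he0 : algebraMap k (IsLocalRing.ResidueField R) e ≠ 0 := by
      rw [← hval _ _ he]
      exact ((IsLocalization.map_units R s).map _).ne_zero
    rw [map_div₀, ← h1, mul_div_assoc, div_self he0, mul_one]
  obtain ⟨x, hx, hsurj, φ1, hφ1⟩ := Groth.Agent.Synt29.JetCoords.exists_coords k R hresR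
  generalize hd : (IsLocalRing.maximalIdeal R).spanFinrank = d at x hx hsurj φ1 hφ1
  let I : Ideal (MvPolynomial (Fin d) k) := MvPolynomial.idealOfVars (Fin d) k
  -- a jet through every tangent vector
  have hjet : ∀ (v : Fin d → k) (N : ℕ), ∃ φ : R →ₐ[k] J (N + 2),
      ∀ i, ∃ G : k[X], φ (x i) = Ideal.Quotient.mk _ (X * G) ∧ X ∣ G - C (v i) := by
    intro v N
    induction N with
    | zero =>
      let ev : MvPolynomial (Fin d) k →ₐ[k] J 2 :=
        MvPolynomial.aeval fun i => Ideal.Quotient.mk _ (X * C (v i))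
      have hle : ∀ z ∈ I ^ (1 + 1), ev z = 0 := by
        intro z hz
        have h1 := Ideal.mem_map_of_mem ev hz
        have h2 : I.map ev ≤ Ideal.span {Ideal.Quotient.mk _ X} := by
          rw [show I = Ideal.span (Set.range MvPolynomial.X) from rfl, Ideal.map_span, Ideal.span_le]
          rintro _ ⟨_, ⟨i, rfl⟩, rfl⟩
          rw [SetLike.mem_coe, show ev (MvPolynomial.X i) = Ideal.Quotient.mk _ (X * C (v i)) from
            MvPolynomial.aeval_X _ i, map_mul]
          exact Ideal.mul_mem_right _ _ (Ideal.mem_span_singleton_self _)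
        rw [Ideal.map_pow] at h1
        have h3 := Ideal.pow_right_mono h2 _ h1
        rw [Ideal.span_singleton_pow, Ideal.mem_span_singleton,
          show (Ideal.Quotient.mk (Ideal.span {(X : k[X]) ^ 2}) X) ^ (1 + 1) = 0 from
            (map_pow _ _ _).symm.trans (Ideal.Quotient.eq_zero_iff_mem.2 (Ideal.mem_span_singleton_self _)),
          zero_dvd_iff] at h3
        exact h3
      refine ⟨(Ideal.Quotient.liftₐ _ ev hle).comp φ1, fun i => ⟨C (v i), ?_, by simp⟩⟩
      rw [AlgHom.comp_apply, hφ1]
      exact MvPolynomial.aeval_X _ i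
    | succ N ih =>
      obtain ⟨φ, hφ⟩ := ih
      have hnilA : ∀ a ∈ m, IsNilpotent (φ (algebraMap A R a)) := fun a ha =>
        hnilR (N + 2) (by omega) φ _ ((IsLocalization.AtPrime.to_map_mem_maximal_iff R m a).2 ha)
      obtain ⟨ψ, hψ⟩ := H (N + 2) (by omega) (φ.comp (IsScalarTower.toAlgHom k A R)) hnilA
      have hψπ : ∀ a : A, π (N + 2) (ψ a) = φ (algebraMap A R a) := fun a => DFunLike.congr_fun hψ a
      have hψnil : ∀ a ∈ m, IsNilpotent (ψ a) := by
        intro a ha
        obtain ⟨t, ht⟩ := hnilA a ha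
        refine ⟨t * 2, ?_⟩
        rw [pow_mul]
        exact hkerπ (N + 2) (by omega) _ (by rw [map_pow, hψπ, ht])
      let ψR : R →ₐ[k] J (N + 2 + 1) := IsLocalization.liftAlgHom (f := ψ) (hunit _ ψ hψnil)
      have hπR : ∀ r, π (N + 2) (ψR r) = φ r := by
        intro r
        refine RingHom.congr_fun (IsLocalization.ringHom_ext m.primeCompl (RingHom.ext fun a => ?_) :
          (π (N + 2)).toRingHom.comp ψR.toRingHom = φ.toRingHom) r
        exact (congrArg (π (N + 2)) (IsLocalization.lift_eq (hunit _ ψ hψnil) a)).trans (hψπ a)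
      refine ⟨ψR, fun i => ?_⟩
      obtain ⟨G', hG', hG''⟩ := hφ i
      obtain ⟨F, hF⟩ := Ideal.Quotient.mk_surjective (ψR (x i))
      have h1 := hπR (x i)
      rw [← hF, hG'] at h1
      obtain ⟨w, hw⟩ := Ideal.mem_span_singleton.1 (Ideal.Quotient.eq.1 h1)
      refine ⟨G' + X ^ (N + 1) * w, ?_, ?_⟩
      · rw [← hF]
        congr 1
        rw [mul_add, ← mul_assoc, ← pow_succ', ← hw, add_sub_cancel]
      · rw [add_sub_right_comm]
        exact dvd_add hG'' ((dvd_pow_self _ (Nat.succ_ne_zero N)).mul_right _)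
  have hI : ∀ (n : ℕ) (F : MvPolynomial (Fin d) k),
      MvPolynomial.aeval x F ∈ IsLocalRing.maximalIdeal R ^ n → F ∈ I ^ n := by
    intro n
    induction n with
    | zero => intro F _; simp
    | succ n ih =>
      intro F hF
      have hFn := ih F (Ideal.pow_le_pow_right (Nat.le_succ n) hF)
      rw [MvPolynomial.mem_pow_idealOfVars_iff'] at hFn ⊢
      let Fn := MvPolynomial.homogeneousComponent n F
      suffices hz : Fn = 0 by
        intro s hs
        rcases Nat.lt_or_ge s.degree n with h | h
        · exact hFn s h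
        · have hsn : s.degree = n := by omega
          have := congrArg (MvPolynomial.coeff s) hz
          rwa [MvPolynomial.coeff_homogeneousComponent, if_pos hsn, MvPolynomial.coeff_zero] at this
      refine MvPolynomial.funext fun v => ?_
      rw [map_zero]
      obtain ⟨φ, hφ⟩ := hjet v n
      choose G hG hGv using hφ
      have h1 : φ (MvPolynomial.aeval x F) = Ideal.Quotient.mk _ (MvPolynomial.aeval (fun i => X * G i) F) :=
        congrArg (fun f : MvPolynomial (Fin d) k →ₐ[k] J (n + 2) => f F) (MvPolynomial.algHom_ext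
          (f := φ.comp (MvPolynomial.aeval x))
          (g := (Ideal.Quotient.mkₐ k _).comp (MvPolynomial.aeval fun i => X * G i))
          fun i => by simp [hG])
      have hmax : (IsLocalRing.maximalIdeal R).map φ ≤ Ideal.span {Ideal.Quotient.mk _ X} := by
        rw [Ideal.map_le_iff_le_comap]
        intro r hr
        obtain ⟨Fr, hFr⟩ := Ideal.Quotient.mk_surjective (φ r)
        have h2 := hnilR (n + 2) (by omega) φ r hr
        rw [← hFr] at h2
        obtain ⟨w, rfl⟩ : X ∣ Fr := hXdvd (n + 2) (by omega) Fr h2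
        rw [Ideal.mem_comap, ← hFr, map_mul]
        exact Ideal.mul_mem_right _ _ (Ideal.mem_span_singleton_self _)
      have h3 := Ideal.mem_map_of_mem φ hF
      rw [Ideal.map_pow] at h3
      have h4 := Ideal.pow_right_mono hmax _ h3
      rw [Ideal.span_singleton_pow, Ideal.mem_span_singleton, h1, ← map_pow] at h4
      obtain ⟨w, hw⟩ := h4
      obtain ⟨w, rfl⟩ := Ideal.Quotient.mk_surjective w
      rw [← map_mul] at hw
      obtain ⟨z, hz⟩ := Ideal.mem_span_singleton.1 (Ideal.Quotient.eq.1 hw)
      have h5 : (X : k[X]) ^ (n + 1) ∣ MvPolynomial.aeval (fun i => X * G i) F := by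
        rw [sub_eq_iff_eq_add] at hz
        rw [hz]
        exact dvd_add ((pow_dvd_pow _ (by omega)).mul_right _) (dvd_mul_right _ _)
      -- compare coefficients of `X ^ n`
      have hrest : (X : k[X]) ^ (n + 1) ∣ MvPolynomial.aeval (fun i => X * G i) (F - Fn) := by
        have hmem : F - Fn ∈ I ^ (n + 1) := by
          rw [MvPolynomial.mem_pow_idealOfVars_iff']
          intro s hs
          rw [MvPolynomial.coeff_sub, MvPolynomial.coeff_homogeneousComponent]
          rcases Nat.lt_or_ge s.degree n with h | h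
          · rw [if_neg (by omega), hFn s h, sub_zero]
          · rw [if_pos (by omega), sub_self]
        have h6 := Ideal.mem_map_of_mem (MvPolynomial.aeval fun i => X * G i) hmem
        rw [Ideal.map_pow] at h6
        have hle : I.map (MvPolynomial.aeval fun i => X * G i) ≤ Ideal.span {(X : k[X])} := by
          rw [show I = Ideal.span (Set.range MvPolynomial.X) from rfl, Ideal.map_span, Ideal.span_le]
          rintro _ ⟨_, ⟨i, rfl⟩, rfl⟩
          rw [MvPolynomial.aeval_X]
          exact Ideal.mul_mem_right _ _ (Ideal.mem_span_singleton_self _)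
        have h7 := Ideal.pow_right_mono hle _ h6
        rwa [Ideal.span_singleton_pow, Ideal.mem_span_singleton] at h7
      rw [map_sub] at hrest
      have h8 := dvd_sub h5 hrest
      rw [sub_sub_cancel] at h8
      have hhom : MvPolynomial.aeval (fun i => X * G i) Fn = X ^ n * MvPolynomial.aeval G Fn := by
        have hh := MvPolynomial.homogeneousComponent_isHomogeneous n F
        rw [Fn.as_sum, map_sum, map_sum, Finset.mul_sum]
        refine Finset.sum_congr rfl fun s hs => ?_
        rw [MvPolynomial.aeval_monomial, MvPolynomial.aeval_monomial]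
        simp only [mul_pow, Finsupp.prod_mul]
        rw [show (s.prod fun _ e => (X : k[X]) ^ e) = X ^ n by
          rw [Finsupp.prod, Finset.prod_pow_eq_pow_sum]
          congr 1
          rw [← hh (MvPolynomial.mem_support_iff.1 hs)]
          simp [Finsupp.weight_apply, Finsupp.sum]]
        ring
      rw [hhom, pow_succ, mul_dvd_mul_iff_left (pow_ne_zero _ X_ne_zero), X_dvd_iff, ← constantCoeff_apply,
        MvPolynomial.aeval_def, MvPolynomial.eval₂_comp_left] at h8
      rw [← h8]
      show MvPolynomial.eval₂ (RingHom.id k) v Fn = _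
      congr 1
      · ext c; simp
      · funext i
        have := X_dvd_iff.1 (hGv i)
        rw [coeff_sub, coeff_C_zero, sub_eq_zero] at this
        simpa using this.symm
  exact IsRegularLocalRing.of_spanFinrank_maximalIdeal_le R
    (hd ▸ Groth.Agent.Synt29.JetLift.le_ringKrullDim d x hx hsurj hI)

end Groth.Agent.S18832
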