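import Groth.Statements.S18837
import Groth.Agent.Synt29.DtSeq
import Mathlib

set_option autoImplicit false
universe u
open Polynomial TensorProduct
open Deform

namespace Groth.Agent.S18837

/-- Let k be an algebraically closed field of characteristic zero, n ≥ 1, D = k[X]/(X^(n+1)) (given with
a k-algebra isomorphism e identifying the class of X with τ ∈ D), and B a finitely generated
k-algebra which is a flat D-algebra such that B/tB is smooth over k, where t is the image of τ in B
(an affine open of a flat deformation of a smooth k-scheme over Spec D); put B' = B/t^nB. Then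
Ω_(B/D) is a projective B-module, B' ⊗_B Ω_(B/k) is a projective B'-module, and the sequence 0 → B'
→ B' ⊗_B Ω_(B/k) → B' ⊗_B Ω_(B/D) → 0 is exact, the first map being b ↦ b · (1 ⊗ dt) and the second
the base change of the canonical surjection Ω_(B/k) → Ω_(B/D). The source states this for a flat
proper family over Spec D with smooth central fibre; the statement is local and is given here on an
affine open. -/
theorem result (k : Type u) [Field k] [IsAlgClosed k] [CharZero k] (n : ℕ) (hn : 1 ≤ n)
    (D : Type u) [CommRing D] [Algebra k D] (τ : D)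
    (e : (k[X] ⧸ Ideal.span {(X : k[X]) ^ (n + 1)}) ≃ₐ[k] D)
    (he : e (Ideal.Quotient.mk (Ideal.span {(X : k[X]) ^ (n + 1)}) X) = τ)
    (B : Type u) [CommRing B] [Algebra k B] [Algebra D B] [IsScalarTower k D B]
    [Algebra.FiniteType k B] [Module.Flat D B]
    (t : B) (ht : t = algebraMap D B τ) (hsm : Algebra.Smooth k (B ⧸ Ideal.span {t})) :
    Module.Projective B (Ω[B⁄D]) ∧
    Module.Projective (B ⧸ Ideal.span {t ^ n}) ((B ⧸ Ideal.span {t ^ n}) ⊗[B] Ω[B⁄k]) ∧
    Function.Injective
      (LinearMap.toSpanSingleton (B ⧸ Ideal.span {t ^ n}) ((B ⧸ Ideal.span {t ^ n}) ⊗[B] Ω[B⁄k])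
        ((1 : (B ⧸ Ideal.span {t ^ n})) ⊗ₜ[B] KaehlerDifferential.D k B t)) ∧
    Function.Exact
      (LinearMap.toSpanSingleton (B ⧸ Ideal.span {t ^ n}) ((B ⧸ Ideal.span {t ^ n}) ⊗[B] Ω[B⁄k])
        ((1 : (B ⧸ Ideal.span {t ^ n})) ⊗ₜ[B] KaehlerDifferential.D k B t))
      (LinearMap.baseChange (B ⧸ Ideal.span {t ^ n}) (KaehlerDifferential.map k D B B)) ∧
    Function.Surjective (LinearMap.baseChange (B ⧸ Ideal.span {t ^ n}) (KaehlerDifferential.map k D B B)) := by
  
  classical
  have hsmD : Algebra.Smooth D B := Groth.Agent.Synt29.DtSeq.smooth k n τ e he B ht hsm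
  obtain ⟨ρ, hρ⟩ := Groth.Agent.Synt29.DtSeq.exists_functional k n τ e he B ht
  obtain ⟨s, hs⟩ := Groth.Agent.Synt29.DtSeq.exists_section k n τ e he B ht
  let B' := B ⧸ Ideal.span {t ^ n}
  let π := KaehlerDifferential.map k D B B
  let π' := LinearMap.baseChange B' π
  have hπdt : π (KaehlerDifferential.D k B t) = 0 := by
    rw [KaehlerDifferential.map_D]
    show KaehlerDifferential.D D B t = 0
    rw [ht, Derivation.map_algebraMap]
  have hdec : ∀ η : Ω[B⁄k], ∃ b : B, η = s (π η) + b • KaehlerDifferential.D k B t := by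
    intro η
    obtain ⟨b, hb⟩ := Groth.Agent.Synt29.DtSeq.exists_eq_smul_D k n τ e he B ht
      (η := η - s (π η)) (by rw [map_sub, hs, sub_self])
    exact ⟨b, by rw [← hb, add_sub_cancel]⟩
  have hker : ∀ γ : B' ⊗[B] Ω[B⁄k], π' γ = 0 →
      ∃ b : B, γ = (1 : B') ⊗ₜ[B] (b • KaehlerDifferential.D k B t) := by
    intro γ
    have key : ∀ γ : B' ⊗[B] Ω[B⁄k], ∃ b : B,
        γ = LinearMap.baseChange B' s (π' γ) + (1 : B') ⊗ₜ[B] (b • KaehlerDifferential.D k B t) := by
      intro γ
      induction γ using TensorProduct.induction_on with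
      | zero => exact ⟨0, by simp⟩
      | tmul c η =>
        obtain ⟨c, rfl⟩ := Ideal.Quotient.mk_surjective c
        obtain ⟨b, hb⟩ := hdec η
        refine ⟨c * b, ?_⟩
        simp only [π', LinearMap.baseChange_tmul]
        conv_lhs => rw [hb]
        rw [TensorProduct.tmul_add, mul_smul, ← TensorProduct.smul_tmul c (1 : B')]
        congr 2
        rw [Algebra.smul_def, mul_one]
        rfl
      | add x y hx hy =>
        obtain ⟨a, ha⟩ := hx
        obtain ⟨b, hb⟩ := hy
        refine ⟨a + b, ?_⟩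
        rw [map_add, map_add, add_smul, TensorProduct.tmul_add]
        conv_lhs => rw [ha, hb]
        abel
    intro h
    obtain ⟨b, hb⟩ := key γ
    exact ⟨b, by rw [h, map_zero, zero_add] at hb; exact hb⟩
  let ρ' := LinearMap.liftBaseChange B' ρ
  let u : B' ⊗[B] Ω[B⁄k] := (1 : B') ⊗ₜ[B] KaehlerDifferential.D k B t
  have hρu : ρ' u = 1 := by simp [ρ', u, hρ]
  have hsurj : Function.Surjective π := KaehlerDifferential.map_surjective k D B
  have hπ'surj : Function.Surjective π' := by
    intro y
    induction y using TensorProduct.induction_on with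
    | zero => exact ⟨0, map_zero _⟩
    | tmul c x =>
      obtain ⟨η, rfl⟩ := hsurj x
      exact ⟨c ⊗ₜ η, LinearMap.baseChange_tmul _ _ _⟩
    | add x y hx hy =>
      obtain ⟨a, rfl⟩ := hx
      obtain ⟨b, rfl⟩ := hy
      exact ⟨a + b, map_add _ _ _⟩
  refine ⟨inferInstance, ?_, ?_, ?_, hπ'surj⟩
  · let s' := LinearMap.baseChange B' s
    let ρ₀ := ρ' - ρ' ∘ₗ s' ∘ₗ π'
    refine Module.Projective.of_split (M := B' × (B' ⊗[B] Ω[B⁄D])) (ρ₀.prod π')
      ((LinearMap.toSpanSingleton B' _ u).coprod s') ?_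
    refine LinearMap.ext fun γ => ?_
    obtain ⟨b, hb⟩ := hker (γ - s' (π' γ)) (by
      rw [map_sub, sub_eq_zero]
      show π' γ = (LinearMap.baseChange B' π ∘ₗ LinearMap.baseChange B' s) (π' γ)
      rw [← LinearMap.baseChange_comp, show π ∘ₗ s = LinearMap.id from LinearMap.ext hs, LinearMap.baseChange_id]
      rfl)
    have hb' : (1 : B') ⊗ₜ[B] (b • KaehlerDifferential.D k B t) = algebraMap B B' b • u := by
      rw [TensorProduct.tmul_smul, algebraMap_smul]
    have hρ0 : ρ₀ γ = algebraMap B B' b := by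
      show ρ' γ - ρ' (s' (π' γ)) = _
      rw [← map_sub, hb, hb', map_smul, hρu, smul_eq_mul, mul_one]
    rw [LinearMap.comp_apply, LinearMap.prod_apply, LinearMap.id_apply]
    show ρ₀ γ • u + s' (π' γ) = γ
    rw [hρ0, ← hb', ← hb, sub_add_cancel]
  · intro a b h
    simp only [LinearMap.toSpanSingleton_apply] at h
    have := congrArg ρ' h
    rwa [map_smul, map_smul, hρu, smul_eq_mul, smul_eq_mul, mul_one, mul_one] at this
  · intro γ
    constructor
    · intro h
      obtain ⟨b, rfl⟩ := hker γ h
      refine ⟨algebraMap B B' b, ?_⟩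
      simp only [LinearMap.toSpanSingleton_apply]
      rw [TensorProduct.tmul_smul, algebraMap_smul]
    · rintro ⟨c, rfl⟩
      simp only [LinearMap.toSpanSingleton_apply, map_smul, LinearMap.baseChange_tmul]
      rw [show π (KaehlerDifferential.D k B t) = 0 from hπdt, TensorProduct.tmul_zero, smul_zero]

end Groth.Agent.S18837
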