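import Groth.Statements.S18838
import Groth.Agent.Synt29.DtSeq
import Mathlib

set_option autoImplicit false
universe u
open Polynomial TensorProduct
open Deform

namespace Groth.Agent.S18838

/-- Let k be an algebraically closed field of characteristic zero, n ≥ 1, D = k[X]/(X^(n+1)) (given with
a k-algebra isomorphism e identifying the class of X with τ ∈ D), and B a finitely generated
k-algebra which is a flat D-algebra such that B/tB is smooth over k, where t is the image of τ in B
(an affine open of a flat deformation of a smooth k-scheme over Spec D); put B' = B/t^nB. The map μ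
: B → B' × (B' ⊗_B Ω_(B/k)) sending f to (f mod t^n, 1 ⊗ df) is injective, and its image consists
exactly of the pairs (g, α) with dg = r(α) in Ω_(B'/k), r being the canonical map B' ⊗_B Ω_(B/k) →
Ω_(B'/k). Injectivity uses that n is invertible in k. The source works with a flat proper family
over Spec D with smooth central fibre; the statement is local and is given here on an affine open. -/
theorem result (k : Type u) [Field k] [IsAlgClosed k] [CharZero k] (n : ℕ) (hn : 1 ≤ n)
    (D : Type u) [CommRing D] [Algebra k D] (τ : D)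
    (e : (k[X] ⧸ Ideal.span {(X : k[X]) ^ (n + 1)}) ≃ₐ[k] D)
    (he : e (Ideal.Quotient.mk (Ideal.span {(X : k[X]) ^ (n + 1)}) X) = τ)
    (B : Type u) [CommRing B] [Algebra k B] [Algebra D B] [IsScalarTower k D B]
    [Algebra.FiniteType k B] [Module.Flat D B]
    (t : B) (ht : t = algebraMap D B τ) (hsm : Algebra.Smooth k (B ⧸ Ideal.span {t})) :
    Function.Injective (fun f : B =>
      ((Ideal.Quotient.mk (Ideal.span {t ^ n}) f,
        (1 : (B ⧸ Ideal.span {t ^ n})) ⊗ₜ[B] KaehlerDifferential.D k B f) : (B ⧸ Ideal.span {t ^ n}) × ((B ⧸ Ideal.span {t ^ n}) ⊗[B] Ω[B⁄k]))) ∧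
    Set.range (fun f : B =>
      ((Ideal.Quotient.mk (Ideal.span {t ^ n}) f,
        (1 : (B ⧸ Ideal.span {t ^ n})) ⊗ₜ[B] KaehlerDifferential.D k B f) : (B ⧸ Ideal.span {t ^ n}) × ((B ⧸ Ideal.span {t ^ n}) ⊗[B] Ω[B⁄k]))) =
      {p | KaehlerDifferential.D k (B ⧸ Ideal.span {t ^ n}) p.1 = KaehlerDifferential.mapBaseChange k B (B ⧸ Ideal.span {t ^ n}) p.2} := by
  
  classical
  have hsmD : Algebra.Smooth D B := Groth.Agent.Synt29.DtSeq.smooth k n τ e he B ht hsm
  obtain ⟨ρ, hρ⟩ := Groth.Agent.Synt29.DtSeq.exists_functional k n τ e he B ht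
  obtain ⟨s, hs⟩ := Groth.Agent.Synt29.DtSeq.exists_section k n τ e he B ht
  let B' := B ⧸ Ideal.span {t ^ n}
  let π := KaehlerDifferential.map k D B B
  let π' := LinearMap.baseChange B' π
  have hπdt : π (KaehlerDifferential.D k B t) = 0 := by
    rw [KaehlerDifferential.map_D]
    show KaehlerDifferential.D D B t = 0
    rw [ht, Derivation.map_algebraMap]
  have hdec : ∀ η : Ω[B⁄k], ∃ b : B, η = s (π η) + b • KaehlerDifferential.D k B t := by
    intro η
    obtain ⟨b, hb⟩ := Groth.Agent.Synt29.DtSeq.exists_eq_smul_D k n τ e he B ht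
      (η := η - s (π η)) (by rw [map_sub, hs, sub_self])
    exact ⟨b, by rw [← hb, add_sub_cancel]⟩
  have hker : ∀ γ : B' ⊗[B] Ω[B⁄k], π' γ = 0 →
      ∃ b : B, γ = (1 : B') ⊗ₜ[B] (b • KaehlerDifferential.D k B t) := by
    intro γ
    have key : ∀ γ : B' ⊗[B] Ω[B⁄k], ∃ b : B,
        γ = LinearMap.baseChange B' s (π' γ) + (1 : B') ⊗ₜ[B] (b • KaehlerDifferential.D k B t) := by
      intro γ
      induction γ using TensorProduct.induction_on with
      | zero => exact ⟨0, by simp⟩
      | tmul c η =>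
        obtain ⟨c, rfl⟩ := Ideal.Quotient.mk_surjective c
        obtain ⟨b, hb⟩ := hdec η
        refine ⟨c * b, ?_⟩
        simp only [π', LinearMap.baseChange_tmul]
        conv_lhs => rw [hb]
        rw [TensorProduct.tmul_add, mul_smul, ← TensorProduct.smul_tmul c (1 : B')]
        congr 2
        rw [Algebra.smul_def, mul_one]
        rfl
      | add x y hx hy =>
        obtain ⟨a, ha⟩ := hx
        obtain ⟨b, hb⟩ := hy
        refine ⟨a + b, ?_⟩
        rw [map_add, map_add, add_smul, TensorProduct.tmul_add]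
        conv_lhs => rw [ha, hb]
        abel
    intro h
    obtain ⟨b, hb⟩ := key γ
    exact ⟨b, by rw [h, map_zero, zero_add] at hb; exact hb⟩
  have htn1 := Groth.Agent.Synt29.DtSeq.pow_eq_zero k n τ e he B ht
  refine ⟨fun f g hfg => ?_, Set.ext fun p => ⟨?_, ?_⟩⟩
  · obtain ⟨h1, h2⟩ := Prod.mk.injEq .. ▸ hfg
    obtain ⟨c, hc⟩ := Ideal.mem_span_singleton.1 (Ideal.Quotient.eq.1 h1)
    rw [← sub_eq_zero, ← TensorProduct.tmul_sub, ← map_sub, hc, Derivation.leibniz, Derivation.leibniz_pow,
      TensorProduct.tmul_add] at h2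
    have h3 : (1 : B') ⊗ₜ[B] ((t ^ n) • KaehlerDifferential.D k B c) = 0 := by
      rw [← TensorProduct.smul_tmul, Algebra.smul_def, mul_one,
        show algebraMap B B' (t ^ n) = 0 from Ideal.Quotient.eq_zero_iff_mem.2 (Ideal.mem_span_singleton_self _),
        TensorProduct.zero_tmul]
    rw [h3, zero_add, ← Nat.cast_smul_eq_nsmul B n, smul_smul, smul_smul] at h2
    obtain ⟨x, hx⟩ := Ideal.mem_span_singleton.1
      (Groth.Agent.Synt29.DtSeq.mem_of_tmul_smul_D_eq_zero k n τ e he B ht h2)
    have hu : IsUnit (n : B) := by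
      rw [← map_natCast (algebraMap k B)]
      exact (isUnit_iff_ne_zero.2 (Nat.cast_ne_zero.2 (by omega))).map _
    obtain ⟨v, hv⟩ := hu
    have hn' : t ^ n = t ^ (n - 1) * t := by rw [← pow_succ, Nat.sub_add_cancel hn]
    rw [← sub_eq_zero, hc]
    refine v.mul_left_eq_zero.1 ?_
    calc t ^ n * c * ↑v = (c * (n : B) * t ^ (n - 1)) * t := by rw [hv, hn']; ring
      _ = t ^ n * x * t := by rw [← hx]
      _ = t ^ (n + 1) * x := by ring
      _ = 0 := by rw [htn1, zero_mul]
  · rintro ⟨f, rfl⟩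
    show KaehlerDifferential.D k B' (Ideal.Quotient.mk _ f) = KaehlerDifferential.mapBaseChange k B B' (1 ⊗ₜ _)
    rw [KaehlerDifferential.mapBaseChange_tmul, one_smul, KaehlerDifferential.map_D]
    rfl
  · obtain ⟨g, α⟩ := p
    intro hp
    obtain ⟨f₀, rfl⟩ := Ideal.Quotient.mk_surjective g
    have h0 : KaehlerDifferential.mapBaseChange k B B' (α - (1 : B') ⊗ₜ[B] KaehlerDifferential.D k B f₀) = 0 := by
      rw [map_sub, KaehlerDifferential.mapBaseChange_tmul, one_smul, KaehlerDifferential.map_D, sub_eq_zero]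
      exact hp.symm
    obtain ⟨z, hz⟩ := (KaehlerDifferential.exact_kerCotangentToTensor_mapBaseChange k B B'
      Ideal.Quotient.mk_surjective _).1 h0
    obtain ⟨⟨y, hy⟩, rfl⟩ := Ideal.toCotangent_surjective _ z
    rw [KaehlerDifferential.kerCotangentToTensor_toCotangent] at hz
    refine ⟨f₀ + y, Prod.ext ?_ ?_⟩
    · show Ideal.Quotient.mk _ (f₀ + y) = _
      rw [map_add, show Ideal.Quotient.mk (Ideal.span {t ^ n}) y = 0 from RingHom.mem_ker.1 hy, add_zero]
    · show (1 : B') ⊗ₜ[B] KaehlerDifferential.D k B (f₀ + y) = α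
      rw [map_add, TensorProduct.tmul_add, hz, add_sub_cancel]

end Groth.Agent.S18838
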