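import Groth.Statements.S18839
import Groth.Agent.Synt29.DtSeq
import Mathlib

set_option autoImplicit false
universe u
open Polynomial TensorProduct
open Deform

namespace Groth.Agent.S18839

/-- Let k be an algebraically closed field of characteristic zero, n ≥ 1, D = k[X]/(X^(n+1)) (given with
a k-algebra isomorphism e identifying the class of X with τ ∈ D), and B a finitely generated
k-algebra which is a flat D-algebra such that B/tB is smooth over k, where t is the image of τ in B
(an affine open of a flat deformation of a smooth k-scheme over Spec D); put B' = B/t^nB. The map ν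
: Ω_(B/k) → Ω_(B/D) × (B' ⊗_B Ω_(B/k)), η ↦ (η relative to D, 1 ⊗ η), is injective, and its image
consists exactly of the pairs (α, β) with the same image in Ω_(B'/D) under the canonical maps
Ω_(B/D) → Ω_(B'/D) and B' ⊗_B Ω_(B/k) → Ω_(B'/k) → Ω_(B'/D). Injectivity uses that n + 1 is
invertible in k (so that t^n dt = 0 in Ω_(B/k)). The source works with a flat proper family over
Spec D with smooth central fibre; the statement is local and is given here on an affine open. -/
theorem result (k : Type u) [Field k] [IsAlgClosed k] [CharZero k] (n : ℕ) (hn : 1 ≤ n)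
    (D : Type u) [CommRing D] [Algebra k D] (τ : D)
    (e : (k[X] ⧸ Ideal.span {(X : k[X]) ^ (n + 1)}) ≃ₐ[k] D)
    (he : e (Ideal.Quotient.mk (Ideal.span {(X : k[X]) ^ (n + 1)}) X) = τ)
    (B : Type u) [CommRing B] [Algebra k B] [Algebra D B] [IsScalarTower k D B]
    [Algebra.FiniteType k B] [Module.Flat D B]
    (t : B) (ht : t = algebraMap D B τ) (hsm : Algebra.Smooth k (B ⧸ Ideal.span {t})) :
    Function.Injective (fun η : Ω[B⁄k] =>
      ((KaehlerDifferential.map k D B B η, (1 : (B ⧸ Ideal.span {t ^ n})) ⊗ₜ[B] η) : Ω[B⁄D] × ((B ⧸ Ideal.span {t ^ n}) ⊗[B] Ω[B⁄k]))) ∧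
    Set.range (fun η : Ω[B⁄k] =>
      ((KaehlerDifferential.map k D B B η, (1 : (B ⧸ Ideal.span {t ^ n})) ⊗ₜ[B] η) : Ω[B⁄D] × ((B ⧸ Ideal.span {t ^ n}) ⊗[B] Ω[B⁄k]))) =
      {p | KaehlerDifferential.map D D B (B ⧸ Ideal.span {t ^ n}) p.1 =
        KaehlerDifferential.map k D (B ⧸ Ideal.span {t ^ n}) (B ⧸ Ideal.span {t ^ n}) (KaehlerDifferential.mapBaseChange k B (B ⧸ Ideal.span {t ^ n}) p.2)} := by
  
  classical
  have hsmD : Algebra.Smooth D B := Groth.Agent.Synt29.DtSeq.smooth k n τ e he B ht hsm
  obtain ⟨ρ, hρ⟩ := Groth.Agent.Synt29.DtSeq.exists_functional k n τ e he B ht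
  obtain ⟨s, hs⟩ := Groth.Agent.Synt29.DtSeq.exists_section k n τ e he B ht
  let B' := B ⧸ Ideal.span {t ^ n}
  let π := KaehlerDifferential.map k D B B
  let π' := LinearMap.baseChange B' π
  have hπdt : π (KaehlerDifferential.D k B t) = 0 := by
    rw [KaehlerDifferential.map_D]
    show KaehlerDifferential.D D B t = 0
    rw [ht, Derivation.map_algebraMap]
  have hdec : ∀ η : Ω[B⁄k], ∃ b : B, η = s (π η) + b • KaehlerDifferential.D k B t := by
    intro η
    obtain ⟨b, hb⟩ := Groth.Agent.Synt29.DtSeq.exists_eq_smul_D k n τ e he B ht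
      (η := η - s (π η)) (by rw [map_sub, hs, sub_self])
    exact ⟨b, by rw [← hb, add_sub_cancel]⟩
  have hker : ∀ γ : B' ⊗[B] Ω[B⁄k], π' γ = 0 →
      ∃ b : B, γ = (1 : B') ⊗ₜ[B] (b • KaehlerDifferential.D k B t) := by
    intro γ
    have key : ∀ γ : B' ⊗[B] Ω[B⁄k], ∃ b : B,
        γ = LinearMap.baseChange B' s (π' γ) + (1 : B') ⊗ₜ[B] (b • KaehlerDifferential.D k B t) := by
      intro γ
      induction γ using TensorProduct.induction_on with
      | zero => exact ⟨0, by simp⟩
      | tmul c η =>
        obtain ⟨c, rfl⟩ := Ideal.Quotient.mk_surjective c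
        obtain ⟨b, hb⟩ := hdec η
        refine ⟨c * b, ?_⟩
        simp only [π', LinearMap.baseChange_tmul]
        conv_lhs => rw [hb]
        rw [TensorProduct.tmul_add, mul_smul, ← TensorProduct.smul_tmul c (1 : B')]
        congr 2
        rw [Algebra.smul_def, mul_one]
        rfl
      | add x y hx hy =>
        obtain ⟨a, ha⟩ := hx
        obtain ⟨b, hb⟩ := hy
        refine ⟨a + b, ?_⟩
        rw [map_add, map_add, add_smul, TensorProduct.tmul_add]
        conv_lhs => rw [ha, hb]
        abel
    intro h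
    obtain ⟨b, hb⟩ := key γ
    exact ⟨b, by rw [h, map_zero, zero_add] at hb; exact hb⟩
  have htd := Groth.Agent.Synt29.DtSeq.pow_smul_D_eq_zero k n τ e he B ht
  have hmap : ∀ η : Ω[B⁄k], KaehlerDifferential.map D D B B' (π η) =
      KaehlerDifferential.map k D B' B' (KaehlerDifferential.map k k B B' η) := by
    intro η
    induction (KaehlerDifferential.span_range_derivation k B).ge (Submodule.mem_top (x := η))
      using Submodule.span_induction with
    | mem _ h =>
      obtain ⟨f, rfl⟩ := h
      simp only [π, KaehlerDifferential.map_D, Algebra.algebraMap_self, RingHom.id_apply]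
    | zero => simp
    | add x y _ _ hx hy => simp only [map_add, hx, hy]
    | smul c x _ hx =>
      simp only [map_smul, hx, LinearMap.map_smul_of_tower]
  have hdown : ∀ β : B' ⊗[B] Ω[B⁄k], KaehlerDifferential.mapBaseChange D B B' (π' β) =
      KaehlerDifferential.map k D B' B' (KaehlerDifferential.mapBaseChange k B B' β) := by
    intro β
    induction β using TensorProduct.induction_on with
    | zero => simp
    | tmul c η =>
      rw [LinearMap.baseChange_tmul, KaehlerDifferential.mapBaseChange_tmul,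
        KaehlerDifferential.mapBaseChange_tmul, map_smul, hmap]
    | add x y hx hy => simp only [map_add, hx, hy]
  have hinjD : Function.Injective (KaehlerDifferential.mapBaseChange D B B') := by
    rw [← LinearMap.ker_eq_bot, eq_bot_iff]
    intro z hz
    obtain ⟨w, rfl⟩ := (KaehlerDifferential.exact_kerCotangentToTensor_mapBaseChange D B B'
      Ideal.Quotient.mk_surjective z).1 hz
    obtain ⟨⟨y, hy⟩, rfl⟩ := Ideal.toCotangent_surjective _ w
    rw [KaehlerDifferential.kerCotangentToTensor_toCotangent, Submodule.mem_bot]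
    obtain ⟨c, rfl⟩ := Ideal.mem_span_singleton.1 (Ideal.Quotient.eq_zero_iff_mem.1 (RingHom.mem_ker.1 hy))
    show (1 : B') ⊗ₜ[B] KaehlerDifferential.D D B (t ^ n * c) = 0
    rw [Derivation.leibniz, show KaehlerDifferential.D D B (t ^ n) = 0 by
        rw [ht, ← map_pow, Derivation.map_algebraMap],
      smul_zero, add_zero, ← TensorProduct.smul_tmul, Algebra.smul_def, mul_one,
      show algebraMap B B' (t ^ n) = 0 from Ideal.Quotient.eq_zero_iff_mem.2 (Ideal.mem_span_singleton_self _),
      TensorProduct.zero_tmul]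
  refine ⟨fun η η' h => ?_, Set.ext fun p => ⟨?_, ?_⟩⟩
  · obtain ⟨h1, h2⟩ := Prod.mk.injEq .. ▸ h
    rw [← sub_eq_zero, ← map_sub] at h1
    obtain ⟨b, hb⟩ := Groth.Agent.Synt29.DtSeq.exists_eq_smul_D k n τ e he B ht h1
    rw [← sub_eq_zero, ← TensorProduct.tmul_sub, hb] at h2
    obtain ⟨c, rfl⟩ := Ideal.mem_span_singleton.1
      (Groth.Agent.Synt29.DtSeq.mem_of_tmul_smul_D_eq_zero k n τ e he B ht h2)
    rw [mul_comm, mul_smul, htd, smul_zero] at hb
    exact sub_eq_zero.1 hb
  · rintro ⟨η, rfl⟩
    show KaehlerDifferential.map D D B B' (π η) = _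
    rw [hmap, KaehlerDifferential.mapBaseChange_tmul, one_smul]
  · obtain ⟨α, β⟩ := p
    intro hp
    have h1 : π' β = (1 : B') ⊗ₜ[B] α := by
      apply hinjD
      rw [hdown, KaehlerDifferential.mapBaseChange_tmul, one_smul]
      exact hp.symm
    obtain ⟨b, hb⟩ := hker (β - (1 : B') ⊗ₜ[B] s α) (by
      rw [map_sub, h1, LinearMap.baseChange_tmul, hs, sub_self])
    refine ⟨s α + b • KaehlerDifferential.D k B t, Prod.ext ?_ ?_⟩
    · show π (s α + b • KaehlerDifferential.D k B t) = α
      rw [map_add, map_smul, hπdt, smul_zero, add_zero, hs]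
    · show (1 : B') ⊗ₜ[B] (s α + b • KaehlerDifferential.D k B t) = β
      rw [TensorProduct.tmul_add, ← hb, add_sub_cancel]

end Groth.Agent.S18839
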