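import Groth.Statements.S18844
import Mathlib
import Groth.Agent.TFOneX.Simple

set_option autoImplicit false
universe u
open CategoryTheory CategoryTheory.Limits AlgebraicGeometry
open TFOne

namespace Groth.Agent.S18844

/-- Let X be a proper, geometrically reduced scheme of pure dimension one over a field k whose
irreducible components (with their reduced structure) are geometrically integral over k, assume X is
non-empty, and take a torsion-free sheaf I of rank one on X. Then I is simple over k (every
endomorphism of I is multiplication by a scalar) exactly when I is not decomposable, that is, when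
there do not exist closed proper subcurves Y and Z of X (non-empty unions of irreducible components,
each different from X) together with the torsion-free quotients I_Y, I_Z of I on them (pinned by
their defining property) such that the canonical map I ⟶ I_Y ⊞ I_Z is an isomorphism. -/
theorem result (k : Type u) [Field k] (X : Scheme.{u}) [X.Over (Spec (CommRingCat.of k))] [IsProper (X ↘ Spec (CommRingCat.of k))] [IsReduced X] [GeometricallyReduced (X ↘ Spec (CommRingCat.of k))] (hpure : ∀ C ∈ irreducibleComponents (X : Type u), topologicalKrullDim C = 1) (hgi : ∀ (C : Set X) (hC : C ∈ irreducibleComponents (X : Type u)), GeometricallyIntegral (VecSt.subschι X C (isClosed_of_mem_irreducibleComponents C hC) ≫ (X ↘ Spec (CommRingCat.of k)))) [Nonempty X] (I : X.Modules) (hI : TFOne.IsTF1 X I) : TFOne.IsSimple X k (X ↘ Spec (CommRingCat.of k)) I ↔ ¬ ∃ (Y Z : Set X) (hY : IsClosed Y) (hZ : IsClosed Z) (GY GZ : X.Modules) (πY : I ⟶ GY) (πZ : I ⟶ GZ), VecSt.IsSubcurve X Y ∧ VecSt.IsSubcurve X Z ∧ Y ≠ Set.univ ∧ Z ≠ Set.univ ∧ TFOne.IsQuotOn X I Y GY πY ∧ TFOne.IsQuotOn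 X I Z GZ πZ ∧ IsIso (biprod.lift πY πZ) := by
  haveI : IsLocallyNoetherian X := LocallyOfFiniteType.isLocallyNoetherian (X ↘ Spec (CommRingCat.of k))
  constructor
  · rintro hs ⟨Y, Z, hY, hZ, GY, GZ, πY, πZ, hYs, hZs, -, -, hQY, hQZ, hiso⟩
    exact Groth.Agent.TFOneX.not_isSimple_of_decomp k hYs hZs hQY hQZ hiso hs
  · intro h
    by_contra hns
    obtain ⟨Y, Z, hY, hZ, GY, GZ, πY, πZ, hall⟩ := Groth.Agent.TFOneX.exists_decomp_of_not_isSimple k hI hgi hns
    exact h ⟨Y, Z, hY, hZ, GY, GZ, πY, πZ, hall⟩

end Groth.Agent.S18844
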