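import Groth.Statements.S18845
import Mathlib
import Groth.Agent.TFOneX.Push

set_option autoImplicit false
universe u
open CategoryTheory CategoryTheory.Limits AlgebraicGeometry
open TFOne

namespace Groth.Agent.S18845

/-- Let X be a proper, geometrically reduced scheme of pure dimension one over a field k whose
irreducible components (with their reduced structure) are geometrically integral over k, let Y and Z
be closed subcurves (non-empty unions of irreducible components) with Y ∪ Z = X, and let M be a
torsion-free sheaf of rank one on X. Suppose M sits in a short exact sequence 0 ⟶ i_{Y*} I ⟶ M ⟶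
i_{Z*} J ⟶ 0 of modules on X, where I is a simple torsion-free sheaf of rank one on the reduced
closed subscheme Y, J is a simple torsion-free sheaf of rank one on the reduced closed subscheme Z,
and i_{Y*}, i_{Z*} are the direct images. Then M is simple over k exactly when the sequence does not
split (the epimorphism M ⟶ i_{Z*} J has no section). -/
theorem result (k : Type u) [Field k] (X : Scheme.{u}) [X.Over (Spec (CommRingCat.of k))] [IsProper (X ↘ Spec (CommRingCat.of k))] [IsReduced X] [GeometricallyReduced (X ↘ Spec (CommRingCat.of k))] (hpure : ∀ C ∈ irreducibleComponents (X : Type u), topologicalKrullDim C = 1) (hgi : ∀ (C : Set X) (hC : C ∈ irreducibleComponents (X : Type u)), GeometricallyIntegral (VecSt.subschι X C (isClosed_of_mem_irreducibleComponents C hC) ≫ (X ↘ Spec (CommRingCat.of k)))) (Y Z : Set X) (hY : IsClosed Y) (hZ : IsClosed Z) (hYs : VecSt.IsSubcurve X Y) (hZs : VecSt.IsSubcurve X Z) (hcov : Y ∪ Z = Set.univ) (M : X.Modules) (hM : TFOne.IsTF1 X M) (I : (VecSt.subsch X Y hY).Modules) (hI : TFOne.IsTF1 (VecSt.subsch X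 Y hY) I) (hIs : TFOne.IsSimple (VecSt.subsch X Y hY) k (VecSt.subschι X Y hY ≫ (X ↘ Spec (CommRingCat.of k))) I) (J : (VecSt.subsch X Z hZ).Modules) (hJ : TFOne.IsTF1 (VecSt.subsch X Z hZ) J) (hJs : TFOne.IsSimple (VecSt.subsch X Z hZ) k (VecSt.subschι X Z hZ ≫ (X ↘ Spec (CommRingCat.of k))) J) (a : (Coh.push (VecSt.subschι X Y hY)).obj I ⟶ M) (b : M ⟶ (Coh.push (VecSt.subschι X Z hZ)).obj J) (w : a ≫ b = 0) (hex : (ShortComplex.mk a b w).ShortExact) : TFOne.IsSimple X k (X ↘ Spec (CommRingCat.of k)) M ↔ ¬ IsSplitEpi b := by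
  haveI := Groth.Agent.CurveCohLib.isNoetherian_of_proper (k := k) (X := X)
  exact Groth.Agent.TFOneX.isSimple_iff_not_isSplitEpi k hYs hZs hM.2.2 hI hIs hJ hJs a b w hex

end Groth.Agent.S18845
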