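import Groth.Statements.S18847
import Mathlib
import Groth.Agent.TFOneX.Rows

set_option autoImplicit false
universe u
open CategoryTheory CategoryTheory.Limits AlgebraicGeometry
open TFOne

namespace Groth.Agent.S18847

/-- Let R be a discrete valuation ring with residue field κ, f : X ⟶ Spec R flat and proper, and X_s its
special fibre, assumed reduced of pure dimension one with geometrically integral irreducible
components over κ. Let I be a coherent R-flat module on X whose restriction I(s) to X_s is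
torsion-free rank-1, E a locally free module of rank r > 0 on X with restriction E(s), and d an
integer with χ(I(s)) = d and deg E(s) = -r·d. For a closed subset T of X_s write I(s)_T for the
torsion-free quotient of I(s) on T (pinned by its defining property) and β(T) := r·χ(I(s)_T) +
deg(E(s)|_T) (the source's β cleared of the denominator r). Let Y be a closed subcurve of X_s (a
non-empty union of irreducible components), and let I^Y be the kernel of the composite I ⟶ i_* I(s)
⟶ i_* I(s)_Y, with restriction I^Y(s) to X_s and quotients I^Y(s)_T and numbers β^Y(T) :=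
r·χ(I^Y(s)_T) + deg(E(s)|_T) defined likewise. Assume that Y is the largest closed subcurve of X_s
on which β is minimal: β(Y) ≤ β(T) for every closed subcurve T of X_s, and every closed subcurve T
with β(T) = β(Y) is contained in Y. Then for every closed subcurve Z of X_s one has β(Y) ≤ β^Y(Z),
and β^Y(Z) = β(Y) only if Z ⊆ Y. (The source takes f projective.) -/
theorem result (R : Type u) [CommRing R] [IsDomain R] [IsDiscreteValuationRing R] (X : Scheme.{u}) (f : X ⟶ Spec (CommRingCat.of R)) [Flat f] [IsProper f] (Xs : Scheme.{u}) [Xs.Over (Spec (CommRingCat.of (IsLocalRing.ResidueField R)))] (i : Xs ⟶ X) (hsq : IsPullback i (Xs ↘ Spec (CommRingCat.of (IsLocalRing.ResidueField R))) f (Spec.map (CommRingCat.ofHom (IsLocalRing.residue R)))) [IsReduced Xs] (hpure : ∀ C ∈ irreducibleComponents (Xs : Type u), topologicalKrullDim C = 1) (hgi : ∀ (C : Set Xs) (hC : C ∈ irreducibleComponents (Xs : Type u)), GeometricallyIntegral (VecSt.subschι Xs C (isClosed_of_mem_irreducibleComponents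 C hC) ≫ (Xs ↘ Spec (CommRingCat.of (IsLocalRing.ResidueField R))))) (I : X.Modules) (hIc : Coh.IsCoh I) (hIf : FlatMod.IsFlatOver f I) (hIs : TFOne.IsTF1 Xs ((Scheme.Modules.pullback i).obj I)) (E : X.Modules) (r : ℕ) (hr : 0 < r) (hE : FlatMod.IsFinLocFreeOfRank r E) (d : ℤ) (hχ : Curv2.euler (IsLocalRing.ResidueField R) Xs ((Scheme.Modules.pullback i).obj I) = d) (hEd : Curv2.deg (IsLocalRing.ResidueField R) Xs ((Scheme.Modules.pullback i).obj E) r = -(r : ℤ) * d) (Y : Set Xs) (hY : IsClosed Y) (hYs : VecSt.IsSubcurve Xs Y) (GY : Xs.Modules) (πY : ((Scheme.Modules.pullback i).obj I) ⟶ GY) (hGY : TFOne.IsQuotOn Xs ((Scheme.Modules.pullback i).obj I) Y GY πY) (IY : X.Modules) (hIY : IY = kernel ((Scheme.Modules.pullbackPushforwardAdjunction i).unit.app I ≫ (Scheme.Modules.pushforward i).map πY)) (hmin : ∀ (T : Set Xs) (hT : IsClosed T), VecSt.IsSubcurve Xs T → ∀ (G : Xs.Modules) (π : ((Scheme.Modules.pullback i).obj I) ⟶ G), TFOne.IsQuotOn Xs ((Scheme.Modules.pullback i).obj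 I) T G π → TFOne.rBeta Xs (IsLocalRing.ResidueField R) (Xs ↘ Spec (CommRingCat.of (IsLocalRing.ResidueField R))) Y hY ((Scheme.Modules.pullback i).obj E) r GY ≤ TFOne.rBeta Xs (IsLocalRing.ResidueField R) (Xs ↘ Spec (CommRingCat.of (IsLocalRing.ResidueField R))) T hT ((Scheme.Modules.pullback i).obj E) r G) (hmax : ∀ (T : Set Xs) (hT : IsClosed T), VecSt.IsSubcurve Xs T → ∀ (G : Xs.Modules) (π : ((Scheme.Modules.pullback i).obj I) ⟶ G), TFOne.IsQuotOn Xs ((Scheme.Modules.pullback i).obj I) T G π → TFOne.rBeta Xs (IsLocalRing.ResidueField R) (Xs ↘ Spec (CommRingCat.of (IsLocalRing.ResidueField R))) T hT ((Scheme.Modules.pullback i).obj E) r G = TFOne.rBeta Xs (IsLocalRing.ResidueField R) (Xs ↘ Spec (CommRingCat.of (IsLocalRing.ResidueField R))) Y hY ((Scheme.Modules.pullback i).obj E) r GY → T ⊆ Y) (Z : Set Xs) (hZ : IsClosed Z) (hZs : VecSt.IsSubcurve Xs Z) (GZ1 : Xs.Modules) (πZ1 : ((Scheme.Modules.pullback i).obj IY) ⟶ GZ1) (hGZ1 : TFOne.IsQuotOn Xs ((Scheme.Modules.pullback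 i).obj IY) Z GZ1 πZ1) : TFOne.rBeta Xs (IsLocalRing.ResidueField R) (Xs ↘ Spec (CommRingCat.of (IsLocalRing.ResidueField R))) Y hY ((Scheme.Modules.pullback i).obj E) r GY ≤ TFOne.rBeta Xs (IsLocalRing.ResidueField R) (Xs ↘ Spec (CommRingCat.of (IsLocalRing.ResidueField R))) Z hZ ((Scheme.Modules.pullback i).obj E) r GZ1 ∧ (TFOne.rBeta Xs (IsLocalRing.ResidueField R) (Xs ↘ Spec (CommRingCat.of (IsLocalRing.ResidueField R))) Z hZ ((Scheme.Modules.pullback i).obj E) r GZ1 = TFOne.rBeta Xs (IsLocalRing.ResidueField R) (Xs ↘ Spec (CommRingCat.of (IsLocalRing.ResidueField R))) Y hY ((Scheme.Modules.pullback i).obj E) r GY → Z ⊆ Y) := by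
  obtain ⟨hP, hF'c, α, β, w, hS⟩ := Groth.Agent.TFOneX.exists_setup f hsq hIc hIf hGY hIY
  haveI := hP
  haveI := Groth.Agent.CurveCohLib.isNoetherian_of_proper (k := IsLocalRing.ResidueField R) (X := Xs)
  have h1 := Groth.Agent.TFOneX.dim_le_one hpure
  have hE' := Groth.Agent.TFOneX.isFinLocFreeOfRank_pullback i hE
  have hWc : IsClosed (⋃₀ {C | C ∈ irreducibleComponents (Xs : Type u) ∧ C ⊆ Y ∩ Z}) :=
    Groth.Agent.TFOneX.isClosed_subcurve _
  have hWs := Groth.Agent.TFOneX.empty_or_subcurve (X := Xs) (fun C => C ⊆ Y ∩ Z)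
  have hUs := Groth.Agent.TFOneX.isSubcurve_union hYs hZs
  obtain ⟨GW, πW, hGW⟩ := Groth.Agent.TFOneX.exists_quotOn hIs.1 hIs.2.1 hIs.2.2 hWc
    (Groth.Agent.TFOneX.exists_generic_of_subcurve hWs)
  obtain ⟨GU, πU, hGU⟩ := Groth.Agent.TFOneX.exists_quotOn hIs.1 hIs.2.1 hIs.2.2 (hY.union hZ)
    (Groth.Agent.TFOneX.exists_generic_of_subcurve (Or.inr hUs))
  have hle := (Groth.Agent.TFOneX.rBeta_modif (IsLocalRing.ResidueField R) h1 hIs hGY hF'c hS hr hE' hY hZ hWc (hY.union hZ) hYs
    (Or.inr hZs) hWs (Or.inr hUs) hGZ1 hGW hGU (fun η _ => Iff.rfl)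
    (fun η hη => Groth.Agent.TFOneX.mem_sUnion_components_iff hY hZ hη)).1
  have hYle : TFOne.rBeta Xs (IsLocalRing.ResidueField R) (Xs ↘ Spec (CommRingCat.of (IsLocalRing.ResidueField R)))
      Y hY ((Scheme.Modules.pullback i).obj E) r GY ≤ 0 := by
    have hq := Groth.Agent.TFOneX.isQuotOn_id hIs.1 hIs.2.1 hIs.2.2
    exact (hmin Set.univ isClosed_univ (Groth.Agent.TFOneX.isSubcurve_univ hYs) _ _ hq).trans_eq
      (Groth.Agent.TFOneX.rBeta_univ (IsLocalRing.ResidueField R) h1 hIs.1 hIs.2.1 hIs.2.2 hE' hχ hEd isClosed_univ rfl hq)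
  have hUle := hmin _ (hY.union hZ) hUs GU πU hGU
  rcases hWs with hWe | hWsub
  · have hW0 := Groth.Agent.TFOneX.rBeta_empty (IsLocalRing.ResidueField R) hE' hWc hWe hGW
    refine ⟨by linarith, fun heq => Set.subset_union_right.trans (hmax _ (hY.union hZ) hUs GU πU hGU ?_)⟩
    linarith
  · have hWle := hmin _ hWc hWsub GW πW hGW
    refine ⟨by linarith, fun heq => Set.subset_union_right.trans (hmax _ (hY.union hZ) hUs GU πU hGU ?_)⟩
    linarith

end Groth.Agent.S18847
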