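import Groth.Statements.S18848
import Groth.Agent.TFOneX.SubBeta

set_option autoImplicit false
set_option backward.isDefEq.respectTransparency false
set_option backward.isDefEq.respectTransparency.types false
set_option linter.style.haveILetI false
set_option maxHeartbeats 1000000
universe u
open CategoryTheory CategoryTheory.Limits AlgebraicGeometry
open TFOne

namespace Groth.Agent.S18848

/-- Let R be a discrete valuation ring with residue field κ, f : X ⟶ Spec R flat and proper, and X_s its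
special fibre, assumed reduced of pure dimension one with geometrically integral irreducible
components over κ. Let I be a coherent R-flat module on X whose restriction I(s) to X_s is
torsion-free rank-1, E a locally free module of rank r > 0 on X with restriction E(s), and d an
integer with χ(I(s)) = d and deg E(s) = -r·d. For a closed subset T of X_s write I(s)_T for the
torsion-free quotient of I(s) on T (pinned by its defining property) and β(T) := r·χ(I(s)_T) +
deg(E(s)|_T) (the source's β cleared of the denominator r). Let Y be a closed subcurve of X_s (a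
non-empty union of irreducible components), and let I^Y be the kernel of the composite I ⟶ i_* I(s)
⟶ i_* I(s)_Y, with restriction I^Y(s) to X_s and quotients I^Y(s)_T and numbers β^Y(T) :=
r·χ(I^Y(s)_T) + deg(E(s)|_T) defined likewise. Assume I(s) is semistable with respect to E(s). Then
I^Y(s) is semistable with respect to E(s) if and only if β(Y) = 0 and I(s)_Y, viewed on the reduced
closed subscheme Y, is semistable with respect to E(s)|_Y. (Here β(Y) = 0 says that E(s)|_Y is a
polarisation for I(s)_Y, the source's implicit requirement for semistability with respect to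
E(s)|_Y. The source states the conclusion for semistability of I^Y over Spec R, which it reduces at
once to the special fibre since I^Y and I agree off Y; it also asserts that I^Y(s) and I(s) are then
Jordan–Hölder equivalent, which is not stated here; it takes f projective.) -/
theorem result (R : Type u) [CommRing R] [IsDomain R] [IsDiscreteValuationRing R] (X : Scheme.{u}) (f : X ⟶ Spec (CommRingCat.of R)) [Flat f] [IsProper f] (Xs : Scheme.{u}) [Xs.Over (Spec (CommRingCat.of (IsLocalRing.ResidueField R)))] (i : Xs ⟶ X) (hsq : IsPullback i (Xs ↘ Spec (CommRingCat.of (IsLocalRing.ResidueField R))) f (Spec.map (CommRingCat.ofHom (IsLocalRing.residue R)))) [IsReduced Xs] (hpure : ∀ C ∈ irreducibleComponents (Xs : Type u), topologicalKrullDim C = 1) (hgi : ∀ (C : Set Xs) (hC : C ∈ irreducibleComponents (Xs : Type u)), GeometricallyIntegral (VecSt.subschι Xs C (isClosed_of_mem_irreducibleComponents C hC) ≫ (Xs ↘ Spec (CommRingCat.of (IsLocalRing.ResidueField R))))) (I : X.Modules)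 (hIc : Coh.IsCoh I) (hIf : FlatMod.IsFlatOver f I) (hIs : TFOne.IsTF1 Xs ((Scheme.Modules.pullback i).obj I)) (E : X.Modules) (r : ℕ) (hr : 0 < r) (hE : FlatMod.IsFinLocFreeOfRank r E) (d : ℤ) (hχ : Curv2.euler (IsLocalRing.ResidueField R) Xs ((Scheme.Modules.pullback i).obj I) = d) (hEd : Curv2.deg (IsLocalRing.ResidueField R) Xs ((Scheme.Modules.pullback i).obj E) r = -(r : ℤ) * d) (hss : TFOne.IsSemistable Xs (IsLocalRing.ResidueField R) (Xs ↘ Spec (CommRingCat.of (IsLocalRing.ResidueField R))) ((Scheme.Modules.pullback i).obj I) ((Scheme.Modules.pullback i).obj E) r) (Y : Set Xs) (hY : IsClosed Y) (hYs : VecSt.IsSubcurve Xs Y) (GY : Xs.Modules) (πY : ((Scheme.Modules.pullback i).obj I) ⟶ GY) (hGY : TFOne.IsQuotOn Xs ((Scheme.Modules.pullback i).obj I) Y GY πY) (IY : X.Modules) (hIY : IY = kernel ((Scheme.Modules.pullbackPushforwardAdjunction i).unit.app I ≫ (Scheme.Modules.pushforward i).map πY)) : TFOne.IsSemistable Xs (IsLocalRing.ResidueField R) (Xs ↘ Spec (CommRingCat.of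 (IsLocalRing.ResidueField R))) ((Scheme.Modules.pullback i).obj IY) ((Scheme.Modules.pullback i).obj E) r ↔ (TFOne.rBeta Xs (IsLocalRing.ResidueField R) (Xs ↘ Spec (CommRingCat.of (IsLocalRing.ResidueField R))) Y hY ((Scheme.Modules.pullback i).obj E) r GY = 0 ∧ TFOne.IsSemistable (VecSt.subsch Xs Y hY) (IsLocalRing.ResidueField R) (VecSt.subschι Xs Y hY ≫ (Xs ↘ Spec (CommRingCat.of (IsLocalRing.ResidueField R)))) ((Scheme.Modules.pullback (VecSt.subschι Xs Y hY)).obj GY) ((Scheme.Modules.pullback (VecSt.subschι Xs Y hY)).obj ((Scheme.Modules.pullback i).obj E)) r) := by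
  obtain ⟨hP, hF'c, α, β, w, hS⟩ := Groth.Agent.TFOneX.exists_setup f hsq hIc hIf hGY hIY
  haveI := hP
  haveI := Groth.Agent.CurveCohLib.isNoetherian_of_proper (k := IsLocalRing.ResidueField R) (X := Xs)
  haveI := hGY.1
  have h1 := Groth.Agent.TFOneX.dim_le_one hpure
  have hF := hss.1
  have hE' := Groth.Agent.TFOneX.isFinLocFreeOfRank_pullback i hE
  have hEq : Coh.IsQCoh ((Scheme.Modules.pullback i).obj E) :=
    (Groth.Agent.CurveDeg.isCoh_of_isFinLocFree fun y => let ⟨W, hy, he⟩ := hE' y; ⟨W, r, hy, he⟩).1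
  have hrk' := Groth.Agent.TFOneX.isRkOne_of_ext hF.2.2 hGY hS
  have htf' := Groth.Agent.TFOneX.isTorsionFree_of_ext hF.2.1 hGY.2.2.1 hS
  have hq : ∀ (T : Set Xs), IsClosed T → (T = ∅ ∨ VecSt.IsSubcurve Xs T) →
      ∀ M : Xs.Modules, TFOne.IsTF1 Xs M → ∃ (G : Xs.Modules) (π : M ⟶ G), TFOne.IsQuotOn Xs M T G π :=
    fun T hT hTs M hM => Groth.Agent.TFOneX.exists_quotOn hM.1 hM.2.1 hM.2.2 hT
      (Groth.Agent.TFOneX.exists_generic_of_subcurve hTs)
  constructor
  · intro hss'
    refine ⟨?_, ?_⟩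
    · refine le_antisymm ?_ (Groth.Agent.TFOneX.rBeta_nonneg_of_semistable _ h1 hE' hχ hEd hss hY (Or.inr hYs) hGY)
      let Z : Set Xs := ⋃₀ {C | C ∈ irreducibleComponents (Xs : Type u) ∧ ¬ C ⊆ Y}
      have hZc : IsClosed Z := Groth.Agent.TFOneX.isClosed_subcurve _
      have hZs := Groth.Agent.TFOneX.empty_or_subcurve (X := Xs) fun C => ¬ C ⊆ Y
      obtain ⟨GZ, πZ, hGZ⟩ := hq Z hZc hZs _ ⟨hF'c, htf', hrk'⟩
      obtain ⟨G0, π0, hG0⟩ := hq ∅ isClosed_empty (Or.inl rfl) _ hF
      obtain ⟨G1, π1, hG1⟩ := hq Set.univ isClosed_univ (Or.inr (Groth.Agent.TFOneX.isSubcurve_univ hYs)) _ hF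
      have hmZ : ∀ η ∈ genericPoints (Xs : Type u), (η ∈ Z ↔ η ∉ Y) := fun η hη =>
        Groth.Agent.TFOneX.mem_compl_iff hη hY
      have hadd := (Groth.Agent.TFOneX.rBeta_modif (IsLocalRing.ResidueField R) h1 hF hGY hF'c hS hr hE' hY hZc
        isClosed_empty isClosed_univ hYs hZs (Or.inl rfl) (Or.inr (Groth.Agent.TFOneX.isSubcurve_univ hYs))
        hGZ hG0 hG1 (fun η hη => ⟨fun _ => (em (η ∈ Y)).imp_right (hmZ η hη).2, fun _ => trivial⟩)
        (fun η hη => ⟨fun h => h.elim, fun h => ((hmZ η hη).1 h.2 h.1).elim⟩)).2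
      have heq := (Groth.Agent.TFOneX.euler_modif (IsLocalRing.ResidueField R) h1 hF.1 hF.2.1 hF.2.2 hGY hF'c hS
        hGZ hG0 hG1 (fun η hη => ⟨fun _ => (em (η ∈ Y)).imp_right (hmZ η hη).2, fun _ => trivial⟩)
        (fun η hη => ⟨fun h => h.elim, fun h => ((hmZ η hη).1 h.2 h.1).elim⟩)).2 (Or.inl fun η _ h => h)
      have h' := hadd.2 heq
      rw [Groth.Agent.TFOneX.rBeta_empty _ hE' isClosed_empty rfl hG0,
        Groth.Agent.TFOneX.rBeta_univ _ h1 hF.1 hF.2.1 hF.2.2 hE' hχ hEd isClosed_univ rfl hG1] at h'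
      have := Groth.Agent.TFOneX.rBeta_nonneg_of_semistable _ h1 hE'
        ((Groth.Agent.TFOneX.euler_ext (IsLocalRing.ResidueField R) hF.1 hGY.2.1 hF'c hS).trans hχ) hEd hss' hZc hZs hGZ
      linarith
    · refine ⟨Groth.Agent.TFOneX.isTF1_pullback hY hYs hF.2.2 hGY, ?_⟩
      intro T hT hTs _ H π' hH
      obtain ⟨e⟩ := Groth.Agent.TFOneX.exists_iso_push hY hGY.2.1.1 hGY.2.2.1 hGY.2.2.2.subset
      have hT' : IsClosed (VecSt.subschι Xs Y hY '' T) := (VecSt.subschι Xs Y hY).isClosedEmbedding.isClosedMap T hT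
      rw [← Groth.Agent.TFOneX.rBeta_push hY T hT hT' hEq hH.2.1.1]
      exact Groth.Agent.TFOneX.rBeta_nonneg_of_semistable _ h1 hE' hχ hEd hss hT'
        (Or.inr (Groth.Agent.TFOneX.isSubcurve_image hY hYs hTs)) (Groth.Agent.TFOneX.isQuotOn_push hY hYs hGY e hH)
  · rintro ⟨hY0, -⟩
    refine ⟨⟨hF'c, htf', hrk'⟩, fun Z hZ hZs _ GZ πZ hGZ => ?_⟩
    let W : Set Xs := ⋃₀ {C | C ∈ irreducibleComponents (Xs : Type u) ∧ C ⊆ Y ∩ Z}
    have hWc : IsClosed W := Groth.Agent.TFOneX.isClosed_subcurve _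
    have hWs := Groth.Agent.TFOneX.empty_or_subcurve (X := Xs) fun C => C ⊆ Y ∩ Z
    obtain ⟨GW, πW, hGW⟩ := hq W hWc hWs _ hF
    have hUs := Groth.Agent.TFOneX.isSubcurve_union hYs hZs
    obtain ⟨GU, πU, hGU⟩ := hq (Y ∪ Z) (hY.union hZ) (Or.inr hUs) _ hF
    have hle := (Groth.Agent.TFOneX.rBeta_modif (IsLocalRing.ResidueField R) h1 hF hGY hF'c hS hr hE' hY hZ
      hWc (hY.union hZ) hYs (Or.inr hZs) hWs (Or.inr hUs) hGZ hGW hGU (fun η _ => Iff.rfl)
      (fun η hη => Groth.Agent.TFOneX.mem_sUnion_components_iff hY hZ hη)).1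
    have hW0 := Groth.Agent.TFOneX.rBeta_nonneg_of_semistable _ h1 hE' hχ hEd hss hWc hWs hGW
    have hU0 := Groth.Agent.TFOneX.rBeta_nonneg_of_semistable _ h1 hE' hχ hEd hss (hY.union hZ) (Or.inr hUs) hGU
    linarith

end Groth.Agent.S18848
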