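import Groth.Statements.S18853
import Mathlib
import Groth.Agent.TFOneX.Rows

set_option autoImplicit false
universe u
open CategoryTheory CategoryTheory.Limits AlgebraicGeometry
open TFOne

namespace Groth.Agent.S18853

/-- Let R be a discrete valuation ring with residue field κ, f : X ⟶ Spec R flat and proper, and X_s its
special fibre, assumed reduced of pure dimension one with geometrically integral irreducible
components over κ. Let I be a coherent R-flat module on X whose restriction I(s) to X_s is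
torsion-free rank-1, E a locally free module of rank r > 0 on X with restriction E(s), and d an
integer with χ(I(s)) = d and deg E(s) = -r·d. For a closed subset T of X_s write I(s)_T for the
torsion-free quotient of I(s) on T (pinned by its defining property) and β(T) := r·χ(I(s)_T) +
deg(E(s)|_T) (the source's β cleared of the denominator r). Let Y be a closed subcurve of X_s (a
non-empty union of irreducible components), and let I^Y be the kernel of the composite I ⟶ i_* I(s)
⟶ i_* I(s)_Y, with restriction I^Y(s) to X_s and quotients I^Y(s)_T and numbers β^Y(T) :=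
r·χ(I^Y(s)_T) + deg(E(s)|_T) defined likewise. Assume I(s) is semistable with respect to E(s). Let W
be an irreducible component of X_s and suppose that Y is the smallest closed subcurve of X_s
containing W with β(Y) = 0 (it is contained in every closed subcurve T ⊇ W with β(T) = 0). If Z is a
closed subcurve containing W with β^Y(Z) = 0 which is smallest with this property, then Y ⊆ Z. (The
source adds that I^Y is again semistable, which follows from the preceding semistability criterion
for I^Y, and that Y = Z exactly when I^Y(s) decomposes at Y; neither is stated here. The source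
takes f projective.) -/
theorem result (R : Type u) [CommRing R] [IsDomain R] [IsDiscreteValuationRing R] (X : Scheme.{u}) (f : X ⟶ Spec (CommRingCat.of R)) [Flat f] [IsProper f] (Xs : Scheme.{u}) [Xs.Over (Spec (CommRingCat.of (IsLocalRing.ResidueField R)))] (i : Xs ⟶ X) (hsq : IsPullback i (Xs ↘ Spec (CommRingCat.of (IsLocalRing.ResidueField R))) f (Spec.map (CommRingCat.ofHom (IsLocalRing.residue R)))) [IsReduced Xs] (hpure : ∀ C ∈ irreducibleComponents (Xs : Type u), topologicalKrullDim C = 1) (hgi : ∀ (C : Set Xs) (hC : C ∈ irreducibleComponents (Xs : Type u)), GeometricallyIntegral (VecSt.subschι Xs C (isClosed_of_mem_irreducibleComponents C hC) ≫ (Xs ↘ Spec (CommRingCat.of (IsLocalRing.ResidueField R))))) (I : X.Modules) (hIc : Coh.IsCoh I) (hIf : FlatMod.IsFlatOver f I) (hIs : TFOne.IsTF1 Xs ((Scheme.Modules.pullback i).obj I)) (E : X.Modules) (r : ℕ) (hr : 0 < r) (hE : FlatMod.IsFinLocFreeOfRank r E) (d : ℤ) (hχ : Curv2.euler (IsLocalRing.ResidueField R) Xs ((Scheme.Modules.pullback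 i).obj I) = d) (hEd : Curv2.deg (IsLocalRing.ResidueField R) Xs ((Scheme.Modules.pullback i).obj E) r = -(r : ℤ) * d) (hss : TFOne.IsSemistable Xs (IsLocalRing.ResidueField R) (Xs ↘ Spec (CommRingCat.of (IsLocalRing.ResidueField R))) ((Scheme.Modules.pullback i).obj I) ((Scheme.Modules.pullback i).obj E) r) (Y : Set Xs) (hY : IsClosed Y) (hYs : VecSt.IsSubcurve Xs Y) (GY : Xs.Modules) (πY : ((Scheme.Modules.pullback i).obj I) ⟶ GY) (hGY : TFOne.IsQuotOn Xs ((Scheme.Modules.pullback i).obj I) Y GY πY) (IY : X.Modules) (hIY : IY = kernel ((Scheme.Modules.pullbackPushforwardAdjunction i).unit.app I ≫ (Scheme.Modules.pushforward i).map πY)) (W : Set Xs) (hWc : W ∈ irreducibleComponents (Xs : Type u)) (hWY : W ⊆ Y) (hY0 : TFOne.rBeta Xs (IsLocalRing.ResidueField R) (Xs ↘ Spec (CommRingCat.of (IsLocalRing.ResidueField R))) Y hY ((Scheme.Modules.pullback i).obj E) r GY = 0) (hYmin : ∀ (T : Set Xs) (hT : IsClosed T), VecSt.IsSubcurve Xs T → W ⊆ T → ∀ (G : Xs.Modules) (π : ((Scheme.Modules.pullback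 i).obj I) ⟶ G), TFOne.IsQuotOn Xs ((Scheme.Modules.pullback i).obj I) T G π → TFOne.rBeta Xs (IsLocalRing.ResidueField R) (Xs ↘ Spec (CommRingCat.of (IsLocalRing.ResidueField R))) T hT ((Scheme.Modules.pullback i).obj E) r G = 0 → Y ⊆ T) (Z : Set Xs) (hZ : IsClosed Z) (hZs : VecSt.IsSubcurve Xs Z) (hWZ : W ⊆ Z) (GZ1 : Xs.Modules) (πZ1 : ((Scheme.Modules.pullback i).obj IY) ⟶ GZ1) (hGZ1 : TFOne.IsQuotOn Xs ((Scheme.Modules.pullback i).obj IY) Z GZ1 πZ1) (hZ0 : TFOne.rBeta Xs (IsLocalRing.ResidueField R) (Xs ↘ Spec (CommRingCat.of (IsLocalRing.ResidueField R))) Z hZ ((Scheme.Modules.pullback i).obj E) r GZ1 = 0) (hZmin : ∀ (T : Set Xs) (hT : IsClosed T), VecSt.IsSubcurve Xs T → W ⊆ T → ∀ (G : Xs.Modules) (π : ((Scheme.Modules.pullback i).obj IY) ⟶ G), TFOne.IsQuotOn Xs ((Scheme.Modules.pullback i).obj IY) T G π → TFOne.rBeta Xs (IsLocalRing.ResidueField R) (Xs ↘ Spec (CommRingCat.of (IsLocalRing.ResidueField R))) T hT ((Scheme.Modules.pullback i).obj E) r G = 0 → Z ⊆ T) : Y ⊆ Z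 := by
  obtain ⟨hP, hF'c, α, β, w, hS⟩ := Groth.Agent.TFOneX.exists_setup f hsq hIc hIf hGY hIY
  haveI := hP
  haveI := Groth.Agent.CurveCohLib.isNoetherian_of_proper (k := IsLocalRing.ResidueField R) (X := Xs)
  have h1 := Groth.Agent.TFOneX.dim_le_one hpure
  have hE' := Groth.Agent.TFOneX.isFinLocFreeOfRank_pullback i hE
  have hI' := hss.1
  have hW'c : IsClosed (⋃₀ {C | C ∈ irreducibleComponents (Xs : Type u) ∧ C ⊆ Y ∩ Z}) :=
    Groth.Agent.TFOneX.isClosed_subcurve _
  have hW's := Groth.Agent.TFOneX.empty_or_subcurve (X := Xs) (fun C => C ⊆ Y ∩ Z)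
  have hUs := Groth.Agent.TFOneX.isSubcurve_union hYs hZs
  obtain ⟨GW, πW, hGW⟩ := Groth.Agent.TFOneX.exists_quotOn hI'.1 hI'.2.1 hI'.2.2 hW'c
    (Groth.Agent.TFOneX.exists_generic_of_subcurve hW's)
  obtain ⟨GU, πU, hGU⟩ := Groth.Agent.TFOneX.exists_quotOn hI'.1 hI'.2.1 hI'.2.2 (hY.union hZ)
    (Groth.Agent.TFOneX.exists_generic_of_subcurve (Or.inr hUs))
  have hle := (Groth.Agent.TFOneX.rBeta_modif (IsLocalRing.ResidueField R) h1 hI' hGY hF'c hS hr hE' hY hZ hW'c (hY.union hZ) hYs
    (Or.inr hZs) hW's (Or.inr hUs) hGZ1 hGW hGU (fun η _ => Iff.rfl)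
    (fun η hη => Groth.Agent.TFOneX.mem_sUnion_components_iff hY hZ hη)).1
  have hW0 := Groth.Agent.TFOneX.rBeta_nonneg_of_semistable (IsLocalRing.ResidueField R) h1 hE' hχ hEd hss hW'c hW's hGW
  have hU0 := Groth.Agent.TFOneX.rBeta_nonneg_of_semistable (IsLocalRing.ResidueField R) h1 hE' hχ hEd hss (hY.union hZ) (Or.inr hUs) hGU
  have hWsub : W ⊆ ⋃₀ {C | C ∈ irreducibleComponents (Xs : Type u) ∧ C ⊆ Y ∩ Z} :=
    Set.subset_sUnion_of_mem ⟨hWc, Set.subset_inter hWY hWZ⟩
  have hsub : VecSt.IsSubcurve Xs (⋃₀ {C | C ∈ irreducibleComponents (Xs : Type u) ∧ C ⊆ Y ∩ Z}) :=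
    ⟨{C | C ∈ irreducibleComponents (Xs : Type u) ∧ C ⊆ Y ∩ Z}, fun C hC => hC.1,
      ⟨W, hWc, Set.subset_inter hWY hWZ⟩, rfl⟩
  exact (hYmin _ hW'c hsub hWsub GW πW hGW (by linarith)).trans
    (Set.sUnion_subset fun C hC => hC.2.trans Set.inter_subset_right)

end Groth.Agent.S18853
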