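import Groth.Statements.S18855
import Mathlib
import Groth.Agent.TFOneX.Rows
import Groth.Agent.S18853

set_option autoImplicit false
universe u
open CategoryTheory CategoryTheory.Limits AlgebraicGeometry
open TFOne

namespace Groth.Agent.S18855

/-- Let R be a discrete valuation ring with residue field κ, f : X ⟶ Spec R flat and proper, and X_s its
special fibre, assumed reduced of pure dimension one with geometrically integral irreducible
components over κ. Let I be a coherent R-flat module on X whose restriction I(s) to X_s is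
torsion-free rank-1, E a locally free module of rank r > 0 on X with restriction E(s), and d an
integer with χ(I(s)) = d and deg E(s) = -r·d. For a closed subset T of X_s write I(s)_T for the
torsion-free quotient of I(s) on T (pinned by its defining property) and β(T) := r·χ(I(s)_T) +
deg(E(s)|_T) (the source's β cleared of the denominator r). Let Y be a closed subcurve of X_s (a
non-empty union of irreducible components), and let I^Y be the kernel of the composite I ⟶ i_* I(s)
⟶ i_* I(s)_Y, with restriction I^Y(s) to X_s and quotients I^Y(s)_T and numbers β^Y(T) :=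
r·χ(I^Y(s)_T) + deg(E(s)|_T) defined likewise. Assume I(s) is semistable with respect to E(s). Let W
be an irreducible component of X_s; suppose that Y ≠ X_s is the smallest closed subcurve of X_s
containing W with β(Y) = 0, that Z is the smallest closed subcurve containing W with β^Y(Z) = 0, and
let Y' be the union of the irreducible components of X_s not contained in Y. Then Y = Z if and only
if I^Y(s) decomposes at Y: the canonical map I^Y(s) ⟶ I^Y(s)_Y ⊞ I^Y(s)_{Y'} to the direct sum of
its torsion-free quotients (pinned by their defining property) is an isomorphism. (The source takes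
f projective and allows Y = X_s, a case excluded here since decomposition is along proper
subcurves.) -/
theorem result (R : Type u) [CommRing R] [IsDomain R] [IsDiscreteValuationRing R] (X : Scheme.{u}) (f : X ⟶ Spec (CommRingCat.of R)) [Flat f] [IsProper f] (Xs : Scheme.{u}) [Xs.Over (Spec (CommRingCat.of (IsLocalRing.ResidueField R)))] (i : Xs ⟶ X) (hsq : IsPullback i (Xs ↘ Spec (CommRingCat.of (IsLocalRing.ResidueField R))) f (Spec.map (CommRingCat.ofHom (IsLocalRing.residue R)))) [IsReduced Xs] (hpure : ∀ C ∈ irreducibleComponents (Xs : Type u), topologicalKrullDim C = 1) (hgi : ∀ (C : Set Xs) (hC : C ∈ irreducibleComponents (Xs : Type u)), GeometricallyIntegral (VecSt.subschι Xs C (isClosed_of_mem_irreducibleComponents C hC) ≫ (Xs ↘ Spec (CommRingCat.of (IsLocalRing.ResidueField R))))) (I : X.Modules) (hIc : Coh.IsCoh I) (hIf : FlatMod.IsFlatOver f I) (hIs : TFOne.IsTF1 Xs ((Scheme.Modules.pullback i).obj I)) (E : X.Modules) (r : ℕ) (hr : 0 < r) (hE : FlatMod.IsFinLocFreeOfRank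 r E) (d : ℤ) (hχ : Curv2.euler (IsLocalRing.ResidueField R) Xs ((Scheme.Modules.pullback i).obj I) = d) (hEd : Curv2.deg (IsLocalRing.ResidueField R) Xs ((Scheme.Modules.pullback i).obj E) r = -(r : ℤ) * d) (hss : TFOne.IsSemistable Xs (IsLocalRing.ResidueField R) (Xs ↘ Spec (CommRingCat.of (IsLocalRing.ResidueField R))) ((Scheme.Modules.pullback i).obj I) ((Scheme.Modules.pullback i).obj E) r) (Y : Set Xs) (hY : IsClosed Y) (hYs : VecSt.IsSubcurve Xs Y) (GY : Xs.Modules) (πY : ((Scheme.Modules.pullback i).obj I) ⟶ GY) (hGY : TFOne.IsQuotOn Xs ((Scheme.Modules.pullback i).obj I) Y GY πY) (IY : X.Modules) (hIY : IY = kernel ((Scheme.Modules.pullbackPushforwardAdjunction i).unit.app I ≫ (Scheme.Modules.pushforward i).map πY)) (hYne : Y ≠ Set.univ) (W : Set Xs) (hWc : W ∈ irreducibleComponents (Xs : Type u)) (hWY : W ⊆ Y) (hY0 : TFOne.rBeta Xs (IsLocalRing.ResidueField R) (Xs ↘ Spec (CommRingCat.of (IsLocalRing.ResidueField R))) Y hY ((Scheme.Modules.pullback i).obj E) r GY = 0) (hYmin :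 ∀ (T : Set Xs) (hT : IsClosed T), VecSt.IsSubcurve Xs T → W ⊆ T → ∀ (G : Xs.Modules) (π : ((Scheme.Modules.pullback i).obj I) ⟶ G), TFOne.IsQuotOn Xs ((Scheme.Modules.pullback i).obj I) T G π → TFOne.rBeta Xs (IsLocalRing.ResidueField R) (Xs ↘ Spec (CommRingCat.of (IsLocalRing.ResidueField R))) T hT ((Scheme.Modules.pullback i).obj E) r G = 0 → Y ⊆ T) (Z : Set Xs) (hZ : IsClosed Z) (hZs : VecSt.IsSubcurve Xs Z) (hWZ : W ⊆ Z) (GZ1 : Xs.Modules) (πZ1 : ((Scheme.Modules.pullback i).obj IY) ⟶ GZ1) (hGZ1 : TFOne.IsQuotOn Xs ((Scheme.Modules.pullback i).obj IY) Z GZ1 πZ1) (hZ0 : TFOne.rBeta Xs (IsLocalRing.ResidueField R) (Xs ↘ Spec (CommRingCat.of (IsLocalRing.ResidueField R))) Z hZ ((Scheme.Modules.pullback i).obj E) r GZ1 = 0) (hZmin : ∀ (T : Set Xs) (hT : IsClosed T), VecSt.IsSubcurve Xs T → W ⊆ T → ∀ (G : Xs.Modules) (π : ((Scheme.Modules.pullback i).obj IY) ⟶ G), TFOne.IsQuotOn Xs ((Scheme.Modules.pullback i).obj IY) T G π → TFOne.rBeta Xs (IsLocalRing.ResidueField R) (Xs ↘ Spec (CommRingCat.of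 (IsLocalRing.ResidueField R))) T hT ((Scheme.Modules.pullback i).obj E) r G = 0 → Z ⊆ T) (Y' : Set Xs) (hY' : Y' = ⋃₀ {C | C ∈ irreducibleComponents (Xs : Type u) ∧ ¬ C ⊆ Y}) (hY'c : IsClosed Y') (G1 G2 : Xs.Modules) (π1 : ((Scheme.Modules.pullback i).obj IY) ⟶ G1) (π2 : ((Scheme.Modules.pullback i).obj IY) ⟶ G2) (hG1 : TFOne.IsQuotOn Xs ((Scheme.Modules.pullback i).obj IY) Y G1 π1) (hG2 : TFOne.IsQuotOn Xs ((Scheme.Modules.pullback i).obj IY) Y' G2 π2) : Y = Z ↔ IsIso (biprod.lift π1 π2) := by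

  constructor
  · intro hYZ
    subst hYZ
    obtain ⟨hP, hF'c, α, β, w, hS⟩ := Groth.Agent.TFOneX.exists_setup f hsq hIc hIf hGY hIY
    haveI := hP
    haveI := Groth.Agent.CurveCohLib.isNoetherian_of_proper (k := IsLocalRing.ResidueField R) (X := Xs)
    have hrk' := Groth.Agent.TFOneX.isRkOne_of_ext hss.1.2.2 hGY hS
    -- the two quotients on `Y` have the same Euler characteristic
    obtain ⟨g, hg, hge⟩ := Groth.Agent.TFOneX.exists_desc hrk' hG1 hGZ1 fun η _ h => h
    obtain ⟨g', hg', hge'⟩ := Groth.Agent.TFOneX.exists_desc hrk' hGZ1 hG1 fun η _ h => h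
    haveI := hG1.1
    haveI := hGZ1.1
    have e : G1 ≅ GZ1 := ⟨g, g', by rw [← cancel_epi π1, reassoc_of% hg, hg', Category.comp_id],
      by rw [← cancel_epi πZ1, reassoc_of% hg', hg, Category.comp_id]⟩
    rw [Groth.Agent.TFOneX.isIso_lift_iff (IsLocalRing.ResidueField R) (Groth.Agent.TFOneX.dim_le_one hpure) hss.1 hGY hF'c hS hY hY'c
      (fun η hη => by rw [hY']; exact Groth.Agent.TFOneX.mem_compl_iff hη hY) hG1 hG2,
      Groth.Agent.Euler.euler_congr (IsLocalRing.ResidueField R) e]
    have h := hZ0.trans hY0.symm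
    simp only [Groth.Agent.TFOneX.rBeta_eq] at h
    exact mul_left_cancel₀ (show (r : ℤ) ≠ 0 by exact_mod_cast hr.ne') (by linarith)
  · intro hiso
    obtain ⟨hP, hF'c, α, β, w, hS⟩ := Groth.Agent.TFOneX.exists_setup f hsq hIc hIf hGY hIY
    haveI := hP
    have hsub : Y ⊆ Z := Groth.Agent.S18853.result R X f Xs i hsq hpure hgi I hIc hIf hss.1 E r hr hE d hχ hEd hss
      Y hY hYs GY πY hGY IY hIY W hWc hWY hY0 hYmin Z hZ hZs hWZ GZ1 πZ1 hGZ1 hZ0 hZmin
    refine Set.Subset.antisymm hsub (hZmin Y hY hYs hWY G1 π1 hG1 ?_)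
    have h := (Groth.Agent.TFOneX.isIso_lift_iff (IsLocalRing.ResidueField R) (Groth.Agent.TFOneX.dim_le_one hpure) hss.1 hGY hF'c hS hY hY'c
      (fun η hη => by rw [hY']; exact Groth.Agent.TFOneX.mem_compl_iff hη hY) hG1 hG2).1 hiso
    rw [← hY0]
    simp only [Groth.Agent.TFOneX.rBeta_eq, h]

end Groth.Agent.S18855
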