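import Groth.Statements.S18856
import Mathlib
import Groth.Agent.TFOneX.Rows

set_option autoImplicit false
universe u
open CategoryTheory CategoryTheory.Limits AlgebraicGeometry
open TFOne

namespace Groth.Agent.S18856

/-- Let R be a discrete valuation ring with residue field κ, f : X ⟶ Spec R flat and proper, and X_s its
special fibre, assumed reduced of pure dimension one with geometrically integral irreducible
components over κ. Let I be a coherent R-flat module on X whose restriction I(s) to X_s is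
torsion-free rank-1, E a locally free module of rank r > 0 on X with restriction E(s), and d an
integer with χ(I(s)) = d and deg E(s) = -r·d. For a closed subset T of X_s write I(s)_T for the
torsion-free quotient of I(s) on T (pinned by its defining property) and β(T) := r·χ(I(s)_T) +
deg(E(s)|_T) (the source's β cleared of the denominator r). Let Y be a closed subcurve of X_s (a
non-empty union of irreducible components), and let I^Y be the kernel of the composite I ⟶ i_* I(s)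
⟶ i_* I(s)_Y, with restriction I^Y(s) to X_s and quotients I^Y(s)_T and numbers β^Y(T) :=
r·χ(I^Y(s)_T) + deg(E(s)|_T) defined likewise. Let Z be a closed subcurve of X_s, W the union of the
irreducible components of X_s contained in Y ∩ Z, Y' the union of the components not contained in Y,
and V the union of the components contained in Z but not in Y (each possibly empty; the torsion-free
quotient on the empty set is 0). Then the inequality β^Y(Z) + β(Y) ≥ β(W) + β(Y ∪ Z) is an equality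
if and only if χ(I^Y(s)_W) + χ(I^Y(s)_{Y'}) − χ(I^Y(s)_{W ∪ Y'}) = χ(I^Y(s)_W) + χ(I^Y(s)_V) −
χ(I^Y(s)_Z), that is δ(W, Y') = δ(W, V) for δ(A, B) := χ(I^Y(s)_A) + χ(I^Y(s)_B) − χ(I^Y(s)_{A ∪ B})
(note W ∪ V = Z). (The source takes f projective.) -/
theorem result (R : Type u) [CommRing R] [IsDomain R] [IsDiscreteValuationRing R] (X : Scheme.{u}) (f : X ⟶ Spec (CommRingCat.of R)) [Flat f] [IsProper f] (Xs : Scheme.{u}) [Xs.Over (Spec (CommRingCat.of (IsLocalRing.ResidueField R)))] (i : Xs ⟶ X) (hsq : IsPullback i (Xs ↘ Spec (CommRingCat.of (IsLocalRing.ResidueField R))) f (Spec.map (CommRingCat.ofHom (IsLocalRing.residue R)))) [IsReduced Xs] (hpure : ∀ C ∈ irreducibleComponents (Xs : Type u), topologicalKrullDim C = 1) (hgi : ∀ (C : Set Xs) (hC : C ∈ irreducibleComponents (Xs : Type u)), GeometricallyIntegral (VecSt.subschι Xs C (isClosed_of_mem_irreducibleComponents C hC) ≫ (Xs ↘ Spec (CommRingCat.of (IsLocalRing.ResidueField R))))) (I : X.Modules)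 (hIc : Coh.IsCoh I) (hIf : FlatMod.IsFlatOver f I) (hIs : TFOne.IsTF1 Xs ((Scheme.Modules.pullback i).obj I)) (E : X.Modules) (r : ℕ) (hr : 0 < r) (hE : FlatMod.IsFinLocFreeOfRank r E) (d : ℤ) (hχ : Curv2.euler (IsLocalRing.ResidueField R) Xs ((Scheme.Modules.pullback i).obj I) = d) (hEd : Curv2.deg (IsLocalRing.ResidueField R) Xs ((Scheme.Modules.pullback i).obj E) r = -(r : ℤ) * d) (Y : Set Xs) (hY : IsClosed Y) (hYs : VecSt.IsSubcurve Xs Y) (GY : Xs.Modules) (πY : ((Scheme.Modules.pullback i).obj I) ⟶ GY) (hGY : TFOne.IsQuotOn Xs ((Scheme.Modules.pullback i).obj I) Y GY πY) (IY : X.Modules) (hIY : IY = kernel ((Scheme.Modules.pullbackPushforwardAdjunction i).unit.app I ≫ (Scheme.Modules.pushforward i).map πY)) (Z W Y' V : Set Xs) (hZ : IsClosed Z) (hZs : VecSt.IsSubcurve Xs Z) (hW : W = ⋃₀ {C | C ∈ irreducibleComponents (Xs : Type u) ∧ C ⊆ Y ∩ Z}) (hWc : IsClosed W) (hY' : Y' = ⋃₀ {C | C ∈ irreducibleComponents (Xs : Type u) ∧ ¬ C ⊆ Y}) (hY'c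 : IsClosed Y') (hV : V = ⋃₀ {C | C ∈ irreducibleComponents (Xs : Type u) ∧ C ⊆ Z ∧ ¬ C ⊆ Y}) (hVc : IsClosed V) (GZ1 G2 G3 G4 G5 : Xs.Modules) (πZ1 : ((Scheme.Modules.pullback i).obj IY) ⟶ GZ1) (π5 : ((Scheme.Modules.pullback i).obj IY) ⟶ G5) (hG5 : TFOne.IsQuotOn Xs ((Scheme.Modules.pullback i).obj IY) W G5 π5) (π2 : ((Scheme.Modules.pullback i).obj IY) ⟶ G2) (π3 : ((Scheme.Modules.pullback i).obj IY) ⟶ G3) (π4 : ((Scheme.Modules.pullback i).obj IY) ⟶ G4) (hGZ1 : TFOne.IsQuotOn Xs ((Scheme.Modules.pullback i).obj IY) Z GZ1 πZ1) (hG2 : TFOne.IsQuotOn Xs ((Scheme.Modules.pullback i).obj IY) Y' G2 π2) (hG3 : TFOne.IsQuotOn Xs ((Scheme.Modules.pullback i).obj IY) (W ∪ Y') G3 π3) (hG4 : TFOne.IsQuotOn Xs ((Scheme.Modules.pullback i).obj IY) V G4 π4) (GW GU : Xs.Modules) (πW : ((Scheme.Modules.pullback i).obj I) ⟶ GW) (πU : ((Scheme.Modules.pullback i).obj I) ⟶ GU) (hGW : TFOne.IsQuotOn Xs ((Scheme.Modules.pullback i).obj I) W GW πW) (hGU : TFOne.IsQuotOn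 Xs ((Scheme.Modules.pullback i).obj I) (Y ∪ Z) GU πU) : TFOne.rBeta Xs (IsLocalRing.ResidueField R) (Xs ↘ Spec (CommRingCat.of (IsLocalRing.ResidueField R))) W hWc ((Scheme.Modules.pullback i).obj E) r GW + TFOne.rBeta Xs (IsLocalRing.ResidueField R) (Xs ↘ Spec (CommRingCat.of (IsLocalRing.ResidueField R))) (Y ∪ Z) (hY.union hZ) ((Scheme.Modules.pullback i).obj E) r GU = TFOne.rBeta Xs (IsLocalRing.ResidueField R) (Xs ↘ Spec (CommRingCat.of (IsLocalRing.ResidueField R))) Z hZ ((Scheme.Modules.pullback i).obj E) r GZ1 + TFOne.rBeta Xs (IsLocalRing.ResidueField R) (Xs ↘ Spec (CommRingCat.of (IsLocalRing.ResidueField R))) Y hY ((Scheme.Modules.pullback i).obj E) r GY ↔ Curv2.euler (IsLocalRing.ResidueField R) Xs G5 + Curv2.euler (IsLocalRing.ResidueField R) Xs G2 - Curv2.euler (IsLocalRing.ResidueField R) Xs G3 = Curv2.euler (IsLocalRing.ResidueField R) Xs G5 + Curv2.euler (IsLocalRing.ResidueField R) Xs G4 - Curv2.euler (IsLocalRing.ResidueField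 R) Xs GZ1 := by
  obtain ⟨hP, hF'c, α, β, w, hS⟩ := Groth.Agent.TFOneX.exists_setup f hsq hIc hIf hGY hIY
  haveI := hP
  haveI := Groth.Agent.CurveCohLib.isNoetherian_of_proper (k := IsLocalRing.ResidueField R) (X := Xs)
  have h1 := Groth.Agent.TFOneX.dim_le_one hpure
  have hE' := Groth.Agent.TFOneX.isFinLocFreeOfRank_pullback i hE
  have hgW : ∀ η ∈ genericPoints (Xs : Type u), (η ∈ W ↔ η ∈ Y ∧ η ∈ Z) := fun η hη => by
    rw [hW]; exact Groth.Agent.TFOneX.mem_sUnion_components_iff hY hZ hη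
  have hgY' : ∀ η ∈ genericPoints (Xs : Type u), (η ∈ Y' ↔ η ∉ Y) := fun η hη => by
    rw [hY']; exact Groth.Agent.TFOneX.mem_compl_iff hη hY
  have hgV : ∀ η ∈ genericPoints (Xs : Type u), (η ∈ V ↔ η ∈ Z ∧ η ∉ Y) := fun η hη => by
    rw [hV]; exact Groth.Agent.TFOneX.mem_diff_iff hη hY hZ
  obtain ⟨G0, π0, hG0⟩ := Groth.Agent.TFOneX.exists_quotOn hIs.1 hIs.2.1 hIs.2.2 (T := (∅ : Set Xs))
    isClosed_empty fun x hx => hx.elim
  have hid := Groth.Agent.TFOneX.isQuotOn_id hIs.1 hIs.2.1 hIs.2.2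
  have e2 := (Groth.Agent.TFOneX.euler_modif (IsLocalRing.ResidueField R) h1 hIs.1 hIs.2.1 hIs.2.2 hGY hF'c hS
    hG2 hG0 hid (fun η hη => by simp [hgY' η hη, em]) (fun η hη => by simp [hgY' η hη])).2
    (Or.inl fun η _ h => h)
  have e3 := (Groth.Agent.TFOneX.euler_modif (IsLocalRing.ResidueField R) h1 hIs.1 hIs.2.1 hIs.2.2 hGY hF'c hS
    hG3 hGW hid
    (fun η hη => by simp [hgY' η hη]; tauto)
    (fun η hη => by simp [hgY' η hη, hgW η hη]; tauto)).2 (Or.inr fun η _ => trivial)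
  have e4 := (Groth.Agent.TFOneX.euler_modif (IsLocalRing.ResidueField R) h1 hIs.1 hIs.2.1 hIs.2.2 hGY hF'c hS
    hG4 hG0 hGU (fun η hη => by simp [hgV η hη]; tauto) (fun η hη => by simp [hgV η hη]; tauto)).2
    (Or.inl fun η _ h => h)
  have hW' : W = ∅ ∨ VecSt.IsSubcurve Xs W := by rw [hW]; exact Groth.Agent.TFOneX.empty_or_subcurve _
  rw [(Groth.Agent.TFOneX.rBeta_modif (IsLocalRing.ResidueField R) h1 hIs hGY hF'c hS hr hE' hY hZ hWc (hY.union hZ) hYs (Or.inr hZs) hW'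
    (Or.inr (Groth.Agent.TFOneX.isSubcurve_union hYs hZs)) hGZ1 hGW hGU (fun η _ => Iff.rfl) hgW).2]
  rw [Groth.Agent.TFOneX.euler_quot_empty (IsLocalRing.ResidueField R) hG0, zero_add] at e2 e4
  constructor <;> intro h <;> linarith

end Groth.Agent.S18856
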