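import Groth.Statements.S18857
import Groth.Agent.TFOneX.TowerLimit

set_option autoImplicit false
set_option backward.isDefEq.respectTransparency false
set_option backward.isDefEq.respectTransparency.types false
set_option linter.style.haveILetI false
set_option maxHeartbeats 1000000
universe u
open CategoryTheory CategoryTheory.Limits AlgebraicGeometry
open TFOne

namespace Groth.Agent.S18857

/-- Let R be a complete discrete valuation ring with residue field κ, f : X ⟶ Spec R flat and proper,
and X_s its special fibre (a cartesian square over Spec κ ⟶ Spec R with top arrow i), assumed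
reduced of pure dimension one with geometrically integral irreducible components over κ. Let Y ≠ X_s
be a closed subcurve of X_s (a non-empty union of irreducible components) and Y' the union of the
components not contained in Y. Let I^0 ⊇ I^1 ⊇ I^2 ⊇ ⋯ be modules on X, I^0 coherent and R-flat with
torsion-free rank-1 restriction to X_s, such that for every n the module I^{n+1} is the kernel of
the composite I^n ⟶ i_* I^n(s) ⟶ i_* I^n(s)_Y, where I^n(s) is the restriction of I^n to X_s and
I^n(s)_Y its torsion-free quotient on Y (pinned by its defining property). Suppose that every I^n(s)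
decomposes at Y: the canonical map I^n(s) ⟶ I^n(s)_Y ⊞ I^n(s)_{Y'} is an isomorphism. Then there are
a module F on X, flat over Spec R, and an epimorphism p : I^0 ⟶ F whose restriction to X_s
identifies F(s), as a quotient of I^0(s), with I^0(s)_Y. (The source takes f projective and allows Y
= X_s, a case excluded here; it is trivial with F = I^0.) -/
theorem result (R : Type u) [CommRing R] [IsDomain R] [IsDiscreteValuationRing R] (X : Scheme.{u}) (f : X ⟶ Spec (CommRingCat.of R)) [Flat f] [IsProper f] (Xs : Scheme.{u}) [Xs.Over (Spec (CommRingCat.of (IsLocalRing.ResidueField R)))] (i : Xs ⟶ X) (hsq : IsPullback i (Xs ↘ Spec (CommRingCat.of (IsLocalRing.ResidueField R))) f (Spec.map (CommRingCat.ofHom (IsLocalRing.residue R)))) [IsReduced Xs] (hpure : ∀ C ∈ irreducibleComponents (Xs : Type u), topologicalKrullDim C = 1) (hgi : ∀ (C : Set Xs) (hC : C ∈ irreducibleComponents (Xs : Type u)), GeometricallyIntegral (VecSt.subschι Xs C (isClosed_of_mem_irreducibleComponents C hC) ≫ (Xs ↘ Spec (CommRingCat.of (IsLocalRing.ResidueField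 R))))) [IsAdicComplete (IsLocalRing.maximalIdeal R) R] (In : ℕ → X.Modules) (hIc : Coh.IsCoh (In 0)) (hIf : FlatMod.IsFlatOver f (In 0)) (hIs : TFOne.IsTF1 Xs ((Scheme.Modules.pullback i).obj (In 0))) (Y : Set Xs) (hY : IsClosed Y) (hYs : VecSt.IsSubcurve Xs Y) (hYne : Y ≠ Set.univ) (Y' : Set Xs) (hY' : Y' = ⋃₀ {C | C ∈ irreducibleComponents (Xs : Type u) ∧ ¬ C ⊆ Y}) (hY'c : IsClosed Y') (G G' : ℕ → Xs.Modules) (π : ∀ n : ℕ, ((Scheme.Modules.pullback i).obj (In n)) ⟶ G n) (π' : ∀ n : ℕ, ((Scheme.Modules.pullback i).obj (In n)) ⟶ G' n) (hG : ∀ n : ℕ, TFOne.IsQuotOn Xs ((Scheme.Modules.pullback i).obj (In n)) Y (G n) (π n)) (hG' : ∀ n : ℕ, TFOne.IsQuotOn Xs ((Scheme.Modules.pullback i).obj (In n)) Y' (G' n) (π' n)) (hstep : ∀ n : ℕ, In (n + 1) = kernel ((Scheme.Modules.pullbackPushforwardAdjunction i).unit.app (In n) ≫ (Scheme.Modules.pushforward i).map (π n))) (hdec : ∀ n : ℕ, IsIso (biprod.lift (π n) (π' n))) : ∃ (F : X.Modules) (p : In 0 ⟶ F), Epi p ∧ FlatMod.IsFlatOver f F ∧ ∃ e : (Scheme.Modules.pullback i).obj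 F ≅ G 0, (Scheme.Modules.pullback i).map p ≫ e.hom = π 0 := by
  letI : X.Over (Spec (CommRingCat.of R)) := ⟨f⟩
  haveI : IsProper (X ↘ Spec (CommRingCat.of R)) := (inferInstance : IsProper f)
  obtain ⟨ϖ, hirr⟩ := IsDiscreteValuationRing.exists_irreducible R
  have hϖ := hirr.maximalIdeal_eq
  haveI := Groth.Agent.TFOneX.isClosedImmersion_fibre (i := i) hsq
  obtain ⟨j, θ, hc, hj, hz, hl, hθ, he⟩ := Groth.Agent.TFOneX.exists_maps (X := X) hsq hϖ hirr.ne_zero In hIc hIf hIs
    G G' π π' hG hG' hstep hdec
  choose e hei hee using he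
  obtain ⟨F, p, hF, hp, hflat, q, hq, hqe, hk⟩ := Groth.Agent.TFOneX.exists_limit hϖ hirr hc hj
    (fun n => (hG n).1) hθ hz hl hei hee
  haveI := hp
  let adj := Scheme.Modules.pullbackPushforwardAdjunction i
  let q' : (Scheme.Modules.pullback i).obj F ⟶ G 0 := (adj.homEquiv F (G 0)).symm q
  have hq' : (Scheme.Modules.pullback i).map p ≫ q' = π 0 := by
    refine (adj.homEquiv _ _).injective ?_
    rw [Adjunction.homEquiv_naturality_left, Equiv.apply_symm_apply, Adjunction.homEquiv_unit]
    exact hq
  haveI : Epi q' := by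
    haveI : Epi ((Scheme.Modules.pullback i).map p ≫ q') := by rw [hq']; exact (hG 0).1
    exact epi_of_epi ((Scheme.Modules.pullback i).map p) q'
  haveI : Mono q' := by
    haveI : IsLocallyNoetherian X := LocallyOfFiniteType.isLocallyNoetherian (X ↘ Spec (CommRingCat.of R))
    haveI : CompactSpace X := QuasiCompact.compactSpace_of_compactSpace (X ↘ Spec (CommRingCat.of R))
    haveI : AlgebraicGeometry.IsNoetherian X := {}
    refine Preadditive.mono_of_kernel_zero ?_
    rw [← Category.comp_id (kernel.ι q')]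
    refine Groth.Agent.TFOneX.kernel_le i hF (hG 0).2.1.1 q' (𝟙 _) ?_
    have h1 : adj.unit.app F ≫ (Scheme.Modules.pushforward i).map q' = q := by
      exact (Adjunction.homEquiv_unit adj F (G 0) q').symm.trans ((adj.homEquiv F (G 0)).apply_symm_apply q)
    obtain ⟨m, hm⟩ : ∃ m, cokernel.π (Formal.smulMod R F ϖ) ≫ m = adj.unit.app F :=
      ⟨cokernel.desc _ _ (Groth.Agent.TFOneX.smul_unit hsq hϖ hF.1), cokernel.π_desc _ _ _⟩
    obtain ⟨l, hlk⟩ : ∃ l, l ≫ kernel.ι q = kernel.ι (adj.unit.app F ≫ (Scheme.Modules.pushforward i).map q') := by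
      refine ⟨kernel.lift q (kernel.ι _) ?_, kernel.lift_ι _ _ _⟩
      conv_lhs => arg 2; rw [← h1]
      exact kernel.condition _
    have hu : kernel.ι (adj.unit.app F ≫ (Scheme.Modules.pushforward i).map q') ≫ adj.unit.app F = 0 := by
      exact (congrArg (_ ≫ ·) hm.symm).trans (by rw [← hlk, Category.assoc, reassoc_of% hk, zero_comp, comp_zero])
    refine (Category.assoc _ _ _).symm.trans ?_
    exact (congrArg (· ≫ _) hu).trans zero_comp
  haveI := isIso_of_mono_of_epi q'
  exact ⟨F, p, hp, hflat, asIso q', hq'⟩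

end Groth.Agent.S18857
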