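import Groth.Statements.S18858
import Groth.Agent.SchTorsor.Basic

set_option autoImplicit false
universe u
open CategoryTheory MonoidalCategory CartesianMonoidalCategory MonObj GrpObj AlgebraicGeometry
open NonAbH1

namespace Groth.Agent.S18858

/-- Let S be a scheme, G a group scheme over S and X, X' two G-torsors over S for the fpqc topology
(pseudo-torsors under G acquiring sections on the members of some fpqc covering family of S). Then
every G-equivariant S-morphism f : X → X' is an isomorphism; so the category of G-torsors over S
with equivariant morphisms is a groupoid. (The source takes for G the base change to a scheme over a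
field of a group scheme over that field; the statement and its meaning are unchanged for an
arbitrary group scheme over the base.) -/
theorem result {S : Scheme.{u}} {G X X' : Over S} [GrpObj G]
    (a : AlgGrp.Action G X) (a' : AlgGrp.Action G X')
    (ha : NonAbH1.IsTorsorFor Scheme.fpqcPrecoverage a)
    (ha' : NonAbH1.IsTorsorFor Scheme.fpqcPrecoverage a')
    (f : X ⟶ X') (hf : AlgGrp.Action.IsEquivariant a a' f) : IsIso f := by
  exact Groth.Agent.SchTorsor.isIso_of_equivariant ha ha'.1 f hf

end Groth.Agent.S18858
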