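import Groth.Statements.S18859
import Groth.Agent.SchTorsor.Basic
import Mathlib.AlgebraicGeometry.AffineSpace

set_option autoImplicit false
universe u
open CategoryTheory MonoidalCategory CartesianMonoidalCategory MonObj GrpObj AlgebraicGeometry
open NonAbH1

namespace Groth.Agent.S18859

/-- Let S be a scheme, G a group scheme over S and X → S a G-torsor for the fpqc topology (a
pseudo-torsor under G acquiring sections on the members of some fpqc covering family of S). Then the
functions on S are the G-invariant functions on X: the ring map Γ(S, O_S) → Γ(X, O_X) is injective,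
and a global function s on X lies in its image if and only if the pullbacks of s to G ×_S X along
the action morphism and along the second projection coincide. (The source works over a scheme of
finite type over a field with G the base change of an affine group scheme over that field and states
the equality O_S = (O_X)^G as sheaves on S; applied to the restriction of the torsor over each open
of S, the present global form is that equality.) -/
theorem result {S : Scheme.{u}} {G X : Over S}
    [GrpObj G] (a : AlgGrp.Action G X) (ha : NonAbH1.IsTorsorFor Scheme.fpqcPrecoverage a) :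
    Function.Injective X.hom.appTop.hom ∧
      ∀ s : Γ(X.left, ⊤), s ∈ Set.range X.hom.appTop.hom ↔
        a.act.left.appTop.hom s = (CartesianMonoidalCategory.snd G X).left.appTop.hom s := by
  let W : Over S := Over.mk (AffineSpace PUnit.{u+1} S ↘ S)
  let mkW : ∀ (T : Over S), Γ(T.left, ⊤) → (T ⟶ W) := fun T t =>
    Over.homMk (AffineSpace.homOfVector T.hom fun _ => t) (AffineSpace.homOfVector_over _ _)
  have hnat : ∀ {T T' : Over S} (j : T' ⟶ T) (t : Γ(T.left, ⊤)), j ≫ mkW T t = mkW T' (j.left.appTop t) := by
    intro T T' j t
    refine Over.OverMorphism.ext (AffineSpace.hom_ext ?_ fun i => ?_)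
    · exact (Over.w (j ≫ mkW T t)).trans (Over.w (mkW T' (j.left.appTop t))).symm
    · show (j.left ≫ AffineSpace.homOfVector T.hom fun _ => t).appTop _ = (AffineSpace.homOfVector T'.hom fun _ => _).appTop _
      rw [Scheme.Hom.comp_appTop, CommRingCat.comp_apply, AffineSpace.homOfVector_appTop_coord,
        AffineSpace.homOfVector_appTop_coord]
  have hinj : ∀ {T : Over S} (t t' : Γ(T.left, ⊤)), mkW T t = mkW T t' → t = t' := by
    intro T t t' h
    have h1 := congrArg (fun m => m.left.appTop (AffineSpace.coord S PUnit.unit)) h
    exact ((AffineSpace.homOfVector_appTop_coord _ (fun _ => t) _).symm.trans h1).trans (AffineSpace.homOfVector_appTop_coord _ (fun _ => t') _)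
  have htu : ∀ t : Γ(S, ⊤), toUnit X ≫ mkW (𝟙_ (Over S)) t = mkW X (X.hom.appTop t) := fun t => by
    rw [hnat]
    congr 2
  refine ⟨fun t t' h => hinj (T := 𝟙_ (Over S)) t t' ((Groth.Agent.SchTorsor.hasLocSec_toUnit ha.2).hom_ext ?_), fun s => ⟨?_, fun hs => ?_⟩⟩
  · rw [htu, htu]
    exact congrArg (mkW X) h
  · rintro ⟨t, rfl⟩
    refine (CommRingCat.comp_apply X.hom.appTop a.act.left.appTop t).symm.trans (Eq.trans ?_ (CommRingCat.comp_apply X.hom.appTop (snd G X).left.appTop t))
    rw [← Scheme.Hom.comp_appTop, ← Scheme.Hom.comp_appTop, Over.w a.act, Over.w (snd G X)]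
  · obtain ⟨χ, hχ, -⟩ := Groth.Agent.SchTorsor.existsUnique_desc ha (mkW X s) (by rw [hnat, hnat, hs])
    refine ⟨χ.left.appTop (AffineSpace.coord S PUnit.unit), hinj _ _ ?_⟩
    rw [← htu, ← hχ]
    congr 1
    refine Over.OverMorphism.ext (AffineSpace.hom_ext ?_ fun i => ?_)
    · exact (Over.w (mkW (𝟙_ (Over S)) _)).trans (Over.w χ).symm
    · show (AffineSpace.homOfVector _ fun _ => _).appTop _ = _
      rw [AffineSpace.homOfVector_appTop_coord]

end Groth.Agent.S18859
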