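import Groth.Statements.S1886
import Groth.Agent.GrpdLib.StabTorsor

set_option backward.isDefEq.respectTransparency false
set_option backward.isDefEq.respectTransparency.types false
-- import your own Groth.Agent.* helpers here

set_option autoImplicit false
universe u
open CategoryTheory CategoryTheory.Limits AlgebraicGeometry
open Grpd

namespace Groth.Agent.S1886

/-- Let (U, R, s, t, c) be a groupoid scheme over S with stabilizer group scheme G → U and identity
section e : U → G. Then j = (t, s) : R → U ×_S U is separated iff G → U is separated iff e is a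
closed immersion; and j is quasi-separated iff G → U is quasi-separated iff e is quasi-compact. (A
groupoid scheme carries U, R, s, t, c, e, i over S with the groupoid axioms on T-points; 'finite
locally free' is finite, flat and locally of finite presentation; C ⊂ Γ(U) is the ring of functions
a with s♯(a) = t♯(a) and M = Spec C.) -/
theorem result (S : Scheme.{u}) (G : Grpd.GroupoidScheme S) : ((IsSeparated G.j ↔ IsSeparated G.stabilizerToU) ∧ (IsSeparated G.stabilizerToU ↔ IsClosedImmersion G.eStab)) ∧ ((QuasiSeparated G.j ↔ QuasiSeparated G.stabilizerToU) ∧ (QuasiSeparated G.stabilizerToU ↔ QuasiCompact G.eStab)) := by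
  let π := G.stabilizerToU
  have hbc₁ : IsSeparated G.j → IsSeparated π := fun _ => inferInstanceAs (IsSeparated (pullback.snd G.j G.diag))
  have hbc₂ : QuasiSeparated G.j → QuasiSeparated π := fun _ => inferInstanceAs (QuasiSeparated (pullback.snd G.j G.diag))
  have heπ : G.eStab ≫ π = 𝟙 G.U := pullback.lift_snd ..
  have hsec₁ : IsSeparated π → IsClosedImmersion G.eStab := fun _ => by
    have : IsClosedImmersion (G.eStab ≫ π) := by rw [heπ]; infer_instance
    exact IsClosedImmersion.of_comp G.eStab π
  have hsec₂ : QuasiSeparated π → QuasiCompact G.eStab := fun _ => by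
    have : QuasiCompact (G.eStab ≫ π) := by rw [heπ]; infer_instance
    exact QuasiCompact.of_comp G.eStab π
  -- the diagonal of `j` is a base change of the identity section
  let α : pullback π G.t ⟶ pullback G.s G.t :=
    pullback.lift (pullback.fst π G.t ≫ GrpdLib.stabι G) (pullback.snd π G.t)
      (by rw [Category.assoc, GrpdLib.stabι_s, pullback.condition])
  have hT := GrpdLib.isPullback_stab_t G α (pullback.lift_fst ..) (pullback.lift_snd ..)
  let δ : G.R ⟶ pullback π G.t :=
    pullback.lift (G.t ≫ G.eStab) (𝟙 G.R) (by rw [Category.assoc, heπ, Category.comp_id, Category.id_comp])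
  have hδ : δ ≫ hT.isoPullback.hom = pullback.diagonal G.j := by
    apply pullback.hom_ext
    · rw [Category.assoc, hT.isoPullback_hom_fst, pullback.diagonal_fst]
      have h : G.t ≫ G.eStab ≫ GrpdLib.stabι G = G.t ≫ G.e := by rw [GroupoidScheme.eStab, pullback.lift_fst]
      have e : δ ≫ α = pullback.lift ((𝟙 G.R ≫ G.t ≫ G.e)) (𝟙 G.R)
          (by rw [Category.assoc, Category.assoc, G.e_s, Category.comp_id]) := by
        apply pullback.hom_ext
        · simp only [δ, α, Category.assoc, pullback.lift_fst, pullback.lift_fst_assoc, Category.id_comp]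
          exact h
        · simp [δ, α]
      exact ((Category.assoc _ _ _).symm.trans (congrArg (· ≫ G.c) e)).trans (G.e_comp _)
    · rw [Category.assoc, hT.isoPullback_hom_snd, pullback.diagonal_snd, pullback.lift_snd]
  have hpb : IsPullback G.t δ G.eStab (pullback.fst π G.t) := by
    refine ⟨⟨(pullback.lift_fst ..).symm⟩, ⟨PullbackCone.IsLimit.mk _ (fun c => c.snd ≫ pullback.snd π G.t)
      (fun c => ?_) (fun c => ?_) fun c m hm₁ hm₂ => ?_⟩⟩
    · rw [Category.assoc, ← pullback.condition, ← reassoc_of% c.condition, heπ, Category.comp_id]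
    · apply pullback.hom_ext
      · rw [Category.assoc, pullback.lift_fst, Category.assoc, ← pullback.condition_assoc,
          ← reassoc_of% c.condition, reassoc_of% heπ, c.condition]
      · rw [Category.assoc, pullback.lift_snd, Category.comp_id]
    · rw [← hm₂, Category.assoc, pullback.lift_snd, Category.comp_id]
  have hback₁ : IsClosedImmersion G.eStab → IsSeparated G.j := fun h => by
    have h' : IsClosedImmersion δ := MorphismProperty.of_isPullback (P := @IsClosedImmersion) hpb h
    refine ⟨?_⟩
    rw [← hδ]
    infer_instance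
  have hback₂ : QuasiCompact G.eStab → QuasiSeparated G.j := fun h => by
    have h' : QuasiCompact δ := MorphismProperty.of_isPullback (P := @QuasiCompact) hpb h
    refine ⟨?_⟩
    rw [← hδ]
    infer_instance
  exact ⟨⟨⟨hbc₁, fun h => hback₁ (hsec₁ h)⟩, ⟨hsec₁, fun h => hbc₁ (hback₁ h)⟩⟩,
    ⟨⟨hbc₂, fun h => hback₂ (hsec₂ h)⟩, ⟨hsec₂, fun h => hbc₂ (hback₂ h)⟩⟩⟩
end Groth.Agent.S1886
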