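import Groth.Statements.S18861
import Groth.Agent.GrpSchLib.Action

set_option autoImplicit false
universe u
open CategoryTheory MonoidalCategory CartesianMonoidalCategory MonObj GrpObj AlgebraicGeometry
open AlgGrp

namespace Groth.Agent.S18861

/-- Let S be a scheme and G a group scheme over S acting on an S-scheme X, with action morphism G ×_S X
→ X. If G → S is surjective, resp. flat, resp. affine, resp. proper, resp. finite, resp. smooth,
then so is the action morphism. (The source works over a field, where G → S is automatically
faithfully flat, with G and X of finite type, and concludes that the action morphism is faithfully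
flat, and smooth, affine, proper or finite when G is; the base and the finiteness conditions play no
role.) -/
theorem result {S : Scheme.{u}} {G X : Over S} [GrpObj G]
    (a : AlgGrp.Action G X) :
    (Surjective G.hom → Surjective a.act.left) ∧ (Flat G.hom → Flat a.act.left) ∧
      (IsAffineHom G.hom → IsAffineHom a.act.left) ∧ (IsProper G.hom → IsProper a.act.left) ∧
      (IsFinite G.hom → IsFinite a.act.left) ∧ (Smooth G.hom → Smooth a.act.left) := by
  exact ⟨Groth.Agent.GrpSchLib.property_act a @Surjective, Groth.Agent.GrpSchLib.property_act a @Flat,
    Groth.Agent.GrpSchLib.property_act a @IsAffineHom, Groth.Agent.GrpSchLib.property_act a @IsProper,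
    Groth.Agent.GrpSchLib.property_act a @IsFinite, Groth.Agent.GrpSchLib.property_act a @Smooth⟩

end Groth.Agent.S18861
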