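import Groth.Statements.S18863
import Groth.Agent.SchTorsor.LimitTorsor
-- import your own Groth.Agent.* helpers here

set_option autoImplicit false
set_option backward.isDefEq.respectTransparency false
set_option backward.isDefEq.respectTransparency.types false
set_option linter.style.haveILetI false
universe u
open CategoryTheory CategoryTheory.Limits MonoidalCategory CartesianMonoidalCategory MonObj GrpObj AlgebraicGeometry
open NonAbH1

namespace Groth.Agent.S18863

/-- Let k be a field and X a quasi-compact k-scheme. Let (G_i)_{i ∈ I} be a cofiltered inverse system of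
affine group schemes of finite type over k with limit G in the category of k-group schemes (a limit
cone of homomorphisms G → G_i), and (T_i)_{i ∈ I} an inverse system of X-schemes such that each T_i
is a torsor over X for the fpqc topology under the base change of G_i to X and each transition map
T_j → T_i is equivariant along G_j → G_i. Let T be a limit of the T_i over X, with an action of the
base change of G to X for which every projection T → T_i is equivariant along G → G_i. Then T is a
torsor over X under the base change of G for the fpqc topology. (The source indexes the system by a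
directed partially ordered set and also records that T is pointed over a rational point of X when
all the T_i are; the limit scheme, the limit group and the limit action, which exist and are unique,
are taken here as data.) -/
theorem result (k : Type u) [Field k]
    (X : Scheme.{u}) [X.Over (Spec (CommRingCat.of k))] [CompactSpace X]
    {I : Type u} [SmallCategory I] [IsCofiltered I]
    (DG : I ⥤ Grp (Over (Spec (CommRingCat.of k))))
    [∀ i, IsAffineHom (DG.obj i).X.hom] [∀ i, LocallyOfFiniteType (DG.obj i).X.hom]
    (cG : Cone DG) (hcG : IsLimit cG)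
    (DT : I ⥤ Over X)
    (aT : ∀ i, AlgGrp.Action (Red.bc (X ↘ Spec (CommRingCat.of k)) (DG.obj i).X) (DT.obj i))
    (hT : ∀ i, NonAbH1.IsTorsorFor Scheme.fpqcPrecoverage (aT i))
    (hDT : ∀ (i j : I) (φ : i ⟶ j), AlgGrp.Action.IsEquivariant (aT i)
      ((aT j).restrict ((Over.pullback (X ↘ Spec (CommRingCat.of k))).map (DG.map φ).hom.hom)) (DT.map φ))
    (cT : Cone DT) (hcT : IsLimit cT)
    (a : AlgGrp.Action (Red.bc (X ↘ Spec (CommRingCat.of k)) cG.pt.X) cT.pt)
    (ha : ∀ i, AlgGrp.Action.IsEquivariant a
      ((aT i).restrict ((Over.pullback (X ↘ Spec (CommRingCat.of k))).map (cG.π.app i).hom.hom)) (cT.π.app i)) :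
    NonAbH1.IsTorsorFor Scheme.fpqcPrecoverage a := by
  haveI : ∀ i, Flat (DG.obj i).X.hom := fun i => Groth.Agent.SchTorsor.LimitTorsor.flat_of_field _
  haveI := Groth.Agent.SchTorsor.LimitTorsor.preservesLimit_forget_of_isAffine DG
  let F : Grp (Over (Spec (CommRingCat.of k))) ⥤ Over X :=
    Grp.forget _ ⋙ Over.pullback (X ↘ Spec (CommRingCat.of k))
  letI : ∀ i, GrpObj ((DG ⋙ F).obj i) := fun i => Red.grpObj_bc (X ↘ Spec (CommRingCat.of k)) (DG.obj i).X
  letI : GrpObj (F.mapCone cG).pt := Red.grpObj_bc (X ↘ Spec (CommRingCat.of k)) cG.pt.X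
  haveI : ∀ i, IsAffineHom ((DG ⋙ F).obj i).hom := fun i => MorphismProperty.pullback_snd (P := @IsAffineHom) (DG.obj i).X.hom _ inferInstance
  haveI : ∀ i, Flat ((DG ⋙ F).obj i).hom := fun i => MorphismProperty.pullback_snd (P := @Flat) (DG.obj i).X.hom _ inferInstance
  haveI : ∀ {i j : I} (φ : i ⟶ j), IsMonHom ((DG ⋙ F).map φ) := fun {i j} φ =>
    inferInstanceAs (IsMonHom ((Over.pullback (X ↘ Spec (CommRingCat.of k))).map (DG.map φ).hom.hom))
  haveI : ∀ i, IsMonHom (M := (F.mapCone cG).pt) ((F.mapCone cG).π.app i) := fun i =>
    inferInstanceAs (IsMonHom ((Over.pullback (X ↘ Spec (CommRingCat.of k))).map (cG.π.app i).hom.hom))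
  exact Groth.Agent.SchTorsor.LimitTorsor.isTorsorFor_limit (DG := DG ⋙ F) (cG := F.mapCone cG)
    (isLimitOfPreserves F hcG) (aT := aT) hT (fun {i j} φ => hDT i j φ) hcT a ha

end Groth.Agent.S18863
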