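import Groth.Statements.S18864
import Mathlib.RingTheory.Flat.Basic
import Mathlib.RingTheory.Adjoin.FG
import Mathlib.LinearAlgebra.Basis.VectorSpace
import Mathlib.LinearAlgebra.FreeModule.Basic
-- import your own Groth.Agent.* helpers here

set_option autoImplicit false
universe u v w
open HopfRep

namespace Groth.Agent.S18864

open TensorProduct

/-- Let k be a field and G = lim G_i a pro-algebraic group scheme over k, so that G = Spec A with A the
direct limit of the Hopf algebras A_i of the affine group schemes G_i of finite type; assume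
moreover that the maps A_i → A are injective, so that A is the directed union of the A_i, here given
as injective bialgebra maps A_i → A with directed, jointly covering images. Then every homomorphism
from G to an affine group scheme H = Spec B of finite type over k factors through some projection G
→ G_i: every bialgebra map f : B → A with B finitely generated as a k-algebra is the composite of
A_i → A with a bialgebra map B → A_i for some i. (The published statement allows arbitrary
transition maps in the system; this row assumes each A_i → A injective, the case the printed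
argument treats. The source also states the pro-finite variant with H finite, which is the case of
finite-dimensional A_i and B; finite generation of the A_i is not used.) -/
theorem result (k : Type u) [Field k]
    (A : Type v) [CommRing A] [HopfAlgebra k A] {ι : Type v} (Aι : ι → Type v)
    [∀ i, CommRing (Aι i)] [∀ i, HopfAlgebra k (Aι i)] (emb : ∀ i, Aι i →ₐc[k] A)
    (hinj : ∀ i, Function.Injective (emb i))
    (hdir : ∀ i j, ∃ l, Set.range (emb i) ⊆ Set.range (emb l) ∧ Set.range (emb j) ⊆ Set.range (emb l))
    (hcov : ∀ a : A, ∃ i, a ∈ Set.range (emb i))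
    (B : Type w) [CommRing B] [HopfAlgebra k B] [Algebra.FiniteType k B] (f : B →ₐc[k] A) :
    ∃ (i : ι) (g : B →ₐc[k] Aι i), (emb i).comp g = f := by
  classical
  obtain ⟨s, hs⟩ := Algebra.FiniteType.out (R := k) (A := B)
  have hall : ∀ t : Finset B, t ⊆ s → (t = ∅ ∨ ∃ l, ∀ b ∈ t, f b ∈ Set.range (emb l)) := by
    intro t
    induction t using Finset.induction with
    | empty => intro _; exact Or.inl rfl
    | insert b t hb ih =>
      intro hts
      right
      obtain ⟨i, hi⟩ := hcov (f b)
      rcases ih ((Finset.subset_insert _ _).trans hts) with rfl | ⟨l, hl⟩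
      · exact ⟨i, fun x hx => by simp at hx; rw [hx]; exact hi⟩
      · obtain ⟨m, hm1, hm2⟩ := hdir i l
        refine ⟨m, fun x hx => ?_⟩
        rcases Finset.mem_insert.mp hx with rfl | hx
        · exact hm1 hi
        · exact hm2 (hl x hx)
  obtain ⟨i, hi⟩ : ∃ i, ∀ b, f b ∈ Set.range (emb i) := by
    obtain ⟨j, hj⟩ := hcov 0
    obtain ⟨l, hl⟩ : ∃ l, ∀ b ∈ s, f b ∈ Set.range (emb l) := by
      rcases hall s subset_rfl with h | h
      · exact ⟨j, by simp [h]⟩
      · exact h
    refine ⟨l, fun b => ?_⟩
    have hb : b ∈ Algebra.adjoin k (↑s : Set B) := by rw [hs]; trivial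
    induction hb using Algebra.adjoin_induction with
    | mem x hx => exact hl x hx
    | algebraMap r => exact ⟨algebraMap k _ r, by rw [AlgHomClass.commutes, AlgHomClass.commutes]⟩
    | add x y _ _ hx hy => obtain ⟨u, hu⟩ := hx; obtain ⟨w, hw⟩ := hy; exact ⟨u + w, by rw [map_add, map_add, hu, hw]⟩
    | mul x y _ _ hx hy => obtain ⟨u, hu⟩ := hx; obtain ⟨w, hw⟩ := hy; exact ⟨u * w, by rw [map_mul, map_mul, hu, hw]⟩
  choose g₀ hg₀ using hi
  let g₁ : B →ₐ[k] Aι i :=
    { toFun := g₀
      map_one' := hinj i (by rw [hg₀, map_one, map_one])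
      map_mul' := fun x y => hinj i (by rw [map_mul, hg₀, hg₀, hg₀, map_mul])
      map_zero' := hinj i (by rw [hg₀, map_zero, map_zero])
      map_add' := fun x y => hinj i (by rw [map_add, hg₀, hg₀, hg₀, map_add])
      commutes' := fun r => hinj i (by rw [hg₀, AlgHomClass.commutes, AlgHomClass.commutes]) }
  have hinj2 : Function.Injective (TensorProduct.map (emb i : Aι i →ₗ[k] A) (emb i : Aι i →ₗ[k] A)) :=
    TensorProduct.map_injective_of_flat_flat _ _ (hinj i) (hinj i)
  refine ⟨i, BialgHom.ofAlgHom g₁ ?_ ?_, BialgHom.ext fun b => hg₀ b⟩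
  · refine AlgHom.ext fun b => ?_
    show Coalgebra.counit (R := k) (g₀ b) = Coalgebra.counit (R := k) b
    rw [← CoalgHomClass.counit_comp_apply (emb i), hg₀, CoalgHomClass.counit_comp_apply f]
  · refine AlgHom.ext fun b => hinj2 ?_
    show TensorProduct.map (emb i : Aι i →ₗ[k] A) (emb i : Aι i →ₗ[k] A) (Algebra.TensorProduct.map g₁ g₁ (Coalgebra.comul (R := k) b)) =
      TensorProduct.map (emb i : Aι i →ₗ[k] A) (emb i : Aι i →ₗ[k] A) (Coalgebra.comul (R := k) (g₀ b))
    rw [CoalgHomClass.map_comp_comul_apply (emb i) (g₀ b), hg₀, ← CoalgHomClass.map_comp_comul_apply f]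
    induction Coalgebra.comul (R := k) b using TensorProduct.induction_on with
    | zero => simp
    | add u w hu hw => simp only [map_add, hu, hw]
    | tmul u w =>
      simp only [Algebra.TensorProduct.map_tmul, TensorProduct.map_tmul]
      exact congrArg₂ (· ⊗ₜ[k] ·) (hg₀ u) (hg₀ w)

end Groth.Agent.S18864
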