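import Groth.Statements.S18865
import Groth.Agent.LC.LiaisonRows

set_option autoImplicit false
universe u
open Liaison

namespace Groth.Agent.S18865

/-- Let K be a field, R = K[x_0, …, x_n] graded by degree, c ≥ 2 an integer, 𝔠 ⊂ R a homogeneous ideal
of height c such that R/𝔠 is a Gorenstein ring, and I ⊂ R a homogeneous ideal with I ⊄ 𝔠. Then the
ideal quotient 𝔠 : I is unmixed of codimension c: it has height c and every associated prime of R/(𝔠
: I) has height c. (A Gorenstein ideal of the notes, one whose quotient is Cohen–Macaulay with last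
graded Betti number 1, is rendered as: the quotient ring is Gorenstein.) -/
theorem result (K : Type u) [Field K] (n c : ℕ) (hc : 2 ≤ c)
    (𝔠 I : Ideal (MvPolynomial (Fin (n + 1)) K))
    (h𝔠 : 𝔠.IsHomogeneous (GrSyz.stdGr K (Fin (n + 1)))) (hI : I.IsHomogeneous (GrSyz.stdGr K (Fin (n + 1))))
    [LocCoh.IsGorensteinRing (MvPolynomial (Fin (n + 1)) K ⧸ 𝔠)] (h𝔠c : 𝔠.height = c) (hI𝔠 : ¬ I ≤ 𝔠) :
    (𝔠.colon (I : Set (MvPolynomial (Fin (n + 1)) K))).height = c ∧
      ∀ p ∈ associatedPrimes (MvPolynomial (Fin (n + 1)) K) (MvPolynomial (Fin (n + 1)) K ⧸ 𝔠.colon (I : Set (MvPolynomial (Fin (n + 1)) K))), p.height = c := by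
  exact Groth.Agent.LC.Liaison.colon_height_unmixed h𝔠 h𝔠c hI𝔠

end Groth.Agent.S18865
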