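import Groth.Statements.S18867
import Groth.Agent.LC.LiaisonRows

set_option autoImplicit false
universe u
open Liaison

namespace Groth.Agent.S18867

/-- Let K be a field, R = K[x_0, …, x_n] graded by degree, c ≥ 2, 𝔠 ⊂ R a homogeneous ideal of height c
such that R/𝔠 is a Gorenstein ring, and I ⊂ R a homogeneous ideal of height c which is unmixed
(every associated prime of R/I has height c) and properly contains 𝔠. Then 𝔠 : (𝔠 : I) = I, so that
I and 𝔠 : I are directly linked by 𝔠. -/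
theorem result (K : Type u) [Field K] (n c : ℕ) (hc : 2 ≤ c)
    (𝔠 I : Ideal (MvPolynomial (Fin (n + 1)) K))
    (h𝔠 : 𝔠.IsHomogeneous (GrSyz.stdGr K (Fin (n + 1)))) (hI : I.IsHomogeneous (GrSyz.stdGr K (Fin (n + 1))))
    [LocCoh.IsGorensteinRing (MvPolynomial (Fin (n + 1)) K ⧸ 𝔠)] (h𝔠c : 𝔠.height = c) (hIc : I.height = c)
    (hIu : ∀ p ∈ associatedPrimes (MvPolynomial (Fin (n + 1)) K) (MvPolynomial (Fin (n + 1)) K ⧸ I), p.height = c) (hlt : 𝔠 < I) :
    𝔠.colon ((𝔠.colon (I : Set (MvPolynomial (Fin (n + 1)) K)) : Ideal (MvPolynomial (Fin (n + 1)) K)) : Set (MvPolynomial (Fin (n + 1)) K)) = I := by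
  exact Groth.Agent.LC.Liaison.colon_colon_eq_self h𝔠 h𝔠c hIu hlt.le

end Groth.Agent.S18867
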