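import Groth.Statements.S1887
import Groth.Agent.GrpdLib.FieldDim

set_option backward.isDefEq.respectTransparency false
set_option backward.isDefEq.respectTransparency.types false
-- import your own Groth.Agent.* helpers here

set_option autoImplicit false
universe u
open CategoryTheory CategoryTheory.Limits AlgebraicGeometry
open Grpd

namespace Groth.Agent.S1887

/-- Let (U, R, s, t, c) be a groupoid scheme over S with U the spectrum of a field and s, t locally of
finite type. Then for every closed point r of R, dim O_{R,r} = dim R. (Parts (1)–(3) —
equidimensionality and the equality of the two transcendence degrees of κ(r) — are not stated.) (A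
groupoid scheme carries U, R, s, t, c, e, i over S with the groupoid axioms on T-points; 'finite
locally free' is finite, flat and locally of finite presentation; C ⊂ Γ(U) is the ring of functions
a with s♯(a) = t♯(a) and M = Spec C.) -/
theorem result (S : Scheme.{u}) (G : Grpd.GroupoidScheme S) (k : Type u) [Field k] (eU : G.U ≅ Spec (CommRingCat.of k)) [LocallyOfFiniteType G.s] [LocallyOfFiniteType G.t] (r : G.R) (hr : IsClosed ({r} : Set G.R)) : (ringKrullDim (G.R.presheaf.stalk r) : WithBot ℕ∞) = topologicalKrullDim G.R :=  GrpdLib.ringKrullDim_stalk_R G k eU r hr
end Groth.Agent.S1887
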