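import Groth.Statements.S18872
import Groth.Agent.LC.LiaisonLC

set_option autoImplicit false
universe u
open Liaison

namespace Groth.Agent.S18872

/-- Let K be a field, R = K[x_0, …, x_n] graded by degree, and J ⊆ I ⊂ R homogeneous ideals with J ≠ 0,
height I = height J + 1 = h + 1 and R/J Cohen–Macaulay; let f ∈ R be homogeneous of degree d with J
: f = J, and put Ĩ = J + fI (the basic double link). Then for every i < n − h = dim R/I the local
cohomology modules of R/Ĩ and of R/I with support in the irrelevant ideal 𝔪 = (x_0, …, x_n) are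
isomorphic in degree i. (The graded statement is H^i_𝔪(R/Ĩ) ≅ H^i_𝔪(R/I)(−d); here only the
existence of an R-linear isomorphism of the underlying modules is asserted, the grading and the
shift by d being dropped.) -/
theorem result (K : Type u) [Field K] (n h : ℕ)
    (J I : Ideal (MvPolynomial (Fin (n + 1)) K))
    (hJ : J.IsHomogeneous (GrSyz.stdGr K (Fin (n + 1)))) (hI : I.IsHomogeneous (GrSyz.stdGr K (Fin (n + 1))))
    (hJ0 : J ≠ ⊥) (hJI : J ≤ I) (hJh : J.height = h) (hIh : I.height = h + 1)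
    [LocCoh.IsCohenMacaulayRing (MvPolynomial (Fin (n + 1)) K ⧸ J)]
    (f : MvPolynomial (Fin (n + 1)) K) (d : ℕ) (hf : f ∈ GrSyz.stdGr K (Fin (n + 1)) (d : ℤ)) (hJf : J.colon {f} = J) (i : ℕ) (hi : i + h < n) :
    Nonempty (LocCoh.H (GrSyz.irrel (GrSyz.stdGr K (Fin (n + 1)))).toIdeal i (MvPolynomial (Fin (n + 1)) K ⧸ (J ⊔ Ideal.span {f} * I)) ≃ₗ[MvPolynomial (Fin (n + 1)) K]
      LocCoh.H (GrSyz.irrel (GrSyz.stdGr K (Fin (n + 1)))).toIdeal i (MvPolynomial (Fin (n + 1)) K ⧸ I)) := by
  exact Groth.Agent.LC.Liaison.nonempty_H_basicDoubleLink J I hJ hJI hJh f d hf hJf i hi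

end Groth.Agent.S18872
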