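import Groth.Statements.S18873
import Groth.Agent.GrLib8.Assoc.Colon

set_option autoImplicit false
universe u
open Liaison

namespace Groth.Agent.S18873

/-- Let K be a field, R = K[x_0, …, x_n] graded by degree, 2 ≤ c ≤ n, 𝔠 ⊂ R a homogeneous ideal of
height c such that R/𝔠 is a Gorenstein ring, I ⊂ R a homogeneous ideal of height c containing 𝔠, and
J = 𝔠 : I. Write h_𝔞(j) = dim_K [R/𝔞]_j for the Hilbert function of R/𝔞. If p_𝔠, p_I, p_J ∈ ℚ[t] are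
polynomials agreeing with h_𝔠, h_I, h_J in all sufficiently large degrees (Hilbert polynomials; R/𝔠
and R/I have dimension n + 1 − c ≥ 1, and so has R/J unless I = 𝔠, when J = R and p_J = 0), then the
coefficients of t^(n−c) satisfy p_J = p_𝔠 − p_I in that degree; multiplying by (n − c)! this says
deg J = deg 𝔠 − deg I. -/
theorem result (K : Type u) [Field K] (n c : ℕ) (hc : 2 ≤ c) (hcn : c ≤ n)
    (𝔠 I : Ideal (MvPolynomial (Fin (n + 1)) K))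
    (h𝔠 : 𝔠.IsHomogeneous (GrSyz.stdGr K (Fin (n + 1)))) (hI : I.IsHomogeneous (GrSyz.stdGr K (Fin (n + 1))))
    [LocCoh.IsGorensteinRing (MvPolynomial (Fin (n + 1)) K ⧸ 𝔠)] (h𝔠c : 𝔠.height = c) (hIc : I.height = c) (h𝔠I : 𝔠 ≤ I)
    (p𝔠 pI pJ : Polynomial ℚ)
    (hp𝔠 : ∃ j₀ : ℕ, ∀ j : ℕ, j₀ ≤ j → (Module.finrank K ↥(Submodule.map (Ideal.Quotient.mkₐ K (𝔠)).toLinearMap (GrSyz.stdGr K (Fin (n + 1)) (j : ℤ))) : ℚ) = p𝔠.eval (j : ℚ))
    (hpI : ∃ j₀ : ℕ, ∀ j : ℕ, j₀ ≤ j → (Module.finrank K ↥(Submodule.map (Ideal.Quotient.mkₐ K (I)).toLinearMap (GrSyz.stdGr K (Fin (n + 1)) (j : ℤ))) : ℚ) = pI.eval (j : ℚ))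
    (hpJ : ∃ j₀ : ℕ, ∀ j : ℕ, j₀ ≤ j → (Module.finrank K ↥(Submodule.map (Ideal.Quotient.mkₐ K (𝔠.colon (I : Set (MvPolynomial (Fin (n + 1)) K)))).toLinearMap (GrSyz.stdGr K (Fin (n + 1)) (j : ℤ))) : ℚ) = pJ.eval (j : ℚ)) :
    pJ.coeff (n - c) = p𝔠.coeff (n - c) - pI.coeff (n - c) := by
  open Groth.Agent.GrLib8 Groth.Agent.GrLib8.Assoc MvPolynomial in
  let 𝒜 := MvPolynomial.homogeneousSubmodule (Fin (n + 1)) K
  letI : GradedAlgebra (MvPolynomial.homogeneousSubmodule (Fin (n + 1)) K) := MvPolynomial.gradedAlgebra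
  have conv : ∀ L : Ideal (MvPolynomial (Fin (n + 1)) K), L.IsHomogeneous (GrSyz.stdGr K (Fin (n + 1))) →
      L.IsHomogeneous 𝒜 := by
    intro L hL
    obtain ⟨S, rfl⟩ := (Ideal.IsHomogeneous.iff_exists _ L).1 hL
    refine Ideal.homogeneous_span _ _ ?_
    rintro x ⟨⟨y, i, hy⟩, -, rfl⟩
    rcases lt_or_ge i 0 with hi | hi
    · exact ⟨0, by
        show y ∈ 𝒜 0
        rw [Groth.Agent.GrLib8.stdGr_nonneg K (Fin (n + 1)) i hi y hy]; exact Submodule.zero_mem _⟩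
    · obtain ⟨j, rfl⟩ := Int.eq_ofNat_of_zero_le hi
      refine ⟨j, ?_⟩
      show y ∈ MvPolynomial.homogeneousSubmodule (Fin (n + 1)) K j
      rw [← stdGr_natCast]
      exact hy
  have hev : ∀ (L : Ideal (MvPolynomial (Fin (n + 1)) K)) (j : ℕ),
      Module.finrank K ↥(Submodule.map (Ideal.Quotient.mkₐ K L).toLinearMap (GrSyz.stdGr K (Fin (n + 1)) (j : ℤ))) =
        hilb L j := fun L j => by rw [stdGr_natCast]; rfl
  have hJh : (𝔠.colon (I : Set (MvPolynomial (Fin (n + 1)) K))).IsHomogeneous 𝒜 := by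
    classical
    intro i x hx
    refine Submodule.mem_colon.2 fun y hy => ?_
    rw [← DirectSum.sum_support_decompose 𝒜 y, Finset.smul_sum]
    refine Ideal.sum_mem _ fun k _ => ?_
    have h1 := Submodule.mem_colon.1 hx _ (conv I hI k hy)
    have h2 := conv 𝔠 h𝔠 (i + k) h1
    rwa [smul_eq_mul, DirectSum.coe_decompose_mul_of_right_mem_of_le 𝒜
      (DirectSum.decompose 𝒜 y k).2 (Nat.le_add_left k i), Nat.add_sub_cancel] at h2
  have hcJ : 𝔠 ≤ 𝔠.colon (I : Set (MvPolynomial (Fin (n + 1)) K)) := fun x hx =>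
    Submodule.mem_colon.2 fun s _ => 𝔠.mul_mem_right s hx
  have main : ∀ (L : Ideal (MvPolynomial (Fin (n + 1)) K)), 𝔠 ≤ L → L.IsHomogeneous 𝒜 → ∀ p : Polynomial ℚ,
      (∃ j₀ : ℕ, ∀ j : ℕ, j₀ ≤ j → (Module.finrank K ↥(Submodule.map (Ideal.Quotient.mkₐ K L).toLinearMap
        (GrSyz.stdGr K (Fin (n + 1)) (j : ℤ))) : ℚ) = p.eval (j : ℚ)) →
      p.coeff (n - c) = ∑ P : Mins 𝔠, (lenAt P L : ℚ) * lead (n - c) P.1 := by
    intro L hle hL p ⟨j₀, hj₀⟩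
    obtain ⟨Q, ⟨N, hN⟩, -, hQ⟩ := assoc_formula (𝔠 := 𝔠) (c := c) (D := n - c) (by omega) h𝔠c (by omega) L hle hL
    rw [← hQ, eq_of_eventually (Q₁ := p) (Q₂ := Q) (N := max j₀ N) fun j hj => by
      rw [hN j ((le_max_right _ _).trans hj), ← hj₀ j ((le_max_left _ _).trans hj), hev]]
  rw [main _ hcJ hJh pJ hpJ, main 𝔠 le_rfl (conv 𝔠 h𝔠) p𝔠 hp𝔠, main I h𝔠I (conv I hI) pI hpI,
    ← Finset.sum_sub_distrib]
  refine Finset.sum_congr rfl fun P _ => ?_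
  rw [← lenAt_colon_add P I, Nat.cast_add]
  ring

end Groth.Agent.S18873
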