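import Groth.Statements.S18874
import Groth.Agent.Pi1Ext.SpreadLim
import Groth.Agent.S2074
import Groth.Agent.EtFound.Descent
import Groth.Agent.FlatLoc6.Cpl

set_option autoImplicit false
universe u
open Lim

namespace Groth.Agent.S18874

open CategoryTheory AlgebraicGeometry in
/-- Let S be a quasi-compact scheme whose affine opens have excellent coordinate rings, let X → S and Y
→ S be quasi-compact, quasi-separated and locally of finite presentation, let f : X → Y be a
morphism over S, let s be a closed point of S and R the completion of the local ring of S at s. If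
the base change X ×_S Spec R → Y ×_S Spec R of f is proper, then s has an open neighbourhood W in S
such that X ×_S W → Y ×_S W is proper. (The published statement assumes X and Y only locally of
finite presentation over S; for S the affine line over a field, s the origin, Y = S and X the
disjoint union of S with one reduced point over each closed point other than s, the base change to
Spec R is an isomorphism while X ×_S W → W is not quasi-compact for any open W ∋ s, so X and Y are
taken of finite presentation over S here, which is what the limit argument of the published proof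
uses.) -/
theorem result
    (S : Scheme.{u}) [CompactSpace S] (hS : ∀ U : S.affineOpens, EGA4.IsExcellent Γ(S, U.1))
    {X Y : Scheme.{u}} (f : X ⟶ Y) (g : Y ⟶ S)
    [QuasiCompact g] [QuasiSeparated g] [LocallyOfFinitePresentation g]
    [QuasiCompact (f ≫ g)] [QuasiSeparated (f ≫ g)] [LocallyOfFinitePresentation (f ≫ g)]
    (s : S) (hs : IsClosed ({s} : Set S))
    (hR : IsProper (Limits.pullback.snd f (Limits.pullback.fst g
      (Spec.map (CommRingCat.ofHom (algebraMap (S.presheaf.stalk s) (EGA4.Cpl (S.presheaf.stalk s)))) ≫
        S.fromSpecStalk s)))) :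
    ∃ W : S.Opens, s ∈ W ∧ IsProper (f ∣_ (g ⁻¹ᵁ W)) := by
  open CategoryTheory CategoryTheory.Limits AlgebraicGeometry TopologicalSpace in
    haveI : IsLocallyNoetherian S := ⟨fun U => (hS U).1⟩
    let j : Spec (S.presheaf.stalk s) ⟶ S := S.fromSpecStalk s
    let c : Spec (CommRingCat.of (EGA4.Cpl (S.presheaf.stalk s))) ⟶ Spec (S.presheaf.stalk s) :=
      Spec.map (CommRingCat.ofHom (algebraMap (S.presheaf.stalk s) (EGA4.Cpl (S.presheaf.stalk s))))
    haveI : Module.FaithfullyFlat (S.presheaf.stalk s) (EGA4.Cpl (S.presheaf.stalk s)) :=
      FlatLoc6.faithfullyFlat_cpl _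
    haveI : Surjective c := ⟨PrimeSpectrum.comap_surjective_of_faithfullyFlat⟩
    haveI : Flat c := by
      rw [HasRingHomProperty.Spec_iff (P := @Flat)]
      exact RingHom.flat_algebraMap_iff.2 inferInstance
    haveI : QuasiCompact c := inferInstance
    -- the local ring base change is proper
    let yR : pullback g (c ≫ j) ⟶ pullback g j :=
      pullback.lift (pullback.fst _ _) (pullback.snd _ _ ≫ c) (by simp [pullback.condition])
    have hyR : IsPullback (pullback.snd g (c ≫ j)) yR c (pullback.snd g j) := by
      refine (IsPullback.of_bot ?_ (pullback.lift_snd _ _ _).symm (IsPullback.of_hasPullback g j).flip).flip.flip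
      rw [show yR ≫ pullback.fst g j = pullback.fst g (c ≫ j) from pullback.lift_fst _ _ _]
      exact (IsPullback.of_hasPullback g (c ≫ j)).flip
    have hc' : (@Surjective ⊓ @Flat ⊓ @QuasiCompact : MorphismProperty Scheme.{u}) yR :=
      ⟨⟨MorphismProperty.of_isPullback (P := @Surjective) hyR inferInstance,
        MorphismProperty.of_isPullback (P := @Flat) hyR inferInstance⟩,
        MorphismProperty.of_isPullback (P := @QuasiCompact) hyR inferInstance⟩
    haveI : IsProper (pullback.snd f (pullback.fst g j)) := by
      let xR : pullback f (pullback.fst g (c ≫ j)) ⟶ pullback f (pullback.fst g j) :=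
        pullback.lift (pullback.fst _ _) (pullback.snd _ _ ≫ yR) (by
          rw [Category.assoc, show yR ≫ pullback.fst g j = pullback.fst g (c ≫ j) from pullback.lift_fst _ _ _,
            pullback.condition])
      have hxR : IsPullback (pullback.snd f (pullback.fst g (c ≫ j))) xR yR (pullback.snd f (pullback.fst g j)) := by
        refine IsPullback.of_bot ?_ (pullback.lift_snd _ _ _).symm (IsPullback.of_hasPullback f (pullback.fst g j)).flip
        rw [show xR ≫ pullback.fst f (pullback.fst g j) = pullback.fst f _ from pullback.lift_fst _ _ _,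
          show yR ≫ pullback.fst g j = pullback.fst g (c ≫ j) from pullback.lift_fst _ _ _]
        exact (IsPullback.of_hasPullback f (pullback.fst g (c ≫ j))).flip
      have := EtFound.fpqc_isProper.{u}
      exact MorphismProperty.of_isPullback_of_descendsAlong (P := @IsProper) hxR hc' hR
    -- spread out
    let W₀ : Pi1Ext.SpreadLim.Nbhd S s := Classical.arbitrary _
    let w₀ := Pi1Ext.SpreadLim.toX S s W₀
    let π₀ : Spec (S.presheaf.stalk s) ⟶ (Pi1Ext.SpreadLim.specs S s).obj W₀ :=
      (Pi1Ext.SpreadLim.cone S s).π.app W₀
    have hπ : π₀ ≫ w₀ = j := Pi1Ext.SpreadLim.π_toX S s W₀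
    let qY : pullback g j ⟶ pullback g w₀ :=
      pullback.lift (pullback.fst g j) (pullback.snd g j ≫ π₀)
        (by rw [Category.assoc, hπ, pullback.condition])
    have hY : IsPullback qY (pullback.snd g j) (pullback.snd g w₀) π₀ := by
      refine IsPullback.of_right ?_ (pullback.lift_snd _ _ _) (IsPullback.of_hasPullback g w₀)
      rw [hπ, show qY ≫ pullback.fst g w₀ = pullback.fst g j from pullback.lift_fst _ _ _]
      exact IsPullback.of_hasPullback g j
    let qX : pullback f (pullback.fst g j) ⟶ pullback f (pullback.fst g w₀) :=
      pullback.lift (pullback.fst _ _) (pullback.snd _ _ ≫ qY) (by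
        rw [Category.assoc, show qY ≫ pullback.fst g w₀ = pullback.fst g j from pullback.lift_fst _ _ _,
          pullback.condition])
    have hX : IsPullback qX (pullback.snd f (pullback.fst g j)) (pullback.snd f (pullback.fst g w₀)) qY := by
      refine IsPullback.of_right ?_ (pullback.lift_snd _ _ _) (IsPullback.of_hasPullback f (pullback.fst g w₀))
      rw [show qX ≫ pullback.fst f (pullback.fst g w₀) = pullback.fst f _ from pullback.lift_fst _ _ _,
        show qY ≫ pullback.fst g w₀ = pullback.fst g j from pullback.lift_fst _ _ _]
      exact IsPullback.of_hasPullback f (pullback.fst g j)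
    haveI : LocallyOfFiniteType f := locallyOfFiniteType_of_comp f g
    haveI : QuasiCompact f := QuasiCompact.of_comp f g
    haveI : QuasiSeparated f := QuasiSeparated.of_comp f g
    haveI : CompactSpace ↥(pullback g w₀) := QuasiCompact.compactSpace_of_compactSpace (pullback.snd g w₀)
    haveI : QuasiSeparatedSpace ↥(pullback g w₀) := quasiSeparatedSpace_of_quasiSeparated (pullback.snd g w₀)
    haveI : CompactSpace ↥(pullback f (pullback.fst g w₀)) :=
      QuasiCompact.compactSpace_of_compactSpace (pullback.snd f (pullback.fst g w₀))
    haveI : QuasiSeparatedSpace ↥(pullback f (pullback.fst g w₀)) :=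
      quasiSeparatedSpace_of_quasiSeparated (pullback.snd f (pullback.fst g w₀))
    obtain ⟨i, φ, Xi, Yi, fi, gi, pY, pX, hYi, hXi, hfi⟩ := S2074.result (Pi1Ext.SpreadLim.specs S s)
      (Pi1Ext.SpreadLim.cone S s) (Pi1Ext.SpreadLim.isLimit S s) W₀ (pullback.snd f (pullback.fst g w₀))
      (pullback.snd g w₀) (pullback.snd f (pullback.fst g j)) (pullback.snd g j) qY qX hY hX
    refine ⟨i.1, i.2.2, ?_⟩
    have hYg : IsPullback (pY ≫ pullback.fst g w₀) gi g (Pi1Ext.SpreadLim.toX S s i) := by
      rw [← Pi1Ext.SpreadLim.map_toX S s φ]
      exact hYi.paste_horiz (IsPullback.of_hasPullback g w₀)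
    have hXg : IsPullback (pX ≫ pullback.fst f (pullback.fst g w₀)) fi f (pY ≫ pullback.fst g w₀) :=
      hXi.paste_horiz (IsPullback.of_hasPullback f (pullback.fst g w₀))
    haveI : IsOpenImmersion (pY ≫ pullback.fst g w₀) :=
      MorphismProperty.of_isPullback (P := @IsOpenImmersion) hYg.flip inferInstance
    have hrange : (pY ≫ pullback.fst g w₀).opensRange = g ⁻¹ᵁ i.1 := by
      refine Opens.ext ?_
      rw [Scheme.Hom.coe_opensRange]
      have := Scheme.Pullback.range_fst (f := g) (g := Pi1Ext.SpreadLim.toX S s i)
      rw [Pi1Ext.SpreadLim.range_toX] at this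
      rw [← hYg.isoPullback_hom_fst, Scheme.Hom.comp_base, TopCat.coe_comp, Set.range_comp,
        Set.range_eq_univ.2 hYg.isoPullback.hom.surjective, Set.image_univ, this]
      rfl
    rw [← hrange]
    exact (MorphismProperty.arrow_mk_iso_iff @IsProper (morphismRestrictOpensRange f (pY ≫ pullback.fst g w₀))).2 (by
      rw [← MorphismProperty.cancel_left_of_respectsIso @IsProper hXg.isoPullback.hom,
        IsPullback.isoPullback_hom_snd]
      exact hfi)

end Groth.Agent.S18874
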