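import Groth.Statements.S18877
import Groth.Agent.S1339
import Groth.Agent.S1335
import Groth.Agent.S2152
import Groth.Agent.SpecLib.Limit
import Groth.Agent.MorLib.RingUnivHomeo

set_option linter.style.haveILetI false
set_option backward.isDefEq.respectTransparency false
set_option backward.isDefEq.respectTransparency.types false

set_option autoImplicit false
universe u
open Lim

namespace Groth.Agent.S18877

open AlgebraicGeometry CategoryTheory CategoryTheory.Limits TopologicalSpace Topology

/-- Over an algebraically closed field the geometric fibre is the scheme itself. -/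
theorem nGeomConnComp_le_one_iff {Ω : Type u} [Field Ω] [IsAlgClosed Ω] {Z : Scheme.{u}}
    (q : Z ⟶ Spec (CommRingCat.of Ω)) :
    MoreMor.nGeomConnComp q (IsLocalRing.closedPoint Ω) ≤ 1 ↔ PreconnectedSpace ↥Z := by
  let S := Spec (CommRingCat.of Ω)
  let x : S := IsLocalRing.closedPoint Ω
  let ev : CommRingCat.of Ω ⟶ S.residueField x := MorLib.RUH.ev x
  have hsurj : Function.Surjective ev := fun z => by
    obtain ⟨a, s, -, rfl⟩ := MorLib.RUH.exists_eq_ev_div x z
    exact ⟨a / s, map_div₀ ev.hom a s⟩
  haveI : IsIso ev := (ConcreteCategory.isIso_iff_bijective ev).2 ⟨ev.hom.injective, hsurj⟩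
  haveI : IsIso (S.fromSpecResidueField x) := by
    rw [← MorLib.RUH.SpecMap_ev x]; exact inferInstanceAs (IsIso (Spec.map ev))
  haveI : IsAlgClosed (S.residueField x) :=
    IsAlgClosed.of_ringEquiv Ω _ (RingEquiv.ofBijective ev.hom ⟨ev.hom.injective, hsurj⟩)
  let sep := CommRingCat.ofHom (algebraMap (S.residueField x) (SeparableClosure (S.residueField x)))
  haveI : IsIso sep := (ConcreteCategory.isIso_iff_bijective sep).2
    ⟨sep.hom.injective, IsSepClosed.algebraMap_surjective _ _⟩
  let e : MoreMor.geomFiber q x ≅ Z :=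
    asIso (pullback.fst (q.fiberToSpecResidueField x) (Spec.map sep)) ≪≫
      asIso (pullback.fst q (S.fromSpecResidueField x))
  let h := (Scheme.homeoOfIso e)
  show ENat.card (_root_.ConnectedComponents ↥(MoreMor.geomFiber q x)) ≤ 1 ↔ _
  rw [ENat.card_le_one_iff_subsingleton]
  constructor
  · intro hs
    have hp : PreconnectedSpace ↥(MoreMor.geomFiber q x) := by
      refine ⟨?_⟩
      rcases isEmpty_or_nonempty ↥(MoreMor.geomFiber q x) with he | ⟨⟨y⟩⟩
      · rw [Set.univ_eq_empty_iff.2 he]; exact isPreconnected_empty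
      · have : connectedComponent y = Set.univ := Set.eq_univ_of_forall fun z =>
          _root_.ConnectedComponents.coe_eq_coe'.1 (hs.elim (↑z) (↑y))
        rw [← this]; exact isPreconnected_connectedComponent
    refine ⟨?_⟩
    have h2 := hp.isPreconnected_univ.image h h.continuous.continuousOn
    rwa [Set.image_univ, h.surjective.range_eq] at h2
  · intro hp
    haveI : PreconnectedSpace ↥(MoreMor.geomFiber q x) := by
      refine ⟨?_⟩
      have h2 := hp.isPreconnected_univ.image h.symm h.symm.continuous.continuousOn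
      rwa [Set.image_univ, h.symm.surjective.range_eq] at h2
    infer_instance

/-- Connectedness of geometric fibres, pointwise. -/
theorem preconnected_iff {X S : Scheme.{u}} (f : X ⟶ S) {Ω : Type u} [Field Ω] [IsAlgClosed Ω]
    (t : Spec (CommRingCat.of Ω) ⟶ S) :
    PreconnectedSpace ↥(pullback f t) ↔ MoreMor.nGeomConnComp f (t (IsLocalRing.closedPoint Ω)) ≤ 1 := by
  rw [← nGeomConnComp_le_one_iff (pullback.snd f t),
    Groth.Agent.S1335.result f (pullback.snd f t) (pullback.fst f t) t (IsPullback.of_hasPullback f t)]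

theorem cc_of_isConstructible {X : Type u} [TopologicalSpace X] [CompactSpace X] [QuasiSeparatedSpace X]
    {s : Set X} (hs : IsConstructible s) : SpecLib.CC s ∧ SpecLib.CO s := by
  induction hs using IsConstructible.empty_union_induction with
  | open_retrocompact U hU hU' =>
    exact ⟨SpecLib.cc_of_isOpen_isCompact hU hU'.isCompact, SpecLib.co_of_isOpen_isCompact hU hU'.isCompact⟩
  | union s t _ _ hs ht => exact ⟨@IsClosed.union X _ _ (constructibleTopology X) hs.1 ht.1, @IsOpen.union X _ _ (constructibleTopology X) hs.2 ht.2⟩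
  | compl s _ hs => exact ⟨@IsOpen.isClosed_compl X (constructibleTopology X) s hs.2, hs.1.isOpen_compl⟩

end Groth.Agent.S18877

namespace Groth.Agent.S18877

open AlgebraicGeometry CategoryTheory CategoryTheory.Limits TopologicalSpace

open CategoryTheory AlgebraicGeometry in
/-- Let S = lim S_i be a cofiltered limit of Noetherian schemes with affine transition morphisms, let X₀
→ S_{i₀} be a scheme of finite type over one stage and X → S its base change to the limit. If all
geometric fibres of X → S are connected, then for some stage S_i → S_{i₀} all geometric fibres of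
the base change X₀ ×_{S_{i₀}} S_i → S_i are connected. (Connected is read so as to allow the empty
fibre: the underlying space of each geometric fibre is preconnected; the geometric fibre of X₀
×_{S_{i₀}} S_i over Spec Ω → S_i is written as the pullback of X₀ → S_{i₀} along Spec Ω → S_i →
S_{i₀}.) -/
theorem result {I : Type u} [SmallCategory I] [IsCofiltered I]
    (D : I ⥤ Scheme.{u}) (c : Limits.Cone D) (hc : Limits.IsLimit c)
    [∀ (i j : I) (a : i ⟶ j), IsAffineHom (D.map a)] [∀ i : I, AlgebraicGeometry.IsNoetherian (D.obj i)]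
    (i₀ : I) {X₀ : Scheme.{u}} (f₀ : X₀ ⟶ D.obj i₀) [QuasiCompact f₀] [LocallyOfFiniteType f₀]
    {X : Scheme.{u}} (f : X ⟶ c.pt) (q : X ⟶ X₀) (hX : IsPullback q f f₀ (c.π.app i₀))
    (hconn : ∀ (Ω : Type u) [Field Ω] [IsAlgClosed Ω] (t : Spec (CommRingCat.of Ω) ⟶ c.pt),
      PreconnectedSpace ↥(Limits.pullback f t)) :
    ∃ (i : I) (a : i ⟶ i₀), ∀ (Ω : Type u) [Field Ω] [IsAlgClosed Ω] (t : Spec (CommRingCat.of Ω) ⟶ D.obj i),
      PreconnectedSpace ↥(Limits.pullback f₀ (t ≫ D.map a)) := by
  haveI : LocallyOfFinitePresentation f₀ := inferInstance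
  haveI : IsLocallyNoetherian X₀ := LocallyOfFiniteType.isLocallyNoetherian f₀
  haveI : QuasiSeparated f₀ := inferInstance
  let G : Set (D.obj i₀) := {y | MoreMor.nGeomConnComp f₀ y = 0} ∪ {y | MoreMor.nGeomConnComp f₀ y = 1}
  have hG : ∀ y, MoreMor.nGeomConnComp f₀ y ≤ 1 ↔ y ∈ G := fun y => by
    show _ ↔ _ = 0 ∨ _ = 1
    rw [ENat.le_one_iff_eq_zero_or_eq_one]
  have hGc : Topology.IsConstructible G :=
    ((Groth.Agent.S1339.result f₀ 0).isConstructible).union ((Groth.Agent.S1339.result f₀ 1).isConstructible)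
  obtain ⟨hlim⟩ := Groth.Agent.S2152.result D c hc
  have hcG := cc_of_isConstructible hGc
  have hu := cc_of_isConstructible (Topology.IsConstructible.univ (X := D.obj i₀))
  have h0 : (Scheme.forgetToTop.mapCone c).π.app i₀ ⁻¹' Set.univ ⊆
      (Scheme.forgetToTop.mapCone c).π.app i₀ ⁻¹' G := fun s _ => by
    obtain ⟨Ω, _, _, t, ht⟩ : ∃ (Ω : Type u) (_ : Field Ω) (_ : IsAlgClosed Ω)
        (t : Spec (CommRingCat.of Ω) ⟶ c.pt), t (IsLocalRing.closedPoint Ω) = (s : c.pt) := by
      let k := c.pt.residueField s
      refine ⟨AlgebraicClosure k, inferInstance, inferInstance,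
        Spec.map (CommRingCat.ofHom (algebraMap k (AlgebraicClosure k))) ≫ c.pt.fromSpecResidueField s, ?_⟩
      exact Scheme.fromSpecResidueField_apply s _
    have h1 := (preconnected_iff f t).1 (hconn Ω t)
    rw [ht, Groth.Agent.S1335.result f₀ f q (c.π.app i₀) hX] at h1
    exact (hG _).1 h1
  obtain ⟨j, a, ha⟩ := (SpecLib.preimage_subset_iff (Scheme.forgetToTop.mapCone c) hlim
    (fun j => show SpectralSpace (D.obj j) from { })
    (fun {i j} a => quasiCompact_iff_isSpectralMap.1 (inferInstance : QuasiCompact (D.map a)))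
    i₀ hu.1 hcG.2).1 h0
  refine ⟨j, a, fun Ω _ _ t => (preconnected_iff f₀ (t ≫ D.map a)).2 ((hG _).2 ?_)⟩
  exact ha (show t (IsLocalRing.closedPoint Ω) ∈ (D.map a) ⁻¹' Set.univ from trivial)

end Groth.Agent.S18877
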