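import Groth.Statements.S18878
import Groth.Agent.GrpLimLib.Subgroup
import Groth.Agent.AlgSpPts.Sep

set_option linter.style.haveILetI false

set_option autoImplicit false
universe u
open Lim

open CategoryTheory CategoryTheory.Limits MonoidalCategory CartesianMonoidalCategory MonObj AlgebraicGeometry
open Groth.Agent Groth.Agent.GrpLimLib.Subgroup

namespace Groth.Agent.S18878

open CategoryTheory AlgebraicGeometry in
/-- Let S = lim S_i be a cofiltered limit of schemes with affine transition morphisms over a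
quasi-compact quasi-separated stage S_{i₀}, let G₀ be a group scheme separated and of finite
presentation over S_{i₀} and H₀ ⊆ G₀ a closed subscheme whose immersion is of finite presentation,
and write G, H (resp. G_i, H_i) for the base changes to S (resp. to a stage S_i). If H is a closed
subgroup scheme of G, that is H carries a group structure over S for which H → G is a homomorphism,
then H_i is a closed subgroup scheme of G_i for some stage i → i₀; if moreover H is normal in G, the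
stage can be chosen so that H_i is normal in G_i. (The published statement is for separated finitely
presented group algebraic spaces and an arbitrary closed subspace H₀; this row is the case of
schemes and assumes H₀ → G₀ of finite presentation: over the limit Spec k of the spectra of k[x_1,
x_2, …]/(x_1, …, x_n), k of characteristic zero, the closed subscheme of the additive group cut out
by all x_m t^m becomes the whole additive group over Spec k but is a subgroup over no stage, so a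
finiteness condition on H₀ is needed, and finite presentation is what the published limit argument
uses.) -/
theorem result
    {I : Type u} [SmallCategory I] [IsCofiltered I]
    (D : I ⥤ Scheme.{u}) (c : Limits.Cone D) (hc : Limits.IsLimit c)
    [∀ (i j : I) (a : i ⟶ j), IsAffineHom (D.map a)] (i₀ : I)
    [CompactSpace (D.obj i₀)] [QuasiSeparatedSpace (D.obj i₀)]
    (G₀ : Over (D.obj i₀)) [GrpObj G₀] [IsSeparated G₀.hom] [QuasiCompact G₀.hom]
    [LocallyOfFinitePresentation G₀.hom]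
    (H₀ : Over (D.obj i₀)) (ι₀ : H₀ ⟶ G₀) [IsClosedImmersion ι₀.left]
    [LocallyOfFinitePresentation ι₀.left]
    (hH : ∃ _ : GrpObj (Red.bc (c.π.app i₀) H₀), IsMonHom ((Over.pullback (c.π.app i₀)).map ι₀)) :
    (∃ (i : I) (a : i ⟶ i₀) (_ : GrpObj (Red.bc (D.map a) H₀)),
        IsMonHom ((Over.pullback (D.map a)).map ι₀)) ∧
    ((∃ (_ : GrpObj (Red.bc (c.π.app i₀) H₀)) (_ : IsMonHom ((Over.pullback (c.π.app i₀)).map ι₀)),
        AlgGrp.IsNormalHom ((Over.pullback (c.π.app i₀)).map ι₀)) →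
      ∃ (i : I) (a : i ⟶ i₀) (_ : GrpObj (Red.bc (D.map a) H₀))
        (_ : IsMonHom ((Over.pullback (D.map a)).map ι₀)),
        AlgGrp.IsNormalHom ((Over.pullback (D.map a)).map ι₀)) := by
  haveI : QuasiCompact H₀.hom := by rw [← Over.w ι₀]; infer_instance
  haveI : QuasiSeparated H₀.hom := by rw [← Over.w ι₀]; infer_instance
  haveI : QuasiCompact (H₀ ⊗ H₀).hom :=
    inferInstanceAs (QuasiCompact (Limits.pullback.fst H₀.hom H₀.hom ≫ H₀.hom))
  haveI : QuasiSeparated (H₀ ⊗ H₀).hom :=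
    inferInstanceAs (QuasiSeparated (Limits.pullback.fst H₀.hom H₀.hom ≫ H₀.hom))
  haveI : QuasiCompact (G₀ ⊗ H₀).hom :=
    inferInstanceAs (QuasiCompact (Limits.pullback.fst G₀.hom H₀.hom ≫ G₀.hom))
  haveI : QuasiSeparated (G₀ ⊗ H₀).hom :=
    inferInstanceAs (QuasiSeparated (Limits.pullback.fst G₀.hom H₀.hom ≫ G₀.hom))
  haveI : QuasiCompact (𝟙_ (Over (D.obj i₀))).hom := inferInstanceAs (QuasiCompact (𝟙 (D.obj i₀)))
  haveI : QuasiSeparated (𝟙_ (Over (D.obj i₀))).hom := inferInstanceAs (QuasiSeparated (𝟙 (D.obj i₀)))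
  have mono_comp : ∀ {i i' : I} (f : i ⟶ i₀) (g : i' ⟶ i) {P : Over (D.obj i₀)} {C : P ⟶ G₀},
      LiftC ι₀ (D.map f) C → LiftC ι₀ (D.map (g ≫ f)) C := by
    intro i i' f g P C hl
    rw [D.map_comp]; exact hl.comp ι₀ _ _
  obtain ⟨h1, h2, h3⟩ := (isSub_iff ι₀ _).2 hH
  obtain ⟨i₁, f₁, l₁⟩ := exists_liftC D hc ι₀ _ h1
  obtain ⟨i₂, f₂, l₂⟩ := exists_liftC D hc ι₀ _ h2
  obtain ⟨i₃, f₃, l₃⟩ := exists_liftC D hc ι₀ _ h3
  obtain ⟨i₄, f₄, g₁, g₂, e₁, e₂⟩ := GrpLimLib.exists_common f₁ f₂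
  obtain ⟨i₅, f₅, g₃, g₄, e₃, e₄⟩ := GrpLimLib.exists_common f₄ f₃
  have hsub : ∀ {i : I} (g : i ⟶ i₅), IsSub ι₀ (D.map (g ≫ f₅)) := fun g => by
    refine ⟨mono_comp f₅ g ?_, mono_comp f₅ g ?_, mono_comp f₅ g ?_⟩
    · rw [← e₃, ← e₁]; exact mono_comp _ _ (mono_comp _ _ l₁)
    · rw [← e₃, ← e₂]; exact mono_comp _ _ (mono_comp _ _ l₂)
    · rw [← e₄]; exact mono_comp _ _ l₃
  refine ⟨?_, fun hn => ?_⟩
  · obtain ⟨hg, hm⟩ := (isSub_iff ι₀ _).1 (hsub (𝟙 i₅))
    exact ⟨i₅, 𝟙 i₅ ≫ f₅, hg, hm⟩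
  · obtain ⟨_, _, hn⟩ := hn
    obtain ⟨i₆, f₆, l₆⟩ := exists_liftC D hc ι₀ _ ((isNormalHom_iff ι₀ _).1 hn)
    obtain ⟨i, f, g, g', e, e'⟩ := GrpLimLib.exists_common f₅ f₆
    obtain ⟨hg, hm⟩ := (isSub_iff ι₀ _).1 (hsub g)
    refine ⟨i, g ≫ f₅, hg, hm, ?_⟩
    letI := hg
    refine (isNormalHom_iff ι₀ _).2 ?_
    rw [e, ← e']
    exact mono_comp _ _ l₆

end Groth.Agent.S18878
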