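import Groth.Statements.S18879
import Mathlib
import Groth.Agent.Approx.DimBound

set_option autoImplicit false
universe u
open CategoryTheory AlgebraicGeometry
open Resolve

namespace Groth.Agent.S18879

/-- Let f : Y ⟶ X be a morphism locally of finite type between Noetherian separated schemes which is
birational: it maps the maximal points of Y bijectively onto the maximal points of X, and over every
maximal point of X its fibre is one point with the same residue field. Then for every point y of Y,
the Krull dimension of the local ring of Y at y is at most the Krull dimension of the local ring of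
X at f y (the codimension of a point does not increase along f). -/
theorem result {X Y : Scheme.{u}} (f : Y ⟶ X)
    [IsNoetherian X] [X.IsSeparated] [IsNoetherian Y] [Y.IsSeparated] [LocallyOfFiniteType f]
    (hf : RadPt.IsBirational f) (y : Y) :
    ringKrullDim (Y.presheaf.stalk y) ≤ ringKrullDim (X.presheaf.stalk (f.base y)) := by
  obtain ⟨hb, hiso⟩ := hf
  have h2 := Approx.DimBound.codim_add_rd_le f y 0 fun ξ h h' =>
    Approx.DimBound.rd_le_of_trdeg (n := 0) f (by
      letI := (f.residueFieldMap ξ).hom.toAlgebra
      have hbij := (hiso _ (hb.mapsTo (show ξ ∈ genericPoints Y from h))).2 ξ rfl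
      haveI : Algebra.IsAlgebraic (X.residueField (f.base ξ)) (Y.residueField ξ) :=
        ⟨fun z => by obtain ⟨a, rfl⟩ := hbij.2 z; exact isAlgebraic_algebraMap a⟩
      simpa using (trdeg_eq_zero (R := X.residueField (f.base ξ)) (A := Y.residueField ξ)).le)
  rw [DimFormula.ringKrullDim_stalk, DimFormula.ringKrullDim_stalk]
  simp only [Nat.cast_zero, add_zero] at h2
  exact_mod_cast le_self_add.trans h2

end Groth.Agent.S18879
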