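import Groth.Statements.S1888
import Groth.Agent.GrpdLib.Translate

set_option backward.isDefEq.respectTransparency false
set_option backward.isDefEq.respectTransparency.types false
-- import your own Groth.Agent.* helpers here

set_option autoImplicit false
universe u
open CategoryTheory CategoryTheory.Limits AlgebraicGeometry
open Grpd

namespace Groth.Agent.S1888

/-- Let (U, R, s, t, c) be a groupoid scheme over S with U the spectrum of a field k, and r a point of R
such that both s and t induce isomorphisms from k to κ(r). Then there is an automorphism of the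
scheme R carrying the identity point e to r. (The source's automorphism is x ↦ c(r, x); only the
existence of an automorphism moving e to r is stated here.) (A groupoid scheme carries U, R, s, t,
c, e, i over S with the groupoid axioms on T-points; 'finite locally free' is finite, flat and
locally of finite presentation; C ⊂ Γ(U) is the ring of functions a with s♯(a) = t♯(a) and M = Spec
C.) -/
theorem result (S : Scheme.{u}) (G : Grpd.GroupoidScheme S) (k : Type u) [Field k] (eU : G.U ≅ Spec (CommRingCat.of k)) (r : G.R) (hs : IsIso (G.s.residueFieldMap r)) (ht : IsIso (G.t.residueFieldMap r)) : ∃ φ : G.R ≅ G.R, φ.hom (G.e (eU.inv (IsLocalRing.closedPoint k))) = r := by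
  have : Subsingleton G.U := eU.hom.homeomorph.subsingleton
  have : Nonempty G.U := ⟨eU.inv (IsLocalRing.closedPoint k)⟩
  have : IsReduced G.U := isReduced_of_isOpenImmersion eU.hom
  have hiso : ∀ x : G.U, IsIso (G.U.fromSpecResidueField x) := fun x => by
    have : Surjective (G.U.fromSpecResidueField x) :=
      ⟨fun y => ⟨IsLocalRing.closedPoint _, Subsingleton.elim _ _⟩⟩
    have : IsClosedImmersion (G.U.fromSpecResidueField x) :=
      AlgebraicGeometry.isClosed_singleton_iff_isClosedImmersion.1
        (Set.Subsingleton.isClosed Set.subsingleton_singleton)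
    exact isIso_of_isClosedImmersion_of_surjective _
  let j := G.R.fromSpecResidueField r
  have hjs : IsIso (j ≫ G.s) := by
    rw [← Scheme.Hom.SpecMap_residueFieldMap_fromSpecResidueField]
    have := hiso (G.s r)
    infer_instance
  have hjt : IsIso (j ≫ G.t) := by
    rw [← Scheme.Hom.SpecMap_residueFieldMap_fromSpecResidueField]
    have := hiso (G.t r)
    infer_instance
  let ρ : G.U ⟶ G.R := inv (j ≫ G.s) ≫ j
  have hρs : ρ ≫ G.s = 𝟙 _ := by simp [ρ]
  let τ : G.U ⟶ G.U := ρ ≫ G.t
  have : IsIso τ := by
    rw [show τ = inv (j ≫ G.s) ≫ (j ≫ G.t) by simp [τ, ρ]]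
    infer_instance
  have := GrpdLib.isIso_translate G ρ hρs (inv τ) (IsIso.inv_hom_id τ)
    ((Category.assoc _ _ _).symm.trans (IsIso.hom_inv_id τ))
  refine ⟨asIso (GrpdLib.translate G ρ hρs), ?_⟩
  show GrpdLib.translate G ρ hρs (G.e _) = r
  rw [← Scheme.Hom.comp_apply, GrpdLib.translate_e, Scheme.Hom.comp_apply]
  exact Scheme.fromSpecResidueField_apply _ _
end Groth.Agent.S1888
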