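import Groth.Statements.S18884


set_option autoImplicit false
set_option backward.isDefEq.respectTransparency false
set_option backward.isDefEq.respectTransparency.types false
universe v u w
open CategoryTheory CategoryTheory.Limits
open Desc

namespace Groth.Agent.S18884

/-- Let C be a category with pullbacks equipped with a class W of morphisms, the covers, stable under
base change and under composition. An abelian cosheaf is a functor F : C ⥤ Ab such that for every
cover π : Y ⟶ X the map F(π) is surjective and its kernel is the image of F(p₁) − F(p₂), where p₁,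
p₂ : Y ×_X Y ⟶ Y are the two projections. If D is a full subcategory of C such that every object of
C is the target of a cover whose source lies in D, then the restriction functor from the full
subcategory of abelian cosheaves in C ⥤ Ab to D ⥤ Ab is full and faithful. -/
theorem result {C : Type u} [Category.{v} C]
    [HasPullbacks C] (W : MorphismProperty C) [W.IsStableUnderBaseChange] [W.IsStableUnderComposition]
    (D : ObjectProperty C) (hD : ∀ X : C, ∃ (Y : C) (π : Y ⟶ X), W π ∧ D Y) :
    (ObjectProperty.ι (fun F : C ⥤ AddCommGrpCat.{w} =>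
        ∀ ⦃Y X : C⦄ (π : Y ⟶ X), W π → Function.Surjective (F.map π).hom ∧
          (F.map π).hom.ker = ((F.map (pullback.fst π π)).hom - (F.map (pullback.snd π π)).hom).range) ⋙
      (Functor.whiskeringLeft D.FullSubcategory C AddCommGrpCat.{w}).obj D.ι).Full ∧
    (ObjectProperty.ι (fun F : C ⥤ AddCommGrpCat.{w} =>
        ∀ ⦃Y X : C⦄ (π : Y ⟶ X), W π → Function.Surjective (F.map π).hom ∧
          (F.map π).hom.ker = ((F.map (pullback.fst π π)).hom - (F.map (pullback.snd π π)).hom).range) ⋙
      (Functor.whiskeringLeft D.FullSubcategory C AddCommGrpCat.{w}).obj D.ι).Faithful := by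
  let P : ObjectProperty (C ⥤ AddCommGrpCat.{w}) := fun F =>
    ∀ ⦃Y X : C⦄ (π : Y ⟶ X), W π → Function.Surjective (F.map π).hom ∧
      (F.map π).hom.ker = ((F.map (pullback.fst π π)).hom - (F.map (pullback.snd π π)).hom).range
  choose Y π hW hYD using hD
  have hc : ∀ (F : C ⥤ AddCommGrpCat.{w}) {A B E : C} (k : A ⟶ B) (l : B ⟶ E) (z : F.obj A),
      F.map l (F.map k z) = F.map (k ≫ l) z := fun F _ _ _ k l z => by
    rw [Functor.map_comp, CategoryTheory.comp_apply]
  refine ⟨⟨fun {F G} α => ?_⟩, ⟨fun {F G} f g h => ?_⟩⟩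
  · let β : ∀ Z : D.FullSubcategory, F.obj.obj Z.obj ⟶ G.obj.obj Z.obj := fun Z => α.app Z
    have hβ : ∀ {Z Z' : C} (hZ : D Z) (hZ' : D Z') (k : Z ⟶ Z') (z : F.obj.obj Z),
        β ⟨Z', hZ'⟩ (F.obj.map k z) = G.obj.map k (β ⟨Z, hZ⟩ z) := fun {Z Z'} hZ hZ' k z =>
      congrArg (fun q => q z) (α.naturality (X := ⟨Z, hZ⟩) (Y := ⟨Z', hZ'⟩) (ObjectProperty.homMk k))
    have hker : ∀ (X : C) (y : F.obj.obj (Y X)), F.obj.map (π X) y = 0 → G.obj.map (π X) (β ⟨_, hYD X⟩ y) = 0 := by
      intro X y hy
      have hy' : y ∈ (F.obj.map (π X)).hom.ker := hy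
      rw [(F.property (π X) (hW X)).2] at hy'
      obtain ⟨w, rfl⟩ := hy'
      obtain ⟨z, rfl⟩ := (F.property (π _) (hW (pullback (π X) (π X)))).1 w
      let a := π (pullback (π X) (π X)) ≫ pullback.fst (π X) (π X)
      let b := π (pullback (π X) (π X)) ≫ pullback.snd (π X) (π X)
      have hab : a ≫ π X = b ≫ π X := by simp only [a, b, Category.assoc, pullback.condition]
      have e : ((F.obj.map (pullback.fst (π X) (π X))).hom - (F.obj.map (pullback.snd (π X) (π X))).hom)
          ((F.obj.map (π (pullback (π X) (π X)))).hom z) = F.obj.map a z - F.obj.map b z := by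
        simp only [a, b, Functor.map_comp]; rfl
      rw [e, map_sub, map_sub, hβ (hYD _) (hYD X) a, hβ (hYD _) (hYD X) b, hc G.obj a, hc G.obj b, hab, sub_self]
    choose s hs using fun X => (F.property (π X) (hW X)).1
    have key : ∀ (X : C) (y : F.obj.obj (Y X)),
        G.obj.map (π X) (β ⟨_, hYD X⟩ (s X (F.obj.map (π X) y))) = G.obj.map (π X) (β ⟨_, hYD X⟩ y) := fun X y => by
      rw [← sub_eq_zero, ← map_sub, ← map_sub]
      refine hker X _ ?_
      rw [map_sub, sub_eq_zero]
      exact hs X _
    let φ : ∀ X, F.obj.obj X →+ G.obj.obj X := fun X => AddMonoidHom.mk'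
      (fun x => G.obj.map (π X) (β ⟨_, hYD X⟩ (s X x))) fun x x' => by
        rw [← map_add, ← map_add]
        conv_lhs => rw [← hs X x, ← hs X x', ← map_add]
        exact key X _
    have hnat : ∀ {X' X : C} (g : X' ⟶ X) (x : F.obj.obj X'), φ X (F.obj.map g x) = G.obj.map g (φ X' x) := by
      intro X' X g x
      let Q := pullback (π X' ≫ g) (π X)
      let a := π Q ≫ pullback.fst (π X' ≫ g) (π X)
      let b := π Q ≫ pullback.snd (π X' ≫ g) (π X)
      have hWa : W a := W.comp_mem _ _ (hW Q) (MorphismProperty.pullback_fst _ _ (hW X))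
      have hab : a ≫ π X' ≫ g = b ≫ π X := by simp only [a, b, Category.assoc, pullback.condition]
      obtain ⟨z, hz⟩ := (F.property a hWa).1 (s X' x)
      have hx : F.obj.map g x = F.obj.map (π X) (F.obj.map b z) := by
        rw [hc F.obj b, ← hab, ← hc F.obj a, ← hc F.obj (π X') g]
        exact congrArg (F.obj.map g) ((hs X' x).symm.trans (congrArg _ hz.symm))
      show G.obj.map (π X) (β ⟨_, hYD X⟩ (s X (F.obj.map g x))) = G.obj.map g (G.obj.map (π X') (β ⟨_, hYD X'⟩ (s X' x)))
      rw [hx, key, hβ (hYD Q) (hYD X) b,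
        show s X' x = F.obj.map a z from hz.symm, hβ (hYD Q) (hYD X') a, hc G.obj b, hc G.obj a (π X'),
        hc G.obj (a ≫ π X') g, Category.assoc a (π X') g, hab]
    refine ⟨ObjectProperty.homMk
      { app := fun X => AddCommGrpCat.ofHom (φ X)
        naturality := fun X' X g => AddCommGrpCat.hom_ext (AddMonoidHom.ext fun x => hnat g x) }, ?_⟩
    refine NatTrans.ext (funext fun Z => AddCommGrpCat.hom_ext (AddMonoidHom.ext fun x => ?_))
    show G.obj.map (π Z.obj) (β ⟨_, hYD Z.obj⟩ (s Z.obj x)) = β Z x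
    rw [← hβ (hYD Z.obj) Z.property (π Z.obj)]
    exact congrArg _ (hs Z.obj x)
  · refine ObjectProperty.hom_ext _ (NatTrans.ext (funext fun X => AddCommGrpCat.hom_ext (AddMonoidHom.ext fun x => ?_)))
    obtain ⟨y, rfl⟩ := (F.property (π X) (hW X)).1 x
    have h1 : f.hom.app (Y X) y = g.hom.app (Y X) y :=
      congrArg (fun q => q y) (congrArg (fun k => NatTrans.app k ⟨Y X, hYD X⟩) h)
    show f.hom.app X (F.obj.map (π X) y) = g.hom.app X (F.obj.map (π X) y)
    rw [NatTrans.naturality_apply, NatTrans.naturality_apply, h1]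

end Groth.Agent.S18884
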