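import Groth.Statements.S18888
import Mathlib

set_option autoImplicit false
universe u v w
open CAlg

namespace Groth.Agent.S18888

/-- Let A be a unique factorisation domain in which 2 is invertible, with fraction field K, and let L ⊇
K be a quadratic extension field (of degree 2 over K) containing an element y ∉ K whose square is a
squarefree element d of A. Then the integral closure of A in L equals the A-subalgebra A[y]
generated by y. -/
theorem result {A : Type u} {K : Type v} {L : Type w}
    [CommRing A] [IsDomain A] [UniqueFactorizationMonoid A] [Field K] [Algebra A K] [IsFractionRing A K]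
    [Field L] [Algebra K L] [Algebra A L] [IsScalarTower A K L]
    (h2 : IsUnit (2 : A)) (hL : Module.finrank K L = 2)
    (d : A) (hd : Squarefree d) (y : L) (hy : y * y = algebraMap A L d)
    (hyK : y ∉ Set.range (algebraMap K L)) :
    integralClosure A L = Algebra.adjoin A {y} := by
  classical
  have hK : Function.Injective (algebraMap K L) := (algebraMap K L).injective
  haveI : FiniteDimensional K L := Module.finite_of_finrank_eq_succ hL
  have hy' : y * y = algebraMap K L (algebraMap A K d) := by rw [hy, IsScalarTower.algebraMap_apply A K L]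
  have hspan : ∀ z : L, ∃ a b : K, z = algebraMap K L a + algebraMap K L b * y := by
    have hli : LinearIndependent K ![(1 : L), y] := by
      rw [LinearIndependent.pair_iff]
      intro s t hst
      by_cases ht : t = 0
      · subst ht
        simp only [zero_smul, add_zero, smul_eq_zero, one_ne_zero, or_false] at hst
        exact ⟨hst, rfl⟩
      · exfalso
        refine hyK ⟨-(t⁻¹ * s), ?_⟩
        have h' := congrArg (t⁻¹ • ·) hst
        simp only [smul_add, smul_smul, inv_mul_cancel₀ ht, one_smul, smul_zero] at h'
        rw [map_neg, Algebra.algebraMap_eq_smul_one]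
        exact (eq_neg_of_add_eq_zero_right h').symm
    let bas := basisOfLinearIndependentOfCardEqFinrank hli (by simp [hL])
    intro z
    refine ⟨bas.repr z 0, bas.repr z 1, ?_⟩
    conv_lhs => rw [← bas.sum_repr z]
    simp [bas, Fin.sum_univ_two, Algebra.smul_def]
  have hyint : IsIntegral A y := IsIntegral.of_pow two_pos (by rw [pow_two, hy]; exact isIntegral_algebraMap)
  -- the conjugation `y ↦ -y`
  have hcoef : ∀ a b : K, algebraMap K L a + algebraMap K L b * y = 0 → a = 0 ∧ b = 0 := by
    intro a b h
    by_cases hb : b = 0
    · subst hb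
      simp at h
      exact ⟨h, rfl⟩
    · exfalso
      refine hyK ⟨-(a / b), ?_⟩
      have hb' : algebraMap K L b ≠ 0 := (map_ne_zero_iff _ hK).2 hb
      rw [map_neg, map_div₀]
      field_simp
      linear_combination -h
  have hmul : ∀ a b a' b' : K, (algebraMap K L a + algebraMap K L b * y) * (algebraMap K L a' + algebraMap K L b' * y) =
      algebraMap K L (a * a' + b * b' * algebraMap A K d) + algebraMap K L (a * b' + b * a') * y := by
    intros a b a' b'
    simp only [map_add, map_mul]
    linear_combination algebraMap K L b * algebraMap K L b' * hy'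
  choose ca cb hcab using hspan
  have huniq : ∀ a b, ca (algebraMap K L a + algebraMap K L b * y) = a ∧ cb (algebraMap K L a + algebraMap K L b * y) = b := by
    intro a b
    have h := hcoef (ca (algebraMap K L a + algebraMap K L b * y) - a) (cb (algebraMap K L a + algebraMap K L b * y) - b) (by
      rw [map_sub, map_sub]; linear_combination -(hcab (algebraMap K L a + algebraMap K L b * y)))
    exact ⟨sub_eq_zero.1 h.1, sub_eq_zero.1 h.2⟩
  let σ : L →ₐ[A] L :=
    { toFun := fun z => algebraMap K L (ca z) - algebraMap K L (cb z) * y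
      map_one' := by
        obtain ⟨h1, h2⟩ := huniq 1 0
        simp only [map_one, map_zero, zero_mul, add_zero] at h1 h2
        simp [h1, h2]
      map_zero' := by
        obtain ⟨h1, h2⟩ := huniq 0 0
        simp only [map_zero, zero_mul, add_zero] at h1 h2
        simp [h1, h2]
      map_mul' := fun z w => by
        have hzw := hmul (ca z) (cb z) (ca w) (cb w)
        rw [← hcab z, ← hcab w] at hzw
        obtain ⟨h1, h2⟩ := huniq (ca z * ca w + cb z * cb w * algebraMap A K d) (ca z * cb w + cb z * ca w)
        rw [← hzw] at h1 h2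
        simp only [h1, h2, map_add, map_mul]
        linear_combination -(algebraMap K L (cb z) * algebraMap K L (cb w)) * hy'
      map_add' := fun z w => by
        obtain ⟨h1, h2⟩ := huniq (ca z + ca w) (cb z + cb w)
        have e : z + w = algebraMap K L (ca z + ca w) + algebraMap K L (cb z + cb w) * y := by
          conv_lhs => rw [hcab z, hcab w]
          simp only [map_add]; ring
        rw [← e] at h1 h2
        simp only [h1, h2, map_add]; ring
      commutes' := fun a => by
        obtain ⟨h1, h2⟩ := huniq (algebraMap A K a) 0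
        rw [map_zero, zero_mul, add_zero, ← IsScalarTower.algebraMap_apply] at h1 h2
        simp [h1, h2, ← IsScalarTower.algebraMap_apply A K L] }
  have hIC : ∀ c : K, IsIntegral A (algebraMap K L c) → ∃ a : A, algebraMap A K a = c := fun c hc =>
    IsIntegrallyClosed.isIntegral_iff.1 ((isIntegral_algebraMap_iff hK).1 hc)
  refine le_antisymm (fun z hz => ?_) (Algebra.adjoin_le (Set.singleton_subset_iff.2 hyint))
  have hzi : IsIntegral A z := hz
  have hσi : IsIntegral A (σ z) := hzi.map σ
  have hσz : σ z = algebraMap K L (ca z) - algebraMap K L (cb z) * y := rfl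
  obtain ⟨t, ht⟩ := hIC (2 * ca z) (by
    have h := hzi.add hσi
    rw [hσz] at h
    have e : algebraMap K L (2 * ca z) = z + (algebraMap K L (ca z) - algebraMap K L (cb z) * y) := by
      rw [map_mul, map_ofNat]
      linear_combination -(hcab z)
    rw [e]; exact h)
  obtain ⟨i2, hi2⟩ := h2.exists_right_inv
  let a : A := t * i2
  have ha : algebraMap A K a = ca z := by
    rw [map_mul, ht]
    have e : (2 : K) * algebraMap A K i2 = 1 := by
      rw [← map_ofNat (algebraMap A K) 2, ← map_mul, hi2, map_one]
    linear_combination ca z * e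
  obtain ⟨q, hq⟩ := hIC (ca z ^ 2 - cb z ^ 2 * algebraMap A K d) (by
    have h := hzi.mul hσi
    rw [hσz] at h
    have e : algebraMap K L (ca z ^ 2 - cb z ^ 2 * algebraMap A K d) =
        z * (algebraMap K L (ca z) - algebraMap K L (cb z) * y) := by
      simp only [map_sub, map_mul, map_pow]
      linear_combination (-(algebraMap K L (ca z) - algebraMap K L (cb z) * y)) * hcab z + (algebraMap K L (cb z)) ^ 2 * hy'
    rw [e]; exact h)
  obtain ⟨⟨⟨u, v⟩, huv⟩, huv'⟩ : ∃ w : {w : A × A // IsRelPrime w.1 w.2},
      algebraMap A K w.1.2 * cb z = algebraMap A K w.1.1 ∧ w.1.2 ≠ 0 := by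
    obtain ⟨u, v, hrel, hdiv⟩ := IsFractionRing.exists_reduced_fraction (A := A) (cb z)
    exact ⟨⟨(u, v), hrel⟩, by rw [← hdiv, IsLocalization.mk'_spec'], nonZeroDivisors.coe_ne_zero v⟩
  obtain ⟨huv', hv0⟩ := huv'
  have key : u ^ 2 * d = v ^ 2 * (a ^ 2 - q) := by
    apply IsFractionRing.injective A K
    simp only [map_mul, map_pow, map_sub, ha, hq, ← huv']
    ring
  have hdvd : v ^ 2 ∣ u ^ 2 * d := Dvd.intro _ key.symm
  have hvd : v ^ 2 ∣ d := (IsRelPrime.pow huv.symm : IsRelPrime (v ^ 2) (u ^ 2)).dvd_of_dvd_mul_left hdvd
  have hvu : IsUnit v := hd v (by rw [← pow_two]; exact hvd)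
  obtain ⟨v, rfl⟩ := hvu
  have hb : cb z = algebraMap A K (u * ↑v⁻¹) := by
    rw [map_mul, ← huv', mul_comm (algebraMap A K (v : A)) (cb z), mul_assoc, ← map_mul, Units.mul_inv, map_one, mul_one]
  rw [hcab z, ← ha, hb, ← IsScalarTower.algebraMap_apply, ← IsScalarTower.algebraMap_apply]
  exact add_mem (Subalgebra.algebraMap_mem _ _) (mul_mem (Subalgebra.algebraMap_mem _ _) (Algebra.subset_adjoin rfl))

end Groth.Agent.S18888
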