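import Groth.Statements.S18889
import Mathlib

set_option autoImplicit false
universe u v w
open CAlg

namespace Groth.Agent.S18889

/-- Let R be a commutative ring, A a commutative R-algebra of finite presentation, and G a finite group
acting on A by R-algebra automorphisms such that the order of G is invertible in R. Then the ring of
invariants A^G is an R-algebra of finite presentation. (The source takes G to be a group of
automorphisms of A; here G acts through a possibly non-faithful action, which changes nothing since
the invariants and the invertibility of the order only depend on the image of G.) -/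
theorem result {R : Type u} {A : Type v} [CommRing R] [CommRing A]
    [Algebra R A] [Algebra.FinitePresentation R A]
    {G : Type w} [Group G] [Finite G] [MulSemiringAction G A] [SMulCommClass G R A]
    (hG : IsUnit ((Nat.card G : ℕ) : R)) :
    Algebra.FinitePresentation R (FixedPoints.subalgebra R A G) := by
  classical
  cases nonempty_fintype G
  obtain ⟨v, hv⟩ := hG.exists_left_inv
  let B := FixedPoints.subalgebra R A G
  have hB : ∀ b : B, ∀ g : G, g • (b : A) = b := fun b => b.2
  obtain ⟨s, hs⟩ := (inferInstance : Algebra.FiniteType R A).out
  have hinv : ∀ (a : A) (g : G), g • MulSemiringAction.charpoly G a = MulSemiringAction.charpoly G a :=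
    fun a g => MulSemiringAction.smul_charpoly a g
  let σ := s × Fin (Fintype.card G + 1)
  let c : σ → A := fun z => (MulSemiringAction.charpoly G (z.1 : A)).coeff z.2
  have hc : ∀ z (g : G), g • c z = c z := fun z g => by
    show g • (MulSemiringAction.charpoly G (z.1 : A)).coeff z.2 = _
    rw [← Polynomial.coeff_smul, hinv]
  let P := MvPolynomial σ R
  letI : Algebra P A := (MvPolynomial.aeval c).toRingHom.toAlgebra
  letI : Algebra P B := (MvPolynomial.aeval (fun z => (⟨c z, hc z⟩ : B))).toRingHom.toAlgebra
  have hPA : ∀ p : P, algebraMap P A p = (algebraMap P B p : A) := fun p => by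
    have := MvPolynomial.comp_aeval (R := R) (fun z => (⟨c z, hc z⟩ : B)) B.val
    exact (AlgHom.congr_fun this p).symm
  have : IsScalarTower R P A := IsScalarTower.of_algebraMap_eq fun x => ((MvPolynomial.aeval c).commutes x).symm
  have : IsScalarTower R P B :=
    IsScalarTower.of_algebraMap_eq fun x => ((MvPolynomial.aeval (fun z => (⟨c z, hc z⟩ : B))).commutes x).symm
  have hcard : Fintype.card G < Fintype.card G + 1 := Nat.lt_succ_self _
  have : Algebra.FiniteType P A := Algebra.FiniteType.of_restrictScalars_finiteType R P A
  have : Algebra.IsIntegral P A := by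
    constructor
    have htop : ∀ a ∈ s, IsIntegral P a := fun a ha => by
      nontriviality A
      have hdeg : (MulSemiringAction.charpoly G a).natDegree = Fintype.card G := by
        rw [MulSemiringAction.charpoly_eq, Polynomial.natDegree_prod_of_monic _ _ fun g _ => Polynomial.monic_X_sub_C _]
        simp
      let q : Polynomial P := Polynomial.X ^ (Fintype.card G) +
        ∑ i ∈ Finset.range (Fintype.card G),
          Polynomial.C (MvPolynomial.X ((⟨a, ha⟩, ⟨min i (Fintype.card G), Nat.lt_succ_of_le (min_le_right _ _)⟩) : σ)) * Polynomial.X ^ i
      refine ⟨q, Polynomial.monic_X_pow_add (lt_of_le_of_lt (Polynomial.degree_sum_le _ _) ?_), ?_⟩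
      · exact (Finset.sup_lt_iff (WithBot.bot_lt_coe _)).2 fun i hi =>
          lt_of_le_of_lt (Polynomial.degree_C_mul_X_pow_le _ _) (WithBot.coe_lt_coe.2 (Finset.mem_range.1 hi))
      · have hq : q.map (algebraMap P A) = MulSemiringAction.charpoly G a := by
          conv_rhs => rw [(MulSemiringAction.monic_charpoly G a).as_sum, hdeg]
          simp only [q, Polynomial.map_add, Polynomial.map_pow, Polynomial.map_X, Polynomial.map_sum,
            Polynomial.map_mul, Polynomial.map_C]
          refine congrArg _ (Finset.sum_congr rfl fun i hi => ?_)
          congr 2
          refine (MvPolynomial.aeval_X c _).trans ?_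
          show (MulSemiringAction.charpoly G a).coeff _ = _
          show Polynomial.coeff _ (min i (Fintype.card G)) = _
          rw [min_eq_left (Finset.mem_range.1 hi).le]
        rw [← Polynomial.eval_map, hq]
        exact MulSemiringAction.eval_charpoly G a
    intro a
    have ha : a ∈ Algebra.adjoin R (s : Set A) := hs ▸ Algebra.mem_top
    exact (Algebra.adjoin_le (S := (integralClosure P A).restrictScalars R) htop) ha
  have : Module.Finite P A := Algebra.IsIntegral.finite
  have : Algebra.FinitePresentation P A := Algebra.FinitePresentation.of_restrict_scalars_finitePresentation R P A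
  have : Module.FinitePresentation P A := Module.FinitePresentation.of_finite_of_finitePresentation P A
  have hfix : ∀ a : A, ∀ g : G, g • (algebraMap R A v * ∑ h : G, h • a) = algebraMap R A v * ∑ h : G, h • a := by
    intro a g
    rw [smul_mul', smul_algebraMap, Finset.smul_sum]
    congr 1
    exact Fintype.sum_equiv (Equiv.mulLeft g) _ _ fun h => (mul_smul g h a).symm
  let ρ : A →ₗ[P] B :=
    { toFun := fun a => ⟨algebraMap R A v * ∑ h : G, h • a, hfix a⟩
      map_add' := fun a a' => Subtype.ext (by
        show _ = _ * _ + _ * _
        simp only [smul_add, Finset.sum_add_distrib, mul_add])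
      map_smul' := fun p a => Subtype.ext (by
        simp only [RingHom.id_apply, Algebra.smul_def]
        show _ = (algebraMap P B p : A) * (_ * _)
        simp only [smul_mul', hPA, hB, ← Finset.mul_sum]
        ring) }
  let ι : B →ₗ[P] A :=
    { toFun := fun b => b
      map_add' := fun _ _ => rfl
      map_smul' := fun p b => by
        simp only [RingHom.id_apply, Algebra.smul_def, hPA]
        rfl }
  have hρι : ρ.comp ι = LinearMap.id := LinearMap.ext fun b => Subtype.ext (by
    show algebraMap R A v * ∑ h : G, h • (b : A) = b
    simp only [hB, Finset.sum_const, Finset.card_univ, nsmul_eq_mul]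
    rw [← mul_assoc, ← map_natCast (algebraMap R A), ← map_mul, ← Nat.card_eq_fintype_card, hv, map_one, one_mul])
  have hsurj : Function.Surjective ρ := fun b => ⟨ι b, LinearMap.congr_fun hρι b⟩
  have hker : LinearMap.ker ρ = LinearMap.range (LinearMap.id - ι.comp ρ) := by
    ext a
    constructor
    · intro h; exact ⟨a, by simp [LinearMap.mem_ker.1 h]⟩
    · rintro ⟨a, rfl⟩
      rw [LinearMap.mem_ker, LinearMap.sub_apply, map_sub, LinearMap.id_apply, LinearMap.comp_apply,
        ← LinearMap.comp_apply (f := ρ) (g := ι), hρι, LinearMap.id_apply, sub_self]
  have : Module.FinitePresentation P B := Module.finitePresentation_of_surjective ρ hsurj (by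
    rw [hker, LinearMap.range_eq_map]; exact (Module.Finite.fg_top).map _)
  have : Algebra.FinitePresentation P B := Algebra.FinitePresentation.of_finitePresentation P B
  exact Algebra.FinitePresentation.trans R P B

end Groth.Agent.S18889
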