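import Groth.Statements.S18890
import Mathlib

set_option autoImplicit false
universe u v w w'
open CAlg

namespace Groth.Agent.S18890

/-- Let R be a commutative ring, G a finite group whose order is invertible in R, M an R-module with an
R-linear action ρ of G and N an arbitrary R-module. Then the natural map M^G ⊗_R N → M ⊗_R N induced
by the inclusion of the invariants is injective, and its image is the submodule of invariants of M
⊗_R N under the action ρ ⊗ 1 (G acting on the first factor). (The source lets G be a group of
R-automorphisms of M; a possibly non-faithful linear action changes nothing.) -/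
theorem result {R : Type u} [CommRing R]
    {G : Type v} [Group G] [Finite G] (hG : IsUnit ((Nat.card G : ℕ) : R))
    {M : Type w} {N : Type w'} [AddCommGroup M] [Module R M] [AddCommGroup N] [Module R N]
    (ρ : Representation R G M) :
    Function.Injective (LinearMap.rTensor N ρ.invariants.subtype) ∧
      LinearMap.range (LinearMap.rTensor N ρ.invariants.subtype) =
        (ρ.tprod (Representation.trivial R G N)).invariants := by
  classical
  cases nonempty_fintype G
  have hu : IsUnit ((Fintype.card G : ℕ) : R) := by rwa [← Nat.card_eq_fintype_card]
  letI : Invertible (Fintype.card G : R) := hu.invertible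
  let r : M →ₗ[R] ρ.invariants := ρ.averageMap.codRestrict _ ρ.averageMap_invariant
  have hr : r ∘ₗ ρ.invariants.subtype = LinearMap.id :=
    LinearMap.ext fun v => Subtype.ext (ρ.averageMap_id v v.2)
  have hact : ∀ g (t : TensorProduct R M N), (ρ.tprod (Representation.trivial R G N)) g t = (ρ g).rTensor N t := fun g t => rfl
  refine ⟨?_, le_antisymm ?_ ?_⟩
  · intro x y hxy
    have := congrArg (r.rTensor N) hxy
    rwa [← LinearMap.rTensor_comp_apply, ← LinearMap.rTensor_comp_apply, hr, LinearMap.rTensor_id, LinearMap.id_apply,
      LinearMap.id_apply] at this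
  · rintro _ ⟨t, rfl⟩ g
    rw [hact, ← LinearMap.rTensor_comp_apply,
      show ρ g ∘ₗ ρ.invariants.subtype = ρ.invariants.subtype from LinearMap.ext fun v => v.2 g]
  · intro t ht
    refine ⟨r.rTensor N t, ?_⟩
    rw [← LinearMap.rTensor_comp_apply,
      show ρ.invariants.subtype ∘ₗ r = ρ.averageMap from LinearMap.subtype_comp_codRestrict _ _ _]
    have hav : ρ.averageMap = (⅟(Fintype.card G : R)) • ∑ g : G, ρ g := by
      ext v
      simp [Representation.averageMap, GroupAlgebra.average, Representation.asAlgebraHom, MonoidAlgebra.lift_apply, Finset.sum_apply]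
    rw [hav, LinearMap.rTensor_smul, LinearMap.smul_apply, show (∑ g : G, ρ g).rTensor N = ∑ g : G, (ρ g).rTensor N from
        map_sum (LinearMap.rTensorHom N) (fun g => ρ g) Finset.univ, LinearMap.sum_apply]
    simp only [← hact]
    rw [Finset.sum_congr rfl (fun g _ => ht g), Finset.sum_const, Finset.card_univ]
    rw [← Nat.cast_smul_eq_nsmul R, smul_smul, invOf_mul_self, one_smul]

end Groth.Agent.S18890
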