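import Groth.Statements.S18891
import Mathlib

set_option autoImplicit false
universe u
open CategoryTheory CategoryTheory.Limits AlgebraicGeometry
open Mor

namespace Groth.Agent.S18891

/-- Let f : X → Y be a morphism of schemes which is proper and formally unramified, and such that for
every algebraically closed field Ω the map X(Ω) → Y(Ω), g ↦ g ≫ f, is injective. Then f is a closed
immersion. -/
theorem result {X Y : Scheme.{u}} (f : X ⟶ Y)
    [IsProper f] [FormallyUnramified f]
    (hinj : ∀ (Ω : Type u) [Field Ω] [IsAlgClosed Ω],
      Function.Injective (fun g : Spec (CommRingCat.of Ω) ⟶ X => g ≫ f)) :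
    IsClosedImmersion f := by
  haveI : Surjective (pullback.diagonal f) := by
    rw [surjective_iff]
    intro z
    let Ω := AlgebraicClosure ((pullback f f).residueField z)
    let φ := Spec.map (CommRingCat.ofHom (algebraMap ((pullback f f).residueField z) Ω)) ≫
      (pullback f f).fromSpecResidueField z
    have hφ₁ : φ ≫ pullback.fst f f = φ ≫ pullback.snd f f := hinj Ω (by simp [pullback.condition])
    have hφ₂ : φ = (φ ≫ pullback.fst f f) ≫ pullback.diagonal f := by cat_disch
    let pt : ↥(Spec (CommRingCat.of Ω)) := IsLocalRing.closedPoint Ω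
    refine ⟨(φ ≫ pullback.fst f f) pt, ?_⟩
    rw [← Scheme.Hom.comp_apply, ← hφ₂]
    exact Scheme.fromSpecResidueField_apply z _
  haveI : IsOpenImmersion (pullback.diagonal f) := inferInstance
  haveI : IsIso (pullback.diagonal f) :=
    (isIso_iff_isOpenImmersion_and_surjective _).2 ⟨inferInstance, inferInstance⟩
  haveI : Mono f := (pullback.isIso_diagonal_iff f).1 inferInstance
  exact (IsClosedImmersion.iff_isProper_and_mono f).2 ⟨inferInstance, inferInstance⟩

end Groth.Agent.S18891
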