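import Groth.Statements.S18892
import Groth.Agent.CurveCover.DeckUniq
-- import your own Groth.Agent.* helpers here

set_option autoImplicit false
set_option backward.isDefEq.respectTransparency false
set_option backward.isDefEq.respectTransparency.types false
set_option linter.style.haveILetI false
universe u
open CategoryTheory CategoryTheory.Limits AlgebraicGeometry
open Curves

namespace Groth.Agent.S18892

/-- Let k be an algebraically closed field of characteristic different from 2 and X a hyperelliptic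
curve over k, i.e. p : X → Spec k is smooth and proper, X is connected of dimension one and of genus
dim_k H¹(X, O_X) ≥ 2, and X admits a double cover of P¹_k (a k-morphism which is finite and flat of
rank 2 at every point). A hyperelliptic involution is a k-endomorphism σ ≠ id of X with σ ≫ h = h
for some such double cover h. Then any two hyperelliptic involutions of X coincide. -/
theorem result (k : Type u) [Field k] [IsAlgClosed k] (h2 : (2 : k) ≠ 0)
    {X : Scheme.{u}} (p : X ⟶ Spec (CommRingCat.of k)) [IsProper p] [Smooth p] [ConnectedSpace ↥X]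
    (hX : topologicalKrullDim ↥X = 1) (hg : 2 ≤ @Curv2.genus k _ X ⟨p⟩)
    (h₁ h₂ : X ⟶ CohB1.ProjSpace 1 k) (hh₁ : h₁ ≫ CohB1.ProjSpace.toSpec 1 k = p)
    (hh₂ : h₂ ≫ CohB1.ProjSpace.toSpec 1 k = p)
    [IsFinite h₁] [Flat h₁] (hr₁ : ∀ y : ↥(CohB1.ProjSpace 1 k), h₁.finrank y = 2)
    [IsFinite h₂] [Flat h₂] (hr₂ : ∀ y : ↥(CohB1.ProjSpace 1 k), h₂.finrank y = 2)
    (σ τ : X ⟶ X) (hσ : σ ≫ h₁ = h₁) (hσ₁ : σ ≠ 𝟙 X) (hτ : τ ≫ h₂ = h₂) (hτ₁ : τ ≠ 𝟙 X) :
    σ = τ := by
  letI : X.Over (Spec (CommRingCat.of k)) := ⟨p⟩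
  haveI : IsProper (X ↘ Spec (CommRingCat.of k)) := ‹IsProper p›
  haveI : Smooth (X ↘ Spec (CommRingCat.of k)) := ‹Smooth p›
  haveI := QuasiCompact.compactSpace_of_compactSpace (X ↘ Spec (CommRingCat.of k))
  haveI := Groth.Agent.CurveCohLib.isIntegral_of_smooth_connected (X ↘ Spec (CommRingCat.of k))
  exact Groth.Agent.CurveCover.deck_unique k h₁ hh₁ hX hg hr₁ h₂ hh₂ hr₂ σ τ hσ hσ₁ hτ hτ₁


end Groth.Agent.S18892
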