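import Groth.Statements.S18894
import Groth.Agent.S3338
import Groth.Agent.S3330
import Groth.Agent.CurveBC.Geometry
import Groth.Agent.CurveCover.FamilyDense
import Groth.Agent.MinModel.Basic

set_option autoImplicit false
universe u
open CategoryTheory CategoryTheory.Limits AlgebraicGeometry
open Curves

namespace Groth.Agent.S18894
set_option backward.isDefEq.respectTransparency false
set_option backward.isDefEq.respectTransparency.types false
set_option linter.style.haveILetI false
set_option maxHeartbeats 1000000
open Groth.Agent

theorem generic_curve {R : Type u} [CommRing R] [IsDomain R]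
    {X : Scheme.{u}} (f : X ⟶ Spec (CommRingCat.of R)) [IsProper f] [Smooth f] [GeometricallyConnected f]
    (hdim : ∀ s : ↥(Spec (CommRingCat.of R)), topologicalKrullDim ↥(f.fiber s) = 1) (n : ℕ)
    (hgen : ∀ s : ↥(Spec (CommRingCat.of R)),
      letI : (f.fiber s).Over (Spec ((Spec (CommRingCat.of R)).residueField s)) := ⟨f.fiberToSpecResidueField s⟩
      Curv2.genus ((Spec (CommRingCat.of R)).residueField s) (f.fiber s) = n)
    (η : Spec (CommRingCat.of (FractionRing R)) ⟶ Spec (CommRingCat.of R)) :
    Curve.IsSmoothProperCurve (FractionRing R) (pullback f η) (pullback.snd f η) ∧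
      IsIso (pullback.snd f η).appTop ∧
      Models.curveGenus (FractionRing R) (pullback f η) (pullback.snd f η) = n := by
  let K := FractionRing R
  let S := Spec (CommRingCat.of R)
  let s : S := η (IsLocalRing.closedPoint K : PrimeSpectrum K)
  obtain ⟨φ, hφ⟩ : ∃ φ : S.residueField s ⟶ CommRingCat.of K, Spec.map φ ≫ S.fromSpecResidueField s = η :=
    ⟨_, Scheme.descResidueField_stalkClosedPointTo_fromSpecResidueField K S η⟩
  letI : Algebra (S.residueField s) K := φ.hom.toAlgebra
  letI : (f.fiber s).Over (Spec (S.residueField s)) := ⟨f.fiberToSpecResidueField s⟩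
  letI : (pullback f η).Over (Spec (CommRingCat.of K)) := ⟨pullback.snd f η⟩
  let q : pullback f η ⟶ f.fiber s :=
    pullback.lift (pullback.fst f η) (pullback.snd f η ≫ Spec.map φ)
      (by rw [pullback.condition, Category.assoc, hφ])
  have hq : IsPullback q (pullback.snd f η) (f.fiberToSpecResidueField s) (Spec.map φ) := by
    refine IsPullback.of_right (v₁₃ := f) (h₁₂ := f.fiberι s)
      (h₂₂ := S.fromSpecResidueField s) ?_ (pullback.lift_snd _ _ _) (IsPullback.of_hasPullback _ _)
    rw [show q ≫ f.fiberι s = pullback.fst f η from pullback.lift_fst _ _ _, hφ]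
    exact IsPullback.of_hasPullback _ _
  haveI : IsProper (f.fiber s ↘ Spec (CommRingCat.of (S.residueField s))) :=
    inferInstanceAs (IsProper (pullback.snd f (S.fromSpecResidueField s)))
  haveI : IsProper (pullback.snd f η) := inferInstance
  haveI : Smooth (pullback.snd f η) := inferInstance
  haveI : Subsingleton (Spec (CommRingCat.of K)) := inferInstanceAs (Subsingleton (PrimeSpectrum K))
  haveI : ConnectedSpace ↥(pullback f η) :=
    GeometricallyConnected.geometrically_connectedSpace (f := f) _ _ _ (IsPullback.of_hasPullback f η)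
  haveI : CompactSpace ↥(pullback f η) := QuasiCompact.compactSpace_of_compactSpace (pullback.snd f η)
  haveI : IsIntegral (pullback f η) := CurveCohLib.isIntegral_of_smooth_connected (k := K) (pullback.snd f η)
  refine ⟨⟨inferInstance, inferInstance, inferInstance,
    CurveBC.topologicalKrullDim_eq ↥(S.residueField s) K q hq (hdim s)⟩, ?_, ?_⟩
  · haveI : IsProper (pullback f η ↘ Spec (CommRingCat.of K)) := ‹IsProper (pullback.snd f η)›
    haveI : Smooth (pullback f η ↘ Spec (CommRingCat.of K)) := ‹Smooth (pullback.snd f η)›
    haveI : GeometricallyConnected (pullback f η ↘ Spec (CommRingCat.of K)) :=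
      inferInstanceAs (GeometricallyConnected (pullback.snd f η))
    exact (ConcreteCategory.isIso_iff_bijective _).mpr
      (CurveBC.bijective_appTop K (pullback f η) (CurveBC.finrank_h0_of_geometricallyConnected K _))
  · haveI : IsProper (f.fiberToSpecResidueField s) := ‹IsProper (f.fiber s ↘ Spec (CommRingCat.of (S.residueField s)))›
    haveI : CompactSpace ↥(f.fiber s) :=
      QuasiCompact.compactSpace_of_compactSpace (f.fiberToSpecResidueField s)
    haveI : QuasiSeparatedSpace ↥(f.fiber s) :=
      quasiSeparatedSpace_of_quasiSeparated (f.fiberToSpecResidueField s)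
    exact (CurveBC.genus_eq ↥(S.residueField s) K q hq).trans (hgen s)


/-- Together with the accompanying claim: let R be a discrete valuation ring with fraction field K, η :
Spec K → Spec R the generic point, and f : X → Spec R, g : Y → Spec R two smooth curves of genus n ≥
1 (proper and smooth, with geometrically connected fibres of dimension one and genus n). Then
restriction to the generic fibre is a bijection from R-isomorphisms X ≅ Y onto K-isomorphisms X_η ≅
Y_η: every isomorphism φ of the generic fibres over Spec K is induced by a unique morphism e : X → Y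
compatible with the first projections, and this e is an isomorphism over Spec R. -/
theorem result {R : Type u} [CommRing R] [IsDomain R]
    [IsDiscreteValuationRing R] {X Y : Scheme.{u}}
    (f : X ⟶ Spec (CommRingCat.of R)) (g : Y ⟶ Spec (CommRingCat.of R))
    [IsProper f] [Smooth f] [GeometricallyConnected f] [IsProper g] [Smooth g] [GeometricallyConnected g]
    (hXdim : ∀ s : ↥(Spec (CommRingCat.of R)), topologicalKrullDim ↥(f.fiber s) = 1)
    (hYdim : ∀ s : ↥(Spec (CommRingCat.of R)), topologicalKrullDim ↥(g.fiber s) = 1)
    (n : ℕ) (hn : 1 ≤ n)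
    (hXgen : ∀ s : ↥(Spec (CommRingCat.of R)),
      letI : (f.fiber s).Over (Spec ((Spec (CommRingCat.of R)).residueField s)) := ⟨f.fiberToSpecResidueField s⟩
      Curv2.genus ((Spec (CommRingCat.of R)).residueField s) (f.fiber s) = n)
    (hYgen : ∀ s : ↥(Spec (CommRingCat.of R)),
      letI : (g.fiber s).Over (Spec ((Spec (CommRingCat.of R)).residueField s)) := ⟨g.fiberToSpecResidueField s⟩
      Curv2.genus ((Spec (CommRingCat.of R)).residueField s) (g.fiber s) = n)
    (η : Spec (CommRingCat.of (FractionRing R)) ⟶ Spec (CommRingCat.of R))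
    (hη : η = Spec.map (CommRingCat.ofHom (algebraMap R (FractionRing R))))
    (φ : pullback f η ≅ pullback g η) (hφ : φ.hom ≫ pullback.snd g η = pullback.snd f η) :
    ∃ e : X ≅ Y, e.hom ≫ g = f ∧ pullback.fst f η ≫ e.hom = φ.hom ≫ pullback.fst g η ∧
      ∀ e' : X ⟶ Y, pullback.fst f η ≫ e' = φ.hom ≫ pullback.fst g η → e' = e.hom := by
  subst hη
  let η : Spec (CommRingCat.of (FractionRing R)) ⟶ Spec (CommRingCat.of R) :=
    Spec.map (CommRingCat.ofHom (algebraMap R (FractionRing R)))
  obtain ⟨hCX, hH0, hgX⟩ := generic_curve f hXdim n hXgen η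
  have hX : Models.IsModel R X f (pullback f η) (pullback.snd f η) :=
    ⟨inferInstance, inferInstance, inferInstance, _, IsPullback.of_hasPullback f η⟩
  have hpY : IsPullback (φ.hom ≫ pullback.fst g η) (pullback.snd f η) g η :=
    IsPullback.of_iso_pullback ⟨by rw [Category.assoc, pullback.condition, ← Category.assoc, hφ]⟩ φ
      rfl hφ
  have hY : Models.IsModel R Y g (pullback f η) (pullback.snd f η) :=
    ⟨inferInstance, inferInstance, inferInstance, _, hpY⟩
  have hmX := S3338.result R _ X (pullback.snd f η) f hCX hH0 hX
  have hmY := S3338.result R _ Y (pullback.snd f η) g hCX hH0 hY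
  obtain ⟨e, ⟨he, hge⟩, -⟩ := S3330.result R _ X Y (pullback.snd f η) f g hCX hH0 (by rw [hgX]; omega) hmX hmY
    (pullback.fst f η) (IsPullback.of_hasPullback f η) (φ.hom ≫ pullback.fst g η) hpY
  refine ⟨e, he, hge, fun e' he' => ?_⟩
  haveI := hCX.2.2.1
  let M : MinModel.Model (pullback f η) (pullback.snd f η) :=
    ⟨X, f, pullback.fst f η, IsPullback.of_hasPullback f η, hmX.1⟩
  haveI := M.isIntegral
  haveI : IsIntegral X := M.isIntegral
  haveI : IsOpenImmersion (pullback.fst f η) := M.isOpenImmersion
  haveI : IsDominant (pullback.fst f η) :=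
    ⟨(pullback.fst f η).opensRange.isOpen.dense ⟨_, genericPoint (pullback f η : Scheme.{u}), rfl⟩⟩
  haveI : Y.IsSeparated := ⟨by rw [← terminal.comp_from g]; infer_instance⟩
  exact ext_of_isDominant (pullback.fst f η) (he'.trans hge.symm)


end Groth.Agent.S18894
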