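import Groth.Statements.S18896
import Groth.Agent.CurveCover.FamilyRank

set_option autoImplicit false
set_option backward.isDefEq.respectTransparency false
set_option backward.isDefEq.respectTransparency.types false
set_option linter.style.haveILetI false
universe u
open CategoryTheory CategoryTheory.Limits AlgebraicGeometry
open Curves

namespace Groth.Agent.S18896

/-- Let f : X → S be a smooth curve of genus g over a scheme S, i.e. f is proper and smooth and its
fibres are geometrically connected of dimension one and genus g (g the dimension of H¹ of the
structure sheaf of each fibre over its residue field). Then R¹f_*(O_X) is a locally free O_S-module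
of rank g. -/
theorem result {X S : Scheme.{u}} (f : X ⟶ S)
    [IsProper f] [Smooth f] [GeometricallyConnected f]
    (hdim : ∀ s : S, topologicalKrullDim ↥(f.fiber s) = 1) (g : ℕ)
    (hgen : ∀ s : S, letI : (f.fiber s).Over (Spec (S.residueField s)) := ⟨f.fiberToSpecResidueField s⟩
      Curv2.genus (S.residueField s) (f.fiber s) = g)
    [HasInjectiveResolutions X.Modules] :
    FlatMod.IsFinLocFreeOfRank g ((Coh.Rpush f 1).obj (Coh.structureModule X)) := by
  refine Groth.Agent.CurveCover.isFinLocFreeOfRank_Rpush_one f (fun s => (hdim s).le) (fun s => ?_) g
    fun s => hgen s
  haveI : Smooth (f.fiberToSpecResidueField s) := MorphismProperty.pullback_snd _ _ inferInstance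
  haveI := Groth.Agent.GrpSchLib.geometricallyReduced_of_smooth (f.fiberToSpecResidueField s)
  exact Groth.Agent.CurveCover.hRank_zero_eq_one_fiber f s

end Groth.Agent.S18896
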