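import Groth.Statements.S18898
import Groth.Agent.CurveCover.FamilyDense
import Groth.Agent.LimSm.Model
import Groth.Agent.LimSm.Core
import Groth.Agent.ConsPropLib.CoreProper
-- import your own Groth.Agent.* helpers here

set_option autoImplicit false
set_option linter.style.haveILetI false
set_option backward.isDefEq.respectTransparency false
set_option backward.isDefEq.respectTransparency.types false
universe u
open CategoryTheory CategoryTheory.Limits AlgebraicGeometry
open Curves

namespace Groth.Agent.S18898

/-- Take an affine base S and a smooth genus-g curve f : X → S over it (proper and smooth, with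
geometrically connected fibres of dimension one and genus g). Then there exist an affine scheme S₀
whose ring of global sections is of finite type over ℤ (in particular S₀ is Noetherian), a morphism
u : S → S₀ which is injective on global sections (so that S₀ is the spectrum of a subring of
O_S(S)), and a smooth curve of genus g, f₀ : X₀ → S₀, together with a cartesian square making f the
base change of f₀ along u. -/
theorem result {X S : Scheme.{u}} (f : X ⟶ S) [IsAffine S]
    [IsProper f] [Smooth f] [GeometricallyConnected f]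
    (hdim : ∀ s : S, topologicalKrullDim ↥(f.fiber s) = 1) (g : ℕ)
    (hgen : ∀ s : S, letI : (f.fiber s).Over (Spec (S.residueField s)) := ⟨f.fiberToSpecResidueField s⟩
      Curv2.genus (S.residueField s) (f.fiber s) = g) :
    ∃ (S₀ X₀ : Scheme.{u}) (f₀ : X₀ ⟶ S₀) (u : S ⟶ S₀) (v : X ⟶ X₀),
      IsAffine S₀ ∧ Algebra.FiniteType ℤ Γ(S₀, ⊤) ∧ Function.Injective (u.appTop).hom ∧
      IsPullback v f f₀ u ∧ IsProper f₀ ∧ Smooth f₀ ∧ GeometricallyConnected f₀ ∧
      (∀ s : S₀, topologicalKrullDim ↥(f₀.fiber s) = 1) ∧
      ∀ s : S₀, letI : (f₀.fiber s).Over (Spec (S₀.residueField s)) := ⟨f₀.fiberToSpecResidueField s⟩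
        Curv2.genus (S₀.residueField s) (f₀.fiber s) = g := by
  let A : CommRingCat.{u} := Γ(S, ⊤)
  let f' : X ⟶ Spec (CommRingCat.of A) := f ≫ S.isoSpec.hom
  haveI : IsProper f' := inferInstance
  haveI : Smooth f' := inferInstance
  haveI : LocallyOfFinitePresentation f' := inferInstance
  obtain ⟨A₀, hfg, X₀, f₀, v, hp, hsm, -, -, -, hsq⟩ :=
    Groth.Agent.LimSm.exists_model_over_fg (P := @IsProper) (P' := @Smooth)
      Groth.Agent.ConsPropLib.core_isProper Groth.Agent.LimSm.core_smooth (fun _ h => h) (fun _ h => h)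
      (A : Type u) f' inferInstance inferInstance
  haveI : IsProper f₀ := hp
  haveI : Smooth f₀ := hsm
  let a : CommRingCat.of ↥A₀ ⟶ CommRingCat.of (A : Type u) :=
    CommRingCat.ofHom (algebraMap (↥A₀) (A : Type u))
  have ha : Function.Injective a.hom := fun x y h => Subtype.ext h
  let u : S ⟶ Spec (CommRingCat.of ↥A₀) := S.isoSpec.hom ≫ Spec.map a
  have hpb : IsPullback v f f₀ u := by
    refine IsPullback.of_iso hsq (Iso.refl _) (Iso.refl _) S.isoSpec.symm (Iso.refl _) (by simp) ?_ (by simp) ?_
    · simp [f']
    · simp [u, a]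
  have hu : Function.Injective (u.appTop).hom := by
    have h1 : Function.Injective (Spec.map a).appTop.hom := by
      intro x y h
      have hn := Scheme.ΓSpecIso_naturality a
      apply (ConcreteCategory.bijective_of_isIso (Scheme.ΓSpecIso (CommRingCat.of ↥A₀)).hom).1
      apply ha
      have hx := congr($hn x)
      have hy := congr($hn y)
      simp only [CommRingCat.hom_comp, RingHom.comp_apply] at hx hy
      exact hx.symm.trans ((congrArg _ h).trans hy)
    have h2 : u.appTop = (Spec.map a).appTop ≫ S.isoSpec.hom.appTop := Scheme.Hom.comp_appTop _ _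
    rw [h2, CommRingCat.hom_comp]
    exact (ConcreteCategory.bijective_of_isIso S.isoSpec.hom.appTop).1.comp h1
  have hd : Dense (Set.range u) := by
    have h1 : DenseRange (Spec.map a) := by
      refine (PrimeSpectrum.denseRange_comap_iff_ker_le_nilRadical (f := a.hom)).2 ?_
      rw [(RingHom.injective_iff_ker_eq_bot _).1 ha]
      exact bot_le
    have h3 : DenseRange (⇑(Spec.map a) ∘ ⇑S.isoSpec.hom) :=
      DenseRange.comp h1 S.isoSpec.hom.homeomorph.surjective.denseRange (Spec.map a).continuous
    exact h3
  have hdim0 : ∀ t, topologicalKrullDim ↥(f₀.fiber t) = 1 :=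
    Groth.Agent.CurveCover.krullDim_eq_one_of_dense f₀ hd (by
      rintro _ ⟨s, rfl⟩
      rw [← Groth.Agent.CurveCover.krullDim_fiber_baseChange hpb s]
      exact hdim s)
  haveI hgc : GeometricallyConnected f₀ :=
    Groth.Agent.CurveCover.geometricallyConnected_of_dense f₀ hd (by
      rintro _ ⟨s, rfl⟩
      rw [← (Groth.Agent.Triage.GeomCount.nGeom_baseChange f₀ f v u hpb s).2]
      haveI : ConnectedSpace ↥(MoreMor.geomFiber f s) :=
        GeometricallyConnected.geometrically_connectedSpace (f := f.fiberToSpecResidueField s) _ _ _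
          (IsPullback.of_hasPullback _ _)
      haveI : Subsingleton (_root_.ConnectedComponents ↥(MoreMor.geomFiber f s)) := inferInstance
      haveI : Inhabited (_root_.ConnectedComponents ↥(MoreMor.geomFiber f s)) :=
        ⟨ConnectedComponents.mk (Classical.arbitrary _)⟩
      exact ENat.card_eq_one_iff_unique.2 ⟨Unique.mk' _⟩)
  refine ⟨Spec (CommRingCat.of ↥A₀), X₀, f₀, u, v, inferInstance, ?_, hu, hpb, hp, hsm, hgc, hdim0, ?_⟩
  · haveI : Algebra.FiniteType ℤ ↥A₀ := A₀.fg_iff_finiteType.1 hfg
    exact Algebra.FiniteType.equiv ‹Algebra.FiniteType ℤ ↥A₀›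
      ((Scheme.ΓSpecIso (CommRingCat.of ↥A₀)).commRingCatIsoToRingEquiv.symm.toIntAlgEquiv)
  · refine Groth.Agent.CurveCover.genus_eq_of_dense f₀ hdim0 hd g ?_
    rintro _ ⟨s, rfl⟩
    rw [← Groth.Agent.CurveCover.genus_fiber_baseChange hpb s]
    exact hgen s
end Groth.Agent.S18898
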