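import Groth.Statements.S18899
import Mathlib

set_option autoImplicit false
universe u v w
open CAlg

namespace Groth.Agent.S18899

/-- Let A be a commutative ring on which a finite group G acts by ring automorphisms, with ring of
invariants A^G, and let K be a field. If two ring homomorphisms f₁, f₂ : A → K have the same
restriction to A^G, then f₂ = f₁ ∘ γ for some γ ∈ G. -/
theorem result {A : Type u} [CommRing A] {G : Type v} [Group G] [Finite G]
    [MulSemiringAction G A] {K : Type w} [Field K] (f₁ f₂ : A →+* K)
    (h : ∀ a : A, (∀ g : G, g • a = a) → f₁ a = f₂ a) :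
    ∃ γ : G, ∀ a : A, f₂ a = f₁ (γ • a) := by
  classical
  cases nonempty_fintype G
  by_contra hne
  push Not at hne
  choose b hb using hne
  let ι := Fintype.equivFin G
  let aT : Polynomial A := ∑ γ, Polynomial.C (b γ) * Polynomial.X ^ (ι γ : ℕ)
  let Q : Polynomial (Polynomial A) := ∏ g : G, (Polynomial.X - Polynomial.C (g • aT))
  have hQ : ∀ g : G, g • Q = Q := fun g => by
    simp only [Q, Finset.smul_prod', smul_sub, Polynomial.smul_X, Polynomial.smul_C, smul_smul]
    exact Fintype.prod_bijective _ (Group.mulLeft_bijective g) _ _ fun _ => rfl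
  have hinv : Q.map (Polynomial.mapRingHom f₁) = Q.map (Polynomial.mapRingHom f₂) := by
    refine Polynomial.ext fun m => Polynomial.ext fun l => ?_
    simp only [Polynomial.coeff_map, Polynomial.coe_mapRingHom]
    refine h _ fun g => ?_
    rw [← Polynomial.coeff_smul, ← Polynomial.coeff_smul, hQ]
  have h0 := congrArg (Polynomial.eval (aT.map f₂)) hinv
  simp only [Q, Polynomial.map_prod, Polynomial.eval_prod, Polynomial.map_sub, Polynomial.map_X, Polynomial.map_C,
    Polynomial.eval_sub, Polynomial.eval_X, Polynomial.eval_C, Polynomial.coe_mapRingHom] at h0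
  have hz : ∏ g : G, (aT.map f₂ - (g • aT).map f₂) = 0 :=
    Finset.prod_eq_zero (Finset.mem_univ 1) (by rw [one_smul, sub_self])
  obtain ⟨γ, -, hγ⟩ := Finset.prod_eq_zero_iff.1 (h0.trans hz)
  have hc : aT.coeff (ι γ : ℕ) = b γ := by
    simp only [aT, Polynomial.finsetSum_coeff, Polynomial.coeff_C_mul_X_pow]
    rw [Finset.sum_eq_single γ]
    · simp
    · intro δ _ hδ
      rw [if_neg fun e => hδ (ι.injective (Fin.ext e.symm))]
    · simp
  have := congrArg (fun P => Polynomial.coeff P (ι γ : ℕ)) (sub_eq_zero.1 hγ)
  simp only [Polynomial.coeff_map, Polynomial.coeff_smul, hc] at this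
  exact hb γ this

end Groth.Agent.S18899
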