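import Groth.Statements.S1890


set_option backward.isDefEq.respectTransparency false
set_option backward.isDefEq.respectTransparency.types false
-- import your own Groth.Agent.* helpers here

set_option autoImplicit false
universe u
open CategoryTheory CategoryTheory.Limits AlgebraicGeometry
open Grpd

namespace Groth.Agent.S1890

/-- Take a quasi-compact immersion j : V → Spec A and an element f ∈ A such that j⁻¹(D(f)) is affine and
j(V) ∩ V(f) is closed in Spec A. Then V is affine. -/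
theorem result (A : Type u) [CommRing A] (V : Scheme.{u}) (j : V ⟶ Spec (CommRingCat.of A)) [IsImmersion j] [QuasiCompact j] (f : A) (haff : IsAffineOpen (j ⁻¹ᵁ PrimeSpectrum.basicOpen f)) (hcl : IsClosed (Set.range ⇑j ∩ PrimeSpectrum.zeroLocus {f})) : IsAffine V := by
  let Y : Scheme.{u} := Spec (CommRingCat.of A)
  let Df : Y.Opens := PrimeSpectrum.basicOpen f
  let O₁ : Y.Opens := ⟨(Set.range j ∩ PrimeSpectrum.zeroLocus {f})ᶜ, hcl.isOpen_compl⟩
  have h : ∀ x : Y, ∃ O : Y.Opens, IsAffineOpen O ∧ x ∈ O ∧ IsAffineOpen (j ⁻¹ᵁ O) := by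
    intro x
    by_cases hx : x ∈ O₁
    · obtain ⟨_, ⟨O, hO, rfl⟩, hxO, hle⟩ := Y.isBasis_affineOpens.exists_subset_of_mem_open hx O₁.isOpen
      refine ⟨O, hO, hxO, ?_⟩
      have hsub : j ⁻¹ᵁ O ≤ j ⁻¹ᵁ Df := fun v hv => by
        by_contra hvf
        refine hle hv ⟨⟨v, rfl⟩, ?_⟩
        have : f ∈ (j v).asIdeal := not_not.1 hvf
        exact Set.singleton_subset_iff.2 this
      have : IsAffine (j ⁻¹ᵁ Df).toScheme := haff
      have : IsAffineHom ((j ⁻¹ᵁ Df).ι ≫ j) := inferInstance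
      have h2 := (hO.preimage ((j ⁻¹ᵁ Df).ι ≫ j)).image_of_isOpenImmersion (j ⁻¹ᵁ Df).ι
      rwa [Scheme.Hom.comp_preimage, Scheme.Hom.image_preimage_eq_opensRange_inf, Scheme.Opens.opensRange_ι,
        inf_eq_right.2 hsub] at h2
    · obtain ⟨⟨v, rfl⟩, -⟩ := not_not.1 hx
      obtain ⟨_, ⟨O, hO, rfl⟩, hxO, hle⟩ := Y.isBasis_affineOpens.exists_subset_of_mem_open
        (show j v ∈ (j.coborderRange : Set Y) from subset_coborder ⟨v, rfl⟩) j.coborderRange.isOpen
      refine ⟨O, hO, hxO, ?_⟩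
      have h1 : IsAffineOpen (j.coborderRange.ι ⁻¹ᵁ O) :=
        hO.preimage_of_isOpenImmersion _ (by rw [Scheme.Opens.opensRange_ι]; exact hle)
      rw [← j.liftCoborder_ι, Scheme.Hom.comp_preimage]
      exact h1.preimage j.liftCoborder
  choose O hO hxO hjO using h
  have : IsAffineHom j := by
    refine isAffineHom_of_forall_exists_isAffineOpen j fun x => ⟨O x, hxO x, hO x, hjO x⟩
  exact isAffine_of_isAffineHom j
end Groth.Agent.S1890
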