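import Groth.Statements.S18910
import Groth.Agent.CurveCover.OmegaFamily
import Groth.Agent.CurveCover.RelVeryAmpleBC
import Groth.Agent.S18898
import Groth.Agent.S18911
import Groth.Agent.S9707
import Groth.Agent.S12481
import Groth.Agent.VAmpleX.Immersion
-- import your own Groth.Agent.* helpers here

set_option autoImplicit false
set_option linter.style.haveILetI false
set_option backward.isDefEq.respectTransparency false
set_option backward.isDefEq.respectTransparency.types false
universe u
open CategoryTheory CategoryTheory.Limits AlgebraicGeometry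
open Curves

namespace Groth.Agent.S18910

/-- Let f : X → S be a smooth curve of genus g ≥ 2 over a scheme S (proper and smooth, geometrically
connected fibres of dimension one and genus g) and n ≥ 3. Then ω_f^{⊗n} = Ω_{X/S}^{⊗n} is very ample
relative to f: there are a quasi-coherent O_S-module E and an S-immersion i of X into the projective
bundle P(E) with Ω_{X/S}^{⊗n} isomorphic to i^*O_{P(E)}(1) (existence of an isomorphism, as in the
definition of relative very ampleness). (The second assertion of the published statement, that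
f_*ω_f^{⊗n} is locally free of rank (2n − 1)(g − 1), is not restated here.) -/
theorem result {X S : Scheme.{u}} (f : X ⟶ S)
    [IsProper f] [Smooth f] [GeometricallyConnected f]
    (hdim : ∀ s : S, topologicalKrullDim ↥(f.fiber s) = 1) (g : ℕ) (hg : 2 ≤ g)
    (hgen : ∀ s : S, letI : (f.fiber s).Over (Spec (S.residueField s)) := ⟨f.fiberToSpecResidueField s⟩
      Curv2.genus (S.residueField s) (f.fiber s) = g)
    (n : ℕ) (hn : 3 ≤ n) :
    RelProj.IsRelVeryAmple f (CohB1.tensorPow (Omega.sheaf f) n) := by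
  haveI : LocallyOfFiniteType f := inferInstance
  have hΩ := Groth.Agent.CurveCover.isInvertible_omega_family f hdim
  refine Groth.Agent.S12481.result f _ (Groth.Agent.H23.PicMul.isInvertible_tensorPow hΩ n)
    (fun V : S.affineOpens => (V.1 : S.Opens)) (iSup_affineOpens_eq_top S) fun V => ?_
  haveI : IsAffine (V.1 : Scheme.{u}) := V.2
  let fV := f ∣_ V.1
  have hV : IsPullback (f ⁻¹ᵁ V.1).ι fV f V.1.ι := (isPullback_morphismRestrict f V.1).flip
  haveI : IsProper fV := inferInstance
  haveI : Smooth fV := inferInstance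
  have hdimV : ∀ t, topologicalKrullDim ↥(fV.fiber t) = 1 := fun t => by
    rw [Groth.Agent.CurveCover.krullDim_fiber_baseChange hV t]
    exact hdim _
  obtain ⟨S₀, X₀, f₀, w, v, hS₀, hft, -, hsq, hp, hsm, hgc, hdim₀, hgen₀⟩ :=
    Groth.Agent.S18898.result fV hdimV g (fun t => by
      rw [Groth.Agent.CurveCover.genus_fiber_baseChange hV t]
      exact hgen _)
  haveI : IsNoetherianRing Γ(S₀, ⊤) := Algebra.FiniteType.isNoetherianRing ℤ _
  haveI : IsLocallyNoetherian S₀ :=
    isLocallyNoetherian_of_affine_cover (ι := Unit) (S := fun _ => ⟨⊤, isAffineOpen_top S₀⟩)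
      (by simp) (fun _ => inferInstance)
  have hM := Groth.Agent.H23.PicMul.isInvertible_tensorPow
    (Groth.Agent.CurveCover.isInvertible_omega_family f₀ hdim₀) n
  have hfib := fun t : S₀ => Groth.Agent.CurveCover.fibre_veryAmplePn_tensorPow_omega f₀ hdim₀ t
    (by rw [hgen₀ t]; exact hg) hn
  have h0 := Groth.Agent.S9707.result f₀ _ hM
    (Groth.Agent.S18911.result f₀ _ hM (fun t => (hfib t).1) (fun t => (hfib t).2))
  have hV' := Groth.Agent.CurveCover.isRelVeryAmplePn_baseChange hsq h0
  obtain ⟨a⟩ := Groth.Agent.GrpOmega.nonempty_omega_baseChange (f := f₀) (g := w) (g' := v) (f' := fV) hsq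
  obtain ⟨b⟩ := Groth.Agent.AmpleVan.RelVanish.pullback_tensorPow v (Omega.sheaf f₀) n
  obtain ⟨c⟩ := Groth.Agent.AmpleVan.RelVanish.tensorPow_congr a n
  obtain ⟨a'⟩ := Groth.Agent.GrpOmega.nonempty_omega_baseChange (f := f) (g := V.1.ι)
    (g' := (f ⁻¹ᵁ V.1).ι) (f' := fV) hV
  obtain ⟨b'⟩ := Groth.Agent.AmpleVan.RelVanish.pullback_tensorPow (f ⁻¹ᵁ V.1).ι (Omega.sheaf f) n
  obtain ⟨c'⟩ := Groth.Agent.AmpleVan.RelVanish.tensorPow_congr a' n
  exact Groth.Agent.VAmpleX.isRelVeryAmplePn_of_iso fV
    ((b ≪≫ c) ≪≫ (b' ≪≫ c').symm ≪≫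
      ((Scheme.Modules.restrictFunctorIsoPullback (f ⁻¹ᵁ V.1).ι).app _).symm) hV'
end Groth.Agent.S18910
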