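import Groth.Statements.S18904
import Groth.Agent.CurveCover.OmegaFamily
import Groth.Agent.CohPullX.FpExchange
import Groth.Agent.S18910
import Groth.Agent.S5728
import Groth.Agent.S16761
import Groth.Agent.KFlatLib.Scheme.RpushQCoh
-- import your own Groth.Agent.* helpers here

set_option autoImplicit false
set_option linter.style.haveILetI false
set_option backward.isDefEq.respectTransparency false
set_option backward.isDefEq.respectTransparency.types false
universe u
open CategoryTheory CategoryTheory.Limits AlgebraicGeometry
open Curves

namespace Groth.Agent.S18904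

/-- A smooth curve of genus g ≥ 2, i.e. a proper smooth morphism f : X → S whose fibres are
geometrically connected of dimension one and genus g, is a projective morphism: X is isomorphic over
S to the homogeneous spectrum of a quasi-coherent graded O_S-algebra generated by its degree-one
part, the latter of finite type. -/
theorem result {X S : Scheme.{u}} (f : X ⟶ S)
    [IsProper f] [Smooth f] [GeometricallyConnected f]
    (hdim : ∀ s : S, topologicalKrullDim ↥(f.fiber s) = 1) (g : ℕ) (hg : 2 ≤ g)
    (hgen : ∀ s : S, letI : (f.fiber s).Over (Spec (S.residueField s)) := ⟨f.fiberToSpecResidueField s⟩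
      Curv2.genus (S.residueField s) (f.fiber s) = g) :
    RelProj.IsProjective f := by
  let L := CohB1.tensorPow (Omega.sheaf f) 3
  have hL : PicF.IsInvertible L := Groth.Agent.H23.PicMul.isInvertible_tensorPow
    (Groth.Agent.CurveCover.isInvertible_omega_family f hdim) 3
  haveI : HasInjectiveResolutions X.Modules := Groth.Agent.KFlatLib.hasInjectiveResolutions_modules
  haveI : LocallyOfFinitePresentation f := inferInstance
  obtain ⟨hfp, hfl⟩ := Groth.Agent.CurveCover.isFP_and_flat_tensorPow_omega f 3
  have hfree : FlatMod.IsFinLocFree ((Scheme.Modules.pushforward f).obj L) := fun y => by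
    haveI := Groth.Agent.SpObjSS.enoughInjectives_of_hasInjectiveResolutions (C := X.Modules)
    haveI := Groth.Agent.QCoh.preservesFiniteLimits_push f
    obtain ⟨W, hW, ⟨e⟩⟩ := Groth.Agent.CohPullX.exists_free_of_neighbours hfp hfl y 0
      ((Groth.Agent.CurveCover.fiberH_tensorPow_omega f hdim hg hgen (n := 3) (by norm_num) y).1 1 le_rfl)
      (fun j hj => absurd hj (Nat.succ_ne_zero j))
    exact ⟨W, _, hW, ⟨(Scheme.Modules.restrictFunctor W.ι).mapIso
      ((Scheme.Modules.pushforward f).rightDerivedZeroIsoSelf.app L).symm ≪≫ e⟩⟩
  exact Groth.Agent.S5728.result f L hL (Groth.Agent.S18910.result f hdim g hg hgen 3 le_rfl)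
    (Groth.Agent.QCoh.isFT_of_isFP (Groth.Agent.QCoh.isFP_of_isFinLocFree hfree))
end Groth.Agent.S18904
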