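import Groth.Statements.S18905
import Mathlib.AlgebraicGeometry.Morphisms.FormallyUnramified
import Mathlib.RingTheory.Jacobson.Ring
import Mathlib.RingTheory.DualNumber
import Mathlib.RingTheory.Nakayama
import Mathlib.FieldTheory.IsAlgClosed.Basic

set_option autoImplicit false
set_option backward.isDefEq.respectTransparency false
set_option backward.isDefEq.respectTransparency.types false
set_option linter.style.haveILetI false
universe u
open CategoryTheory CategoryTheory.Limits AlgebraicGeometry
open Mor

namespace Groth.Agent.S18905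

theorem formallyUnramified_of_dual {k A : Type u} [Field k] [IsAlgClosed k] [CommRing A] [Algebra k A]
    [Algebra.FiniteType k A]
    (h : ∀ φ ψ : A →ₐ[k] DualNumber k, (∀ a, (φ a).fst = (ψ a).fst) → φ = ψ) :
    Algebra.FormallyUnramified k A := by
  haveI : Algebra.EssFiniteType k A := inferInstance
  haveI : Module.Finite A Ω[A⁄k] := inferInstance
  refine ⟨subsingleton_of_forall_eq 0 fun x => ?_⟩
  have key : ∀ m : Ideal A, m.IsMaximal → (⊤ : Submodule A Ω[A⁄k]) ≤ m • ⊤ := by
    intro m hm
    haveI := hm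
    letI : Field (A ⧸ m) := Ideal.Quotient.field m
    haveI : Algebra.FiniteType k (A ⧸ m) :=
      Algebra.FiniteType.of_surjective (Ideal.Quotient.mkₐ k m) Ideal.Quotient.mk_surjective
    haveI : Module.Finite k (A ⧸ m) := finite_of_finite_type_of_isJacobsonRing k (A ⧸ m)
    let e : k ≃ₐ[k] A ⧸ m := AlgEquiv.ofBijective (Algebra.ofId k (A ⧸ m))
      IsAlgClosed.algebraMap_bijective_of_isIntegral
    let ev : A →ₐ[k] k := e.symm.toAlgHom.comp (Ideal.Quotient.mkₐ k m)
    have hev : ∀ a, a - algebraMap k A (ev a) ∈ m := fun a => by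
      refine Ideal.Quotient.eq.1 ?_
      have : e (ev a) = Ideal.Quotient.mk m a := e.apply_symm_apply _
      exact this.symm
    by_contra hne
    let N : Submodule A Ω[A⁄k] := m • ⊤
    let π : Ω[A⁄k] →ₗ[k] (Ω[A⁄k] ⧸ N) := N.mkQ.restrictScalars k
    obtain ⟨x₀, -, hx₀⟩ := SetLike.not_le_iff_exists.1 hne
    have hx : π x₀ ≠ 0 := fun h0 => hx₀ ((Submodule.Quotient.mk_eq_zero N).1 h0)
    obtain ⟨l, hl⟩ : ∃ l : Module.Dual k (Ω[A⁄k] ⧸ N), l (π x₀) ≠ 0 := by
      by_contra hl
      push Not at hl
      exact hx ((Module.forall_dual_apply_eq_zero_iff k _).1 hl)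
    have hsmul : ∀ (a : A) (y : Ω[A⁄k]), π (a • y) = ev a • π y := fun a y => by
      rw [← map_smul, ← sub_eq_zero, ← map_sub, ← algebraMap_smul A (ev a) y, ← sub_smul]
      exact (Submodule.Quotient.mk_eq_zero N).2 (Submodule.smul_mem_smul (hev a) Submodule.mem_top)
    let D : A → k := fun a => l (π (KaehlerDifferential.D k A a))
    let φ : A →ₐ[k] DualNumber k :=
      { toFun := fun a => TrivSqZeroExt.inl (ev a) + TrivSqZeroExt.inr (D a)
        map_one' := by simp [D]
        map_mul' := fun a b => by
          refine TrivSqZeroExt.ext (by simp) ?_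
          simp only [D, Derivation.leibniz, map_add, hsmul, map_smul, TrivSqZeroExt.snd_mul]
          simp
          ring
        map_zero' := by simp [D]
        map_add' := fun a b => TrivSqZeroExt.ext (by simp) (by simp [D])
        commutes' := fun c => by
          refine TrivSqZeroExt.ext ?_ ?_ <;> simp [D, TrivSqZeroExt.algebraMap_eq_inl] }
    let φ₀ : A →ₐ[k] DualNumber k := (Algebra.ofId k (DualNumber k)).comp ev
    have hD : ∀ a, D a = 0 := fun a => by
      have h1 := congrArg TrivSqZeroExt.snd (DFunLike.congr_fun (h φ φ₀ fun b => by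
        simp [φ, φ₀, TrivSqZeroExt.algebraMap_eq_inl]) a)
      simpa [φ, φ₀, TrivSqZeroExt.algebraMap_eq_inl] using h1
    apply hl
    suffices hall : ∀ y, l (π y) = 0 from hall x₀
    intro x₁
    clear hl hx hx₀
    have hx' : x₁ ∈ Submodule.span A (Set.range (KaehlerDifferential.D k A)) := by
      rw [KaehlerDifferential.span_range_derivation]; trivial
    induction hx' using Submodule.span_induction with
    | mem y hy => obtain ⟨a, rfl⟩ := hy; exact hD a
    | zero => simp
    | add y z _ _ hy hz => simp [hy, hz]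
    | smul a y _ hy => simp [hsmul, hy]
  by_contra hx
  obtain ⟨m, hm, hxm⟩ := Ideal.exists_le_maximal ((Submodule.span A {x}).annihilator) (fun h1 => hx (by
    have := Submodule.mem_annihilator.1 (h1.symm ▸ Submodule.mem_top : (1 : A) ∈ (Submodule.span A {x}).annihilator) x
      (Submodule.mem_span_singleton_self x)
    simpa using this))
  obtain ⟨r, hr1, hr⟩ :=
    Submodule.exists_sub_one_mem_and_smul_eq_zero_of_fg_of_le_smul m ⊤ Module.Finite.fg_top (key m hm)
  refine hm.ne_top (m.eq_top_iff_one.2 ?_)
  have hrm : r ∈ m := hxm (Submodule.mem_annihilator.2 fun y hy => hr y trivial)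
  simpa using m.sub_mem hrm hr1

/-- Let k be an algebraically closed field and X a scheme locally of finite type over k. Then X → Spec k
is formally unramified if and only if the map Hom_k(Spec k[ε], X) → Hom_k(Spec k, X) given by
restricting along the closed immersion of Spec k into Spec k[ε] (k[ε] the ring of dual numbers, ε ↦
0), is bijective; since that map is always surjective, the condition is stated as injectivity: two
k-morphisms from Spec k[ε] to X which agree on Spec k are equal. -/
theorem result (k : Type u) [Field k] [IsAlgClosed k]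
    {X : Scheme.{u}} (p : X ⟶ Spec (CommRingCat.of k)) [LocallyOfFiniteType p] :
    FormallyUnramified p ↔
      ∀ v₁ v₂ : Spec (CommRingCat.of (DualNumber k)) ⟶ X,
        v₁ ≫ p = Spec.map (CommRingCat.ofHom (algebraMap k (DualNumber k))) →
        v₂ ≫ p = Spec.map (CommRingCat.ofHom (algebraMap k (DualNumber k))) →
        Spec.map (CommRingCat.ofHom (TrivSqZeroExt.fstHom k k k).toRingHom) ≫ v₁ =
          Spec.map (CommRingCat.ofHom (TrivSqZeroExt.fstHom k k k).toRingHom) ≫ v₂ →
        v₁ = v₂ := by
  constructor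
  · intro hp v₁ v₂ h1 h2 h12
    let i := Spec.map (CommRingCat.ofHom (TrivSqZeroExt.fstHom k k k).toRingHom)
    haveI : Surjective i := by
      refine ⟨fun P => ?_⟩
      obtain ⟨Q, hQ⟩ : ∃ Q : Spec (CommRingCat.of k), i Q = P := by
        have hnil : ∀ x ∈ RingHom.ker (TrivSqZeroExt.fstHom k k k).toRingHom, IsNilpotent x := fun x hx =>
          TrivSqZeroExt.isNilpotent_iff_isNilpotent_fst.2 (by
            rw [show x.fst = 0 from hx]; exact IsNilpotent.zero)
        have hrange := range_comap_of_surjective _ (TrivSqZeroExt.fstHom k k k).toRingHom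
          (fun c => ⟨TrivSqZeroExt.inl c, rfl⟩)
        have hP : P ∈ PrimeSpectrum.zeroLocus (RingHom.ker (TrivSqZeroExt.fstHom k k k).toRingHom : Set (DualNumber k)) :=
          fun x hx => nilpotent_iff_mem_prime.1 (hnil x hx) P.asIdeal P.isPrime
        rw [← hrange] at hP
        exact hP
      exact ⟨Q, hQ⟩
    obtain ⟨U, hU, hxU, -⟩ := exists_isAffineOpen_mem_and_subset
      (x := (i ≫ v₁) (IsLocalRing.closedPoint k)) (U := ⊤) trivial
    have hv : ∀ v : Spec (CommRingCat.of (DualNumber k)) ⟶ X, i ≫ v = i ≫ v₁ →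
        ∃ φ : Γ(X, U) ⟶ CommRingCat.of (DualNumber k), Spec.map φ ≫ hU.fromSpec = v := by
      intro v hvv
      have hr : Set.range v ⊆ Set.range hU.fromSpec := by
        rintro _ ⟨P, rfl⟩
        obtain ⟨Q, rfl⟩ := i.surjective P
        rw [hU.range_fromSpec, ← Scheme.Hom.comp_apply, hvv, Subsingleton.elim Q (IsLocalRing.closedPoint k)]
        exact hxU
      obtain ⟨φ, hφ⟩ := Spec.map_surjective (IsOpenImmersion.lift hU.fromSpec v hr)
      exact ⟨φ, by rw [hφ, IsOpenImmersion.lift_fac]⟩
    obtain ⟨φ₁, hφ₁⟩ := hv v₁ rfl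
    obtain ⟨φ₂, hφ₂⟩ := hv v₂ h12.symm
    obtain ⟨α, hα⟩ := Spec.map_surjective (hU.fromSpec ≫ p)
    letI : Algebra k Γ(X, U) := α.hom.toAlgebra
    haveI : Algebra.FormallyUnramified k Γ(X, U) := by
      haveI : FormallyUnramified (Spec.map α) := by
        rw [hα]
        exact MorphismProperty.comp_mem @FormallyUnramified _ p inferInstance hp
      exact (HasRingHomProperty.Spec_iff (P := @FormallyUnramified)).1 this
    have halg : ∀ φ : Γ(X, U) ⟶ CommRingCat.of (DualNumber k),
        (Spec.map φ ≫ hU.fromSpec) ≫ p = Spec.map (CommRingCat.ofHom (algebraMap k (DualNumber k))) →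
        ∃ ψ : Γ(X, U) →ₐ[k] DualNumber k, ψ.toRingHom = φ.hom := fun φ hφ => by
      rw [Category.assoc, ← hα, ← Spec.map_comp] at hφ
      have := Spec.map_injective hφ
      exact ⟨{ toRingHom := φ.hom
               commutes' := fun c => congrArg (fun e : CommRingCat.of k ⟶ CommRingCat.of (DualNumber k) => e.hom c) this },
        rfl⟩
    obtain ⟨ψ₁, hψ₁⟩ := halg φ₁ (by rw [hφ₁, h1])
    obtain ⟨ψ₂, hψ₂⟩ := halg φ₂ (by rw [hφ₂, h2])
    let I : Ideal (DualNumber k) := RingHom.ker (TrivSqZeroExt.fstHom k k k).toRingHom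
    have hI : I ^ 2 = ⊥ := by
      rw [eq_bot_iff, pow_two, Ideal.mul_le]
      intro a ha b hb
      refine TrivSqZeroExt.ext ?_ ?_
      · simp [show a.fst = 0 from ha]
      · simp [show a.fst = 0 from ha, show b.fst = 0 from hb]
    have e : Spec.map (φ₁ ≫ CommRingCat.ofHom (TrivSqZeroExt.fstHom k k k).toRingHom) =
        Spec.map (φ₂ ≫ CommRingCat.ofHom (TrivSqZeroExt.fstHom k k k).toRingHom) := by
      rw [← cancel_mono hU.fromSpec, Spec.map_comp, Spec.map_comp, Category.assoc, Category.assoc, hφ₁, hφ₂]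
      exact h12
    have hψ : ψ₁ = ψ₂ := by
      apply Algebra.FormallyUnramified.comp_injective I hI
      ext a
      show Ideal.Quotient.mk I (ψ₁ a) = Ideal.Quotient.mk I (ψ₂ a)
      rw [Ideal.Quotient.eq, RingHom.mem_ker, map_sub, sub_eq_zero]
      have := congrArg (fun e : Γ(X, U) ⟶ CommRingCat.of k => e.hom a) (Spec.map_injective e)
      rw [show ψ₁ a = φ₁.hom a from RingHom.congr_fun hψ₁ a, show ψ₂ a = φ₂.hom a from RingHom.congr_fun hψ₂ a]
      exact this
    rw [← hφ₁, ← hφ₂]
    congr 2
    ext1
    rw [← hψ₁, ← hψ₂, hψ]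
  · intro h
    rw [IsZariskiLocalAtSource.iff_of_openCover (P := @FormallyUnramified) X.affineOpenCover.openCover]
    intro i
    let R := X.affineOpenCover.X i
    let j : Spec R ⟶ X := X.affineOpenCover.f i
    show FormallyUnramified (j ≫ p)
    obtain ⟨α, hα⟩ := Spec.map_surjective (j ≫ p)
    haveI hft : LocallyOfFiniteType (Spec.map α) := by rw [hα]; infer_instance
    rw [← hα, HasRingHomProperty.Spec_iff (P := @FormallyUnramified)]
    letI : Algebra k R := α.hom.toAlgebra
    haveI : Algebra.FiniteType k R := (HasRingHomProperty.Spec_iff (P := @LocallyOfFiniteType)).1 hft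
    show Algebra.FormallyUnramified k R
    refine formallyUnramified_of_dual fun φ ψ hfst => ?_
    have hc : ∀ θ : R →ₐ[k] DualNumber k, (Spec.map (CommRingCat.ofHom θ.toRingHom) ≫ j) ≫ p =
        Spec.map (CommRingCat.ofHom (algebraMap k (DualNumber k))) := fun θ => by
      rw [Category.assoc, ← hα, ← Spec.map_comp]
      exact congrArg (fun e => Spec.map (CommRingCat.ofHom e)) θ.comp_algebraMap
    have := h _ _ (hc φ) (hc ψ) (by
      rw [← Category.assoc, ← Category.assoc, ← Spec.map_comp, ← Spec.map_comp]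
      congr 2
      ext a
      exact hfst a)
    rw [cancel_mono] at this
    exact AlgHom.coe_ringHom_injective (congrArg CommRingCat.Hom.hom (Spec.map_injective this))

end Groth.Agent.S18905
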