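import Groth.Statements.S18907
import Groth.Agent.S4418
import Groth.Agent.S2908
import Groth.Agent.S2909
import Groth.Agent.S13596
-- import your own Groth.Agent.* helpers here

set_option autoImplicit false
universe u
open CategoryTheory CategoryTheory.Limits AlgebraicGeometry
open Curves

set_option backward.isDefEq.respectTransparency false
set_option backward.isDefEq.respectTransparency.types false
set_option linter.style.haveILetI false

namespace Groth.Agent.S18907

open AlgebraicGeometry CategoryTheory TopologicalSpace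

section ring
variable {R B A : Type u} [CommRing R] [CommRing B] [CommRing A] [Algebra R B] [Algebra R A] [Algebra B A]
  [IsScalarTower R B A] (r : A →ₗ[B] B) (hr : ∀ b : B, r (algebraMap B A b) = b)
include r hr

theorem flat_of_retraction [Module.Flat R A] : Module.Flat R B :=
  Module.Flat.of_retract (IsScalarTower.toAlgHom R B A).toLinearMap (r.restrictScalars R) (LinearMap.ext hr)

theorem finiteType_of_retraction [Module.Finite B A] [Algebra.FiniteType R A] : Algebra.FiniteType R B := by
  classical
  obtain ⟨s, hs⟩ := (‹Algebra.FiniteType R A›).out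
  have hint : ∀ x : A, IsIntegral B x := fun x => IsIntegral.of_finite B x
  let C : Subalgebra R B := Algebra.adjoin R ↑(s.biUnion fun x => (minpoly B x).coeffs)
  haveI : Algebra.FiniteType R C :=
    C.fg_iff_finiteType.1 ⟨_, rfl⟩
  have hx : ∀ x ∈ s, IsIntegral C x := fun x hx => by
    have hlift : minpoly B x ∈ Polynomial.lifts (algebraMap C B) := by
      rw [Polynomial.lifts_iff_coeff_lifts]
      intro n
      by_cases hn : (minpoly B x).coeff n = 0
      · exact ⟨0, by rw [hn, map_zero]⟩
      · exact ⟨⟨_, Algebra.subset_adjoin (Finset.mem_biUnion.2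
          ⟨x, hx, Polynomial.coeff_mem_coeffs hn⟩)⟩, rfl⟩
    obtain ⟨p, hp, -, hm⟩ := Polynomial.lifts_and_natDegree_eq_and_monic hlift (minpoly.monic (hint x))
    refine ⟨p, hm, ?_⟩
    rw [IsScalarTower.algebraMap_eq C B A, ← Polynomial.eval₂_map, hp]
    exact minpoly.aeval B x
  haveI : Algebra.IsIntegral C A := ⟨fun a => by
    have hle : Algebra.adjoin R (s : Set A) ≤ (integralClosure C A).restrictScalars R :=
      Algebra.adjoin_le hx
    exact hle (hs ▸ Algebra.mem_top)⟩
  haveI : Algebra.FiniteType C A := Algebra.FiniteType.of_restrictScalars_finiteType R C A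
  haveI : Module.Finite C A := Algebra.IsIntegral.finite
  haveI : Module.Finite C B := Module.Finite.of_surjective (r.restrictScalars C) fun b => ⟨_, hr b⟩
  exact Algebra.FiniteType.trans (S := C) inferInstance inferInstance

theorem finitePresentation_of_retraction [Module.Finite B A] [Algebra.FinitePresentation R A] :
    Algebra.FinitePresentation R B := by
  haveI : Algebra.FiniteType R A := inferInstance
  haveI : Algebra.FiniteType R B := finiteType_of_retraction r hr
  obtain ⟨m, g, hg⟩ := Algebra.FiniteType.iff_quotient_mvPolynomial''.1 ‹Algebra.FiniteType R B›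
  let P := MvPolynomial (Fin m) R
  letI : Algebra P B := g.toRingHom.toAlgebra
  letI : Algebra P A := ((algebraMap B A).comp g.toRingHom).toAlgebra
  haveI : IsScalarTower P B A := IsScalarTower.of_algebraMap_eq' rfl
  haveI : IsScalarTower R P B := IsScalarTower.of_algebraMap_eq' g.comp_algebraMap.symm
  haveI : IsScalarTower R P A := IsScalarTower.of_algebraMap_eq fun c => by
    show algebraMap R A c = algebraMap B A (g (algebraMap R P c))
    rw [g.commutes, ← IsScalarTower.algebraMap_apply]
  haveI : Module.Finite P B := Module.Finite.of_surjective (Algebra.linearMap P B) hg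
  haveI : Module.Finite P A := Module.Finite.trans B A
  haveI : Algebra.FinitePresentation P A := Algebra.FinitePresentation.of_restrict_scalars_finitePresentation R P A
  haveI : Module.FinitePresentation P A := Module.FinitePresentation.of_finite_of_finitePresentation P A
  let r' : A →ₗ[P] B := r.restrictScalars P
  let i' : B →ₗ[P] A := (IsScalarTower.toAlgHom P B A).toLinearMap
  have hker : LinearMap.ker r' = LinearMap.range (LinearMap.id - i' ∘ₗ r') := by
    apply le_antisymm
    · intro a ha
      refine ⟨a, ?_⟩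
      show a - i' (r' a) = a
      rw [LinearMap.mem_ker.1 ha, map_zero, sub_zero]
    · rintro _ ⟨a, rfl⟩
      show r' (a - i' (r' a)) = 0
      rw [map_sub, show r' (i' (r' a)) = r' a from hr _, sub_self]
  haveI : Module.FinitePresentation P B := Module.finitePresentation_of_surjective r' (fun b => ⟨_, hr b⟩)
    (by rw [hker]; exact Submodule.fg_range _)
  exact Algebra.FinitePresentation.trans R P B

end ring

variable {X Y S : Scheme.{u}} {G : Type u} [Group G] [Finite G] {ρ : G →* Aut X} {π : X ⟶ Y}

/-- The action on the sections over the preimage of an open of the quotient. -/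
noncomputable def act (hπ : SGA1.IsQuot ρ π) (W : Y.Opens) (g : G) : Γ(X, π ⁻¹ᵁ W) →+* Γ(X, π ⁻¹ᵁ W) :=
  ((ρ g).hom.appLE (π ⁻¹ᵁ W) (π ⁻¹ᵁ W) (SGA1.preimage_le_of_inv ρ π hπ.inv g W)).hom

theorem act_act (hπ : SGA1.IsQuot ρ π) (W : Y.Opens) (g h : G) (a : Γ(X, π ⁻¹ᵁ W)) :
    act hπ W g (act hπ W h a) = act hπ W (h * g) a := by
  have h1 : (ρ g).hom ≫ (ρ h).hom = (ρ (h * g)).hom := by rw [map_mul]; rfl
  rw [act, act, act, ← RingHom.comp_apply, ← CommRingCat.hom_comp, Scheme.Hom.appLE_comp_appLE]
  simp only [h1]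

theorem act_app (hπ : SGA1.IsQuot ρ π) (W : Y.Opens) (g : G) (b : Γ(Y, W)) :
    act hπ W g (π.app W b) = π.app W b :=
  (hπ.range_iff W _).1 ⟨b, rfl⟩ g

/-- The averaging retraction. -/
theorem exists_retraction (hπ : SGA1.IsQuot ρ π) (W : Y.Opens)
    (hn : IsUnit ((Nat.card G : ℕ) : Γ(Y, W))) :
    letI := (π.app W).hom.toAlgebra
    ∃ r : Γ(X, π ⁻¹ᵁ W) →ₗ[Γ(Y, W)] Γ(Y, W), ∀ b, r (algebraMap Γ(Y, W) Γ(X, π ⁻¹ᵁ W) b) = b := by
  letI := (π.app W).hom.toAlgebra
  haveI := Fintype.ofFinite G
  obtain ⟨v, hv⟩ := hn.exists_left_inv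
  have hmem : ∀ a : Γ(X, π ⁻¹ᵁ W), ∃ b, π.app W b = π.app W v * ∑ g, act hπ W g a := fun a => by
    refine (hπ.range_iff W _).2 fun g => ?_
    show act hπ W g (π.app W v * ∑ h, act hπ W h a) = _
    rw [map_mul, act_app, map_sum]
    congr 1
    exact Fintype.sum_equiv (Equiv.mulRight g) _ _ fun h => act_act hπ W g h a
  choose r hr using hmem
  refine ⟨{ toFun := r, map_add' := fun a a' => hπ.injective W ?_, map_smul' := fun b a => hπ.injective W ?_ },
    fun b => hπ.injective W ?_⟩
  · rw [map_add, hr, hr, hr]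
    simp only [map_add, Finset.sum_add_distrib, mul_add]
  · simp only [Algebra.smul_def, RingHom.id_apply, RingHom.algebraMap_toAlgebra, map_mul]
    rw [hr, hr]
    show _ = π.app W b * _
    simp only [map_mul, act_app, ← Finset.mul_sum]
    exact mul_left_comm _ _ _
  · show π.app W (r (π.app W b)) = π.app W b
    rw [hr]
    simp only [act_app, Finset.sum_const, Finset.card_univ, nsmul_eq_mul]
    rw [← map_natCast (π.app W).hom, ← Nat.card_eq_fintype_card, ← map_mul, ← map_mul, ← mul_assoc, hv, one_mul]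

/-- Cancellation for locally finitely presented morphisms. -/
theorem lfp_of_comp {X Y Z : Scheme.{u}} (f : X ⟶ Y) (g : Y ⟶ Z)
    [LocallyOfFinitePresentation (f ≫ g)] [LocallyOfFiniteType g] : LocallyOfFinitePresentation f := by
  rw [HasRingHomProperty.iff_exists_appLE (P := @LocallyOfFinitePresentation)
    (RingHom.finitePresentation_stableUnderComposition.stableUnderCompositionWithLocalizationAway
      RingHom.finitePresentation_holdsForLocalizationAway).left]
  intro x
  obtain ⟨W, hW, hgx, -⟩ := exists_isAffineOpen_mem_and_subset (U := (⊤ : Z.Opens)) (x := g (f x)) trivial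
  obtain ⟨U, hU, hfx, hUW⟩ := exists_isAffineOpen_mem_and_subset (U := g ⁻¹ᵁ W) (x := f x) hgx
  obtain ⟨V, hV, hx, hVU⟩ := exists_isAffineOpen_mem_and_subset (U := f ⁻¹ᵁ U) (x := x) hfx
  refine ⟨⟨U, hU⟩, ⟨V, hV⟩, hx, hVU, ?_⟩
  have h2 := HasRingHomProperty.appLE @LocallyOfFiniteType g ‹_› ⟨W, hW⟩ ⟨U, hU⟩ hUW
  have h1 := HasRingHomProperty.appLE @LocallyOfFinitePresentation (f ≫ g) ‹_› ⟨W, hW⟩ ⟨V, hV⟩
    (fun y hy => hUW (hVU hy))
  rw [← Scheme.Hom.appLE_comp_appLE _ _ W U V hUW hVU, CommRingCat.hom_comp] at h1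
  exact RingHom.FinitePresentation.of_comp_finiteType _ h1 h2

/-- Let f : X → S be a projective morphism of schemes (X ≅ Proj of a quasi-coherent graded O_S-algebra
generated in degree one with degree-one part of finite type), G a finite group acting on X by
S-automorphisms, and π : X → Y, with q : Y → S and π ≫ q = f, a quotient of X by G: π is affine and
G-invariant and over every open of Y the sections of O_Y are exactly the G-invariant sections of
O_X. Then π is surjective, finite, open and closed. If moreover the order of G is invertible in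
O_S(S), then: Y is flat over S whenever X is; q is separated; and if f is locally of finite
presentation then q is proper and locally of finite presentation and π is locally of finite
presentation. (The existence of the quotient, parts (1), (2), and the base-change statement (5) of
the source are not stated.) -/
theorem result {X Y S : Scheme.{u}} (f : X ⟶ S)
    (hf : RelProj.IsProjective f)
    {G : Type u} [Group G] [Finite G] (ρ : G →* Aut X) (hρ : ∀ g : G, (ρ g).hom ≫ f = f)
    (π : X ⟶ Y) (q : Y ⟶ S) (hπ : π ≫ q = f) (hquot : SGA1.IsQuot ρ π) :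
    (Surjective π ∧ IsFinite π ∧ IsOpenMap π ∧ IsClosedMap π) ∧
      (IsUnit ((Nat.card G : ℕ) : Γ(S, ⊤)) →
        (Flat f → Flat q) ∧ IsSeparated q ∧
        (LocallyOfFinitePresentation f →
          IsProper q ∧ LocallyOfFinitePresentation q ∧ LocallyOfFinitePresentation π)) := by
  haveI : IsProper f := (S4418.result f hf).2
  obtain ⟨-, hsep, hfin, -⟩ := S2909.result ρ π hquot f q hπ hρ
  haveI hπfin : IsFinite π := hfin inferInstance
  haveI : IsAffineHom π := hquot.affine
  obtain ⟨hsurj, horb, hquotmap⟩ := S2908.result ρ π hquot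
  haveI : Surjective π := ⟨hsurj⟩
  refine ⟨⟨⟨hsurj⟩, hπfin, fun U hU => ?_, π.isClosedMap⟩, fun hn => ?_⟩
  · rw [← hquotmap.isOpen_preimage]
    have : π ⁻¹' (π '' U) = ⋃ g : G, (ρ g).hom ⁻¹' U := by
      ext x
      simp only [Set.mem_preimage, Set.mem_image, Set.mem_iUnion]
      constructor
      · rintro ⟨u, hu, he⟩
        obtain ⟨g, hg⟩ := (horb x u).1 he.symm
        exact ⟨g, hg.symm ▸ hu⟩
      · rintro ⟨g, hg⟩
        exact ⟨_, hg, by rw [← Scheme.Hom.comp_apply, hquot.inv g]⟩
    rw [this]
    exact isOpen_iUnion fun g => hU.preimage (ρ g).hom.continuous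
  haveI : IsSeparated q := hsep.1 inferInstance
  have loc : ∀ (V : S.affineOpens) (W : Y.affineOpens) (e : W.1 ≤ q ⁻¹ᵁ V.1),
      (Flat f → (q.appLE V.1 W.1 e).hom.Flat) ∧ (q.appLE V.1 W.1 e).hom.FiniteType ∧
        (LocallyOfFinitePresentation f → (q.appLE V.1 W.1 e).hom.FinitePresentation) := by
    intro V W e
    have hU : IsAffineOpen (π ⁻¹ᵁ W.1) := W.2.preimage π
    have e' : π ⁻¹ᵁ W.1 ≤ f ⁻¹ᵁ V.1 := by rw [← hπ, Scheme.Hom.comp_preimage]; exact π.preimage_mono e
    letI := (π.app W.1).hom.toAlgebra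
    letI := (q.appLE V.1 W.1 e).hom.toAlgebra
    letI := (f.appLE V.1 (π ⁻¹ᵁ W.1) e').hom.toAlgebra
    haveI : IsScalarTower Γ(S, V.1) Γ(Y, W.1) Γ(X, π ⁻¹ᵁ W.1) := IsScalarTower.of_algebraMap_eq' (by
      subst hπ
      rw [RingHom.algebraMap_toAlgebra, RingHom.algebraMap_toAlgebra, RingHom.algebraMap_toAlgebra,
        ← CommRingCat.hom_comp, Scheme.Hom.app_eq_appLE, Scheme.Hom.appLE_comp_appLE])
    haveI : Module.Finite Γ(Y, W.1) Γ(X, π ⁻¹ᵁ W.1) := π.finite_app W.1 W.2
    have hu : IsUnit ((Nat.card G : ℕ) : Γ(Y, W.1)) := by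
      have := (hn.map (S.presheaf.map (homOfLE (le_top : V.1 ≤ ⊤)).op).hom).map (q.appLE V.1 W.1 e).hom
      rwa [map_natCast, map_natCast] at this
    obtain ⟨r, hr⟩ := exists_retraction hquot W.1 hu
    refine ⟨fun _ => ?_, ?_, fun _ => ?_⟩
    · haveI : Module.Flat Γ(S, V.1) Γ(X, π ⁻¹ᵁ W.1) := HasRingHomProperty.appLE @Flat f ‹_› V ⟨_, hU⟩ e'
      exact flat_of_retraction r hr
    · haveI : Algebra.FiniteType Γ(S, V.1) Γ(X, π ⁻¹ᵁ W.1) :=
        HasRingHomProperty.appLE @LocallyOfFiniteType f inferInstance V ⟨_, hU⟩ e'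
      exact finiteType_of_retraction r hr
    · haveI : Algebra.FinitePresentation Γ(S, V.1) Γ(X, π ⁻¹ᵁ W.1) :=
        HasRingHomProperty.appLE @LocallyOfFinitePresentation f ‹_› V ⟨_, hU⟩ e'
      exact finitePresentation_of_retraction r hr
  haveI : LocallyOfFiniteType q := by
    rw [HasRingHomProperty.iff_appLE (P := @LocallyOfFiniteType)]
    exact fun V W e => (loc V W e).2.1
  refine ⟨fun hfl => ?_, inferInstance, fun hlfp => ?_⟩
  · rw [HasRingHomProperty.iff_appLE (P := @Flat)]
    exact fun V W e => (loc V W e).1 hfl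
  haveI : LocallyOfFinitePresentation (π ≫ q) := hπ.symm ▸ hlfp
  haveI : UniversallyClosed (π ≫ q) := hπ.symm ▸ inferInstance
  haveI : UniversallyClosed q := UniversallyClosed.of_comp_surjective π q
  haveI : QuasiCompact q := inferInstance
  refine ⟨{ }, ?_, lfp_of_comp π q⟩
  rw [HasRingHomProperty.iff_appLE (P := @LocallyOfFinitePresentation)]
  exact fun V W e => (loc V W e).2.2 hlfp

end Groth.Agent.S18907
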