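import Groth.Statements.S18908
import Mathlib

set_option autoImplicit false
universe u v w
open scoped TensorProduct
open CAlg

namespace Groth.Agent.S18908

open TensorProduct


/-- Let K ⊇ k be a finite field extension of degree n and Ω ⊇ k an algebraically closed extension. Then
K is separable over k if and only if Ω ⊗_k K is isomorphic, as an Ω-algebra, to the product of n
copies of Ω. (The source says 'for every (some) algebraically closed extension Ω'; the equivalence
is stated for each fixed Ω, which gives both readings.) -/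
theorem result (k : Type u) (K : Type v) (Ω : Type w)
    [Field k] [Field K] [Algebra k K] [FiniteDimensional k K]
    [Field Ω] [Algebra k Ω] [IsAlgClosed Ω] :
    Algebra.IsSeparable k K ↔ Nonempty ((Ω ⊗[k] K) ≃ₐ[Ω] (Fin (Module.finrank k K) → Ω)) := by
  classical
  have hcard : Field.finSepDegree k K = Nat.card (K →ₐ[k] Ω) := Field.finSepDegree_eq_of_isAlgClosed k K Ω
  have : Fintype (K →ₐ[k] Ω) := Fintype.ofFinite _
  constructor
  · intro hsep
    let Φ : (Ω ⊗[k] K) →ₐ[Ω] ((K →ₐ[k] Ω) → Ω) :=
      Algebra.TensorProduct.lift (Algebra.ofId Ω _) (Pi.algHom k _ fun σ => σ) (fun _ _ => Commute.all _ _)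
    have hΦ : Function.Surjective Φ := by
      change Function.Surjective Φ.toLinearMap
      rw [← LinearMap.range_eq_top]
      by_contra hne
      obtain ⟨φ, hφ0, hφ⟩ := Submodule.exists_le_ker_of_lt_top _ (lt_top_iff_ne_top.2 hne)
      have hsum : ∀ v : (K →ₐ[k] Ω) → Ω, φ v = ∑ σ, v σ * φ (Pi.single σ 1) := fun v => by
        conv_lhs => rw [← Finset.univ_sum_single v]
        rw [map_sum]
        refine Finset.sum_congr rfl fun σ _ => ?_
        rw [← smul_eq_mul, ← map_smul, ← Pi.single_smul, smul_eq_mul, mul_one]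
      have hzero : ∑ σ : K →ₐ[k] Ω, φ (Pi.single σ 1) • σ.toLinearMap = 0 := by
        refine LinearMap.ext fun x => ?_
        have hx := hφ ⟨1 ⊗ₜ x, rfl⟩
        rw [LinearMap.mem_ker, hsum] at hx
        rw [LinearMap.sum_apply, LinearMap.zero_apply]
        simpa [Φ, mul_comm] using hx
      have := Fintype.linearIndependent_iff.1 (linearIndependent_toLinearMap k K Ω) _ hzero
      exact hφ0 (LinearMap.ext fun v => by rw [hsum, LinearMap.zero_apply]; simp [this])
    have hdim : Module.finrank Ω (Ω ⊗[k] K) = Module.finrank Ω ((K →ₐ[k] Ω) → Ω) := by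
      rw [Module.finrank_baseChange, Module.finrank_fintype_fun_eq_card, ← Nat.card_eq_fintype_card, ← hcard,
        (Field.finSepDegree_eq_finrank_iff k K).2 hsep]
    have hinj : Function.Injective Φ :=
      (LinearMap.injective_iff_surjective_of_finrank_eq_finrank (f := Φ.toLinearMap) hdim).2 hΦ
    refine ⟨(AlgEquiv.ofBijective Φ ⟨hinj, hΦ⟩).trans (AlgEquiv.piCongrLeft Ω (fun _ => Ω) (Fintype.equivFinOfCardEq ?_))⟩
    rw [← Nat.card_eq_fintype_card, ← hcard, (Field.finSepDegree_eq_finrank_iff k K).2 hsep]
  · rintro ⟨e⟩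
    refine (Field.finSepDegree_eq_finrank_iff k K).1 (le_antisymm (Field.finSepDegree_le_finrank k K) ?_)
    let σ : Fin (Module.finrank k K) → (K →ₐ[k] Ω) := fun i =>
      ((Pi.evalAlgHom Ω (fun _ : Fin (Module.finrank k K) => Ω) i).comp e.toAlgHom |>.restrictScalars k).comp
        Algebra.TensorProduct.includeRight
    have hσ : Function.Injective σ := by
      intro i j hij
      by_contra hne
      have : (Pi.evalAlgHom Ω (fun _ : Fin (Module.finrank k K) => Ω) i).comp e.toAlgHom =
          (Pi.evalAlgHom Ω (fun _ : Fin (Module.finrank k K) => Ω) j).comp e.toAlgHom :=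
        Algebra.TensorProduct.ext (Algebra.ext_id _ _ _) hij
      have := AlgHom.congr_fun this (e.symm (Pi.single i 1))
      simp [Pi.single_eq_of_ne (Ne.symm hne)] at this
    rw [hcard]
    exact (Nat.card_fin _).ge.trans (Nat.card_le_card_of_injective σ hσ)

end Groth.Agent.S18908
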