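import Groth.Statements.S18912
import Groth.Agent.AModX.Res

set_option autoImplicit false
universe u
open CategoryTheory CategoryTheory.Limits AlgebraicGeometry
open TFNodal

namespace Groth.Agent.S18912

open TopologicalSpace in
/-- The value at `η` of a functional on a section. -/
noncomputable def val {X : Scheme.{u}} {F : X.Modules} (τ : F ⟶ Coh.structureModule X) {η : X} {U : X.Opens}
    (hU : η ∈ U) (a : Γ(F, U)) : X.presheaf.stalk η :=
  X.presheaf.germ U η hU (τ.app U a : Γ(X, U))

theorem val_res {X : Scheme.{u}} {F : X.Modules} (τ : F ⟶ Coh.structureModule X) {η : X} {U W : X.Opens}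
    (h : W ≤ U) (hW : η ∈ W) (a : Γ(F, U)) : val τ hW (AModX.res F h a) = val τ (h hW) a := by
  unfold val
  rw [AModX.app_res]
  exact X.presheaf.germ_res_apply (homOfLE h) η hW _

theorem key (k : Type u) [Field k] [IsAlgClosed k] {B : Type u} [CommRing B] [IsDomain B] (φ : k →+* B) {ξ : B} {d : ℕ}
    (hd : 1 ≤ d) (h : ξ ^ d = 1) : ∃ c : k, c ^ d = 1 ∧ φ c = ξ := by
  letI := φ.toAlgebra
  have hint : _root_.IsIntegral k ξ := ⟨Polynomial.X ^ d - 1, Polynomial.monic_X_pow_sub_C 1 (by omega), by simp [h]⟩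
  obtain ⟨c, hc⟩ := minpoly.mem_range_of_degree_eq_one k ξ
    (IsAlgClosed.degree_eq_one_of_irreducible k (minpoly.irreducible hint))
  refine ⟨c, φ.injective ?_, hc⟩
  rw [map_pow, map_one]
  exact (congrArg (· ^ d) hc).trans h


/-- Let k be an algebraically closed field of characteristic zero, X a reduced scheme locally of finite
type over k, F an O_X-module, d ≥ 1 an integer and τ, τ' : F → O_X two O_X-linear maps whose d-th
symmetric powers agree, in the sense that for every open U and all sections a_1, …, a_d of F over U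
the products τ(a_1)⋯τ(a_d) and τ'(a_1)⋯τ'(a_d) coincide in Γ(U, O_X). Then for every point η of X
whose local ring is a field (a generic point of an irreducible component) there is a d-th root of
unity ξ in k such that, for every section a of F over an open containing η, the germ of τ'(a) at η
is ξ times the germ of τ(a). The published statement is for a coherent module on a projective nodal
curve and concludes that τ' = ξ τ with one root of unity ξ on each connected component; that form
fails for the union of two lines meeting at a node, F the ideal of the node, τ the inclusion and τ'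
equal to τ on one line and to −τ on the other (d = 2), so the conclusion is stated here at each
generic point, i.e. per irreducible component, which is what the stalkwise argument yields. -/
theorem result
    (k : Type u) [Field k] [IsAlgClosed k] [CharZero k]
    (X : Scheme.{u}) [X.Over (Spec (CommRingCat.of k))]
    [LocallyOfFiniteType (X ↘ Spec (CommRingCat.of k))] [AlgebraicGeometry.IsReduced X]
    (F : X.Modules) (τ τ' : F ⟶ Coh.structureModule X) (d : ℕ) (hd : 1 ≤ d)
    (hS : ∀ (U : X.Opens) (a : Fin d → Γ(F, U)),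
      (∏ i, (τ.app U (a i) : Γ(X, U)) : Γ(X, U)) = (∏ i, (τ'.app U (a i) : Γ(X, U)) : Γ(X, U)))
    (η : X) (hη : IsField (X.presheaf.stalk η)) :
    ∃ ξ : k, ξ ^ d = 1 ∧ ∀ (U : X.Opens) (hU : η ∈ U) (a : Γ(F, U)),
      (X.presheaf.germ U η hU (τ'.app U a : Γ(X, U)) : X.presheaf.stalk η) =
        Curv2.stalkMap k X η ξ * X.presheaf.germ U η hU (τ.app U a : Γ(X, U)) := by
  haveI : IsDomain (X.presheaf.stalk η) := hη.isDomain
  have hprod : ∀ {U : X.Opens} (hU : η ∈ U) (a : Fin d → Γ(F, U)),
      ∏ i, val τ hU (a i) = ∏ i, val τ' hU (a i) := fun {U} hU a => by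
    have := congrArg (X.presheaf.germ U η hU).hom (hS U a)
    exact (map_prod (X.presheaf.germ U η hU).hom (fun i : Fin d => show Γ(X, U) from τ.app U (a i)) _).symm.trans
      (this.trans (map_prod (X.presheaf.germ U η hU).hom (fun i : Fin d => show Γ(X, U) from τ'.app U (a i)) _))
  have hpow : ∀ {U : X.Opens} (hU : η ∈ U) (a : Γ(F, U)), val τ hU a ^ d = val τ' hU a ^ d := fun hU a => by
    have := hprod hU fun _ => a
    rwa [Finset.prod_const, Finset.prod_const, Finset.card_univ, Fintype.card_fin] at this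
  by_cases h0 : ∀ (U : X.Opens) (hU : η ∈ U) (a : Γ(F, U)), val τ hU a = 0
  · refine ⟨1, one_pow d, fun U hU a => ?_⟩
    have h1 := hpow hU a
    rw [h0 U hU a, zero_pow (by omega)] at h1
    show val τ' hU a = Curv2.stalkMap k X η 1 * val τ hU a
    rw [eq_zero_of_pow_eq_zero h1.symm, h0 U hU a, mul_zero]
  push Not at h0
  obtain ⟨U₀, hU₀, a₀, ha₀⟩ := h0
  obtain ⟨b₀, hb₀⟩ := hη.mul_inv_cancel ha₀
  have hξ : (val τ' hU₀ a₀ * b₀) ^ d = 1 := by rw [mul_pow, ← hpow hU₀ a₀, ← mul_pow, hb₀, one_pow]
  obtain ⟨c, hc, hcξ⟩ := key k (Curv2.stalkMap k X η) hd hξ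
  refine ⟨c, hc, fun U hU a => ?_⟩
  show val τ' hU a = Curv2.stalkMap k X η c * val τ hU a
  rw [hcξ]
  obtain ⟨e, rfl⟩ : ∃ e, d = e + 1 := ⟨d - 1, by omega⟩
  have hW : η ∈ U ⊓ U₀ := ⟨hU, hU₀⟩
  have h2 := hprod hW (Fin.cons (AModX.res F inf_le_left a) fun _ : Fin e => AModX.res F inf_le_right a₀)
  simp only [Fin.prod_univ_succ, Fin.cons_zero, Fin.cons_succ, Finset.prod_const, Finset.card_univ, Fintype.card_fin,
    val_res] at h2
  have hne : val τ hU₀ a₀ ^ e ≠ 0 := pow_ne_zero _ ha₀
  have h3 : val τ' hU₀ a₀ = (val τ' hU₀ a₀ * b₀) * val τ hU₀ a₀ := by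
    rw [mul_assoc, mul_comm b₀, hb₀, mul_one]
  apply mul_right_cancel₀ hne
  generalize val τ hU₀ a₀ = T, val τ' hU₀ a₀ = T', val τ hU a = S, val τ' hU a = S' at *
  generalize hx : T' * b₀ = x at *
  rw [h3, mul_pow] at h2
  have h4 : x ^ e * x = 1 := by rw [← pow_succ]; exact hξ
  calc S' * T ^ e = (x * (S' * (x ^ e * T ^ e))) := by linear_combination (-(S' * T ^ e)) * h4
    _ = x * (S * T ^ e) := by rw [h2]
    _ = x * S * T ^ e := by ring

end Groth.Agent.S18912
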