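import Groth.Statements.S18914
import Groth.Agent.TFCurvLib.AssTF
import Groth.Agent.QCoh.Stalk

set_option autoImplicit false
universe u
open CategoryTheory CategoryTheory.Limits AlgebraicGeometry
open TFNodal

namespace Groth.Agent.S18914

theorem germ_app_eq_zero {X : Scheme.{u}} {K F : X.Modules} (g : K ⟶ F) (U : X.Opens)
    (hg : (Scheme.Modules.restrictFunctor U.ι).map g = 0) {V : X.Opens} (a : Γ(K, V)) {y : X} (hyV : y ∈ V) (hyU : y ∈ U) :
    F.presheaf.germ V y hyV (g.app V a) = 0 := by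
  have hy : y ∈ U.ι ''ᵁ (U.ι ⁻¹ᵁ V) := ⟨⟨y, hyU⟩, hyV, rfl⟩
  have hle : U.ι ''ᵁ (U.ι ⁻¹ᵁ V) ≤ V := U.ι.image_preimage_le V
  have h0 : g.app (U.ι ''ᵁ (U.ι ⁻¹ᵁ V)) = 0 := congrArg (fun φ => Scheme.Modules.Hom.app φ (U.ι ⁻¹ᵁ V)) hg
  rw [← F.presheaf.germ_res_apply (homOfLE hle) y hy (g.app V a)]
  have h1 : F.presheaf.map (homOfLE hle).op (g.app V a) = g.app _ (K.presheaf.map (homOfLE hle).op a) :=
    (ConcreteCategory.congr_hom (g.mapPresheaf.naturality (homOfLE hle).op) a).symm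
  rw [h1, h0]
  exact map_zero _

theorem eq_zero_of_dense {X : Scheme.{u}} [IsLocallyNoetherian X] [AlgebraicGeometry.IsReduced X] {K F : X.Modules}
    (g : K ⟶ F) (U : X.Opens) (hU : Dense (U : Set X)) (hF : Coh.IsQCoh F) (htF : TorSh.IsTorsionFree F)
    (hg : (Scheme.Modules.restrictFunctor U.ι).map g = 0) : g = 0 := by
  refine Scheme.Modules.hom_ext _ _ fun V => AddCommGrpCat.hom_ext (AddMonoidHom.ext fun a => ?_)
  exact TFCurvLib.eq_zero_of_germ_isField hF htF (g.app V a) fun y hy hyf =>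
    germ_app_eq_zero g U hg a hy (TFCurvLib.mem_of_dense_of_isField hU hyf)



/-- Let k be an algebraically closed field of characteristic zero, X a reduced proper curve over k (a
proper k-scheme of dimension one), and E, F₁, F₂ coherent O_X-modules that are torsion free (every
stalk is a torsion free module over the local ring: no nonzero element is killed by a
non-zero-divisor). Let q₁ : E → F₁ and q₂ : E → F₂ be epimorphisms, U a dense open subset of X and φ
: F₁|_U ≅ F₂|_U an isomorphism of the restricted quotients, q₁|_U ≫ φ = q₂|_U. Then there is an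
isomorphism of quotients ψ : F₁ ≅ F₂, q₁ ≫ ψ = q₂, whose restriction to U is φ. -/
theorem result
    (k : Type u) [Field k] [IsAlgClosed k] [CharZero k]
    (X : Scheme.{u}) [X.Over (Spec (CommRingCat.of k))] [IsProper (X ↘ Spec (CommRingCat.of k))]
    [AlgebraicGeometry.IsReduced X] (hdim : topologicalKrullDim X = 1)
    (E F₁ F₂ : X.Modules) (hE : Coh.IsCoh E) (hF₁ : Coh.IsCoh F₁) (hF₂ : Coh.IsCoh F₂)
    (htE : TorSh.IsTorsionFree E) (ht₁ : TorSh.IsTorsionFree F₁) (ht₂ : TorSh.IsTorsionFree F₂)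
    (q₁ : E ⟶ F₁) (q₂ : E ⟶ F₂) [Epi q₁] [Epi q₂]
    (U : X.Opens) (hU : Dense (U : Set X))
    (φ : F₁.restrict U.ι ≅ F₂.restrict U.ι)
    (hφ : (Scheme.Modules.restrictFunctor U.ι).map q₁ ≫ φ.hom = (Scheme.Modules.restrictFunctor U.ι).map q₂) :
    ∃ ψ : F₁ ≅ F₂, q₁ ≫ ψ.hom = q₂ ∧ (Scheme.Modules.restrictFunctor U.ι).map ψ.hom = φ.hom := by
  haveI : IsLocallyNoetherian X := LocallyOfFiniteType.isLocallyNoetherian (X ↘ Spec (CommRingCat.of k))
  let R := Scheme.Modules.restrictFunctor U.ι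
  haveI : Epi (R.map q₁) := inferInstance
  have h₂ : kernel.ι q₁ ≫ q₂ = 0 := eq_zero_of_dense _ U hU hF₂.1 ht₂ (by
    rw [Functor.map_comp, ← hφ, ← Category.assoc, ← Functor.map_comp, kernel.condition, Functor.map_zero, zero_comp])
  have h₁ : kernel.ι q₂ ≫ q₁ = 0 := eq_zero_of_dense _ U hU hF₁.1 ht₁ (by
    rw [Functor.map_comp, (Iso.eq_comp_inv φ).2 hφ, ← Category.assoc, ← Functor.map_comp, kernel.condition,
      Functor.map_zero, zero_comp])
  refine ⟨⟨Abelian.epiDesc q₁ q₂ h₂, Abelian.epiDesc q₂ q₁ h₁, ?_, ?_⟩, Abelian.comp_epiDesc _ _ _, ?_⟩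
  · rw [← cancel_epi q₁]; simp
  · rw [← cancel_epi q₂]; simp
  · rw [← cancel_epi (R.map q₁), ← Functor.map_comp, Abelian.comp_epiDesc]
    exact hφ.symm

end Groth.Agent.S18914
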