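import Groth.Statements.S18916
import Groth.Agent.RefX.Hom
import Groth.Agent.H23.UnitSec
import Groth.Agent.S2284
import Mathlib

set_option autoImplicit false
universe u
open CategoryTheory CategoryTheory.Limits AlgebraicGeometry
open TFNodal

namespace Groth.Agent.S18916

set_option backward.isDefEq.respectTransparency false
set_option backward.isDefEq.respectTransparency.types false

/-- A reduced noetherian local ring that is no field has a nonzerodivisor in its maximal ideal. -/
theorem exists_nonZeroDivisor (R : Type u) [CommRing R] [IsLocalRing R] [IsNoetherianRing R] [_root_.IsReduced R]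
    (h : ¬ IsField R) : ∃ t ∈ IsLocalRing.maximalIdeal R, ∀ a : R, a * t = 0 → a = 0 := by
  by_contra hne
  push Not at hne
  have hfin : (minimalPrimes R).Finite := minimalPrimes.finite_of_isNoetherianRing R
  have hcov : (IsLocalRing.maximalIdeal R : Set R) ⊆ ⋃ p ∈ (hfin.toFinset : Set (Ideal R)), (p : Set R) := by
    intro t ht
    obtain ⟨a, hat, ha⟩ := hne t ht
    have hmem : a ∉ sInf (minimalPrimes R) := by
      show a ∉ sInf (⊥ : Ideal R).minimalPrimes
      rw [Ideal.sInf_minimalPrimes]
      show a ∉ nilradical R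
      rw [nilradical_eq_zero]
      exact ha
    rw [Submodule.mem_sInf] at hmem
    push Not at hmem
    obtain ⟨p, hp, hap⟩ := hmem
    refine Set.mem_biUnion (hfin.mem_toFinset.2 hp) ?_
    exact (hp.1.1.mem_or_mem (show a * t ∈ p by rw [hat]; exact p.zero_mem)).resolve_left hap
  obtain ⟨p, hp, hle⟩ := (Ideal.subset_union_prime (f := fun p => p) ⊤ ⊤
    fun p hp _ _ => (hfin.mem_toFinset.1 hp).1.1).1 hcov
  have hmin : minimalPrimes R = {IsLocalRing.maximalIdeal R} := by
    have hp' := hfin.mem_toFinset.1 hp
    have hpm : p = IsLocalRing.maximalIdeal R := le_antisymm (IsLocalRing.le_maximalIdeal hp'.1.1.ne_top) hle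
    refine Set.eq_singleton_iff_unique_mem.2 ⟨hpm ▸ hp', fun q hq => ?_⟩
    exact le_antisymm (IsLocalRing.le_maximalIdeal hq.1.1.ne_top)
      ((hpm ▸ hp').2 ⟨hq.1.1, hq.1.2⟩ (IsLocalRing.le_maximalIdeal hq.1.1.ne_top))
  refine h (IsLocalRing.isField_iff_maximalIdeal_eq.2 ?_)
  have := Ideal.sInf_minimalPrimes (I := (⊥ : Ideal R))
  rw [show (⊥ : Ideal R).minimalPrimes = _ from hmin, sInf_singleton] at this
  rw [this]
  exact nilradical_eq_zero R

open AlgebraicGeometry in
/-- At a closed point which is not open the local ring is no field. -/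
theorem not_isField_stalk (X : Scheme.{u}) [IsNoetherian X] (x : X) (hx : IsClosed ({x} : Set X))
    (ho : ¬ IsOpen ({x} : Set X)) : ¬ IsField (X.presheaf.stalk x) := fun h => by
  haveI : TopologicalSpace.NoetherianSpace X := inferInstance
  letI := h.toField
  have hxZ : ∀ Z ∈ irreducibleComponents X, x ∈ Z → Z = {x} := fun Z hZ hxZ => by
    have hg := hZ.1.isGenericPoint_genericPoint_closure
    rw [(isClosed_of_mem_irreducibleComponents Z hZ).closure_eq] at hg
    have h1 : hZ.1.genericPoint ∈ Set.range (X.fromSpecStalk x) := by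
      rw [Scheme.range_fromSpecStalk]
      exact hg.specializes hxZ
    obtain ⟨z, hz⟩ := h1
    rw [show z = IsLocalRing.closedPoint _ from Subsingleton.elim (α := PrimeSpectrum _) _ _,
      Scheme.fromSpecStalk_closedPoint] at hz
    rw [← hg, ← hz, hx.closure_eq]
  refine ho ?_
  have hfin : (irreducibleComponents X).Finite := TopologicalSpace.NoetherianSpace.finite_irreducibleComponents
  have he : ({x} : Set X) = (⋃₀ (irreducibleComponents X \ {{x}}))ᶜ := by
    ext y
    simp only [Set.mem_singleton_iff, Set.mem_compl_iff, Set.mem_sUnion, Set.mem_diff, not_exists, not_and, and_imp]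
    refine ⟨fun hy Z hZ hne hyZ => hne (hxZ Z hZ (hy ▸ hyZ)), fun hy => ?_⟩
    by_contra hne
    have h2 := irreducibleComponent_mem_irreducibleComponents y
    refine hy _ h2 (fun he => hne ?_) mem_irreducibleComponent
    exact Set.mem_singleton_iff.1 (he ▸ mem_irreducibleComponent (x := y))
  rw [he]
  rw [Set.sUnion_eq_biUnion, isOpen_compl_iff]
  exact (hfin.sdiff).isClosed_biUnion fun Z hZ => isClosed_of_mem_irreducibleComponents Z hZ.1

/-- Let k be an algebraically closed field of characteristic zero, X a reduced proper curve over k (a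
proper k-scheme of dimension one) without isolated points (no closed point is open, i.e. X is
one-dimensional at every point) and F a coherent O_X-module. Then the dual 𝓗om(F, O_X) is torsion
free: no closed point of X is an associated point of it. -/
theorem result
    (k : Type u) [Field k] [IsAlgClosed k] [CharZero k]
    (X : Scheme.{u}) [X.Over (Spec (CommRingCat.of k))] [IsProper (X ↘ Spec (CommRingCat.of k))]
    [AlgebraicGeometry.IsReduced X] (hdim : topologicalKrullDim X = 1)
    (hpure : ∀ x : X, IsClosed ({x} : Set X) → ¬ IsOpen ({x} : Set X))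
    (F : X.Modules) (hF : Coh.IsCoh F) (x : X) (hx : IsClosed ({x} : Set X)) :
    ¬ Curv2.IsAssPoint (RefHull.dual F) x := by
  haveI : IsNoetherian X := by
    haveI : IsLocallyNoetherian X := LocallyOfFiniteType.isLocallyNoetherian (X ↘ Spec (CommRingCat.of k))
    haveI : CompactSpace X := QuasiCompact.compactSpace_of_compactSpace (X ↘ Spec (CommRingCat.of k))
    exact ⟨⟩
  intro h
  obtain ⟨hp, θ, hθ⟩ := (isAssociatedPrime_iff (R := X.presheaf.stalk x)).1 h
  have hF' : CohB1.IsFT F := hF.2
  obtain ⟨t, ht, hreg⟩ := exists_nonZeroDivisor (X.presheaf.stalk x) (not_isField_stalk X x hx (hpure x hx))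
  have htθ : t • θ = 0 := by
    rw [hθ, Submodule.mem_colon_singleton] at ht
    exact ht
  have hθ0 : θ = 0 := by
    refine RefX.evalStalk_injective hF' x (LinearMap.ext fun v => ?_)
    rw [map_zero]
    have h1 := congrArg (fun e => RefHull.evalStalk F (Coh.structureModule X) x e v) htθ
    simp only [map_smul, map_zero, LinearMap.smul_apply, LinearMap.zero_apply] at h1
    let e : X.presheaf.stalk x ≃ₗ[X.presheaf.stalk x] (Coh.structureModule X).presheaf.stalk x :=
      LinearEquiv.ofBijective (LinearMap.toSpanSingleton (X.presheaf.stalk x) _ (H23.UnitSec.one x))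
        ⟨fun a b h => sub_eq_zero.1 (H23.UnitSec.eq_zero_of_smul_one (a - b) (by rw [sub_smul]; exact sub_eq_zero.2 h)),
          fun m => Submodule.mem_span_singleton.1 ((H23.UnitSec.span_one x).ge (Submodule.mem_top : m ∈ ⊤))⟩
    refine e.symm.injective (((map_zero e.symm)).symm ▸ hreg _ ?_)
    rw [mul_comm, ← smul_eq_mul, ← map_smul, h1, map_zero]
  subst hθ0
  refine hp.ne_top (hθ.trans ?_)
  exact Submodule.colon_singleton_zero

end Groth.Agent.S18916
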