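import Groth.Statements.S1892
import Groth.Agent.GrpdLib.SubGroupoid

set_option backward.isDefEq.respectTransparency false
set_option backward.isDefEq.respectTransparency.types false
-- import your own Groth.Agent.* helpers here

set_option autoImplicit false
universe u
open CategoryTheory CategoryTheory.Limits AlgebraicGeometry
open Grpd

namespace Groth.Agent.S1892

/-- Let (U₁, R₁, s, t, c) and (U₂, R₂, s, t, c) be groupoid schemes over S with U₂ isomorphic to Spec k
for a field k, and a : R₁ → R₂ a morphism of groupoid schemes which is an isomorphism on objects. If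
a(R₁) is locally closed in R₂ then it is closed. (A groupoid scheme carries U, R, s, t, c, e, i over
S satisfying the groupoid axioms on T-points.) -/
theorem result (S : Scheme.{u}) (G₁ G₂ : Grpd.GroupoidScheme S) (k : Type u) [Field k] (eU : G₂.U ≅ Spec (CommRingCat.of k)) (a : Grpd.GroupoidScheme.Hom G₁ G₂) [IsIso a.fU] (hlc : IsLocallyClosed (Set.range ⇑a.fR)) : IsClosed (Set.range ⇑a.fR) :=  Groth.Agent.GrpdLib.isClosed_range_of_isLocallyClosed k eU a hlc
end Groth.Agent.S1892
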