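import Groth.Statements.S18925
import Groth.Agent.ResHypLib.Count

set_option autoImplicit false
universe u
open ResHyp

namespace Groth.Agent.S18925

/-- Let F be a finite field with q elements and let n ≥ 2. Count the pairs (f, g) where f is a binary
quadratic form and g a binary form of degree n over F, recorded by their coefficient vectors of
lengths 3 and n + 1 (leading coefficients may vanish), whose resultant — the Sylvester determinant
of the two coefficient vectors with size parameters 2 and n — is nonzero, i.e. f and g have no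
common zero on the projective line. The number of such pairs is q ^ (n + 4) - q ^ (n + 3) - q ^ (n +
2) + q ^ (n + 1). (The source's result is the compactly supported ℓ-adic cohomology of this locus:
one-dimensional of Tate weights n + 4, n + 3, n + 2, n + 1 in degrees 2n + 8, 2n + 7, 2n + 5, 2n + 4
and zero elsewhere; this row keeps only the resulting point count.) -/
theorem result (F : Type u) [Field F] [Fintype F] (n : ℕ) (h2 : 2 ≤ n) :
    Nat.card {p : (Fin 3 → F) × (Fin (n + 1) → F) //
      Polynomial.resultant (∑ i : Fin 3, Polynomial.C (p.1 i) * Polynomial.X ^ (i : ℕ))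
        (∑ j : Fin (n + 1), Polynomial.C (p.2 j) * Polynomial.X ^ (j : ℕ)) 2 n ≠ 0} =
      Fintype.card F ^ (n + 4) - Fintype.card F ^ (n + 3) - Fintype.card F ^ (n + 2) + Fintype.card F ^ (n + 1) := by
  refine (ResHypLib.card_res_ne_zero h2).trans ?_
  obtain ⟨r, hr⟩ : ∃ r, Fintype.card F = r + 2 :=
    ⟨Fintype.card F - 2, by have := Fintype.one_lt_card (α := F); omega⟩
  rw [hr, show n + 4 = n + 1 + 3 by omega, show n + 3 = n + 1 + 2 by omega, show n + 2 = n + 1 + 1 by omega,
    pow_add _ (n + 1) 3, pow_add _ (n + 1) 2, pow_add _ (n + 1) 1, ← Nat.mul_sub_left_distrib,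
    ← Nat.mul_sub_left_distrib]
  have : (r + 2) ^ 3 - (r + 2) ^ 2 - (r + 2) ^ 1 + 1 = (r + 2 - 1) ^ 2 * (r + 2 + 1) := by
    rw [Nat.sub_sub, show r + 2 - 1 = r + 1 by omega]
    have : (r + 2) ^ 3 + 1 = ((r + 2) ^ 2 + (r + 2) ^ 1) + (r + 1) ^ 2 * (r + 2 + 1) := by ring
    have h4 : 1 ≤ (r + 1) ^ 2 * (r + 2 + 1) := Nat.mul_pos (pow_pos (by omega) 2) (by omega)
    omega
  rw [mul_assoc, ← this, mul_add, mul_one]

end Groth.Agent.S18925
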