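import Groth.Statements.S18926
import Groth.Agent.H23.GeomConnGamma
-- import your own Groth.Agent.* helpers here

set_option autoImplicit false
universe u
open FinCov

namespace Groth.Agent.S18926

open CategoryTheory CategoryTheory.Limits AlgebraicGeometry in
/-- Let k be a field, Y a proper, geometrically connected and geometrically reduced scheme over k, and ρ
: X ⟶ Y a finite, flat and surjective morphism. If the zeroth cohomology group of the cokernel of
the O_Y-module map O_Y ⟶ ρ_* O_X has at most one element, then X is geometrically connected over k.
(The published statement assumes Y projective and takes for X one of the finite locally free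
Gorenstein covers of degree 3, 4 or 5 that it constructs, with the cokernel identified with a dual
vector bundle; this row assumes only that ρ is finite, flat and surjective and that Y is proper.) -/
theorem result
    (k : Type u) [Field k] (X Y : Scheme.{u}) (g : Y ⟶ Spec (CommRingCat.of k)) (ρ : X ⟶ Y)
    [IsProper g] [GeometricallyConnected g] [GeometricallyReduced g]
    [IsFinite ρ] [Flat ρ] [Surjective ρ]
    (h0 : Subsingleton (Coh.HH Y (cokernel (ClSub.unitToPush ρ)) 0)) :
    GeometricallyConnected (ρ ≫ g) := by
  
  have hg : Function.Bijective g.appTop := by
    haveI : ConnectedSpace ↥(pullback g (Spec.map (CommRingCat.ofHom (algebraMap k (AlgebraicClosure k))))) :=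
      GeometricallyConnected.geometrically_connectedSpace (f := g) _ _ _ (.of_hasPullback _ _)
    haveI : IsReduced (pullback g (Spec.map (CommRingCat.ofHom (algebraMap k (AlgebraicClosure k))))) :=
      GeometricallyReduced.geometrically_isReduced (f := g) _ _ _ (.of_hasPullback _ _)
    exact Groth.Agent.H23.RigidGamma.bijective_appTop_of_algClosure g
  refine Groth.Agent.H23.GeomConnGamma.geometricallyConnected_of_gamma (ρ ≫ g) ?_
  rw [Scheme.Hom.comp_appTop]
  exact (Groth.Agent.H23.GeomConnGamma.appTop_bijective ρ h0).comp hg

end Groth.Agent.S18926
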