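import Groth.Statements.S18927
import Mathlib

set_option autoImplicit false
universe u v
open W4c6secantcecovers

namespace Groth.Agent.S18927

open TensorProduct W4c6secantcecovers

variable {R : Type u} [CommRing R] {r : ℕ}

theorem contr_ι_mul (j : Fin r) (a : Fin r → R) (b : SSLam R r) :
    ssContr R r j (ExteriorAlgebra.ι R a * b) = a j • b - ExteriorAlgebra.ι R a * ssContr R r j b :=
  CliffordAlgebra.contractLeft_ι_mul _ a b

theorem contr_wedge_mul (j : Fin r) : ∀ (d : ℕ) (v : Fin d → (Fin r → R)) (η : SSLam R r),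
    ssContr R r j (ExteriorAlgebra.ιMulti R d v * η) =
      ssContr R r j (ExteriorAlgebra.ιMulti R d v) * η +
        (-1 : R) ^ d • (ExteriorAlgebra.ιMulti R d v * ssContr R r j η) := by
  intro d
  induction d with
  | zero =>
    intro v η
    have h1 : ssContr R r j (1 : SSLam R r) = 0 := CliffordAlgebra.contractLeft_one _ _
    rw [ExteriorAlgebra.ιMulti_zero_apply, one_mul, one_mul, h1, zero_mul, zero_add, pow_zero, one_smul]
  | succ d ih =>
    intro v η
    rw [ExteriorAlgebra.ιMulti_succ_apply, mul_assoc, contr_ι_mul, ih, contr_ι_mul, sub_mul, smul_mul_assoc,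
      mul_add, mul_smul_comm, mul_assoc, mul_assoc, pow_succ', mul_smul, neg_one_smul]
    abel

theorem wedge_mul_wedge {a b : ℕ} (h : r < a + b) (v : Fin a → (Fin r → R)) (w : Fin b → (Fin r → R)) :
    ExteriorAlgebra.ιMulti R a v * ExteriorAlgebra.ιMulti R b w = 0 := by
  have h0 : (ExteriorAlgebra.ιMulti R (a + b) : (Fin r → R) [⋀^Fin (a + b)]→ₗ[R] SSLam R r) = 0 :=
    (Pi.basisFun R (Fin r)).ext_alternating fun f hf => by
      have := Fintype.card_le_of_injective f hf
      simp only [Fintype.card_fin] at this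
      omega
  have h1 := congrArg (fun g : (Fin r → R) [⋀^Fin (a + b)]→ₗ[R] SSLam R r => g (Fin.append v w)) h0
  simp only [AlternatingMap.zero_apply, ExteriorAlgebra.ιMulti_apply] at h1
  rw [ExteriorAlgebra.ιMulti_apply, ExteriorAlgebra.ιMulti_apply, ← List.prod_append, ← List.ofFn_fin_append]
  rw [← h1]
  congr 1
  exact congrArg List.ofFn (funext fun i => by
    induction i using Fin.addCases <;> simp)

open TensorProduct in
/-- Let R be a commutative ring, E = R^r the free module with its coordinate basis, S = R[X_1, …, X_r]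
(the symmetric algebra of E), and N an R-module carrying R-linear operators φ_j (the action of the
j-th basis vector of E) and an R-bilinear form β with β(φ_j n, m) = β(n, φ_j m) for every j. On (ΛE
⊗ S) ⊗ N — all terms Λ^k(S ⊗ E) ⊗ N of the Scheja–Storch complex at once — let δ be the differential
sending (e_1 ∧ ⋯ ∧ e_k) ⊗ s ⊗ n to Σ_i (-1)^(i-1) (e_1 ∧ ⋯ ê_i ⋯ ∧ e_k) ⊗ x(e_i) s ⊗ n + Σ_i (-1)^i
(e_1 ∧ ⋯ ê_i ⋯ ∧ e_k) ⊗ s ⊗ e_i · n, and pair a term u = ω ⊗ s ⊗ n of degree k with v = η ⊗ t ⊗ m by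
⟨u, v⟩_k = (-1)^(k choose 2) β(n, m) · (ω ∧ η) ⊗ s t. Then the differential is adjoint to itself for
this pairing in complementary degrees: for u = (e_0 ∧ ⋯ ∧ e_k) ⊗ s ⊗ n of degree k + 1 ≤ r and v =
(f_1 ∧ ⋯ ∧ f_(r-k)) ⊗ t ⊗ m of degree r - k, ⟨δ u, v⟩_k = ⟨u, δ v⟩_(k+1). (The source takes E
finitely generated projective and N a module over the ambient algebra with a pairing satisfying ⟨f,
g h⟩ = ⟨g f, h⟩; the proof runs on a basis, which is the form stated here, with the action of E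
recorded by the operators φ_j.) -/
theorem result
    (R : Type u) [CommRing R] (r : ℕ) (N : Type v) [AddCommGroup N] [Module R N]
    (φ : Fin r → (N →ₗ[R] N)) (β : N →ₗ[R] N →ₗ[R] R)
    (hβ : ∀ (j : Fin r) (n m : N), β (φ j n) m = β n (φ j m))
    (k : ℕ) (hk : k < r)
    (e : Fin (k + 1) → (Fin r → R)) (f : Fin (r - k) → (Fin r → R))
    (s t : MvPolynomial (Fin r) R) (n m : N) :
    W4c6secantcecovers.ssPair R r N β k
        (W4c6secantcecovers.ssDelta R r N φ ((ExteriorAlgebra.ιMulti R (k + 1) e ⊗ₜ[R] s) ⊗ₜ[R] n))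
        ((ExteriorAlgebra.ιMulti R (r - k) f ⊗ₜ[R] t) ⊗ₜ[R] m) =
      W4c6secantcecovers.ssPair R r N β (k + 1)
        ((ExteriorAlgebra.ιMulti R (k + 1) e ⊗ₜ[R] s) ⊗ₜ[R] n)
        (W4c6secantcecovers.ssDelta R r N φ ((ExteriorAlgebra.ιMulti R (r - k) f ⊗ₜ[R] t) ⊗ₜ[R] m)) := by
  set ω := ExteriorAlgebra.ιMulti R (k + 1) e
  set η := ExteriorAlgebra.ιMulti R (r - k) f
  have key : ∀ j : Fin r, ssContr R r j ω * η = (-1 : R) ^ k • (ω * ssContr R r j η) := by
    intro j
    have h := contr_wedge_mul j (k + 1) e η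
    rw [wedge_mul_wedge (by omega) e f, map_zero, pow_succ', mul_smul, neg_one_smul] at h
    exact sub_eq_zero.mp (by rw [sub_eq_add_neg]; exact h.symm)
  have hP : ∀ (l : ℕ) (x y : SSLam R r) (s' t' : MvPolynomial (Fin r) R) (n' m' : N),
      ssPair R r N β l ((x ⊗ₜ[R] s') ⊗ₜ[R] n') ((y ⊗ₜ[R] t') ⊗ₜ[R] m') =
        (((-1 : R) ^ l.choose 2) * β n' m') • ((x * y) ⊗ₜ[R] (s' * t')) := by
    intro l x y s' t' n' m'
    simp [ssPair, ssPairAux, Algebra.TensorProduct.tmul_mul_tmul, mul_smul]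
  have hch : (k + 1).choose 2 = k.choose 2 + k := by
    rw [Nat.choose_succ_succ', Nat.choose_one_right, add_comm]
  simp only [ssDelta, ssDKoszul, ssDAct, LinearMap.sum_apply, LinearMap.add_apply, LinearMap.smul_apply,
    TensorProduct.map_tmul, LinearMap.mulLeft_apply, LinearMap.id_coe, id_eq, map_sum, map_add, map_smul]
  refine Finset.sum_congr rfl fun j _ => ?_
  rw [hP, hP, hP, hP, key, hch, pow_add, hβ, mul_assoc (MvPolynomial.X j), mul_left_comm s]
  simp only [TensorProduct.smul_tmul', ← mul_smul, smul_add]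
  congr 1 <;> congr 2 <;> ring

end Groth.Agent.S18927
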