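import Groth.Statements.S18928
import Mathlib.RingTheory.DividedPowers.Basic
import Mathlib.Tactic.LinearCombination

set_option autoImplicit false
universe u
open DPow

namespace Groth.Agent.S18928

/-- Let B be a commutative ring, I an ideal of B with a divided power structure, p a prime, r a natural
number, b an element of B and δ an element of I. Then (b + δ)^(p^r) − b^(p^r) lies in the ideal p^r
I. (The source states this for a divided power thickening over the Witt vectors of length n and 0 ≤
r ≤ n; neither restriction is used.) -/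
theorem result {B : Type u} [CommRing B] {I : Ideal B}
    (hI : DividedPowers I) (p : ℕ) [Fact p.Prime] (r : ℕ) (b δ : B) (hδ : δ ∈ I) :
    (b + δ) ^ (p ^ r) - b ^ (p ^ r) ∈ Ideal.span {((p : B) ^ r)} * I := by
  rw [add_comm b δ, add_pow, Finset.sum_range_succ', pow_zero, one_mul, Nat.sub_zero, Nat.choose_zero_right,
    Nat.cast_one, mul_one, add_sub_cancel_right]
  refine sum_mem fun i _ => ?_
  rw [← hI.factorial_mul_dpow_eq_pow hδ]
  have hdvd : p ^ r ∣ Nat.choose (p ^ r) (i + 1) * (i + 1).factorial := by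
    rw [mul_comm, ← Nat.descFactorial_eq_factorial_mul_choose]
    obtain ⟨n, hn⟩ : ∃ n, p ^ r = n + 1 :=
      Nat.exists_eq_succ_of_ne_zero (pow_ne_zero r (Fact.out : p.Prime).ne_zero)
    rw [hn, Nat.succ_descFactorial_succ]
    exact dvd_mul_right _ _
  obtain ⟨c, hc⟩ := hdvd
  have hc' := congrArg (Nat.cast (R := B)) hc
  push_cast at hc'
  rw [show ((Nat.factorial (i + 1) : B) * hI.dpow (i + 1) δ) * b ^ (p ^ r - (i + 1)) * (Nat.choose (p ^ r) (i + 1) : B) =
    (p : B) ^ r * ((c : B) * b ^ (p ^ r - (i + 1)) * hI.dpow (i + 1) δ) by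
      linear_combination (b ^ (p ^ r - (i + 1)) * hI.dpow (i + 1) δ) * hc']
  exact Ideal.mul_mem_mul (Ideal.mem_span_singleton_self _)
    (Ideal.mul_mem_left _ _ (hI.dpow_mem (Nat.succ_ne_zero i) hδ))

end Groth.Agent.S18928
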