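import Groth.Statements.S18933
import Mathlib
import Groth.Agent.Synt29.Descent

set_option autoImplicit false
set_option linter.style.haveILetI false
universe u
open Synt

namespace Groth.Agent.S18933

open Groth.Agent.Synt29 TensorProduct

/-- The presentation `x_i ^ p = a_i`. -/
noncomputable abbrev rootPoly (p : ℕ) (R : Type u) [CommRing R] {m : ℕ} (a : Fin m → R) :
    Fin m → MvPolynomial (Fin m) R :=
  fun i => MvPolynomial.X i ^ p - MvPolynomial.C (a i)

theorem isIntegral_rootRing (p : ℕ) (hp : p ≠ 0) (R : Type u) [CommRing R] {m : ℕ} (a : Fin m → R) :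
    Algebra.IsIntegral R (Synt.RelGCIRing R m m (rootPoly p R a)) := by
  refine ⟨fun x => ?_⟩
  obtain ⟨x, rfl⟩ := Ideal.Quotient.mk_surjective x
  induction x using MvPolynomial.induction_on with
  | C r => exact isIntegral_algebraMap (R := R) (x := r)
  | add f g hf hg => rw [map_add]; exact hf.add hg
  | mul_X f i hf =>
    rw [map_mul]
    refine hf.mul (IsIntegral.of_pow (Nat.pos_of_ne_zero hp) ?_)
    have : (Ideal.Quotient.mk (Ideal.span (Set.range (rootPoly p R a))) (MvPolynomial.X i)) ^ p =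
        algebraMap R _ (a i) := by
      rw [← map_pow]
      exact Ideal.Quotient.eq.2 (Ideal.subset_span ⟨i, rfl⟩)
    rw [this]
    exact isIntegral_algebraMap

theorem isRelGCI_rootPoly (p : ℕ) (hp : p ≠ 0) (R : Type u) [CommRing R] {m : ℕ} (a : Fin m → R) :
    Synt.IsRelGCI R m m (rootPoly p R a) := by
  rw [isRelGCI_iff]
  intro q hn
  refine ⟨le_rfl, ?_⟩
  let k := q.asIdeal.ResidueField
  have h : mapPoly R (rootPoly p R a) k = rootPoly p k (fun i => algebraMap R k (a i)) := funext fun i => by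
    simp [mapPoly, rootPoly]
  rw [h]
  haveI := isIntegral_rootRing p hp k (fun i => algebraMap R k (a i))
  haveI : Algebra.FiniteType k (Synt.RelGCIRing k m m (rootPoly p k (fun i => algebraMap R k (a i)))) :=
    Algebra.FiniteType.of_surjective (Ideal.Quotient.mkₐ k _) Ideal.Quotient.mk_surjective
  haveI : Module.Finite k (Synt.RelGCIRing k m m (rootPoly p k (fun i => algebraMap R k (a i)))) :=
    Algebra.IsIntegral.finite
  haveI : IsArtinianRing (Synt.RelGCIRing k m m (rootPoly p k (fun i => algebraMap R k (a i)))) :=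
    IsArtinianRing.of_finite k _
  rw [Nat.sub_self]
  exact Ring.krullDimLE_iff.1 inferInstance

theorem isSyntomic_of_ringHom {R S T : Type u} [CommRing R] [CommRing S] [CommRing T] [Algebra R S]
    (ψ : R →+* T) (e : S ≃+* T) (he : ∀ r, e (algebraMap R S r) = ψ r) (h : Synt.IsSyntomic R S) :
    @Synt.IsSyntomic R _ T _ ψ.toAlgebra ∧ ψ.Flat := by
  letI := ψ.toAlgebra
  let e1 : S ≃ₐ[R] T := AlgEquiv.ofRingEquiv (f := e) he
  obtain ⟨h1, h2, h3⟩ := h
  haveI := h1
  haveI := h2
  have hflat : Module.Flat R T := Module.Flat.of_linearEquiv e1.symm.toLinearEquiv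
  refine ⟨⟨hflat, Algebra.FinitePresentation.equiv e1, fun p => ?_⟩, hflat⟩
  let e' : p.asIdeal.Fiber S ≃ₐ[p.asIdeal.ResidueField] p.asIdeal.Fiber T :=
    Algebra.TensorProduct.congr AlgEquiv.refl e1
  exact isLCIOver_of_equiv (RingEquiv.refl _) e'.toRingEquiv (fun a => e'.commutes a) (h3 p)

/-- Let p be a prime, A a Noetherian commutative ring and m a natural number, and let φ be the A-algebra
endomorphism of the polynomial ring A[T_1, …, T_m] with φ(T_i) = T_i^p. Then φ is syntomic and
faithfully flat (so Spec φ is a covering for the syntomic topology). -/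
theorem result (p : ℕ) [Fact p.Prime]
    (A : Type u) [CommRing A] [IsNoetherianRing A] (m : ℕ)
    (φ : MvPolynomial (Fin m) A →ₐ[A] MvPolynomial (Fin m) A)
    (hφ : ∀ i : Fin m, φ (MvPolynomial.X i) = MvPolynomial.X i ^ p) :
    @Synt.IsSyntomic (MvPolynomial (Fin m) A) _ (MvPolynomial (Fin m) A) _ φ.toRingHom.toAlgebra ∧
      φ.toRingHom.FaithfullyFlat := by
  have hp : p ≠ 0 := (Fact.out : p.Prime).ne_zero
  let G : Fin m → MvPolynomial (Fin m) (MvPolynomial (Fin m) A) :=
    rootPoly p (MvPolynomial (Fin m) A) MvPolynomial.X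
  let fwd : Synt.RelGCIRing (MvPolynomial (Fin m) A) m m G →+* MvPolynomial (Fin m) A :=
    Ideal.Quotient.lift _ (MvPolynomial.eval₂Hom φ.toRingHom MvPolynomial.X) (by
      intro x hx
      refine (Ideal.span_le (I := RingHom.ker (MvPolynomial.eval₂Hom φ.toRingHom MvPolynomial.X))).2 ?_ hx
      rintro _ ⟨i, rfl⟩
      simp [G, rootPoly, hφ])
  let bwd : MvPolynomial (Fin m) A →+* Synt.RelGCIRing (MvPolynomial (Fin m) A) m m G :=
    MvPolynomial.eval₂Hom (((Ideal.Quotient.mk _).comp MvPolynomial.C).comp MvPolynomial.C)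
      (fun i => Ideal.Quotient.mk _ (MvPolynomial.X i))
  have hφC : ∀ a : A, φ (MvPolynomial.C a) = MvPolynomial.C a := fun a => φ.commutes a
  have h1 : fwd.comp bwd = RingHom.id _ :=
    MvPolynomial.ringHom_ext (fun a => by simp [fwd, bwd, hφC]) (fun i => by simp [fwd, bwd])
  have h3 : bwd.comp φ.toRingHom = (Ideal.Quotient.mk _).comp MvPolynomial.C := by
    refine MvPolynomial.ringHom_ext (fun a => by simp [bwd, hφC]) (fun i => ?_)
    show bwd (φ (MvPolynomial.X i)) = _
    rw [hφ, map_pow, show bwd (MvPolynomial.X i) = Ideal.Quotient.mk _ (MvPolynomial.X i) by simp [bwd],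
      ← map_pow]
    exact Ideal.Quotient.eq.2 (Ideal.subset_span ⟨i, rfl⟩)
  have h2 : bwd.comp fwd = RingHom.id _ := by
    refine Ideal.Quotient.ringHom_ext (MvPolynomial.ringHom_ext (fun r => ?_) (fun i => by simp [fwd, bwd]))
    have := RingHom.congr_fun h3 r
    simp only [RingHom.comp_apply] at this
    simpa [fwd] using this
  let e : Synt.RelGCIRing (MvPolynomial (Fin m) A) m m G ≃+* MvPolynomial (Fin m) A :=
    RingEquiv.ofRingHom fwd bwd h1 h2
  have he : ∀ r, e (algebraMap (MvPolynomial (Fin m) A) (Synt.RelGCIRing (MvPolynomial (Fin m) A) m m G) r) =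
      φ.toRingHom r := fun r => by
    show fwd (Ideal.Quotient.mk _ (MvPolynomial.C r)) = φ r
    simp [fwd]
  obtain ⟨hsyn, hfl⟩ := isSyntomic_of_ringHom φ.toRingHom e he
    (isSyntomic_relGCIRing (isRelGCI_rootPoly p hp _ MvPolynomial.X))
  refine ⟨hsyn, RingHom.FaithfullyFlat.iff_flat_and_comap_surjective.2 ⟨hfl, fun P => ?_⟩⟩
  haveI := isIntegral_rootRing p hp (MvPolynomial (Fin m) A) MvPolynomial.X
  have hinj : Function.Injective φ := by
    have : φ = MvPolynomial.expand p := MvPolynomial.algHom_ext fun i => by simp [hφ]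
    rw [this]
    exact MvPolynomial.expand_injective (Nat.pos_of_ne_zero hp)
  obtain ⟨Q, hQ1, hQ2, hQ3⟩ := Ideal.exists_ideal_over_prime_of_isIntegral
    (S := Synt.RelGCIRing (MvPolynomial (Fin m) A) m m G) P.asIdeal ⊥ (by
    intro x hx
    have hx0 : algebraMap (MvPolynomial (Fin m) A) (Synt.RelGCIRing (MvPolynomial (Fin m) A) m m G) x = 0 := hx
    have : φ x = φ 0 := by
      rw [map_zero]
      show φ.toRingHom x = 0
      rw [← he, hx0, map_zero]
    rw [hinj this]
    exact zero_mem _)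
  haveI := hQ2
  refine ⟨⟨Q.comap bwd, inferInstance⟩, PrimeSpectrum.ext ?_⟩
  show (Q.comap bwd).comap φ.toRingHom = P.asIdeal
  rw [Ideal.comap_comap, h3]
  exact hQ3

end Groth.Agent.S18933
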