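import Groth.Statements.S18935
import Groth.Agent.KRegLib.FFDescent
import Groth.Agent.KoszulFlatLib.OfExact

set_option autoImplicit false
universe u
open LCI

namespace Groth.Agent.S18935

/-- Let R be a commutative ring and I a proper ideal of R which is generated by some Koszul-regular
sequence. A finite sequence f of generators of I is Koszul-regular if and only if f has the smallest
possible length among all finite generating sequences of I. (Properness of I is needed: the
sequences (1) and (1, 1) are both Koszul-regular and generate the unit ideal.) -/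
theorem result {R : Type u} [CommRing R] {I : Ideal R} (hI : I ≠ ⊤)
    (g : List R) (hg : LCI.IsKoszulRegularSeq R g) (hgI : Ideal.ofList g = I)
    (f : List R) (hfI : Ideal.ofList f = I) :
    LCI.IsKoszulRegularSeq R f ↔ ∀ h : List R, Ideal.ofList h = I → f.length ≤ h.length := by
  classical
  have hspan : ∀ l : List R, Ideal.ofList l = Ideal.span (Set.range l.get) := fun l => by
    rw [Ideal.ofList]
    congr 1
    ext z
    simp [List.mem_iff_get, Set.mem_setOf_eq]
  -- matrices between generating lists
  have hmat : ∀ a b : List R, Ideal.ofList a = I → Ideal.ofList b = I →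
      ∃ N : Matrix (Fin a.length) (Fin b.length) R, ∀ i, a.get i = ∑ j, N i j * b.get j := by
    intro a b ha hb
    have : ∀ i, ∃ c : Fin b.length → R, ∑ j, c j * b.get j = a.get i := fun i =>
      Ideal.mem_span_range_iff_exists_fun.1 (by
        rw [← hspan, hb, ← ha, hspan]
        exact Ideal.subset_span ⟨i, rfl⟩)
    choose c hc using this
    exact ⟨Matrix.of c, fun i => (hc i).symm⟩
  -- an exact list is minimal modulo every prime containing the ideal
  have key : ∀ (a : List R), LCI.IsKoszulRegularSeq R a → Ideal.ofList a = I → ∀ (b : List R),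
      Ideal.ofList b = I → ∀ (M : Matrix (Fin b.length) (Fin a.length) R) (N : Matrix (Fin a.length) (Fin b.length) R),
      (∀ i, b.get i = ∑ j, M i j * a.get j) → (∀ i, a.get i = ∑ j, N i j * b.get j) →
      ∀ (Q : Ideal R), I ≤ Q → (N * M).map (Ideal.Quotient.mk Q) = 1 := by
    intro a ha hai b hb M N hM hN Q hQ
    have hex : WiebeLib.IsExact a.get := WiebeLib.isExact_of_isKoszulRegularSeq _ (by rw [List.ofFn_get]; exact ha)
    ext i j
    have h0 : ∑ k, ((N * M) i k - if i = k then 1 else 0) * a.get k = 0 := by
      simp only [sub_mul, Finset.sum_sub_distrib, ite_mul, one_mul, zero_mul, Finset.sum_ite_eq, Finset.mem_univ,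
        if_true, Matrix.mul_apply, Finset.sum_mul]
      rw [Finset.sum_comm, sub_eq_zero]
      refine Eq.trans ?_ (hN i).symm
      refine Finset.sum_congr rfl fun l _ => ?_
      rw [hM l, Finset.mul_sum]
      exact Finset.sum_congr rfl fun k _ => by ring
    have h1 := hQ (hai ▸ (hspan a).ge (Groth.Agent.KRegLib.mem_span_of_sum_eq_zero hex _ h0 j))
    rw [← Ideal.Quotient.eq_zero_iff_mem, map_sub, sub_eq_zero] at h1
    rw [Matrix.map_apply, h1, Matrix.one_apply]
    split_ifs <;> simp
  have hle : ∀ (a : List R), LCI.IsKoszulRegularSeq R a → Ideal.ofList a = I → ∀ (b : List R),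
      Ideal.ofList b = I → a.length ≤ b.length := by
    intro a ha hai b hb
    obtain ⟨M, hM⟩ := hmat b a hb hai
    obtain ⟨N, hN⟩ := hmat a b hai hb
    obtain ⟨Q, hQ, hIQ⟩ := Ideal.exists_le_maximal I hI
    letI := Ideal.Quotient.field Q
    have h := key a ha hai b hb M N hM hN Q hIQ
    rw [Matrix.map_mul] at h
    have h2 := Matrix.rank_mul_le_left (N.map (Ideal.Quotient.mk Q)) (M.map (Ideal.Quotient.mk Q))
    rw [h, Matrix.rank_one, Fintype.card_fin] at h2
    exact h2.trans ((Matrix.rank_le_card_width _).trans (by simp))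
  refine ⟨fun hf h hh => hle f hf hfI h hh, fun hmin => ?_⟩
  have hlen : f.length = g.length := le_antisymm (hmin g hgI) (hle g hg hgI f hfI)
  obtain ⟨M, hM⟩ := hmat f g hfI hgI
  obtain ⟨N, hN⟩ := hmat g f hgI hfI
  have hgx : WiebeLib.IsExact g.get := WiebeLib.isExact_of_isKoszulRegularSeq _ (by rw [List.ofFn_get]; exact hg)
  have aux : ∀ (m : ℕ) (F : Fin m → R) (N : Matrix (Fin g.length) (Fin m) R), m = g.length →
      Ideal.span (Set.range F) = I → (∀ i, g.get i = ∑ j, N i j * F j) →
      (∀ Q : Ideal R, I ≤ Q → ∃ M : Matrix (Fin m) (Fin g.length) R, (N * M).map (Ideal.Quotient.mk Q) = 1) →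
      WiebeLib.IsExact F := by
    rintro m F N rfl hF hN hQ
    refine Groth.Agent.KRegLib.isExact_of_forall_away F fun Q _ => ?_
    by_cases hIQ : I ≤ Q
    · obtain ⟨M, hMN⟩ := hQ Q hIQ
      have hdet : N.det ∉ Q := by
        intro hd
        have h := congrArg Matrix.det hMN
        rw [Matrix.map_mul, Matrix.det_mul, Matrix.det_one, ← RingHom.mapMatrix_apply (Ideal.Quotient.mk Q) N,
          ← RingHom.map_det, Ideal.Quotient.eq_zero_iff_mem.2 hd, zero_mul] at h
        haveI : Nontrivial (R ⧸ Q) := Ideal.Quotient.nontrivial_iff.2 (Ideal.IsPrime.ne_top inferInstance)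
        exact zero_ne_one h
      refine ⟨N.det, hdet, ?_⟩
      haveI : Module.Flat R (Localization.Away N.det) := IsLocalization.flat _ (Submonoid.powers N.det)
      refine Groth.Agent.KRegLib.isExact_of_isUnit_det (WiebeLib.isExact_map hgx)
        (N.map (algebraMap R (Localization.Away N.det))) ?_ fun i => ?_
      · rw [← RingHom.mapMatrix_apply, ← RingHom.map_det]
        exact IsLocalization.Away.algebraMap_isUnit _
      · rw [hN i, map_sum]
        exact Finset.sum_congr rfl fun j _ => map_mul _ _ _
    · rw [← hF, Ideal.span_le, Set.range_subset_iff] at hIQ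
      push_neg at hIQ
      obtain ⟨i, hi⟩ := hIQ
      exact ⟨F i, hi, Groth.Agent.KRegLib.isExact_of_span_eq_top (Ideal.eq_top_of_isUnit_mem _
        (Ideal.subset_span ⟨i, rfl⟩) (IsLocalization.Away.algebraMap_isUnit _))⟩
  have hex := aux f.length f.get N hlen ((hspan f).symm.trans hfI) hN
    fun Q hQ => ⟨M, key g hg hgI f hfI M N hM hN Q hQ⟩
  have h := Groth.Agent.KoszulFlatLib.isKoszulRegularSeq_of_isExact hex
  rwa [List.ofFn_get] at h

end Groth.Agent.S18935
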