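import Groth.Statements.S18936
import Mathlib.RingTheory.Finiteness.Basic

set_option autoImplicit false
universe u
open CAlg

namespace Groth.Agent.S18936

/-- Let A be a Noetherian commutative ring, q a prime ideal of A and f an element of A whose image in
the localization A_q is a non-zero-divisor. Then there is an element b of A not in q such that the
image of f in A[1/b] is a non-zero-divisor. -/
theorem result {A : Type u} [CommRing A] [IsNoetherianRing A]
    (q : Ideal A) [q.IsPrime] (f : A)
    (hf : algebraMap A (Localization.AtPrime q) f ∈ nonZeroDivisors (Localization.AtPrime q)) :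
    ∃ b : A, b ∉ q ∧ algebraMap A (Localization.Away b) f ∈ nonZeroDivisors (Localization.Away b) := by
  classical
  have key : ∀ x : A, x * f = 0 → ∃ s : A, s ∉ q ∧ s * x = 0 := by
    intro x hx
    have h0 : algebraMap A (Localization.AtPrime q) x = 0 := by
      apply (mem_nonZeroDivisors_iff_right.1 hf)
      rw [← map_mul, hx, map_zero]
    obtain ⟨s, hs⟩ := (IsLocalization.map_eq_zero_iff q.primeCompl _ x).1 h0
    exact ⟨s.1, s.2, hs⟩
  let K : Ideal A := LinearMap.ker (LinearMap.mulRight A f)
  obtain ⟨G, hG⟩ : K.FG := IsNoetherian.noetherian K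
  have hGmem : ∀ g ∈ G, g * f = 0 := fun g hg => by
    have : g ∈ K := hG ▸ Submodule.subset_span hg
    simpa [K] using this
  choose s hsq hs using fun g : {g // g ∈ G} => key g.1 (hGmem g.1 g.2)
  refine ⟨∏ g ∈ G.attach, s g, ?_, ?_⟩
  · intro h
    obtain ⟨g, _, hg⟩ := Ideal.IsPrime.prod_mem_iff.1 h
    exact hsq g hg
  · set b := ∏ g ∈ G.attach, s g with hbdef
    have hb : ∀ x : A, x * f = 0 → b * x = 0 := by
      intro x hx
      have hxK : x ∈ Submodule.span A (G : Set A) := by rw [show Submodule.span A (G : Set A) = K from hG]; simpa [K] using hx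
      induction hxK using Submodule.span_induction with
      | mem g hg =>
        obtain ⟨c, hc⟩ := Finset.dvd_prod_of_mem s (Finset.mem_attach G ⟨g, hg⟩)
        rw [hbdef, hc, mul_right_comm, hs ⟨g, hg⟩, zero_mul]
      | zero => simp
      | add y z hy hz h1 h2 =>
        have e1 : y * f = 0 := by
          have : y ∈ K := hG ▸ hy
          simpa [K] using this
        have e2 : z * f = 0 := by
          have : z ∈ K := hG ▸ hz
          simpa [K] using this
        rw [mul_add, h1 e1, h2 e2, add_zero]
      | smul a y hy h1 =>
        have e1 : y * f = 0 := by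
          have : y ∈ K := hG ▸ hy
          simpa [K] using this
        rw [smul_eq_mul, mul_left_comm, h1 e1, mul_zero]
    rw [mem_nonZeroDivisors_iff_right]
    intro x hx
    obtain ⟨a, t, rfl⟩ := IsLocalization.exists_mk'_eq (Submonoid.powers b) x
    have h2 : algebraMap A (Localization.Away b) (a * f) = 0 := by
      rw [mul_comm a f, map_mul]
      rw [← IsLocalization.mk'_spec (Localization.Away b) a t, ← mul_assoc, mul_comm (algebraMap A _ f), hx, zero_mul]
    obtain ⟨⟨c, k, rfl⟩, hc⟩ := (IsLocalization.map_eq_zero_iff (Submonoid.powers b) _ (a * f)).1 h2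
    rw [IsLocalization.mk'_eq_zero_iff]
    refine ⟨⟨b ^ (k + 1), k + 1, rfl⟩, ?_⟩
    have := hb (b ^ k * a) (by rw [mul_assoc]; exact hc)
    simpa [pow_succ, mul_comm, mul_left_comm, mul_assoc] using this

end Groth.Agent.S18936
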