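import Groth.Statements.S18937
import Groth.Agent.RegImmLib.Basic
import Mathlib.RingTheory.Localization.Away.AdjoinRoot
import Mathlib.RingTheory.Regular.Flat

set_option autoImplicit false
universe u
open CategoryTheory AlgebraicGeometry
open RegImm

namespace Groth.Agent.S18937
open scoped Pointwise in
theorem weakly_cons_lift {Q L : Type u} [CommRing Q] [CommRing L] (ψ : Q →+* L) (hψ : Function.Surjective ψ)
    (t : Q) (ht : IsSMulRegular Q t) (hker : RingHom.ker ψ = Ideal.span {t}) (rs : List L)
    (hrs : RingTheory.Sequence.IsWeaklyRegular L rs) :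
    ∃ rs' : List Q, rs'.map ψ = rs ∧ RingTheory.Sequence.IsWeaklyRegular Q (t :: rs') := by
  choose lift hlift using hψ
  refine ⟨rs.map lift, ?_, ?_⟩
  · rw [List.map_map, show (ψ ∘ lift) = id from funext hlift, List.map_id]
  letI : Algebra Q L := ψ.toAlgebra
  refine (RingTheory.Sequence.isWeaklyRegular_cons_iff Q t _).2 ⟨ht, ?_⟩
  have hk : (t • (⊤ : Submodule Q Q)) = LinearMap.ker (Algebra.linearMap Q L) := by
    rw [← Submodule.ideal_span_singleton_smul, smul_eq_mul, Ideal.mul_top, ← hker]
    rfl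
  let e : QuotSMulTop t Q ≃ₗ[Q] L :=
    (Submodule.quotEquivOfEq _ _ hk).trans
      ((Algebra.linearMap Q L).quotKerEquivOfSurjective fun y => ⟨lift y, hlift y⟩)
  refine (e.isWeaklyRegular_congr _).2 ?_
  rw [← RingTheory.Sequence.isWeaklyRegular_map_algebraMap_iff L L (rs.map lift), List.map_map]
  rwa [show ((algebraMap Q L : Q → L) ∘ lift) = id from funext hlift, List.map_id]

theorem exists_away_regular {A : Type u} [CommRing A] (n : ℕ) (I : Ideal (MvPolynomial (Fin n) A))
    (h : RegImm.IsRegularImmersion RegImm.Kind.regular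
      (Spec.map (CommRingCat.ofHom (Ideal.Quotient.mk I))))
    (q : PrimeSpectrum (MvPolynomial (Fin n) A ⧸ I)) :
    ∃ f : MvPolynomial (Fin n) A, Ideal.Quotient.mk I f ∉ q.asIdeal ∧
      ∃ rs : List (Localization.Away f), RingTheory.Sequence.IsWeaklyRegular (Localization.Away f) rs ∧
        I.map (algebraMap (MvPolynomial (Fin n) A) (Localization.Away f)) = Ideal.ofList rs := by
  let P : CommRingCat.{u} := CommRingCat.of (MvPolynomial (Fin n) A)
  let φ : P ⟶ CommRingCat.of (MvPolynomial (Fin n) A ⧸ I) := CommRingCat.ofHom (Ideal.Quotient.mk I)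
  let i := Spec.map φ
  obtain ⟨U, hzU, hci, rs, hrs, hker⟩ := h.2 q
  haveI hI : IsClosedImmersion i := IsClosedImmersion.spec_of_surjective φ Ideal.Quotient.mk_surjective
  have hT : IsAffineOpen (⊤ : (Spec P).Opens) := isAffineOpen_top _
  haveI : IsClosedImmersion (i ∣_ (⊤ : (Spec P).Opens)) := inferInstance
  obtain ⟨hT', hTs⟩ := Groth.Agent.Synt29.surjective_app_of_isClosedImmersion_restrict i ⊤ hT
  obtain ⟨hU', hUs⟩ := Groth.Agent.Synt29.surjective_app_of_isClosedImmersion_restrict i U.1 U.2
  obtain ⟨g, g', hgg, hzg⟩ := exists_basicOpen_le_affine_inter hT U.2 (i q) ⟨trivial, hzU⟩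
  let σ := (Scheme.ΓSpecIso P).commRingCatIsoToRingEquiv
  obtain ⟨f, rfl⟩ := σ.symm.surjective g
  let D := (Spec P).basicOpen (σ.symm f)
  letI aD : Algebra P Γ(Spec P, D) :=
    (((Spec P).presheaf.map (homOfLE ((Spec P).basicOpen_le (σ.symm f))).op).hom.comp σ.symm.toRingHom).toAlgebra
  haveI : IsLocalization.Away f Γ(Spec P, D) := by
    letI : Algebra Γ(Spec P, ⊤) Γ(Spec P, D) :=
      ((Spec P).presheaf.map (homOfLE ((Spec P).basicOpen_le (σ.symm f))).op).hom.toAlgebra
    haveI := hT.isLocalization_basicOpen (σ.symm f)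
    have h1 := IsLocalization.isLocalization_of_base_ringEquiv (Submonoid.powers (σ.symm f)) Γ(Spec P, D) σ
    rw [Submonoid.map_powers] at h1
    have h2 : σ (σ.symm f) = f := σ.apply_symm_apply f
    rw [h2] at h1
    exact h1
  -- the kernel over `D`
  have hkD : RingHom.ker (i.app D).hom = I.map (algebraMap P Γ(Spec P, D)) := by
    rw [(Groth.Agent.KRegLib.app_basicOpen_props i hT hT' hTs (σ.symm f)).2.2]
    have hk : RingHom.ker (i.app (⊤ : (Spec P).Opens)).hom = I.map σ.symm.toRingHom := by
      have hnat := Scheme.ΓSpecIso_naturality φ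
      ext x
      have hx := congrArg (fun F => F.hom x) hnat
      rw [RingHom.mem_ker]
      constructor
      · intro h0
        have h3 : φ.hom (σ x) = 0 := hx.symm.trans (by
          show (Scheme.ΓSpecIso _).hom.hom ((i.app ⊤).hom x) = 0
          exact (congrArg (Scheme.ΓSpecIso _).hom.hom h0).trans (map_zero _))
        have h4 : σ x ∈ I := Ideal.Quotient.eq_zero_iff_mem.1 h3
        have h5 := Ideal.mem_map_of_mem σ.symm.toRingHom h4
        rwa [show σ.symm.toRingHom (σ x) = x from σ.symm_apply_apply x] at h5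
      · intro h0
        have h4 : σ x ∈ I := by
          have h5 := Ideal.mem_map_of_mem σ.toRingHom h0
          rw [Ideal.map_map, RingEquiv.toRingHom_comp_symm_toRingHom, Ideal.map_id] at h5
          exact h5
        refine (ConcreteCategory.bijective_of_isIso (Scheme.ΓSpecIso (CommRingCat.of (MvPolynomial (Fin n) A ⧸ I))).hom).1 ?_
        exact (hx.trans (Ideal.Quotient.eq_zero_iff_mem.2 h4)).trans (map_zero _).symm
    rw [hk, Ideal.map_map]
    rfl
  -- the sequence restricted to `D`
  have key : ∀ O : (Spec P).Opens, O = (Spec P).basicOpen g' →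
      ∃ rs' : List Γ(Spec P, O), RingTheory.Sequence.IsWeaklyRegular Γ(Spec P, O) rs' ∧
        RingHom.ker (i.app O).hom = Ideal.ofList rs' := by
    rintro O rfl
    letI : Algebra Γ(Spec P, U.1) Γ(Spec P, (Spec P).basicOpen g') :=
      ((Spec P).presheaf.map (homOfLE ((Spec P).basicOpen_le g')).op).hom.toAlgebra
    haveI := U.2.isLocalization_basicOpen g'
    haveI : Module.Flat Γ(Spec P, U.1) Γ(Spec P, (Spec P).basicOpen g') :=
      IsLocalization.flat _ (Submonoid.powers g')
    refine ⟨rs.map (algebraMap Γ(Spec P, U.1) Γ(Spec P, (Spec P).basicOpen g')),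
      RingTheory.Sequence.IsWeaklyRegular.of_flat hrs.toIsWeaklyRegular, ?_⟩
    rw [(Groth.Agent.KRegLib.app_basicOpen_props i U.2 hU' hUs g').2.2, hker, ← Ideal.map_ofList]
    rfl
  obtain ⟨rs', hrs', hker'⟩ := key D hgg
  let e : Γ(Spec P, D) ≃ₐ[P] Localization.Away f := IsLocalization.algEquiv (Submonoid.powers f) _ _
  refine ⟨f, ?_, rs'.map e, ?_, ?_⟩
  · intro hmem
    have h1 : (Spec P).basicOpen ((Scheme.ΓSpecIso P).inv f) = PrimeSpectrum.basicOpen f := basicOpen_eq_of_affine f
    have h2 : i q ∈ PrimeSpectrum.basicOpen f := h1 ▸ hzg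
    exact h2 hmem
  · exact (AddEquiv.isWeaklyRegular_congr (e := e.toRingEquiv.toAddEquiv)
      (List.forall₂_map_right_iff.2 (List.forall₂_same.2 fun a _ x => map_mul e a x))).1 hrs'
  · show _ = Ideal.ofList (rs'.map e.toAlgHom.toRingHom)
    rw [← Ideal.map_ofList, ← hker', hkD, Ideal.map_map]
    exact congrArg (fun F : P →+* Localization.Away f => I.map F) e.toAlgHom.comp_algebraMap.symm



/-- Let A be a Noetherian commutative ring, n a natural number, I an ideal of the polynomial ring A[X_1,
…, X_n] and B = A[X_1, …, X_n]/I, and assume that the closed immersion Spec B → Spec A[X_1, …, X_n]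
is a regular immersion (kind: successive non-zero-divisors). Then Spec B is covered by basic opens
D(g) with B[1/g] isomorphic, as an A-algebra, to a quotient A[X_0, …, X_n]/(P_1, …, P_d) of the
polynomial ring in one more variable by a regular sequence P_1, …, P_d. -/
theorem result
    (A : Type u) [CommRing A] [IsNoetherianRing A] (n : ℕ) (I : Ideal (MvPolynomial (Fin n) A))
    (h : RegImm.IsRegularImmersion RegImm.Kind.regular
      (Spec.map (CommRingCat.ofHom (Ideal.Quotient.mk I))))
    (q : PrimeSpectrum (MvPolynomial (Fin n) A ⧸ I)) :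
    ∃ g : MvPolynomial (Fin n) A ⧸ I, g ∉ q.asIdeal ∧
      ∃ (d : ℕ) (P : Fin d → MvPolynomial (Fin (n + 1)) A),
        RingTheory.Sequence.IsRegular (MvPolynomial (Fin (n + 1)) A) (List.ofFn P) ∧
        Nonempty (Localization.Away g ≃ₐ[A] (MvPolynomial (Fin (n + 1)) A ⧸ Ideal.ofList (List.ofFn P))) := by
  obtain ⟨f, hf, rs, hrs, hI⟩ := exists_away_regular n I h q
  refine ⟨Ideal.Quotient.mk I f, hf, ?_⟩
  let Pn := MvPolynomial (Fin n) A
  let Q := MvPolynomial (Fin (n + 1)) A
  let E : Q ≃ₐ[A] Polynomial Pn := MvPolynomial.finSuccEquiv A n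
  let π : Polynomial Pn →+* Localization.Away f :=
    (Localization.awayEquivAdjoin f).symm.toRingEquiv.toRingHom.comp (AdjoinRoot.mk (Polynomial.C f * Polynomial.X - 1))
  let ψ : Q →+* Localization.Away f := π.comp E.toRingEquiv.toRingHom
  have hψ : Function.Surjective ψ :=
    ((Localization.awayEquivAdjoin f).symm.surjective.comp AdjoinRoot.mk_surjective).comp E.surjective
  let t : Q := E.symm (Polynomial.C f * Polynomial.X - 1)
  have hker : RingHom.ker ψ = Ideal.span {t} := by
    ext x
    rw [RingHom.mem_ker, Ideal.mem_span_singleton]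
    show (Localization.awayEquivAdjoin f).symm (AdjoinRoot.mk _ (E x)) = 0 ↔ _
    rw [map_eq_zero_iff _ (Localization.awayEquivAdjoin f).symm.injective, AdjoinRoot.mk_eq_zero,
      ← map_dvd_iff E, AlgEquiv.apply_symm_apply]
  have ht : IsSMulRegular Q t := by
    have hreg : (Polynomial.C f * Polynomial.X - 1 : Polynomial Pn) ∈ nonZeroDivisors (Polynomial Pn) := by
      refine Polynomial.mem_nonzeroDivisors_of_coeff_mem 0 ?_
      simp only [Polynomial.coeff_sub, Polynomial.mul_coeff_zero, Polynomial.coeff_X_zero, mul_zero,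
        Polynomial.coeff_one_zero, zero_sub]
      exact isUnit_one.neg.mem_nonZeroDivisors
    intro x y hxy
    have h1 : E t * E x = E t * E y := by rw [← map_mul, ← map_mul]; exact congrArg E hxy
    rw [show E t = Polynomial.C f * Polynomial.X - 1 from E.apply_symm_apply _] at h1
    exact E.injective (mul_cancel_left_mem_nonZeroDivisors hreg |>.1 h1)
  obtain ⟨rs', hrs', hw⟩ := weakly_cons_lift ψ hψ t ht hker rs hrs
  refine ⟨(t :: rs').length, (t :: rs').get, ?_⟩
  rw [List.ofFn_get]
  have hI' : (Ideal.ofList (t :: rs')).map ψ = I.map (algebraMap Pn (Localization.Away f)) := by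
    rw [Ideal.map_ofList, List.map_cons, hrs', hI,
      show ψ t = 0 from (RingHom.mem_ker).1 (hker.ge (Ideal.mem_span_singleton_self t)), Ideal.ofList_cons,
      Ideal.span_singleton_eq_bot.2 rfl, bot_sup_eq]
  have hle : RingHom.ker ψ ≤ Ideal.ofList (t :: rs') := by
    rw [hker, Ideal.ofList_cons]
    exact le_sup_left
  let ρ : Localization.Away f →+* Localization.Away (Ideal.Quotient.mk I f) :=
    IsLocalization.Away.map _ _ (Ideal.Quotient.mk I) f
  have hρs : Function.Surjective ρ := Groth.Agent.KRegLib.away_map_surjective Ideal.Quotient.mk_surjective f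
  have hρk : RingHom.ker ρ = I.map (algebraMap Pn (Localization.Away f)) := by
    exact (IsLocalization.ker_map _ (Ideal.Quotient.mk I) (Submonoid.map_powers _ f)).trans
      (congrArg (Ideal.map _) Ideal.mk_ker)
  let Φ : Q →+* Localization.Away (Ideal.Quotient.mk I f) := ρ.comp ψ
  have hΦk : RingHom.ker Φ = Ideal.ofList (t :: rs') := by
    rw [← RingHom.comap_ker, hρk, ← hI', Ideal.comap_map_of_surjective ψ hψ, ← RingHom.ker_eq_comap_bot,
      sup_eq_left]
    exact hle
  have hcomm : ∀ a : A, Φ (algebraMap A Q a) = algebraMap A (Localization.Away (Ideal.Quotient.mk I f)) a := by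
    intro a
    have h1 : E (algebraMap A Q a) = Polynomial.C (MvPolynomial.C a) := E.commutes a
    show ρ (π (E (algebraMap A Q a))) = _
    rw [h1]
    have h2 : π (Polynomial.C (MvPolynomial.C a)) = algebraMap Pn (Localization.Away f) (MvPolynomial.C a) :=
      (Localization.awayEquivAdjoin f).symm.commutes (MvPolynomial.C a)
    rw [h2]
    show IsLocalization.map _ _ _ (algebraMap Pn (Localization.Away f) (MvPolynomial.C a)) = _
    rw [IsLocalization.map_eq, IsScalarTower.algebraMap_apply A (Pn ⧸ I) (Localization.Away (Ideal.Quotient.mk I f))]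
    rfl
  let Φ' : Q →ₐ[A] Localization.Away (Ideal.Quotient.mk I f) := { Φ with commutes' := hcomm }
  refine ⟨⟨hw, ?_⟩, ⟨((Ideal.quotientEquivAlgOfEq A (show Ideal.ofList (t :: rs') = RingHom.ker Φ' from hΦk.symm)).trans
    (Ideal.quotientKerAlgEquivOfSurjective (f := Φ') (hρs.comp hψ))).symm⟩⟩
  intro htop
  rw [smul_eq_mul, Ideal.mul_top] at htop
  have h0 : (0 : Localization.Away (Ideal.Quotient.mk I f)) = 1 := by
    rw [← map_one Φ]
    exact ((RingHom.mem_ker).1 (hΦk.ge (htop ▸ Submodule.mem_top))).symm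
  obtain ⟨⟨_, k, rfl⟩, hk⟩ := (IsLocalization.mk'_eq_zero_iff (M := Submonoid.powers (Ideal.Quotient.mk I f))
    (S := Localization.Away (Ideal.Quotient.mk I f)) (1 : MvPolynomial (Fin n) A ⧸ I) 1).1
    (by rw [IsLocalization.mk'_one, map_one]; exact h0.symm)
  rw [mul_one] at hk
  exact hf (q.isPrime.mem_of_pow_mem k (by
    have : (Ideal.Quotient.mk I f) ^ k = 0 := hk
    rw [this]
    exact zero_mem _))


end Groth.Agent.S18937
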