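import Groth.Statements.S18938
import Groth.Agent.Synt29.LocalRelGCI
import Groth.Agent.Synt29.RelReg
import Groth.Agent.Synt29.AwayGCI
import Groth.Agent.Synt29.SyntomicAt
import Groth.Agent.Synt29.RegSeqAway

set_option autoImplicit false
universe u
open Synt

namespace Groth.Agent.S18938

/-- Let A be a Noetherian commutative ring and B a syntomic A-algebra. Then Spec B is covered by basic
opens D(g) with B[1/g] isomorphic, as an A-algebra, to A[T_1, …, T_n]/(P_1, …, P_d) for a regular
sequence P_1, …, P_d (successive non-zero-divisors with nonzero last quotient) in the polynomial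
ring A[T_1, …, T_n]. (The source states this for a syntomic scheme over Spec A, syntomic meaning
flat, locally of finite presentation and locally a Koszul-regular immersion into a smooth scheme;
here syntomic is the ring-map notion with local complete intersection fibres, which agrees with it.) -/
theorem result
    (A : Type u) [CommRing A] [IsNoetherianRing A] (B : Type u) [CommRing B] [Algebra A B]
    (h : Synt.IsSyntomic A B) (q : PrimeSpectrum B) :
    ∃ g : B, g ∉ q.asIdeal ∧
      ∃ (n d : ℕ) (P : Fin d → MvPolynomial (Fin n) A),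
        RingTheory.Sequence.IsRegular (MvPolynomial (Fin n) A) (List.ofFn P) ∧
        Nonempty (Localization.Away g ≃ₐ[A] (MvPolynomial (Fin n) A ⧸ Ideal.ofList (List.ofFn P))) := by
  obtain ⟨hfl, hfp, hf⟩ := h
  obtain ⟨g, hg, N, M, F, hF, ⟨e⟩⟩ := Groth.Agent.Synt29.exists_isStd_away (R := A) q
    (PrimeSpectrum.comap (algebraMap A B) q) rfl (hf _)
  obtain ⟨qT, hqT⟩ := Groth.Agent.Synt29.exists_prime_away g q.asIdeal hg (Localization.Away g)
  let J0 := Ideal.span (Set.range F)
  let Q : Ideal (MvPolynomial (Fin N) A) := (qT.asIdeal.comap e.toAlgHom.toRingHom).comap (Ideal.Quotient.mk J0)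
  haveI : Q.IsPrime := by dsimp only [Q]; infer_instance
  have hFQ : ∀ i, F i ∈ Q := fun i => by
    show e (Ideal.Quotient.mk J0 (F i)) ∈ qT.asIdeal
    rw [Ideal.Quotient.eq_zero_iff_mem.2 (show F i ∈ J0 from Ideal.subset_span (Set.mem_range_self i))]
    rw [map_zero]
    exact Ideal.zero_mem _
  have key : ∀ i : Fin M, ∃ t ∉ Q, ∀ a, F i * a ∈ Ideal.ofList ((List.ofFn F).take i.1) →
      t * a ∈ Ideal.ofList ((List.ofFn F).take i.1) := by
    intro i
    let J := Ideal.ofList ((List.ofFn F).take i.1)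
    let C : Ideal (MvPolynomial (Fin N) A) := Submodule.comap (LinearMap.mulLeft (MvPolynomial (Fin N) A) (F i)) J
    obtain ⟨s, hs⟩ := IsNoetherian.noetherian C
    have hC : ∀ x ∈ s, ∃ t ∉ Q, t * x ∈ J := fun x hx =>
      Groth.Agent.Synt29.take_regular_of_noetherian hF Q hFQ i x (show x ∈ C from hs ▸ Submodule.subset_span hx)
    choose t ht htJ using hC
    refine ⟨∏ x : s, t x.1 x.2, fun hp => ?_, fun a ha => ?_⟩
    · obtain ⟨x, -, hx⟩ := Ideal.IsPrime.prod_mem_iff.1 hp
      exact ht _ _ hx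
    · have : C ≤ Submodule.comap (LinearMap.mulLeft (MvPolynomial (Fin N) A) (∏ x : s, t x.1 x.2)) J := by
        rw [← hs, Submodule.span_le]
        intro x hx
        show (∏ y : s, t y.1 y.2) * x ∈ J
        obtain ⟨c, hc⟩ := Finset.dvd_prod_of_mem (fun y : s => t y.1 y.2) (Finset.mem_univ ⟨x, hx⟩)
        rw [hc, mul_comm (t x hx) c, mul_assoc]
        exact Ideal.mul_mem_left _ _ (htJ x hx)
      exact this ha
  choose t ht htJ using key
  let h := ∏ i, t i
  have hhQ : h ∉ Q := fun hp => by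
    obtain ⟨i, -, hi⟩ := Ideal.IsPrime.prod_mem_iff.1 hp
    exact ht i hi
  let g' : Localization.Away g := e (Ideal.Quotient.mk J0 h)
  obtain ⟨g₂, hg₂, ⟨e₂⟩⟩ := Groth.Agent.Synt29.exists_away_away (R := A) g q.asIdeal hg (Localization.Away g)
    qT.asIdeal hqT g' hhQ
  let P : Fin (M + 1) → MvPolynomial (Fin (N + 1)) A :=
    Fin.cons (Groth.Agent.Synt29.RegSeqAway.unitPoly h) fun i => MvPolynomial.rename Fin.castSucc (F i)
  have hP : List.ofFn P = Groth.Agent.Synt29.RegSeqAway.unitPoly h :: (List.ofFn F).map (MvPolynomial.rename Fin.castSucc) := by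
    simp [P, List.ofFn_succ, List.map_ofFn, Function.comp_def]
  obtain ⟨e₁⟩ := Groth.Agent.Synt29.awayEquiv F h
  have hmap : (Submonoid.powers (Ideal.Quotient.mk J0 h)).map e.toRingEquiv.toMonoidHom = Submonoid.powers g' := by
    rw [Submonoid.map_powers]; rfl
  let e₀ : Localization.Away g₂ ≃ₐ[A] Localization.Away (Ideal.Quotient.mk J0 h) :=
    e₂.symm.trans (IsLocalization.algEquivOfAlgEquiv (Localization.Away (Ideal.Quotient.mk J0 h)) (Localization.Away g') e hmap).symm
  have hspan : Ideal.span (Set.range (Groth.Agent.Synt29.snocPoly F h)) = Ideal.ofList (List.ofFn P) := by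
    rw [Groth.Agent.Synt29.ofList_ofFn]
    congr 1
    simp only [Groth.Agent.Synt29.snocPoly, P, Fin.range_snoc, Fin.range_cons]
    rfl
  let e₃ : Localization.Away g₂ ≃ₐ[A] (MvPolynomial (Fin (N + 1)) A ⧸ Ideal.ofList (List.ofFn P)) :=
    (e₀.trans e₁).trans (Ideal.quotientEquivAlgOfEq A hspan)
  obtain ⟨q₂, -⟩ := Groth.Agent.Synt29.exists_prime_away g₂ q.asIdeal hg₂ (Localization.Away g₂)
  haveI : Nontrivial (Localization.Away g₂) := PrimeSpectrum.nontrivial q₂
  haveI : Nontrivial (MvPolynomial (Fin (N + 1)) A ⧸ Ideal.ofList (List.ofFn P)) := e₃.symm.toRingEquiv.toEquiv.nontrivial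
  refine ⟨g₂, hg₂, N + 1, M + 1, P, ⟨?_, ?_⟩, ⟨e₃⟩⟩
  · rw [hP]
    refine Groth.Agent.Synt29.RegSeqAway.isWeaklyRegular h _ fun i hi a ha => ?_
    rw [List.getElem_ofFn] at ha
    have hi' : i < M := by simpa using hi
    obtain ⟨c, hc⟩ := Finset.dvd_prod_of_mem t (Finset.mem_univ ⟨i, hi'⟩)
    rw [show h = t ⟨i, hi'⟩ * c from hc, mul_comm (t ⟨i, hi'⟩) c, mul_assoc]
    exact Ideal.mul_mem_left _ _ (htJ ⟨i, hi'⟩ a ha)
  · rw [smul_eq_mul, Ideal.mul_top]
    exact (Ideal.Quotient.nontrivial_iff.1 inferInstance).symm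

end Groth.Agent.S18938
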