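import Groth.Statements.S18940
import Mathlib.CategoryTheory.Sites.LocallySurjective
import Mathlib.CategoryTheory.Limits.Types.Pullbacks

set_option autoImplicit false
set_option backward.isDefEq.respectTransparency false
set_option backward.isDefEq.respectTransparency.types false
universe w v u
open CategoryTheory
open ShfCat

namespace Groth.Agent.S18940

/-- Let (C, J) be a site and f : F → G a morphism of sheaves of sets on it which is locally surjective
(every section of G is, after passing to a covering, in the image of f). Then for every morphism of
sheaves g : H → G the base change F ×_G H → H of f is again locally surjective. -/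
theorem result {C : Type u} [Category.{v} C]
    (J : GrothendieckTopology C) {F G H : Sheaf J (Type w)} (f : F ⟶ G) (g : H ⟶ G)
    [Sheaf.IsLocallySurjective f] :
    Sheaf.IsLocallySurjective (Limits.pullback.snd f g) := by
  open CategoryTheory.Limits in
  refine ⟨fun {U} s => J.superset_covering ?_ (Presheaf.imageSieve_mem J f.hom (g.hom.app (Opposite.op U) s))⟩
  rintro V i ⟨x, hx⟩
  have h := ((IsPullback.of_hasPullback f g).map (sheafToPresheaf J (Type w))).map
    ((evaluation Cᵒᵖ (Type w)).obj (Opposite.op V))
  obtain ⟨z, -, hz⟩ := Types.exists_of_isPullback h x (H.obj.map i.op s)
    (by exact hx.trans (NatTrans.naturality_apply g.hom i.op s).symm)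
  exact ⟨z, hz⟩

end Groth.Agent.S18940
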