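import Groth.Statements.S18942
import Mathlib

set_option autoImplicit false
universe u
open DPow

namespace Groth.Agent.S18942
open WittVector


/-- Let p be a prime, k a perfect field of characteristic p, n a natural number and x an element of
W_n(k), written here as the truncation of a Witt vector x over k. For any Witt vectors y_0, …,
y_{n−1} over k lifting the components of x under the map y ↦ (y_0)^(p^n) (that is, (y_i)_0^(p^n) =
x_i), one has x = Σ_{i<n} p^i y_i^(p^(n−i)) in W_n(k). -/
theorem result (p : ℕ) [Fact p.Prime]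
    (k : Type u) [Field k] [CharP k p] [PerfectRing k p] (n : ℕ) (x : WittVector p k)
    (y : Fin n → WittVector p k) (hy : ∀ i : Fin n, ((y i).coeff 0) ^ (p ^ n) = x.coeff i) :
    WittVector.truncate n x =
      WittVector.truncate n (∑ i : Fin n, (p : WittVector p k) ^ (i : ℕ) * (y i) ^ (p ^ (n - i))) := by
  rcases n with _ | m
  · ext i; exact i.elim0
  rw [← sub_eq_zero, ← map_sub, ← RingHom.mem_ker, WittVector.mem_ker_truncate,
    ← WittVector.mem_span_p_pow_iff_le_coeff_eq_zero, Ideal.mem_span_singleton]
  have h1 := WittVector.dvd_sub_sum_teichmuller_iterateFrobeniusEquiv_coeff x m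
  have hterm : ∀ i : Fin (m + 1), (p : WittVector p k) ^ (m + 1) ∣
      teichmuller p (((frobeniusEquiv k p).symm ^ (i : ℕ)) (x.coeff i)) * (p : WittVector p k) ^ (i : ℕ) -
        (p : WittVector p k) ^ (i : ℕ) * (y i) ^ (p ^ (m + 1 - i)) := by
    intro i
    have hF : ((frobeniusEquiv k p).symm ^ (i : ℕ)) (x.coeff i) = ((y i).coeff 0) ^ (p ^ (m + 1 - i)) := by
      rw [← hy i]
      apply Function.Injective.iterate (frobenius_inj k p) i
      simp only [RingAut.coe_pow, iterate_frobenius]
      rw [← pow_mul, ← pow_add, Nat.sub_add_cancel (by omega)]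
      rw [← iterate_frobenius (R := k) (p := p) _ (n := (i : ℕ))]
      exact (Function.LeftInverse.iterate (frobenius_apply_frobeniusEquiv_symm k p) i) _
    have hd : (p : WittVector p k) ∣ teichmuller p ((y i).coeff 0) - y i := by
      rw [← Ideal.mem_span_singleton, WittVector.mem_span_p_iff_coeff_zero_eq_zero]
      show constantCoeff (teichmuller p ((y i).coeff 0) - y i) = 0
      rw [map_sub]
      simp [WittVector.constantCoeff_apply, WittVector.teichmuller_coeff_zero]
    rw [hF, map_pow, mul_comm, ← mul_sub]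
    refine dvd_trans (pow_dvd_pow _ (show m + 1 ≤ i + (m + 1 - i + 1) by omega)) ?_
    rw [pow_add]
    exact mul_dvd_mul_left _ (dvd_sub_pow_of_dvd_sub hd _)
  have h2 : (p : WittVector p k) ^ (m + 1) ∣ ∑ i : Fin (m + 1),
      (teichmuller p (((frobeniusEquiv k p).symm ^ (i : ℕ)) (x.coeff i)) * (p : WittVector p k) ^ (i : ℕ) -
        (p : WittVector p k) ^ (i : ℕ) * (y i) ^ (p ^ (m + 1 - i))) := Finset.dvd_sum fun i _ => hterm i
  rw [Finset.sum_sub_distrib] at h2
  have h3 := dvd_add h1 h2
  rw [← Nat.range_succ_eq_Iic, Finset.sum_range] at h3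
  simpa using h3


end Groth.Agent.S18942
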