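import Groth.Statements.S18943
import Mathlib

set_option autoImplicit false
open scoped ContDiff
open CInfGerm

namespace Groth.Agent.S18943

/-- Let f be an infinitely differentiable real-valued function on the real line with f(0) = 0. Then f(x)
= x·g(x) for an infinitely differentiable function g. (The source phrases this for germs at 0: the
maximal ideal of the local ring of germs of smooth functions at the origin is generated by the
coordinate t; the global form stated here is what its argument, smooth extension of f(x)/x across 0,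
gives.) -/
theorem result (f : ℝ → ℝ) (hf : ContDiff ℝ ∞ f) (h0 : f 0 = 0) :
    ∃ g : ℝ → ℝ, ContDiff ℝ ∞ g ∧ ∀ x : ℝ, f x = x * g x := by
  let I : ℕ → (ℝ → ℝ) → ℝ → ℝ := fun n φ x => ∫ t in (0:ℝ)..1, t ^ n * φ (t * x)
  have hcont : ∀ (φ : ℝ → ℝ), Continuous φ → ∀ n : ℕ, Continuous (I n φ) := fun φ hφ n =>
    intervalIntegral.continuous_parametric_intervalIntegral_of_continuous'
      (f := fun x t => t ^ n * φ (t * x)) (by fun_prop) 0 1
  have hderiv : ∀ (φ : ℝ → ℝ), ContDiff ℝ ∞ φ → ∀ (n : ℕ) (x : ℝ),
      HasDerivAt (I n φ) (I (n + 1) (deriv φ) x) x := by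
    intro φ hφ n x
    have hd : Differentiable ℝ φ := hφ.differentiable (by simp)
    have hd' : Continuous (deriv φ) := hφ.continuous_deriv (by simp)
    have hφc : Continuous φ := hφ.continuous
    obtain ⟨C, hC⟩ := (isCompact_Icc.prod (isCompact_closedBall x 1)).exists_bound_of_continuousOn
      (f := fun p : ℝ × ℝ => p.1 ^ (n + 1) * deriv φ (p.1 * p.2)) (s := Set.Icc (0:ℝ) 1 ×ˢ Metric.closedBall x 1)
      (by fun_prop)
    exact (intervalIntegral.hasDerivAt_integral_of_dominated_loc_of_deriv_le
      (F := fun y t => t ^ n * φ (t * y)) (F' := fun y t => t ^ (n + 1) * deriv φ (t * y))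
      (bound := fun _ => C) (Metric.ball_mem_nhds x one_pos)
      (Filter.Eventually.of_forall fun y => (Continuous.aestronglyMeasurable (by fun_prop)))
      (Continuous.intervalIntegrable (by fun_prop) _ _)
      (Continuous.aestronglyMeasurable (by fun_prop))
      (Filter.Eventually.of_forall fun t ht y hy => hC (t, y) ⟨by
        rw [Set.uIoc_of_le zero_le_one] at ht; exact ⟨ht.1.le, ht.2⟩, Metric.ball_subset_closedBall hy⟩)
      intervalIntegrable_const
      (Filter.Eventually.of_forall fun t _ y _ => by
        have h1 : HasDerivAt (fun z => t * z) t y := by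
          simpa using (hasDerivAt_id y).const_mul t
        have h2 := ((hd (t * y)).hasDerivAt.comp y h1).const_mul (t ^ n)
        have h3 : t ^ (n + 1) * deriv φ (t * y) = t ^ n * (deriv φ (t * y) * t) := by ring
        rw [h3]
        exact h2)).2
  have hsm : ∀ (m : ℕ) (φ : ℝ → ℝ), ContDiff ℝ ∞ φ → ∀ n : ℕ, ContDiff ℝ m (I n φ) := by
    intro m
    induction m with
    | zero => exact fun φ hφ n => contDiff_zero.2 (hcont φ hφ.continuous n)
    | succ m ih =>
      intro φ hφ n
      rw [show ((m + 1 : ℕ) : WithTop ℕ∞) = (m : WithTop ℕ∞) + 1 by norm_cast, contDiff_succ_iff_deriv]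
      refine ⟨fun x => (hderiv φ hφ n x).differentiableAt, by simp, ?_⟩
      rw [show deriv (I n φ) = I (n + 1) (deriv φ) from funext fun x => (hderiv φ hφ n x).deriv]
      exact ih _ (contDiff_infty_iff_deriv.1 hφ).2 _
  have hf' : ContDiff ℝ ∞ (deriv f) := (contDiff_infty_iff_deriv.1 hf).2
  refine ⟨I 0 (deriv f), contDiff_infty.2 fun m => hsm m _ hf' 0, fun x => ?_⟩
  have hd : Differentiable ℝ f := hf.differentiable (by simp)
  have key : ∀ t ∈ Set.uIcc (0:ℝ) 1,
      HasDerivAt (fun t => f (t * x)) (x * deriv f (t * x)) t := by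
    intro t _
    have h1 : HasDerivAt (fun z => z * x) x t := by simpa using (hasDerivAt_id t).mul_const x
    rw [mul_comm]
    exact (hd (t * x)).hasDerivAt.comp t h1
  have hc : Continuous fun t => x * deriv f (t * x) := by
    have := hf'.continuous
    fun_prop
  have := intervalIntegral.integral_eq_sub_of_hasDerivAt key (hc.intervalIntegrable _ _)
  rw [intervalIntegral.integral_const_mul, one_mul, zero_mul, h0, sub_zero] at this
  simpa [I] using this.symm

end Groth.Agent.S18943
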