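import Groth.Statements.S18944
import Groth.Agent.RegImmLib.Basic

set_option autoImplicit false
universe u
open CategoryTheory AlgebraicGeometry
open RegImm

namespace Groth.Agent.S18944

/-- Let i : Z → X be a regular immersion of schemes (kind: successive non-zero-divisors). Then for every
point z of Z the kernel of the induced map of local rings O_{X, i(z)} → O_{Z, z} is generated by a
regular sequence of O_{X, i(z)}. (No Noetherian hypothesis; over a locally Noetherian X the converse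
also holds.) -/
theorem result {Z X : Scheme.{u}} (i : Z ⟶ X)
    (h : RegImm.IsRegularImmersion RegImm.Kind.regular i) (z : Z) :
    ∃ rs : List (X.presheaf.stalk (i z)),
      RingTheory.Sequence.IsRegular (X.presheaf.stalk (i z)) rs ∧
        RingHom.ker (i.stalkMap z).hom = Ideal.ofList rs := by
  classical
  obtain ⟨U, hzU, hci, rs, hrs, hker⟩ := h.2 z
  obtain ⟨hV, hs⟩ := Groth.Agent.Synt29.surjective_app_of_isClosedImmersion_restrict i U.1 U.2
  let φ : Γ(X, U.1) →+* Γ(Z, i ⁻¹ᵁ U.1) := (i.app U.1).hom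
  letI : Algebra Γ(X, U.1) (X.presheaf.stalk (i z)) := (X.presheaf.germ U.1 (i z) hzU).hom.toAlgebra
  letI : Algebra Γ(Z, i ⁻¹ᵁ U.1) (Z.presheaf.stalk z) := (Z.presheaf.germ (i ⁻¹ᵁ U.1) z hzU).hom.toAlgebra
  haveI hX : IsLocalization.AtPrime (X.presheaf.stalk (i z)) (U.2.primeIdealOf ⟨i z, hzU⟩).asIdeal :=
    U.2.isLocalization_stalk ⟨i z, hzU⟩
  haveI hZ : IsLocalization.AtPrime (Z.presheaf.stalk z) (hV.primeIdealOf ⟨z, hzU⟩).asIdeal :=
    hV.isLocalization_stalk ⟨z, hzU⟩
  have hcomap : (U.2.primeIdealOf ⟨i z, hzU⟩).asIdeal = (hV.primeIdealOf ⟨z, hzU⟩).asIdeal.comap φ := by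
    have h1 := IsAffineOpen.SpecMap_appLE_fromSpec i U.2 hV le_rfl
    have h2 : U.2.primeIdealOf ⟨i z, hzU⟩ =
        Spec.map (i.appLE U.1 (i ⁻¹ᵁ U.1) le_rfl) (hV.primeIdealOf ⟨z, hzU⟩) := by
      apply U.2.fromSpec.isOpenEmbedding.injective
      rw [U.2.fromSpec_primeIdealOf]
      show i z = (Spec.map _ ≫ U.2.fromSpec) _
      rw [h1]
      show i z = i (hV.fromSpec _)
      rw [hV.fromSpec_primeIdealOf]
    rw [h2, ← Scheme.Hom.app_eq_appLE]
    rfl
  let f : X.presheaf.stalk (i z) →+* Z.presheaf.stalk z := (i.stalkMap z).hom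
  have hf : ∀ a : Γ(X, U.1), f (algebraMap _ _ a) = algebraMap _ _ (φ a) := fun a =>
    Scheme.Hom.germ_stalkMap_apply i U.1 z hzU a
  have hM : Submonoid.map φ (U.2.primeIdealOf ⟨i z, hzU⟩).asIdeal.primeCompl =
      (hV.primeIdealOf ⟨z, hzU⟩).asIdeal.primeCompl := by
    ext b
    constructor
    · rintro ⟨a, ha, rfl⟩ hb
      exact ha (by rw [hcomap]; exact hb)
    · intro hb
      obtain ⟨a, rfl⟩ := hs b
      exact ⟨a, fun h => hb (by rw [hcomap] at h; exact h), rfl⟩
  have hfm : f = IsLocalization.map (Z.presheaf.stalk z) φ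
      (show (U.2.primeIdealOf ⟨i z, hzU⟩).asIdeal.primeCompl ≤
        (hV.primeIdealOf ⟨z, hzU⟩).asIdeal.primeCompl.comap φ from
        Submonoid.map_le_iff_le_comap.1 hM.le) := by
    refine IsLocalization.ringHom_ext (U.2.primeIdealOf ⟨i z, hzU⟩).asIdeal.primeCompl (RingHom.ext fun a => ?_)
    rw [RingHom.comp_apply, RingHom.comp_apply, hf, IsLocalization.map_eq]
  have hker' : RingHom.ker f = (RingHom.ker φ).map (algebraMap Γ(X, U.1) (X.presheaf.stalk (i z))) := by
    rw [hfm]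
    exact IsLocalization.ker_map (Z.presheaf.stalk z) φ hM
  haveI : Module.Flat Γ(X, U.1) (X.presheaf.stalk (i z)) :=
    IsLocalization.flat _ (U.2.primeIdealOf ⟨i z, hzU⟩).asIdeal.primeCompl
  refine ⟨rs.map (algebraMap Γ(X, U.1) (X.presheaf.stalk (i z))), ⟨?_, ?_⟩, ?_⟩
  · exact RingTheory.Sequence.IsWeaklyRegular.of_flat hrs.toIsWeaklyRegular
  · rw [← Ideal.map_ofList, ← hker, ← hker']
    intro htop
    rw [smul_eq_mul, Ideal.mul_top] at htop
    have h1 : (1 : X.presheaf.stalk (i z)) ∈ RingHom.ker f := by rw [← htop]; exact Submodule.mem_top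
    rw [RingHom.mem_ker, map_one] at h1
    exact one_ne_zero h1
  · show RingHom.ker f = _
    rw [hker', ← Ideal.map_ofList]
    exact congrArg _ hker


end Groth.Agent.S18944
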