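import Groth.Statements.S18945
import Mathlib
import Groth.Agent.Synt29.Mor
import Groth.Agent.Synt29.RelReg

set_option backward.isDefEq.respectTransparency.types false

set_option autoImplicit false
universe u
open CategoryTheory AlgebraicGeometry
open Synt

namespace Groth.Agent.S18945

open AlgebraicGeometry CategoryTheory MvPolynomial TensorProduct

theorem exists_root_cover (p : ℕ) (hp : p ≠ 0) (A : Type u) [CommRing A] (a : A) :
    ∃ (B : Type u) (_ : CommRing B) (_ : Algebra A B), Synt.IsSyntomic A B ∧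
      Function.Surjective (PrimeSpectrum.comap (algebraMap A B)) ∧ ∃ b : B, b ^ p = algebraMap A B a := by
  classical
  let F : Fin 1 → MvPolynomial (Fin 1) A := fun _ => X 0 ^ p - C a
  let B := Synt.RelGCIRing A 1 1 F
  have hF : Synt.IsRelGCI A 1 1 F := by
    rw [Synt29.isRelGCI_iff]
    intro q hn
    refine ⟨le_rfl, ?_⟩
    let k := q.asIdeal.ResidueField
    let G : MvPolynomial (Fin 1) k := Synt29.mapPoly A F k 0
    have hG : G ≠ 0 := by
      intro h0
      have h1 := congrArg (coeff (Finsupp.single (0 : Fin 1) p)) h0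
      simp [G, F, coeff_X_pow] at h1
      rw [if_neg (fun h => hp (by simpa using (congrArg (fun f => f (0 : Fin 1)) h).symm))] at h1
      simp at h1
    have hr : Set.range (Synt29.mapPoly A F k) = {G} := by
      ext z
      exact ⟨fun ⟨i, hi⟩ => by rw [← hi, Subsingleton.elim i 0]; rfl, fun hz => ⟨0, hz.symm⟩⟩
    have h2 := ringKrullDim_quotient_succ_le_of_nonZeroDivisor (mem_nonZeroDivisors_of_ne_zero hG)
    rw [MvPolynomial.ringKrullDim_of_isNoetherianRing, ringKrullDim_eq_zero_of_field, zero_add, Nat.card_fin] at h2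
    have h3 : ringKrullDim (MvPolynomial (Fin 1) k ⧸ Ideal.span {G}) ≤ 0 :=
      ENat.WithBot.add_le_add_one_right_iff.1 (by simpa using h2)
    rw [show (1 - 1 : ℕ) = 0 from rfl, Nat.cast_zero]
    refine le_trans (le_of_eq (ringKrullDim_eq_of_ringEquiv (Ideal.quotEquivOfEq (congrArg Ideal.span hr)))) h3
  refine ⟨B, inferInstance, inferInstance, Synt29.isSyntomic_relGCIRing hF, fun q => ?_,
    ⟨Ideal.Quotient.mk _ (X 0), ?_⟩⟩
  · let K := AlgebraicClosure q.asIdeal.ResidueField
    obtain ⟨r, hr⟩ := IsAlgClosed.exists_pow_nat_eq (algebraMap A K a) (Nat.pos_of_ne_zero hp)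
    let ψ : B →ₐ[A] K := Ideal.Quotient.liftₐ _ (aeval fun _ => r) (fun x hx => by
      refine (Ideal.span_le (I := RingHom.ker (aeval fun _ : Fin 1 => r : MvPolynomial (Fin 1) A →ₐ[A] K).toRingHom)).2 ?_ hx
      rintro _ ⟨i, rfl⟩
      show aeval (fun _ : Fin 1 => r) (X 0 ^ p - C a) = 0
      rw [map_sub, map_pow, aeval_X, aeval_C, hr, sub_self])
    refine ⟨⟨RingHom.ker ψ.toRingHom, RingHom.ker_isPrime _⟩, PrimeSpectrum.ext ?_⟩
    ext x
    show ψ (algebraMap A B x) = 0 ↔ x ∈ q.asIdeal
    rw [ψ.commutes, IsScalarTower.algebraMap_apply A q.asIdeal.ResidueField K, map_eq_zero_iff _ (RingHom.injective _),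
      Ideal.algebraMap_residueField_eq_zero]
  · show Ideal.Quotient.mk (Ideal.span (Set.range F)) (X 0) ^ p = Ideal.Quotient.mk (Ideal.span (Set.range F)) (C a)
    rw [← map_pow, Ideal.Quotient.eq]
    exact Ideal.subset_span ⟨0, rfl⟩


/-- Let p be a prime, X a scheme and a a global section of the structure sheaf of X. There is a covering
of X for the syntomic topology, that is a jointly surjective family of syntomic morphisms X_i → X,
such that the restriction of a to each X_i is a p-th power. (The source states the surjectivity of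
the p-th power map of the structure sheaf on the small syntomic site of a syntomic scheme over a
perfect field of characteristic p; the covering it uses elsewhere, adjoining a p-th root T^p = a
over affine pieces, gives the statement for every scheme, which is the form given here.) -/
theorem result (p : ℕ) [Fact p.Prime] (X : Scheme.{u}) (a : Γ(X, ⊤)) :
    ∃ 𝒰 : Scheme.Cover.{u} (Scheme.precoverage @Synt.IsSyntomicMor) X,
      ∀ i : 𝒰.I₀, ∃ b : Γ(𝒰.X i, ⊤), b ^ p = (𝒰.f i).appTop a := by
  classical
  choose B hB hAB hsyn hsurj b hb using fun U : X.affineOpens =>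
    exists_root_cover p (Nat.Prime.pos Fact.out).ne' Γ(X, U.1) (X.presheaf.map (homOfLE le_top).op a)
  let P : MorphismProperty Scheme.{u} := fun {X Y : Scheme.{u}} (f : X ⟶ Y) => Synt.IsSyntomicMor f
  haveI : HasRingHomProperty P Synt29.RingHomIsSyntomic := Synt29.hasRingHomProperty_isSyntomicMor
  haveI : P.Respects @IsOpenImmersion := HasRingHomProperty.respects_isOpenImmersion (P := P) Synt29.syntomic_sourceAway
  let φ : ∀ U : X.affineOpens, Γ(X, U.1) ⟶ CommRingCat.of (B U) := fun U => CommRingCat.ofHom (algebraMap Γ(X, U.1) (B U))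
  let m : ∀ U : X.affineOpens, Spec (CommRingCat.of (B U)) ⟶ X := fun U => Spec.map (φ U) ≫ U.2.fromSpec
  refine ⟨Scheme.Cover.mkOfCovers X.affineOpens (fun U => Spec (CommRingCat.of (B U))) m (fun x => ?_) (fun U => ?_),
    fun (U : X.affineOpens) => ?_⟩
  · obtain ⟨U, hU, hxU, -⟩ := exists_isAffineOpen_mem_and_subset (U := ⊤) (x := x) trivial
    obtain ⟨z, hz⟩ := hsurj ⟨U, hU⟩ (hU.primeIdealOf ⟨x, hxU⟩)
    refine ⟨⟨U, hU⟩, z, ?_⟩
    show hU.fromSpec (PrimeSpectrum.comap (φ ⟨U, hU⟩).hom z) = x
    erw [hz]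
    exact hU.fromSpec_primeIdealOf ⟨x, hxU⟩
  · exact MorphismProperty.RespectsRight.postcomp (P := P) (Q := @IsOpenImmersion) U.2.fromSpec
      (inferInstanceAs (IsOpenImmersion U.2.fromSpec)) _
      (Synt29.isSyntomic_iff_isSyntomicMor.2 (hsyn U))
  · refine ⟨(Scheme.ΓSpecIso (CommRingCat.of (B U))).inv (b U), ?_⟩
    show _ = (m U).appTop a
    have key : (m U).appTop ≫ (Scheme.ΓSpecIso (CommRingCat.of (B U))).hom = X.presheaf.map (homOfLE le_top).op ≫ φ U := by
      show (Spec.map (φ U) ≫ U.2.fromSpec).appTop ≫ _ = _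
      rw [Scheme.Hom.comp_appTop, Category.assoc, Scheme.ΓSpecIso_naturality]
      rw [Scheme.Hom.appTop, U.2.fromSpec_app_of_le ⊤ le_top]
      simp
    apply (ConcreteCategory.bijective_of_isIso (Scheme.ΓSpecIso (CommRingCat.of (B U))).hom).1
    erw [map_pow, ← ConcreteCategory.comp_apply, Iso.inv_hom_id, ← ConcreteCategory.comp_apply, key]
    exact hb U

end Groth.Agent.S18945
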