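import Groth.Statements.S18946
import Mathlib
-- import your own Groth.Agent.* helpers here

set_option autoImplicit false
universe u
open scoped BigOperators
open InvQ

namespace Groth.Agent.S18946

/-- Let k be an algebraically closed field of characteristic zero and n a natural number, and let the
torus of (n+1)-tuples of units of k with product 1 act on the polynomial ring k[t_0, ..., t_n] by
rescaling each variable t_i by the i-th unit. A polynomial is fixed by every such rescaling if and
only if it lies in the k-subalgebra generated by the product t_0 t_1 ... t_n. (This is the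
computation of the ring of functions on affine (n+1)-space invariant under the maximal diagonal
torus of the special linear group, identified with the polynomial ring in the single coordinate t =
t_0 ... t_n of the line it maps to by the product map; invariance is tested on k-valued points of
the torus, which over an infinite field is the same as invariance under the group scheme.) -/
theorem result
    (k : Type u) [Field k] [IsAlgClosed k] [CharZero k] (n : ℕ)
    (f : MvPolynomial (Fin (n + 1)) k) :
    (∀ σ : Fin (n + 1) → kˣ, ∏ i, (σ i : k) = 1 →
        MvPolynomial.aeval (fun i => MvPolynomial.C (σ i : k) * MvPolynomial.X i) f = f) ↔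
      f ∈ Algebra.adjoin k ({∏ i : Fin (n + 1), MvPolynomial.X i} : Set (MvPolynomial (Fin (n + 1)) k)) := by
  classical
  set P : MvPolynomial (Fin (n + 1)) k := ∏ i, MvPolynomial.X i
  have hact : ∀ (σ : Fin (n + 1) → kˣ) (d : Fin (n + 1) →₀ ℕ),
      MvPolynomial.coeff d (MvPolynomial.aeval (fun i => MvPolynomial.C (σ i : k) * MvPolynomial.X i) f) =
        (∏ i, (σ i : k) ^ d i) * MvPolynomial.coeff d f := by
    intro σ d
    induction f using MvPolynomial.induction_on' with
    | monomial e c =>
      rw [MvPolynomial.aeval_monomial, Finsupp.prod_fintype _ _ (fun i => by simp)]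
      simp only [mul_pow, Finset.prod_mul_distrib, ← map_pow, ← map_prod, MvPolynomial.algebraMap_eq]
      rw [← mul_assoc, ← map_mul, MvPolynomial.coeff_C_mul,
        show (∏ i, (MvPolynomial.X i : MvPolynomial (Fin (n + 1)) k) ^ e i) = MvPolynomial.monomial e 1 by
          rw [MvPolynomial.monomial_eq, map_one, one_mul, Finsupp.prod_fintype _ _ (fun i => by simp)],
        MvPolynomial.coeff_monomial, MvPolynomial.coeff_monomial]
      by_cases h : e = d
      · subst h; simp [mul_comm]
      · simp [h]
    | add p q hp hq => rw [map_add, MvPolynomial.coeff_add, MvPolynomial.coeff_add, hp, hq, mul_add]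
  constructor
  · intro hf
    rw [f.as_sum]
    refine Subalgebra.sum_mem _ fun d hd => ?_
    have hconst : ∀ i, d i = d 0 := by
      intro i
      by_contra hne
      have hi : i ≠ 0 := fun h => hne (by rw [h])
      obtain ⟨t, ht⟩ : ∃ t : kˣ, t = Units.mk0 (2 : k) two_ne_zero := ⟨_, rfl⟩
      let σ : Fin (n + 1) → kˣ := Function.update (Function.update 1 0 t⁻¹) i t
      have hprod : ∀ e : Fin (n + 1) → ℕ, ∏ j, (σ j : k) ^ e j = (t : k) ^ e i * ((t⁻¹ : kˣ) : k) ^ e 0 := fun e => by
        rw [← Finset.mul_prod_erase _ _ (Finset.mem_univ i),
          ← Finset.mul_prod_erase _ _ (Finset.mem_erase.mpr ⟨hi.symm, Finset.mem_univ (0 : Fin (n + 1))⟩),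
          Finset.prod_eq_one (fun j hj => by
            simp only [Finset.mem_erase] at hj
            simp [σ, hj.1, hj.2.1]), mul_one]
        simp [σ, hi.symm]
      have h1 : ∏ j, (σ j : k) = 1 := by simpa using hprod 1
      have h2 := congrArg (MvPolynomial.coeff d) (hf σ h1)
      rw [hact, hprod, mul_eq_right₀ (MvPolynomial.mem_support_iff.mp hd)] at h2
      have h3 : (2 : k) ^ d i = (2 : k) ^ d 0 := by
        rw [ht] at h2
        simp only [Units.val_inv_eq_inv_val, Units.val_mk0, inv_pow] at h2
        exact (mul_inv_eq_one₀ (pow_ne_zero _ two_ne_zero)).mp h2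
      exact hne (Nat.pow_right_injective le_rfl (by exact_mod_cast h3))
    have he : MvPolynomial.monomial d (f.coeff d) = MvPolynomial.C (f.coeff d) * P ^ d 0 := by
      rw [MvPolynomial.monomial_eq, Finsupp.prod_fintype _ _ (fun i => by simp), ← Finset.prod_pow]
      simp only [hconst]
    rw [he, ← MvPolynomial.algebraMap_eq]
    exact Subalgebra.mul_mem _ (Subalgebra.algebraMap_mem _ _) (Subalgebra.pow_mem _ (Algebra.subset_adjoin (Set.mem_singleton P)) _)
  · intro hf σ hσ
    clear hact
    induction hf using Algebra.adjoin_induction with
    | mem x hx =>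
      rw [Set.mem_singleton_iff] at hx
      subst hx
      simp only [P, map_prod, MvPolynomial.aeval_X, Finset.prod_mul_distrib]
      rw [← map_prod, hσ, map_one, one_mul]
    | algebraMap r => simp
    | add p q _ _ hp hq => rw [map_add, hp, hq]
    | mul p q _ _ hp hq => rw [map_mul, hp, hq]

end Groth.Agent.S18946
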