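import Groth.Statements.S18949
import Mathlib.Tactic.Group

set_option autoImplicit false
universe u v
open CExt

namespace Groth.Agent.S18949

/-- Automorphisms over the base: let f : E → G be a surjective homomorphism of groups with central
kernel A. For every homomorphism χ : G → A the map e ↦ χ(f(e)) · e is an endomorphism of E over G
which is the identity on A; and every endomorphism α of E with f ∘ α = f and α equal to the identity
on A is of this form for exactly one χ. (In the source this identifies the automorphisms of a
central extension fixing its kernel with Hom(G, A), for extensions of profinite étale group schemes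
over a field; stated here for abstract groups.) -/
theorem result {E : Type u} {G : Type v} [Group E] [Group G]
    (f : E →* G) (hf : Function.Surjective f) (hker : f.ker ≤ Subgroup.center E) :
    (∀ χ : G →* f.ker, ∃ α : E →* E, f.comp α = f ∧ (∀ a ∈ f.ker, α a = a) ∧
        ∀ e : E, α e = (χ (f e) : E) * e) ∧
      ∀ α : E →* E, f.comp α = f → (∀ a ∈ f.ker, α a = a) →
        ∃! χ : G →* f.ker, ∀ e : E, α e = (χ (f e) : E) * e := by
  constructor
  · intro χ
    refine ⟨⟨⟨fun e => (χ (f e) : E) * e, by simp⟩, ?_⟩, ?_, ?_, ?_⟩
    · intro a b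
      have hc := Subgroup.mem_center_iff.1 (hker (χ (f b)).2) a
      simp only [map_mul, Subgroup.coe_mul]
      calc (χ (f a) : E) * (χ (f b) : E) * (a * b) = (χ (f a) : E) * ((χ (f b) : E) * a) * b := by group
        _ = (χ (f a) : E) * (a * (χ (f b) : E)) * b := by rw [hc]
        _ = (χ (f a) : E) * a * ((χ (f b) : E) * b) := by group
    · ext e
      simp [MonoidHom.mem_ker.1 (χ (f e)).2]
    · intro a ha
      simp [MonoidHom.mem_ker.1 ha]
    · intro e; rfl
  · intro α hα hαA
    let d : E → E := fun e => α e * e⁻¹
    have hd : ∀ e, d e ∈ f.ker := by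
      intro e
      have := DFunLike.congr_fun hα e
      simp only [MonoidHom.coe_comp, Function.comp_apply] at this
      simp [d, MonoidHom.mem_ker, this]
    have hdinv : ∀ a b, f a = f b → d a = d b := by
      intro a b hab
      have hk : b⁻¹ * a ∈ f.ker := by simp [MonoidHom.mem_ker, hab]
      have h2 := hαA _ hk
      rw [map_mul, map_inv] at h2
      show α a * a⁻¹ = α b * b⁻¹
      calc α a * a⁻¹ = α b * ((α b)⁻¹ * α a) * a⁻¹ := by group
        _ = α b * (b⁻¹ * a) * a⁻¹ := by rw [h2]
        _ = α b * b⁻¹ := by group
    obtain ⟨s, hs⟩ := hf.hasRightInverse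
    have hdmul : ∀ a b, d (a * b) = d a * d b := by
      intro a b
      have hc := Subgroup.mem_center_iff.1 (hker (hd b)) a⁻¹
      show α (a*b) * (a*b)⁻¹ = d a * d b
      calc α (a*b) * (a*b)⁻¹ = α a * (d b * a⁻¹) := by simp [d]; group
        _ = α a * (a⁻¹ * d b) := by rw [hc]
        _ = d a * d b := by simp only [d]; group
    refine ⟨MonoidHom.mk' (fun g => (⟨d (s g), hd _⟩ : f.ker)) ?_, ?_, ?_⟩
    · intro g h
      ext
      simp only [Subgroup.coe_mul]
      rw [← hdmul]
      exact hdinv _ _ (by simp [hs g, hs h, hs (g*h)])
    · intro e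
      simp only [MonoidHom.mk'_apply]
      rw [hdinv (s (f e)) e (hs _)]
      simp [d]
    · intro χ hχ
      ext g
      simp only [MonoidHom.mk'_apply, d]
      rw [hχ (s g), hs g]
      group


end Groth.Agent.S18949
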