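import Groth.Statements.S18950
-- import your own Groth.Agent.* helpers here

set_option autoImplicit false
universe u v
open CExt

namespace Groth.Agent.S18950

/-- Let f : E → G be a homomorphism of groups whose kernel is central in E, let α be an endomorphism of
E with f ∘ α = f which is the identity on the kernel, and let S ⊆ E be a subset fixed pointwise by α
such that f(S) generates G. Then α is the identity. (In the source S is the marking of a marked
central extension of finite tame étale group schemes and the hypothesis is that the marked conjugacy
classes generate G; the conclusion there is that a morphism of marked extensions inducing the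
identity on the kernel and on G is unique.) -/
theorem result {E : Type u} {G : Type v} [Group E] [Group G]
    (f : E →* G) (hker : f.ker ≤ Subgroup.center E) (α : E →* E) (hα : f.comp α = f)
    (hαA : ∀ a ∈ f.ker, α a = a) (S : Set E) (hS : Subgroup.closure (f '' S) = ⊤)
    (hαS : ∀ s ∈ S, α s = s) : α = MonoidHom.id E := by
  apply MonoidHom.ext
  intro x
  have key : ∀ g, ∀ e, f e = g → α e = e := by
    intro g
    have hg : g ∈ Subgroup.closure (f '' S) := hS ▸ Subgroup.mem_top g
    -- the set of elements all of whose lifts are fixed
    induction hg using Subgroup.closure_induction with
    | mem g hg =>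
      obtain ⟨s, hs, rfl⟩ := hg
      intro e he
      have hk : e * s⁻¹ ∈ f.ker := by simp [MonoidHom.mem_ker, he]
      have := hαA _ hk
      rw [map_mul, map_inv, hαS s hs] at this
      exact mul_right_cancel this
    | one =>
      intro e he
      exact hαA e he
    | mul g₁ g₂ _ _ ih₁ ih₂ =>
      intro e he
      -- f α = f, compare e with product of lifts
      obtain ⟨e₁, he₁⟩ : ∃ e₁, f e₁ = g₁ := by
        have : g₁ ∈ (⊤ : Subgroup G) := Subgroup.mem_top _
        rw [← hS] at this
        exact (Subgroup.closure_le (f.range)).2 (Set.image_subset_range f S) this
      have h2 : f (e₁⁻¹ * e) = g₂ := by simp [he, he₁]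
      have := ih₂ _ h2
      rw [map_mul, map_inv, ih₁ e₁ he₁] at this
      exact mul_left_cancel this
    | inv g _ ih =>
      intro e he
      have := ih e⁻¹ (by simp [he])
      simpa using this
  exact key (f x) x rfl


end Groth.Agent.S18950
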