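import Groth.Statements.S18951
import Mathlib.Algebra.Group.Subgroup.Lattice
import Mathlib.Algebra.Module.NatInt
import Mathlib.Tactic

set_option autoImplicit false
universe u
open OrbPic

namespace Groth.Agent.S18951

/-- Let G be a group and C ⊆ G a subset that generates G. Then the projection (χ, w) ↦ w from the group
of geometric partial orbifold line bundles with respect to C to functions G → ℚ is injective, its
image contains every conjugation-invariant integer-valued function vanishing at 1 and outside C, and
the group is torsion-free. (The source works with the geometric points of a tame finite étale group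
scheme, characters with values in roots of unity and weights on conjugacy classes of the Tate twist;
here these are identified with a group, homomorphisms to ℚ/ℤ and class functions as the source does
after choosing roots of unity. The case C = G ∖ {1} is the statement for full orbifold line
bundles.) -/
theorem result (G : Type u) [Group G] (C : Set G)
    (hC : Subgroup.closure C = ⊤) :
    Set.InjOn (fun p : (Additive G →+ W4c6brauerbgmalle.QmodZ) × (G → ℚ) => p.2) (W4c6brauerbgmalle.picOrb G C) ∧
      (∀ w ∈ W4c6brauerbgmalle.intWeights G C, ((0 : Additive G →+ W4c6brauerbgmalle.QmodZ), w) ∈ W4c6brauerbgmalle.picOrb G C) ∧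
      ∀ (n : ℕ) (p : (Additive G →+ W4c6brauerbgmalle.QmodZ) × (G → ℚ)), p ∈ W4c6brauerbgmalle.picOrb G C → n ≠ 0 →
        n • p = 0 → p = 0 := by
  have hinj : Set.InjOn (fun p : (Additive G →+ W4c6brauerbgmalle.QmodZ) × (G → ℚ) => p.2)
      (W4c6brauerbgmalle.picOrb G C) := by
    rintro ⟨χ, w⟩ hp ⟨χ', w'⟩ hq (rfl : w = w')
    refine Prod.ext (AddMonoidHom.ext fun x => ?_) rfl
    obtain ⟨g, rfl⟩ := Additive.ofMul.surjective x
    have hx : g ∈ Subgroup.closure C := hC ▸ trivial
    induction hx using Subgroup.closure_induction with
    | mem y hy => exact (hp.2.2.2 y hy).symm.trans (hq.2.2.2 y hy)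
    | one => simp
    | mul a b _ _ ha hb => rw [ofMul_mul, map_add, map_add, ha, hb]
    | inv a _ ha => rw [ofMul_inv, map_neg, map_neg, ha]
  refine ⟨hinj, fun w hw => ⟨hw.1, hw.2.1, hw.2.2.1, fun g _ => ?_⟩, fun n p hp hn hnp => ?_⟩
  · obtain ⟨m, hm⟩ := hw.2.2.2 g
    rw [AddMonoidHom.zero_apply, QuotientAddGroup.mk'_apply, QuotientAddGroup.eq_zero_iff]
    exact ⟨m, by simp [hm]⟩
  · have h2 : p.2 = 0 := (smul_eq_zero.mp ((congrArg Prod.snd hnp) : n • p.2 = 0)).resolve_left hn
    exact hinj hp (W4c6brauerbgmalle.picOrb G C).zero_mem h2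

end Groth.Agent.S18951
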