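import Groth.Statements.S18953
import Mathlib.Tactic
import Mathlib.Algebra.Group.Prod

set_option autoImplicit false
universe u v
open OrbPic

namespace Groth.Agent.S18953

/-- Let G₁ and G₂ be groups with subsets C₁ ⊆ G₁ and C₂ ⊆ G₂, and let C ⊆ G₁ × G₂ be the union of C₁ ×
{1} and {1} × C₂. Restricting the character and the weight along the two inclusions G₁ → G₁ × G₂ and
G₂ → G₁ × G₂ is a bijection from the geometric partial orbifold line bundles of G₁ × G₂ with respect
to C onto pairs of geometric partial orbifold line bundles of G₁ with respect to C₁ and of G₂ with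
respect to C₂. (As in the source after a choice of roots of unity, each group stands for the
geometric points of a tame finite étale group scheme, characters are homomorphisms to ℚ/ℤ and
weights are class functions; the source states the Galois-equivariant version, which follows by
taking invariants.) -/
theorem result (G₁ : Type u) (G₂ : Type v) [Group G₁] [Group G₂] (C₁ : Set G₁) (C₂ : Set G₂) :
    Set.BijOn
      (fun p : (Additive (G₁ × G₂) →+ W4c6brauerbgmalle.QmodZ) × (G₁ × G₂ → ℚ) =>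
        ((p.1.comp (MonoidHom.toAdditive (MonoidHom.inl G₁ G₂)), fun g => p.2 (g, 1)),
          (p.1.comp (MonoidHom.toAdditive (MonoidHom.inr G₁ G₂)), fun g => p.2 (1, g))))
      (W4c6brauerbgmalle.picOrb (G₁ × G₂) ((fun g => (g, (1 : G₂))) '' C₁ ∪ (fun g => ((1 : G₁), g)) '' C₂))
      ((W4c6brauerbgmalle.picOrb G₁ C₁ : Set _) ×ˢ (W4c6brauerbgmalle.picOrb G₂ C₂ : Set _)) := by
  classical
  refine ⟨fun p hp => ⟨⟨hp.1, fun g hg => ?_, fun g h => ?_, fun g hg => ?_⟩,
    hp.1, fun g hg => ?_, fun g h => ?_, fun g hg => ?_⟩, ?_, ?_⟩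
  · by_cases h : g = 1
    · subst h; exact hp.1
    · refine hp.2.1 _ ?_
      rintro (⟨a, ha, he⟩ | ⟨a, ha, he⟩)
      · exact hg ((show a = g from congrArg Prod.fst he) ▸ ha)
      · exact h (congrArg Prod.fst he : (1 : G₁) = g).symm
  · simpa using hp.2.2.1 (g, 1) (h, 1)
  · exact hp.2.2.2 _ (Or.inl ⟨g, hg, rfl⟩)
  · by_cases h : g = 1
    · subst h; exact hp.1
    · refine hp.2.1 _ ?_
      rintro (⟨a, ha, he⟩ | ⟨a, ha, he⟩)
      · exact h (congrArg Prod.snd he : (1 : G₂) = g).symm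
      · exact hg ((show a = g from congrArg Prod.snd he) ▸ ha)
  · simpa using hp.2.2.1 (1, g) (1, h)
  · exact hp.2.2.2 _ (Or.inr ⟨g, hg, rfl⟩)
  · rintro ⟨χ, w⟩ hp ⟨χ', w'⟩ hq he
    simp only [Prod.mk.injEq] at he
    obtain ⟨⟨hl, hwl⟩, hr, hwr⟩ := he
    refine Prod.ext (AddMonoidHom.ext fun x => ?_) (funext fun x => ?_)
    · obtain ⟨⟨a, b⟩, rfl⟩ := Additive.ofMul.surjective x
      rw [show ((a, b) : G₁ × G₂) = (a, 1) * (1, b) by simp, ofMul_mul, map_add, map_add]
      exact congrArg₂ (· + ·) (DFunLike.congr_fun hl (Additive.ofMul a)) (DFunLike.congr_fun hr (Additive.ofMul b))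
    · by_cases hx : x ∈ (fun g => (g, (1 : G₂))) '' C₁ ∪ (fun g => ((1 : G₁), g)) '' C₂
      · rcases hx with ⟨a, -, rfl⟩ | ⟨a, -, rfl⟩
        · exact congrFun hwl a
        · exact congrFun hwr a
      · exact (hp.2.1 x hx).trans (hq.2.1 x hx).symm
  · rintro ⟨⟨χ₁, w₁⟩, χ₂, w₂⟩ ⟨⟨h11, h12, h13, h14⟩, h21, h22, h23, h24⟩
    dsimp only at h11 h12 h13 h14 h21 h22 h23 h24
    refine ⟨(χ₁.comp (MonoidHom.toAdditive (MonoidHom.fst G₁ G₂)) + χ₂.comp (MonoidHom.toAdditive (MonoidHom.snd G₁ G₂)),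
      fun x => (if x.2 = 1 then w₁ x.1 else 0) + if x.1 = 1 then w₂ x.2 else 0), ⟨?_, ?_, ?_, ?_⟩, ?_⟩
    · simp [h11, h21]
    · rintro ⟨a, b⟩ hx
      by_cases hb : b = 1
      · subst hb
        have : w₁ a = 0 := h12 a fun ha => hx (Or.inl ⟨a, ha, rfl⟩)
        simp [this, h21]
      · by_cases ha : a = 1
        · subst ha
          have : w₂ b = 0 := h22 b fun hb' => hx (Or.inr ⟨b, hb', rfl⟩)
          simp [this, hb]
        · simp [ha, hb]
    · rintro ⟨a, b⟩ ⟨c, d⟩
      simp [h13, h23, conj_eq_one_iff]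
    · rintro x (⟨a, ha, rfl⟩ | ⟨a, ha, rfl⟩)
      · simp [h14 a ha, h21]
      · simp [h24 a ha, h11]
    · refine Prod.ext (Prod.ext ?_ ?_) (Prod.ext ?_ ?_)
      · exact AddMonoidHom.ext fun x => by simp
      · funext g; simp [h21]
      · exact AddMonoidHom.ext fun x => by simp
      · funext g; simp [h11]

end Groth.Agent.S18953
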