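import Groth.Statements.S18957
import Groth.Agent.H23.AMonExt
-- import your own Groth.Agent.* helpers here

set_option autoImplicit false
universe u
open CategoryTheory MonoidalCategory CartesianMonoidalCategory MonObj AlgebraicGeometry Opposite
open Magnet

namespace Groth.Agent.S18957

/-- Let k be a field, M a monoid k-scheme with an action a on a k-scheme X, G a group k-scheme and i : G
→ M a homomorphism of monoids which is a quasi-compact open immersion with scheme-theoretically
dense image. Let j : Z → X be a closed immersion and b an action of G on Z for which j is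
equivariant, G acting on X through i and a (a closed G-stable subscheme). Then the G-action on Z
extends to an M-action making j equivariant: there is an action c of M on Z such that j is
equivariant for c and a and the restriction of c along i is b. (The published statement takes G to
be the group of units of M, schematically dense in M; here it is assumed only that i is a
homomorphism of monoids and a quasi-compact, scheme-theoretically dominant open immersion.) -/
theorem result (k : Type u) [Field k]
    (M G X Z : Over (Spec (CommRingCat.of k))) [MonObj M] [GrpObj G]
    (i : G ⟶ M) [IsMonHom i] [IsOpenImmersion i.left] [QuasiCompact i.left]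
    [IsSchemeTheoreticallyDominant i.left]
    (a : Magnet.MonAct M X) (b : AlgGrp.Action G Z) (j : Z ⟶ X) [IsClosedImmersion j.left]
    (hj : Magnet.MonAct.IsEquivariant (Magnet.MonAct.ofAction b) (a.restrict i) j) :
    ∃ c : Magnet.MonAct M Z, Magnet.MonAct.IsEquivariant c a j ∧ c.restrict i = Magnet.MonAct.ofAction b := by
  haveI := Groth.Agent.H23.AMonExt.mono_of_isClosedImmersion j
  haveI := Groth.Agent.H23.AMonExt.stDominant_whiskerRight_field i Z
  obtain ⟨act, hact⟩ := Groth.Agent.H23.AMonExt.exists_lift_over (i ▷ Z) j ((M ◁ j) ≫ a.act) b.act (by
    have h := hj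
    unfold Magnet.MonAct.IsEquivariant at h
    rw [Magnet.MonAct.ofAction_act, Magnet.MonAct.restrict_act] at h
    rw [h, whisker_exchange_assoc])
  have hp : ∀ (T : Over (Spec (CommRingCat.of k))) (g : T ⟶ M) (z : T ⟶ Z),
      (lift g z ≫ act) ≫ j = lift g (z ≫ j) ≫ a.act := fun T g z => by
    rw [Category.assoc, hact, lift_whiskerLeft_assoc]
  let c : Magnet.MonAct M Z := Magnet.MonAct.mk' act
    (fun T z => by rw [← cancel_mono j, hp, a.lift_one_act])
    (fun T g h z => by rw [← cancel_mono j, hp, hp, hp, a.lift_mul_act])
  refine ⟨c, hact, Magnet.MonAct.ext' ?_⟩
  rw [← cancel_mono j, Magnet.MonAct.restrict_act, Magnet.MonAct.mk'_act, Category.assoc, hact]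
  unfold Magnet.MonAct.IsEquivariant at hj
  rw [hj, Magnet.MonAct.restrict_act, whisker_exchange_assoc]

end Groth.Agent.S18957
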