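import Groth.Statements.S18959
import Groth.Agent.H28.A1Iso
-- import your own Groth.Agent.* helpers here

set_option autoImplicit false
universe u
open CategoryTheory MonoidalCategory CartesianMonoidalCategory MonObj AlgebraicGeometry Opposite
open Magnet

namespace Groth.Agent.S18959

/-- Let k be a field and let M be the affine line A^1_k with its multiplication (the diagonalizable
monoid scheme of the additive monoid of natural numbers; the published statement covers any Kempf
monoid over k), acting on k-schemes X and Y through a and b so that X and Y are locally linear, i.e.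
every point has an affine open neighbourhood stable under the action. Let Y be locally Noetherian
and f : X → Y an equivariant k-morphism such that: (1) the induced map of fixed-point subfunctors
X^M → Y^M is an isomorphism; (2) the square formed by X^M → Y^M, the inclusions X^M → X, Y^M → Y of
functors of points and f is cartesian; (3) there is an open subset V of X on which f is étale and
through which every fixed T-valued point of X factors. Then f is an isomorphism. -/
theorem result (k : Type u) [Field k]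
    (X Y : Over (Spec (CommRingCat.of k))) (a : Magnet.MonAct (Magnet.AMonS (Spec (CommRingCat.of k)) ℕ) X) (b : Magnet.MonAct (Magnet.AMonS (Spec (CommRingCat.of k)) ℕ) Y)
    (hX : ∀ x : X.left, ∃ U : X.left.Opens, x ∈ U ∧ IsAffineOpen U ∧
      (CartesianMonoidalCategory.snd (Magnet.AMonS (Spec (CommRingCat.of k)) ℕ) X).left ⁻¹ᵁ U ≤ a.act.left ⁻¹ᵁ U)
    (hY : ∀ y : Y.left, ∃ U : Y.left.Opens, y ∈ U ∧ IsAffineOpen U ∧
      (CartesianMonoidalCategory.snd (Magnet.AMonS (Spec (CommRingCat.of k)) ℕ) Y).left ⁻¹ᵁ U ≤ b.act.left ⁻¹ᵁ U)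
    [IsLocallyNoetherian Y.left] (f : X ⟶ Y) (hf : Magnet.MonAct.IsEquivariant a b f)
    (h1 : IsIso (Magnet.MonAct.fixedPsh.map f hf))
    (h2 : IsPullback (Magnet.MonAct.fixedPsh.map f hf) (Magnet.MonAct.fixedPshι a)
      (Magnet.MonAct.fixedPshι b) (yoneda.map f))
    (V : X.left.Opens) [Etale (V.ι ≫ f.left)]
    (h3 : ∀ (T : Over (Spec (CommRingCat.of k))) (x : (Magnet.MonAct.fixedPsh a).obj (op T)), x.1.left ⁻¹ᵁ V = ⊤) :
    IsIso f := by
  have hb : ∀ T : (Over (Spec (CommRingCat.of k)))ᵒᵖ, Function.Bijective ((Magnet.MonAct.fixedPsh.map f hf).app T) :=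
    fun T => (CategoryTheory.isIso_iff_bijective _).mp inferInstance
  refine H28.A1Iso.isIso a b hf (fun T x x' hx hx' h => ?_) (fun T y hy => ?_) (fun T x hx => ?_) V
    (fun T x hx t => ?_) (fun x => ?_) (fun y => ?_)
  · exact congrArg Subtype.val ((hb (op T)).1 (a₁ := ⟨x, hx⟩) (a₂ := ⟨x', hx'⟩) (Subtype.ext h))
  · obtain ⟨x, hx⟩ := (hb (op T)).2 ⟨y, hy⟩
    exact ⟨x.1, x.2, congrArg Subtype.val hx⟩
  · have h := (CategoryTheory.Limits.Types.isPullback_iff _ _ _ _).mp (h2.app (op T))
    obtain ⟨x', -, hx'⟩ := h.2.2 ⟨x ≫ f, hx⟩ x rfl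
    exact (show x'.1 = x from hx') ▸ x'.2
  · have ht : t ∈ (⊤ : T.left.Opens) := trivial
    rw [← h3 T ⟨x, hx⟩] at ht
    exact ht
  · obtain ⟨U, hxU, hU, hst⟩ := hX x
    exact ⟨U, hxU, hU, H28.A1Stable.stable_of_le a hst⟩
  · obtain ⟨U, hyU, hU, hst⟩ := hY y
    exact ⟨U, hyU, hU, H28.A1Stable.stable_of_le b hst⟩

end Groth.Agent.S18959
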