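import Groth.Statements.S18960
import Groth.Agent.CatLimB.IsoAlg

set_option autoImplicit false
set_option backward.isDefEq.respectTransparency false
set_option backward.isDefEq.respectTransparency.types false
universe w' w v u
open CategoryTheory Limits
open CatLim

namespace Groth.Agent.S18960

/-- Let C be a category and T an endofunctor of C; let C(T) be the category whose objects are pairs (X,
u) with u : T X → X an isomorphism and whose morphisms (X, u) → (Y, w) are the morphisms X → Y
compatible with u and w — the full subcategory of T-algebras with invertible structure map — and let
π : C(T) → C be the forgetful functor. If T preserves colimits of shape J then π creates colimits of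
shape J. (The source assumes T preserves all small colimits and concludes for all small shapes; the
argument is shape by shape.) -/
theorem result {C : Type u} [Category.{v} C] (T : C ⥤ C)
    (J : Type w) [Category.{w'} J] [PreservesColimitsOfShape J T] :
    Nonempty (CreatesColimitsOfShape J
      ((ObjectProperty.ι (fun A : Endofunctor.Algebra T => IsIso A.str)) ⋙ Endofunctor.Algebra.forget T)) := by
  exact ⟨Groth.Agent.CatLimB.creates T J⟩

end Groth.Agent.S18960
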