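import Groth.Statements.S18961
import Mathlib
import Groth.Agent.GrSm.Graded

set_option autoImplicit false
universe u
open BBDec

namespace Groth.Agent.S18961

/-- Let k be a field, A a finitely generated k-algebra and B a finitely generated A-algebra graded by
the natural numbers as an A-algebra, with degree-zero part equal to the image of A and A → B
injective; let B₊ be the irrelevant ideal. So Spec B → Spec A is the retraction of an affine scheme
with an action of the multiplicative monoid of the affine line onto its fixed-point scheme, with
zero section cut out by B₊; this is the affine-local graded form, for that monoid, of the published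
statement, which covers any Kempf monoid M with unit group G and a k-scheme X locally of finite
type, and concludes that the retraction X⁺ → X^G is an affine-space bundle near a fixed point at
whose section value it is smooth. Assume that A → B is smooth at every prime ideal containing B₊ and
that B₊/B₊² is a free A-module of finite rank. Then B is isomorphic, as an A-algebra, to the
polynomial ring over A in (rank of B₊/B₊²) variables. (The published statement also makes the
isomorphism equivariant for a suitable linear action when G is linearly reductive; only the
existence of an A-algebra isomorphism is stated here. Freeness of the conormal module holds after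
shrinking the base, which is how the published proof reaches this situation.) -/
theorem result (k : Type u) [Field k]
    (A B : Type u) [CommRing A] [CommRing B] [Algebra k A] [Algebra k B] [Algebra A B] [IsScalarTower k A B]
    [Algebra.FiniteType k A] [Algebra.FiniteType A B] (𝒜 : ℕ → Submodule A B) [GradedAlgebra 𝒜]
    (h0 : ∀ b : B, b ∈ 𝒜 0 ↔ b ∈ Set.range (algebraMap A B)) (hinj : Function.Injective (algebraMap A B))
    (hsm : ∀ (P : Ideal B) [P.IsPrime], (HomogeneousIdeal.irrelevant 𝒜).toIdeal ≤ P → Algebra.IsSmoothAt A P)
    [Module.Free A (HomogeneousIdeal.irrelevant 𝒜).toIdeal.Cotangent]
    [Module.Finite A (HomogeneousIdeal.irrelevant 𝒜).toIdeal.Cotangent] :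
    Nonempty (B ≃ₐ[A]
      MvPolynomial (Fin (Module.finrank A (HomogeneousIdeal.irrelevant 𝒜).toIdeal.Cotangent)) A) := by
  haveI : IsNoetherianRing A := Algebra.FiniteType.isNoetherianRing k A
  rcases subsingleton_or_nontrivial A with hA | hA
  · haveI : Subsingleton B := subsingleton_of_zero_eq_one (by
      rw [← (algebraMap A B).map_zero, Subsingleton.elim (0 : A) 1, map_one])
    haveI : Subsingleton (MvPolynomial (Fin (Module.finrank A (HomogeneousIdeal.irrelevant 𝒜).toIdeal.Cotangent)) A) :=
      Module.subsingleton A _
    exact ⟨{ toFun := fun _ => 0, invFun := fun _ => 0,
             left_inv := fun _ => Subsingleton.elim _ _, right_inv := fun _ => Subsingleton.elim _ _,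
             map_mul' := fun _ _ => Subsingleton.elim _ _, map_add' := fun _ _ => Subsingleton.elim _ _,
             commutes' := fun _ => Subsingleton.elim _ _ }⟩
  · exact GrSm.nonempty_algEquiv 𝒜 (Module.finBasis A _) h0 hinj hsm

end Groth.Agent.S18961
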