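import Groth.Statements.S18964
import Groth.Agent.H28.EqvGlue
import Groth.Agent.H28.EqvUnits
-- import your own Groth.Agent.* helpers here

set_option autoImplicit false
universe u
open CategoryTheory MonoidalCategory CartesianMonoidalCategory MonObj AlgebraicGeometry Opposite
open Magnet

namespace Groth.Agent.S18964

/-- Let k be a field, M an affine monoid k-scheme, G an affine group k-scheme and i : G → M a
homomorphism of monoids which is an open immersion with scheme-theoretically dense image; let o :
Spec k → M be a zero of M (m·o = o = o·m), and assume that for every k-scheme T whose underlying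
scheme is the spectrum of a field, every open subset of M ×_k T which is stable under G acting by
left multiplication through i on the first factor and contains the zero section is the whole of M
×_k T. Let X be a k-scheme with an action aX of G such that the G-stable affine open subsets U of X
cover the fixed points: for every k-scheme T and every G-fixed T-valued point x of X, the preimages
under x of the G-stable affine opens cover T (equivalently, the open subfunctors U^G cover X^G; this
holds when X is locally linear, i.e. every point has a G-stable affine open neighbourhood). Then the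
functor D_X on k-schemes, whose value at Y is the set of k-morphisms M ×_k Y → X that are
G-equivariant for G acting on M ×_k Y by left multiplication through i on the first factor, is
representable by a k-scheme. (In the source M is a Kempf monoid with G its group of units;
affineness of G, density and openness of G in M and the displayed property of G-stable opens over
field extensions are the consequences of that hypothesis which the argument uses.) -/
theorem result (k : Type u) [Field k]
    (M G X : Over (Spec (CommRingCat.of k))) [MonObj M] [GrpObj G] [IsAffine M.left] [IsAffine G.left]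
    (i : G ⟶ M) [IsMonHom i] [IsOpenImmersion i.left] [IsSchemeTheoreticallyDominant i.left]
    (o : 𝟙_ (Over (Spec (CommRingCat.of k))) ⟶ M)
    (ho : ∀ (T : Over (Spec (CommRingCat.of k))) (m : T ⟶ M), m * (toUnit T ≫ o) = toUnit T ≫ o ∧ (toUnit T ≫ o) * m = toUnit T ≫ o)
    (hM : ∀ (T : Over (Spec (CommRingCat.of k))) (K : Type u) [Field K] (eT : T.left ≅ Spec (CommRingCat.of K))
      (W : (M ⊗ T).left.Opens),
      (CartesianMonoidalCategory.snd G (M ⊗ T)).left ⁻¹ᵁ W ≤
          ((((Magnet.MonAct.regular M).restrict i).prod (Magnet.MonAct.trivial G T)).act).left ⁻¹ᵁ W →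
      (CartesianMonoidalCategory.lift (toUnit T ≫ o) (𝟙 T)).left ⁻¹ᵁ W = ⊤ → W = ⊤)
    (aX : AlgGrp.Action G X)
    (hcov : ∀ (T : Over (Spec (CommRingCat.of k))) (x : (Magnet.MonAct.fixedPsh (Magnet.MonAct.ofAction aX)).obj (op T)),
      ⨆ (U : X.left.Opens) (_ : IsAffineOpen U ∧ (CartesianMonoidalCategory.snd G X).left ⁻¹ᵁ U ≤ aX.act.left ⁻¹ᵁ U),
        x.1.left ⁻¹ᵁ U = ⊤) :
    ∃ Z : Over (Spec (CommRingCat.of k)),
      Nonempty ((Magnet.MonAct.eqvHom ((Magnet.MonAct.regular M).restrict i) (Magnet.MonAct.ofAction aX)).RepresentableBy Z) := by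
  let a := MonAct.ofAction aX
  let ρ := (MonAct.regular M).restrict i
  let I : Type u := {U : X.left.Opens // IsAffineOpen U ∧ (CartesianMonoidalCategory.snd G X).left ⁻¹ᵁ U ≤ aX.act.left ⁻¹ᵁ U}
  let U : I → Over (Spec (CommRingCat.of k)) := fun p => Over.mk (p.1.ι ≫ X.hom)
  let j : ∀ p : I, U p ⟶ X := fun p => Over.homMk p.1.ι rfl
  haveI : ∀ p : I, IsOpenImmersion (j p).left := fun p => inferInstanceAs (IsOpenImmersion p.1.ι)
  have hr : ∀ p : I, (j p).left.opensRange = p.1 := fun p => Scheme.Opens.opensRange_ι p.1
  have hact : ∀ p : I, ∃ aU : MonAct G (U p), MonAct.IsEquivariant aU a (j p) := fun p =>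
    H28.EqvGlue.exists_act a (j p) (by rw [hr]; exact p.2.2)
  choose aU hj using hact
  refine H28.EqvGlue.exists_representableBy a o (fun T K _ eT W => hM T K eT W) U j aU hj (fun T φ t => ?_) (fun p => ?_)
  · let x := lift (toUnit T ≫ o) (𝟙 T) ≫ φ.1
    have hx : ∀ (T' : Over (Spec (CommRingCat.of k))) (u : T' ⟶ T) (g : T' ⟶ G),
        lift g (u ≫ x) ≫ a.act = u ≫ x := by
      intro T' u g
      have h := (MonAct.mem_eqvHom_iff φ.1).mp φ.2 T' g (toUnit T' ≫ o) u
      rw [MonAct.lift_restrict_act, MonAct.lift_regular_act, (ho T' (g ≫ i)).1] at h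
      simp only [x]
      rw [comp_lift_assoc, Category.comp_id, ← Category.assoc u, comp_toUnit]
      exact h.symm
    have ht : t ∈ (⊤ : T.left.Opens) := trivial
    rw [← hcov T ⟨x, hx⟩] at ht
    obtain ⟨V, hV⟩ := TopologicalSpace.Opens.mem_iSup.mp ht
    obtain ⟨hV', hVt⟩ := TopologicalSpace.Opens.mem_iSup.mp hV
    exact ⟨⟨V, hV'⟩, by rw [hr]; exact hVt⟩
  · haveI : IsAffine (U p).left := p.2.1
    obtain ⟨Z, -, e, -⟩ := H28.EqvUnits.exists_representableBy i (aU p)
    exact ⟨Z, ⟨e⟩⟩

end Groth.Agent.S18964
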