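import Groth.Statements.S18965
import Groth.Agent.HilbPoly.Stab

set_option autoImplicit false
open CategoryTheory CategoryTheory.Limits AlgebraicGeometry Polynomial
universe u
open ShStab

namespace Groth.Agent.S18965

/-- Let k be an algebraically closed field of characteristic zero, X a smooth projective integral
variety of dimension n ≥ 1 over k polarised by an ample invertible sheaf L, and F, G torsion-free
coherent O_X-modules (pure of dimension n) which are slope-semistable with respect to L. If μ_L(G) <
μ_L(F) then Hom(F, G) = 0. Slopes are compared through the quantity α_(n−1)/α_n of the Hilbert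
polynomials with respect to L, which on a fixed polarised X is an increasing affine function of the
slope det · L^(n−1)/rank. -/
theorem result (k : Type u) [Field k] [IsAlgClosed k] [CharZero k]
    (X : Scheme.{u}) [X.Over (Spec (CommRingCat.of k))] [IsIntegral X]
    [IsProper (X ↘ Spec (CommRingCat.of k))] [Smooth (X ↘ Spec (CommRingCat.of k))]
    (n : ℕ) (hn : 1 ≤ n) (hX : topologicalKrullDim X = (n : WithBot ℕ∞))
    (L : X.Modules) (hLi : PicF.IsInvertible L) (hL : CohB1.IsAmple L)
    (F G : X.Modules) (hFt : ShStab.IsPure X F n) (hGt : ShStab.IsPure X G n)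
    (hF : ShStab.IsMuSemistable k X L F n) (hG : ShStab.IsMuSemistable k X L G n)
    (pF pG : ℚ[X]) (hpF : ShStab.IsHilbPoly k X L F pF) (hpG : ShStab.IsHilbPoly k X L G pG)
    (hlt : StabCat.hatSlope n pG < StabCat.hatSlope n pF) (φ : F ⟶ G) : φ = 0 := by
  exact HilbPoly.mu_hom_eq_zero hn hL hFt hGt hF hG hpF hpG hlt φ

end Groth.Agent.S18965
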