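import Groth.Statements.S18968
import Groth.Agent.HilbPoly.MuReflexive

set_option autoImplicit false
open CategoryTheory CategoryTheory.Limits AlgebraicGeometry Polynomial
universe u
open ShStab

namespace Groth.Agent.S18968

/-- Let k be an algebraically closed field of characteristic zero, X a smooth projective integral
variety of dimension n ≥ 1 over k polarised by an ample invertible sheaf L, and F a locally free or,
more generally, reflexive coherent O_X-module which is slope-stable with respect to L. Then End(F)
consists of the homotheties: for every endomorphism φ of F there is c ∈ k with φ(s) = c·s for every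
local section s of F. Slope stability is tested through the quantity α_(n−1)/α_n of Hilbert
polynomials with respect to L. -/
theorem result (k : Type u) [Field k] [IsAlgClosed k] [CharZero k]
    (X : Scheme.{u}) [X.Over (Spec (CommRingCat.of k))] [IsIntegral X]
    [IsProper (X ↘ Spec (CommRingCat.of k))] [Smooth (X ↘ Spec (CommRingCat.of k))]
    (n : ℕ) (hn : 1 ≤ n) (hX : topologicalKrullDim X = (n : WithBot ℕ∞))
    (L : X.Modules) (hLi : PicF.IsInvertible L) (hL : CohB1.IsAmple L)
    (F : X.Modules) (hFr : RefHull.IsReflexive F) (hF : ShStab.IsMuStable k X L F n) (φ : F ⟶ F) :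
    ∃ c : k, ∀ (V : X.Opens) (s : F.val.obj (Opposite.op V)),
        (φ.val.app (Opposite.op V)) s =
          (X.ringCatSheaf.obj.map (homOfLE (le_top : V ≤ ⊤)).op
            (Coh.toGlobal (X ↘ Spec (CommRingCat.of k)) c : X.ringCatSheaf.obj.obj (Opposite.op ⊤))) • s := by
  obtain ⟨c, rfl⟩ := HilbPoly.mu_stable_scalar hn hX hL hFr hF φ
  exact ⟨c, fun V s => HilbPoly.smulG_app F _ V s⟩

end Groth.Agent.S18968
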