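import Groth.Statements.S18973
import Groth.Agent.HilbPoly.EllQuot
set_option autoImplicit false
open CategoryTheory CategoryTheory.Limits AlgebraicGeometry Polynomial
universe u
open ShStab

namespace Groth.Agent.S18973

/-- Let k be a field and X an integral scheme, smooth and proper over k, with a closed immersion ι into
projective N-space over k compatible with the structure maps, polarised by the ample O_X(1) =
ι^*O(1); let 1 ≤ ℓ ≤ d. Let E be a nonzero coherent O_X-module, pure of dimension d, with an
ℓ-Harder–Narasimhan filtration 0 = E_0 ⊂ E_1 ⊂ ⋯ ⊂ E_m = E (factors ℓ-semistable of dimension d,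
reduced ℓ-truncated Hilbert polynomials of consecutive factors strictly decreasing), and let F =
E/E_(m−1) be its last factor, the minimal ℓ-destabilising quotient of E. If E → G is another
quotient with G nonzero, coherent and pure of dimension d, such that the Hilbert polynomials of F
and G have the same multiplicity α_d and the same reduced ℓ-truncation p_ℓ, then G and F are
isomorphic as quotients of E: there is an isomorphism F ≅ G carrying the quotient map of F to that
of G. Here a sheaf is ℓ-semistable of dimension d when it is coherent, nonzero, pure of dimension d,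
and p_ℓ(F') ≤ p_ℓ for every coherent submodule F' of multiplicity strictly between 0 and its own,
p_ℓ denoting the reduced truncation of the Hilbert polynomial (with respect to O_X(1)) to the
degrees d − ℓ, …, d. -/
theorem result (k : Type u) [Field k]
    (X : Scheme.{u}) [X.Over (Spec (CommRingCat.of k))] [IsIntegral X]
    [Smooth (X ↘ Spec (CommRingCat.of k))] [IsProper (X ↘ Spec (CommRingCat.of k))]
    (N : ℕ) (ι : X ⟶ CohB1.ProjSpace N k) [IsClosedImmersion ι]
    (hι : ι ≫ CohB1.ProjSpace.toSpec N k = X ↘ Spec (CommRingCat.of k))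
    (hL : CohB1.IsAmple ((Scheme.Modules.pullback ι).obj (Twist.twistProjSpace N k 1)))
    (d ℓ : ℕ) (hℓ : 1 ≤ ℓ) (hℓd : ℓ ≤ d)
    (E : X.Modules) (hE : Coh.IsCoh E) (h0 : ¬ IsZero E) (hp : ShStab.IsPure X E d)
    (s : LTSeries (Subobject E))
    (hs : StabCat.IsHNWith (fun G => ShStab.IsEllSemistable k X ((Scheme.Modules.pullback ι).obj (Twist.twistProjSpace N k 1)) G d ℓ)
      (fun G P => ∃ Q : Polynomial ℚ, ShStab.IsHilbPoly k X ((Scheme.Modules.pullback ι).obj (Twist.twistProjSpace N k 1)) G Q ∧ P = StabCat.topPart ℓ d Q) d E s)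
    (G : X.Modules) (q : E ⟶ G) [Epi q] (hG : Coh.IsCoh G) (hG0 : ¬ IsZero G) (hGp : ShStab.IsPure X G d)
    (pF pG : ℚ[X]) (hpF : ShStab.IsHilbPoly k X ((Scheme.Modules.pullback ι).obj (Twist.twistProjSpace N k 1)) (cokernel s.eraseLast.last.arrow) pF)
    (hpG : ShStab.IsHilbPoly k X ((Scheme.Modules.pullback ι).obj (Twist.twistProjSpace N k 1)) G pG)
    (hα : StabCat.alpha d pF = StabCat.alpha d pG)
    (hred : StabCat.RedEq d (StabCat.topPart ℓ d pF) (StabCat.topPart ℓ d pG)) :
    ∃ φ : (cokernel s.eraseLast.last.arrow) ≅ G, cokernel.π s.eraseLast.last.arrow ≫ φ.hom = q := by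
    exact HilbPoly.ell_min_quotient hL hE hp s hs q hG hG0 hGp hpF hpG hα hred

end Groth.Agent.S18973
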