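import Mathlib
import Groth.Statements.S18974
-- import your own Groth.Agent.* helpers here

set_option autoImplicit false
universe u
open CAlg

noncomputable section

namespace Groth.Agent.S18974

section helpers

open Polynomial

variable {A : Type u} [CommRing A] [Algebra ℚ A] (D : Derivation ℚ A A)

/-- Iterates of the derivation. -/
abbrev it (n : ℕ) (x : A) : A := ((D : A →ₗ[ℚ] A) ^ n) x

lemma it_succ (n : ℕ) (x : A) : it D (n + 1) x = it D n (D x) := by
  simp [it, pow_succ, Module.End.mul_apply]

lemma it_succ' (n : ℕ) (x : A) : it D (n + 1) x = D (it D n x) := by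
  simp [it, pow_succ', Module.End.mul_apply]

lemma it_zero (x : A) : it D 0 x = x := by simp [it]

lemma it_le {n m : ℕ} (h : n ≤ m) {x : A} (hx : it D n x = 0) : it D m x = 0 := by
  induction h with
  | refl => exact hx
  | step _ ih => rw [it_succ', ih, map_zero]

variable (a : A)

/-- The coefficient of Y^n in the Taylor expansion. -/
def tc (n : ℕ) (x : A) : A ⧸ Ideal.span ({a} : Set A) :=
  (n.factorial : ℚ)⁻¹ • Ideal.Quotient.mk (Ideal.span ({a} : Set A)) (it D n x)

/-- The truncated Taylor expansion. -/
def tay (N : ℕ) (x : A) : Polynomial (A ⧸ Ideal.span ({a} : Set A)) :=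
  ∑ n ∈ Finset.range N,
    ((n.factorial : ℚ)⁻¹ • Polynomial.C (Ideal.Quotient.mk (Ideal.span ({a} : Set A)) (it D n x))) *
      Polynomial.X ^ n

lemma coeff_tay {N : ℕ} {x : A} (hx : it D N x = 0) (j : ℕ) : (tay D a N x).coeff j = tc D a j x := by
  simp only [tay, Polynomial.finset_sum_coeff, smul_mul_assoc, Polynomial.coeff_smul,
    Polynomial.coeff_C_mul_X_pow]
  by_cases hj : j < N
  · rw [Finset.sum_eq_single j]
    · simp [tc]
    · intro b _ hb
      simp [Ne.symm hb]
    · intro h
      exact absurd (Finset.mem_range.mpr hj) h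
  · rw [Finset.sum_eq_zero]
    · simp [tc, it_le D (not_lt.mp hj) hx]
    · intro b hb
      simp [show j ≠ b by have := Finset.mem_range.mp hb; omega]

lemma eq_of_derivative_eq {R : Type u} [CommRing R] [Algebra ℚ R] {P Q : Polynomial R}
    (h : derivative P = derivative Q) (h0 : P.coeff 0 = Q.coeff 0) : P = Q := by
  ext j
  cases j with
  | zero => exact h0
  | succ j =>
      have h1 := congrArg (fun T => Polynomial.coeff T j) h
      simp only [Polynomial.coeff_derivative] at h1
      have hu : IsUnit ((j : R) + 1) := by
        have : IsUnit ((j : ℚ) + 1) := IsUnit.mk0 _ (by positivity)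
        simpa using this.map (algebraMap ℚ R)
      exact hu.mul_right_cancel h1

lemma tc_succ (j : ℕ) (x : A) : tc D a (j + 1) x * ((j : A ⧸ Ideal.span ({a} : Set A)) + 1) =
    tc D a j (D x) := by
  simp only [tc, ← it_succ]
  rw [show ((j : A ⧸ Ideal.span ({a} : Set A)) + 1) =
      algebraMap ℚ (A ⧸ Ideal.span ({a} : Set A)) ((j : ℚ) + 1) by simp,
    ← Algebra.commutes, ← Algebra.smul_def, smul_smul]
  congr 1
  rw [Nat.factorial_succ, Nat.cast_mul, mul_inv]
  push_cast
  field_simp

variable (hnil : ∀ x : A, ∃ n : ℕ, ((D : A →ₗ[ℚ] A) ^ n) x = 0)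

/-- The Taylor expansion as a function. -/
def chi (x : A) : Polynomial (A ⧸ Ideal.span ({a} : Set A)) :=
  tay D a (hnil x).choose x

lemma coeff_chi (x : A) (j : ℕ) : (chi D a hnil x).coeff j = tc D a j x :=
  coeff_tay D a (hnil x).choose_spec j

lemma chi_eq_tay {N : ℕ} {x : A} (hx : it D N x = 0) : chi D a hnil x = tay D a N x :=
  Polynomial.ext fun j => (coeff_chi D a hnil x j).trans (coeff_tay D a hx j).symm

lemma derivative_chi (x : A) : derivative (chi D a hnil x) = chi D a hnil (D x) :=
  Polynomial.ext fun j => by rw [Polynomial.coeff_derivative, coeff_chi, coeff_chi, tc_succ]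

lemma chi_coeff_zero (x : A) :
    (chi D a hnil x).coeff 0 = Ideal.Quotient.mk (Ideal.span ({a} : Set A)) x := by
  simp [coeff_chi, tc, it_zero]

lemma chi_add (x y : A) : chi D a hnil (x + y) = chi D a hnil x + chi D a hnil y :=
  Polynomial.ext fun j => by simp [coeff_chi, tc, it, map_add, smul_add]

lemma chi_zero : chi D a hnil 0 = 0 :=
  Polynomial.ext fun j => by simp [coeff_chi, tc, it]

lemma chi_one : chi D a hnil 1 = 1 := by
  refine eq_of_derivative_eq ?_ ?_
  · rw [derivative_chi, D.map_one_eq_zero, chi_zero, derivative_one]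
  · simp [chi_coeff_zero]

include hnil in
lemma chi_mul_aux : ∀ (N M : ℕ) (x y : A), it D N x = 0 → it D M y = 0 →
    chi D a hnil (x * y) = chi D a hnil x * chi D a hnil y := by
  intro N
  induction N with
  | zero =>
      intro M x y hx hy
      rw [it_zero] at hx
      simp [hx, chi_zero]
  | succ N ih =>
      intro M
      induction M with
      | zero =>
          intro x y hx hy
          rw [it_zero] at hy
          simp [hy, chi_zero]
      | succ M ihM =>
          intro x y hx hy
          refine eq_of_derivative_eq ?_ ?_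
          · have h1 := ih (M + 1) (D x) y (by rw [← it_succ]; exact hx) hy
            have h2 := ihM x (D y) hx (by rw [← it_succ]; exact hy)
            rw [derivative_chi, derivative_mul, derivative_chi, derivative_chi, ← h1, ← h2,
              D.leibniz, chi_add, smul_eq_mul, smul_eq_mul, mul_comm y (D x), add_comm]
          · rw [Polynomial.mul_coeff_zero, chi_coeff_zero, chi_coeff_zero, chi_coeff_zero, map_mul]

/-- The Taylor expansion as a ring homomorphism. -/
def chiHom : A →+* Polynomial (A ⧸ Ideal.span ({a} : Set A)) where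
  toFun := chi D a hnil
  map_one' := chi_one D a hnil
  map_mul' x y := by
    obtain ⟨N, hN⟩ := hnil x
    obtain ⟨M, hM⟩ := hnil y
    exact chi_mul_aux D a hnil N M x y hN hM
  map_zero' := chi_zero D a hnil
  map_add' := chi_add D a hnil

variable (ha : D a = 1)

include ha in
lemma chi_a : chi D a hnil a = X := by
  refine eq_of_derivative_eq ?_ ?_
  · rw [derivative_chi, ha, chi_one, derivative_X]
  · rw [chi_coeff_zero, coeff_X_zero, Ideal.Quotient.eq_zero_iff_mem]
    exact Ideal.mem_span_singleton_self a

include ha hnil in
lemma chi_injective : ∀ (N : ℕ) (x : A), it D N x = 0 → chi D a hnil x = 0 → x = 0 := by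
  intro N
  induction N with
  | zero =>
      intro x hx _
      rwa [it_zero] at hx
  | succ N ih =>
      intro x hx hchi
      have hD : D x = 0 := ih (D x) (by rw [← it_succ]; exact hx)
        (by rw [← derivative_chi, hchi, derivative_zero])
      have h0 := chi_coeff_zero D a hnil x
      rw [hchi, coeff_zero, eq_comm, Ideal.Quotient.eq_zero_iff_mem, Ideal.mem_span_singleton] at h0
      obtain ⟨z, rfl⟩ := h0
      have hk : ∀ k : ℕ, ((k : A) + 1) * it D k z = -(a * it D (k + 1) z) := by
        intro k
        induction k with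
        | zero =>
            rw [D.leibniz, ha, smul_eq_mul, smul_eq_mul, mul_one] at hD
            simp only [it_succ', it_zero, Nat.cast_zero, zero_add, one_mul]
            linear_combination hD
        | succ k ihk =>
            have h1 := congrArg D ihk
            simp only [D.leibniz, map_neg, map_add, Derivation.map_natCast, D.map_one_eq_zero, ha,
              smul_eq_mul, add_zero, mul_zero, mul_one, ← it_succ'] at h1
            push_cast
            linear_combination h1
      obtain ⟨K, hK⟩ := hnil z
      have hz : ∀ i : ℕ, it D (K - i) z = 0 := by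
        intro i
        induction i with
        | zero => exact hK
        | succ i ihi =>
            rcases Nat.eq_zero_or_pos (K - i) with hKi | hKi
            · rw [show K - (i + 1) = K - i by omega]
              exact ihi
            · have hu : IsUnit (((K - (i + 1) : ℕ) : A) + 1) := by
                have : IsUnit (((K - (i + 1) : ℕ) : ℚ) + 1) := IsUnit.mk0 _ (by positivity)
                have := this.map (algebraMap ℚ A)
                rwa [map_add, map_natCast, map_one] at this
              have h2 := hk (K - (i + 1))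
              rw [show K - (i + 1) + 1 = K - i by omega, ihi, mul_zero, neg_zero] at h2
              exact (IsUnit.mul_right_eq_zero hu).mp h2
      have := hz K
      rw [Nat.sub_self, it_zero] at this
      rw [this, mul_zero]

/-- The invariant lift. -/
def proj (N : ℕ) (x : A) : A :=
  ∑ n ∈ Finset.range N, (((-1 : ℚ) ^ n * (n.factorial : ℚ)⁻¹) • (it D n x * a ^ n))

include ha in
lemma D_proj (N : ℕ) (x : A) : D (proj D a (N + 1) x) =
    ((-1 : ℚ) ^ N * (N.factorial : ℚ)⁻¹) • (it D (N + 1) x * a ^ N) := by
  induction N with
  | zero => simp [proj, it_succ', it_zero]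
  | succ N ih =>
      have : proj D a (N + 1 + 1) x = proj D a (N + 1) x +
          ((-1 : ℚ) ^ (N + 1) * ((N + 1).factorial : ℚ)⁻¹) • (it D (N + 1) x * a ^ (N + 1)) :=
        Finset.sum_range_succ _ _
      rw [this, map_add, ih, Derivation.map_smul, D.leibniz, D.leibniz_pow, ha, ← it_succ']
      simp only [smul_eq_mul, nsmul_eq_mul, mul_one, add_tsub_cancel_right, smul_add]
      rw [show it D (N + 1) x * ((((N + 1 : ℕ) : A)) * a ^ N) =
          ((N + 1 : ℕ) : ℚ) • (it D (N + 1) x * a ^ N) by
        rw [Algebra.smul_def, map_natCast]; ring, smul_smul]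
      have hc : (-1 : ℚ) ^ N * (N.factorial : ℚ)⁻¹ +
          (-1 : ℚ) ^ (N + 1) * ((N + 1).factorial : ℚ)⁻¹ * ((N + 1 : ℕ) : ℚ) = 0 := by
        rw [Nat.factorial_succ, Nat.cast_mul, mul_inv, pow_succ]
        push_cast
        field_simp
        ring
      rw [← add_assoc, ← add_smul, hc, zero_smul, zero_add, mul_comm (a ^ (N + 1))]

include ha in
lemma chi_proj {N : ℕ} {x : A} (hx : it D N x = 0) : chi D a hnil (proj D a N x) =
    C (Ideal.Quotient.mk (Ideal.span ({a} : Set A)) x) := by
  cases N with
  | zero =>
      rw [it_zero] at hx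
      simp [proj, hx, chi_zero]
  | succ N =>
      refine eq_of_derivative_eq ?_ ?_
      · rw [derivative_chi, D_proj D a ha, hx, zero_mul, smul_zero, chi_zero, derivative_C]
      · rw [chi_coeff_zero, coeff_C_zero, proj, Finset.sum_range_succ', Ideal.Quotient.eq]
        simp only [pow_zero, Nat.factorial_zero, Nat.cast_one, inv_one, mul_one, one_smul, it_zero,
          add_sub_cancel_right]
        refine Ideal.sum_mem _ fun n _ => ?_
        rw [Algebra.smul_def]
        exact Ideal.mul_mem_left _ _ (Ideal.mul_mem_left _ _
          (Ideal.pow_mem_of_mem _ (Ideal.mem_span_singleton_self a) _ (Nat.succ_pos n)))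

end helpers

/-- Let A be a commutative algebra over the rationals, D a locally nilpotent derivation of A and a an
element with D a = 1; write A' for the quotient of A by the ideal generated by a. Then there is a
ring isomorphism from A onto the polynomial ring A'[Y] which sends every x to the (finite) sum over
n of (1/n!) (class of D^n x) Y^n; its inverse sends Y to a and the constant polynomial on the class
of x to the sum over n of ((-1)^n/n!) (D^n x) a^n, and under it D corresponds to the derivative
d/dY. (The source says only that A is a ring, in a setting over a field of characteristic zero; the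
rational coefficients 1/n! require an algebra over the rationals, which is the hypothesis taken
here. Both sums are written over any range beyond which the iterates of D vanish at x.) -/
theorem result
    (A : Type u) [CommRing A] [Algebra ℚ A] (D : Derivation ℚ A A)
    (hnil : ∀ x : A, ∃ n : ℕ, ((D : A →ₗ[ℚ] A) ^ n) x = 0) (a : A) (ha : D a = 1) :
    ∃ χ : A ≃+* Polynomial (A ⧸ Ideal.span ({a} : Set A)),
      (∀ (x : A) (N : ℕ), ((D : A →ₗ[ℚ] A) ^ N) x = 0 →
        χ x = ∑ n ∈ Finset.range N,
          ((n.factorial : ℚ)⁻¹ • Polynomial.C (Ideal.Quotient.mk (Ideal.span ({a} : Set A)) (((D : A →ₗ[ℚ] A) ^ n) x))) *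
            Polynomial.X ^ n) ∧
      χ.symm Polynomial.X = a ∧
      (∀ (x : A) (N : ℕ), ((D : A →ₗ[ℚ] A) ^ N) x = 0 →
        χ.symm (Polynomial.C (Ideal.Quotient.mk (Ideal.span ({a} : Set A)) x)) =
          ∑ n ∈ Finset.range N, (((-1 : ℚ) ^ n * (n.factorial : ℚ)⁻¹) • ((((D : A →ₗ[ℚ] A) ^ n) x) * a ^ n))) ∧
      ∀ p : Polynomial (A ⧸ Ideal.span ({a} : Set A)), χ (D (χ.symm p)) = Polynomial.derivative p := by
  have hinj : Function.Injective (chiHom D a hnil) := by
    rw [injective_iff_map_eq_zero]
    intro x hx
    obtain ⟨N, hN⟩ := hnil x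
    exact chi_injective D a hnil ha N x hN hx
  have hsurj : Function.Surjective (chiHom D a hnil) := by
    intro q
    induction q using Polynomial.induction_on' with
    | add q r hq hr =>
        obtain ⟨x, rfl⟩ := hq
        obtain ⟨y, rfl⟩ := hr
        exact ⟨x + y, map_add _ _ _⟩
    | monomial j c =>
        obtain ⟨x, rfl⟩ := Ideal.Quotient.mk_surjective c
        obtain ⟨N, hN⟩ := hnil x
        refine ⟨proj D a N x * a ^ j, ?_⟩
        rw [map_mul, map_pow]
        change chi D a hnil (proj D a N x) * chi D a hnil a ^ j = _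
        rw [chi_proj D a hnil ha hN, chi_a D a hnil ha, Polynomial.C_mul_X_pow_eq_monomial]
  refine ⟨RingEquiv.ofBijective (chiHom D a hnil) ⟨hinj, hsurj⟩, fun x N hN => ?_, ?_,
    fun x N hN => ?_, fun q => ?_⟩
  · exact chi_eq_tay D a hnil hN
  · rw [RingEquiv.symm_apply_eq]
    exact (chi_a D a hnil ha).symm
  · rw [RingEquiv.symm_apply_eq]
    exact (chi_proj D a hnil ha hN).symm
  · have h1 := (RingEquiv.ofBijective (chiHom D a hnil) ⟨hinj, hsurj⟩).apply_symm_apply q
    exact (derivative_chi D a hnil _).symm.trans (congrArg Polynomial.derivative h1)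

end Groth.Agent.S18974
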