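import Groth.Statements.S18975
import Groth.Agent.EtFound.Descent
import Groth.Agent.GITQuot.BaseChange
import Groth.Agent.GITQuot.Func
import Groth.Agent.S18510
-- import your own Groth.Agent.* helpers here

set_option autoImplicit false
universe u
open CategoryTheory MonoidalCategory CartesianMonoidalCategory MonObj AlgebraicGeometry
open GIT

namespace Groth.Agent.S18975

set_option backward.isDefEq.respectTransparency.types false

/-- Over an algebraically closed field k of characteristic zero, let G be an affine group scheme of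
finite type over k acting on a k-scheme X, and let φ : X → Y be a morphism of k-schemes which is a
G-torsor over Y: the square formed by the action G ×_k X → X, the second projection and φ (twice) is
cartesian, and φ acquires sections on the members of some fpqc covering family of Y. Then φ is
affine and (Y, φ) is a geometric quotient: φ is invariant and surjective, G ×_k X → X ×_Y X is
surjective, φ is universally submersive, and over every open of Y the functions on Y are exactly the
invariant functions on its preimage. (The source defines a torsor by the existence of one fpqc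
morphism to Y trivialising it and defines geometric quotients with φ affine and submersive;
universal submersiveness follows because every base change of a torsor is a torsor.) -/
theorem result
    (k : Type u) [Field k] [IsAlgClosed k] [CharZero k]
    (G X Y : Over (Spec (CommRingCat.of k))) [GrpObj G] [IsAffine G.left] [LocallyOfFiniteType G.hom]
    (a : AlgGrp.Action G X) (φ : X ⟶ Y)
    (hcart : IsPullback a.act (snd G X) φ φ)
    (hloc : NonAbH1.IsLocallyTrivialFor Scheme.fpqcPrecoverage (Over.mk φ.left : Over Y.left)) :
    IsAffineHom φ.left ∧ GIT.IsGeomQuot a φ := by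
  classical
  have hi : GIT.IsInvariant a φ := hcart.w
  obtain ⟨R, hR, hsec⟩ := hloc
  obtain ⟨𝒰, h𝒰, rfl⟩ := (Scheme.mem_propQCPrecoverage_iff_exists_quasiCompactCover (P := @Flat)).mp hR
  have hcartL : IsPullback a.act.left (snd G X).left φ.left φ.left := GITQuot.isPullback_left hcart
  haveI : IsIso (GIT.PsiY a φ hi) := by
    have : GIT.PsiY a φ hi = hcartL.isoPullback.hom := by
      apply Limits.pullback.hom_ext
      · rw [IsPullback.isoPullback_hom_fst]; exact Limits.pullback.lift_fst _ _ _
      · rw [IsPullback.isoPullback_hom_snd]; exact Limits.pullback.lift_snd _ _ _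
    rw [this]; infer_instance
  haveI : Surjective G.hom := by
    have h : (MonObj.one (X := G)).left ≫ G.hom = 𝟙 _ := Over.w (MonObj.one (X := G))
    haveI : Surjective ((MonObj.one (X := G)).left ≫ G.hom) := by rw [h]; infer_instance
    exact Surjective.of_comp (MonObj.one (X := G)).left G.hom
  haveI : IsAffineHom G.hom := isAffineHom_of_isAffine G.hom
  have key : ∀ V : Y.left.affineOpens,
      IsAffineHom (φ.left ∣_ V.1) ∧ Flat (φ.left ∣_ V.1) ∧ Surjective (φ.left ∣_ V.1) := by
    intro V
    obtain ⟨n, i, W, hW, hcov⟩ := QuasiCompactCover.exists_isAffineOpen_of_isCompact 𝒰.1 V.2.isCompact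
    choose sj hsj using fun j => hsec (𝒰.f (i j)) ⟨i j⟩
    let T : Scheme.{u} := ∐ fun j : Fin n => ((W j).toScheme)
    haveI : ∀ j, IsAffine (W j).toScheme := fun j => hW j
    let c₀ : T ⟶ Y.left := Limits.Sigma.desc fun j => (W j).ι ≫ 𝒰.f (i j)
    let s₀ : T ⟶ X.left := Limits.Sigma.desc fun j => (W j).ι ≫ sj j
    have hs₀ : s₀ ≫ φ.left = c₀ := by
      refine Limits.Sigma.hom_ext _ _ fun j => ?_
      simp only [s₀, c₀, Limits.Sigma.ι_desc, Limits.Sigma.ι_desc_assoc, Category.assoc]
      rw [← hsj j]; rfl
    haveI : Flat c₀ := by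
      refine IsZariskiLocalAtSource.sigmaDesc (P := (@Flat : MorphismProperty Scheme.{u})) fun j => ?_
      haveI : Flat (𝒰.f (i j)) := 𝒰.map_prop (i j)
      infer_instance
    have hrange : Set.range c₀.base = (V.1 : Set Y.left) := by
      rw [← hcov]
      ext y
      constructor
      · rintro ⟨t, rfl⟩
        obtain ⟨j, w, rfl⟩ := (sigmaOpenCover (fun j : Fin n => ((W j).toScheme))).exists_eq t
        refine Set.mem_iUnion.2 ⟨j, (W j).ι.base w, w.2, ?_⟩
        exact (congrArg (fun g : (W j).toScheme ⟶ Y.left => g.base w)
          (Limits.Sigma.ι_desc (fun j => (W j).ι ≫ 𝒰.f (i j)) j)).symm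
      · intro hy
        obtain ⟨j, w, hw, rfl⟩ := Set.mem_iUnion.1 hy
        refine ⟨(Limits.Sigma.ι (fun j : Fin n => ((W j).toScheme)) j).base ⟨w, hw⟩, ?_⟩
        exact congrArg (fun g : (W j).toScheme ⟶ Y.left => g.base ⟨w, hw⟩)
          (Limits.Sigma.ι_desc (fun j => (W j).ι ≫ 𝒰.f (i j)) j)
    have hsub : Set.range c₀.base ⊆ Set.range V.1.ι.base := by rw [hrange, Scheme.Opens.range_ι]
    let c : T ⟶ V.1.toScheme := IsOpenImmersion.lift V.1.ι c₀ hsub
    have hc : c ≫ V.1.ι = c₀ := IsOpenImmersion.lift_fac _ _ _
    haveI : Flat (c ≫ V.1.ι) := by rw [hc]; infer_instance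
    haveI : Flat c := MorphismProperty.of_postcomp (W := (@Flat : MorphismProperty Scheme.{u})) (W' := MorphismProperty.monomorphisms Scheme.{u})
      c V.1.ι (inferInstanceAs (Mono V.1.ι)) inferInstance
    haveI : Surjective c := ⟨fun v => by
      obtain ⟨t, ht⟩ : (V.1.ι.base v) ∈ Set.range c₀.base := by rw [hrange]; exact v.2
      refine ⟨t, V.1.ι.isOpenEmbedding.injective ?_⟩
      rw [← ht, ← hc]; rfl⟩
    haveI : IsAffine V.1.toScheme := V.2
    haveI : IsAffineHom c := isAffineHom_of_isAffine c
    let T' : Over (Spec (CommRingCat.of k)) := Over.mk (s₀ ≫ X.hom)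
    let s' : T' ⟶ X := Over.homMk s₀
    have h0 : IsPullback ((G ◁ s').left ≫ a.act.left) (snd G T').left φ.left c₀ := by
      rw [← hs₀]
      exact (GITQuot.isPullback_left (GITQuot.isPullback_tensorLeft s')).paste_horiz hcartL
    have hres : IsPullback (φ.left ⁻¹ᵁ V.1).ι (φ.left ∣_ V.1) φ.left V.1.ι := (isPullback_morphismRestrict _ _).flip
    let l : (G ⊗ T').left ⟶ (φ.left ⁻¹ᵁ V.1).toScheme := hres.lift ((G ◁ s').left ≫ a.act.left)
      ((snd G T').left ≫ c) (by rw [h0.w, Category.assoc, hc])
    have h1 : IsPullback l (snd G T').left (φ.left ∣_ V.1) c := by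
      refine IsPullback.of_right ?_ (hres.lift_snd _ _ _) hres
      rw [hres.lift_fst, hc]
      exact h0
    haveI : IsAffineHom (snd G T').left := MorphismProperty.pullback_snd (P := (@IsAffineHom : MorphismProperty Scheme.{u})) G.hom T'.hom inferInstance
    haveI : Flat G.hom := inferInstance
    haveI : Flat (snd G T').left := inferInstanceAs (Flat (Limits.pullback.snd G.hom T'.hom))
    haveI : Surjective (snd G T').left := inferInstanceAs (Surjective (Limits.pullback.snd G.hom T'.hom))
    haveI := EtFound.fpqc_isAffineHom.{u}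
    refine ⟨MorphismProperty.of_isPullback_of_descendsAlong (P := @IsAffineHom)
      (Q := @Surjective ⊓ @Flat ⊓ @QuasiCompact) h1.flip ⟨⟨inferInstance, inferInstance⟩, inferInstance⟩
      inferInstance, ?_, ?_⟩
    · haveI : Flat l := MorphismProperty.of_isPullback h1.flip (by infer_instance : Flat c)
      haveI : Surjective l := MorphismProperty.of_isPullback h1.flip (by infer_instance : Surjective c)
      haveI : Flat (l ≫ φ.left ∣_ V.1) := by rw [h1.w]; infer_instance
      exact Groth.Agent.S18510.flat_of_comp l (φ.left ∣_ V.1)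
    · haveI : Surjective (l ≫ φ.left ∣_ V.1) := by rw [h1.w]; infer_instance
      exact Surjective.of_comp l _
  have hsup := iSup_affineOpens_eq_top Y.left
  haveI hA : IsAffineHom φ.left := IsZariskiLocalAtTarget.of_iSup_eq_top (P := (@IsAffineHom : MorphismProperty Scheme.{u})) _ hsup fun V => (key V).1
  haveI hF : Flat φ.left := IsZariskiLocalAtTarget.of_iSup_eq_top (P := (@Flat : MorphismProperty Scheme.{u})) _ hsup fun V => (key V).2.1
  haveI hS : Surjective φ.left := IsZariskiLocalAtTarget.of_iSup_eq_top (P := (@Surjective : MorphismProperty Scheme.{u})) _ hsup fun V => (key V).2.2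
  exact ⟨hA, GITQuot.isGeomQuot_of_flat hi⟩

end Groth.Agent.S18975
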