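import Groth.Statements.S18977
import Groth.Agent.GrpSchLib.Action
-- import your own Groth.Agent.* helpers here

set_option autoImplicit false
universe u
open CategoryTheory MonoidalCategory CartesianMonoidalCategory MonObj AlgebraicGeometry
open GIT

namespace Groth.Agent.S18977

/-- Composition of torsors. Over an algebraically closed field k of characteristic zero, let G be an
affine group scheme of finite type over k, N a closed normal subgroup scheme which is the kernel of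
a homomorphism q : G → Q, and H a closed subgroup scheme of G which q maps isomorphically onto Q (so
G is the inner semidirect product N H). Let G act on a k-scheme X and let φ₁ : X → Y be a torsor
over Y under the restricted action of N (the square formed by the N-action, the second projection
and φ₁ twice is cartesian, and φ₁ acquires sections on the members of some fpqc covering family of
Y); let Q act on Y so that φ₁ is equivariant along q, and let φ₂ : Y → Z be a Q-torsor over Z in the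
same sense. Then φ₂ ∘ φ₁ is a G-torsor over Z: the square formed by the G-action, the second
projection and φ₂ ∘ φ₁ twice is cartesian, and φ₂ ∘ φ₁ acquires sections fpqc-locally on Z. (The
induced action of the factor group on Y is taken as a datum together with the equivariance of φ₁;
the source's second assertion, that the composite of trivial torsors is trivial, amounts to
composing sections and is not restated.) -/
theorem result
    (k : Type u) [Field k] [IsAlgClosed k] [CharZero k]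
    (G N Q H X Y Z : Over (Spec (CommRingCat.of k))) [GrpObj G] [GrpObj N] [GrpObj Q] [GrpObj H]
    [IsAffine G.left] [LocallyOfFiniteType G.hom]
    (iN : N ⟶ G) [IsMonHom iN] [IsClosedImmersion iN.left] (hnorm : AlgGrp.IsNormalHom iN)
    (q : G ⟶ Q) [IsMonHom q] (hker : AlgGrp.IsKernel iN q)
    (iH : H ⟶ G) [IsMonHom iH] [IsClosedImmersion iH.left] [IsIso (iH ≫ q)]
    (a : AlgGrp.Action G X) (φ₁ : X ⟶ Y)
    (h₁ : IsPullback (a.restrict iN).act (snd N X) φ₁ φ₁)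
    (h₁loc : NonAbH1.IsLocallyTrivialFor Scheme.fpqcPrecoverage (Over.mk φ₁.left : Over Y.left))
    (aY : AlgGrp.Action Q Y) (hequiv : (q ⊗ₘ φ₁) ≫ aY.act = a.act ≫ φ₁)
    (φ₂ : Y ⟶ Z) (h₂ : IsPullback aY.act (snd Q Y) φ₂ φ₂)
    (h₂loc : NonAbH1.IsLocallyTrivialFor Scheme.fpqcPrecoverage (Over.mk φ₂.left : Over Z.left)) :
    IsPullback a.act (snd G X) (φ₁ ≫ φ₂) (φ₁ ≫ φ₂) ∧
      NonAbH1.IsLocallyTrivialFor Scheme.fpqcPrecoverage (Over.mk (φ₁ ≫ φ₂).left : Over Z.left) := by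
  let s : Q ⟶ G := inv (iH ≫ q) ≫ iH
  have hs : s ≫ q = 𝟙 Q := by simp only [s, Category.assoc, IsIso.inv_hom_id]
  have hact : ∀ (T : Over (Spec (CommRingCat.of k))) (g : T ⟶ G) (x : T ⟶ X),
      lift (g ≫ q) (x ≫ φ₁) ≫ aY.act = (lift g x ≫ a.act) ≫ φ₁ := by
    intro T g x
    rw [Category.assoc, ← hequiv, lift_map_assoc]
  have hR : ∀ (T : Over (Spec (CommRingCat.of k))) (n : T ⟶ N) (x : T ⟶ X),
      lift n x ≫ (a.restrict iN).act = lift (n ≫ iN) x ≫ a.act := fun T n x => by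
    simp [AlgGrp.Action.restrict]
  have hNq : ∀ (T : Over (Spec (CommRingCat.of k))) (n : T ⟶ N), (n ≫ iN) ≫ q = 1 := by
    intro T n
    rw [Category.assoc, hker.w, ← Category.assoc, comp_toUnit, Hom.one_def]
  have hinv : a.act ≫ φ₁ ≫ φ₂ = snd G X ≫ φ₁ ≫ φ₂ := by
    rw [← Category.assoc, ← hequiv, Category.assoc, h₂.w, ← Category.assoc, tensorHom_snd, Category.assoc]
  suffices key : ∀ (T : Over (Spec (CommRingCat.of k))) (x₁ x₂ : T ⟶ X),
      x₁ ≫ φ₁ ≫ φ₂ = x₂ ≫ φ₁ ≫ φ₂ → ∃! u : T ⟶ G ⊗ X, u ≫ a.act = x₁ ∧ u ≫ snd G X = x₂ by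
    refine ⟨⟨⟨hinv⟩, ⟨Limits.PullbackCone.IsLimit.mk hinv
      (fun c => (key c.pt c.fst c.snd c.condition).choose)
      (fun c => (key c.pt c.fst c.snd c.condition).choose_spec.1.1)
      (fun c => (key c.pt c.fst c.snd c.condition).choose_spec.1.2)
      (fun c m hm₁ hm₂ => (key c.pt c.fst c.snd c.condition).choose_spec.2 m ⟨hm₁, hm₂⟩)⟩⟩, ?_⟩
    obtain ⟨R₂, hR₂, hs₂⟩ := h₂loc
    obtain ⟨R₁, hR₁, hs₁⟩ := h₁loc
    obtain ⟨I, U, f, rfl⟩ := R₂.exists_eq_ofArrows
    obtain ⟨J, V, g, rfl⟩ := R₁.exists_eq_ofArrows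
    choose t ht using fun i => hs₂ (f i) ⟨i⟩
    refine ⟨_, Precoverage.comp_mem_coverings f hR₂ (fun i j => Limits.pullback.fst (t i) (g j)) (fun i =>
      Precoverage.mem_coverings_of_isPullback g hR₁ (t i) _ (fun j => Limits.pullback.snd (t i) (g j))
        fun j => IsPullback.of_hasPullback _ _), ?_⟩
    rintro _ _ ⟨i, j⟩
    obtain ⟨r, hr⟩ := hs₁ (g j) ⟨j⟩
    refine ⟨Limits.pullback.snd (t i) (g j) ≫ r, ?_⟩
    show (Limits.pullback.snd (t i) (g j) ≫ r) ≫ φ₁.left ≫ φ₂.left = Limits.pullback.fst (t i) (g j) ≫ f i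
    rw [Category.assoc, ← Category.assoc r, show r ≫ φ₁.left = g j from hr, ← Category.assoc,
      ← Limits.pullback.condition, Category.assoc, show t i ≫ φ₂.left = f i from ht i]
  intro T x₁ x₂ e₁
  have e : (x₁ ≫ φ₁) ≫ φ₂ = (x₂ ≫ φ₁) ≫ φ₂ := by simpa using e₁
  obtain ⟨p, hp₁, hp₂⟩ := h₂.exists_lift (x₁ ≫ φ₁) (x₂ ≫ φ₁) e
  obtain ⟨h, y, rfl⟩ : ∃ h y, p = lift h y := ⟨_, _, (lift_comp_fst_snd p).symm⟩
  rw [lift_snd] at hp₂
  rw [hp₂] at hp₁
  have e₀ : (lift (h ≫ s) x₂ ≫ a.act) ≫ φ₁ = x₁ ≫ φ₁ := by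
    rw [← hact, Category.assoc, hs, Category.comp_id, hp₁]
  obtain ⟨p', hp'₁, hp'₂⟩ := h₁.exists_lift x₁ (lift (h ≫ s) x₂ ≫ a.act) e₀.symm
  obtain ⟨n, y', rfl⟩ : ∃ n y', p' = lift n y' := ⟨_, _, (lift_comp_fst_snd p').symm⟩
  rw [lift_snd] at hp'₂
  rw [hp'₂, hR, GrpSchLib.act_mul] at hp'₁
  refine ⟨lift ((n ≫ iN) * (h ≫ s)) x₂, ⟨hp'₁, lift_snd _ _⟩, ?_⟩
  rintro u ⟨hu₁, hu₂⟩
  obtain ⟨g, z, rfl⟩ : ∃ g z, u = lift g z := ⟨_, _, (lift_comp_fst_snd u).symm⟩
  change lift g z ≫ a.act = x₁ at hu₁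
  change lift g z ≫ snd G X = x₂ at hu₂
  rw [lift_snd] at hu₂
  subst hu₂
  have hgq : lift (g ≫ q) (z ≫ φ₁) = lift h (z ≫ φ₁) := h₂.hom_ext
    (by rw [hact, hu₁, hp₁]) (by rw [lift_snd, lift_snd])
  have hgh : g ≫ q = h := by simpa using congrArg (· ≫ fst _ _) hgq
  have hd : (g * (h ≫ s)⁻¹) ≫ q = toUnit _ ≫ η[Q] := by
    rw [MonObj.mul_comp, GrpObj.inv_comp, Category.assoc, hs, Category.comp_id, hgh, mul_inv_cancel, Hom.one_def]
  obtain ⟨m, hm, -⟩ := hker.exists_lift (g * (h ≫ s)⁻¹) (toUnit _) hd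
  have hmn : lift m (lift (h ≫ s) z ≫ a.act) = lift n (lift (h ≫ s) z ≫ a.act) := h₁.hom_ext
    (by rw [hR, hR, GrpSchLib.act_mul, GrpSchLib.act_mul, hm, inv_mul_cancel_right, hu₁, hp'₁])
    (by rw [lift_snd, lift_snd])
  have hmn' : m = n := by simpa using congrArg (· ≫ fst _ _) hmn
  rw [← hmn', hm, inv_mul_cancel_right]

end Groth.Agent.S18977
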