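import Groth.Statements.S1898
import Groth.Agent.H23.SheafPush
-- import your own Groth.Agent.* helpers here

set_option autoImplicit false
universe u
open CategoryTheory AlgebraicGeometry
open Cyc
open Groth.Agent Groth.Agent.H23

namespace Groth.Agent.S1898

/-- Let f : X → Y be proper and F a coherent O_X-module whose support has δ-dimension ≤ k. Then f_*[F]_k
= [f_*F]_k: for any cycle α on X with the coefficients of [F]_k, the pushforward f_*α has the
coefficients of [f_*F]_k. A pair (X, δ) with Cyc.IsSetup plays the role of a scheme locally of
finite type over a fixed base with a dimension function (X locally Noetherian with universally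
catenary local rings, δ a dimension function), and Cyc.DeltaCompat records that the dimension
function upstairs is the induced one. -/
theorem result (X Y : Scheme.{u}) (δX : X → ℤ) (δY : Y → ℤ) (hX : Cyc.IsSetup X δX) (hY : Cyc.IsSetup Y δY) (f : X ⟶ Y) [IsProper f] (hδ : Cyc.DeltaCompat f δX δY) (k : ℤ) (F : X.Modules) (hF : Coh.IsCoh F) (hdim : ∀ x : X, Nontrivial (F.presheaf.stalk x) → δX x ≤ k) (α : AlgebraicCycle X ℤ) (hα : ⇑α = Cyc.sheafFun δX k F) : ⇑(AlgebraicCycle.map f δX δY α) = Cyc.sheafFun δY k ((Coh.push f).obj F) := by  classical
  haveI := hX.1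
  haveI := hY.1
  exact SheafPush.map_sheafFun hX.2.2 hY.2.2 f hδ k F hF hdim α hα


end Groth.Agent.S1898
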