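import Mathlib
import Groth.Statements.S18983
-- import your own Groth.Agent.* helpers here

set_option autoImplicit false
universe u v w
open CAlg

namespace Groth.Agent.S18983

section helpers

variable {k : Type u} [Field k] {Λ : Type v} [AddCommGroup Λ] [DecidableEq Λ]
  {V : Type w} [AddCommGroup V] [Module k V] (A : Module.End k V)

/-- A family of Jordan chains spanning a subspace. -/
def HasChains (P : V → Prop) (U : Submodule k V) : Prop :=
  ∃ (ι : Type w) (_ : Finite ι) (n : ι → ℕ) (e : (Σ i : ι, Fin (n i + 1)) → V),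
    (∀ x, P (e x)) ∧ LinearIndependent k e ∧ Submodule.span k (Set.range e) = U ∧
    (∀ i, A (e ⟨i, 0⟩) = 0) ∧
    ∀ (i : ι) (l : Fin (n i)), A (e ⟨i, l.succ⟩) = e ⟨i, l.castSucc⟩

lemma map_lt [FiniteDimensional k V] (hA : IsNilpotent A) (U : Submodule k V)
    (hU : U.map A ≤ U) (hne : U ≠ ⊥) : U.map A < U := by
  refine lt_of_le_of_ne hU fun h => hne ?_
  obtain ⟨N, hN⟩ := hA
  have : ∀ m : ℕ, U.map (A ^ m) = U := by
    intro m
    induction m with
    | zero => rw [pow_zero, Module.End.one_eq_id, Submodule.map_id]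
    | succ m ih => rw [pow_succ, Module.End.mul_eq_comp, Submodule.map_comp, h, ih]
  rw [← this N, hN, Submodule.map_zero]

variable (p : Λ → V →ₗ[k] V) (P : V → Prop) (χ : Λ)

lemma chains [FiniteDimensional k V] (hA : IsNilpotent A)
    (hcomm : ∀ μ v, p (μ + χ) (A v) = A (p μ v))
    (hP : ∀ μ v, P (p μ v))
    (hself : ∀ x, P x → ∃ μ, p μ x = x)
    (hdec : ∀ v : V, ∃ s : Finset Λ, v = ∑ μ ∈ s, p μ v) :
    ∀ (d : ℕ) (U : Submodule k V), Module.finrank k U = d → U.map A ≤ U →
      (∀ μ, ∀ v ∈ U, p μ v ∈ U) → HasChains A P U := by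
  classical
  intro d
  induction d using Nat.strong_induction_on with
  | _ d ih =>
  intro U hd hAU hpU
  by_cases hbot : U = ⊥
  · subst hbot
    exact ⟨PEmpty, inferInstance, fun i => i.elim, fun x => x.1.elim, fun x => x.1.elim,
      linearIndependent_empty_type, by simp [Set.range_eq_empty], fun i => i.elim, fun i => i.elim⟩
  have hlt := map_lt A hA U hAU hbot
  have hpU' : ∀ μ, ∀ v ∈ U.map A, p μ v ∈ U.map A := by
    rintro μ _ ⟨u, hu, rfl⟩
    exact ⟨p (μ - χ) u, hpU _ u hu, by rw [← hcomm, sub_add_cancel]⟩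
  obtain ⟨ι, hι, n, e, heP, heli, hespan, he0, hes⟩ :=
    ih _ (hd ▸ Submodule.finrank_lt_finrank_of_lt hlt) _ rfl (Submodule.map_mono hAU) hpU'
  haveI := hι
  cases nonempty_fintype ι
  have hmemU' : ∀ x, e x ∈ U.map A := fun x => hespan ▸ Submodule.subset_span ⟨x, rfl⟩
  have hemem : ∀ x, e x ∈ U := fun x => hAU (hmemU' x)
  -- lift the top of every chain
  have hlift : ∀ i, ∃ y ∈ U, P y ∧ A y = e ⟨i, Fin.last (n i)⟩ := by
    intro i
    obtain ⟨u, hu, hAu⟩ := hmemU' ⟨i, Fin.last (n i)⟩
    obtain ⟨μ, hμ⟩ := hself _ (heP ⟨i, Fin.last (n i)⟩)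
    exact ⟨p (μ - χ) u, hpU _ u hu, hP _ _, by rw [← hcomm, sub_add_cancel, hAu, hμ]⟩
  choose y hyU hyP hAy using hlift
  -- complete the bottoms to a homogeneous basis of the kernel
  let K : Submodule k V := U ⊓ LinearMap.ker A
  let t : Set V := {x | P x ∧ x ∈ K}
  let s : Set V := Set.range fun i => e ⟨i, 0⟩
  have hbinj : Function.Injective fun i => e ⟨i, 0⟩ :=
    heli.injective.comp fun i j h => congrArg Sigma.fst h
  have hs : LinearIndepOn k id s :=
    (heli.comp (fun i => (⟨i, 0⟩ : Σ i : ι, Fin (n i + 1))) fun i j h =>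
      congrArg Sigma.fst h).linearIndepOn_id
  have hst : s ⊆ t := by
    rintro _ ⟨i, rfl⟩
    exact ⟨heP _, hemem _, he0 i⟩
  let B : Set V := hs.extend hst
  have hBt : B ⊆ t := hs.extend_subset hst
  have hsB : s ⊆ B := hs.subset_extend hst
  have hBli : LinearIndepOn k id B := hs.linearIndepOn_extend hst
  haveI : Finite B := hBli.finite
  have hspanB : Submodule.span k B = K := by
    refine le_antisymm (Submodule.span_le.mpr fun x hx => (hBt hx).2) fun x hx => ?_
    obtain ⟨S, hS⟩ := hdec x
    rw [hS]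
    refine sum_mem fun μ _ => ?_
    have hmem : p μ x ∈ t :=
      ⟨hP _ _, hpU _ x hx.1, LinearMap.mem_ker.mpr (by rw [← hcomm, LinearMap.mem_ker.mp hx.2, map_zero])⟩
    exact SetLike.le_def.mp (Submodule.span_le.mpr (hs.subset_span_extend hst)) (Submodule.subset_span hmem)
  haveI : Finite ↥(B \ s) := Finite.Set.finite_diff B s
  cases nonempty_fintype ↥(B \ s)
  let J := ↥(B \ s)
  let g : ∀ i : ι, Fin (n i + 1 + 1) → V := fun i l =>
    Fin.lastCases (motive := fun _ => V) (y i) (fun m => e ⟨i, m⟩) l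
  have hglast : ∀ i, g i (Fin.last (n i + 1)) = y i := fun i => Fin.lastCases_last
  have hgcast : ∀ i (m : Fin (n i + 1)), g i m.castSucc = e ⟨i, m⟩ := fun i m =>
    Fin.lastCases_castSucc m
  have hgUP : ∀ i l, g i l ∈ U ∧ P (g i l) := by
    intro i l
    induction l using Fin.lastCases with
    | last => rw [hglast]; exact ⟨hyU i, hyP i⟩
    | cast m => rw [hgcast]; exact ⟨hemem _, heP _⟩
  have hgA : ∀ i (m : Fin (n i + 1)), A (g i m.succ) = g i m.castSucc := by
    intro i m
    rw [hgcast]
    induction m using Fin.lastCases with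
    | last => rw [Fin.succ_last, hglast]; exact hAy i
    | cast m => rw [Fin.succ_castSucc, hgcast]; exact hes i m
  have hgzero : ∀ i, A (g i (Fin.castSucc (0 : Fin (n i + 1)))) = 0 := fun i => by
    rw [hgcast]; exact he0 i
  let n' : ι ⊕ J → ℕ := Sum.elim (fun i => n i + 1) (fun _ => 0)
  let e' : (Σ i : ι ⊕ J, Fin (n' i + 1)) → V := fun x => match x with
    | ⟨Sum.inl i, l⟩ => g i l
    | ⟨Sum.inr j, _⟩ => (j : V)
  have he'U : ∀ x, e' x ∈ U := by
    rintro ⟨i | j, l⟩
    · exact (hgUP i l).1
    · exact (hBt j.2.1).2.1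
  have hspan : Submodule.span k (Set.range e') = U := by
    refine le_antisymm (Submodule.span_le.mpr (Set.range_subset_iff.mpr he'U)) fun u hu => ?_
    have hKle : K ≤ Submodule.span k (Set.range e') := by
      rw [← hspanB, Submodule.span_le]
      intro x hx
      by_cases hxs : x ∈ s
      · obtain ⟨i, rfl⟩ := hxs
        refine Submodule.subset_span ⟨⟨Sum.inl i, (0 : Fin (n i + 1)).castSucc⟩, ?_⟩
        change g i (Fin.castSucc (0 : Fin (n i + 1))) = _
        rw [hgcast]
      · exact Submodule.subset_span ⟨⟨Sum.inr ⟨x, hx, hxs⟩, 0⟩, rfl⟩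
    have hAu : A u ∈ (Submodule.span k (Set.range e')).map A ⊓ U.map A := by
      refine ⟨?_, u, hu, rfl⟩
      refine (show U.map A ≤ (Submodule.span k (Set.range e')).map A from ?_) ⟨u, hu, rfl⟩
      conv_lhs => rw [← hespan]
      rw [Submodule.span_le]
      rintro _ ⟨⟨i, m⟩, rfl⟩
      induction m using Fin.lastCases with
      | last =>
          refine ⟨y i, Submodule.subset_span ⟨⟨Sum.inl i, Fin.last (n i + 1)⟩, ?_⟩, hAy i⟩
          change g i (Fin.last (n i + 1)) = _
          rw [hglast]
      | cast m =>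
          refine ⟨e ⟨i, m.succ⟩, Submodule.subset_span ⟨⟨Sum.inl i, (m.succ).castSucc⟩, ?_⟩, hes i m⟩
          change g i (Fin.castSucc m.succ) = _
          rw [hgcast]
    obtain ⟨⟨z, hz, hzu⟩, -⟩ := hAu
    have hz' : z ∈ U := (Submodule.span_le.mpr (Set.range_subset_iff.mpr he'U)) hz
    have : u - z ∈ K := ⟨sub_mem hu hz', LinearMap.mem_ker.mpr (by rw [map_sub, hzu, sub_self])⟩
    have h2 := add_mem (hKle this) hz
    rwa [sub_add_cancel] at h2
  have hli : LinearIndependent k e' := by
    rw [linearIndependent_iff_card_eq_finrank_span, Set.finrank, hspan]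
    have h1 : Module.finrank k (U.map A) = ∑ i, (n i + 1) := by
      rw [← hespan, finrank_span_eq_card heli, Fintype.card_sigma]
      simp
    cases nonempty_fintype B
    have h2 : Module.finrank k K = Fintype.card ι + Fintype.card J := by
      rw [← hspanB, finrank_span_set_eq_card hBli, Set.toFinset_card, ← Fintype.card_sum]
      refine (Fintype.card_congr ?_).symm
      exact ((Equiv.ofInjective _ hbinj).sumCongr (Equiv.refl J)).trans (Equiv.Set.sumDiffSubset hsB)
    have h3 := LinearMap.finrank_range_add_finrank_ker (A.domRestrict U)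
    have hr : LinearMap.range (A.domRestrict U) = U.map A := LinearMap.range_domRestrict U A
    have hk : Module.finrank k (LinearMap.ker (A.domRestrict U)) = Module.finrank k K := by
      have hmap : Submodule.map U.subtype (LinearMap.ker (A.domRestrict U)) = K := by
        ext x
        constructor
        · rintro ⟨z, hz, rfl⟩
          exact ⟨z.2, LinearMap.mem_ker.mpr hz⟩
        · intro hx
          exact ⟨⟨x, hx.1⟩, LinearMap.mem_ker.mp hx.2, rfl⟩
      rw [← hmap]
      exact ((Submodule.equivMapOfInjective U.subtype U.injective_subtype _).finrank_eq)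
    rw [← h3, hr, hk, h1, h2, Fintype.card_eq_nat_card, Nat.card_sigma, Fintype.sum_sum_type]
    simp only [n', Sum.elim_inl, Sum.elim_inr, Fintype.card_eq_nat_card, Nat.card_fin, Finset.sum_const,
      Finset.card_univ, smul_eq_mul, mul_one, Finset.sum_add_distrib, zero_add]
    ring
  refine ⟨ι ⊕ J, inferInstance, n', e', ?_, hli, hspan, ?_, ?_⟩
  · rintro ⟨i | j, l⟩
    · exact (hgUP i l).2
    · exact (hBt j.2.1).1
  · rintro (i | j)
    · exact hgzero i
    · exact (hBt j.2.1).2.2
  · rintro (i | j) l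
    · exact hgA i l
    · exact l.elim0

end helpers

/-- Let k be a field, Λ an additive commutative group, V a finite-dimensional k-vector space which is
the internal direct sum of subspaces V_μ indexed by Λ (a representation of a torus with character
group Λ), and A a nilpotent endomorphism of V mapping each V_μ into V_{μ+χ} for a fixed χ (the
infinitesimal generator of an action of the additive group on which the torus acts through the
character χ). Then V has a basis consisting of homogeneous vectors e_{i,l}, 0 ≤ l ≤ n_i, with A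
e_{i,0} = 0 and A e_{i,l+1} = e_{i,l}: a weight basis bringing A into Jordan normal form. (The
source states this, over an algebraically closed field of characteristic zero, as a decomposition of
every representation of the semidirect product of the additive group with a torus into twists of
symmetric powers of the standard two-dimensional representation by characters; the first line of its
proof reduces that to the present statement, which is what is proved, and which holds over any
field.) -/
theorem result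
    (k : Type u) [Field k] (Λ : Type v) [AddCommGroup Λ] [DecidableEq Λ]
    (V : Type w) [AddCommGroup V] [Module k V] [FiniteDimensional k V]
    (𝒱 : Λ → Submodule k V) (h𝒱 : DirectSum.IsInternal 𝒱)
    (A : Module.End k V) (hA : IsNilpotent A) (χ : Λ)
    (hhom : ∀ (μ : Λ) (v : V), v ∈ 𝒱 μ → A v ∈ 𝒱 (μ + χ)) :
    ∃ (ι : Type w) (_ : Finite ι) (n : ι → ℕ) (b : Module.Basis (Σ i : ι, Fin (n i + 1)) k V),
      (∀ (i : ι) (l : Fin (n i + 1)), ∃ μ : Λ, b ⟨i, l⟩ ∈ 𝒱 μ) ∧
      (∀ i : ι, A (b ⟨i, 0⟩) = 0) ∧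
      ∀ (i : ι) (l : Fin (n i)), A (b ⟨i, l.succ⟩) = b ⟨i, l.castSucc⟩ := by
  classical
  letI := h𝒱.chooseDecomposition
  let p : Λ → V →ₗ[k] V := fun μ => (𝒱 μ).subtype.comp ((DirectSum.component k Λ (fun ν => 𝒱 ν) μ).comp
    (DirectSum.decomposeLinearEquiv 𝒱).toLinearMap)
  have hp : ∀ μ v, p μ v = ((DirectSum.decompose 𝒱 v μ : 𝒱 μ) : V) := fun μ v => rfl
  have hdec : ∀ v : V, ∃ s : Finset Λ, v = ∑ μ ∈ s, p μ v := fun v =>
    ⟨_, (DirectSum.sum_support_decompose 𝒱 v).symm⟩
  have hcomm : ∀ μ v, p (μ + χ) (A v) = A (p μ v) := by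
    intro μ v
    induction v using DirectSum.Decomposition.inductionOn 𝒱 with
    | zero => simp
    | @homogeneous ν x =>
        simp only [hp]
        by_cases h : ν = μ
        · subst h
          rw [DirectSum.decompose_of_mem_same 𝒱 (hhom _ _ x.2),
            DirectSum.decompose_of_mem_same 𝒱 x.2]
        · rw [DirectSum.decompose_of_mem_ne 𝒱 (hhom _ _ x.2) (fun h' => h (add_right_cancel h')),
            DirectSum.decompose_of_mem_ne 𝒱 x.2 h, map_zero]
    | add a b ha hb => simp only [map_add, ha, hb]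
  obtain ⟨ι, hι, n, e, heP, heli, hespan, he0, hes⟩ :=
    chains A p (fun x => ∃ μ, x ∈ 𝒱 μ) χ hA hcomm (fun μ v => ⟨μ, Subtype.coe_prop _⟩)
      (fun x ⟨μ, hx⟩ => ⟨μ, by rw [hp, DirectSum.decompose_of_mem_same 𝒱 hx]⟩) hdec
      _ ⊤ rfl le_top (fun _ _ _ => Submodule.mem_top)
  let b : Module.Basis (Σ i : ι, Fin (n i + 1)) k V := Module.Basis.mk heli hespan.ge
  have hb : ∀ x, b x = e x := fun x => Module.Basis.mk_apply heli hespan.ge x
  refine ⟨ι, hι, n, b, fun i l => ?_, fun i => ?_, fun i l => ?_⟩
  · rw [hb]; exact heP _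
  · rw [hb]; exact he0 i
  · rw [hb, hb]; exact hes i l

end Groth.Agent.S18983
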