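import Groth.Statements.S18987
import Groth.Agent.ComodLib.LieKill
-- import your own Groth.Agent.* helpers here

set_option autoImplicit false
universe u
open TensorProduct
open HopfRep

namespace Groth.Agent.S18987

open TensorProduct Groth.Agent.ComodLib

/-- `K k A` is `k`. -/
def kEquiv (k : Type u) [Field k] (A : Type u) [CommRing A] [HopfAlgebra k A] : LieHopf.K k A ≃ₗ[k] k where
  toFun x := x
  invFun x := x
  map_add' _ _ := rfl
  map_smul' _ _ := rfl

/-- Reading `R ⊗ K` in `R`. -/
noncomputable def readK (k : Type u) [Field k] (A : Type u) [CommRing A] [HopfAlgebra k A]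
    (R : Type u) [AddCommGroup R] [Module k R] : R ⊗[k] LieHopf.K k A ≃ₗ[k] R :=
  (TensorProduct.congr (LinearEquiv.refl k R) (kEquiv k A)).trans (TensorProduct.rid k R)

theorem readK_lTensor {k : Type u} [Field k] {A : Type u} [CommRing A] [HopfAlgebra k A]
    {R : Type u} [AddCommGroup R] [Module k R] (ξ : LieHopf.Lie k A) (y : R ⊗[k] A) :
    readK k A R (LinearMap.lTensor R (ξ.toLinearMap.restrictScalars k) y) = slice (LieHopf.dlin ξ) y := by
  induction y using TensorProduct.induction_on with
  | zero => simp
  | tmul p q =>
    rw [LinearMap.lTensor_tmul, slice_tmul]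
    show readK k A R (p ⊗ₜ[k] _) = _
    simp only [readK, LinearEquiv.trans_apply, TensorProduct.congr_tmul, TensorProduct.rid_tmul]
    rfl
  | add p q hp hq => simp only [map_add, hp, hq]

/-- In Hopf-algebra form, over an algebraically closed field k of characteristic zero, let A be a
finitely generated commutative Hopf algebra which is unipotent in the fixed-vector sense (the
coordinate ring of a unipotent group U), coacting multiplicatively on a finitely generated
commutative k-algebra R (an action of U on the affine scheme Spec R). Then an element f of R is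
invariant if and only if, for every ε-derivation ξ : A → k (every element of the Lie algebra of U),
applying ξ to the A-factor of the coaction of f gives zero (the infinitesimal action of ξ kills f). -/
theorem result
    (k : Type u) [Field k] [IsAlgClosed k] [CharZero k]
    (A : Type u) [CommRing A] [HopfAlgebra k A] [Algebra.FiniteType k A] (hU : HopfRep.IsUnipotent k A)
    (R : Type u) [CommRing R] [Algebra k R] [Algebra.FiniteType k R]
    [HopfRep.Comod k A R] [GLin.IsCoactAlg k A R] (f : R) :
    f ∈ GLin.invariants k A R ↔
      ∀ ξ : LieHopf.Lie k A,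
        LinearMap.lTensor R (ξ.toLinearMap.restrictScalars k) (HopfRep.Comod.coact (k := k) (A := A) f) = 0 := by
  haveI : _root_.IsReduced A := isReduced_of_charZero (k := k)
  constructor
  · intro hf ξ
    apply (readK k A R).injective
    rw [readK_lTensor, map_zero, show HopfRep.Comod.coact (k := k) (A := A) f = f ⊗ₜ[k] (1 : A) from hf,
      slice_tmul, LieHopf.dlin_one, zero_smul]
  · intro h
    show HopfRep.Comod.coact (k := k) (A := A) f = f ⊗ₜ[k] (1 : A)
    have hkill : ∀ ξ : LieHopf.Lie k A, actF (LieHopf.dlin ξ) f = 0 := fun ξ => by
      rw [actF_apply, ← readK_lTensor, h ξ, map_zero]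
    refine ext_of_forall_rTensor_eq fun π => ?_
    have h1 := eq_algebraMap_of_killed hU (a := coefFun (C := A) π f) fun L => by
      rw [lieOp_coefFun, hkill, map_zero]
    rw [show Bialgebra.counitAlgHom k A (coefFun (C := A) π f) = π f from counit_coefFun π f, coefFun_apply] at h1
    rw [h1, LinearMap.rTensor_tmul, TensorProduct.lid_tmul, Algebra.algebraMap_eq_smul_one]

end Groth.Agent.S18987
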