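import Groth.Statements.S18988
import Groth.Agent.ComodLib.LieKill
-- import your own Groth.Agent.* helpers here

set_option autoImplicit false
universe u
open TensorProduct
open HopfRep

namespace Groth.Agent.S18988

open TensorProduct Groth.Agent.ComodLib

/-- `K k A` is `k`. -/
def kEquiv (k : Type u) [Field k] (A : Type u) [CommRing A] [HopfAlgebra k A] : LieHopf.K k A ≃ₗ[k] k where
  toFun x := x
  invFun x := x
  map_add' _ _ := rfl
  map_smul' _ _ := rfl

/-- Reading `R ⊗ K` in `R`. -/
noncomputable def readK (k : Type u) [Field k] (A : Type u) [CommRing A] [HopfAlgebra k A]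
    (R : Type u) [AddCommGroup R] [Module k R] : R ⊗[k] LieHopf.K k A ≃ₗ[k] R :=
  (TensorProduct.congr (LinearEquiv.refl k R) (kEquiv k A)).trans (TensorProduct.rid k R)

theorem readK_lTensor {k : Type u} [Field k] {A : Type u} [CommRing A] [HopfAlgebra k A]
    {R : Type u} [AddCommGroup R] [Module k R] (ξ : LieHopf.Lie k A) (y : R ⊗[k] A) :
    readK k A R (LinearMap.lTensor R (ξ.toLinearMap.restrictScalars k) y) = slice (LieHopf.dlin ξ) y := by
  induction y using TensorProduct.induction_on with
  | zero => simp
  | tmul p q =>
    rw [LinearMap.lTensor_tmul, slice_tmul]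
    show readK k A R (p ⊗ₜ[k] _) = _
    simp only [readK, LinearEquiv.trans_apply, TensorProduct.congr_tmul, TensorProduct.rid_tmul]
    rfl
  | add p q hp hq => simp only [map_add, hp, hq]

/-- In Hopf-algebra form, over an algebraically closed field k of characteristic zero, let A be a
finitely generated commutative Hopf algebra which is unipotent in the fixed-vector sense (the
coordinate ring of a unipotent group U), coacting multiplicatively on a finitely generated
commutative k-algebra R. Then a k-subspace V of R is a subcomodule (is invariant under U) if and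
only if it is stable under the infinitesimal action of every ε-derivation ξ : A → k: for every v in
V, applying ξ to the A-factor of the coaction of v gives an element of the image of V ⊗ k in R ⊗ k. -/
theorem result
    (k : Type u) [Field k] [IsAlgClosed k] [CharZero k]
    (A : Type u) [CommRing A] [HopfAlgebra k A] [Algebra.FiniteType k A] (hU : HopfRep.IsUnipotent k A)
    (R : Type u) [CommRing R] [Algebra k R] [Algebra.FiniteType k R]
    [HopfRep.Comod k A R] [GLin.IsCoactAlg k A R] (V : Submodule k R) :
    HopfRep.IsSubcomod (k := k) (A := A) V ↔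
      ∀ (ξ : LieHopf.Lie k A) (v : R), v ∈ V →
        LinearMap.lTensor R (ξ.toLinearMap.restrictScalars k) (HopfRep.Comod.coact (k := k) (A := A) v) ∈
          LinearMap.range (LinearMap.rTensor (LieHopf.K k A) V.subtype) := by
  haveI : _root_.IsReduced A := isReduced_of_charZero (k := k)
  have hmem : ∀ (ξ : LieHopf.Lie k A) (y : R ⊗[k] A),
      LinearMap.lTensor R (ξ.toLinearMap.restrictScalars k) y ∈ LinearMap.range (LinearMap.rTensor (LieHopf.K k A) V.subtype) ↔
        slice (LieHopf.dlin ξ) y ∈ V := by
    intro ξ y
    rw [← readK_lTensor]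
    constructor
    · rintro ⟨z, hz⟩
      rw [← hz]
      clear hz
      induction z using TensorProduct.induction_on with
      | zero => simp
      | tmul p q =>
        simp only [LinearMap.rTensor_tmul, readK, LinearEquiv.trans_apply, TensorProduct.congr_tmul, TensorProduct.rid_tmul]
        exact V.smul_mem _ p.2
      | add p q hp hq => simp only [map_add]; exact V.add_mem hp hq
    · intro hy
      refine ⟨(⟨_, hy⟩ : V) ⊗ₜ[k] (kEquiv k A).symm 1, (readK k A R).injective ?_⟩
      simp [readK]
  constructor
  · intro hV ξ v hv
    rw [hmem]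
    exact subcomod_actF_mem hV _ hv
  · intro h
    rw [isSubcomod_iff_actF]
    intro φ u hu
    let S : Set A := {a | ∃ (π : R →ₗ[k] k) (v : R), (∀ w ∈ V, π w = 0) ∧ v ∈ V ∧ a = coefFun (C := A) π v}
    have hw : V.mkQ.rTensor A (HopfRep.Comod.coact (k := k) (A := A) u) = 0 := by
      refine ext_of_forall_rTensor_eq fun π => ?_
      rw [map_zero, map_zero, ← LinearMap.rTensor_comp_apply, ← coefFun_apply]
      refine eq_zero_of_stable hU S ?_ ?_ ⟨_, u, fun w hw => ?_, hu, rfl⟩
      · rintro _ ⟨π, v, hπ, hv, rfl⟩
        exact (counit_coefFun π v).trans (hπ v hv)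
      · rintro L _ ⟨π, v, hπ, hv, rfl⟩
        refine ⟨π, actF (LieHopf.dlin L) v, hπ, ?_, lieOp_coefFun L π v⟩
        rw [actF_apply, ← hmem]
        exact h L v hv
      · rw [LinearMap.comp_apply, Submodule.mkQ_apply, (Submodule.Quotient.mk_eq_zero V).mpr hw, map_zero]
    have := congrArg (slice φ) hw
    rw [slice_rTensor, map_zero] at this
    exact (Submodule.Quotient.mk_eq_zero V).mp this

end Groth.Agent.S18988
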