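import Groth.Statements.S18989
import Groth.Agent.ComodLib.LieKill
-- import your own Groth.Agent.* helpers here

set_option autoImplicit false
universe u
open TensorProduct
open HopfRep

namespace Groth.Agent.S18989

open TensorProduct Groth.Agent.ComodLib

/-- `K k A` is `k`. -/
def kEquiv (k : Type u) [Field k] (A : Type u) [CommRing A] [HopfAlgebra k A] : LieHopf.K k A ≃ₗ[k] k where
  toFun x := x
  invFun x := x
  map_add' _ _ := rfl
  map_smul' _ _ := rfl

/-- Reading `R ⊗ K` in `R`. -/
noncomputable def readK (k : Type u) [Field k] (A : Type u) [CommRing A] [HopfAlgebra k A]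
    (R : Type u) [AddCommGroup R] [Module k R] : R ⊗[k] LieHopf.K k A ≃ₗ[k] R :=
  (TensorProduct.congr (LinearEquiv.refl k R) (kEquiv k A)).trans (TensorProduct.rid k R)

theorem readK_lTensor {k : Type u} [Field k] {A : Type u} [CommRing A] [HopfAlgebra k A]
    {R : Type u} [AddCommGroup R] [Module k R] (ξ : LieHopf.Lie k A) (y : R ⊗[k] A) :
    readK k A R (LinearMap.lTensor R (ξ.toLinearMap.restrictScalars k) y) = slice (LieHopf.dlin ξ) y := by
  induction y using TensorProduct.induction_on with
  | zero => simp
  | tmul p q =>
    rw [LinearMap.lTensor_tmul, slice_tmul]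
    show readK k A R (p ⊗ₜ[k] _) = _
    simp only [readK, LinearEquiv.trans_apply, TensorProduct.congr_tmul, TensorProduct.rid_tmul]
    rfl
  | add p q hp hq => simp only [map_add, hp, hq]

/-- An action of a unipotent group on an affine scheme is determined by its infinitesimal action. Over
an algebraically closed field k of characteristic zero, let A be a finitely generated commutative
Hopf algebra, unipotent in the fixed-vector sense, coacting multiplicatively on two finitely
generated commutative k-algebras R₁ and R₂, and let e : R₁ → R₂ be an algebra isomorphism which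
intertwines the two infinitesimal actions: for every ε-derivation ξ : A → k and every f in R₁,
applying ξ to the A-factor of the coaction of e(f) equals e ⊗ id applied to the same for f. Then e
intertwines the coactions: the coaction of e(f) is (e ⊗ id) of the coaction of f for all f. (With R₁
= R₂ and e the identity this says that two actions with the same infinitesimal action coincide,
which is the printed assertion.) -/
theorem result
    (k : Type u) [Field k] [IsAlgClosed k] [CharZero k]
    (A : Type u) [CommRing A] [HopfAlgebra k A] [Algebra.FiniteType k A] (hU : HopfRep.IsUnipotent k A)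
    (R₁ R₂ : Type u) [CommRing R₁] [Algebra k R₁] [Algebra.FiniteType k R₁]
    [HopfRep.Comod k A R₁] [GLin.IsCoactAlg k A R₁]
    [CommRing R₂] [Algebra k R₂] [Algebra.FiniteType k R₂]
    [HopfRep.Comod k A R₂] [GLin.IsCoactAlg k A R₂]
    (e : R₁ ≃ₐ[k] R₂)
    (h : ∀ (ξ : LieHopf.Lie k A) (f : R₁),
      LinearMap.lTensor R₂ (ξ.toLinearMap.restrictScalars k) (HopfRep.Comod.coact (k := k) (A := A) (e f)) =
        LinearMap.rTensor (LieHopf.K k A) e.toLinearMap
          (LinearMap.lTensor R₁ (ξ.toLinearMap.restrictScalars k) (HopfRep.Comod.coact (k := k) (A := A) f))) :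
    ∀ f : R₁, HopfRep.Comod.coact (k := k) (A := A) (e f) =
      LinearMap.rTensor A e.toLinearMap (HopfRep.Comod.coact (k := k) (A := A) f) := by
  haveI : _root_.IsReduced A := isReduced_of_charZero (k := k)
  have hcomm : ∀ (ξ : LieHopf.Lie k A) (f : R₁), actF (LieHopf.dlin ξ) (e f) = e (actF (LieHopf.dlin ξ) f) := by
    intro ξ f
    rw [actF_apply, actF_apply, ← readK_lTensor, h ξ f]
    generalize HopfRep.Comod.coact (k := k) (A := A) f = y
    induction y using TensorProduct.induction_on with
    | zero => simp
    | tmul p q =>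
      rw [slice_tmul, LinearMap.lTensor_tmul, LinearMap.rTensor_tmul, map_smul]
      exact (readK_lTensor ξ (e p ⊗ₜ[k] q)).trans (slice_tmul _ _ _)
    | add p q hp hq => simp only [map_add, hp, hq]
  intro f
  refine ext_of_forall_rTensor_eq fun π => ?_
  rw [← LinearMap.rTensor_comp_apply, ← coefFun_apply, ← coefFun_apply, ← sub_eq_zero]
  refine eq_zero_of_stable hU
    {a | ∃ (π : R₂ →ₗ[k] k) (f : R₁), a = coefFun (C := A) π (e f) - coefFun (C := A) (π ∘ₗ e.toLinearMap) f}
    ?_ ?_ ⟨π, f, rfl⟩
  · rintro _ ⟨π, f, rfl⟩
    have h1 : Bialgebra.counitAlgHom k A (coefFun (C := A) π (e f)) = π (e f) := counit_coefFun π _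
    have h2 : Bialgebra.counitAlgHom k A (coefFun (C := A) (π ∘ₗ e.toLinearMap) f) = π (e f) := counit_coefFun _ _
    rw [RingHom.mem_ker, map_sub, h1, h2, sub_self]
  · rintro L _ ⟨π, f, rfl⟩
    refine ⟨π, actF (LieHopf.dlin L) f, ?_⟩
    rw [map_sub, lieOp_coefFun, lieOp_coefFun, hcomm]

end Groth.Agent.S18989
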