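import Groth.Statements.S18991
import Groth.Agent.AVTors.AffineProdConst
-- import your own Groth.Agent.* helpers here

set_option autoImplicit false
universe u
open CategoryTheory MonoidalCategory CartesianMonoidalCategory MonObj GrpObj AlgebraicGeometry CategoryTheory.Limits
open AbVar

namespace Groth.Agent.S18991

set_option linter.style.haveILetI false
set_option backward.isDefEq.respectTransparency false
set_option backward.isDefEq.respectTransparency.types false
set_option maxHeartbeats 1000000

/-- In the form of the factorization it amounts to, let k be a perfect field, X a reduced separated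
k-scheme of finite type, n ≥ 0 and G a large group over k, that is a commutative separated k-group
scheme locally of finite type together with a connected open subgroup scheme G⁰ (its neutral
component) which is semiabelian: G⁰ has a closed subgroup scheme T that is a torus and is the kernel
of a flat surjective homomorphism from G⁰ onto an abelian variety A (a proper smooth connected
k-group scheme). Then every k-morphism X ×_k 𝔸ⁿ_k → G factors through the first projection X ×_k
𝔸ⁿ_k → X. (So a k-morphism X → A_X that is universal for morphisms from X to large groups remains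
universal after composing with the projection: the Albanese scheme of X ×_k 𝔸ⁿ_k is that of X via
the projection.) -/
theorem result (k : Type u) [Field k] [PerfectField k]
    (X : Over (Spec (CommRingCat.of k))) [IsReduced X.left] [IsSeparated X.hom] [QuasiCompact X.hom]
    [LocallyOfFiniteType X.hom] (n : ℕ)
    (G : Over (Spec (CommRingCat.of k))) [GrpObj G] [IsCommMonObj G] [IsSeparated G.hom] [LocallyOfFiniteType G.hom]
    (G0 : Over (Spec (CommRingCat.of k))) [GrpObj G0] (e : G0 ⟶ G) [IsMonHom e] [IsOpenImmersion e.left]
    [ConnectedSpace ↥G0.left]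
    (T : Over (Spec (CommRingCat.of k))) [GrpObj T] (i : T ⟶ G0) [IsMonHom i] [IsClosedImmersion i.left]
    (hT : Red.IsTorus T)
    (A : Over (Spec (CommRingCat.of k))) [GrpObj A] [IsProper A.hom] [Smooth A.hom] [ConnectedSpace ↥A.left]
    (q : G0 ⟶ A) [IsMonHom q] [Surjective q.left] [Flat q.left] (hker : AlgGrp.IsKernel i q)
    (φ : X ⊗ Over.mk (Spec.map (CommRingCat.ofHom (algebraMap k (MvPolynomial (Fin n) k)))) ⟶ G) :
    ∃ ψ : X ⟶ G, φ = fst X (Over.mk (Spec.map (CommRingCat.ofHom (algebraMap k (MvPolynomial (Fin n) k))))) ≫ ψ := by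
  haveI : GeometricallyIntegral A.hom := by
    haveI : GeometricallyReduced A.hom := Groth.Agent.H23.RigidGamma.geometricallyReduced_of_smooth A.hom
    exact Groth.Agent.H23.MaxAbelian.geometricallyIntegral_of_connected A
  let N : Type u := ULift.{u} (Fin n)
  let eA : 𝔸(N; Spec (CommRingCat.of k)) ≅ Spec (CommRingCat.of (MvPolynomial (Fin n) k)) :=
    AffineSpace.SpecIso N (CommRingCat.of k) ≪≫ Scheme.Spec.mapIso
      ((MvPolynomial.renameEquiv k (Equiv.ulift.{u} (α := Fin n)).symm).toRingEquiv.toCommRingCatIso.op)
  have he : eA.hom ≫ Spec.map (CommRingCat.ofHom (algebraMap k (MvPolynomial (Fin n) k))) =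
      𝔸(N; Spec (CommRingCat.of k)) ↘ Spec (CommRingCat.of k) := by
    rw [← Iso.eq_inv_comp]
    show Spec.map _ = (Spec.map _ ≫ (AffineSpace.SpecIso N (CommRingCat.of k)).inv) ≫ _
    rw [Category.assoc, AffineSpace.SpecIso_inv_over, ← Spec.map_comp]
    exact congrArg Spec.map (CommRingCat.hom_ext (RingHom.ext fun c => (MvPolynomial.rename_C _ c).symm))
  let ea : H23.RatProductK.affine k N ≅ Over.mk (Spec.map (CommRingCat.ofHom (algebraMap k (MvPolynomial (Fin n) k)))) :=
    Over.isoMk eA he
  refine ⟨lift (𝟙 X) (toUnit X ≫ Groth.Agent.AVTors.LineConst.origin k N) ≫ (X ◁ ea.hom) ≫ φ, ?_⟩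
  have h := Groth.Agent.AVTors.LineConst.exists_fst_factor e i hT q hker ((X ◁ ea.hom) ≫ φ)
  rw [← cancel_epi (X ◁ ea.hom), whiskerLeft_fst_assoc]
  exact h

end Groth.Agent.S18991
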