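import Groth.Statements.S18994
import Mathlib.LinearAlgebra.LinearIndependent.Lemmas
import Mathlib.RingTheory.MvPolynomial.Homogeneous

set_option autoImplicit false
set_option backward.isDefEq.respectTransparency false
set_option backward.isDefEq.respectTransparency.types false
universe u
open TernForm

namespace Groth.Agent.S18994

/-- Let R be a commutative ring, j ∈ {0, 1, 2}, q a homogeneous polynomial of degree 2 in R[X_0, X_1,
X_2] whose coefficient of X_j^2 is a unit, and n a natural number. Then the family consisting of the
monomials of degree n not divisible by X_j^2 (exponent of X_j at most 1) together with the products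
q · m, m running over the monomials of degree n − 2 (indexed by exponents m with |m| + 2 = n), is
linearly independent over R and spans exactly the homogeneous polynomials of degree n; in particular
it is a basis of that module and the two parts are disjoint. (The published lemma is stated over a
field with the coefficient nonzero, the special case of a field R here; the version over a ring with
the coefficient invertible is what its change-of-basis argument gives — ordering monomials by
decreasing exponent of X_j makes the matrix triangular with diagonal entries 1 and that coefficient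
— and is the form used to trivialise the bundle of degree-n forms modulo multiples of q over the
locus where the coefficient is invertible. The published lemma also allows an arbitrary monomial of
degree 2 in place of X_j^2; for the mixed monomial X_1X_2, the form q = X_1^2 + X_1X_2 + X_2^2 and n
= 3 give the linear relation q·X_1 − q·X_2 = X_1^3 − X_2^3 among members of the family, so the claim
fails there and is stated here for the square of a variable.) -/
theorem result
    (R : Type u) [CommRing R] (j : Fin 3) (q : MvPolynomial (Fin 3) R)
    (hq : q.IsHomogeneous 2) (hqj : IsUnit (q.coeff (Finsupp.single j 2))) (n : ℕ) :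
    LinearIndependent R (Sum.elim (fun m : {m : Fin 3 →₀ ℕ // m.degree = n ∧ m j < 2} => MvPolynomial.monomial m.1 (1 : R)) (fun m : {m : Fin 3 →₀ ℕ // m.degree + 2 = n} => q * MvPolynomial.monomial m.1 (1 : R))) ∧
      Submodule.span R (Set.range (Sum.elim (fun m : {m : Fin 3 →₀ ℕ // m.degree = n ∧ m j < 2} => MvPolynomial.monomial m.1 (1 : R)) (fun m : {m : Fin 3 →₀ ℕ // m.degree + 2 = n} => q * MvPolynomial.monomial m.1 (1 : R)))) = MvPolynomial.homogeneousSubmodule (Fin 3) R n := by
  classical
  let t : Fin 3 →₀ ℕ := Finsupp.single j 2
  have htj : t j = 2 := Finsupp.single_eq_same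
  have hle : ∀ e : Fin 3 →₀ ℕ, q.coeff e ≠ 0 → e ≠ t → e j < 2 := fun e he hne => by
    by_contra h
    push Not at h
    have hdeg : e.degree = 2 := by
      have := hq he
      rw [Finsupp.degree_eq_weight_one]; exact this
    refine hne (Finsupp.ext fun i => ?_)
    have hs : e.degree = ∑ i, e i := Finsupp.degree_eq_sum e
    rw [hdeg] at hs
    have : e j + ∑ i ∈ Finset.univ.erase j, e i = 2 := by
      rw [Finset.add_sum_erase _ _ (Finset.mem_univ j), ← hs]
    rcases eq_or_ne i j with rfl | hij
    · show e i = t i
      rw [htj]; omega
    · have : e i ≤ ∑ i ∈ Finset.univ.erase j, e i :=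
        Finset.single_le_sum (fun k _ => Nat.zero_le (e k)) (Finset.mem_erase.2 ⟨hij, Finset.mem_univ i⟩)
      show e i = t i
      rw [Finsupp.single_eq_of_ne hij]; omega
  have hkey : ∀ P : MvPolynomial (Fin 3) R, (∀ e : Fin 3 →₀ ℕ, 2 ≤ e j → (q * P).coeff e = 0) → P = 0 := by
    intro P hP
    by_contra hne
    obtain ⟨m, hm, hmax⟩ := P.support.exists_max_image (fun m => m j)
      (Finset.nonempty_iff_ne_empty.2 fun h => hne (MvPolynomial.support_eq_empty.1 h))
    have h0 := hP (t + m) (by rw [Finsupp.add_apply, htj]; omega)
    rw [MvPolynomial.coeff_mul, Finset.sum_eq_single (t, m)] at h0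
    · exact (MvPolynomial.mem_support_iff.1 hm) (hqj.mul_right_eq_zero.1 h0)
    · intro x hx hne'
      rw [Finset.HasAntidiagonal.mem_antidiagonal] at hx
      by_contra h
      have h1 : q.coeff x.1 ≠ 0 := fun h1 => h (by rw [h1, zero_mul])
      have h2 : P.coeff x.2 ≠ 0 := fun h2 => h (by rw [h2, mul_zero])
      have hxt : x.1 ≠ t := fun e => hne' (Prod.ext e (add_left_cancel (a := t) (by rw [← hx, e])))
      have := hle _ h1 hxt
      have := hmax _ (MvPolynomial.mem_support_iff.2 h2)
      have := DFunLike.congr_fun hx j
      rw [Finsupp.add_apply, Finsupp.add_apply, htj] at this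
      omega
    · intro h
      exact (h (Finset.HasAntidiagonal.mem_antidiagonal.2 rfl)).elim
  refine ⟨LinearIndependent.sum_type ?_ ?_ ?_, le_antisymm ?_ ?_⟩
  · have := (MvPolynomial.basisMonomials (Fin 3) R).linearIndependent.comp
      (Subtype.val : {m : Fin 3 →₀ ℕ // m.degree = n ∧ m j < 2} → _) Subtype.val_injective
    rw [MvPolynomial.coe_basisMonomials] at this
    exact this
  · have hinj : LinearMap.ker (LinearMap.mulLeft R q) = ⊥ :=
      LinearMap.ker_eq_bot'.2 fun P hP => hkey P fun e _ => by
        rw [show q * P = 0 from hP, MvPolynomial.coeff_zero]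
    have := ((MvPolynomial.basisMonomials (Fin 3) R).linearIndependent.comp
      (Subtype.val : {m : Fin 3 →₀ ℕ // m.degree + 2 = n} → _) Subtype.val_injective).map' (LinearMap.mulLeft R q) hinj
    rw [MvPolynomial.coe_basisMonomials] at this
    exact this
  · rw [Submodule.disjoint_def]
    intro x hx hx'
    have h1 : ∀ e : Fin 3 →₀ ℕ, 2 ≤ e j → x.coeff e = 0 := by
      intro e he
      have : x ∈ LinearMap.ker (MvPolynomial.lcoeff R e) := by
        refine (Submodule.span_le.2 ?_) hx
        rintro _ ⟨m, rfl⟩
        show MvPolynomial.coeff e (MvPolynomial.monomial m.1 (1 : R)) = 0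
        rw [MvPolynomial.coeff_monomial, if_neg]
        rintro rfl
        exact absurd m.2.2 (by omega)
      exact this
    obtain ⟨P, rfl⟩ : ∃ P, q * P = x := by
      have : x ∈ LinearMap.range (LinearMap.mulLeft R q) := by
        refine (Submodule.span_le.2 ?_) hx'
        rintro _ ⟨m, rfl⟩
        exact ⟨_, rfl⟩
      exact this
    rw [hkey P h1, mul_zero]
  · rw [Submodule.span_le]
    rintro _ ⟨m | m, rfl⟩
    · exact MvPolynomial.isHomogeneous_monomial _ m.2.1
    · have := hq.mul (MvPolynomial.isHomogeneous_monomial (1 : R) (rfl : m.1.degree = m.1.degree))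
      rw [show 2 + m.1.degree = n by have := m.2; omega] at this
      exact this
  · set W := Submodule.span R (Set.range (Sum.elim
      (fun m : {m : Fin 3 →₀ ℕ // m.degree = n ∧ m j < 2} => MvPolynomial.monomial m.1 (1 : R))
      (fun m : {m : Fin 3 →₀ ℕ // m.degree + 2 = n} => q * MvPolynomial.monomial m.1 (1 : R)))) with hW
    have hmon : ∀ (b : ℕ) (m : Fin 3 →₀ ℕ), m j ≤ b → m.degree = n → ∀ c, MvPolynomial.monomial m c ∈ W := by
      intro b
      induction b using Nat.strong_induction_on with
      | _ b ih =>
        intro m hmb hm c
        rw [show MvPolynomial.monomial m c = c • MvPolynomial.monomial m (1 : R) by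
          rw [MvPolynomial.smul_monomial, smul_eq_mul, mul_one]]
        refine W.smul_mem _ ?_
        rcases subsingleton_or_nontrivial R with hR | hR
        · exact (Subsingleton.elim (0 : MvPolynomial (Fin 3) R) (MvPolynomial.monomial m 1)) ▸ W.zero_mem
        by_cases hlt : m j < 2
        · exact Submodule.subset_span ⟨.inl ⟨m, hm, hlt⟩, rfl⟩
        let m' := m - t
        have hmt : t + m' = m := add_tsub_cancel_of_le (Finsupp.single_le_iff.2 (by omega))
        have hm' : m'.degree + 2 = n := by
          have hdeg := congrArg Finsupp.degree hmt
          rw [map_add, Finsupp.degree_single, hm] at hdeg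
          omega
        have hqm : q * MvPolynomial.monomial m' (1 : R) ∈ W := Submodule.subset_span ⟨.inr ⟨m', hm'⟩, rfl⟩
        have hsum : q * MvPolynomial.monomial m' (1 : R) =
            q.coeff t • MvPolynomial.monomial m (1 : R) +
              ∑ e ∈ q.support.erase t, MvPolynomial.monomial (e + m') (q.coeff e) := by
          have hts : t ∈ q.support := MvPolynomial.mem_support_iff.2 hqj.ne_zero
          conv_lhs => rw [q.as_sum, Finset.sum_mul, ← Finset.add_sum_erase _ _ hts]
          simp only [MvPolynomial.monomial_mul, mul_one, hmt, MvPolynomial.smul_monomial, smul_eq_mul]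
        have hrest : ∑ e ∈ q.support.erase t, MvPolynomial.monomial (e + m') (q.coeff e) ∈ W := by
          refine Submodule.sum_mem _ fun e he => ?_
          obtain ⟨hne, he⟩ := Finset.mem_erase.1 he
          have h1 := hle e (MvPolynomial.mem_support_iff.1 he) hne
          have h2 : (e + m') j < m j := by
            have := DFunLike.congr_fun hmt j
            rw [Finsupp.add_apply, htj] at this
            rw [Finsupp.add_apply]; omega
          refine ih ((e + m') j) (by omega) _ le_rfl ?_ _
          rw [map_add, show e.degree = 2 by
            have := hq (MvPolynomial.mem_support_iff.1 he)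
            rw [Finsupp.degree_eq_weight_one]; exact this]
          omega
        rw [hsum] at hqm
        exact (Submodule.smul_mem_iff_of_isUnit W hqj).1 ((Submodule.add_mem_iff_left W hrest).1 hqm)
    intro x hx
    rw [x.as_sum]
    refine Submodule.sum_mem _ fun e he => hmon (e j) e le_rfl ?_ _
    have := hx (MvPolynomial.mem_support_iff.1 he)
    rw [Finsupp.degree_eq_weight_one]; exact this

end Groth.Agent.S18994
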