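import Groth.Statements.S3623
import Groth.Agent.LC.GorLCI
-- import your own Groth.Agent.* helpers here

set_option autoImplicit false
set_option linter.style.haveILetI false
set_option backward.isDefEq.respectTransparency false
set_option backward.isDefEq.respectTransparency.types false

universe u
open CategoryTheory CategoryTheory.Limits AlgebraicGeometry
attribute [local instance] HasDerivedCategory.standard
open Dual3

namespace Groth.Agent.S3623

/-- Let f : Y → X be a local complete intersection morphism (affine-locally given by local complete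
intersection ring maps) with X a Gorenstein scheme. Then Y is a Gorenstein scheme. -/
theorem result (Y X : Scheme.{u}) (f : Y ⟶ X) (hf : Dual3.IsLCIMor f) (hX : Dual3.IsGorenstein X) : Dual3.IsGorenstein Y := by
  haveI := hX.1
  have hring : ∀ y : Y, ∃ (U : Y.affineOpens), y ∈ U.1 ∧ LocCoh.IsGorensteinRing Γ(Y, U.1) := fun y => by
    obtain ⟨U, V, e, hy, hl⟩ := hf y
    letI := (f.appLE V.1 U.1 e).hom.toAlgebra
    haveI : IsNoetherianRing Γ(X, V.1) := IsLocallyNoetherian.component_noetherian V
    refine ⟨U, hy, Groth.Agent.LC.gorensteinRing_of_isLCI Γ(X, V.1) Γ(Y, U.1) ⟨fun p _ => ?_⟩ hl⟩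
    let q : PrimeSpectrum Γ(X, V.1) := ⟨p, inferInstance⟩
    have hx : V.2.fromSpec q ∈ V.1 := V.2.range_fromSpec.le ⟨q, rfl⟩
    letI := TopCat.Presheaf.algebra_section_stalk X.presheaf (⟨_, hx⟩ : V.1)
    haveI : IsLocalization.AtPrime (X.presheaf.stalk (V.2.fromSpec q)) p := V.2.isLocalization_stalk' q hx
    haveI := hX.2 (V.2.fromSpec q)
    exact Groth.Agent.LC.gorenstein_of_ringEquiv
      (IsLocalization.algEquiv p.primeCompl (X.presheaf.stalk (V.2.fromSpec q))
        (Localization.AtPrime p)).toRingEquiv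
  haveI : IsLocallyNoetherian Y := by
    choose U hy hU using hring
    exact (isLocallyNoetherian_iff_of_iSup_eq_top (S := U) (eq_top_iff.2 fun y _ =>
      TopologicalSpace.Opens.mem_iSup.2 ⟨y, hy y⟩)).2 fun y => haveI := hU y; inferInstance
  refine ⟨inferInstance, fun y => ?_⟩
  obtain ⟨⟨U, hU⟩, hy, hG⟩ := hring y
  letI := TopCat.Presheaf.algebra_section_stalk Y.presheaf (⟨y, hy⟩ : U)
  haveI := hU.isLocalization_stalk ⟨y, hy⟩
  haveI := hG.isGorensteinLocalRing_localization (hU.primeIdealOf ⟨y, hy⟩).asIdeal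
  exact Groth.Agent.LC.gorenstein_of_ringEquiv
    (IsLocalization.algEquiv (hU.primeIdealOf ⟨y, hy⟩).asIdeal.primeCompl
      (Localization.AtPrime (hU.primeIdealOf ⟨y, hy⟩).asIdeal) (Y.presheaf.stalk y)).toRingEquiv
end Groth.Agent.S3623
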