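import Groth.Statements.S18999
import Groth.Agent.S3623
import Groth.Agent.S0341
import Groth.Agent.S0342
import Groth.Agent.Lib.SmoothDuality
import Groth.Agent.SurfRows.Zariski
import Groth.Agent.PnCoh.Chow.Proper

set_option autoImplicit false
set_option backward.isDefEq.respectTransparency false
set_option backward.isDefEq.respectTransparency.types false
set_option linter.style.haveILetI false
set_option linter.unusedSectionVars false
set_option maxHeartbeats 800000
universe u
open CategoryTheory CategoryTheory.Limits AlgebraicGeometry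
open Surf

namespace Groth.Agent.S18999

open Groth.Agent.H23
attribute [local instance] PicMul.clMonoid

/-- Let k be a field and X an integral scheme of dimension two admitting a closed immersion into some
P^n_k over k, such that X → Spec k is a local complete intersection morphism. Let (ω, t) be a
dualizing sheaf for X — ω coherent, t a k-linear form on H^2(X, ω), such that for every coherent F
and every k-linear form ψ on H^2(X, F) there is exactly one φ : F → ω with ψ = t ∘ H^2(φ) — and
assume ω invertible (as it is, X being Gorenstein). Then for every invertible O_X-module L one has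
2χ(L) = (L·L) − (L·ω) + 2χ(O_X), where (A·B) = χ(O_X) − χ(A) − χ(B) + χ(A ⊗ B) is the intersection
number (packaged as FGA.intNum) and all dimensions are over k. (The published statement is for a
proper two-dimensional variety of local complete intersection over k, with Euler characteristics
over the field of global functions; this row assumes X projective over k and counts dimensions over
k, which multiplies both sides by the same degree.) -/
theorem result (k : Type u) [Field k] (X : Scheme.{u}) [X.Over (Spec (CommRingCat.of k))]
    [IsIntegral X] (hdim : topologicalKrullDim X = 2)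
    (hproj : ∃ (n : ℕ) (ι : X ⟶ CohB1.ProjSpace n k), IsClosedImmersion ι ∧ ι ≫ CohB1.ProjSpace.toSpec n k = (X ↘ (Spec (CommRingCat.of k))))
    (hlci : Dual3.IsLCIMor (X ↘ (Spec (CommRingCat.of k))))
    (ω : X.Modules) (hωcoh : Coh.IsCoh ω) (hωinv : PicF.IsInvertible ω) (t : Coh.HH X ω 2 →ₗ[k] k)
    (hdual : ∀ F : X.Modules, Coh.IsCoh F → ∀ ψ : Coh.HH X F 2 →ₗ[k] k,
        ∃! φ : F ⟶ ω, ∀ x : Coh.HH X F 2,
          ψ x = t (Sheaf.H.map ((SheafOfModules.toSheaf X.ringCatSheaf).map φ) 2 x))
    (L : X.Modules) (hL : PicF.IsInvertible L) :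
    2 * Curv2.euler k X L = FGA.intNum k X 2 ![L, L] (Coh.structureModule X) - FGA.intNum k X 2 ![L, ω] (Coh.structureModule X) + 2 * Curv2.euler k X (Coh.structureModule X) := by
  obtain ⟨N, ι, hι, hfac⟩ := hproj
  haveI := hι
  haveI := PnCoh.Chow.isProper_toSpec N k
  haveI : IsProper (X ↘ Spec (CommRingCat.of k)) := by
    rw [← hfac]
    infer_instance
  haveI := CurveCohLib.isNoetherian_of_proper (k := k) (X := X)
  haveI : HasExt.{u} X.Modules := IsGrothendieckAbelian.hasExt _
  have hk : Dual3.IsGorenstein (Spec (CommRingCat.of k)) :=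
    ⟨inferInstance, fun x => by
      haveI := GrpSchLib.isRegularLocalRing_stalk_of_smooth (K := k) (𝟙 (Spec (CommRingCat.of k))) x
      exact Groth.Agent.S0342.result _⟩
  have hG := Groth.Agent.S3623.result X (Spec (CommRingCat.of k)) (X ↘ Spec (CommRingCat.of k)) hlci hk
  have hCM : ∀ x : X, IsClosed ({x} : Set ↥X) →
      LocCoh.IsCohenMacaulayLocalRing (X.presheaf.stalk x) ∧ ringKrullDim (X.presheaf.stalk x) = (2 : ℕ) := by
    intro x hx
    haveI := hG.2 x
    refine ⟨Groth.Agent.S0341.result _, ?_⟩
    obtain ⟨b, hb, ⟨η, hη, hd⟩, hle⟩ := VarDim.exists_deg_add_stalk (X ↘ Spec (CommRingCat.of k)) x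
    have h2 : ((VarDim.deg (X ↘ Spec (CommRingCat.of k)) (genericPoint X) : ℕ∞) : WithBot ℕ∞) = 2 :=
      (VarDim.topologicalKrullDim_eq_deg_genericPoint (X ↘ Spec (CommRingCat.of k))).symm.trans hdim
    have h3 : VarDim.deg (X ↘ Spec (CommRingCat.of k)) (genericPoint X) = 2 :=
      ENat.natCast_inj.1 (WithBot.coe_injective (h2.trans rfl) :
        ((VarDim.deg (X ↘ Spec (CommRingCat.of k)) (genericPoint X) : ℕ∞)) = 2)
    have h1 := hle _ (genericPoint_specializes x)
    have h4 := VarDim.deg_le_of_specializes (X ↘ Spec (CommRingCat.of k)) (genericPoint_specializes η)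
    rw [DiagReg.deg_eq_zero (X ↘ Spec (CommRingCat.of k)) hx] at h1 hd
    rw [hb, show b = 2 by omega]
  exact SmoothDuality.riemann_roch_of hdim.le hωinv (fun F hF i hi =>
    (Groth.Agent.S15517.result k N 2 X ι hfac hdim hCM ω hωcoh t hdual F hF).1 i hi) hL

end Groth.Agent.S18999
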