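import Groth.Statements.S19001
import Groth.Agent.GSDeg.Scheme
import Mathlib.AlgebraicGeometry.Morphisms.Proper

set_option autoImplicit false
set_option backward.isDefEq.respectTransparency false
set_option backward.isDefEq.respectTransparency.types false
set_option linter.style.haveILetI false
universe u
open CategoryTheory CategoryTheory.Limits AlgebraicGeometry TensorProduct
open FBase

namespace Groth.Agent.S19001

/-- Let f : Z → X be a finite surjective morphism of integral schemes proper over a field k, with X
normal, and let d = [k(Z) : k(X)] be its degree on function fields (the residue fields at the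
generic point of Z and at its image, the generic point of X). Write k_X = H^0(X, O_X) and k_Z =
H^0(Z, O_Z) (fields, finite over k). If X is geometrically reduced over k_X — X ×_{k_X} E is reduced
for every field E over k_X, i.e. k(X) is separable over k_X — then [k_Z : k_X] divides d. (The
published statement does not assume that X is geometrically reduced over k_X; without that
hypothesis the divisibility fails: for k_0 = F_p(s, t), X the normal proper curve with function
field k_0(x, y), y^p = s + t x^p, and Z the projective line over k_0(s^{1/p}, t^{1/p}) mapping to X,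
one has d = p but [k_Z : k_X] = p^2.) -/
theorem result (k : Type u) [Field k]
    (X Z : Scheme.{u}) [X.Over (Spec (CommRingCat.of k))] [Z.Over (Spec (CommRingCat.of k))]
    [IsIntegral X] [IsIntegral Z]
    [IsProper (X ↘ Spec (CommRingCat.of k))] [IsProper (Z ↘ Spec (CommRingCat.of k))]
    (hXn : ∀ x : X, IsIntegrallyClosed (X.presheaf.stalk x))
    (f : Z ⟶ X) (hf : f ≫ (X ↘ Spec (CommRingCat.of k)) = Z ↘ Spec (CommRingCat.of k))
    [IsFinite f] [Surjective f]
    (hgr : ∀ (E : Type u) [Field E] (i : Γ(X, ⊤) →+* E),
      AlgebraicGeometry.IsReduced (pullback X.toSpecΓ (Spec.map (CommRingCat.ofHom i)))) :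
    letI := f.appTop.hom.toAlgebra;
    letI := (f.residueFieldMap (genericPoint Z)).hom.toAlgebra;
    Module.finrank Γ(X, ⊤) Γ(Z, ⊤) ∣ Module.finrank (X.residueField (f.base (genericPoint Z))) (Z.residueField (genericPoint Z)) := by
  letI := f.appTop.hom.toAlgebra
  set η := genericPoint Z
  letI := (f.residueFieldMap η).hom.toAlgebra
  have hFX : IsField Γ(X, ⊤) := isField_of_universallyClosed k (X ↘ Spec (CommRingCat.of k))
  have hFZ : IsField Γ(Z, ⊤) := isField_of_universallyClosed k (Z ↘ Spec (CommRingCat.of k))
  haveI : Module.Finite Γ(X, ⊤) Γ(Z, ⊤) := by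
    have h1 := finite_appTop_of_universallyClosed k (Z ↘ Spec (CommRingCat.of k))
    rw [← hf, Scheme.Hom.comp_appTop, CommRingCat.hom_comp] at h1
    exact RingHom.finite_algebraMap.1 (RingHom.Finite.of_comp_finite h1)
  have hξ : f η = genericPoint X := by
    refine ((genericPoint_spec X).eq ?_).symm
    show IsGenericPoint (f η) Set.univ
    have := (genericPoint_spec Z).image f.continuous
    rwa [Set.image_univ, f.surjective.range_eq, closure_univ] at this
  letI := (GSDeg.ev (f η)).toAlgebra
  letI := (GSDeg.ev η).toAlgebra
  letI : Algebra Γ(X, ⊤) (Z.residueField η) := ((GSDeg.ev η).comp f.appTop.hom).toAlgebra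
  haveI : IsScalarTower Γ(X, ⊤) Γ(Z, ⊤) (Z.residueField η) := IsScalarTower.of_algebraMap_eq' rfl
  haveI : IsScalarTower Γ(X, ⊤) (X.residueField (f η)) (Z.residueField η) :=
    IsScalarTower.of_algebraMap_eq' (by
      show (GSDeg.ev η).comp f.appTop.hom = ((X.presheaf.germ ⊤ (f η) trivial ≫ X.residue (f η)) ≫
        f.residueFieldMap η).hom
      rw [Category.assoc, Scheme.residue_residueFieldMap, ← Category.assoc, Scheme.Hom.germ_stalkMap]
      rfl)
  haveI : _root_.IsReduced (X.residueField (f η) ⊗[Γ(X, ⊤)] Γ(Z, ⊤)) := by
    letI := hFZ.toField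
    exact GSDeg.isReduced_tensor (f η) hξ Γ(Z, ⊤) f.appTop.hom hFX (hgr Γ(Z, ⊤) f.appTop.hom)
  exact GSDeg.finrank_dvd_of_isField Γ(X, ⊤) Γ(Z, ⊤) (X.residueField (f η)) (Z.residueField η) hFX hFZ
    (GSDeg.mem_range_of_isIntegralElem hXn (f η) hξ)

end Groth.Agent.S19001
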