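import Groth.Statements.S19004
import Mathlib
-- import your own Groth.Agent.* helpers here

set_option autoImplicit false
open GIT

namespace Groth.Agent.S19004

/-- For the group PGL(n) acting on the space of n × n matrices the T-quotient is (P^{n−1})^n with Chow
ring ℚ[t_1,…,t_n]/(t_1^n,…,t_n^n), the class c_top(g/t) is the product of all roots t_i − t_j (i ≠
j), and the computation in the proof shows that this product equals n!·t_1^{n−1}⋯t_n^{n−1} in that
ring. Stated here as the equivalent coefficient identity in ℤ[t_1,…,t_n]: the coefficient of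
t_1^{n−1}⋯t_n^{n−1} in the product over ordered pairs i ≠ j of (t_i − t_j) is n!. -/
theorem result (n : ℕ) :
    MvPolynomial.coeff (Finsupp.equivFunOnFinite.symm (fun _ : Fin n => n - 1))
      (∏ i : Fin n, ∏ j ∈ Finset.univ.erase i, (MvPolynomial.X i - MvPolynomial.X j : MvPolynomial (Fin n) ℤ)) = (n.factorial : ℤ) := by
  classical
  set v : Fin n → MvPolynomial (Fin n) ℤ := fun i => MvPolynomial.X i
  have h1 : (∏ i : Fin n, ∏ j ∈ Finset.univ.erase i, (v i - v j)) =
      (Matrix.vandermonde v).det * (Matrix.vandermonde fun i => -v i).det := by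
    rw [Matrix.det_vandermonde, Matrix.det_vandermonde]
    have hs : ∀ i : Fin n, (Finset.univ.erase i) = Finset.Iio i ∪ Finset.Ioi i := by
      intro i; ext j; simp [lt_or_lt_iff_ne]
    simp only [hs]
    rw [Finset.prod_congr rfl fun i _ => Finset.prod_union (Finset.disjoint_left.2 fun j hj hj' =>
      absurd (Finset.mem_Iio.1 hj) (not_lt.2 (Finset.mem_Ioi.1 hj').le))]
    rw [Finset.prod_mul_distrib]
    congr 1
    · rw [Finset.prod_comm' (s' := fun j => Finset.Ioi j) (t' := Finset.univ)]
      intro x y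
      simp
    · exact Finset.prod_congr rfl fun i _ => Finset.prod_congr rfl fun j _ => by ring
  have hsgn : ((Equiv.Perm.sign (Fin.revPerm : Equiv.Perm (Fin n)) : ℤ)) = (-1) ^ (∑ i : Fin n, (i : ℕ)) := by
    let w : Fin n → ℤ := fun i => (i : ℕ)
    have hd : (Matrix.vandermonde w).det ≠ 0 :=
      Matrix.det_vandermonde_ne_zero_iff.2 fun a b h => Fin.ext (by simpa [w] using h)
    have e1 : (Matrix.vandermonde fun i => w (Fin.revPerm i)).det =
        (Equiv.Perm.sign (Fin.revPerm : Equiv.Perm (Fin n)) : ℤ) * (Matrix.vandermonde w).det :=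
      Matrix.det_permute Fin.revPerm (Matrix.vandermonde w)
    have e2 : (Matrix.vandermonde fun i => w (Fin.revPerm i)).det =
        (-1) ^ (∑ i : Fin n, (i : ℕ)) * (Matrix.vandermonde w).det := by
      have e3 : (fun i => w (Fin.revPerm i)) = fun i => -w i - (-((n : ℤ) - 1)) := by
        funext i
        simp only [w, Fin.revPerm_apply, Fin.val_rev]
        omega
      rw [e3, Matrix.det_vandermonde_sub, ← Finset.prod_pow_eq_pow_sum, ← Matrix.det_mul_row]
      congr 1
      ext i j
      simp [Matrix.vandermonde, neg_pow (w i)]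
    exact mul_right_cancel₀ hd (e1.symm.trans e2)
  change MvPolynomial.coeff _ (∏ i : Fin n, ∏ j ∈ Finset.univ.erase i, (v i - v j)) = _
  rw [h1, Matrix.det_apply', Matrix.det_apply', Finset.sum_mul_sum]
  simp only [MvPolynomial.coeff_sum]
  let d : Equiv.Perm (Fin n) → (Fin n →₀ ℕ) := fun σ => ∑ i, Finsupp.single (σ i) (i : ℕ)
  have hd : ∀ (σ : Equiv.Perm (Fin n)) m, d σ m = ((σ.symm m : Fin n) : ℕ) := by
    intro σ m
    simp only [d, Finsupp.finsetSum_apply]
    rw [Finset.sum_eq_single (σ.symm m)]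
    · simp
    · intro i _ hi
      exact Finsupp.single_eq_of_ne fun h => hi (by rw [h]; simp)
    · simp
  have hterm : ∀ σ τ : Equiv.Perm (Fin n),
      ((Equiv.Perm.sign σ : ℤ) : MvPolynomial (Fin n) ℤ) * (∏ i, Matrix.vandermonde v (σ i) i) *
      (((Equiv.Perm.sign τ : ℤ) : MvPolynomial (Fin n) ℤ) * (∏ i, Matrix.vandermonde (fun i => -v i) (τ i) i)) =
      MvPolynomial.monomial (d σ + d τ)
        ((Equiv.Perm.sign σ : ℤ) * ((Equiv.Perm.sign τ : ℤ) * (-1) ^ (∑ i : Fin n, (i : ℕ)))) := by
    intro σ τ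
    have hp : ∀ ρ : Equiv.Perm (Fin n), (∏ i, v (ρ i) ^ (i : ℕ)) = MvPolynomial.monomial (d ρ) (1 : ℤ) := by
      intro ρ
      simp only [v, MvPolynomial.X_pow_eq_monomial, d]
      rw [MvPolynomial.monomial_sum_one]
    have hq : (∏ i, Matrix.vandermonde (fun i => -v i) (τ i) i) =
        MvPolynomial.C ((-1 : ℤ) ^ (∑ i : Fin n, (i : ℕ))) * MvPolynomial.monomial (d τ) (1 : ℤ) := by
      rw [← hp, map_pow, map_neg, map_one, ← Finset.prod_pow_eq_pow_sum, ← Finset.prod_mul_distrib]
      exact Finset.prod_congr rfl fun i _ => by simp [Matrix.vandermonde, neg_pow (v (τ i))]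
    rw [hq, show (∏ i, Matrix.vandermonde v (σ i) i) = MvPolynomial.monomial (d σ) (1 : ℤ) from hp σ,
      ← map_intCast (MvPolynomial.C (σ := Fin n) (R := ℤ)), ← map_intCast (MvPolynomial.C (σ := Fin n) (R := ℤ))]
    simp only [MvPolynomial.C_mul_monomial, MvPolynomial.monomial_mul, mul_one]
    simp only [Int.cast_eq]
  have hc : ∀ σ τ : Equiv.Perm (Fin n),
      d σ + d τ = Finsupp.equivFunOnFinite.symm (fun _ : Fin n => n - 1) ↔ τ = σ * Fin.revPerm := by
    intro σ τ
    constructor
    · intro h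
      apply Equiv.ext
      intro i
      have := DFunLike.congr_fun h (τ i)
      rw [Finsupp.add_apply, hd, hd, Equiv.symm_apply_apply, Finsupp.coe_equivFunOnFinite_symm] at this
      rw [Equiv.Perm.mul_apply, Fin.revPerm_apply, ← Equiv.symm_apply_eq]
      ext
      rw [Fin.val_rev]
      omega
    · rintro rfl
      ext m
      rw [Finsupp.add_apply, hd, hd, Finsupp.coe_equivFunOnFinite_symm]
      have : (σ * Fin.revPerm).symm m = Fin.rev (σ.symm m) := by
        rw [Equiv.symm_apply_eq, Equiv.Perm.mul_apply, Fin.revPerm_apply, Fin.rev_rev, Equiv.apply_symm_apply]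
      rw [this, Fin.val_rev]
      omega
  simp only [hterm, MvPolynomial.coeff_monomial, hc, Finset.sum_ite_eq', Finset.mem_univ, if_true,
    Equiv.Perm.sign_mul, Units.val_mul, hsgn]
  rw [Finset.sum_congr rfl (fun σ (_ : σ ∈ Finset.univ) => show _ = (1 : ℤ) by
    rcases Int.units_eq_one_or (Equiv.Perm.sign σ) with h | h <;>
      rcases neg_one_pow_eq_or ℤ (∑ i : Fin n, (i : ℕ)) with h' | h' <;> simp [h, h'])]
  simp [Fintype.card_perm]

end Groth.Agent.S19004
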