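import Groth.Statements.S19005
import Mathlib

set_option autoImplicit false
open scoped TensorProduct
open K2Cent

namespace Groth.Agent.S19005

/-- For abelian groups X and M and ε in M with 2ε = 0 (in the source X is the character group of a split
torus and ε is the class of −1 among the units), the map x ↦ (x ⊗ x, −(x ⊗ ε)) into (X ⊗ X) × (X ⊗
M) is quadratic over ℤ, i.e. it underlies an integer quadratic map with exactly these values. -/
theorem result (X M : Type*) [AddCommGroup X]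
    [AddCommGroup M] (ε : M) (hε : 2 • ε = 0) :
    ∃ R : QuadraticMap ℤ X (TensorProduct ℤ X X × TensorProduct ℤ X M),
      ∀ x : X, R x = (x ⊗ₜ[ℤ] x, -(x ⊗ₜ[ℤ] ε)) := by
  have h2 : ∀ (a : ℤ) (x : X), (a * a) • (x ⊗ₜ[ℤ] ε) = a • (x ⊗ₜ[ℤ] ε) := by
    intro a x
    obtain ⟨c, hc⟩ : (2 : ℤ) ∣ a * a - a := by
      rcases Int.even_or_odd a with ⟨b, hb⟩ | ⟨b, hb⟩
      · exact ⟨b * (2 * b - 1), by rw [hb]; ring⟩
      · exact ⟨b * (2 * b + 1), by rw [hb]; ring⟩
    have hε' : (2 : ℤ) • ε = 0 := by rw [← natCast_zsmul] at hε; exact_mod_cast hε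
    rw [← sub_eq_zero, ← sub_smul, hc, mul_comm, mul_smul, ← TensorProduct.tmul_smul, hε',
      TensorProduct.tmul_zero, smul_zero]
  refine ⟨{ toFun := fun x => (x ⊗ₜ[ℤ] x, -(x ⊗ₜ[ℤ] ε)), toFun_smul := ?_, exists_companion' := ?_ },
    fun x => rfl⟩
  · intro a x
    ext
    · simp [TensorProduct.smul_tmul', TensorProduct.tmul_smul, mul_smul]
    · simp [TensorProduct.smul_tmul', h2]
  · refine ⟨LinearMap.mk₂ ℤ (fun x y => (x ⊗ₜ[ℤ] y + y ⊗ₜ[ℤ] x, 0)) ?_ ?_ ?_ ?_, fun x y => ?_⟩
    · intro a b c; simp [TensorProduct.add_tmul, TensorProduct.tmul_add]; abel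
    · intro a b c; simp [TensorProduct.smul_tmul', TensorProduct.tmul_smul, smul_add]
    · intro a b c; simp [TensorProduct.add_tmul, TensorProduct.tmul_add]; abel
    · intro a b c; simp [TensorProduct.smul_tmul', TensorProduct.tmul_smul, smul_add]
    ext
    · simp [TensorProduct.add_tmul, TensorProduct.tmul_add]; abel
    · simp [TensorProduct.add_tmul]; abel

end Groth.Agent.S19005
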