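import Groth.Statements.S19007
import Groth.Agent.RootData.Quad
import Groth.Agent.RootData.Facts

set_option autoImplicit false
universe u v w x
open RootD

namespace Groth.Agent.S19007

open Groth.Agent.RootData

/-- Let P be a finite reduced crystallographic root pairing over an integral domain of characteristic
zero, b a base of P (a system of simple roots) and Q a quadratic form on the coweight module with
polar form B. Then Q is invariant under all root reflections (equivalently under the Weyl group) on
the span of the coroots if and only if for all pairs of distinct simple roots α_i ≠ α_j one has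
B(α_i^∨, α_j^∨) = ⟨α_j, α_i^∨⟩ Q(α_j^∨). (In the source the form is integer-valued on the lattice
spanned by the coroots and the condition says that the bilinear form lies in the kernel of the last
map of a three-term complex built from the Bruhat cells of codimension at most two; here the form
takes values in the base ring.) -/
theorem result {ι : Type u} {R : Type v} {M : Type w} {N : Type x} [CommRing R] [IsDomain R] [CharZero R]
    [AddCommGroup M] [Module R M] [AddCommGroup N] [Module R N] (P : RootPairing ι R M N)
    [Finite ι] [P.IsCrystallographic] [P.IsReduced] (b : P.Base) (Q : QuadraticMap R N R) :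
    (∀ i : ι, ∀ y ∈ Submodule.span R (Set.range P.coroot), Q (P.coreflection i y) = Q y) ↔
      ∀ i ∈ b.support, ∀ j ∈ b.support, i ≠ j →
        QuadraticMap.polar Q (P.coroot i) (P.coroot j) = P.pairing j i * Q (P.coroot j) := by
  classical
  set D := Submodule.span R (Set.range P.coroot)
  have hmem : ∀ i, P.coroot i ∈ D := fun i => Submodule.subset_span (Set.mem_range_self i)
  refine ⟨fun h i hi j hj hij => ?_, fun h => ?_⟩
  · rw [(quad_inv_iff P Q j D (hmem j)).mp (h j) _ (hmem i)]; rfl
  · -- the span of the simple coroots
    set L := Submodule.span R (P.coroot '' (b.support : Set ι))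
    have hL : ∀ a ∈ b.support, P.coroot a ∈ L := fun a ha => Submodule.subset_span ⟨a, ha, rfl⟩
    have hstab : ∀ a ∈ b.support, ∀ y ∈ L, P.coreflection a y ∈ L := fun a ha y hy => by
      rw [P.coreflection_apply]; exact sub_mem hy (Submodule.smul_mem _ _ (hL a ha))
    have hsimple : ∀ a ∈ b.support, ∀ y ∈ L, Q (P.coreflection a y) = Q y := by
      intro a ha
      refine (quad_inv_iff P Q a L (hL a ha)).mpr fun y hy => ?_
      induction hy using Submodule.span_induction with
      | mem x hx =>
        obtain ⟨c, hc, rfl⟩ := hx
        by_cases hca : c = a
        · subst hca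
          rw [QuadraticMap.polar_self, show P.root' c (P.coroot c) = 2 from P.root_coroot_two c, two_mul, two_smul]
        · exact h c hc a ha hca
      | zero => simp
      | add u v _ _ hu hv => rw [QuadraticMap.polar_add_left, hu, hv, map_add]; ring
      | smul c u _ hu => rw [QuadraticMap.polar_smul_left, hu, map_smul, smul_eq_mul, smul_eq_mul]; ring
    have hall : ∀ k, P.coroot k ∈ L ∧ ∀ y ∈ L, Q (P.coreflection k y) = Q y := by
      intro k
      refine b.induction_reflect (p := fun k => P.coroot k ∈ L ∧ ∀ y ∈ L, Q (P.coreflection k y) = Q y) k (fun i hi => ?_) (fun i hi => ⟨hL i hi, hsimple i hi⟩) fun i j hi hj => ⟨?_, fun y hy => ?_⟩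
      · refine ⟨?_, fun y hy => ?_⟩
        · rw [P.coroot_reflectionPerm, P.coreflection_apply_self]; exact neg_mem hi.1
        · have e : P.coreflection (P.reflectionPerm i i) y = P.coreflection i y := by
            rw [P.coreflection_apply, P.coreflection_apply, P.coroot_reflectionPerm, P.coreflection_apply_self,
              show P.root' (P.reflectionPerm i i) = -P.root' i from by
                ext z; show P.toLinearMap (P.root _) z = -P.toLinearMap (P.root i) z
                rw [root_neg, map_neg]; rfl]
            simp
          rw [e]; exact hi.2 y hy
      · rw [P.coroot_reflectionPerm]; exact hstab j hj _ hi.1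
      · have e : P.coreflection (P.reflectionPerm j i) y =
            P.coreflection j (P.coreflection i (P.coreflection j y)) :=
          congrFun (congrArg DFunLike.coe (P.flip.reflection_reflectionPerm (i := i) (j := j))) y
        have h2 : P.coreflection i (P.coreflection j y) ∈ L := by
          rw [P.coreflection_apply i]; exact sub_mem (hstab j hj y hy) (Submodule.smul_mem _ _ hi.1)
        rw [e, hsimple j hj _ h2, hi.2 _ (hstab j hj y hy), hsimple j hj y hy]
    have hDL : D ≤ L := Submodule.span_le.mpr (by rintro _ ⟨k, rfl⟩; exact (hall k).1)
    exact fun i y hy => (hall i).2 y (hDL hy)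

end Groth.Agent.S19007
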