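import Groth.Statements.S19008
import Mathlib.LinearAlgebra.RootSystem.Finite.Nondegenerate
import Mathlib.LinearAlgebra.RootSystem.Base
import Mathlib.Data.Fintype.EquivFin

set_option autoImplicit false
universe u v w x
open RootD

namespace Groth.Agent.S19008

/-- Let P be a finite reduced crystallographic root pairing over an integral domain of characteristic
zero and b a base (simple roots α_i, i in the support of b), with Cartan integers a_ij = ⟨α_i,
α_j^∨⟩. An integer-valued bilinear form C on the lattice with basis the simple coroots is an integer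
matrix C_ij = C(α_i^∨, α_j^∨), and the component of the last map of the complex at the pair (i, j),
i ≠ j, is C ↦ C(α_i^∨, α_j^∨) + C(α_j^∨, s_j(α_i^∨)) = C_ij + C_ji − a_ji C_jj; the pairs (i, j) and
(j, i) index the same component exactly when α_i and α_j are orthogonal. This map is surjective: for
every family of integers d_ij (i ≠ j in the support) with d_ij = d_ji whenever a_ij = 0 there is an
integer matrix C with C_ij + C_ji − a_ji C_jj = d_ij for all i ≠ j in the support. -/
theorem result {ι : Type u} {R : Type v} {M : Type w} {N : Type x} [CommRing R] [IsDomain R] [CharZero R]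
    [AddCommGroup M] [Module R M] [AddCommGroup N] [Module R N] (P : RootPairing ι R M N)
    [Finite ι] [P.IsCrystallographic] [P.IsReduced] (b : P.Base) (d : ι → ι → ℤ)
    (hd : ∀ i ∈ b.support, ∀ j ∈ b.support, i ≠ j → P.pairingIn ℤ i j = 0 → d i j = d j i) :
    ∃ C : ι → ι → ℤ, ∀ i ∈ b.support, ∀ j ∈ b.support, i ≠ j →
      C i j + C j i - P.pairingIn ℤ j i * C j j = d i j := by
  classical
  cases nonempty_fintype ι
  have key : ∀ T : Finset ι, (∀ i ∈ T, i ∈ b.support) → T.Nonempty →
      ∃ i ∈ T, -2 < ∑ j ∈ T.erase i, P.pairingIn ℤ i j := by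
    intro T hT hne
    by_contra hcon
    push Not at hcon
    have hrow : ∀ i ∈ T, ∑ j ∈ T, P.pairingIn ℤ i j ≤ 0 := fun i hi => by
      rw [← Finset.add_sum_erase _ _ hi, P.pairingIn_same]
      linarith [hcon i hi]
    let w : Submodule.span ℤ (Set.range P.flip.root) :=
      ∑ j ∈ T, ⟨P.flip.root j, Submodule.subset_span ⟨j, rfl⟩⟩
    have hw0 : w ≠ 0 := fun h => by
      obtain ⟨i₀, hi₀⟩ := hne
      have h' : ∑ j ∈ T, (1 : R) • P.coroot j = 0 := by simpa [w] using congrArg Subtype.val h
      exact one_ne_zero (linearIndepOn_iff'.mp b.linearIndepOn_coroot T (fun _ => (1 : R)) hT h' i₀ hi₀)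
    have hpos : 0 < (P.flip.RootFormIn ℤ).toQuadraticMap w := P.flip.posRootForm_rootFormIn_posDef ℤ w hw0
    have e2 : ∀ i j, algebraMap ℤ R (2 * P.flip.RootFormIn ℤ ⟨P.flip.root j, Submodule.subset_span ⟨j, rfl⟩⟩
        ⟨P.flip.root i, Submodule.subset_span ⟨i, rfl⟩⟩) =
        algebraMap ℤ R (P.pairingIn ℤ i j * P.flip.RootFormIn ℤ ⟨P.flip.root i, Submodule.subset_span ⟨i, rfl⟩⟩
          ⟨P.flip.root i, Submodule.subset_span ⟨i, rfl⟩⟩) := fun i j => by
      rw [map_mul, map_mul, P.algebraMap_pairingIn]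
      simp only [RootPairing.algebraMap_rootFormIn, map_ofNat]
      exact (P.flip.posRootForm ℤ).toInvariantForm.two_mul_apply_root_root j i
    have e3 : ∀ i j, (2 : ℤ) * P.flip.RootFormIn ℤ ⟨P.flip.root j, Submodule.subset_span ⟨j, rfl⟩⟩
        ⟨P.flip.root i, Submodule.subset_span ⟨i, rfl⟩⟩ = _ := fun i j =>
      FaithfulSMul.algebraMap_injective ℤ R (e2 i j)
    have hsum : 2 * (P.flip.RootFormIn ℤ).toQuadraticMap w ≤ 0 := by
      rw [LinearMap.BilinMap.toQuadraticMap_apply]
      simp only [w, map_sum, LinearMap.coe_sum, Finset.sum_apply, Finset.mul_sum, e3]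
      refine Finset.sum_nonpos fun i hi => ?_
      rw [← Finset.sum_mul]
      refine mul_nonpos_iff.mpr (Or.inr ⟨hrow i hi, ?_⟩)
      exact ((P.flip.posRootForm_rootFormIn_posDef ℤ).nonneg ⟨P.flip.root i, _⟩)
    linarith
  have main : ∀ T : Finset ι, (∀ i ∈ T, i ∈ b.support) → ∃ x : ι → ℤ, ∀ i ∈ T, ∀ j ∈ T, i ≠ j →
      d i j + P.pairingIn ℤ j i * x j = d j i + P.pairingIn ℤ i j * x i := by
    intro T
    induction T using Finset.strongInduction with
    | _ T ih =>
      intro hT
      rcases T.eq_empty_or_nonempty with rfl | hne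
      · exact ⟨0, fun i hi => absurd hi (Finset.notMem_empty i)⟩
      obtain ⟨i, hi, hsum⟩ := key T hT hne
      obtain ⟨x, hx⟩ := ih (T.erase i) (Finset.erase_ssubset hi) fun j hj => hT j (Finset.mem_of_mem_erase hj)
      have hnp : ∀ j ∈ T.erase i, P.pairingIn ℤ i j ≤ 0 := fun j hj =>
        b.pairingIn_le_zero_of_ne (Finset.ne_of_mem_erase hj).symm (hT i hi) (hT j (Finset.mem_of_mem_erase hj))
      have horth : ∀ j ∈ T.erase i, P.pairingIn ℤ i j = 0 → P.pairingIn ℤ j i = 0 ∧ d i j = d j i := fun j hj h =>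
        ⟨by
          have e := (P.posRootForm ℤ).pairingIn_mul_eq_pairingIn_mul_swap i j
          rw [h, zero_mul] at e
          exact (mul_eq_zero.mp e).resolve_right ((P.posRootForm ℤ).rootLength_pos i).ne', hd i (hT i hi) j (hT j (Finset.mem_of_mem_erase hj))
          (Finset.ne_of_mem_erase hj).symm h⟩
      obtain ⟨v, hv⟩ : ∃ v : ℤ, ∀ j ∈ T.erase i,
          d i j + P.pairingIn ℤ j i * x j = d j i + P.pairingIn ℤ i j * v := by
        by_cases h : ∀ j ∈ T.erase i, P.pairingIn ℤ i j = 0
        · exact ⟨0, fun j hj => by obtain ⟨h1, h2⟩ := horth j hj (h j hj); rw [h1, h2, h j hj]; ring⟩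
        push Not at h
        obtain ⟨j₀, hj₀, hne₀⟩ := h
        have hrest := Finset.add_sum_erase (T.erase i) (fun j => P.pairingIn ℤ i j) hj₀
        have hle : ∑ j ∈ (T.erase i).erase j₀, P.pairingIn ℤ i j ≤ 0 :=
          Finset.sum_nonpos fun j hj => hnp j (Finset.mem_of_mem_erase hj)
        have h₀ : P.pairingIn ℤ i j₀ = -1 := by have := hnp j₀ hj₀; omega
        have h0 : ∑ j ∈ (T.erase i).erase j₀, P.pairingIn ℤ i j = 0 := by omega
        refine ⟨d j₀ i - d i j₀ - P.pairingIn ℤ j₀ i * x j₀, fun j hj => ?_⟩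
        by_cases hjj : j = j₀
        · subst hjj; rw [h₀]; ring
        · have hz := (Finset.sum_eq_zero_iff_of_nonpos fun j hj => hnp j (Finset.mem_of_mem_erase hj)).mp h0 j
            (Finset.mem_erase.mpr ⟨hjj, hj⟩)
          obtain ⟨h1, h2⟩ := horth j hj hz
          rw [h1, h2, hz]; ring
      refine ⟨Function.update x i v, fun a ha c hc hac => ?_⟩
      by_cases hai : a = i
      · subst hai
        rw [Function.update_self, Function.update_of_ne hac.symm]
        exact hv c (Finset.mem_erase.mpr ⟨hac.symm, hc⟩)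
      · by_cases hci : c = i
        · subst hci
          rw [Function.update_self, Function.update_of_ne hai]
          exact (hv a (Finset.mem_erase.mpr ⟨hai, ha⟩)).symm
        · rw [Function.update_of_ne hai, Function.update_of_ne hci]
          exact hx a (Finset.mem_erase.mpr ⟨hai, ha⟩) c (Finset.mem_erase.mpr ⟨hci, hc⟩) hac
  obtain ⟨x, hx⟩ := main (Finset.univ.filter fun i => i ∈ b.support) fun i hi => (Finset.mem_filter.mp hi).2
  let n := Fintype.equivFin ι
  refine ⟨fun i j => if i = j then x i else if n i < n j then d i j + P.pairingIn ℤ j i * x j else 0,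
    fun i hi j hj hij => ?_⟩
  have h := hx i (by simp [hi]) j (by simp [hj]) hij
  simp only [if_neg hij, if_neg hij.symm, if_true]
  rcases lt_trichotomy (n i) (n j) with h' | h' | h'
  · rw [if_pos h', if_neg h'.not_gt]; ring
  · exact absurd (n.injective h') hij
  · rw [if_neg h'.not_gt, if_pos h']; linarith

end Groth.Agent.S19008
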