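import Groth.Statements.S19009
import Groth.Agent.RootData.Quad

set_option autoImplicit false
universe u v w x
open RootD

namespace Groth.Agent.S19009

open Groth.Agent.RootData

/-- Let P be a root pairing over an integral domain R of characteristic zero (roots α acting on the
coweight module N through reflections y ↦ y − ⟨α, y⟩ α^∨), D ⊆ N a submodule containing every coroot
and such that every element of D has a positive integer multiple in the span of the coroots (the
derived part), and Y₀ a complement of D in N. Let Q_d be a quadratic form on N whose restriction to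
D is invariant under all root reflections. Then there is a quadratic form on N, invariant under all
root reflections and agreeing with Q_d on D, if and only if there is an R-bilinear form Φ on N with
Φ(y₀, α^∨) = ⟨α, y₀⟩ Q_d(α^∨) for all y₀ in Y₀ and all roots α. (In the source R = ℤ, N = Y₀ ⊕ Y_der
is the cocharacter lattice of a split reductive group, and the condition is phrased as integrality
on Y₀ × Y_der of the pairing y₀, y ↦ B(q(y₀), y) deduced from the polar form B of Q_d; that pairing
is characterised by the displayed values on coroots, only the values of Φ on Y₀ × D matter, and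
forms take values in R here.) -/
theorem result {ι : Type u} {R : Type v} {M : Type w} {N : Type x} [CommRing R] [IsDomain R] [CharZero R]
    [AddCommGroup M] [Module R M] [AddCommGroup N] [Module R N] (P : RootPairing ι R M N)
    (D Y₀ : Submodule R N) (hD : ∀ i : ι, P.coroot i ∈ D)
    (hDsat : ∀ y ∈ D, ∃ n : ℕ, 0 < n ∧ n • y ∈ Submodule.span R (Set.range P.coroot))
    (hc : IsCompl Y₀ D)
    (Qd : QuadraticMap R N R) (hQd : ∀ i : ι, ∀ y ∈ D, Qd (P.coreflection i y) = Qd y) :
    (∃ Q : QuadraticMap R N R, (∀ (i : ι) (y : N), Q (P.coreflection i y) = Q y) ∧ ∀ y ∈ D, Q y = Qd y) ↔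
      ∃ Φ : N →ₗ[R] N →ₗ[R] R, ∀ y₀ ∈ Y₀, ∀ i : ι,
        Φ y₀ (P.coroot i) = P.root' i y₀ * Qd (P.coroot i) := by
  refine ⟨fun ⟨Q, hQ, hQD⟩ => ⟨QuadraticMap.polarBilin Q, fun y₀ _ i => ?_⟩, fun ⟨Φ, hΦ⟩ => ?_⟩
  · show QuadraticMap.polar Q y₀ (P.coroot i) = _
    rw [(quad_inv_iff_top P Q i).mp (hQ i) y₀, hQD _ (hD i)]
  · exact quad_extend P D Y₀ hD hc Qd hQd Φ hΦ

end Groth.Agent.S19009
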