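import Groth.Statements.S19010
import Groth.Agent.RootData.Quad

set_option autoImplicit false
universe u v w x
open RootD

namespace Groth.Agent.S19010

open Groth.Agent.RootData

/-- Let P be a root pairing over an integral domain R of characteristic zero (roots α acting on the
coweight module N through reflections y ↦ y − ⟨α, y⟩ α^∨), D ⊆ N a submodule containing every coroot
and such that every element of D has a positive integer multiple in the span of the coroots (the
derived part), and Y₀ a complement of D in N. Let Q' be a quadratic form on N invariant under all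
root reflections. Then restriction to Y₀ is a bijection from the set of quadratic forms on N that
are invariant under all root reflections and agree with Q' on D onto the set of all quadratic forms
on Y₀. (In the source R = ℤ and N = Y₀ ⊕ Y_der is the cocharacter lattice of a split reductive
group; forms take values in R here.) -/
theorem result {ι : Type u} {R : Type v} {M : Type w} {N : Type x} [CommRing R] [IsDomain R] [CharZero R]
    [AddCommGroup M] [Module R M] [AddCommGroup N] [Module R N] (P : RootPairing ι R M N)
    (D Y₀ : Submodule R N) (hD : ∀ i : ι, P.coroot i ∈ D)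
    (hDsat : ∀ y ∈ D, ∃ n : ℕ, 0 < n ∧ n • y ∈ Submodule.span R (Set.range P.coroot))
    (hc : IsCompl Y₀ D)
    (Q' : QuadraticMap R N R) (hQ' : ∀ (i : ι) (y : N), Q' (P.coreflection i y) = Q' y) :
    Set.BijOn (fun Q : QuadraticMap R N R => Q.comp Y₀.subtype)
      {Q | (∀ (i : ι) (y : N), Q (P.coreflection i y) = Q y) ∧ ∀ y ∈ D, Q y = Q' y} Set.univ := by
  let p₀ : N →ₗ[R] N := Y₀.projection D hc
  refine ⟨fun Q _ => Set.mem_univ _, fun Q₁ h₁ Q₂ h₂ he => ?_, fun q _ => ?_⟩
  · set E := Q₁ - Q₂
    have hED : ∀ d ∈ D, E d = 0 := fun d hd => by simp [E, h₁.2 d hd, h₂.2 d hd]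
    have hEY : ∀ y ∈ Y₀, E y = 0 := fun y hy => by
      have : Q₁ y = Q₂ y := congrArg (fun q : QuadraticMap R Y₀ R => q ⟨y, hy⟩) he
      simp [E, this]
    have hinv : ∀ i y, E (P.coreflection i y) = E y := fun i y => by simp [E, h₁.1 i y, h₂.1 i y]
    have hpol : ∀ y i, QuadraticMap.polar E y (P.coroot i) = 0 := fun y i => by
      rw [(quad_inv_iff_top P E i).mp (hinv i) y, hED _ (hD i), mul_zero]
    have hpolD : ∀ y, ∀ d ∈ D, QuadraticMap.polar E y d = 0 := by
      intro y d hd
      obtain ⟨n, hn, hmem⟩ := hDsat d hd
      have := polar_zero_of_mem_span P E (hpol y) hmem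
      rw [← Nat.cast_smul_eq_nsmul R, QuadraticMap.polar_smul_right, smul_eq_mul] at this
      exact (mul_eq_zero.mp this).resolve_left (Nat.cast_ne_zero.mpr hn.ne')
    ext x
    obtain ⟨a, ha, d, hd, rfl⟩ := Submodule.mem_sup.mp (show x ∈ Y₀ ⊔ D by rw [hc.sup_eq_top]; trivial)
    have h0 : E (a + d) = 0 := by
      rw [show E (a + d) = E a + E d + QuadraticMap.polar E a d from QuadraticMap.map_add _ _ _, hEY a ha, hED d hd, hpolD a d hd]; simp
    exact sub_eq_zero.mp (by simpa [E] using h0)
  · let p : N →ₗ[R] Y₀ := Y₀.projectionOnto D hc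
    have hp0 : ∀ d ∈ D, p d = 0 := fun d hd => Submodule.projectionOnto_apply_eq_zero_iff hc |>.mpr hd
    have hpY : ∀ y : Y₀, p y = y := fun y => Submodule.projectionOnto_apply_left hc y
    refine ⟨Q' + (q - Q'.comp Y₀.subtype).comp p, ⟨fun i y => ?_, fun y hy => by simp [hp0 y hy]⟩, ?_⟩
    · have : p (P.coreflection i y) = p y := by
        rw [P.coreflection_apply, map_sub, map_smul, hp0 _ (hD i), smul_zero, sub_zero]
      simp [hQ', this]
    · ext y
      simp [hpY y]

end Groth.Agent.S19010
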