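import Groth.Statements.S19011
import Groth.Agent.RootData.Facts
import Groth.Agent.RootData.Lengths

set_option autoImplicit false
universe u v w x
open RootD

namespace Groth.Agent.S19011

open Groth.Agent.RootData

/-- For a finite reduced crystallographic root pairing over an integral domain of characteristic zero,
the additive group generated by the coroots admits the presentation with one generator [β] for each
root β and the relations [s_α(β)] = [β] − ⟨α, β^∨⟩ [α] for all roots α, β, where ⟨α, β^∨⟩ is the
Cartan integer. Concretely: the kernel of the ℤ-linear map from the free abelian group on the index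
type of the roots to the coweight module sending the generator of index β to the coroot β^∨ is the
subgroup generated by the elements [s_α(β)] − [β] + ⟨α, β^∨⟩ [α]. (The source states this for the
cocharacter lattice of a split semi-simple simply connected group, which is the group generated by
the coroots.) -/
theorem result {ι : Type u} {R : Type v} {M : Type w} {N : Type x} [CommRing R] [IsDomain R] [CharZero R]
    [AddCommGroup M] [Module R M] [AddCommGroup N] [Module R N] (P : RootPairing ι R M N)
    [Finite ι] [P.IsCrystallographic] [P.IsReduced] :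
    LinearMap.ker (Finsupp.linearCombination ℤ (fun i : ι => (P.coroot i : N))) =
      Submodule.span ℤ (Set.range fun p : ι × ι =>
        Finsupp.single (P.reflectionPerm p.1 p.2) (1 : ℤ) - Finsupp.single p.2 1 +
          P.pairingIn ℤ p.1 p.2 • Finsupp.single p.1 1) := by
  classical
  have := Fintype.ofFinite ι
  obtain ⟨Δ, h⟩ := exists_simple P
  refine le_antisymm (fun x hx => ?_) (Submodule.span_le.mpr ?_)
  · set K := Submodule.span ℤ (Set.range fun p : ι × ι =>
        Finsupp.single (P.reflectionPerm p.1 p.2) (1 : ℤ) - Finsupp.single p.2 1 +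
          P.pairingIn ℤ p.1 p.2 • Finsupp.single p.1 1)
    set G := K ⊔ Submodule.span ℤ ((fun a => Finsupp.single a (1 : ℤ)) '' Δ)
    have hrel : ∀ a k, Finsupp.single (P.reflectionPerm a k) (1 : ℤ) - Finsupp.single k 1 +
        P.pairingIn ℤ a k • Finsupp.single a 1 ∈ G := fun a k =>
      Submodule.mem_sup_left (Submodule.subset_span ⟨(a, k), rfl⟩)
    have hΔ : ∀ a ∈ Δ, Finsupp.single a (1 : ℤ) ∈ G := fun a ha =>
      Submodule.mem_sup_right (Submodule.subset_span ⟨a, ha, rfl⟩)
    have hall : ∀ k, Finsupp.single k (1 : ℤ) ∈ G := by
      intro k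
      obtain ⟨g, hg, a, ha, rfl⟩ := h.indiv_conj (isIndiv_of_reduced k)
      rw [← h.gen_eq_weylGroup] at hg
      obtain ⟨l, hl, rfl⟩ := exists_word hg
      induction l with
      | nil => simpa [word] using hΔ a ha
      | cons c t ih =>
        have hprev := ih (fun x hx => hl x (List.mem_cons_of_mem _ hx)) (word_mem_gen fun x hx => hl x (List.mem_cons_of_mem _ hx))
        rw [word_cons, mul_smul, refl_smul_idx]
        have := sub_mem (hrel c (word P t • a)) (Submodule.smul_mem G (P.pairingIn ℤ c (word P t • a)) (hΔ c (hl c List.mem_cons_self)))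
        rw [add_sub_cancel_right] at this
        simpa using add_mem this hprev
    have hxG : x ∈ G := by
      rw [← Finsupp.sum_single x]
      refine Submodule.sum_mem _ fun k _ => ?_
      rw [← Finsupp.smul_single_one]
      exact Submodule.smul_mem _ _ (hall k)
    obtain ⟨u, hu, v, hv, rfl⟩ := Submodule.mem_sup.mp hxG
    have hKker : ∀ u ∈ K, Finsupp.linearCombination ℤ (fun i : ι => (P.coroot i : N)) u = 0 := by
      intro u hu
      induction hu using Submodule.span_induction with
      | mem y hy =>
        obtain ⟨⟨a, k⟩, rfl⟩ := hy
        simp [P.coroot_reflectionPerm, P.coreflection_apply_coroot, ← P.algebraMap_pairingIn ℤ, Int.cast_smul_eq_zsmul]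
      | zero => simp
      | add y z _ _ hy hz => simp [hy, hz]
      | smul c y _ hy => simp [hy]
    rw [LinearMap.mem_ker, map_add, hKker u hu, zero_add] at hx
    rw [← Finsupp.supported_eq_span_single] at hv
    have hv0 : v = 0 := by
      have hvs : ∀ a, a ∉ Δ → v a = 0 := fun a ha => Finsupp.notMem_support_iff.mp fun hh => ha (hv hh)
      have hc : ∀ k, ∑ a, v a * nn P k a = 0 := fun k => by
        apply Int.cast_injective (α := R)
        have hk := congrArg (P.toLinearMap (P.root k)) hx
        rw [Finsupp.linearCombination_apply, Finsupp.sum_fintype _ _ (by simp), map_sum, map_zero] at hk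
        rw [Int.cast_sum, Int.cast_zero, ← hk]
        refine Finset.sum_congr rfl fun a _ => ?_
        rw [Int.cast_mul, nn_cast, map_zsmul, zsmul_eq_mul, P.root_coroot_eq_pairing]
      set d : ι → ℤ := fun a => v a * ∏ b ∈ Finset.univ.erase a, bz P b b
      have hd : ∀ k, ∑ a, d a * nn P a k = 0 := by
        intro k
        have : (∑ a, d a * nn P a k) * bz P k k = (∑ a, v a * nn P k a) * ∏ b, bz P b b := by
          simp only [d, Finset.sum_mul]
          refine Finset.sum_congr rfl fun a _ => ?_
          rw [← Finset.mul_prod_erase Finset.univ (fun b => bz P b b) (Finset.mem_univ a)]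
          linear_combination (v a * ∏ b ∈ Finset.univ.erase a, bz P b b) * bz_swap (P := P) a k
        rw [hc k, zero_mul] at this
        exact (mul_eq_zero.mp this).resolve_right (bz_self_pos P k).ne'
      have hz : d = 0 := li_comb_eq_zero h.li (fun a ha => by simp [d, hvs a ha]) ((comb_zero_iff P d).mpr hd)
      ext a
      have := congrFun hz a
      simp only [d, Pi.zero_apply, mul_eq_zero] at this
      simpa using this.resolve_right (Finset.prod_ne_zero_iff.mpr fun b _ => (bz_self_pos P b).ne')
    rw [hv0, add_zero]; exact hu
  · rintro _ ⟨⟨a, k⟩, rfl⟩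
    simp [P.coroot_reflectionPerm, P.coreflection_apply_coroot, ← P.algebraMap_pairingIn ℤ, Int.cast_smul_eq_zsmul]

end Groth.Agent.S19011
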