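import Groth.Statements.S19012
import Groth.Agent.RootData.Quad

set_option autoImplicit false
universe u v w x
open RootD

namespace Groth.Agent.S19012

open Groth.Agent.RootData

/-- Let P be a finite reduced crystallographic root pairing over a field of characteristic zero which is
irreducible, and b a base. A quadratic form on the coweight module that is invariant under all root
reflections and vanishes on some simple coroot is zero; in other words an invariant form is
determined by its value on a single simple coroot. (The source proves, component by component of the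
Dynkin diagram, that an invariant integer-valued form on the coroot lattice with prescribed value on
the first simple coroot of each component is unique; here the system is irreducible, the coroots
span the coweight module, and forms take values in the base field.) -/
theorem result {ι : Type u} {K : Type v} {M : Type w} {N : Type x} [Field K] [CharZero K]
    [AddCommGroup M] [Module K M] [AddCommGroup N] [Module K N] (P : RootPairing ι K M N)
    [Finite ι] [P.IsCrystallographic] [P.IsReduced] [P.IsIrreducible] (b : P.Base)
    (Q : QuadraticMap K N K) (hQ : ∀ (i : ι) (y : N), Q (P.coreflection i y) = Q y)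
    (i₀ : ι) (hi₀ : i₀ ∈ b.support) (h0 : Q (P.coroot i₀) = 0) : Q = 0 := by
  have hpol : ∀ y i, QuadraticMap.polar Q y (P.coroot i) = P.root' i y * Q (P.coroot i) :=
    fun y i => (quad_inv_iff_top P Q i).mp (hQ i) y
  set Z : Set ι := {k | Q (P.coroot k) = 0}
  have horth : ∀ l ∉ Z, ∀ k ∈ Z, P.pairing k l = 0 := by
    intro l hl k hk
    have h1 := hpol (P.coroot k) l
    rw [QuadraticMap.polar_comm, hpol (P.coroot l) k, show Q (P.coroot k) = 0 from hk, mul_zero] at h1
    have h2 : P.pairing l k = 0 := (mul_eq_zero.mp h1.symm).resolve_right hl
    exact P.pairing_eq_zero_iff'.mp h2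
  have hrefl : ∀ i, ∀ k ∈ Z, P.reflectionPerm i k ∈ Z := fun i k hk => by
    show Q _ = 0
    rw [P.coroot_reflectionPerm, hQ]; exact hk
  have hall : ∀ l, Q (P.coroot l) = 0 := by
    intro l
    by_contra hl
    set q := Submodule.span K (P.root '' Z)
    have htop : q = ⊤ := by
      refine RootPairing.IsIrreducible.eq_top_of_invtSubmodule_reflection (P := P) q (fun i => ?_) ?_
      · rw [Module.End.mem_invtSubmodule, Submodule.span_le]
        rintro _ ⟨k, hk, rfl⟩
        show P.reflection i (P.root k) ∈ q
        rw [← P.root_reflectionPerm]
        exact Submodule.subset_span ⟨_, hrefl i k hk, rfl⟩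
      · exact fun e => P.ne_zero i₀ ((Submodule.mem_bot K).mp (e ▸ Submodule.subset_span ⟨i₀, h0, rfl⟩))
    have hle : q ≤ LinearMap.ker (P.coroot' l) := Submodule.span_le.mpr (by
      rintro _ ⟨k, hk, rfl⟩; exact horth l hl k hk)
    have := hle (show P.root l ∈ q by rw [htop]; trivial)
    rw [LinearMap.mem_ker, P.root_coroot'_eq_pairing, P.pairing_same] at this
    exact two_ne_zero this
  have hD : Submodule.span K (Set.range P.coroot) = ⊤ := by
    refine RootPairing.IsIrreducible.eq_top_of_invtSubmodule_coreflection (P := P) _ (fun i => ?_) ?_
    · rw [Module.End.mem_invtSubmodule, Submodule.span_le]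
      rintro _ ⟨k, rfl⟩
      show P.coreflection i (P.coroot k) ∈ Submodule.span K (Set.range P.coroot)
      rw [← P.coroot_reflectionPerm]
      exact Submodule.subset_span (Set.mem_range_self _)
    · exact fun e => P.flip.ne_zero i₀ ((Submodule.mem_bot K).mp (e ▸ Submodule.subset_span (Set.mem_range_self i₀)))
  ext y
  have := polar_zero_of_mem_span P Q (y := y) (fun i => by rw [hpol, hall, mul_zero]) (show y ∈ _ by rw [hD]; trivial : y ∈ Submodule.span K (Set.range P.coroot))
  rw [QuadraticMap.polar_self, two_smul, ← two_mul] at this
  simpa using (mul_eq_zero.mp this).resolve_left two_ne_zero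

end Groth.Agent.S19012
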