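import Groth.Statements.S19013
import Groth.Agent.MilKLib.Kernel

set_option autoImplicit false
open Groth.Agent.MilKLib
universe u v
open MilnorK

namespace Groth.Agent.S19013

/-- Let A ⊆ B be discrete valuation rings, the inclusion being a local homomorphism, with fraction
fields E ⊆ F compatibly, with the induced homomorphism of residue fields κ(A) → κ(B), and with
ramification index e, the natural number such that the maximal ideal of A generates the e-th power
of the maximal ideal of B. Let ∂_A : K_{n+1}(E) → K_n(κ(A)) and ∂_B : K_{n+1}(F) → K_n(κ(B)) be the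
residue maps (tame symbols) on Milnor K-groups. Then for every x in K_{n+1}(E) one has ∂_B(x_F) = e
· (∂_A x)_{κ(B)}, where the subscripts denote the change-of-fields maps along E → F and κ(A) → κ(B).
(The published statement concerns discrete valuations of geometric type on fields finitely generated
over a base field; it is stated here for an arbitrary pair of discrete valuation rings, which is all
the printed computation uses.) -/
theorem result
    (A B : Type u) [CommRing A] [IsDomain A] [IsDiscreteValuationRing A]
    [CommRing B] [IsDomain B] [IsDiscreteValuationRing B] [Algebra A B] [IsLocalHom (algebraMap A B)]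
    (E F : Type v) [Field E] [Field F] [Algebra A E] [IsFractionRing A E] [Algebra B F] [IsFractionRing B F]
    [Algebra E F] [Algebra A F] [IsScalarTower A E F] [IsScalarTower A B F]
    (e : ℕ) (he : Ideal.map (algebraMap A B) (IsLocalRing.maximalIdeal A) = IsLocalRing.maximalIdeal B ^ e)
    (n : ℕ) (dA : MilK.K E (n + 1) →+ MilK.K (IsLocalRing.ResidueField A) n) (hdA : MilK.IsTameSymbol A E n dA)
    (dB : MilK.K F (n + 1) →+ MilK.K (IsLocalRing.ResidueField B) n) (hdB : MilK.IsTameSymbol B F n dB)
    (x : MilK.K E (n + 1)) :
    dB (MilK.map (algebraMap E F) (n + 1) x) =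
      e • MilK.map (IsLocalRing.ResidueField.map (algebraMap A B)) n (dA x) := by
  obtain ⟨a, ha⟩ := IsDiscreteValuationRing.exists_irreducible A
  obtain ⟨b, hb⟩ := IsDiscreteValuationRing.exists_irreducible B
  obtain rfl := eq_tame hb hdB
  have hu : ∀ u : Aˣ, Units.map (algebraMap E F : E →* F) (MilK.unitToFrac A E u) =
      MilK.unitToFrac B F (Units.map (algebraMap A B : A →* B) u) := fun u => Units.ext (by
    simp [← IsScalarTower.algebraMap_apply])
  refine gen_induction ha (((tame F hb n).comp (MilK.map (algebraMap E F) (n + 1))).eqLocus
    (e • (MilK.map (IsLocalRing.ResidueField.map (algebraMap A B)) n).comp dA)) (fun u => ?_) (fun u => ?_) x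
  · show tame F hb n (MilK.map (algebraMap E F) (n + 1) (MilK.symbol fun i => MilK.unitToFrac A E (u i))) =
      e • MilK.map (IsLocalRing.ResidueField.map (algebraMap A B)) n
        (dA (MilK.symbol fun i => MilK.unitToFrac A E (u i)))
    rw [tameSymbol_units ha hdA, map_zero, smul_zero, MilK.map_symbol]
    simp only [hu]
    exact tame_units hb _
  · show tame F hb n (MilK.map (algebraMap E F) (n + 1)
        (lmul n (MilK.unitFrac A E a ha.ne_zero) (MilK.symbol fun i => MilK.unitToFrac A E (u i)))) =
      e • MilK.map (IsLocalRing.ResidueField.map (algebraMap A B)) n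
        (dA (lmul n (MilK.unitFrac A E a ha.ne_zero) (MilK.symbol fun i => MilK.unitToFrac A E (u i))))
    rw [map_lmul, MilK.map_symbol]
    simp only [hu]
    rw [lmul_symbol (MilK.unitFrac A E a ha.ne_zero), hdA a ha, MilK.map_symbol]
    have hspan : Associated (b ^ e) (algebraMap A B a) := by
      rw [← Ideal.span_singleton_eq_span_singleton, ← Ideal.span_singleton_pow, ← hb.maximalIdeal_eq, ← he,
        ha.maximalIdeal_eq, Ideal.map_span, Set.image_singleton]
    obtain ⟨w, hw⟩ := hspan
    have hpow : Units.map (algebraMap E F : E →* F) (MilK.unitFrac A E a ha.ne_zero) =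
        MilK.unitFrac B F b hb.ne_zero ^ (e : ℤ) * MilK.unitToFrac B F w := Units.ext (by
      simp [← IsScalarTower.algebraMap_apply, IsScalarTower.algebraMap_apply A B F, ← hw])
    rw [hpow, lmul_mul, lmul_zpow, map_add, map_zsmul, natCast_zsmul, lmul_symbol, lmul_symbol,
      cons_units, tame_units, add_zero, isTameSymbol_tame hb n b hb]
    congr 2

end Groth.Agent.S19013
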