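import Groth.Statements.S19017
import Groth.Agent.CycLib.MayerVietoris
-- import your own Groth.Agent.* helpers here

set_option autoImplicit false
universe u
open CategoryTheory AlgebraicGeometry
open IntTh

namespace Groth.Agent.S19017

/-- Let k be an arbitrary field and X a scheme separated and of finite type over k, with the dimension
function δ induced from Spec k. Let i_1 : X_1 → X and i_2 : X_2 → X be closed subschemes whose
images cover X, and let Y be their intersection: closed immersions j_1 : Y → X_1, j_2 : Y → X_2 with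
i_1 ∘ j_1 = i_2 ∘ j_2 whose image in X is the intersection of the images of X_1 and X_2. Then the
sequence CH_n(Y) → CH_n(X_1) ⊕ CH_n(X_2) → CH_n(X) → 0, with first map γ ↦ (j_{1*}γ, −j_{2*}γ) and
second map the sum of the push-forwards, is exact for every integer n: every n-cycle on X is a sum
i_{1*}α_1 + i_{2*}α_2 of n-cycles on X_1 and X_2, and whenever such a sum is rationally equivalent
to zero on X there is an n-cycle γ on Y with α_1 rationally equivalent to j_{1*}γ on X_1 and α_2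
rationally equivalent to −j_{2*}γ on X_2. (The published statement does not require the two closed
subschemes to cover X; without that requirement the surjectivity fails already for two empty closed
subschemes of a point, and the printed argument uses the covering, so it is assumed here. The
published statement also calls the sequence one of rings graded by codimension; stated here is the
additive sequence graded by dimension, which is what the printed argument gives.) -/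
theorem result (k : Type u) [Field k]
    (X : Scheme.{u}) [X.Over (Spec (CommRingCat.of k))]
    [IsSeparated (X ↘ Spec (CommRingCat.of k))] [LocallyOfFiniteType (X ↘ Spec (CommRingCat.of k))]
    [QuasiCompact (X ↘ Spec (CommRingCat.of k))]
    (δ : X → ℤ) (hδ : Cyc.DeltaCompat (X ↘ Spec (CommRingCat.of k)) δ (fun _ => 0))
    {X₁ X₂ Y : Scheme.{u}} (i₁ : X₁ ⟶ X) (i₂ : X₂ ⟶ X) [IsClosedImmersion i₁] [IsClosedImmersion i₂]
    (hcov : Set.range i₁ ∪ Set.range i₂ = Set.univ)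
    (j₁ : Y ⟶ X₁) (j₂ : Y ⟶ X₂) [IsClosedImmersion j₁] [IsClosedImmersion j₂]
    (hcomm : j₁ ≫ i₁ = j₂ ≫ i₂) (hY : Set.range (j₁ ≫ i₁) = Set.range i₁ ∩ Set.range i₂) (n : ℤ) :
    (∀ α : AlgebraicCycle X ℤ, α ∈ Cyc.Zk X δ n →
      ∃ (α₁ : AlgebraicCycle X₁ ℤ) (α₂ : AlgebraicCycle X₂ ℤ),
        α₁ ∈ Cyc.Zk X₁ (fun x => δ (i₁ x)) n ∧ α₂ ∈ Cyc.Zk X₂ (fun x => δ (i₂ x)) n ∧
        α = AlgebraicCycle.map i₁ (fun x => δ (i₁ x)) δ α₁ + AlgebraicCycle.map i₂ (fun x => δ (i₂ x)) δ α₂) ∧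
    (∀ (α₁ : AlgebraicCycle X₁ ℤ) (α₂ : AlgebraicCycle X₂ ℤ),
      α₁ ∈ Cyc.Zk X₁ (fun x => δ (i₁ x)) n → α₂ ∈ Cyc.Zk X₂ (fun x => δ (i₂ x)) n →
      Cyc.RatEquivZero δ n
        (AlgebraicCycle.map i₁ (fun x => δ (i₁ x)) δ α₁ + AlgebraicCycle.map i₂ (fun x => δ (i₂ x)) δ α₂) →
      ∃ γ : AlgebraicCycle Y ℤ, γ ∈ Cyc.Zk Y (fun y => δ (i₁ (j₁ y))) n ∧
        Cyc.RatEquiv (fun x => δ (i₁ x)) n α₁
          (AlgebraicCycle.map j₁ (fun y => δ (i₁ (j₁ y))) (fun x => δ (i₁ x)) γ) ∧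
        Cyc.RatEquiv (fun x => δ (i₂ x)) n α₂
          (-AlgebraicCycle.map j₂ (fun y => δ (i₁ (j₁ y))) (fun x => δ (i₂ x)) γ)) := by
  haveI : IsLocallyNoetherian X :=
    LocallyOfFiniteType.isLocallyNoetherian (X ↘ Spec (CommRingCat.of k))
  have hd : Cyc.IsDimFun X δ := Groth.Agent.CycLib.isDimFun_of_deltaCompat (X ↘ Spec (CommRingCat.of k))
    (Groth.Agent.CycLib.isSetup_spec_field k) hδ
  refine ⟨Groth.Agent.CycLib.exists_split_two i₁ i₂ hcov n, fun α₁ α₂ h₁ h₂ h => ?_⟩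
  have h' : Cyc.RatEquiv δ n (AlgebraicCycle.map i₁ (fun x => δ (i₁ x)) δ α₁)
      (AlgebraicCycle.map i₂ (fun x => δ (i₂ x)) δ (-α₂)) := by
    show Cyc.RatEquivZero δ n (_ - _)
    rw [Groth.Agent.CycLib.map_neg', sub_neg_eq_add]
    exact h
  obtain ⟨γ, hγ, hγ₁, hγ₂⟩ := Groth.Agent.CycLib.mayerVietoris hd i₁ i₂ hcov j₁ j₂
    (fun z => by rw [← Scheme.Hom.comp_apply, hcomm, Scheme.Hom.comp_apply])
    (fun x h₁' h₂' => by
      obtain ⟨z, hz⟩ := hY.symm ▸ Set.mem_inter h₁' h₂'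
      exact ⟨z, by rw [← hz, Scheme.Hom.comp_apply]⟩) n α₁ (-α₂) h₁ h'
  refine ⟨γ, hγ, hγ₁, ?_⟩
  obtain ⟨ι, ξ, g, hξ, hg, hloc, hsum⟩ := hγ₂
  haveI : IsLocallyNoetherian X₂ := LocallyOfFiniteType.isLocallyNoetherian i₂
  have hd2 := Groth.Agent.CycLib.isDimFun_closedImmersion i₂ hd
  refine ⟨ι, ξ, fun i => (g i)⁻¹, hξ, fun i => inv_ne_zero (hg i), hloc, fun x => ?_⟩
  have e := hsum x
  rw [Function.locallyFinsuppWithin.coe_sub, Pi.sub_apply, Function.locallyFinsuppWithin.coe_neg, Pi.neg_apply] at e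
  rw [show (∑ᶠ i, Cyc.divFun (fun x => δ (i₂ x)) (ξ i) (g i)⁻¹ x) =
      -∑ᶠ i, Cyc.divFun (fun x => δ (i₂ x)) (ξ i) (g i) x by
    rw [← finsum_neg_distrib]
    exact finsum_congr fun i => by rw [Groth.Agent.CycLib.divFun_inv hd2 (hg i)]; rfl, ← e]
  rw [Function.locallyFinsuppWithin.coe_sub, Pi.sub_apply, Function.locallyFinsuppWithin.coe_neg, Pi.neg_apply]
  omega

end Groth.Agent.S19017
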