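import Groth.Statements.S19018
import Groth.Agent.ZeroCycLib.SwapPow
-- import your own Groth.Agent.* helpers here

set_option autoImplicit false
universe u
open TensorProduct
open SymTen

namespace Groth.Agent.S19018

/-- Suppose k is a field in which 2 ≠ 0 and R is a commutative k-algebra. Write I for the ideal of the
diagonal, i.e. the kernel of multiplication R ⊗_k R → R, and write S for the subalgebra of R ⊗_k R
consisting of elements invariant under interchanging the two tensor factors. Then, viewed as ideals
of S, the swap-invariant elements of I^4 form precisely the square of the ideal of swap-invariant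
elements of I^2. (The source is stated over the complex numbers; the proof needs only that 2 is
invertible.) -/
theorem result
    (k R : Type u) [Field k] [NeZero (2 : k)] [CommRing R] [Algebra k R] :
    Ideal.comap
        (AlgHom.equalizer ((Algebra.TensorProduct.comm k R R : R ⊗[k] R ≃ₐ[k] R ⊗[k] R) : R ⊗[k] R →ₐ[k] R ⊗[k] R)
          (AlgHom.id k (R ⊗[k] R))).val
        (KaehlerDifferential.ideal k R ^ 4) =
      (Ideal.comap
        (AlgHom.equalizer ((Algebra.TensorProduct.comm k R R : R ⊗[k] R ≃ₐ[k] R ⊗[k] R) : R ⊗[k] R →ₐ[k] R ⊗[k] R)
          (AlgHom.id k (R ⊗[k] R))).val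
        (KaehlerDifferential.ideal k R ^ 2)) ^ 2 := by
  exact Groth.Agent.ZeroCycLib.comap_pow_four k R

end Groth.Agent.S19018
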