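import Mathlib.Analysis.SpecialFunctions.Integrals.Basic
import Mathlib.Topology.Algebra.Module.Cardinality
import Mathlib.LinearAlgebra.Matrix.PosDef
import Mathlib.LinearAlgebra.Matrix.ToLinearEquiv
import Mathlib.Algebra.Polynomial.Roots

/-!
# Toeplitz matrices with symbol of positive real part
-/

open scoped ComplexOrder ComplexConjugate Matrix Real

namespace Groth.Agent.ToeplitzLib

open Complex MeasureTheory

/-- The symbol of a Toeplitz matrix. -/
noncomputable def symb (S : Finset ℤ) (t : ℤ → ℂ) (y : ℝ) : ℂ :=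
  ∑ k ∈ S, t k * Complex.exp (Complex.I * (k : ℂ) * (y : ℂ))

lemma continuous_symb (S : Finset ℤ) (t : ℤ → ℂ) : Continuous (symb S t) := by
  unfold symb; fun_prop

lemma integral_exp_int (k : ℤ) :
    ∫ y in (0 : ℝ)..(2 * π), Complex.exp (Complex.I * (k : ℂ) * (y : ℂ)) =
      if k = 0 then (2 * π : ℂ) else 0 := by
  split_ifs with h
  · simp [h]
  · rw [integral_exp_mul_complex (mul_ne_zero I_ne_zero (Int.cast_ne_zero.2 h))]
    have : Complex.exp (Complex.I * (k : ℂ) * ((2 * π : ℝ) : ℂ)) = 1 :=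
      Complex.exp_eq_one_iff.2 ⟨k, by push_cast; ring⟩
    rw [this]
    simp

lemma countable_fibre (z : ℂ) : {y : ℝ | Complex.exp (-(Complex.I * (y : ℂ))) = z}.Countable := by
  rcases Set.eq_empty_or_nonempty {y : ℝ | Complex.exp (-(Complex.I * (y : ℂ))) = z} with h | ⟨y₀, hy₀⟩
  · rw [h]; exact Set.countable_empty
  · refine (Set.countable_range fun n : ℤ => y₀ + n * (2 * π)).mono fun y hy => ?_
    obtain ⟨n, hn⟩ := Complex.exp_eq_exp_iff_exists_int.1 (hy.trans hy₀.symm)
    refine ⟨-n, ?_⟩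
    have := congrArg Complex.im hn
    simp at this
    push_cast
    linarith

/-- The trigonometric polynomial of a vector. -/
noncomputable def gpol {m : ℕ} (x : Fin m → ℂ) (y : ℝ) : ℂ :=
  ∑ j : Fin m, x j * Complex.exp (-(Complex.I * (j : ℕ) * (y : ℂ)))

lemma continuous_gpol {m : ℕ} (x : Fin m → ℂ) : Continuous (gpol x) := by
  unfold gpol; fun_prop

lemma countable_zeros {m : ℕ} {x : Fin m → ℂ} (hx : x ≠ 0) : {y : ℝ | gpol x y = 0}.Countable := by
  classical
  let p : Polynomial ℂ := ∑ j : Fin m, Polynomial.monomial (j : ℕ) (x j)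
  have hp : p ≠ 0 := by
    obtain ⟨i, hi⟩ := Function.ne_iff.1 hx
    intro h
    apply hi
    have hc := congrArg (fun q => Polynomial.coeff q (i : ℕ)) h
    simpa [p, Polynomial.coeff_monomial, Fin.val_inj] using hc
  refine (Set.Countable.biUnion p.roots.toFinset.countable_toSet fun z _ => countable_fibre z).mono fun y hy => ?_
  refine Set.mem_biUnion (x := Complex.exp (-(Complex.I * (y : ℂ)))) ?_ rfl
  simp only [Finset.mem_coe, Multiset.mem_toFinset, Polynomial.mem_roots hp, Polynomial.IsRoot.def, p,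
    Polynomial.eval_finsetSum, Polynomial.eval_monomial, ← Complex.exp_nat_mul]
  refine Eq.trans (Finset.sum_congr rfl fun j _ => ?_) hy
  congr 2
  ring

theorem quad_re_pos {m : ℕ} (S : Finset ℤ) (t : ℤ → ℂ)
    (hS : ∀ i j : Fin m, ((j : ℤ) - (i : ℤ)) ∉ S → t ((j : ℤ) - (i : ℤ)) = 0)
    (hpos : {y : ℝ | ¬ 0 < (symb S t y).re}.Countable) {x : Fin m → ℂ} (hx : x ≠ 0) :
    0 < (∑ i : Fin m, ∑ j : Fin m, conj (x i) * t ((j : ℤ) - (i : ℤ)) * x j).re := by
  let F : ℝ → ℂ := fun y => symb S t y * (conj (gpol x y) * gpol x y)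
  have hcF : Continuous F := (continuous_symb S t).mul
    ((Complex.continuous_conj.comp (continuous_gpol x)).mul (continuous_gpol x))
  have hF : ∀ y, F y = ∑ k ∈ S, ∑ i : Fin m, ∑ j : Fin m,
      (t k * conj (x i) * x j) *
        Complex.exp (Complex.I * ((k + (i : ℕ) - (j : ℕ) : ℤ) : ℂ) * (y : ℂ)) := fun y => by
    simp only [F, symb, gpol, map_sum, map_mul, ← Complex.exp_conj, map_neg, Complex.conj_I,
      Complex.conj_ofReal, map_natCast, neg_mul, neg_neg]
    rw [Finset.sum_mul_sum, Finset.sum_mul]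
    refine Finset.sum_congr rfl fun k _ => ?_
    rw [Finset.mul_sum]
    refine Finset.sum_congr rfl fun i _ => ?_
    rw [Finset.mul_sum]
    refine Finset.sum_congr rfl fun j _ => ?_
    have : Complex.exp (Complex.I * ((k + (i : ℕ) - (j : ℕ) : ℤ) : ℂ) * (y : ℂ)) =
        Complex.exp (Complex.I * (k : ℂ) * (y : ℂ)) *
          (Complex.exp (Complex.I * (i : ℕ) * (y : ℂ)) * Complex.exp (-(Complex.I * (j : ℕ) * (y : ℂ)))) := by
      rw [← Complex.exp_add, ← Complex.exp_add]
      congr 1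
      push_cast
      ring
    rw [this]
    ring
  have hint : ∫ y in (0 : ℝ)..(2 * π), F y =
      (2 * π : ℝ) * ∑ i : Fin m, ∑ j : Fin m, conj (x i) * t ((j : ℤ) - (i : ℤ)) * x j := by
    simp only [hF]
    rw [intervalIntegral.integral_finsetSum fun k _ => Continuous.intervalIntegrable (by fun_prop) _ _,
      Finset.mul_sum]
    rw [Finset.sum_congr rfl fun k _ => intervalIntegral.integral_finsetSum
      fun i _ => Continuous.intervalIntegrable (by fun_prop) _ _]
    rw [Finset.sum_comm]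
    refine Finset.sum_congr rfl fun i _ => ?_
    rw [Finset.mul_sum, Finset.sum_congr rfl fun k _ => intervalIntegral.integral_finsetSum
      fun j _ => Continuous.intervalIntegrable (by fun_prop) _ _, Finset.sum_comm]
    refine Finset.sum_congr rfl fun j _ => ?_
    simp only [intervalIntegral.integral_const_mul, integral_exp_int, mul_ite, mul_zero]
    have e : ∀ k : ℤ, (k + (i : ℕ) - (j : ℕ) = 0) ↔ k = (j : ℤ) - (i : ℤ) := fun k => by omega
    simp only [e, Finset.sum_ite_eq']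
    split_ifs with h
    · push_cast; ring
    · rw [hS i j h]; ring
  have hre : ∫ y in (0 : ℝ)..(2 * π), (symb S t y).re * Complex.normSq (gpol x y) =
      (2 * π) * (∑ i : Fin m, ∑ j : Fin m, conj (x i) * t ((j : ℤ) - (i : ℤ)) * x j).re := by
    have h1 := Complex.reCLM.intervalIntegral_comp_comm (hcF.intervalIntegrable (μ := volume) 0 (2 * π))
    rw [hint] at h1
    simp only [Complex.reCLM_apply, Complex.re_ofReal_mul] at h1
    rw [← h1]
    refine intervalIntegral.integral_congr fun y _ => ?_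
    simp only [F, ← Complex.normSq_eq_conj_mul_self, Complex.re_mul_ofReal]
  have hnonneg : ∀ y : ℝ, 0 ≤ (symb S t y).re := by
    have hcl : IsClosed {y : ℝ | 0 ≤ (symb S t y).re} :=
      isClosed_le continuous_const (Complex.continuous_re.comp (continuous_symb S t))
    have hd : Dense {y : ℝ | ¬ 0 < (symb S t y).re}ᶜ := hpos.dense_compl ℝ
    intro y
    have hsub : {y : ℝ | ¬ 0 < (symb S t y).re}ᶜ ⊆ {y : ℝ | 0 ≤ (symb S t y).re} := fun z hz =>
      le_of_lt (not_not.1 hz : 0 < (symb S t z).re)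
    exact closure_minimal hsub hcl (hd y)
  have h2π : (0 : ℝ) < 2 * π := by positivity
  obtain ⟨c, hc, hc'⟩ := ((hpos.union (countable_zeros hx)).dense_compl ℝ).exists_mem_open
    isOpen_Ioo (Set.nonempty_Ioo.2 h2π)
  simp only [Set.mem_compl_iff, Set.mem_union, Set.mem_ofPred_eq, not_or, not_not] at hc
  have hlt : 0 < ∫ y in (0 : ℝ)..(2 * π), (symb S t y).re * Complex.normSq (gpol x y) :=
    intervalIntegral.integral_pos h2π
      ((Complex.continuous_re.comp (continuous_symb S t)).mul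
        (Complex.continuous_normSq.comp (continuous_gpol x))).continuousOn
      (fun y _ => mul_nonneg (hnonneg y) (Complex.normSq_nonneg _))
      ⟨c, Set.Ioo_subset_Icc_self hc', mul_pos hc.1 (Complex.normSq_pos.2 hc.2)⟩
  rw [hre] at hlt
  exact pos_of_mul_pos_right hlt h2π.le

/-- The signed binomial coefficients. -/
noncomputable def binT (N n : ℕ) (k : ℤ) : ℂ :=
  if 0 ≤ k + n then (-1) ^ k * (N.choose (k + n).toNat : ℂ) else 0

/-- Their support. -/
noncomputable def binS (N n : ℕ) : Finset ℤ :=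
  (Finset.range (N + 1)).map ⟨fun l : ℕ => (l : ℤ) - n, fun a b h => by simpa using h⟩

lemma binT_eq_zero {N n : ℕ} {k : ℤ} (h : k ∉ binS N n) : binT N n k = 0 := by
  unfold binT
  split_ifs with h0
  · rw [Nat.choose_eq_zero_of_lt, Nat.cast_zero, mul_zero]
    by_contra h1
    refine h (Finset.mem_map.2 ⟨(k + n).toNat, Finset.mem_range.2 (by omega), ?_⟩)
    show ((k + n).toNat : ℤ) - n = k
    omega
  · rfl

lemma symb_bin (N n : ℕ) (y : ℝ) : symb (binS N n) (binT N n) y =
    (-Complex.exp (Complex.I * (y : ℂ))) ^ (-(n : ℤ)) * (1 - Complex.exp (Complex.I * (y : ℂ))) ^ N := by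
  have hz : (-Complex.exp (Complex.I * (y : ℂ))) ≠ 0 := neg_ne_zero.2 (Complex.exp_ne_zero _)
  rw [symb, binS, Finset.sum_map, show (1 : ℂ) - Complex.exp (Complex.I * (y : ℂ)) =
    -Complex.exp (Complex.I * (y : ℂ)) + 1 by ring, add_pow, Finset.mul_sum]
  refine Finset.sum_congr rfl fun l _ => ?_
  simp only [Function.Embedding.coeFn_mk, binT, sub_add_cancel, Int.natCast_nonneg, if_true,
    Int.toNat_natCast, one_pow, mul_one]
  have : Complex.exp (Complex.I * (((l : ℤ) - n : ℤ) : ℂ) * (y : ℂ)) =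
      Complex.exp (Complex.I * (y : ℂ)) ^ ((l : ℤ) - n) := by
    rw [← Complex.exp_int_mul]
    congr 1
    ring
  rw [this, ← mul_assoc, ← zpow_natCast (-Complex.exp _) l, ← zpow_add₀ hz, mul_right_comm, ← mul_zpow,
    neg_one_mul, show (-(n : ℤ)) + l = (l : ℤ) - n by ring]

lemma kernel_eq (y : ℝ) :
    (-Complex.exp (Complex.I * (y : ℂ)))⁻¹ * (1 - Complex.exp (Complex.I * (y : ℂ))) ^ 2 =
      ((2 - 2 * Real.cos y : ℝ) : ℂ) := by
  have h : Complex.exp (Complex.I * (y : ℂ)) ≠ 0 := Complex.exp_ne_zero _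
  have e : ((2 - 2 * Real.cos y : ℝ) : ℂ) =
      2 - (Complex.exp (Complex.I * (y : ℂ)) + (Complex.exp (Complex.I * (y : ℂ)))⁻¹) := by
    push_cast
    rw [Complex.two_cos, ← Complex.exp_neg]
    ring_nf
  rw [e]
  field_simp
  ring

lemma kernel_pow (n : ℕ) (y : ℝ) :
    (-Complex.exp (Complex.I * (y : ℂ))) ^ (-(n : ℤ)) * (1 - Complex.exp (Complex.I * (y : ℂ))) ^ (2 * n) =
      (((2 - 2 * Real.cos y) ^ n : ℝ) : ℂ) := by
  rw [Complex.ofReal_pow, ← kernel_eq, mul_pow, inv_pow, ← pow_mul, zpow_neg, zpow_natCast]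

lemma countable_bad_of_cos {f : ℝ → ℝ} (h : ∀ y, Real.cos y ≠ 1 → 0 < f y) :
    {y : ℝ | ¬ 0 < f y}.Countable := by
  refine (Set.countable_range fun k : ℤ => (k : ℝ) * (2 * π)).mono fun y hy => ?_
  have : Real.cos y = 1 := by_contra fun h' => hy (h y h')
  obtain ⟨k, hk⟩ := (Real.cos_eq_one_iff y).1 this
  exact ⟨k, hk⟩

lemma countable_bad_even (n : ℕ) :
    {y : ℝ | ¬ 0 < (symb (binS (2 * n) n) (binT (2 * n) n) y).re}.Countable := by
  refine countable_bad_of_cos fun y hy => ?_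
  rw [symb_bin, kernel_pow, Complex.ofReal_re]
  have := Real.cos_le_one y
  exact pow_pos (by linarith [lt_of_le_of_ne this hy]) n

lemma countable_bad_odd (n : ℕ) :
    {y : ℝ | ¬ 0 < (symb (binS (2 * n + 1) n) (binT (2 * n + 1) n) y).re}.Countable := by
  refine countable_bad_of_cos fun y hy => ?_
  rw [symb_bin, pow_succ, ← mul_assoc, kernel_pow, Complex.re_ofReal_mul, Complex.sub_re, Complex.one_re,
    Complex.exp_re]
  simp only [Complex.mul_re, Complex.mul_im, Complex.I_re, Complex.I_im, Complex.ofReal_re, Complex.ofReal_im]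
  have := lt_of_le_of_ne (Real.cos_le_one y) hy
  refine mul_pos (pow_pos (by linarith) n) ?_
  simp
  linarith

lemma neg_one_zpow_sub (i j : ℕ) : ((-1 : ℂ) ^ ((j : ℤ) - i)) = (-1 : ℂ) ^ (i + j) := by
  rw [← zpow_natCast, show ((i + j : ℕ) : ℤ) = ((j : ℤ) - i) + 2 * i by push_cast; ring, zpow_add₀ (by norm_num),
    zpow_mul]
  norm_num

lemma binT_of_le (N n : ℕ) {i j : ℕ} (h : i ≤ j) :
    binT N n ((j : ℤ) - i) = (-1) ^ (i + j) * (N.choose (n + (j - i)) : ℂ) := by
  rw [binT, if_pos (by omega), neg_one_zpow_sub, show (((j : ℤ) - i) + n).toNat = n + (j - i) by omega]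

lemma binT_of_ge (N n : ℕ) (hn : n ≤ N) {i j : ℕ} (h : j ≤ i) :
    binT N n ((j : ℤ) - i) = (-1) ^ (i + j) * (N.choose (N - n + (i - j)) : ℂ) := by
  unfold binT
  split_ifs with h0
  · rw [neg_one_zpow_sub, ← Nat.choose_symm (show (((j : ℤ) - i) + n).toNat ≤ N by omega),
      show N - (((j : ℤ) - i) + n).toNat = N - n + (i - j) by omega]
  · rw [Nat.choose_eq_zero_of_lt (show N < N - n + (i - j) by omega), Nat.cast_zero, mul_zero]

end Groth.Agent.ToeplitzLib
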