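import Groth.Statements.S19019
import Groth.Agent.ToeplitzLib
import Mathlib.Analysis.Matrix.Hermitian

set_option autoImplicit false
open scoped ComplexOrder
open Toeplitz

namespace Groth.Agent.S19019

/-- Let A be an m × m complex Hermitian Toeplitz matrix, with entries A i j = t (j - i) constant along
diagonals, and let f(y) = Σ_{-m < k < m} t k · exp(i k y) be the trigonometric polynomial attached
to it. If f has positive real part at every real y outside a countable set, then A is positive
definite (hence nondegenerate). (The source also states the mirror case: f negative off a countable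
set gives A negative definite, which is this statement for -A.) -/
theorem result
    (m : ℕ) (t : ℤ → ℂ) (A : Matrix (Fin m) (Fin m) ℂ)
    (hA : ∀ i j : Fin m, A i j = t ((j : ℤ) - (i : ℤ))) (hH : A.IsHermitian)
    (hpos : Set.Countable {y : ℝ | ¬ 0 < (∑ k ∈ Finset.Ioo (-(m : ℤ)) (m : ℤ),
        t k * Complex.exp (Complex.I * (k : ℂ) * (y : ℂ))).re}) :
    A.PosDef := by
  refine Matrix.PosDef.of_dotProduct_mulVec_pos hH fun x hx => ?_
  have hq : star x ⬝ᵥ (A.mulVec x) =
      ∑ i : Fin m, ∑ j : Fin m, (starRingEnd ℂ) (x i) * t ((j : ℤ) - (i : ℤ)) * x j := by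
    simp only [dotProduct, Matrix.mulVec, Finset.mul_sum, Pi.star_apply, hA, starRingEnd_apply, mul_assoc]
  rw [Complex.lt_def]
  refine ⟨?_, ?_⟩
  · rw [hq]
    refine ToeplitzLib.quad_re_pos (Finset.Ioo (-(m : ℤ)) (m : ℤ)) t (fun i j h => ?_) hpos hx
    refine absurd (Finset.mem_Ioo.2 ?_) h
    have := i.2
    have := j.2
    omega
  · exact (Matrix.IsHermitian.im_star_dotProduct_mulVec_self hH x).symm

end Groth.Agent.S19019
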