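import Groth.Statements.S19020
import Groth.Agent.ToeplitzLib

set_option autoImplicit false
open Toeplitz

namespace Groth.Agent.S19020

/-- For natural numbers n and m, the m × m real Toeplitz matrix with (i, j) entry (-1)^(i+j) · C(2n, n +
|i - j|), i.e. with t_k = (-1)^k C(2n, n + k) on the k-th diagonal for |k| ≤ n and zero beyond, is
positive definite; in particular it is nondegenerate, which is the printed assertion (positive
definiteness is what the printed proof establishes; m = 0 is the empty matrix). -/
theorem result (n m : ℕ) :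
    (Matrix.of fun i j : Fin m =>
        (-1 : ℝ) ^ ((i : ℕ) + (j : ℕ)) * (Nat.choose (2 * n) (n + Nat.dist i j) : ℝ)).PosDef := by
  refine Matrix.PosDef.of_dotProduct_mulVec_pos ?_ fun x hx => ?_
  · refine Matrix.IsHermitian.ext fun i j => ?_
    simp [Nat.dist_comm, add_comm]
  have hy : (fun i => (x i : ℂ)) ≠ 0 := fun h => hx (funext fun i => by simpa using congrFun h i)
  have h := ToeplitzLib.quad_re_pos (m := m) _ _ (fun i j h => ToeplitzLib.binT_eq_zero h)
    (ToeplitzLib.countable_bad_even n) hy
  refine lt_of_lt_of_eq h ?_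
  have e : ∀ i j : Fin m, ToeplitzLib.binT (2 * n) n ((j : ℤ) - (i : ℤ)) =
      (((-1 : ℝ) ^ ((i : ℕ) + (j : ℕ)) * (Nat.choose (2 * n) (n + Nat.dist i j) : ℝ) : ℝ) : ℂ) := fun i j => by
    rcases le_total (i : ℕ) (j : ℕ) with hij | hij
    · rw [ToeplitzLib.binT_of_le _ _ hij, Nat.dist_eq_sub_of_le hij]
      simp
    · rw [ToeplitzLib.binT_of_ge _ _ (by omega) hij, Nat.dist_eq_sub_of_le_right hij,
        show 2 * n - n = n by omega]
      simp
  simp only [e, Complex.conj_ofReal, Complex.re_sum, ← Complex.ofReal_mul, Complex.ofReal_re]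
  simp [dotProduct, Matrix.mulVec, Finset.mul_sum, mul_assoc]

end Groth.Agent.S19020
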