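import Groth.Statements.S19021
import Groth.Agent.ToeplitzLib

set_option autoImplicit false
open Toeplitz

namespace Groth.Agent.S19021

/-- For natural numbers n and m, the m × m integer Toeplitz matrix with (i, j) entry (-1)^(i+j) ·
C(2n+1, n+1+i-j) (the binomial coefficient being 0 outside the range 0 ≤ n+1+i-j ≤ 2n+1;
equivalently s_k = (-1)^k C(2n+1, n+k+1) on the diagonal i - j = k for -n-1 ≤ k ≤ n and zero beyond)
is nondegenerate: its determinant is nonzero (m = 0 is the empty matrix, of determinant 1). -/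
theorem result (n m : ℕ) :
    (Matrix.of fun i j : Fin m =>
        (-1 : ℤ) ^ ((i : ℕ) + (j : ℕ)) *
          (if (j : ℕ) ≤ (i : ℕ) then (Nat.choose (2 * n + 1) (n + 1 + ((i : ℕ) - (j : ℕ))) : ℤ)
            else (Nat.choose (2 * n + 1) (n + ((j : ℕ) - (i : ℕ))) : ℤ))).det ≠ 0 := by
  intro hdet
  obtain ⟨v, hv0, hv⟩ := Matrix.exists_mulVec_eq_zero_iff.2 hdet
  have hy : (fun i => (v i : ℂ)) ≠ 0 := fun h => hv0 (funext fun i => by simpa using congrFun h i)
  have h := ToeplitzLib.quad_re_pos (m := m) _ _ (fun i j h => ToeplitzLib.binT_eq_zero h)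
    (ToeplitzLib.countable_bad_odd n) hy
  have e : ∀ i j : Fin m, ToeplitzLib.binT (2 * n + 1) n ((j : ℤ) - (i : ℤ)) =
      (((-1 : ℤ) ^ ((i : ℕ) + (j : ℕ)) *
        (if (j : ℕ) ≤ (i : ℕ) then (Nat.choose (2 * n + 1) (n + 1 + ((i : ℕ) - (j : ℕ))) : ℤ)
          else (Nat.choose (2 * n + 1) (n + ((j : ℕ) - (i : ℕ))) : ℤ)) : ℤ) : ℂ) := fun i j => by
    split_ifs with hij
    · rw [ToeplitzLib.binT_of_ge _ _ (by omega) hij, show 2 * n + 1 - n = n + 1 by omega]
      simp
    · rw [ToeplitzLib.binT_of_le _ _ (le_of_lt (not_le.1 hij))]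
      simp
  simp only [e, map_intCast] at h
  refine absurd h (not_lt.2 (le_of_eq ?_))
  have hz : ∀ i, ∑ j : Fin m, _ = (0 : ℤ) := fun i => congrFun hv i
  rw [Finset.sum_eq_zero fun i _ => ?_, Complex.zero_re]
  have hc := congrArg (fun z : ℤ => (v i : ℂ) * (z : ℂ)) (hz i)
  simp only [Int.cast_sum, Int.cast_mul, Finset.mul_sum, Int.cast_zero, mul_zero, Matrix.of_apply] at hc
  refine Eq.trans (Finset.sum_congr rfl fun j _ => ?_) hc
  push_cast
  ring

end Groth.Agent.S19021
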