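import Groth.Statements.S19022
import Groth.Agent.InvUfdLib.Semilocal
import Groth.Agent.H23.AffineFinset
-- import your own Groth.Agent.* helpers here

set_option autoImplicit false
universe u
open CategoryTheory AlgebraicGeometry
open PicF

namespace Groth.Agent.S19022

/-- Let X be a scheme, L an invertible O_X-module and T a finite set of closed points of X that lies in
some affine open of X. Then T lies in an affine open U of X on which L is trivial (L restricted to U
is isomorphic to the structure sheaf). (The source states this for a smooth quasi-projective complex
surface, where every finite set of points lies in an affine open, and phrases it as: X^n and the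
symmetric product S^n X are covered by the opens U^n and S^n U with U affine and L trivial on U; the
printed argument uses only that the finitely many points lie in one affine open, which is taken as
the hypothesis here.) -/
theorem result
    (X : Scheme.{u}) (L : X.Modules) (hL : PicF.IsInvertible L)
    (T : Finset X) (hT : ∀ x ∈ T, IsClosed ({x} : Set X))
    (hU : ∃ U : X.Opens, IsAffineOpen U ∧ ∀ x ∈ T, x ∈ U) :
    ∃ U : X.Opens, IsAffineOpen U ∧ (∀ x ∈ T, x ∈ U) ∧
      Nonempty (L.restrict U.ι ≅ Coh.structureModule (↑U : Scheme.{u})) := by
  obtain ⟨A, hA, hTA⟩ := hU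
  obtain ⟨O, s, hTO, hs⟩ := Groth.Agent.InvUfdLib.exists_frame_finset hL hA (T : Set X) T.finite_toSet hTA
    fun x hx y hy h => (Set.mem_singleton_iff.1 (h.mem_closed (hT x hx) rfl)).symm
  obtain ⟨g, hgO, hTg⟩ := Groth.Agent.H23.AffineFinset.exists_basicOpen_le hA O T hTA fun x hx => hTO hx
  exact ⟨X.basicOpen g, hA.basicOpen g, hTg,
    Groth.Agent.InvUfdLib.nonempty_iso_restrict_of_frame (hs.res hgO)⟩

end Groth.Agent.S19022
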