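import Groth.Statements.S19025
import Mathlib.Algebra.Group.ForwardDiff
import Mathlib.RingTheory.Ideal.Operations
import Mathlib.Tactic.Ring

set_option autoImplicit false
universe u
open HigherRestr

namespace Groth.Agent.S19025

/-- In abstract form, the estimate its proof establishes. Let S be a commutative ring, I an ideal of S,
g₀ and g₁ elements with g₁ - g₀ ∈ I, N a natural number and y a sequence in S such that, for 1 ≤ i ≤
N, the (N-i)-fold unit-step forward difference of y taken at i lies in I^(N-i). Then g₀^N times the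
N-fold forward difference of y at 0, minus the N-fold forward difference at 0 of the twisted
sequence j ↦ g₀^(N-j) g₁^j y_j, lies in I^N. (In the source S is the ring of functions on an affine
chart of X^n, I the ideal of a pairwise diagonal, g₀ and g₁ the two pullbacks of a transition unit
of L, and y_j the components x_λ along the compositions a₀^(N-j) a₁^j μ; the estimate is what makes
the higher order restrictions D^l_L well defined on ker D^(l-1)_L independently of the
trivialisation.) -/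
theorem result
    (S : Type u) [CommRing S] (I : Ideal S) (g₀ g₁ : S) (hg : g₁ - g₀ ∈ I)
    (N : ℕ) (y : ℕ → S)
    (hy : ∀ i : ℕ, 1 ≤ i → i ≤ N → (fwdDiff (1 : ℕ))^[N - i] y i ∈ I ^ (N - i)) :
    g₀ ^ N * (fwdDiff (1 : ℕ))^[N] y 0 -
        (fwdDiff (1 : ℕ))^[N] (fun j : ℕ => g₀ ^ (N - j) * g₁ ^ j * y j) 0 ∈ I ^ N := by
  have key : ∀ (N c : ℕ) (y : ℕ → S),
      (∀ i : ℕ, 1 ≤ i → i ≤ N → (fwdDiff (1 : ℕ))^[N - i] y i ∈ I ^ (N - i + c)) →
      g₀ ^ N * (fwdDiff (1 : ℕ))^[N] y 0 -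
        (fwdDiff (1 : ℕ))^[N] (fun j : ℕ => g₀ ^ (N - j) * g₁ ^ j * y j) 0 ∈ I ^ (N + c) := by
    intro N
    induction N with
    | zero => intro c y _; simp
    | succ N ih =>
      intro c y hy
      have hcongr : ∀ F G : ℕ → S, (∀ j ≤ N, F j = G j) →
          (fwdDiff (1 : ℕ))^[N] F 0 = (fwdDiff (1 : ℕ))^[N] G 0 := fun F G h => by
        rw [fwdDiff_iter_eq_sum_shift, fwdDiff_iter_eq_sum_shift]
        exact Finset.sum_congr rfl fun k hk => by
          rw [h _ (by simp only [smul_eq_mul, mul_one, zero_add]; exact Nat.lt_succ_iff.mp (Finset.mem_range.mp hk))]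
      have h1 := ih (c + 1) (fwdDiff (1 : ℕ) y) fun i hi hiN => by
        have := hy i hi (by omega)
        rw [show N + 1 - i = (N - i) + 1 by omega, Function.iterate_succ_apply] at this
        rwa [show N - i + (c + 1) = N - i + 1 + c by omega]
      have hs : ∀ (n j : ℕ), (fwdDiff (1 : ℕ))^[n] (fun r => y (r + 1)) j = (fwdDiff (1 : ℕ))^[n] y (j + 1) :=
        fun n j => fwdDiff_iter_comp_add 1 y 1 n j
      have h2 := ih c (fun r => y (r + 1)) fun i hi hiN => by
        have := hy (i + 1) (by omega) (by omega)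
        rw [hs]
        rwa [show N + 1 - (i + 1) = N - i by omega] at this
      have h3 : (fwdDiff (1 : ℕ))^[N] y 1 ∈ I ^ (N + c) := by
        have := hy 1 le_rfl (by omega)
        rwa [show N + 1 - 1 = N by omega] at this
      have h4 : (fwdDiff (1 : ℕ))^[N] (fun j : ℕ => g₀ ^ (N - j) * g₁ ^ j * y (j + 1)) 0 ∈ I ^ (N + c) := by
        rw [hs] at h2
        simpa using Ideal.sub_mem _ (Ideal.mul_mem_left _ (g₀ ^ N) h3) h2
      rw [Function.iterate_succ_apply, Function.iterate_succ_apply]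
      have h5 : (fwdDiff (1 : ℕ))^[N] (fwdDiff (1 : ℕ) (fun j : ℕ => g₀ ^ (N + 1 - j) * g₁ ^ j * y j)) 0 =
          g₀ * (fwdDiff (1 : ℕ))^[N] (fun j : ℕ => g₀ ^ (N - j) * g₁ ^ j * fwdDiff (1 : ℕ) y j) 0 +
            (g₁ - g₀) * (fwdDiff (1 : ℕ))^[N] (fun j : ℕ => g₀ ^ (N - j) * g₁ ^ j * y (j + 1)) 0 := by
        rw [hcongr _ (g₀ • (fun j : ℕ => g₀ ^ (N - j) * g₁ ^ j * fwdDiff (1 : ℕ) y j) +
          (g₁ - g₀) • (fun j : ℕ => g₀ ^ (N - j) * g₁ ^ j * y (j + 1))) fun j hj => ?_]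
        · simp
        · simp only [fwdDiff, Pi.add_apply, Pi.smul_apply, smul_eq_mul]
          rw [show N + 1 - (j + 1) = N - j by omega, show N + 1 - j = (N - j) + 1 by omega]
          ring
      rw [h5, show g₀ ^ (N + 1) * (fwdDiff (1 : ℕ))^[N] (fwdDiff (1 : ℕ) y) 0 -
          (g₀ * (fwdDiff (1 : ℕ))^[N] (fun j : ℕ => g₀ ^ (N - j) * g₁ ^ j * fwdDiff (1 : ℕ) y j) 0 +
            (g₁ - g₀) * (fwdDiff (1 : ℕ))^[N] (fun j : ℕ => g₀ ^ (N - j) * g₁ ^ j * y (j + 1)) 0) =
          g₀ * (g₀ ^ N * (fwdDiff (1 : ℕ))^[N] (fwdDiff (1 : ℕ) y) 0 -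
            (fwdDiff (1 : ℕ))^[N] (fun j : ℕ => g₀ ^ (N - j) * g₁ ^ j * fwdDiff (1 : ℕ) y j) 0) -
            (g₁ - g₀) * (fwdDiff (1 : ℕ))^[N] (fun j : ℕ => g₀ ^ (N - j) * g₁ ^ j * y (j + 1)) 0 by ring]
      refine Ideal.sub_mem _ ?_ ?_
      · rw [show N + 1 + c = N + (c + 1) by omega]
        exact Ideal.mul_mem_left _ _ h1
      · rw [show N + 1 + c = N + c + 1 by omega, pow_succ']
        exact Ideal.mul_mem_mul hg h4
  simpa using key N 0 y (by simpa using hy)

end Groth.Agent.S19025
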