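import Groth.Statements.S19026
import Groth.Agent.CurveGor.Num

set_option autoImplicit false
universe u
open CategoryTheory CategoryTheory.Limits AlgebraicGeometry
attribute [local instance] HasDerivedCategory.standard
open Curves

namespace Groth.Agent.S19026
set_option backward.isDefEq.respectTransparency false
set_option backward.isDefEq.respectTransparency.types false
set_option synthInstance.maxHeartbeats 200000
set_option maxHeartbeats 2000000
attribute [local instance] HasDerivedCategory.standard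
open Groth.Agent.CurveGor in


/-- Let k be an algebraically closed field and X a connected reduced Gorenstein curve over k of genus g
≥ 2: X is proper over k, reduced, connected, of dimension one, and its dualizing module ω_X (the
degree −1 cohomology sheaf of f^! O for the structure morphism f, for any choice of the data Rf_* on
D_QCoh with its right adjoint) is invertible; g = dim_k H^1(X, O_X). A connected subcurve Z of X is
a reduced connected closed subscheme of dimension one, deg_Z of a module means the degree of its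
pullback to Z, g_Z = dim_k H^1(Z, O_Z), and k_Z is the length (k-dimension of global sections of the
structure sheaf) of the scheme-theoretic intersection of Z with the reduced closed subscheme
supported on the closure of X ∖ Z. Let L be an invertible module of degree d which is balanced: for
every connected subcurve Z, |deg_Z L − (d/(2g−2)) deg_Z ω_X| ≤ k_Z/2 (written cleared of
denominators). Assume d > g − 1. Then L is nef (deg_Z L ≥ 0 for every connected subcurve Z) if and
only if X is G-semistable (deg_Z ω_X ≥ 0 for every connected subcurve Z) and every exceptional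
subcurve Z (connected, with deg_Z ω_X = 0) has deg_Z L = 0 or 1. -/
theorem result (k : Type u) [Field k] [IsAlgClosed k] (X : Scheme.{u}) [X.Over (Spec (CommRingCat.of k))]
    [IsProper (X ↘ (Spec (CommRingCat.of k)))] [AlgebraicGeometry.IsReduced X] [ConnectedSpace X] (hdim : topologicalKrullDim X = 1)
    [DCoh.HasRpush (X ↘ (Spec (CommRingCat.of k)))] (h : DCoh.RpushPreservesQCoh (X ↘ (Spec (CommRingCat.of k)))) [DCoh.HasShriek (X ↘ (Spec (CommRingCat.of k))) h]
    (OY : DCoh.DQCoh (Spec (CommRingCat.of k)))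
    (hOY : Nonempty (OY.obj ≅ DCoh.inD (Spec (CommRingCat.of k)) (Coh.structureModule (Spec (CommRingCat.of k)))))
    (hGor : PicF.IsInvertible (DCoh.dualizingMod (X ↘ (Spec (CommRingCat.of k))) h OY 1)) (hg : 2 ≤ Curv2.genus k X)
    (L : X.Modules) (hL : PicF.IsInvertible L)
    (hbal : ∀ J : X.IdealSheafData, AlgebraicGeometry.IsReduced J.subscheme → ConnectedSpace J.subscheme →
      topologicalKrullDim J.subscheme = 1 →
      |2 * (2 * (Curv2.genus k X : ℤ) - 2) * @Curv2.deg k _ J.subscheme ⟨J.subschemeι ≫ (X ↘ (Spec (CommRingCat.of k)))⟩ ((Scheme.Modules.pullback J.subschemeι).obj L) 1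
          - 2 * Curv2.deg k X L 1 * @Curv2.deg k _ J.subscheme ⟨J.subschemeι ≫ (X ↘ (Spec (CommRingCat.of k)))⟩ ((Scheme.Modules.pullback J.subschemeι).obj (DCoh.dualizingMod (X ↘ (Spec (CommRingCat.of k))) h OY 1)) 1|
        ≤ (2 * (Curv2.genus k X : ℤ) - 2) * (Module.finrank k (Coh.HH X (ClSub.quotMod (J ⊔ (Scheme.IdealSheafData.vanishingIdeal ⟨closure ((J.support : Set X)ᶜ), isClosed_closure⟩))) 0) : ℤ))
    (hd : (Curv2.genus k X : ℤ) - 1 < Curv2.deg k X L 1) :
    (∀ J : X.IdealSheafData, AlgebraicGeometry.IsReduced J.subscheme → ConnectedSpace J.subscheme →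
      topologicalKrullDim J.subscheme = 1 →
      0 ≤ @Curv2.deg k _ J.subscheme ⟨J.subschemeι ≫ (X ↘ (Spec (CommRingCat.of k)))⟩ ((Scheme.Modules.pullback J.subschemeι).obj L) 1) ↔
      ((∀ J : X.IdealSheafData, AlgebraicGeometry.IsReduced J.subscheme → ConnectedSpace J.subscheme →
      topologicalKrullDim J.subscheme = 1 →
        0 ≤ @Curv2.deg k _ J.subscheme ⟨J.subschemeι ≫ (X ↘ (Spec (CommRingCat.of k)))⟩ ((Scheme.Modules.pullback J.subschemeι).obj (DCoh.dualizingMod (X ↘ (Spec (CommRingCat.of k))) h OY 1)) 1) ∧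
      (∀ J : X.IdealSheafData, AlgebraicGeometry.IsReduced J.subscheme → ConnectedSpace J.subscheme →
      topologicalKrullDim J.subscheme = 1 →
        @Curv2.deg k _ J.subscheme ⟨J.subschemeι ≫ (X ↘ (Spec (CommRingCat.of k)))⟩ ((Scheme.Modules.pullback J.subschemeι).obj (DCoh.dualizingMod (X ↘ (Spec (CommRingCat.of k))) h OY 1)) 1 = 0 →
        (@Curv2.deg k _ J.subscheme ⟨J.subschemeι ≫ (X ↘ (Spec (CommRingCat.of k)))⟩ ((Scheme.Modules.pullback J.subschemeι).obj L) 1 = 0 ∨ @Curv2.deg k _ J.subscheme ⟨J.subschemeι ≫ (X ↘ (Spec (CommRingCat.of k)))⟩ ((Scheme.Modules.pullback J.subschemeι).obj L) 1 = 1))) := by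
  classical
  haveI := Groth.Agent.CurveCohLib.isNoetherian_of_proper (k := k) (X := X)
  obtain ⟨t, ht, -⟩ := Groth.Agent.CurveDual.exists_dual hdim.le h OY hOY
  have hgen := notClosed_of_generic (k := k) hdim
  generalize DCoh.dualizingMod (X ↘ (Spec (CommRingCat.of k))) h OY 1 = ω at t ht hGor hbal ⊢
  have hB := balanced_of_statement (k := k) hdim.le hgen L ω _ _ hbal
  have hg' : (2 : ℤ) ≤ (Curv2.genus k X : ℤ) := by exact_mod_cast hg
  have key : ∀ (Y : Set X) (hY : IsClosed Y), IsCompUnion Y → _root_.IsConnected Y →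
      |2 * (2 * (Curv2.genus k X : ℤ) - 2) * Groth.Agent.TFOneX.degOn k L 1 Y hY -
          2 * Curv2.deg k X L 1 * Groth.Agent.TFOneX.degOn k ω 1 Y hY| ≤ (2 * (Curv2.genus k X : ℤ) - 2) * kY k Y hY ∧
      ((Groth.Agent.TFOneX.degOn k L 1 Y hY = Curv2.deg k X L 1 ∧
          Groth.Agent.TFOneX.degOn k ω 1 Y hY = 2 * (Curv2.genus k X : ℤ) - 2 ∧
          (genusY k Y hY : ℤ) = Curv2.genus k X) ∨
        (1 ≤ kY k Y hY ∧ Groth.Agent.TFOneX.degOn k ω 1 Y hY = 2 * (genusY k Y hY : ℤ) - 2 + kY k Y hY)) :=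
    fun Y hY hc hconn => ⟨hB Y hY hc hconn,
      (numeric hdim.le hgen ht hGor hL hY hc hconn).imp (fun h => h.2) id⟩
  constructor
  · intro hnef
    constructor
    · intro J hJ1 hJ2 hJ3
      obtain ⟨Y, hY, rfl, hc, hconn⟩ := exists_of_subcurve (k := k) hdim J hJ3
      obtain ⟨hb, hcase⟩ := key Y hY hc hconn
      have he : 0 ≤ Groth.Agent.TFOneX.degOn k L 1 Y hY := hnef (vI Y hY) inferInstance hJ2 hJ3
      have hgY : (0 : ℤ) ≤ (genusY k Y hY : ℤ) := Int.natCast_nonneg _
      show 0 ≤ Groth.Agent.TFOneX.degOn k ω 1 Y hY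
      generalize Groth.Agent.TFOneX.degOn k L 1 Y hY = e at *
      generalize Groth.Agent.TFOneX.degOn k ω 1 Y hY = w at *
      generalize kY k Y hY = κ at *
      generalize (genusY k Y hY : ℤ) = gY at *
      generalize Curv2.deg k X L 1 = d at *
      rcases hcase with ⟨h1, h2, h3⟩ | ⟨hk, hw⟩
      · omega
      by_contra hneg
      obtain ⟨rfl, rfl, rfl⟩ : gY = 0 ∧ κ = 1 ∧ w = -1 := by omega
      have h5 := (abs_le.1 hb).2
      nlinarith
    · intro J hJ1 hJ2 hJ3 hw0
      obtain ⟨Y, hY, rfl, hc, hconn⟩ := exists_of_subcurve (k := k) hdim J hJ3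
      obtain ⟨hb, hcase⟩ := key Y hY hc hconn
      have he : 0 ≤ Groth.Agent.TFOneX.degOn k L 1 Y hY := hnef (vI Y hY) inferInstance hJ2 hJ3
      have hgY : (0 : ℤ) ≤ (genusY k Y hY : ℤ) := Int.natCast_nonneg _
      change Groth.Agent.TFOneX.degOn k ω 1 Y hY = 0 at hw0
      show Groth.Agent.TFOneX.degOn k L 1 Y hY = 0 ∨ Groth.Agent.TFOneX.degOn k L 1 Y hY = 1
      generalize Groth.Agent.TFOneX.degOn k L 1 Y hY = e at *
      generalize Groth.Agent.TFOneX.degOn k ω 1 Y hY = w at *
      generalize kY k Y hY = κ at *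
      generalize (genusY k Y hY : ℤ) = gY at *
      generalize Curv2.deg k X L 1 = d at *
      subst hw0
      rcases hcase with ⟨h1, h2, h3⟩ | ⟨hk, hw⟩
      · omega
      have h5 := (abs_le.1 hb).2
      have : e ≤ 1 := by nlinarith
      omega
  · rintro ⟨hss, hexc⟩ J hJ1 hJ2 hJ3
    obtain ⟨Y, hY, rfl, hc, hconn⟩ := exists_of_subcurve (k := k) hdim J hJ3
    obtain ⟨hb, hcase⟩ := key Y hY hc hconn
    have hw0 : 0 ≤ Groth.Agent.TFOneX.degOn k ω 1 Y hY := hss (vI Y hY) inferInstance hJ2 hJ3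
    have hex : Groth.Agent.TFOneX.degOn k ω 1 Y hY = 0 → (Groth.Agent.TFOneX.degOn k L 1 Y hY = 0 ∨
        Groth.Agent.TFOneX.degOn k L 1 Y hY = 1) := hexc (vI Y hY) inferInstance hJ2 hJ3
    have hgY : (0 : ℤ) ≤ (genusY k Y hY : ℤ) := Int.natCast_nonneg _
    show 0 ≤ Groth.Agent.TFOneX.degOn k L 1 Y hY
    generalize Groth.Agent.TFOneX.degOn k L 1 Y hY = e at *
    generalize Groth.Agent.TFOneX.degOn k ω 1 Y hY = w at *
    generalize kY k Y hY = κ at *
    generalize (genusY k Y hY : ℤ) = gY at *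
    generalize Curv2.deg k X L 1 = d at *
    rcases hcase with ⟨h1, h2, h3⟩ | ⟨hk, hw⟩
    · omega
    rcases hw0.eq_or_lt with h0 | h0
    · omega
    have h5 := (abs_le.1 hb).1
    by_contra hlt
    nlinarith [mul_lt_mul_of_pos_right (by omega : 2 * (Curv2.genus k X : ℤ) - 2 < 2 * d) h0]


end Groth.Agent.S19026
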