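import Groth.Statements.S19027
import Groth.Agent.CurveGor.Num
import Groth.Agent.S7642

set_option autoImplicit false
universe u
open CategoryTheory CategoryTheory.Limits AlgebraicGeometry
attribute [local instance] HasDerivedCategory.standard
open Curves

namespace Groth.Agent.S19027
set_option backward.isDefEq.respectTransparency false
set_option backward.isDefEq.respectTransparency.types false
set_option synthInstance.maxHeartbeats 200000
set_option maxHeartbeats 2000000
attribute [local instance] HasDerivedCategory.standard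
open Groth.Agent.CurveGor in


/-- Let k be an algebraically closed field and X a connected reduced Gorenstein curve over k of genus g
≥ 2: X is proper over k, reduced, connected, of dimension one, and its dualizing module ω_X (the
degree −1 cohomology sheaf of f^! O for the structure morphism f, for any choice of the data Rf_* on
D_QCoh with its right adjoint) is invertible; g = dim_k H^1(X, O_X). A connected subcurve Z of X is
a reduced connected closed subscheme of dimension one, deg_Z of a module means the degree of its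
pullback to Z, g_Z = dim_k H^1(Z, O_Z), and k_Z is the length (k-dimension of global sections of the
structure sheaf) of the scheme-theoretic intersection of Z with the reduced closed subscheme
supported on the closure of X ∖ Z. Let L be an invertible module of degree d which is balanced: for
every connected subcurve Z, |deg_Z L − (d/(2g−2)) deg_Z ω_X| ≤ k_Z/2 (written cleared of
denominators). Assume d > 3(g − 1). Under this bound, ampleness of L is equivalent to X being
G-quasistable together with deg_Z L = 1 on each exceptional subcurve Z; here G-quasistable means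
that deg_Z ω_X ≥ 0 for every connected subcurve Z and that every exceptional subcurve Z (connected,
with deg_Z ω_X = 0) is irreducible (for an exceptional subcurve, irreducibility is equivalent to
being a projective line, since such a subcurve has genus zero and meets the rest of X in a scheme of
length two). -/
theorem result (k : Type u) [Field k] [IsAlgClosed k] (X : Scheme.{u}) [X.Over (Spec (CommRingCat.of k))]
    [IsProper (X ↘ (Spec (CommRingCat.of k)))] [AlgebraicGeometry.IsReduced X] [ConnectedSpace X] (hdim : topologicalKrullDim X = 1)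
    [DCoh.HasRpush (X ↘ (Spec (CommRingCat.of k)))] (h : DCoh.RpushPreservesQCoh (X ↘ (Spec (CommRingCat.of k)))) [DCoh.HasShriek (X ↘ (Spec (CommRingCat.of k))) h]
    (OY : DCoh.DQCoh (Spec (CommRingCat.of k)))
    (hOY : Nonempty (OY.obj ≅ DCoh.inD (Spec (CommRingCat.of k)) (Coh.structureModule (Spec (CommRingCat.of k)))))
    (hGor : PicF.IsInvertible (DCoh.dualizingMod (X ↘ (Spec (CommRingCat.of k))) h OY 1)) (hg : 2 ≤ Curv2.genus k X)
    (L : X.Modules) (hL : PicF.IsInvertible L)
    (hbal : ∀ J : X.IdealSheafData, AlgebraicGeometry.IsReduced J.subscheme → ConnectedSpace J.subscheme →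
      topologicalKrullDim J.subscheme = 1 →
      |2 * (2 * (Curv2.genus k X : ℤ) - 2) * @Curv2.deg k _ J.subscheme ⟨J.subschemeι ≫ (X ↘ (Spec (CommRingCat.of k)))⟩ ((Scheme.Modules.pullback J.subschemeι).obj L) 1
          - 2 * Curv2.deg k X L 1 * @Curv2.deg k _ J.subscheme ⟨J.subschemeι ≫ (X ↘ (Spec (CommRingCat.of k)))⟩ ((Scheme.Modules.pullback J.subschemeι).obj (DCoh.dualizingMod (X ↘ (Spec (CommRingCat.of k))) h OY 1)) 1|
        ≤ (2 * (Curv2.genus k X : ℤ) - 2) * (Module.finrank k (Coh.HH X (ClSub.quotMod (J ⊔ (Scheme.IdealSheafData.vanishingIdeal ⟨closure ((J.support : Set X)ᶜ), isClosed_closure⟩))) 0) : ℤ))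
    (hd : 3 * ((Curv2.genus k X : ℤ) - 1) < Curv2.deg k X L 1) :
    CohB1.IsAmple L ↔
      ((∀ J : X.IdealSheafData, AlgebraicGeometry.IsReduced J.subscheme → ConnectedSpace J.subscheme →
      topologicalKrullDim J.subscheme = 1 →
        0 ≤ @Curv2.deg k _ J.subscheme ⟨J.subschemeι ≫ (X ↘ (Spec (CommRingCat.of k)))⟩ ((Scheme.Modules.pullback J.subschemeι).obj (DCoh.dualizingMod (X ↘ (Spec (CommRingCat.of k))) h OY 1)) 1) ∧
      (∀ J : X.IdealSheafData, AlgebraicGeometry.IsReduced J.subscheme → ConnectedSpace J.subscheme →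
      topologicalKrullDim J.subscheme = 1 →
        @Curv2.deg k _ J.subscheme ⟨J.subschemeι ≫ (X ↘ (Spec (CommRingCat.of k)))⟩ ((Scheme.Modules.pullback J.subschemeι).obj (DCoh.dualizingMod (X ↘ (Spec (CommRingCat.of k))) h OY 1)) 1 = 0 → IrreducibleSpace J.subscheme) ∧
      (∀ J : X.IdealSheafData, AlgebraicGeometry.IsReduced J.subscheme → ConnectedSpace J.subscheme →
      topologicalKrullDim J.subscheme = 1 →
        @Curv2.deg k _ J.subscheme ⟨J.subschemeι ≫ (X ↘ (Spec (CommRingCat.of k)))⟩ ((Scheme.Modules.pullback J.subschemeι).obj (DCoh.dualizingMod (X ↘ (Spec (CommRingCat.of k))) h OY 1)) 1 = 0 → @Curv2.deg k _ J.subscheme ⟨J.subschemeι ≫ (X ↘ (Spec (CommRingCat.of k)))⟩ ((Scheme.Modules.pullback J.subschemeι).obj L) 1 = 1)) := by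
  classical
  haveI := Groth.Agent.CurveCohLib.isNoetherian_of_proper (k := k) (X := X)
  obtain ⟨t, ht, -⟩ := Groth.Agent.CurveDual.exists_dual hdim.le h OY hOY
  have hgen := notClosed_of_generic (k := k) hdim
  generalize DCoh.dualizingMod (X ↘ (Spec (CommRingCat.of k))) h OY 1 = ω at t ht hGor hbal ⊢
  have hB := balanced_of_statement (k := k) hdim.le hgen L ω _ _ hbal
  have hg' : (2 : ℤ) ≤ (Curv2.genus k X : ℤ) := by exact_mod_cast hg
  have key : ∀ (Y : Set X) (hY : IsClosed Y), IsCompUnion Y → _root_.IsConnected Y →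
      |2 * (2 * (Curv2.genus k X : ℤ) - 2) * Groth.Agent.TFOneX.degOn k L 1 Y hY -
          2 * Curv2.deg k X L 1 * Groth.Agent.TFOneX.degOn k ω 1 Y hY| ≤ (2 * (Curv2.genus k X : ℤ) - 2) * kY k Y hY ∧
      ((Groth.Agent.TFOneX.degOn k L 1 Y hY = Curv2.deg k X L 1 ∧
          Groth.Agent.TFOneX.degOn k ω 1 Y hY = 2 * (Curv2.genus k X : ℤ) - 2 ∧
          (genusY k Y hY : ℤ) = Curv2.genus k X) ∨
        (1 ≤ kY k Y hY ∧ Groth.Agent.TFOneX.degOn k ω 1 Y hY = 2 * (genusY k Y hY : ℤ) - 2 + kY k Y hY)) :=
    fun Y hY hc hconn => ⟨hB Y hY hc hconn,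
      (numeric hdim.le hgen ht hGor hL hY hc hconn).imp (fun h => h.2) id⟩
  constructor
  · intro hamp
    have main : ∀ (Y : Set X) (hY : IsClosed Y), IsCompUnion Y → _root_.IsConnected Y →
        0 ≤ Groth.Agent.TFOneX.degOn k ω 1 Y hY ∧ (Groth.Agent.TFOneX.degOn k ω 1 Y hY = 0 →
          (genericPoints (X : Type u) ∩ Y).ncard = 1 ∧ Groth.Agent.TFOneX.degOn k L 1 Y hY = 1) := by
      intro Y hY hc hconn
      obtain ⟨hb, hcase⟩ := key Y hY hc hconn
      have hgY : (0 : ℤ) ≤ (genusY k Y hY : ℤ) := Int.natCast_nonneg _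
      obtain ⟨x, hx⟩ := hconn.nonempty
      obtain ⟨η, hη, hηY, -⟩ := hc x hx
      have hn := (Set.ncard_pos (finite_genericPoints.inter_of_left Y)).2 ⟨η, hη, hηY⟩
      have he := card_le_degOn (k := k) hdim.le hgen hamp _ Y hY hc rfl
      generalize (genericPoints (X : Type u) ∩ Y).ncard = n at *
      generalize Groth.Agent.TFOneX.degOn k L 1 Y hY = e at *
      generalize Groth.Agent.TFOneX.degOn k ω 1 Y hY = w at *
      generalize kY k Y hY = κ at *
      generalize (genusY k Y hY : ℤ) = gY at *
      generalize Curv2.deg k X L 1 = d at *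
      rcases hcase with ⟨h1, h2, h3⟩ | ⟨hk, hw⟩
      · omega
      have h5 := (abs_le.1 hb).2
      refine ⟨?_, fun hw0 => ?_⟩
      · by_contra hneg
        obtain ⟨rfl, rfl, rfl⟩ : gY = 0 ∧ κ = 1 ∧ w = -1 := by omega
        nlinarith
      · subst hw0
        have : e ≤ 1 := by nlinarith
        omega
    refine ⟨?_, ?_, ?_⟩
    · intro J hJ1 hJ2 hJ3
      obtain ⟨Y, hY, rfl, hc, hconn⟩ := exists_of_subcurve (k := k) hdim J hJ3
      exact (main Y hY hc hconn).1
    · intro J hJ1 hJ2 hJ3 hw0
      obtain ⟨Y, hY, rfl, hc, hconn⟩ := exists_of_subcurve (k := k) hdim J hJ3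
      obtain ⟨η, hη⟩ := Set.ncard_eq_one.1 ((main Y hY hc hconn).2 hw0).1
      have hηY : η ∈ Y := (hη.ge rfl).2
      obtain rfl : Y = closure ({η} : Set X) := by
        refine Set.Subset.antisymm (fun x hx => ?_) (hY.closure_subset_iff.2 (Set.singleton_subset_iff.2 hηY))
        obtain ⟨ξ, hξ, hξY, hsp⟩ := hc x hx
        obtain rfl : ξ = η := hη.le ⟨hξ, hξY⟩
        exact specializes_iff_mem_closure.1 hsp
      haveI := isIntegral_closure (k := k) η
      infer_instance
    · intro J hJ1 hJ2 hJ3 hw0
      obtain ⟨Y, hY, rfl, hc, hconn⟩ := exists_of_subcurve (k := k) hdim J hJ3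
      exact ((main Y hY hc hconn).2 hw0).2
  · rintro ⟨hss, -, hexc⟩
    refine (Groth.Agent.S7642.result k X hdim.le L hL).2 fun C hC _ => ?_
    have hJ : (X.irreducibleComponentIdeal C hC).radical =
        vI C (isClosed_of_mem_irreducibleComponents _ hC) := by
      rw [← Scheme.IdealSheafData.vanishingIdeal_support]
      congr 1
    rw [hJ]
    obtain ⟨η, hη, rfl⟩ : ∃ η ∈ genericPoints (X : Type u), closure ({η} : Set X) = C := by
      have e := hC.1.closure_genericPoint (isClosed_of_mem_irreducibleComponents _ hC)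
      exact ⟨_, by show closure _ ∈ irreducibleComponents (X : Type u); rw [e]; exact hC, e⟩
    have hY : IsClosed (closure ({η} : Set X)) := isClosed_closure
    have hc := isCompUnion_closure hη
    have hconn : _root_.IsConnected (closure ({η} : Set X)) := isIrreducible_singleton.closure.isConnected
    obtain ⟨hb, hcase⟩ := key _ hY hc hconn
    have hd1 := dim_subscheme (k := k) hdim.le hgen hY hc hconn.nonempty
    have hw0 : 0 ≤ Groth.Agent.TFOneX.degOn k ω 1 _ hY :=
      hss (vI _ hY) inferInstance (connectedSpace_subscheme hY hconn) hd1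
    have hex : Groth.Agent.TFOneX.degOn k ω 1 _ hY = 0 → Groth.Agent.TFOneX.degOn k L 1 _ hY = 1 :=
      hexc (vI _ hY) inferInstance (connectedSpace_subscheme hY hconn) hd1
    have hgY : (0 : ℤ) ≤ (genusY k _ hY : ℤ) := Int.natCast_nonneg _
    show 0 < Groth.Agent.TFOneX.degOn k L 1 (closure ({η} : Set X)) hY
    generalize Groth.Agent.TFOneX.degOn k L 1 (closure ({η} : Set X)) hY = e at *
    generalize Groth.Agent.TFOneX.degOn k ω 1 (closure ({η} : Set X)) hY = w at *
    generalize kY k (closure ({η} : Set X)) hY = κ at *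
    generalize (genusY k (closure ({η} : Set X)) hY : ℤ) = gY at *
    generalize Curv2.deg k X L 1 = d at *
    rcases hcase with ⟨h1, h2, h3⟩ | ⟨hk, hw⟩
    · omega
    rcases hw0.eq_or_lt with h0 | h0
    · omega
    have h5 := (abs_le.1 hb).1
    have : 3 * w - κ < 2 * e := by
      by_contra hlt
      nlinarith [mul_le_mul_of_nonneg_right (by omega : 3 * (2 * (Curv2.genus k X : ℤ) - 2) + 2 ≤ 2 * d) h0.le]
    omega


end Groth.Agent.S19027
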