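import Groth.Statements.S19028
import Groth.Agent.CurveGor.Nef

set_option autoImplicit false
universe u
open CategoryTheory CategoryTheory.Limits AlgebraicGeometry
attribute [local instance] HasDerivedCategory.standard
open Curves

namespace Groth.Agent.S19028

set_option backward.isDefEq.respectTransparency false
set_option backward.isDefEq.respectTransparency.types false
set_option synthInstance.maxHeartbeats 200000
set_option maxHeartbeats 2000000
attribute [local instance] HasDerivedCategory.standard
open Groth.Agent.CurveGor in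


/-- Let k be an algebraically closed field and X a connected reduced Gorenstein curve over k of genus g
≥ 2: X is proper over k, reduced, connected, of dimension one, and its dualizing module ω_X (the
degree −1 cohomology sheaf of f^! O for the structure morphism f, for any choice of the data Rf_* on
D_QCoh with its right adjoint) is invertible; g = dim_k H^1(X, O_X). A connected subcurve Z of X is
a reduced connected closed subscheme of dimension one, deg_Z of a module means the degree of its
pullback to Z, g_Z = dim_k H^1(Z, O_Z), and k_Z is the length (k-dimension of global sections of the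
structure sheaf) of the scheme-theoretic intersection of Z with the reduced closed subscheme
supported on the closure of X ∖ Z. Let L be an invertible module of degree d which is balanced: for
every connected subcurve Z, |deg_Z L − (d/(2g−2)) deg_Z ω_X| ≤ k_Z/2 (written cleared of
denominators). If X is G-semistable, i.e. deg_Z ω_X ≥ 0 for every connected subcurve Z, and d > 2g −
2, then L is non-special: H^1(X, L) = 0. -/
theorem result (k : Type u) [Field k] [IsAlgClosed k] (X : Scheme.{u}) [X.Over (Spec (CommRingCat.of k))]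
    [IsProper (X ↘ (Spec (CommRingCat.of k)))] [AlgebraicGeometry.IsReduced X] [ConnectedSpace X] (hdim : topologicalKrullDim X = 1)
    [DCoh.HasRpush (X ↘ (Spec (CommRingCat.of k)))] (h : DCoh.RpushPreservesQCoh (X ↘ (Spec (CommRingCat.of k)))) [DCoh.HasShriek (X ↘ (Spec (CommRingCat.of k))) h]
    (OY : DCoh.DQCoh (Spec (CommRingCat.of k)))
    (hOY : Nonempty (OY.obj ≅ DCoh.inD (Spec (CommRingCat.of k)) (Coh.structureModule (Spec (CommRingCat.of k)))))
    (hGor : PicF.IsInvertible (DCoh.dualizingMod (X ↘ (Spec (CommRingCat.of k))) h OY 1)) (hg : 2 ≤ Curv2.genus k X)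
    (L : X.Modules) (hL : PicF.IsInvertible L)
    (hbal : ∀ J : X.IdealSheafData, AlgebraicGeometry.IsReduced J.subscheme → ConnectedSpace J.subscheme →
      topologicalKrullDim J.subscheme = 1 →
      |2 * (2 * (Curv2.genus k X : ℤ) - 2) * @Curv2.deg k _ J.subscheme ⟨J.subschemeι ≫ (X ↘ (Spec (CommRingCat.of k)))⟩ ((Scheme.Modules.pullback J.subschemeι).obj L) 1
          - 2 * Curv2.deg k X L 1 * @Curv2.deg k _ J.subscheme ⟨J.subschemeι ≫ (X ↘ (Spec (CommRingCat.of k)))⟩ ((Scheme.Modules.pullback J.subschemeι).obj (DCoh.dualizingMod (X ↘ (Spec (CommRingCat.of k))) h OY 1)) 1|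
        ≤ (2 * (Curv2.genus k X : ℤ) - 2) * (Module.finrank k (Coh.HH X (ClSub.quotMod (J ⊔ (Scheme.IdealSheafData.vanishingIdeal ⟨closure ((J.support : Set X)ᶜ), isClosed_closure⟩))) 0) : ℤ))
    (hss : ∀ J : X.IdealSheafData, AlgebraicGeometry.IsReduced J.subscheme → ConnectedSpace J.subscheme →
      topologicalKrullDim J.subscheme = 1 →
      0 ≤ @Curv2.deg k _ J.subscheme ⟨J.subschemeι ≫ (X ↘ (Spec (CommRingCat.of k)))⟩ ((Scheme.Modules.pullback J.subschemeι).obj (DCoh.dualizingMod (X ↘ (Spec (CommRingCat.of k))) h OY 1)) 1)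
    (hd : 2 * (Curv2.genus k X : ℤ) - 2 < Curv2.deg k X L 1) :
    Subsingleton (Coh.HH X L 1) := by
  classical
  haveI := Groth.Agent.CurveCohLib.isNoetherian_of_proper (k := k) (X := X)
  obtain ⟨t, ht, -⟩ := Groth.Agent.CurveDual.exists_dual hdim.le h OY hOY
  have hgen := notClosed_of_generic (k := k) hdim
  generalize DCoh.dualizingMod (X ↘ (Spec (CommRingCat.of k))) h OY 1 = ω at t ht hGor hss hbal ⊢
  have hdeg := deg_dualizing hdim.le hgen ht hGor
  rw [euler_structure_eq hdim.le] at hdeg
  refine subsingleton_H1_of_deg hdim.le hgen ht hGor hL fun Y hY hc hconn => ?_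
  by_cases hu : Y = Set.univ
  · subst hu
    rw [Groth.Agent.TFOneX.degOn_univ k hdim.le (Groth.Agent.InvEnd.isFinLocFreeOfRank_one hL),
      show chiY k Set.univ hY = _ from chiY_univ, euler_structure_eq hdim.le]
    linarith
  · have h1 := one_le_kY (k := k) hdim.le hY hconn.nonempty hu
    have h2 := degOn_dualizing hdim.le hgen ht hGor hY hc
    have hcs := connectedSpace_subscheme hY hconn
    have hd1 := dim_subscheme (k := k) hdim.le hgen hY hc hconn.nonempty
    have h3 : 0 ≤ Groth.Agent.TFOneX.degOn k ω 1 Y hY := hss (vI Y hY) inferInstance hcs hd1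
    have h4 := hbal (vI Y hY) inferInstance hcs hd1
    rw [kY_eq] at h4
    change |2 * (2 * (Curv2.genus k X : ℤ) - 2) * Groth.Agent.TFOneX.degOn k L 1 Y hY -
      2 * Curv2.deg k X L 1 * Groth.Agent.TFOneX.degOn k ω 1 Y hY| ≤ _ at h4
    have h5 := (abs_le.1 h4).1
    have hg' : (2 : ℤ) ≤ (Curv2.genus k X : ℤ) := by exact_mod_cast hg
    generalize Groth.Agent.TFOneX.degOn k L 1 Y hY = e at *
    generalize Groth.Agent.TFOneX.degOn k ω 1 Y hY = w at *
    generalize kY k Y hY = κ at *
    generalize chiY k Y hY = χ at *
    nlinarith [mul_nonneg (sub_nonneg.2 hd.le) h3]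


end Groth.Agent.S19028
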