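import Groth.Statements.S19031
import Groth.Agent.CurveGor.Num

set_option autoImplicit false
universe u
open CategoryTheory CategoryTheory.Limits AlgebraicGeometry
attribute [local instance] HasDerivedCategory.standard
open Curves

namespace Groth.Agent.S19031
set_option backward.isDefEq.respectTransparency false
set_option backward.isDefEq.respectTransparency.types false
set_option synthInstance.maxHeartbeats 200000
set_option maxHeartbeats 2000000
attribute [local instance] HasDerivedCategory.standard
open Groth.Agent.CurveGor in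


/-- Let k be an algebraically closed field and X a connected reduced Gorenstein curve over k of genus g
≥ 2: X is proper over k, reduced, connected, of dimension one, and its dualizing module ω_X (the
degree −1 cohomology sheaf of f^! O for the structure morphism f, for any choice of the data Rf_* on
D_QCoh with its right adjoint) is invertible; g = dim_k H^1(X, O_X). A connected subcurve Z of X is
a reduced connected closed subscheme of dimension one, deg_Z of a module means the degree of its
pullback to Z, g_Z = dim_k H^1(Z, O_Z), and k_Z is the length (k-dimension of global sections of the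
structure sheaf) of the scheme-theoretic intersection of Z with the reduced closed subscheme
supported on the closure of X ∖ Z. Let L be an invertible module of degree d which is balanced: for
every connected subcurve Z, |deg_Z L − (d/(2g−2)) deg_Z ω_X| ≤ k_Z/2 (written cleared of
denominators). If L is ample, d > 3(g − 1), d > 2g, and X has no elliptic tail (no connected
subcurve Z with g_Z = 1 and k_Z = 1), then deg_Z L > 2 g_Z for every connected subcurve Z of X. (The
source concludes that L is very ample and normally generated; what its proof establishes is the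
inequality stated here, from which it derives those properties by a criterion for reduced Gorenstein
curves that it cites without proof.) -/
theorem result (k : Type u) [Field k] [IsAlgClosed k] (X : Scheme.{u}) [X.Over (Spec (CommRingCat.of k))]
    [IsProper (X ↘ (Spec (CommRingCat.of k)))] [AlgebraicGeometry.IsReduced X] [ConnectedSpace X] (hdim : topologicalKrullDim X = 1)
    [DCoh.HasRpush (X ↘ (Spec (CommRingCat.of k)))] (h : DCoh.RpushPreservesQCoh (X ↘ (Spec (CommRingCat.of k)))) [DCoh.HasShriek (X ↘ (Spec (CommRingCat.of k))) h]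
    (OY : DCoh.DQCoh (Spec (CommRingCat.of k)))
    (hOY : Nonempty (OY.obj ≅ DCoh.inD (Spec (CommRingCat.of k)) (Coh.structureModule (Spec (CommRingCat.of k)))))
    (hGor : PicF.IsInvertible (DCoh.dualizingMod (X ↘ (Spec (CommRingCat.of k))) h OY 1)) (hg : 2 ≤ Curv2.genus k X)
    (L : X.Modules) (hL : PicF.IsInvertible L)
    (hbal : ∀ J : X.IdealSheafData, AlgebraicGeometry.IsReduced J.subscheme → ConnectedSpace J.subscheme →
      topologicalKrullDim J.subscheme = 1 →
      |2 * (2 * (Curv2.genus k X : ℤ) - 2) * @Curv2.deg k _ J.subscheme ⟨J.subschemeι ≫ (X ↘ (Spec (CommRingCat.of k)))⟩ ((Scheme.Modules.pullback J.subschemeι).obj L) 1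
          - 2 * Curv2.deg k X L 1 * @Curv2.deg k _ J.subscheme ⟨J.subschemeι ≫ (X ↘ (Spec (CommRingCat.of k)))⟩ ((Scheme.Modules.pullback J.subschemeι).obj (DCoh.dualizingMod (X ↘ (Spec (CommRingCat.of k))) h OY 1)) 1|
        ≤ (2 * (Curv2.genus k X : ℤ) - 2) * (Module.finrank k (Coh.HH X (ClSub.quotMod (J ⊔ (Scheme.IdealSheafData.vanishingIdeal ⟨closure ((J.support : Set X)ᶜ), isClosed_closure⟩))) 0) : ℤ))
    (hamp : CohB1.IsAmple L)
    (hd : 3 * ((Curv2.genus k X : ℤ) - 1) < Curv2.deg k X L 1) (hd' : 2 * (Curv2.genus k X : ℤ) < Curv2.deg k X L 1)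
    (hnotail : ∀ J : X.IdealSheafData, AlgebraicGeometry.IsReduced J.subscheme → ConnectedSpace J.subscheme →
      topologicalKrullDim J.subscheme = 1 →
      (@Curv2.genus k _ J.subscheme ⟨J.subschemeι ≫ (X ↘ (Spec (CommRingCat.of k)))⟩ : ℤ) = 1 → (Module.finrank k (Coh.HH X (ClSub.quotMod (J ⊔ (Scheme.IdealSheafData.vanishingIdeal ⟨closure ((J.support : Set X)ᶜ), isClosed_closure⟩))) 0) : ℤ) = 1 → False) :
    ∀ J : X.IdealSheafData, AlgebraicGeometry.IsReduced J.subscheme → ConnectedSpace J.subscheme →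
      topologicalKrullDim J.subscheme = 1 →
      2 * (@Curv2.genus k _ J.subscheme ⟨J.subschemeι ≫ (X ↘ (Spec (CommRingCat.of k)))⟩ : ℤ) < @Curv2.deg k _ J.subscheme ⟨J.subschemeι ≫ (X ↘ (Spec (CommRingCat.of k)))⟩ ((Scheme.Modules.pullback J.subschemeι).obj L) 1 := by
  classical
  haveI := Groth.Agent.CurveCohLib.isNoetherian_of_proper (k := k) (X := X)
  obtain ⟨t, ht, -⟩ := Groth.Agent.CurveDual.exists_dual hdim.le h OY hOY
  have hgen := notClosed_of_generic (k := k) hdim
  generalize DCoh.dualizingMod (X ↘ (Spec (CommRingCat.of k))) h OY 1 = ω at t ht hGor hbal ⊢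
  have hB := balanced_of_statement (k := k) hdim.le hgen L ω _ _ hbal
  have hg' : (2 : ℤ) ≤ (Curv2.genus k X : ℤ) := by exact_mod_cast hg
  have key : ∀ (Y : Set X) (hY : IsClosed Y), IsCompUnion Y → _root_.IsConnected Y →
      |2 * (2 * (Curv2.genus k X : ℤ) - 2) * Groth.Agent.TFOneX.degOn k L 1 Y hY -
          2 * Curv2.deg k X L 1 * Groth.Agent.TFOneX.degOn k ω 1 Y hY| ≤ (2 * (Curv2.genus k X : ℤ) - 2) * kY k Y hY ∧
      ((Groth.Agent.TFOneX.degOn k L 1 Y hY = Curv2.deg k X L 1 ∧
          Groth.Agent.TFOneX.degOn k ω 1 Y hY = 2 * (Curv2.genus k X : ℤ) - 2 ∧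
          (genusY k Y hY : ℤ) = Curv2.genus k X) ∨
        (1 ≤ kY k Y hY ∧ Groth.Agent.TFOneX.degOn k ω 1 Y hY = 2 * (genusY k Y hY : ℤ) - 2 + kY k Y hY)) :=
    fun Y hY hc hconn => ⟨hB Y hY hc hconn,
      (numeric hdim.le hgen ht hGor hL hY hc hconn).imp (fun h => h.2) id⟩
  intro J hJ1 hJ2 hJ3
  obtain ⟨Y, hY, rfl, hc, hconn⟩ := exists_of_subcurve (k := k) hdim J hJ3
  obtain ⟨hb, hcase⟩ := key Y hY hc hconn
  have hnt : (genusY k Y hY : ℤ) = 1 → kY k Y hY = 1 → False := fun a b =>
    hnotail (vI Y hY) inferInstance hJ2 hJ3 a (by rw [kY_eq]; exact b)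
  have hgY : (0 : ℤ) ≤ (genusY k Y hY : ℤ) := Int.natCast_nonneg _
  have he : 1 ≤ Groth.Agent.TFOneX.degOn k L 1 Y hY := by
    obtain ⟨x, hx⟩ := hconn.nonempty
    obtain ⟨η, hη, hηY, -⟩ := hc x hx
    have := card_le_degOn (k := k) hdim.le hgen hamp _ Y hY hc rfl
    have := (Set.ncard_pos (finite_genericPoints.inter_of_left Y)).2 ⟨η, hη, hηY⟩
    omega
  show 2 * (genusY k Y hY : ℤ) < Groth.Agent.TFOneX.degOn k L 1 Y hY
  generalize Groth.Agent.TFOneX.degOn k L 1 Y hY = e at *
  generalize Groth.Agent.TFOneX.degOn k ω 1 Y hY = w at *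
  generalize kY k Y hY = κ at *
  generalize (genusY k Y hY : ℤ) = gY at *
  generalize Curv2.deg k X L 1 = d at *
  rcases hcase with ⟨h1, h2, h3⟩ | ⟨hk, hw⟩
  · omega
  rcases hgY.eq_or_lt with h0 | h0
  · omega
  have h5 := (abs_le.1 hb).1
  subst hw
  have : 3 * (2 * gY - 2 + κ) - κ < 2 * e := by
    by_contra hlt
    nlinarith [mul_le_mul_of_nonneg_right (by omega : 3 * (2 * (Curv2.genus k X : ℤ) - 2) + 2 ≤ 2 * d)
      (by omega : 0 ≤ 2 * gY - 2 + κ)]
  rcases (by omega : gY = 1 ∨ 2 ≤ gY) with hg1 | hg2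
  · have : κ ≠ 1 := fun hκ => hnt hg1 hκ
    omega
  · omega


end Groth.Agent.S19031
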