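import Groth.Statements.S19032
import Groth.Agent.CurveGor.Nef

set_option autoImplicit false
universe u
open CategoryTheory CategoryTheory.Limits AlgebraicGeometry
attribute [local instance] HasDerivedCategory.standard
open Curves

namespace Groth.Agent.S19032

set_option backward.isDefEq.respectTransparency false
set_option backward.isDefEq.respectTransparency.types false
set_option synthInstance.maxHeartbeats 200000
set_option maxHeartbeats 2000000
attribute [local instance] HasDerivedCategory.standard
open Groth.Agent.CurveGor in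


/-- Let k be an algebraically closed field and X a connected reduced Gorenstein curve over k of genus g
≥ 2: X is proper over k, reduced, connected, of dimension one, and its dualizing module ω_X (the
degree −1 cohomology sheaf of f^! O for the structure morphism f, for any choice of the data Rf_* on
D_QCoh with its right adjoint) is invertible; g = dim_k H^1(X, O_X). If X is G-semistable, i.e. the
pullback of ω_X to every reduced connected closed subscheme of dimension one has non-negative
degree, then for every i ≥ 2 the tensor power ω_X^{⊗ i} is non-special (H^1(X, ω_X^{⊗ i}) = 0) and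
globally generated. -/
theorem result (k : Type u) [Field k] [IsAlgClosed k] (X : Scheme.{u}) [X.Over (Spec (CommRingCat.of k))]
    [IsProper (X ↘ (Spec (CommRingCat.of k)))] [AlgebraicGeometry.IsReduced X] [ConnectedSpace X] (hdim : topologicalKrullDim X = 1)
    [DCoh.HasRpush (X ↘ (Spec (CommRingCat.of k)))] (h : DCoh.RpushPreservesQCoh (X ↘ (Spec (CommRingCat.of k)))) [DCoh.HasShriek (X ↘ (Spec (CommRingCat.of k))) h]
    (OY : DCoh.DQCoh (Spec (CommRingCat.of k)))
    (hOY : Nonempty (OY.obj ≅ DCoh.inD (Spec (CommRingCat.of k)) (Coh.structureModule (Spec (CommRingCat.of k)))))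
    (hGor : PicF.IsInvertible (DCoh.dualizingMod (X ↘ (Spec (CommRingCat.of k))) h OY 1)) (hg : 2 ≤ Curv2.genus k X)
    (hss : ∀ J : X.IdealSheafData, AlgebraicGeometry.IsReduced J.subscheme → ConnectedSpace J.subscheme →
      topologicalKrullDim J.subscheme = 1 →
      0 ≤ @Curv2.deg k _ J.subscheme ⟨J.subschemeι ≫ (X ↘ (Spec (CommRingCat.of k)))⟩ ((Scheme.Modules.pullback J.subschemeι).obj (DCoh.dualizingMod (X ↘ (Spec (CommRingCat.of k))) h OY 1)) 1)
    (i : ℕ) (hi : 2 ≤ i) :
    Subsingleton (Coh.HH X (CohB1.tensorPow (DCoh.dualizingMod (X ↘ (Spec (CommRingCat.of k))) h OY 1) i) 1) ∧ Curv2.IsGloballyGenerated (CohB1.tensorPow (DCoh.dualizingMod (X ↘ (Spec (CommRingCat.of k))) h OY 1) i) := by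
  classical
  haveI := Groth.Agent.CurveCohLib.isNoetherian_of_proper (k := k) (X := X)
  obtain ⟨t, ht, -⟩ := Groth.Agent.CurveDual.exists_dual hdim.le h OY hOY
  have hgen := notClosed_of_generic (k := k) hdim
  generalize DCoh.dualizingMod (X ↘ (Spec (CommRingCat.of k))) h OY 1 = ω at t ht hGor hss ⊢
  have hdeg := deg_dualizing hdim.le hgen ht hGor
  rw [euler_structure_eq hdim.le] at hdeg
  have key : ∀ (Y : Set X) (hY : IsClosed Y), IsCompUnion Y → _root_.IsConnected Y →
      2 ≤ Groth.Agent.TFOneX.degOn k (CohB1.tensorPow ω i) 1 Y hY + 2 * chiY k Y hY := fun Y hY hc hconn => by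
    rw [degOn_pow hdim.le hGor hY i]
    by_cases hu : Y = Set.univ
    · subst hu
      rw [Groth.Agent.TFOneX.degOn_univ k hdim.le (Groth.Agent.InvEnd.isFinLocFreeOfRank_one hGor),
        show chiY k Set.univ hY = _ from chiY_univ, hdeg, euler_structure_eq hdim.le]
      nlinarith [(by exact_mod_cast hg : (2 : ℤ) ≤ (Curv2.genus k X : ℤ)), (by exact_mod_cast hi : (2 : ℤ) ≤ (i : ℤ))]
    · have h1 := one_le_kY (k := k) hdim.le hY hconn.nonempty hu
      have h2 := degOn_dualizing hdim.le hgen ht hGor hY hc
      have h3 : 0 ≤ Groth.Agent.TFOneX.degOn k ω 1 Y hY :=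
        hss (vI Y hY) inferInstance (connectedSpace_subscheme hY hconn)
          (dim_subscheme (k := k) hdim.le hgen hY hc hconn.nonempty)
      have hi' : (2 : ℤ) ≤ (i : ℤ) := by exact_mod_cast hi
      rcases h3.eq_or_lt with h0 | h0
      · rw [← h0] at h2 ⊢
        omega
      · nlinarith
  have hp := Groth.Agent.H23.PicMul.isInvertible_tensorPow hGor i
  exact ⟨subsingleton_H1_of_deg hdim.le hgen ht hGor hp fun Y hY hc hconn => by
      linarith [key Y hY hc hconn],
    isGloballyGenerated_of_deg hdim.le hgen ht hGor hp key⟩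


end Groth.Agent.S19032
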