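import Groth.Statements.S19034
import Groth.Agent.LabGraph6.BI

set_option autoImplicit false
universe u
open LabGraph

namespace Groth.Agent.S19034

open LabGraph in
/-- Let σ : Z → X be the contraction of some exceptional components of a quasi-wp-stable curve Z of
genus g ≥ 2 onto a quasi-wp-stable curve X, and d a properly balanced multidegree on X; then the
pull-back d̃ of d to Z (d̃_W = d_{σ(W)} when σ(W) is a curve, d̃ = 0 on contracted components) is
balanced. Encode Z by its weighted multigraph (vertices = irreducible components, weight plus number
of loops = arithmetic genus of the component, one edge per node and two per tacnode joining distinct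
components; canDeg Y = deg_Y ω_Z, cut Y = k_Y, K = canDeg of all vertices = 2g − 2; exceptional
vertex = exceptional component), and let S be the set of contracted components, each an exceptional
vertex. The components of X are the vertices outside S; for a set W of them, the subcurve σ(W) of X
has deg ω_X equal to canDeg Ŵ and k equal to cut Ŵ, where Ŵ is W together with the vertices of S all
of whose edges end in W, and the exceptional components of X are the exceptional vertices outside S.
So the hypotheses below say that d̃ vanishes on S and that d = d̃|_{V∖S} is properly balanced on X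
(Basic Inequality 2·|K·d_W − D·canDeg Ŵ| ≤ cut Ŵ·K for every W disjoint from S, D the total degree,
and value 1 on exceptional vertices outside S); the conclusion is the Basic Inequality for d̃ on Z,
for every set of vertices. -/
theorem result {V E : Type u} [Fintype V] [Fintype E]
    [DecidableEq V] [DecidableEq E] (ends : E → V × V) (w : V → ℕ) (hZ : IsQuasistableGraph ends w)
    (hg : 2 ≤ genus ends w) (S : Finset V) (hS : ∀ v ∈ S, IsExceptional ends w v)
    (dt : V → ℤ) (hzero : ∀ v ∈ S, dt v = 0)
    (hBI : ∀ W : Finset V, Disjoint W S →
      2 * |canDeg ends w Finset.univ * (∑ v ∈ W, dt v) - (∑ v, dt v) * canDeg ends w (Finset.univ.filter (fun v : V => v ∈ W ∨ (v ∈ S ∧ ∀ e : E, ((ends e).1 = v → (ends e).2 ∈ W) ∧ ((ends e).2 = v → (ends e).1 ∈ W))))|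
        ≤ (cut ends (Finset.univ.filter (fun v : V => v ∈ W ∨ (v ∈ S ∧ ∀ e : E, ((ends e).1 = v → (ends e).2 ∈ W) ∧ ((ends e).2 = v → (ends e).1 ∈ W)))) : ℤ) * canDeg ends w Finset.univ)
    (hone : ∀ v : V, v ∉ S → IsExceptional ends w v → dt v = 1) :
    SatisfiesBI ends w dt := by
  exact LabGraph6BI.bi_pullback hZ (by rw [LabGraph6BI.canDeg_univ]; linarith) S hS dt hzero hBI

end Groth.Agent.S19034
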