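import Mathlib
import Groth.Statements.S19035
-- import your own Groth.Agent.* helpers here

set_option autoImplicit false
universe u v w x
open CAlg

namespace Groth.Agent.S19035

/-- Let p be a prime and k a perfect field of characteristic p. Let (A_i) be a directed system of
finitely generated commutative k-algebras, indexed by a nonempty directed preorder, with compatible
k-algebra transition maps, and let B be a finitely generated k-algebra with compatible k-algebra
maps A_i → B which present B as the direct limit of the system (every element of B is the image of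
an element of some A_i, and two elements of some A_i with the same image in B have the same image in
some A_j). Then the p-typical Witt vectors commute with this direct limit: every Witt vector over B
is the image of a Witt vector over some A_i, and two Witt vectors over some A_i with the same image
over B already have the same image over some A_j. (Both finiteness hypotheses matter: for an
arbitrary filtered direct limit of commutative rings either assertion can fail.) -/
theorem result
    (p : ℕ) [Fact p.Prime] (k : Type u) [Field k] [CharP k p] [PerfectRing k p]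
    {ι : Type v} [Preorder ι] [IsDirected ι (· ≤ ·)] [Nonempty ι]
    (A : ι → Type w) [∀ i, CommRing (A i)] [∀ i, Algebra k (A i)]
    [∀ i, Algebra.FiniteType k (A i)]
    (f : ∀ i j, i ≤ j → (A i →ₐ[k] A j))
    (hf : ∀ i j l (hij : i ≤ j) (hjl : j ≤ l) (x : A i),
      f j l hjl (f i j hij x) = f i l (hij.trans hjl) x)
    (B : Type x) [CommRing B] [Algebra k B] [Algebra.FiniteType k B]
    (g : ∀ i, A i →ₐ[k] B)
    (hfg : ∀ i j (hij : i ≤ j) (x : A i), g j (f i j hij x) = g i x)
    (hsurj : ∀ b : B, ∃ i, ∃ x : A i, g i x = b)
    (hinj : ∀ i (x y : A i), g i x = g i y → ∃ j, ∃ hij : i ≤ j, f i j hij x = f i j hij y) :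
    (∀ w : WittVector p B, ∃ i, ∃ v : WittVector p (A i),
        WittVector.map (g i).toRingHom v = w) ∧
    (∀ i (v v' : WittVector p (A i)),
        WittVector.map (g i).toRingHom v = WittVector.map (g i).toRingHom v' →
        ∃ j, ∃ hij : i ≤ j,
          WittVector.map (f i j hij).toRingHom v = WittVector.map (f i j hij).toRingHom v') := by
  classical
  -- every finite subset of B lifts to one stage
  have hfin : ∀ s : Finset B, ∃ i, ↑s ⊆ Set.range (g i) := by
    intro s
    induction s using Finset.induction_on with
    | empty =>
        obtain ⟨i⟩ := (inferInstance : Nonempty ι)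
        exact ⟨i, by simp⟩
    | @insert b s _ ih =>
        obtain ⟨i, hi⟩ := ih
        obtain ⟨j, y, hy⟩ := hsurj b
        obtain ⟨l, hil, hjl⟩ := exists_ge_ge i j
        refine ⟨l, ?_⟩
        rw [Finset.coe_insert, Set.insert_subset_iff]
        refine ⟨⟨f j l hjl y, by rw [hfg, hy]⟩, fun c hc => ?_⟩
        obtain ⟨z, rfl⟩ := hi hc
        exact ⟨f i l hil z, hfg i l hil z⟩
  obtain ⟨s, hs⟩ := (inferInstance : Algebra.FiniteType k B).out
  obtain ⟨i₀, hi₀⟩ := hfin s
  have hsurj₀ : Function.Surjective (g i₀) := by
    rw [← AlgHom.range_eq_top, eq_top_iff, ← hs, Algebra.adjoin_le_iff]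
    exact hi₀
  refine ⟨fun w => ⟨i₀, WittVector.map_surjective (g i₀).toRingHom hsurj₀ w⟩,
    fun i v v' hvv => ?_⟩
  haveI : IsNoetherianRing (A i) := Algebra.FiniteType.isNoetherianRing k (A i)
  obtain ⟨t, ht⟩ : (RingHom.ker (g i).toRingHom).FG := IsNoetherian.noetherian _
  -- kill the kernel at one stage
  have hkill : ∀ t' : Finset (A i), (∀ z ∈ t', g i z = 0) →
      ∃ j, ∃ hij : i ≤ j, ∀ z ∈ t', f i j hij z = 0 := by
    intro t'
    induction t' using Finset.induction_on with
    | empty => exact fun _ => ⟨i, le_rfl, by simp⟩
    | @insert b t' _ ih =>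
        intro hz
        obtain ⟨j, hij, hj⟩ := ih fun z h => hz z (Finset.mem_insert_of_mem h)
        obtain ⟨l, hil, hl⟩ := hinj i b 0 (by rw [map_zero]; exact hz b (Finset.mem_insert_self _ _))
        obtain ⟨m, hjm, hlm⟩ := exists_ge_ge j l
        refine ⟨m, hij.trans hjm, fun z h => ?_⟩
        rcases Finset.mem_insert.mp h with rfl | h
        · rw [← hf i l m hil hlm, hl, map_zero, map_zero]
        · rw [← hf i j m hij hjm, hj z h, map_zero]
  obtain ⟨j, hij, hj⟩ := hkill t fun z hz => by
    have : z ∈ RingHom.ker (g i).toRingHom := ht ▸ Submodule.subset_span hz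
    exact this
  have hle : RingHom.ker (g i).toRingHom ≤ RingHom.ker (f i j hij).toRingHom := by
    rw [← ht, Submodule.span_le]
    exact fun z hz => hj z hz
  refine ⟨j, hij, WittVector.ext fun n => ?_⟩
  rw [WittVector.map_coeff, WittVector.map_coeff]
  have h1 : (g i).toRingHom (v.coeff n - v'.coeff n) = 0 := by
    rw [map_sub, ← WittVector.map_coeff, ← WittVector.map_coeff, hvv, sub_self]
  have h2 : (f i j hij).toRingHom (v.coeff n - v'.coeff n) = 0 := hle h1
  rwa [map_sub, sub_eq_zero] at h2

end Groth.Agent.S19035
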