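import Groth.Statements.S19036
import Mathlib
-- import your own Groth.Agent.* helpers here

set_option autoImplicit false
universe u
open Instab

namespace Groth.Agent.S19036

open CategoryTheory AlgebraicGeometry in
example : True := trivial

section Aux
open CategoryTheory AlgebraicGeometry TopologicalSpace

/-- A family of finite conditions covering all valuation subrings above `B` has a finite subfamily doing so. -/
theorem exists_finset_valuationSubring_cover {K : Type*} [Field K] (B : Set K) {ι : Type*} (s : ι → Finset K)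
    (h : ∀ O : ValuationSubring K, B ⊆ O → ∃ i, (s i : Set K) ⊆ O) :
    ∃ t : Finset ι, ∀ O : ValuationSubring K, B ⊆ O → ∃ i ∈ t, (s i : Set K) ⊆ O := by
  classical
  by_contra! hne
  choose O hB hO using hne
  let U : Ultrafilter (Finset ι) := Ultrafilter.of Filter.atTop
  let L : ValuationSubring K :=
    { carrier := {x | ∀ᶠ t in (U : Filter (Finset ι)), x ∈ O t}
      mul_mem' := fun ha hb => (ha.and hb).mono fun t h => mul_mem h.1 h.2
      one_mem' := Filter.Eventually.of_forall fun t => one_mem _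
      add_mem' := fun ha hb => (ha.and hb).mono fun t h => add_mem h.1 h.2
      zero_mem' := Filter.Eventually.of_forall fun t => zero_mem _
      neg_mem' := fun ha => ha.mono fun t h => neg_mem h
      mem_or_inv_mem' := fun x => Ultrafilter.eventually_or.1
        (Filter.Eventually.of_forall fun t => (O t).mem_or_inv_mem x) }
  obtain ⟨i, hi⟩ := h L fun b hb => Filter.Eventually.of_forall fun t => hB t hb
  have h1 : ∀ᶠ t in (U : Filter (Finset ι)), ∀ x ∈ s i, x ∈ O t :=
    (Finset.eventually_all _).2 fun x hx => hi hx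
  have h2 : ∀ᶠ t in (U : Filter (Finset ι)), i ∈ t :=
    ((Filter.eventually_ge_atTop ({i} : Finset ι)).filter_mono (Ultrafilter.of_le _)).mono
      fun t ht => Finset.singleton_subset_iff.1 ht
  obtain ⟨t, ht1, ht2⟩ := (h1.and h2).exists
  exact hO t i ht2 fun x hx => ht1 x hx

variable {X Y : Scheme.{u}} (f : X ⟶ Y)

theorem isCompact_inter_preimage [LocallyOfFinitePresentation f] (hf : ValuativeCriterion f) {V : Y.Opens}
    (hV : IsAffineOpen V) {Z : Set X} (hZ : Z ∈ irreducibleComponents ↥X) :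
    IsCompact (Z ∩ (f ⁻¹ᵁ V : X.Opens)) := by
  classical
  rcases Set.eq_empty_or_nonempty (Z ∩ ((f ⁻¹ᵁ V : X.Opens) : Set X)) with h0 | hne
  · rw [h0]; exact isCompact_empty
  have hZc : IsClosed Z := isClosed_of_mem_irreducibleComponents Z hZ
  obtain ⟨η, hη⟩ := QuasiSober.sober (α := X) hZ.1 hZc
  have hηopen : ∀ W : X.Opens, (Z ∩ (W : Set X)).Nonempty → η ∈ W := by
    rintro W ⟨x, hx, hxW⟩
    exact (hη.specializes hx).mem_open W.2 hxW
  have hηV : η ∈ f ⁻¹ᵁ V := hηopen _ hne
  let I := {U : X.Opens // IsAffineOpen U ∧ U ≤ f ⁻¹ᵁ V ∧ η ∈ U}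
  let K := X.residueField η
  let ev : ∀ U : I, Γ(X, U.1) ⟶ K := fun U => X.presheaf.germ U.1 η U.2.2.2 ≫ X.residue η
  have hev : ∀ U : I, Spec.map (ev U) ≫ U.2.1.fromSpec = X.fromSpecResidueField η := fun U => by
    rw [Scheme.fromSpecResidueField, Spec.map_comp, Category.assoc]
    congr 1
    exact U.2.1.fromSpecStalk_eq_fromSpecStalk U.2.2.2
  let α : ∀ U : I, Γ(Y, V) ⟶ Γ(X, U.1) := fun U => f.appLE V U.1 U.2.2.1
  let bmap : Γ(Y, V) ⟶ K := Y.presheaf.germ V (f η) hηV ≫ f.stalkMap η ≫ X.residue η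
  have hb : ∀ U : I, α U ≫ ev U = bmap := fun U => by
    simp only [α, ev, bmap, Scheme.Hom.appLE, Category.assoc, TopCat.Presheaf.germ_res_assoc]
    exact (Scheme.Hom.germ_stalkMap_assoc f V η hηV _).symm
  have hft : ∀ U : I, (α U).hom.FiniteType := fun U =>
    LocallyOfFiniteType.finiteType_appLE (f := f) hV U.2.1 U.2.2.1
  have hgen : ∀ U : I, ∃ G : Finset Γ(X, U.1), ∀ O : Subring Γ(X, U.1),
      (∀ b, (α U).hom b ∈ O) → (G : Set Γ(X, U.1)) ⊆ O → ∀ a, a ∈ O := by
    intro U
    letI := (α U).hom.toAlgebra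
    obtain ⟨G, hG⟩ := (hft U).out
    refine ⟨G, fun O hO hGO a => ?_⟩
    have ha : a ∈ Algebra.adjoin Γ(Y, V) (G : Set Γ(X, U.1)) := hG ▸ trivial
    induction ha using Algebra.adjoin_induction with
    | mem x hx => exact hGO hx
    | algebraMap b => exact hO b
    | add x y _ _ hx hy => exact add_mem hx hy
    | mul x y _ _ hx hy => exact mul_mem hx hy
  choose G hG using hgen
  have hfac : ∀ (U : I) (O : ValuationSubring K), (∀ b, bmap b ∈ O) → (∀ a ∈ G U, ev U a ∈ O) →
      ∃ ψ : Γ(X, U.1) ⟶ CommRingCat.of O, ψ ≫ CommRingCat.ofHom O.subtype = ev U := by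
    intro U O hbO hGO
    have hall : ∀ a, ev U a ∈ O := hG U (O.toSubring.comap (ev U).hom)
      (fun b => by
        show ev U (α U b) ∈ O
        rw [← CommRingCat.comp_apply, hb U]
        exact hbO b) (fun a ha => hGO a ha)
    exact ⟨CommRingCat.ofHom ((ev U).hom.codRestrict O.toSubring hall), by ext a; rfl⟩
  -- the valuative square of a valuation subring
  have hsq : ∀ (O : ValuationSubring K) (hbO : ∀ b, bmap b ∈ O),
      CommSq (X.fromSpecResidueField η) (Spec.map (CommRingCat.ofHom O.subtype : CommRingCat.of O ⟶ K)) f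
        (Spec.map (CommRingCat.ofHom (bmap.hom.codRestrict O.toSubring hbO)) ≫ hV.fromSpec) := by
    intro O hbO
    constructor
    obtain ⟨W, hW, hηW, hWV⟩ := exists_isAffineOpen_mem_and_subset hηV
    rw [← hev ⟨W, hW, hWV, hηW⟩, Category.assoc, ← IsAffineOpen.SpecMap_appLE_fromSpec f hV hW hWV,
      ← Spec.map_comp_assoc]
    exact (congrArg (fun g => Spec.map g ≫ hV.fromSpec) ((hb ⟨W, hW, hWV, hηW⟩).trans (by ext b; rfl))).trans
      (Spec.map_comp_assoc (CommRingCat.ofHom (bmap.hom.codRestrict O.toSubring hbO))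
        (CommRingCat.ofHom O.subtype : CommRingCat.of O ⟶ K) hV.fromSpec)
  have hlift : ∀ (O : ValuationSubring K) (hbO : ∀ b, bmap b ∈ O) (U : I)
      (ψ : Γ(X, U.1) ⟶ CommRingCat.of O), ψ ≫ CommRingCat.ofHom O.subtype = ev U →
      ∃ l : (hsq O hbO).LiftStruct, l.l = Spec.map ψ ≫ U.2.1.fromSpec := by
    intro O hbO U ψ hψ
    refine ⟨⟨Spec.map ψ ≫ U.2.1.fromSpec, ?_, ?_⟩, rfl⟩
    · exact ((Spec.map_comp_assoc ψ (CommRingCat.ofHom O.subtype : CommRingCat.of O ⟶ K) _).symm.trans
        (congrArg (fun g => Spec.map g ≫ U.2.1.fromSpec) hψ)).trans (hev U)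
    · rw [Category.assoc, ← IsAffineOpen.SpecMap_appLE_fromSpec f hV U.2.1 U.2.2.1, ← Spec.map_comp_assoc]
      congr 2
      ext b
      show (ψ ≫ CommRingCat.ofHom O.subtype) (α U b) = bmap b
      rw [hψ, ← CommRingCat.comp_apply, hb U]
  let sq : ∀ (O : ValuationSubring K), (∀ b, bmap b ∈ O) → ValuativeCommSq f := fun O hbO =>
    { R := O, K := K, i₁ := _, i₂ := _, commSq := hsq O hbO }
  have hcover : ∀ O : ValuationSubring K, Set.range bmap ⊆ O →
      ∃ U : I, ((G U).image (ev U) : Set K) ⊆ O := by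
    intro O hO
    have hbO : ∀ b, bmap b ∈ O := fun b => hO ⟨b, rfl⟩
    obtain ⟨l, hl₁, hl₂⟩ := (hf.existence (sq O hbO)).exists_lift
    dsimp only [sq] at l hl₁ hl₂
    let p₀ : Spec (CommRingCat.of O) := IsLocalRing.closedPoint O
    let q₀ : Spec K := IsLocalRing.closedPoint K
    let c := l p₀
    have hcV : c ∈ f ⁻¹ᵁ V := by
      show f c ∈ V
      rw [show f c = hV.fromSpec (Spec.map (CommRingCat.ofHom (bmap.hom.codRestrict O.toSubring hbO)) p₀) from
        congrArg (fun g => g p₀) hl₂]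
      exact hV.range_fromSpec.subset ⟨_, rfl⟩
    have hηc : η ⤳ c := by
      have h1 : l (Spec.map (CommRingCat.ofHom O.subtype : CommRingCat.of O ⟶ K) q₀) = η :=
        (congrArg (fun g => g q₀) hl₁).trans (Scheme.fromSpecResidueField_apply η _)
      rw [← h1]
      exact (IsLocalRing.specializes_closedPoint (R := O) _).map l.continuous
    obtain ⟨W, hW, hcW, hWV⟩ := exists_isAffineOpen_mem_and_subset hcV
    let U : I := ⟨W, hW, hWV, hηc.mem_open W.2 hcW⟩
    have hrange : Set.range l ⊆ Set.range hW.fromSpec := by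
      rintro _ ⟨p, rfl⟩
      rw [hW.range_fromSpec]
      exact ((IsLocalRing.specializes_closedPoint (R := O) p).map l.continuous).mem_open W.2 hcW
    let ψ := Spec.preimage (IsOpenImmersion.lift hW.fromSpec l hrange)
    have hψl : Spec.map ψ ≫ hW.fromSpec = l := by
      rw [Spec.map_preimage, IsOpenImmersion.lift_fac]
    have hψ : ψ ≫ CommRingCat.ofHom O.subtype = ev U := by
      apply Spec.map_injective
      rw [← cancel_mono hW.fromSpec, Spec.map_comp, Category.assoc, hψl]
      exact hl₁.trans (hev U).symm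
    refine ⟨U, fun z hz => ?_⟩
    obtain ⟨a, -, rfl⟩ := Finset.mem_image.1 hz
    rw [← hψ]
    exact (ψ a).2
  obtain ⟨t, ht⟩ := exists_finset_valuationSubring_cover (Set.range bmap) (fun U => (G U).image (ev U)) hcover
  have hsub : Z ∩ ((f ⁻¹ᵁ V : X.Opens) : Set X) = Z ∩ ⋃ U ∈ t, (U.1 : Set X) := by
    refine Set.Subset.antisymm ?_ (Set.inter_subset_inter_right _ (Set.iUnion₂_subset fun U _ => U.2.2.1))
    rintro x ⟨hxZ, hxV⟩
    refine ⟨hxZ, ?_⟩
    have hs : η ⤳ x := hη.specializes hxZ
    let φ : X.presheaf.stalk x ⟶ K := X.presheaf.stalkSpecializes hs ≫ X.residue η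
    obtain ⟨O, hO, hOloc⟩ := IsLocalRing.exists_factor_valuationRing φ.hom
    obtain ⟨W, hW, hxW, hWV⟩ := exists_isAffineOpen_mem_and_subset hxV
    let U₁ : I := ⟨W, hW, hWV, hs.mem_open W.2 hxW⟩
    let ψ₁ : Γ(X, W) ⟶ CommRingCat.of O := X.presheaf.germ W x hxW ≫ CommRingCat.ofHom (φ.hom.codRestrict O.toSubring hO)
    have hψ₁ : ψ₁ ≫ CommRingCat.ofHom O.subtype = ev U₁ := by
      show X.presheaf.germ W x hxW ≫ φ = _
      exact TopCat.Presheaf.germ_stalkSpecializes_assoc _ _ _ _
    have hbO : ∀ b, bmap b ∈ O := fun b => by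
      rw [← hb U₁, ← hψ₁]
      exact (ψ₁ (α U₁ b)).2
    obtain ⟨U₂, hU₂t, hU₂⟩ := ht O (Set.range_subset_iff.2 hbO)
    obtain ⟨ψ₂, hψ₂⟩ := hfac U₂ O hbO (fun a ha => hU₂ (Finset.mem_image_of_mem _ ha))
    obtain ⟨l₁, hl₁⟩ := hlift O hbO U₁ ψ₁ hψ₁
    obtain ⟨l₂, hl₂⟩ := hlift O hbO U₂ ψ₂ hψ₂
    haveI : Subsingleton (hsq O hbO).LiftStruct := hf.uniqueness (sq O hbO)
    have hl : l₁ = l₂ := Subsingleton.elim _ _
    haveI : IsLocalRing O.toSubring := inferInstanceAs (IsLocalRing O)
    let p₀ : Spec (CommRingCat.of O) := IsLocalRing.closedPoint O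
    have hx : l₁.l p₀ = x := by
      rw [hl₁]
      let ψ₀ : X.presheaf.stalk x ⟶ CommRingCat.of O := CommRingCat.ofHom (φ.hom.codRestrict O.toSubring hO)
      have hp : Spec.map ψ₀ p₀ = IsLocalRing.closedPoint (X.presheaf.stalk x) :=
        IsLocalRing.comap_closedPoint (φ.hom.codRestrict O.toSubring hO)
      show (Spec.map (X.presheaf.germ W x hxW ≫ ψ₀) ≫ hW.fromSpec) p₀ = x
      rw [Spec.map_comp, Category.assoc]
      show (hW.fromSpecStalk hxW) (Spec.map ψ₀ p₀) = x
      rw [hp, hW.fromSpecStalk_eq_fromSpecStalk hxW, Scheme.fromSpecStalk_closedPoint]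
    refine Set.mem_iUnion₂.2 ⟨U₂, hU₂t, ?_⟩
    rw [← hx, hl, hl₂]
    exact U₂.2.1.range_fromSpec.subset ⟨Spec.map ψ₂ p₀, rfl⟩
  rw [hsub]
  exact (t.isCompact_biUnion fun U _ => U.2.1.isCompact).inter_left hZc

end Aux

open CategoryTheory AlgebraicGeometry in

/-- Let f : X → Y be a morphism of schemes which is locally of finite presentation, and for which the
valuative criterion holds (every valuative square over a valuation ring has exactly one lift). When
X has only finitely many irreducible components, the morphism f is quasi-compact. (The source states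
this for algebraic spaces and adds that f is then proper; universal closedness follows from
quasi-compactness and the existence part by the standard criterion, and separatedness from the
uniqueness part once f is quasi-separated. Only the scheme case and the quasi-compactness conclusion
are stated here.) -/
theorem result
    {X Y : Scheme.{u}} (f : X ⟶ Y) [LocallyOfFinitePresentation f]
    (hf : ValuativeCriterion f) (hX : (irreducibleComponents ↥X).Finite) :
    QuasiCompact f := by
  classical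
  rw [quasiCompact_iff_forall_isAffineOpen]
  intro V hV
  have hcov : ((f ⁻¹ᵁ V : X.Opens) : Set X) = ⋃ Z ∈ irreducibleComponents ↥X, Z ∩ (f ⁻¹ᵁ V : X.Opens) := by
    ext x
    simp only [Set.mem_iUnion, Set.mem_inter_iff, exists_prop]
    exact ⟨fun h => ⟨irreducibleComponent x, irreducibleComponent_mem_irreducibleComponents x,
      mem_irreducibleComponent, h⟩, fun ⟨_, _, _, h⟩ => h⟩
  rw [hcov]
  exact hX.isCompact_biUnion fun Z hZ => isCompact_inter_preimage f hf hV hZ

end Groth.Agent.S19036
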