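import Groth.Statements.S19037
import Mathlib
-- import your own Groth.Agent.* helpers here

set_option autoImplicit false
universe u v
open scoped Polynomial LaurentPolynomial
open Instab

namespace Groth.Agent.S19037

/-- Affine form over a ring R. Let A be a commutative ℤ-graded R-algebra and t an element of degree −1
(so A is a graded algebra over R[t] with t in degree −1), and let ψ : A[1/t] → R[T, T⁻¹] be an
R-algebra map sending t to T which is graded, in the sense that each homogeneous element of degree n
of A goes to an element of R times T^(−n). Then ψ is obtained by inverting t from an R-algebra map χ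
: A → R[T] (compared through the inclusion of R[T] in R[T, T⁻¹]) if and only if ψ kills t·a for
every homogeneous a of degree 1; such a χ is unique. (The source states this for quasi-coherent
graded algebras over an arbitrary base scheme; the statement is local on the base and is given here
over an affine base.) -/
theorem result
    {R : Type u} {A : Type v} [CommRing R] [CommRing A] [Algebra R A]
    (𝒜 : ℤ → Submodule R A) [GradedAlgebra 𝒜] (t : A) (ht : t ∈ 𝒜 (-1))
    (ψ : Localization.Away t →ₐ[R] R[T;T⁻¹])
    (hψt : ψ (algebraMap A (Localization.Away t) t) = LaurentPolynomial.T 1)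
    (hψ : ∀ (n : ℤ) (a : A), a ∈ 𝒜 n →
      ∃ r : R, ψ (algebraMap A (Localization.Away t) a) = LaurentPolynomial.C r * LaurentPolynomial.T (-n)) :
    (∃! χ : A →ₐ[R] R[X], ∀ a : A,
        ψ (algebraMap A (Localization.Away t) a) = Polynomial.toLaurentAlg (χ a)) ↔
      ∀ a ∈ 𝒜 1, ψ (algebraMap A (Localization.Away t) (t * a)) = 0 := by
  classical
  set g : A →ₐ[R] R[T;T⁻¹] := ψ.comp (IsScalarTower.toAlgHom R A (Localization.Away t)) with hg
  have hga : ∀ a, g a = ψ (algebraMap A (Localization.Away t) a) := fun a => rfl
  have hgt : g t = LaurentPolynomial.T 1 := hψt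
  constructor
  · rintro ⟨χ, hχ, -⟩ a ha
    obtain ⟨r, hr⟩ := hψ 1 a ha
    have h1 := hχ a
    rw [hr] at h1
    have h2 := congrArg (fun x => x.coeff (-1 : ℤ)) h1
    have hr0 : r = 0 := by
      rw [← LaurentPolynomial.single_eq_C_mul_T] at h1
      have h2 := DFunLike.congr_fun (congrArg AddMonoidAlgebra.coeff h1) (-1 : ℤ)
      simp only [AddMonoidAlgebra.coeff_single, Finsupp.single_eq_same] at h2
      rw [h2]
      by_contra hne
      have := Finsupp.mem_support_iff.2 hne
      rw [show (Polynomial.toLaurentAlg (χ a)) = Polynomial.toLaurent (χ a) from rfl,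
        LaurentPolynomial.support_coeff_toLaurent] at this
      simp at this
    rw [map_mul, map_mul, hr, hr0]
    simp
  · intro h
    have hmem : ∀ a : A, g a ∈ (Polynomial.toLaurentAlg (R := R)).range := by
      intro a
      induction a using DirectSum.Decomposition.inductionOn (ℳ := 𝒜) with
      | zero => rw [map_zero]; exact zero_mem _
      | add x y hx hy => rw [map_add]; exact add_mem hx hy
      | @homogeneous n a =>
        obtain ⟨a, ha⟩ := a
        obtain ⟨r, hr⟩ := hψ n a ha
        rw [hga, hr]
        rcases le_or_gt n 0 with hn | hn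
        · obtain ⟨m, hm⟩ := Int.eq_ofNat_of_zero_le (show 0 ≤ -n by omega)
          refine ⟨Polynomial.C r * Polynomial.X ^ m, ?_⟩
          show Polynomial.toLaurent _ = _
          rw [hm, map_mul, Polynomial.toLaurent_C, Polynomial.toLaurent_X_pow]
        · obtain ⟨m, rfl⟩ := Int.eq_ofNat_of_zero_le hn.le
          obtain ⟨j, rfl⟩ : ∃ j, m = j + 1 := ⟨m - 1, by omega⟩
          have htj : t ^ j * a ∈ 𝒜 1 := by
            have := SetLike.mul_mem_graded (A := 𝒜) (SetLike.pow_mem_graded j ht) ha
            convert this using 2
            push_cast; simp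
          have h0 := h _ htj
          rw [← hga, map_mul, map_mul, map_pow, hgt, hga a, hr] at h0
          have hu : IsUnit (LaurentPolynomial.T 1 : R[T;T⁻¹]) := LaurentPolynomial.isUnit_T 1
          have : LaurentPolynomial.C r * LaurentPolynomial.T (-((j + 1 : ℕ) : ℤ)) = 0 := by
            rw [← mul_assoc] at h0
            exact (((hu.mul (hu.pow j))).mul_right_eq_zero).1 h0
          rw [this]
          exact zero_mem _
    let e := AlgEquiv.ofInjective (Polynomial.toLaurentAlg (R := R)) Polynomial.toLaurent_injective
    refine ⟨e.symm.toAlgHom.comp (g.codRestrict _ hmem), fun a => ?_, fun χ hχ => ?_⟩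
    · exact (congrArg Subtype.val (e.apply_symm_apply (g.codRestrict _ hmem a))).symm
    · apply AlgHom.ext
      intro a
      apply Polynomial.toLaurent_injective
      show Polynomial.toLaurentAlg (χ a) = Polynomial.toLaurentAlg _
      rw [← hχ a]
      exact (congrArg Subtype.val (e.apply_symm_apply (g.codRestrict _ hmem a))).symm

end Groth.Agent.S19037
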