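import Groth.Statements.S19039
import Groth.Agent.LineExt.Basic
import Groth.Agent.GrpSchLib.Action

set_option autoImplicit false
universe u
open Instab

namespace Groth.Agent.S19039

open CategoryTheory MonoidalCategory CartesianMonoidalCategory MonObj GrpObj AlgebraicGeometry in
/-- The case n = 1 for a scheme X separated over an affine base Spec R, stated as the two facts that
identify equivariant families with maps whose orbit map extends. Let G_m act on X (a left action a :
G_m × X → X over Spec R) and on A¹ × T through the scaling action on A¹, for an R-scheme T; write j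
: G_m → A¹ for the inclusion t ↦ t. (a) If u, v : A¹ × T → X are G_m-equivariant R-morphisms with
the same restriction to the section {1} × T, then u = v. (b) If x : T → X is an R-morphism and u :
A¹ × T → X is an R-morphism whose restriction along j × T is the orbit family (g, t) ↦ g · x(t),
then u is G_m-equivariant. (The source works with an algebraic space X quasi-separated and locally
of finite presentation over a base B with an action of G_mⁿ and deduces that X⁺ → X is a locally
finitely presented unramified monomorphism; only the elementary identification for n = 1 is stated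
here, which uses separatedness alone.) -/
theorem result
    (R : Type u) [CommRing R] (X : Over (Spec (CommRingCat.of R))) [IsSeparated X.hom]
    (a : AlgGrp.Action (ThetaS.Gm R) X) (T : Over (Spec (CommRingCat.of R))) :
    (∀ u v : ThetaS.Line R ⊗ T ⟶ X,
        (α_ (ThetaS.Gm R) (ThetaS.Line R) T).inv ≫ ((ThetaS.lineAction R).act ▷ T) ≫ u = (ThetaS.Gm R ◁ u) ≫ a.act →
        (α_ (ThetaS.Gm R) (ThetaS.Line R) T).inv ≫ ((ThetaS.lineAction R).act ▷ T) ≫ v = (ThetaS.Gm R ◁ v) ≫ a.act →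
        lift ((1 : T ⟶ ThetaS.Gm R) ≫ (CoactBr.pt (ThetaS.linePt (ThetaS.zPow R 1)) : ThetaS.Gm R ⟶ ThetaS.Line R)) (𝟙 T) ≫ u =
          lift ((1 : T ⟶ ThetaS.Gm R) ≫ (CoactBr.pt (ThetaS.linePt (ThetaS.zPow R 1)) : ThetaS.Gm R ⟶ ThetaS.Line R)) (𝟙 T) ≫ v →
        u = v) ∧
    (∀ (x : T ⟶ X) (u : ThetaS.Line R ⊗ T ⟶ X),
        ((CoactBr.pt (ThetaS.linePt (ThetaS.zPow R 1)) : ThetaS.Gm R ⟶ ThetaS.Line R) ▷ T) ≫ u = (ThetaS.Gm R ◁ x) ≫ a.act →
        (α_ (ThetaS.Gm R) (ThetaS.Line R) T).inv ≫ ((ThetaS.lineAction R).act ▷ T) ≫ u =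
          (ThetaS.Gm R ◁ u) ≫ a.act) := by
  have j1 : ∀ {T' : Over (Spec (CommRingCat.of R))} (g : T' ⟶ ThetaS.Gm R),
      lift g ((1 : T' ⟶ ThetaS.Gm R) ≫ Groth.Agent.LineExt.j R) ≫ (ThetaS.lineAction R).act =
        g ≫ Groth.Agent.LineExt.j R := fun g => by
    rw [Groth.Agent.LineExt.act_j, _root_.mul_one]
  have eqv : ∀ (u : ThetaS.Line R ⊗ T ⟶ X),
      (α_ (ThetaS.Gm R) (ThetaS.Line R) T).inv ≫ ((ThetaS.lineAction R).act ▷ T) ≫ u = (ThetaS.Gm R ◁ u) ≫ a.act →
      ∀ {T' : Over (Spec (CommRingCat.of R))} (g : T' ⟶ ThetaS.Gm R) (b : T' ⟶ ThetaS.Line R) (t : T' ⟶ T),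
        lift (lift g b ≫ (ThetaS.lineAction R).act) t ≫ u = lift g (lift b t ≫ u) ≫ a.act := fun u hu T' g b t => by
    have := congrArg (fun m => lift g (lift b t) ≫ m) hu
    simpa [lift_lift_associator_inv_assoc, lift_whiskerRight_assoc, lift_whiskerLeft_assoc] using this
  refine ⟨fun u v hu hv h1 => ?_, fun x u hu => ?_⟩
  · refine Groth.Agent.LineExt.ext_line' u v fun T' g t => ?_
    rw [← j1 g, eqv u hu, eqv v hv]
    have h1' := congrArg (fun m => t ≫ m) h1
    simp only [← Category.assoc, comp_lift, MonObj.comp_one, Category.comp_id] at h1'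
    rw [h1']
  · have hux : ∀ {T' : Over (Spec (CommRingCat.of R))} (g : T' ⟶ ThetaS.Gm R) (t : T' ⟶ T),
        lift (g ≫ Groth.Agent.LineExt.j R) t ≫ u = lift g (t ≫ x) ≫ a.act := fun g t => by
      have := congrArg (fun m => lift g t ≫ m) hu
      simpa [lift_whiskerRight_assoc, lift_whiskerLeft_assoc] using this
    have key : lift (lift (fst (ThetaS.Line R) (ThetaS.Gm R ⊗ T) |> fun l => lift (snd _ _ ≫ fst _ _) l)
          (𝟙 _) ≫ fst _ _ ≫ (ThetaS.lineAction R).act) (snd (ThetaS.Line R) (ThetaS.Gm R ⊗ T) ≫ snd _ _) ≫ u =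
        lift (snd (ThetaS.Line R) (ThetaS.Gm R ⊗ T) ≫ fst _ _)
          (lift (fst _ _) (snd (ThetaS.Line R) (ThetaS.Gm R ⊗ T) ≫ snd _ _) ≫ u) ≫ a.act := by
      refine Groth.Agent.LineExt.ext_line' _ _ fun T' g p => ?_
      simp only [← Category.assoc, comp_lift, lift_fst, lift_snd, Category.comp_id]
      rw [Groth.Agent.LineExt.act_j, hux, hux]
      simp only [Category.assoc]
      exact (Groth.Agent.GrpSchLib.act_mul a _ _ _).symm
    have h' := congrArg (fun m => lift (fst (ThetaS.Gm R) (ThetaS.Line R ⊗ T) |> fun _ => snd (ThetaS.Gm R) (ThetaS.Line R ⊗ T) ≫ fst _ _)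
      (lift (fst (ThetaS.Gm R) (ThetaS.Line R ⊗ T)) (snd (ThetaS.Gm R) (ThetaS.Line R ⊗ T) ≫ snd _ _)) ≫ m) key
    simp only [← Category.assoc, comp_lift, lift_fst, lift_snd, Category.comp_id] at h'
    have hpt : 𝟙 (ThetaS.Gm R ⊗ (ThetaS.Line R ⊗ T)) = lift (fst _ _) (lift (snd _ _ ≫ fst _ _) (snd _ _ ≫ snd _ _)) := by
      rw [← comp_lift, lift_fst_snd, Category.comp_id, lift_fst_snd]
    rw [← Category.id_comp ((α_ (ThetaS.Gm R) (ThetaS.Line R) T).inv ≫ _), ← Category.id_comp ((ThetaS.Gm R ◁ u) ≫ a.act), hpt,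
      lift_lift_associator_inv_assoc, lift_whiskerRight_assoc, lift_whiskerLeft_assoc]
    simpa only [Category.assoc] using h'

end Groth.Agent.S19039
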