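import Groth.Statements.S19040
import Groth.Agent.H23.MultiP1.Basic
import Mathlib.AlgebraicGeometry.ZariskisMainTheorem
-- import your own Groth.Agent.* helpers here

set_option autoImplicit false
universe u
open CategoryTheory CategoryTheory.Limits AlgebraicGeometry
open Cyc

namespace Groth.Agent.S19040

/-- Let X be an integral Noetherian scheme and n a natural number, let P be the n-fold fibre product
over X of copies of the projective line over X, with structure map to X, and let W be an integral
closed subscheme of P of codimension n, in the sense that the local ring of P at the generic point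
of W has Krull dimension n. If the induced morphism f : W → X is dominant and flat, then f is finite
and surjective, so finite and faithfully flat. (The source works with a Noetherian separated scheme
X of finite dimension over a field k, takes W to be the closure in X ×_k (P^1_k)^n of an integral
closed subscheme Z of codimension n of X × (P^1 minus the point 1)^n, and assumes the closure
dominant and flat over X; such a closure is an integral closed subscheme of codimension n of the
n-fold product of projective lines over X, which is the form stated here, and the field k plays no
role.) -/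
theorem result
    (X : Scheme.{u}) [IsIntegral X] [IsNoetherian X] (n : ℕ)
    (W : Scheme.{u}) [IsIntegral W]
    (i : W ⟶ widePullback X (fun _ : Fin n => CohB1.ProjSpaceOver 1 X)
      (fun _ => CohB1.ProjSpaceOver.toBase 1 X))
    [IsClosedImmersion i]
    (hcodim : ringKrullDim
      ((widePullback X (fun _ : Fin n => CohB1.ProjSpaceOver 1 X)
        (fun _ => CohB1.ProjSpaceOver.toBase 1 X)).presheaf.stalk (i.base (genericPoint W))) = n)
    (f : W ⟶ X)
    (hf : i ≫ WidePullback.base (fun _ : Fin n => CohB1.ProjSpaceOver.toBase 1 X) = f)
    [IsDominant f] [Flat f] :
    IsFinite f ∧ Surjective f := by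
  open Groth.Agent in
  subst hf
  have hsurj : Surjective (i ≫ H23.MultiP1.π X n) := by
    refine ⟨fun x => ?_⟩
    have h1 := (i ≫ H23.MultiP1.π X n).isClosedMap.isClosed_range
    have h2 := (i ≫ H23.MultiP1.π X n).denseRange.closure_range
    rw [h1.closure_eq] at h2
    exact h2.ge (Set.mem_univ x)
  refine ⟨?_, hsurj⟩
  set f := i ≫ H23.MultiP1.π X n with hfdef
  have hgen : f (genericPoint W) = genericPoint X := by
    refine (IsGenericPoint.eq ?_ (genericPoint_spec X))
    show closure {f (genericPoint W)} = Set.univ
    rw [← Set.image_singleton, ← closure_image_closure f.continuous, (genericPoint_spec W).def,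
      Set.image_univ, f.denseRange.closure_range]
  have := LocallyOfFiniteType.isLocallyNoetherian (H23.MultiP1.π X n)
  have hrd0 : FibDim.rd f (genericPoint W) = 0 := by
    have h1 := DimFormula.codim_le_add (H23.MultiP1.π X n) (i (genericPoint W))
    have h2 : DimFormula.codim (H23.MultiP1.π X n (i (genericPoint W))) = 0 := by
      rw [DimFormula.codim_eq_zero_iff]
      intro z hz
      rw [show H23.MultiP1.π X n (i (genericPoint W)) = genericPoint X from hgen] at hz ⊢
      exact (hz.antisymm ((genericPoint_spec X).specializes (Set.mem_univ z))).eq
    have h3 := H23.MultiP1.rd_add_fb_le X n (i (genericPoint W))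
    have h4 : DimFormula.codim (i (genericPoint W)) = n := by
      have h := DimFormula.ringKrullDim_stalk (i (genericPoint W))
      rw [hcodim] at h
      exact_mod_cast h.symm
    have h5 : FibDim.rd i (genericPoint W) = 0 := by
      have h := FibDim.rd_eq_rdeg i (genericPoint W)
      rw [VarDim.rdeg_preimmersion] at h
      exact_mod_cast h
    rw [hfdef, CycLib.rd_comp, h5]
    omega
  have hrd : ∀ z : W, FibDim.FibMax f z → FibDim.rd f z = 0 := by
    intro z hz
    have := LocallyOfFiniteType.isLocallyNoetherian f
    have h := (DimFormula.cd_formula f
      ((genericPoint_spec W).specializes (Set.mem_univ z))).1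
    rw [DimFormula.cd_eq_codim_of_irreducible, hgen, DimFormula.cd_eq_codim_of_irreducible,
      hrd0] at h
    have h2 := CycLib.codim_flat_le f z
    omega
  have hclosed : ∀ z z' : W, z' ⤳ z → f z' = f z → z' = z := by
    intro z z' h he
    by_contra hne
    obtain ⟨w, hw, hfw, hmax, hdim⟩ := FibDim.exists_fibMax_generization f z
    have h2 := FibDim.rd_le_fibreDimAt f h he
    rw [hdim, hrd w hmax] at h2
    have h3 := FibDim.rd_lt f h hne he
    have h4 : FibDim.rd f z' ≤ 0 := by exact_mod_cast h2
    omega
  have : LocallyQuasiFinite f := by
    refine LocallyQuasiFinite.of_finite_preimage_singleton f fun y => ?_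
    have := DimFormula.isLocallyNoetherian_fiber f y
    have : CompactSpace (f.fiber y) := inferInstance
    have : IsNoetherian (f.fiber y) := {}
    have hfin : (Set.univ : Set (f.fiber y)).Finite := by
      refine Set.Finite.subset ((TopologicalSpace.NoetherianSpace.finite_irreducibleComponents
        (α := f.fiber y)).biUnion (t := fun T => T) fun T hT => ?_) fun w _ => ?_
      · refine Set.Subsingleton.finite ?_
        intro a ha b hb
        obtain ⟨g, hg⟩ := QuasiSober.sober hT.1 (isClosed_of_mem_irreducibleComponents T hT)
        have key : ∀ a ∈ T, a = g := fun a ha => ((f.fiberι y).isEmbedding.injective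
          (hclosed _ _ ((hg.specializes ha).map (f.fiberι y).continuous)
            ((FibDim.fiber_apply_fiberι f g).trans (FibDim.fiber_apply_fiberι f a).symm))).symm
        rw [key a ha, key b hb]
      · simp only [Set.mem_iUnion, exists_prop]
        exact ⟨irreducibleComponent w, irreducibleComponent_mem_irreducibleComponents w,
          mem_irreducibleComponent⟩
    have := hfin.image (f.fiberι y)
    rwa [Set.image_univ, Scheme.Hom.range_fiberι] at this
  exact IsFinite.of_isProper_of_locallyQuasiFinite f
end Groth.Agent.S19040
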