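import Mathlib
import Groth.Agent.GcChar2.Basic
import Groth.Statements.S19041
-- import your own Groth.Agent.* helpers here

set_option autoImplicit false
universe u
open Dieu

namespace Groth.Agent.S19041

/-- Let `k` be a perfect field of characteristic `2` and `c` a natural number, and consider the explicit
`2c`-dimensional `k`-space on `X_1, …, X_c, Y_1, …, Y_c` with its operators `F` and `V` (`F Y_j =
0`; `F X_j = X_{j/2}` for `j` even and `Y_{c-(j-1)/2}` for `j` odd; `V Y_j = Y_{2j}` when `2j ≤ c`,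
else `0`; `V X_j = Y_{2c-2j+1}` when `2j > c`, else `0`). For `j = 2^e l` with `l` odd and `c < 2j ≤
2c`, and for `j'` with `c < 2j' ≤ 2c` and `n` with `2^n (2c - 2j' + 1) = c - (l-1)/2`, one has
`F^{e+1} X_j + V^{n+1} X_{j'} = 0`. (Stated over any perfect field of characteristic `2`; the source
works over an algebraically closed one.) -/
theorem result (c : ℕ) (k : Type u) [Field k] [CharP k 2] [PerfectRing k 2]
    (j e l : ℕ) (hj : j = 2 ^ e * l) (hl : Odd l) (hjc : j ≤ c) (hcj : c < 2 * j)
    (j' n : ℕ) (hj'c : j' ≤ c) (hcj' : c < 2 * j') (hn : 2 ^ n * (2 * c - 2 * j' + 1) = c - (l - 1) / 2) :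
    (W4c6eohyperellchar2.F c k)^[e + 1] (W4c6eohyperellchar2.X c k j) + (W4c6eohyperellchar2.V c k)^[n + 1] (W4c6eohyperellchar2.X c k j') = 0 := by
  have hj' : 2 ^ e * l ≤ c := hj ▸ hjc
  rw [hj, GcChar2.F_iter c hl e hj', Function.iterate_succ_apply, GcChar2.V_X c hcj' hj'c,
    GcChar2.V_iter c n _ (by omega) (by rw [hn]; omega), hn]
  refine Prod.ext (funext fun i => ?_) (funext fun i => ?_)
  · exact add_zero (0 : k)
  · exact CharTwo.add_self_eq_zero _

end Groth.Agent.S19041
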