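import Mathlib
import Groth.Agent.GcChar2.Basic
import Groth.Statements.S19043
-- import your own Groth.Agent.* helpers here

set_option autoImplicit false
universe u
open Dieu

namespace Groth.Agent.S19043

/-- Let `k` be a perfect field of characteristic `2` and `c` a natural number, and let `M` be the
explicit `2c`-dimensional `k`-space on `X_1, …, X_c, Y_1, …, Y_c` with its operators `F` and `V` (`F
Y_j = 0`; `F X_j = X_{j/2}` for `j` even and `Y_{c-(j-1)/2}` for `j` odd; `V Y_j = Y_{2j}` when `2j
≤ c`, else `0`; `V X_j = Y_{2c-2j+1}` when `2j > c`, else `0`). The classes of the `X_j` with `c <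
2j ≤ 2c` in the quotient of `M` by the `k`-span of `F(M) ∪ V(M)` are linearly independent and span
that quotient. (Stated over any perfect field of characteristic `2`; the source works over an
algebraically closed one.) -/
theorem result (c : ℕ) (k : Type u) [Field k] [CharP k 2] [PerfectRing k 2] :
    LinearIndependent k (fun j : {j : ℕ // c < 2 * j ∧ j ≤ c} =>
        Submodule.mkQ (Submodule.span k (Set.range (W4c6eohyperellchar2.F c k) ∪ Set.range (W4c6eohyperellchar2.V c k))) (W4c6eohyperellchar2.X c k j.1)) ∧
      Submodule.span k (Set.range (fun j : {j : ℕ // c < 2 * j ∧ j ≤ c} =>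
        Submodule.mkQ (Submodule.span k (Set.range (W4c6eohyperellchar2.F c k) ∪ Set.range (W4c6eohyperellchar2.V c k))) (W4c6eohyperellchar2.X c k j.1))) = ⊤ := by
  set W := Submodule.span k (Set.range (W4c6eohyperellchar2.F c k) ∪
    Set.range (W4c6eohyperellchar2.V c k)) with hW
  let co : W4c6eohyperellchar2.GcMod c k →ₗ[k] ({j : ℕ // c < 2 * j ∧ j ≤ c} → k) :=
    LinearMap.pi fun j => (LinearMap.proj (⟨j.1 - 1, by have := j.2; omega⟩ : Fin c)).comp
      (LinearMap.fst k (Fin c → k) (Fin c → k))
  have hle : W ≤ LinearMap.ker co := by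
    rw [hW, Submodule.span_le]
    rintro _ (⟨v, rfl⟩ | ⟨v, rfl⟩)
    · refine funext fun j => ?_
      have := j.2
      change W4c6eohyperellchar2.coefX v (2 * (j.1 - 1 + 1)) ^ 2 = 0
      unfold W4c6eohyperellchar2.coefX
      rw [dif_neg (by omega), zero_pow (by omega)]
    · exact funext fun _ => rfl
  constructor
  · refine LinearIndependent.of_comp (W.liftQ co hle) ?_
    haveI : Finite {j : ℕ // c < 2 * j ∧ j ≤ c} :=
      Set.Finite.to_subtype ((Set.finite_Iic c).subset fun j hj => hj.2)
    classical
    cases nonempty_fintype {j : ℕ // c < 2 * j ∧ j ≤ c}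
    rw [Fintype.linearIndependent_iff]
    intro g hg i
    have := congrFun hg i
    rw [Finset.sum_apply, Finset.sum_eq_single i] at this
    · have hi := i.2
      simpa [co, W4c6eohyperellchar2.X, show i.1 - 1 + 1 = i.1 by omega] using this
    · intro b _ hb
      have hi := i.2
      have hne : i.1 - 1 + 1 ≠ b.1 := fun h => hb (Subtype.ext (by omega))
      simp [co, W4c6eohyperellchar2.X, hne]
    · simp
  · rw [eq_top_iff]
    intro q _
    obtain ⟨v, rfl⟩ := W.mkQ_surjective q
    have hFW : ∀ u, W4c6eohyperellchar2.F c k u ∈ W := fun u =>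
      Submodule.subset_span (Or.inl ⟨u, rfl⟩)
    have hVW : ∀ u, W4c6eohyperellchar2.V c k u ∈ W := fun u =>
      Submodule.subset_span (Or.inr ⟨u, rfl⟩)
    rw [GcChar2.eq_sum c v, map_add, map_sum, map_sum]
    refine add_mem (sum_mem fun j _ => ?_) (sum_mem fun j _ => ?_) <;> rw [map_smul] <;>
      refine Submodule.smul_mem _ _ ?_
    · by_cases h : c < 2 * (j.val + 1)
      · exact Submodule.subset_span ⟨⟨j.val + 1, h, j.isLt⟩, rfl⟩
      · have h0 : W.mkQ (W4c6eohyperellchar2.X c k (j.val + 1)) = 0 := by
          rw [← GcChar2.F_X_even c (by omega) (by omega), Submodule.mkQ_apply,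
            Submodule.Quotient.mk_eq_zero]
          exact hFW _
        rw [h0]
        exact zero_mem _
    · have h0 : W.mkQ (W4c6eohyperellchar2.Y c k (j.val + 1)) = 0 := by
        have := j.isLt
        rw [Submodule.mkQ_apply, Submodule.Quotient.mk_eq_zero]
        rcases Nat.even_or_odd (j.val + 1) with ⟨t, ht⟩ | ⟨t, ht⟩
        · rw [ht, show t + t = 2 * t by omega, ← GcChar2.V_Y c (by omega) (by omega)]
          exact hVW _
        · rw [ht, show 2 * t + 1 = 2 * c - 2 * (c - t) + 1 by omega,
            ← GcChar2.V_X c (by omega) (by omega)]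
          exact hVW _
      rw [h0]
      exact zero_mem _

end Groth.Agent.S19043
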