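import Groth.Statements.S19044
import Groth.Agent.FFLib.Quad.PartFrac

set_option autoImplicit false
open Groth.Agent
universe u v w
open FunFld

namespace Groth.Agent.S19044

/-- Let `k` be algebraically closed of characteristic `2` and `K = k(x, y)` with `y² + y = f(x)`, `K`
separable of degree `2` over `k(x)`; let `B ⊆ k` be a finite set containing `0` such that `f` has a
pole of odd order `d_α` at `x = α` for every `α ∈ B` and is integral at all other places of `k(x)`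
(so also at infinity), and put `c_α = (d_α - 1)/2`. Then the differentials `z dx` with `z = (x -
α)^{-(j+1)}` (`α ∈ B`, `1 ≤ j ≤ c_α`) and `z = α/(x(x-α))` (`α ∈ B`, `α ≠ 0`) are regular, this
family of `z` is linearly independent over `k`, and every `z` with `z dx` regular is a `k`-linear
combination of them; regularity is read through Laurent expansions over `k` at every place of `K`.
(Up to sign these are the forms `x_α^{j-1} dx_α` and `x_α^{-1} dx_α - x_0^{-1} dx_0` with `x_α = (x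
- α)^{-1}`.) -/
theorem result (k : Type u) (K : Type v)
    [Field k] [IsAlgClosed k] [CharP k 2] [Field K] [Algebra k K] [Algebra (RatFunc k) K] [IsScalarTower k (RatFunc k) K]
    (hK : FunFld.IsFunctionField k K) (hdeg : Module.finrank (RatFunc k) K = 2) [Algebra.IsSeparable (RatFunc k) K]
    (y : K) (hy : y ∉ Set.range (algebraMap (RatFunc k) K)) (f : RatFunc k)
    (heq : y ^ 2 + y = algebraMap (RatFunc k) K f)
    (B : Finset k) (h0 : (0 : k) ∈ B) (d : k → ℕ) (hd : ∀ α ∈ B, Odd (d α))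
    (hpole : ∀ (p : FunFld.Place k (RatFunc k)) (α : k), α ∈ B →
      p.1 ((RatFunc.X : RatFunc k) - RatFunc.C α) < 1 → p.ord f = -(d α : ℤ))
    (hint : ∀ p : FunFld.Place k (RatFunc k), (∀ α ∈ B, 1 ≤ p.1 ((RatFunc.X : RatFunc k) - RatFunc.C α)) → p.1 f ≤ 1)
    (F : FunFld.Place k K → Type w) [∀ P, Field (F P)] [∀ P, Algebra k (F P)] [∀ P, FiniteDimensional k (F P)]
    (φ : ∀ P, K →ₐ[k] LaurentSeries (F P)) (hφ : ∀ P, LocRes.IsExpansionAt P.1 (φ P)) :
    (∀ i P, LocRes.vDiff (φ P) ((Sum.elim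
        (fun a : {a : ↥B × ℕ // 1 ≤ a.2 ∧ 2 * a.2 + 1 ≤ d (a.1 : k)} => algebraMap (RatFunc k) K (((RatFunc.X : RatFunc k) - RatFunc.C (a.1.1 : k))⁻¹ ^ (a.1.2 + 1)))
        (fun b : {b : ↥B // (b : k) ≠ 0} => algebraMap (RatFunc k) K (RatFunc.C (b.1 : k) / ((RatFunc.X : RatFunc k) * ((RatFunc.X : RatFunc k) - RatFunc.C (b.1 : k)))))) i) (algebraMap (RatFunc k) K RatFunc.X) ≤ 1) ∧
    LinearIndependent k (Sum.elim
        (fun a : {a : ↥B × ℕ // 1 ≤ a.2 ∧ 2 * a.2 + 1 ≤ d (a.1 : k)} => algebraMap (RatFunc k) K (((RatFunc.X : RatFunc k) - RatFunc.C (a.1.1 : k))⁻¹ ^ (a.1.2 + 1)))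
        (fun b : {b : ↥B // (b : k) ≠ 0} => algebraMap (RatFunc k) K (RatFunc.C (b.1 : k) / ((RatFunc.X : RatFunc k) * ((RatFunc.X : RatFunc k) - RatFunc.C (b.1 : k)))))) ∧
    ∀ z : K, (∀ P, LocRes.vDiff (φ P) z (algebraMap (RatFunc k) K RatFunc.X) ≤ 1) →
      z ∈ Submodule.span k (Set.range (Sum.elim
        (fun a : {a : ↥B × ℕ // 1 ≤ a.2 ∧ 2 * a.2 + 1 ≤ d (a.1 : k)} => algebraMap (RatFunc k) K (((RatFunc.X : RatFunc k) - RatFunc.C (a.1.1 : k))⁻¹ ^ (a.1.2 + 1)))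
        (fun b : {b : ↥B // (b : k) ≠ 0} => algebraMap (RatFunc k) K (RatFunc.C (b.1 : k) / ((RatFunc.X : RatFunc k) * ((RatFunc.X : RatFunc k) - RatFunc.C (b.1 : k))))))) := by
  classical
  have hodd := FFLib.split_odd B d hd f hpole hint
  obtain ⟨hg, hD⟩ := FFLib.ratX_geometric (k := k) hK
  obtain ⟨hfinA, hcard⟩ := FFLib.split_card B d hd f hpole hint h0
  have hgen := FFLib.split_genus B d hd f hpole hint hdeg heq hy hK
  haveI := hfinA
  let v : {a : ↥B × ℕ // 1 ≤ a.2 ∧ 2 * a.2 + 1 ≤ d (a.1 : k)} ⊕ {b : ↥B // (b : k) ≠ 0} → RatFunc k := Sum.elim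
    (fun a => ((RatFunc.X : RatFunc k) - RatFunc.C (a.1.1 : k))⁻¹ ^ (a.1.2 + 1))
    (fun b => RatFunc.C (b.1 : k) / ((RatFunc.X : RatFunc k) * ((RatFunc.X : RatFunc k) - RatFunc.C (b.1 : k))))
  let n : {a : ↥B × ℕ // 1 ≤ a.2 ∧ 2 * a.2 + 1 ≤ d (a.1 : k)} ⊕ {b : ↥B // (b : k) ≠ 0} → ℕ :=
    Sum.elim (fun a => a.1.2 + 1) (fun _ => 1)
  let c : {a : ↥B × ℕ // 1 ≤ a.2 ∧ 2 * a.2 + 1 ≤ d (a.1 : k)} ⊕ {b : ↥B // (b : k) ≠ 0} → k :=
    Sum.elim (fun a => (a.1.1 : k)) (fun b => (b.1 : k))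
  have hX0 : (RatFunc.X : RatFunc k) - RatFunc.C (0 : k) = RatFunc.X := by rw [map_zero, sub_zero]
  have hC0 : ∀ b : {b : ↥B // (b : k) ≠ 0}, RatFunc.C (b.1 : k) ≠ 0 := fun b => by
    rw [FFLib.C_eq_algebraMap]; simpa using b.2
  have hne : ∀ i, v i ≠ 0 := by
    rintro (a | b)
    · exact pow_ne_zero _ (inv_ne_zero (FFLib.sub_C_ne_zero _))
    · exact div_ne_zero (hC0 b) (mul_ne_zero RatFunc.X_ne_zero (FFLib.sub_C_ne_zero _))
  have hA : ∀ a (P : FunFld.Place k (RatFunc k)),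
      (P.ord (RatFunc.X : RatFunc k) < 0 → P.ord (v (Sum.inl a)) = (a.1.2 : ℤ) + 1) ∧
      (¬ P.ord (RatFunc.X : RatFunc k) < 0 → P.1 ((RatFunc.X : RatFunc k) - RatFunc.C (a.1.1 : k)) < 1 →
        P.ord (v (Sum.inl a)) = -((a.1.2 : ℤ) + 1)) ∧
      (¬ P.ord (RatFunc.X : RatFunc k) < 0 → ¬ P.1 ((RatFunc.X : RatFunc k) - RatFunc.C (a.1.1 : k)) < 1 →
        P.ord (v (Sum.inl a)) = 0) := by
    intro a P
    simp only [v, Sum.elim_inl, FFLib.ord_pow, FFLib.ord_inv]
    refine ⟨fun h => ?_, fun h h' => ?_, fun h h' => ?_⟩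
    · rw [FFLib.ord_sub_C, if_pos h]; push_cast; ring
    · rw [FFLib.ord_sub_C, if_neg h, if_pos h']; push_cast; ring
    · rw [FFLib.ord_sub_C, if_neg h, if_neg h']; simp
  have hB : ∀ b (P : FunFld.Place k (RatFunc k)),
      (P.ord (RatFunc.X : RatFunc k) < 0 → P.ord (v (Sum.inr b)) = 2) ∧
      (¬ P.ord (RatFunc.X : RatFunc k) < 0 → P.1 ((RatFunc.X : RatFunc k) - RatFunc.C (b.1 : k)) < 1 →
        P.ord (v (Sum.inr b)) = -1) ∧
      (¬ P.ord (RatFunc.X : RatFunc k) < 0 → ¬ P.1 ((RatFunc.X : RatFunc k) - RatFunc.C (b.1 : k)) < 1 →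
        (P.1 (RatFunc.X : RatFunc k) < 1 → P.ord (v (Sum.inr b)) = -1) ∧
        (¬ P.1 (RatFunc.X : RatFunc k) < 1 → P.ord (v (Sum.inr b)) = 0)) := by
    intro b P
    have e0 : P.ord (RatFunc.C (b.1 : k)) = 0 := by
      refine FFLib.ord_of_val_eq P ?_
      rw [FFLib.C_eq_algebraMap, FFLib.val_algebraMap P b.2, neg_zero, WithZero.exp_zero]
    have e1 := FFLib.ord_sub_C P (0 : k)
    rw [hX0] at e1
    simp only [v, Sum.elim_inr]
    rw [div_eq_mul_inv, FFLib.ord_mul P (hC0 b) (inv_ne_zero (mul_ne_zero RatFunc.X_ne_zero (FFLib.sub_C_ne_zero _))),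
      FFLib.ord_inv, FFLib.ord_mul P RatFunc.X_ne_zero (FFLib.sub_C_ne_zero _), e0]
    refine ⟨fun h => ?_, fun h h' => ?_, fun h h' => ⟨fun h'' => ?_, fun h'' => ?_⟩⟩
    · rw [FFLib.ord_sub_C, if_pos h] ; rw [if_pos h] at e1; omega
    · have hz : ¬ P.1 (RatFunc.X : RatFunc k) < 1 := fun hh => b.2 (FFLib.root_unique h' (by rwa [hX0]))
      rw [FFLib.ord_sub_C, if_neg h, if_pos h']; rw [if_neg h, if_neg hz] at e1; omega
    · rw [FFLib.ord_sub_C, if_neg h, if_neg h']; rw [if_neg h, if_pos h''] at e1; omega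
    · rw [FFLib.ord_sub_C, if_neg h, if_neg h']; rw [if_neg h, if_neg h''] at e1; omega
  have hind : LinearIndependent k v := by
    refine FFLib.linearIndependent_of_dominant v (fun S hS => ?_) hne
    obtain ⟨i, hi, hmax⟩ := Finset.exists_max_image S n hS
    obtain ⟨P, hP⟩ := FFLib.exists_root_place (c i)
    refine ⟨i, hi, P, fun j hj hji => ?_⟩
    have hX1 := FFLib.val_X_le_of_lt hP
    have hX : ¬ P.ord (RatFunc.X : RatFunc k) < 0 := not_lt.mpr ((FFLib.val_le_one_iff P RatFunc.X_ne_zero).mp hX1)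
    rw [FFLib.val_eq_exp P (hne j), FFLib.val_eq_exp P (hne i), WithZero.exp_lt_exp, neg_lt_neg_iff]
    have hle := hmax j hj
    rcases i with a | b <;> rcases j with a' | b' <;> simp only [n, c, Sum.elim_inl, Sum.elim_inr] at hle hP ⊢
    · rw [(hA a P).2.1 hX hP]
      by_cases h : P.1 ((RatFunc.X : RatFunc k) - RatFunc.C (a'.1.1 : k)) < 1
      · rw [(hA a' P).2.1 hX h]
        have e1 : a.1.1 = a'.1.1 := Subtype.ext (FFLib.root_unique hP h)
        have e2 : a.1.2 ≠ a'.1.2 := fun e => hji (congrArg Sum.inl (Subtype.ext (Prod.ext e1.symm e.symm)))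
        omega
      · rw [(hA a' P).2.2 hX h]; omega
    · rw [(hA a P).2.1 hX hP]
      have := a.2.1
      by_cases h : P.1 ((RatFunc.X : RatFunc k) - RatFunc.C (b'.1 : k)) < 1
      · rw [(hB b' P).2.1 hX h]; omega
      · by_cases h' : P.1 (RatFunc.X : RatFunc k) < 1
        · rw [((hB b' P).2.2 hX h).1 h']; omega
        · rw [((hB b' P).2.2 hX h).2 h']; omega
    · have := a'.2.1
      omega
    · have hz : ¬ P.1 (RatFunc.X : RatFunc k) < 1 := fun h => b.2 (FFLib.root_unique hP (by rwa [hX0]))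
      have h : ¬ P.1 ((RatFunc.X : RatFunc k) - RatFunc.C (b'.1 : k)) < 1 := fun h =>
        hji (congrArg Sum.inr (Subtype.ext (Subtype.ext (FFLib.root_unique h hP))))
      rw [(hB b P).2.1 hX hP, ((hB b' P).2.2 hX h).2 hz]; omega
  have hreg : ∀ i (P : FunFld.Place k K), LocRes.vDiff (φ P) (algebraMap (RatFunc k) K (v i))
      (algebraMap (RatFunc k) K RatFunc.X) ≤ 1 := by
    intro i Q
    refine FFLib.as_regular hdeg heq hodd (fun P => ?_) Q (hφ Q)
    rw [FFLib.val_le_exp_iff P (hne i)]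
    obtain ⟨h1, h2⟩ := FFLib.split_pole B d hd f hpole hint P
    have hnn : 0 ≤ (if P.ord f < 0 then (1 - P.ord f) / 2 else 0) := by split_ifs <;> omega
    by_cases hX : P.ord (RatFunc.X : RatFunc k) < 0
    · rw [if_pos hX]
      rcases i with a | b
      · rw [(hA a P).1 hX]; have := a.2.1; omega
      · rw [(hB b P).1 hX]; omega
    · rw [if_neg hX]
      rcases i with a | b
      · by_cases h : P.1 ((RatFunc.X : RatFunc k) - RatFunc.C (a.1.1 : k)) < 1
        · rw [(hA a P).2.1 hX h, h1 _ a.1.1.2 h]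
          have := a.2.2
          omega
        · rw [(hA a P).2.2 hX h]; omega
      · by_cases h : P.1 ((RatFunc.X : RatFunc k) - RatFunc.C (b.1 : k)) < 1
        · rw [(hB b P).2.1 hX h, h1 _ b.1.2 h]
          obtain ⟨j, hj⟩ := hd _ b.1.2
          omega
        · by_cases h' : P.1 (RatFunc.X : RatFunc k) < 1
          · rw [((hB b P).2.2 hX h).1 h', h1 0 h0 (by rwa [hX0])]
            obtain ⟨j, hj⟩ := hd 0 h0
            omega
          · rw [((hB b P).2.2 hX h).2 h']; omega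
  have hv : (Sum.elim
        (fun a : {a : ↥B × ℕ // 1 ≤ a.2 ∧ 2 * a.2 + 1 ≤ d (a.1 : k)} => algebraMap (RatFunc k) K (((RatFunc.X : RatFunc k) - RatFunc.C (a.1.1 : k))⁻¹ ^ (a.1.2 + 1)))
        (fun b : {b : ↥B // (b : k) ≠ 0} => algebraMap (RatFunc k) K (RatFunc.C (b.1 : k) / ((RatFunc.X : RatFunc k) * ((RatFunc.X : RatFunc k) - RatFunc.C (b.1 : k)))))) =
      (fun i => algebraMap (RatFunc k) K (v i)) := by
    funext i; rcases i with a | b <;> rfl
  rw [hv]
  have hindK : LinearIndependent k (fun i => algebraMap (RatFunc k) K (v i)) :=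
    hind.map' (IsScalarTower.toAlgHom k (RatFunc k) K).toLinearMap (LinearMap.ker_eq_bot.mpr (algebraMap (RatFunc k) K).injective)
  refine ⟨fun i P => hreg i P, hindK, fun z hz => ?_⟩
  haveI : FiniteDimensional k (Submodule.span k (Set.range fun i => algebraMap (RatFunc k) K (v i))) :=
    FiniteDimensional.span_of_finite k (Set.finite_range _)
  obtain ⟨m, hm⟩ := FFLib.regular_in_range hK hg hφ hD
    (Submodule.span k (Set.range fun i => algebraMap (RatFunc k) K (v i))).subtype Subtype.val_injective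
    (by
      haveI := Fintype.ofFinite {a : ↥B × ℕ // 1 ≤ a.2 ∧ 2 * a.2 + 1 ≤ d (a.1 : k)}
      rw [finrank_span_eq_card hindK, ← Nat.card_eq_fintype_card, Nat.card_sum]
      omega)
    (fun w P => by
      obtain ⟨C, -, -, hset⟩ := FFLib.exists_canonical_of_D_ne hK hg F φ hφ hD
      have h0' := Set.ext_iff.mp (hset 0)
      simp only [Set.mem_ofPred_eq, Finsupp.coe_zero, Pi.zero_apply, neg_zero, WithZero.exp_zero, sub_zero,
        SetLike.mem_coe] at h0'
      have hle : Submodule.span k (Set.range fun i => algebraMap (RatFunc k) K (v i)) ≤ FunFld.L C := by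
        rw [Submodule.span_le]; rintro _ ⟨i, rfl⟩; exact (h0' _).mp (hreg i)
      exact (h0' _).mpr (hle w.2) P) hz
  rw [hm]
  exact m.2

end Groth.Agent.S19044
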