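import Groth.Statements.S19045
import Groth.Agent.FFLib.Quad.H1

set_option autoImplicit false
open Groth.Agent
universe u v
open FunFld

namespace Groth.Agent.S19045

/-- Let `k` be algebraically closed of characteristic `2` and `K = k(x, y)` with `y² + y = f(x)`, `K`
separable of degree `2` over `k(x)`; let `B ⊆ k` be a finite set containing `0` such that `f` has a
pole of odd order `d_β` at `x = β` for every `β ∈ B` and is integral at all other places of `k(x)`.
Then `y` is integral at the places of `K` above `x = ∞` and has order `0` at one of them, and for `α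
∈ B` and `j ∈ ℤ` the divisor of poles of `y (x - α)^j` consists of: order `max(d_α - 2j, 0)` at the
place above `α`, order exactly `d_β` above every other `β ∈ B`, order `max(j - ord_P y, 0)` at each
place `P` above `∞`, and nothing elsewhere. -/
theorem result (k : Type u) (K : Type v)
    [Field k] [IsAlgClosed k] [CharP k 2] [Field K] [Algebra k K] [Algebra (RatFunc k) K] [IsScalarTower k (RatFunc k) K]
    (hK : FunFld.IsFunctionField k K) (hdeg : Module.finrank (RatFunc k) K = 2) [Algebra.IsSeparable (RatFunc k) K]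
    (y : K) (hy : y ∉ Set.range (algebraMap (RatFunc k) K)) (f : RatFunc k)
    (heq : y ^ 2 + y = algebraMap (RatFunc k) K f)
    (B : Finset k) (h0 : (0 : k) ∈ B) (d : k → ℕ) (hd : ∀ β ∈ B, Odd (d β))
    (hpole : ∀ (p : FunFld.Place k (RatFunc k)) (β : k), β ∈ B →
      p.1 ((RatFunc.X : RatFunc k) - RatFunc.C β) < 1 → p.ord f = -(d β : ℤ))
    (hint : ∀ p : FunFld.Place k (RatFunc k), (∀ β ∈ B, 1 ≤ p.1 ((RatFunc.X : RatFunc k) - RatFunc.C β)) → p.1 f ≤ 1) :
    (∀ P : FunFld.Place k K, 1 < P.1 (algebraMap (RatFunc k) K RatFunc.X) → 0 ≤ P.ord y) ∧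
    (∃ P : FunFld.Place k K, 1 < P.1 (algebraMap (RatFunc k) K RatFunc.X) ∧ P.ord y = 0) ∧
    ∀ (α : k), α ∈ B → ∀ (j : ℤ) (P : FunFld.Place k K),
      (P.1 ((algebraMap (RatFunc k) K RatFunc.X) - (algebraMap k K α)) < 1 →
        max (-(P.ord (y * ((algebraMap (RatFunc k) K RatFunc.X) - (algebraMap k K α)) ^ j))) 0 = max ((d α : ℤ) - 2 * j) 0) ∧
      (∀ β : k, β ∈ B → β ≠ α → P.1 ((algebraMap (RatFunc k) K RatFunc.X) - (algebraMap k K β)) < 1 →
        P.ord (y * ((algebraMap (RatFunc k) K RatFunc.X) - (algebraMap k K α)) ^ j) = -(d β : ℤ)) ∧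
      (1 < P.1 (algebraMap (RatFunc k) K RatFunc.X) → max (-(P.ord (y * ((algebraMap (RatFunc k) K RatFunc.X) - (algebraMap k K α)) ^ j))) 0 = max (j - P.ord y) 0) ∧
      (P.1 (algebraMap (RatFunc k) K RatFunc.X) ≤ 1 → (∀ β : k, β ∈ B → 1 ≤ P.1 ((algebraMap (RatFunc k) K RatFunc.X) - (algebraMap k K β))) → 0 ≤ P.ord (y * ((algebraMap (RatFunc k) K RatFunc.X) - (algebraMap k K α)) ^ j)) := by
  classical
  have hF := FFLib.isFF_ratFunc k
  haveI : FiniteDimensional (RatFunc k) K := Module.finite_of_finrank_eq_succ hdeg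
  have h2 : (2 : RatFunc k) = 0 := by
    rw [← map_ofNat (algebraMap k (RatFunc k)) 2, CharTwo.two_eq_zero, map_zero]
  have hy0 : y ≠ 0 := fun e => hy ⟨0, by rw [map_zero, e]⟩
  have hmapx : ∀ β : k, algebraMap (RatFunc k) K RatFunc.X - algebraMap k K β =
      algebraMap (RatFunc k) K (RatFunc.X - RatFunc.C β) := fun β => by
    rw [map_sub, FFLib.C_eq_algebraMap, ← IsScalarTower.algebraMap_apply]
  have hinfty : ∀ (P : FunFld.Place k K), 1 < P.1 (algebraMap (RatFunc k) K RatFunc.X) →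
      ∃ R : FunFld.Place k (RatFunc k), R.ord (RatFunc.X : RatFunc k) = -1 ∧ FunFld.IsOverWith P R 1 ∧ R.1 f ≤ 1 := by
    intro P hP
    obtain ⟨R, e, -, he⟩ := FFLib.exists_over hF P
    rw [he] at hP
    have hR : 1 < R.1 (RatFunc.X : RatFunc k) := not_le.mp fun h => hP.not_ge (pow_le_one' h e)
    have hRo := (FFLib.one_lt_val_iff R RatFunc.X_ne_zero).mp hR
    have hf1 : R.1 f ≤ 1 := hint R fun β _ => not_lt.mp fun h => hR.not_ge (FFLib.val_X_le_of_lt h)
    have h1 := FFLib.unramified_of_as hF hdeg h2 heq hy hf1 ⟨e, he⟩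
    exact ⟨R, (FFLib.ratFunc_infinity R hRo).1, h1, hf1⟩
  have hynn : ∀ P : FunFld.Place k K, 1 < P.1 (algebraMap (RatFunc k) K RatFunc.X) → 0 ≤ P.ord y := fun P hP => by
    obtain ⟨R, -, he, hf1⟩ := hinfty P hP
    exact (FFLib.val_le_one_iff P hy0).mp (FFLib.val_y_le_one f hdeg heq he hf1)
  refine ⟨hynn, ?_, fun α hα j P => ⟨fun hP => ?_, fun β hβ hne hP => ?_, fun hP => ?_, fun hP hall => ?_⟩⟩
  · obtain ⟨σ, hσ⟩ := FFLib.exists_conj_aut hdeg hy (r := -1) (u := f) (by rw [← heq, map_neg, map_one]; ring)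
    obtain ⟨Pi, hPi, -, -⟩ := FFLib.exists_infinity k
    obtain ⟨Q, e, he⟩ := FFLib.exists_isOver (K' := K) hF Pi
    have hX : 1 < Q.1 (algebraMap (RatFunc k) K RatFunc.X) := by
      rw [he]
      exact one_lt_pow' ((FFLib.one_lt_val_iff Pi RatFunc.X_ne_zero).mpr (by omega))
        (by have := FFLib.over_pos hF he; omega)
    rcases (hynn Q hX).eq_or_lt with h | h
    · exact ⟨Q, hX, h.symm⟩
    refine ⟨FFLib.placeComap (σ.restrictScalars k) Q, ?_, ?_⟩
    · show 1 < Q.1 (σ (algebraMap (RatFunc k) K RatFunc.X))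
      rw [σ.commutes]; exact hX
    · refine FFLib.ord_of_val_eq _ ?_
      show Q.1 (σ y) = _
      have h2K : (2 : K) = 0 := by rw [← map_ofNat (algebraMap (RatFunc k) K) 2, h2, map_zero]
      rw [hσ, map_neg, map_one, show (-1 : K) - y = y + 1 by linear_combination (-1 - y) * h2K,
        neg_zero, WithZero.exp_zero]
      have hlt : Q.1 y < Q.1 1 := by
        rw [map_one, FFLib.val_eq_exp Q hy0, ← WithZero.exp_zero, WithZero.exp_lt_exp]; omega
      rw [Valuation.map_add_eq_of_lt_right _ hlt, map_one]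
  · obtain ⟨R, -, -, hyo, hxo, -⟩ := FFLib.split_over B d hd f hpole hdeg heq hα hP
    have hx0 : algebraMap (RatFunc k) K RatFunc.X - algebraMap k K α ≠ 0 := by
      rw [hmapx]; exact (map_ne_zero _).mpr (FFLib.sub_C_ne_zero α)
    rw [FFLib.ord_mul P hy0 (zpow_ne_zero _ hx0), FFLib.ord_zpow, hyo, hxo]
    congr 1; ring
  · obtain ⟨R, hR, he, hyo, -, -⟩ := FFLib.split_over B d hd f hpole hdeg heq hβ hP
    have hx0 : algebraMap (RatFunc k) K RatFunc.X - algebraMap k K α ≠ 0 := by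
      rw [hmapx]; exact (map_ne_zero _).mpr (FFLib.sub_C_ne_zero α)
    rw [FFLib.ord_mul P hy0 (zpow_ne_zero _ hx0), FFLib.ord_zpow, hyo, hmapx, FFLib.ord_over he, FFLib.ord_sub_C,
      if_neg (not_lt.mpr ((FFLib.val_le_one_iff R RatFunc.X_ne_zero).mp (FFLib.val_X_le_of_lt hR))),
      if_neg fun h => hne (FFLib.root_unique hR h)]
    ring
  · obtain ⟨R, hRo, he, -⟩ := hinfty P hP
    have hx0 : algebraMap (RatFunc k) K RatFunc.X - algebraMap k K α ≠ 0 := by
      rw [hmapx]; exact (map_ne_zero _).mpr (FFLib.sub_C_ne_zero α)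
    rw [FFLib.ord_mul P hy0 (zpow_ne_zero _ hx0), FFLib.ord_zpow, hmapx, FFLib.ord_over he, FFLib.ord_sub_C,
      if_pos (by omega)]
    congr 1; push_cast; ring
  · obtain ⟨R, e, -, he⟩ := FFLib.exists_over hF P
    have he1 := FFLib.over_pos hF he
    have hRX : R.1 (RatFunc.X : RatFunc k) ≤ 1 := by
      rw [he] at hP; exact (pow_le_one_iff_of_nonneg zero_le (by omega)).mp hP
    have hall' : ∀ β ∈ B, 1 ≤ R.1 ((RatFunc.X : RatFunc k) - RatFunc.C β) := fun β hβ => not_lt.mp fun h => by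
      have h1 := hall β hβ
      rw [hmapx, he] at h1
      exact h1.not_gt (pow_lt_one₀ zero_le h (by omega))
    have hx0 : algebraMap (RatFunc k) K RatFunc.X - algebraMap k K α ≠ 0 := by
      rw [hmapx]; exact (map_ne_zero _).mpr (FFLib.sub_C_ne_zero α)
    have hy1 := (FFLib.val_le_one_iff P hy0).mp (FFLib.val_y_le_one f hdeg heq he (hint R hall'))
    rw [FFLib.ord_mul P hy0 (zpow_ne_zero _ hx0), FFLib.ord_zpow, hmapx, FFLib.ord_over he, FFLib.ord_sub_C,
      if_neg (not_lt.mpr ((FFLib.val_le_one_iff R RatFunc.X_ne_zero).mp hRX)), if_neg (not_lt.mpr (hall' α hα))]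
    simpa using hy1

end Groth.Agent.S19045
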