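import Groth.Statements.S19046
import Groth.Agent.FFLib.Quad.H1

set_option autoImplicit false
open Groth.Agent
universe u v
open Classical
open FunFld

namespace Groth.Agent.S19046

/-- Let `k` be algebraically closed of characteristic `2`, `K = k(x, y)` with `y² + y = f(x)` separable
of degree `2` over `k(x)`, `B ⊆ k` a finite set containing `0` with `f` having a pole of odd order
`d_β` at `x = β` for `β ∈ B` and integral elsewhere, `c_β = (d_β - 1)/2`, and `P_β` a place of `K`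
above `x = β`. Identify `H¹(X, O)` of the smooth projective model with the repartitions (adeles with
components in `K`) modulo `W = A(0) + K` (everywhere-integral repartitions plus constants), a Čech
class with defining component `h` at `β` corresponding to the repartition with component `h` at
`P_β` and `0` elsewhere. Then the repartitions supported at `P_α` with value `y (x - α)^j` (`α ∈ B`,
`1 ≤ j ≤ c_α`) and with value `y` (`α ∈ B`, `α ≠ 0`) are adeles whose classes modulo `W` are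
linearly independent over `k` and, together with `W`, span the adeles: they give a basis of `H¹(X,
O)`. -/
theorem result (k : Type u) (K : Type v)
    [Field k] [IsAlgClosed k] [CharP k 2] [Field K] [Algebra k K] [Algebra (RatFunc k) K] [IsScalarTower k (RatFunc k) K]
    (hK : FunFld.IsFunctionField k K) (hdeg : Module.finrank (RatFunc k) K = 2) [Algebra.IsSeparable (RatFunc k) K]
    (y : K) (hy : y ∉ Set.range (algebraMap (RatFunc k) K)) (f : RatFunc k)
    (heq : y ^ 2 + y = algebraMap (RatFunc k) K f)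
    (B : Finset k) (h0 : (0 : k) ∈ B) (d : k → ℕ) (hd : ∀ β ∈ B, Odd (d β))
    (hpole : ∀ (p : FunFld.Place k (RatFunc k)) (β : k), β ∈ B →
      p.1 ((RatFunc.X : RatFunc k) - RatFunc.C β) < 1 → p.ord f = -(d β : ℤ))
    (hint : ∀ p : FunFld.Place k (RatFunc k), (∀ β ∈ B, 1 ≤ p.1 ((RatFunc.X : RatFunc k) - RatFunc.C β)) → p.1 f ≤ 1)
    (Pl : k → FunFld.Place k K) (hPl : ∀ β ∈ B, (Pl β).1 ((algebraMap (RatFunc k) K RatFunc.X) - (algebraMap k K β)) < 1) :
    (∀ i, (Sum.elim
        (fun a : {a : ↥B × ℕ // 1 ≤ a.2 ∧ 2 * a.2 + 1 ≤ d (a.1 : k)} =>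
          (Pi.single (Pl (a.1.1 : k)) (y * ((algebraMap (RatFunc k) K RatFunc.X) - (algebraMap k K (a.1.1 : k))) ^ a.1.2) : FunFld.Place k K → K))
        (fun b : {b : ↥B // (b : k) ≠ 0} => (Pi.single (Pl (b.1 : k)) y : FunFld.Place k K → K))) i ∈ FunFld.adele k K) ∧
    LinearIndependent k (fun i => Submodule.mkQ (FunFld.AD (0 : FunFld.Divisor k K) ⊔ LinearMap.range (FunFld.diag k K)) ((Sum.elim
        (fun a : {a : ↥B × ℕ // 1 ≤ a.2 ∧ 2 * a.2 + 1 ≤ d (a.1 : k)} =>
          (Pi.single (Pl (a.1.1 : k)) (y * ((algebraMap (RatFunc k) K RatFunc.X) - (algebraMap k K (a.1.1 : k))) ^ a.1.2) : FunFld.Place k K → K))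
        (fun b : {b : ↥B // (b : k) ≠ 0} => (Pi.single (Pl (b.1 : k)) y : FunFld.Place k K → K))) i)) ∧
    ∀ a : FunFld.Place k K → K, a ∈ FunFld.adele k K →
      a ∈ (FunFld.AD (0 : FunFld.Divisor k K) ⊔ LinearMap.range (FunFld.diag k K)) ⊔ Submodule.span k (Set.range (Sum.elim
        (fun a : {a : ↥B × ℕ // 1 ≤ a.2 ∧ 2 * a.2 + 1 ≤ d (a.1 : k)} =>
          (Pi.single (Pl (a.1.1 : k)) (y * ((algebraMap (RatFunc k) K RatFunc.X) - (algebraMap k K (a.1.1 : k))) ^ a.1.2) : FunFld.Place k K → K))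
        (fun b : {b : ↥B // (b : k) ≠ 0} => (Pi.single (Pl (b.1 : k)) y : FunFld.Place k K → K)))) := by
  classical
  obtain ⟨hfinA, hcard⟩ := FFLib.split_card B d hd f hpole hint h0
  have hgen := FFLib.split_genus B d hd f hpole hint hdeg heq hy hK
  haveI := hfinA
  letI := Fintype.ofFinite {a : ↥B × ℕ // 1 ≤ a.2 ∧ 2 * a.2 + 1 ≤ d (a.1 : k)}
  let cc : {a : ↥B × ℕ // 1 ≤ a.2 ∧ 2 * a.2 + 1 ≤ d (a.1 : k)} ⊕ {b : ↥B // (b : k) ≠ 0} → k :=
    Sum.elim (fun a => (a.1.1 : k)) (fun b => (b.1 : k))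
  let jj : {a : ↥B × ℕ // 1 ≤ a.2 ∧ 2 * a.2 + 1 ≤ d (a.1 : k)} ⊕ {b : ↥B // (b : k) ≠ 0} → ℕ :=
    Sum.elim (fun a => a.1.2) (fun _ => 0)
  let ev : {a : ↥B × ℕ // 1 ≤ a.2 ∧ 2 * a.2 + 1 ≤ d (a.1 : k)} ⊕ {b : ↥B // (b : k) ≠ 0} → (FunFld.Place k K → K) :=
    fun i => Pi.single (Pl (cc i)) (y * (algebraMap (RatFunc k) K RatFunc.X - algebraMap k K (cc i)) ^ jj i)
  have hev : (Sum.elim
        (fun a : {a : ↥B × ℕ // 1 ≤ a.2 ∧ 2 * a.2 + 1 ≤ d (a.1 : k)} =>
          (Pi.single (Pl (a.1.1 : k)) (y * ((algebraMap (RatFunc k) K RatFunc.X) - (algebraMap k K (a.1.1 : k))) ^ a.1.2) : FunFld.Place k K → K))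
        (fun b : {b : ↥B // (b : k) ≠ 0} => (Pi.single (Pl (b.1 : k)) y : FunFld.Place k K → K))) = ev := by
    funext i
    rcases i with a | b
    · rfl
    · simp [ev, cc, jj]
  rw [hev]
  have hmem : ∀ i, ev i ∈ FunFld.adele k K := fun i => by
    rw [FFLib.mem_adele]
    refine (Set.finite_singleton (Pl (cc i))).subset fun Q hQ => ?_
    by_contra hne
    simp [ev, Pi.single_eq_of_ne (Set.mem_singleton_iff.not.mp hne)] at hQ
  have hkey : ∀ g : _ → k, (∑ i, g i • ev i) ∈ FunFld.AD (0 : FunFld.Divisor k K) ⊔ LinearMap.range (FunFld.diag k K) → g = 0 := by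
    intro g hg
    refine FFLib.split_indep B d hd f hpole hint hdeg heq hy Pl hPl cc jj ?_ ?_ h0 ?_ ?_ g _ ?_ hg
    · rintro (a | b)
      · exact a.1.1.2
      · exact b.1.2
    · rintro (a | b)
      · have := a.2.2; show 2 * a.1.2 < d (a.1.1 : k); omega
      · obtain ⟨j, hj⟩ := hd _ b.1.2; show 2 * 0 < d (b.1 : k); omega
    · rintro (a | b) h
      · exact Nat.one_le_iff_ne_zero.mp a.2.1
      · exact absurd h b.2
    · rintro (a | b) (a' | b') h1 h2
      · exact congrArg Sum.inl (Subtype.ext (Prod.ext (Subtype.ext h1) h2))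
      · exact absurd h2 (Nat.one_le_iff_ne_zero.mp a.2.1)
      · exact absurd h2.symm (Nat.one_le_iff_ne_zero.mp a'.2.1)
      · exact congrArg Sum.inr (Subtype.ext (Subtype.ext h1))
    · intro Q
      rw [Finset.sum_apply]
      refine Finset.sum_congr rfl fun i _ => ?_
      simp only [Pi.smul_apply, ev, Pi.single_apply]
  have hindW : LinearIndependent k (fun i => Submodule.mkQ (FunFld.AD (0 : FunFld.Divisor k K) ⊔ LinearMap.range (FunFld.diag k K)) (ev i)) := by
    rw [Fintype.linearIndependent_iff]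
    intro g hg i
    have h' : Submodule.mkQ (FunFld.AD (0 : FunFld.Divisor k K) ⊔ LinearMap.range (FunFld.diag k K)) (∑ i, g i • ev i) = 0 := by
      rw [map_sum]; simpa only [map_smul] using hg
    exact congrFun (hkey g ((Submodule.Quotient.mk_eq_zero _).mp h')) i
  refine ⟨hmem, hindW, fun a ha => ?_⟩
  haveI := FFLib.ADK_finite hK (0 : FunFld.Divisor k K)
  let qa : {a : ↥B × ℕ // 1 ≤ a.2 ∧ 2 * a.2 + 1 ≤ d (a.1 : k)} ⊕ {b : ↥B // (b : k) ≠ 0} →
      (FunFld.adele k K ⧸ FunFld.ADK (0 : FunFld.Divisor k K)) :=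
    fun i => Submodule.mkQ _ (⟨ev i, hmem i⟩ : FunFld.adele k K)
  have hqa : LinearIndependent k qa := by
    rw [Fintype.linearIndependent_iff]
    intro g hg i
    have h' : Submodule.mkQ (FunFld.ADK (0 : FunFld.Divisor k K)) (∑ i, g i • (⟨ev i, hmem i⟩ : FunFld.adele k K)) = 0 := by
      rw [map_sum]; simpa only [map_smul] using hg
    have h'' := Submodule.mem_comap.mp ((Submodule.Quotient.mk_eq_zero _).mp h')
    rw [map_sum] at h''
    exact congrFun (hkey g (by simpa only [map_smul, Submodule.subtype_apply] using h'')) i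
  have hcardI : Fintype.card ({a : ↥B × ℕ // 1 ≤ a.2 ∧ 2 * a.2 + 1 ≤ d (a.1 : k)} ⊕ {b : ↥B // (b : k) ≠ 0}) =
      Module.finrank k (FunFld.adele k K ⧸ FunFld.ADK (0 : FunFld.Divisor k K)) := by
    have h := FFLib.ADK_finrank hK (0 : FunFld.Divisor k K)
    rw [show (0 : FunFld.Divisor k K).deg = 0 from map_zero (FunFld.degHom k K), FFLib.ell_zero hK] at h
    rw [← Nat.card_eq_fintype_card, Nat.card_sum]
    omega
  have htop := hqa.span_eq_top_of_card_eq_finrank' hcardI
  have hmem' := htop.ge (Submodule.mem_top (x := Submodule.mkQ _ (⟨a, ha⟩ : FunFld.adele k K)))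
  rw [Submodule.mem_span_range_iff_exists_fun] at hmem'
  obtain ⟨c, hc⟩ := hmem'
  have hc' : Submodule.mkQ (FunFld.ADK (0 : FunFld.Divisor k K))
      ((⟨a, ha⟩ : FunFld.adele k K) - ∑ i, c i • (⟨ev i, hmem i⟩ : FunFld.adele k K)) = 0 := by
    rw [map_sub, map_sum, sub_eq_zero]; simpa only [map_smul] using hc.symm
  have h3 := Submodule.mem_comap.mp ((Submodule.Quotient.mk_eq_zero _).mp hc')
  rw [map_sub, map_sum] at h3
  rw [← sub_add_cancel a (∑ i, c i • ev i)]
  refine Submodule.add_mem_sup (by simpa only [map_smul, Submodule.subtype_apply] using h3) ?_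
  exact Submodule.sum_mem _ fun i _ => Submodule.smul_mem _ _ (Submodule.subset_span ⟨i, rfl⟩)

end Groth.Agent.S19046
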