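import Groth.Statements.S19047
import Groth.Agent.FFLib.Quad.H1

set_option autoImplicit false
open Groth.Agent
universe u v
open Classical
open FunFld

namespace Groth.Agent.S19047

/-- Let `k` be algebraically closed of characteristic `2`, `K = k(x, y)` with `y² + y = f(x)` separable
of degree `2` over `k(x)`, `B ⊆ k` a finite set containing `0` with `f` having a pole of odd order
`d_β` at `x = β` for `β ∈ B` and integral elsewhere, `c_β = (d_β - 1)/2`, and `P_β` a place of `K`
above `x = β`. With `H¹(X, O)` of the smooth projective model written as repartitions modulo `W =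
A(0) + K` (everywhere-integral repartitions plus constants) and its Frobenius induced by
componentwise squaring, for `α ∈ B` and `j ≥ 0`: the Frobenius of the class of the repartition
supported at `P_α` with value `y (x - α)^j` is the class of the one with value `y (x - α)^{2j}` when
`2j ≤ c_α`, and is `0` when `2j > c_α`. -/
theorem result (k : Type u) (K : Type v)
    [Field k] [IsAlgClosed k] [CharP k 2] [Field K] [Algebra k K] [Algebra (RatFunc k) K] [IsScalarTower k (RatFunc k) K]
    (hK : FunFld.IsFunctionField k K) (hdeg : Module.finrank (RatFunc k) K = 2) [Algebra.IsSeparable (RatFunc k) K]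
    (y : K) (hy : y ∉ Set.range (algebraMap (RatFunc k) K)) (f : RatFunc k)
    (heq : y ^ 2 + y = algebraMap (RatFunc k) K f)
    (B : Finset k) (h0 : (0 : k) ∈ B) (d : k → ℕ) (hd : ∀ β ∈ B, Odd (d β))
    (hpole : ∀ (p : FunFld.Place k (RatFunc k)) (β : k), β ∈ B →
      p.1 ((RatFunc.X : RatFunc k) - RatFunc.C β) < 1 → p.ord f = -(d β : ℤ))
    (hint : ∀ p : FunFld.Place k (RatFunc k), (∀ β ∈ B, 1 ≤ p.1 ((RatFunc.X : RatFunc k) - RatFunc.C β)) → p.1 f ≤ 1)
    (Pl : k → FunFld.Place k K) (hPl : ∀ β ∈ B, (Pl β).1 ((algebraMap (RatFunc k) K RatFunc.X) - (algebraMap k K β)) < 1)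
    (α : k) (hα : α ∈ B) (j : ℕ) :
    (4 * j + 1 ≤ d α → (Pi.single (Pl α) ((y * ((algebraMap (RatFunc k) K RatFunc.X) - (algebraMap k K α)) ^ j) ^ 2) : FunFld.Place k K → K) - (Pi.single (Pl α) (y * ((algebraMap (RatFunc k) K RatFunc.X) - (algebraMap k K α)) ^ (2 * j)) : FunFld.Place k K → K) ∈ (FunFld.AD (0 : FunFld.Divisor k K) ⊔ LinearMap.range (FunFld.diag k K))) ∧
    (d α < 4 * j + 1 → (Pi.single (Pl α) ((y * ((algebraMap (RatFunc k) K RatFunc.X) - (algebraMap k K α)) ^ j) ^ 2) : FunFld.Place k K → K) ∈ (FunFld.AD (0 : FunFld.Divisor k K) ⊔ LinearMap.range (FunFld.diag k K))) := by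
  classical
  have hF := FFLib.isFF_ratFunc k
  haveI : FiniteDimensional (RatFunc k) K := Module.finite_of_finrank_eq_succ hdeg
  have hy0 : y ≠ 0 := fun e => hy ⟨0, by rw [map_zero, e]⟩
  have h2K : (2 : K) = 0 := by
    rw [← map_ofNat (algebraMap k K) 2, CharTwo.two_eq_zero, map_zero]
  have hmapx : algebraMap (RatFunc k) K RatFunc.X - algebraMap k K α =
      algebraMap (RatFunc k) K (RatFunc.X - RatFunc.C α) := by
    rw [map_sub, FFLib.C_eq_algebraMap, ← IsScalarTower.algebraMap_apply]
  obtain ⟨P, hP, he, hyo, hxo, huniq⟩ := FFLib.split_over B d hd f hpole hdeg heq hα (hPl α hα)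
  set W := (FunFld.AD (0 : FunFld.Divisor k K) ⊔ LinearMap.range (FunFld.diag k K))
  have hbase : ∀ g : RatFunc k, (Pi.single (Pl α) (algebraMap (RatFunc k) K g) : FunFld.Place k K → K) ∈ W := by
    intro g
    have hS := FFLib.SD_eq_adele (FFLib.isFunctionField_ratFunc k) (E := (0 : FunFld.Divisor k (RatFunc k))) (by
      rw [FFLib.ell_zero (FFLib.isFunctionField_ratFunc k), FFLib.genus_ratFunc,
        show (0 : FunFld.Divisor k (RatFunc k)).deg = 0 from map_zero (FunFld.degHom k (RatFunc k))]
      norm_num)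
    have hmem : (Pi.single P g : FunFld.Place k (RatFunc k) → RatFunc k) ∈ FunFld.adele k (RatFunc k) := by
      rw [FFLib.mem_adele]
      refine (Set.finite_singleton P).subset fun Q hQ => ?_
      by_contra hne
      simp [Pi.single_eq_of_ne (Set.mem_singleton_iff.not.mp hne)] at hQ
    rw [← hS] at hmem
    obtain ⟨a, ha, _, ⟨z, rfl⟩, hsum⟩ := Submodule.mem_sup.mp hmem
    rw [← sub_add_cancel (Pi.single (Pl α) (algebraMap (RatFunc k) K g) : FunFld.Place k K → K)
      (FunFld.diag k K (algebraMap (RatFunc k) K z))]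
    refine Submodule.add_mem_sup (fun Q => ?_) ⟨_, rfl⟩
    obtain ⟨R, e, -, heR⟩ := FFLib.exists_over hF Q
    have hR : R.1 ((Pi.single P g : FunFld.Place k (RatFunc k) → RatFunc k) R - z) ≤ 1 := by
      rw [← hsum, Pi.add_apply, FFLib.diag_apply, add_sub_cancel_right]
      simpa using ha R
    have key : (Pi.single (Pl α) (algebraMap (RatFunc k) K g) : FunFld.Place k K → K) Q =
        algebraMap (RatFunc k) K ((Pi.single P g : FunFld.Place k (RatFunc k) → RatFunc k) R) := by
      by_cases hQ : Q = Pl α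
      · subst hQ
        obtain ⟨R', hR', -, -, -, -⟩ := FFLib.split_over B d hd f hpole hdeg heq hα (hPl α hα)
        have hlt := hPl α hα
        rw [hmapx, heR] at hlt
        have := FFLib.over_pos hF heR
        obtain rfl := FFLib.root_place_unique ((pow_lt_one_iff_of_nonneg zero_le (by omega)).mp hlt) hP
        rw [Pi.single_eq_same, Pi.single_eq_same]
      · rw [Pi.single_eq_of_ne hQ, Pi.single_eq_of_ne, map_zero]
        rintro rfl
        exact hQ (huniq Q ⟨e, heR⟩)
    rw [Finsupp.zero_apply, WithZero.exp_zero, Pi.sub_apply, FFLib.diag_apply, key, ← map_sub, heR]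
    exact pow_le_one' hR e
  have hsq : (y * (algebraMap (RatFunc k) K RatFunc.X - algebraMap k K α) ^ j) ^ 2 =
      algebraMap (RatFunc k) K (f * (RatFunc.X - RatFunc.C α) ^ (2 * j)) +
        y * (algebraMap (RatFunc k) K RatFunc.X - algebraMap k K α) ^ (2 * j) := by
    rw [map_mul, map_pow, ← heq, ← hmapx]
    linear_combination (-(y * (algebraMap (RatFunc k) K RatFunc.X - algebraMap k K α) ^ (2 * j))) * h2K
  rw [hsq, Pi.single_add]
  refine ⟨fun _ => by rw [add_sub_cancel_right]; exact hbase _, fun hj => ?_⟩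
  refine Submodule.add_mem _ (hbase _) (Submodule.mem_sup_left fun Q => ?_)
  rw [Finsupp.zero_apply, WithZero.exp_zero]
  by_cases hQ : Q = Pl α
  · subst hQ
    have hx0 : algebraMap (RatFunc k) K RatFunc.X - algebraMap k K α ≠ 0 := by
      rw [hmapx]; exact (map_ne_zero _).mpr (FFLib.sub_C_ne_zero α)
    rw [Pi.single_eq_same, FFLib.val_le_one_iff _ (mul_ne_zero hy0 (pow_ne_zero _ hx0)),
      FFLib.ord_mul _ hy0 (pow_ne_zero _ hx0), FFLib.ord_pow, hyo, hxo]
    push_cast; omega
  · simp [Pi.single_eq_of_ne hQ]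

end Groth.Agent.S19047
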