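import Groth.Statements.S19048
import Mathlib

set_option autoImplicit false
universe u
open Dieu

namespace Groth.Agent.S19048

open W4c6eohyperellchar2

variable {k : Type u} [Field k]

theorem X_apply (c n : ℕ) : (X c k n : GcMod c k).1 = (fun j => if j.val + 1 = n then (1 : k) else 0) ∧
    (X c k n : GcMod c k).2 = 0 := ⟨rfl, rfl⟩

theorem Y_apply (c n : ℕ) : (Y c k n : GcMod c k).2 = (fun j => if j.val + 1 = n then (1 : k) else 0) ∧
    (Y c k n : GcMod c k).1 = 0 := ⟨rfl, rfl⟩

theorem mem_iff (c i : ℕ) (v : GcMod c k) : v ∈ Nfil c k i ↔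
    (∀ j : Fin c, i ≤ j.val → v.2 j = 0) ∧ (∀ j : Fin c, j.val + i < 2 * c → v.1 j = 0) := by
  constructor
  · intro hv
    induction hv using Submodule.span_induction with
    | mem x hx =>
      rcases hx with ⟨n, ⟨hn1, hn2⟩, rfl⟩ | ⟨n, ⟨hn1, hn2⟩, rfl⟩
      · exact ⟨fun j hj => if_neg (by omega), fun j _ => rfl⟩
      · exact ⟨fun j _ => rfl, fun j hj => if_neg (by omega)⟩
    | zero => exact ⟨fun _ _ => rfl, fun _ _ => rfl⟩
    | add x y _ _ hx hy =>
      exact ⟨fun j hj => by simp [hx.1 j hj, hy.1 j hj], fun j hj => by simp [hx.2 j hj, hy.2 j hj]⟩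
    | smul a x _ hx => exact ⟨fun j hj => by simp [hx.1 j hj], fun j hj => by simp [hx.2 j hj]⟩
  · rintro ⟨h2, h1⟩
    classical
    have hv : v = (∑ j : Fin c, v.2 j • Y c k (j.val + 1)) + ∑ j : Fin c, v.1 j • X c k (j.val + 1) := by
      refine Prod.ext (funext fun m => ?_) (funext fun m => ?_) <;>
        simp [Prod.fst_sum, Prod.snd_sum, Finset.sum_apply, X, Y, Fin.val_inj]
    rw [hv]
    refine add_mem (sum_mem fun j _ => ?_) (sum_mem fun j _ => ?_)
    · by_cases h : i ≤ j.val
      · simp [h2 j h]
      · exact Submodule.smul_mem _ _ (Submodule.subset_span (Or.inl ⟨_, ⟨by omega, le_min (by omega) j.isLt⟩, rfl⟩))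
    · by_cases h : j.val + i < 2 * c
      · simp [h1 j h]
      · exact Submodule.smul_mem _ _ (Submodule.subset_span (Or.inr ⟨_, ⟨by omega, j.isLt⟩, rfl⟩))

theorem finrank_eq (c i : ℕ) (hi : i ≤ 2 * c) : Module.finrank k (Nfil c k i) = i := by
  let ext₁ : (Fin (i - c) → k) →ₗ[k] (Fin c → k) :=
    { toFun := fun f j => if h : 2 * c - i ≤ j.val then f ⟨j.val - (2 * c - i), by omega⟩ else 0
      map_add' := fun f g => funext fun j => by dsimp only [Pi.add_apply]; split <;> simp
      map_smul' := fun a f => funext fun j => by dsimp only [Pi.smul_apply, RingHom.id_apply]; split <;> simp }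
  let ext₂ : (Fin (min i c) → k) →ₗ[k] (Fin c → k) :=
    { toFun := fun f j => if h : j.val < min i c then f ⟨j.val, h⟩ else 0
      map_add' := fun f g => funext fun j => by dsimp only [Pi.add_apply]; split <;> simp
      map_smul' := fun a f => funext fun j => by dsimp only [Pi.smul_apply, RingHom.id_apply]; split <;> simp }
  have hinj : Function.Injective (ext₁.prodMap ext₂) := by
    rintro ⟨f, f'⟩ ⟨g, g'⟩ h
    refine Prod.ext (funext fun j => ?_) (funext fun j => ?_)
    · have := congrFun (congrArg Prod.fst h) ⟨j.val + (2 * c - i), by omega⟩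
      simpa [ext₁, show (2 * c ≤ j.val + (2 * c - i) + i) from by omega] using this
    · have := congrFun (congrArg Prod.snd h) ⟨j.val, by omega⟩
      simpa [ext₂, show j.val < i from by omega] using this
  have hrange : LinearMap.range (ext₁.prodMap ext₂) = Nfil c k i := by
    ext v
    rw [mem_iff]
    constructor
    · rintro ⟨⟨f, g⟩, rfl⟩
      exact ⟨fun j hj => dif_neg (by omega), fun j hj => dif_neg (by omega)⟩
    · rintro ⟨h2, h1⟩
      refine ⟨(fun j => v.1 ⟨j.val + (2 * c - i), by omega⟩, fun j => v.2 ⟨j.val, by omega⟩), ?_⟩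
      refine Prod.ext (funext fun j => ?_) (funext fun j => ?_)
      · show dite _ _ _ = _
        split
        · exact congrArg v.1 (Fin.ext (by simp; omega))
        · exact (h1 j (by omega)).symm
      · show dite _ _ _ = _
        split
        · rfl
        · exact (h2 j (by omega)).symm
  rw [← hrange, LinearMap.finrank_range_of_inj hinj, Module.finrank_prod, Module.finrank_fin_fun,
    Module.finrank_fin_fun]
  omega

variable [CharP k 2] [PerfectRing k 2] (c : ℕ) (a : ℕ → k)

theorem NV_add (v w : GcMod c k) : NV c k a (v + w) = NV c k a v + NV c k a w := by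
  refine Prod.ext (by simp [NV]) (funext fun i => ?_)
  have hY : coefY (v + w) (2 * (i.val + 1)) = coefY v (2 * (i.val + 1)) + coefY w (2 * (i.val + 1)) := by
    unfold coefY; split <;> simp
  simp only [NV, Prod.snd_add, Pi.add_apply, hY, map_add, Prod.fst_add, add_mul]
  rw [show ∀ p q r s : k, p + q + (r + s) = p + r + (q + s) from fun p q r s => by ring]
  congr 1
  rw [← Finset.sum_add_distrib]
  refine Finset.sum_congr rfl fun j _ => ?_
  split <;> simp

theorem NV_smul (s : k) (v : GcMod c k) : NV c k a (s • v) = (frobeniusEquiv k 2).symm s • NV c k a v := by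
  refine Prod.ext (by simp [NV]) (funext fun i => ?_)
  have hY : coefY (s • v) (2 * (i.val + 1)) = s * coefY v (2 * (i.val + 1)) := by
    unfold coefY; split <;> simp
  simp only [NV, Prod.smul_snd, Pi.smul_apply]
  rw [hY]
  simp only [map_mul, Prod.smul_fst, Pi.smul_apply, smul_eq_mul, mul_add ((frobeniusEquiv k 2).symm s), Finset.mul_sum]
  congr 1
  refine Finset.sum_congr rfl fun j _ => ?_
  split <;> simp [mul_assoc]

theorem NV_image (ha : a c ≠ 0) (i : ℕ) (hi : i ≤ 2 * c) :
    NV c k a '' (Nfil c k i : Set (GcMod c k)) = (Nfil c k (i / 2) : Set (GcMod c k)) := by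
  let I : Submodule k (GcMod c k) :=
    { carrier := NV c k a '' (Nfil c k i : Set (GcMod c k))
      zero_mem' := ⟨0, zero_mem _, by
        have := NV_smul c a 0 0; simpa using this⟩
      add_mem' := by
        rintro _ _ ⟨v, hv, rfl⟩ ⟨w, hw, rfl⟩
        exact ⟨v + w, add_mem hv hw, NV_add c a v w⟩
      smul_mem' := by
        rintro s _ ⟨v, hv, rfl⟩
        exact ⟨frobeniusEquiv k 2 s • v, Submodule.smul_mem _ _ hv, by rw [NV_smul, RingEquiv.symm_apply_apply]⟩ }
  refine Set.Subset.antisymm ?_ ?_
  · rintro _ ⟨v, hv, rfl⟩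
    rw [SetLike.mem_coe, mem_iff] at hv ⊢
    refine ⟨fun m hm => ?_, fun m _ => rfl⟩
    have hY : coefY v (2 * (m.val + 1)) = 0 := by
      unfold coefY; split
      · exact hv.1 _ (show i ≤ 2 * (m.val + 1) - 1 by omega)
      · rfl
    show (frobeniusEquiv k 2).symm (coefY v (2 * (m.val + 1))) + _ = 0
    rw [hY, map_zero, zero_add]
    refine Finset.sum_eq_zero fun j _ => ?_
    split
    · rw [hv.2 j (by omega), zero_mul, map_zero]
    · rfl
  · show (Nfil c k (i / 2) : Set (GcMod c k)) ⊆ (I : Set (GcMod c k))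
    rw [SetLike.coe_subset_coe]
    have key : ∀ m, 1 ≤ m → m ≤ i / 2 → Y c k m ∈ I := by
      intro m
      induction m using Nat.strong_induction_on with
      | _ m ih =>
        intro hm1 hm2
        have hspan : ∀ q < m, Nfil c k q ≤ I := fun q hq => by
          refine Submodule.span_le.2 ?_
          rintro _ (⟨n, ⟨hn1, hn2⟩, rfl⟩ | ⟨n, ⟨hn1, hn2⟩, rfl⟩)
          · exact ih n (by omega) hn1 (by omega)
          · omega
        by_cases h2 : 2 * m ≤ c
        · refine ⟨Y c k (2 * m), ?_, Prod.ext rfl (funext fun q => ?_)⟩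
          · exact Submodule.subset_span (Or.inl ⟨_, ⟨by omega, le_min (by omega) h2⟩, rfl⟩)
          · show (frobeniusEquiv k 2).symm (coefY (Y c k (2 * m)) (2 * (q.val + 1))) + _ = if q.val + 1 = m then 1 else 0
            rw [Finset.sum_eq_zero (fun j _ => by simp [Y]), add_zero]
            unfold coefY
            split_ifs with h3 h4 h5
            · simp [Y]; omega
            · simp [Y]; omega
            · omega
            · simp
        · let j := 2 * (c - m) + 1
          have hmem : NV c k a (X c k j) ∈ I := ⟨X c k j, Submodule.subset_span (Or.inr ⟨j, ⟨by omega, by omega⟩, rfl⟩), rfl⟩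
          have hcoef : ∀ q : Fin c, (NV c k a (X c k j)).2 q =
              if q.val + 1 ≤ m then (frobeniusEquiv k 2).symm (a (q.val + 1 + (c - m))) else 0 := by
            intro q
            show (frobeniusEquiv k 2).symm (coefY (X c k j) (2 * (q.val + 1))) + _ = _
            have hY : coefY (X c k j) (2 * (q.val + 1)) = 0 := by
              unfold coefY; split <;> simp [X]
            rw [hY, map_zero, zero_add, Finset.sum_eq_single (⟨2 * (c - m), by omega⟩ : Fin c)]
            · show (if (2 * (c - m) + 1) % 2 = 1 ∧ q.val + 1 + 2 * (c - m) / 2 ≤ c then _ else 0) = _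
              simp only [Nat.mul_div_cancel_left _ (by norm_num : 0 < 2), X, j]
              split_ifs <;> first | (exfalso; omega) | simp
            · intro b _ hb
              have : b.val + 1 ≠ j := fun h => hb (Fin.ext (by simp; omega))
              simp [X, this]
            · simp
          set α := (frobeniusEquiv k 2).symm (a c) with hα
          have hα0 : α ≠ 0 := by simpa [hα] using ha
          have hrest : NV c k a (X c k j) - α • Y c k m ∈ I := by
            refine hspan (m - 1) (by omega) ((mem_iff c (m - 1) _).2 ⟨fun q hq => ?_, fun q _ => by simp [NV, Y]⟩)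
            show (NV c k a (X c k j)).2 q - α * (if q.val + 1 = m then 1 else 0) = 0
            rw [hcoef]
            rcases Nat.lt_or_ge m (q.val + 1) with h | h
            · rw [if_neg (by omega), if_neg (by omega)]; ring
            · have e : q.val + 1 + (c - m) = c := by omega
              rw [if_pos h, if_pos (by omega), e, hα]; ring
          have hfin : α • Y c k m ∈ I := by simpa using sub_mem hmem hrest
          simpa [smul_smul, inv_mul_cancel₀ hα0] using I.smul_mem α⁻¹ hfin
    refine Submodule.span_le.2 ?_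
    rintro _ (⟨n, ⟨hn1, hn2⟩, rfl⟩ | ⟨n, ⟨hn1, hn2⟩, rfl⟩)
    · exact key n hn1 (by omega)
    · omega

theorem NF_preimage (ha : a c ≠ 0) (i : ℕ) (hi : i ≤ 2 * c) :
    NF c k a ⁻¹' (Nfil c k i : Set (GcMod c k)) = (Nfil c k (c + (i + 1) / 2) : Set (GcMod c k)) := by
  ext v
  rw [Set.mem_preimage, SetLike.mem_coe, SetLike.mem_coe, mem_iff, mem_iff]
  constructor
  · rintro ⟨h2, h1⟩
    refine ⟨fun j hj => by omega, ?_⟩
    have key : ∀ n, ∀ j : Fin c, j.val = n → j.val + (c + (i + 1) / 2) < 2 * c → v.1 j = 0 := by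
      intro n
      induction n using Nat.strong_induction_on with
      | _ n ih =>
        intro j hjn hj
        by_cases hc : 2 * (j.val + 1) ≤ c
        · have := h1 ⟨2 * j.val + 1, by omega⟩ (by simp; omega)
          simp only [NF, coefX] at this
          rw [if_pos (by omega), dif_pos (by omega)] at this
          have e : (⟨(2 * j.val + 1 + 1) / 2 - 1, by omega⟩ : Fin c) = j := Fin.ext (by simp; omega)
          rw [e] at this
          exact pow_eq_zero_iff two_ne_zero |>.1 this
        · have := h2 ⟨2 * (c - (j.val + 1)), by omega⟩ (by simp; omega)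
          simp only [NF] at this
          rw [if_pos (by omega), Finset.sum_eq_single j] at this
          · rw [if_pos (by omega), show j.val + 1 + 2 * (c - (j.val + 1)) / 2 = c by omega] at this
            exact pow_eq_zero_iff two_ne_zero |>.1 ((mul_eq_zero.1 this).resolve_right ha)
          · intro b _ hb
            have hb' : b.val ≠ j.val := fun h => hb (Fin.ext h)
            split
            · rw [ih b.val (by omega) b rfl (by omega)]; ring
            · rfl
          · simp
    exact fun j => key j.val j rfl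
  · rintro ⟨-, h1⟩
    refine ⟨fun m hm => ?_, fun m hm => ?_⟩
    · simp only [NF]
      split
      · refine Finset.sum_eq_zero fun j _ => ?_
        split
        · rw [h1 j (by omega)]; ring
        · rfl
      · rfl
    · simp only [NF, coefX]
      split
      · split
        · rw [h1 _ (by simp; omega)]; ring
        · ring
      · rfl


/-- Let `k` be a perfect field of characteristic `2`, `c` a natural number and `a_1, …, a_c ∈ k` with
`a_c ≠ 0`. On the `2c`-dimensional `k`-space with basis `λ_1, …, λ_c, σ_1, …, σ_c` let `F` be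
Frobenius-semilinear with `F λ_j = 0`, `F σ_j = σ_{2j}` for `2j ≤ c`, `F σ_j = Σ_{i=j}^{c} a_i
λ_{2i-2j+1}` for `2j > c`, and `V` inverse-Frobenius-semilinear with `V λ_j = λ_{j/2}` (`j` even),
`0` (`j` odd), `V σ_j = 0` (`j` even), `V σ_j = Σ_{i=(j+1)/2}^{c} a_i^{1/2} λ_{i-(j-1)/2}` (`j` odd)
— the shape of `F` and `V` on the block of the first de Rham cohomology of `y² − y = f(x)` belonging
to a branch point with invariant `d = 2c + 1`, `a_i` the coefficients of the odd polynomial `f_α`.
Put `N_i = ⟨λ_1, …, λ_i⟩` for `i ≤ c` and `N_i = ⟨λ_1, …, λ_c, σ_{2c-i+1}, …, σ_c⟩` for `c ≤ i ≤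
2c`. Then for `0 ≤ i ≤ 2c`: `dim N_i = i`, `V(N_i) = N_{⌊i/2⌋}` and `F⁻¹(N_i) = N_{c+⌈i/2⌉}`; so
`(N_i)` is a final filtration with `dim V(N_i) = ⌊i/2⌋`. (The published statement adjoins the `σ_j`
starting from `σ_1`; then `V(N_{c+1})` contains `V σ_1`, whose `λ_c`-coefficient is a square root of
`a_c ≠ 0`, so it is not `N_{⌊(c+1)/2⌋}` once `c ≥ 2`; adjoining them from `σ_c` downward, as here,
makes both identities hold.) -/
theorem result (c : ℕ) (k : Type u) [Field k] [CharP k 2] [PerfectRing k 2]
    (a : ℕ → k) (ha : a c ≠ 0) (i : ℕ) (hi : i ≤ 2 * c) :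
    Module.finrank k (W4c6eohyperellchar2.Nfil c k i) = i ∧
      W4c6eohyperellchar2.NV c k a '' (W4c6eohyperellchar2.Nfil c k i : Set (W4c6eohyperellchar2.GcMod c k)) = (W4c6eohyperellchar2.Nfil c k (i / 2) : Set (W4c6eohyperellchar2.GcMod c k)) ∧
      W4c6eohyperellchar2.NF c k a ⁻¹' (W4c6eohyperellchar2.Nfil c k i : Set (W4c6eohyperellchar2.GcMod c k)) = (W4c6eohyperellchar2.Nfil c k (c + (i + 1) / 2) : Set (W4c6eohyperellchar2.GcMod c k)) := by
  exact ⟨finrank_eq c i hi, NV_image c a ha i hi, NF_preimage c a ha i hi⟩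

end Groth.Agent.S19048
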