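import Groth.Statements.S19060
import Groth.Agent.CurveCover.ProjectiveH0

set_option autoImplicit false
set_option backward.isDefEq.respectTransparency false
set_option backward.isDefEq.respectTransparency.types false
universe u
open CategoryTheory CategoryTheory.Limits AlgebraicGeometry Opposite
open Curves

namespace Groth.Agent.S19060

/-- Let R be a Noetherian ring and X a relative curve over Spec R (proper and smooth, with geometrically
connected fibres of dimension one, and projective: X carries an ample invertible module). Let F be a
coherent O_X-module which is flat over Spec R (every stalk is a flat module over the local ring of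
the base). If H^1(X, F) is a projective R-module, then H^0(X, F) is a projective R-module. (The
source says only that F is an O_X-module flat over the base; F is taken coherent here, as the
finiteness of its cohomology over R used there requires.) -/
theorem result (R : Type u) [CommRing R] [IsNoetherianRing R]
    (X : Scheme.{u}) [X.Over (Spec (CommRingCat.of R))] [IsProper (X ↘ Spec (CommRingCat.of R))]
    [Smooth (X ↘ Spec (CommRingCat.of R))] [GeometricallyConnected (X ↘ Spec (CommRingCat.of R))]
    (hdim : ∀ s : Spec (CommRingCat.of R), topologicalKrullDim ↥((X ↘ Spec (CommRingCat.of R)).fiber s) = 1)
    (hproj : ∃ M : X.Modules, CohB1.IsAmple M)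
    (F : X.Modules) (hF : Coh.IsCoh F) (hfl : FlatMod.IsFlatOver (X ↘ Spec (CommRingCat.of R)) F)
    (h1 : Module.Projective R (Coh.HH X F 1)) :
    Module.Projective R (Coh.HH X F 0) := by
  exact Groth.Agent.CurveCover.projective_h0_of_projective_h1 R X (fun s => (hdim s).le) F hF hfl h1

end Groth.Agent.S19060
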