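import Groth.Statements.S19063
import Groth.Agent.H28.Hyp.Coh2
-- import your own Groth.Agent.* helpers here

set_option autoImplicit false
universe u
open CategoryTheory CategoryTheory.Limits AlgebraicGeometry Opposite
open HypSq
open scoped Groth.Agent.H23.PicMul

namespace Groth.Agent.S19063

/-- Let k be an algebraically closed field of characteristic ≠ 2 and C a hyperelliptic curve of genus g
≥ 2 over k: C ⟶ Spec k proper and smooth, C connected of dimension one with dim_k H^1(C, O_C) = g,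
with a double cover κ : C ⟶ P^1_k over k (finite, flat, of rank 2 everywhere). On X = C ×_k C write
L = κ^*O(1) and F_m = p_1^*L^m ⊗ p_2^*L^m (the divisor mF with F = p_1^*D_∞ + p_2^*D_∞, D_∞ a fibre
of κ). Then for every m ≥ g, i.e. m > g − 1, one has H^1(X, F_m) = 0 and H^2(X, F_m) = 0. -/
theorem result (k : Type u) [Field k] [IsAlgClosed k] (h2 : (2 : k) ≠ 0)
    (C : Scheme.{u}) [C.Over (Spec (CommRingCat.of k))] [IsProper (C ↘ Spec (CommRingCat.of k))] [Smooth (C ↘ Spec (CommRingCat.of k))] [ConnectedSpace ↥C]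
    (hdim : topologicalKrullDim ↥C = 1) (g : ℕ) (hg : 2 ≤ g) (hgen : Curv2.genus k C = g)
    (κ : C ⟶ CohB1.ProjSpace 1 k) (hκ : κ ≫ CohB1.ProjSpace.toSpec 1 k = (C ↘ Spec (CommRingCat.of k)))
    [IsFinite κ] [Flat κ] (hκ2 : ∀ y : ↥(CohB1.ProjSpace 1 k), κ.finrank y = 2)
    (m : ℕ) (hm : g ≤ m) :
    Subsingleton (Coh.HH (pullback (C ↘ Spec (CommRingCat.of k)) (C ↘ Spec (CommRingCat.of k))) (CohB1.tensorMod ((Scheme.Modules.pullback (pullback.fst (C ↘ Spec (CommRingCat.of k)) (C ↘ Spec (CommRingCat.of k)))).obj (CohB1.tensorPow ((Scheme.Modules.pullback κ).obj (Twist.twistProjSpace 1 k 1)) m)) ((Scheme.Modules.pullback (pullback.snd (C ↘ Spec (CommRingCat.of k)) (C ↘ Spec (CommRingCat.of k)))).obj (CohB1.tensorPow ((Scheme.Modules.pullback κ).obj (Twist.twistProjSpace 1 k 1)) m))) 1) ∧ Subsingleton (Coh.HH (pullback (C ↘ Spec (CommRingCat.of k)) (C ↘ Spec (CommRingCat.of k))) (CohB1.tensorMod ((Scheme.Modules.pullback (pullback.fst (C ↘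 Spec (CommRingCat.of k)) (C ↘ Spec (CommRingCat.of k)))).obj (CohB1.tensorPow ((Scheme.Modules.pullback κ).obj (Twist.twistProjSpace 1 k 1)) m)) ((Scheme.Modules.pullback (pullback.snd (C ↘ Spec (CommRingCat.of k)) (C ↘ Spec (CommRingCat.of k)))).obj (CohB1.tensorPow ((Scheme.Modules.pullback κ).obj (Twist.twistProjSpace 1 k 1)) m))) 2) := by
  subst hgen
  have hL := Submonoid.pow_mem _ (H28.Hyp.cL_mem k C κ) m
  have h1 : H28.Hyp.hh k 1 (H28.Hyp.cL k C κ ^ m) = 0 :=
    H28.Hyp.hh_one_eq_zero k C hdim hL (by rw [H28.Hyp.χ_cL_pow k C hdim κ hκ hκ2]; omega)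
  have hinv : PicF.IsInvertible (CohB1.tensorPow ((Scheme.Modules.pullback κ).obj (Twist.twistProjSpace 1 k 1)) m) :=
    H23.PicMul.isInvertible_tensorPow (PicClLib.isInvertible_pullback κ (CurveCover.isInvertible_twist k 1)) m
  have h : ∀ i, 1 ≤ i → Subsingleton (Coh.HH (H28.Hyp.Sq k C) (CohB1.tensorMod
      ((Scheme.Modules.pullback (H28.Hyp.p₁ k C)).obj (CohB1.tensorPow ((Scheme.Modules.pullback κ).obj (Twist.twistProjSpace 1 k 1)) m))
      ((Scheme.Modules.pullback (H28.Hyp.p₂ k C)).obj (CohB1.tensorPow ((Scheme.Modules.pullback κ).obj (Twist.twistProjSpace 1 k 1)) m))) i) := fun i hi => by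
    refine H28.Hyp.subsingleton_of_hh k (H23.PicMul.isInvertible_tensor (PicClLib.isInvertible_pullback _ hinv)
      (PicClLib.isInvertible_pullback _ hinv)) ?_
    show H28.Hyp.hh k i (H28.Hyp.q₁ k C (PicF.cl (CohB1.tensorPow _ m)) * H28.Hyp.q₂ k C (PicF.cl (CohB1.tensorPow _ m))) = 0
    rw [H23.PicMul.cl_tensorPow]
    exact H28.Hyp.hh_box k C hdim hL hL h1 h1 i hi
  exact ⟨h 1 le_rfl, h 2 one_le_two⟩

end Groth.Agent.S19063
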