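import Groth.Statements.S19067
import Groth.Agent.H28.Hyp.Coh2
-- import your own Groth.Agent.* helpers here

set_option autoImplicit false
universe u
open CategoryTheory CategoryTheory.Limits AlgebraicGeometry Opposite
open HypSq
open scoped Groth.Agent.H23.PicMul

namespace Groth.Agent.S19067

/-- Let k be an algebraically closed field of characteristic ≠ 2 and C a hyperelliptic curve of genus g
≥ 2 over k: C ⟶ Spec k proper and smooth, C connected of dimension one with dim_k H^1(C, O_C) = g,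
with a double cover κ : C ⟶ P^1_k over k (finite, flat, of rank 2 everywhere) and hyperelliptic
involution σ (σ ≫ κ = κ, σ ≠ id). On the surface X = C ×_k C write L = κ^*O(1) (the divisor D_∞ of
degree 2), F_m = p_1^*L^m ⊗ p_2^*L^m (the divisor mF, F = p_1^*D_∞ + p_2^*D_∞) and let N be an
invertible O_X-module inverse to the ideal sheaf of the graph Γ_σ = (id, σ) : C ⟶ X of σ (the
divisor class of the graph of the involution). If m ≥ g and r ≥ 0 satisfy 0 < 2m − γ r ≤ γ with γ =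
g − 1, then dim_k H^0(X, F_m ⊗ N^r) = (2m − γ)^2 + 4mr − γ r (r + 1) − 2m + g. -/
theorem result (k : Type u) [Field k] [IsAlgClosed k] (h2 : (2 : k) ≠ 0)
    (C : Scheme.{u}) [C.Over (Spec (CommRingCat.of k))] [IsProper (C ↘ Spec (CommRingCat.of k))] [Smooth (C ↘ Spec (CommRingCat.of k))] [ConnectedSpace ↥C]
    (hdim : topologicalKrullDim ↥C = 1) (g : ℕ) (hg : 2 ≤ g) (hgen : Curv2.genus k C = g)
    (κ : C ⟶ CohB1.ProjSpace 1 k) (hκ : κ ≫ CohB1.ProjSpace.toSpec 1 k = (C ↘ Spec (CommRingCat.of k)))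
    [IsFinite κ] [Flat κ] (hκ2 : ∀ y : ↥(CohB1.ProjSpace 1 k), κ.finrank y = 2)
    (σ : C ⟶ C) (hσ : σ ≫ κ = κ) (hσ1 : σ ≠ 𝟙 C) (hσp : σ ≫ (C ↘ Spec (CommRingCat.of k)) = (C ↘ Spec (CommRingCat.of k)))
    (N : (pullback (C ↘ Spec (CommRingCat.of k)) (C ↘ Spec (CommRingCat.of k))).Modules) (hN : PicF.IsInvertible N)
    (hNinv : ClSub.IsInverseOf N (ClSub.idealMod (pullback.lift (𝟙 C) σ ((Category.id_comp (C ↘ Spec (CommRingCat.of k))).trans hσp.symm)).ker))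
    (m r : ℕ) (hm : g ≤ m) (hpos : ((g : ℤ) - 1) * r < 2 * m) (hle : 2 * (m : ℤ) ≤ ((g : ℤ) - 1) * (r + 1)) :
    letI : (pullback (C ↘ Spec (CommRingCat.of k)) (C ↘ Spec (CommRingCat.of k))).Over (Spec (CommRingCat.of k)) := ⟨pullback.fst (C ↘ Spec (CommRingCat.of k)) (C ↘ Spec (CommRingCat.of k)) ≫ (C ↘ Spec (CommRingCat.of k))⟩
    (Module.finrank k (Coh.HH (pullback (C ↘ Spec (CommRingCat.of k)) (C ↘ Spec (CommRingCat.of k))) (CohB1.tensorMod (CohB1.tensorMod ((Scheme.Modules.pullback (pullback.fst (C ↘ Spec (CommRingCat.of k)) (C ↘ Spec (CommRingCat.of k)))).obj (CohB1.tensorPow ((Scheme.Modules.pullback κ).obj (Twist.twistProjSpace 1 k 1)) m)) ((Scheme.Modules.pullback (pullback.snd (C ↘ Spec (CommRingCat.of k)) (C ↘ Spec (CommRingCat.of k)))).obj (CohB1.tensorPow ((Scheme.Modules.pullback κ).obj (Twist.twistProjSpace 1 k 1)) m))) (CohB1.tensorPow N r)) 0) : ℤ) =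
      (2 * (m : ℤ) - ((g : ℤ) - 1)) ^ 2 + 4 * (m : ℤ) * r - ((g : ℤ) - 1) * r * (r + 1) - 2 * m + g := by
  subst hgen
  have hσ2 := H28.Hyp.σ_σ k C hdim κ hκ hκ2 σ hσ hσ1 h2 hg
  haveI := H28.Hyp.isClosedImmersion_graph k C σ hσp
  have hni := H28.Hyp.isInverse_cl k C hdim hNinv
  have hn := H28.Hyp.cl_mem hN
  have key : ∀ i j, H28.Hyp.hh k i (H28.Hyp.q₁ k C (PicF.cl (CohB1.tensorPow ((Scheme.Modules.pullback κ).obj (Twist.twistProjSpace 1 k 1)) m)) *
      H28.Hyp.q₂ k C (PicF.cl (CohB1.tensorPow ((Scheme.Modules.pullback κ).obj (Twist.twistProjSpace 1 k 1)) m)) *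
      PicF.cl (CohB1.tensorPow N j) : PicF.Cl (H28.Hyp.Sq k C)) = H28.Hyp.hh k i (H28.Hyp.cF k C κ (PicF.cl N) m j) := fun i j => by
    rw [H23.PicMul.cl_tensorPow, H23.PicMul.cl_tensorPow]
  refine (congrArg Nat.cast (key 0 r)).trans ?_
  obtain ⟨s, hs⟩ := Int.eq_ofNat_of_zero_le (show (0 : ℤ) ≤ 2 * (m : ℤ) - ((Curv2.genus k C : ℤ) - 1) * r by linarith)
  have h0 := H28.Hyp.χ_surf k C hdim (H28.Hyp.cF_mem k C κ _ hn m r)
  rw [H28.Hyp.χ_F k C hdim κ hκ hκ2 σ hσ hσp hσ2 hn hni m r,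
    H28.Hyp.hh_one_special k C hdim κ hκ hκ2 σ hσ hσp hσ2 _ hn hni m hg hm r s hs.symm (by omega)
      (by rw [mul_add, mul_one] at hle; omega),
    H28.Hyp.hh_two k C hdim κ hκ hκ2 σ hσp hσ2 _ hn hni m hm r] at h0
  push_cast at h0
  linarith

end Groth.Agent.S19067
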