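import Groth.Statements.S19068
import Groth.Agent.H28.Hyp.Num
-- import your own Groth.Agent.* helpers here

set_option autoImplicit false
universe u
open CategoryTheory CategoryTheory.Limits AlgebraicGeometry Opposite
open HypSq
open scoped Groth.Agent.H23.PicMul

namespace Groth.Agent.S19068

/-- Let k be an algebraically closed field of characteristic ≠ 2 and C a hyperelliptic curve of genus g
≥ 2 over k: C ⟶ Spec k proper and smooth, C connected of dimension one with dim_k H^1(C, O_C) = g,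
with a double cover κ : C ⟶ P^1_k over k (finite, flat, of rank 2 everywhere) and hyperelliptic
involution σ (σ ≫ κ = κ, σ ≠ id). On the surface X = C ×_k C write L = κ^*O(1) (the divisor D_∞ of
degree 2), F_m = p_1^*L^m ⊗ p_2^*L^m (the divisor mF, F = p_1^*D_∞ + p_2^*D_∞) and let N be an
invertible O_X-module inverse to the ideal sheaf of the graph Γ_σ = (id, σ) : C ⟶ X of σ (the
divisor class of the graph of the involution); let also N_Δ be an invertible O_X-module inverse to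
the ideal sheaf of the diagonal Δ : C ⟶ X. Then N_Δ ⊗ N ≅ F_1, i.e. the divisor classes satisfy Δ +
Γ_σ ~ p_1^*D_∞ + p_2^*D_∞ (an identity in Pic X: existence of an isomorphism only). -/
theorem result (k : Type u) [Field k] [IsAlgClosed k] (h2 : (2 : k) ≠ 0)
    (C : Scheme.{u}) [C.Over (Spec (CommRingCat.of k))] [IsProper (C ↘ Spec (CommRingCat.of k))] [Smooth (C ↘ Spec (CommRingCat.of k))] [ConnectedSpace ↥C]
    (hdim : topologicalKrullDim ↥C = 1) (g : ℕ) (hg : 2 ≤ g) (hgen : Curv2.genus k C = g)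
    (κ : C ⟶ CohB1.ProjSpace 1 k) (hκ : κ ≫ CohB1.ProjSpace.toSpec 1 k = (C ↘ Spec (CommRingCat.of k)))
    [IsFinite κ] [Flat κ] (hκ2 : ∀ y : ↥(CohB1.ProjSpace 1 k), κ.finrank y = 2)
    (σ : C ⟶ C) (hσ : σ ≫ κ = κ) (hσ1 : σ ≠ 𝟙 C) (hσp : σ ≫ (C ↘ Spec (CommRingCat.of k)) = (C ↘ Spec (CommRingCat.of k)))
    (N : (pullback (C ↘ Spec (CommRingCat.of k)) (C ↘ Spec (CommRingCat.of k))).Modules) (hN : PicF.IsInvertible N)
    (hNinv : ClSub.IsInverseOf N (ClSub.idealMod (pullback.lift (𝟙 C) σ ((Category.id_comp (C ↘ Spec (CommRingCat.of k))).trans hσp.symm)).ker))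
    (ND : (pullback (C ↘ Spec (CommRingCat.of k)) (C ↘ Spec (CommRingCat.of k))).Modules) (hND : PicF.IsInvertible ND)
    (hNDinv : ClSub.IsInverseOf ND (ClSub.idealMod (pullback.diagonal (C ↘ Spec (CommRingCat.of k))).ker)) :
    Nonempty (CohB1.tensorMod ND N ≅ (CohB1.tensorMod ((Scheme.Modules.pullback (pullback.fst (C ↘ Spec (CommRingCat.of k)) (C ↘ Spec (CommRingCat.of k)))).obj (CohB1.tensorPow ((Scheme.Modules.pullback κ).obj (Twist.twistProjSpace 1 k 1)) 1)) ((Scheme.Modules.pullback (pullback.snd (C ↘ Spec (CommRingCat.of k)) (C ↘ Spec (CommRingCat.of k)))).obj (CohB1.tensorPow ((Scheme.Modules.pullback κ).obj (Twist.twistProjSpace 1 k 1)) 1)))) := by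
  subst hgen
  have hσ2 := H28.Hyp.σ_σ k C hdim κ hκ hκ2 σ hσ hσ1 h2 hg
  haveI := H28.Hyp.isClosedImmersion_graph k C σ hσp
  have hr := H28.Hyp.cI_rel k C σ hσp hσ2 hdim κ hκ hκ2 hσ hσ1
  have hd := H28.Hyp.isInverse_cl (i := H28.Hyp.diag k C) k C hdim hNDinv
  have hn := H28.Hyp.isInverse_cl (i := H28.Hyp.graph k C σ hσp) k C hdim hNinv
  letI := H23.PicMul.clMonoid (H28.Hyp.Sq k C)
  refine (PicGrp.cl_eq_cl_iff _ _).1 ?_
  show PicF.cl ND * PicF.cl N = H28.Hyp.q₁ k C (PicF.cl (CohB1.tensorPow _ 1)) * H28.Hyp.q₂ k C (PicF.cl (CohB1.tensorPow _ 1))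
  rw [H23.PicMul.cl_tensorPow, pow_one]
  calc PicF.cl ND * PicF.cl N = PicF.cl ND * PicF.cl N * (H28.Hyp.cI (H28.Hyp.diag k C) * H28.Hyp.cI (H28.Hyp.graph k C σ hσp) *
        H28.Hyp.q₁ k C (H28.Hyp.cL k C κ) * H28.Hyp.q₂ k C (H28.Hyp.cL k C κ)) := by rw [hr, mul_one]
    _ = (PicF.cl ND * H28.Hyp.cI (H28.Hyp.diag k C)) * (PicF.cl N * H28.Hyp.cI (H28.Hyp.graph k C σ hσp)) *
        (H28.Hyp.q₁ k C (H28.Hyp.cL k C κ) * H28.Hyp.q₂ k C (H28.Hyp.cL k C κ)) := by ac_rfl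
    _ = _ := by rw [hd, hn, one_mul, one_mul]

end Groth.Agent.S19068
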