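import Groth.Statements.S1907
import Groth.Agent.H23.DivPull
-- import your own Groth.Agent.* helpers here

set_option autoImplicit false
universe u
open CategoryTheory AlgebraicGeometry
open Cyc

namespace Groth.Agent.S1907

/-- Let Y be integral with δY(η_Y) = k, f : X → Y flat, locally of finite type, of relative dimension r,
and g a nonzero rational function on Y. Then f^*(div_Y g) = Σ_j n_j · div_{X_j}(g|_{X_j}) as (k + r
− 1)-cycles on X, the sum over the irreducible components X_j of X (generic points ξ_j, which map to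
η_Y) with n_j the length of O_{X,ξ_j}, and g|_{X_j} the image of g in κ(ξ_j). A pair (X, δ) with
Cyc.IsSetup plays the role of a scheme locally of finite type over a fixed base with a dimension
function (X locally Noetherian with universally catenary local rings, δ a dimension function), and
Cyc.DeltaCompat records that the dimension function upstairs is the induced one. -/
theorem result (X Y : Scheme.{u}) [IsIntegral Y] (δX : X → ℤ) (δY : Y → ℤ) (hX : Cyc.IsSetup X δX) (hY : Cyc.IsSetup Y δY) (f : X ⟶ Y) [Flat f] [LocallyOfFiniteType f] (r : ℕ) (hr : Cyc.HasRelDim f r) (hδ : Cyc.DeltaCompat f δX δY) (k : ℤ) (hk : δY (genericPoint Y) = k) (g : Y.residueField (genericPoint Y)) (hg : g ≠ 0) (x : X) : Cyc.pullFun f δX δY r (Cyc.divFun δY (genericPoint Y) g) x = ∑ᶠ ξ : {ξ : X // (∀ x' : X, x' ⤳ ξ → x' = ξ) ∧ f ξ = genericPoint Y}, ((Module.length (X.presheaf.stalk ξ.1) (X.presheaf.stalk ξ.1)).toNat : ℤ) * Cyc.divFun δX ξ.1 (f.residueFieldMap ξ.1 ((Y.residueFieldCongr ξ.2.2.symm).hom g)) x := by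
  haveI := hX.1
  haveI := hY.1
  classical
  rw [Groth.Agent.H23.DivPull.pullFun_divFun f (Groth.Agent.H23.FlatShift.hasShift_of_hasRelDim f hr hδ) hY.2.2 hX.2.2 hg x]
  have hset : {z : X | f z = genericPoint Y ∧ Groth.Agent.FibDim.FibMax f z} =
      {ξ : X | (∀ x' : X, x' ⤳ ξ → x' = ξ) ∧ f ξ = genericPoint Y} := by
    ext z
    refine ⟨fun hz => ⟨fun w hw => hz.2 w hw ?_, hz.1⟩, fun hz => ⟨hz.2, fun w hw _ => hz.1 w hw⟩⟩
    rw [hz.1]
    exact ((hz.1 ▸ hw.map f.continuous).antisymm ((genericPoint_spec Y).specializes (Set.mem_univ _))).eq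
  rw [hset, ← finsum_set_coe_eq_finsum_mem]
  refine finsum_congr fun ξ => ?_
  obtain ⟨z, hmax, hz⟩ := ξ
  have hb : Ideal.map (f.stalkMap z).hom (IsLocalRing.maximalIdeal (Y.presheaf.stalk (f z))) = ⊥ := by
    rw [show IsLocalRing.maximalIdeal (Y.presheaf.stalk (f z)) = ⊥ by
      rw [hz]
      letI : Field (Y.presheaf.stalk (genericPoint Y)) := (inferInstanceAs (Field Y.functionField))
      exact IsLocalRing.maximalIdeal_eq_bot, Ideal.map_bot]
  rw [Groth.Agent.H23.DivPull.term, dif_pos hz]
  simp only [Groth.Agent.H23.FiniteFibreSum.fibreLen, (Submodule.quotEquivOfEqBot _ hb).length_eq]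
  rfl

end Groth.Agent.S1907
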