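import Groth.Statements.S19073
import Groth.Agent.Lib.CurveOnSurf
import Groth.Agent.Lib.SmoothDuality
import Groth.Agent.Lib.CurveRR
import Groth.Agent.CurveFin.RelDim
import Groth.Agent.CurveCohLib.RegularCurve
import Groth.Agent.PnCoh.Chow.Proper
import Groth.Agent.Lib.TopPower

set_option autoImplicit false
set_option backward.isDefEq.respectTransparency false
set_option backward.isDefEq.respectTransparency.types false
set_option linter.style.haveILetI false
set_option linter.unusedSectionVars false
set_option maxHeartbeats 400000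
universe u
open CategoryTheory CategoryTheory.Limits AlgebraicGeometry
open Surf

namespace Groth.Agent.S19073

open Groth.Agent.H23

/-- Let X be a surface over an algebraically closed field k (an integral scheme of dimension two all of
whose local rings are regular, with a closed immersion into some P^n_k over k), and let L₁, L₂ be
invertible O_X-modules which are numerically equivalent: (L₁·M) = (L₂·M) for every invertible
O_X-module M, where (L·M) = χ(O_X) − χ(L) − χ(M) + χ(L ⊗ M) is the intersection number. Then χ(X,
L₁) = χ(X, L₂). -/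
theorem result (k : Type u) [Field k] [IsAlgClosed k] (X : Scheme.{u}) [X.Over (Spec (CommRingCat.of k))]
    [AlgebraicGeometry.IsIntegral X] (hdim : topologicalKrullDim X = 2) (hreg : ∀ x : X, IsRegularLocalRing (X.presheaf.stalk x))
    (hproj : ∃ (n : ℕ) (ι : X ⟶ CohB1.ProjSpace n k), IsClosedImmersion ι ∧ ι ≫ CohB1.ProjSpace.toSpec n k = (X ↘ (Spec (CommRingCat.of k))))
    (L₁ L₂ : X.Modules) (hL₁ : PicF.IsInvertible L₁) (hL₂ : PicF.IsInvertible L₂)
    (hnum : ∀ M : X.Modules, PicF.IsInvertible M →
      FGA.intNum k X 2 ![L₁, M] (Coh.structureModule X) = FGA.intNum k X 2 ![L₂, M] (Coh.structureModule X)) :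
    Curv2.euler k X L₁ = Curv2.euler k X L₂ := by
  letI := PicMul.clMonoid (X := X)
  obtain ⟨N, ι, hi, hι⟩ := hproj
  haveI := hi
  haveI := PnCoh.Chow.isProper_toSpec N k
  haveI : IsProper (X ↘ Spec (CommRingCat.of k)) := hι ▸ inferInstance
  haveI := CurveCohLib.RegularCurve.smooth_of_regular k (X := X) fun x _ => hreg x
  haveI := CurveFin.smoothOfRelativeDimension_of_dim (f := X ↘ Spec (CommRingCat.of k)) (d := 2) hdim
  obtain ⟨W, hW, hWi⟩ := TopPower.exists_canonical (X ↘ Spec (CommRingCat.of k)) 2
  have hd : topologicalKrullDim ↥X ≤ 2 := hdim.le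
  have h1 := SmoothDuality.riemann_roch ι hι hW hL₁
  have h2 := SmoothDuality.riemann_roch ι hι hW hL₂
  have e1 := hnum L₁ hL₁
  have e2 := hnum L₂ hL₂
  have e3 := hnum W hWi
  rw [SurfPairing.intNum_eq_pair k hd hL₁ hL₂, SurfPairing.pair_comm, ← SurfPairing.intNum_eq_pair k hd hL₂ hL₁] at e2
  linarith

end Groth.Agent.S19073
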