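import Groth.Statements.S19083
import Groth.Agent.H28.Hyp.Num2
-- import your own Groth.Agent.* helpers here

set_option autoImplicit false
universe u
open CategoryTheory CategoryTheory.Limits AlgebraicGeometry Opposite
open HypSq
open scoped Groth.Agent.H23.PicMul

namespace Groth.Agent.S19083

/-- Let k be an algebraically closed field of characteristic ≠ 2 and C a hyperelliptic curve of genus g
≥ 2 over k: C ⟶ Spec k proper and smooth, C connected of dimension one with dim_k H^1(C, O_C) = g,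
with a double cover κ : C ⟶ P^1_k over k (finite, flat, of rank 2 everywhere) and hyperelliptic
involution σ (σ ≫ κ = κ, σ ≠ id). On X = C ×_k C let N be an invertible O_X-module inverse to the
ideal sheaf of the graph Γ_σ = (id, σ) : C ⟶ X, x : Spec k ⟶ C a k-point with A = O_C(x) an
invertible O_C-module inverse to the ideal sheaf of x. Then for all m, n, r ≥ 0 the module p_1^*A^m
⊗ p_2^*A^n ⊗ N^r (the divisor mV_x + nH_x + rΓ_σ) has Euler characteristic χ = (m − γ)(n − γ) + r(m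
+ n) − γ r (r + 2), γ = g − 1. (The source takes x to be a Weierstrass point; the formula is
numerical and holds for any k-point.) -/
theorem result (k : Type u) [Field k] [IsAlgClosed k] (h2 : (2 : k) ≠ 0)
    (C : Scheme.{u}) [C.Over (Spec (CommRingCat.of k))] [IsProper (C ↘ Spec (CommRingCat.of k))] [Smooth (C ↘ Spec (CommRingCat.of k))] [ConnectedSpace ↥C]
    (hdim : topologicalKrullDim ↥C = 1) (g : ℕ) (hg : 2 ≤ g) (hgen : Curv2.genus k C = g)
    (κ : C ⟶ CohB1.ProjSpace 1 k) (hκ : κ ≫ CohB1.ProjSpace.toSpec 1 k = (C ↘ Spec (CommRingCat.of k)))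
    [IsFinite κ] [Flat κ] (hκ2 : ∀ y : ↥(CohB1.ProjSpace 1 k), κ.finrank y = 2)
    (σ : C ⟶ C) (hσ : σ ≫ κ = κ) (hσ1 : σ ≠ 𝟙 C) (hσp : σ ≫ (C ↘ Spec (CommRingCat.of k)) = (C ↘ Spec (CommRingCat.of k)))
    (N : (pullback (C ↘ Spec (CommRingCat.of k)) (C ↘ Spec (CommRingCat.of k))).Modules) (hN : PicF.IsInvertible N)
    (hNinv : ClSub.IsInverseOf N (ClSub.idealMod (pullback.lift (𝟙 C) σ ((Category.id_comp (C ↘ Spec (CommRingCat.of k))).trans hσp.symm)).ker))
    (x : Spec (CommRingCat.of k) ⟶ C) (hx : x ≫ (C ↘ Spec (CommRingCat.of k)) = 𝟙 (Spec (CommRingCat.of k)))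
    (A : C.Modules) (hA : PicF.IsInvertible A) (hAinv : ClSub.IsInverseOf A (ClSub.idealMod x.ker))
    (m n r : ℕ) :
    letI : (pullback (C ↘ Spec (CommRingCat.of k)) (C ↘ Spec (CommRingCat.of k))).Over (Spec (CommRingCat.of k)) := ⟨pullback.fst (C ↘ Spec (CommRingCat.of k)) (C ↘ Spec (CommRingCat.of k)) ≫ (C ↘ Spec (CommRingCat.of k))⟩
    Curv2.euler k (pullback (C ↘ Spec (CommRingCat.of k)) (C ↘ Spec (CommRingCat.of k))) (CohB1.tensorMod (CohB1.tensorMod ((Scheme.Modules.pullback (pullback.fst (C ↘ Spec (CommRingCat.of k)) (C ↘ Spec (CommRingCat.of k)))).obj (CohB1.tensorPow A m)) ((Scheme.Modules.pullback (pullback.snd (C ↘ Spec (CommRingCat.of k)) (C ↘ Spec (CommRingCat.of k)))).obj (CohB1.tensorPow A n))) (CohB1.tensorPow N r)) =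
      ((m : ℤ) - ((g : ℤ) - 1)) * ((n : ℤ) - ((g : ℤ) - 1)) + (r : ℤ) * (m + n) - ((g : ℤ) - 1) * r * (r + 2) := by
  subst hgen
  have hσ2 := H28.Hyp.σ_σ k C hdim κ hκ hκ2 σ hσ hσ1 h2 hg
  haveI := H28.Hyp.isClosedImmersion_graph k C σ hσp
  show SurfPairing.χ k (H28.Hyp.q₁ k C (PicF.cl (CohB1.tensorPow A m)) * H28.Hyp.q₂ k C (PicF.cl (CohB1.tensorPow A n)) *
      PicF.cl (CohB1.tensorPow N r) : PicF.Cl (H28.Hyp.Sq k C)) = _
  rw [H23.PicMul.cl_tensorPow, H23.PicMul.cl_tensorPow, H23.PicMul.cl_tensorPow]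
  have hAi := H28.Hyp.cl_mem hA
  have hax : PicF.cl A * H28.Hyp.cI x = 1 := by
    rw [← H23.PicMul.cl_tensor]
    exact (PicGrp.cl_eq_cl_iff _ _).2 hAinv
  obtain ⟨e1, e2⟩ := H28.Hyp.χ_inverse_point k C hdim σ hσp hσ2 hx hAi hax
  rw [H28.Hyp.χ_box_pow_graph k C hdim σ hσp hσ2 (H28.Hyp.cl_mem hN) (H28.Hyp.isInverse_cl k C hdim hNinv)
    (Submonoid.pow_mem _ hAi m) (Submonoid.pow_mem _ hAi n), H28.Hyp.pullCl_pow, H28.Hyp.χ_pow k C hdim hAi,
    H28.Hyp.χ_pow k C hdim hAi, H28.Hyp.χ_pow k C hdim (H28.Hyp.pullCl_mem σ hAi), e1, e2,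
    H28.Hyp.euler_structure k C hdim]
  ring

end Groth.Agent.S19083
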