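import Groth.Statements.S19093
import Groth.Agent.PerfLib.FrobFinite
import Mathlib.Algebra.CharP.Algebra
import Mathlib.Algebra.BigOperators.Fin
import Mathlib.RingTheory.PowerSeries.Expand
import Mathlib.RingTheory.IntegralClosure.IsIntegralClosure.Basic
import Mathlib.FieldTheory.Perfect
import Mathlib.RingTheory.FiniteType
-- import your own Groth.Agent.* helpers here

set_option autoImplicit false
universe u
open FrobAlg

namespace Groth.Agent.S19093

/-- Let p be a prime, k a finite field of characteristic p, A a commutative k[[t]]-algebra of finite
type over the power series ring k[[t]], and P a prime ideal of A. Then the absolute Frobenius a ↦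
a^p of the local ring A_P is a finite ring homomorphism. In particular every local ring of a scheme
of finite type over k[[t]] has finite absolute Frobenius. (The instance hypothesis that A_P has
characteristic p always holds, A_P being a nonzero algebra over k.) The published statement is for
the local rings of a projective strictly semistable scheme over k[[t]] and adds that such a scheme
is regular with F-finite local rings; its proof uses only that the scheme is of finite type over
k[[t]], which is the form stated here. -/
theorem result (p : ℕ) [Fact p.Prime]
    (k : Type u) [Field k] [Finite k] [CharP k p]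
    (A : Type u) [CommRing A] [Algebra (PowerSeries k) A] [Algebra.FiniteType (PowerSeries k) A]
    (P : Ideal A) [P.IsPrime] [CharP (Localization.AtPrime P) p] :
    (frobenius (Localization.AtPrime P) p).Finite := by
    have hp : p.Prime := Fact.out
    haveI : Nontrivial A := ⟨⟨0, 1, fun h => Ideal.IsPrime.ne_top (I := P) inferInstance
      ((Ideal.eq_top_iff_one P).2 (h ▸ P.zero_mem))⟩⟩
    haveI : CharP (PowerSeries k) p :=
      charP_of_injective_ringHom (f := (PowerSeries.C (R := k))) PowerSeries.C_injective p
    haveI : CharP A p := (CharP.charP_iff_prime_eq_zero hp).2 (by
      rw [← map_natCast (algebraMap (PowerSeries k) A), CharP.cast_eq_zero, map_zero])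
    haveI : PerfectRing k p := PerfectField.toPerfectRing p
    have hk : (frobenius (PowerSeries k) p).Finite := by
      refine PerfLib.finite_of_exists_sum _
        (fun i : Fin p => (PowerSeries.X : PowerSeries k) ^ (i : ℕ)) fun f => ?_
      let g : ℕ → PowerSeries k := fun i =>
        PowerSeries.mk fun n => (frobeniusEquiv k p).symm (PowerSeries.coeff (p * n + i) f)
      refine ⟨fun i => g i, ?_⟩
      simp only [frobenius_def]
      rw [Fin.sum_univ_eq_sum_range (fun i => g i ^ p * (PowerSeries.X : PowerSeries k) ^ i) p]
      ext m
      rw [map_sum, Finset.sum_eq_single (m % p)]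
      · rw [PowerSeries.coeff_mul_X_pow', if_pos (Nat.mod_le m p),
          ← MvPowerSeries.map_frobenius_expand p hp.ne_zero]
        change _ = PowerSeries.coeff (m - m % p) ((PowerSeries.expand p hp.ne_zero (g (m % p))).map (frobenius k p))
        rw [PowerSeries.coeff_map, show m - m % p = p * (m / p) by have := Nat.div_add_mod m p; omega,
          PowerSeries.coeff_expand_mul, PowerSeries.coeff_mk, frobenius_apply_frobeniusEquiv_symm, Nat.div_add_mod]
      · intro i hi hne
        rw [PowerSeries.coeff_mul_X_pow']
        split
        · rw [← MvPowerSeries.map_frobenius_expand p hp.ne_zero]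
          change PowerSeries.coeff (m - i) ((PowerSeries.expand p hp.ne_zero (g i)).map (frobenius k p)) = 0
          rw [PowerSeries.coeff_map, PowerSeries.coeff_expand_of_not_dvd, map_zero]
          intro h
          refine hne ?_
          obtain ⟨c, hc⟩ := h
          rw [show m = i + p * c by omega, Nat.add_mul_mod_self_left, Nat.mod_eq_of_lt (Finset.mem_range.1 hi)]
        · rfl
      · intro h; exact absurd (Finset.mem_range.2 (Nat.mod_lt m hp.pos)) h
    have hA : (frobenius A p).Finite := by
      refine RingHom.IsIntegral.to_finite (fun x => ⟨Polynomial.X ^ p - Polynomial.C x,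
        Polynomial.monic_X_pow_sub_C x hp.ne_zero, ?_⟩) ?_
      · simp [frobenius_def]
      · refine RingHom.FiniteType.of_comp_finiteType (f := algebraMap (PowerSeries k) A) ?_
        have e : (frobenius A p).comp (algebraMap (PowerSeries k) A) =
            (algebraMap (PowerSeries k) A).comp (frobenius (PowerSeries k) p) :=
          RingHom.ext fun x => (RingHom.map_frobenius (algebraMap (PowerSeries k) A) p x).symm
        rw [e]
        exact (RingHom.finiteType_algebraMap.2 inferInstance).comp hk.finiteType
    exact PerfLib.frobFinite_of_isLocalization P.primeCompl hA

end Groth.Agent.S19093
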