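import Groth.Statements.S19094
import Groth.Agent.H23.FrobDegree
import Mathlib.RingTheory.PowerSeries.Expand
import Mathlib.RingTheory.MvPowerSeries.Expand
import Mathlib.RingTheory.LaurentSeries

set_option autoImplicit false
universe u
open FrobAlg

namespace Groth.Agent.S19094

open Module Groth.Agent.H23.FrobDegree

/-- The degree of a field over its `p`-th powers, as a relative rank. -/
noncomputable def ideg (p : ℕ) (L : Type u) [Field L] [ExpChar L p] : ℕ :=
  Subfield.relfinrank (frobenius L p).fieldRange ⊤

theorem fieldRange_map_frobenius {L L' : Type u} [Field L] [Field L'] (p : ℕ) [ExpChar L p] [ExpChar L' p]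
    (ψ : L →+* L') : (frobenius L p).fieldRange.map ψ = ψ.fieldRange.map (frobenius L' p) := by
  rw [RingHom.map_fieldRange, RingHom.map_fieldRange]
  congr 1
  ext m
  simp [frobenius_def]

theorem ideg_ringEquiv {L L' : Type u} [Field L] [Field L'] (p : ℕ) [ExpChar L p] [ExpChar L' p]
    (e : L ≃+* L') : ideg p L = ideg p L' := by
  have hs : (e : L →+* L').fieldRange = ⊤ := eq_top_iff.mpr fun x _ => ⟨e.symm x, e.apply_symm_apply x⟩
  rw [ideg, ideg, ← Subfield.relfinrank_map_map _ _ (e : L →+* L'), fieldRange_map_frobenius, hs,
    ← RingHom.fieldRange_eq_map, ← RingHom.fieldRange_eq_map, hs]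

/-- Invariance of the imperfection degree in finite extensions. -/
theorem ideg_finite {L : Type u} [Field L] (p : ℕ) [ExpChar L p] (F : Subfield L) [ExpChar F p]
    [FiniteDimensional F L] : ideg p L = ideg p F := by
  let π := frobenius L p
  have hFq : F.map π ≤ F := by
    rintro _ ⟨x, hx, rfl⟩
    exact pow_mem hx _
  have h1 : Subfield.relfinrank (F.map π) F = ideg p F := by
    rw [ideg, ← Subfield.relfinrank_map_map _ _ F.subtype, fieldRange_map_frobenius,
      ← RingHom.fieldRange_eq_map, Subfield.fieldRange_subtype]
  have h2 := Subfield.relfinrank_mul_relfinrank hFq (le_top : F ≤ ⊤)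
  have h3 := Subfield.relfinrank_mul_relfinrank
    ((Subfield.gc_map_comap π).monotone_l (le_top : F ≤ ⊤)) (le_top : (⊤ : Subfield L).map π ≤ ⊤)
  rw [← h2, Subfield.relfinrank_map_map, h1, mul_comm (ideg p F)] at h3
  have hpos : 0 < Subfield.relfinrank F ⊤ := by
    rw [Subfield.relfinrank_top_right]
    exact Module.finrank_pos (R := F) (M := L)
  have h4 := Nat.eq_of_mul_eq_mul_left hpos h3
  rw [← RingHom.fieldRange_eq_map π] at h4
  exact h4

theorem ideg_eq_card_of_decomp {R : Type u} [CommRing R] [IsDomain R] (p : ℕ) [ExpChar R p]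
    [ExpChar (FractionRing R) p] {ι : Type} [Fintype ι] (v : ι → R)
    (hv : Function.Bijective (fun c : ι → R => ∑ e, frobenius R p (c e) * v e)) :
    ideg p (FractionRing R) = Fintype.card ι := by
  rw [← relfinrank_lift_of_decomp (frobenius R p) (frobenius_inj R p) v hv, ideg]
  congr 2
  refine IsLocalization.ringHom_ext (nonZeroDivisors R) (RingHom.ext fun r => ?_)
  simp [frobenius_def, IsFractionRing.lift_algebraMap]

theorem powerSeries_decomp (p : ℕ) [hp : Fact p.Prime] (k : Type u) [Field k] [CharP k p] [PerfectRing k p]
    [ExpChar (PowerSeries k) p] :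
    Function.Bijective (fun c : Fin p → PowerSeries k =>
      ∑ i, frobenius (PowerSeries k) p (c i) * (PowerSeries.X : PowerSeries k) ^ (i : ℕ)) := by
  classical
  haveI : ExpChar k p := .prime Fact.out
  have hp0 : p ≠ 0 := hp.out.ne_zero
  have hcoeff : ∀ (c : Fin p → PowerSeries k) (n : ℕ),
      PowerSeries.coeff n (∑ i, frobenius (PowerSeries k) p (c i) * (PowerSeries.X : PowerSeries k) ^ (i : ℕ)) =
        frobenius k p (PowerSeries.coeff (n / p) (c ⟨n % p, Nat.mod_lt _ hp.out.pos⟩)) := by
    intro c n
    have hpow : ∀ f : PowerSeries k, frobenius (PowerSeries k) p f =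
        PowerSeries.map (frobenius k p) (PowerSeries.expand p hp0 f) := fun f => by
      rw [frobenius_def]
      exact (MvPowerSeries.map_frobenius_expand p hp0).symm
    rw [map_sum, Finset.sum_eq_single (⟨n % p, Nat.mod_lt _ hp.out.pos⟩ : Fin p)]
    · rw [PowerSeries.coeff_mul_X_pow', if_pos (Nat.mod_le _ _), hpow, PowerSeries.coeff_map,
        PowerSeries.coeff_expand, if_pos ⟨n / p, by simp only; have := Nat.div_add_mod n p; omega⟩]
      have e : (n - n % p) / p = n / p := by
        rw [show n - n % p = p * (n / p) from by have := Nat.div_add_mod n p; omega, Nat.mul_div_cancel_left _ hp.out.pos]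
      show frobenius k p (PowerSeries.coeff ((n - n % p) / p) _) = _
      rw [e]
    · intro i _ hi
      rw [PowerSeries.coeff_mul_X_pow']
      split_ifs with hle
      · rw [hpow, PowerSeries.coeff_map, PowerSeries.coeff_expand, if_neg, map_zero]
        rintro ⟨q, hq⟩
        apply hi
        refine Fin.ext ?_
        show (i : ℕ) = n % p
        rw [show n = (i : ℕ) + p * q by omega, Nat.add_mul_mod_self_left, Nat.mod_eq_of_lt i.2]
      · rfl
    · intro h; exact absurd (Finset.mem_univ _) h
  constructor
  · intro c c' h
    funext i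
    ext m
    apply frobenius_inj k p
    have h1 : (p * m + (i : ℕ)) % p = (i : ℕ) := by
      rw [Nat.mul_add_mod, Nat.mod_eq_of_lt i.2]
    have h2 : (p * m + (i : ℕ)) / p = m := by
      rw [Nat.mul_add_div hp.out.pos, Nat.div_eq_of_lt i.2, add_zero]
    have := congrArg (PowerSeries.coeff (p * m + (i : ℕ))) h
    simp only [hcoeff] at this
    simpa [h1, h2] using this
  · intro f
    refine ⟨fun i => PowerSeries.mk fun m => (frobeniusEquiv k p).symm (PowerSeries.coeff (p * m + (i : ℕ)) f), ?_⟩
    ext n
    simp only [hcoeff, PowerSeries.coeff_mk]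
    rw [frobenius_apply_frobeniusEquiv_symm, Nat.div_add_mod]

theorem mvPolynomial_decomp {F : Type u} [Field F] (p : ℕ) [ExpChar F p] {r : ℕ} {ι : Type} [Fintype ι]
    (b : Basis ι (frobenius F p).fieldRange F) :
    Function.Bijective (fun c : ι → MvPolynomial (Fin r) F =>
      ∑ e, MvPolynomial.map (frobenius F p) (c e) * MvPolynomial.C (b e)) := by
  classical
  have hcoeff : ∀ (c : ι → MvPolynomial (Fin r) F) m,
      MvPolynomial.coeff m (∑ e, MvPolynomial.map (frobenius F p) (c e) * MvPolynomial.C (b e)) =
        ∑ e, (⟨frobenius F p (MvPolynomial.coeff m (c e)), _, rfl⟩ : (frobenius F p).fieldRange) • b e := by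
    intro c m
    rw [MvPolynomial.coeff_sum]
    refine Finset.sum_congr rfl fun e _ => ?_
    rw [mul_comm, MvPolynomial.coeff_C_mul, MvPolynomial.coeff_map, mul_comm]
    rfl
  constructor
  · intro c c' h
    funext e
    ext m
    have := congrArg (MvPolynomial.coeff m) h
    simp only [hcoeff] at this
    have h2 := congrArg (fun y => b.repr y e) this
    simp only [Basis.repr_sum_self] at h2
    exact frobenius_inj F p (congrArg Subtype.val h2)
  · intro f
    have hy : ∀ (y : F) (e : ι), ∃ x, frobenius F p x = (b.repr y e : F) := fun y e => (b.repr y e).2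
    choose x hx using hy
    have hx0 : ∀ e, x 0 e = 0 := fun e => frobenius_inj F p ((hx 0 e).trans (by simp))
    refine ⟨fun e => ∑ m ∈ f.support, MvPolynomial.monomial m (x (MvPolynomial.coeff m f) e), ?_⟩
    ext m
    simp only [hcoeff, MvPolynomial.coeff_sum, MvPolynomial.coeff_monomial, Finset.sum_ite_eq']
    conv_rhs => rw [← b.sum_repr (MvPolynomial.coeff m f)]
    refine Finset.sum_congr rfl fun e _ => ?_
    congr 1
    refine Subtype.ext ?_
    show frobenius F p _ = _
    split_ifs with hm
    · exact hx _ _
    · simp [MvPolynomial.notMem_support_iff.mp hm]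

theorem lift_comp_eq_frobenius {R : Type u} [CommRing R] [IsDomain R] (p : ℕ) [ExpChar (FractionRing R) p]
    (f g : R →+* R) (hf : Function.Injective f) (hg : Function.Injective g) (h : ∀ x, f (g x) = x ^ p) :
    (IsFractionRing.lift (K := FractionRing R) (g := (algebraMap R (FractionRing R)).comp f)
        ((IsFractionRing.injective R (FractionRing R)).comp hf)).comp
      (IsFractionRing.lift (K := FractionRing R) (g := (algebraMap R (FractionRing R)).comp g)
        ((IsFractionRing.injective R (FractionRing R)).comp hg)) = frobenius (FractionRing R) p := by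
  refine IsLocalization.ringHom_ext (nonZeroDivisors R) (RingHom.ext fun x => ?_)
  simp [IsFractionRing.lift_algebraMap, frobenius_def, h]

theorem relfinrank_comp {L : Type u} [Field L] (φ ψ : L →+* L) :
    Subfield.relfinrank (φ.comp ψ).fieldRange ⊤ =
      Subfield.relfinrank ψ.fieldRange ⊤ * Subfield.relfinrank φ.fieldRange ⊤ := by
  have h1 : Subfield.relfinrank (φ.comp ψ).fieldRange φ.fieldRange = Subfield.relfinrank ψ.fieldRange ⊤ := by
    rw [← RingHom.map_fieldRange]
    conv_lhs => rw [RingHom.fieldRange_eq_map φ]
    exact Subfield.relfinrank_map_map _ _ φ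
  rw [← h1]
  exact (Subfield.relfinrank_mul_relfinrank
    (show (φ.comp ψ).fieldRange ≤ φ.fieldRange by rintro _ ⟨x, rfl⟩; exact ⟨ψ x, rfl⟩) le_top).symm

/-- The imperfection degree of a rational function field. -/
theorem ideg_rational {F : Type u} [Field F] (p : ℕ) (hp : 0 < p) [ExpChar F p] (r : ℕ)
    [ExpChar (FractionRing (MvPolynomial (Fin r) F)) p] (hF : FiniteDimensional (frobenius F p).fieldRange F) :
    ideg p (FractionRing (MvPolynomial (Fin r) F)) = ideg p F * p ^ r := by
  classical
  let b := Module.finBasis (frobenius F p).fieldRange F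
  have hψ := relfinrank_lift_of_decomp (MvPolynomial.map (σ := Fin r) (frobenius F p))
    (MvPolynomial.map_injective _ (frobenius_inj F p)) _ (mvPolynomial_decomp p b)
  have hφ := relfinrank_expand F r p hp
  have hcomp := lift_comp_eq_frobenius p (MvPolynomial.expand p (R := F) (σ := Fin r)).toRingHom
    (MvPolynomial.map (frobenius F p)) (MvPolynomial.expand_injective hp) (MvPolynomial.map_injective _ (frobenius_inj F p))
    fun x => by
      have : (MvPolynomial.expand p (R := F) (σ := Fin r)).toRingHom.comp (MvPolynomial.map (frobenius F p)) =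
          frobenius (MvPolynomial (Fin r) F) p := by
        refine MvPolynomial.ringHom_ext (fun c => ?_) fun i => ?_
        · simp [frobenius_def, map_pow]
        · simp [frobenius_def]
      exact RingHom.congr_fun this x
  rw [ideg, ← hcomp, relfinrank_comp, hψ, Fintype.card_fin, ← Subfield.relfinrank_top_right]
  exact congrArg (Subfield.relfinrank (frobenius F p).fieldRange ⊤ * ·) hφ

/-- Let p be a prime, k a finite field of characteristic p and K a finitely generated field extension of
the Laurent series field k((t)) of finite transcendence degree d. Then [K : K^p] = p^(d+1), where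
K^p ⊆ K is the subfield of p-th powers (the image of the Frobenius). The case of interest is the
residue field of a generic point of a projective strictly semistable scheme of relative dimension d
over k[[t]], which is such an extension. -/
theorem result (p : ℕ) [Fact p.Prime]
    (k : Type u) [Field k] [Finite k] [CharP k p]
    (K : Type u) [Field K] [Algebra (LaurentSeries k) K] [CharP K p]
    (hfg : (⊤ : IntermediateField (LaurentSeries k) K).FG)
    (d : ℕ) (hd : Algebra.trdeg (LaurentSeries k) K = d) :
    Module.finrank (↥(frobenius K p).fieldRange) K = p ^ (d + 1) := by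
  classical
  haveI : ExpChar k p := .prime Fact.out
  haveI : ExpChar K p := .prime Fact.out
  haveI : PerfectRing k p := PerfectField.toPerfectRing p
  haveI : CharP (LaurentSeries k) p := RingHom.charP (algebraMap (LaurentSeries k) K) (FaithfulSMul.algebraMap_injective _ _) p
  haveI : ExpChar (LaurentSeries k) p := .prime Fact.out
  haveI : CharP (PowerSeries k) p :=
    RingHom.charP (algebraMap (PowerSeries k) (LaurentSeries k)) (IsFractionRing.injective _ _) p
  haveI : ExpChar (PowerSeries k) p := .prime Fact.out
  haveI : CharP (FractionRing (PowerSeries k)) p :=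
    charP_of_injective_algebraMap (IsFractionRing.injective (PowerSeries k) _) p
  haveI : ExpChar (FractionRing (PowerSeries k)) p := .prime Fact.out
  have hF : ideg p (LaurentSeries k) = p := by
    rw [← ideg_ringEquiv p (FractionRing.algEquiv (PowerSeries k) (LaurentSeries k)).toRingEquiv,
      ideg_eq_card_of_decomp p _ (powerSeries_decomp p k), Fintype.card_fin]
  have hfin : FiniteDimensional (frobenius (LaurentSeries k) p).fieldRange (LaurentSeries k) := by
    refine Module.finite_of_finrank_pos ?_
    rw [← Subfield.relfinrank_top_right]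
    show 0 < ideg p (LaurentSeries k)
    rw [hF]
    exact (Fact.out : p.Prime).pos
  obtain ⟨s₀, hs₀⟩ := exists_isTranscendenceBasis' (LaurentSeries k) K
  obtain ⟨x, hx⟩ := hs₀
  have hcard : Cardinal.mk s₀ = d := by rw [hx.cardinalMk_eq_trdeg, hd]
  obtain ⟨e⟩ : Nonempty (Fin d ≃ s₀) := by
    haveI : Finite s₀ := Cardinal.lt_aleph0_iff_finite.mp (hcard ▸ Cardinal.natCast_lt_aleph0)
    haveI := Fintype.ofFinite s₀
    rw [Cardinal.mk_fintype, Nat.cast_inj] at hcard
    exact ⟨(Fintype.equivFinOfCardEq hcard).symm⟩
  have hs : IsTranscendenceBasis (LaurentSeries k) (x ∘ e) := hx.comp_equiv e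
  let F := IntermediateField.adjoin (LaurentSeries k) (Set.range (x ∘ e))
  haveI : Algebra.IsAlgebraic F K := hs.isAlgebraic_field
  obtain ⟨t, ht⟩ := hfg
  haveI : FiniteDimensional F K := by
    have h : IntermediateField.adjoin F (t : Set K) = ⊤ := by
      refine IntermediateField.restrictScalars_injective (LaurentSeries k) ?_
      rw [IntermediateField.restrictScalars_adjoin, IntermediateField.restrictScalars_top, eq_top_iff, ← ht]
      exact IntermediateField.adjoin.mono _ _ _ Set.subset_union_right
    haveI := IntermediateField.finiteDimensional_adjoin (K := F) (L := K) (S := (t : Set K))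
      fun x _ => (Algebra.IsAlgebraic.isAlgebraic x).isIntegral
    exact LinearEquiv.finiteDimensional
      ((IntermediateField.equivOfEq h).trans IntermediateField.topEquiv).toLinearEquiv
  haveI : CharP F.toSubfield p :=
    (RingHom.charP_iff F.toSubfield.subtype F.toSubfield.subtype.injective p).mpr inferInstance
  haveI : ExpChar F.toSubfield p := .prime Fact.out
  haveI : FiniteDimensional F.toSubfield K := ‹FiniteDimensional F K›
  let M := FractionRing (MvPolynomial (Fin d) (LaurentSeries k))
  let ψ : M ≃+* F.toSubfield := hs.1.aevalEquivField.toRingEquiv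
  haveI : CharP M p := RingHom.charP (ψ : M →+* F.toSubfield) ψ.injective p
  haveI : ExpChar M p := .prime Fact.out
  rw [← Subfield.relfinrank_top_right]
  show ideg p K = _
  rw [ideg_finite p F.toSubfield, ← ideg_ringEquiv p ψ, ideg_rational p (Fact.out : p.Prime).pos d hfin, hF,
    pow_succ']

end Groth.Agent.S19094
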