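import Groth.Statements.S19098
import Groth.Agent.BalLib.Points
-- import your own Groth.Agent.* helpers here

set_option autoImplicit false
universe u
open CategoryTheory MonoidalCategory CartesianMonoidalCategory MonObj AlgebraicGeometry
open ChGrp GrpObj

namespace Groth.Agent.S19098

/-- Let S be a scheme, G an S-group scheme acting on an S-scheme X through a, and h an S-point of G. Let
i : Z → G be a homomorphism and ψ : Ψ → G a monomorphism with a G-action on Ψ under which ψ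
intertwines with conjugation, and o an S-point of Ψ over h, such that (Ψ, o) is the homogeneous
space G/Z for the fppf topology through the orbit map g ↦ g h g⁻¹ (so Z is the centralizer of h and
Ψ its conjugacy class). Let incl : X^h → X be a monomorphism whose points are the points of X fixed
by h, with the Z-action restricted from a; let σ : S_Ψ → G ×_S X be a monomorphism whose points are
the pairs (g, x) with g a point of Ψ and g x = x (the part of the global stabilizer over Ψ), with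
the G-action by conjugation on the first entry and by a on the second; and let Φ : G ×_S X^h → S_Ψ
be the morphism (g, x) ↦ (g h g⁻¹, g x). Then Φ makes S_Ψ, with its G-action, the balanced product G
×^Z X^h for the fppf topology: Φ is G-equivariant, it is a Z-torsor for the action z (g, x) = (g
z⁻¹, z x), and it has sections fppf-locally on S_Ψ. (The source works with algebraic spaces of
finite type over the complex numbers and a semisimple conjugacy class Ψ, where the identification of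
Ψ with G/Z comes from the theory of algebraic groups; here that identification is the hypothesis
hhom, the base is arbitrary and X is a scheme.) -/
theorem result
    {S : Scheme.{u}} {G X Z Ψ Xh SΨ : Over S} [GrpObj G] [GrpObj Z]
    (a : AlgGrp.Action G X) (h : 𝟙_ (Over S) ⟶ G)
    (i : Z ⟶ G) [IsMonHom i]
    (ψ : Ψ ⟶ G) [Mono ψ] (aΨ : AlgGrp.Action G Ψ)
    (hψ : aΨ.act ≫ ψ = fst G Ψ * (snd G Ψ ≫ ψ) * (fst G Ψ)⁻¹)
    (o : 𝟙_ (Over S) ⟶ Ψ) (ho : o ≫ ψ = h)
    (hhom : ChGrp.IsHomog Scheme.fppfPrecoverage i aΨ o)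
    (incl : Xh ⟶ X) [Mono incl]
    (hXh : ∀ (T : Over S) (x : T ⟶ X), (∃ y : T ⟶ Xh, y ≫ incl = x) ↔ lift (toUnit T ≫ h) x ≫ a.act = x)
    (aXh : AlgGrp.Action Z Xh) (hincl : AlgGrp.Action.IsEquivariant aXh (a.restrict i) incl)
    (σ : SΨ ⟶ G ⊗ X) [Mono σ]
    (hSΨ : ∀ (T : Over S) (g : T ⟶ G) (x : T ⟶ X),
      (∃ q : T ⟶ SΨ, q ≫ σ = lift g x) ↔ ((∃ y : T ⟶ Ψ, y ≫ ψ = g) ∧ lift g x ≫ a.act = x))
    (aS : AlgGrp.Action G SΨ)
    (hσ : aS.act ≫ σ = lift (fst G SΨ * (snd G SΨ ≫ σ ≫ fst G X) * (fst G SΨ)⁻¹)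
      (lift (fst G SΨ) (snd G SΨ ≫ σ ≫ snd G X) ≫ a.act))
    (Φ : G ⊗ Xh ⟶ SΨ)
    (hΦ : Φ ≫ σ = lift (fst G Xh * (toUnit (G ⊗ Xh) ≫ h) * (fst G Xh)⁻¹)
      (lift (fst G Xh) (snd G Xh ≫ incl) ≫ a.act)) :
    ChGrp.IsBalProd Scheme.fppfPrecoverage i aXh aS Φ := by
  -- points forms of the hypotheses
  have hΦ' : ∀ (T : Over S) (g : T ⟶ G) (y : T ⟶ Xh), lift g y ≫ Φ ≫ σ =
      lift (g * (toUnit T ≫ h) * g⁻¹) (lift g (y ≫ incl) ≫ a.act) := by
    intro T g y
    rw [hΦ, comp_lift, comp_mul, comp_mul, comp_inv, lift_fst, ← Category.assoc, toUnit_unique (lift g y ≫ toUnit _) (toUnit T),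
      comp_lift_assoc, lift_fst, lift_snd_assoc]
  have hσ' : ∀ (T : Over S) (k : T ⟶ G) (q : T ⟶ SΨ), lift k q ≫ aS.act ≫ σ =
      lift (k * (q ≫ σ ≫ fst G X) * k⁻¹) (lift k (q ≫ σ ≫ snd G X) ≫ a.act) := by
    intro T k q
    rw [hσ, comp_lift, comp_mul, comp_mul, comp_inv, lift_fst, lift_snd_assoc, comp_lift_assoc, lift_fst, lift_snd_assoc]
  have hequ : ∀ (T : Over S) (z : T ⟶ Z) (y : T ⟶ Xh),
      (lift z y ≫ aXh.act) ≫ incl = lift (z ≫ i) (y ≫ incl) ≫ a.act := by
    intro T z y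
    have e := congrArg (lift z y ≫ ·) hincl
    simpa only [← Category.assoc, lift_whiskerLeft, AlgGrp.Action.lift_restrict_act] using e
  have horb : ∀ (T : Over S) (g : T ⟶ G), g ≫ aΨ.orbitMap o ≫ ψ = g * (toUnit T ≫ h) * g⁻¹ := by
    intro T g
    rw [← Category.assoc, AlgGrp.Action.comp_orbitMap, Category.assoc, hψ, comp_mul, comp_mul, comp_inv, lift_fst,
      lift_snd_assoc, Category.assoc, ho]
  have hcoset : ∀ (T : Over S) (g : T ⟶ G) (z : T ⟶ Z), lift g z ≫ (G ◁ i) ≫ μ[G] = g * (z ≫ i) := by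
    intro T g z
    rw [lift_whiskerLeft_assoc, Hom.mul_def]
  have hnorm : ∀ (T : Over S) (z : T ⟶ Z), (z ≫ i) * (toUnit T ≫ h) = (toUnit T ≫ h) * (z ≫ i) := by
    intro T z
    have e := congrArg (lift (1 : T ⟶ G) z ≫ · ≫ ψ) hhom.2.1.w
    simp only [Category.assoc] at e
    rw [lift_fst_assoc, ← Category.assoc (G ◁ i), ← Category.assoc (lift _ _), hcoset, horb, horb] at e
    simp only [_root_.one_mul, inv_one, _root_.mul_one] at e
    conv_rhs => rw [e, inv_mul_cancel_right]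
  refine ⟨?_, ?_, ?_⟩
  · -- equivariance
    refine AlgGrp.Action.hom_ext_lift₂ fun T k u => ?_
    obtain ⟨g, y, rfl⟩ : ∃ (g : T ⟶ G) (y : T ⟶ Xh), u = lift g y :=
      ⟨u ≫ fst G Xh, u ≫ snd G Xh, Groth.Agent.BalLib.lift_fst_snd_self u⟩
    rw [AlgGrp.Action.lift_prod_act_assoc, AlgGrp.Action.lift_trivial_act, lift_whiskerLeft_assoc, ← cancel_mono σ]
    simp only [Category.assoc]
    show lift (lift k g ≫ μ[G]) y ≫ Φ ≫ σ = _
    rw [← Hom.mul_def, hΦ', hσ', ← Category.assoc (lift g y ≫ Φ), ← Category.assoc (lift g y ≫ Φ),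
      Category.assoc (lift g y) Φ σ, hΦ', lift_fst, lift_snd, AlgGrp.Action.lift_mul_act, _root_.mul_inv_rev]
    simp only [_root_.mul_assoc]
  · -- the square
    refine Groth.Agent.BalLib.isPullback_of_points ?_ ?_
    · refine AlgGrp.Action.hom_ext_lift₂ fun T z u => ?_
      obtain ⟨g, y, rfl⟩ : ∃ (g : T ⟶ G) (y : T ⟶ Xh), u = lift g y :=
        ⟨u ≫ fst G Xh, u ≫ snd G Xh, Groth.Agent.BalLib.lift_fst_snd_self u⟩
      rw [ChGrp.lift_twist_act_assoc, lift_snd_assoc, ← cancel_mono σ]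
      simp only [Category.assoc]
      rw [hΦ', hΦ', hequ, ← AlgGrp.Action.lift_mul_act, inv_mul_cancel_right]
      refine congrArg (lift · _) ?_
      calc g * (z ≫ i)⁻¹ * (toUnit T ≫ h) * (g * (z ≫ i)⁻¹)⁻¹
          = g * ((z ≫ i)⁻¹ * ((toUnit T ≫ h) * (z ≫ i))) * g⁻¹ := by
            simp only [_root_.mul_inv_rev, _root_.inv_inv, _root_.mul_assoc]
        _ = g * (toUnit T ≫ h) * g⁻¹ := by rw [← hnorm, inv_mul_cancel_left]
    · intro T u v huv
      obtain ⟨g, x, rfl⟩ : ∃ (g : T ⟶ G) (x : T ⟶ Xh), u = lift g x :=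
        ⟨u ≫ fst G Xh, u ≫ snd G Xh, Groth.Agent.BalLib.lift_fst_snd_self u⟩
      obtain ⟨g', x', rfl⟩ : ∃ (g' : T ⟶ G) (x' : T ⟶ Xh), v = lift g' x' :=
        ⟨v ≫ fst G Xh, v ≫ snd G Xh, Groth.Agent.BalLib.lift_fst_snd_self v⟩
      have e := congrArg (· ≫ σ) huv
      simp only [Category.assoc] at e
      rw [hΦ', hΦ'] at e
      have e1 : g * (toUnit T ≫ h) * g⁻¹ = g' * (toUnit T ≫ h) * g'⁻¹ := by
        simpa using congrArg (· ≫ fst G X) e
      have e2 : lift g (x ≫ incl) ≫ a.act = lift g' (x' ≫ incl) ≫ a.act := by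
        simpa using congrArg (· ≫ snd G X) e
      have e3 : g ≫ aΨ.orbitMap o = g' ≫ aΨ.orbitMap o := by
        rw [← cancel_mono ψ, Category.assoc, Category.assoc, horb, horb, e1]
      let c := hhom.2.1.lift g g' e3
      have hc1 : c ≫ fst G Z = g := hhom.2.1.lift_fst _ _ e3
      have hc2 : c ≫ (G ◁ i) ≫ μ[G] = g' := hhom.2.1.lift_snd _ _ e3
      obtain ⟨z, hz⟩ : ∃ z : T ⟶ Z, c = lift g z :=
        ⟨c ≫ snd G Z, by rw [← hc1]; exact Groth.Agent.BalLib.lift_fst_snd_self c⟩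
      rw [hz, hcoset] at hc2
      refine ⟨lift z (lift g' x'), ⟨?_, lift_snd _ _⟩, ?_⟩
      · rw [ChGrp.lift_twist_act, ← hc2, mul_inv_cancel_right]
        refine congrArg (lift g ·) ?_
        rw [← cancel_mono incl, hequ]
        have e4 := congrArg (fun t => lift g⁻¹ t ≫ a.act) e2
        rw [← AlgGrp.Action.lift_mul_act, ← AlgGrp.Action.lift_mul_act, inv_mul_cancel,
          AlgGrp.Action.lift_one_act, ← hc2, inv_mul_cancel_left] at e4
        exact e4.symm
      · rintro p ⟨hp1, hp2⟩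
        obtain ⟨z', rfl⟩ : ∃ z' : T ⟶ Z, p = lift z' (lift g' x') :=
          ⟨p ≫ fst Z (G ⊗ Xh), by rw [← hp2]; exact Groth.Agent.BalLib.lift_fst_snd_self p⟩
        rw [ChGrp.lift_twist_act] at hp1
        have hp3 : g' * (z' ≫ i)⁻¹ = g := by simpa using congrArg (· ≫ fst G Xh) hp1
        have hzz : lift g z' = lift g z := by
          refine hhom.2.1.hom_ext (by simp) ?_
          rw [hcoset, hcoset, hc2, ← hp3, inv_mul_cancel_right]
        have hz' : z' = z := by simpa using congrArg (· ≫ snd G Z) hzz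
        rw [hz']
  · -- local sections
    obtain ⟨q₀, hq₀⟩ := (hSΨ SΨ (σ ≫ fst G X) (σ ≫ snd G X)).1
      ⟨𝟙 SΨ, by rw [Category.id_comp]; exact Groth.Agent.BalLib.lift_fst_snd_self σ⟩
    obtain ⟨π, hπ⟩ := q₀
    obtain ⟨R, hR, hsec⟩ := (Groth.Agent.BalLib.hasLocSec_of_isLocallyTrivialFor _ hhom.2.2).of_isPullback
      (IsPullback.of_hasPullback (aΨ.orbitMap o) π)
    have : (@Flat ⊓ @LocallyOfFinitePresentation : MorphismProperty Scheme.{u}).ContainsIdentities :=
      ⟨fun X => ⟨inferInstanceAs (Flat (𝟙 X)), inferInstanceAs (LocallyOfFinitePresentation (𝟙 X))⟩⟩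
    have : Scheme.fppfPrecoverage.HasIsos :=
      inferInstanceAs (Scheme.precoverage (@Flat ⊓ @LocallyOfFinitePresentation)).HasIsos
    have : Scheme.fppfPrecoverage.HasPullbacks := ⟨fun {X} R f hR => inferInstance⟩
    obtain ⟨Rp, hRp, hle⟩ := Precoverage.mem_toGrothendieck_iff_of_isStableUnderComposition.1 hR
    refine ⟨Rp, hRp, fun S' f hf => ?_⟩
    obtain ⟨s, hs⟩ := hsec f (hle _ _ hf)
    let T : Over S := Over.mk (f ≫ SΨ.hom)
    let q : T ⟶ SΨ := Over.homMk f rfl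
    let p : T ⟶ Limits.pullback (aΨ.orbitMap o) π := Over.homMk s (by
      show s ≫ (Limits.pullback (aΨ.orbitMap o) π).hom = f ≫ SΨ.hom
      rw [← Over.w (Limits.pullback.snd (aΨ.orbitMap o) π), ← Category.assoc, hs])
    have hp : p ≫ Limits.pullback.snd (aΨ.orbitMap o) π = q := Over.OverMorphism.ext hs
    let g := p ≫ Limits.pullback.fst (aΨ.orbitMap o) π
    have hg : g * (toUnit T ≫ h) * g⁻¹ = q ≫ σ ≫ fst G X := by
      rw [← horb, ← hp, ← hπ]
      simp only [g, Category.assoc]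
      rw [Limits.pullback.condition_assoc]
    have hfix : lift (q ≫ σ ≫ fst G X) (q ≫ σ ≫ snd G X) ≫ a.act = q ≫ σ ≫ snd G X := by
      rw [← comp_lift_assoc, hq₀]
    obtain ⟨y, hy⟩ := (hXh T (lift g⁻¹ (q ≫ σ ≫ snd G X) ≫ a.act)).2 (by
      rw [← AlgGrp.Action.lift_mul_act, show (toUnit T ≫ h) * g⁻¹ = g⁻¹ * (q ≫ σ ≫ fst G X) by
        rw [← hg, _root_.mul_assoc g, inv_mul_cancel_left], AlgGrp.Action.lift_mul_act, hfix])
    have key : lift g y ≫ Φ = q := by
      rw [← cancel_mono σ, Category.assoc, hΦ', hy, ← AlgGrp.Action.lift_mul_act, mul_inv_cancel,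
        AlgGrp.Action.lift_one_act, hg]
      simpa only [Category.assoc] using (Groth.Agent.BalLib.lift_fst_snd_self (q ≫ σ)).symm
    exact ⟨(lift g y).left, congrArg CommaMorphism.left key⟩

end Groth.Agent.S19098
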