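import Groth.Statements.S19099
import Groth.Agent.BalLib.Points
import Groth.Agent.AlgSpLib.Descends2
import Mathlib.CategoryTheory.Comma.Over.Pullback
-- import your own Groth.Agent.* helpers here

set_option autoImplicit false
universe u
open CategoryTheory MonoidalCategory CartesianMonoidalCategory MonObj AlgebraicGeometry
open ChGrp

namespace Groth.Agent.S19099

/-- Let S be a scheme, i : G → Q a monomorphic homomorphism of S-group schemes (a closed subgroup), h an
S-point of G whose image in Q is central, and X an S-scheme with a G-action a. Let incl : X^h → X be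
a monomorphism whose points are the points of X fixed by h, with a G-action making incl equivariant
(X^h is G-stable since h is central in G). Let Y with its Q-action and j : Q ×_S X → Y be the
balanced product Q ×^G X for the fppf topology, Y' with j' : Q ×_S X^h → Y' the balanced product Q
×^G X^h, and m : Y' → Y the morphism under which j' followed by m is Q × incl followed by j. Then m
is a monomorphism, a point of Y factors through m exactly when it is fixed by h acting on Y through
the Q-action, and m is a closed immersion if incl is one: Q ×^G X^h is the fixed locus of h in Q ×^G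
X. (The source states this for a smooth algebraic space X of finite type over the complex numbers,
as an equality of closed subspaces, and argues on closed points; the form here is the one its
computation gives for the fppf quotients over any base, with X a scheme.) -/
theorem result
    {S : Scheme.{u}} {Q G X Xh Y Y' : Over S} [GrpObj Q] [GrpObj G]
    (i : G ⟶ Q) [IsMonHom i] [Mono i]
    (h : 𝟙_ (Over S) ⟶ G)
    (hcent : ∀ (T : Over S) (q : T ⟶ Q), q * (toUnit T ≫ h ≫ i) = (toUnit T ≫ h ≫ i) * q)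
    (a : AlgGrp.Action G X)
    (incl : Xh ⟶ X) [Mono incl]
    (hXh : ∀ (T : Over S) (x : T ⟶ X), (∃ y : T ⟶ Xh, y ≫ incl = x) ↔ lift (toUnit T ≫ h) x ≫ a.act = x)
    (aXh : AlgGrp.Action G Xh) (hincl : AlgGrp.Action.IsEquivariant aXh a incl)
    (aY : AlgGrp.Action Q Y) (j : Q ⊗ X ⟶ Y) (hY : ChGrp.IsBalProd Scheme.fppfPrecoverage i a aY j)
    (aY' : AlgGrp.Action Q Y') (j' : Q ⊗ Xh ⟶ Y') (hY' : ChGrp.IsBalProd Scheme.fppfPrecoverage i aXh aY' j')
    (m : Y' ⟶ Y) (hm : j' ≫ m = (Q ◁ incl) ≫ j) :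
    Mono m ∧
      (∀ (T : Over S) (y : T ⟶ Y), (∃ y' : T ⟶ Y', y' ≫ m = y) ↔ lift (toUnit T ≫ h ≫ i) y ≫ aY.act = y) ∧
      (IsClosedImmersion incl.left → IsClosedImmersion m.left) := by
  have hj := Groth.Agent.BalLib.hasLocSec_of_isLocallyTrivialFor j hY.2.2
  have hj' := Groth.Agent.BalLib.hasLocSec_of_isLocallyTrivialFor j' hY'.2.2
  have hequ : ∀ (T : Over S) (g : T ⟶ G) (x : T ⟶ Xh), (lift g x ≫ aXh.act) ≫ incl = lift g (x ≫ incl) ≫ a.act := by
    intro T g x
    have e := congrArg (lift g x ≫ ·) hincl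
    simpa only [← Category.assoc, lift_whiskerLeft] using e
  have hjm : ∀ (T : Over S) (q : T ⟶ Q) (x : T ⟶ Xh), (lift q x ≫ j') ≫ m = lift q (x ≫ incl) ≫ j := by
    intro T q x
    rw [Category.assoc, hm, ← Category.assoc, lift_whiskerLeft]
  -- `j (q, x)` is fixed by `h` exactly when `x` is
  have hfix : ∀ (T : Over S) (q : T ⟶ Q) (x : T ⟶ X),
      lift (toUnit T ≫ h ≫ i) (lift q x ≫ j) ≫ aY.act = lift q x ≫ j ↔
        lift (toUnit T ≫ h) x ≫ a.act = x := by
    intro T q x
    have e : lift (toUnit T ≫ h ≫ i) (lift q x ≫ j) ≫ aY.act = lift q (lift (toUnit T ≫ h) x ≫ a.act) ≫ j := by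
      rw [Groth.Agent.BalLib.balProd_act hY, ← hcent,
        ← Groth.Agent.BalLib.balProd_twist hY (toUnit T ≫ h) (q * (toUnit T ≫ h ≫ i)) x, Category.assoc,
        mul_inv_cancel_right]
    rw [e]
    refine ⟨fun hq => ?_, fun hx => by rw [hx]⟩
    obtain ⟨g, hg, hx⟩ := Groth.Agent.BalLib.balProd_eq hY hq
    have hg1 : g = 1 := by
      have h1 : (g ≫ i)⁻¹ = 1 := mul_left_cancel (a := q) (by rw [← hg, _root_.mul_one])
      rw [inv_eq_one] at h1
      rw [← cancel_mono i, h1, Hom.one_def, Hom.one_def, Category.assoc, IsMonHom.one_hom]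
    rw [hx, hg1]
    exact a.lift_one_act _
  have hmono : Mono m := by
    refine ⟨fun {T} p₁ p₂ hp => ?_⟩
    have sq₁ := IsPullback.of_hasPullback j' p₁
    refine (hj'.of_isPullback sq₁).hom_ext ?_
    have sq₂ := IsPullback.of_hasPullback j' (Limits.pullback.snd j' p₁ ≫ p₂)
    refine (hj'.of_isPullback sq₂).hom_ext ?_
    let u₁ := Limits.pullback.snd j' (Limits.pullback.snd j' p₁ ≫ p₂) ≫ Limits.pullback.fst j' p₁
    let u₂ := Limits.pullback.fst j' (Limits.pullback.snd j' p₁ ≫ p₂)
    have e₁ : Limits.pullback.snd j' (Limits.pullback.snd j' p₁ ≫ p₂) ≫ Limits.pullback.snd j' p₁ ≫ p₁ = u₁ ≫ j' := by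
      rw [Category.assoc, sq₁.w]
    have e₂ : Limits.pullback.snd j' (Limits.pullback.snd j' p₁ ≫ p₂) ≫ Limits.pullback.snd j' p₁ ≫ p₂ = u₂ ≫ j' :=
      sq₂.w.symm
    rw [e₁, e₂]
    have e : (u₁ ≫ j') ≫ m = (u₂ ≫ j') ≫ m := by
      rw [← e₁, ← e₂]; simp only [Category.assoc, hp]
    rw [Groth.Agent.BalLib.lift_fst_snd_self u₁, Groth.Agent.BalLib.lift_fst_snd_self u₂] at e ⊢
    rw [hjm, hjm] at e
    obtain ⟨g, hq, hx⟩ := Groth.Agent.BalLib.balProd_eq hY e
    rw [← hequ, cancel_mono incl] at hx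
    rw [hq, hx, Groth.Agent.BalLib.balProd_twist hY']
  have hchar : ∀ (T : Over S) (y : T ⟶ Y),
      (∃ y' : T ⟶ Y', y' ≫ m = y) ↔ lift (toUnit T ≫ h ≫ i) y ≫ aY.act = y := by
    intro T y
    constructor
    · rintro ⟨y', rfl⟩
      have sq := IsPullback.of_hasPullback j' y'
      refine (hj'.of_isPullback sq).hom_ext ?_
      have e : Limits.pullback.snd j' y' ≫ y' ≫ m = (Limits.pullback.fst j' y' ≫ j') ≫ m := by
        rw [← Category.assoc, sq.w]
      rw [← Category.assoc (Limits.pullback.snd j' y') (lift _ _), comp_lift, comp_toUnit_assoc, e,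
        Groth.Agent.BalLib.lift_fst_snd_self (Limits.pullback.fst j' y'), hjm, hfix]
      exact (hXh _ _).1 ⟨_, rfl⟩
    · intro hy
      have sq := IsPullback.of_hasPullback j y
      have hP := hj.of_isPullback sq
      let u := Limits.pullback.fst j y
      have hu : lift (toUnit _ ≫ h) (u ≫ snd Q X) ≫ a.act = u ≫ snd Q X := by
        rw [← hfix _ (u ≫ fst Q X), ← Groth.Agent.BalLib.lift_fst_snd_self u, sq.w]
        have e := congrArg (Limits.pullback.snd j y ≫ ·) hy
        simpa only [← Category.assoc, comp_lift, comp_toUnit] using e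
      obtain ⟨x', hx'⟩ := (hXh _ _).2 hu
      have hf : (lift (u ≫ fst Q X) x' ≫ j') ≫ m = Limits.pullback.snd j y ≫ y := by
        rw [hjm, hx', ← Groth.Agent.BalLib.lift_fst_snd_self u, sq.w]
      obtain ⟨χ, hχ, -⟩ := hP.existsUnique_desc (lift (u ≫ fst Q X) x' ≫ j') fun T' c c' hc => by
        rw [← cancel_mono m]
        simp only [Category.assoc] at hf ⊢
        rw [hf, ← Category.assoc, hc, Category.assoc]
      exact ⟨χ, hP.hom_ext (by rw [← Category.assoc, hχ, hf])⟩
  refine ⟨hmono, hchar, fun hci => ?_⟩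
  have sqA : IsPullback j' (Q ◁ incl) m j := by
    refine Groth.Agent.BalLib.isPullback_of_points hm fun T y' u hyu => ?_
    have hu : lift (toUnit T ≫ h) (u ≫ snd Q X) ≫ a.act = u ≫ snd Q X := by
      rw [← hfix _ (u ≫ fst Q X), ← Groth.Agent.BalLib.lift_fst_snd_self u]
      exact (hchar T _).1 ⟨y', hyu⟩
    obtain ⟨x', hx'⟩ := (hXh _ _).2 hu
    refine ⟨lift (u ≫ fst Q X) x', ⟨?_, ?_⟩, fun p hp => ?_⟩
    · rw [← cancel_mono m, hjm, hx', ← Groth.Agent.BalLib.lift_fst_snd_self u, hyu]
    · rw [lift_whiskerLeft, hx', ← Groth.Agent.BalLib.lift_fst_snd_self u]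
    · have h1 : lift (p ≫ fst Q Xh) ((p ≫ snd Q Xh) ≫ incl) = u := by
        rw [← lift_whiskerLeft, ← Groth.Agent.BalLib.lift_fst_snd_self p, hp.2]
      rw [Groth.Agent.BalLib.lift_fst_snd_self p]
      refine CartesianMonoidalCategory.hom_ext _ _ ?_ ?_
      · simp only [lift_fst]
        rw [← h1, lift_fst]
      · simp only [lift_snd]
        rw [← cancel_mono incl, hx', ← h1, lift_snd]
  have sqB : IsPullback (Q ◁ incl) (snd Q Xh) (snd Q X) incl := by
    refine Groth.Agent.BalLib.isPullback_of_points (whiskerLeft_snd Q incl) fun T u x hux => ?_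
    refine ⟨lift (u ≫ fst Q X) x, ⟨?_, lift_snd _ _⟩, fun p hp => ?_⟩
    · rw [lift_whiskerLeft, ← hux, ← Groth.Agent.BalLib.lift_fst_snd_self u]
    · rw [Groth.Agent.BalLib.lift_fst_snd_self p, hp.2, ← hp.1, Category.assoc, whiskerLeft_fst]
  have hQi : IsClosedImmersion (Q ◁ incl).left :=
    MorphismProperty.of_isPullback (sqB.map (Over.forget S)).flip hci
  obtain ⟨R, hR, hsec⟩ := hY.2.2
  haveI : MorphismProperty.IsLocalAtTarget (@IsClosedImmersion : MorphismProperty Scheme.{u}) Scheme.fppfPrecoverage :=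
    Groth.Agent.AlgSpPts.isLocalAtTarget_fppf _
  refine MorphismProperty.IsLocalAtTarget.of_forall_pullbackSnd (P := (@IsClosedImmersion : MorphismProperty Scheme.{u}))
    (K := Scheme.fppfPrecoverage) hR fun {V f} _ hf => ?_
  obtain ⟨s, hs⟩ := hsec f hf
  have hs' : s ≫ j.left = f := hs
  have h3 := (IsPullback.of_hasPullback (Q ◁ incl).left s).paste_horiz (sqA.map (Over.forget S))
  rw [show s ≫ (Over.forget S).map j = f from hs'] at h3
  refine (MorphismProperty.cancel_left_of_respectsIso (@IsClosedImmersion : MorphismProperty Scheme.{u}) h3.isoPullback.hom _).mp ?_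
  have e : h3.isoPullback.hom ≫ Limits.pullback.snd m.left f = Limits.pullback.snd (Q ◁ incl).left s :=
    h3.isoPullback_hom_snd
  have h4 := MorphismProperty.pullback_snd (P := (@IsClosedImmersion : MorphismProperty Scheme.{u})) (Q ◁ incl).left s hQi
  exact e.symm ▸ h4

end Groth.Agent.S19099
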