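import Groth.Statements.S1910
import Groth.Agent.H23.SpClosed
-- import your own Groth.Agent.* helpers here

set_option autoImplicit false
universe u
open CategoryTheory AlgebraicGeometry
open CategoryTheory.Limits
open Cyc

namespace Groth.Agent.S1910

/-- Let W → X be a closed immersion with W flat over R and dim W_η ≤ r. Then dim W_s ≤ r and sp([W_η]_r)
= [W_s]_r. Here R is a discrete valuation ring, a : X → Spec R is locally of finite type, X_η and
X_s are the fibres over the generic and closed points (Mathlib's Scheme.Hom.fiber) with their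
dimension functions δη, δs (transcendence degree of residue fields), r-cycles on X_η are cycles
supported at points with δη = r, and sp is the specialization map Z_r(X_η) → Z_r(X_s) on coefficient
functions (Cyc.spFun). -/
theorem result (R : Type u) [CommRing R] [IsDomain R] [IsDiscreteValuationRing R] (X : Scheme.{u}) (a : X ⟶ Spec (CommRingCat.of R)) [LocallyOfFiniteType a] (δη : ↥(a.fiber (genericPoint ↥(Spec (CommRingCat.of R)))) → ℤ) (δs : ↥(a.fiber (IsLocalRing.closedPoint R)) → ℤ) (hδη : Cyc.DeltaCompat (a.fiberToSpecResidueField (genericPoint ↥(Spec (CommRingCat.of R)))) δη (fun _ => 0)) (hδs : Cyc.DeltaCompat (a.fiberToSpecResidueField (IsLocalRing.closedPoint R)) δs (fun _ => 0)) (r : ℤ) (W : Scheme.{u}) (ι : W ⟶ X) [IsClosedImmersion ι] [Flat (ι ≫ a)] (hdim : ∀ ζ : ↥(a.fiber (genericPoint ↥(Spec (CommRingCat.of R)))), a.fiberι (genericPoint ↥(Spec (CommRingCat.of R))) ζ ∈ Set.range ⇑ι → δη ζ ≤ r) : (∀ x : ↥(a.fiber (IsLocalRing.closedPoint R)), a.fiberι (IsLocalRing.closedPoint R) x ∈ Set.range ⇑ι → δs x ≤ r) ∧ Cyc.spFun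 a (genericPoint ↥(Spec (CommRingCat.of R))) (IsLocalRing.closedPoint R) δη δs r (Cyc.subschemeFun δη r (pullback.snd ι (a.fiberι (genericPoint ↥(Spec (CommRingCat.of R)))))) = Cyc.subschemeFun δs r (pullback.snd ι (a.fiberι (IsLocalRing.closedPoint R))) := by
  
  classical
  haveI := LocallyOfFiniteType.isLocallyNoetherian a
  open Groth.Agent.H23 in
  open Groth.Agent.H23.SpGysin in
  have hF := SpClosed.isCoh_push ι
  open Groth.Agent.H23 in
  open Groth.Agent.H23.SpGysin in
  have h := spFun_sheafFun a hδη hδs r hF (SpClosed.isFlatOver_push ι a) (fun ζ hn => hdim ζ (by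
    by_contra hr
    haveI := ClosedPushLen.subsingleton_stalk ι (Coh.structureModule W) hr
    rw [nontrivial_iff_length (A := (a.fiber (η R)).presheaf.stalk ζ), length_fiber_η] at hn
    exact hn (Module.length_eq_zero)))
  open Groth.Agent.H23 in
  open Groth.Agent.H23.SpGysin in
  refine ⟨fun x hx => h.1 x ?_, ?_⟩
  · rw [Groth.Agent.H23.SpGysin.nontrivial_iff_length (A := (a.fiber (IsLocalRing.closedPoint R)).presheaf.stalk x)]
    intro hl
    rw [Groth.Agent.H23.CapSheaf.length_stalk_pullback_closed _ _ x (Groth.Agent.H23.SpGysin.ker_fiberι_s a x),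
      Module.length_eq_zero_iff, Submodule.Quotient.subsingleton_iff] at hl
    obtain ⟨w, hw⟩ := hx
    let F := (Coh.push ι).obj (Coh.structureModule W)
    let p := a.fiberι (IsLocalRing.closedPoint R) x
    haveI : Module.Finite (X.presheaf.stalk p) (F.presheaf.stalk p) := Groth.Agent.QCoh.finite_stalk_of_isFT hF.1 hF.2 p
    have hbot : (⊤ : Submodule (X.presheaf.stalk p) (F.presheaf.stalk p)) = ⊥ :=
      Submodule.eq_bot_of_le_smul_of_le_jacobson_bot (Ideal.span {Groth.Agent.H23.SpGysin.πx a p}) ⊤
        Module.Finite.fg_top (by rw [Submodule.ideal_span_singleton_smul]; exact hl.ge) (by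
          rw [IsLocalRing.jacobson_eq_maximalIdeal ⊥ bot_ne_top, Ideal.span_singleton_le_iff_mem]
          exact (IsLocalRing.residue_eq_zero_iff _).1
            ((Groth.Agent.H23.SpGysin.residue_πx_eq_zero_iff a p).2
              (Groth.Agent.FibDim.fiber_apply_fiberι a x)))
    haveI : Subsingleton (F.presheaf.stalk p) := ⟨fun b c => ((Submodule.mem_bot _).1 (hbot ▸ Submodule.mem_top (x := b))).trans
      ((Submodule.mem_bot _).1 (hbot ▸ Submodule.mem_top (x := c))).symm⟩
    have key : ∀ y, y = ι w → Subsingleton (F.presheaf.stalk y) → False := by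
      intro y hy hs
      subst hy
      obtain ⟨e⟩ := Groth.Agent.H23.SpClosed.nonempty_quotEquiv ι w
      haveI := e.symm.toEquiv.subsingleton
      exact RingHom.ker_ne_top _ (Ideal.Quotient.subsingleton_iff.1 this)
    exact key p hw.symm inferInstance
  · rw [Groth.Agent.H23.SpClosed.subschemeFun_symm, Groth.Agent.H23.SpClosed.subschemeFun_eq,
      Groth.Agent.H23.SpClosed.subschemeFun_symm, Groth.Agent.H23.SpClosed.subschemeFun_eq]
    exact h.2

end Groth.Agent.S1910
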