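import Groth.Statements.S19102
-- import your own Groth.Agent.* helpers here
import Groth.Agent.ComodLib.Characters
import Mathlib.Analysis.Complex.Polynomial.Basic

set_option autoImplicit false
open CategoryTheory MonoidalCategory CartesianMonoidalCategory MonObj AlgebraicGeometry
open scoped TensorProduct
open HopfRep

attribute [local instance] CoactBr.braidedAlgSpecOf

namespace Groth.Agent.S19102

open Opposite CategoryTheory MonoidalCategory CartesianMonoidalCategory AlgebraicGeometry

/-- Let A be a finitely generated commutative Hopf algebra over the complex numbers all of whose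
finite-dimensional comodules are semisimple (a linearly reductive complex linear algebraic group G =
Spec A, connected or not; over the complex numbers these are the groups whose identity component has
a torus as radical, the reductive groups of the source). For a comodule structure on the coordinate
space ℂ^d with coaction e_i ↦ Σ_j e_j ⊗ a_ji, its character is the element Σ_i a_ii of A. Then (1)
an element f of A is a class function, meaning f(x g x⁻¹) = f(g) for all points x, g of G with
values in any ℂ-scheme, if and only if f is a ℂ-linear combination of characters; and (2) the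
characters of finitely many simple comodule structures on coordinate spaces, pairwise non-isomorphic
(no linear isomorphism intertwines the coactions), are linearly independent over ℂ. In other words
the character map from the complexified representation ring of G to the ring of class functions on G
is bijective. (The source's further assertion that R(G) is a finitely generated algebra for every G
is not restated.) -/
theorem result
    (A : Type) [CommRing A] [HopfAlgebra ℂ A] [Algebra.FiniteType ℂ A]
    (hred : HopfRep.IsLinearlyReductive ℂ A) :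
    (∀ f : A,
      (∀ (T : Over (Spec (CommRingCat.of ℂ))) (x g : T ⟶ CoactBr.sp ℂ A),
          (x * g * x⁻¹).left.appTop ((Scheme.ΓSpecIso (CommRingCat.of A)).inv f) =
            g.left.appTop ((Scheme.ΓSpecIso (CommRingCat.of A)).inv f)) ↔
        f ∈ Submodule.span ℂ (Set.range fun p : (Σ d : ℕ, HopfRep.Comod ℂ A (Fin d → ℂ)) =>
          ∑ i : Fin p.1, TensorProduct.lid ℂ A (LinearMap.rTensor A (LinearMap.proj i)
            (@HopfRep.Comod.coact ℂ A _ _ _ _ (Fin p.1 → ℂ) _ _ p.2 (Pi.single i 1))))) ∧
    (∀ (n : ℕ) (d : Fin n → ℕ) (c : (i : Fin n) → HopfRep.Comod ℂ A (Fin (d i) → ℂ)),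
      (∀ i, @HopfRep.IsSimpleComod ℂ A _ _ _ _ (Fin (d i) → ℂ) _ _ (c i)) →
      (∀ i j, i ≠ j → ∀ P : (Fin (d i) → ℂ) ≃ₗ[ℂ] (Fin (d j) → ℂ),
          LinearMap.rTensor A P.toLinearMap ∘ₗ @HopfRep.Comod.coact ℂ A _ _ _ _ (Fin (d i) → ℂ) _ _ (c i) ≠
            (@HopfRep.Comod.coact ℂ A _ _ _ _ (Fin (d j) → ℂ) _ _ (c j)) ∘ₗ P.toLinearMap) →
      LinearIndependent ℂ (fun i : Fin n => ∑ t : Fin (d i), TensorProduct.lid ℂ A (LinearMap.rTensor A (LinearMap.proj t)
            (@HopfRep.Comod.coact ℂ A _ _ _ _ (Fin (d i) → ℂ) _ _ (c i) (Pi.single t 1))))) := by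
  have hmc : ∀ (d : ℕ) (c : HopfRep.Comod ℂ A (Fin d → ℂ)),
      (∑ i : Fin d, TensorProduct.lid ℂ A (LinearMap.rTensor A (LinearMap.proj i)
        (@HopfRep.Comod.coact ℂ A _ _ _ _ (Fin d → ℂ) _ _ c (Pi.single i 1)))) =
      ∑ t, Groth.Agent.ComodLib.mc c t t :=
    fun d c => Finset.sum_congr rfl fun t _ => (Groth.Agent.ComodLib.mc_eq c t t).symm
  refine ⟨fun f => ?_, fun n d c hs hni => ?_⟩
  · rw [show (fun p : (Σ d : ℕ, HopfRep.Comod ℂ A (Fin d → ℂ)) =>
        ∑ i : Fin p.1, TensorProduct.lid ℂ A (LinearMap.rTensor A (LinearMap.proj i)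
          (@HopfRep.Comod.coact ℂ A _ _ _ _ (Fin p.1 → ℂ) _ _ p.2 (Pi.single i 1)))) =
      fun p => ∑ t, Groth.Agent.ComodLib.mc p.2 t t from funext fun p => hmc p.1 p.2]
    set gi := (Scheme.ΓSpecIso (CommRingCat.of A)).inv with hgi
    let U := CoactBr.sp ℂ (TensorProduct ℂ A A)
    let P1 : U ⟶ CoactBr.sp ℂ A := CoactBr.pt Algebra.TensorProduct.includeLeft
    let P2 : U ⟶ CoactBr.sp ℂ A := CoactBr.pt Algebra.TensorProduct.includeRight
    let Δ : A →ₐ[ℂ] TensorProduct ℂ A A := Bialgebra.comulAlgHom ℂ A
    let sw : TensorProduct ℂ A A →ₐ[ℂ] TensorProduct ℂ A A := (Algebra.TensorProduct.comm ℂ A A).toAlgHom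
    have h12 : P1 * P2 = CoactBr.pt Δ := by
      rw [CoactBr.pt_mul_pt, show Algebra.TensorProduct.lift (Algebra.TensorProduct.includeLeft :
        A →ₐ[ℂ] TensorProduct ℂ A A) Algebra.TensorProduct.includeRight (fun _ _ => Commute.all _ _) =
        AlgHom.id ℂ _ from Algebra.TensorProduct.ext' fun x y => by simp, AlgHom.id_comp]
    have h21 : P2 * P1 = CoactBr.pt (sw.comp Δ) := by
      rw [CoactBr.pt_mul_pt, show Algebra.TensorProduct.lift (Algebra.TensorProduct.includeRight :
        A →ₐ[ℂ] TensorProduct ℂ A A) (Algebra.TensorProduct.includeLeft : A →ₐ[ℂ] TensorProduct ℂ A A)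
        (fun _ _ => Commute.all _ _) = sw from Algebra.TensorProduct.ext' fun x y => by simp [sw]]
    have happ : ∀ h : A →ₐ[ℂ] TensorProduct ℂ A A, (CoactBr.pt h).left.appTop (gi f) =
        (Scheme.ΓSpecIso (CommRingCat.of (TensorProduct ℂ A A))).inv (h f) := by
      intro h
      have := congrArg (fun φ => φ.hom f) (Scheme.ΓSpecIso_inv_naturality (CommRingCat.ofHom h.toRingHom))
      exact this.symm
    constructor
    · intro hall
      refine Groth.Agent.ComodLib.mem_span_characters hred f ?_
      have h := hall U P2 (P1 * P2)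
      rw [← mul_assoc P2 P1 P2, mul_inv_cancel_right, h21, h12, happ, happ] at h
      exact (ConcreteCategory.bijective_of_isIso
        (Scheme.ΓSpecIso (CommRingCat.of (TensorProduct ℂ A A))).inv).1 h
    · intro hf T x g
      have happ' := happ
      have hcomm : sw (Δ f) = Δ f := by
        clear happ happ'
        induction hf using Submodule.span_induction with
        | mem z hz => obtain ⟨p, rfl⟩ := hz; exact Groth.Agent.ComodLib.comm_comul_character p.2
        | zero => simp
        | add a b _ _ ha hb => rw [map_add, map_add, ha, hb]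
        | smul r a _ ha => rw [map_smul, map_smul, ha]
      suffices H : ∀ a b : T ⟶ CoactBr.sp ℂ A,
          (a * b).left.appTop (gi f) = (b * a).left.appTop (gi f) by
        rw [H (x * g) x⁻¹, inv_mul_cancel_left]
      intro a b
      obtain ⟨e, he1, he2⟩ : ∃ e : T ⟶ U, e ≫ P1 = a ∧ e ≫ P2 = b := by
        let m : CoactBr.sp ℂ A ⊗ CoactBr.sp ℂ A ⟶ U := Functor.LaxMonoidal.μ (algSpec (CommRingCat.of ℂ)) (op (CommAlgCat.of ℂ A)) (op (CommAlgCat.of ℂ A))
        have hl : lift P1 P2 ≫ m = CoactBr.pt (AlgHom.id ℂ _) := by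
          refine (CoactBr.lift_pt_pt _ _).trans ?_
          congr 1
          exact Algebra.TensorProduct.ext' fun x y => by simp
        rw [CoactBr.pt_id] at hl
        have hm : IsIso m := (Functor.Monoidal.μIso (algSpec (CommRingCat.of ℂ))
          (op (CommAlgCat.of ℂ A)) (op (CommAlgCat.of ℂ A))).isIso_hom
        have hm' : lift P1 P2 = @inv _ _ _ _ m hm := (@IsIso.inv_eq_of_inv_hom_id _ _ _ _ m hm _ hl).symm
        have hinv : m ≫ lift P1 P2 = 𝟙 _ := by rw [hm']; exact @IsIso.hom_inv_id _ _ _ _ m hm
        refine ⟨lift a b ≫ m, ?_, ?_⟩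
        · calc (lift a b ≫ m) ≫ P1 = lift a b ≫ (m ≫ lift P1 P2) ≫ fst _ _ := by
                rw [Category.assoc, Category.assoc, lift_fst]
            _ = a := by rw [hinv, Category.id_comp, lift_fst]
        · calc (lift a b ≫ m) ≫ P2 = lift a b ≫ (m ≫ lift P1 P2) ≫ snd _ _ := by
                rw [Category.assoc, Category.assoc, lift_snd]
            _ = b := by rw [hinv, Category.id_comp, lift_snd]
      have hsw : (sw.comp Δ) f = Δ f := hcomm
      rw [← he1, ← he2, ← MonObj.comp_mul, ← MonObj.comp_mul, h12, h21, Over.comp_left, Over.comp_left,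
        Scheme.Hom.comp_appTop, Scheme.Hom.comp_appTop, CommRingCat.comp_apply, CommRingCat.comp_apply,
        happ, happ, hsw]
  · simp only [hmc]
    exact Groth.Agent.ComodLib.linearIndependent_characters d c hs hni

end Groth.Agent.S19102
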