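import Groth.Statements.S19105
import Groth.Agent.RelCurveDiv.Flags
-- import your own Groth.Agent.* helpers here

set_option autoImplicit false
open CategoryTheory CategoryTheory.Limits AlgebraicGeometry
universe u
open HilbD

namespace Groth.Agent.S19105

/-- Let f : X ⟶ S be smooth of relative dimension 1, μ a non-empty Young diagram and n a reversed plane
partition of shape μ (a labelling of the cells by naturals, non-decreasing along rows and columns).
Call relative divisor of degree d a closed subscheme of X, given by a quasi-coherent ideal sheaf,
whose projection to S is finite locally free of degree d; sums of divisors are products of ideal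
sheaves. Let edge data of type n be given: a relative divisor Z_00 of degree n_00, for each cell
(i,j) with i ≥ 1 a relative divisor X_ij of degree n_ij − n_{i−1,j} and for each cell with j ≥ 1 a
relative divisor Y_ij of degree n_ij − n_{i,j−1}, such that for every cell with i, j ≥ 1 the divisor
Y_ij + X_{i,j−1} is contained in X_ij + Y_{i−1,j} (containment of ideal sheaves the other way). Then
there is exactly one flag (Z_c)_{c ∈ μ} of relative divisors of degrees n_c, growing along rows and
columns, with corner Z_00 and with Z_ij = Z_{i−1,j} + X_ij and Z_ij = Z_{i,j−1} + Y_ij throughout.
(The published statement is for X = C × T ⟶ T with C a smooth irreducible quasi-projective complex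
curve and T a complex scheme, and identifies, through T-points, the scheme of such flags with the
zero scheme of a section of a vector bundle on the product of symmetric powers that carries the edge
data; the vanishing of the pulled-back section at a T-point amounts to the stated containment of
divisors. Here f is any smooth morphism of relative dimension 1, and neither the bundle nor its
section is formed.) -/
theorem result {X S : Scheme.{u}} (f : X ⟶ S) [SmoothOfRelativeDimension 1 f]
    (μ : YoungDiagram) (h00 : ((0, 0) : ℕ × ℕ) ∈ μ) (n : ℕ × ℕ → ℕ) (hn : HilbD.IsRevPlanePartition μ n)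
    (E : HilbD.DnEdgeData μ X) (hE : E.IsOfType f n)
    (hcomm : ∀ (c : ℕ × ℕ) (hc : c ∈ μ) (hi : 1 ≤ c.1) (hj : 1 ≤ c.2), E.gammaOne c hc hi hj ≤ E.gammaTwo c hc hi hj) :
    ∃! Z : ∀ c : ℕ × ℕ, c ∈ μ → X.IdealSheafData, HilbD.IsDnFlag f μ n Z ∧ E.IsEdgesOf h00 Z := by
  exact Groth.Agent.RelCurveDiv.existsUnique_flag f μ h00 n hn E hE hcomm
end Groth.Agent.S19105
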