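import Groth.Statements.S19106
import Mathlib.Tactic.Linarith

set_option autoImplicit false
open HilbD

namespace Groth.Agent.S19106

/-- Let μ be a non-empty Young diagram, V the number of its cells, E the number of unordered pairs of
cells sharing a side (a cell together with the cell immediately below it, or immediately to its
right, both in μ) and Q the number of 2 × 2 blocks of cells of μ (cells c such that the cell
diagonally below-right of c is in μ, the other two corners being in μ automatically). Then V − E + Q
− 1 = 0, stated as V + Q = E + 1 in the naturals. (The empty diagram, for which the count reads 0 −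
0 + 0 − 1, is excluded.) -/
theorem result (μ : YoungDiagram) (hμ : μ ≠ ⊥) :
    μ.cells.card + (μ.cells.filter (fun c => (c.1 + 1, c.2 + 1) ∈ μ)).card =
      (μ.cells.filter (fun c => (c.1 + 1, c.2) ∈ μ)).card + (μ.cells.filter (fun c => (c.1, c.2 + 1) ∈ μ)).card + 1 := by
  classical
  set V := μ.cells.filter (fun c => (c.1 + 1, c.2) ∈ μ)
  set B := μ.cells.filter (fun c => ¬ (c.1 + 1, c.2) ∈ μ) with hB
  set H := μ.cells.filter (fun c => (c.1, c.2 + 1) ∈ μ)
  set Q := μ.cells.filter (fun c => (c.1 + 1, c.2 + 1) ∈ μ)
  set Hs := H.filter (fun c => ¬ (c.1 + 1, c.2 + 1) ∈ μ)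
  have h1 : V.card + B.card = μ.cells.card := Finset.card_filter_add_card_filter_not _
  have h2 : Q.card + Hs.card = H.card := by
    have hQ : H.filter (fun c => (c.1 + 1, c.2 + 1) ∈ μ) = Q := by
      ext c
      simp only [H, Q, Finset.mem_filter]
      exact ⟨fun h => ⟨h.1.1, h.2⟩, fun h => ⟨⟨h.1, μ.up_left_mem (Nat.le_succ _) le_rfl h.2⟩, h.2⟩⟩
    rw [← hQ]; exact Finset.card_filter_add_card_filter_not _
  have h00 : (0, 0) ∈ μ := by
    obtain ⟨c, hc⟩ : μ.cells.Nonempty := by
      rw [Finset.nonempty_iff_ne_empty]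
      intro h; exact hμ (YoungDiagram.ext (by simpa using h))
    exact μ.up_left_mem (Nat.zero_le _) (Nat.zero_le _) ((YoungDiagram.mem_cells _).1 hc)
  have h3 : B.card = Hs.card + 1 := by
    have hpos : 0 < μ.colLen 0 := YoungDiagram.mem_iff_lt_colLen.1 h00
    have hb : B = insert (μ.colLen 0 - 1, 0) (Hs.image (fun c => (c.1, c.2 + 1))) := by
      ext ⟨i, j⟩
      simp only [B, Hs, H, Finset.mem_filter, Finset.mem_insert, Finset.mem_image, YoungDiagram.mem_cells]
      constructor
      · rintro ⟨hm, hn⟩
        rcases j with _ | j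
        · left
          rw [YoungDiagram.mem_iff_lt_colLen] at hm hn
          simp only [Prod.mk.injEq, and_true]
          omega
        · exact Or.inr ⟨(i, j), ⟨⟨μ.up_left_mem le_rfl (Nat.le_succ _) hm, hm⟩, hn⟩, rfl⟩
      · rintro (h | ⟨c, ⟨⟨_, hr⟩, hd⟩, he⟩)
        · simp only [Prod.mk.injEq] at h
          obtain ⟨rfl, rfl⟩ := h
          rw [YoungDiagram.mem_iff_lt_colLen, YoungDiagram.mem_iff_lt_colLen]
          omega
        · simp only [Prod.mk.injEq] at he
          obtain ⟨rfl, rfl⟩ := he
          exact ⟨hr, hd⟩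
    rw [hb, Finset.card_insert_of_notMem, Finset.card_image_of_injective]
    · intro a b h; simp only [Prod.mk.injEq, Nat.add_right_cancel_iff] at h; exact Prod.ext h.1 h.2
    · simp
  omega

end Groth.Agent.S19106
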