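import Groth.Statements.S19107
import Groth.Agent.StModLib.GoodHomeo
-- import your own Groth.Agent.* helpers here

set_option autoImplicit false
universe u
open CategoryTheory AlgebraicGeometry
open StMod

namespace Groth.Agent.S19107

/-- Let `S` be a quasi-separated scheme, `𝒳` an algebraic stack over `(Sch/S)` for the fppf topology,
`M` an algebraic space over `S` that is quasi-separated over `S`, and `π : 𝒳 ⟶ M` a quasi-compact
quasi-separated good moduli space which is a tame moduli space: for every algebraically closed field
`Ω` and every `Spec Ω ⟶ S`, `π` induces a bijection between isomorphism classes of objects of `𝒳`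
over `Spec Ω` and sections of `M` over `Spec Ω`. Then `π` is a universal homeomorphism (every base
change of `π` to an algebraic stack is a homeomorphism on points). Here a good moduli space is a
quasi-compact quasi-separated morphism to an algebraic space along which pushforward takes
surjections of quasi-coherent modules to maps surjective on sections over every affine scheme etale
over the target (cohomological affineness), and for which the canonical map from the functions on
any scheme etale over the target to the sections of the pushforward of the structure sheaf is
bijective. (Standing conventions of the source: all schemes and algebraic spaces are quasi-separated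
and all stacks have quasi-compact separated diagonal; this row carries instead the
quasi-separatedness of `M` over a quasi-separated base scheme and of `π`, which is what the
arguments use.) -/
theorem result
    (S : Scheme.{u}) [QuasiSeparatedSpace S]
    (𝒳 : AlgSt.Cat S) (h𝒳 : AlgSt.IsAlgStack Scheme.fppfPrecoverage 𝒳)
    (M : AlgSp.Space S) (hM : AlgSp.IsQuasiSeparatedSp M.obj) (π : 𝒳 ⥤ᵇ AlgSt.ofSp M.obj)
    (hqc : AlgSt.IsQuasiCompactMor Scheme.fppfPrecoverage π) (hqs : AlgSt.IsQuasiSeparatedMor π)
    (h : StMod.IsGoodModuli π)
    (ht : AlgSt.GeomPtBij π) :
    AlgSt.IsUnivHomeo Scheme.fppfPrecoverage π :=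
  Groth.Agent.StModLib.isUnivHomeo_of_isGoodModuli h𝒳 M (Groth.Agent.StModLib.hasQcProd_of_qs M hM) π hqc hqs h ht

end Groth.Agent.S19107
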