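import Groth.Statements.S19110
import Groth.Agent.StModLib.ConnFibre
-- import your own Groth.Agent.* helpers here

set_option autoImplicit false
universe u
open CategoryTheory AlgebraicGeometry
open StMod

namespace Groth.Agent.S19110

/-- Let `S` be a quasi-separated scheme, `𝒳` an algebraic stack over `(Sch/S)` for the fppf topology,
`M` an algebraic space over `S` that is quasi-separated over `S`, and `π : 𝒳 ⟶ M` a quasi-compact
quasi-separated good moduli space. Then the fibres of `π` are geometrically connected; precisely,
for every field `K` and every `K`-point `y` of `M` over `S`, the space of points of the 2-fibre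
product `(Sch/Spec K) ×_M 𝒳` is connected and non-empty. (The printed item says geometrically
connected fibres, i.e. the case of algebraically closed `K`; the argument applies to every field, so
`K` is an arbitrary field here.) Here a good moduli space is a quasi-compact quasi-separated
morphism to an algebraic space along which pushforward takes surjections of quasi-coherent modules
to maps surjective on sections over every affine scheme etale over the target (cohomological
affineness), and for which the canonical map from the functions on any scheme etale over the target
to the sections of the pushforward of the structure sheaf is bijective. (Standing conventions of the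
source: all schemes and algebraic spaces are quasi-separated and all stacks have quasi-compact
separated diagonal; this row carries instead the quasi-separatedness of `M` over a quasi-separated
base scheme and of `π`, which is what the arguments use.) -/
theorem result
    (S : Scheme.{u}) [QuasiSeparatedSpace S]
    (𝒳 : AlgSt.Cat S) (h𝒳 : AlgSt.IsAlgStack Scheme.fppfPrecoverage 𝒳)
    (M : AlgSp.Space S) (hM : AlgSp.IsQuasiSeparatedSp M.obj) (π : 𝒳 ⥤ᵇ AlgSt.ofSp M.obj)
    (hqc : AlgSt.IsQuasiCompactMor Scheme.fppfPrecoverage π) (hqs : AlgSt.IsQuasiSeparatedMor π)
    (h : StMod.IsGoodModuli π)
    (K : Type u) [Field K] (t : Spec (CommRingCat.of K) ⟶ S)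
    (y : (AlgSp.yon S).obj (Over.mk t) ⟶ M.obj) :
    ConnectedSpace (AlgSt.Points (FibCat.fp (AlgSt.ofSpMap y) π)) :=
  Groth.Agent.StModLib.connectedSpace_fibre h𝒳 M (Groth.Agent.StModLib.hasQcProd_of_qs M hM) π hqc hqs h t y

end Groth.Agent.S19110
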