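import Groth.Statements.S19112
import Groth.Agent.StModLib.AffineComp
import Groth.Agent.AlgStLib.Graph
import Groth.Agent.AlgStLib.RepDiag
import Groth.Agent.AlgStLib.Spectral
import Groth.Agent.AlgStLib.Small
import Groth.Agent.AlgStLib.SepUnivClosed
-- import your own Groth.Agent.* helpers here

set_option autoImplicit false
universe u
open CategoryTheory AlgebraicGeometry
open StMod

set_option backward.isDefEq.respectTransparency false
set_option backward.isDefEq.respectTransparency.types false

namespace Groth.Agent.S19112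

/-- In the case where the targets are algebraic spaces, let `S` be a quasi-separated scheme, `𝒳` an
algebraic stack over `(Sch/S)` for the fppf topology, `M` and `N` algebraic spaces over `S` that are
quasi-separated over `S`, with the diagonal of `N` over `S` quasi-affine, `f : 𝒳 ⟶ M` a
quasi-separated morphism and `g : M ⟶ N` a morphism of algebraic spaces with affine diagonal. If the
composite `𝒳 ⟶ N` is quasi-compact, quasi-separated and cohomologically affine, then `f` is
cohomologically affine and quasi-compact. Here a quasi-compact quasi-separated morphism to an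
algebraic space is cohomologically affine when pushforward along it takes surjections of
quasi-coherent modules to maps surjective on sections over every affine scheme etale over the
target. (The printed statement allows arbitrary algebraic stacks as targets, with either `g`
quasi-affine or the final target with quasi-affine diagonal; here both targets are algebraic spaces
and the second alternative is assumed. Standing conventions of the source: all algebraic spaces and
morphisms are quasi-separated.) -/
theorem result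
    (S : Scheme.{u}) [QuasiSeparatedSpace S]
    (𝒳 : AlgSt.Cat S) (h𝒳 : AlgSt.IsAlgStack Scheme.fppfPrecoverage 𝒳)
    (M N : AlgSp.Space S) (hM : AlgSp.IsQuasiSeparatedSp M.obj) (hN : AlgSp.IsQuasiSeparatedSp N.obj)
    (hNd : AlgSp.IsQuasiAffineMor (Limits.diag N.obj))
    (f : 𝒳 ⥤ᵇ AlgSt.ofSp M.obj) (hfqs : AlgSt.IsQuasiSeparatedMor f)
    (g : M.obj ⟶ N.obj) (hg : AlgSp.IsAffineMor (Limits.pullback.diagonal g))
    (hqc : AlgSt.IsQuasiCompactMor Scheme.fppfPrecoverage (BasedFunctor.comp f (AlgSt.ofSpMap g)))
    (hqs : AlgSt.IsQuasiSeparatedMor (BasedFunctor.comp f (AlgSt.ofSpMap g)))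
    (h : StMod.IsCohAffine (BasedFunctor.comp f (AlgSt.ofSpMap g))) :
    StMod.IsCohAffine f ∧ AlgSt.IsQuasiCompactMor Scheme.fppfPrecoverage f := by
  let g' := AlgSt.ofSpMap g
  let p := BasedFunctor.comp f g'
  have hMs := Groth.Agent.AlgStLib.isAlgStack_ofSp M
  have hNs := Groth.Agent.AlgStLib.isAlgStack_ofSp N
  have hd : AlgSt.RepByAlgSpWith AlgSp.IsAffineMor (FibCat.diag g') :=
    Groth.Agent.AlgStLib.repByAlgSpWith_diag_ofSpMap
      Groth.Agent.AlgStLib.stableBC_isAffineMor M.property N.property g hg
  have hfp := Groth.Agent.AlgStLib.isAlgStack_fp hMs h𝒳 hNs.isStack hNs.diag g' p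
  let gr : 𝒳 ⥤ᵇ FibCat.fp p g' :=
    FibCat.fpLift (BasedFunctor.id 𝒳) f (Iso.refl p : BasedFunctor.comp (BasedFunctor.id 𝒳) p ≅ BasedFunctor.comp f g')
  let ι := BasedFunctor.comp gr (Groth.Agent.AlgStLib.fpSwap p g')
  have hι : AlgSt.RepByAlgSpWith AlgSp.IsAffineMor ι :=
    (Groth.Agent.AlgStLib.repByAlgSpWith_iff_of_square (f := ι) (f' := gr) (a := BasedFunctor.id _)
      (b := Groth.Agent.AlgStLib.fpSwap p g') Groth.Agent.FibBase.isEquivOver_id
      (Groth.Agent.AlgStLib.fpSwap_isEquivOver p g') (Iso.refl ι)).2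
      (Groth.Agent.AlgStLib.repByAlgSpWith_graph (p := p) (g := f) (q := g') (Iso.refl p :
        BasedFunctor.comp (BasedFunctor.id 𝒳) p ≅ BasedFunctor.comp f g') hd)
  refine ⟨Groth.Agent.StModLib.isCohAffine_of_affine_comp h𝒳.isStack.1 hfp M
    (Groth.Agent.StModLib.hasQcProd_of_qs M hM) (FibCat.fpFst g' p)
    (Groth.Agent.StModLib.isCohAffine_fpFst h𝒳 N M (Groth.Agent.StModLib.hasQcProd_of_qs N hN) g p hqc hqs h)
    ι hι f (fun w => Iso.refl (f.obj w)) (fun {w' w} φ => ?_), ?_⟩
  · show f.map φ ≫ 𝟙 _ = 𝟙 _ ≫ f.map φ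
    rw [Category.comp_id, Category.id_comp]
  · exact Groth.Agent.AlgStLib.isQuasiCompactMor_of_comp_qc h𝒳 hMs hNs.isStack hNs.diag hqc
      (Groth.Agent.AlgStLib.repByAlgSpWith_mono_space (fun {F G} hF hG a ha =>
        Groth.Agent.AlgSpPts.isQuasiCompactMor_of_affine hF hG fun Z hZ k P fst snd sq => by
          obtain ⟨W, i, fst', sq', hW⟩ := ha hZ k
          have h1 : AlgSp.IsQuasiCompactSp ((AlgSp.yon S).obj W) :=
            (Groth.Agent.AlgSpPts.isQuasiCompactSp_yon_iff W).2 inferInstance
          have hW' := AlgSp.IsAlgSpace.yon_obj (S := S) W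
          have hP := Groth.Agent.AlgSpLib.isAlgSpace_of_isPullback sq hF (AlgSp.IsAlgSpace.yon_obj Z) hG
          haveI := (Groth.Agent.AlgSpPts.isQuasiCompactSp_iff hW').1 h1
          let e := IsPullback.isoIsPullback _ _ sq' sq
          refine (Groth.Agent.AlgSpPts.isQuasiCompactSp_iff hP).2 ⟨?_⟩
          rw [← (show Function.Surjective (AlgSp.Points.map e.hom) from fun x =>
            ⟨AlgSp.Points.map e.inv x, by rw [← AlgSp.Points.map_comp, e.inv_hom_id, AlgSp.Points.map_id]⟩).range_eq]
          exact isCompact_range (AlgSp.Points.continuous_map _)) hd)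

end Groth.Agent.S19112
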