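import Groth.Statements.S19113
import Groth.Agent.StModLib.UnivSch
-- import your own Groth.Agent.* helpers here

set_option autoImplicit false
universe u
open CategoryTheory AlgebraicGeometry
open StMod

namespace Groth.Agent.S19113

/-- Let `S` be a quasi-separated scheme, `𝒳` an algebraic stack over `(Sch/S)` for the fppf topology,
`M` an algebraic space over `S` that is quasi-separated over `S`, and `π : 𝒳 ⟶ M` a quasi-compact
quasi-separated good moduli space (no Noetherian or finite-type hypothesis). Then `π` is universal
for morphisms to schemes: for every scheme `Z` over `S`, every functor over `(Sch/S)` from `𝒳` to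
the category of the scheme `Z` is the composite of `π` with exactly one morphism of sheaves `M ⟶
h_Z`. Here a good moduli space is a quasi-compact quasi-separated morphism to an algebraic space
along which pushforward takes surjections of quasi-coherent modules to maps surjective on sections
over every affine scheme etale over the target (cohomological affineness), and for which the
canonical map from the functions on any scheme etale over the target to the sections of the
pushforward of the structure sheaf is bijective. (Standing conventions of the source: all schemes
and algebraic spaces are quasi-separated and all stacks have quasi-compact separated diagonal; this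
row carries instead the quasi-separatedness of `M` over a quasi-separated base scheme and of `π`,
which is what the arguments use.) -/
theorem result
    (S : Scheme.{u}) [QuasiSeparatedSpace S]
    (𝒳 : AlgSt.Cat S) (h𝒳 : AlgSt.IsAlgStack Scheme.fppfPrecoverage 𝒳)
    (M : AlgSp.Space S) (hM : AlgSp.IsQuasiSeparatedSp M.obj) (π : 𝒳 ⥤ᵇ AlgSt.ofSp M.obj)
    (hqc : AlgSt.IsQuasiCompactMor Scheme.fppfPrecoverage π) (hqs : AlgSt.IsQuasiSeparatedMor π)
    (h : StMod.IsGoodModuli π)
    (Z : Over S) (ψ : 𝒳 ⥤ᵇ AlgSt.ofSch Z) :
    ∃! g : M.obj ⟶ (AlgSp.yon S).obj Z, BasedFunctor.comp π (AlgSt.ofSpMap g) = ψ :=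
  Groth.Agent.StModLib.existsUnique_factor_ofSch h𝒳 M (Groth.Agent.StModLib.hasQcProd_of_qs M hM) π hqc hqs h ψ

end Groth.Agent.S19113
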