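import Groth.Statements.S19127
import Groth.Agent.HSL.Basic
import Groth.Agent.LC.MatlisExtra
import Groth.Agent.LC.CanonComplete
import Groth.Agent.CILib.Basic

set_option autoImplicit false
universe u v
open FrobAlg

namespace Groth.Agent.S19127

open IsLocalRing

theorem small_of_powerTorsion {A : Type u} [CommRing A] [IsNoetherianRing A] [IsLocalRing A]
    {M : Type v} [AddCommGroup M] [Module A M]
    (htors : LocCoh.IsPowerTorsion (maximalIdeal A) M)
    (hsoc : Module.Finite A ↥(LocCoh.torsionBy (maximalIdeal A) M)) : Small.{u} M := by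
  classical
  obtain ⟨g, hg⟩ := IsNoetherian.noetherian (maximalIdeal A)
  have hfin : ∀ t : ℕ, Module.Finite A ↥(LocCoh.torsionBy (maximalIdeal A ^ t) M) := by
    intro t
    induction t with
    | zero =>
      have : LocCoh.torsionBy (maximalIdeal A ^ 0) M = ⊥ := by
        rw [eq_bot_iff]
        intro x hx
        simpa using (Submodule.mem_torsionBySet_iff _ _).mp hx ⟨(1 : A), by simp⟩
      rw [this]
      infer_instance
    | succ t ih =>
      haveI := ih
      haveI := hsoc
      let T := LocCoh.torsionBy (maximalIdeal A ^ (t + 1)) M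
      let m : T →ₗ[A] (g → ↥(LocCoh.torsionBy (maximalIdeal A ^ t) M)) :=
        LinearMap.pi fun i => ((LinearMap.lsmul A M (i : A)).comp T.subtype).codRestrict _ fun x => by
          refine (Submodule.mem_torsionBySet_iff _ _).mpr fun r => ?_
          show (r : A) • (i : A) • (x : M) = 0
          rw [smul_smul]
          exact (Submodule.mem_torsionBySet_iff _ _).mp x.2
            ⟨(r : A) * i, by rw [pow_succ]; exact Ideal.mul_mem_mul r.2 (hg ▸ Submodule.subset_span i.2)⟩
      have hk : ∀ x ∈ LinearMap.ker m, (x : M) ∈ LocCoh.torsionBy (maximalIdeal A) M := by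
        intro x hx
        refine (Submodule.mem_torsionBySet_iff _ _).mpr fun r => ?_
        have : (r : A) ∈ LinearMap.ker (LinearMap.toSpanSingleton A M (x : M)) := by
          refine (Submodule.span_le.mpr ?_) (hg.ge r.2)
          intro i hi
          exact congrArg Subtype.val (congrFun hx ⟨i, hi⟩)
        simpa using this
      haveI : IsNoetherian A (LinearMap.ker m) :=
        isNoetherian_of_injective ((T.subtype.comp (LinearMap.ker m).subtype).codRestrict _ fun x => hk x x.2)
          fun x y h => Subtype.ext (Subtype.ext (congrArg (fun z : LocCoh.torsionBy (maximalIdeal A) M => (z : M)) h :))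
      haveI : IsNoetherian A T :=
        isNoetherian_of_range_eq_ker (LinearMap.ker m).subtype m (by simp)
      exact inferInstanceAs (Module.Finite A T)
  choose r f hf using fun t => Module.Finite.exists_fin' A ↥(LocCoh.torsionBy (maximalIdeal A ^ t) M)
  refine small_of_surjective (f := fun z : Σ t : ℕ, (Fin (r t) → A) => ((f z.1 z.2 : LocCoh.torsionBy (maximalIdeal A ^ z.1) M) : M)) ?_
  intro x
  obtain ⟨t, ht⟩ := htors x
  obtain ⟨z, hz⟩ := hf t ⟨x, (Submodule.mem_torsionBySet_iff _ _).mpr fun a => ht a a.2⟩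
  exact ⟨⟨t, z⟩, congrArg Subtype.val hz⟩

theorem bounded_of_typeU {A : Type u} [CommRing A] [IsNoetherianRing A] [IsLocalRing A] (p : ℕ) [Fact p.Prime]
    [CharP A p] {X : Type u} [AddCommGroup X] [Module A X] [IsArtinian A X]
    (htors : LocCoh.IsPowerTorsion (maximalIdeal A) X)
    (ψ : X →+ X) (hψ : ∀ (a : A) (x : X), ψ (a • x) = a ^ p • ψ x)
    (hloc : ∀ x : X, ∃ n, ψ^[n] x = 0) (hp : 2 ≤ p) : ∃ n, ∀ x : X, ψ^[n] x = 0 := by
  let B := AdicCompletion (maximalIdeal A) A
  haveI : IsNoetherianRing B := LC.Canon.isNoetherianRing_completion (R := A)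
  haveI : IsAdicComplete (maximalIdeal B) B := CILib.isAdicComplete_adicCompletion A
  haveI : Module.FaithfullyFlat A B := LC.Canon.faithfullyFlat_completion
  haveI : CharP B p := charP_of_injective_algebraMap (FaithfulSMul.algebraMap_injective A B) p
  let e : X ≃ₗ[A] TensorProduct A B X :=
    LinearEquiv.ofBijective _ (LC.mk_one_bijective_of_powerTorsion X htors)
  letI : Module B X := AddEquiv.module B e.toAddEquiv
  have hsmul : ∀ (c : B) (x : X), e (c • x) = c • e x := fun c x => by
    show e (e.toAddEquiv.symm (c • e.toAddEquiv x)) = _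
    exact e.apply_symm_apply _
  haveI : IsScalarTower A B X := ⟨fun a c x => e.injective (by rw [hsmul, map_smul, hsmul, smul_assoc])⟩
  haveI : IsArtinian B X := isArtinian_of_tower A (inferInstance : IsArtinian A X)
  refine HSL.exists_iterate_eq_zero (C := B) (p := p) ψ hp (fun c x => ?_) hloc
  obtain ⟨t, ht⟩ := htors x
  obtain ⟨t', ht'⟩ := htors (ψ x)
  let N := t + t'
  obtain ⟨r, hr⟩ := Submodule.Quotient.mk_surjective _ (c.val N)
  have hd : c - algebraMap A B r ∈ maximalIdeal A ^ N • (⊤ : Submodule A B) := by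
    rw [AdicCompletion.pow_smul_top_eq_ker_eval (IsNoetherian.noetherian _), LinearMap.mem_ker, map_sub,
      AdicCompletion.eval_apply, AdicCompletion.eval_apply, ← hr, sub_eq_zero]
    rfl
  have hkill : ∀ (y : X), (∀ a ∈ maximalIdeal A ^ N, a • y = 0) → ∀ d ∈ maximalIdeal A ^ N • (⊤ : Submodule A B),
      d • y = 0 := fun y hy d hd => by
    refine Submodule.smul_induction_on hd (fun a ha w _ => ?_) (fun u v hu hv => by rw [add_smul, hu, hv, add_zero])
    rw [smul_assoc, smul_comm, hy a ha, smul_zero]
  have hx : ∀ a ∈ maximalIdeal A ^ N, a • x = 0 := fun a ha => ht a (Ideal.pow_le_pow_right (Nat.le_add_right t t') ha)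
  have hy : ∀ a ∈ maximalIdeal A ^ N, a • ψ x = 0 := fun a ha => ht' a (Ideal.pow_le_pow_right (Nat.le_add_left t' t) ha)
  have h1 : c • x = r • x := by
    have := hkill x hx _ hd
    rwa [sub_smul, sub_eq_zero, algebraMap_smul] at this
  have h2 : c ^ p • ψ x = r ^ p • ψ x := by
    obtain ⟨w, hw⟩ := sub_dvd_pow_sub_pow c (algebraMap A B r) p
    have h3 : (c ^ p - algebraMap A B r ^ p) • ψ x = 0 := by
      rw [hw, mul_comm, mul_smul, hkill _ hy _ hd, smul_zero]
    rwa [sub_smul, sub_eq_zero, ← map_pow, algebraMap_smul] at h3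
  rw [h1, hψ, h2]

theorem bounded_of_small {A : Type u} [CommRing A] [IsNoetherianRing A] [IsLocalRing A] (p : ℕ) [Fact p.Prime]
    [CharP A p] {M : Type v} [AddCommGroup M] [Module A M] [IsArtinian A M] [Small.{u} M]
    (htors : LocCoh.IsPowerTorsion (maximalIdeal A) M)
    {φ : M →+ M} (hφ : ∀ (a : A) (x : M), φ (a • x) = a ^ p • φ x)
    (hloc : ∀ x : M, ∃ n, φ^[n] x = 0) (hp : 2 ≤ p) : ∃ n, ∀ x : M, φ^[n] x = 0 := by
  let e : Shrink.{u} M ≃ₗ[A] M := Shrink.linearEquiv A M
  haveI : IsArtinian A (Shrink.{u} M) := isArtinian_of_linearEquiv e.symm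
  let ψ : Shrink.{u} M →+ Shrink.{u} M :=
    e.symm.toLinearMap.toAddMonoidHom.comp (φ.comp e.toLinearMap.toAddMonoidHom)
  have hψe : ∀ x, e (ψ x) = φ (e x) := fun x => e.apply_symm_apply _
  have hit : ∀ n x, e (ψ^[n] x) = φ^[n] (e x) := fun n => by
    induction n with
    | zero => intro x; rfl
    | succ n ih => intro x; rw [Function.iterate_succ_apply, Function.iterate_succ_apply, ih, hψe]
  obtain ⟨n, hn⟩ := bounded_of_typeU p (X := Shrink.{u} M)
    (fun x => (htors (e x)).imp fun n hn a ha => e.injective (by rw [map_smul, hn a ha, map_zero]))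
    ψ (fun a x => e.injective (by rw [hψe, map_smul, hφ, map_smul, hψe]))
    (fun x => (hloc (e x)).imp fun n hn => e.injective (by rw [hit, hn, map_zero])) hp
  refine ⟨n, fun x => ?_⟩
  rw [← e.apply_symm_apply x, ← hit, hn, map_zero]

/-- Let p be a prime, A a Noetherian local ring of characteristic p with maximal ideal m, and M an
A-module which is cofinite, meaning that every element of M is annihilated by some power of m and
that the socle of M (the elements annihilated by m) is a finitely generated A-module. Let φ : M → M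
be an additive map that is semilinear for the Frobenius of A, φ(a x) = a^p φ(x). If φ is locally
nilpotent, i.e. every element of M is annihilated by some iterate of φ, then φ is nilpotent: one
iterate of φ is zero on all of M. -/
theorem result
    (p : ℕ) [Fact p.Prime] (A : Type u) [CommRing A] [IsNoetherianRing A] [IsLocalRing A] [CharP A p]
    (M : Type v) [AddCommGroup M] [Module A M]
    (htors : LocCoh.IsPowerTorsion (IsLocalRing.maximalIdeal A) M)
    (hsoc : Module.Finite A ↥(LocCoh.torsionBy (IsLocalRing.maximalIdeal A) M))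
    (φ : M →ₛₗ[frobenius A p] M)
    (hloc : ∀ x : M, ∃ n : ℕ, (⇑φ)^[n] x = 0) :
    ∃ n : ℕ, ∀ x : M, (⇑φ)^[n] x = 0 := by
  classical
  have hp : 2 ≤ p := Nat.Prime.two_le Fact.out
  haveI : IsArtinian A ↥(LocCoh.torsionBy (maximalIdeal A) M) := by
    haveI := hsoc
    letI := Ideal.Quotient.field (maximalIdeal A)
    haveI : Module.Finite (A ⧸ maximalIdeal A) ↥(LocCoh.torsionBy (maximalIdeal A) M) :=
      Module.Finite.of_restrictScalars_finite A _ _
    haveI : IsArtinian (A ⧸ maximalIdeal A) ↥(LocCoh.torsionBy (maximalIdeal A) M) := isArtinian_of_fg_of_artinian'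
    exact isArtinian_of_surjective_algebraMap (S := A) (R := A ⧸ maximalIdeal A) Ideal.Quotient.mk_surjective
  haveI : IsArtinian A M :=
    LC.isArtinian_of_isArtinian_torsionBy (maximalIdeal A) (IsNoetherian.noetherian _) htors inferInstance
  haveI : Small.{u} M := small_of_powerTorsion htors hsoc
  exact bounded_of_small p htors (φ := φ.toAddMonoidHom) (fun a x => by simpa [frobenius_def] using φ.map_smulₛₗ a x) hloc hp

end Groth.Agent.S19127
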