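import Groth.Statements.S19130
import Groth.Agent.S0626
import Groth.Agent.S0627
import Groth.Agent.S0628
import Groth.Agent.S0088
import Groth.Agent.BigSiteLib.HofPushEt
import Groth.Agent.CohCrit13.Formal
import Groth.Agent.ShriekBC11.Main
import Groth.Agent.EtPrimeFilt11.Step
import Groth.Agent.EtSupp13.Main
import Groth.Agent.Hensel.Henselization

set_option autoImplicit false
universe u
open CategoryTheory CategoryTheory.Limits AlgebraicGeometry Opposite
open EtCoh

namespace Groth.Agent.S19130

/-- Let p be a prime and Y an integral scheme which is normal (every local ring is integrally closed in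
its fraction field) and whose function field is algebraically closed. Then the étale cohomology of
the constant sheaf Z/p on Y is Z/p in degree 0 and vanishes in positive degrees: H^0(Y_et, Z/p) has
exactly p elements and H^i(Y_et, Z/p) = 0 for i > 0. Moreover, for every nonempty open subscheme j :
U → Y, the unit morphism from the constant sheaf Z/p on Y_et to j_* of its restriction to U is an
isomorphism. -/
theorem result
    (p : ℕ) [Fact p.Prime] (Y : Scheme.{u}) [IsIntegral Y]
    (hnorm : ∀ y : Y, IsIntegrallyClosed (Y.presheaf.stalk y)) [IsAlgClosed Y.functionField] :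
    Nat.card (EtCoh.H Y (EtCoh.const Y (ZMod p)) 0) = p ∧
      (∀ i : ℕ, 0 < i → Subsingleton (EtCoh.H Y (EtCoh.const Y (ZMod p)) i)) ∧
      ∀ U : Y.Opens, (U : Set Y).Nonempty →
        IsIso ((EtCoh.pullPushAdj U.ι).unit.app (EtCoh.const Y (ZMod p))) := by
  let K := Y.presheaf.stalk (genericPoint Y)
  letI : Field K := inferInstanceAs (Field Y.functionField)
  haveI : IsAlgClosed K := inferInstanceAs (IsAlgClosed Y.functionField)
  let f : Spec (CommRingCat.of K) ⟶ Y := Y.fromSpecStalk (genericPoint Y)
  let c := EtCoh.const Y (ZMod p)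
  let c' := EtCoh.const (Spec (CommRingCat.of K)) (ZMod p)
  have hN : ∀ x : Spec (CommRingCat.of K), IsIntegrallyClosed ((Spec (CommRingCat.of K)).presheaf.stalk x) := fun x => by
    obtain rfl : x = genericPoint (Spec (CommRingCat.of K)) := Subsingleton.elim (α := PrimeSpectrum K) _ _
    exact inferInstanceAs (IsIntegrallyClosed (Spec (CommRingCat.of K)).functionField)
  haveI : IsSepClosed (Spec (CommRingCat.of K)).functionField :=
    Groth.Agent.Hensel.isSepClosed_of_ringEquiv
      (IsLocalization.atUnits (S := (Spec (CommRingCat.of K)).functionField) K (nonZeroDivisors K)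
        (fun x hx => isUnit_iff_ne_zero.2 (nonZeroDivisors.ne_zero hx))).toRingEquiv
  haveI := Groth.Agent.EtFound.pull_preservesFiniteLimits f
  let e : c ≅ (EtCoh.push f).obj c' :=
    @asIso _ _ _ _ _ (S0626.result Y hnorm (ZMod p)) ≪≫ (EtCoh.push f).mapIso (EtCore.pullConst f (ZMod p))
  have hR : ∀ i, 0 < i → IsZero ((EtCoh.Rpush f i).obj c') := fun i hi => S0628.result f hN (ZMod p) i hi
  have key : ∀ i, Function.Bijective (fun x : EtCoh.H Y c i => EtLim.HofPush f c' i ((EtCoh.HF Y i).map e.hom x)) := fun i =>
    (BigSiteLib.hofPush_bijective f c' hR i).comp (CohCrit13.hmap_bijective_of_isIso e.hom i)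
  refine ⟨?_, fun i hi => ?_, fun U hU => S0627.result Y hnorm U hU (ZMod p)⟩
  · rw [Nat.card_congr (Equiv.ofBijective _ (key 0)),
      Nat.card_congr (Sheaf.H.equiv₀ c' (EtCore.topIsTerminal (Spec (CommRingCat.of K)))).toEquiv,
      Nat.card_congr (Equiv.ofBijective _ (ShriekBC11.germ_top_bijective c'))]
    exact EtPrimeFilt11.natCard_const_stalk p (𝟙 (Spec (CommRingCat.of K)))
  · haveI : ∀ s : Spec (CommRingCat.of K), IsSepClosed ((Spec (CommRingCat.of K)).residueField s) := fun s =>
      EtSupp13.isSepClosed_residueField (𝟙 (Spec (CommRingCat.of K))) s (isClosed_discrete _)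
    haveI := S0088.result (Spec (CommRingCat.of K)) (fun s => isClosed_discrete _) this c' i hi
    exact (key i).1.subsingleton

end Groth.Agent.S19130
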