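import Groth.Statements.S19132
import Groth.Agent.KFlatLib.Ring.DualizingLocalExt
-- import your own Groth.Agent.* helpers here

set_option autoImplicit false
universe u
open CategoryTheory
attribute [local instance] HasDerivedCategory.standard
open Dual

namespace Groth.Agent.S19132

/-- In the case of a local ring whose dualizing complex is normalized, let A be a Noetherian local ring
with residue field k and ω a normalized dualizing complex over A (Hom(k, ω[i]) = 0 in D(A) for i ≠
0), and let N be an object of D(A) which is bounded with finitely generated cohomology modules and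
concentrated in nonnegative degrees (H^i(N) = 0 for i < 0). Then RHom_A(N, ω) is concentrated in
nonpositive degrees: the group of morphisms N → ω[i] in D(A) vanishes for every i > 0. (For the
local ring at a point x of a scheme of finite type over the base, whose dualizing complex is
normalized only up to the shift by the integer d(x), the corresponding bound is degree −d(x); that
case is this statement applied to the shifted complex.) -/
theorem result
    (A : Type u) [CommRing A] [IsLocalRing A] [IsNoetherianRing A]
    (ω : Dual.D A) (hω : Dual.IsDualizing A ω) (hn : Dual.IsNormalized A ω)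
    (N : Dual.D A) (hfin : ∀ i : ℤ, Module.Finite A (Dual.HD A N i))
    (b : ℤ) (hb : ∀ i : ℤ, b < i → Subsingleton (Dual.HD A N i))
    (hge : ∀ i : ℤ, i < 0 → Subsingleton (Dual.HD A N i))
    (i : ℤ) (hi : 0 < i) :
    Subsingleton (N ⟶ ω⟦i⟧) := by
  suffices key : ∀ (m : ℕ) (N : Dual.D A), (∀ j : ℤ, Module.Finite A (Dual.HD A N j)) →
      DerivedCategory.IsGE N 0 → DerivedCategory.IsLE N ((m : ℤ) - 1) → ∀ i : ℤ, 0 < i → Subsingleton (N ⟶ ω⟦i⟧) by
    refine key (b + 1).toNat N hfin ((DerivedCategory.isGE_iff _ _).2 fun j hj =>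
      @ModuleCat.isZero_of_subsingleton _ _ _ (hge j hj)) ((DerivedCategory.isLE_iff _ _).2 fun j hj => ?_) i hi
    refine @ModuleCat.isZero_of_subsingleton _ _ _ ?_
    by_cases hb' : b < j
    · exact hb j hb'
    · exact hge j (by omega)
  intro m
  induction m with
  | zero =>
    intro N _ h0 h1 i _
    haveI := h0
    haveI : DerivedCategory.IsLE N (-1) := by simpa using h1
    have hz : CategoryTheory.Limits.IsZero N := DerivedCategory.TStructure.t.isZero N (-1) 0 (by omega)
    exact ⟨fun f g => hz.eq_of_src f g⟩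
  | succ m ih =>
    intro N hf h0 h1 i hi
    haveI := h0
    haveI := h1
    let t := DerivedCategory.TStructure.t (C := ModuleCat.{u} A)
    let c : ℤ := (m : ℤ)
    haveI : DerivedCategory.IsLE N c := by simpa [c] using h1
    have hT := t.triangleLTGE_distinguished c N
    let X₁ := (t.truncLT c).obj N
    let X₃ := (t.truncGE c).obj N
    haveI : X₁.IsLE (c - 1) := t.isLE_truncLT_obj ..
    haveI : X₁.IsGE 0 := inferInstanceAs (t.IsGE ((t.truncLT c).obj N) 0)
    haveI : X₃.IsGE c := t.isGE_truncGE_obj ..
    haveI : X₃.IsLE c := inferInstanceAs (t.IsLE ((t.truncGE c).obj N) c)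
    have hf₁ : ∀ j : ℤ, Module.Finite A (Dual.HD A X₁ j) := fun j => by
      by_cases hj : j < c
      · haveI : IsIso ((DerivedCategory.homologyFunctor (ModuleCat.{u} A) j).map ((t.truncLTι c).app N)) :=
          Groth.Agent.H9Misc.isIso_map_truncLTι c j hj N
        haveI : Module.Finite A ↑((DerivedCategory.homologyFunctor (ModuleCat.{u} A) j).obj ((𝟭 (Dual.D A)).obj N)) := hf j
        exact Module.Finite.equiv (asIso ((DerivedCategory.homologyFunctor (ModuleCat.{u} A) j).map
          ((t.truncLTι c).app N))).symm.toLinearEquiv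
      · haveI : Subsingleton (Dual.HD A X₁ j) :=
          ModuleCat.subsingleton_of_isZero (DerivedCategory.isZero_of_isLE X₁ (c - 1) j (by omega))
        exact Module.Finite.of_finite
    haveI : Module.Finite A (Dual.HD A X₃ c) := by
      haveI : IsIso ((DerivedCategory.homologyFunctor (ModuleCat.{u} A) c).map ((t.truncGEπ c).app N)) :=
        Groth.Agent.H9Misc.isIso_map_truncGEπ c c le_rfl N
      haveI : Module.Finite A ↑((DerivedCategory.homologyFunctor (ModuleCat.{u} A) c).obj ((𝟭 (Dual.D A)).obj N)) := hf c
      exact Module.Finite.equiv (asIso ((DerivedCategory.homologyFunctor (ModuleCat.{u} A) c).map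
        ((t.truncGEπ c).app N))).toLinearEquiv
    obtain ⟨e₁⟩ := Groth.Agent.H9Misc.nonempty_iso_single_homology c X₃
    let e₂ := e₁ ≪≫ (((DerivedCategory.singleFunctors (ModuleCat.{u} A)).shiftIso (-c) c 0 (by omega)).app
      ((DerivedCategory.homologyFunctor (ModuleCat.{u} A) c).obj X₃)).symm
    haveI : Subsingleton (X₃ ⟶ ω⟦i⟧) := by
      haveI := Groth.Agent.KFlatLib.subsingleton_hom_module_of_pos hω hn (Dual.HD A X₃ c) (c + i) (by omega)
      let a := (shiftEquiv' (Dual.D A) (-c) c (by omega)).toAdjunction.homEquiv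
        (Dual.inD A (Dual.HD A X₃ c)) (ω⟦i⟧)
      let z := ((shiftFunctorAdd' (Dual.D A) i c (c + i) (by omega)).app ω).symm
      have hs : Subsingleton (((Dual.inD A (Dual.HD A X₃ c))⟦-c⟧) ⟶ ω⟦i⟧) :=
        (a.trans (CategoryTheory.Iso.homCongr (CategoryTheory.Iso.refl _) z)).subsingleton
      exact @Equiv.subsingleton _ _ (CategoryTheory.Iso.homCongr e₂ (CategoryTheory.Iso.refl _)) hs
    haveI : Subsingleton (X₁ ⟶ ω⟦i⟧) := ih X₁ hf₁ inferInstance inferInstance i hi
    refine subsingleton_of_forall_eq 0 fun φ => ?_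
    obtain ⟨ψ, hψ⟩ := Pretriangulated.Triangle.yoneda_exact₂ _ hT φ (Subsingleton.elim (α := X₁ ⟶ ω⟦i⟧) _ _)
    rw [hψ]
    exact (congrArg (_ ≫ ·) (Subsingleton.elim (α := X₃ ⟶ ω⟦i⟧) ψ 0)).trans Limits.comp_zero

end Groth.Agent.S19132
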