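import Groth.Statements.S19134
import Groth.Agent.KFlatLib.Ring.DualizingCofinite
import Groth.Agent.S0299
-- import your own Groth.Agent.* helpers here

set_option autoImplicit false
universe u
open CategoryTheory
attribute [local instance] HasDerivedCategory.standard
open Dual

namespace Groth.Agent.S19134

/-- Let A be a Noetherian local ring with maximal ideal m which is m-adically complete, and ω a
normalized dualizing complex over A (Hom(k, ω[i]) = 0 in D(A) for i ≠ 0); assume the total right
derived functor RΓ_m of the m-power-torsion functor and the derived m-adic completion functor (left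
adjoint to the inclusion of derived complete objects, with unit K → K^) exist on D(A). Call an
A-module N cofinite when every element of N is killed by a power of m and the socle of N (the
elements killed by m) is finitely generated. Then RΓ_m and derived completion are mutually inverse
equivalences between the bounded complexes with finitely generated cohomology modules and the
bounded complexes with cofinite cohomology modules, the comparison maps being the canonical ones:
(a) for M bounded with finitely generated cohomology, RΓ_m M is bounded, every H^i(RΓ_m M) is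
cofinite, the derived completion of the canonical map RΓ_m M → M is an isomorphism, and the unit M →
M^ is an isomorphism; (b) for K bounded with cofinite cohomology modules, the derived completion K^
is bounded with finitely generated cohomology, RΓ_m applied to the unit K → K^ is an isomorphism,
and the canonical map RΓ_m K → K is an isomorphism; (c) for a cofinite module N, the derived
completion of N placed in degree 0 is perverse coherent: Hom(N[0]^, ω[i]) = 0 for every i ≠ 0. (The
published proposition also asserts that these equivalences exchange the perverse t-structure,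
defined by RHom(−, ω), with the standard one; that exactness is not part of this statement.) -/
theorem result
    (A : Type u) [CommRing A] [IsLocalRing A] [IsNoetherianRing A]
    [IsAdicComplete (IsLocalRing.maximalIdeal A) A]
    (ω : Dual.D A) (hω : Dual.IsDualizing A ω) (hn : Dual.IsNormalized A ω)
    [DRing.HasRgammaI (IsLocalRing.maximalIdeal A)] [DRing.HasDerivedCompletion (IsLocalRing.maximalIdeal A)] :
    (∀ M : Dual.D A, (∀ i : ℤ, Module.Finite A (Dual.HD A M i)) →
      (∃ a b : ℤ, ∀ i : ℤ, (i < a ∨ b < i) → Subsingleton (Dual.HD A M i)) →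
        (∃ a b : ℤ, ∀ i : ℤ, (i < a ∨ b < i) →
          Subsingleton (Dual.HD A ((DRing.RgammaI (IsLocalRing.maximalIdeal A)).obj M) i)) ∧
        (∀ i : ℤ, LocCoh.IsPowerTorsion (IsLocalRing.maximalIdeal A)
            (Dual.HD A ((DRing.RgammaI (IsLocalRing.maximalIdeal A)).obj M) i) ∧
          Module.Finite A ↥(LocCoh.torsionBy (IsLocalRing.maximalIdeal A)
            (Dual.HD A ((DRing.RgammaI (IsLocalRing.maximalIdeal A)).obj M) i))) ∧
        IsIso ((DRing.derivedCompletion (IsLocalRing.maximalIdeal A)).map
          ((DRing.RgammaIε (IsLocalRing.maximalIdeal A)).app M)) ∧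
        IsIso (DRing.toDerivedCompletion (IsLocalRing.maximalIdeal A) M)) ∧
    (∀ K : Dual.D A, (∃ a b : ℤ, ∀ i : ℤ, (i < a ∨ b < i) → Subsingleton (Dual.HD A K i)) →
      (∀ i : ℤ, LocCoh.IsPowerTorsion (IsLocalRing.maximalIdeal A) (Dual.HD A K i) ∧
        Module.Finite A ↥(LocCoh.torsionBy (IsLocalRing.maximalIdeal A) (Dual.HD A K i))) →
        (∀ i : ℤ, Module.Finite A
          (Dual.HD A ((DRing.derivedCompletion (IsLocalRing.maximalIdeal A)).obj K).obj i)) ∧
        (∃ a b : ℤ, ∀ i : ℤ, (i < a ∨ b < i) → Subsingleton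
          (Dual.HD A ((DRing.derivedCompletion (IsLocalRing.maximalIdeal A)).obj K).obj i)) ∧
        IsIso ((DRing.RgammaI (IsLocalRing.maximalIdeal A)).map
          (DRing.toDerivedCompletion (IsLocalRing.maximalIdeal A) K)) ∧
        IsIso ((DRing.RgammaIε (IsLocalRing.maximalIdeal A)).app K)) ∧
    (∀ (N : Type u) [AddCommGroup N] [Module A N],
      LocCoh.IsPowerTorsion (IsLocalRing.maximalIdeal A) N →
      Module.Finite A ↥(LocCoh.torsionBy (IsLocalRing.maximalIdeal A) N) →
        ∀ i : ℤ, i ≠ 0 → Subsingleton
          (((DRing.derivedCompletion (IsLocalRing.maximalIdeal A)).obj (Dual.inD A N)).obj ⟶ ω⟦i⟧)) := by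
  obtain ⟨E, _, _, f, hf⟩ := Groth.Agent.S0299.result A (IsLocalRing.ResidueField A)
  have htransfer : ∀ {R R' : Dual.D A} (e : R ≅ R') (i : ℤ), Subsingleton (R' ⟶ ω⟦i⟧) → Subsingleton (R ⟶ ω⟦i⟧) :=
    fun e i h => (Iso.homCongr e (Iso.refl (ω⟦i⟧))).subsingleton
  refine ⟨fun M hfin hbd => ⟨?_, fun i => ⟨?_, ?_⟩, ?_, ?_⟩, fun K hbd hK => ⟨?_, ?_, ?_, ?_⟩, fun N _ _ hN hs i hi => ?_⟩
  · obtain ⟨r, hr⟩ := Groth.Agent.KFlatLib.RgammaHDI.exists_bound_HDI (IsLocalRing.maximalIdeal A)
    obtain ⟨a, b, hab⟩ := hbd
    haveI : M.IsGE a := (DerivedCategory.isGE_iff _ _).2 fun j hj => by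
      haveI := hab j (Or.inl hj)
      exact ModuleCat.isZero_of_subsingleton _
    haveI hLE : M.IsLE b := (DerivedCategory.isLE_iff _ _).2 fun j hj => by
      haveI := hab j (Or.inr hj)
      exact ModuleCat.isZero_of_subsingleton _
    refine ⟨a, b + r, fun i hi => ?_⟩
    obtain ⟨e⟩ := Groth.Agent.KFlatLib.RgammaHDI.nonempty_hd_equiv (IsLocalRing.maximalIdeal A) M i
    have hs : Subsingleton (Dual2.HDI A (IsLocalRing.maximalIdeal A) M i) := by
      rcases hi with hi | hi
      · refine subsingleton_of_forall_eq 0 fun w => ?_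
        obtain ⟨n, u, rfl⟩ := Groth.Agent.KFlatLib.RgammaHDI.exists_inc (IsLocalRing.maximalIdeal A) (M⟦i⟧) w
        haveI : DerivedCategory.IsGE (M⟦i⟧) (a - i) :=
          DerivedCategory.TStructure.t.isGE_shift M a i (a - i) (by omega)
        rw [DerivedCategory.TStructure.t.zero_of_isLE_of_isGE u 0 (a - i) (by omega) inferInstance inferInstance,
          map_zero]
      · exact hr M b i hLE (by omega)
    exact e.toEquiv.subsingleton
  · exact Groth.Agent.KFlatLib.isPowerTorsion_hd_rgamma (IsLocalRing.maximalIdeal A) M i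
  · exact Groth.Agent.KFlatLib.Cofinite.finite_socle_hd_rgamma hf hω hn M hfin i
  · exact Groth.Agent.KFlatLib.RgammaCompletion.isIso_completion_map_rgammaε (IsLocalRing.maximalIdeal A) M
  · exact Groth.Agent.KFlatLib.Cofinite.isIso_toCompletion M hfin
  · obtain ⟨a, b, hab⟩ := hbd
    have hGE : K.IsGE a := (DerivedCategory.isGE_iff _ _).2 fun j hj => by
      haveI := hab j (Or.inl hj)
      exact ModuleCat.isZero_of_subsingleton _
    exact Groth.Agent.KFlatLib.Cofinite.finite_completion_of_iso ((shiftFunctorZero (Dual.D A) ℤ).app K)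
      (Groth.Agent.KFlatLib.Cofinite.finite_completion hf hω hn b ((b - a).toNat + 1) a K hGE (by omega) hK
        (fun i hi => hab i (Or.inr hi)) 0)
  · obtain ⟨a, b, hab⟩ := hbd
    obtain ⟨s, hs⟩ := (IsNoetherian.noetherian (IsLocalRing.maximalIdeal A) : (IsLocalRing.maximalIdeal A).FG)
    refine ⟨a - s.card, b, fun i hi => ?_⟩
    rcases hi with hi | hi
    · exact Groth.Agent.H9Misc.DRingCompl.GE.of_refl s hs (Groth.Agent.H9Misc.DRingCompl.refl_unit K)
        (fun j hj => hab j (Or.inl hj)) i hi
    · exact Groth.Agent.H9Misc.DRingCompl.LE.of_refl (Groth.Agent.H9Misc.DRingCompl.refl_unit K)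
        (fun j hj => hab j (Or.inr hj)) i hi
  · exact Groth.Agent.KFlatLib.RgammaCompletion.isIso_rgamma_toCompletion (IsLocalRing.maximalIdeal A) K
  · exact Groth.Agent.KFlatLib.isIso_rgammaε (IsLocalRing.maximalIdeal A) K fun j => (hK j).1
  · obtain ⟨R, -, hv, ⟨e⟩⟩ := Groth.Agent.KFlatLib.Cofinite.exists_completion_model hf hω hn N hN hs
    exact htransfer e i (hv i hi)

end Groth.Agent.S19134
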