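import Groth.Statements.S19135
import Groth.Agent.KFlatLib.Ring.DualizingBounded
-- import your own Groth.Agent.* helpers here

set_option autoImplicit false
universe u
open CategoryTheory
attribute [local instance] HasDerivedCategory.standard
open Dual

namespace Groth.Agent.S19135

/-- In the case of the spectrum of the base local ring and its closed point, let A be a Noetherian local
ring with maximal ideal m and ω a normalized dualizing complex over A (Hom(k, ω[i]) = 0 in D(A) for
i ≠ 0), assume the total right derived functor RΓ_m of the m-power-torsion functor exists on D(A),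
and let M be an object of D(A) which is bounded with finitely generated cohomology modules. Then
RHom(M, ω) is concentrated in degrees ≥ 0 (Hom(M, ω[i]) = 0 for all i < 0) if and only if RΓ_m M is
concentrated in degrees ≤ 0 (H^i(RΓ_m M) = 0 for all i > 0); and RHom(M, ω) is concentrated in
degrees ≤ 0 if and only if RΓ_m M is concentrated in degrees ≥ 0. In particular M is perverse
coherent (RHom(M, ω) concentrated in degree 0) exactly when its local cohomology at m is
concentrated in degree 0. (The published statement of the two halves, read in cohomological
indexing, has the inequalities on the local cohomology side exchanged: over a field k with ω = k,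
the complex k[1] has RHom(k[1], ω) = k[−1] concentrated in degrees ≥ 0 while its local cohomology
k[1] is concentrated in degree −1, not in degrees ≥ 0. This statement gives the form that local
duality yields, which is the one compatible with the description of the perverse t-structure by
support conditions.) -/
theorem result
    (A : Type u) [CommRing A] [IsLocalRing A] [IsNoetherianRing A]
    (ω : Dual.D A) (hω : Dual.IsDualizing A ω) (hn : Dual.IsNormalized A ω)
    [DRing.HasRgammaI (IsLocalRing.maximalIdeal A)] (M : Dual.D A)
    (hfin : ∀ i : ℤ, Module.Finite A (Dual.HD A M i))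
    (hbd : ∃ a b : ℤ, ∀ i : ℤ, (i < a ∨ b < i) → Subsingleton (Dual.HD A M i)) :
    ((∀ i : ℤ, i < 0 → Subsingleton (M ⟶ ω⟦i⟧)) ↔
      (∀ i : ℤ, 0 < i → Subsingleton (Dual.HD A ((DRing.RgammaI (IsLocalRing.maximalIdeal A)).obj M) i))) ∧
    ((∀ i : ℤ, 0 < i → Subsingleton (M ⟶ ω⟦i⟧)) ↔
      (∀ i : ℤ, i < 0 → Subsingleton (Dual.HD A ((DRing.RgammaI (IsLocalRing.maximalIdeal A)).obj M) i))) := by
  have hI : (IsLocalRing.maximalIdeal A).FG := IsNoetherian.noetherian _
  have h : ∀ i : ℤ, Subsingleton (Dual.HD A ((DRing.RgammaI (IsLocalRing.maximalIdeal A)).obj M) i) ↔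
      Subsingleton (M ⟶ ω⟦-i⟧) := fun i => by
    obtain ⟨e⟩ := Groth.Agent.KFlatLib.RgammaHDI.nonempty_hd_equiv (IsLocalRing.maximalIdeal A) M i
    rw [Groth.Agent.KFlatLib.subsingleton_hom_iff hω hn M hfin hbd (-i), neg_neg]
    exact e.toEquiv.subsingleton_congr
  constructor
  · constructor
    · exact fun h0 i hi => (h i).2 (h0 (-i) (by omega))
    · intro h0 i hi
      have := (h (-i)).1 (h0 (-i) (by omega))
      rwa [neg_neg] at this
  · constructor
    · exact fun h0 i hi => (h i).2 (h0 (-i) (by omega))
    · intro h0 i hi
      have := (h (-i)).1 (h0 (-i) (by omega))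
      rwa [neg_neg] at this

end Groth.Agent.S19135
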