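import Groth.Statements.S19136
import Mathlib
-- import your own Groth.Agent.* helpers here

set_option autoImplicit false
universe u
open Instab

namespace Groth.Agent.S19136

/-- Let p be a seminorm and ℓ a linear form on a real vector space, let y₀ and y₁ be vectors at which p
is positive and ℓ is non-negative, and let y = t y₀ + (1 - t) y₁ with 0 < t < 1 be a point of the
open segment at which p is positive. Then ℓ(y)/p(y) is at least the smaller of ℓ(y₀)/p(y₀) and
ℓ(y₁)/p(y₁), and if it equals that smaller value then ℓ(y₀)/p(y₀) = ℓ(y₁)/p(y₁). (The published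
lemma concerns the numerical invariant attached to a degree-two cohomology class and a semi-norm on
graded points of a stack; restricted to one rational simplex that invariant is the quotient of a
linear form by a semi-norm on the non-negative orthant of a real coordinate space, and local
quasi-concavity there amounts to this inequality with its equality clause, the set where the linear
form is non-negative being automatically convex; the lemma's further assertion, that the invariant
is positive at no pair of antipodal points, is not stated here. The vector space is arbitrary here.) -/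
theorem result {E : Type u} [AddCommGroup E] [Module ℝ E]
    (p : Seminorm ℝ E) (ℓ : E →ₗ[ℝ] ℝ) (y₀ y₁ : E) (h₀ : 0 < p y₀) (h₁ : 0 < p y₁)
    (hℓ₀ : 0 ≤ ℓ y₀) (hℓ₁ : 0 ≤ ℓ y₁) (t : ℝ) (ht₀ : 0 < t) (ht₁ : t < 1)
    (hy : 0 < p (t • y₀ + (1 - t) • y₁)) :
    min (ℓ y₀ / p y₀) (ℓ y₁ / p y₁) ≤ ℓ (t • y₀ + (1 - t) • y₁) / p (t • y₀ + (1 - t) • y₁) ∧
      (ℓ (t • y₀ + (1 - t) • y₁) / p (t • y₀ + (1 - t) • y₁) = min (ℓ y₀ / p y₀) (ℓ y₁ / p y₁) →
        ℓ y₀ / p y₀ = ℓ y₁ / p y₁) := by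
  set y := t • y₀ + (1 - t) • y₁
  have hle : p y ≤ t * p y₀ + (1 - t) * p y₁ := by
    refine (map_add_le_add p _ _).trans ?_
    rw [map_smul_eq_mul, map_smul_eq_mul, Real.norm_of_nonneg ht₀.le, Real.norm_of_nonneg (by linarith)]
  have hl : ℓ y = t * ℓ y₀ + (1 - t) * ℓ y₁ := by simp [y]
  set μ := min (ℓ y₀ / p y₀) (ℓ y₁ / p y₁)
  have hμ : 0 ≤ μ := le_min (div_nonneg hℓ₀ h₀.le) (div_nonneg hℓ₁ h₁.le)
  have e0 : μ * p y₀ ≤ ℓ y₀ := (le_div_iff₀ h₀).mp (min_le_left _ _)
  have e1 : μ * p y₁ ≤ ℓ y₁ := (le_div_iff₀ h₁).mp (min_le_right _ _)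
  have e2 : μ * p y ≤ μ * (t * p y₀ + (1 - t) * p y₁) := mul_le_mul_of_nonneg_left hle hμ
  have e0' : t * (μ * p y₀) ≤ t * ℓ y₀ := mul_le_mul_of_nonneg_left e0 ht₀.le
  have e1' : (1 - t) * (μ * p y₁) ≤ (1 - t) * ℓ y₁ := mul_le_mul_of_nonneg_left e1 (by linarith)
  refine ⟨(le_div_iff₀ hy).mpr (by nlinarith), fun he => ?_⟩
  rw [div_eq_iff hy.ne'] at he
  have h0 : μ = ℓ y₀ / p y₀ := by
    rw [eq_div_iff h₀.ne']
    by_contra hne
    have : t * (μ * p y₀) < t * ℓ y₀ := mul_lt_mul_of_pos_left (lt_of_le_of_ne e0 hne) ht₀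
    nlinarith
  have h1 : μ = ℓ y₁ / p y₁ := by
    rw [eq_div_iff h₁.ne']
    by_contra hne
    have : (1 - t) * (μ * p y₁) < (1 - t) * ℓ y₁ := mul_lt_mul_of_pos_left (lt_of_le_of_ne e1 hne) (by linarith)
    nlinarith
  rw [← h0, ← h1]

end Groth.Agent.S19136
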