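import Groth.Statements.S19138
import Mathlib
-- import your own Groth.Agent.* helpers here

set_option autoImplicit false
open Instab

namespace Groth.Agent.S19138

open Matrix in
theorem exists_retraction_pos {n : ℕ} (y : Fin n → ℝ) (hy : ∀ i, 0 ≤ y i) :
    ∃ φ : ℝ →ₗ[ℚ] ℚ, φ 1 = 1 ∧ ∀ i, y i ≠ 0 → 0 < φ (y i) := by
  classical
  let V : Submodule ℚ ℝ := Submodule.span ℚ (Set.range y ∪ {1})
  haveI : Module.Finite ℚ V := Module.Finite.span_of_finite ℚ (((Set.finite_range y)).union (Set.finite_singleton 1))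
  let b := Module.finBasis ℚ V
  let one : V := ⟨1, Submodule.subset_span (Or.inr rfl)⟩
  let yy : Fin n → V := fun i => ⟨y i, Submodule.subset_span (Or.inl ⟨i, rfl⟩)⟩
  let F : V → (Fin (Module.finrank ℚ V) → ℝ) → ℝ := fun v q => ∑ j, (b.repr v j : ℝ) * q j
  have hF : ∀ v : V, F v (fun j => ((b j : V) : ℝ)) = (v : ℝ) := by
    intro v
    have h := congrArg Subtype.val (b.sum_repr v)
    simp only [Submodule.coe_sum, SetLike.val_smul, Rat.smul_def] at h
    exact h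
  have hc : ∀ v, Continuous (F v) := fun v => by fun_prop
  let U : Set (Fin (Module.finrank ℚ V) → ℝ) :=
    {q | 0 < F one q ∧ ∀ i, y i ≠ 0 → 0 < F (yy i) q}
  have hU : IsOpen U := by
    have : U = {q | 0 < F one q} ∩ ⋂ i ∈ {i | y i ≠ 0}, {q | 0 < F (yy i) q} := by
      ext q; simp [U]
    rw [this]
    exact (isOpen_lt continuous_const (hc _)).inter
      ((Set.toFinite _).isOpen_biInter fun i _ => isOpen_lt continuous_const (hc _))
  have hne : U.Nonempty := by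
    refine ⟨fun j => ((b j : V) : ℝ), ?_, fun i hi => ?_⟩
    · rw [hF]; exact one_pos
    · rw [hF]; exact lt_of_le_of_ne (hy i) (Ne.symm hi)
  obtain ⟨q, hq1, hq2⟩ := (DenseRange.piMap fun _ : Fin (Module.finrank ℚ V) =>
    Rat.denseRange_cast (𝕜 := ℝ)).exists_mem_open hU hne
  let φ₀ : V →ₗ[ℚ] ℚ := b.constr ℚ q
  have hφ₀ : ∀ v : V, (φ₀ v : ℝ) = F v (Pi.map (fun _ : Fin (Module.finrank ℚ V) => ((↑) : ℚ → ℝ)) q) := by
    intro v
    simp [φ₀, F, Module.Basis.constr_apply_fintype, Pi.map, Module.Basis.equivFun_apply]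
  obtain ⟨φ, hφ⟩ := LinearMap.exists_extend ((φ₀ one)⁻¹ • φ₀)
  have hval : ∀ v : V, φ (v : ℝ) = (φ₀ one)⁻¹ * φ₀ v := fun v => by
    have := LinearMap.congr_fun hφ v
    simpa using this
  have h1 : 0 < φ₀ one := by
    have : (0 : ℝ) < (φ₀ one : ℝ) := by rw [hφ₀]; exact hq1
    exact_mod_cast this
  refine ⟨φ, ?_, fun i hi => ?_⟩
  · exact (hval one).trans (inv_mul_cancel₀ h1.ne')
  · have h2 : (0 : ℝ) < (φ₀ (yy i) : ℝ) := by rw [hφ₀]; exact hq2 i hi
    rw [show y i = ((yy i : V) : ℝ) from rfl, hval]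
    exact mul_pos (inv_pos.2 h1) (by exact_mod_cast h2)

open Matrix

/-- Let ℓ ∈ ℚⁿ and let B be a rational n × n matrix whose real quadratic form q(y) = y · (B y) is
non-negative on ℝⁿ and positive at every non-zero point of the non-negative orthant. If ℓ · y > 0 at
some point of the orthant, then the function ℓ · y / √q(y) on the non-zero points of the orthant
attains its maximum at a point with rational coordinates. (The published lemma says that the
numerical invariant attached to a rational degree-two class and such a norm on graded points attains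
its maximum on each rational simplex at a rational point whenever it is positive somewhere on that
simplex; on one rational simplex that invariant is this function, so this is what is asked there.
The case of a piecewise rational linear norm is not stated here.) -/
theorem result (n : ℕ) (ℓ : Fin n → ℚ)
    (B : Matrix (Fin n) (Fin n) ℚ)
    (hnn : ∀ y : Fin n → ℝ, 0 ≤ y ⬝ᵥ (B.map (fun r : ℚ => (r : ℝ))) *ᵥ y)
    (hpos : ∀ y : Fin n → ℝ, (∀ i, 0 ≤ y i) → y ≠ 0 → 0 < y ⬝ᵥ (B.map (fun r : ℚ => (r : ℝ))) *ᵥ y)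
    (hℓ : ∃ y : Fin n → ℝ, (∀ i, 0 ≤ y i) ∧ 0 < (fun i => (ℓ i : ℝ)) ⬝ᵥ y) :
    ∃ x : Fin n → ℚ, (∀ i, 0 ≤ x i) ∧ x ≠ 0 ∧
      ∀ y : Fin n → ℝ, (∀ i, 0 ≤ y i) → y ≠ 0 →
        (fun i => (ℓ i : ℝ)) ⬝ᵥ y / Real.sqrt (y ⬝ᵥ (B.map (fun r : ℚ => (r : ℝ))) *ᵥ y) ≤
          (fun i => (ℓ i : ℝ)) ⬝ᵥ (fun i => (x i : ℝ)) /
            Real.sqrt ((fun i => (x i : ℝ)) ⬝ᵥ (B.map (fun r : ℚ => (r : ℝ))) *ᵥ (fun i => (x i : ℝ))) := by
  obtain ⟨y₀, hy₀, hly₀⟩ := hℓ
  set L : Fin n → ℝ := fun i => (ℓ i : ℝ) with hL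
  set C : Matrix (Fin n) (Fin n) ℝ := B.map (fun r : ℚ => (r : ℝ)) with hC
  -- the maximiser on the simplex
  let f : (Fin n → ℝ) → ℝ := fun y => L ⬝ᵥ y / Real.sqrt (y ⬝ᵥ C *ᵥ y)
  let K : Set (Fin n → ℝ) := stdSimplex ℝ (Fin n)
  have hsum : ∀ y : Fin n → ℝ, (∀ i, 0 ≤ y i) → y ≠ 0 → 0 < ∑ i, y i := by
    intro y hy hne
    obtain ⟨i, hi⟩ := Function.ne_iff.1 hne
    exact lt_of_lt_of_le (lt_of_le_of_ne (hy i) (Ne.symm hi))
      (Finset.single_le_sum (fun j _ => hy j) (Finset.mem_univ i))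
  have hy₀ne : y₀ ≠ 0 := by rintro rfl; simp at hly₀
  have hhom : ∀ (c : ℝ) (y : Fin n → ℝ), 0 < c → f (c • y) = f y := by
    intro c y hc
    simp only [f, dotProduct_smul, Matrix.mulVec_smul, smul_dotProduct, smul_eq_mul]
    rw [← mul_assoc, ← sq, Real.sqrt_mul (sq_nonneg c), Real.sqrt_sq hc.le]
    rw [mul_div_mul_left _ _ hc.ne']
  have hnorm : ∀ y : Fin n → ℝ, (∀ i, 0 ≤ y i) → y ≠ 0 → (∑ i, y i)⁻¹ • y ∈ K := by
    intro y hy hne
    have := hsum y hy hne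
    refine ⟨fun i => mul_nonneg (inv_nonneg.2 this.le) (hy i), ?_⟩
    simp only [Pi.smul_apply, smul_eq_mul, ← Finset.mul_sum]
    exact inv_mul_cancel₀ this.ne'
  have hKpos : ∀ y ∈ K, 0 < y ⬝ᵥ C *ᵥ y := by
    intro y hy
    refine hpos y hy.1 ?_
    rintro rfl
    simpa using hy.2
  have hcont : ContinuousOn f K := by
    refine ContinuousOn.div (Continuous.continuousOn (continuous_const.dotProduct continuous_id)) ?_ ?_
    · exact (Real.continuous_sqrt.comp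
        (continuous_id.dotProduct (Continuous.matrix_mulVec continuous_const continuous_id))).continuousOn
    · intro y hy
      exact (Real.sqrt_pos.2 (hKpos y hy)).ne'
  obtain ⟨ys, hys, hmax⟩ := (isCompact_stdSimplex ℝ (Fin n)).exists_isMaxOn
    ⟨_, hnorm y₀ hy₀ hy₀ne⟩ hcont
  have hbest : ∀ y : Fin n → ℝ, (∀ i, 0 ≤ y i) → y ≠ 0 → f y ≤ f ys := by
    intro y hy hne
    rw [← hhom _ y (inv_pos.2 (hsum y hy hne))]
    exact hmax (hnorm y hy hne)
  have hlys : 0 < L ⬝ᵥ ys := by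
    have h1 : 0 < f y₀ := div_pos hly₀ (Real.sqrt_pos.2 (hpos y₀ hy₀ hy₀ne))
    have h2 := lt_of_lt_of_le h1 (hbest y₀ hy₀ hy₀ne)
    by_contra h
    exact absurd h2 (not_lt.2 (div_nonpos_of_nonpos_of_nonneg (not_lt.1 h) (Real.sqrt_nonneg _)))
  -- normalise
  obtain ⟨y, hy, hly, hymax⟩ : ∃ y : Fin n → ℝ, (∀ i, 0 ≤ y i) ∧ L ⬝ᵥ y = 1 ∧
      ∀ z : Fin n → ℝ, (∀ i, 0 ≤ z i) → z ≠ 0 → f z ≤ f y := by
    refine ⟨(L ⬝ᵥ ys)⁻¹ • ys, fun i => mul_nonneg (inv_nonneg.2 hlys.le) (hys.1 i), ?_, ?_⟩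
    · rw [dotProduct_smul, smul_eq_mul, inv_mul_cancel₀ hlys.ne']
    · intro z hz hzne
      rw [hhom _ _ (inv_pos.2 hlys)]
      exact hbest z hz hzne
  have hyne : y ≠ 0 := by rintro rfl; simp at hly
  have hqy := hpos y hy hyne
  -- first order conditions
  have hfoc : ∀ i, y i ≠ 0 → (C *ᵥ y) i + (y ᵥ* C) i = 2 * (y ⬝ᵥ C *ᵥ y) * L i := by
    intro i hi
    let d : Fin n → ℝ := Pi.single i 1 - L i • y
    have hld : L ⬝ᵥ d = 0 := by
      simp [d, dotProduct_sub, dotProduct_smul, hly, dotProduct_single]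
    have hsupp : ∀ j, y j = 0 → d j = 0 := by
      intro j hj
      have : j ≠ i := fun e => hi (e ▸ hj)
      simp [d, hj, Pi.single_eq_of_ne this]
    have hev : ∀ᶠ t in nhds (0 : ℝ), ∀ j, 0 ≤ (y + t • d) j := by
      rw [Filter.eventually_all]
      intro j
      by_cases hj : y j = 0
      · simp [hj, hsupp j hj]
      · have h1 : Continuous fun t : ℝ => (y + t • d) j := by
          simp only [Pi.add_apply, Pi.smul_apply, smul_eq_mul]; fun_prop
        have h2 : 0 < (y + (0 : ℝ) • d) j := by simpa using lt_of_le_of_ne (hy j) (Ne.symm hj)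
        exact (h1.continuousAt.eventually (lt_mem_nhds h2)).mono fun t ht => ht.le
    let q : ℝ → ℝ := fun t => (y + t • d) ⬝ᵥ C *ᵥ (y + t • d)
    have hmin : IsLocalMin q 0 := by
      filter_upwards [hev] with t ht
      have hl1 : L ⬝ᵥ (y + t • d) = 1 := by simp [dotProduct_add, dotProduct_smul, hld, hly]
      have hne : y + t • d ≠ 0 := fun e => by rw [e] at hl1; simp at hl1
      have h := hymax _ ht hne
      simp only [f, hl1, hly] at h
      have hq := hpos _ ht hne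
      have h' := (one_div_le_one_div (Real.sqrt_pos.2 hq) (Real.sqrt_pos.2 hqy)).1 h
      have := (Real.sqrt_le_sqrt_iff hq.le).1 h'
      simpa [q] using this
    have hqt : q = fun t : ℝ => y ⬝ᵥ C *ᵥ y + t * (d ⬝ᵥ C *ᵥ y + y ⬝ᵥ C *ᵥ d)
        + t ^ 2 * (d ⬝ᵥ C *ᵥ d) := by
      funext t
      simp only [q, Matrix.mulVec_add, Matrix.mulVec_smul, add_dotProduct, dotProduct_add,
        smul_dotProduct, dotProduct_smul, smul_eq_mul]
      ring
    have hder : HasDerivAt q (d ⬝ᵥ C *ᵥ y + y ⬝ᵥ C *ᵥ d) 0 := by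
      rw [hqt]
      have := (((hasDerivAt_id (0 : ℝ)).mul_const (d ⬝ᵥ C *ᵥ y + y ⬝ᵥ C *ᵥ d)).const_add
        (y ⬝ᵥ C *ᵥ y)).add (((hasDerivAt_id (0 : ℝ)).pow 2).mul_const (d ⬝ᵥ C *ᵥ d))
      exact this.congr_deriv (by simp)
    have h0 := hmin.hasDerivAt_eq_zero hder
    simp only [d, sub_dotProduct, smul_dotProduct, Matrix.mulVec_sub, dotProduct_sub,
      Matrix.mulVec_smul, dotProduct_smul, single_dotProduct, one_mul, smul_eq_mul] at h0
    rw [Matrix.dotProduct_mulVec y C (Pi.single i 1), dotProduct_single, mul_one] at h0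
    linarith
  -- a rational point near `y` satisfying the same equations
  obtain ⟨φ, hφ1, hφpos⟩ : ∃ φ : ℝ →ₗ[ℚ] ℚ, φ 1 = 1 ∧ ∀ i, y i ≠ 0 → 0 < φ (y i) :=
    exists_retraction_pos y hy
  let z : Fin n → ℚ := fun i => φ (y i)
  have hφc : ∀ (r : ℚ) (x : ℝ), φ ((r : ℝ) * x) = r * φ x := fun r x => by
    rw [← Rat.smul_def, map_smul, smul_eq_mul]
  have hφr : ∀ r : ℚ, φ (r : ℝ) = r := fun r => by
    have := hφc r 1
    rwa [mul_one, hφ1, mul_one] at this
  have hz0 : ∀ i, 0 ≤ z i := by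
    intro i
    by_cases hi : y i = 0
    · simp [z, hi]
    · exact (hφpos i hi).le
  have hzsupp : ∀ i, y i = 0 → (z i : ℝ) = 0 := fun i hi => by simp [z, hi]
  have hlz : L ⬝ᵥ (fun i => (z i : ℝ)) = 1 := by
    have h1 : φ (∑ i, (ℓ i : ℝ) * y i) = φ 1 := congrArg φ hly
    rw [map_sum, hφ1] at h1
    simp only [hφc] at h1
    have := congrArg (fun r : ℚ => (r : ℝ)) h1
    simpa [dotProduct, hL, z] using this
  set t' : ℚ := φ (2 * (y ⬝ᵥ C *ᵥ y)) with ht'
  have hfocz : ∀ i, y i ≠ 0 →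
      (C *ᵥ fun j => (z j : ℝ)) i + ((fun j => (z j : ℝ)) ᵥ* C) i = (t' : ℝ) * L i := by
    intro i hi
    have h1 := congrArg φ (hfoc i hi)
    simp only [Matrix.mulVec, Matrix.vecMul, dotProduct, hC, Matrix.map_apply, hL] at h1
    rw [map_add, map_sum, map_sum, mul_comm (2 * _) ((ℓ i : ℝ)), hφc] at h1
    simp only [mul_comm (y _) ((B _ _ : ℝ)), hφc] at h1
    have h2 := congrArg (fun r : ℚ => (r : ℝ)) h1
    push_cast at h2
    simp only [Matrix.mulVec, Matrix.vecMul, dotProduct, hC, Matrix.map_apply, hL, z, ht',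
      mul_comm ((φ (y _) : ℚ) : ℝ)]
    rw [h2, mul_comm]
  -- pairing the two systems of equations
  have hpair : ∀ (u : Fin n → ℝ), (∀ i, y i = 0 → u i = 0) → ∀ (w : Fin n → ℝ) (t : ℝ),
      (∀ i, y i ≠ 0 → (C *ᵥ w) i + (w ᵥ* C) i = t * L i) →
      u ⬝ᵥ C *ᵥ w + w ⬝ᵥ C *ᵥ u = t * (L ⬝ᵥ u) := by
    intro u hu w t h
    rw [Matrix.dotProduct_mulVec w C u, dotProduct_comm (w ᵥ* C) u, dotProduct, dotProduct,
      dotProduct, ← Finset.sum_add_distrib, Finset.mul_sum]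
    refine Finset.sum_congr rfl fun i _ => ?_
    by_cases hi : y i = 0
    · simp [hu i hi]
    · rw [← mul_add, h i hi]; ring
  have e1 := hpair y (fun i hi => hi) _ _ hfocz
  have e2 := hpair _ hzsupp _ _ hfoc
  have e3 := hpair _ hzsupp _ _ hfocz
  rw [hly] at e1
  rw [hlz] at e2 e3
  have hqz : (fun i => (z i : ℝ)) ⬝ᵥ C *ᵥ (fun i => (z i : ℝ)) = y ⬝ᵥ C *ᵥ y := by linarith
  refine ⟨z, hz0, fun e => ?_, fun v hv hvne => ?_⟩
  · rw [e] at hlz; simp [dotProduct] at hlz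
  · have := hymax v hv hvne
    simp only [f, hly] at this
    show L ⬝ᵥ v / Real.sqrt (v ⬝ᵥ C *ᵥ v) ≤ _
    rw [hlz, hqz]
    exact this

end Groth.Agent.S19138
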