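import Groth.Agent.TwConstEtLib.Components
import Groth.Agent.HomRepLib.LocalRep
import Groth.Agent.EtFound.Descent
import Groth.Agent.S1963
import Mathlib.AlgebraicGeometry.ValuativeCriterion
import Mathlib.AlgebraicGeometry.Morphisms.SchemeTheoreticallyDominant

/-!
# Quasi-isotrivial twisted constant schemes satisfy the valuative criterion
-/

set_option autoImplicit false
set_option linter.style.haveILetI false

universe u

open CategoryTheory CategoryTheory.Limits AlgebraicGeometry TopologicalSpace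

namespace Groth.Agent.TwConstVal5

set_option backward.isDefEq.respectTransparency.types false

open TwConstEtLib

variable {S : Scheme.{u}}

theorem isSeparated_hom (P : Over S) (hP : TwC.IsTwConst TwC.Topology.etale P) : IsSeparated P.hom := by
  haveI := EtFound.fpqc_isSeparated.{u}
  choose S' f hf ht hI using hP
  haveI : ∀ t, Etale (f t) := hf
  let U : S → S.Opens := fun t => ⟨Set.range (f t), (f t).isOpenMap.isOpen_range⟩
  refine (IsZariskiLocalAtTarget.iff_of_iSup_eq_top (P := @IsSeparated) U ?_).2 fun t => ?_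
  · exact top_le_iff.1 fun x _ => Opens.mem_iSup.2 ⟨x, ht x⟩
  · obtain ⟨I, ⟨e⟩⟩ := hI t
    let f' : S' t ⟶ (U t : Scheme.{u}) := IsOpenImmersion.lift (U t).ι (f t) (by rw [Scheme.Opens.range_ι]; rfl)
    have hf' : f' ≫ (U t).ι = f t := IsOpenImmersion.lift_fac _ _ _
    haveI : Etale f' := by
      haveI : Etale (f' ≫ (U t).ι) := hf'.symm ▸ hf t
      exact Etale.of_comp f' (U t).ι
    haveI : Surjective f' := ⟨fun x => by
      obtain ⟨y, hy⟩ := x.2
      exact ⟨y, (U t).ι.isOpenEmbedding.injective (by rw [← Scheme.Hom.comp_apply, hf']; exact hy)⟩⟩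
    haveI : IsSeparated (Sigma.desc fun _ : I => 𝟙 (S' t)) := HomRepLib.isSeparated_const I
    haveI : IsSeparated (pullback.snd P.hom (f t)) := by
      have h : e.hom.left ≫ (Sigma.desc fun _ : I => 𝟙 (S' t)) = pullback.snd P.hom (f t) := Over.w e.hom
      rw [← h]
      haveI : IsIso e.hom.left := inferInstanceAs (IsIso ((Over.forget _).map e.hom))
      infer_instance
    have hsq : IsPullback (pullback.snd (P.hom ∣_ U t) f') (pullback.fst (P.hom ∣_ U t) f') f' (P.hom ∣_ U t) :=
      (IsPullback.of_hasPullback _ _).flip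
    refine MorphismProperty.of_isPullback_of_descendsAlong
      (Q := (@Surjective ⊓ @Flat ⊓ @LocallyOfFinitePresentation : MorphismProperty Scheme.{u})) hsq
      ⟨⟨inferInstance, inferInstance⟩, inferInstance⟩ ?_
    have hpaste : IsPullback (pullback.fst (P.hom ∣_ U t) f' ≫ (P.hom ⁻¹ᵁ U t).ι) (pullback.snd (P.hom ∣_ U t) f')
        P.hom (f' ≫ (U t).ι) :=
      (IsPullback.of_hasPullback _ _).paste_horiz (isPullback_morphismRestrict P.hom (U t)).flip
    rw [hf'] at hpaste
    rw [← hpaste.isoPullback_hom_snd]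
    infer_instance

theorem exists_generic (R B : Type u) [CommRing R] [IsDomain R] [CommRing B] [IsDomain B] [Algebra R B]
    (K : Type u) [Field K] [Algebra R K] [IsFractionRing R K] (hinj : Function.Injective (algebraMap R B))
    (hunit : ∀ c : B, c ≠ 0 → ∃ (a : R) (v : Bˣ), c = v * algebraMap R B a) :
    ∃ (L : CommRingCat.{u}) (β : CommRingCat.of B ⟶ L) (γ : CommRingCat.of K ⟶ L),
      ConnectedSpace ↥(Spec L) ∧
      IsPushout (CommRingCat.ofHom (algebraMap R B)) (CommRingCat.ofHom (algebraMap R K)) β γ := by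
  have hinj' : Function.Injective ((algebraMap B (FractionRing B)).comp (algebraMap R B)) := by
    rw [RingHom.coe_comp]
    exact (IsFractionRing.injective B (FractionRing B)).comp hinj
  let g : K →+* FractionRing B := IsFractionRing.lift hinj'
  have hg : g.comp (algebraMap R K) = (algebraMap B (FractionRing B)).comp (algebraMap R B) :=
    by
    ext r
    simp [g, IsFractionRing.lift_algebraMap]
  haveI : IsLocalization ((nonZeroDivisors R).map (algebraMap R B)) (FractionRing B) := by
    refine (IsLocalization.iff_of_le_of_exists_dvd _ (nonZeroDivisors B) ?_ ?_).2 inferInstance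
    · rintro _ ⟨r, hr, rfl⟩
      exact mem_nonZeroDivisors_of_ne_zero ((map_ne_zero_iff _ hinj).2 (nonZeroDivisors.ne_zero hr))
    · intro c hc
      obtain ⟨a, v, hav⟩ := hunit c (nonZeroDivisors.ne_zero hc)
      refine ⟨algebraMap R B a, ⟨a, mem_nonZeroDivisors_of_ne_zero fun ha => nonZeroDivisors.ne_zero hc ?_, rfl⟩, ?_⟩
      · rw [hav, ha, map_zero, mul_zero]
      · rw [hav]
        exact Units.mul_left_dvd.2 dvd_rfl
  exact ⟨CommRingCat.of (FractionRing B), CommRingCat.ofHom (algebraMap _ _), CommRingCat.ofHom g,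
    inferInstanceAs (ConnectedSpace (PrimeSpectrum (FractionRing B))),
    CommRingCat.isPushout_of_isLocalization (algebraMap R B) g hg (nonZeroDivisors R)⟩

theorem exists_local_algebra (R : Type u) [CommRing R] [IsDomain R] [ValuationRing R] (K : Type u) [Field K]
    [Algebra R K] [IsFractionRing R K] (B₀ : Type u) [CommRing B₀] [Algebra R B₀] [Algebra.Etale R B₀]
    (m : Ideal B₀) [m.IsPrime] (hm : m.comap (algebraMap R B₀) = IsLocalRing.maximalIdeal R) :
    ∃ (B L : CommRingCat.{u}) (α : CommRingCat.of R ⟶ B) (β : B ⟶ L) (γ : CommRingCat.of K ⟶ L)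
      (ε : CommRingCat.of B₀ ⟶ B), CommRingCat.ofHom (algebraMap R B₀) ≫ ε = α ∧
      Flat (Spec.map α) ∧ Surjective (Spec.map α) ∧ ConnectedSpace ↥(Spec L) ∧
      IsPushout α (CommRingCat.ofHom (algebraMap R K)) β γ := by
  obtain ⟨hdom, -, hinj, hloc, hunit⟩ := S1963.result R B₀ m hm
  haveI : Module.Flat R (Localization.AtPrime m) := Module.Flat.trans R B₀ _
  haveI : Module.FaithfullyFlat R (Localization.AtPrime m) :=
    @Module.FaithfullyFlat.of_flat_of_isLocalHom R (Localization.AtPrime m) _ _ _ _ _ _ hloc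
  obtain ⟨L, β, γ, hL, hpo⟩ := @exists_generic R (Localization.AtPrime m) _ _ _ hdom _ K _ _ _ hinj hunit
  refine ⟨CommRingCat.of (Localization.AtPrime m), L,
    CommRingCat.ofHom (algebraMap R (Localization.AtPrime m)), β, γ,
    CommRingCat.ofHom (algebraMap B₀ (Localization.AtPrime m)), ?_, ?_, ?_, hL, hpo⟩
  · rw [← CommRingCat.ofHom_comp, ← IsScalarTower.algebraMap_eq]
  · rw [HasRingHomProperty.Spec_iff (P := @Flat)]
    exact RingHom.flat_algebraMap_iff.2 inferInstance
  · exact ⟨PrimeSpectrum.comap_surjective_of_faithfullyFlat⟩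

set_option maxHeartbeats 1000000 in
/-- An étale cover of a valuative base refined to a local one. -/
theorem exists_local_etale {S' : Scheme.{u}} (f : S' ⟶ S) [Etale f] (R : Type u) [CommRing R] [IsDomain R]
    [ValuationRing R] (K : Type u) [Field K] [Algebra R K] [IsFractionRing R K] (b : Spec (CommRingCat.of R) ⟶ S)
    (h : b (IsLocalRing.closedPoint R) ∈ Set.range f) :
    ∃ (B L : CommRingCat.{u}) (α : CommRingCat.of R ⟶ B) (β : B ⟶ L) (γ : CommRingCat.of K ⟶ L) (t : Spec B ⟶ S'),
      Flat (Spec.map α) ∧ Surjective (Spec.map α) ∧ ConnectedSpace ↥(Spec L) ∧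
      IsPushout α (CommRingCat.ofHom (algebraMap R K)) β γ ∧ t ≫ f = Spec.map α ≫ b := by
  obtain ⟨z, hz⟩ := h
  obtain ⟨w, hw1, -⟩ := Scheme.Pullback.exists_preimage_pullback (f := b) (g := f)
    (IsLocalRing.closedPoint R) z hz.symm
  obtain ⟨W, hW, hwW, -⟩ := exists_isAffineOpen_mem_and_subset (x := w) (U := (⊤ : (pullback b f).Opens)) trivial
  let q : Spec Γ(pullback b f, W) ⟶ Spec (CommRingCat.of R) := hW.fromSpec ≫ pullback.fst b f
  obtain ⟨α₀, hα₀⟩ : ∃ α₀, Spec.map α₀ = q := ⟨_, Spec.map_preimage q⟩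
  have het : α₀.hom.Etale := by
    rw [← HasRingHomProperty.Spec_iff (P := @Etale), hα₀]
    infer_instance
  obtain ⟨m, hm⟩ := (hW.range_fromSpec.ge hwW : w ∈ Set.range hW.fromSpec)
  letI : Algebra R Γ(pullback b f, W) := α₀.hom.toAlgebra
  haveI : Algebra.Etale R Γ(pullback b f, W) := het
  have hcomap : (m.asIdeal).comap (algebraMap R Γ(pullback b f, W)) = IsLocalRing.maximalIdeal R := by
    have : Spec.map α₀ m = IsLocalRing.closedPoint R := by
      rw [hα₀]
      simp only [q, Scheme.Hom.comp_apply, hm]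
      exact hw1
    exact congrArg PrimeSpectrum.asIdeal this
  obtain ⟨B, L, α, β, γ, ε, hε, h1, h2, h3, h4⟩ := exists_local_algebra R K Γ(pullback b f, W) m.asIdeal hcomap
  refine ⟨B, L, α, β, γ, Spec.map ε ≫ hW.fromSpec ≫ pullback.snd b f, h1, h2, h3, h4, ?_⟩
  have : α₀ ≫ ε = α := hε
  rw [Category.assoc, Category.assoc, ← pullback.condition, ← this, Spec.map_comp, hα₀]
  simp only [q, Category.assoc]

set_option maxHeartbeats 1000000 in
set_option synthInstance.maxHeartbeats 80000 in
theorem valuativeCriterion (X : Over S) (hX : TwC.IsTwConst TwC.Topology.etale X) : ValuativeCriterion X.hom := by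
  haveI := isSeparated_hom X hX
  refine ValuativeCriterion.iff.2 ⟨fun Q => ?_, IsSeparated.valuativeCriterion X.hom⟩
  obtain ⟨S', f, hf, ht, I, ⟨e⟩⟩ := hX (Q.i₂ (IsLocalRing.closedPoint Q.R))
  haveI := hf
  obtain ⟨B, L, α, β, γ, t, hflat, hsurj, hconn, hpo, ht⟩ := exists_local_etale f Q.R Q.K Q.i₂ ht
  haveI := hflat
  haveI := hsurj
  haveI := hconn
  let j := Spec.map (CommRingCat.ofHom (algebraMap Q.R Q.K))
  let q := Spec.map α
  let x : Spec L ⟶ X.left := Spec.map γ ≫ Q.i₁
  have hsq : IsPullback (Spec.map γ) (Spec.map β) j q := (isPullback_SpecMap_of_isPushout _ _ _ _ hpo).flip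
  obtain ⟨m, hm⟩ := exists_sect X e (Spec.map β ≫ t) x (by
    simp only [x, Category.assoc, Q.commSq.w, ht]
    rw [← Category.assoc, hsq.w, Category.assoc])
  let l' : Spec B ⟶ X.left := t ≫ sect X e m
  have hl' : l' ≫ X.hom = q ≫ Q.i₂ := by rw [Category.assoc, sect_hom, ht]
  have hagree : Spec.map β ≫ l' = Spec.map γ ≫ Q.i₁ := by
    rw [← Category.assoc, ← hm]
  haveI : IsSchemeTheoreticallyDominant j := by
    haveI : IsDominant j := by
      rw [isDominant_iff, DenseRange]
      rw [dense_iff_closure_eq, Set.eq_univ_iff_forall]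
      intro z
      have h0 : j (IsLocalRing.closedPoint Q.K) = ⟨⊥, Ideal.isPrime_bot⟩ := by
        refine PrimeSpectrum.ext ?_
        show (IsLocalRing.maximalIdeal Q.K).comap (algebraMap Q.R Q.K) = ⊥
        rw [IsLocalRing.maximalIdeal_eq_bot, ← RingHom.ker_eq_comap_bot,
          (RingHom.injective_iff_ker_eq_bot _).1 (IsFractionRing.injective Q.R Q.K)]
      have hsp : (⟨⊥, Ideal.isPrime_bot⟩ : PrimeSpectrum Q.R) ⤳ z :=
        (PrimeSpectrum.le_iff_specializes _ _).1 (bot_le (a := z.asIdeal))
      have h5 : ({(⟨⊥, Ideal.isPrime_bot⟩ : PrimeSpectrum Q.R)} : Set ↥(Spec (CommRingCat.of Q.R))) ⊆ Set.range j :=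
        Set.singleton_subset_iff.2 ⟨_, h0⟩
      exact closure_mono h5 (specializes_iff_mem_closure.1 hsp)
    exact IsSchemeTheoreticallyDominant.of_isDominant j
  have key : pullback.fst q q ≫ l' = pullback.snd q q ≫ l' := by
    let W := pullback q q
    let w : W ⟶ Spec (CommRingCat.of Q.R) := pullback.fst q q ≫ q
    haveI : Flat w := inferInstance
    haveI : IsSeparated X.hom := inferInstance
    let i := pullback.snd j w
    have hi : IsSchemeTheoreticallyDominant i := inferInstance
    have agree : ∀ (g : W ⟶ Spec B), g ≫ q = w → i ≫ g ≫ l' = pullback.fst j w ≫ Q.i₁ := by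
      intro g hg
      let k := hsq.lift (pullback.fst j w) (i ≫ g) (by rw [Category.assoc, hg]; exact pullback.condition)
      have h1 : k ≫ Spec.map γ = pullback.fst j w := hsq.lift_fst _ _ _
      have h2 : k ≫ Spec.map β = i ≫ g := hsq.lift_snd _ _ _
      rw [← Category.assoc, ← h2, Category.assoc, hagree, ← Category.assoc, h1]
    let X' : Over S := Over.mk ((pullback.fst q q ≫ l') ≫ X.hom)
    let f₁ : X' ⟶ X := Over.homMk (pullback.fst q q ≫ l')
    let f₂ : X' ⟶ X := Over.homMk (pullback.snd q q ≫ l') (by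
      show _ = (pullback.fst q q ≫ l') ≫ X.hom
      simp only [Category.assoc, hl']
      rw [← Category.assoc, ← pullback.condition, Category.assoc])
    let U' : Over S := Over.mk (i ≫ (pullback.fst q q ≫ l') ≫ X.hom)
    let i' : U' ⟶ X' := Over.homMk i
    have hi' : i' ≫ f₁ = i' ≫ f₂ := by
      ext1
      show i ≫ pullback.fst q q ≫ l' = i ≫ pullback.snd q q ≫ l'
      rw [agree _ rfl, agree _ pullback.condition.symm]
    haveI : IsClosedImmersion (equalizer.ι f₁ f₂).left := inferInstance
    haveI : IsIso (equalizer.ι f₁ f₂).left := by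
      rw [IsClosedImmersion.isIso_iff_ker_eq_bot, eq_bot_iff]
      have h3 : (equalizer.lift i' hi').left ≫ (equalizer.ι f₁ f₂).left = i := by
        rw [← Over.comp_left, equalizer.lift_ι]; rfl
      calc _ = (⊥ : Scheme.IdealSheafData _).map (equalizer.ι f₁ f₂).left := (by simp [Scheme.IdealSheafData.map_bot])
        _ ≤ ((equalizer.lift i' hi').left.ker).map (equalizer.ι f₁ f₂).left :=
            Scheme.IdealSheafData.map_mono _ bot_le
        _ = ((equalizer.lift i' hi').left ≫ (equalizer.ι f₁ f₂).left).ker := (Scheme.Hom.ker_comp _ _).symm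
        _ = ⊥ := by rw [h3]; exact i.ker_eq_bot
    rw [← cancel_epi (equalizer.ι f₁ f₂).left]
    exact congr($(equalizer.condition f₁ f₂).left)
  haveI : QuasiCompact q := inferInstance
  haveI : EffectiveEpi q := inferInstance
  let l : Spec (CommRingCat.of Q.R) ⟶ X.left := EffectiveEpi.desc q l' (fun g₁ g₂ h12 => by
    have := congrArg (pullback.lift g₁ g₂ h12 ≫ ·) key
    simpa only [← Category.assoc, pullback.lift_fst, pullback.lift_snd] using this)
  have hl : q ≫ l = l' := EffectiveEpi.fac q _ _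
  haveI : Epi q := inferInstance
  haveI : Epi (Spec.map γ) := by
    haveI : Flat (Spec.map γ) := MorphismProperty.of_isPullback hsq.flip inferInstance
    haveI : Surjective (Spec.map γ) := MorphismProperty.of_isPullback hsq.flip inferInstance
    infer_instance
  refine ⟨⟨⟨l, ?_, ?_⟩⟩⟩
  · rw [← cancel_epi (Spec.map γ), ← Category.assoc, hsq.w, Category.assoc, hl, hagree]
  · rw [← cancel_epi q, ← Category.assoc, hl, hl']

end Groth.Agent.TwConstVal5
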