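import Groth.Statements.S19145
import Groth.Agent.Quiet5.TwGeneric

set_option autoImplicit false
open CategoryTheory MonoidalCategory CartesianMonoidalCategory MonObj GrpObj AlgebraicGeometry
universe u
open TwC

namespace Groth.Agent.S19145

/-- Let S be an irreducible scheme whose local rings are all geometrically unibranch, η its generic
point, and X a quasi-isotrivial twisted constant S-scheme (etale-locally on S isomorphic to a
constant scheme). Then X is the disjoint union, over the points λ of the generic fibre X_η, of the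
closures X(λ) of λ: every point of X lies in the closure of exactly one such λ, each X(λ) is open
and closed in X and, as an open subscheme, is a finite etale cover of S (finite, etale and
surjective); and restricting a section of X ⟶ S to the generic point is a bijection from the
sections of X over S onto the sections of X_η over η. -/
theorem result {S : Scheme.{u}} [IrreducibleSpace S]
    (hS : ∀ s : S, CAlg2.IsGeomUnibranch (S.presheaf.stalk s))
    (X : Over S) (hX : TwC.IsTwConst TwC.Topology.etale X) :
    (∀ x : X.left, ∃! l : X.left, X.hom.base l = genericPoint S ∧ x ∈ closure ({l} : Set X.left)) ∧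
    (∀ l : X.left, X.hom.base l = genericPoint S →
      ∃ U : X.left.Opens, (U : Set X.left) = closure ({l} : Set X.left) ∧ IsClosed (U : Set X.left) ∧
        IsFinite (U.ι ≫ X.hom) ∧ Etale (U.ι ≫ X.hom) ∧ Surjective (U.ι ≫ X.hom)) ∧
    (∀ σ₁ σ₂ : S ⟶ X.left, σ₁ ≫ X.hom = 𝟙 S → σ₂ ≫ X.hom = 𝟙 S →
      S.fromSpecResidueField (genericPoint S) ≫ σ₁ = S.fromSpecResidueField (genericPoint S) ≫ σ₂ → σ₁ = σ₂) ∧
    (∀ τ : Spec (S.residueField (genericPoint S)) ⟶ X.left, τ ≫ X.hom = S.fromSpecResidueField (genericPoint S) →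
      ∃ σ : S ⟶ X.left, σ ≫ X.hom = 𝟙 S ∧ S.fromSpecResidueField (genericPoint S) ≫ σ = τ) := by
  haveI : Etale X.hom := TwConstEtLib.etale_hom X hX
  haveI : IsSeparated X.hom := TwConstVal5.isSeparated_hom X hX
  refine ⟨fun x => Quiet5.TwGeneric.existsUnique_generic X.hom hS x, fun l hl => ?_,
    fun σ₁ σ₂ h₁ h₂ h => Quiet5.TwGeneric.section_ext X.hom σ₁ σ₂ h₁ h₂ h,
    fun τ hτ => Quiet5.TwGeneric.exists_section X hX hS _ rfl τ hτ⟩
  obtain ⟨h1, h2, h3⟩ := Quiet5.TwGeneric.piece_props X hX l hl
    ⟨closure {l}, Quiet5.TwGeneric.isOpen_closure X.hom hS l hl⟩ rfl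
  exact ⟨_, rfl, isClosed_closure, h1, h2, h3⟩

end Groth.Agent.S19145
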