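import Groth.Statements.S19148
import Mathlib

set_option autoImplicit false
open scoped TensorProduct
universe u v
open FiltMod

namespace Groth.Agent.S19148

/-- In affine form, let R be a commutative ring, M a finitely generated projective R-module (a finite
locally free sheaf on Spec R), F₁ and F₂ direct summands of M and k ≥ 1. Then the images of F₁^{⊗k}
and F₂^{⊗k} in the k-th tensor power M^{⊗k} are equal if and only if F₁ = F₂. (The source states
this for local direct factors of a finite locally free sheaf on a scheme; equality of subsheaves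
being local, this is the affine case with global direct summands, to which it reduces.) -/
theorem result {R : Type u} [CommRing R] {M : Type v} [AddCommGroup M] [Module R M]
    [Module.Finite R M] [Module.Projective R M] (F₁ F₂ : Submodule R M)
    (h₁ : ∃ C : Submodule R M, IsCompl F₁ C) (h₂ : ∃ C : Submodule R M, IsCompl F₂ C) (k : ℕ) (hk : 1 ≤ k) :
    LinearMap.range (PiTensorProduct.map (R := R) (fun _ : Fin k => F₁.subtype)) =
      LinearMap.range (PiTensorProduct.map (R := R) (fun _ : Fin k => F₂.subtype)) ↔ F₁ = F₂ := by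
  classical
  refine ⟨fun h => ?_, fun h => by rw [h]⟩
  suffices H : ∀ G₁ G₂ : Submodule R M, (∃ C, IsCompl G₁ C) → (∃ C, IsCompl G₂ C) →
      LinearMap.range (PiTensorProduct.map (R := R) (fun _ : Fin k => G₁.subtype)) ≤
        LinearMap.range (PiTensorProduct.map (R := R) (fun _ : Fin k => G₂.subtype)) → G₁ ≤ G₂ from
    le_antisymm (H F₁ F₂ h₁ h₂ h.le) (H F₂ F₁ h₂ h₁ h.ge)
  clear h h₁ h₂
  intro G₁ G₂ ⟨C₁, hC₁⟩ ⟨C₂, hC₂⟩ hle
  let P : M →ₗ[R] G₁ := Submodule.linearProjOfIsCompl G₁ C₁ hC₁
  let q : M →ₗ[R] C₂ := Submodule.linearProjOfIsCompl C₂ G₂ hC₂.symm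
  have hPG : ∀ x : G₁, P x = x := fun x => Submodule.linearProjOfIsCompl_apply_left hC₁ x
  have : Module.Projective R G₁ := Module.Projective.of_split G₁.subtype P (LinearMap.ext hPG)
  have : Module.Finite R G₁ := Module.Finite.of_surjective P fun x => ⟨x, hPG x⟩
  obtain ⟨n, π, s, hπ, -, hπs⟩ := Module.Finite.exists_comp_eq_id_of_projective R G₁
  obtain ⟨k', rfl⟩ := Nat.exists_eq_add_of_le' hk
  intro x hx
  suffices hq : ∀ f : M →ₗ[R] R, f (q x : M) = 0 by
    have hqx : (q x : M) = 0 := Module.forall_dual_apply_eq_zero_iff R (q x : M) |>.mp hq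
    exact (Submodule.linearProjOfIsCompl_apply_eq_zero_iff hC₂.symm).mp (Subtype.ext hqx)
  intro f
  have key : ∀ (x : G₁) (g : Fin k' → (G₁ →ₗ[R] R)) (z : Fin k' → G₁),
      f (q x : M) * ∏ j, g j (z j) = 0 := by
    intro x g z
    let h : Fin (k' + 1) → (M →ₗ[R] R) := Fin.cases (f ∘ₗ C₂.subtype ∘ₗ q) (fun j => g j ∘ₗ P)
    let Φ := PiTensorProduct.lift ((MultilinearMap.mkPiAlgebra R (Fin (k' + 1)) R).compLinearMap h)
    have hΦ : ∀ v, Φ (PiTensorProduct.map (R := R) (fun _ : Fin (k' + 1) => G₂.subtype) v) = 0 := by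
      intro v
      induction v using PiTensorProduct.induction_on with
      | smul_tprod r v =>
        rw [map_smul, map_smul, PiTensorProduct.map_tprod, PiTensorProduct.lift.tprod]
        simp only [MultilinearMap.compLinearMap_apply, MultilinearMap.mkPiAlgebra_apply]
        rw [Fin.prod_univ_succ]
        have hq0 : q (v 0 : M) = 0 := Submodule.linearProjOfIsCompl_apply_right hC₂.symm (v 0)
        simp only [h, Fin.cases_zero, LinearMap.comp_apply, Submodule.coe_subtype]
        rw [hq0]
        simp
      | add a b ha hb => rw [map_add, map_add, ha, hb, add_zero]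
    obtain ⟨v, hv⟩ := hle ⟨PiTensorProduct.tprod R (Fin.cases x z), rfl⟩
    have h1 := (congrArg Φ hv).symm.trans (hΦ v)
    rw [PiTensorProduct.map_tprod, PiTensorProduct.lift.tprod] at h1
    simp only [MultilinearMap.compLinearMap_apply, MultilinearMap.mkPiAlgebra_apply] at h1
    rw [Fin.prod_univ_succ] at h1
    simpa [h, hPG] using h1
  have desc : ∀ (l : ℕ), l ≤ k' → ∀ (x : G₁) (g : Fin (k' - l) → (G₁ →ₗ[R] R)) (z : Fin (k' - l) → G₁),
      f (q x : M) * ∏ j, g j (z j) = 0 := by
    intro l
    induction l with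
    | zero => intro _; simpa using key
    | succ l ih =>
      intro hl x g z
      have hm : k' - l = (k' - (l + 1)) + 1 := by omega
      have hx : x = ∑ i, (s x i) • π (Pi.single i 1) := by
        conv_lhs => rw [← LinearMap.id_apply (R := R) (M := G₁) x, ← hπs, LinearMap.comp_apply, pi_eq_sum_univ' (s x)]
        simp [map_sum, map_smul]
      conv_lhs => rw [hx]
      simp only [map_sum, map_smul, Submodule.coe_sum, Submodule.coe_smul, smul_eq_mul, Finset.sum_mul]
      refine Finset.sum_eq_zero fun i _ => ?_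
      have := ih (by omega) (π (Pi.single i 1))
      rw [hm] at this
      have h2 := this (Fin.cons (LinearMap.proj i ∘ₗ s) g) (Fin.cons x z)
      rw [Fin.prod_univ_succ] at h2
      simp only [Fin.cons_zero, Fin.cons_succ, LinearMap.comp_apply, LinearMap.proj_apply] at h2
      linear_combination h2
  have := desc k' le_rfl ⟨x, hx⟩ (fun j => absurd j.2 (by omega)) (fun j => absurd j.2 (by omega))
  rw [Fintype.prod_eq_one _ (fun j => absurd j.2 (by omega)), mul_one] at this
  exact this

end Groth.Agent.S19148
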