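import Groth.Statements.S19149
import Mathlib.RingTheory.Smooth.Local
import Mathlib.RingTheory.Etale.Kaehler
import Mathlib.RingTheory.SurjectiveOnStalks
import Mathlib.RingTheory.Smooth.Locus
-- import your own Groth.Agent.* helpers here

set_option autoImplicit false
universe u
open GrpSch

namespace Groth.Agent.S19149
set_option maxHeartbeats 1000000

open scoped TensorProduct

/-- The derivation of `A` into an `A`-module on which `A` acts through the augmentation, attached
to a linear map on `J` killing `I * J`. -/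
lemma exists_derivation (R A : Type u) [CommRing R] [CommRing A] [Algebra R A]
    (ε : A →ₐ[R] R) (J : Ideal A) (hJI : J ≤ RingHom.ker ε)
    (h2 : J ⊓ RingHom.ker ε ^ 2 = RingHom.ker ε * J)
    (hproj : Module.Projective R
      (↥(RingHom.ker ε) ⧸ Submodule.comap (RingHom.ker ε).subtype (J ⊔ RingHom.ker ε ^ 2)))
    (M : Type u) [AddCommGroup M] [Module A M] [Module R M] [IsScalarTower R A M]
    (hM : ∀ (a : A) (m : M), a • m = ε a • m) (θ : ↥J →ₗ[A] M) :
    ∃ D : Derivation R A M, ∀ j : ↥J, D j = θ j := by
  classical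
  let I := RingHom.ker ε
  have hI : ∀ a : A, a ∈ I → ∀ m : M, a • m = 0 := fun a ha m => by
    rw [hM, show ε a = 0 from ha, zero_smul]
  have hθ : ∀ x ∈ I * J, ∀ h : x ∈ J, θ ⟨x, h⟩ = 0 := by
    intro x hx
    induction hx using Submodule.mul_induction_on' with
    | mem_mul_mem a ha b hb =>
      intro h
      have : (⟨a * b, h⟩ : ↥J) = a • ⟨b, hb⟩ := rfl
      rw [this, map_smul, hI a ha]
    | add x hx y hy ihx ihy =>
      intro h
      have hx' : x ∈ J := (Ideal.mul_le_inf (I := I) (J := J) hx).2
      have hy' : y ∈ J := (Ideal.mul_le_inf (I := I) (J := J) hy).2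
      have : (⟨x + y, h⟩ : ↥J) = ⟨x, hx'⟩ + ⟨y, hy'⟩ := rfl
      rw [this, map_add, ihx hx', ihy hy', _root_.add_zero]
  have huniq : ∀ j j' : ↥J, (j : A) - j' ∈ I ^ 2 → θ j = θ j' := by
    intro j j' h
    rw [← sub_eq_zero, ← map_sub]
    exact hθ _ (h2 ▸ ⟨(j - j').2, h⟩) (j - j').2
  let p : ↥I →ₗ[R] ↥I ⧸ Submodule.comap I.subtype (J ⊔ I ^ 2) :=
    (Submodule.mkQ _).restrictScalars R
  have hp : Function.Surjective p := by
    intro x
    obtain ⟨y, rfl⟩ := Submodule.Quotient.mk_surjective (Submodule.comap I.subtype (J ⊔ I ^ 2)) x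
    exact ⟨y, rfl⟩
  haveI : Module.Projective R (↥I ⧸ Submodule.comap I.subtype (J ⊔ I ^ 2)) := hproj
  obtain ⟨s, hs⟩ := Module.projective_lifting_property p LinearMap.id hp
  have hdec : ∀ i : ↥I, ∃ j : ↥J, ((i - s (p i) : ↥I) : A) - (j : A) ∈ I ^ 2 := by
    intro i
    have h0 : p (i - s (p i)) = 0 := by
      rw [map_sub, ← LinearMap.comp_apply p s, hs, LinearMap.id_apply, sub_self]
    have h1 : ((i - s (p i) : ↥I) : A) ∈ J ⊔ I ^ 2 := (Submodule.Quotient.mk_eq_zero (Submodule.comap I.subtype (J ⊔ I ^ 2))).mp h0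
    obtain ⟨j, hj, q, hq, hjq⟩ := Submodule.mem_sup.mp h1
    exact ⟨⟨j, hj⟩, by rw [← hjq]; simpa using hq⟩
  choose J' hJ' using hdec
  have hσ : ∀ (i : ↥I) (j : ↥J), ((i - s (p i) : ↥I) : A) - (j : A) ∈ I ^ 2 → θ (J' i) = θ j := by
    intro i j h
    refine huniq _ _ ?_
    have := sub_mem h (hJ' i)
    rwa [sub_sub_sub_cancel_left] at this
  let σ : ↥I →ₗ[R] M :=
    { toFun := fun i => θ (J' i)
      map_add' := fun x y => by
        rw [← map_add θ]
        refine hσ _ _ ?_
        have := add_mem (hJ' x) (hJ' y)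
        convert this using 1
        simp only [map_add, Submodule.coe_sub, Submodule.coe_add]
        ring
      map_smul' := fun r x => by
        rw [RingHom.id_apply, ← LinearMap.map_smul_of_tower θ r (J' x)]
        refine hσ _ _ ?_
        have := Ideal.mul_mem_left (I ^ 2) (algebraMap R A r) (hJ' x)
        convert this using 1
        simp only [map_smul, Submodule.coe_sub, Submodule.coe_smul_of_tower, Algebra.smul_def]
        ring }
  have hσsq : ∀ i : ↥I, (i : A) ∈ I ^ 2 → σ i = 0 := by
    intro i hi
    have hpi : p i = 0 := (Submodule.Quotient.mk_eq_zero _).mpr (Submodule.mem_sup_right hi)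
    show θ (J' i) = 0
    rw [hσ i 0 (by simpa [hpi] using hi), map_zero]
  have hσJ : ∀ j : ↥J, σ ⟨j, hJI j.2⟩ = θ j := by
    intro j
    have hpi : p ⟨j, hJI j.2⟩ = 0 := (Submodule.Quotient.mk_eq_zero _).mpr (Submodule.mem_sup_left j.2)
    refine hσ _ _ ?_
    simp [hpi]
  let π : A →ₗ[R] ↥I :=
    { toFun := fun a => ⟨a - algebraMap R A (ε a), by simp [I, RingHom.mem_ker]⟩
      map_add' := fun x y => Subtype.ext (by simp only [map_add, Submodule.coe_add]; ring)
      map_smul' := fun r x => Subtype.ext (by
        simp only [map_smul, RingHom.id_apply, Submodule.coe_smul_of_tower, Algebra.smul_def,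
          map_mul, smul_eq_mul, AlgHom.commutes, Algebra.algebraMap_self, RingHom.id_apply]
        ring) }
  have hD : ∀ a b : A, σ (π (a * b)) = a • σ (π b) + b • σ (π a) := by
    intro a b
    have hab : π (a * b) = ε a • π b + ε b • π a +
        ⟨(π a : A) * π b, I.mul_mem_left _ (π b).2⟩ := by
      apply Subtype.ext
      simp only [π, LinearMap.coe_mk, AddHom.coe_mk, Submodule.coe_add, Submodule.coe_smul_of_tower,
        Algebra.smul_def, map_mul]
      ring
    rw [hab, map_add, map_add, map_smul, map_smul, hσsq ⟨(π a : A) * π b, I.mul_mem_left _ (π b).2⟩ (by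
      rw [pow_two]; exact Ideal.mul_mem_mul (π a).2 (π b).2), _root_.add_zero, hM a, hM b]
  refine ⟨Derivation.mk' (σ ∘ₗ π) hD, fun j => ?_⟩
  have : π j = ⟨j, hJI j.2⟩ := by
    apply Subtype.ext
    simp [π, RingHom.mem_ker.mp (hJI j.2)]
  show σ (π j) = θ j
  rw [this, hσJ]


/-- In affine form, let R be a commutative ring, A a smooth R-algebra with an augmentation ε : A → R
(the unit section of G = Spec A over S = Spec R), I = ker ε its augmentation ideal, and J ⊆ I an
ideal (defining a closed subscheme H of G through the unit section) such that (1) J is finitely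
generated, (2) J ∩ I² = I·J in A, and (3) I/(J + I²) is a finitely generated projective R-module
(finite locally free on S). Then H = Spec (A/J) is smooth over S at every point of the unit section:
for every prime P of A/J containing the image of I, the localization (A/J)_P is formally smooth over
R. (The source states this for G an affine smooth group scheme over a scheme S and H a closed
subgroup, concluding that the neutral component H° is a smooth open subgroup scheme; that conclusion
is smoothness of H along the unit section, which is the statement here in affine form; the group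
structure is not used.) -/
theorem result (R A : Type u) [CommRing R] [CommRing A] [Algebra R A]
    [Algebra.Smooth R A] (ε : A →ₐ[R] R) (J : Ideal A) (hJI : J ≤ RingHom.ker ε)
    (h1 : J.FG)
    (h2 : J ⊓ RingHom.ker ε ^ 2 = RingHom.ker ε * J)
    (h3 : Module.Finite R (↥(RingHom.ker ε) ⧸ Submodule.comap (RingHom.ker ε).subtype (J ⊔ RingHom.ker ε ^ 2)) ∧
      Module.Projective R (↥(RingHom.ker ε) ⧸ Submodule.comap (RingHom.ker ε).subtype (J ⊔ RingHom.ker ε ^ 2)))
    (P : Ideal (A ⧸ J)) [P.IsPrime] (hP : (RingHom.ker ε).map (Ideal.Quotient.mk J) ≤ P) :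
    Algebra.IsSmoothAt R P := by
  classical
  let Q : Ideal A := P.comap (Ideal.Quotient.mk J)
  haveI : Q.IsPrime := Ideal.IsPrime.comap _
  let AQ := Localization.AtPrime Q
  let S := Localization.AtPrime P
  let φ : AQ →+* S := Localization.localRingHom Q P (Ideal.Quotient.mk J) rfl
  letI : Algebra AQ S := φ.toAlgebra
  haveI : IsScalarTower A AQ S := IsScalarTower.of_algebraMap_eq fun a => by
    rw [RingHom.algebraMap_toAlgebra]
    exact (Localization.localRingHom_to_map Q P (Ideal.Quotient.mk J) rfl a).symm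
  haveI : IsScalarTower R AQ S := IsScalarTower.of_algebraMap_eq fun r => by
    rw [IsScalarTower.algebraMap_apply R A AQ, ← IsScalarTower.algebraMap_apply A AQ S,
      ← IsScalarTower.algebraMap_apply R A S]
  have hsurj : Function.Surjective (algebraMap AQ S) :=
    RingHom.surjectiveOnStalks_of_surjective Ideal.Quotient.mk_surjective P inferInstance
  have hker : RingHom.ker (algebraMap AQ S) = J.map (algebraMap A AQ) := by
    refine le_antisymm (fun x hx => ?_) (Ideal.map_le_iff_le_comap.mpr fun j hj => ?_)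
    · obtain ⟨a, t, rfl⟩ := IsLocalization.exists_mk'_eq Q.primeCompl x
      rw [RingHom.mem_ker, RingHom.algebraMap_toAlgebra, Localization.localRingHom_mk',
        IsLocalization.mk'_eq_zero_iff] at hx
      obtain ⟨⟨u, hu⟩, hua⟩ := hx
      obtain ⟨u, rfl⟩ := Ideal.Quotient.mk_surjective u
      rw [← map_mul, Ideal.Quotient.eq_zero_iff_mem] at hua
      have hu' : u ∈ Q.primeCompl := hu
      rw [IsLocalization.mk'_mem_iff,
        ← Ideal.unit_mul_mem_iff_mem _ (IsLocalization.map_units AQ (⟨u, hu'⟩ : Q.primeCompl)), ← map_mul]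
      exact Ideal.mem_map_of_mem _ hua
    · rw [Ideal.mem_comap, RingHom.mem_ker, ← IsScalarTower.algebraMap_apply A AQ S,
        IsScalarTower.algebraMap_apply A (A ⧸ J) S, Ideal.Quotient.algebraMap_eq,
        Ideal.Quotient.eq_zero_iff_mem.mpr hj, map_zero]
  haveI : Algebra.EssFiniteType A AQ := Algebra.EssFiniteType.of_isLocalization AQ Q.primeCompl
  haveI : Algebra.EssFiniteType R AQ := Algebra.EssFiniteType.comp R A AQ
  haveI : Algebra.FormallySmooth R AQ := inferInstance
  haveI : Module.Free AQ Ω[AQ⁄R] := Module.free_of_flat_of_isLocalRing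
  show Algebra.FormallySmooth R S
  rw [Algebra.FormallySmooth.iff_injective_cotangentComplexBaseChange_residueField (P := AQ) hsurj
    (hker ▸ h1.map _)]
  let K := IsLocalRing.ResidueField S
  let JQ := ↥(RingHom.ker (algebraMap AQ S))
  let M := K ⊗[AQ] JQ
  have hK : ∀ a : A, algebraMap A K a = algebraMap R K (ε a) := by
    intro a
    have hi : a - algebraMap R A (ε a) ∈ RingHom.ker ε := by simp [RingHom.mem_ker]
    rw [← sub_eq_zero, IsScalarTower.algebraMap_apply R A K, ← map_sub,
      IsScalarTower.algebraMap_apply A S K, IsLocalRing.ResidueField.algebraMap_eq,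
      IsLocalRing.residue_eq_zero_iff, IsScalarTower.algebraMap_apply A (A ⧸ J) S,
      Ideal.Quotient.algebraMap_eq, IsLocalization.AtPrime.to_map_mem_maximal_iff S P]
    exact hP (Ideal.mem_map_of_mem _ hi)
  have hM : ∀ (a : A) (m : M), a • m = ε a • m := fun a m => by
    rw [← algebraMap_smul K a m, hK, algebraMap_smul]
  let incl : ↥J →ₗ[A] JQ :=
    { toFun := fun j => ⟨algebraMap A AQ j, hker ▸ Ideal.mem_map_of_mem _ j.2⟩
      map_add' := fun x y => Subtype.ext (map_add (algebraMap A AQ) (x : A) (y : A))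
      map_smul' := fun a x => Subtype.ext (by
        show algebraMap A AQ (a * (x : A)) = a • algebraMap A AQ (x : A)
        rw [Algebra.smul_def, map_mul]) }
  let θ : ↥J →ₗ[A] M := (TensorProduct.mk AQ K JQ 1).restrictScalars A ∘ₗ incl
  obtain ⟨D, hD⟩ := exists_derivation R A ε J hJI h2 h3.2 M hM θ
  let Λ : Ω[AQ⁄R] →ₗ[AQ] M := (D.liftKaehlerDifferential.liftBaseChange AQ) ∘ₗ
    (KaehlerDifferential.tensorKaehlerEquivOfFormallyEtale R A AQ).symm.toLinearMap
  let c := KaehlerDifferential.cotangentComplexBaseChange R S AQ K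
  let L : K ⊗[AQ] Ω[AQ⁄R] →ₗ[K] M := Λ.liftBaseChange K
  have key : L ∘ₗ c = LinearMap.id := by
    apply TensorProduct.AlgebraTensorModule.ext
    intro k x
    suffices ∀ x : JQ, L (c ((1 : K) ⊗ₜ x)) = (1 : K) ⊗ₜ x by
      rw [show k ⊗ₜ[AQ] x = k • ((1 : K) ⊗ₜ x) by rw [TensorProduct.smul_tmul', smul_eq_mul, _root_.mul_one],
        map_smul, LinearMap.id_apply, LinearMap.comp_apply, this]
    rintro ⟨x, hx⟩
    have hx' : x ∈ Ideal.span (algebraMap A AQ '' (J : Set A)) := by
      show x ∈ J.map (algebraMap A AQ)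
      rw [← hker]; exact hx
    have hle : Ideal.span (algebraMap A AQ '' (J : Set A)) ≤ RingHom.ker (algebraMap AQ S) :=
      hker ▸ le_rfl
    revert hx
    induction hx' using Submodule.span_induction with
    | mem y hy =>
      intro hx
      obtain ⟨j, hj, rfl⟩ := hy
      show L (c ((1 : K) ⊗ₜ _)) = θ ⟨j, hj⟩
      rw [KaehlerDifferential.cotangentComplexBaseChange_tmul, one_smul,
        KaehlerDifferential.kerToTensor_apply, LinearMap.liftBaseChange_tmul, one_smul]
      show D.liftKaehlerDifferential.liftBaseChange AQ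
        ((KaehlerDifferential.tensorKaehlerEquivOfFormallyEtale R A AQ).symm
          (KaehlerDifferential.D R AQ (algebraMap A AQ j))) = _
      rw [KaehlerDifferential.tensorKaehlerEquivOfFormallyEtale_symm_D_algebraMap,
        LinearMap.liftBaseChange_tmul, one_smul, Derivation.liftKaehlerDifferential_comp_D]
      exact hD ⟨j, hj⟩
    | zero =>
      intro hx
      rw [show (⟨0, hx⟩ : JQ) = 0 from rfl, TensorProduct.tmul_zero, map_zero, map_zero]
    | add y z hy hz ihy ihz =>
      intro hx
      rw [show (⟨y + z, hx⟩ : JQ) = ⟨y, hle hy⟩ + ⟨z, hle hz⟩ from rfl, TensorProduct.tmul_add,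
        map_add, map_add, ihy, ihz]
    | smul a y hy ih =>
      intro hx
      rw [show (⟨a • y, hx⟩ : JQ) = a • ⟨y, hle hy⟩ from rfl, TensorProduct.tmul_smul,
        LinearMap.map_smul_of_tower, LinearMap.map_smul_of_tower, ih]
  exact Function.LeftInverse.injective (g := L) fun x => LinearMap.congr_fun key x

end Groth.Agent.S19149
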