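import Groth.Statements.S19156
import Groth.Agent.RootData.Dominant

set_option autoImplicit false
open RootPairing
open RootD

namespace Groth.Agent.S19156

open Groth.Agent.RootData

/-- Let P be a root datum (root pairing over ℤ with finitely many roots indexed by ι), S a system of
positive roots, Γ a non-trivial totally ordered commutative group and f : M → Γ additive. Then f is
dominant (non-negative on the positive roots) if and only if, for every w in the Weyl group, f − f ∘
w is a combination m ↦ Σ_{α ∈ S} ⟨m, α∨⟩ c_α of the positive coroots with coefficients c_α ≥ 0 in Γ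
(f ∘ w is strongly dominated by f); and f is dominant if and only if f(w m) ≤ f(m) for every w ∈ W
and every dominant weight m (weak dominance). -/
theorem result {ι M N : Type*} [AddCommGroup M] [AddCommGroup N]
    (P : RootPairing ι ℤ M N) [Fintype ι] (S : Set ι) (hS : RootD.IsPosSys P S)
    {Γ : Type*} [AddCommGroup Γ] [LinearOrder Γ] [IsOrderedAddMonoid Γ] [Nontrivial Γ] (f : M →+ Γ) :
    ((∀ i ∈ S, 0 ≤ f (P.root i)) ↔
      ∀ g : P.Aut, g ∈ P.weylGroup → ∃ c : ι → Γ, (∀ i, 0 ≤ c i) ∧ (∀ i, i ∉ S → c i = 0) ∧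
        ∀ m : M, f m - f (RootPairing.Equiv.weightHom P g m) = ∑ i, (P.coroot' i m) • c i) ∧
    ((∀ i ∈ S, 0 ≤ f (P.root i)) ↔
      ∀ g : P.Aut, g ∈ P.weylGroup → ∀ m : M, (∀ i ∈ S, 0 ≤ P.coroot' i m) →
        f (RootPairing.Equiv.weightHom P g m) ≤ f m) := by
  obtain ⟨x, hx⟩ := exists_regular hS
  have key : ∀ i ∈ S, f (RootPairing.Equiv.weightHom P (RootPairing.Equiv.reflection P i) x) ≤ f x → 0 ≤ f (P.root i) := by
    intro i hi h
    have e : RootPairing.Equiv.weightHom P (RootPairing.Equiv.reflection P i) x = x - (P.coroot' i x) • P.root i := P.reflection_apply i x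
    rw [e, map_sub, map_zsmul, sub_le_self_iff] at h
    by_contra hneg
    have hp := zsmul_pos (neg_pos.mpr (not_le.mp hneg)) (hx i hi)
    rw [smul_neg, neg_pos] at hp
    exact absurd h (not_le.mpr hp)
  refine ⟨⟨fun hf g hg => exists_coroot_comb_of_dominant hS f hf hg, fun h i hi => key i hi ?_⟩,
    ⟨fun hf g hg m hm => weak_of_dominant hS f hf hg hm, fun h i hi => key i hi ?_⟩⟩
  · obtain ⟨c, hc, hcS, hm⟩ := h _ (P.reflection_mem_weylGroup i)
    rw [← sub_nonneg, hm]
    refine Finset.sum_nonneg fun k _ => ?_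
    by_cases hk : k ∈ S
    · exact zsmul_nonneg (hc k) (hx k hk).le
    · simp [hcS k hk]
  · exact h _ (P.reflection_mem_weylGroup i) x fun k hk => (hx k hk).le

end Groth.Agent.S19156
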