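import Groth.Statements.S19158
import Mathlib
import Groth.Agent.FiltModLib.Main

set_option autoImplicit false
universe u v w
open FiltMod

namespace Groth.Agent.S19158

/-- In affine form, let Γ be a non-trivial totally ordered commutative group, R a commutative ring and
(M_a) a finite family of finitely generated projective R-modules, each carrying a non-increasing
Γ-indexed family of submodules F_a; give M = Π_a M_a the family F^γ = Π_a F_a^γ. Then F is split by
a Γ-grading of M (an internal direct sum decomposition M = ⊕_γ G_γ with F^γ = Σ_{η ≥ γ} G_η for all
γ) if and only if each F_a is split by a Γ-grading of M_a. (The published statement is for finite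
locally free sheaves on a scheme, where a filtration counts as split when it is split by a grading
locally on the scheme; this row is the affine case, in which that is the same as being split by one
global grading.) -/
theorem result
    {Γ : Type w} [AddCommGroup Γ] [LinearOrder Γ] [IsOrderedAddMonoid Γ] [Nontrivial Γ]
    {R : Type u} [CommRing R] {A : Type v} [Fintype A] (M : A → Type v) [∀ a, AddCommGroup (M a)] [∀ a, Module R (M a)]
    [∀ a, Module.Finite R (M a)] [∀ a, Module.Projective R (M a)]
    (F : ∀ a, Γ → Submodule R (M a)) (hF : ∀ a, Antitone (F a)) :
    (∃ G : Γ → Submodule R (∀ a, M a), DirectSum.IsInternal G ∧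
        ∀ γ, Submodule.pi Set.univ (fun a => F a γ) = ⨆ η ∈ Set.Ici γ, G η) ↔
    ∀ a, ∃ G : Γ → Submodule R (M a), DirectSum.IsInternal G ∧ ∀ γ, F a γ = ⨆ η ∈ Set.Ici γ, G η := by
  exact Groth.Agent.FiltModLib.split_pi_iff F hF

end Groth.Agent.S19158
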