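import Groth.Prelude
import Groth.Agent.MultTypeGen.EssFree
import Groth.Agent.TransLib.Universal
import Groth.Agent.TorusQI.Geom

universe u

open CategoryTheory CategoryTheory.Limits MonoidalCategory CartesianMonoidalCategory MonObj AlgebraicGeometry

namespace Groth.Agent.S19163

/-- A diagonalisable group is of multiplicative type. -/
theorem isMT_DS (S : Scheme.{u}) (Γ : Type) [AddCommGroup Γ] :
    MultTypeLib.GenMultType.IsMT (Red.DS S Γ) := by
  refine ⟨S, 𝟙 S, inferInstance, inferInstance, fun V hV => ⟨V, hV.isCompact, by simp⟩,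
    fun s => ⟨⊤, trivial, Γ, inferInstance, ?_⟩⟩
  exact GrpSchLib.MultTypeBC.bc_DS _ Γ

set_option maxHeartbeats 400000

theorem result {S : Scheme.{u}}
    (Γ : Type) [AddCommGroup Γ] [LinearOrder Γ] [IsOrderedAddMonoid Γ] [Nontrivial Γ]
    (H G : Over S) [GrpObj H] [GrpObj G] (hH : Red.IsReductive H) (hG : Red.IsReductive G)
    (k : H ⟶ G) [IsMonHom k] (hk : IsClosedImmersion k.left)
    (AH : Over S) (υH : Red.DS S Γ ⊗ AH ⟶ H) (hAH : AutFam.RepresentsHom (Red.DS S Γ) H AH υH)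
    (AG : Over S) (υG : Red.DS S Γ ⊗ AG ⟶ G) (hAG : AutFam.RepresentsHom (Red.DS S Γ) G AG υG)
    (φ : AH ⟶ AG) (hφ : (Red.DS S Γ ◁ φ) ≫ υG = υH ≫ k) :
    IsClosedImmersion φ.left ∧ LocallyOfFinitePresentation φ.left := by
  set_option backward.isDefEq.respectTransparency.types false in
  haveI := hk
  haveI : Mono k := (Over.forget S).mono_of_mono_map (inferInstanceAs (Mono k.left))
  obtain ⟨haff, hfree⟩ := MultTypeGen.locDiag_essFree (isMT_DS S Γ)
  haveI := haff
  haveI : Smooth H.hom := hH.2.1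
  haveI : Smooth G.hom := hG.2.1
  haveI : LocallyOfFinitePresentation k.left := by
    haveI : LocallyOfFinitePresentation (k.left ≫ G.hom) := by rw [Over.w k]; infer_instance
    exact AlgSpPts.locallyOfFinitePresentation_of_comp k.left G.hom
  obtain ⟨Z, c, hc, hcfp, huniv⟩ := TransLib.exists_closed_universal_essFree hfree υG k
  haveI := hc
  haveI : Mono c := (Over.forget S).mono_of_mono_map (inferInstanceAs (Mono c.left))
  obtain ⟨z, hz⟩ := (huniv φ).2 ⟨υH, hφ.symm⟩
  obtain ⟨l, hl⟩ := (huniv c).1 ⟨𝟙 Z, Category.id_comp c⟩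
  have hfam : AutFam.IsHomFamily (Red.DS S Γ) H l := by
    intro X g₁ g₂ t
    apply (cancel_mono k).1
    have e : ∀ g : X ⟶ Red.DS S Γ, (lift g t ≫ l) ≫ k = lift g (t ≫ c) ≫ υG := fun g => by
      rw [Category.assoc, hl, ← Category.assoc, lift_whiskerLeft]
    rw [MonObj.mul_comp, e, e, e, hAG.1]
  obtain ⟨a, ha, -⟩ := hAH.2 Z l hfam
  have hac : a ≫ φ = c := by
    refine (hAG.2 Z ((Red.DS S Γ ◁ c) ≫ υG) (HomRepLib.isHomFamily_comp hAG.1 c)).unique ?_ rfl
    show (Red.DS S Γ ◁ (a ≫ φ)) ≫ υG = _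
    rw [MonoidalCategory.whiskerLeft_comp, Category.assoc, hφ, ← Category.assoc, ha, hl]
  have hza : z ≫ a = 𝟙 AH := by
    refine (hAH.2 AH υH hAH.1).unique ?_ (by simp)
    apply (cancel_mono k).1
    show ((Red.DS S Γ ◁ (z ≫ a)) ≫ υH) ≫ k = _
    rw [Category.assoc, ← hφ, ← Category.assoc, ← MonoidalCategory.whiskerLeft_comp, Category.assoc, hac, hz]
  have haz : a ≫ z = 𝟙 Z := by
    rw [← cancel_mono c, Category.assoc, hz, hac, Category.id_comp]
  haveI : IsIso z := ⟨a, hza, haz⟩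
  haveI : IsIso z.left := inferInstanceAs (IsIso ((Over.forget S).map z))
  haveI : LocallyOfFinitePresentation c.left := hcfp inferInstance inferInstance
  rw [← hz, Over.comp_left]
  exact ⟨inferInstance, inferInstance⟩

end Groth.Agent.S19163
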