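import Groth.Statements.S19169
import Groth.Agent.ProComplHelper.Basic

set_option autoImplicit false
universe u
open ProCompl

namespace Groth.Agent.S19169

/-- Let B be a Hausdorff, locally compact, totally disconnected topological abelian group which is
compactly generated, i.e. generated as a group by a compact subset. Then the open subgroups of
finite index of B have trivial intersection: every nonzero b lies outside some open subgroup of
finite index. Equivalently, the natural map from B to its completion with respect to open subgroups
of finite index is injective. -/
theorem result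
    {B : Type u} [AddCommGroup B] [TopologicalSpace B] [IsTopologicalAddGroup B]
    [T2Space B] [LocallyCompactSpace B] [TotallyDisconnectedSpace B]
    (hcg : ∃ K : Set B, IsCompact K ∧ AddSubgroup.closure K = ⊤) (b : B) (hb : b ≠ 0) :
    ∃ B' : AddSubgroup B, IsOpen (B' : Set B) ∧ B'.FiniteIndex ∧ b ∉ B' := by
  obtain ⟨U, hUo, -, hUb⟩ := Groth.Agent.ProComplHelper.exists_compact_open_subgroup
    (isOpen_compl_singleton.mem_nhds (show (0 : B) ∈ ({b}ᶜ : Set B) by simpa using hb.symm))
  haveI := Groth.Agent.ProComplHelper.fg_quotient hcg U hUo
  obtain ⟨H, hH, hUH, hbH⟩ := Groth.Agent.ProComplHelper.exists_finiteIndex_ge_notMem U b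
    (fun h => hUb h rfl)
  exact ⟨H, AddSubgroup.isOpen_mono hUH hUo, hH, hbH⟩

end Groth.Agent.S19169
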