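import Groth.Statements.S19172
import Groth.Agent.ProComplHelper.Basic

set_option autoImplicit false
universe u v w
open ProCompl

namespace Groth.Agent.S19172

open W4c61motalbduality in
/-- Let i : A → B and p : B → C be continuous homomorphisms of topological abelian groups with p
surjective and open and with the kernel of p equal to the image of i. Then the induced sequence of
completions with respect to open subgroups of finite index, A^∧ → B^∧ → C^∧ → 0, is exact: the map
B^∧ → C^∧ is surjective and its kernel is the image of A^∧. The completion is the group of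
compatible families of residues modulo all open subgroups of finite index. (The published statement
takes i injective, as the first map of an exact sequence 0 → A → B → C → 0 of topological abelian
groups; here it is only assumed that the image of i is the kernel of p, which is all the proof
uses.) -/
theorem result
    {A : Type u} {B : Type v} {C : Type w}
    [AddCommGroup A] [TopologicalSpace A] [IsTopologicalAddGroup A]
    [AddCommGroup B] [TopologicalSpace B] [IsTopologicalAddGroup B]
    [AddCommGroup C] [TopologicalSpace C] [IsTopologicalAddGroup C]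
    (i : A →+ B) (hi : Continuous i) (p : B →+ C) (hp : Continuous p)
    (hpo : IsOpenMap p) (hps : Function.Surjective p) (hex : p.ker = i.range) :
    Function.Surjective (FICompl.map p hp) ∧ (FICompl.map p hp).ker = (FICompl.map i hi).range := by
  refine ⟨fun y => ?_, ?_⟩
  · refine Groth.Agent.ProComplHelper.exists_map_eq p hp y fun V => ?_
    obtain ⟨c, hc⟩ := QuotientAddGroup.mk_surjective (y.1 V)
    obtain ⟨b, rfl⟩ := hps c
    exact ⟨b, hc⟩
  · ext x
    constructor
    · intro hx
      refine Groth.Agent.ProComplHelper.exists_map_eq i hi x fun U => ?_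
      haveI := U.finiteIndex'
      let V : OpenFI C := ⟨U.toAddSubgroup.map p, hpo _ U.isOpen',
        ⟨fun h => U.finiteIndex'.index_ne_zero (Nat.eq_zero_of_zero_dvd (h ▸ AddSubgroup.index_map_dvd U.toAddSubgroup hps))⟩⟩
      obtain ⟨b, hb⟩ := QuotientAddGroup.mk_surjective (x.1 U)
      have hle : U.toAddSubgroup ≤ (V.comap p hp).toAddSubgroup := AddSubgroup.le_comap_map _ _
      have hmap : (FICompl.map p hp x).1 V = 0 := by rw [show FICompl.map p hp x = 0 from hx]; rfl
      change QuotientAddGroup.map _ V.toAddSubgroup p (V.comap_le p) (x.1 (V.comap p hp)) = 0 at hmap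
      rw [← x.2 U (V.comap p hp) hle, ← hb] at hmap
      change ((p b : C) : C ⧸ V.toAddSubgroup) = 0 at hmap
      rw [QuotientAddGroup.eq_zero_iff] at hmap
      obtain ⟨u, hu, hpu⟩ : p b ∈ U.toAddSubgroup.map p := hmap
      have : b - u ∈ i.range := by
        rw [← hex, AddMonoidHom.mem_ker, map_sub, hpu, sub_self]
      obtain ⟨a, ha⟩ := this
      refine ⟨a, ?_⟩
      rw [← hb, ha, QuotientAddGroup.eq]
      simpa using hu
    · rintro ⟨z, rfl⟩
      refine Subtype.ext (funext fun V => ?_)
      show QuotientAddGroup.map _ V.toAddSubgroup p (V.comap_le p)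
        ((FICompl.map i hi z).1 (V.comap p hp)) = 0
      obtain ⟨a, ha⟩ := QuotientAddGroup.mk_surjective (z.1 ((V.comap p hp).comap i hi))
      show QuotientAddGroup.map _ V.toAddSubgroup p (V.comap_le p)
        (QuotientAddGroup.map _ _ i ((V.comap p hp).comap_le i) (z.1 ((V.comap p hp).comap i hi))) = 0
      rw [← ha]
      show ((p (i a) : C) : C ⧸ V.toAddSubgroup) = 0
      rw [QuotientAddGroup.eq_zero_iff,
        show p (i a) = 0 by rw [← AddMonoidHom.mem_ker, hex]; exact ⟨a, rfl⟩]
      exact zero_mem _

end Groth.Agent.S19172
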