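import Groth.Statements.S19173
import Groth.Agent.ProComplHelper.Basic

set_option autoImplicit false
universe u v
open ProCompl

namespace Groth.Agent.S19173

open W4c61motalbduality Topology in
/-- Let B be a Hausdorff, locally compact, totally disconnected topological abelian group generated as a
group by a compact subset, and let i : A → B be an injective continuous homomorphism inducing the
topology of A from that of B (a strict injection) with closed image. Then the map induced by i on
completions with respect to open subgroups of finite index is injective; together with right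
exactness for open surjections this makes 0 → A^∧ → B^∧ → C^∧ → 0 exact for a topological exact
sequence 0 → A → B → C → 0 with such B, strict closed i and open p. -/
theorem result
    {A : Type u} {B : Type v} [AddCommGroup A] [TopologicalSpace A] [IsTopologicalAddGroup A]
    [AddCommGroup B] [TopologicalSpace B] [IsTopologicalAddGroup B]
    [T2Space B] [LocallyCompactSpace B] [TotallyDisconnectedSpace B]
    (hcg : ∃ K : Set B, IsCompact K ∧ AddSubgroup.closure K = ⊤)
    (i : A →+ B) (hi : Continuous i) (hinj : Function.Injective i) (hind : IsInducing i)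
    (hcl : IsClosed (Set.range i)) :
    Function.Injective (FICompl.map i hi) := by
  classical
  rw [injective_iff_map_eq_zero]
  intro x hx
  refine Subtype.ext (funext fun U => ?_)
  show x.1 U = 0
  haveI := U.finiteIndex'
  obtain ⟨O, hO, hOe⟩ := hind.isOpen_iff.1 U.isOpen'
  have h0 : (0 : B) ∈ O := by
    have : (0 : A) ∈ i ⁻¹' O := hOe ▸ U.toAddSubgroup.zero_mem
    simpa using this
  obtain ⟨W, hWo, -, hWO⟩ := Groth.Agent.ProComplHelper.exists_compact_open_subgroup (hO.mem_nhds h0)
  let S : AddSubgroup B := U.toAddSubgroup.map i ⊔ W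
  have hSo : IsOpen (S : Set B) := AddSubgroup.isOpen_mono le_sup_right hWo
  have hSU : ∀ a, i a ∈ S → a ∈ U.toAddSubgroup := by
    intro a ha
    obtain ⟨_, ⟨u, hu, rfl⟩, w, hw, he⟩ := AddSubgroup.mem_sup.1 ha
    have hau : a - u ∈ i ⁻¹' O := hWO (by rw [map_sub, ← he, add_sub_cancel_left]; exact hw)
    rw [hOe] at hau
    simpa using U.toAddSubgroup.add_mem hau hu
  haveI := Groth.Agent.ProComplHelper.fg_quotient hcg S hSo
  have hrep : ∀ c : A ⧸ U.toAddSubgroup, ∃ H : AddSubgroup B, H.FiniteIndex ∧ S ≤ H ∧
      (i c.out ∈ H → c = 0) := by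
    intro c
    by_cases h : i c.out ∈ S
    · refine ⟨⊤, inferInstance, le_top, fun _ => ?_⟩
      rw [← QuotientAddGroup.out_eq' c, QuotientAddGroup.eq_zero_iff]
      exact hSU _ h
    · obtain ⟨H, h1, h2, h3⟩ := Groth.Agent.ProComplHelper.exists_finiteIndex_ge_notMem S _ h
      exact ⟨H, h1, h2, fun h' => absurd h' h3⟩
  choose H hH1 hH2 hH3 using hrep
  let V : OpenFI B := ⟨⨅ c, H c, AddSubgroup.isOpen_mono (le_iInf hH2) hSo, AddSubgroup.finiteIndex_iInf hH1⟩
  have key : ∀ a : A, i a ∈ V.toAddSubgroup → a ∈ U.toAddSubgroup := by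
    intro a ha
    set c : A ⧸ U.toAddSubgroup := QuotientAddGroup.mk a
    have h1 : i a ∈ H c := (AddSubgroup.mem_iInf.1 ha) c
    have hd : -a + c.out ∈ U.toAddSubgroup := QuotientAddGroup.eq.1 (QuotientAddGroup.out_eq' c).symm
    have h2 : i c.out ∈ H c := by
      have := (H c).add_mem h1 (hH2 c (AddSubgroup.mem_sup_left ⟨_, hd, rfl⟩))
      simpa using this
    exact (QuotientAddGroup.eq_zero_iff a).1 (hH3 c h2)
  obtain ⟨a, ha⟩ := QuotientAddGroup.mk_surjective (x.1 (V.comap i hi))
  have hmap : (FICompl.map i hi x).1 V = 0 := by rw [hx]; rfl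
  change QuotientAddGroup.map _ V.toAddSubgroup i (V.comap_le i) (x.1 (V.comap i hi)) = 0 at hmap
  rw [← ha] at hmap
  change ((i a : B) : B ⧸ V.toAddSubgroup) = 0 at hmap
  rw [QuotientAddGroup.eq_zero_iff] at hmap
  rw [← x.2 (V.comap i hi) U key, ← ha]
  show ((a : A) : A ⧸ U.toAddSubgroup) = 0
  rw [QuotientAddGroup.eq_zero_iff]
  exact key a hmap

end Groth.Agent.S19173
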