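import Groth.Statements.S19174
import Groth.Agent.CurveGor.Existence
import Groth.Agent.CurveGor.PointedTwist
import Groth.Agent.CurveGor.MapP
import Groth.Agent.Ribbon18.Gen
import Groth.Agent.H28.PnCyc.Bidegree

set_option autoImplicit false
universe u
open CategoryTheory CategoryTheory.Limits AlgebraicGeometry
open Curves

namespace Groth.Agent.S19174
set_option backward.isDefEq.respectTransparency false
set_option backward.isDefEq.respectTransparency.types false
set_option synthInstance.maxHeartbeats 200000
set_option maxHeartbeats 2000000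
attribute [local instance] HasDerivedCategory.standard
open Groth.Agent Groth.Agent.CurveGor TFOneX in


/-- Let k be an algebraically closed field of characteristic zero and C a proper reduced connected
one-dimensional scheme over k with at-worst-nodal singularities and dim_k H^1(C, O_C) = 1 (a
connected nodal curve of arithmetic genus one). Let π : C → P^1_k be a morphism over k contracting
no connected subcurve of arithmetic genus one: for every reduced connected one-dimensional closed
subscheme Y of C on which π is constant, dim_k H^1(Y, O_Y) = 0. Then H^1(C, π^*O(1)) = 0 and H^1(C,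
π^*O(2)) = 0, where O(d) is the d-th twisting sheaf of P^1_k. -/
theorem result (k : Type u) [Field k] [IsAlgClosed k] [CharZero k]
    (C : Scheme.{u}) [C.Over (Spec (CommRingCat.of k))] [IsProper (C ↘ (Spec (CommRingCat.of k)))]
    [AlgebraicGeometry.IsReduced C] [ConnectedSpace C] (hdim : topologicalKrullDim C = 1)
    (hC : Curv2.AtWorstNodal k C) (hg : Curv2.genus k C = 1)
    (π : C ⟶ CohB1.ProjSpace 1 k) (hπ : π ≫ CohB1.ProjSpace.toSpec 1 k = C ↘ (Spec (CommRingCat.of k)))
    (hcontr : ∀ J : C.IdealSheafData, AlgebraicGeometry.IsReduced J.subscheme → ConnectedSpace J.subscheme →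
      topologicalKrullDim J.subscheme = 1 →
      (∀ x y : J.subscheme, (J.subschemeι ≫ π).base x = (J.subschemeι ≫ π).base y) →
      @Curv2.genus k _ J.subscheme ⟨J.subschemeι ≫ (C ↘ (Spec (CommRingCat.of k)))⟩ = 0) :
    Subsingleton (Coh.HH C ((Scheme.Modules.pullback π).obj (Twist.twistProjSpace 1 k 1)) 1) ∧
      Subsingleton (Coh.HH C ((Scheme.Modules.pullback π).obj (Twist.twistProjSpace 1 k 2)) 1) := by
  classical
  haveI := CurveCohLib.isNoetherian_of_proper (k := k) (X := C)
  obtain ⟨ω, t, ht, hωi⟩ := exists_invertible_dual k C hdim hC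
  have hgen := notClosed_of_generic (k := k) hdim
  let L := (Scheme.Modules.pullback π).obj (Twist.twistProjSpace 1 k 1)
  have hLi : PicF.IsInvertible L :=
    PicClLib.isInvertible_pullback π (Pic13Lib.NumTriv.isAmple_twistProjSpace_one (k := k) (n := 1)).1
  have hgg : Curv2.IsGloballyGenerated L :=
    GGDesc7.pullback_gg π (Ribbon18.gg_twist_line k zero_le_one)
  have hnn : ∀ η ∈ genericPoints (C : Type u), 0 ≤ degOn k L 1 (closure ({η} : Set C)) isClosed_closure :=
    fun η hη => degOn_nonneg_of_gg hdim.le hLi hgg hη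
  have hgY : ∀ (Y : Set C) (hY : IsClosed Y), genusY k Y hY ≤ 1 := fun Y hY => by
    haveI := CurvePoint.epi_toSubscheme (vI Y hY)
    have hs := DefAmple18.surjective_H1_of_epi (k := k) hdim.le (ClSub.toSubscheme (vI Y hY))
      QCoh.isQCoh_structureModule (ParShLib.isCoh_quotMod _).1
    letI := overSub (k := k) (vI Y hY)
    obtain ⟨l⟩ := PnCoh.exists_linearEquiv_push k (vI Y hY).subschemeι rfl
      (QCoh.isQCoh_structureModule (X := (vI Y hY).subscheme)) 1
    haveI := S0002.result k C (Coh.structureModule C) QCoh.isCoh_structureModule' 1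
    have e := LinearMap.finrank_le_finrank_of_surjective hs
    rw [show Module.finrank k (Coh.HH C (Coh.structureModule C) 1) = 1 from hg] at e
    exact l.finrank_eq.trans_le e
  have hpos : ∀ m : ℕ, 1 ≤ m → Subsingleton (Coh.HH C (CohB1.tensorPow L m) 1) := fun m hm => by
    refine subsingleton_H1_of_deg hdim.le hgen ht hωi (H23.PicMul.isInvertible_tensorPow hLi m)
      fun Y hY hc hconn => ?_
    rw [degOn_pow hdim.le hLi hY m, chiY_eq hdim.le hY hconn]
    have h0 := degOn_nonneg (k := k) hdim.le hLi hnn Y hY hc
    have hmd : degOn k L 1 Y hY ≤ (m : ℤ) * degOn k L 1 Y hY :=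
      le_mul_of_one_le_left h0 (by exact_mod_cast hm)
    rcases Nat.lt_or_ge (genusY k Y hY) 1 with hlt | hge
    · omega
    have hgy := hgY Y hY
    suffices 1 ≤ degOn k L 1 Y hY by omega
    obtain ⟨η, hη, hηY, hne⟩ : ∃ η, η ∈ genericPoints (C : Type u) ∧ η ∈ Y ∧
        ¬ IsClosed ({π η} : Set (CohB1.ProjSpace 1 k)) := by
      by_contra hcon
      simp only [not_exists, not_and, not_not] at hcon
      haveI := connectedSpace_subscheme hY hconn
      have hd := dim_subscheme (k := k) hdim.le hgen hY hc hconn.nonempty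
      have h1 := hcontr (vI Y hY) inferInstance inferInstance hd fun x y =>
        constant_of_contracted π hπ hY hc hconn hcon ((range_subschι _ hY).subset ⟨x, rfl⟩)
          ((range_subschι _ hY).subset ⟨y, rfl⟩)
      change genusY k Y hY = 0 at h1
      omega
    refine (one_le_degOn_of_nonconstant π hπ hdim.le hgen hη hne).trans ?_
    rw [degOn_eq_sum hdim.le hLi Y hY hc (finite_genericPoints.inter_of_left Y).toFinset
      fun η => Set.Finite.mem_toFinset _]
    exact Finset.single_le_sum (f := fun ξ => degOn k L 1 (closure ({ξ} : Set C)) isClosed_closure)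
      (fun ξ hξ => hnn ξ ((Set.Finite.mem_toFinset _).1 hξ).1) ((Set.Finite.mem_toFinset _).2 ⟨hη, hηY⟩)
  constructor
  · obtain ⟨e⟩ : Nonempty (CohB1.tensorPow L 1 ≅ L) := by
      letI := H23.PicMul.clMonoid C
      exact H23.PicMul.cl_eq_iff.1 (by rw [H23.PicMul.cl_tensorPow, pow_one])
    exact @Equiv.subsingleton _ _ (CurveCohLib.hhEquiv (k := k) e 1).toEquiv.symm (hpos 1 le_rfl)
  · obtain ⟨t2⟩ := H28.PnCyc.twist_iso_tensorPow (k := k) 1 2
    obtain ⟨e⟩ := AmpleVan.RelVanish.pullback_tensorPow π (Twist.twistProjSpace 1 k 1) 2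
    exact @Equiv.subsingleton _ _
      (CurveCohLib.hhEquiv (k := k) ((Scheme.Modules.pullback π).mapIso t2 ≪≫ e) 1).toEquiv (hpos 2 (by norm_num))


end Groth.Agent.S19174
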