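import Groth.Statements.S19175
import Groth.Agent.SurfRows.FibrationSection

set_option autoImplicit false
set_option backward.isDefEq.respectTransparency false
set_option backward.isDefEq.respectTransparency.types false
set_option linter.style.haveILetI false
set_option linter.unusedSectionVars false
set_option maxHeartbeats 800000
universe u
open CategoryTheory CategoryTheory.Limits AlgebraicGeometry
open Surf

namespace Groth.Agent.S19175

open CategoryTheory CategoryTheory.Limits Groth.Agent Groth.Agent.H23 Groth.Agent.SurfRows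
attribute [local instance] PicMul.clMonoid

/-- Let k be an algebraically closed field of characteristic zero, X a smooth proper integral surface
over k and B a smooth proper integral curve over k, and f : X → B a k-morphism each of whose fibres
over a closed point is an integral one-dimensional scheme with at-worst-nodal singularities and
arithmetic genus one (an elliptic fibration all of whose fibres are smooth elliptic or irreducible
nodal). Let s be a section of f and L_S an invertible O_X-module inverse to the ideal of the closed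
immersion s (the class of the curve S = s(B)); let L_F be the pullback along f of an invertible
O_B-module inverse to the ideal of a closed point (the class of a fibre); and let L_C be an
invertible O_X-module whose restriction to the fibre over every closed point of some nonempty open
subset of B is isomorphic to the restriction of L_S (a class agreeing with S on the general fibre).
Then there is an integer m with 2m = (L_S·L_S) − (L_C·L_C) and (L_S·N) = (L_C·N) + m·(L_F·N) for
every invertible O_X-module N: numerically S ≡ C + ((S² − C²)/2)·F. Here (L·N) = χ(O_X) − χ(L) −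
χ(N) + χ(L ⊗ N) is the intersection number of invertible modules on the proper surface X. -/
theorem result (k : Type u) [Field k] [IsAlgClosed k] [CharZero k]
    (X B : Scheme.{u}) [X.Over (Spec (CommRingCat.of k))] [B.Over (Spec (CommRingCat.of k))]
    [IsProper (X ↘ (Spec (CommRingCat.of k)))] [Smooth (X ↘ (Spec (CommRingCat.of k)))] [AlgebraicGeometry.IsIntegral X] (hX2 : topologicalKrullDim X = 2)
    [IsProper (B ↘ (Spec (CommRingCat.of k)))] [Smooth (B ↘ (Spec (CommRingCat.of k)))] [AlgebraicGeometry.IsIntegral B] (hB1 : topologicalKrullDim B = 1)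
    (f : X ⟶ B) (hf : f ≫ (B ↘ (Spec (CommRingCat.of k))) = X ↘ (Spec (CommRingCat.of k)))
    (hfib : ∀ b : B, IsClosed ({b} : Set B) →
      AlgebraicGeometry.IsIntegral (f.fiber b) ∧ topologicalKrullDim (f.fiber b) = 1 ∧
        @Curv2.AtWorstNodal (B.residueField b) _ (f.fiber b) ⟨f.fiberToSpecResidueField b⟩ ∧
        @Curv2.genus (B.residueField b) _ (f.fiber b) ⟨f.fiberToSpecResidueField b⟩ = 1)
    (s : B ⟶ X) (hs : s ≫ f = 𝟙 B)
    (LS : X.Modules) (hLS : PicF.IsInvertible LS) (hLSinv : ClSub.IsInverseOf LS (ClSub.idealMod s.ker))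
    (b₀ : B) (hb₀ : IsClosed ({b₀} : Set B)) (M : B.Modules) (hM : PicF.IsInvertible M)
    (hMinv : ClSub.IsInverseOf M (ClSub.idealMod (Scheme.IdealSheafData.vanishingIdeal ⟨{b₀}, hb₀⟩)))
    (LC : X.Modules) (hLC : PicF.IsInvertible LC)
    (hgen : ∃ U : B.Opens, (U : Set B).Nonempty ∧ ∀ b ∈ U, IsClosed ({b} : Set B) →
      Nonempty ((Scheme.Modules.pullback (f.fiberι b)).obj LC ≅ (Scheme.Modules.pullback (f.fiberι b)).obj LS)) :
    ∃ m : ℤ, 2 * m = FGA.intNum k X 2 ![LS, LS] (Coh.structureModule X) - FGA.intNum k X 2 ![LC, LC] (Coh.structureModule X) ∧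
      ∀ N : X.Modules, PicF.IsInvertible N →
        FGA.intNum k X 2 ![LS, N] (Coh.structureModule X) =
          FGA.intNum k X 2 ![LC, N] (Coh.structureModule X) +
            m * FGA.intNum k X 2 ![(Scheme.Modules.pullback f).obj M, N] (Coh.structureModule X) := by
  haveI : f.IsOver (Spec (CommRingCat.of k)) := ⟨hf⟩
  haveI : Surjective f := ⟨fun b => ⟨s b, by rw [← Scheme.Hom.comp_apply, hs]; rfl⟩⟩
  haveI := CurveCohLib.isNoetherian_of_proper (k := k) (X := X)
  haveI := CurveCohLib.isNoetherian_of_proper (k := k) (X := B)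
  haveI : HasInjectiveResolutions X.Modules := KFlatLib.hasInjectiveResolutions_modules
  obtain ⟨hpr, hfl, hlfp, hln⟩ := fibred_morphism k f hB1
  haveI := hpr
  haveI : IsClosedImmersion (s ≫ f) := by rw [hs]; infer_instance
  haveI : IsClosedImmersion s := IsClosedImmersion.of_comp s f
  have hint : ∀ c : B, IsClosed ({c} : Set B) → AlgebraicGeometry.IsIntegral (f.fiber c) ∧ topologicalKrullDim (f.fiber c) = 1 :=
    fun c hc => ⟨(hfib c hc).1, (hfib c hc).2.1⟩
  -- the ideal of the section
  have hsi : AlgebraicGeometry.IsIntegral s.ker.subscheme ∧ topologicalKrullDim (s.ker.support : Set X) = 1 := by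
    refine ⟨?_, ?_⟩
    · haveI : IsIso s.toImage := inferInstance
      haveI : Nonempty s.image := ⟨s.toImage (Classical.arbitrary _)⟩
      exact isIntegral_of_isOpenImmersion (inv s.toImage)
    · rw [show ((s.ker.support : TopologicalSpace.Closeds X) : Set X) = Set.range s from
        (Scheme.Hom.support_ker _).trans s.isClosedEmbedding.isClosed_range.closure_eq,
        ← IsHomeomorph.topologicalKrullDim_eq _ (s.isEmbedding.toHomeomorph).isHomeomorph, hB1]
  have hI : PicF.IsInvertible (ClSub.idealMod s.ker) := SurfNef.invertible_ideal k hX2 hsi.1 hsi.2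
  obtain ⟨-, hSI⟩ := CurveOnSurf.isInvertible_of_inverse hI hLSinv
  have hsk : s ≫ (X ↘ Spec (CommRingCat.of k)) = B ↘ Spec (CommRingCat.of k) := by
    rw [← hf, reassoc_of% hs]
  have hsec : ∀ N : B.Modules, PicF.IsInvertible N →
      SurfPairing.pair k (PicF.cl ((Scheme.Modules.pullback f).obj N)) (PicF.cl LS) = Curv2.deg k B N 1 := by
    intro N hN
    have hfN := PicClLib.isInvertible_pullback f hN
    let e : (Scheme.Modules.pullback s).obj ((Scheme.Modules.pullback f).obj N) ≅ N :=
      (Scheme.Modules.pullbackComp s f).app N ≪≫ (Scheme.Modules.pullbackCongr hs).app N ≪≫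
        (Scheme.Modules.pullbackId B).app N
    have hp := pair_section k s hfN hI hsk
    rw [CurveRR.deg_congr k e] at hp
    rw [SurfPairing.pair_inv k hX2.le hfN hI hLS (by rw [mul_comm, hSI]), SurfPairing.pair_comm, hp, neg_neg]
  -- the difference of the two classes
  obtain ⟨LS', hLS', hSS⟩ := PicInv.exists_inverse hLS
  have hSS' : PicF.cl LS * PicF.cl LS' = 1 := by
    rw [← PicMul.cl_tensor, PicMul.one_def]; exact PicMul.cl_eq_iff.2 hSS
  let D := CohB1.tensorMod LC LS'
  have hD : PicF.IsInvertible D := PicMul.isInvertible_tensor hLC hLS'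
  have hDS : PicF.cl LC = PicF.cl D * PicF.cl LS := by
    show PicF.cl LC = PicF.cl (CohB1.tensorMod LC LS') * PicF.cl LS
    rw [PicMul.cl_tensor, mul_assoc, mul_comm (PicF.cl LS'), hSS', mul_one]
  obtain ⟨U, hU, hUi⟩ := hgen
  obtain ⟨N₀, hN₀, hN₀c⟩ := exists_base k f hX2 hB1 hint hD U hU (fun b hb hbc => by
    obtain ⟨e⟩ := hUi b hb hbc
    refine PicMul.cl_eq_iff.1 ?_
    rw [← PicMul.one_def]
    show PicMul.pullHom (f.fiberι b) (PicF.cl (CohB1.tensorMod LC LS')) = 1
    rw [PicMul.cl_tensor, map_mul, show PicMul.pullHom (f.fiberι b) (PicF.cl LC) = PicMul.pullHom (f.fiberι b) (PicF.cl LS)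
      from PicMul.cl_eq_iff.2 ⟨e⟩, ← map_mul, hSS', map_one])
  obtain ⟨hP, hdP, hPcl⟩ := fibre_ideal_cl k f hX2 hB1 b₀ hb₀
  have hdM : Curv2.deg k B M 1 = 1 := by
    obtain ⟨e⟩ := hMinv
    have h := CurveRR.deg_tensor k hB1 hM hP
    rw [CurveRR.deg_congr k (show (DCoh.tensorBi.obj M).obj (CurvePoint.ptMod b₀ hb₀) ≅ Coh.structureModule B from e),
      CurveDeg.deg_structureModule, hdP] at h
    omega
  have hfM := PicClLib.isInvertible_pullback f hM
  refine ⟨-Curv2.deg k B N₀ 1, ?_, fun N hN => ?_⟩
  · obtain ⟨cS, hcS⟩ := pair_pullback k f hX2 hB1 hLS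
    obtain ⟨cC, hcC⟩ := pair_pullback k f hX2 hB1 hLC
    have h1 : cS = 1 := by
      have := (hsec M hM).symm.trans (hcS M hM)
      rw [hdM, mul_one] at this
      exact this.symm
    have h2 : cC = cS := by
      obtain ⟨-, -, hbint, hbd⟩ := integral_fibre k f hint b₀ hb₀
      have h0 := vertical_pullback_pair k f hX2 hB1 hN₀ b₀ hb₀ hbint hbd (fibre_facts k hX2 hB1 f b₀ hb₀).2.1.le
      rw [← hPcl, hN₀c] at h0
      have hC := hcC _ hP
      rw [hDS, SurfPairing.pair_mul k hX2.le (PicClLib.isInvertible_pullback f hP) hD hLS, h0, zero_add, hcS _ hP,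
        hdP] at hC
      omega
    have hC1 := hcC N₀ hN₀
    have hS1 := hcS N₀ hN₀
    rw [hN₀c] at hC1 hS1
    rw [h2, h1] at hC1
    rw [h1] at hS1
    have e1 : SurfPairing.pair k (PicF.cl LC) (PicF.cl LC) =
        SurfPairing.pair k (PicF.cl D) (PicF.cl LC) + SurfPairing.pair k (PicF.cl LC) (PicF.cl LS) := by
      nth_rewrite 2 [hDS]
      rw [SurfPairing.pair_mul k hX2.le hLC hD hLS, SurfPairing.pair_comm k (PicF.cl LC) (PicF.cl D)]
    have e2 : SurfPairing.pair k (PicF.cl LC) (PicF.cl LS) =
        SurfPairing.pair k (PicF.cl D) (PicF.cl LS) + SurfPairing.pair k (PicF.cl LS) (PicF.cl LS) := by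
      rw [SurfPairing.pair_comm, hDS, SurfPairing.pair_mul k hX2.le hLS hD hLS,
        SurfPairing.pair_comm k (PicF.cl LS) (PicF.cl D)]
    rw [SurfPairing.intNum_eq_pair k hX2.le hLS hLS, SurfPairing.intNum_eq_pair k hX2.le hLC hLC, e1, e2, hC1, hS1]
    ring
  · obtain ⟨cN, hcN⟩ := pair_pullback k f hX2 hB1 hN
    have h1 := hcN N₀ hN₀
    rw [hN₀c] at h1
    have h2 : SurfPairing.pair k (PicF.cl LC) (PicF.cl N) =
        SurfPairing.pair k (PicF.cl D) (PicF.cl N) + SurfPairing.pair k (PicF.cl LS) (PicF.cl N) := by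
      rw [SurfPairing.pair_comm, hDS, SurfPairing.pair_mul k hX2.le hN hD hLS, SurfPairing.pair_comm k (PicF.cl N),
        SurfPairing.pair_comm k (PicF.cl N)]
    rw [SurfPairing.intNum_eq_pair k hX2.le hLS hN, SurfPairing.intNum_eq_pair k hX2.le hLC hN,
      SurfPairing.intNum_eq_pair k hX2.le hfM hN, hcN M hM, hdM, h2, h1]
    ring

end Groth.Agent.S19175
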