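import Groth.Statements.S19176
import Groth.Agent.H9Misc.MonomialQuot

set_option autoImplicit false
universe u
open PlaneCurve

namespace Groth.Agent.S19176

open MvPolynomial in
/-- Let k be a field of characteristic p (p = 0 allowed) and F = y² − x³ in k[x, y] (x the variable of
index 0, y of index 1). The singular subscheme of the plane curve F = 0, cut out by F and its two
partial derivatives, is finite over k of degree 4 when p = 2, of degree 3 when p = 3, and of degree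
2 otherwise: the k-dimension of k[x, y]/(F, ∂F/∂x, ∂F/∂y) is that number. (The source phrases this
through the complete local ring of a cusp; the row is the computation for the standard cusp y² =
x³.) -/
theorem result (k : Type u) [Field k] (p : ℕ) [CharP k p] :
    Module.finrank k (MvPolynomial (Fin 2) k ⧸ Ideal.span
      ({X 1 ^ 2 - X 0 ^ 3, pderiv 0 (X 1 ^ 2 - X 0 ^ 3), pderiv 1 (X 1 ^ 2 - X 0 ^ 3)} :
        Set (MvPolynomial (Fin 2) k))) = (if p = 2 then 4 else if p = 3 then 3 else 2) := by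
  have key : ∀ (a b : ℕ) (I : Ideal (MvPolynomial (Fin 2) k)),
      I = Ideal.span {X 0 ^ a, X 1 ^ b} → Module.finrank k (MvPolynomial (Fin 2) k ⧸ I) = a * b := fun a b I h => by
    subst h; exact Groth.Agent.H9Misc.MonomialQuot.finrank_quot a b
  have h0 : pderiv (0 : Fin 2) (X 1 ^ 2 - X 0 ^ 3 : MvPolynomial (Fin 2) k) = -(C (3 : k) * X 0 ^ 2) := by
    simp [map_ofNat C]
  have h1 : pderiv (1 : Fin 2) (X 1 ^ 2 - X 0 ^ 3 : MvPolynomial (Fin 2) k) = C (2 : k) * X 1 := by
    simp [map_ofNat C]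
  rw [h0, h1]
  have hne : ∀ n : ℕ, n.Prime → p ≠ n → (n : k) ≠ 0 := fun n hn hp h => by
    rcases (Nat.dvd_prime hn).1 ((CharP.cast_eq_zero_iff k p n).1 h) with rfl | rfl
    · exact CharP.char_ne_one k 1 rfl
    · exact hp rfl
  have h2ne : p ≠ 2 → (2 : k) ≠ 0 := fun hp => by exact_mod_cast hne 2 Nat.prime_two hp
  have h3ne : p ≠ 3 → (3 : k) ≠ 0 := fun hp => by exact_mod_cast hne 3 Nat.prime_three hp
  have hC : ∀ c : k, c ≠ 0 → IsUnit (C c : MvPolynomial (Fin 2) k) := fun c hc => hc.isUnit.map C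
  split_ifs with hp2 hp3
  · subst hp2
    have h20 : (2 : k) = 0 := by exact_mod_cast CharP.cast_eq_zero k 2
    have h31 : (3 : k) = 1 := by linear_combination h20
    rw [h20, h31, map_zero, zero_mul, map_one, one_mul]
    refine key 2 2 _ (le_antisymm (Ideal.span_le.2 ?_) (Ideal.span_le.2 ?_))
    · simp only [Set.insert_subset_iff, Set.singleton_subset_iff, SetLike.mem_coe, Ideal.mem_span_pair]
      exact ⟨⟨-X 0, 1, by ring⟩, ⟨-1, 0, by ring⟩, ⟨0, 0, by ring⟩⟩
    · simp only [Set.insert_subset_iff, Set.singleton_subset_iff, SetLike.mem_coe]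
      have hx : (X 0 ^ 2 : MvPolynomial (Fin 2) k) ∈ Ideal.span {X 1 ^ 2 - X 0 ^ 3, -X 0 ^ 2, 0} :=
        neg_neg (X 0 ^ 2 : MvPolynomial (Fin 2) k) ▸ (Ideal.neg_mem_iff _).2 (Ideal.subset_span (by simp))
      refine ⟨hx, ?_⟩
      have := Ideal.add_mem _ (Ideal.subset_span (s := ({X 1 ^ 2 - X 0 ^ 3, -X 0 ^ 2, 0} : Set _)) (Set.mem_insert _ _))
        (Ideal.mul_mem_left _ (X 0) hx)
      convert this using 1
      ring
  · subst hp3
    have h30 : (3 : k) = 0 := by exact_mod_cast CharP.cast_eq_zero k 3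
    obtain ⟨u, hu⟩ := hC 2 (h2ne hp2)
    rw [h30, map_zero, zero_mul, neg_zero]
    refine (key 3 1 _ (le_antisymm (Ideal.span_le.2 ?_) (Ideal.span_le.2 ?_))).trans rfl
    · simp only [Set.insert_subset_iff, Set.singleton_subset_iff, SetLike.mem_coe, Ideal.mem_span_pair]
      exact ⟨⟨-1, X 1, by ring⟩, ⟨0, 0, by ring⟩, ⟨0, C 2, by ring⟩⟩
    · simp only [Set.insert_subset_iff, Set.singleton_subset_iff, SetLike.mem_coe, pow_one]
      have hy : (X 1 : MvPolynomial (Fin 2) k) ∈ Ideal.span {X 1 ^ 2 - X 0 ^ 3, 0, C (2 : k) * X 1} :=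
        (Ideal.unit_mul_mem_iff_mem _ ⟨u, hu⟩).1 (Ideal.subset_span (by simp))
      refine ⟨?_, hy⟩
      have := Ideal.sub_mem _ (Ideal.mul_mem_left _ (X 1) hy)
        (Ideal.subset_span (s := ({X 1 ^ 2 - X 0 ^ 3, 0, C (2 : k) * X 1} : Set _)) (Set.mem_insert _ _))
      convert this using 1
      ring
  · obtain ⟨u, hu⟩ := hC 2 (h2ne hp2)
    obtain ⟨w, hw⟩ := hC 3 (h3ne hp3)
    refine (key 2 1 _ (le_antisymm (Ideal.span_le.2 ?_) (Ideal.span_le.2 ?_))).trans rfl
    · simp only [Set.insert_subset_iff, Set.singleton_subset_iff, SetLike.mem_coe, Ideal.mem_span_pair]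
      exact ⟨⟨-X 0, X 1, by ring⟩, ⟨-C 3, 0, by ring⟩, ⟨0, C 2, by ring⟩⟩
    · simp only [Set.insert_subset_iff, Set.singleton_subset_iff, SetLike.mem_coe, pow_one]
      refine ⟨(Ideal.unit_mul_mem_iff_mem _ ⟨w, hw⟩).1 ?_, (Ideal.unit_mul_mem_iff_mem _ ⟨u, hu⟩).1
        (Ideal.subset_span (by simp))⟩
      exact neg_neg (C (3 : k) * X 0 ^ 2 : MvPolynomial (Fin 2) k) ▸ (Ideal.neg_mem_iff _).2 (Ideal.subset_span (by simp))

end Groth.Agent.S19176
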