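import Groth.Statements.S19177
import Mathlib

set_option autoImplicit false
universe u
open CAlg

namespace Groth.Agent.S19177

/-- Let S → R be a homomorphism of commutative rings making R a finitely generated projective S-module
of rank 2 at every prime of S (the affine form of a finite locally free morphism of degree 2). Then
the cokernel of the (injective) structure map S → R, the S-module R/S, is a projective S-module of
rank 1 at every prime of S (locally free of rank 1). -/
theorem result
    (S R : Type u) [CommRing S] [CommRing R] [Algebra S R] [Module.Finite S R] [Module.Projective S R]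
    (h2 : ∀ p : PrimeSpectrum S, Module.rankAtStalk (R := S) R p = 2) :
    Module.Projective S (R ⧸ LinearMap.range (Algebra.linearMap S R)) ∧
      ∀ p : PrimeSpectrum S,
        Module.rankAtStalk (R := S) (R ⧸ LinearMap.range (Algebra.linearMap S R)) p = 1 := by
  have hnt : ∀ m : Ideal S, m.IsMaximal → m.map (algebraMap S R) ≠ ⊤ := by
    intro m hm htop
    have hmp : m.IsPrime := hm.isPrime
    have : FaithfulSMul S S := inferInstance
    let p : PrimeSpectrum S := ⟨m, hmp⟩
    have hsub : Subsingleton (TensorProduct S m.ResidueField R) := by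
      refine subsingleton_of_forall_eq 0 fun t => ?_
      induction t using TensorProduct.induction_on with
      | zero => rfl
      | add a b ha hb => rw [ha, hb, add_zero]
      | tmul c x =>
        have hx : x ∈ m • (⊤ : Submodule S R) := by
          rw [Ideal.smul_top_eq_map, htop]
          trivial
        refine Submodule.smul_induction_on hx (fun a ha y _ => ?_) fun a b ha hb => ?_
        · rw [TensorProduct.tmul_smul, TensorProduct.smul_tmul', Algebra.smul_def,
            Ideal.algebraMap_residueField_eq_zero.2 ha, zero_mul, TensorProduct.zero_tmul]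
        · rw [TensorProduct.tmul_add, ha, hb, add_zero]
    have := h2 p
    rw [← Ideal.finrank_fiber_eq_rankAtStalk] at this
    rw [Module.finrank_zero_of_subsingleton] at this
    omega
  let J : Ideal S := LinearMap.range (LinearMap.applyₗ (R := S) (1 : R) : (R →ₗ[S] S) →ₗ[S] S)
  have hJ : J = ⊤ := by
    by_contra hne
    obtain ⟨m, hm, hle⟩ := Ideal.exists_le_maximal J hne
    refine hnt m hm ((Ideal.eq_top_iff_one _).2 ?_)
    obtain ⟨n, f, g, hf, -, hfg⟩ := Module.Finite.exists_comp_eq_id_of_projective S R
    have h1 : f (g 1) = 1 := LinearMap.congr_fun hfg 1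
    rw [← h1, pi_eq_sum_univ (g 1), map_sum]
    refine Ideal.sum_mem _ fun i _ => ?_
    rw [map_smul, Algebra.smul_def]
    exact Ideal.mul_mem_right _ _ (Ideal.mem_map_of_mem _ (hle ⟨LinearMap.proj i ∘ₗ g, rfl⟩))
  obtain ⟨φ, hφ⟩ : (1 : S) ∈ J := hJ ▸ trivial
  replace hφ : φ 1 = 1 := hφ
  let l : S →ₗ[S] R := Algebra.linearMap S R
  have hl : φ ∘ₗ l = LinearMap.id := LinearMap.ext_ring (by simp [l, hφ])
  have hinj : Function.Injective l := Function.LeftInverse.injective (g := φ) (LinearMap.congr_fun hl)
  have hex : Function.Exact l (LinearMap.range l).mkQ := l.exact_map_mkQ_range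
  obtain ⟨e, -, -⟩ := hex.splitInjectiveEquiv (Submodule.mkQ_surjective _) ⟨φ, hl⟩
  have hproj : Module.Projective S (R ⧸ LinearMap.range l) :=
    Module.Projective.of_split ((e.symm.toLinearMap).comp (LinearMap.inr S S _))
      ((LinearMap.snd S S _).comp e.toLinearMap) (LinearMap.ext fun x => by simp)
  refine ⟨hproj, fun p => ?_⟩
  have := h2 p
  rw [Module.rankAtStalk_eq_of_equiv e, Module.rankAtStalk_prod] at this
  have hnts : Nontrivial S := ⟨0, 1, fun h => p.isPrime.ne_top ((Ideal.eq_top_iff_one _).2 (h ▸ zero_mem _))⟩
  simp only [Module.rankAtStalk_self, Pi.add_apply, Pi.one_apply] at this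
  simp only [l] at this ⊢
  omega

end Groth.Agent.S19177
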