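import Groth.Statements.S19178
import Mathlib

set_option autoImplicit false
universe u
open Curves

namespace Groth.Agent.S19178

/-- For every field k and every choice of coefficients a₁, a₂, a₃, a₄, a₆ in k, the homogeneous
Weierstrass cubic Y²Z + a₁XYZ + a₃YZ² − (X³ + a₂X²Z + a₄XZ² + a₆Z³) is an irreducible polynomial in
k[X, Y, Z]. Applied to all fields, this says every fibre of the Weierstrass family over the affine
space of coefficients is geometrically integral. -/
theorem result (k : Type u) [Field k]
    (W : WeierstrassCurve k) :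
    Irreducible (WeierstrassCurve.Projective.polynomial W) := by
  let φ : MvPolynomial (Fin 3) k →ₐ[k] Polynomial (Polynomial k) :=
    MvPolynomial.aeval ![Polynomial.C Polynomial.X, Polynomial.X, 1]
  let σ : Polynomial (Polynomial k) →+* Polynomial (Polynomial k) :=
    Polynomial.eval₂RingHom (Polynomial.mapRingHom Polynomial.C) (Polynomial.C Polynomial.X)
  let ψ : MvPolynomial (Fin 2) k →ₐ[k] Polynomial k := MvPolynomial.aeval ![Polynomial.X, 1]
  have hφ : φ (WeierstrassCurve.Projective.polynomial W) = W.toAffine.polynomial := by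
    simp [φ, WeierstrassCurve.Projective.polynomial, WeierstrassCurve.Affine.polynomial,
      Polynomial.algebraMap_eq]
    ring
  have hχ : ∀ f, σ (φ f) = ((MvPolynomial.finSuccEquiv k 2) f).map ψ.toRingHom := by
    intro f
    suffices h : σ.comp φ.toRingHom =
        (Polynomial.mapRingHom ψ.toRingHom).comp (MvPolynomial.finSuccEquiv k 2 : _ →+* _) from
      congrArg (fun g : MvPolynomial (Fin 3) k →+* Polynomial (Polynomial k) => g f) h
    refine MvPolynomial.ringHom_ext (fun r => ?_) (fun i => ?_)
    · simp [σ, φ, ψ, Polynomial.algebraMap_eq, MvPolynomial.finSuccEquiv_apply]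
    · have h1 : (1 : Fin 3) = Fin.succ 0 := rfl
      have h2 : (2 : Fin 3) = Fin.succ 1 := rfl
      fin_cases i
      · simp [σ, φ, ψ, MvPolynomial.finSuccEquiv_X_zero]
      · have e1 := MvPolynomial.finSuccEquiv_X_succ (R := k) (n := 2) (j := 0)
        rw [← h1] at e1
        simp [σ, φ, ψ, e1]
      · have e2 := MvPolynomial.finSuccEquiv_X_succ (R := k) (n := 2) (j := 1)
        rw [← h2] at e2
        simp [σ, φ, ψ, e2]
  let P := (MvPolynomial.finSuccEquiv k 2) (WeierstrassCurve.Projective.polynomial W)
  have hPe : P = Cubic.toPoly ⟨-1, -MvPolynomial.C W.a₂ * MvPolynomial.X 1,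
      MvPolynomial.C W.a₁ * MvPolynomial.X 0 * MvPolynomial.X 1 - MvPolynomial.C W.a₄ * MvPolynomial.X 1 ^ 2,
      MvPolynomial.X 0 ^ 2 * MvPolynomial.X 1 + MvPolynomial.C W.a₃ * MvPolynomial.X 0 * MvPolynomial.X 1 ^ 2 -
        MvPolynomial.C W.a₆ * MvPolynomial.X 1 ^ 3⟩ := by
    have h1 : (1 : Fin 3) = Fin.succ 0 := rfl
    have h2 : (2 : Fin 3) = Fin.succ 1 := rfl
    have e0 := MvPolynomial.finSuccEquiv_X_zero (R := k) (n := 2)
    have e1 := MvPolynomial.finSuccEquiv_X_succ (R := k) (n := 2) (j := 0)
    have e2 := MvPolynomial.finSuccEquiv_X_succ (R := k) (n := 2) (j := 1)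
    have eC : ∀ r : k, (MvPolynomial.finSuccEquiv k 2) (MvPolynomial.C r) = Polynomial.C (MvPolynomial.C r) := fun r => by
      simp [MvPolynomial.finSuccEquiv_apply]
    rw [← h1] at e1
    rw [← h2] at e2
    simp only [P, WeierstrassCurve.Projective.polynomial, map_add, map_sub, map_mul, map_pow, e0, e1, e2, eC,
      Cubic.toPoly, map_neg, map_one]
    ring
  have hlc : IsUnit P.leadingCoeff := by
    rw [hPe, Cubic.leadingCoeff_of_a_ne_zero (neg_ne_zero.2 one_ne_zero)]; exact isUnit_one.neg
  have key : ∀ f g, WeierstrassCurve.Projective.polynomial W = f * g → IsUnit (φ f) → IsUnit f := by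
    intro f g hfg hu
    let F := (MvPolynomial.finSuccEquiv k 2) f
    have hF : IsUnit F.leadingCoeff := by
      have : P = F * (MvPolynomial.finSuccEquiv k 2) g := by simp only [P, F, hfg, map_mul]
      rw [this, Polynomial.leadingCoeff_mul] at hlc
      exact isUnit_of_mul_isUnit_left hlc
    have hdeg : (F.map ψ.toRingHom).natDegree = F.natDegree :=
      Polynomial.natDegree_map_of_leadingCoeff_ne_zero _ ((hF.map ψ.toRingHom).ne_zero)
    rw [← hχ, Polynomial.natDegree_eq_zero_of_isUnit (hu.map σ)] at hdeg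
    have hFu : IsUnit F := by
      rw [Polynomial.eq_C_of_natDegree_eq_zero hdeg.symm]
      rw [Polynomial.leadingCoeff, ← hdeg] at hF
      exact Polynomial.isUnit_C.2 hF
    have := hFu.map (MvPolynomial.finSuccEquiv k 2).symm
    simpa [F] using this
  have hA : Irreducible W.toAffine.polynomial := WeierstrassCurve.Affine.irreducible_polynomial (W := W.toAffine)
  refine ⟨fun hu => hA.not_isUnit (hφ ▸ hu.map φ), fun f g hfg => ?_⟩
  rcases hA.isUnit_or_isUnit (show W.toAffine.polynomial = φ f * φ g by rw [← hφ, hfg, map_mul]) with h | h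
  · exact Or.inl (key f g hfg h)
  · exact Or.inr (key g f (by rw [hfg, mul_comm]) h)

end Groth.Agent.S19178
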