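import Groth.Statements.S19181
import Mathlib.RingTheory.MvPolynomial.Basic
import Mathlib.RingTheory.Ideal.Span
import Mathlib.Algebra.MvPolynomial.CommRing
import Mathlib.Algebra.MvPolynomial.Equiv
import Mathlib.Algebra.Polynomial.Monic
import Mathlib.Algebra.Polynomial.Degree.Operations

set_option autoImplicit false
universe u
open CAlg

namespace Groth.Agent.S19181
open MvPolynomial

/-- A polynomial whose reduction modulo `X₀` has a nonzero-divisor image is a nonzero-divisor modulo `X₀`. -/
theorem key {R : Type u} [CommRing R] (f : MvPolynomial (Fin 2) R)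
    (hf : IsSMulRegular (Polynomial R) (MvPolynomial.aeval ![0, Polynomial.X] f : Polynomial R)) (s : MvPolynomial (Fin 2) R) :
    (∃ n : ℕ, X 0 ^ n * s ∈ Ideal.span ({X 0 ^ 2 * f} : Set (MvPolynomial (Fin 2) R))) ↔ s ∈ Ideal.span {f} := by
  have hx : ∀ g : MvPolynomial (Fin 2) R, (X 0 : MvPolynomial (Fin 2) R) * g = 0 → g = 0 := fun g hg => by
    refine MvPolynomial.ext _ _ fun d => ?_
    have := congrArg (coeff (Finsupp.single 0 1 + d)) hg
    rwa [coeff_X_mul, coeff_zero] at this
  have hdiv : ∀ g : MvPolynomial (Fin 2) R, (MvPolynomial.aeval ![0, Polynomial.X] g : Polynomial R) = 0 → ∃ g', g = X 0 * g' := by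
    intro g hg
    let ι : Polynomial R →ₐ[R] MvPolynomial (Fin 2) R := Polynomial.aeval (X 1)
    have hsub : ∀ g : MvPolynomial (Fin 2) R, ∃ g', g = ι (MvPolynomial.aeval ![0, Polynomial.X] g) + X 0 * g' := by
      intro g
      induction g using MvPolynomial.induction_on with
      | C a => exact ⟨0, by simp [ι]⟩
      | add u v hu hv =>
        obtain ⟨u', hu⟩ := hu
        obtain ⟨v', hv⟩ := hv
        refine ⟨u' + v', ?_⟩
        conv_lhs => rw [hu, hv]
        simp only [map_add]; ring
      | mul_X u i hu =>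
        obtain ⟨u', hu⟩ := hu
        fin_cases i
        · exact ⟨u, by simp [ι, mul_comm]⟩
        · refine ⟨u' * X 1, ?_⟩
          conv_lhs => rw [hu]
          simp [ι]; ring
    obtain ⟨g', hg'⟩ := hsub g
    exact ⟨g', by rwa [hg, map_zero, zero_add] at hg'⟩
  have hstep : ∀ n, ∀ s w : MvPolynomial (Fin 2) R, X 0 ^ n * s = w * f → s ∈ Ideal.span {f} := by
    intro n
    induction n with
    | zero => intro s w h; exact Ideal.mem_span_singleton'.2 ⟨w, by rw [← h, pow_zero, one_mul]⟩
    | succ n ih =>
      intro s w h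
      have h0 : (MvPolynomial.aeval ![0, Polynomial.X] w : Polynomial R) = 0 := by
        refine hf ?_
        have := congrArg (MvPolynomial.aeval ![(0 : Polynomial R), Polynomial.X]) h
        simp only [map_mul, map_pow, aeval_X, Matrix.cons_val_zero, zero_pow n.succ_ne_zero, zero_mul] at this
        simp only [smul_eq_mul, mul_zero]
        rw [mul_comm]
        exact this.symm
      obtain ⟨w', rfl⟩ := hdiv w h0
      refine ih s w' (sub_eq_zero.1 (hx _ ?_))
      rw [mul_sub, sub_eq_zero, ← mul_assoc, ← pow_succ', h]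
      ring
  constructor
  · rintro ⟨n, hn⟩
    obtain ⟨w, hw⟩ := Ideal.mem_span_singleton'.1 hn
    exact hstep n s (w * X 0 ^ 2) (by rw [← hw]; ring)
  · intro hs
    obtain ⟨w, rfl⟩ := Ideal.mem_span_singleton'.1 hs
    exact ⟨2, Ideal.mem_span_singleton'.2 ⟨w, by ring⟩⟩

open MvPolynomial in
/-- Let R be a commutative ring, a₁, a₂ ∈ R, and C ⊂ A²_R the curve y² + a₁xy = x³ + a₂x², blown up at
the section x = y = 0. In the chart where x = yα (variables y = X 0, α = X 1) the equation of C
becomes y²·g₁ with g₁ = 1 + a₁α − yα³ − a₂α², and the y-saturation of the ideal (y²g₁) is (g₁): for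
s ∈ R[y, α], some yⁿs lies in (y²g₁) if and only if s ∈ (g₁). In the chart where y = xβ (variables x
= X 0, β = X 1) the equation becomes x²·g₂ with g₂ = β² + a₁β − x − a₂, and some xⁿs lies in (x²g₂)
if and only if s ∈ (g₂). In other words the strict transform of C is cut out by g₁, resp. g₂, in the
two charts. -/
theorem result (R : Type u) [CommRing R] (a₁ a₂ : R) :
    (∀ s : MvPolynomial (Fin 2) R,
      (∃ n : ℕ, X 0 ^ n * s ∈ Ideal.span ({X 0 ^ 2 * (1 + C a₁ * X 1 - X 0 * X 1 ^ 3 - C a₂ * X 1 ^ 2)} :
        Set (MvPolynomial (Fin 2) R))) ↔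
      s ∈ Ideal.span ({1 + C a₁ * X 1 - X 0 * X 1 ^ 3 - C a₂ * X 1 ^ 2} : Set (MvPolynomial (Fin 2) R))) ∧
    (∀ s : MvPolynomial (Fin 2) R,
      (∃ n : ℕ, X 0 ^ n * s ∈ Ideal.span ({X 0 ^ 2 * (X 1 ^ 2 + C a₁ * X 1 - X 0 - C a₂)} :
        Set (MvPolynomial (Fin 2) R))) ↔
      s ∈ Ideal.span ({X 1 ^ 2 + C a₁ * X 1 - X 0 - C a₂} : Set (MvPolynomial (Fin 2) R))) := by
  constructor <;> refine key _ ?_
  · intro u v h
    simp only [map_sub, map_add, map_one, map_mul, map_pow, aeval_C, aeval_X, Matrix.cons_val_zero, Matrix.cons_val_one,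
      zero_mul, sub_zero, smul_eq_mul] at h
    -- constant coefficient `1`
    rw [← sub_eq_zero, ← mul_sub] at h
    refine sub_eq_zero.1 (Polynomial.ext fun k => ?_)
    induction k using Nat.strong_induction_on with
    | _ k ih =>
      have hk := congrArg (Polynomial.coeff · k) h
      simp only [Polynomial.algebraMap_eq, sub_mul, add_mul, one_mul, mul_assoc, Polynomial.coeff_sub, Polynomial.coeff_add,
        Polynomial.coeff_C_mul, Polynomial.coeff_X_pow_mul', Polynomial.coeff_zero] at hk
      rcases k with _ | _ | k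
      · simpa [Polynomial.coeff_X_mul_zero] using hk
      · rw [Polynomial.coeff_X_mul] at hk
        have := ih 0 (by omega)
        simp_all
      · rw [Polynomial.coeff_X_mul] at hk
        have := ih (k + 1) (by omega)
        have := ih k (by omega)
        simp_all
  · refine (Polynomial.Monic.isRegular ?_).left
    simp only [map_sub, map_add, map_mul, map_pow, aeval_C, aeval_X, Matrix.cons_val_zero, Matrix.cons_val_one, sub_zero]
    rw [add_sub_assoc]
    nontriviality R
    exact Polynomial.monic_X_pow_add (by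
      refine (Polynomial.degree_sub_le _ _).trans_lt (max_lt ?_ ?_)
      · exact (Polynomial.degree_C_mul_X_le _).trans_lt (by norm_num)
      · exact Polynomial.degree_C_le.trans_lt (by norm_num))

end Groth.Agent.S19181
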