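import Groth.Statements.S19182
import Mathlib.RingTheory.Smooth.Basic
import Mathlib.RingTheory.Localization.Away.Basic
import Mathlib.Algebra.MvPolynomial.Equiv

set_option autoImplicit false
universe u
open CAlg

namespace Groth.Agent.S19182
open MvPolynomial

open MvPolynomial in
/-- Let R be a commutative ring and a₁, a₂ ∈ R. The two affine charts of the blow-up of the plane curve
y² + a₁xy = x³ + a₂x² at the section x = y = 0, with coordinate rings R[y, α]/(1 + a₁α − yα³ − a₂α²)
and R[x, β]/(β² + a₁β − x − a₂) (variables indexed 0 and 1 in this order), are smooth R-algebras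
(formally smooth of finite presentation). This is the local computation behind the statement that
the blow-up of a Weierstrass curve along a section through its singular locus is a smooth proper
curve of genus 0. -/
theorem result (R : Type u) [CommRing R] (a₁ a₂ : R) :
    Algebra.Smooth R (MvPolynomial (Fin 2) R ⧸
      Ideal.span ({1 + C a₁ * X 1 - X 0 * X 1 ^ 3 - C a₂ * X 1 ^ 2} : Set (MvPolynomial (Fin 2) R))) ∧
    Algebra.Smooth R (MvPolynomial (Fin 2) R ⧸
      Ideal.span ({X 1 ^ 2 + C a₁ * X 1 - X 0 - C a₂} : Set (MvPolynomial (Fin 2) R))) := by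
  haveI : Algebra.Smooth R (Polynomial R) := by
    haveI : Algebra.Smooth R (MvPolynomial PUnit.{1} R) := ⟨inferInstance, inferInstance⟩
    exact Algebra.Smooth.of_equiv (MvPolynomial.pUnitAlgEquiv R)
  constructor
  · let f : MvPolynomial (Fin 2) R := 1 + C a₁ * X 1 - X 0 * X 1 ^ 3 - C a₂ * X 1 ^ 2
    let Q := MvPolynomial (Fin 2) R ⧸ Ideal.span ({f} : Set (MvPolynomial (Fin 2) R))
    let L := Localization.Away (Polynomial.X : Polynomial R)
    let x : Fin 2 → Q := fun i => Ideal.Quotient.mkₐ R _ (X i)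
    have hf : (1 : Q) + algebraMap R Q a₁ * x 1 - x 0 * x 1 ^ 3 - algebraMap R Q a₂ * x 1 ^ 2 = 0 := by
      have h : Ideal.Quotient.mkₐ R (Ideal.span ({f} : Set (MvPolynomial (Fin 2) R))) f = 0 :=
        Ideal.Quotient.eq_zero_iff_mem.2 (Ideal.mem_span_singleton_self f)
      have hm : ∀ c : R, Ideal.Quotient.mkₐ R (Ideal.span ({f} : Set (MvPolynomial (Fin 2) R))) (C c) = algebraMap R Q c := fun c => rfl
      have e : Ideal.Quotient.mkₐ R (Ideal.span ({f} : Set (MvPolynomial (Fin 2) R))) (1 + C a₁ * X 1 - X 0 * X 1 ^ 3 - C a₂ * X 1 ^ 2) = 0 := h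
      simpa only [map_sub, map_add, map_one, map_mul, map_pow, hm] using e
    let w : Q := x 0 * x 1 ^ 2 + algebraMap R Q a₂ * x 1 - algebraMap R Q a₁
    have hw : x 1 * w = 1 := by linear_combination -hf
    let Y : L := algebraMap (Polynomial R) L Polynomial.X
    let Yi : L := IsLocalization.Away.invSelf (Polynomial.X : Polynomial R)
    have hY : Y * Yi = 1 := IsLocalization.Away.mul_invSelf _
    let g : Fin 2 → L := ![(1 + algebraMap R L a₁ * Y - algebraMap R L a₂ * Y ^ 2) * Yi ^ 3, Y]
    have hg : MvPolynomial.aeval g f = 0 := by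
      simp only [f, g, map_sub, map_add, map_one, map_mul, map_pow, aeval_C, aeval_X, Matrix.cons_val_zero, Matrix.cons_val_one]
      linear_combination -(1 + algebraMap R L a₁ * Y - algebraMap R L a₂ * Y ^ 2) * (Y ^ 2 * Yi ^ 2 + Y * Yi + 1) * hY
    let ψ : Q →ₐ[R] L := Ideal.Quotient.liftₐ _ (MvPolynomial.aeval g) (fun a ha => by
      obtain ⟨c, rfl⟩ := Ideal.mem_span_singleton'.1 ha
      rw [map_mul, hg, mul_zero])
    have hx1 : IsUnit ((Polynomial.aeval (x 1) : Polynomial R →ₐ[R] Q) Polynomial.X) := by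
      rw [Polynomial.aeval_X]; exact IsUnit.of_mul_eq_one w hw
    let φ : L →ₐ[R] Q := IsLocalization.liftAlgHom (M := Submonoid.powers (Polynomial.X : Polynomial R))
      (f := Polynomial.aeval (x 1)) (fun y => by
        obtain ⟨_, n, rfl⟩ := y
        show IsUnit ((Polynomial.aeval (x 1) : Polynomial R →ₐ[R] Q) (Polynomial.X ^ n))
        rw [map_pow]; exact hx1.pow n)
    have hφY : φ Y = x 1 := by
      show φ (algebraMap (Polynomial R) L Polynomial.X) = x 1
      simp [φ]
    have hφYi : φ Yi = w := by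
      refine (IsUnit.of_mul_eq_one w hw).mul_left_cancel ?_
      rw [hw, ← hφY, ← map_mul, hY, map_one]
    have h1 : φ.comp ψ = AlgHom.id R Q := by
      refine Ideal.Quotient.algHom_ext _ (MvPolynomial.algHom_ext fun i => ?_)
      show φ (MvPolynomial.aeval g (X i)) = x i
      rw [aeval_X]
      fin_cases i
      · show φ ((1 + algebraMap R L a₁ * Y - algebraMap R L a₂ * Y ^ 2) * Yi ^ 3) = x 0
        simp only [map_mul, map_add, map_sub, map_one, map_pow, AlgHom.commutes, hφY, hφYi]
        linear_combination w ^ 3 * hf + x 0 * (x 1 ^ 2 * w ^ 2 + x 1 * w + 1) * hw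
      · exact hφY
    have h2 : ψ.comp φ = AlgHom.id R L := by
      refine IsLocalization.algHom_ext (Submonoid.powers (Polynomial.X : Polynomial R)) (Polynomial.algHom_ext ?_)
      show ψ (φ Y) = Y
      rw [hφY]
      show MvPolynomial.aeval g (X 1) = Y
      rw [aeval_X]; rfl
    haveI : Algebra.Smooth (Polynomial R) L := Algebra.Smooth.of_isLocalization_Away (Polynomial.X : Polynomial R)
    haveI : Algebra.Smooth R L := Algebra.Smooth.comp R (Polynomial R) L
    exact Algebra.Smooth.of_equiv (AlgEquiv.ofAlgHom φ ψ h1 h2)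
  · let f : MvPolynomial (Fin 2) R := X 1 ^ 2 + C a₁ * X 1 - X 0 - C a₂
    let Q := MvPolynomial (Fin 2) R ⧸ Ideal.span ({f} : Set (MvPolynomial (Fin 2) R))
    let g : Fin 2 → Polynomial R := ![Polynomial.X ^ 2 + Polynomial.C a₁ * Polynomial.X - Polynomial.C a₂, Polynomial.X]
    have hg : MvPolynomial.aeval g f = 0 := by
      simp only [f, g, map_sub, map_add, map_mul, map_pow, aeval_C, aeval_X, Matrix.cons_val_zero, Matrix.cons_val_one, Polynomial.algebraMap_eq]
      ring
    let ψ : Q →ₐ[R] Polynomial R := Ideal.Quotient.liftₐ _ (MvPolynomial.aeval g) (fun a ha => by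
      obtain ⟨c, rfl⟩ := Ideal.mem_span_singleton'.1 ha
      rw [map_mul, hg, mul_zero])
    let φ : Polynomial R →ₐ[R] Q := Polynomial.aeval (Ideal.Quotient.mkₐ R _ (X 1))
    have h1 : φ.comp ψ = AlgHom.id R Q := by
      refine Ideal.Quotient.algHom_ext _ (MvPolynomial.algHom_ext fun i => ?_)
      show φ (MvPolynomial.aeval g (X i)) = Ideal.Quotient.mkₐ R _ (X i)
      rw [aeval_X]
      fin_cases i
      · have h : Ideal.Quotient.mkₐ R (Ideal.span ({f} : Set (MvPolynomial (Fin 2) R))) f = 0 :=
          Ideal.Quotient.eq_zero_iff_mem.2 (Ideal.mem_span_singleton_self f)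
        have hm : ∀ c : R, Ideal.Quotient.mkₐ R (Ideal.span ({f} : Set (MvPolynomial (Fin 2) R))) (C c) = algebraMap R Q c := fun c => rfl
        have e : Ideal.Quotient.mkₐ R (Ideal.span ({f} : Set (MvPolynomial (Fin 2) R))) (X 1 ^ 2 + C a₁ * X 1 - X 0 - C a₂) = 0 := h
        simp only [map_sub, map_add, map_mul, map_pow, hm] at e
        show φ (Polynomial.X ^ 2 + Polynomial.C a₁ * Polynomial.X - Polynomial.C a₂) = Ideal.Quotient.mkₐ R (Ideal.span ({f} : Set (MvPolynomial (Fin 2) R))) (X 0)
        simp only [φ, map_sub, map_add, map_mul, map_pow, Polynomial.aeval_X, Polynomial.aeval_C]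
        linear_combination e
      · exact Polynomial.aeval_X _
    have h2 : ψ.comp φ = AlgHom.id R (Polynomial R) := by
      refine Polynomial.algHom_ext ?_
      show ψ (φ Polynomial.X) = Polynomial.X
      rw [show φ Polynomial.X = Ideal.Quotient.mkₐ R _ (X 1) from Polynomial.aeval_X _]
      show MvPolynomial.aeval g (X 1) = Polynomial.X
      rw [aeval_X]; rfl
    exact Algebra.Smooth.of_equiv (AlgEquiv.ofAlgHom φ ψ h1 h2)

end Groth.Agent.S19182
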