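import Groth.Statements.S19183
import Mathlib.LinearAlgebra.Dimension.Finite
import Mathlib.RingTheory.FiniteType
import Mathlib.LinearAlgebra.InvariantBasisNumber
import Mathlib.LinearAlgebra.Dimension.Constructions
import Mathlib.RingTheory.Ideal.Span
import Mathlib.Algebra.GroupWithZero.NonZeroDivisors
import Mathlib.Tactic.Ring

set_option autoImplicit false
universe u
open CAlg

namespace Groth.Agent.S19183

/-- Let A be a non-zero commutative ring and f ∈ A a non-zero-divisor. The fibre product A ×_{A/(f)} A
of two copies of A over A/(f) — the A-submodule of A × A of pairs (x, y) with x − y ∈ (f), which is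
the coordinate ring of two copies of Spec A glued along the Cartier divisor f = 0 — is a free
A-module of rank 2. (This is what makes the gluing of two copies of a curve along an effective
Cartier divisor finite locally free of degree 2 over the curve.) -/
theorem result (A : Type u) [CommRing A] [Nontrivial A]
    (f : A) (hf : f ∈ nonZeroDivisors A) :
    Module.Free A (Submodule.comap (LinearMap.fst A A A - LinearMap.snd A A A) (Ideal.span ({f} : Set A))) ∧
      Module.finrank A (Submodule.comap (LinearMap.fst A A A - LinearMap.snd A A A) (Ideal.span ({f} : Set A))) = 2 := by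
  let S := Submodule.comap (LinearMap.fst A A A - LinearMap.snd A A A) (Ideal.span ({f} : Set A))
  let φ₀ : A × A →ₗ[A] A × A :=
    { toFun := fun x => (x.1 + f * x.2, x.1)
      map_add' := fun x y => by ext <;> simp <;> ring
      map_smul' := fun r x => by ext <;> simp <;> ring }
  let φ : A × A →ₗ[A] S := LinearMap.codRestrict S φ₀ fun x =>
    Ideal.mem_span_singleton'.2 ⟨x.2, show x.2 * f = x.1 + f * x.2 - x.1 by ring⟩
  have hφ : Function.Bijective φ := by
    refine ⟨fun x y h => ?_, fun ⟨⟨a, b⟩, hab⟩ => ?_⟩
    · have h' : (x.1 + f * x.2, x.1) = (y.1 + f * y.2, y.1) := congrArg Subtype.val h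
      obtain ⟨h1, h2⟩ := Prod.mk.inj h'
      rw [h2, add_right_inj] at h1
      refine Prod.ext h2 (sub_eq_zero.1 ((mem_nonZeroDivisors_iff.1 hf).1 _ ?_))
      rw [mul_sub, h1, sub_self]
    · obtain ⟨c, hc⟩ := Ideal.mem_span_singleton'.1 (show a - b ∈ Ideal.span ({f} : Set A) from hab)
      refine ⟨(b, c), Subtype.ext ?_⟩
      change (b + f * c, b) = (a, b)
      rw [mul_comm, hc, add_sub_cancel]
  let e := LinearEquiv.ofBijective φ hφ
  exact ⟨Module.Free.of_equiv e, by rw [← e.finrank_eq, Module.finrank_prod, Module.finrank_self]⟩

end Groth.Agent.S19183
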