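import Groth.Statements.S19184
import Mathlib.Algebra.Polynomial.Monic
import Mathlib.LinearAlgebra.Dimension.Constructions
import Mathlib.Algebra.Polynomial.Basis
import Mathlib.LinearAlgebra.Basis.Prod
import Mathlib.RingTheory.Polynomial.Basic
import Mathlib.RingTheory.Ideal.Quotient.Operations
import Mathlib.LinearAlgebra.FreeModule.Basic
import Mathlib.RingTheory.Finiteness.Basic
import Mathlib.Algebra.Polynomial.Div
import Mathlib.Tactic.ComputeDegree

set_option autoImplicit false
universe u
open CAlg

namespace Groth.Agent.S19184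
open Polynomial

theorem free_and_finite {S : Type u} [CommRing S] (q : S[X]) (hq : q.Monic) (hdeg : q.natDegree = 2)
    (B : Subalgebra S S[X]) (hB : ∀ f, f ∈ B ↔ ∃ r, q ∣ f - C r) :
    Module.Free S B ∧ Module.Finite B S[X] := by
  rcases subsingleton_or_nontrivial S with h | h
  · haveI : Subsingleton S[X] := inferInstance
    exact ⟨Module.Free.of_subsingleton S B, Module.Finite.of_finite⟩
  refine ⟨?_, ?_⟩
  · let φ : S × S[X] →ₗ[S] B := LinearMap.codRestrict (Subalgebra.toSubmodule B)
      ((Algebra.linearMap S S[X]).coprod (LinearMap.mulLeft S q)) fun x =>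
        (hB _).2 ⟨x.1, x.2, by simp⟩
    have hφ : Function.Bijective φ := by
      constructor
      · rw [injective_iff_map_eq_zero]
        intro x hx
        have h' : C x.1 + q * x.2 = 0 := congrArg Subtype.val hx
        have h2 : x.2 = 0 := by
          by_contra hne
          have := congrArg natDegree (eq_neg_of_add_eq_zero_right h')
          rw [hq.natDegree_mul' hne, natDegree_neg, natDegree_C, hdeg] at this
          omega
        rw [h2, mul_zero, add_zero, C_eq_zero] at h'
        exact Prod.ext h' h2
      · rintro ⟨f, hf⟩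
        obtain ⟨r, g, hg⟩ := (hB f).1 hf
        refine ⟨(r, g), Subtype.ext ?_⟩
        change C r + q * g = f
        rw [← hg, add_sub_cancel]
    exact Module.Free.of_equiv (LinearEquiv.ofBijective φ hφ)
  · classical
    refine ⟨⟨{1, X}, eq_top_iff.2 fun f _ => ?_⟩⟩
    have hr : (f %ₘ q).degree ≤ 1 := by
      have := natDegree_modByMonic_lt f hq (fun h => by rw [h, natDegree_one] at hdeg; omega)
      exact natDegree_le_iff_degree_le.1 (show (f %ₘ q).natDegree ≤ 1 by omega)
    have hsplit : f = (q * (f /ₘ q) + C ((f %ₘ q).coeff 0)) • (1 : S[X]) + C ((f %ₘ q).coeff 1) * X := by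
      conv_lhs => rw [← modByMonic_add_div f q, eq_X_add_C_of_degree_le_one hr]
      rw [smul_eq_mul, mul_one]
      ring
    rw [hsplit, Finset.coe_insert, Finset.coe_singleton]
    exact Submodule.add_mem _
      ((Submodule.span B ({1, X} : Set S[X])).smul_mem
        ⟨q * (f /ₘ q) + C ((f %ₘ q).coeff 0), (hB _).2 ⟨(f %ₘ q).coeff 0, _, add_sub_cancel_right _ _⟩⟩
        (Submodule.subset_span (Or.inl rfl)))
      ((Submodule.span B ({1, X} : Set S[X])).smul_mem
        ⟨C ((f %ₘ q).coeff 1), (hB _).2 ⟨(f %ₘ q).coeff 1, 0, by simp⟩⟩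
        (Submodule.subset_span (Or.inr rfl)))

open Polynomial in
/-- Let S be a commutative ring, a, b ∈ S, f = x² + ax + b ∈ S[x] and R = S[x]/(f), a free S-algebra of
rank 2. Let A ⊂ S[x] be the S-subalgebra of polynomials whose class in R lies in the image of S → R;
it is the fibre product S[x] ×_R S, the coordinate ring of the affine line over S with the degree-2
subscheme Spec R collapsed onto Spec S. Then A is a free S-module and S[x] is a finitely generated
A-module. -/
theorem result (S : Type u) [CommRing S] (a b : S) :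
    Module.Free S ((⊥ : Subalgebra S (S[X] ⧸ Ideal.span ({X ^ 2 + C a * X + C b} : Set S[X]))).comap
        (Ideal.Quotient.mkₐ S (Ideal.span ({X ^ 2 + C a * X + C b} : Set S[X])))) ∧
      Module.Finite ((⊥ : Subalgebra S (S[X] ⧸ Ideal.span ({X ^ 2 + C a * X + C b} : Set S[X]))).comap
        (Ideal.Quotient.mkₐ S (Ideal.span ({X ^ 2 + C a * X + C b} : Set S[X])))) S[X] := by
  have hmem : ∀ f : S[X], f ∈ (⊥ : Subalgebra S (S[X] ⧸ Ideal.span ({X ^ 2 + C a * X + C b} : Set S[X]))).comap
      (Ideal.Quotient.mkₐ S (Ideal.span ({X ^ 2 + C a * X + C b} : Set S[X]))) ↔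
      ∃ r, (X ^ 2 + C a * X + C b) ∣ f - C r := by
    intro f
    rw [Subalgebra.mem_comap, Algebra.mem_bot, Set.mem_range]
    refine exists_congr fun r => ?_
    rw [← Ideal.mem_span_singleton, ← Ideal.Quotient.eq, eq_comm]
    rfl
  rcases subsingleton_or_nontrivial S with h | h
  · exact ⟨Module.Free.of_subsingleton S _, Module.Finite.of_finite⟩
  · exact free_and_finite _ (by monicity!) (by compute_degree!) _ hmem

end Groth.Agent.S19184
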