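import Groth.Statements.S19185
import Groth.Agent.HypSmoothLib.Affine
import Mathlib.RingTheory.Polynomial.Resultant.Basic
import Mathlib.FieldTheory.IsAlgClosed.Basic

set_option autoImplicit false
universe u
open Curves

namespace Groth.Agent.S19185

open Groth.Agent.HypSmoothLib in
theorem smooth_chart_iff {k : Type u} [Field k] (a b : Polynomial k) (hab : a ≠ 0 ∨ b ≠ 0) :
    Algebra.Smooth k (MvPolynomial (Fin 2) k ⧸ Ideal.span
      ({Polynomial.aeval (MvPolynomial.X 0) a + Polynomial.aeval (MvPolynomial.X 0) b * MvPolynomial.X 1} : Set (MvPolynomial (Fin 2) k))) ↔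
      ∀ t w : AlgebraicClosure k, Polynomial.aeval t a = 0 → Polynomial.aeval t b = 0 →
        Polynomial.aeval t a.derivative + Polynomial.aeval t b.derivative * w ≠ 0 := by
  have hd : ∀ (i : Fin 2) (p : Polynomial k), MvPolynomial.pderiv i (Polynomial.aeval (MvPolynomial.X 0 : MvPolynomial (Fin 2) k) p) =
      if i = 0 then Polynomial.aeval (MvPolynomial.X 0) p.derivative else 0 := fun i p => by
    induction p using Polynomial.induction_on' with
    | add p q hp hq => simp only [map_add, hp, hq]; split <;> simp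
    | monomial n c =>
      rw [Polynomial.aeval_monomial, Polynomial.derivative_monomial, Polynomial.aeval_monomial]
      by_cases h : i = 0
      · subst h; simp [MvPolynomial.algebraMap_eq, Derivation.leibniz_pow, nsmul_eq_mul, mul_assoc]
      · simp [h, MvPolynomial.algebraMap_eq, Derivation.leibniz_pow, MvPolynomial.pderiv_X_of_ne (Ne.symm h)]
  have he : ∀ (x : Fin 2 → AlgebraicClosure k) (p : Polynomial k),
      MvPolynomial.aeval x (Polynomial.aeval (MvPolynomial.X 0 : MvPolynomial (Fin 2) k) p) = Polynomial.aeval (x 0) p := fun x p => by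
    rw [← Polynomial.aeval_algHom_apply, MvPolynomial.aeval_X]
  rw [smooth_quotient_iff_no_singular_zero]
  swap
  · intro h0
    have hφ : ∀ c : Polynomial k, MvPolynomial.aeval ![Polynomial.X, c] (Polynomial.aeval (MvPolynomial.X 0 : MvPolynomial (Fin 2) k) a +
        Polynomial.aeval (MvPolynomial.X 0) b * MvPolynomial.X 1) = a + b * c := fun c => by
      simp [← Polynomial.aeval_algHom_apply, Polynomial.aeval_X_left_apply]
    have h1 := hφ 0
    have h2 := hφ 1
    rw [h0, map_zero] at h1 h2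
    rw [mul_zero, add_zero] at h1
    rw [← h1, mul_one, zero_add] at h2
    exact hab.elim (fun h => h h1.symm) (fun h => h h2.symm)
  have h0 : ∀ x : Fin 2 → AlgebraicClosure k, MvPolynomial.aeval x (MvPolynomial.pderiv 0
      (Polynomial.aeval (MvPolynomial.X 0) a + Polynomial.aeval (MvPolynomial.X 0) b * MvPolynomial.X 1 : MvPolynomial (Fin 2) k)) =
      Polynomial.aeval (x 0) a.derivative + Polynomial.aeval (x 0) b.derivative * x 1 := fun x => by
    simp [MvPolynomial.pderiv_X_of_ne, hd, he, mul_comm]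
  have h1 : ∀ x : Fin 2 → AlgebraicClosure k, MvPolynomial.aeval x (MvPolynomial.pderiv 1
      (Polynomial.aeval (MvPolynomial.X 0) a + Polynomial.aeval (MvPolynomial.X 0) b * MvPolynomial.X 1 : MvPolynomial (Fin 2) k)) =
      Polynomial.aeval (x 0) b := fun x => by
    simp [hd, he]
  constructor
  · intro h t w ha hb
    rcases Fin.exists_fin_two.1 (h ![t, w] (by simp [he, ha, hb])) with hi | hi
    · rw [h0] at hi; simpa using hi
    · rw [h1] at hi; exact absurd (by simpa using hb) hi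
  · intro h x hx
    by_cases hb : Polynomial.aeval (x 0) b = 0
    · refine ⟨0, ?_⟩
      rw [h0]
      exact h _ _ (by simpa [he, hb] using hx) hb
    · exact ⟨1, by rw [h1]; exact hb⟩

theorem smooth_pair_iff {k : Type u} [Field k] (a b : Polynomial k) (hab : a ≠ 0 ∨ b ≠ 0) :
    (Algebra.Smooth k (MvPolynomial (Fin 2) k ⧸ Ideal.span
      ({Polynomial.aeval (MvPolynomial.X 0) a + Polynomial.aeval (MvPolynomial.X 0) b * MvPolynomial.X 1} : Set (MvPolynomial (Fin 2) k))) ∧
    Algebra.Smooth k (MvPolynomial (Fin 2) k ⧸ Ideal.span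
      ({Polynomial.aeval (MvPolynomial.X 0) a * MvPolynomial.X 1 + Polynomial.aeval (MvPolynomial.X 0) b} : Set (MvPolynomial (Fin 2) k)))) ↔
      ∀ t : AlgebraicClosure k, ¬ (Polynomial.aeval t a = 0 ∧ Polynomial.aeval t b = 0) := by
  rw [add_comm (Polynomial.aeval (MvPolynomial.X 0) a * MvPolynomial.X 1) (Polynomial.aeval (MvPolynomial.X 0) b),
    smooth_chart_iff a b hab, smooth_chart_iff b a hab.symm]
  refine ⟨fun h t ht => ?_, fun h => ⟨fun t w ha hb => absurd ⟨ha, hb⟩ (h t), fun t w hb ha => absurd ⟨ha, hb⟩ (h t)⟩⟩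
  by_cases hb' : Polynomial.aeval t b.derivative = 0
  · by_cases ha' : Polynomial.aeval t a.derivative = 0
    · exact h.1 t 0 ht.1 ht.2 (by simp [ha'])
    · exact h.2 t 0 ht.2 ht.1 (by simp [hb'])
  · exact h.1 t (-Polynomial.aeval t a.derivative / Polynomial.aeval t b.derivative) ht.1 ht.2 (by field_simp; ring)

theorem rev_root {k : Type u} [Field k] {m : ℕ} (c : Fin (m + 1) → k) (t : AlgebraicClosure k) (ht : t ≠ 0) :
    Polynomial.aeval t (∑ i : Fin (m + 1), Polynomial.C (c i) * Polynomial.X ^ (m - (i : ℕ))) = 0 ↔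
      Polynomial.aeval t⁻¹ (∑ i : Fin (m + 1), Polynomial.C (c i) * Polynomial.X ^ (i : ℕ)) = 0 := by
  simp only [map_sum, map_mul, Polynomial.aeval_C, map_pow, Polynomial.aeval_X]
  have : ∀ i : Fin (m + 1), algebraMap k (AlgebraicClosure k) (c i) * t ^ (m - (i : ℕ)) =
      t ^ m * (algebraMap k (AlgebraicClosure k) (c i) * t⁻¹ ^ (i : ℕ)) := fun i => by
    rw [pow_sub₀ _ ht (Nat.le_of_lt_succ i.2), inv_pow]; ring
  rw [Finset.sum_congr rfl fun i _ => this i, ← Finset.mul_sum, mul_eq_zero, or_iff_right (pow_ne_zero _ ht)]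

theorem rev_root_zero {k : Type u} [Field k] {m : ℕ} (c : Fin (m + 1) → k) :
    Polynomial.aeval (0 : AlgebraicClosure k) (∑ i : Fin (m + 1), Polynomial.C (c i) * Polynomial.X ^ (m - (i : ℕ))) = 0 ↔
      c (Fin.last m) = 0 := by
  simp only [map_sum, map_mul, Polynomial.aeval_C, map_pow, Polynomial.aeval_X]
  rw [Finset.sum_eq_single (Fin.last m)]
  · simp
  · intro i _ hi
    rw [zero_pow (by have := Fin.val_lt_last hi; omega), mul_zero]
  · simp

theorem coeff_sum {k : Type u} [Field k] {m : ℕ} (c : Fin (m + 1) → k) (j : Fin (m + 1)) :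
    (∑ i : Fin (m + 1), Polynomial.C (c i) * Polynomial.X ^ (i : ℕ)).coeff (j : ℕ) = c j := by
  rw [Polynomial.finsetSum_coeff, Finset.sum_eq_single j (fun i _ hi => ?_) (by simp)]
  · simp
  · rw [Polynomial.coeff_C_mul_X_pow, if_neg fun h => hi (Fin.ext h.symm)]

theorem natDegree_sum_le' {k : Type u} [Field k] {m : ℕ} (c : Fin (m + 1) → k) :
    (∑ i : Fin (m + 1), Polynomial.C (c i) * Polynomial.X ^ (i : ℕ)).natDegree ≤ m :=
  Polynomial.natDegree_sum_le_of_forall_le _ _ fun i _ =>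
    (Polynomial.natDegree_C_mul_X_pow_le _ _).trans (Nat.le_of_lt_succ i.2)

theorem rev_ne_zero {k : Type u} [Field k] {m : ℕ} (c : Fin (m + 1) → k) (hc : c ≠ 0) :
    (∑ i : Fin (m + 1), Polynomial.C (c i) * Polynomial.X ^ (m - (i : ℕ))) ≠ 0 := by
  intro h
  refine hc (funext fun j => ?_)
  have := congrArg (fun p => Polynomial.coeff p (m - (j : ℕ))) h
  simp only [Polynomial.finsetSum_coeff, Polynomial.coeff_zero, Polynomial.coeff_C_mul_X_pow] at this
  rw [Finset.sum_eq_single j (fun i _ hi => if_neg fun he => hi (Fin.ext (by omega))) (by simp)] at this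
  simpa using this



/-- Let k be a field, n ≥ 3, q a binary quadratic form and ξ a binary form of degree n over k, given by
coefficient vectors (q_i the coefficient of x^i y^(2−i), ξ_j that of x^j y^(n−j)), not both zero.
The pair (q, ξ) is a global section of O(2) ⊕ O(n) on P¹_k, i.e. of the line bundle of class e + nf
on the Hirzebruch surface F_{n−2} = P(O ⊕ O(n−2)) → P¹_k, and cuts out the curve W : q·u + ξ·v = 0
there ([u : v] the fibre coordinates). Over the two standard opens of P¹ (t = x/y, s = y/x) and the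
two opens u ≠ 0, v ≠ 0 of the fibres, W is covered by four affine charts with coordinate rings k[t,
w]/(q(t,1) + ξ(t,1)·w), k[t, w]/(q(t,1)·w + ξ(t,1)), k[s, w]/(q(1,s) + ξ(1,s)·w) and k[s,
w]/(q(1,s)·w + ξ(1,s)) (variables indexed 0 for t or s and 1 for w). Then W is smooth over k — all
four chart algebras are smooth k-algebras — if and only if the resultant of q and ξ (the Sylvester
determinant of the two coefficient vectors with size parameters 2 and n) is nonzero. (The published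
statement is over a general base scheme B, for a section (q, ξ) vanishing on no fibre, with 'the
resultant is a unit on B' in place of 'nonzero'; its proof reduces at once to the statement over a
field given here, which is the case B = Spec k.) -/
theorem result (k : Type u) [Field k] (n : ℕ) (hn : 3 ≤ n)
    (q : Fin 3 → k) (ξ : Fin (n + 1) → k) (hqξ : q ≠ 0 ∨ ξ ≠ 0) :
    (Algebra.Smooth k (MvPolynomial (Fin 2) k ⧸ Ideal.span ({(∑ i : Fin 3, MvPolynomial.C (q i) * MvPolynomial.X 0 ^ (i : ℕ)) + (∑ j : Fin (n + 1), MvPolynomial.C (ξ j) * MvPolynomial.X 0 ^ (j : ℕ)) * MvPolynomial.X 1} : Set (MvPolynomial (Fin 2) k))) ∧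
      Algebra.Smooth k (MvPolynomial (Fin 2) k ⧸ Ideal.span ({(∑ i : Fin 3, MvPolynomial.C (q i) * MvPolynomial.X 0 ^ (i : ℕ)) * MvPolynomial.X 1 + (∑ j : Fin (n + 1), MvPolynomial.C (ξ j) * MvPolynomial.X 0 ^ (j : ℕ))} : Set (MvPolynomial (Fin 2) k))) ∧
      Algebra.Smooth k (MvPolynomial (Fin 2) k ⧸ Ideal.span ({(∑ i : Fin 3, MvPolynomial.C (q i) * MvPolynomial.X 0 ^ (2 - (i : ℕ))) + (∑ j : Fin (n + 1), MvPolynomial.C (ξ j) * MvPolynomial.X 0 ^ (n - (j : ℕ))) * MvPolynomial.X 1} : Set (MvPolynomial (Fin 2) k))) ∧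
      Algebra.Smooth k (MvPolynomial (Fin 2) k ⧸ Ideal.span ({(∑ i : Fin 3, MvPolynomial.C (q i) * MvPolynomial.X 0 ^ (2 - (i : ℕ))) * MvPolynomial.X 1 + (∑ j : Fin (n + 1), MvPolynomial.C (ξ j) * MvPolynomial.X 0 ^ (n - (j : ℕ)))} : Set (MvPolynomial (Fin 2) k)))) ↔
    Polynomial.resultant (∑ i : Fin 3, Polynomial.C (q i) * Polynomial.X ^ (i : ℕ))
      (∑ j : Fin (n + 1), Polynomial.C (ξ j) * Polynomial.X ^ (j : ℕ)) 2 n ≠ 0 := by
  set Q : Polynomial k := ∑ i : Fin 3, Polynomial.C (q i) * Polynomial.X ^ (i : ℕ) with hQ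
  set Z : Polynomial k := ∑ j : Fin (n + 1), Polynomial.C (ξ j) * Polynomial.X ^ (j : ℕ) with hZ
  set Q' : Polynomial k := ∑ i : Fin 3, Polynomial.C (q i) * Polynomial.X ^ (2 - (i : ℕ)) with hQ'
  set Z' : Polynomial k := ∑ j : Fin (n + 1), Polynomial.C (ξ j) * Polynomial.X ^ (n - (j : ℕ)) with hZ'
  have e1 : (∑ i : Fin 3, MvPolynomial.C (q i) * MvPolynomial.X 0 ^ (i : ℕ) : MvPolynomial (Fin 2) k) = Polynomial.aeval (MvPolynomial.X 0) Q := by
    simp [hQ, MvPolynomial.algebraMap_eq]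
  have e2 : (∑ j : Fin (n + 1), MvPolynomial.C (ξ j) * MvPolynomial.X 0 ^ (j : ℕ) : MvPolynomial (Fin 2) k) = Polynomial.aeval (MvPolynomial.X 0) Z := by
    simp [hZ, MvPolynomial.algebraMap_eq]
  have e3 : (∑ i : Fin 3, MvPolynomial.C (q i) * MvPolynomial.X 0 ^ (2 - (i : ℕ)) : MvPolynomial (Fin 2) k) = Polynomial.aeval (MvPolynomial.X 0) Q' := by
    simp [hQ', MvPolynomial.algebraMap_eq]
  have e4 : (∑ j : Fin (n + 1), MvPolynomial.C (ξ j) * MvPolynomial.X 0 ^ (n - (j : ℕ)) : MvPolynomial (Fin 2) k) = Polynomial.aeval (MvPolynomial.X 0) Z' := by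
    simp [hZ', MvPolynomial.algebraMap_eq]
  rw [e1, e2, e3, e4]
  have n1 : Q ≠ 0 ∨ Z ≠ 0 := hqξ.imp (fun h h' => h (funext fun j => by rw [← coeff_sum q j, ← hQ, h']; rfl))
    (fun h h' => h (funext fun j => by rw [← coeff_sum ξ j, ← hZ, h']; rfl))
  have n2 : Q' ≠ 0 ∨ Z' ≠ 0 := hqξ.imp (rev_ne_zero q) (rev_ne_zero ξ)
  rw [← and_assoc, smooth_pair_iff Q Z n1, smooth_pair_iff Q' Z' n2]
  have key : (∀ t : AlgebraicClosure k, ¬ (Polynomial.aeval t Q' = 0 ∧ Polynomial.aeval t Z' = 0)) ↔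
      (∀ t : AlgebraicClosure k, t ≠ 0 → ¬ (Polynomial.aeval t Q = 0 ∧ Polynomial.aeval t Z = 0)) ∧
        ¬ (Q.coeff 2 = 0 ∧ Z.coeff n = 0) := by
    have c1 : Q.coeff 2 = q (Fin.last 2) := coeff_sum q (Fin.last 2)
    have c2 : Z.coeff n = ξ (Fin.last n) := coeff_sum ξ (Fin.last n)
    rw [c1, c2]
    constructor
    · intro h
      refine ⟨fun t ht hc => h t⁻¹ ⟨?_, ?_⟩, fun hc => h 0 ⟨(rev_root_zero q).2 hc.1, (rev_root_zero ξ).2 hc.2⟩⟩
      · rw [rev_root q _ (inv_ne_zero ht), inv_inv]; exact hc.1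
      · rw [rev_root ξ _ (inv_ne_zero ht), inv_inv]; exact hc.2
    · rintro ⟨h, h0⟩ t ⟨hA, hB⟩
      rcases eq_or_ne t 0 with rfl | ht
      · exact h0 ⟨(rev_root_zero q).1 hA, (rev_root_zero ξ).1 hB⟩
      · exact h t⁻¹ (inv_ne_zero ht) ⟨(rev_root q t ht).1 hA, (rev_root ξ t ht).1 hB⟩
  rw [key]
  have dQ : Q.natDegree ≤ 2 := natDegree_sum_le' q
  have dZ : Z.natDegree ≤ n := natDegree_sum_le' ξ
  have hco : Polynomial.resultant Q Z ≠ 0 ↔ ∀ t : AlgebraicClosure k, ¬ (Polynomial.aeval t Q = 0 ∧ Polynomial.aeval t Z = 0) := by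
    rw [Ne, Polynomial.resultant_eq_zero_iff, and_iff_right n1, not_not,
      Polynomial.isCoprime_iff_aeval_ne_zero_of_isAlgClosed (k := k) (AlgebraicClosure k)]
    exact forall_congr' fun t => not_and_or.symm
  by_cases hq2 : Q.coeff 2 = 0
  · by_cases hzn : Z.coeff n = 0
    · refine iff_of_false (fun h => h.2.2 ⟨hq2, hzn⟩) (not_not.2 ?_)
      refine Polynomial.resultant_eq_zero_of_lt_lt Q Z 2 n (lt_of_le_of_ne dQ fun h => ?_) (lt_of_le_of_ne dZ fun h => ?_)
      · have hz : Q = 0 := Polynomial.leadingCoeff_eq_zero.1 (by rw [Polynomial.leadingCoeff, h, hq2])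
        simp [hz] at h
      · have hz : Z = 0 := Polynomial.leadingCoeff_eq_zero.1 (by rw [Polynomial.leadingCoeff, h, hzn])
        simp [hz] at h; omega
    · obtain ⟨j, hj⟩ := Nat.exists_eq_add_of_le dQ
      have hZd : Z.natDegree = n := le_antisymm dZ (Polynomial.le_natDegree_of_ne_zero hzn)
      have hr := Polynomial.resultant_add_left_deg (f := Q) (g := Z) (m := Q.natDegree) (n := n) (k := j) le_rfl
      rw [← hj] at hr
      rw [hr, mul_ne_zero_iff, and_iff_right (mul_ne_zero (pow_ne_zero _ (neg_ne_zero.2 one_ne_zero)) (pow_ne_zero _ hzn)),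
        show Polynomial.resultant Q Z Q.natDegree n = Polynomial.resultant Q Z by rw [hZd], hco]
      exact ⟨fun h => h.1, fun h => ⟨h, fun t _ => h t, fun hc => hzn hc.2⟩⟩
  · obtain ⟨j, hj⟩ := Nat.exists_eq_add_of_le dZ
    have hQd : Q.natDegree = 2 := le_antisymm dQ (Polynomial.le_natDegree_of_ne_zero hq2)
    have hr := Polynomial.resultant_add_right_deg (f := Q) (g := Z) (m := 2) (n := Z.natDegree) j le_rfl
    rw [← hj] at hr
    rw [hr, mul_ne_zero_iff, and_iff_right (pow_ne_zero _ hq2),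
      show Polynomial.resultant Q Z 2 Z.natDegree = Polynomial.resultant Q Z by rw [hQd], hco]
    exact ⟨fun h => h.1, fun h => ⟨h, fun t _ => h t, fun hc => hq2 hc.1⟩⟩

end Groth.Agent.S19185
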