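import Groth.Statements.S19186
import Mathlib


set_option autoImplicit false
universe u
open OneMot

namespace Groth.Agent.S19186

/-- Let p and ℓ be distinct prime numbers, r and n natural numbers, and f : A → B a homomorphism of
abelian groups whose kernel and cokernel are annihilated by p^r (f a = 0 implies p^r • a = 0, and
every p^r • b lies in the image of f). Then f induces a bijection between the ℓ^n-torsion subgroups
of A and B and a bijection A/ℓ^n A → B/ℓ^n B. Spelled out without quotients: every ℓ^n-torsion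
element of B has exactly one ℓ^n-torsion preimage; an element of A whose image is an ℓ^n-multiple is
itself an ℓ^n-multiple; and every element of B is the sum of an image and an ℓ^n-multiple. -/
theorem result {A B : Type u} [AddCommGroup A] [AddCommGroup B] (f : A →+ B) (p ℓ r n : ℕ) (hp : p.Prime) (hl : ℓ.Prime) (hne : ℓ ≠ p) (hker : ∀ a : A, f a = 0 → p ^ r • a = 0) (hcoker : ∀ b : B, ∃ a : A, f a = p ^ r • b) : (∀ b : B, ℓ ^ n • b = 0 → ∃! a : A, ℓ ^ n • a = 0 ∧ f a = b) ∧ (∀ a : A, (∃ b' : B, f a = ℓ ^ n • b') → ∃ a' : A, a = ℓ ^ n • a') ∧ (∀ b : B, ∃ (a : A) (b' : B), b = f a + ℓ ^ n • b') := by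
  have hcop : IsCoprime ((p : ℤ) ^ r) ((ℓ : ℤ) ^ n) := by
    apply IsCoprime.pow
    rw [Int.isCoprime_iff_nat_coprime]
    simpa using (Nat.coprime_primes hp hl).2 (Ne.symm hne)
  obtain ⟨u, v, huv⟩ := hcop
  have key : ∀ {G : Type u} [AddCommGroup G] (x : G),
      x = u • (p ^ r • x) + v • (ℓ ^ n • x) := by
    intro G _ x
    conv_lhs => rw [← one_smul ℤ x, ← huv]
    rw [add_smul, mul_smul, mul_smul, ← natCast_zsmul x (p ^ r), ← natCast_zsmul x (ℓ ^ n)]
    push_cast
    rfl
  refine ⟨fun b hb => ?_, fun a ⟨b', hb'⟩ => ?_, fun b => ?_⟩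
  · obtain ⟨a0, ha0⟩ := hcoker b
    have hb1 : b = u • (p ^ r • b) := by
      conv_lhs => rw [key b, hb, smul_zero, add_zero]
    have hkill : p ^ r • (ℓ ^ n • a0) = 0 := by
      refine hker _ ?_
      rw [map_nsmul, ha0, ← mul_nsmul', mul_comm, mul_nsmul', hb, smul_zero]
    refine ⟨u • (p ^ r • (u • a0)), ⟨?_, ?_⟩, ?_⟩
    · calc ℓ ^ n • (u • (p ^ r • (u • a0))) = u • (u • (p ^ r • (ℓ ^ n • a0))) := by module
        _ = 0 := by rw [hkill, smul_zero, smul_zero]
    · rw [map_zsmul, map_nsmul, map_zsmul, ha0, ← hb1, ← hb1]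
    · rintro a ⟨ha, hfa⟩
      have h0 : f (a - u • (p ^ r • (u • a0))) = 0 := by
        rw [map_sub, map_zsmul, map_nsmul, map_zsmul, ha0, ← hb1, ← hb1, hfa, sub_self]
      have h1 := hker _ h0
      have h2 : ℓ ^ n • (a - u • (p ^ r • (u • a0))) = 0 := by
        rw [smul_sub, ha]
        calc 0 - ℓ ^ n • (u • (p ^ r • (u • a0))) = - (u • (u • (p ^ r • (ℓ ^ n • a0)))) := by module
          _ = 0 := by rw [hkill, smul_zero, smul_zero, neg_zero]
      have h3 := key (a - u • (p ^ r • (u • a0)))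
      rw [h1, h2, smul_zero, smul_zero, add_zero] at h3
      exact sub_eq_zero.1 h3
  · obtain ⟨a1, ha1⟩ := hcoker b'
    have h0 : f (p ^ r • a - ℓ ^ n • a1) = 0 := by
      rw [map_sub, map_nsmul, map_nsmul, hb', ha1]; module
    have h1 := hker _ h0
    have h2 : p ^ r • (p ^ r • a) = ℓ ^ n • (p ^ r • a1) := by
      rw [smul_sub, sub_eq_zero] at h1
      rw [h1]; module
    refine ⟨u • u • (p ^ r • a1) + (u • v • (p ^ r • a) + v • a), ?_⟩
    calc a = u • (p ^ r • a) + v • (ℓ ^ n • a) := key a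
      _ = u • (u • (p ^ r • (p ^ r • a)) + v • (ℓ ^ n • (p ^ r • a))) + v • (ℓ ^ n • a) := by
          rw [← key (p ^ r • a)]
      _ = _ := by rw [h2]; module
  · obtain ⟨a0, ha0⟩ := hcoker b
    refine ⟨u • a0, v • b, ?_⟩
    rw [map_zsmul, ha0]
    conv_lhs => rw [key b]
    module

end Groth.Agent.S19186
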