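import Groth.Statements.S19187
import Mathlib

set_option autoImplicit false
universe u
open Cpct

namespace Groth.Agent.S19187

open CategoryTheory AlgebraicGeometry in
/-- Let k be a field, X̄ and Ȳ schemes proper over Spec k, j : X → X̄ an open immersion with dense image
and v : Y → Ȳ an open immersion (compactifications of X and Y), f : X → Y a proper morphism and f̄ :
X̄ → Ȳ a morphism over Spec k with f̄ ∘ j = v ∘ f. Then the preimage under f̄ of the open v(Y) is
the open j(X); equivalently, the complement of X in X̄ is the preimage of the complement of Y in Ȳ.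
(The base field k is arbitrary: no perfectness assumption is needed.) -/
theorem result {k : Type u} [Field k] {X Y Xb Yb : Scheme.{u}} (a : Xb ⟶ Spec (CommRingCat.of k)) (b : Yb ⟶ Spec (CommRingCat.of k)) [IsProper a] [IsProper b] (j : X ⟶ Xb) [IsOpenImmersion j] (hj : Dense (Set.range j.base)) (v : Y ⟶ Yb) [IsOpenImmersion v] (f : X ⟶ Y) [IsProper f] (fb : Xb ⟶ Yb) (hfb : fb ≫ b = a) (hsq : j ≫ fb = f ≫ v) : fb ⁻¹ᵁ v.opensRange = j.opensRange := by
  refine le_antisymm ?_ ?_
  · intro z hz
    haveI : IsSeparated (fb ≫ b) := hfb ▸ inferInstance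
    haveI : IsSeparated fb := IsSeparated.of_comp fb b
    let P := fb ⁻¹ᵁ v.opensRange
    have hle : Set.range j.base ⊆ (P : Set Xb) := by
      rintro _ ⟨x, rfl⟩
      change fb.base (j.base x) ∈ Set.range v.base
      exact ⟨f.base x, (congrArg (fun m => m.base x) hsq).symm⟩
    let l : X ⟶ P.toScheme := IsOpenImmersion.lift P.ι j (by rw [Scheme.Opens.range_ι]; exact hle)
    have hl : l ≫ P.ι = j := IsOpenImmersion.lift_fac _ _ _
    have hc : l ≫ (fb ∣_ v.opensRange) = f ≫ v.isoOpensRange.hom := by
      rw [← cancel_mono v.opensRange.ι, Category.assoc, morphismRestrict_ι, ← Category.assoc, hl, hsq]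
      simp
    haveI : IsProper (l ≫ (fb ∣_ v.opensRange)) := hc ▸ inferInstance
    haveI : IsProper l := IsProper.of_comp l (fb ∣_ v.opensRange)
    have hrange : Subtype.val '' Set.range l.base = Set.range j.base := by
      ext y; constructor
      · rintro ⟨_, ⟨x, rfl⟩, rfl⟩
        exact ⟨x, by rw [← hl]; rfl⟩
      · rintro ⟨x, rfl⟩
        exact ⟨l.base x, ⟨x, rfl⟩, by rw [← hl]; rfl⟩
    have hzc : (⟨z, hz⟩ : P) ∈ Set.range l.base := by
      rw [← l.isClosedMap.isClosed_range.closure_eq]
      refine closure_subtype.mpr ?_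
      refine hrange.symm ▸ ?_
      rw [hj.closure_eq]; trivial
    obtain ⟨x, hx⟩ := hzc
    exact ⟨x, by rw [← hl]; exact congrArg Subtype.val hx⟩
  · rintro _ ⟨x, rfl⟩
    change fb.base (j.base x) ∈ Set.range v.base
    exact ⟨f.base x, (congrArg (fun m => m.base x) hsq).symm⟩

end Groth.Agent.S19187
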