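import Groth.Statements.S19189
import Mathlib

set_option autoImplicit false
universe v u
open CategoryTheory CategoryTheory.Limits CategoryTheory.Pretriangulated CategoryTheory.Triangulated
open CohDer

namespace Groth.Agent.S19189

open Pretriangulated

section

variable {C : Type u} [Category.{v} C] [Preadditive C] [HasZeroObject C] [HasShift C ℤ]
  [∀ n : ℤ, (shiftFunctor C n).Additive] [Pretriangulated C]

/-- Splitting property for the idempotents of one object. -/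
def Splits (X : C) : Prop :=
  ∀ p : X ⟶ X, p ≫ p = p → ∃ (Y : C) (i : Y ⟶ X) (e : X ⟶ Y), i ≫ e = 𝟙 Y ∧ e ≫ i = p

lemma idem_sub {X : C} {p : X ⟶ X} (hp : p ≫ p = p) : (𝟙 X - p) ≫ (𝟙 X - p) = 𝟙 X - p := by
  simp [hp]

lemma splits_heart (t : TStructure C) (X : C) (a : ℤ) [t.IsLE X a] [t.IsGE X a] : Splits X := by
  suffices key : ∀ p : X ⟶ X, p ≫ p = p →
      ∃ (Y : C) (i : Y ⟶ X) (e : X ⟶ Y), i ≫ e = 𝟙 Y ∧ e ≫ i = 𝟙 X - p by
    intro p hp
    simpa using key (𝟙 X - p) (idem_sub hp)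
  intro p hp
  obtain ⟨Z, q, w, hT⟩ := distinguished_cocone_triangle p
  have h' := inv_rot_of_distTriang _ hT
  have h'' := inv_rot_of_distTriang _ h'
  let F : C := (Triangle.mk p q w).invRotate.obj₁
  let m : F ⟶ X := (Triangle.mk p q w).invRotate.mor₁
  have hmp : m ≫ p = 0 := comp_distTriang_mor_zero₁₂ _ h'
  have hu : ∀ (W : C) [t.IsLE W a] (g : W ⟶ F), g ≫ m = 0 → g = 0 := by
    intro W _ g hg
    obtain ⟨g', rfl⟩ := Triangle.coyoneda_exact₂ _ h'' g hg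
    have : t.IsGE (X⟦(-1 : ℤ)⟧) (a + 1) := t.isGE_shift X a (-1) (a + 1)
    have hg' : g' = 0 := t.zero_of_isLE_of_isGE g' a (a + 1) (lt_add_one a) inferInstance this
    rw [hg']
    exact zero_comp
  obtain ⟨r', hr'⟩ := Triangle.coyoneda_exact₂ _ h' (𝟙 X - p)
    (show (𝟙 X - p) ≫ p = 0 by simp [hp])
  let ι := (t.truncLTι (a + 1)).app F
  let r := t.liftTruncLT (Y := F) r' a (a + 1) rfl
  have hr : r ≫ ι = r' := t.liftTruncLT_ι r' a (a + 1) rfl
  refine ⟨(t.truncLT (a + 1)).obj F, ι ≫ m, r, ?_, ?_⟩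
  · have h1 : ((ι ≫ m) ≫ r ≫ ι - ι) ≫ m = 0 := by
      rw [Preadditive.sub_comp, Category.assoc, hr,
        show r' ≫ m = 𝟙 X - p from hr'.symm, Preadditive.comp_sub, Category.comp_id,
        Category.assoc ι m p, hmp, comp_zero, sub_zero, sub_self]
    have h2 := sub_eq_zero.1 (hu _ _ h1)
    refine t.to_truncLT_obj_ext ?_
    rw [Category.id_comp, Category.assoc]
    exact h2
  · rw [← Category.assoc, hr]
    exact hr'.symm

lemma splits_ext (T : Triangle C) (hT : T ∈ distTriang C) (h₁ : Splits T.obj₁)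
    (h₃ : Splits T.obj₃) (f : T ⟶ T) (hf₁ : f.hom₁ ≫ f.hom₁ = f.hom₁)
    (hf₂ : f.hom₂ ≫ f.hom₂ = f.hom₂) (hf₃ : f.hom₃ ≫ f.hom₃ = f.hom₃) :
    ∃ (Y : C) (i : Y ⟶ T.obj₂) (e : T.obj₂ ⟶ Y), i ≫ e = 𝟙 Y ∧ e ≫ i = f.hom₂ := by
  obtain ⟨A, iA, eA, hA, hA'⟩ := h₁ _ hf₁
  obtain ⟨B, iB, eB, hB, hB'⟩ := h₃ _ hf₃
  have hc : iB ≫ T.mor₃ ≫ f.hom₁⟦(1 : ℤ)⟧' = iB ≫ T.mor₃ := by
    rw [f.comm₃, ← hB', Category.assoc, reassoc_of% hB]
  obtain ⟨Y, a, b, hS⟩ := distinguished_cocone_triangle₂ (iB ≫ T.mor₃ ≫ eA⟦(1 : ℤ)⟧')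
  obtain ⟨u, hu₁, hu₂⟩ : ∃ u : Y ⟶ T.obj₂, a ≫ u = iA ≫ T.mor₁ ∧ b ≫ iB = u ≫ T.mor₂ :=
    complete_distinguished_triangle_morphism₂ _ T hS hT iA iB (by
    change (iB ≫ T.mor₃ ≫ eA⟦(1 : ℤ)⟧') ≫ iA⟦(1 : ℤ)⟧' = iB ≫ T.mor₃
    rw [Category.assoc, Category.assoc, ← Functor.map_comp, hA']
    exact hc)
  obtain ⟨g, hg₁, hg₂⟩ : ∃ g : T.obj₂ ⟶ Y, T.mor₁ ≫ g = eA ≫ a ∧ T.mor₂ ≫ eB = g ≫ b :=
    complete_distinguished_triangle_morphism₂ T _ hT hS eA eB (by
    change T.mor₃ ≫ eA⟦(1 : ℤ)⟧' = eB ≫ iB ≫ T.mor₃ ≫ eA⟦(1 : ℤ)⟧'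
    rw [reassoc_of% hB', ← reassoc_of% f.comm₃, ← Functor.map_comp, ← hA', Category.assoc,
      hA, Category.comp_id])
  have hha : a ≫ u ≫ g = a := by
    rw [reassoc_of% hu₁, hg₁, reassoc_of% hA]
  have hhb : (u ≫ g) ≫ b = b := by
    rw [Category.assoc, ← hg₂, ← reassoc_of% hu₂, hB, Category.comp_id]
  let φ : Triangle.mk a b (iB ≫ T.mor₃ ≫ eA⟦(1 : ℤ)⟧') ⟶
      Triangle.mk a b (iB ≫ T.mor₃ ≫ eA⟦(1 : ℤ)⟧') :=
    { hom₁ := 𝟙 A
      hom₂ := u ≫ g
      hom₃ := 𝟙 B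
      comm₁ := by
        change a ≫ u ≫ g = 𝟙 A ≫ a
        rw [hha, Category.id_comp]
      comm₂ := by
        change b ≫ 𝟙 B = (u ≫ g) ≫ b
        rw [hhb, Category.comp_id]
      comm₃ := by
        change (iB ≫ T.mor₃ ≫ eA⟦(1 : ℤ)⟧') ≫ (𝟙 A)⟦(1 : ℤ)⟧' = 𝟙 B ≫ (iB ≫ T.mor₃ ≫ eA⟦(1 : ℤ)⟧')
        rw [CategoryTheory.Functor.map_id, Category.comp_id, Category.id_comp] }
  have : IsIso (u ≫ g) := isIso₂_of_isIso₁₃ φ hS hS (inferInstanceAs (IsIso (𝟙 A)))
    (inferInstanceAs (IsIso (𝟙 B)))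
  let g' : T.obj₂ ⟶ Y := g ≫ inv (u ≫ g)
  have hg' : u ≫ g' = 𝟙 Y := by
    rw [← Category.assoc, IsIso.hom_inv_id]
  let q := g' ≫ u
  have hq : q ≫ q = q := by
    simp only [q, Category.assoc, reassoc_of% hg']
  have hai : a ≫ inv (u ≫ g) = a := by
    rw [IsIso.comp_inv_eq, hha]
  have hib : inv (u ≫ g) ≫ b = b := by
    rw [IsIso.inv_comp_eq, hhb]
  have hq₁ : T.mor₁ ≫ q = f.hom₁ ≫ T.mor₁ := by
    simp only [q, g', Category.assoc]
    rw [reassoc_of% hg₁, reassoc_of% hai, hu₁, reassoc_of% hA']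
  have hq₂ : q ≫ T.mor₂ = T.mor₂ ≫ f.hom₃ := by
    simp only [q, g', Category.assoc]
    rw [← hu₂, reassoc_of% hib, ← reassoc_of% hg₂, hB']
  let n := f.hom₂ - q
  have hn₁ : T.mor₁ ≫ n = 0 := by
    rw [Preadditive.comp_sub, hq₁, f.comm₁, sub_self]
  have hn₂ : n ≫ T.mor₂ = 0 := by
    rw [Preadditive.sub_comp, hq₂, f.comm₂, sub_self]
  obtain ⟨c, hc'⟩ := T.yoneda_exact₂ hT n hn₁
  have hn : n ≫ n = 0 := by
    calc n ≫ n = n ≫ T.mor₂ ≫ c := by rw [← hc']
      _ = 0 := by rw [reassoc_of% hn₂, zero_comp]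
  let p := f.hom₂
  let v := p ≫ q + (𝟙 _ - p) ≫ (𝟙 _ - q)
  let v' := q ≫ p + (𝟙 _ - q) ≫ (𝟙 _ - p)
  have hp : p ≫ p = p := hf₂
  have hn' : p ≫ p - p ≫ q - (q ≫ p - q ≫ q) = 0 := by
    simpa only [n, Preadditive.sub_comp, Preadditive.comp_sub, sub_sub_sub_comm] using hn
  have hpq : p + q = p ≫ q + q ≫ p := by
    rw [hp, hq] at hn'
    rw [← sub_eq_zero, ← hn']
    abel
  have hvv : v ≫ v' = 𝟙 _ := by
    simp only [v, v', Preadditive.comp_add, Preadditive.add_comp, Preadditive.sub_comp,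
      Preadditive.comp_sub, Category.id_comp, Category.comp_id, Category.assoc, hp, hq,
      reassoc_of% hp, reassoc_of% hq]
    rw [← sub_eq_zero]
    linear_combination (norm := abel) -(1 : ℤ) • hpq
  have hv'v : v' ≫ v = 𝟙 _ := by
    simp only [v, v', Preadditive.comp_add, Preadditive.add_comp, Preadditive.sub_comp,
      Preadditive.comp_sub, Category.id_comp, Category.comp_id, Category.assoc, hp, hq,
      reassoc_of% hp, reassoc_of% hq]
    rw [← sub_eq_zero]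
    linear_combination (norm := abel) -(1 : ℤ) • hpq
  have hpv : p ≫ v = v ≫ q := by
    simp only [v, Preadditive.comp_add, Preadditive.add_comp, Preadditive.sub_comp,
      Preadditive.comp_sub, Category.id_comp, Category.comp_id, Category.assoc, hp, hq,
      reassoc_of% hp, reassoc_of% hq]
    abel
  refine ⟨Y, u ≫ v', v ≫ g', ?_, ?_⟩
  · rw [Category.assoc, reassoc_of% hv'v, hg']
  · calc (v ≫ g') ≫ u ≫ v' = (v ≫ q) ≫ v' := by simp only [q, Category.assoc]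
      _ = (p ≫ v) ≫ v' := by rw [hpv]
      _ = f.hom₂ := by rw [Category.assoc, hvv, Category.comp_id]

lemma splits_bounded (t : TStructure C) (a : ℤ) (k : ℕ) : ∀ (X : C) [t.IsGE X a]
    [t.IsLE X (a + k)], Splits X := by
  induction k with
  | zero =>
    intro X _ h
    have : t.IsLE X a := by simpa using h
    exact splits_heart t X a
  | succ k ih =>
    intro X _ h
    intro p hp
    let n : ℤ := a + (k + 1 : ℕ)
    have : t.IsLE X n := h
    let T := (t.triangleLTGE n).obj X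
    have h₁ : Splits T.obj₁ := by
      have : t.IsLE T.obj₁ (a + k) := t.isLE_truncLT_obj X n (a + k) (by simp [n]; lia)
      have : t.IsGE T.obj₁ a := by
        show t.IsGE ((t.truncLT n).obj X) a
        refine t.isGE₂ _ (inv_rot_of_distTriang _ (t.triangleLTGE_distinguished n X)) a ?_ ‹_›
        exact t.isGE_shift (((t.truncGE n).obj X)) n (-1) (n + 1) |> fun h => by
          exact @TStructure.isGE_of_ge _ _ _ _ _ _ _ t _ a (n + 1) (by simp [n]; lia) h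
      exact ih T.obj₁
    have h₃ : Splits T.obj₃ := by
      have : t.IsLE T.obj₃ n := by
        show t.IsLE ((t.truncGE n).obj X) n
        refine t.isLE₂ _ (rot_of_distTriang _ (t.triangleLTGE_distinguished n X)) n ‹_› ?_
        exact t.isLE_shift (((t.truncLT n).obj X)) n 1 (n - 1) |> fun h => by
          exact @TStructure.isLE_of_le _ _ _ _ _ _ _ t _ (n - 1) n (by lia) h
      have : t.IsGE T.obj₃ n := inferInstanceAs (t.IsGE ((t.truncGE n).obj X) n)
      exact splits_heart t T.obj₃ n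
    exact splits_ext T (t.triangleLTGE_distinguished n X) h₁ h₃ ((t.triangleLTGE n).map p)
      (show (t.truncLT n).map p ≫ (t.truncLT n).map p = (t.truncLT n).map p by
        rw [← Functor.map_comp, hp])
      hp
      (show (t.truncGE n).map p ≫ (t.truncGE n).map p = (t.truncGE n).map p by
        rw [← Functor.map_comp, hp])

end

/-- Let `C` be a triangulated category (octahedron axiom included) and `t` a t-structure on `C` which is
bounded, i.e. every object of `C` is both `≥ a` and `≤ b` for some integers `a`, `b`. Then `C` is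
idempotent complete (Karoubian): every idempotent endomorphism `p = p ≫ p` of an object splits as `p
= e ≫ i` with `i ≫ e = 𝟙`. -/
theorem result {C : Type u} [Category.{v} C] [Preadditive C]
    [HasZeroObject C] [HasShift C ℤ] [∀ n : ℤ, (shiftFunctor C n).Additive] [Pretriangulated C]
    [IsTriangulated C] (t : TStructure C) (hb : ∀ X : C, t.bounded X) :
    IsIdempotentComplete C := by
  constructor
  intro X p hp
  obtain ⟨⟨a, ha⟩, ⟨b, hb'⟩⟩ := hb X
  have : t.IsLE X (a + (b - a).toNat) := t.isLE_of_le X b _ (by lia)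
  exact splits_bounded t a (b - a).toNat X p hp

end Groth.Agent.S19189
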