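import Groth.Statements.S1919
import Groth.Agent.H23.InsepBC
import Mathlib.FieldTheory.IsPerfectClosure
-- import your own Groth.Agent.* helpers here

set_option autoImplicit false
universe u
open CategoryTheory AlgebraicGeometry
open CategoryTheory.Limits
open RelCyc

namespace Groth.Agent.S1919

/-- For a scheme X of finite type over a field k of characteristic p > 0, with base change X' = X ×_k k'
to the perfect closure k', the base change map Z_r(X) → Z_r(X') (flat pullback along the projection)
has p-power torsion cokernel: for every r-cycle β on X' some p^n β is the base change of an r-cycle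
on X. Dimension functions are transcendence degrees of residue fields over the ground fields. -/
theorem result (k : Type u) [Field k] (p : ℕ) [Fact p.Prime] [CharP k p] (X : Scheme.{u}) (f : X ⟶ Spec (CommRingCat.of k)) [LocallyOfFiniteType f] [QuasiCompact f] (δ : X → ℤ) (hδ : Cyc.DeltaCompat f δ (fun _ => 0)) (δ' : ↥(pullback f (Spec.map (CommRingCat.ofHom (PerfectClosure.of k p)))) → ℤ) (hδ' : Cyc.DeltaCompat (pullback.snd f (Spec.map (CommRingCat.ofHom (PerfectClosure.of k p)))) δ' (fun _ => 0)) (r : ℤ) (β : AlgebraicCycle (pullback f (Spec.map (CommRingCat.ofHom (PerfectClosure.of k p)))) ℤ) (hβ : β ∈ Cyc.Zk _ δ' r) : ∃ (n : ℕ) (α : AlgebraicCycle X ℤ), α ∈ Cyc.Zk X δ r ∧ (p : ℤ) ^ n • ⇑β = Cyc.pullFun (pullback.fst f (Spec.map (CommRingCat.ofHom (PerfectClosure.of k p)))) δ' δ 0 ⇑α := by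
  
  letI : Algebra k (PerfectClosure k p) := (PerfectClosure.of k p).toAlgebra
  haveI : ExpChar k p := ExpChar.prime Fact.out
  haveI : IsPRadical (algebraMap k (PerfectClosure k p)) p := PerfectClosure.isPRadical k p
  haveI : IsPurelyInseparable k (PerfectClosure k p) := IsPRadical.isPurelyInseparable k (PerfectClosure k p) p
  exact H23.InsepBC.exists_pow_smul_eq_pull (P := PerfectClosure k p) f p hδ hδ' r β hβ

end Groth.Agent.S1919
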