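import Groth.Statements.S19190


set_option autoImplicit false
universe w v u v' u'
open CategoryTheory CategoryTheory.Limits CategoryTheory.Pretriangulated CategoryTheory.Triangulated
open CohDer

namespace Groth.Agent.S19190

/-- Let `A` be a commutative ring, `S` a multiplicative subset of `A` and `T` an `A`-linear triangulated
category (octahedron axiom included; the shift functors are `A`-linear). Call an object of `T`
`S`-torsion when it lies in the smallest thick subcategory `U` of `T` (a property of objects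
containing zero, stable under shifts, extensions, isomorphisms and direct factors) containing every
cone of an endomorphism `f • 𝟙 X` with `f ∈ S`. Let `Q : T ⥤ E` exhibit `E` as the localization of
`T` at the morphisms whose cone lies in `U` (the Verdier quotient `T/U`), where `E` is preadditive
and `A`-linear and `Q` is `A`-linear. Then for all objects `X`, `Y` of `T` the `A`-linear map
`Hom_T(X, Y) → Hom_E(Q X, Q Y)` given by `Q` exhibits its target as the localization of `Hom_T(X,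
Y)` at `S`. Since `Q` is essentially surjective, this says that the comparison functor from `T/U` to
the category having the objects of `T` and morphism modules `Hom_T(X, Y) ⊗_A S⁻¹A` is an
equivalence. -/
theorem result
    {A : Type w} [CommRing A] (S : Submonoid A)
    {T : Type u} [Category.{v} T] [Preadditive T] [Linear A T] [HasZeroObject T] [HasShift T ℤ]
    [∀ n : ℤ, (shiftFunctor T n).Additive] [∀ n : ℤ, (shiftFunctor T n).Linear A]
    [Pretriangulated T] [IsTriangulated T]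
    (U : ObjectProperty T) [U.IsTriangulated] [U.IsClosedUnderIsomorphisms] [U.IsStableUnderRetracts]
    (hU : ∀ (X : T) (f : A), f ∈ S → ∀ (Z : T) (g : X ⟶ Z) (h : Z ⟶ X⟦(1 : ℤ)⟧),
      Triangle.mk (f • 𝟙 X) g h ∈ distTriang T → U Z)
    (hmin : ∀ (U' : ObjectProperty T) [U'.IsTriangulated] [U'.IsClosedUnderIsomorphisms]
      [U'.IsStableUnderRetracts],
      (∀ (X : T) (f : A), f ∈ S → ∀ (Z : T) (g : X ⟶ Z) (h : Z ⟶ X⟦(1 : ℤ)⟧),
        Triangle.mk (f • 𝟙 X) g h ∈ distTriang T → U' Z) → U ≤ U')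
    {E : Type u'} [Category.{v'} E] [Preadditive E] [Linear A E]
    (Q : T ⥤ E) [Q.Additive] [Q.Linear A] [Q.IsLocalization U.trW] (X Y : T) :
    IsLocalizedModule S (Q.mapLinearMap A : (X ⟶ Y) →ₗ[A] (Q.obj X ⟶ Q.obj Y)) := by
  let U' : ObjectProperty T := fun Z => ∃ f : A, f ∈ S ∧ f • 𝟙 Z = 0
  have hiso : ∀ {X Y : T} (i : X ⟶ Y) (r : Y ⟶ X), i ≫ r = 𝟙 X → U' Y → U' X := by
    rintro X Y i r h ⟨f, hf, hf0⟩
    refine ⟨f, hf, ?_⟩
    rw [← h, ← Category.id_comp r, ← Linear.comp_smul, ← Linear.smul_comp, hf0, zero_comp, comp_zero]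
  have : U'.IsClosedUnderIsomorphisms := ⟨fun e h => hiso e.inv e.hom e.inv_hom_id h⟩
  have : U'.IsStableUnderRetracts := ⟨fun r h => hiso r.i r.r r.retract h⟩
  have : U'.ContainsZero := open ZeroObject in ⟨⟨0, isZero_zero T, 1, S.one_mem, (isZero_zero T).eq_of_src _ _⟩⟩
  have : U'.IsStableUnderShift ℤ := ⟨fun n => ⟨fun Z ⟨f, hf, hf0⟩ => ⟨f, hf, by
    rw [← CategoryTheory.Functor.map_id, ← Functor.map_smul, hf0, Functor.map_zero]⟩⟩⟩
  have : U'.IsTriangulatedClosed₂ := .mk' fun τ hτ ⟨s, hs, hs0⟩ ⟨t, ht, ht0⟩ => by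
    have h0 : (t • 𝟙 τ.obj₂) ≫ τ.mor₂ = 0 := by
      rw [Linear.smul_comp, Category.id_comp, ← Category.comp_id τ.mor₂, ← Linear.comp_smul, ht0,
        comp_zero]
    obtain ⟨a, ha⟩ := Triangle.coyoneda_exact₂ _ hτ _ h0
    refine ⟨s * t, S.mul_mem hs ht, ?_⟩
    rw [mul_smul, ha, ← Linear.comp_smul, ← Category.id_comp τ.mor₁, ← Linear.smul_comp, hs0,
      zero_comp, comp_zero]
  have : U'.IsTriangulated := {}
  have hle : U ≤ U' := hmin U' fun W f hf Z g h hT => by
    have e1 : f • g = 0 := by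
      have e : (f • 𝟙 W) ≫ g = 0 := comp_distTriang_mor_zero₁₂ _ hT
      rwa [Linear.smul_comp, Category.id_comp] at e
    have e2 : f • h = 0 := by
      have e : h ≫ (f • 𝟙 W)⟦(1 : ℤ)⟧' = 0 := comp_distTriang_mor_zero₃₁ _ hT
      rwa [Functor.map_smul, CategoryTheory.Functor.map_id, Linear.comp_smul, Category.comp_id] at e
    obtain ⟨a, ha⟩ : ∃ a : Z ⟶ W, f • 𝟙 Z = a ≫ g := Triangle.coyoneda_exact₃ _ hT (f • 𝟙 Z)
      (show (f • 𝟙 Z) ≫ h = 0 by rw [Linear.smul_comp, Category.id_comp, e2])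
    refine ⟨f * f, S.mul_mem hf hf, ?_⟩
    rw [mul_smul, ha, ← Linear.comp_smul]
    exact (congrArg (a ≫ ·) e1).trans comp_zero
  have key : ∀ {X' X'' : T} (s : X' ⟶ X''), U.trW s →
      ∃ (t : A) (_ : t ∈ S) (g : X'' ⟶ X'), g ≫ s = t • 𝟙 X'' := by
    intro X' X'' s hs
    obtain ⟨Z, g, h, hT, hZ⟩ := hs
    obtain ⟨t, ht, ht0⟩ := hle Z hZ
    obtain ⟨a, ha⟩ := Triangle.coyoneda_exact₂ _ hT (t • 𝟙 X'')
      (show (t • 𝟙 X'') ≫ g = 0 by
        rw [Linear.smul_comp, Category.id_comp, ← Category.comp_id g, ← Linear.comp_smul, ht0,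
          comp_zero])
    exact ⟨t, ht, a, ha.symm⟩
  constructor
  · intro x
    obtain ⟨Z, g, h, hT⟩ := distinguished_cocone_triangle ((x : A) • 𝟙 X)
    have : IsIso ((x : A) • 𝟙 (Q.obj X)) := by
      rw [← Q.map_id, ← Functor.map_smul]
      exact Localization.inverts Q U.trW _ ⟨Z, g, h, hT, hU X x x.2 Z g h hT⟩
    rw [Module.End.isUnit_iff]
    have e : ∀ ψ : Q.obj X ⟶ Q.obj Y,
        algebraMap A (Module.End A (Q.obj X ⟶ Q.obj Y)) (x : A) ψ = ((x : A) • 𝟙 (Q.obj X)) ≫ ψ :=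
      fun ψ => by rw [Module.algebraMap_end_apply, Linear.smul_comp, Category.id_comp]
    constructor
    · intro ψ ψ' h
      rw [e, e] at h
      exact (cancel_epi _).1 h
    · intro ψ
      exact ⟨inv ((x : A) • 𝟙 (Q.obj X)) ≫ ψ, by rw [e, IsIso.hom_inv_id_assoc]⟩
  · intro ψ
    obtain ⟨φ, hφ⟩ := Localization.exists_rightFraction Q U.trW ψ
    obtain ⟨t, ht, g, hg⟩ := key φ.s φ.hs
    refine ⟨(g ≫ φ.f, ⟨t, ht⟩), ?_⟩
    show t • ψ = Q.map (g ≫ φ.f)
    rw [Functor.map_comp, ← φ.map_s_comp_map Q (Localization.inverts _ _), ← Category.assoc,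
      ← Functor.map_comp, hg, Functor.map_smul, CategoryTheory.Functor.map_id, Linear.smul_comp,
      Category.id_comp, ← hφ]
  · intro f₁ f₂ h
    obtain ⟨W, s, hs, he⟩ := (MorphismProperty.map_eq_iff_precomp Q U.trW f₁ f₂).1 h
    obtain ⟨t, ht, g, hg⟩ := key s hs
    refine ⟨⟨t, ht⟩, ?_⟩
    show t • f₁ = t • f₂
    rw [← Category.id_comp f₁, ← Category.id_comp f₂, ← Linear.smul_comp, ← Linear.smul_comp, ← hg,
      Category.assoc, Category.assoc, he]

end Groth.Agent.S19190
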