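import Groth.Statements.S19191
import Mathlib.CategoryTheory.Triangulated.Subcategory

set_option autoImplicit false
universe w v u v' u'
open CategoryTheory CategoryTheory.Limits CategoryTheory.Pretriangulated CategoryTheory.Triangulated
open CohDer

namespace Groth.Agent.S19191
open CategoryTheory.Limits ZeroObject

/-- Let `A` be a commutative ring, `T` an `A`-linear triangulated category (octahedron axiom included;
shift functors `A`-linear), `U` a thick subcategory of `T` (a property of objects containing zero,
stable under shifts, extensions, isomorphisms and direct factors), and `Q : T ⥤ E` a localization of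
`T` at the morphisms whose cone lies in `U` (the Verdier quotient `T/U`), where `E` is preadditive
and `A`-linear and `Q` is `A`-linear. For an object `X` of `T` the following two conditions are
equivalent: (i) `X` lies in `U`; (ii) for every maximal ideal `m` of `A` the image of `X` in the
category obtained from `T/U` by tensoring the morphism modules with `A_m` is zero, i.e. some element
of `A` outside `m` annihilates the identity of `Q X`. (The published statement also lists a third
equivalent condition, phrased with idempotent completions of the localized categories; it is not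
asserted here.) -/
theorem result
    {A : Type w} [CommRing A]
    {T : Type u} [Category.{v} T] [Preadditive T] [Linear A T] [HasZeroObject T] [HasShift T ℤ]
    [∀ n : ℤ, (shiftFunctor T n).Additive] [∀ n : ℤ, (shiftFunctor T n).Linear A]
    [Pretriangulated T] [IsTriangulated T]
    (U : ObjectProperty T) [U.IsTriangulated] [U.IsClosedUnderIsomorphisms] [U.IsStableUnderRetracts]
    {E : Type u'} [Category.{v'} E] [Preadditive E] [Linear A E]
    (Q : T ⥤ E) [Q.Additive] [Q.Linear A] [Q.IsLocalization U.trW] (X : T) :
    U X ↔ ∀ m : Ideal A, m.IsMaximal → ∃ s : A, s ∉ m ∧ s • 𝟙 (Q.obj X) = 0 := by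
  constructor
  · intro hX m hm
    refine ⟨1, fun h => hm.ne_top ((Ideal.eq_top_iff_one m).2 h), ?_⟩
    rw [one_smul]
    have hW : U.trW (0 : (0 : T) ⟶ X) := ⟨X, 𝟙 X, 0, contractible_distinguished₁ X, hX⟩
    haveI := Localization.inverts Q U.trW _ hW
    rw [← cancel_epi (Q.map (0 : (0 : T) ⟶ X)), Q.map_zero, zero_comp, zero_comp]
  · intro h
    have h1 : 𝟙 (Q.obj X) = 0 := by
      by_contra hne
      let I : Ideal A := LinearMap.ker (LinearMap.toSpanSingleton A _ (𝟙 (Q.obj X)))
      have hI : I ≠ ⊤ := fun hI => hne (by
        have : (1 : A) ∈ I := hI ▸ Submodule.mem_top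
        simpa [I] using this)
      obtain ⟨m, hm, hIm⟩ := Ideal.exists_le_maximal I hI
      obtain ⟨s, hs, hs0⟩ := h m hm
      exact hs (hIm (by simpa [I] using hs0))
    have h2 : Q.map (𝟙 X) = Q.map (0 : X ⟶ X) := by rw [Q.map_id, Q.map_zero, h1]
    obtain ⟨Z, s, hs, he⟩ := (MorphismProperty.map_eq_iff_precomp Q U.trW _ _).1 h2
    rw [Category.comp_id, comp_zero] at he
    obtain ⟨C, g, k, hT, hC⟩ := hs
    obtain ⟨β, hβ⟩ := Triangle.yoneda_exact₂ _ hT (𝟙 X)
      (show s ≫ 𝟙 X = 0 by rw [Category.comp_id, he])
    exact U.prop_of_retract { i := g, r := β, retract := hβ.symm } hC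

end Groth.Agent.S19191
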