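import Groth.Statements.S19193
import Mathlib


set_option autoImplicit false
universe u
open CategoryTheory Opposite TopologicalSpace
open CohTop

namespace Groth.Agent.S19193

open W4c6blochformula0cyc in
/-- Let `F` be a presheaf of abelian groups on a topological space `X`, `U` a family of opens of `X`
indexed by a finite type, and suppose given, for every open `V` and every index `α`, an additive map
`E V α : F(V ∩ U_α) → F(V)` such that for every nonempty tuple of indices `t`, with `V = U_{t_0} ∩ ⋯
∩ U_{t_m}`: (i) `∑_α E V α (f|_{V ∩ U_α}) = f` for all `f ∈ F(V)`, and (ii) `(E V α g)|_{V ∩ U_β} =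
E (V ∩ U_β) α (g|_{V ∩ U_β ∩ U_α})` for all indices `α, β` and all `g ∈ F(V ∩ U_α)`. Then the
operator `H` on ordered Čech cochains, `(H f)_t = ∑_α E (U_t) α (f_{(α, t)})`, satisfies `H (δ f) +
δ (H f) = f` for every Čech cochain `f` on tuples of length at least `2`, i.e. in every Čech degree
`≥ 1`. (The published statement takes a flasque sheaf on an open cover and extension maps attached
to pairs of finite intersections; this row takes any presheaf, any finite family of opens, and maps
that may depend on the index, none of which the printed argument needs. The published statement also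
asserts the identity in every degree of the Čech complex without augmentation term, and allows an
infinite index set with finitely supported sums; in Čech degree `0`, where that complex has no term
below and the identity reads `H (δ f) = f`, it fails in general — for the one-member cover of a
point and the constant presheaf `ℤ` with `E` the identity, `δ f` vanishes on the pair while `f` need
not — so it is stated here from degree `1` on, i.e. for cochains on tuples of length at least `2`
(the whole-space term on the empty tuple carried by the cochain groups used here plays no role), and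
for a finite index type.) -/
theorem result {X : Type u} [TopologicalSpace X]
    {ι : Type u} [Fintype ι] (F : (Opens X)ᵒᵖ ⥤ AddCommGrpCat.{u}) (U : ι → Opens X)
    (E : ∀ (V : Opens X) (α : ι), F.obj (op (V ⊓ U α)) →+ F.obj (op V))
    (h2 : ∀ (m : ℕ) (t : Fin (m + 1) → ι) (f : F.obj (op (cechOpen U t))),
      ∑ α, E (cechOpen U t) α (res F inf_le_left f) = f)
    (h3 : ∀ (m : ℕ) (t : Fin (m + 1) → ι) (α β : ι) (g : F.obj (op (cechOpen U t ⊓ U α))),
      res F inf_le_left (E (cechOpen U t) α g) =
        E (cechOpen U t ⊓ U β) α (res F (inf_le_inf_right (U α) inf_le_left) g))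
    (n : ℕ) (f : Cochain F U (n + 2)) :
    homotopy F U E (n + 2) (delta F U (n + 2) f) + delta F U (n + 1) (homotopy F U E (n + 1) f) = f := by
  classical
  have resres : ∀ {V W Z : Opens X} (h1 : W ≤ V) (h2 : Z ≤ W) (x : F.obj (op V)),
      res F h2 (res F h1 x) = res F (h2.trans h1) x := fun {V W Z} h1 h2 x => by
    show (F.map (homOfLE h2).op).hom ((F.map (homOfLE h1).op).hom x) = (F.map (homOfLE (h2.trans h1)).op).hom x
    rw [show (homOfLE (h2.trans h1)).op = (homOfLE h1).op ≫ (homOfLE h2).op from rfl, F.map_comp]
    rfl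
  have fcongr : ∀ {m : ℕ} (g : Cochain F U m) {s s' : Fin m → ι} {W : Opens X} (hs : s = s') (h : W ≤ cechOpen U s)
      (h' : W ≤ cechOpen U s'), res F h (g s) = res F h' (g s') := fun {m} g {s s' W} hs h h' => by
    subst hs; rfl
  have key : ∀ {m : ℕ} (s : Fin (m + 1) → ι) (α β : ι) (W : Opens X) (_ : W = cechOpen U s ⊓ U β)
      (hWV : W ≤ cechOpen U s) (g : F.obj (op (cechOpen U s ⊓ U α))),
      res F hWV (E (cechOpen U s) α g) = E W α (res F (inf_le_inf_right (U α) hWV) g) := by
    intro m s α β W hW hWV g
    subst hW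
    exact h3 m s α β g
  have hcons0 : ∀ (α : ι) (t : Fin (n + 2) → ι), (Fin.cons α t : Fin (n + 3) → ι) ∘ (0 : Fin (n + 3)).succAbove = t := by
    intro α t; funext i; simp
  have hconsS : ∀ (α : ι) (t : Fin (n + 2) → ι) (k : Fin (n + 2)),
      (Fin.cons α t : Fin (n + 3) → ι) ∘ k.succ.succAbove = Fin.cons α (t ∘ k.succAbove) := by
    intro α t k; funext i
    refine Fin.cases ?_ (fun i => ?_) i
    · simp
    · simp [Fin.succ_succAbove_succ]
  funext t
  show (∑ α : ι, E (cechOpen U t) α (res F (inf_le_cechOpen_cons U t α)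
      (∑ j : Fin (n + 3), ((-1 : ℤ) ^ (j : ℕ)) • res F (cechOpen_le_comp U (Fin.cons α t) j) (f ((Fin.cons α t : Fin (n + 3) → ι) ∘ j.succAbove))))) +
    (∑ k : Fin (n + 2), ((-1 : ℤ) ^ (k : ℕ)) • res F (cechOpen_le_comp U t k)
      (∑ α : ι, E (cechOpen U (t ∘ k.succAbove)) α (res F (inf_le_cechOpen_cons U (t ∘ k.succAbove) α) (f (Fin.cons α (t ∘ k.succAbove)))))) = f t
  simp only [Fin.sum_univ_succ (n := n + 2), map_add, map_sum, map_zsmul, resres, Finset.sum_add_distrib]
  have e0 : ∑ α : ι, ((-1 : ℤ) ^ ((0 : Fin (n + 3)) : ℕ)) • E (cechOpen U t) α (res F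
      ((inf_le_cechOpen_cons U t α).trans (cechOpen_le_comp U (Fin.cons α t) 0)) (f ((Fin.cons α t : Fin (n + 3) → ι) ∘ (0 : Fin (n + 3)).succAbove))) = f t := by
    refine Eq.trans (Finset.sum_congr rfl fun α _ => ?_) (h2 (n + 1) t (f t))
    rw [Fin.val_zero, pow_zero, one_zsmul, fcongr f (hcons0 α t) _ inf_le_left]
  rw [e0, add_assoc, add_eq_left]
  rw [Finset.sum_comm, ← Finset.sum_add_distrib]
  refine Finset.sum_eq_zero fun k _ => ?_
  rw [Finset.smul_sum, ← Finset.sum_add_distrib]
  refine Finset.sum_eq_zero fun α _ => ?_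
  have hopen : cechOpen U t = cechOpen U (t ∘ k.succAbove) ⊓ U (t k) := by
    refine le_antisymm (le_inf (cechOpen_le_comp U t k) (iInf_le (fun i => U (t i)) k)) (le_iInf fun j => ?_)
    rcases eq_or_ne j k with rfl | hjk
    · exact inf_le_right
    · obtain ⟨i, rfl⟩ := Fin.exists_succAbove_eq hjk
      exact inf_le_left.trans (iInf_le (fun i => U ((t ∘ k.succAbove) i)) i)
  rw [key (t ∘ k.succAbove) α (t k) _ hopen (cechOpen_le_comp U t k), resres, Fin.val_succ, pow_succ,
    mul_neg, mul_one, neg_smul, fcongr f (hconsS α t k) _ ((inf_le_inf_right (U α) (cechOpen_le_comp U t k)).trans (inf_le_cechOpen_cons U (t ∘ k.succAbove) α))]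
  exact neg_add_cancel _


end Groth.Agent.S19193
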