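import Groth.Statements.S19195
import Groth.Agent.DescLib.RelS1Model
import Mathlib

set_option autoImplicit false
set_option maxHeartbeats 400000
universe u
open TensorProduct
open RelS1

namespace Groth.Agent.S19195

/-- Let A be a commutative ring, B a finitely presented A-algebra and M a finitely presented B-module
which is flat over A. Suppose that for every prime p of A, with residue field κ(p), the fibre module
(B ⊗_A κ(p)) ⊗_B M over the fibre ring B ⊗_A κ(p) satisfies Serre's condition (S_1) in the form: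
each of its associated primes is a minimal prime of its annihilator. Let a be an element of B whose
image a ⊗ 1 in every fibre ring B ⊗_A κ(p) lies in no minimal prime of the annihilator of the fibre
module. Then a is a non-zero-divisor on M. (Since all hypotheses are preserved by base change of A
and by passing to affine opens, this expresses that a flat finitely presented sheaf with (S_1)
fibres is pure relative to the base after every base change. The published statement is an
equivalence for sheaves on a locally finitely presented morphism, quantified over all base changes;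
this row states its direct implication in affine form.) -/
theorem result (A B M : Type u) [CommRing A] [CommRing B] [Algebra A B]
    [Algebra.FinitePresentation A B] [AddCommGroup M] [Module B M] [Module A M]
    [IsScalarTower A B M] [Module.FinitePresentation B M] [Module.Flat A M]
    (hS1 : ∀ (p : Ideal A) [p.IsPrime],
      associatedPrimes (B ⊗[A] p.ResidueField) ((B ⊗[A] p.ResidueField) ⊗[B] M) ⊆
        (Module.annihilator (B ⊗[A] p.ResidueField) ((B ⊗[A] p.ResidueField) ⊗[B] M)).minimalPrimes)
    (a : B)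
    (ha : ∀ (p : Ideal A) [p.IsPrime],
      ∀ P ∈ (Module.annihilator (B ⊗[A] p.ResidueField) ((B ⊗[A] p.ResidueField) ⊗[B] M)).minimalPrimes,
        a ⊗ₜ[A] (1 : p.ResidueField) ∉ P) :
    IsSMulRegular M a := by
  classical
  -- regularity on the fibres
  have hreg : ∀ (p : Ideal A) [p.IsPrime] (y : (B ⊗[A] p.ResidueField) ⊗[B] M), a • y = 0 → y = 0 := by
    intro p _ y hy
    haveI : Algebra.FiniteType p.ResidueField (p.ResidueField ⊗[A] B) := inferInstance
    haveI : IsNoetherianRing (p.ResidueField ⊗[A] B) := Algebra.FiniteType.isNoetherianRing p.ResidueField _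
    haveI : IsNoetherianRing (B ⊗[A] p.ResidueField) :=
      isNoetherianRing_of_ringEquiv _ (Algebra.TensorProduct.comm A p.ResidueField B).toRingEquiv
    haveI : Module.Finite B M := inferInstance
    haveI : Module.Finite (B ⊗[A] p.ResidueField) ((B ⊗[A] p.ResidueField) ⊗[B] M) := inferInstance
    by_contra hne
    have hy' : (a ⊗ₜ[A] (1 : p.ResidueField)) • y = 0 := by
      rw [show a ⊗ₜ[A] (1 : p.ResidueField) = algebraMap B (B ⊗[A] p.ResidueField) a from rfl, algebraMap_smul]
      exact hy
    have hmem : a ⊗ₜ[A] (1 : p.ResidueField) ∈ ⋃ P ∈ associatedPrimes (B ⊗[A] p.ResidueField)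
        ((B ⊗[A] p.ResidueField) ⊗[B] M), (P : Set (B ⊗[A] p.ResidueField)) := by
      rw [biUnion_associatedPrimes_eq_zero_divisors]
      exact ⟨y, hne, hy'⟩
    obtain ⟨P, hP, haP⟩ := Set.mem_iUnion₂.1 hmem
    exact ha p P (hS1 p hP) haP
  -- presentation
  obtain ⟨n, φ, hφ, hkerφ⟩ := Algebra.FinitePresentation.out (R := A) (A := B)
  let := φ.toRingHom.toAlgebra
  let := Module.compHom M φ.toRingHom
  have : IsScalarTower (MvPolynomial (Fin n) A) B M := ⟨fun p s m => mul_smul (φ p) s m⟩
  have : IsScalarTower A (MvPolynomial (Fin n) A) M := ⟨fun r p m => by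
    show φ (r • p) • m = r • φ p • m
    rw [map_smul, smul_assoc]⟩
  have hkA : (LinearMap.ker (Algebra.linearMap (MvPolynomial (Fin n) A) B)).FG := hkerφ
  have : Module.FinitePresentation (MvPolynomial (Fin n) A) B :=
    Module.finitePresentation_of_surjective (Algebra.linearMap (MvPolynomial (Fin n) A) B) hφ hkA
  have : Module.FinitePresentation (MvPolynomial (Fin n) A) M := Module.FinitePresentation.trans _ M B
  obtain ⟨d, π, hπ⟩ := Module.Finite.exists_fin' (MvPolynomial (Fin n) A) M
  obtain ⟨G, hG⟩ := Module.FinitePresentation.fg_ker π hπ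
  obtain ⟨ã, rfl⟩ := hφ a
  let c : Finset A := (G.biUnion fun v => Finset.univ.biUnion fun i => (v i).coeffs) ∪ ã.coeffs
  let R₀ : Subalgebra ℤ A := Algebra.adjoin ℤ (c : Set A)
  have : Algebra.FiniteType ℤ R₀ := (Subalgebra.fg_iff_finiteType R₀).1 (Subalgebra.fg_adjoin_finset c)
  have : IsNoetherianRing R₀ := Algebra.FiniteType.isNoetherianRing ℤ R₀
  have hlift : ∀ q : MvPolynomial (Fin n) A, q.coeffs ⊆ c →
      ∃ q₀ : MvPolynomial (Fin n) R₀, MvPolynomial.map (algebraMap R₀ A) q₀ = q := fun q hq =>
    MvPolynomial.mem_range_map_iff_coeffs_subset.2 fun x hx => ⟨⟨x, Algebra.subset_adjoin (hq hx)⟩, rfl⟩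
  have hGdesc : ∀ v ∈ G, ∃ w : FlatModel.V d n R₀, FlatModel.mapV (algebraMap R₀ A) w = v := by
    intro v hv
    choose w hw using fun i => hlift (v i) fun x hx =>
      Finset.mem_union_left _ (Finset.mem_biUnion.2 ⟨v, hv, Finset.mem_biUnion.2 ⟨i, Finset.mem_univ _, hx⟩⟩)
    exact ⟨w, funext hw⟩
  obtain ⟨a₀, ha₀⟩ := hlift ã Finset.subset_union_right
  choose! lv hlv using hGdesc
  let K₀ : Submodule (MvPolynomial (Fin n) R₀) (FlatModel.V d n R₀) := Submodule.span _ (lv '' G)
  have hker : LinearMap.ker π = FlatModel.KK K₀ A := by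
    apply le_antisymm
    · rw [← hG, Submodule.span_le]
      intro v hv
      exact Submodule.subset_span ⟨lv v, Submodule.subset_span ⟨v, hv, rfl⟩, hlv v hv⟩
    · rw [FlatModel.KK, Submodule.span_le]
      rintro _ ⟨w, hw, rfl⟩
      refine Submodule.span_le.2 ?_ (FlatModel.mapV_mem_span (algebraMap R₀ A) hw)
      rintro _ ⟨w, ⟨v, hv, rfl⟩, rfl⟩
      rw [hlv v hv]
      exact hG.le (Submodule.subset_span hv)
  have hflatA : FlatModel.FlatC K₀ A := (FlatModel.flatC_iff_flat K₀).2
    (Module.Flat.of_linearEquiv (((Submodule.quotEquivOfEq _ _ hker.symm).trans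
      (π.quotKerEquivOfSurjective hπ)).restrictScalars A))
  obtain ⟨R₂, hR₂, hflat⟩ := FlatModel.exists_fg_flatC K₀ hflatA
  have : Algebra.FiniteType R₀ R₂ := (Subalgebra.fg_iff_finiteType R₂).1 hR₂
  have : IsNoetherianRing R₂ := Algebra.FiniteType.isNoetherianRing R₀ R₂
  have hK : FlatModel.KK K₀ A = FlatModel.KK (FlatModel.KK K₀ R₂) A := by
    have hw : ∀ w, FlatModel.mapV (algebraMap R₂ A) (FlatModel.mapV (algebraMap R₀ R₂) w) =
        (FlatModel.mapV (algebraMap R₀ A) w : FlatModel.V d n A) := fun w => by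
      rw [FlatModel.mapV_mapV, ← IsScalarTower.algebraMap_eq]
    refine le_antisymm (Submodule.span_le.2 ?_) (Submodule.span_le.2 ?_)
    · rintro _ ⟨w, hw', rfl⟩
      exact Submodule.subset_span ⟨_, Submodule.subset_span ⟨w, hw', rfl⟩, hw w⟩
    · rintro _ ⟨x, hx, rfl⟩
      refine Submodule.span_le.2 ?_ (FlatModel.mapV_mem_span (algebraMap R₂ A) hx)
      rintro _ ⟨_, ⟨w, hw', rfl⟩, rfl⟩
      exact Submodule.subset_span ⟨w, hw', (hw w).symm⟩
  haveI : Module.Flat R₂ (FlatModel.V d n R₂ ⧸ FlatModel.KK K₀ R₂) := (FlatModel.flatC_iff_flat K₀).1 hflat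
  have hga : MvPolynomial.map (algebraMap R₂ A) (MvPolynomial.map (algebraMap R₀ R₂) a₀) = ã := by
    rw [MvPolynomial.map_map, ← IsScalarTower.algebraMap_eq, ha₀]
  have hmain := DescLib.RelS1.isSMulRegular_of_model π hπ (FlatModel.KK K₀ R₂) (hker.trans hK)
    (MvPolynomial.map (algebraMap R₀ R₂) a₀) ?_
  · rw [hga] at hmain
    exact hmain
  intro p _
  rw [hga]
  intro x hx
  replace hx : (1 : p.ResidueField) ⊗ₜ[A] (φ ã • x) = 0 := hx
  let T : p.ResidueField ⊗[A] M →ₗ[A] (B ⊗[A] p.ResidueField) ⊗[B] M :=
    TensorProduct.lift (LinearMap.mk₂ A (fun c y => ((1 : B) ⊗ₜ[A] c) ⊗ₜ[B] y)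
      (fun _ _ _ => by rw [TensorProduct.tmul_add, TensorProduct.add_tmul])
      (fun r c y => (congrArg (· ⊗ₜ[B] y) (TensorProduct.tmul_smul r (1 : B) c)).trans (TensorProduct.smul_tmul' r _ y).symm)
      (fun _ _ _ => TensorProduct.tmul_add _ _ _)
      (fun r c y => by rw [← algebraMap_smul B r y, TensorProduct.tmul_smul, algebraMap_smul]))
  have h1 := congrArg T hx
  simp only [T, TensorProduct.lift.tmul, LinearMap.mk₂_apply, map_zero, TensorProduct.tmul_smul] at h1
  have h2 := hreg p _ h1
  let h : M →ₗ[B] (B ⊗[A] p.ResidueField →ₗ[B] M ⊗[A] p.ResidueField) :=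
    { toFun := fun y => AlgebraTensorModule.rTensor A p.ResidueField (LinearMap.toSpanSingleton B M y)
      map_add' := fun y z => by
        refine TensorProduct.AlgebraTensorModule.ext fun b c => ?_
        simp [TensorProduct.add_tmul]
      map_smul' := fun r y => by
        refine TensorProduct.AlgebraTensorModule.ext fun b c => ?_
        simp [TensorProduct.smul_tmul', smul_smul, mul_comm] }
  have h3 := congrArg (TensorProduct.lift h.flip) h2
  rw [map_zero, TensorProduct.lift.tmul, LinearMap.flip_apply] at h3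
  have h4 := congrArg (TensorProduct.comm A M p.ResidueField) h3
  simpa [h] using h4

end Groth.Agent.S19195
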