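import Groth.Statements.S19196


set_option autoImplicit false
set_option backward.isDefEq.respectTransparency false
set_option backward.isDefEq.respectTransparency.types false
universe u
open RelS1

namespace Groth.Agent.S19196

/-- Let R be a Noetherian commutative ring and N a finitely generated R-module which fails Serre's
condition (S_1), in the sense that some associated prime of N is not a minimal prime of the
annihilator of N. Then there exist an element a of R lying in no minimal prime of the annihilator of
N and a nonzero element b of N with a • b = 0; thus the basic open set D(a) meets the support of N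
densely while restriction to it is not injective on N. -/
theorem result (R N : Type u) [CommRing R] [IsNoetherianRing R]
    [AddCommGroup N] [Module R N] [Module.Finite R N]
    (h : ¬ associatedPrimes R N ⊆ (Module.annihilator R N).minimalPrimes) :
    ∃ (a : R) (b : N), (∀ P ∈ (Module.annihilator R N).minimalPrimes, a ∉ P) ∧ b ≠ 0 ∧ a • b = 0 := by
  classical
  rw [Set.not_subset] at h
  obtain ⟨p, hp, hpmin⟩ := h
  have hpp : p.IsPrime := hp.isPrime
  have hann : Module.annihilator R N ≤ p := (Submodule.annihilator_top (R := R) (M := N)).ge.trans (IsAssociatedPrime.annihilator_le hp)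
  have hfin := Ideal.finite_minimalPrimes_of_isNoetherianRing R (Module.annihilator R N)
  have hne : ¬ ((p : Set R) ⊆ ⋃ P ∈ hfin.toFinset, (P : Set R)) := by
    intro hsub
    obtain ⟨P, hP, hle⟩ := (Ideal.subset_union_prime (s := hfin.toFinset) ⊥ ⊥
      (fun P hP _ _ => (hfin.mem_toFinset.1 hP).1.1)).1 hsub
    have hP' := hfin.mem_toFinset.1 hP
    exact hpmin ((le_antisymm hle (hP'.2 ⟨hpp, hann⟩ hle)).symm ▸ hP')
  obtain ⟨a, hap, ha⟩ := Set.not_subset.1 hne
  obtain ⟨-, b, hb⟩ := isAssociatedPrime_iff.1 hp
  refine ⟨a, b, fun P hP haP => ha ?_, ?_, ?_⟩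
  · exact Set.mem_biUnion (hfin.mem_toFinset.2 hP) haP
  · rintro rfl
    refine hpp.ne_top ?_
    rw [hb, Ideal.eq_top_iff_one, Submodule.mem_colon_singleton]
    simp
  · rw [hb, SetLike.mem_coe, Submodule.mem_colon_singleton] at hap
    simpa using hap

end Groth.Agent.S19196
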