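import Groth.Statements.S19197
import Groth.Agent.FlatSyz5.Resolution
import Groth.Agent.FlatSyz5.FibreFree
import Mathlib.RingTheory.Spectrum.Prime.FreeLocus
-- import your own Groth.Agent.* helpers here

set_option autoImplicit false
universe u
open TensorProduct CategoryTheory
open RelS1

namespace Groth.Agent.S19197


open TensorProduct

set_option linter.style.haveILetI false

/-- The local ring of the fibre. -/
abbrev C (A B : Type u) [CommRing A] [CommRing B] [Algebra A B] (P : PrimeSpectrum B) : Type u :=
  Localization.AtPrime P.asIdeal ⧸ (P.asIdeal.under A).map (algebraMap A (Localization.AtPrime P.asIdeal))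

variable {A B : Type u} [CommRing A] [CommRing B] [Algebra A B]

theorem map_under_le (P : PrimeSpectrum B) :
    (P.asIdeal.under A).map (algebraMap A (Localization.AtPrime P.asIdeal)) ≤
      IsLocalRing.maximalIdeal (Localization.AtPrime P.asIdeal) := by
  refine Ideal.map_le_iff_le_comap.2 fun a ha => ?_
  show algebraMap A (Localization.AtPrime P.asIdeal) a ∈ IsLocalRing.maximalIdeal _
  rw [IsScalarTower.algebraMap_apply A B]
  exact (IsLocalization.AtPrime.to_map_mem_maximal_iff (Localization.AtPrime P.asIdeal) P.asIdeal _).2 ha

theorem map_under_ne_top (P : PrimeSpectrum B) :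
    (P.asIdeal.under A).map (algebraMap A (Localization.AtPrime P.asIdeal)) ≠ ⊤ := fun e =>
  (IsLocalRing.maximalIdeal.isMaximal _).ne_top (top_le_iff.1 (e ▸ map_under_le P))

variable (A B) [Algebra.FinitePresentation A B] [Module.Flat A B]
variable (N : Type u) [AddCommGroup N] [Module B N] [Module A N] [IsScalarTower A B N]

/-- The fibre module. -/
abbrev fib (P : PrimeSpectrum B) : ModuleCat.{u} (C A B P) := ModuleCat.of (C A B P) (C A B P ⊗[B] N)

variable [Module.FinitePresentation B N] [Module.Flat A N]

theorem free_fib_iff (P : PrimeSpectrum B) :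
    Module.Free (C A B P) (C A B P ⊗[B] N) ↔ P ∈ Module.freeLocus B N := by
  let B' := Localization.AtPrime P.asIdeal
  rw [Module.mem_freeLocus_iff_tensor P B']
  let e := AlgebraTensorModule.cancelBaseChange B B' (C A B P) (C A B P) N
  constructor
  · intro h
    haveI : Module.Flat A (B' ⊗[B] N) :=
      Groth.Agent.QCoh.flat_base_of_isLocalizedModule P.asIdeal.primeCompl (TensorProduct.mk B B' N 1)
    exact Groth.Agent.FlatSyz5.free_of_fibre (A := A) (B := B') (P.asIdeal.under A) (map_under_ne_top P)
      (Module.Free.of_equiv e.symm)
  · intro h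
    exact Module.Free.of_equiv e

theorem projective_fib_iff (P : PrimeSpectrum B) :
    Projective (fib A B N P) ↔ P ∈ Module.freeLocus B N := by
  haveI : Nontrivial (C A B P) := Ideal.Quotient.nontrivial_iff.2 (map_under_ne_top P)
  haveI : IsLocalRing (C A B P) := IsLocalRing.of_surjective' (Ideal.Quotient.mk _) Ideal.Quotient.mk_surjective
  rw [← IsProjective.iff_projective, ← free_fib_iff A B N P]
  refine ⟨fun h => ?_, fun h => Module.Projective.of_free⟩
  exact Module.free_of_flat_of_isLocalRing

theorem isZero_fib_iff (P : PrimeSpectrum B) :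
    Limits.IsZero (fib A B N P) ↔ P ∉ Module.support B N := by
  let B' := Localization.AtPrime P.asIdeal
  let l := IsLocalizedModule.iso P.asIdeal.primeCompl (TensorProduct.mk B B' N 1)
  let e := AlgebraTensorModule.cancelBaseChange B B' (C A B P) (C A B P) N
  rw [Module.mem_support_iff, not_nontrivial_iff_subsingleton, l.toEquiv.subsingleton_congr,
    ModuleCat.isZero_iff_subsingleton]
  constructor
  · intro h
    haveI : Nontrivial (C A B P) := Ideal.Quotient.nontrivial_iff.2 (map_under_ne_top P)
    haveI : Subsingleton (C A B P ⊗[B] N) := h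
    haveI := (Module.mem_freeLocus_iff_tensor P B').1 ((free_fib_iff A B N P).1 (Module.Free.of_subsingleton _ _))
    let b := Module.Free.chooseBasis B' (B' ⊗[B] N)
    haveI : Subsingleton (C A B P ⊗[B'] (B' ⊗[B] N)) := e.toEquiv.subsingleton
    haveI : IsEmpty (Module.Free.ChooseBasisIndex B' (B' ⊗[B] N)) :=
      ⟨fun i => (b.baseChange (C A B P)).ne_zero i (Subsingleton.elim _ _)⟩
    exact b.repr.toEquiv.subsingleton
  · intro h
    exact e.symm.toEquiv.subsingleton

variable {A B N}

theorem injective_fib_map {k : ℕ} (f : (Fin k → B) →ₗ[B] N) (hf : Function.Surjective f) (P : PrimeSpectrum B) :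
    Function.Injective ((LinearMap.ker f).subtype.baseChange (C A B P)) := by
  let B' := Localization.AtPrime P.asIdeal
  let p := P.asIdeal.under A
  let J := p.map (algebraMap A B)
  let K := LinearMap.ker f
  -- first over the base
  have h1 := Groth.Agent.W4Lib.lTensor_injective_of_flat_quotient (f := (K.subtype).restrictScalars A)
    (g := f.restrictScalars A) (Submodule.injective_subtype K) (LinearMap.exact_subtype_ker_map f) hf (A ⧸ p)
  have h2 : Function.Injective (K.subtype.lTensor (B ⧸ J)) := by
    refine (injective_iff_map_eq_zero _).2 fun z hz => ?_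
    obtain ⟨x, rfl⟩ := TensorProduct.mk_surjective B K (B ⧸ J) Ideal.Quotient.mk_surjective z
    have hz' : (Ideal.Quotient.mk J 1) ⊗ₜ[B] (x : Fin k → B) = 0 := hz
    have hx : (x : Fin k → B) ∈ J • (⊤ : Submodule B (Fin k → B)) := by
      have := congrArg (TensorProduct.quotTensorEquivQuotSMul (Fin k → B) J) hz'
      rw [TensorProduct.quotTensorEquivQuotSMul_mk_tmul, one_smul, map_zero, Submodule.Quotient.mk_eq_zero] at this
      exact this
    have hxA : (x : Fin k → B) ∈ p • (⊤ : Submodule A (Fin k → B)) := by
      have h' : (x : Fin k → B) ∈ (J • (⊤ : Submodule B (Fin k → B))).restrictScalars A := hx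
      rwa [Ideal.smul_restrictScalars p ⊤, Submodule.restrictScalars_top] at h'
    have hz2 : (Ideal.Quotient.mk p 1) ⊗ₜ[A] x = 0 := h1 (by
      rw [map_zero, LinearMap.lTensor_tmul]
      apply (TensorProduct.quotTensorEquivQuotSMul _ p).injective
      rw [TensorProduct.quotTensorEquivQuotSMul_mk_tmul, one_smul, map_zero, Submodule.Quotient.mk_eq_zero]
      exact hxA)
    have h3 := congrArg (TensorProduct.quotTensorEquivQuotSMul K p) hz2
    rw [TensorProduct.quotTensorEquivQuotSMul_mk_tmul, one_smul, map_zero, Submodule.Quotient.mk_eq_zero] at h3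
    have h4 : x ∈ (J • (⊤ : Submodule B K)).restrictScalars A := by
      rw [Ideal.smul_restrictScalars p ⊤, Submodule.restrictScalars_top]; exact h3
    apply (TensorProduct.quotTensorEquivQuotSMul K J).injective
    rw [map_zero]
    show TensorProduct.quotTensorEquivQuotSMul K J ((Ideal.Quotient.mk J 1) ⊗ₜ[B] x) = 0
    rw [TensorProduct.quotTensorEquivQuotSMul_mk_tmul, one_smul, Submodule.Quotient.mk_eq_zero]
    exact h4
  -- then localize
  have h3 : Function.Injective ((K.subtype.lTensor (B ⧸ J)).lTensor B') :=
    Module.Flat.lTensor_preserves_injective_linearMap _ h2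
  have h4 : (J • ⊤ : Submodule B B') = ((P.asIdeal.under A).map (algebraMap A B')).restrictScalars B := by
    rw [Ideal.smul_top_eq_map, Ideal.map_map, ← IsScalarTower.algebraMap_eq]
  let φ : C A B P ≃ₗ[B] B' ⊗[B] (B ⧸ J) :=
    ((TensorProduct.tensorQuotEquivQuotSMul (M := B') J).trans ((Submodule.quotEquivOfEq _ _ h4).trans
      (Submodule.Quotient.restrictScalarsEquiv B _))).symm
  have key : ∀ z, ((TensorProduct.assoc B B' (B ⧸ J) (Fin k → B)) (φ.rTensor (Fin k → B) (K.subtype.lTensor _ z))) =
      (K.subtype.lTensor (B ⧸ J)).lTensor B' ((TensorProduct.assoc B B' (B ⧸ J) K) (φ.rTensor K z)) := fun z => by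
    induction z with
    | zero => simp only [map_zero]
    | add a b ha hb => simp only [map_add, ha, hb]
    | tmul a b =>
      simp only [LinearMap.lTensor_tmul, LinearEquiv.rTensor_tmul]
      induction φ a with
      | zero => simp
      | add u v hu hv => simp only [add_tmul, map_add, hu, hv]
      | tmul u v => simp
  intro a b hab
  have hab' : K.subtype.lTensor (C A B P) a = K.subtype.lTensor (C A B P) b := hab
  have := h3 ((key a).symm.trans ((congrArg _ (congrArg _ hab')).trans (key b)))
  exact (φ.rTensor K).injective ((TensorProduct.assoc B B' (B ⧸ J) K).injective this)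

theorem isOpen_pd_lt : ∀ (n : ℕ) (N : Type u) [AddCommGroup N] [Module B N] [Module A N] [IsScalarTower A B N]
    [Module.FinitePresentation B N] [Module.Flat A N],
    IsOpen {P : PrimeSpectrum B | HasProjectiveDimensionLT (fib A B N P) n} := by
  intro n
  induction n using Nat.strong_induction_on with
  | _ n ih =>
    intro N _ _ _ _ _ _
    match n with
    | 0 =>
      simp_rw [hasProjectiveDimensionLT_zero_iff_isZero, isZero_fib_iff A B N]
      exact (Module.isClosed_support (R := B) (M := N)).isOpen_compl
    | 1 =>
      simp_rw [← projective_iff_hasProjectiveDimensionLT_one, projective_fib_iff A B N]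
      exact Module.isOpen_freeLocus
    | m + 2 =>
      obtain ⟨k, f, hf⟩ := Module.Finite.exists_fin' B N
      haveI : Module.FinitePresentation B (LinearMap.ker f) := Groth.Agent.FlatSyz5.fp_ker (A := A) f hf
      haveI : Module.Flat A (LinearMap.ker f) := Groth.Agent.FlatSyz5.flat_ker A (f.restrictScalars A) hf
      convert ih (m + 1) (by omega) (LinearMap.ker f) using 1
      ext P
      let S : ShortComplex (ModuleCat.{u} (C A B P)) := ShortComplex.mk
        (ModuleCat.ofHom ((LinearMap.ker f).subtype.baseChange (C A B P))) (ModuleCat.ofHom (f.baseChange (C A B P)))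
        (by
          rw [← ModuleCat.ofHom_comp, ← LinearMap.baseChange_comp]
          rw [show f.comp (LinearMap.ker f).subtype = 0 from LinearMap.ext fun x => x.2, LinearMap.baseChange_zero]
          rfl)
      have hS : S.ShortExact := ShortComplex.ShortExact.mk'
        ((ShortComplex.ShortExact.moduleCat_exact_iff_function_exact S).2
          (lTensor_exact (C A B P) (LinearMap.exact_subtype_ker_map f) hf))
        ((ModuleCat.mono_iff_injective _).2 (injective_fib_map f hf P))
        ((ModuleCat.epi_iff_surjective _).2 (LinearMap.lTensor_surjective (C A B P) hf))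
      exact hS.hasProjectiveDimensionLT_X₃_iff m (by
        rw [← IsProjective.iff_projective]; infer_instance)

/-- In affine form, let A be a commutative ring, B a finitely presented A-algebra which is flat over A,
and M a finitely presented B-module which is flat over A. For a prime P of B lying over the prime p
of A, let B_P/pB_P be the local ring of the fibre at P and M_P/pM_P = (B_P/pB_P) ⊗_B M the fibre
stalk module. Then the function sending P to the projective dimension of M_P/pM_P over B_P/pB_P
(valued in WithBot ℕ∞, the zero module having dimension ⊥) is upper semicontinuous on Spec B: for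
every bound, the set of P where the fibre projective dimension is below the bound is open. -/
theorem result (A B M : Type u) [CommRing A] [CommRing B] [Algebra A B]
    [Algebra.FinitePresentation A B] [Module.Flat A B] [AddCommGroup M] [Module B M] [Module A M]
    [IsScalarTower A B M] [Module.FinitePresentation B M] [Module.Flat A M] :
    UpperSemicontinuous fun P : PrimeSpectrum B => projectiveDimension (ModuleCat.of
      (Localization.AtPrime P.asIdeal ⧸ (P.asIdeal.under A).map (algebraMap A (Localization.AtPrime P.asIdeal)))
      ((Localization.AtPrime P.asIdeal ⧸ (P.asIdeal.under A).map (algebraMap A (Localization.AtPrime P.asIdeal))) ⊗[B] M)) := by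
  rw [upperSemicontinuous_iff_isOpen_preimage]
  intro y
  induction y with
  | bot =>
    convert isOpen_empty using 1
    ext P; simp
  | coe y =>
    induction y with
    | coe n =>
      convert isOpen_pd_lt (A := A) (B := B) n M using 1
      ext P
      exact projectiveDimension_lt_iff
    | top =>
      convert isOpen_iUnion fun n : ℕ => isOpen_pd_lt (A := A) (B := B) n M using 1
      ext P
      simp only [Set.mem_preimage, Set.mem_Iio, Set.mem_iUnion, Set.mem_setOf_eq, ← projectiveDimension_lt_iff]
      refine ⟨fun h => ?_, fun ⟨n, h⟩ => h.trans_le (WithBot.coe_le_coe.2 le_top)⟩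
      obtain ⟨z, hz⟩ : ∃ z, projectiveDimension (fib A B M P) = z := ⟨_, rfl⟩
      rw [hz]
      replace h : z < ⊤ := hz ▸ h
      induction z with
      | bot => exact ⟨0, WithBot.bot_lt_coe _⟩
      | coe z =>
        induction z with
        | coe i => exact ⟨i + 1, WithBot.coe_lt_coe.2 (by exact_mod_cast Nat.lt_succ_self i)⟩
        | top => exact absurd h (lt_irrefl _)

end Groth.Agent.S19197
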