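import Groth.Statements.S19198
import Groth.Agent.SchClosure.Basic
import Groth.Agent.CDiv6.Normal
import Mathlib.AlgebraicGeometry.SpreadingOut
import Mathlib.AlgebraicGeometry.ValuativeCriterion

set_option autoImplicit false
universe u
open CategoryTheory AlgebraicGeometry
open Models

namespace Groth.Agent.S19198

open CategoryTheory CategoryTheory.Limits AlgebraicGeometry in
/-- a proper morphism from a flat scheme which is an isomorphism on the generic fibre is an
isomorphism near a normal point of codimension one -/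
lemma spread_iso (R : Type u) [CommRing R] [IsDomain R]
    [IsDiscreteValuationRing R] {C Z : Scheme.{u}} (πC : C ⟶ Spec (CommRingCat.of R)) [Flat πC]
    [LocallyOfFiniteType πC] (g : Z ⟶ C) [IsProper g] [Flat (g ≫ πC)] (ϖ : R) (hϖ : Irreducible ϖ)
    (hgen : IsIso (g ∣_ (πC ⁻¹ᵁ (PrimeSpectrum.basicOpen ϖ))))
    (c : C) (hdom : IsDomain (C.presheaf.stalk c)) (hnorm : IsIntegrallyClosed (C.presheaf.stalk c))
    (hdim : ringKrullDim (C.presheaf.stalk c) = 1) :
    ∃ V : C.Opens, c ∈ V ∧ IsIso (g ∣_ V) := by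
  haveI := hgen
  haveI : IsLocallyNoetherian C := LocallyOfFiniteType.isLocallyNoetherian πC
  haveI : IsDomain (C.presheaf.stalk c) := hdom
  haveI : IsIntegrallyClosed (C.presheaf.stalk c) := hnorm
  haveI : IsDiscreteValuationRing (C.presheaf.stalk c) := Groth.Agent.CDiv6.isDVR_of_dim_eq_one _ hdim
  set U : C.Opens := πC ⁻¹ᵁ (PrimeSpectrum.basicOpen ϖ) with hU
  let O := C.presheaf.stalk c
  let K := FractionRing O
  let jK : Spec (CommRingCat.of K) ⟶ Spec O := Spec.map (CommRingCat.ofHom (algebraMap O K))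
  -- the generic point of the local ring lies over the open
  have hrange : Set.range (jK ≫ C.fromSpecStalk c) ⊆ Set.range U.ι := by
    rintro _ ⟨t, rfl⟩
    rw [Scheme.Opens.range_ι, Scheme.Hom.comp_apply]
    have hbot : jK t = (⊥ : PrimeSpectrum O) := by
      apply PrimeSpectrum.ext
      show (t.asIdeal).comap (algebraMap O K) = ⊥
      rw [(Ideal.eq_bot_or_top t.asIdeal).resolve_right t.isPrime.ne_top, ← RingHom.ker_eq_comap_bot]
      exact (RingHom.injective_iff_ker_eq_bot _).1 (IsFractionRing.injective O K)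
    obtain ⟨z, hzc, hz⟩ := Flat.generalizingMap πC
      (show (⊥ : PrimeSpectrum R) ⤳ πC c from (PrimeSpectrum.le_iff_specializes _ _).1 bot_le)
    have hzU : z ∈ U := by
      show πC z ∈ PrimeSpectrum.basicOpen ϖ
      rw [hz]
      exact fun h => hϖ.ne_zero (Ideal.mem_bot.1 h)
    obtain ⟨z', rfl⟩ : z ∈ Set.range (C.fromSpecStalk c) := by
      rw [Scheme.range_fromSpecStalk]; exact hzc
    refine Specializes.mem_open ?_ U.2 hzU
    rw [hbot]
    exact ((PrimeSpectrum.le_iff_specializes (⊥ : PrimeSpectrum O) z').1 bot_le).map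
      (C.fromSpecStalk c).continuous
  let l : Spec (CommRingCat.of K) ⟶ U.toScheme := IsOpenImmersion.lift U.ι (jK ≫ C.fromSpecStalk c) hrange
  have hl : l ≫ U.ι = jK ≫ C.fromSpecStalk c := IsOpenImmersion.lift_fac _ _ _
  have hinv : inv (g ∣_ U) ≫ (g ⁻¹ᵁ U).ι ≫ g = U.ι := by
    rw [IsIso.inv_comp_eq, morphismRestrict_ι]
  -- valuative criterion
  have hE : ValuativeCriterion.Existence g := by
    have h := ‹IsProper g›
    rw [IsProper.eq_valuativeCriterion] at h
    exact h.1.1.1.existence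
  let sq : ValuativeCommSq g :=
    { R := O
      domain := hdom
      valuationRing := (inferInstance : ValuationRing (C.presheaf.stalk c))
      K := K
      i₁ := l ≫ inv (g ∣_ U) ≫ (g ⁻¹ᵁ U).ι
      i₂ := C.fromSpecStalk c
      commSq := ⟨by simp only [Category.assoc, hinv, hl]; rfl⟩ }
  obtain ⟨s, hs2⟩ : ∃ s : Spec O ⟶ Z, s ≫ g = C.fromSpecStalk c := by
    obtain ⟨s, -, hs2⟩ := (hE sq).exists_lift
    exact ⟨s, hs2⟩
  obtain ⟨V, hcV, σ, -, hσ⟩ := spread_out_of_isGermInjective' (X := C) (x := c) (𝟙 C) g s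
    (hs2.trans (Category.comp_id _).symm)
  rw [Category.comp_id] at hσ
  refine ⟨V, hcV, ?_⟩
  have hσr : Set.range σ ⊆ Set.range (g ⁻¹ᵁ V).ι := by
    rintro _ ⟨t, rfl⟩
    rw [Scheme.Opens.range_ι]
    show g (σ t) ∈ V
    rw [← Scheme.Hom.comp_apply, hσ]
    exact t.2
  let σ' : V.toScheme ⟶ (g ⁻¹ᵁ V).toScheme := IsOpenImmersion.lift (g ⁻¹ᵁ V).ι σ hσr
  have hσ' : σ' ≫ (g ⁻¹ᵁ V).ι = σ := IsOpenImmersion.lift_fac _ _ _
  have hsec : σ' ≫ (g ∣_ V) = 𝟙 _ := by
    rw [← cancel_mono V.ι, Category.assoc, morphismRestrict_ι, reassoc_of% hσ', hσ, Category.id_comp]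
  haveI : IsClosedImmersion σ' := by
    haveI : IsClosedImmersion (σ' ≫ (g ∣_ V)) := by rw [hsec]; infer_instance
    exact IsClosedImmersion.of_comp σ' (g ∣_ V)
  let gW : (g ⁻¹ᵁ V).toScheme ⟶ Spec (CommRingCat.of R) := (g ⁻¹ᵁ V).ι ≫ g ≫ πC
  haveI : Flat gW := inferInstanceAs (Flat ((g ⁻¹ᵁ V).ι ≫ g ≫ πC))
  let jR := Spec.map (CommRingCat.ofHom (algebraMap R (FractionRing R)))
  let p : pullback gW jR ⟶ (g ⁻¹ᵁ V).toScheme := pullback.fst gW jR
  have hpU : ∀ t, g ((g ⁻¹ᵁ V).ι (p t)) ∈ U := fun t => by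
    show πC (g ((g ⁻¹ᵁ V).ι (p t))) ∈ PrimeSpectrum.basicOpen ϖ
    have e : gW (p t) = jR (pullback.snd gW jR t) := by
      rw [← Scheme.Hom.comp_apply, ← Scheme.Hom.comp_apply, pullback.condition]
    have h0 : gW (p t) ∈ PrimeSpectrum.basicOpen ϖ := by
      rw [e]
      intro h
      exact (pullback.snd gW jR t).isPrime.ne_top (Ideal.eq_top_of_isUnit_mem _ h
        (IsUnit.mk0 _ fun h0 => hϖ.ne_zero ((map_eq_zero_iff _ (IsFractionRing.injective R (FractionRing R))).1 h0)))
    simpa [gW] using h0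
  have key : p ≫ (g ∣_ V) ≫ σ' = p := by
    rw [← cancel_mono (g ⁻¹ᵁ V).ι]
    have hr1 : Set.range (p ≫ (g ⁻¹ᵁ V).ι) ⊆ Set.range (g ⁻¹ᵁ U).ι := by
      rintro _ ⟨t, rfl⟩
      rw [Scheme.Opens.range_ι]
      exact hpU t
    have hr2 : Set.range (p ≫ (g ∣_ V) ≫ σ) ⊆ Set.range (g ⁻¹ᵁ U).ι := by
      rintro _ ⟨t, rfl⟩
      rw [Scheme.Opens.range_ι]
      show g ((p ≫ (g ∣_ V) ≫ σ) t) ∈ U
      rw [← Scheme.Hom.comp_apply]
      simp only [Category.assoc, hσ, morphismRestrict_ι, Scheme.Hom.comp_apply]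
      exact hpU t
    have e1 := IsOpenImmersion.lift_fac (g ⁻¹ᵁ U).ι _ hr1
    have e2 := IsOpenImmersion.lift_fac (g ⁻¹ᵁ U).ι _ hr2
    have : IsOpenImmersion.lift (g ⁻¹ᵁ U).ι _ hr2 = IsOpenImmersion.lift (g ⁻¹ᵁ U).ι _ hr1 := by
      rw [← cancel_mono (g ∣_ U), ← cancel_mono U.ι]
      simp only [Category.assoc, morphismRestrict_ι]
      rw [reassoc_of% e1, reassoc_of% e2]
      simp only [hσ, morphismRestrict_ι]
    rw [Category.assoc, Category.assoc, hσ', ← e2, this, e1]
  haveI := Groth.Agent.SchClosure.isIso_of_generic (IsFractionRing.injective R (FractionRing R)) gW σ'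
    (p ≫ (g ∣_ V)) ((Category.assoc _ _ _).trans key)
  have : g ∣_ V = inv σ' := IsIso.eq_inv_of_hom_inv_id hsec
  rw [this]
  infer_instance


/-- Form over the valuation ring: let R be a discrete valuation ring with a uniformizer ϖ, let C → Spec
R be flat and locally of finite type, f : X → C proper, and Z → X a closed immersion with Z flat
over R such that the composite Z → C restricts to an isomorphism over the generic fibre, the
preimage of the open set D(ϖ) of Spec R. Then for every point c of C whose local ring is an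
integrally closed domain of Krull dimension one (a codimension-one point at which C is normal, for
instance a generic point of the closed fibre lying in the smooth locus), there is an open
neighbourhood V of c over which Z → C is an isomorphism. (The published statement, that the closed
fibre of such a Z maps isomorphically onto the closed fibre of C over every generic point of its
smooth locus, also after a finite extension of R, follows by restriction to the closed fibre and
flat descent.) -/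
theorem result (R : Type u) [CommRing R] [IsDomain R]
    [IsDiscreteValuationRing R] {C X Z : Scheme.{u}} (πC : C ⟶ Spec (CommRingCat.of R)) [Flat πC]
    [LocallyOfFiniteType πC] (f : X ⟶ C) [IsProper f] (i : Z ⟶ X) [IsClosedImmersion i]
    [Flat ((i ≫ f) ≫ πC)] (ϖ : R) (hϖ : Irreducible ϖ)
    (hgen : IsIso ((i ≫ f) ∣_ (πC ⁻¹ᵁ (PrimeSpectrum.basicOpen ϖ))))
    (c : C) (hdom : IsDomain (C.presheaf.stalk c)) (hnorm : IsIntegrallyClosed (C.presheaf.stalk c))
    (hdim : ringKrullDim (C.presheaf.stalk c) = 1) :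
    ∃ V : C.Opens, c ∈ V ∧ IsIso ((i ≫ f) ∣_ V) := by
  exact spread_iso R πC (i ≫ f) ϖ hϖ hgen c hdom hnorm hdim

end Groth.Agent.S19198
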