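import Groth.Statements.S19203
import Groth.Agent.CohGlobGrowth.Main

set_option autoImplicit false
universe u
open CategoryTheory AlgebraicGeometry
open Coh

namespace Groth.Agent.S19203
open Groth.Agent Groth.Agent.H23 in


/-- Let X be a scheme proper over a field k with dim X = r, and L an invertible O_X-module generated by
its global sections. Then for each i ≥ 1 the dimensions dim_k H^i(X, L^{⊗n}) are O(n^{r-1}): there
is a real constant C with dim_k H^i(X, L^{⊗n}) ≤ C·n^{r-1} for every n ≥ 1. (For r = 0 the exponent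
r − 1 is read as 0; k is any field.) -/
theorem result (k : Type u) [Field k] (X : Scheme.{u})
    [X.Over (Spec (CommRingCat.of k))] [IsProper (X ↘ (Spec (CommRingCat.of k)))]
    (r : ℕ) (hdim : topologicalKrullDim X = r)
    (L : X.Modules) (hL : PicF.IsInvertible L) (hgen : Curv2.IsGloballyGenerated L)
    (i : ℕ) (hi : 1 ≤ i) :
    ∃ C : ℝ, ∀ n : ℕ, 1 ≤ n →
      (Module.finrank k (Coh.HH X (CohB1.tensorPow L n) i) : ℝ) ≤ C * (n : ℝ) ^ (r - 1) := by
  haveI := CurveCohLib.isNoetherian_of_proper (k := k) (X := X)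
  obtain ⟨B, hB⟩ := CohGlobGrowth.exists_bound k hL hgen r ⊤
    ((topologicalKrullDim_subspace_le X _).trans hdim.le) _ QCoh.isCoh_structureModule' (fun _ _ => trivial) i hi
  refine ⟨(B : ℝ) * 2 ^ (r - 1), fun n hn => ?_⟩
  have h := (CurveCohLib.hhEquiv (k := k) (CurveTensor.structureTensorIso (CohB1.tensorPow L n)) i).finrank_eq.symm.le.trans (hB n)
  rcases r with _ | d
  · simp only [CohGrowth.w, if_true, mul_zero, Nat.le_zero] at h
    rw [h]
    simp
  rw [CohGrowth.w_succ] at h
  refine (Nat.cast_le (α := ℝ).2 h).trans ?_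
  push_cast
  rw [mul_assoc]
  exact mul_le_mul_of_nonneg_left (AsympCoh.succ_pow_le hn d) (by positivity)

end Groth.Agent.S19203
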