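import Groth.Statements.S19208
import Groth.Agent.GrLib8.Samuel.Reduction
-- import your own Groth.Agent.* helpers here

set_option autoImplicit false
universe u
open Filter
open LocAlg

namespace Groth.Agent.S19208

/-- Let O be a Noetherian local ring of Krull dimension r containing a field, with maximal ideal m. The
zeroth flat multiplicity e_0(O), the supremum over m-primary ideals I of e(I)/(r!·length(O/I)) with
e(I) the Samuel multiplicity, is at least 1: for every ε > 0 there is an m-primary ideal I (I ⊆ m,
m^N ⊆ I for some N) whose multiplicity e(I), the limit of r!·length(O/I^n)/n^r, satisfies e(I) ≥ (1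
− ε)·r!·length(O/I). (The same statement for the power-series rings O[[t_1, …, t_k]] is the bound
e_k(O) ≥ 1 for the k-th flat multiplicity.) -/
theorem result (O : Type u) [CommRing O] [IsNoetherianRing O]
    [IsLocalRing O] (K : Type u) [Field K] [Algebra K O] (r : ℕ) (hr : ringKrullDim O = r)
    (ε : ℝ) (hε : 0 < ε) :
    ∃ (I : Ideal O) (e : ℝ), I ≤ IsLocalRing.maximalIdeal O ∧
      (∃ N : ℕ, IsLocalRing.maximalIdeal O ^ N ≤ I) ∧
      Tendsto (fun n : ℕ => (r.factorial : ℝ) * ((Module.length O (O ⧸ I ^ n)).toNat : ℝ) / (n : ℝ) ^ r)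
        atTop (nhds e) ∧
      (1 - ε) * ((r.factorial : ℝ) * ((Module.length O (O ⧸ I)).toNat : ℝ)) ≤ e := by
  exact Groth.Agent.GrLib8.Samuel.exists_ideal_flatMult_ge r hr ε hε

end Groth.Agent.S19208
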