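import Groth.Statements.S19209
import Mathlib.Tactic.Ring
import Mathlib.Algebra.BigOperators.Ring.Finset
import Mathlib.Tactic.Linarith
import Mathlib.Tactic.FieldSimp
import Mathlib.Data.Finset.Max
import Mathlib.Algebra.BigOperators.Intervals

set_option autoImplicit false
universe u
open Curves

namespace Groth.Agent.S19209

private theorem gauss (k : ℕ) : 2 * ∑ j ∈ Finset.range k, (j : ℝ) = (k : ℝ) * ((k : ℝ) - 1) := by
  induction k with
  | zero => simp
  | succ k ih => rw [Finset.sum_range_succ, mul_add, ih]; push_cast; ring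

private theorem chain_exists (n : ℕ) (p : ℕ → ℝ) (hpn : p n = 0) :
    ∀ m a : ℕ, a + m = n → ∃ (l : ℕ) (s : ℕ → ℕ), s 0 = a ∧ s l = n ∧
      (∀ k : ℕ, k < l → s k < s (k + 1)) ∧
      (∑ k ∈ Finset.range l, (p (s k) - p (s (k + 1))) * ((s k : ℝ) + (s (k + 1) : ℝ))) - 2 * a * p a + p a ≤
        2 * ∑ i ∈ Finset.range (m + 1), p (a + i) ∧
      (∑ k ∈ Finset.range l, (p (s k) - p (s (k + 1))) * ((s k : ℝ) + (s (k + 1) : ℝ))) - 2 * a * p a ≤ m * p a := by
  intro m
  induction m using Nat.strong_induction_on with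
  | _ m ih =>
    intro a ham
    by_cases hm : m = 0
    · subst hm
      obtain rfl : a = n := by omega
      exact ⟨0, fun _ => a, rfl, rfl, by simp, by simp [hpn], by simp [hpn]⟩
    obtain ⟨k, hk, hmin⟩ := Finset.exists_min_image (Finset.Icc 1 m) (fun k : ℕ => (p (a + k) - p a) / (k : ℝ))
      ⟨1, Finset.mem_Icc.2 ⟨le_rfl, by omega⟩⟩
    rw [Finset.mem_Icc] at hk
    obtain ⟨l, s, hs0, hsl, hsm, h1, h2⟩ := ih (m - k) (by omega) (a + k) (by omega)
    have hkpos : (0 : ℝ) < k := by exact_mod_cast hk.1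
    have hmpos : (0 : ℝ) < m := by exact_mod_cast (Nat.pos_of_ne_zero hm)
    obtain ⟨σ, hσdef⟩ : ∃ σ : ℝ, σ = (p (a + k) - p a) / k := ⟨_, rfl⟩
    have hσ : σ * k = p (a + k) - p a := by rw [hσdef]; field_simp
    have hlow : ∀ j : ℕ, j < k → p a + σ * j ≤ p (a + j) := by
      intro j hj
      rcases Nat.eq_zero_or_pos j with rfl | hjpos
      · simp
      · have := hmin j (Finset.mem_Icc.2 ⟨hjpos, by omega⟩)
        rw [← hσdef] at this
        rw [le_div_iff₀ (by exact_mod_cast hjpos)] at this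
        linarith
    refine ⟨l + 1, fun i => if i = 0 then a else s (i - 1), by simp, by simpa using hsl, ?_, ?_, ?_⟩
    · intro i hi
      rcases i with _ | i
      · simp only [if_true, Nat.zero_add, one_ne_zero, if_false, Nat.sub_self, hs0]; omega
      · simpa using hsm i (by omega)
    all_goals
      rw [Finset.sum_range_succ']
      simp only [Nat.add_eq_zero_iff, one_ne_zero, and_false, if_false, if_true, Nat.add_sub_cancel, hs0]
    · have hsum : ∑ i ∈ Finset.range (m + 1), p (a + i) =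
          ∑ j ∈ Finset.range k, p (a + j) + ∑ i ∈ Finset.range (m - k + 1), p (a + k + i) := by
        rw [show m + 1 = k + (m - k + 1) by omega, Finset.sum_range_add]
        simp only [Nat.add_assoc]
      have hge : ∑ j ∈ Finset.range k, (p a + σ * j) ≤ ∑ j ∈ Finset.range k, p (a + j) :=
        Finset.sum_le_sum fun j hj => hlow j (Finset.mem_range.1 hj)
      rw [Finset.sum_add_distrib, Finset.sum_const, Finset.card_range, nsmul_eq_mul, ← Finset.mul_sum] at hge
      have hg : σ * (2 * ∑ j ∈ Finset.range k, (j : ℝ)) = (σ * k) * ((k : ℝ) - 1) := by rw [gauss]; ring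
      rw [hσ] at hg
      rw [hsum]
      push_cast at h1 ⊢
      nlinarith [h1, hge, hg]
    · have hle := hmin m (Finset.mem_Icc.2 ⟨by omega, le_rfl⟩)
      rw [← hσdef, ham, hpn] at hle
      rw [le_div_iff₀ hmpos] at hle
      push_cast [Nat.cast_sub hk.2] at h2 ⊢
      have hb : (m : ℝ) * p (a + k) ≤ ((m : ℝ) - k) * p a := by
        have := mul_le_mul_of_nonneg_right hle hkpos.le
        nlinarith [hσ]
      nlinarith [h2, hb]


/-- Let n ≥ 1 and let p_0 ≥ p_1 ≥ … ≥ p_n = 0 be real numbers. Then some chain 0 = s_0 < s_1 < … < s_l =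
n satisfies Σ_{k<l} (p_{s_k} − p_{s_{k+1}})·(s_k + s_{k+1}) ≤ (2n/(n+1))·(p_0 + p_1 + … + p_n).
Equivalently the minimum of these sums over all chains, which is twice the area under the Newton
polygon (lower convex hull) of the points (k, p_k), is at most 2n/(n+1) times the sum of the
weights. -/
theorem result (n : ℕ) (hn : 1 ≤ n) (p : ℕ → ℝ)
    (hp : ∀ i j : ℕ, i ≤ j → j ≤ n → p j ≤ p i) (hpn : p n = 0) :
    ∃ (l : ℕ) (s : ℕ → ℕ), s 0 = 0 ∧ s l = n ∧ (∀ k : ℕ, k < l → s k < s (k + 1)) ∧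
      (∑ k ∈ Finset.range l, (p (s k) - p (s (k + 1))) * ((s k : ℝ) + (s (k + 1) : ℝ))) ≤
        2 * (n : ℝ) / ((n : ℝ) + 1) * ∑ i ∈ Finset.range (n + 1), p i := by
  obtain ⟨l, s, h0, hl, hs, h1, h2⟩ := chain_exists n p hpn n 0 (by omega)
  refine ⟨l, s, h0, hl, hs, ?_⟩
  simp only [Nat.cast_zero, mul_zero, zero_mul, sub_zero, Nat.zero_add] at h1 h2
  rw [div_mul_eq_mul_div, le_div_iff₀ (by positivity)]
  nlinarith [mul_le_mul_of_nonneg_left h1 (Nat.cast_nonneg n : (0 : ℝ) ≤ (n : ℝ))]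

end Groth.Agent.S19209
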