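import Groth.Statements.S1921
import Groth.Agent.H23.C1Desc
-- import your own Groth.Agent.* helpers here

set_option autoImplicit false
universe u
open CategoryTheory AlgebraicGeometry
open Cyc

namespace Groth.Agent.S1921

/-- Let L be an invertible O_X-module and α a (k + 1)-cycle on X rationally equivalent to zero. Then
c_1(L) ∩ α ∼_rat 0 as a k-cycle, whatever nonzero rational sections are used to compute it; that is,
c_1(L) ∩ − is defined on CH_{k+1}(X) → CH_k(X). Here L(ξ) = L_ξ/𝔪_ξ L_ξ is the space of rational
sections of L on the closure of ξ, div_{L|W}(s) and c_1(L) ∩ α are computed as coefficient functions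
from chosen nonzero rational sections (Cyc.secDivFun, Cyc.c1CapFun), and results are compared up to
rational equivalence for any cycles with those coefficients. A pair (X, δ) with Cyc.IsSetup plays
the role of a scheme locally of finite type over a fixed base with a dimension function (X locally
Noetherian with universally catenary local rings, δ a dimension function), and Cyc.DeltaCompat
records that the dimension function upstairs is the induced one. -/
theorem result (X : Scheme.{u}) (δ : X → ℤ) (hX : Cyc.IsSetup X δ) (L : X.Modules) (hL : PicF.IsInvertible L) (k : ℤ) (α : AlgebraicCycle X ℤ) (hα : α ∈ Cyc.Zk X δ (k + 1)) (h0 : Cyc.RatEquivZero δ (k + 1) α) (s : (ξ : X) → Cyc.secFibre L ξ) (hs : ∀ ξ, s ξ ≠ 0) (γ : AlgebraicCycle X ℤ) (hγ : ⇑γ = Cyc.c1CapFun δ L ⇑α s) : Cyc.RatEquivZero δ k γ := by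
  
  haveI := hX.1
  refine Groth.Agent.H23.RatOn.ratEquivZero (T := Set.univ) ?_
  rw [hγ]
  exact Groth.Agent.H23.C1Desc.zeroOn_c1Cap hL hX.2.2 (Groth.Agent.H23.RatOn.of_ratEquivZero h0) hs
    fun ξ ζ _ _ _ h => absurd trivial h

end Groth.Agent.S1921
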