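import Groth.Statements.S19210
import Mathlib

set_option autoImplicit false
universe u
open LocAlg

namespace Groth.Agent.S19210

/-- For natural numbers j ≤ r, the sums Σ_{i=0}^{n−1} (n − i)^{r−j} i^j equal n^{r+1}·(r − j)!·j!/(r +
1)! up to O(n^r): there is a real constant C with |Σ_{i<n} (n − i)^{r−j} i^j − ((r − j)!·j!/(r +
1)!)·n^{r+1}| ≤ C·n^r for all n ≥ 1. -/
theorem result (r j : ℕ) (hj : j ≤ r) :
    ∃ C : ℝ, ∀ n : ℕ, 1 ≤ n →
      |(∑ i ∈ Finset.range n, ((n : ℝ) - (i : ℝ)) ^ (r - j) * (i : ℝ) ^ j) -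
          ((r - j).factorial : ℝ) * (j.factorial : ℝ) / ((r + 1).factorial : ℝ) * (n : ℝ) ^ (r + 1)| ≤
        C * (n : ℝ) ^ r := by
  suffices H : ∀ b a : ℕ, ∃ C : ℝ, ∀ n : ℕ, 1 ≤ n →
      |(∑ i ∈ Finset.range n, ((n : ℝ) - (i : ℝ)) ^ a * (i : ℝ) ^ b) -
        (a.factorial : ℝ) * (b.factorial : ℝ) / ((a + b + 1).factorial : ℝ) * (n : ℝ) ^ (a + b + 1)| ≤
        C * (n : ℝ) ^ (a + b) by
    obtain ⟨C, hC⟩ := H j (r - j)
    rw [show r - j + j = r by omega] at hC
    exact ⟨C, hC⟩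
  intro b
  induction b with
  | zero =>
    intro a
    refine ⟨1, fun n _ => ?_⟩
    simp only [pow_zero, mul_one, Nat.factorial_zero, Nat.cast_one, add_zero, one_mul]
    have hfac : (a.factorial : ℝ) / ((a + 1).factorial : ℝ) = 1 / ((a : ℝ) + 1) := by
      rw [Nat.factorial_succ, Nat.cast_mul]; field_simp; push_cast; ring
    rw [hfac]
    have hS : ∑ i ∈ Finset.range n, ((n : ℝ) - (i : ℝ)) ^ a = ∑ i ∈ Finset.range n, ((i : ℝ) + 1) ^ a := by
      rw [← Finset.sum_range_reflect (fun i => ((i : ℝ) + 1) ^ a) n]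
      refine Finset.sum_congr rfl fun i hi => ?_
      rw [Finset.mem_range] at hi
      rw [Nat.cast_sub (by omega), Nat.cast_sub (by omega)]
      push_cast; ring_nf
    rw [hS]
    clear hS hfac
    have key : ∀ n : ℕ, (n : ℝ) ^ (a + 1) ≤ ((a : ℝ) + 1) * ∑ i ∈ Finset.range n, ((i : ℝ) + 1) ^ a ∧
        ((a : ℝ) + 1) * ∑ i ∈ Finset.range n, ((i : ℝ) + 1) ^ a ≤ (n : ℝ) ^ (a + 1) + ((a : ℝ) + 1) * (n : ℝ) ^ a := by
      intro n
      induction n with
      | zero => simp; positivity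
      | succ n ih =>
        obtain ⟨ih1, ih2⟩ := ih
        rw [Finset.sum_range_succ, mul_add]
        have hg := geom_sum₂_mul ((n : ℝ) + 1) (n : ℝ) (a + 1)
        rw [add_sub_cancel_left, mul_one] at hg
        simp only [Nat.add_sub_cancel] at hg
        have hub : ((n : ℝ) + 1) ^ (a + 1) - (n : ℝ) ^ (a + 1) ≤ ((a : ℝ) + 1) * ((n : ℝ) + 1) ^ a := by
          rw [← hg]
          calc ∑ i ∈ Finset.range (a + 1), ((n : ℝ) + 1) ^ i * (n : ℝ) ^ (a - i)
              ≤ ∑ i ∈ Finset.range (a + 1), ((n : ℝ) + 1) ^ a := Finset.sum_le_sum fun i hi => by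
                rw [Finset.mem_range] at hi
                calc ((n : ℝ) + 1) ^ i * (n : ℝ) ^ (a - i) ≤ ((n : ℝ) + 1) ^ i * ((n : ℝ) + 1) ^ (a - i) :=
                      mul_le_mul_of_nonneg_left (pow_le_pow_left₀ (by positivity) (by linarith) _) (by positivity)
                  _ = _ := by rw [← pow_add]; congr 1; omega
            _ = _ := by simp
        have hlb : ((a : ℝ) + 1) * (n : ℝ) ^ a ≤ ((n : ℝ) + 1) ^ (a + 1) - (n : ℝ) ^ (a + 1) := by
          rw [← hg]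
          calc ((a : ℝ) + 1) * (n : ℝ) ^ a = ∑ i ∈ Finset.range (a + 1), (n : ℝ) ^ a := by simp
            _ ≤ _ := Finset.sum_le_sum fun i hi => by
                rw [Finset.mem_range] at hi
                calc (n : ℝ) ^ a = (n : ℝ) ^ i * (n : ℝ) ^ (a - i) := by rw [← pow_add]; congr 1; omega
                  _ ≤ _ := mul_le_mul_of_nonneg_right (pow_le_pow_left₀ (by positivity) (by linarith) _) (by positivity)
        push_cast
        constructor <;> linarith
    obtain ⟨k1, k2⟩ := key n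
    rw [abs_le]
    have ha : (0 : ℝ) < (a : ℝ) + 1 := by positivity
    constructor
    · have : 1 / ((a : ℝ) + 1) * (n : ℝ) ^ (a + 1) ≤ ∑ i ∈ Finset.range n, ((i : ℝ) + 1) ^ a := by
        rw [div_mul_eq_mul_div, div_le_iff₀ ha]; linarith
      have : (0 : ℝ) ≤ (n : ℝ) ^ a := by positivity
      linarith
    · have : ∑ i ∈ Finset.range n, ((i : ℝ) + 1) ^ a ≤ 1 / ((a : ℝ) + 1) * (n : ℝ) ^ (a + 1) + (n : ℝ) ^ a := by
        rw [div_mul_eq_mul_div, div_add' _ _ _ ha.ne', le_div_iff₀ ha]; linarith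
      linarith
  | succ b ih =>
    intro a
    obtain ⟨C1, h1⟩ := ih a
    obtain ⟨C2, h2⟩ := ih (a + 1)
    refine ⟨C1 + C2, fun n hn => ?_⟩
    have e : ∑ i ∈ Finset.range n, ((n : ℝ) - (i : ℝ)) ^ a * (i : ℝ) ^ (b + 1) =
        (n : ℝ) * (∑ i ∈ Finset.range n, ((n : ℝ) - (i : ℝ)) ^ a * (i : ℝ) ^ b) -
          ∑ i ∈ Finset.range n, ((n : ℝ) - (i : ℝ)) ^ (a + 1) * (i : ℝ) ^ b := by
      rw [Finset.mul_sum, ← Finset.sum_sub_distrib]
      exact Finset.sum_congr rfl fun i _ => by ring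
    have hconst : (a.factorial : ℝ) * ((b + 1).factorial : ℝ) / ((a + b + 1 + 1).factorial : ℝ) =
        (a.factorial : ℝ) * (b.factorial : ℝ) / ((a + b + 1).factorial : ℝ) -
          ((a + 1).factorial : ℝ) * (b.factorial : ℝ) / ((a + b + 1 + 1).factorial : ℝ) := by
      rw [Nat.factorial_succ (a + b + 1), Nat.factorial_succ a, Nat.factorial_succ b]
      push_cast; field_simp; ring
    have g1 := h1 n hn
    have g2 := h2 n hn
    rw [show a + 1 + b + 1 = a + b + 1 + 1 by omega, show a + 1 + b = a + b + 1 by omega] at g2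
    rw [show a + (b + 1) + 1 = a + b + 1 + 1 by omega, show a + (b + 1) = a + b + 1 by omega, e, hconst]
    have g1' := mul_le_mul_of_nonneg_left g1 (Nat.cast_nonneg' n (α := ℝ))
    rw [← abs_of_nonneg (Nat.cast_nonneg' n (α := ℝ)), ← abs_mul] at g1'
    rw [abs_of_nonneg (Nat.cast_nonneg' n (α := ℝ))] at g1'
    refine le_trans (le_of_eq ?_) (le_trans (abs_sub _ _) (le_trans (add_le_add g1' g2) (le_of_eq ?_)))
    · congr 1; ring
    · ring

end Groth.Agent.S19210
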