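import Groth.Statements.S19212
import Groth.Agent.DiagSym.Basic

set_option autoImplicit false
universe u v
open TensorProduct
open DiagIdeal

namespace Groth.Agent.S19212

/-- Let k be an algebraically closed field of characteristic zero and A a smooth k-algebra which is a
domain. Let the symmetric group on three letters permute the factors of A ⊗ A ⊗ A (it is generated
by the swap of the first two factors and the swap of the last two), let r : A ⊗ (A ⊗ A) → A ⊗ A be
the k-linear map a ⊗ b ⊗ c ↦ ab ⊗ c, and let D : A ⊗ A → Ω_{A/k} be the k-linear map a ⊗ b ↦ 2a·db −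
b·da. Then an element y of A ⊗ A satisfies D y = 0 if and only if y = r x for some x fixed by both
swaps, and D is surjective. (This is exactness at the last two places of the four-term right
resolution of the invariants of the ideal of the big diagonal on the symmetric cube of X = Spec A,
namely invariant functions on X³, then functions on X × X through restriction to a diagonal, then
one-forms on X; exactness at the first two places is immediate. The published statement is the sheaf
version on the symmetric cube of a smooth complex variety of any dimension; an algebraically closed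
field of characteristic zero is used here.) -/
theorem result (k : Type u) [Field k] [IsAlgClosed k] [CharZero k]
    (A : Type v) [CommRing A] [Algebra k A] [Algebra.Smooth k A] [IsDomain A]
    (r : A ⊗[k] (A ⊗[k] A) →ₗ[k] A ⊗[k] A)
    (hr : ∀ a b c : A, r (a ⊗ₜ[k] (b ⊗ₜ[k] c)) = (a * b) ⊗ₜ[k] c)
    (D : A ⊗[k] A →ₗ[k] Ω[A⁄k])
    (hD : ∀ a b : A, D (a ⊗ₜ[k] b) = (2 : A) • (a • KaehlerDifferential.D k A b) - b • KaehlerDifferential.D k A a) :
    (∀ y : A ⊗[k] A, D y = 0 ↔ ∃ x : A ⊗[k] (A ⊗[k] A),
        TensorProduct.leftComm k A A A x = x ∧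
        LinearMap.lTensor A (TensorProduct.comm k A A).toLinearMap x = x ∧ r x = y) ∧
    Function.Surjective D := by
  classical
  let σ : A ⊗[k] A →ₗ[k] A ⊗[k] A := (TensorProduct.comm k A A).toLinearMap
  let L := TensorProduct.leftComm k A A A
  let τ : A ⊗[k] (A ⊗[k] A) →ₗ[k] A ⊗[k] (A ⊗[k] A) :=
    LinearMap.lTensor A (TensorProduct.comm k A A).toLinearMap
  let μ := DiagSym.mu k A
  have hDμ : ∀ y, D y = 2 • μ y - μ (σ y) := by
    intro y
    induction y using TensorProduct.induction_on with
    | zero => simp
    | tmul a b =>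
      simp only [hD, μ, σ, LinearEquiv.coe_coe, TensorProduct.comm_tmul, DiagSym.mu_tmul]
      rw [two_smul, two_nsmul]
    | add y z hy hz => rw [map_add, hy, hz]; simp only [map_add, smul_add]; abel
  -- the symmetrisation
  let Sm : A ⊗[k] (A ⊗[k] A) →ₗ[k] A ⊗[k] (A ⊗[k] A) :=
    LinearMap.id + L.toLinearMap + τ + L.toLinearMap ∘ₗ τ + τ ∘ₗ L.toLinearMap +
      τ ∘ₗ L.toLinearMap ∘ₗ τ
  let W : A → A → A → A ⊗[k] A := fun a b c =>
    (a * b) ⊗ₜ[k] c + (a * c) ⊗ₜ[k] b + (b * c) ⊗ₜ[k] a
  have hrS : ∀ a b c, r (Sm (a ⊗ₜ[k] (b ⊗ₜ[k] c))) = 2 • W a b c := by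
    intro a b c
    simp only [Sm, L, τ, LinearMap.add_apply, LinearMap.id_coe, id_eq, LinearEquiv.coe_coe,
      LinearMap.coe_comp, Function.comp_apply, TensorProduct.leftComm_tmul, LinearMap.lTensor_tmul,
      TensorProduct.comm_tmul, map_add, hr, W]
    rw [mul_comm b a, mul_comm c a, mul_comm c b]
    abel
  have hDW : ∀ a b c, D (W a b c) = 0 := by
    intro a b c
    simp only [W, map_add, hD, two_smul]
    simp only [Derivation.leibniz, smul_add, smul_smul]
    rw [mul_comm b a, mul_comm c a, mul_comm c b]
    abel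
  -- elements hit by invariants
  let V : Submodule k (A ⊗[k] A) :=
    Submodule.span k (Set.range fun t : A × A × A => W t.1 t.2.1 t.2.2)
  have hτL : ∀ x, L (Sm x) = Sm x ∧ τ (Sm x) = Sm x := by
    intro x
    induction x using TensorProduct.induction_on with
    | zero => simp
    | tmul a y =>
      induction y using TensorProduct.induction_on with
      | zero => simp
      | tmul b c =>
        simp only [Sm, L, τ, LinearMap.add_apply, LinearMap.id_coe, id_eq, LinearEquiv.coe_coe,
          LinearMap.coe_comp, Function.comp_apply, TensorProduct.leftComm_tmul,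
          LinearMap.lTensor_tmul, TensorProduct.comm_tmul, map_add]
        constructor <;> abel
      | add y z hy hz =>
        rw [TensorProduct.tmul_add, map_add, map_add, map_add, hy.1, hy.2, hz.1, hz.2]
        exact ⟨rfl, rfl⟩
    | add y z hy hz =>
      rw [map_add, map_add, map_add, hy.1, hy.2, hz.1, hz.2]
      exact ⟨rfl, rfl⟩
  have hVim : ∀ y ∈ V, ∃ x, L x = x ∧ τ x = x ∧ r x = y := by
    intro y hy
    induction hy using Submodule.span_induction with
    | mem y hy =>
      obtain ⟨⟨a, b, c⟩, rfl⟩ := hy
      refine ⟨(2⁻¹ : k) • Sm (a ⊗ₜ[k] (b ⊗ₜ[k] c)), ?_, ?_, ?_⟩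
      · rw [map_smul, (hτL _).1]
      · rw [map_smul, (hτL _).2]
      · rw [map_smul, hrS, ← Nat.cast_smul_eq_nsmul k, smul_smul]
        norm_num
    | zero => exact ⟨0, by simp⟩
    | add y z _ _ hy hz =>
      obtain ⟨x, h1, h2, h3⟩ := hy
      obtain ⟨x', h1', h2', h3'⟩ := hz
      exact ⟨x + x', by rw [map_add, h1, h1'], by rw [map_add, h2, h2'], by rw [map_add, h3, h3']⟩
    | smul s y _ hy =>
      obtain ⟨x, h1, h2, h3⟩ := hy
      exact ⟨s • x, by rw [map_smul, h1], by rw [map_smul, h2], by rw [map_smul, h3]⟩
  refine ⟨fun y => ⟨fun hy => hVim y ?_, ?_⟩, fun w => ?_⟩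
  · -- the kernel of `D` lies in `V`
    have hW : ∀ a b c, V.mkQ (W a b c) = 0 := fun a b c =>
      (Submodule.Quotient.mk_eq_zero _).2 (Submodule.subset_span ⟨(a, b, c), rfl⟩)
    let Φ₀ : A ⊗[k] A →ₗ[k] A ⊗[k] A := (2 : k) • LinearMap.id + σ
    let Φ : A ⊗[k] A →ₗ[k] (A ⊗[k] A) ⧸ V := V.mkQ ∘ₗ Φ₀
    have hΦ : ∀ z ∈ LinearMap.ker μ, Φ z = 0 := by
      intro z hz
      simp only [μ, DiagSym.ker_mu] at hz
      induction hz using Submodule.span_induction with
      | mem z hz =>
        obtain ⟨⟨a, b, c⟩, rfl⟩ := hz
        have e : (Φ₀ (DiagSym.rel k A a b c)) =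
            W a (b * c) 1 + W a (b * c) 1 - W (a * b) c 1 - W (a * c) b 1 - W a b c := by
          simp only [Φ₀, σ, DiagSym.rel, W, LinearMap.add_apply, LinearMap.smul_apply, LinearMap.id_coe,
            id_eq, LinearEquiv.coe_coe, map_sub, TensorProduct.comm_tmul, smul_sub, two_smul,
            mul_one]
          rw [mul_assoc a b c, show a * c * b = a * (b * c) by ring]
          abel
        show V.mkQ (Φ₀ (DiagSym.rel k A a b c)) = 0
        simp only [e, map_sub, map_add, hW, add_zero, sub_zero]
      | zero => simp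
      | add y z _ _ hy hz => rw [map_add, hy, hz, add_zero]
      | smul s y _ hy => rw [map_smul, hy, smul_zero]
    have hker : 2 • y - σ y ∈ LinearMap.ker μ := by
      rw [LinearMap.mem_ker, map_sub, map_nsmul, ← hDμ, hy]
    have h3 := hΦ _ hker
    have e : Φ₀ (2 • y - σ y) = (3 : k) • y := by
      have hσσ : σ (σ y) = y := (TensorProduct.comm k A A).symm_apply_apply y
      simp only [Φ₀, LinearMap.add_apply, LinearMap.smul_apply, LinearMap.id_coe, id_eq, map_sub,
        map_nsmul, hσσ, smul_sub]
      module
    rw [← Submodule.Quotient.mk_eq_zero]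
    show V.mkQ y = 0
    have h4 : V.mkQ ((3 : k) • y) = 0 := by rw [← e]; exact h3
    rw [map_smul, smul_eq_zero] at h4
    exact h4.resolve_left (by norm_num)
  · rintro ⟨x, h1, h2, rfl⟩
    have hS : ∀ x, D (r (Sm x)) = 0 := by
      intro x
      induction x using TensorProduct.induction_on with
      | zero => simp
      | tmul a z =>
        induction z using TensorProduct.induction_on with
        | zero => simp
        | tmul b c => rw [hrS, map_nsmul, hDW, smul_zero]
        | add y z hy hz =>
          rw [TensorProduct.tmul_add, map_add, map_add, map_add, hy, hz, add_zero]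
      | add y z hy hz => rw [map_add, map_add, map_add, hy, hz, add_zero]
    have h6 : Sm x = (6 : k) • x := by
      have h1' : L x = x := h1
      have h2' : τ x = x := h2
      simp only [Sm, LinearMap.add_apply, LinearMap.id_coe, id_eq, LinearEquiv.coe_coe,
        LinearMap.coe_comp, Function.comp_apply, h1', h2']
      module
    have := hS x
    rw [h6, map_smul, map_smul, smul_eq_zero] at this
    exact this.resolve_left (by norm_num)
  · obtain ⟨z, rfl⟩ := DiagSym.mu_surjective k A w
    refine ⟨(3⁻¹ : k) • (2 • z + σ z), ?_⟩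
    have hσσ : σ (σ z) = z := (TensorProduct.comm k A A).symm_apply_apply z
    rw [map_smul, hDμ, map_add, map_add, map_nsmul, map_nsmul, hσσ, map_add, map_nsmul]
    simp only [← Nat.cast_smul_eq_nsmul k]
    match_scalars
    all_goals norm_num


end Groth.Agent.S19212
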