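import Groth.Statements.S19213
import Groth.Agent.DiagSym.Basic

set_option autoImplicit false
universe u v
open TensorProduct
open DiagIdeal

namespace Groth.Agent.S19213

/-- Let k be an algebraically closed field of characteristic zero and A a smooth k-algebra which is a
domain. Let r₁₂, r₂₃ : A ⊗ (A ⊗ A) → A ⊗ A be the k-linear maps a ⊗ u ⊗ v ↦ au ⊗ v and a ⊗ u ⊗ v ↦
uv ⊗ a (restriction to the diagonal of factors 1, 2, resp. 2, 3, the repeated coordinate written
first), let m : A ⊗ A → A be multiplication, and let ψ : (A ⊗ A) × (A ⊗ A) → Ω_{A/k} be the k-linear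
map with ψ(a ⊗ u, b ⊗ v) = 2a·du − v·db. Then for p, q in A ⊗ A with m p = m q one has ψ(p, q) = 0
if and only if (p, q) = (r₁₂ x, r₂₃ x) for some x fixed by the swap of the last two tensor factors;
and every element of Ω_{A/k} is ψ(p, q) for some pair with m p = m q. (This is exactness at the last
two places of the right resolution, on the symmetric cube of X = Spec A, of the invariants of the
ideal of the big diagonal under the transposition of the last two factors; exactness at the first
two places is immediate. The published statement is the sheaf version for a smooth complex variety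
of any dimension; an algebraically closed field of characteristic zero is used here.) -/
theorem result (k : Type u) [Field k] [IsAlgClosed k] [CharZero k]
    (A : Type v) [CommRing A] [Algebra k A] [Algebra.Smooth k A] [IsDomain A]
    (r₁₂ r₂₃ : A ⊗[k] (A ⊗[k] A) →ₗ[k] A ⊗[k] A)
    (h₁₂ : ∀ a u v : A, r₁₂ (a ⊗ₜ[k] (u ⊗ₜ[k] v)) = (a * u) ⊗ₜ[k] v)
    (h₂₃ : ∀ a u v : A, r₂₃ (a ⊗ₜ[k] (u ⊗ₜ[k] v)) = (u * v) ⊗ₜ[k] a)
    (ψ : (A ⊗[k] A) × (A ⊗[k] A) →ₗ[k] Ω[A⁄k])
    (hψ : ∀ a u b v : A, ψ (a ⊗ₜ[k] u, b ⊗ₜ[k] v) =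
      (2 : A) • (a • KaehlerDifferential.D k A u) - v • KaehlerDifferential.D k A b) :
    (∀ p q : A ⊗[k] A, LinearMap.mul' k A p = LinearMap.mul' k A q →
      (ψ (p, q) = 0 ↔ ∃ x : A ⊗[k] (A ⊗[k] A),
        LinearMap.lTensor A (TensorProduct.comm k A A).toLinearMap x = x ∧ r₁₂ x = p ∧ r₂₃ x = q)) ∧
    (∀ ω : Ω[A⁄k], ∃ p q : A ⊗[k] A, LinearMap.mul' k A p = LinearMap.mul' k A q ∧ ψ (p, q) = ω) := by
  classical
  let σ : A ⊗[k] A →ₗ[k] A ⊗[k] A := (TensorProduct.comm k A A).toLinearMap
  let τ : A ⊗[k] (A ⊗[k] A) →ₗ[k] A ⊗[k] (A ⊗[k] A) :=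
    LinearMap.lTensor A (TensorProduct.comm k A A).toLinearMap
  let μ := DiagSym.mu k A
  let R := r₁₂.prod r₂₃
  have hψμ : ∀ p q, ψ (p, q) = 2 • μ p - μ (σ q) := by
    intro p
    induction p using TensorProduct.induction_on with
    | zero =>
      intro q
      induction q using TensorProduct.induction_on with
      | zero => simp [show ((0 : A ⊗[k] A), (0 : A ⊗[k] A)) = 0 from rfl]
      | tmul b v =>
        have := hψ 0 0 b v
        rw [TensorProduct.zero_tmul] at this
        simp [this, μ, σ]
      | add q q' h h' =>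
        rw [show ((0 : A ⊗[k] A), q + q') = (0, q) + (0, q') by simp, map_add, h, h']
        simp only [map_add, map_zero, smul_zero]; abel
    | tmul a u =>
      intro q
      induction q using TensorProduct.induction_on with
      | zero =>
        have := hψ a u 0 0
        rw [TensorProduct.zero_tmul] at this
        simp [this, μ, two_smul, two_nsmul]
      | tmul b v =>
        rw [hψ]
        simp only [μ, σ, LinearEquiv.coe_coe, TensorProduct.comm_tmul, DiagSym.mu_tmul]
        rw [two_smul, two_nsmul]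
      | add q q' h h' =>
        have e : (a ⊗ₜ[k] u, q + q') = (a ⊗ₜ[k] u, q) + (0, q') := by simp
        have e' : ((0 : A ⊗[k] A), q') = (a ⊗ₜ[k] u, q') - (a ⊗ₜ[k] u, 0) := by simp
        have h0 := hψ a u 0 0
        rw [TensorProduct.zero_tmul] at h0
        rw [e, map_add, h, e', map_sub, h', h0]
        simp only [map_add, μ, DiagSym.mu_tmul, two_smul, two_nsmul, zero_smul, sub_zero]
        abel
    | add p p' h h' =>
      intro q
      have e : (p + p', q) = (p, q) + (p', 0) := by simp
      rw [e, map_add, h, h']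
      simp only [map_add, map_zero, smul_add, sub_zero]; abel
  -- images of invariants
  let W : A → A → A → (A ⊗[k] A) × (A ⊗[k] A) := fun a b c =>
    ((a * b) ⊗ₜ[k] c + (a * c) ⊗ₜ[k] b, (b * c) ⊗ₜ[k] a + (b * c) ⊗ₜ[k] a)
  let V : Submodule k ((A ⊗[k] A) × (A ⊗[k] A)) :=
    Submodule.span k (Set.range fun t : A × A × A => W t.1 t.2.1 t.2.2)
  have hψW : ∀ a b c, ψ (W a b c) = 0 := by
    intro a b c
    simp only [W, hψμ, μ, σ, map_add, LinearEquiv.coe_coe, TensorProduct.comm_tmul,
      DiagSym.mu_tmul, Derivation.leibniz, smul_add, smul_smul, two_nsmul]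
    abel
  have hVim : ∀ z ∈ V, ∃ x, τ x = x ∧ r₁₂ x = z.1 ∧ r₂₃ x = z.2 := by
    intro z hz
    induction hz using Submodule.span_induction with
    | mem z hz =>
      obtain ⟨⟨a, b, c⟩, rfl⟩ := hz
      refine ⟨a ⊗ₜ[k] (b ⊗ₜ[k] c) + a ⊗ₜ[k] (c ⊗ₜ[k] b), ?_, ?_, ?_⟩
      · simp only [τ, map_add, LinearMap.lTensor_tmul, LinearEquiv.coe_coe, TensorProduct.comm_tmul]
        abel
      · simp only [map_add, h₁₂, W]
      · simp only [map_add, h₂₃, W, mul_comm c b]
    | zero => exact ⟨0, by simp⟩
    | add y z _ _ hy hz =>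
      obtain ⟨x, h1, h2, h3⟩ := hy
      obtain ⟨x', h1', h2', h3'⟩ := hz
      exact ⟨x + x', by rw [map_add, h1, h1'], by rw [map_add, h2, h2', Prod.fst_add],
        by rw [map_add, h3, h3', Prod.snd_add]⟩
    | smul s y _ hy =>
      obtain ⟨x, h1, h2, h3⟩ := hy
      exact ⟨s • x, by rw [map_smul, h1], by rw [map_smul, h2, Prod.smul_fst],
        by rw [map_smul, h3, Prod.smul_snd]⟩
  let m := LinearMap.mul' k A
  let c₀ : A ⊗[k] A →ₗ[k] A ⊗[k] A := (TensorProduct.mk k A A).flip 1 ∘ₗ m
  refine ⟨fun p q hm => ⟨fun h => ?_, ?_⟩, fun w => ?_⟩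
  · suffices hV : (p, q) ∈ V by exact hVim _ hV
    -- elements of the kernel with vanishing second entry
    have hgen : ∀ z ∈ LinearMap.ker μ, (z - c₀ z, (0 : A ⊗[k] A)) ∈ V := by
      intro z hz
      simp only [μ, DiagSym.ker_mu] at hz
      induction hz using Submodule.span_induction with
      | mem z hz =>
        obtain ⟨⟨a, b, c⟩, rfl⟩ := hz
        have e : ((DiagSym.rel k A a b c - c₀ (DiagSym.rel k A a b c), (0 : A ⊗[k] A)) :
            (A ⊗[k] A) × (A ⊗[k] A)) = W a (b * c) 1 - W a b c := by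
          simp only [c₀, m, W, DiagSym.rel, LinearMap.coe_comp, Function.comp_apply, map_sub,
            LinearMap.mul'_apply, LinearMap.flip_apply, TensorProduct.mk_apply, mul_one,
            Prod.mk_sub_mk, sub_self]
          refine Prod.ext ?_ rfl
          simp only [show a * b * c = a * (b * c) by ring, show a * c * b = a * (b * c) by ring,
            TensorProduct.sub_tmul]
          abel
        rw [e]
        exact V.sub_mem (Submodule.subset_span ⟨(a, b * c, 1), rfl⟩)
          (Submodule.subset_span ⟨(a, b, c), rfl⟩)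
      | zero => rw [map_zero, sub_zero]; exact V.zero_mem
      | add y z _ _ hy hz =>
        have e : ((y + z - c₀ (y + z), (0 : A ⊗[k] A)) : (A ⊗[k] A) × (A ⊗[k] A)) =
            (y - c₀ y, 0) + (z - c₀ z, 0) := by
          simp only [map_add, Prod.mk_add_mk, add_zero]
          refine Prod.ext ?_ rfl
          dsimp only
          abel
        rw [e]; exact V.add_mem hy hz
      | smul s y _ hy =>
        have e : ((s • y - c₀ (s • y), (0 : A ⊗[k] A)) : (A ⊗[k] A) × (A ⊗[k] A)) =
            s • (y - c₀ y, 0) := by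
          simp only [map_smul, Prod.smul_mk, smul_zero, smul_sub]
        rw [e]; exact V.smul_mem s hy
    -- a lift of the second entry
    obtain ⟨p₁, hp₁⟩ : ∃ p₁, (p₁, q) ∈ V := by
      clear h hm
      induction q using TensorProduct.induction_on with
      | zero => exact ⟨0, V.zero_mem⟩
      | tmul b v =>
        refine ⟨(2⁻¹ : k) • ((v * b) ⊗ₜ[k] (1 : A) + (v * 1) ⊗ₜ[k] b), ?_⟩
        have := V.smul_mem (2⁻¹ : k) (Submodule.subset_span ⟨(v, b, 1), rfl⟩ : W v b 1 ∈ V)
        convert this using 1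
        simp only [W, Prod.smul_mk, mul_one]
        refine Prod.ext rfl ?_
        dsimp only
        rw [← two_smul k (b ⊗ₜ[k] v), smul_smul]
        norm_num
      | add y z hy hz =>
        obtain ⟨p₁, h1⟩ := hy
        obtain ⟨p₂, h2⟩ := hz
        exact ⟨p₁ + p₂, V.add_mem h1 h2⟩
    have hψV : ∀ z ∈ V, ψ z = 0 ∧ m z.1 = m z.2 := by
      intro z hz
      induction hz using Submodule.span_induction with
      | mem z hz =>
        obtain ⟨⟨a, b, c⟩, rfl⟩ := hz
        refine ⟨hψW a b c, ?_⟩
        simp only [W, m, map_add, LinearMap.mul'_apply]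
        ring
      | zero => simp
      | add y z _ _ hy hz => simp [hy.1, hy.2, hz.1, hz.2]
      | smul s y _ hy => simp [hy.1, hy.2]
    obtain ⟨h1, h2⟩ := hψV _ hp₁
    have hd : μ (p - p₁) = 0 := by
      have h3 : (2 : k) • μ (p - p₁) = 0 := by
        rw [hψμ] at h h1
        rw [sub_eq_zero] at h h1
        rw [← Nat.cast_ofNat, Nat.cast_smul_eq_nsmul, map_sub, smul_sub, h, h1, sub_self]
      exact (smul_eq_zero.1 h3).resolve_left (by norm_num)
    have hm0 : c₀ (p - p₁) = 0 := by
      have : m (p - p₁) = 0 := by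
        rw [map_sub, sub_eq_zero]
        exact hm.trans h2.symm
      simp [c₀, this]
    have h4 := V.add_mem (hgen _ hd) hp₁
    rw [hm0, sub_zero, Prod.mk_add_mk, sub_add_cancel, zero_add] at h4
    exact h4
  · rintro ⟨x, hx, rfl, rfl⟩
    have hx' : ∀ x, ψ (r₁₂ (x + τ x), r₂₃ (x + τ x)) = 0 := by
      intro x
      induction x using TensorProduct.induction_on with
      | zero => simp [show ((0 : A ⊗[k] A), (0 : A ⊗[k] A)) = 0 from rfl]
      | tmul a z =>
        induction z using TensorProduct.induction_on with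
        | zero => simp [show ((0 : A ⊗[k] A), (0 : A ⊗[k] A)) = 0 from rfl]
        | tmul b c =>
          simp only [τ, map_add, LinearMap.lTensor_tmul, LinearEquiv.coe_coe,
            TensorProduct.comm_tmul, h₁₂, h₂₃, mul_comm c b]
          exact hψW a b c
        | add y z hy hz =>
          rw [TensorProduct.tmul_add, map_add τ, add_add_add_comm, map_add r₁₂, map_add r₂₃,
            ← Prod.mk_add_mk, map_add ψ, hy, hz, add_zero]
      | add y z hy hz =>
        rw [map_add τ, add_add_add_comm, map_add r₁₂, map_add r₂₃, ← Prod.mk_add_mk, map_add ψ, hy,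
          hz, add_zero]
    have := hx' x
    rw [show τ x = x from hx, map_add, map_add, ← Prod.mk_add_mk, map_add, ← two_smul k] at this
    exact (smul_eq_zero.1 this).resolve_left (by norm_num)
  · obtain ⟨z, rfl⟩ := DiagSym.mu_surjective k A w
    refine ⟨(2⁻¹ : k) • (z - c₀ z), 0, ?_, ?_⟩
    · simp [c₀, m]
    · rw [hψμ]
      simp only [c₀, μ, LinearMap.coe_comp, Function.comp_apply, LinearMap.flip_apply,
        TensorProduct.mk_apply, map_sub, map_smul, DiagSym.mu_tmul, Derivation.map_one_eq_zero,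
        smul_zero, sub_zero, map_zero, ← Nat.cast_smul_eq_nsmul k, smul_smul]
      norm_num


end Groth.Agent.S19213
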