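import Groth.Statements.S19214
import Groth.Agent.DiagThree.Sym
import Mathlib

set_option autoImplicit false
universe u v
open TensorProduct
open DiagIdeal

namespace Groth.Agent.S19214

/-- n = 3, affine form: let k be an algebraically closed field of characteristic zero and A a smooth
k-algebra which is a domain. In the triple tensor power of A over k, indexed by Fin 3, let I_{ij} be
the ideal generated by the elements a_i − a_j (a ∈ A put in factor i, resp. j, and 1 elsewhere), the
ideal of the diagonal of factors i and j. Then every element fixed by all permutations of the three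
factors and lying in I₁₂ ∩ I₁₃ ∩ I₂₃ lies in the product I₁₂ I₁₃ I₂₃: on the symmetric cube of Spec
A the invariants of the product of the three diagonal ideals and of their intersection coincide.
(The published statement is the sheaf version for a smooth complex variety; an algebraically closed
field of characteristic zero is used here.) -/
theorem result (k : Type u) [Field k] [IsAlgClosed k] [CharZero k]
    (A : Type v) [CommRing A] [Algebra k A] [Algebra.Smooth k A] [IsDomain A]
    (x : ⨂[k] _ : Fin 3, A)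
    (hx : ∀ σ : Equiv.Perm (Fin 3), PiTensorProduct.reindex k (fun _ : Fin 3 => A) σ x = x)
    (hmem : ∀ p : Fin 3 × Fin 3, p.1 < p.2 → x ∈ Ideal.span (Set.range fun a : A =>
        PiTensorProduct.singleAlgHom (R := k) (A := fun _ : Fin 3 => A) p.1 a -
        PiTensorProduct.singleAlgHom (R := k) (A := fun _ : Fin 3 => A) p.2 a)) :
    x ∈ ∏ p ∈ Finset.univ.filter (fun p : Fin 3 × Fin 3 => p.1 < p.2), Ideal.span (Set.range fun a : A =>
        PiTensorProduct.singleAlgHom (R := k) (A := fun _ : Fin 3 => A) p.1 a -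
        PiTensorProduct.singleAlgHom (R := k) (A := fun _ : Fin 3 => A) p.2 a) := by
  let R := ⨂[k] _ : Fin 3, A
  let S := A ⊗[k] A
  let ι : Fin 3 → A →ₐ[k] R := fun i => PiTensorProduct.singleAlgHom (R := k) (A := fun _ : Fin 3 => A) i
  let W : Fin 3 → Fin 3 → Ideal R := fun i j => Ideal.span (Set.range fun a : A => ι i a - ι j a)
  have hU : x ∈ W 0 1 := hmem (0, 1) (by simp)
  have hV : x ∈ W 1 2 := hmem (1, 2) (by simp)
  have hW : x ∈ W 0 2 := hmem (0, 2) (by simp)
  have hgoal : (∏ p ∈ Finset.univ.filter (fun p : Fin 3 × Fin 3 => p.1 < p.2),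
      W p.1 p.2) = W 0 1 * W 1 2 * W 0 2 := by
    rw [show Finset.univ.filter (fun p : Fin 3 × Fin 3 => p.1 < p.2) =
      {((0 : Fin 3), (1 : Fin 3)), (1, 2), (0, 2)} from
        Finset.ext fun ⟨a, b⟩ => by fin_cases a <;> fin_cases b <;> simp]
    rw [Finset.prod_insert (by simp), Finset.prod_insert (by simp), Finset.prod_singleton, mul_assoc]
  show x ∈ ∏ p ∈ Finset.univ.filter (fun p : Fin 3 × Fin 3 => p.1 < p.2), W p.1 p.2
  rw [hgoal]
  -- algebra maps out of the triple tensor power
  have hlift : ∀ f : Fin 3 → (A →ₐ[k] R), ∃ F : R →ₐ[k] R, ∀ i a, F (ι i a) = f i a := by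
    intro f
    let m : MultilinearMap k (fun _ : Fin 3 => A) R :=
      (MultilinearMap.mkPiAlgebra k (Fin 3) R).compLinearMap fun i => (f i).toLinearMap
    refine ⟨PiTensorProduct.liftAlgHom m (by simp [m]) (fun v w => by
      simp [m, Pi.mul_apply, Finset.prod_mul_distrib]), fun i a => ?_⟩
    show PiTensorProduct.lift m (PiTensorProduct.tprod k _) = _
    rw [PiTensorProduct.lift.tprod]
    simp only [m, MultilinearMap.compLinearMap_apply, MultilinearMap.mkPiAlgebra_apply,
      MonoidHom.mulSingle_apply, AlgHom.toLinearMap_apply]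
    rw [Finset.prod_eq_single i (fun j _ hj => by rw [Pi.mulSingle_eq_of_ne hj, map_one])
      (fun h => absurd (Finset.mem_univ i) h), Pi.mulSingle_eq_same]
  obtain ⟨θ₁, hθ₁⟩ := hlift ![ι 1, ι 1, ι 2]
  obtain ⟨θ₂, hθ₂⟩ := hlift ![ι 0, ι 1, ι 1]
  have hkill : ∀ (θ : R →ₐ[k] R) (i j : Fin 3), (∀ a, θ (ι i a) = θ (ι j a)) → ∀ y ∈ W i j, θ y = 0 := by
    intro θ i j h y hy
    refine RingHom.mem_ker.1 ((Ideal.span_le.2 ?_ : W i j ≤ RingHom.ker θ.toRingHom) hy)
    rintro _ ⟨a, rfl⟩
    show θ _ = 0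
    rw [map_sub, h, sub_self]
  have hx1 : θ₁ x = 0 := hkill θ₁ 0 1 (fun a => by rw [hθ₁, hθ₁]; rfl) x hU
  have hx2 : θ₂ x = 0 := hkill θ₂ 1 2 (fun a => by rw [hθ₂, hθ₂]; rfl) x hV
  -- the two embeddings of the double tensor power
  let s₁₂ : S →ₐ[k] R := Algebra.TensorProduct.productMap (ι 0) (ι 1)
  let s₃₂ : S →ₐ[k] R := Algebra.TensorProduct.productMap (ι 2) (ι 1)
  have hs₁₂ : ∀ a b : A, s₁₂ (a ⊗ₜ[k] b) = ι 0 a * ι 1 b := fun a b => Algebra.TensorProduct.productMap_apply_tmul _ _ a b
  have hs₃₂ : ∀ a b : A, s₃₂ (a ⊗ₜ[k] b) = ι 2 a * ι 1 b := fun a b => Algebra.TensorProduct.productMap_apply_tmul _ _ a b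
  let I : Ideal S := KaehlerDifferential.ideal k A
  have hIU : ∀ f ∈ I, s₁₂ f ∈ W 0 1 := by
    intro f hf
    refine (?_ : I ≤ (W 0 1).comap s₁₂.toRingHom) hf
    refine (KaehlerDifferential.span_range_eq_ideal k A).symm.le.trans (Ideal.span_le.2 ?_)
    rintro _ ⟨a, rfl⟩
    show s₁₂ _ ∈ W 0 1
    rw [map_sub, hs₁₂, hs₁₂, map_one, map_one, one_mul, mul_one, ← neg_sub]
    exact neg_mem (Ideal.subset_span ⟨a, rfl⟩)
  have hIV : ∀ f ∈ I, s₃₂ f ∈ W 1 2 := by
    intro f hf
    refine (?_ : I ≤ (W 1 2).comap s₃₂.toRingHom) hf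
    refine (KaehlerDifferential.span_range_eq_ideal k A).symm.le.trans (Ideal.span_le.2 ?_)
    rintro _ ⟨a, rfl⟩
    show s₃₂ _ ∈ W 1 2
    rw [map_sub, hs₃₂, hs₃₂, map_one, map_one, one_mul, mul_one]
    exact Ideal.subset_span ⟨a, rfl⟩
  have hdiff : ∀ h : S, s₁₂ h - s₃₂ h ∈ W 0 2 := by
    intro h
    induction h using TensorProduct.induction_on with
    | zero => simp
    | tmul a b =>
      rw [hs₁₂, hs₃₂, ← sub_mul]
      exact Ideal.mul_mem_right _ _ (Ideal.subset_span ⟨a, rfl⟩)
    | add y z hy hz =>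
      rw [map_add, map_add, add_sub_add_comm]
      exact add_mem hy hz
  -- the tensor
  let α : A →ₗ[k] I :=
    { toFun := fun a => ⟨a ⊗ₜ[k] 1 - 1 ⊗ₜ[k] a,
        neg_sub ((1 : A) ⊗ₜ[k] a) (a ⊗ₜ[k] 1) ▸ neg_mem (KaehlerDifferential.one_smul_sub_smul_one_mem_ideal k a)⟩
      map_add' := fun a b => Subtype.ext (by simp [TensorProduct.add_tmul, TensorProduct.tmul_add]; abel)
      map_smul' := fun c a => Subtype.ext (by
        show (c • a) ⊗ₜ[k] (1 : A) - (1 : A) ⊗ₜ[k] (c • a) = c • (a ⊗ₜ[k] (1 : A) - (1 : A) ⊗ₜ[k] a)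
        rw [smul_sub, TensorProduct.smul_tmul', TensorProduct.tmul_smul]) }
  let m₀ : MultilinearMap k (fun _ : Fin 3 => A) (I ⊗[S] I) :=
    { toFun := fun v => ((1 : A) ⊗ₜ[k] v 1 : S) • (α (v 0) ⊗ₜ[S] α (v 2))
      map_update_add' := by
        intro inst v i a b
        obtain rfl : inst = instDecidableEqFin 3 := Subsingleton.elim _ _
        fin_cases i <;> simp [TensorProduct.add_tmul, TensorProduct.tmul_add, add_smul, smul_add]
      map_update_smul' := by
        intro inst v i c a
        obtain rfl : inst = instDecidableEqFin 3 := Subsingleton.elim _ _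
        fin_cases i
        · simp only [Fin.zero_eta, Function.update_self]
          rw [Function.update_of_ne (by simp), Function.update_of_ne (by simp),
            Function.update_of_ne (by simp), Function.update_of_ne (by simp), map_smul,
            ← TensorProduct.smul_tmul', smul_comm]
        · simp only [Fin.mk_one, Function.update_self]
          rw [Function.update_of_ne (by simp), Function.update_of_ne (by simp),
            Function.update_of_ne (by simp), Function.update_of_ne (by simp),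
            TensorProduct.tmul_smul, smul_assoc]
        · simp only [Fin.reduceFinMk, Function.update_self]
          rw [Function.update_of_ne (by simp), Function.update_of_ne (by simp),
            Function.update_of_ne (by simp), Function.update_of_ne (by simp), map_smul,
            TensorProduct.tmul_smul, smul_comm] }
  let Γ : R →ₗ[k] I ⊗[S] I := PiTensorProduct.lift m₀
  have hΓ : ∀ v : Fin 3 → A, Γ (PiTensorProduct.tprod k v) =
      ((1 : A) ⊗ₜ[k] v 1 : S) • (α (v 0) ⊗ₜ[S] α (v 2)) := fun v => PiTensorProduct.lift.tprod v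
  -- the map to the quotient by the product
  let P : Ideal R := W 0 1 * W 1 2 * W 0 2
  let q : R →+* R ⧸ P := Ideal.Quotient.mk P
  letI : Algebra S (R ⧸ P) := (q.comp s₁₂.toRingHom).toAlgebra
  have hPsmul : ∀ (c : S) (z : R), c • q z = q (s₁₂ c * z) := fun c z => (map_mul q _ _).symm
  let Ψ : I ⊗[S] I →ₗ[S] R ⧸ P :=
    TensorProduct.lift (LinearMap.mk₂ S (fun f g : I => q (s₁₂ f * s₃₂ g))
      (fun f f' g => by simp [add_mul])
      (fun c f g => by
        rw [hPsmul, Submodule.coe_smul, smul_eq_mul, map_mul s₁₂, mul_assoc])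
      (fun f g g' => by simp [mul_add])
      (fun c f g => by
        rw [hPsmul, Submodule.coe_smul, smul_eq_mul, map_mul s₃₂]
        refine Ideal.Quotient.eq.2 ?_
        show s₁₂ (f : S) * (s₃₂ c * s₃₂ (g : S)) - s₁₂ c * (s₁₂ (f : S) * s₃₂ (g : S)) ∈ P
        rw [show s₁₂ (f : S) * (s₃₂ c * s₃₂ (g : S)) - s₁₂ c * (s₁₂ (f : S) * s₃₂ (g : S)) =
          -(s₁₂ (f : S) * s₃₂ (g : S) * (s₁₂ c - s₃₂ c)) by ring]
        exact neg_mem (Ideal.mul_mem_mul (Ideal.mul_mem_mul (hIU _ f.2) (hIV _ g.2)) (hdiff c))))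
  have hΨ : ∀ f g : I, Ψ (f ⊗ₜ[S] g) = q (s₁₂ f * s₃₂ g) := fun f g => by simp [Ψ]
  have hΨΓ : ∀ z : R, Ψ (Γ z) = q (z - θ₁ z - θ₂ z + θ₁ (θ₂ z)) := by
    intro z
    induction z using PiTensorProduct.induction_on with
    | smul_tprod c v =>
      have key : Ψ (Γ (PiTensorProduct.tprod k v)) = q ((PiTensorProduct.tprod k v) -
          θ₁ (PiTensorProduct.tprod k v) - θ₂ (PiTensorProduct.tprod k v) +
          θ₁ (θ₂ (PiTensorProduct.tprod k v))) := by
        have hv : (PiTensorProduct.tprod k v : R) = ι 0 (v 0) * ι 1 (v 1) * ι 2 (v 2) := by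
          show _ = PiTensorProduct.tprod k (MonoidHom.mulSingle (fun _ : Fin 3 => A) 0 (v 0)) *
            PiTensorProduct.tprod k (MonoidHom.mulSingle (fun _ : Fin 3 => A) 1 (v 1)) *
            PiTensorProduct.tprod k (MonoidHom.mulSingle (fun _ : Fin 3 => A) 2 (v 2))
          rw [PiTensorProduct.tprod_mul_tprod, PiTensorProduct.tprod_mul_tprod]
          congr 1
          funext i
          fin_cases i <;> simp [Pi.mulSingle]
        rw [hΓ, map_smul, hΨ, hPsmul]
        congr 1
        rw [hv]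
        simp only [map_mul, hθ₁, hθ₂, α, LinearMap.coe_mk, AddHom.coe_mk, map_sub, hs₁₂, hs₃₂, map_one,
          one_mul, mul_one, Matrix.cons_val_zero, Matrix.cons_val_one, Matrix.cons_val]
        ring
      have hq : ∀ (c : k) (y : R), q (c • y) = c • q y := fun c y => rfl
      have hΨk : ∀ (c : k) (t : I ⊗[S] I), Ψ (c • t) = c • Ψ t := fun c t => by
        have h1 : c • t = algebraMap k S c • t := (algebraMap_smul S c t).symm
        rw [h1, map_smul]
        obtain ⟨z, hz⟩ := Ideal.Quotient.mk_surjective (Ψ t)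
        rw [← hz, hPsmul, AlgHom.commutes, ← Algebra.smul_def, hq]
      rw [map_smul, hΨk, key, ← hq]
      congr 1
      simp only [map_smul, smul_add, smul_sub]
    | add y z hy hz =>
      rw [map_add, map_add, hy, hz, ← map_add]
      congr 1
      simp only [map_add]
      abel
  -- symmetry
  let σ := PiTensorProduct.reindex k (fun _ : Fin 3 => A) (Equiv.swap 0 2)
  have hΓσ : ∀ z : R, Γ (σ z) = TensorProduct.comm S I I (Γ z) := by
    intro z
    induction z using PiTensorProduct.induction_on with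
    | smul_tprod c v =>
      have key : Γ (σ (PiTensorProduct.tprod k v)) = TensorProduct.comm S I I (Γ (PiTensorProduct.tprod k v)) := by
        rw [PiTensorProduct.reindex_tprod, hΓ, hΓ, map_smul, TensorProduct.comm_tmul]
        simp [Equiv.swap_apply_def]
      rw [map_smul, map_smul, map_smul, key]
      rw [← algebraMap_smul S c (Γ (PiTensorProduct.tprod k v)), map_smul, algebraMap_smul]
    | add y z hy hz => rw [map_add, map_add, map_add, hy, hz, map_add]
  -- the multiplication
  let μ : I ⊗[S] I →ₗ[S] S := (LinearMap.mul' S S).comp (TensorProduct.map I.subtype I.subtype)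
  obtain ⟨ρ, hρ⟩ : ∃ ρ : R →ₐ[k] S, (∀ a, ρ (ι 0 a) = a ⊗ₜ[k] 1) ∧ (∀ a, ρ (ι 1 a) = 1 ⊗ₜ[k] a) ∧
      (∀ a, ρ (ι 2 a) = a ⊗ₜ[k] 1) := by
    let f : Fin 3 → A →ₐ[k] S := ![Algebra.TensorProduct.includeLeft, Algebra.TensorProduct.includeRight,
      Algebra.TensorProduct.includeLeft]
    let m : MultilinearMap k (fun _ : Fin 3 => A) S :=
      (MultilinearMap.mkPiAlgebra k (Fin 3) S).compLinearMap fun i => (f i).toLinearMap
    refine ⟨PiTensorProduct.liftAlgHom m (by simp [m]) (fun v w => by
      simp [m, Pi.mul_apply, Finset.prod_mul_distrib]), ?_⟩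
    have h : ∀ i a, PiTensorProduct.liftAlgHom m (by simp [m]) (fun v w => by
        simp [m, Pi.mul_apply, Finset.prod_mul_distrib]) (ι i a) = f i a := by
      intro i a
      show PiTensorProduct.lift m (PiTensorProduct.tprod k _) = _
      rw [PiTensorProduct.lift.tprod]
      simp only [m, MultilinearMap.compLinearMap_apply, MultilinearMap.mkPiAlgebra_apply,
        MonoidHom.mulSingle_apply, AlgHom.toLinearMap_apply]
      rw [Finset.prod_eq_single i (fun j _ hj => by rw [Pi.mulSingle_eq_of_ne hj, map_one])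
        (fun h => absurd (Finset.mem_univ i) h), Pi.mulSingle_eq_same]
    exact ⟨fun a => h 0 a, fun a => h 1 a, fun a => h 2 a⟩
  have hρs₁₂ : ∀ h : S, ρ (s₁₂ h) = h := fun h => by
    induction h using TensorProduct.induction_on with
    | zero => simp
    | tmul a b => rw [hs₁₂, map_mul, hρ.1, hρ.2.1, Algebra.TensorProduct.tmul_mul_tmul, one_mul, mul_one]
    | add y z hy hz => rw [map_add, map_add, hy, hz]
  have hρs₃₂ : ∀ h : S, ρ (s₃₂ h) = h := fun h => by
    induction h using TensorProduct.induction_on with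
    | zero => simp
    | tmul a b => rw [hs₃₂, map_mul, hρ.2.2, hρ.2.1, Algebra.TensorProduct.tmul_mul_tmul, one_mul, mul_one]
    | add y z hy hz => rw [map_add, map_add, hy, hz]
  have hPρ : P ≤ RingHom.ker ρ.toRingHom := by
    refine Ideal.mul_le_right.trans (Ideal.span_le.2 ?_)
    rintro _ ⟨a, rfl⟩
    show ρ _ = 0
    rw [map_sub, hρ.1, hρ.2.2, sub_self]
  let ρ' : R ⧸ P →+* S := Ideal.Quotient.lift P ρ.toRingHom hPρ
  have hμΨ : ∀ t, μ t = ρ' (Ψ t) := fun t => by
    induction t using TensorProduct.induction_on with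
    | zero => simp
    | tmul f g =>
      rw [hΨ, show ρ' (q (s₁₂ f * s₃₂ g)) = ρ (s₁₂ f * s₃₂ g) from rfl, map_mul, hρs₁₂, hρs₃₂]
      simp [μ]
    | add y z hy hz => rw [map_add, map_add, map_add, hy, hz]
  have hΨx : Ψ (Γ x) = q x := by rw [hΨΓ, hx1, hx2, map_zero, sub_zero, sub_zero, add_zero]
  have hμx : μ (Γ x) = 0 := by
    rw [hμΨ, hΨx]
    refine RingHom.mem_ker.1 ((?_ : W 0 2 ≤ RingHom.ker ρ.toRingHom) hW)
    refine Ideal.span_le.2 ?_
    rintro _ ⟨a, rfl⟩
    show ρ _ = 0
    rw [map_sub, hρ.1, hρ.2.2, sub_self]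
  haveI : Algebra.Smooth k S := Algebra.Smooth.comp k A S
  haveI : Nontrivial S := (Algebra.TensorProduct.lmul' k (S := A)).toRingHom.domain_nontrivial
  haveI : IsRegularRing S := Groth.Agent.DiagThree.isRegularRing_of_smooth_field k S
  haveI : IsRegularRing A := Groth.Agent.DiagThree.isRegularRing_of_smooth_field k A
  haveI : IsRegularRing (S ⧸ I) := IsRegularRing.of_ringEquiv (RingHom.quotientKerEquivOfSurjective
    (f := (Algebra.TensorProduct.lmul' k (S := A)).toRingHom)
    (fun a => ⟨a ⊗ₜ[k] 1, by simp⟩)).symm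
  have hsym := Groth.Agent.DiagThree.add_comm_eq_zero I
    (fun Q _ hQ => Groth.Agent.DiagThree.exists_regular_of_regular_quotient I Q hQ) (Γ x) hμx
  rw [← hΓσ, hx (Equiv.swap 0 2)] at hsym
  have hΓx : Γ x = 0 := by
    have h2 : (2 : k) • Γ x = 0 := by rw [two_smul]; exact hsym
    exact (smul_eq_zero.1 h2).resolve_left two_ne_zero
  have hzero : q x = 0 := by rw [← hΨx, hΓx, map_zero]
  exact Ideal.Quotient.eq_zero_iff_mem.1 hzero


end Groth.Agent.S19214
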