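import Groth.Statements.S19216
import Mathlib.Tactic.LinearCombination
import Mathlib.Tactic.Ring
-- import your own Groth.Agent.* helpers here

set_option autoImplicit false
universe u
open SymRep

namespace Groth.Agent.S19216

/-- Let k be a field of characteristic zero and r, s ≥ 1. Realise the standard representation of the
symmetric group on a finite set T as the hyperplane of functions T → k with sum zero, the group
acting by precomposition with the inverse. Then the standard representation of the symmetric group
of Fin r ⊕ Fin s, restricted to the subgroup S_r × S_s, is isomorphic to the direct sum of the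
standard representations of S_r and of S_s and of a one-dimensional trivial representation: there is
a k-linear map E from functions on Fin r ⊕ Fin s to triples (function on Fin r, function on Fin s,
scalar), compatible with the actions of S_r × S_s (trivial on the scalar), which maps the sum-zero
hyperplane bijectively onto the product of the two sum-zero hyperplanes and k. (The published
statement is over the complex numbers; a field of characteristic zero is used here. The published
statement also gives the analogous decomposition for any number of blocks, which follows by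
induction; only the two-block case is stated here.) -/
theorem result (k : Type u) [Field k] [CharZero k]
    (r s : ℕ) (hr : 1 ≤ r) (hs : 1 ≤ s) :
    ∃ E : (Fin r ⊕ Fin s → k) →ₗ[k] (Fin r → k) × (Fin s → k) × k,
      (∀ (σ : Equiv.Perm (Fin r)) (τ : Equiv.Perm (Fin s)) (f : Fin r ⊕ Fin s → k),
        E (f ∘ ⇑(Equiv.sumCongr σ τ).symm) = ((E f).1 ∘ ⇑σ.symm, (E f).2.1 ∘ ⇑τ.symm, (E f).2.2)) ∧
      Set.BijOn E {f | ∑ i, f i = 0}
        ({g : Fin r → k | ∑ i, g i = 0} ×ˢ ({h : Fin s → k | ∑ i, h i = 0} ×ˢ Set.univ)) := by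
  classical
  have hr0 : (r : k) ≠ 0 := by exact_mod_cast (by omega : r ≠ 0)
  have hs0 : (s : k) ≠ 0 := by exact_mod_cast (by omega : s ≠ 0)
  let E : (Fin r ⊕ Fin s → k) →ₗ[k] (Fin r → k) × (Fin s → k) × k :=
    { toFun := fun f => (fun i => f (Sum.inl i) - (r : k)⁻¹ * ∑ a, f (Sum.inl a),
        fun j => f (Sum.inr j) - (s : k)⁻¹ * ∑ b, f (Sum.inr b), ∑ a, f (Sum.inl a))
      map_add' := fun f g => by
        simp only [Pi.add_apply, Finset.sum_add_distrib, Prod.mk_add_mk]
        refine Prod.ext (funext fun i => ?_) (Prod.ext (funext fun j => ?_) rfl) <;> simp only [Pi.add_apply] <;> ring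
      map_smul' := fun c f => by
        simp only [Pi.smul_apply, smul_eq_mul, ← Finset.mul_sum, RingHom.id_apply, Prod.smul_mk]
        refine Prod.ext (funext fun i => ?_) (Prod.ext (funext fun j => ?_) rfl) <;> simp only [Pi.smul_apply, smul_eq_mul] <;> ring }
  refine ⟨E, fun σ τ f => ?_, fun f hf => ?_, fun f hf f' hf' h => ?_, fun z hz => ?_⟩
  · have e1 : ∑ a, f (Sum.inl (σ.symm a)) = ∑ a, f (Sum.inl a) := Equiv.sum_comp σ.symm (fun a => f (Sum.inl a))
    have e2 : ∑ a, f (Sum.inr (τ.symm a)) = ∑ a, f (Sum.inr a) := Equiv.sum_comp τ.symm (fun a => f (Sum.inr a))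
    refine Prod.ext (funext fun i => ?_) (Prod.ext (funext fun j => ?_) ?_) <;> simp [E, e1, e2]
  · refine Set.mk_mem_prod ?_ (Set.mk_mem_prod ?_ trivial)
    · show ∑ i, (f (Sum.inl i) - (r : k)⁻¹ * ∑ a, f (Sum.inl a)) = 0
      rw [Finset.sum_sub_distrib, Finset.sum_const, Finset.card_univ, Fintype.card_fin, nsmul_eq_mul, mul_inv_cancel_left₀ hr0, sub_self]
    · show ∑ i, (f (Sum.inr i) - (s : k)⁻¹ * ∑ a, f (Sum.inr a)) = 0
      rw [Finset.sum_sub_distrib, Finset.sum_const, Finset.card_univ, Fintype.card_fin, nsmul_eq_mul, mul_inv_cancel_left₀ hs0, sub_self]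
  · simp only [E, LinearMap.coe_mk, AddHom.coe_mk, Prod.mk.injEq] at h
    obtain ⟨h1, h2, h3⟩ := h
    have hf0 : ∑ i, f i = 0 := hf
    have hf0' : ∑ i, f' i = 0 := hf'
    rw [Fintype.sum_sum_type] at hf0 hf0'
    have h4 : ∑ b, f (Sum.inr b) = ∑ b, f' (Sum.inr b) := by linear_combination hf0 - hf0' - h3
    funext x
    rcases x with i | j
    · have := congrFun h1 i
      rw [h3] at this
      exact sub_left_injective this
    · have := congrFun h2 j
      rw [h4] at this
      exact sub_left_injective this
  · obtain ⟨g, h, t⟩ := z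
    obtain ⟨hg, hh, -⟩ := hz
    have hg0 : ∑ i, g i = 0 := hg
    have hh0 : ∑ i, h i = 0 := hh
    have e1 : ∑ i, (g i + (r : k)⁻¹ * t) = t := by
      rw [Finset.sum_add_distrib, hg0, zero_add, Finset.sum_const, Finset.card_univ, Fintype.card_fin, nsmul_eq_mul, mul_inv_cancel_left₀ hr0]
    have e2 : ∑ i, (h i - (s : k)⁻¹ * t) = -t := by
      rw [Finset.sum_sub_distrib, hh0, zero_sub, Finset.sum_const, Finset.card_univ, Fintype.card_fin, nsmul_eq_mul, mul_inv_cancel_left₀ hs0]
    refine ⟨Sum.elim (fun i => g i + (r : k)⁻¹ * t) (fun j => h j - (s : k)⁻¹ * t), ?_, ?_⟩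
    · show ∑ x, _ = 0
      rw [Fintype.sum_sum_type]
      simp only [Sum.elim_inl, Sum.elim_inr, e1, e2, add_neg_cancel]
    · refine Prod.ext (funext fun i => ?_) (Prod.ext (funext fun j => ?_) ?_) <;> simp [E, e1, e2]

end Groth.Agent.S19216
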