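import Groth.Statements.S19218
import Mathlib

set_option autoImplicit false
universe u v
open TensorProduct
open DiagIdeal

namespace Groth.Agent.S19218
open TensorProduct in
theorem swap_mem {k A : Type*} [CommRing k] [CommRing A] [Algebra k A] {n : ℕ} (J : Ideal (⨂[k] _ : Fin n, A))
    (p : Fin n × Fin n) (hJ : J = Ideal.span (Set.range fun a : A =>
        PiTensorProduct.singleAlgHom (R := k) (A := fun _ : Fin n => A) p.1 a -
        PiTensorProduct.singleAlgHom (R := k) (A := fun _ : Fin n => A) p.2 a)) :
    ∀ (s : ℕ) (x : ⨂[k] _ : Fin n, A), x ∈ J ^ s →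
      PiTensorProduct.reindex k (fun _ : Fin n => A) (Equiv.swap p.1 p.2) x - (-1) ^ s * x ∈ J ^ (s + 1) := by
  classical
  obtain ⟨i, j⟩ := p
  simp only at hJ ⊢
  set σ := Equiv.swap i j with hσ
  let ι := fun l : Fin n => PiTensorProduct.singleAlgHom (R := k) (A := fun _ : Fin n => A) l
  let τ := PiTensorProduct.reindex k (fun _ : Fin n => A) σ
  have hmul : ∀ x y, τ (x * y) = τ x * τ y := by
    intro x y
    induction x using PiTensorProduct.induction_on with
    | smul_tprod c v =>
      induction y using PiTensorProduct.induction_on with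
      | smul_tprod d w =>
        simp only [smul_mul_smul_comm, map_smul, PiTensorProduct.tprod_mul_tprod, τ, PiTensorProduct.reindex_tprod]
        rfl
      | add y z hy hz => simp only [mul_add, map_add, hy, hz]
    | add x z hx hz => simp only [add_mul, map_add, hx, hz]
  have hone : τ 1 = 1 := by
    show τ (PiTensorProduct.tprod k fun _ => (1 : A)) = _
    rw [PiTensorProduct.reindex_tprod]; rfl
  let T : (⨂[k] _ : Fin n, A) →ₐ[k] (⨂[k] _ : Fin n, A) := AlgHom.ofLinearMap τ.toLinearMap hone hmul
  have hT : ∀ l a, T (ι l a) = ι (σ l) a := by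
    intro l a
    show τ _ = _
    simp only [ι, PiTensorProduct.singleAlgHom_apply, τ, PiTensorProduct.reindex_tprod]
    congr 1
    funext q
    simp only [MonoidHom.mulSingle_apply, Pi.mulSingle, Function.update_apply, Pi.one_apply]
    by_cases h : q = σ l
    · subst h; simp
    · rw [if_neg (fun e => h (by rw [← e, Equiv.apply_symm_apply])), if_neg h]
  have hid : ∀ x, T x - x ∈ J := by
    intro x
    let Q := Ideal.Quotient.mkₐ k J
    suffices h : Q.comp T = Q by
      exact Ideal.Quotient.eq.1 (AlgHom.congr_fun h x)
    refine PiTensorProduct.algHom_ext fun l => AlgHom.ext fun a => ?_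
    show Q (T (ι l a)) = Q (ι l a)
    rw [hT]
    refine Ideal.Quotient.eq.2 ?_
    rw [hJ, hσ, Equiv.swap_apply_def]
    have hg : ι i a - ι j a ∈ Ideal.span (Set.range fun a : A => ι i a - ι j a) := Ideal.subset_span ⟨a, rfl⟩
    split_ifs with h1 h2
    · subst h1; rw [← neg_sub]; exact neg_mem hg
    · subst h2; exact hg
    · rw [sub_self]; exact zero_mem _
  intro s
  induction s with
  | zero => intro x _; simp; exact hid x
  | succ s ih =>
    intro x hx
    rw [pow_succ'] at hx
    show T x - _ ∈ _
    refine Submodule.mul_induction_on hx (fun u hu v hv => ?_) (fun y z hy hz => ?_)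
    · have hu' : T u + u ∈ J ^ 2 := by
        rw [hJ] at hu
        induction hu using Submodule.span_induction with
        | mem y hy =>
          obtain ⟨a, rfl⟩ := hy
          rw [map_sub, hT, hT, hσ, Equiv.swap_apply_left, Equiv.swap_apply_right]
          simp [ι]
        | zero => simp
        | add y z _ _ hy hz => rw [map_add, add_add_add_comm]; exact add_mem hy hz
        | smul c y hy ih' =>
          rw [smul_eq_mul, map_mul]
          have hyJ : y ∈ J := by rw [hJ]; exact hy
          rw [show T c * T y + c * y = T c * (T y + y) - (T c - c) * y by ring]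
          exact sub_mem (Ideal.mul_mem_left _ _ ih') (by rw [sq]; exact Ideal.mul_mem_mul (hid c) hyJ)
      have hu1 : u ∈ J := hu
      have hTv : T v ∈ J ^ s := by
        have h3 : T v - (-1) ^ s * v ∈ J ^ s := Ideal.pow_le_pow_right (Nat.le_succ s) (ih v hv)
        have h4 := add_mem h3 (Ideal.mul_mem_left _ ((-1) ^ s) hv)
        rwa [sub_add_cancel] at h4
      rw [map_mul, show T u * T v - (-1) ^ (s + 1) * (u * v) = (T u + u) * T v - u * (T v - (-1) ^ s * v) by ring,
        show s + 1 + 1 = 2 + s by omega]
      refine sub_mem (by rw [pow_add]; exact Ideal.mul_mem_mul hu' hTv) ?_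
      rw [show 2 + s = 1 + (s + 1) by omega, pow_add, pow_one]
      exact Ideal.mul_mem_mul hu1 (ih v hv)
    · rw [map_add, show T y + T z - (-1) ^ (s + 1) * (y + z) =
        (T y - (-1) ^ (s + 1) * y) + (T z - (-1) ^ (s + 1) * z) by ring]
      exact add_mem hy hz


/-- Let k be an algebraically closed field of characteristic zero and A a smooth k-algebra which is a
domain of Krull dimension 2. In the n-fold tensor power R of A over k, indexed by Fin n, let I_p (p
= (i, j), i < j) be the ideal generated by the a_i − a_j, a ∈ A, and let I be the intersection of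
the I_p, the ideal of the big diagonal. Assume that for every s ≥ 0 the power I ^ s is the
intersection of the powers I_p ^ s (a property of the big diagonal of a smooth surface that the
source takes from the literature). Then for m ≥ 1 every element of R fixed by all permutations of
the n factors and lying in I ^ (2m − 1) lies in I ^ (2m): on the symmetric product the invariants of
the odd power and of the next even power of the ideal of the big diagonal coincide. (The source
states the sheaf version for a smooth quasi-projective complex surface, using the displayed property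
of the powers without restating it as a hypothesis.) -/
theorem result (k : Type u) [Field k] [IsAlgClosed k] [CharZero k]
    (A : Type v) [CommRing A] [Algebra k A] [Algebra.Smooth k A] [IsDomain A]
    (hdim : ringKrullDim A = 2) (n : ℕ)
    (I : Fin n × Fin n → Ideal (⨂[k] _ : Fin n, A))
    (hI : ∀ p, I p = Ideal.span (Set.range fun a : A =>
        PiTensorProduct.singleAlgHom (R := k) (A := fun _ : Fin n => A) p.1 a -
        PiTensorProduct.singleAlgHom (R := k) (A := fun _ : Fin n => A) p.2 a))
    (IΔ : Ideal (⨂[k] _ : Fin n, A))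
    (hIΔ : IΔ = ⨅ p ∈ Finset.univ.filter (fun p : Fin n × Fin n => p.1 < p.2), I p)
    (hpow : ∀ s : ℕ, IΔ ^ s = ⨅ p ∈ Finset.univ.filter (fun p : Fin n × Fin n => p.1 < p.2), (I p) ^ s)
    (m : ℕ) (hm : 1 ≤ m) (x : ⨂[k] _ : Fin n, A)
    (hx : ∀ σ : Equiv.Perm (Fin n), PiTensorProduct.reindex k (fun _ : Fin n => A) σ x = x)
    (hmem : x ∈ IΔ ^ (2 * m - 1)) :
    x ∈ IΔ ^ (2 * m) := by
  classical
  rw [hpow (2 * m)]
  rw [hpow (2 * m - 1)] at hmem
  simp only [Submodule.mem_iInf] at hmem ⊢
  intro p hp
  have h := swap_mem (I p) p (hI p) (2 * m - 1) x (hmem p hp)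
  rw [hx, show 2 * m - 1 + 1 = 2 * m by omega, Odd.neg_one_pow ⟨m - 1, by omega⟩, neg_one_mul, sub_neg_eq_add] at h
  have h2 := Submodule.smul_of_tower_mem (I p ^ (2 * m)) ((2 : k)⁻¹) h
  rwa [← two_smul k x, smul_smul, inv_mul_cancel₀ two_ne_zero, one_smul] at h2


end Groth.Agent.S19218
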