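import Groth.Statements.S19221
-- import your own Groth.Agent.* helpers here
import Mathlib.LinearAlgebra.ExteriorAlgebra.OfAlternating
import Mathlib.LinearAlgebra.Matrix.Determinant.Basic

set_option autoImplicit false
universe u
open SymRep

namespace Groth.Agent.S19221

/-- The integral model of a cycle vector at an oriented edge. -/
def zc (i j l a b : Fin 4) : ℤ :=
  (if a = i ∧ b = j then 1 else 0) + (if a = j ∧ b = l then 1 else 0) + (if a = l ∧ b = i then 1 else 0)
    - (if a = j ∧ b = i then 1 else 0) - (if a = l ∧ b = j then 1 else 0) - (if a = i ∧ b = l then 1 else 0)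

/-- The chosen minor of a cycle vector pair. -/
def minor (σ : Equiv.Perm (Fin 4)) : ℤ :=
  zc (σ 0) (σ 1) (σ 2) 0 1 * zc (σ 0) (σ 2) (σ 3) 0 2 - zc (σ 0) (σ 1) (σ 2) 0 2 * zc (σ 0) (σ 2) (σ 3) 0 1

theorem sum_minor_sq_ne : (∑ σ : Equiv.Perm (Fin 4), minor σ ^ 2) ≠ 0 := by decide +kernel

/-- Pairs of factors commute in an exterior algebra. -/
theorem pair_comm {k : Type u} [CommRing k] {M : Type u} [AddCommGroup M] [Module k M] (a b c d : M) :
    ExteriorAlgebra.ι k c * ExteriorAlgebra.ι k d * ExteriorAlgebra.ι k a * ExteriorAlgebra.ι k b =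
      ExteriorAlgebra.ι k a * ExteriorAlgebra.ι k b * ExteriorAlgebra.ι k c * ExteriorAlgebra.ι k d := by
  have h : ∀ x y : M, ExteriorAlgebra.ι k x * ExteriorAlgebra.ι k y = -(ExteriorAlgebra.ι k y * ExteriorAlgebra.ι k x) :=
    fun x y => eq_neg_of_add_eq_zero_left (ExteriorAlgebra.ι_add_mul_swap x y)
  have h3 : ∀ x y w : M, ExteriorAlgebra.ι k x * ExteriorAlgebra.ι k y * ExteriorAlgebra.ι k w =
      ExteriorAlgebra.ι k w * (ExteriorAlgebra.ι k x * ExteriorAlgebra.ι k y) := fun x y w => by
    rw [mul_assoc, h y w, mul_neg, ← mul_assoc, h x w, neg_mul, neg_neg, mul_assoc]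
  rw [h3 c d a, mul_assoc, h3 c d b]
  simp only [mul_assoc]

/-- Let k be a field of characteristic zero and F the k-space of functions Fin 2 → Fin 4 → Fin 4 → k,
with the symmetric group of Fin 4 acting through P σ f c a b = f c (σ⁻¹ a) (σ⁻¹ b). The signed edge
vectors of the complete graph on four vertices live in F as the functions antisymmetric in the two
vertex arguments, and for a colour c and an oriented 3-cycle i → j → l → i the cycle vector z c i j
l is the function equal, in colour c, to +1 at (i,j), (j,l), (l,i), to −1 at (j,i), (l,j), (i,l) and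
to 0 elsewhere (and 0 in the other colour); these cycle vectors span k² ⊗ (cycle space), the
representation written C² ⊗ q in the published text. Let Γ be the graph with edges 01, 02, 03, 12,
23 (a 4-cycle with one chord), whose cycle space is spanned by the cycles (0,1,2) and (0,2,3), and
let ω be the product in the exterior algebra of F of the four vectors z 0 0 1 2, z 1 0 1 2, z 0 0 2
3, z 1 0 2 3 (a generator of the top exterior power of k² ⊗ q_Γ). Then ω is fixed by the stabiliser
of Γ in the symmetric group (generated by the transpositions (0 2) and (1 3)), and the sum over all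
24 permutations σ of the images of ω under the maps induced by P σ is nonzero: the projection of ω
to the invariants of the fourth exterior power of k² ⊗ q_{K₄} does not vanish. (The published
statement is over the complex numbers; a field of characteristic zero is used here. The published
statement also asserts that this map is an isomorphism onto the one-dimensional space of
S₄-invariants of the fourth exterior power of k² ⊗ q_{K₄}; only its non-vanishing is stated here.) -/
theorem result (k : Type u) [Field k] [CharZero k]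
    (P : Equiv.Perm (Fin 4) → ((Fin 2 → Fin 4 → Fin 4 → k) →ₗ[k] (Fin 2 → Fin 4 → Fin 4 → k)))
    (hP : ∀ (σ : Equiv.Perm (Fin 4)) (f : Fin 2 → Fin 4 → Fin 4 → k) (c : Fin 2) (a b : Fin 4),
      P σ f c a b = f c (σ.symm a) (σ.symm b))
    (z : Fin 2 → Fin 4 → Fin 4 → Fin 4 → (Fin 2 → Fin 4 → Fin 4 → k))
    (hz : ∀ (c : Fin 2) (i j l : Fin 4) (c' : Fin 2) (a b : Fin 4), z c i j l c' a b =
      if c' = c then
        ((if a = i ∧ b = j then 1 else 0) + (if a = j ∧ b = l then 1 else 0) + (if a = l ∧ b = i then 1 else 0)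
          - (if a = j ∧ b = i then 1 else 0) - (if a = l ∧ b = j then 1 else 0) - (if a = i ∧ b = l then 1 else 0))
      else 0)
    (ω : ExteriorAlgebra k (Fin 2 → Fin 4 → Fin 4 → k))
    (hω : ω = ExteriorAlgebra.ι k (z 0 0 1 2) * ExteriorAlgebra.ι k (z 1 0 1 2) *
      ExteriorAlgebra.ι k (z 0 0 2 3) * ExteriorAlgebra.ι k (z 1 0 2 3)) :
    ExteriorAlgebra.map (P (Equiv.swap 0 2)) ω = ω ∧
    ExteriorAlgebra.map (P (Equiv.swap 1 3)) ω = ω ∧
    (∑ σ : Equiv.Perm (Fin 4), ExteriorAlgebra.map (P σ) ω) ≠ 0 := by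
  have hz' : ∀ c i j l c' a b, z c i j l c' a b = if c' = c then ((zc i j l a b : ℤ) : k) else 0 := by
    intro c i j l c' a b
    rw [hz]
    simp [zc]
  have hPz : ∀ σ c i j l, P σ (z c i j l) = z c (σ i) (σ j) (σ l) := by
    intro σ c i j l
    funext c' a b
    simp only [hP, hz, Equiv.symm_apply_eq]
  have hneg : ∀ c i j l, z c l j i = -z c i j l := by
    intro c i j l
    funext c' a b
    simp only [hz, Pi.neg_apply]
    by_cases hc : c' = c <;> simp only [hc, if_true, if_false, neg_zero] <;> ring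
  have hcyc : ∀ c i j l, z c i j l = z c j l i := by
    intro c i j l
    funext c' a b
    simp only [hz]
    by_cases hc : c' = c <;> simp only [hc, if_true, if_false, neg_zero] <;> ring
  refine ⟨?_, ?_, ?_⟩
  · have h₁ : ∀ c, z c (Equiv.swap (0 : Fin 4) 2 0) (Equiv.swap (0 : Fin 4) 2 1) (Equiv.swap (0 : Fin 4) 2 2) = -z c 0 1 2 :=
      fun c => (show z c 2 1 0 = _ from hneg c 0 1 2)
    have h₂ : ∀ c, z c (Equiv.swap (0 : Fin 4) 2 0) (Equiv.swap (0 : Fin 4) 2 2) (Equiv.swap (0 : Fin 4) 2 3) = -z c 0 2 3 :=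
      fun c => (show z c 2 0 3 = _ from (hneg c 3 0 2).trans (congrArg Neg.neg (hcyc c 3 0 2)))
    simp only [hω, map_mul, ExteriorAlgebra.map_apply_ι, hPz, h₁, h₂, map_neg, neg_mul, mul_neg, neg_neg]
  · have h₁ : ∀ c, z c (Equiv.swap (1 : Fin 4) 3 0) (Equiv.swap (1 : Fin 4) 3 1) (Equiv.swap (1 : Fin 4) 3 2) = -z c 0 2 3 :=
      fun c => (show z c 0 3 2 = _ from (hneg c 2 3 0).trans (congrArg Neg.neg (hcyc c 0 2 3).symm))
    have h₂ : ∀ c, z c (Equiv.swap (1 : Fin 4) 3 0) (Equiv.swap (1 : Fin 4) 3 2) (Equiv.swap (1 : Fin 4) 3 3) = -z c 0 1 2 :=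
      fun c => (show z c 0 2 1 = _ from (hneg c 1 2 0).trans (congrArg Neg.neg (hcyc c 0 1 2).symm))
    simp only [hω, map_mul, ExteriorAlgebra.map_apply_ι, hPz, h₁, h₂, map_neg, neg_mul, mul_neg, neg_neg]
    exact pair_comm _ _ _ _
  · classical
    intro h
    let co : (Fin 2 → Fin 4 → Fin 4 → k) →ₗ[k] (Fin 4 → k) :=
      { toFun := fun f => ![f 0 0 1, f 0 0 2, f 1 0 1, f 1 0 2]
        map_add' := fun f g => by ext i; fin_cases i <;> rfl
        map_smul' := fun r f => by ext i; fin_cases i <;> rfl }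
    let Φ : (Fin 2 → Fin 4 → Fin 4 → k) [⋀^Fin 4]→ₗ[k] k := Matrix.detRowAlternating.compLinearMap co
    let L := ExteriorAlgebra.liftAlternating (R := k) (Function.update 0 4 Φ)
    have hL : ∀ v : Fin 4 → (Fin 2 → Fin 4 → Fin 4 → k),
        L (ExteriorAlgebra.ι k (v 0) * ExteriorAlgebra.ι k (v 1) * ExteriorAlgebra.ι k (v 2) * ExteriorAlgebra.ι k (v 3)) =
          Matrix.det (fun i => co (v i)) := fun v => by
      have e : ExteriorAlgebra.ιMulti k 4 v =
          ExteriorAlgebra.ι k (v 0) * ExteriorAlgebra.ι k (v 1) * ExteriorAlgebra.ι k (v 2) * ExteriorAlgebra.ι k (v 3) := by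
        simp [ExteriorAlgebra.ιMulti_apply, List.ofFn_succ, mul_assoc]
        rfl
      rw [← e, ExteriorAlgebra.liftAlternating_apply_ιMulti, Function.update_self]
      rfl
    have hval : ∀ σ, L (ExteriorAlgebra.map (P σ) ω) = -((minor σ : ℤ) : k) ^ 2 := fun σ => by
      simp only [hω, map_mul, ExteriorAlgebra.map_apply_ι, hPz]
      refine (hL ![z 0 (σ 0) (σ 1) (σ 2), z 1 (σ 0) (σ 1) (σ 2), z 0 (σ 0) (σ 2) (σ 3), z 1 (σ 0) (σ 2) (σ 3)]).trans ?_
      simp only [co, LinearMap.coe_mk, AddHom.coe_mk]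
      rw [Matrix.det_succ_row_zero]
      simp only [Fin.sum_univ_succ, Matrix.det_fin_three, minor]
      simp [hz', show Fin.succAbove (1 : Fin 4) (2 : Fin 3) = 3 from rfl]
      ring
    have h0 := congrArg L h
    rw [map_sum, map_zero] at h0
    simp only [hval, Finset.sum_neg_distrib, neg_eq_zero] at h0
    exact sum_minor_sq_ne (by exact_mod_cast h0)

end Groth.Agent.S19221
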