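import Groth.Statements.S19222
import Groth.Agent.EtFound.Henselian
import Groth.Agent.EtFound.PushExact
import Groth.Prelude.Def_EtCore
import Mathlib.Algebra.Homology.DerivedCategory.Ext.EnoughProjectives
-- import your own Groth.Agent.* helpers here

set_option autoImplicit false
universe u
open CategoryTheory AlgebraicGeometry
open EtBase

namespace Groth.Agent.S19222

/-- Let R be a strictly henselian local ring (henselian, with separably closed residue field), let X be
a scheme finite over Spec R and let F be an abelian étale sheaf on X. Then H^j(X_et, F) = 0 for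
every j ≥ 1. (The source states this vanishing for the schemes X ×_R Y ×_R ⋯ ×_R Y with Y a further
finite R-scheme; these are again finite over R, so the present form is the whole content.) -/
theorem result (R : Type u) [CommRing R] [HenselianLocalRing R]
    [IsSepClosed (IsLocalRing.ResidueField R)] (X : Scheme.{u}) (f : X ⟶ Spec (CommRingCat.of R)) [IsFinite f]
    (F : EtCoh.Ab X) (j : ℕ) (hj : 1 ≤ j) : Subsingleton (EtCoh.H X F j) := by
  have hP : Projective ((constantSheaf X.smallEtaleTopology AddCommGrpCat.{u + 1}).obj
      (AddCommGrpCat.of (ULift.{u + 1} ℤ))) := by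
    refine ⟨fun {E G} φ e _ => ?_⟩
    let adj := constantSheafAdj X.smallEtaleTopology AddCommGrpCat.{u + 1} (Groth.Agent.EtFound.topIsTerminal X)
    haveI := Groth.Agent.EtFound.push_preservesEpimorphisms f
    haveI : Epi ((EtCoh.push f).map e) := inferInstance
    let ι := EtCore.bcTopIso f
    obtain ⟨a, ha⟩ := Groth.Agent.EtFound.sect_top_surjective_of_epi R ((EtCoh.push f).map e)
      ((G.obj.map ι.hom.op).hom (adj.homEquiv _ _ φ ⟨1⟩))
    refine ⟨(adj.homEquiv _ _).symm ((AddCommGrpCat.uliftZMultiplesAddEquiv _).symm
      ((E.obj.map ι.inv.op).hom a)), ?_⟩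
    apply (adj.homEquiv _ _).injective
    rw [Adjunction.homEquiv_naturality_right, Equiv.apply_symm_apply]
    apply (AddCommGrpCat.uliftZMultiplesAddEquiv _).injective
    refine (congrArg (e.hom.app (Opposite.op (EtCoh.top X))).hom
      ((AddCommGrpCat.uliftZMultiplesAddEquiv _).apply_symm_apply ((E.obj.map ι.inv.op).hom a))).trans ?_
    refine (NatTrans.naturality_apply e.hom ι.inv.op a).trans ?_
    refine (congrArg (G.obj.map ι.inv.op).hom ha).trans ?_
    refine (ConcreteCategory.congr_hom (G.obj.map_comp ι.hom.op ι.inv.op) _).symm.trans ?_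
    rw [← op_comp, ι.inv_hom_id, op_id, CategoryTheory.Functor.map_id]
    rfl
  obtain ⟨n, rfl⟩ : ∃ n, j = n + 1 := ⟨j - 1, by omega⟩
  exact Abelian.Ext.subsingleton_of_projective _ F n

end Groth.Agent.S19222
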