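import Groth.Statements.S19223
import Groth.Agent.S7725
import Mathlib
-- import your own Groth.Agent.* helpers here

set_option autoImplicit false
set_option backward.isDefEq.respectTransparency false
set_option backward.isDefEq.respectTransparency.types false
set_option linter.style.haveILetI false
attribute [local instance] Units.mulDistribMulActionRight
open GalCoh

namespace Groth.Agent.S19223

open CategoryTheory in
theorem exact_of_forall (k G : Type) [CommRing k] [Group G] (S : ShortComplex (Rep.{0} k G))
    (h : ∀ x : S.X₂, S.g.hom x = 0 → ∃ y : S.X₁, S.f.hom y = x) : S.Exact := by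
  rw [← ShortComplex.exact_map_iff_of_faithful S (forget₂ (Rep.{0} k G) (ModuleCat.{0} k)),
    ShortComplex.moduleCat_exact_iff]
  exact h

/-- For a strictly henselian local ring R whose residue field k has characteristic p ≥ 0, and a finite
group G of order prime to p acting on R by ring automorphisms (hence on the unit groups R^× and
k^×), consider the homomorphism H^n(G, R^×) → H^n(G, k^×) induced by the reduction map. It is
bijective for every n ≥ 2; it is also bijective for n = 1 provided that p = 0 or the only p-power
root of unity in R is 1. (The reduction map on cohomology is pinned by its values on units; groups,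
rings and modules are taken in the lowest universe, as integral coefficients in the group-cohomology
library require.) -/
theorem result (R : Type) [CommRing R]
    [HenselianLocalRing R] [IsSepClosed (IsLocalRing.ResidueField R)] (p : ℕ) [CharP (IsLocalRing.ResidueField R) p]
    (G : Type) [Group G] [Finite G] [MulSemiringAction G R] (hp : ¬ p ∣ Nat.card G)
    (φ : Rep.ofMulDistribMulAction G Rˣ ⟶ Rep.ofMulDistribMulAction G (IsLocalRing.ResidueField R)ˣ)
    (hφ : ∀ x : Rˣ, Additive.toMul (φ.hom (Additive.ofMul x)) = Units.map (IsLocalRing.residue R).toMonoidHom x)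
    (n : ℕ) (hn : 1 ≤ n) (h1 : n = 1 → p ≠ 0 → ∀ (ζ : Rˣ) (m : ℕ), ζ ^ p ^ m = 1 → ζ = 1) :
    Function.Bijective ((groupCohomology.functor ℤ G n).map φ).hom := by
  classical
  let N := Nat.card G
  have hNm : (N : R) ∉ IsLocalRing.maximalIdeal R := fun h => hp ((CharP.cast_eq_zero_iff
    (IsLocalRing.ResidueField R) p N).1 (by
      rw [← map_natCast (IsLocalRing.residue R)]; exact (IsLocalRing.residue_eq_zero_iff _).2 h))
  have hNu : IsUnit (N : R) := IsLocalRing.notMem_maximalIdeal.1 hNm
  have hN0 : 0 < N := Nat.card_pos
  let A := Rep.ofMulDistribMulAction G Rˣ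
  let W : Submodule ℤ A := LinearMap.ker φ.hom.toLinearMap
  have hW : ∀ g, W ≤ W.comap (A.ρ g) := fun g x hx => by
    simp only [Submodule.mem_comap, W, LinearMap.mem_ker] at hx ⊢
    show φ.hom.toLinearMap (A.ρ g x) = 0
    exact (Rep.hom_comm_apply φ g x).trans (by rw [show φ.hom x = 0 from hx, map_zero])
  let S : CategoryTheory.ShortComplex (Rep ℤ G) := CategoryTheory.ShortComplex.mk (Rep.subtype A W hW) φ
    (by ext ⟨x, hx⟩; exact hx)
  have hsurj : Function.Surjective φ.hom := fun y => by
    obtain ⟨a, ha⟩ := IsLocalRing.residue_surjective ((Additive.toMul y : (IsLocalRing.ResidueField R)ˣ) :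
      IsLocalRing.ResidueField R)
    have hu : IsUnit a := by
      rw [← IsLocalRing.residue_ne_zero_iff_isUnit, ha]; exact Units.ne_zero _
    exact ⟨Additive.ofMul hu.unit, Additive.toMul.injective ((hφ hu.unit).trans (Units.ext ha))⟩
  have hS : S.ShortExact := {
    exact := by
      exact exact_of_forall ℤ G S fun x hx => ⟨⟨x, hx⟩, rfl⟩
    mono_f := (Rep.mono_iff_injective _).2 Subtype.val_injective
    epi_g := (Rep.epi_iff_surjective _).2 hsurj }
  have hdiv : Function.Bijective fun a : S.X₁ => Nat.card G • a := by
    have key : ∀ x : A, x ∈ W ↔ ((Additive.toMul x : Rˣ) : R) - 1 ∈ IsLocalRing.maximalIdeal R := fun x => by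
      rw [← IsLocalRing.residue_eq_zero_iff, map_sub, map_one, sub_eq_zero]
      change φ.hom (Additive.ofMul (Additive.toMul x)) = 0 ↔ _
      rw [← Additive.toMul.injective.eq_iff, hφ, Units.ext_iff]
      rfl
    constructor
    · intro a b hab
      have hab' : N • (a : A) = N • (b : A) := congrArg Subtype.val hab
      set u : Rˣ := Additive.toMul ((a : A) - (b : A)) with hu
      have h1 : u ^ N = 1 := by
        have e : N • ((a : A) - (b : A)) = 0 := by rw [smul_sub, hab', sub_self]
        rw [hu]
        exact (toMul_nsmul N _).symm.trans (congrArg Additive.toMul e)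
      have h2 : (u : R) - 1 ∈ IsLocalRing.maximalIdeal R := (key _).1 (W.sub_mem a.2 b.2)
      have h3 : (∑ i ∈ Finset.range N, (u : R) ^ i) * ((u : R) - 1) = 0 := by
        rw [geom_sum_mul, ← Units.val_pow_eq_pow_val, h1, Units.val_one, sub_self]
      have h4 : IsUnit (∑ i ∈ Finset.range N, (u : R) ^ i) := by
        rw [← IsLocalRing.residue_ne_zero_iff_isUnit, map_sum]
        have : IsLocalRing.residue R (u : R) = 1 := by
          rwa [← IsLocalRing.residue_eq_zero_iff, map_sub, map_one, sub_eq_zero] at h2
        simp only [map_pow, this, one_pow, Finset.sum_const, Finset.card_range, nsmul_one]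
        rw [← map_natCast (IsLocalRing.residue R)]
        exact (IsLocalRing.residue_ne_zero_iff_isUnit _).2 hNu
      have h5 : u = 1 := Units.ext (sub_eq_zero.1 (h4.mul_right_eq_zero.1 h3))
      exact Subtype.ext (sub_eq_zero.1 (Additive.toMul.injective h5))
    · intro a
      set v : Rˣ := Additive.toMul (a : A) with hv
      have h2 : (v : R) - 1 ∈ IsLocalRing.maximalIdeal R := (key _).1 a.2
      obtain ⟨r, hr, hr1⟩ := HenselianLocalRing.is_henselian (Polynomial.X ^ N - Polynomial.C (v : R))
        (Polynomial.monic_X_pow_sub_C _ hN0.ne') 1 (by simpa using neg_mem h2) (by simpa [Polynomial.derivative_X_pow, Polynomial.derivative_pow] using hNu)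
      have hr' : r ^ N = (v : R) := by simpa [sub_eq_zero] using hr
      have hru : IsUnit r := (isUnit_pow_iff hN0.ne').1 (hr' ▸ v.isUnit)
      refine ⟨⟨Additive.ofMul hru.unit, (key _).2 hr1⟩, Subtype.ext (Additive.toMul.injective (Units.ext ?_))⟩
      exact hr'
  have hz : ∀ i, 0 < i → CategoryTheory.Limits.IsZero (groupCohomology S.X₁ i) := fun i hi =>
    @ModuleCat.isZero_of_subsingleton _ _ _ (S7725.result ℤ G S.X₁ hdiv i hi)
  constructor
  · have := (groupCohomology.mapShortComplex₂_exact hS n).mono_g ((hz n hn).eq_of_src _ _)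
    exact (ModuleCat.mono_iff_injective _).1 this
  · have := (groupCohomology.mapShortComplex₃_exact hS (i := n) (j := n+1) rfl).epi_f
      ((hz (n + 1) n.succ_pos).eq_of_tgt _ _)
    exact (ModuleCat.epi_iff_surjective _).1 this

end Groth.Agent.S19223
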