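import Groth.Statements.S19224
import Mathlib

set_option autoImplicit false
open GalCoh

namespace Groth.Agent.S19224

/-- Let Q be a finite group such that H^3(Q, ℤ) = 0 for the trivial action, and let k be a separably
closed field of characteristic p ≥ 0 with p not dividing the order of Q. Then H^2(Q, k^×) = 0, where
Q acts trivially on the units of k. (Groups and fields are taken in the lowest universe, as integral
coefficients in the group-cohomology library require.) -/
theorem result (Q : Type) [Group Q] [Finite Q]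
    (hQ : Subsingleton (groupCohomology (Rep.trivial ℤ Q ℤ) 3)) (k : Type) [Field k] [IsSepClosed k]
    (p : ℕ) [CharP k p] (hp : ¬ p ∣ Nat.card Q) :
    Subsingleton (groupCohomology (Rep.trivial ℤ Q (Additive kˣ)) 2) := by
  classical
  have : Fintype Q := Fintype.ofFinite Q
  set n : ℕ := Nat.card Q with hn
  have hnk : (n : k) ≠ 0 := fun h => hp ((CharP.cast_eq_zero_iff k p n).1 h)
  have hnnk : ((n * n : ℕ) : k) ≠ 0 := by
    push_cast
    exact mul_ne_zero hnk hnk
  -- degree three cocycles with integer values are coboundaries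
  have hex : ∀ e : Q → Q → Q → ℤ,
      (∀ a b c d, e b c d - e (a * b) c d + e a (b * c) d - e a b (c * d) + e a b c = 0) →
      ∃ h : Q → Q → ℤ, ∀ a b c, h b c - h (a * b) c + h a (b * c) - h a b = e a b c := by
    intro e he
    set A : Rep ℤ Q := Rep.trivial ℤ Q ℤ with hA
    have hz : CategoryTheory.Limits.IsZero
        ((groupCohomology.inhomogeneousCochains A).homology 3) :=
      @ModuleCat.isZero_of_subsingleton _ _ (groupCohomology A 3) hQ
    have hexact := ((HomologicalComplex.exactAt_iff_isZero_homology _ _).2 hz)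
    rw [HomologicalComplex.exactAt_iff' _ 2 3 4 (by simp) (by simp),
      CategoryTheory.ShortComplex.moduleCat_exact_iff] at hexact
    obtain ⟨h, hh⟩ := hexact (fun g => e (g 0) (g 1) (g 2)) (by
      change ((groupCohomology.inhomogeneousCochains A).d 3 4).hom _ = 0
      rw [groupCohomology.inhomogeneousCochains.d_def]
      funext g
      have := he (g 0) (g 1) (g 2) (g 3)
      simp [inhomogeneousCochains.d_hom_apply, hA, Fin.sum_univ_four, Fin.contractNth, Pi.zero_apply] at this ⊢
      rw [Pi.zero_apply]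
      linarith)
    refine ⟨fun x y => h ![x, y], fun a b c => ?_⟩
    replace hh := congrFun hh ![a, b, c]
    change ((groupCohomology.inhomogeneousCochains A).d 2 3).hom h ![a, b, c] = _ at hh
    rw [groupCohomology.inhomogeneousCochains.d_def] at hh
    simp [inhomogeneousCochains.d_hom_apply, hA, Fin.sum_univ_three] at hh
    have e1 : (fun i : Fin 2 => ![a, b, c] i.succ) = ![b, c] := by
      ext i; fin_cases i <;> rfl
    have e2 : Fin.contractNth (0 : Fin 3) (· * ·) ![a, b, c] = ![a * b, c] := by
      ext i; fin_cases i <;> simp [Fin.contractNth]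
    have e3 : Fin.contractNth (1 : Fin 3) (· * ·) ![a, b, c] = ![a, b * c] := by
      ext i; fin_cases i <;> simp [Fin.contractNth]
    have e4 : Fin.contractNth (2 : Fin 3) (· * ·) ![a, b, c] = ![a, b] := by
      ext i; fin_cases i <;> simp [Fin.contractNth]
    rw [e2, e3, e4] at hh
    simp only [Fin.succ_zero_eq_one, Fin.succ_one_eq_two] at *
    linarith
  set A : Rep ℤ Q := Rep.trivial ℤ Q (Additive kˣ) with hA
  refine subsingleton_of_forall_eq 0 fun x => ?_
  induction x using groupCohomology.H2_induction_on with | _ c =>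
  let c' : Q → Q → Additive kˣ := fun x y => c.1 (x, y)
  have hc : ∀ a b z, c' (a * b) z + c' a b = c' b z + c' a (b * z) := fun a b z => by
    simpa [hA, c'] using (groupCohomology.mem_cocycles₂_iff c.1).1 c.2 a b z
  -- `n • c` is a coboundary
  have hnc : ∀ a b, ∑ z, c' b z - ∑ z, c' (a * b) z + ∑ z, c' a z = n • c' a b := fun a b => by
    have h1 : ∑ z, c' a (b * z) = ∑ z, c' a z :=
      Fintype.sum_equiv (Equiv.mulLeft b) _ _ (fun z => rfl)
    have h2 : ∑ z, (c' (a * b) z + c' a b) = ∑ z, (c' b z + c' a (b * z)) :=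
      Finset.sum_congr rfl fun z _ => hc a b z
    rw [Finset.sum_add_distrib, Finset.sum_add_distrib, h1, Finset.sum_const, Finset.card_univ,
      ← Nat.card_eq_fintype_card, ← hn] at h2
    calc _ = (∑ z, c' b z + ∑ z, c' a z) - ∑ z, c' (a * b) z := by abel
      _ = _ := by rw [← h2]; abel
  have hroot : ∀ u : Additive kˣ, ∃ v : Additive kˣ, n • v = u := fun u => by
    have : NeZero (n : k) := ⟨hnk⟩
    obtain ⟨z, hz⟩ := IsSepClosed.exists_pow_nat_eq ((Additive.toMul u : kˣ) : k) n
    have hz0 : z ≠ 0 := fun h => by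
      rw [h, zero_pow Nat.card_pos.ne'] at hz
      exact (Additive.toMul u).ne_zero hz.symm
    exact ⟨Additive.ofMul (Units.mk0 z hz0),
      congrArg Additive.ofMul (show (Units.mk0 z hz0) ^ n = Additive.toMul u from Units.ext (by simpa using hz))⟩
  choose b hb using fun a : Q => hroot (∑ z, c' a z)
  let d : Q → Q → Additive kˣ := fun x y => c' x y - (b y - b (x * y) + b x)
  have hd : ∀ x y, n • d x y = 0 := fun x y => by
    simp only [d]
    rw [nsmul_sub, nsmul_add, nsmul_sub, hb, hb, hb, hnc, sub_self]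
  have hdc : ∀ a b z, d b z - d (a * b) z + d a (b * z) - d a b = 0 := fun a b z => by
    simp only [d, mul_assoc]
    have := hc a b z
    linear_combination (norm := abel) (-1 : ℤ) • this
  -- a root of unity of order `n * n`
  have : NeZero ((n * n : ℕ) : k) := ⟨hnnk⟩
  have : NeZero (n * n) := ⟨(Nat.mul_pos Nat.card_pos Nat.card_pos).ne'⟩
  have : NeZero n := ⟨Nat.card_pos.ne'⟩
  obtain ⟨z, hz⟩ := HasEnoughRootsOfUnity.exists_primitiveRoot k (n * n)
  let w : kˣ := (hz.isUnit (NeZero.ne _)).unit
  have hzn : IsPrimitiveRoot (w ^ n) n :=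
    (IsPrimitiveRoot.coe_units_iff.1 hz).pow (NeZero.pos _) rfl
  have hlog : ∀ x y, ∃ m : ℤ, d x y = m • Additive.ofMul (w ^ n) := fun x y => by
    have hmem : Additive.toMul (d x y) ∈ rootsOfUnity n k := by
      rw [mem_rootsOfUnity]
      exact congrArg Additive.toMul (hd x y)
    rw [← hzn.zpowers_eq, Subgroup.mem_zpowers_iff] at hmem
    obtain ⟨m, hm⟩ := hmem
    exact ⟨m, congrArg Additive.ofMul hm.symm⟩
  choose C hC using hlog
  have hdiv : ∀ a b z, (n : ℤ) ∣ C b z - C (a * b) z + C a (b * z) - C a b := fun a b z => by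
    have h0 := hdc a b z
    simp only [hC, ← sub_smul, ← add_smul, ← sub_zsmul, ← add_zsmul] at h0
    exact hzn.zpow_eq_one_iff_dvd _ |>.1 (congrArg Additive.toMul h0)
  choose e he using hdiv
  have hn0 : (n : ℤ) ≠ 0 := by exact_mod_cast (NeZero.ne n)
  obtain ⟨h, hh⟩ := hex e fun a b c' d' => by
    apply mul_left_cancel₀ hn0
    simp only [mul_add, mul_sub, ← he, mul_zero, mul_assoc]
    ring
  let D : Q → Q → ℤ := fun x y => C x y - n * h x y
  have hD : ∀ a b z, D b z - D (a * b) z + D a (b * z) - D a b = 0 := fun a b z => by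
    have h1 := he a b z
    have h2 := hh a b z
    simp only [D]
    linear_combination h1 - (n : ℤ) * h2
  let g : Q → ℤ := fun a => ∑ z, D a z
  have hg : ∀ a b, g b - g (a * b) + g a = n * D a b := fun a b => by
    have h1 : ∑ z, D a (b * z) = ∑ z, D a z :=
      Fintype.sum_equiv (Equiv.mulLeft b) _ _ (fun z => rfl)
    have h2 : ∑ z, (D b z - D (a * b) z + D a (b * z) - D a b) = ∑ _z : Q, (0 : ℤ) :=
      Finset.sum_congr rfl fun z _ => hD a b z
    simp [Finset.sum_add_distrib, Finset.sum_sub_distrib, h1, Finset.card_univ,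
      ← Nat.card_eq_fintype_card, ← hn] at h2
    simp only [g]
    linarith
  rw [groupCohomology.H2π_eq_zero_iff]
  refine ⟨fun a => b a + g a • Additive.ofMul w, funext fun ⟨x, y⟩ => ?_⟩
  have hd' : d x y = (g y - g (x * y) + g x) • Additive.ofMul w := by
    rw [hg, hC, ofMul_pow, ← natCast_zsmul, ← mul_zsmul]
    have hnn : ((n : ℤ) * n) • Additive.ofMul w = 0 := by
      rw [← Nat.cast_mul, natCast_zsmul, ← ofMul_pow, (IsPrimitiveRoot.coe_units_iff.1 hz).pow_eq_one,
        ofMul_one]
    have : (C x y * n : ℤ) = n * D x y + (n * n) * h x y := by simp only [D]; ring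
    rw [this, add_zsmul, mul_comm ((n : ℤ) * n), mul_zsmul _ (h x y) ((n : ℤ) * n), hnn, zsmul_zero,
      add_zero]
  simp only [groupCohomology.d₁₂_hom_apply, hA]
  simp only [d, c'] at hd'
  change b y + g y • _ - (b (x * y) + g (x * y) • _) + (b x + g x • _) = c.1 (x, y)
  rw [add_zsmul, sub_zsmul] at hd'
  linear_combination (norm := abel) (-1 : ℤ) • hd'

end Groth.Agent.S19224
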