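import Groth.Statements.S19230
import Groth.Agent.SigmaLinLib.Basic
-- import your own Groth.Agent.* helpers here

set_option autoImplicit false
universe u v
open SigmaLin

namespace Groth.Agent.S19230

/-- Let k be a field, σ a surjective ring endomorphism of k, V a finite-dimensional k-vector space and T
: V → V additive with T (c • v) = σ c • T v. Then the set of vectors killed by some iterate of T is
a k-subspace on which a single iterate of T vanishes, it is a complement of the intersection over n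
of the k-spans of the images of the n-th iterates, and T restricts to a bijection of that
intersection onto itself. -/
theorem result
    (k : Type u) [Field k] (σ : k →+* k) (hσ : Function.Surjective σ)
    (V : Type v) [AddCommGroup V] [Module k V] [FiniteDimensional k V] (T : V →ₛₗ[σ] V) :
    (∃ W : Submodule k V, (W : Set V) = {v : V | ∃ n : ℕ, (⇑T)^[n] v = 0} ∧
      (∃ N : ℕ, ∀ v ∈ W, (⇑T)^[N] v = 0) ∧
      IsCompl W (⨅ n : ℕ, Submodule.span k (Set.range ((⇑T)^[n])))) ∧
    Set.BijOn (⇑T) (⋂ n : ℕ, (Submodule.span k (Set.range ((⇑T)^[n])) : Set V))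
      (⋂ n : ℕ, (Submodule.span k (Set.range ((⇑T)^[n])) : Set V)) := by
  obtain ⟨N, hN⟩ := SigmaLinLib.kerIter_stable T
  have hW : (SigmaLinLib.kerIter T N : Set V) = {v : V | ∃ n : ℕ, (⇑T)^[n] v = 0} :=
    Set.ext fun v => ⟨fun h => ⟨N, h⟩, fun h => hN v h⟩
  have hI : ∀ v, v ∈ (⋂ n : ℕ, (Submodule.span k (Set.range ((⇑T)^[n])) : Set V)) ↔
      v ∈ ⨅ n, SigmaLinLib.im T n := fun v => by
    rw [Set.mem_iInter, Submodule.mem_iInf]; rfl
  refine ⟨⟨SigmaLinLib.kerIter T N, hW, ⟨N, fun v hv => hv⟩, ?_, ?_⟩, ?_, ?_, ?_⟩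
  · rw [Submodule.disjoint_def]
    exact fun v hv hv' => SigmaLinLib.eq_zero_of_mem_stable T hv' (n := N) hv
  · rw [codisjoint_iff, eq_top_iff]
    intro v _
    obtain ⟨w, z, rfl, hw, hz⟩ := SigmaLinLib.exists_split T hσ v
    exact Submodule.mem_sup.2 ⟨w, hN w hw, z, hz, rfl⟩
  · exact fun v hv => (hI _).2 (SigmaLinLib.map_mem_stable T ((hI v).1 hv))
  · intro a ha b hb hab
    rw [← sub_eq_zero]
    refine SigmaLinLib.eq_zero_of_mem_stable T (sub_mem ((hI a).1 ha) ((hI b).1 hb)) (n := 1) ?_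
    simp [hab]
  · intro v hv
    obtain ⟨M, hM⟩ := SigmaLinLib.im_stable T
    have h1 : v ∈ SigmaLinLib.im T (M + 1) := by
      rw [(hM _ M.le_succ).1, ← (hM M le_rfl).2]; exact (hI v).1 hv
    obtain ⟨u, hu⟩ := (SigmaLinLib.mem_im_iff T hσ _ _).1 h1
    refine ⟨(⇑T)^[M] u, (hI _).2 ?_, (Function.iterate_succ_apply' _ _ _).symm.trans hu⟩
    rw [(hM M le_rfl).2]
    exact Submodule.subset_span ⟨u, rfl⟩

end Groth.Agent.S19230
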