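import Groth.Statements.S19236
import Groth.Agent.SigmaLinLib.Local
-- import your own Groth.Agent.* helpers here

set_option autoImplicit false
universe u v
open SigmaLin

namespace Groth.Agent.S19236

/-- Let p be a prime number and R a local ring whose maximal ideal is generated by p and in which p^n =
0 for some n. Let σ be a ring endomorphism of R and σ̄ the induced endomorphism of the residue field
k = R/(p); assume σ̄ is surjective, that for every m and every tuple (b_0, …, b_m) in k, not all
zero, the equation x = Σ_{i=0}^{m} σ̄^{i+1}(x) σ̄^{i}(b_{m-i}) has a nonzero solution x in k, that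
for every c in k there is y with σ̄(y) − y + c = 0, and that every element of k fixed by σ̄ is the
residue of an element of R fixed by σ. Let M be a finitely generated R-module and T : M → M additive
with T (r • m) = σ r • T m. Then the T-fixed elements of M form a finitely generated module over the
ring of σ-fixed elements of R: there are finitely many T-fixed elements such that every T-fixed
element is a linear combination of them with σ-fixed coefficients. -/
theorem result
    (p : ℕ) [Fact p.Prime] (R : Type u) [CommRing R] [IsLocalRing R]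
    (hmax : IsLocalRing.maximalIdeal R = Ideal.span {(p : R)}) (n : ℕ) (hn : (p : R) ^ n = 0)
    (σ : R →+* R) (σbar : IsLocalRing.ResidueField R →+* IsLocalRing.ResidueField R)
    (hσbar : ∀ r : R, σbar (IsLocalRing.residue R r) = IsLocalRing.residue R (σ r))
    (hsurj : Function.Surjective σbar)
    (h2 : ∀ (n : ℕ) (b : Fin (n + 1) → IsLocalRing.ResidueField R), b ≠ 0 →
      ∃ x : IsLocalRing.ResidueField R, x ≠ 0 ∧ x = ∑ i : Fin (n + 1), (⇑σbar)^[i.val + 1] x * (⇑σbar)^[i.val] (b (Fin.rev i)))
    (h3 : ∀ c : IsLocalRing.ResidueField R, ∃ y : IsLocalRing.ResidueField R, σbar y - y + c = 0)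
    (M : Type v) [AddCommGroup M] [Module R M] [Module.Finite R M] (T : M →ₛₗ[σ] M)
    (hlift : ∀ x : IsLocalRing.ResidueField R, σbar x = x → ∃ r : R, σ r = r ∧ IsLocalRing.residue R r = x) :
    ∃ s : Finset M, (∀ m ∈ s, T m = m) ∧
      ∀ m : M, T m = m → ∃ c : M → R, (∀ x ∈ s, σ (c x) = c x) ∧ m = ∑ x ∈ s, c x • x := by
  classical
  obtain ⟨s, hs, hs'⟩ := SigmaLinLib.local_fixed_fg hσbar T p hmax hn hlift
  refine ⟨s, hs, fun m hm => ?_⟩
  obtain ⟨c, -, hc⟩ := Submodule.mem_span_finset.1 (hs' m hm)
  exact ⟨fun x => (c x : R), fun x _ => (c x).2, hc.symm⟩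

end Groth.Agent.S19236
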