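import Groth.Statements.S1925
import Groth.Agent.H23.ZeroSec
-- import your own Groth.Agent.* helpers here

set_option autoImplicit false
universe u
open CategoryTheory AlgebraicGeometry
open Cyc

namespace Groth.Agent.S1925

/-- Let L be an invertible O_Y-module and s a global section of L; assume δ ≤ k + 1 on Y, δ ≤ k on the
zero locus of s, and multiplication by the germ of s injective on O_{Y,ξ} at the points ξ of
δ-dimension k. Writing [Y]_{k+1} = Σ n_i[Y_i] over the irreducible components of δ-dimension k + 1,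
one has [Z(s)]_k = Σ n_i [Z(s|_{Y_i})]_k as k-cycles on Y; here the right side is computed as c_1(L)
∩ [Y]_{k+1} with the rational sections induced by s. Here L(ξ) = L_ξ/𝔪_ξ L_ξ is the space of
rational sections of L on the closure of ξ, div_{L|W}(s) and c_1(L) ∩ α are computed as coefficient
functions from chosen nonzero rational sections (Cyc.secDivFun, Cyc.c1CapFun), and results are
compared up to rational equivalence for any cycles with those coefficients. A pair (X, δ) with
Cyc.IsSetup plays the role of a scheme locally of finite type over a fixed base with a dimension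
function (X locally Noetherian with universally catenary local rings, δ a dimension function), and
Cyc.DeltaCompat records that the dimension function upstairs is the induced one. -/
theorem result (Y : Scheme.{u}) (δ : Y → ℤ) (hY : Cyc.IsSetup Y δ) (L : Y.Modules) (hL : PicF.IsInvertible L) (k : ℤ) (hdim : ∀ y : Y, δ y ≤ k + 1) (s : L.presheaf.obj (Opposite.op ⊤)) (hZ : ∀ y : Y, (L.presheaf.germ ⊤ y trivial) s ∈ IsLocalRing.maximalIdeal (Y.presheaf.stalk y) • (⊤ : Submodule (Y.presheaf.stalk y) (L.presheaf.stalk y)) → δ y ≤ k) (hreg : ∀ y : Y, δ y = k → Function.Injective (fun a : Y.presheaf.stalk y => a • (L.presheaf.germ ⊤ y trivial) s)) : Cyc.zeroSectionFun δ k L s = Cyc.c1CapFun δ L (Cyc.subschemeFun δ (k + 1) (𝟙 Y)) (fun ξ => Submodule.Quotient.mk ((L.presheaf.germ ⊤ ξ trivial) s)) := by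
  classical
  haveI := hY.1
  have hd := hY.2.2
  funext x
  let α := Cyc.subschemeFun δ (k + 1) (𝟙 Y)
  have hα : ∀ ξ, α ξ = if δ ξ = k + 1 then
      ((Module.length (Y.presheaf.stalk ξ) (Y.presheaf.stalk ξ)).toNat : ℤ) else 0 := fun ξ => by
    simp only [α, Cyc.subschemeFun]
    split_ifs
    · have hs : {z : Y | (𝟙 Y : Y ⟶ Y) z = ξ} = {ξ} := Set.ext fun z => Iff.rfl
      rw [hs, finsum_mem_singleton]
    · rfl
  show Cyc.zeroSectionFun δ k L s x = ∑ᶠ ξ : Y, α ξ * Cyc.secDivFun δ L ξ (Submodule.Quotient.mk ((L.presheaf.germ ⊤ ξ trivial) s)) x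
  by_cases hx : δ x = k
  swap
  · rw [Cyc.zeroSectionFun, if_neg hx]
    refine (finsum_eq_zero_of_forall_eq_zero fun ξ => ?_).symm
    rw [hα]
    split_ifs with hξ
    · rw [Cyc.secDivFun, dif_neg (fun h => hx (by have := h.2; omega)), mul_zero]
    · rw [zero_mul]
  simp only [Cyc.zeroSectionFun, if_pos hx]
  by_cases ht : ∃ t : L.presheaf.stalk x, Submodule.span (Y.presheaf.stalk x) {t} = ⊤
  swap
  · rw [dif_neg ht]
    refine (finsum_eq_zero_of_forall_eq_zero fun ξ => ?_).symm
    simp only [Cyc.secDivFun, Cyc.secOrdAt, dif_neg ht]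
    split_ifs <;> simp
  rw [dif_pos ht]
  set t := Classical.choose ht with htdef
  have hf : ∃ f : Y.presheaf.stalk x, (L.presheaf.germ ⊤ x trivial) s = f • t := by
    obtain ⟨f, hf⟩ := Submodule.mem_span_singleton.mp
      ((Classical.choose_spec ht).ge (Submodule.mem_top : (L.presheaf.germ ⊤ x trivial) s ∈ ⊤))
    exact ⟨f, hf.symm⟩
  rw [dif_pos hf]
  have hfs := Classical.choose_spec hf
  set f := Classical.choose hf
  have hfreg : f ∈ nonZeroDivisors (Y.presheaf.stalk x) := by
    rw [mem_nonZeroDivisors_iff_right]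
    intro a ha
    refine hreg x hx (a₁ := a) (a₂ := 0) ?_
    show a • _ = (0 : Y.presheaf.stalk x) • _
    rw [zero_smul, hfs, ← mul_smul, ha, zero_smul]
  obtain ⟨S, hS, hlen⟩ := Groth.Agent.H23.ZeroSec.length_span hd hx hdim f hfreg
  rw [hlen, finsum_eq_sum_of_support_subset (s := S) _ ?_, Nat.cast_sum]
  · refine Finset.sum_congr rfl fun ξ hξ => ?_
    obtain ⟨h, hξδ⟩ := (hS ξ).1 hξ
    rw [dif_pos h, hα, if_pos hξδ, Nat.cast_mul]
    refine congrArg (_ * ·) ?_
    rw [show Cyc.secDivFun δ L ξ (Submodule.Quotient.mk ((L.presheaf.germ ⊤ ξ trivial) s)) x =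
      Cyc.secOrdAt L ξ x h (Submodule.Quotient.mk ((L.presheaf.germ ⊤ ξ trivial) s)) from
      dif_pos ⟨h, by omega⟩]
    simp only [Cyc.secOrdAt, dif_pos ht, ← htdef]
    have hη : (L.presheaf.germ ⊤ ξ trivial) s =
        Y.presheaf.stalkSpecializes h f • L.presheaf.stalkSpecializes h t := by
      rw [← Groth.Agent.H23.ZeroSec.stalkSpecializes_smul, ← hfs]
      exact (TopCat.Presheaf.germ_stalkSpecializes_apply L.presheaf (U := ⊤) trivial h s).symm
    have hφ : ∃ φ : Y.presheaf.stalk ξ, (Submodule.Quotient.mk ((L.presheaf.germ ⊤ ξ trivial) s) : Cyc.secFibre L ξ) =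
        φ • (Submodule.Quotient.mk (L.presheaf.stalkSpecializes h t) : Cyc.secFibre L ξ) :=
      ⟨Y.presheaf.stalkSpecializes h f, by rw [← Submodule.Quotient.mk_smul, hη]⟩
    rw [dif_pos hφ]
    have hφs := Classical.choose_spec hφ
    set φ := Classical.choose hφ
    have hsne : ¬ (L.presheaf.germ ⊤ ξ trivial) s ∈
        IsLocalRing.maximalIdeal (Y.presheaf.stalk ξ) • (⊤ : Submodule (Y.presheaf.stalk ξ) (L.presheaf.stalk ξ)) :=
      fun hm => by have := hZ ξ hm; omega
    have hres : Y.residue ξ φ = Y.residue ξ (Y.presheaf.stalkSpecializes h f) := by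
      rw [← Submodule.Quotient.mk_smul, Submodule.Quotient.eq, hη, ← sub_smul] at hφs
      refine (Ideal.Quotient.eq.2 ?_).symm
      by_contra hu
      have hu' : IsUnit (Y.presheaf.stalkSpecializes h f - φ) := by_contra fun hn => hu hn
      have htm : L.presheaf.stalkSpecializes h t ∈
          IsLocalRing.maximalIdeal (Y.presheaf.stalk ξ) • (⊤ : Submodule (Y.presheaf.stalk ξ) (L.presheaf.stalk ξ)) := by
        obtain ⟨v, hv⟩ := hu'.exists_left_inv
        have := Submodule.smul_mem _ v hφs
        rwa [← mul_smul, hv, one_smul] at this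
      exact hsne (by
        have := Submodule.smul_mem _ (Y.presheaf.stalkSpecializes h f) htm
        rwa [← hη] at this)
    rw [hres]
    show _ = Cyc.ordAt x ξ h (Cyc.specMap x ξ h f)
    have hf0 : Ideal.Quotient.mk _ f ≠ (0 : Cyc.LocQuot x ξ h) := fun h0 => hsne (by
      have h1 : Y.presheaf.stalkSpecializes h f ∈ IsLocalRing.maximalIdeal (Y.presheaf.stalk ξ) :=
        Ideal.Quotient.eq_zero_iff_mem.1 (show Y.residue ξ (Y.presheaf.stalkSpecializes h f) = 0 from
          Ideal.Quotient.eq_zero_iff_mem.1 h0)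
      rw [hη]
      exact Submodule.smul_mem_smul h1 Submodule.mem_top)
    rw [← Groth.Agent.CycLib.algebraMap_locQuot_mk,
      Groth.Agent.CycLib.ordAt_algebraMap hd h (by omega) hf0]
  · intro ξ hξ
    rw [Finset.mem_coe, hS]
    by_contra hn
    apply hξ
    simp only [hα]
    split_ifs with hξδ
    · rw [Cyc.secDivFun, dif_neg (fun hh => hn ⟨hh.1, hξδ⟩), mul_zero]
    · rw [zero_mul]

end Groth.Agent.S1925
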