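import Groth.Statements.S1924
import Groth.Agent.H23.C1Push
import Groth.Agent.H23.GysinFun
import Groth.Agent.H23.FundCycle
import Groth.Agent.H23.RatOn
import Groth.Agent.S1925
-- import your own Groth.Agent.* helpers here

set_option autoImplicit false
universe u
open CategoryTheory AlgebraicGeometry
open Cyc

namespace Groth.Agent.S1924

/-- Let L be invertible on X, ι : Y → X a closed immersion with δ ≤ k + 1 on Y, and s a global section
of L|_Y = ι^*L such that the points of its zero locus have δ ≤ k and, at every such point ξ with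
δ(ξ) = k, multiplication by the germ of s is injective on O_{Y,ξ}. Then c_1(L) ∩ [Y]_{k+1} ∼_rat
ι_*[Z(s)]_k as k-cycles on X (for any nonzero rational sections used to compute the left side and
any cycle on Y with the coefficients of [Z(s)]_k). Here L(ξ) = L_ξ/𝔪_ξ L_ξ is the space of rational
sections of L on the closure of ξ, div_{L|W}(s) and c_1(L) ∩ α are computed as coefficient functions
from chosen nonzero rational sections (Cyc.secDivFun, Cyc.c1CapFun), and results are compared up to
rational equivalence for any cycles with those coefficients. A pair (X, δ) with Cyc.IsSetup plays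
the role of a scheme locally of finite type over a fixed base with a dimension function (X locally
Noetherian with universally catenary local rings, δ a dimension function), and Cyc.DeltaCompat
records that the dimension function upstairs is the induced one. -/
theorem result (X Y : Scheme.{u}) (δ : X → ℤ) (hX : Cyc.IsSetup X δ) (L : X.Modules) (hL : PicF.IsInvertible L) (ι : Y ⟶ X) [IsClosedImmersion ι] (k : ℤ) (hY : ∀ y : Y, δ (ι y) ≤ k + 1) (s : ((Scheme.Modules.pullback ι).obj L).presheaf.obj (Opposite.op ⊤)) (hZ : ∀ y : Y, (((Scheme.Modules.pullback ι).obj L).presheaf.germ ⊤ y trivial) s ∈ IsLocalRing.maximalIdeal (Y.presheaf.stalk y) • (⊤ : Submodule (Y.presheaf.stalk y) (((Scheme.Modules.pullback ι).obj L).presheaf.stalk y)) → δ (ι y) ≤ k) (hreg : ∀ y : Y, δ (ι y) = k → Function.Injective (fun a : Y.presheaf.stalk y => a • (((Scheme.Modules.pullback ι).obj L).presheaf.germ ⊤ y trivial) s)) (v : (ξ : X) → Cyc.secFibre L ξ) (hv : ∀ ξ, v ξ ≠ 0) (γ : AlgebraicCycle X ℤ) (hγ : ⇑γ = Cyc.c1CapFun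 δ L (Cyc.subschemeFun δ (k + 1) ι) v) (ζ : AlgebraicCycle Y ℤ) (hζ : ⇑ζ = Cyc.zeroSectionFun (fun y => δ (ι y)) k ((Scheme.Modules.pullback ι).obj L) s) : Cyc.RatEquiv δ k γ (AlgebraicCycle.map ι (fun y => δ (ι y)) δ ζ) := by
  
  classical
  haveI := hX.1
  haveI : IsLocallyNoetherian Y := LocallyOfFiniteType.isLocallyNoetherian ι
  have hYs := Groth.Agent.H23.GysinLib.isSetup_closedImmersion ι hX
  have hL' := Groth.Agent.PicClLib.isInvertible_pullback ι hL
  let β := Groth.Agent.H23.FundCycle.fund (fun y => δ (ι y)) (k + 1)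
  have hβ : ∀ y, δ (ι y) ≠ k + 1 → β y = 0 := fun y hy => by
    show Cyc.subschemeFun (fun y => δ (ι y)) (k + 1) (𝟙 Y) y = 0
    rw [Groth.Agent.H23.FundCycle.subschemeFun_id, if_neg hy]
  have hv' := Groth.Agent.H23.C1Pull.vPull_ne_zero (p := ι) hL hv
  have hsec := Groth.Agent.H23.GysinLib.gysinChoice_ne_zero (L := (Scheme.Modules.pullback ι).obj L) s hv'
  let A := Groth.Agent.H23.RatSec.c1CapCycle hL' hYs.2.2 β _ hv'
  have hζ' : ⇑ζ = Cyc.c1CapFun (fun y => δ (ι y)) ((Scheme.Modules.pullback ι).obj L) ⇑β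
      (Cyc.gysinChoice ((Scheme.Modules.pullback ι).obj L) s (Groth.Agent.H23.C1Pull.vPull ι L v)) := by
    rw [hζ, Groth.Agent.S1925.result Y _ hYs _ hL' k hY s hZ hreg]
    funext x
    refine finsum_congr fun ξ => ?_
    by_cases hξ : β ξ = 0
    · show β ξ * _ = β ξ * _
      rw [hξ, zero_mul, zero_mul]
    · refine congrArg (β ξ * ·) (congrArg (fun e => Cyc.secDivFun _ _ ξ e x) (if_pos fun h0 => ?_).symm)
      have h1 : δ (ι ξ) = k + 1 := by_contra fun h => hξ (hβ ξ h)
      have := hZ ξ ((Submodule.Quotient.mk_eq_zero _).1 h0)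
      omega
  have h1 : Cyc.RatEquiv (fun y => δ (ι y)) k A ζ :=
    Groth.Agent.H23.RatSec.ratEquiv_c1Cap hL' hYs.2.2 hβ (Groth.Agent.H23.GysinLib.locFin β) hv' hsec
      (Groth.Agent.H23.RatSec.coe_c1CapCycle _ _ _ _ _) hζ'
  have h2 := Groth.Agent.CycLib.ratEquiv_map ι hYs hX (Groth.Agent.H23.GysinLib.deltaCompat_closedImmersion ι δ) h1
  refine cast (congrArg (fun c => Cyc.RatEquiv δ k c _) ?_) h2
  ext x
  rw [congrFun (Groth.Agent.H23.C1Push.map_c1Cap (p := ι) hL hYs.2.2 hX.2.2
    (Groth.Agent.H23.GysinLib.deltaCompat_closedImmersion ι δ) β hv) x, congrFun hγ x,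
    Groth.Agent.H23.FundCycle.subschemeFun_closed ι δ (k + 1)]

end Groth.Agent.S1924
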