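import Groth.Statements.S19244
import Mathlib.CategoryTheory.Abelian.SerreClass.Localization

set_option autoImplicit false
universe v v' u u'
open HomAlg3

namespace Groth.Agent.S19244
open CategoryTheory.Limits ZeroObject

open CategoryTheory in
/-- Let A be an abelian category and let P be the class of bounded-torsion objects of A, those X with n
• 𝟙_X = 0 for some nonzero integer n; assume P is a Serre class. Let L : A ⥤ D be an additive
functor to a preadditive category exhibiting D as the localization of A at the morphisms whose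
kernel and cokernel are in P (so D is the quotient category A_ℚ = A ⧸ A_{b-tor}; the source assumes
A well-powered, which guarantees that this quotient exists). Then for all objects X, Y of A: (1) for
every nonzero integer n, multiplication by n is bijective on Hom_D(L X, L Y), so that this group is
naturally a ℚ-vector space; (2) a morphism f : X ⟶ Y satisfies L f = 0 if and only if n • f = 0 for
some nonzero integer n; (3) for every g : L X ⟶ L Y there are a nonzero integer n and f : X ⟶ Y with
n • g = L f. Equivalently, the natural map Hom_A(X, Y) ⊗_ℤ ℚ → Hom_D(L X, L Y) is an isomorphism. -/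
theorem result
    {A : Type u} [Category.{v} A] [Abelian A] {D : Type u'} [Category.{v'} D] [Preadditive D]
    (P : ObjectProperty A) (hP : ∀ X : A, P X ↔ ∃ n : ℤ, n ≠ 0 ∧ n • (𝟙 X) = 0) [P.IsSerreClass]
    (L : A ⥤ D) [L.Additive] [L.IsLocalization P.isoModSerre] (X Y : A) :
    (∀ n : ℤ, n ≠ 0 → Function.Bijective (fun g : L.obj X ⟶ L.obj Y => n • g)) ∧
    (∀ f : X ⟶ Y, L.map f = 0 ↔ ∃ n : ℤ, n ≠ 0 ∧ n • f = 0) ∧
    (∀ g : L.obj X ⟶ L.obj Y, ∃ (n : ℤ) (f : X ⟶ Y), n ≠ 0 ∧ n • g = L.map f) := by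
  have hker : ∀ {U V : A} (f : U ⟶ V) (n : ℤ), n • f = 0 ↔ n • 𝟙 (Abelian.image f) = 0 := fun {U V} f n => by
    constructor
    · intro h
      rw [← cancel_mono (Abelian.image.ι f), ← cancel_epi (Abelian.factorThruImage f)]
      simpa [Preadditive.zsmul_comp, Preadditive.comp_zsmul] using h
    · intro h
      calc n • f = Abelian.factorThruImage f ≫ (n • 𝟙 (Abelian.image f)) ≫ Abelian.image.ι f := by
            simp [Preadditive.zsmul_comp, Preadditive.comp_zsmul]
        _ = 0 := by simp [h]
  have hn : ∀ (n : ℤ), n ≠ 0 → ∀ U : A, P.isoModSerre (n • 𝟙 U) := fun n hn U => by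
    refine ⟨(hP _).2 ⟨n, hn, ?_⟩, (hP _).2 ⟨n, hn, ?_⟩⟩
    · rw [← cancel_mono (kernel.ι (n • 𝟙 U))]
      have h := kernel.condition (n • 𝟙 U)
      simp only [Preadditive.comp_zsmul, Category.comp_id] at h
      simpa [Preadditive.zsmul_comp] using h
    · rw [← cancel_epi (cokernel.π (n • 𝟙 U))]
      have h := cokernel.condition (n • 𝟙 U)
      simp only [Preadditive.zsmul_comp, Category.id_comp] at h
      simpa [Preadditive.comp_zsmul] using h
  refine ⟨fun n hn0 => ?_, fun f => ?_, fun g => ?_⟩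
  · haveI := Localization.inverts L P.isoModSerre _ (hn n hn0 Y)
    have h : (fun g : L.obj X ⟶ L.obj Y => n • g) = fun g => g ≫ L.map (n • 𝟙 Y) := funext fun g => by
      simp [Functor.map_zsmul, Preadditive.comp_zsmul]
    rw [h]
    exact ⟨fun a b hab => (cancel_mono (L.map (n • 𝟙 Y))).1 hab, fun b => ⟨b ≫ inv (L.map (n • 𝟙 Y)), by simp⟩⟩
  · rw [ObjectProperty.SerreClassLocalization.map_eq_zero_iff L P f, hP]
    exact exists_congr fun n => and_congr_right fun _ => (hker f n).symm
  · obtain ⟨φ, hφ⟩ := Localization.exists_leftFraction L P.isoModSerre g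
    obtain ⟨⟨a, ha, ha'⟩, ⟨b, hb, hb'⟩⟩ := And.intro ((hP _).1 φ.hs.1) ((hP _).1 φ.hs.2)
    have h₁ : kernel.ι φ.s ≫ (a • 𝟙 Y) = 0 := by
      calc kernel.ι φ.s ≫ (a • 𝟙 Y) = (a • 𝟙 (kernel φ.s)) ≫ kernel.ι φ.s := by
            simp [Preadditive.zsmul_comp, Preadditive.comp_zsmul]
        _ = 0 := by simp [ha']
    have h₂ : (b • 𝟙 φ.Y') ≫ cokernel.π φ.s = 0 := by
      calc (b • 𝟙 φ.Y') ≫ cokernel.π φ.s = cokernel.π φ.s ≫ (b • 𝟙 (cokernel φ.s)) := by
            simp [Preadditive.zsmul_comp, Preadditive.comp_zsmul]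
        _ = 0 := by simp [hb']
    let v : φ.Y' ⟶ Abelian.image φ.s := kernel.lift _ _ h₂
    let u : Abelian.image φ.s ⟶ Y := (Abelian.coimageIsoImage φ.s).inv ≫ cokernel.desc _ _ h₁
    have hv : φ.s ≫ v = b • Abelian.factorThruImage φ.s := by
      rw [← cancel_mono (Abelian.image.ι φ.s)]
      simp [v, Preadditive.zsmul_comp, Preadditive.comp_zsmul]
    have hu : Abelian.factorThruImage φ.s ≫ u = a • 𝟙 Y := by
      have h : Abelian.coimage.π φ.s ≫ (Abelian.coimageIsoImage φ.s).hom = Abelian.factorThruImage φ.s := by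
        rw [← cancel_mono (Abelian.image.ι φ.s)]
        simp
      rw [← h]
      simp [u]
    refine ⟨b * a, φ.f ≫ v ≫ u, mul_ne_zero hb ha, ?_⟩
    have e := congrArg (· ≫ L.map φ.s) hφ
    simp only [MorphismProperty.LeftFraction.map_comp_map_s] at e
    calc (b * a) • g = g ≫ L.map (φ.s ≫ v ≫ u) := by
          rw [← Category.assoc, hv, Preadditive.zsmul_comp, hu, ← mul_smul, Functor.map_zsmul, L.map_id,
            Preadditive.comp_zsmul, Category.comp_id]
      _ = L.map (φ.f ≫ v ≫ u) := by rw [L.map_comp, ← Category.assoc, e, ← L.map_comp]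

end Groth.Agent.S19244
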