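import Groth.Statements.S19248
import Groth.Agent.EtModAb.ProperBC
-- import your own Groth.Agent.* helpers here

set_option autoImplicit false
universe u
open CategoryTheory CategoryTheory.Limits AlgebraicGeometry Opposite
attribute [local instance] HasDerivedCategory.standard
open EtBC

namespace Groth.Agent.S19248
open Groth.Agent
set_option backward.isDefEq.respectTransparency.types false

/-- Let X' = X ×_S S' be a cartesian square of schemes with f : X ⟶ S proper, projections f' : X' ⟶ S'
and g' : X' ⟶ X over g : S' ⟶ S, let Λ be a commutative ring of positive characteristic (some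
positive integer vanishes in Λ), and let K be any object of the unbounded derived category of
sheaves of Λ-modules on the small etale site of X. Then the base change morphism g^* Rf_* K ⟶ Rf'_*
g'^* K in D(S'_et, Λ) is an isomorphism. Here Rf_*, Rf'_*, Rg_* are the unbounded total right
derived functors (their existence and the left exactness of g^*, g'^* are instance hypotheses) and
the morphism is the transpose, under an adjunction g^* ⊣ Rg_* of the derived functors given as data,
of Rf_* K ⟶ Rg_* Rf'_* g'^* K; no boundedness, torsion-degree or Noetherian hypothesis is imposed. -/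
theorem result {X S X' S' : Scheme.{u}} (f : X ⟶ S) (g : S' ⟶ S)
    (f' : X' ⟶ S') (g' : X' ⟶ X) (h : IsPullback g' f' f g) [IsProper f]
    (Λ : Type (u + 1)) [CommRing Λ] (n : ℕ) (hn : 0 < n) (hΛ : (n : Λ) = 0)
    [PreservesFiniteLimits (EtModW.pull Λ g)] [PreservesFiniteLimits (EtModW.pull Λ g')]
    [EtBC.HasRpushMod Λ f] [EtBC.HasRpushMod Λ f'] [EtBC.HasRpushMod Λ g]
    (adj : EtBC.pullModD Λ g ⊣ EtBC.RpushModD Λ g) (K : EtModD.D Λ X) :
    IsIso (EtBC.bcMapModD Λ f g f' g' h.w adj K) := EtModAb.isIso_bcMapModD_proper Λ f g f' g' h hn hΛ adj K

end Groth.Agent.S19248
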