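import Groth.Statements.S19256
import Groth.Agent.PadicLef11.Five
import Groth.Agent.PadicLef11.Ample

set_option autoImplicit false
universe u
open CategoryTheory CategoryTheory.Limits AlgebraicGeometry
open EtCoh

namespace Groth.Agent.S19256

/-- In the case q = 0 (constant p-torsion coefficients), let k be a field of characteristic p > 0 whose
Frobenius endomorphism is finite (an F-finite field), X a scheme smooth and proper over k of
relative dimension N, and 𝓘 a quasi-coherent ideal of X whose ideal module is invertible with an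
ample tensor-inverse L, such that the closed subscheme Y defined by 𝓘 is smooth over k (a smooth
ample effective Cartier divisor, such as a smooth hypersurface section for a projective embedding).
Assume H^i(X, 𝓘^{⊗ n}) = 0 for all n ≥ 1 and all i ≤ N - 1. Then for every m ≥ 1 the restriction map
H^i_et(X, Z/p^m) → H^i_et(Y, Z/p^m) along the closed immersion Y → X is bijective for i ≤ N - 2 and
injective for i = N - 1. (The logarithmic Hodge–Witt sheaf of degree zero is the constant sheaf
Z/p^m; the source asks for the vanishing of H^i(X, Ω^q_X(-nY)) for all i + q ≤ N - 1 with Ω the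
absolute differentials, of which the degree-zero statement uses only the part q = 0. Exactness of
pullback of abelian étale sheaves is carried as an instance hypothesis.) -/
theorem result
    (k : Type u) [Field k] (p : ℕ) [Fact p.Prime] [CharP k p] (hF : (frobenius k p).Finite)
    (X : Scheme.{u}) (f : X ⟶ Spec (CommRingCat.of k)) [IsProper f] (N : ℕ) [SmoothOfRelativeDimension N f]
    (𝓘 : X.IdealSheafData) (L : X.Modules) (hL : ClSub.IsInverseOf L (ClSub.idealMod 𝓘)) (hamp : CohB1.IsAmple L)
    [Smooth (𝓘.subschemeι ≫ f)]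
    (hvan : ∀ n i : ℕ, 1 ≤ n → i + 1 ≤ N → Subsingleton (Coh.HH X (CohB1.tensorPow (ClSub.idealMod 𝓘) n) i))
    (m : ℕ) (hm : 1 ≤ m) [PreservesFiniteLimits (EtCoh.pull 𝓘.subschemeι)] :
    (∀ i : ℕ, i + 2 ≤ N → Function.Bijective (EtCore.Hpull 𝓘.subschemeι (EtCoh.const X (ZMod (p ^ m))) i)) ∧
    (∀ i : ℕ, i + 1 = N → Function.Injective (EtCore.Hpull 𝓘.subschemeι (EtCoh.const X (ZMod (p ^ m))) i)) := by
  obtain _ | d := N
  · exact ⟨fun i hi => absurd hi (by omega), fun i hi => absurd hi (by omega)⟩
  let ι := 𝓘.subschemeι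
  have hk : (p : Γ(Spec (CommRingCat.of k), ⊤)) = 0 := by
    have := congrArg (Scheme.ΓSpecIso (CommRingCat.of k)).inv.hom (CharP.cast_eq_zero k p)
    rwa [map_natCast, map_zero] at this
  have hX : (p : Γ(X, ⊤)) = 0 := by
    have := congrArg f.appTop.hom hk
    rwa [map_natCast, map_zero] at this
  have hY : (p : Γ(𝓘.subscheme, ⊤)) = 0 := by
    have := congrArg ι.appTop.hom hX
    rwa [map_natCast, map_zero] at this
  have hI : ∀ q, q ≤ d → Subsingleton (Coh.HH X (ClSub.idealMod 𝓘) q) := fun q hq =>
    Groth.Agent.QCoh.subsingleton_HH_of_iso (CurveTensor.structureTensorIso (ClSub.idealMod 𝓘)) q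
      (hvan 1 q le_rfl (by omega))
  have h := PadicLef11.Hpull_const_zmod_of_aq ι p hX hY d
    (fun q hq => PadicLef11.aq_injective 𝓘 q (hI q hq)) (fun q hq => PadicLef11.aq_surjective 𝓘 q (hI (q + 1) hq))
  obtain _ | e := d
  · refine ⟨fun i hi => absurd hi (by omega), fun i hi => ?_⟩
    obtain rfl : i = 0 := by omega
    exact PadicLef11.injective_zmod_pow_zero ι p (Fact.out : p.Prime).ne_zero (h.2 0 le_rfl) m hm
  · have hg := PadicLef11.good_zmod_pow ι p (Fact.out : p.Prime).ne_zero e
      ⟨fun q hq => h.1 q (by omega), h.2 (e + 1) le_rfl⟩ m hm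
    refine ⟨fun i hi => hg.1 i (by omega), fun i hi => ?_⟩
    obtain rfl : i = e + 1 := by omega
    exact hg.2

end Groth.Agent.S19256
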