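import Groth.Statements.S19258
import Mathlib


set_option autoImplicit false
universe u
open PontDual

namespace Groth.Agent.S19258

/-- Let G and G' be abelian groups such that every element of G' has finite order, and let β : G' →
Hom(G, ℚ/ℤ) be an injective homomorphism (equivalently a pairing G' × G → ℚ/ℤ with no left kernel).
Endow G with the weak topology defined by G': the coarsest topology for which every character β(f),
f ∈ G', is continuous when ℚ/ℤ carries the discrete topology. Then every homomorphism χ : G → ℚ/ℤ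
that is continuous for this topology on G and the discrete topology on ℚ/ℤ equals β(f) for some f ∈
G', so that β is a bijection from G' onto the group of continuous characters of G. -/
theorem result
    (G : Type u) (G' : Type u) [AddCommGroup G] [AddCommGroup G'] (hG' : IsAddTorsion G')
    (β : G' →+ (G →+ AddCircle (1 : ℚ))) (hβ : Function.Injective β)
    (χ : G →+ AddCircle (1 : ℚ))
    (hχ : @Continuous G (AddCircle (1 : ℚ)) (⨅ f' : G', TopologicalSpace.induced (fun x : G => β f' x) ⊥) ⊥ χ) :
    ∃ f' : G', β f' = χ := by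
  classical
  have tors : ∀ (d : ℕ), 0 < d → {u : AddCircle (1 : ℚ) | d • u = 0}.Finite ∧
      {u : AddCircle (1 : ℚ) | d • u = 0}.ncard ≤ d := by
    intro d hd
    have hsub : {u : AddCircle (1 : ℚ) | d • u = 0} ⊆ (fun n : ℕ => (((n : ℚ) / d * 1 : ℚ) : AddCircle (1 : ℚ))) '' Set.Iio d := by
      intro u hu
      obtain ⟨n, hn, rfl⟩ := (AddCircle.nsmul_eq_zero_iff hd).mp hu
      exact ⟨n, hn, rfl⟩
    refine ⟨((Set.finite_Iio d).image _).subset hsub, ?_⟩
    refine (Set.ncard_le_ncard hsub ((Set.finite_Iio d).image _)).trans ((Set.ncard_image_le (Set.finite_Iio d)).trans ?_)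
    rw [← Finset.coe_range, Set.ncard_coe_finset, Finset.card_range]
  have main : ∀ (l : List G') (K : AddSubgroup G) (ψ : G →+ AddCircle (1 : ℚ)),
      (∀ x ∈ K, (∀ f ∈ l, β f x = 0) → ψ x = 0) → ∃ g : G', ∀ x ∈ K, β g x = ψ x := by
    intro l
    induction l with
    | nil => exact fun K ψ h => ⟨0, fun x hx => by rw [h x hx (by simp)]; simp⟩
    | cons f l ih =>
      intro K ψ h
      obtain ⟨g, hg⟩ := ih (K ⊓ (β f).ker) ψ (fun x hx hl => h x hx.1 (by
        intro f' hf'
        rcases List.mem_cons.mp hf' with rfl | hf'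
        · exact hx.2
        · exact hl f' hf'))
      obtain ⟨n, hn, hnf⟩ := isOfFinAddOrder_iff_nsmul_eq_zero.mp (hG' f)
      have hle : K.map (β f) ≤ AddSubgroup.zmultiples ((((1 : ℚ) / n : ℚ)) : AddCircle (1 : ℚ)) := by
        rintro _ ⟨x, -, rfl⟩
        have h0 : n • β f x = 0 := by
          have := DFunLike.congr_fun (congrArg β hnf) x
          simpa using this
        obtain ⟨k, -, hk⟩ := (AddCircle.nsmul_eq_zero_iff hn).mp h0
        refine AddSubgroup.mem_zmultiples_iff.mpr ⟨k, ?_⟩
        rw [← hk, natCast_zsmul, ← AddCircle.coe_nsmul, nsmul_eq_mul]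
        congr 1; ring
      haveI : IsAddCyclic (K.map (β f)) :=
        isAddCyclic_of_injective (AddSubgroup.inclusion hle) (AddSubgroup.inclusion_injective hle)
      obtain ⟨⟨a, x₀, hx₀, hax⟩, ha⟩ := IsAddCyclic.exists_generator (α := K.map (β f))
      have hd : 0 < addOrderOf a := addOrderOf_pos_iff.mpr (isOfFinAddOrder_iff_nsmul_eq_zero.mpr ⟨n, hn, by
        rw [← hax]; simpa using DFunLike.congr_fun (congrArg β hnf) x₀⟩)
      have hb : addOrderOf a • (ψ x₀ - β g x₀) = 0 := by
        rw [smul_sub, ← map_nsmul, ← map_nsmul, sub_eq_zero]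
        refine (hg _ ⟨K.nsmul_mem hx₀ _, ?_⟩).symm
        show β f (addOrderOf a • x₀) = 0
        rw [map_nsmul, hax, addOrderOf_nsmul_eq_zero]
      have hset : (AddSubgroup.zmultiples a : Set (AddCircle (1 : ℚ))) = {u | addOrderOf a • u = 0} := by
        obtain ⟨hfin, hcard⟩ := tors _ hd
        refine Set.eq_of_subset_of_ncard_le ?_ ?_ hfin
        · rintro u ⟨k, rfl⟩
          show addOrderOf a • k • a = 0
          rw [smul_comm, addOrderOf_nsmul_eq_zero, smul_zero]
        · refine hcard.trans (le_of_eq ?_)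
          rw [← Nat.card_coe_set_eq]
          exact (Nat.card_zmultiples a).symm
      have hbm : ψ x₀ - β g x₀ ∈ AddSubgroup.zmultiples a := by
        rw [← SetLike.mem_coe, hset]; exact hb
      obtain ⟨k, hk⟩ := AddSubgroup.mem_zmultiples_iff.mp hbm
      refine ⟨g + k • f, fun x hx => ?_⟩
      obtain ⟨j, hj⟩ := AddSubgroup.mem_zmultiples_iff.mp (ha ⟨β f x, x, hx, rfl⟩)
      have hj' : j • a = β f x := congrArg Subtype.val hj
      have h9 := hg (x - j • x₀) ⟨K.sub_mem hx (K.zsmul_mem hx₀ j), by
        show β f (x - j • x₀) = 0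
        rw [map_sub, map_zsmul, hax, hj', sub_self]⟩
      simp only [map_sub, map_zsmul] at h9
      simp only [map_add, map_zsmul, AddMonoidHom.add_apply, AddMonoidHom.smul_apply]
      rw [← hj', smul_comm k j, hk, smul_sub]
      linear_combination (norm := abel) h9
  have hop : @IsOpen G (⨅ f' : G', TopologicalSpace.induced (fun x : G => β f' x) ⊥) (χ ⁻¹' {0}) :=
    @Continuous.isOpen_preimage G (AddCircle (1 : ℚ)) (⨅ f' : G', TopologicalSpace.induced (fun x : G => β f' x) ⊥) ⊥ _ hχ _ trivial
  letI T : TopologicalSpace G := ⨅ f' : G', TopologicalSpace.induced (fun x : G => β f' x) ⊥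
  have hn : χ ⁻¹' {0} ∈ nhds (0 : G) := hop.mem_nhds (map_zero χ)
  rw [nhds_iInf, Filter.mem_iInf] at hn
  obtain ⟨I, hI, V, hV, hVeq⟩ := hn
  obtain ⟨g, hg⟩ := main hI.toFinset.toList ⊤ χ (fun x _ hx => by
    have : x ∈ ⋂ i, V i := by
      refine Set.mem_iInter.mpr fun i => ?_
      have hi := hV i
      rw [@nhds_induced _ _ ⊥, @nhds_discrete (AddCircle (1 : ℚ)) ⊥ (@DiscreteTopology.mk _ ⊥ rfl), Filter.mem_comap] at hi
      obtain ⟨t, ht, hts⟩ := hi
      refine hts ?_
      show β i x ∈ t
      rw [hx i (by simp), ← map_zero (β i)]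
      exact Filter.mem_pure.mp ht
    rw [← hVeq] at this
    exact this)
  exact ⟨g, AddMonoidHom.ext fun x => hg x trivial⟩


end Groth.Agent.S19258
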