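import Groth.Statements.S19261
import Groth.Agent.PadicLef11.CI

set_option autoImplicit false
universe u
open CategoryTheory CategoryTheory.Limits AlgebraicGeometry
open EtCoh

namespace Groth.Agent.S19261

/-- In the case q = 0 (constant p-torsion coefficients), let k be a field of characteristic p > 0 whose
Frobenius endomorphism is finite, c ≤ N, and G_1, …, G_c homogeneous forms of positive degrees in
the homogeneous coordinates of P = P^N_k such that for every s ≤ c the common zero scheme V(G_1, …,
G_s) is smooth over k of relative dimension N - s (a flag of smooth complete intersections ending in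
Y = V(G_1, …, G_c), of dimension d = N - c). Then for every m ≥ 1 the restriction map H^i_et(P,
Z/p^m) → H^i_et(Y, Z/p^m) along Y → P is bijective for all i ≤ d - 1. (The logarithmic Hodge–Witt
sheaf of degree zero is the constant sheaf Z/p^m; the source speaks of a smooth complete
intersection and argues through such a flag. Exactness of pullback of abelian étale sheaves is
carried as an instance hypothesis.) -/
theorem result
    (k : Type u) [Field k] (p : ℕ) [Fact p.Prime] [CharP k p] (hF : (frobenius k p).Finite)
    (N c : ℕ) (hc : c ≤ N) (a : Fin c → ℕ) (ha : ∀ j, 1 ≤ a j) (G : ∀ j : Fin c, LefPen.Form N k (a j))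
    (hflag : ∀ (s : ℕ) (hs : s ≤ c), SmoothOfRelativeDimension (N - s)
      ((LefPen.ciIdeal (fun j : Fin s => G (Fin.castLE hs j))).subschemeι ≫ CohB1.ProjSpace.toSpec N k))
    (m : ℕ) (hm : 1 ≤ m) [PreservesFiniteLimits (EtCoh.pull (LefPen.ciIdeal G).subschemeι)]
    (i : ℕ) (hi : i + c + 1 ≤ N) :
    Function.Bijective (EtCore.Hpull (LefPen.ciIdeal G).subschemeι (EtCoh.const (CohB1.ProjSpace N k) (ZMod (p ^ m))) i) := by
  haveI : SmoothOfRelativeDimension (N - c) ((LefPen.ciIdeal G).subschemeι ≫ CohB1.ProjSpace.toSpec N k) :=
    hflag c le_rfl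
  have h := PadicLef11.good_zmod_pow (LefPen.ciIdeal G).subschemeι p (Fact.out : p.Prime).ne_zero (N - c - 1)
    (PadicLef11.good_ci G p (by omega) ha) m hm
  exact h.1 i (by omega)

end Groth.Agent.S19261
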