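import Groth.Statements.S19269
import Mathlib

set_option autoImplicit false
universe u
open CAlg

namespace Groth.Agent.S19269

open IsLocalRing in
/-- Let R be a Noetherian local ring with maximal ideal 𝔪, M a finitely generated R-module and M^ its
𝔪-adic completion, a module over the 𝔪-adic completion R^ of R. Let N' be an R^-submodule of M^ and
N an R-submodule of M whose image in M^ is contained in N' and is dense in N' for the 𝔪-adic
topology, in the sense that for every y in N' and every k there is x in N with y ≡ x modulo the
kernel of M^ → M/𝔪^k M. Then N' equals the image of the completion of N under the map induced by the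
inclusion N → M (so N' is the completion of N), and N is the set of elements of M whose image in M^
lies in N'. -/
theorem result {R : Type u} [CommRing R]
    [IsNoetherianRing R] [IsLocalRing R] {M : Type u} [AddCommGroup M] [Module R M]
    [Module.Finite R M] (N : Submodule R M)
    (N' : Submodule (AdicCompletion (maximalIdeal R) R) (AdicCompletion (maximalIdeal R) M))
    (hle : ∀ x ∈ N, AdicCompletion.of (maximalIdeal R) M x ∈ N')
    (hdense : ∀ y ∈ N', ∀ k : ℕ, ∃ x ∈ N,
      AdicCompletion.eval (maximalIdeal R) M k y = Submodule.Quotient.mk x) :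
    (N'.restrictScalars R =
        (LinearMap.range (AdicCompletion.map (maximalIdeal R) N.subtype)).restrictScalars R) ∧
      (∀ x : M, x ∈ N ↔ AdicCompletion.of (maximalIdeal R) M x ∈ N') := by
  classical
  let 𝔪 := maximalIdeal R
  have hker : ∀ y ∈ N', AdicCompletion.map 𝔪 N.mkQ y = 0 := fun y hy => AdicCompletion.ext fun k => by
    obtain ⟨x, hx, he⟩ := hdense y hy k
    rw [AdicCompletion.map_val_apply, AdicCompletion.val_zero_apply, show y.val k = Submodule.Quotient.mk x from he]
    show Submodule.Quotient.mk (N.mkQ x) = 0
    rw [Submodule.mkQ_apply, (Submodule.Quotient.mk_eq_zero N).2 hx, Submodule.Quotient.mk_zero]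
  refine ⟨le_antisymm (fun y hy => ?_) ?_, fun x => ⟨hle x, fun hx => ?_⟩⟩
  · exact (AdicCompletion.map_exact (I := 𝔪) (f := N.subtype) (g := N.mkQ) N.injective_subtype
      (LinearMap.exact_subtype_mkQ N) N.mkQ_surjective y).1 (hker y hy)
  · rintro _ ⟨η, rfl⟩
    obtain ⟨t, rfl⟩ := AdicCompletion.ofTensorProduct_surjective_of_finite 𝔪 N η
    induction t using TensorProduct.induction_on with
    | zero => simp
    | tmul r n =>
      rw [AdicCompletion.ofTensorProduct_tmul, map_smul, AdicCompletion.map_of]
      exact N'.smul_mem r (hle n n.2)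
    | add a b ha hb => rw [map_add, map_add]; exact add_mem ha hb
  · have h1 := hker _ hx
    rw [AdicCompletion.map_of] at h1
    have h2 : N.mkQ x ∈ (⨅ i : ℕ, 𝔪 ^ i • ⊤ : Submodule R (M ⧸ N)) := by
      rw [Submodule.mem_iInf]
      intro k
      have := congrArg (AdicCompletion.eval 𝔪 (M ⧸ N) k) h1
      rw [AdicCompletion.eval_of, map_zero] at this
      exact (Submodule.Quotient.mk_eq_zero _).1 this
    rw [Ideal.iInf_pow_smul_eq_bot_of_isLocalRing _ (IsLocalRing.maximalIdeal.isMaximal R).ne_top, Submodule.mem_bot,
      Submodule.mkQ_apply, Submodule.Quotient.mk_eq_zero] at h2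
    exact h2

end Groth.Agent.S19269
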