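import Groth.Statements.S19270
import Mathlib.RingTheory.Smooth.Kaehler
import Mathlib.RingTheory.LocalRing.Module
import Mathlib.RingTheory.RegularLocalRing.Defs
import Mathlib.Algebra.CharP.Algebra
import Groth.Agent.CoeffField.Smooth

set_option autoImplicit false
universe u
open CAlg

namespace Groth.Agent.S19270

open IsLocalRing TensorProduct

theorem mem_maximal_of_sum_mem_sq {A : Type u} [CommRing A] [IsRegularLocalRing A] {N : ℕ} (x : Fin N → A)
    (hx : Ideal.span (Set.range x) = maximalIdeal A) (hN : ringKrullDim A = (N : WithBot ℕ∞)) (a : Fin N → A)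
    (ha : ∑ i, a i * x i ∈ maximalIdeal A ^ 2) (j : Fin N) : a j ∈ maximalIdeal A := by
  classical
  by_contra hj
  have hu : IsUnit (a j) := by simpa using hj
  have hle : maximalIdeal A ≤ Ideal.span (x '' {i | i ≠ j}) := by
    refine Submodule.le_of_le_smul_of_le_jacobson_bot (maximalIdeal A).fg_of_isNoetherianRing
      (IsLocalRing.maximalIdeal_le_jacobson _) ?_
    rw [smul_eq_mul, ← sq]
    refine hx.ge.trans (Ideal.span_le.2 ?_)
    rintro _ ⟨i, rfl⟩
    by_cases hij : i = j
    · subst hij
      have h : a i * x i = (∑ k, a k * x k) - ∑ k ∈ Finset.univ.erase i, a k * x k := by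
        rw [← Finset.add_sum_erase _ _ (Finset.mem_univ i)]; ring
      refine (Ideal.unit_mul_mem_iff_mem _ hu).1 ?_
      rw [h]
      exact Ideal.sub_mem _ (Ideal.mem_sup_right ha) (Ideal.mem_sup_left (Ideal.sum_mem _ fun k hk =>
        Ideal.mul_mem_left _ _ (Ideal.subset_span ⟨k, Finset.ne_of_mem_erase hk, rfl⟩)))
    · exact Ideal.mem_sup_left (Ideal.subset_span ⟨i, hij, rfl⟩)
  have heq : Ideal.span (x '' {i | i ≠ j}) = maximalIdeal A :=
    le_antisymm (Ideal.span_le.2 (by rintro _ ⟨i, -, rfl⟩; exact hx ▸ Ideal.subset_span ⟨i, rfl⟩)) hle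
  have h1 : (maximalIdeal A).spanFinrank ≤ (x '' {i | i ≠ j}).ncard := by
    rw [← heq]
    exact Submodule.spanFinrank_span_le_ncard_of_finite (Set.toFinite _)
  have h2 : (x '' {i | i ≠ j}).ncard ≤ N - 1 := by
    refine (Set.ncard_image_le (Set.toFinite _)).trans ?_
    rw [Set.ncard_eq_toFinset_card', Set.toFinset_setOf, Finset.filter_ne', Finset.card_erase_of_mem (Finset.mem_univ _),
      Finset.card_univ, Fintype.card_fin]
  have h3 := (isRegularLocalRing_iff A).mp inferInstance
  rw [hN] at h3
  have h4 : (maximalIdeal A).spanFinrank = N := by exact_mod_cast h3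
  have := j.2
  omega

theorem linearIndependent_dx (p : ℕ) [Fact p.Prime] {A : Type u} [CommRing A] [IsRegularLocalRing A] [CharP A p]
    {N : ℕ} (x : Fin N → A) (hx : Ideal.span (Set.range x) = maximalIdeal A) (hN : ringKrullDim A = (N : WithBot ℕ∞)) :
    LinearIndependent (ResidueField A)
      (fun i => (1 : ResidueField A) ⊗ₜ[A] KaehlerDifferential.D ℤ A (x i)) := by
  letI : Algebra (ZMod p) A := ZMod.algebra A p
  haveI := CoeffField.formallySmooth_of_perfectField (ZMod p) (ResidueField A)
  have hsurj : Function.Surjective (algebraMap A (ResidueField A)) := residue_surjective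
  obtain ⟨g, hg⟩ : ∃ g : ResidueField A →ₐ[ZMod p] A ⧸ RingHom.ker (IsScalarTower.toAlgHom (ZMod p) A (ResidueField A)).toRingHom ^ 2,
      (IsScalarTower.toAlgHom (ZMod p) A (ResidueField A)).kerSquareLift.comp g = AlgHom.id _ _ := by
    have h1 : Function.Surjective (IsScalarTower.toAlgHom (ZMod p) A (ResidueField A)).kerSquareLift :=
      fun y => ⟨Ideal.Quotient.mk _ (hsurj y).choose, (hsurj y).choose_spec⟩
    have h2 : IsNilpotent (RingHom.ker (IsScalarTower.toAlgHom (ZMod p) A (ResidueField A)).kerSquareLift.toRingHom) := by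
      refine ⟨2, ?_⟩
      show RingHom.ker (IsScalarTower.toAlgHom (ZMod p) A (ResidueField A)).kerSquareLift.toRingHom ^ 2 = 0
      rw [AlgHom.ker_kerSquareLift, Ideal.cotangentIdeal_square, Ideal.zero_eq_bot]
    exact ⟨Algebra.FormallySmooth.liftOfSurjective (AlgHom.id _ _) _ h1 h2,
      Algebra.FormallySmooth.comp_liftOfSurjective _ _ h1 h2⟩
  obtain ⟨l, hl⟩ := (retractionKerCotangentToTensorEquivSection (R := ZMod p) (P := A) (S := ResidueField A) hsurj).symm ⟨g, hg⟩
  have hinj : Function.Injective (KaehlerDifferential.kerCotangentToTensor (ZMod p) A (ResidueField A)) :=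
    Function.LeftInverse.injective (g := l) (LinearMap.congr_fun hl)
  refine LinearIndependent.of_comp ((KaehlerDifferential.map ℤ (ZMod p) A A).baseChange (ResidueField A)) ?_
  rw [Fintype.linearIndependent_iff]
  intro c hc j
  choose a ha using fun i => hsurj (c i)
  have hker : RingHom.ker (algebraMap A (ResidueField A)) = maximalIdeal A := IsLocalRing.ker_residue
  have hmem : ∑ i, a i * x i ∈ RingHom.ker (algebraMap A (ResidueField A)) := by
    rw [hker]
    exact Ideal.sum_mem _ fun i _ => Ideal.mul_mem_left _ _ (hx ▸ Ideal.subset_span ⟨i, rfl⟩)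
  have h0 : KaehlerDifferential.kerCotangentToTensor (ZMod p) A (ResidueField A) (Ideal.toCotangent _ ⟨_, hmem⟩) = 0 := by
    rw [← hc]
    show (1 : ResidueField A) ⊗ₜ[A] KaehlerDifferential.D (ZMod p) A (∑ i, a i * x i) = _
    rw [map_sum, TensorProduct.tmul_sum]
    refine Finset.sum_congr rfl fun i _ => ?_
    have hxi : algebraMap A (ResidueField A) (x i) = 0 :=
      RingHom.mem_ker.1 (hker ▸ hx ▸ Ideal.subset_span ⟨i, rfl⟩)
    rw [Derivation.leibniz, TensorProduct.tmul_add, TensorProduct.tmul_smul, TensorProduct.tmul_smul,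
      TensorProduct.smul_tmul', TensorProduct.smul_tmul']
    simp only [Function.comp_apply, LinearMap.baseChange_tmul, KaehlerDifferential.map_D, Algebra.algebraMap_self_apply]
    rw [TensorProduct.smul_tmul', smul_eq_mul, Algebra.smul_def, Algebra.smul_def, hxi, ha]
    simp
  have h1 := hinj (h0.trans (map_zero _).symm)
  rw [Ideal.toCotangent_eq_zero] at h1
  replace h1 : ∑ i, a i * x i ∈ maximalIdeal A ^ 2 := hker ▸ h1
  refine (ha j).symm.trans (RingHom.mem_ker.1 ?_)
  rw [hker]
  exact mem_maximal_of_sum_mem_sq x hx hN a h1 j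

open IsLocalRing in
/-- Let A be a regular local ring of prime characteristic p, of Krull dimension N, with maximal ideal
generated by x_1, …, x_N, and assume that the module Ω_A of absolute Kähler differentials of A
(differentials relative to ℤ, equivalently relative to the prime field) is a free A-module of finite
rank. Then dx_1, …, dx_N are part of a basis of Ω_A: there exist a basis b of Ω_A and an injection e
of the indices 1, …, N into the index type of b with b (e i) = d(x_i) for all i. (In the published
statement A is a regular local F-finite algebra over the prime field and the freeness and finiteness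
of Ω_A form the first assertion, taken there from the literature; here they are hypotheses.) -/
theorem result (p : ℕ) [Fact p.Prime]
    {A : Type u} [CommRing A] [IsRegularLocalRing A] [CharP A p]
    [Module.Free A (KaehlerDifferential ℤ A)] [Module.Finite A (KaehlerDifferential ℤ A)]
    {N : ℕ} (x : Fin N → A) (hx : Ideal.span (Set.range x) = maximalIdeal A)
    (hN : ringKrullDim A = (N : WithBot ℕ∞)) :
    ∃ (ι : Type u) (b : Module.Basis ι A (KaehlerDifferential ℤ A)) (e : Fin N ↪ ι),
      ∀ i : Fin N, b (e i) = KaehlerDifferential.D ℤ A (x i) := by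
  classical
  let v : Fin N → ResidueField A ⊗[A] KaehlerDifferential ℤ A :=
    fun i => (1 : ResidueField A) ⊗ₜ[A] KaehlerDifferential.D ℤ A (x i)
  have hv := linearIndependent_dx p x hx hN
  have hv' : LinearIndepOn (ResidueField A) id (Set.range v) := hv.linearIndepOn_id
  let S : Set (ResidueField A ⊗[A] KaehlerDifferential ℤ A) := Set.range fun y => (1 : ResidueField A) ⊗ₜ[A] y
  have hvS : Set.range v ⊆ S := by rintro _ ⟨i, rfl⟩; exact ⟨_, rfl⟩
  let B := hv'.extend hvS
  have hBS : B ⊆ S := hv'.extend_subset hvS
  have hBv : Set.range v ⊆ B := hv'.subset_extend hvS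
  have hBli : LinearIndepOn (ResidueField A) id B := hv'.linearIndepOn_extend hvS
  have hSspan : Submodule.span (ResidueField A) S = ⊤ := by
    rw [eq_top_iff]
    rintro z -
    induction z using TensorProduct.induction_on with
    | zero => exact Submodule.zero_mem _
    | add a b ha hb => exact Submodule.add_mem _ ha hb
    | tmul c y =>
      rw [show c ⊗ₜ[A] y = c • ((1 : ResidueField A) ⊗ₜ[A] y) by rw [TensorProduct.smul_tmul', smul_eq_mul, mul_one]]
      exact Submodule.smul_mem _ _ (Submodule.subset_span ⟨y, rfl⟩)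
  have hBspan : ⊤ ≤ Submodule.span (ResidueField A) (Set.range (Subtype.val : B → _)) := by
    rw [Subtype.range_coe, ← hSspan, Submodule.span_le]
    exact hv'.subset_span_extend hvS
  let bk : Module.Basis B (ResidueField A) (ResidueField A ⊗[A] KaehlerDifferential ℤ A) :=
    Module.Basis.mk hBli.linearIndependent hBspan
  let pick : B → KaehlerDifferential ℤ A := fun z =>
    if h : ∃ i, v i = z.1 then KaehlerDifferential.D ℤ A (x h.choose) else (hBS z.2).choose
  have hpick : ∀ z, (1 : ResidueField A) ⊗ₜ[A] pick z = bk z := fun z => by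
    simp only [pick, bk, Module.Basis.mk_apply]
    split
    · next h => exact h.choose_spec
    · exact (hBS z.2).choose_spec
  haveI : Fintype B := FiniteDimensional.fintypeBasisIndex bk
  have hspan : ⊤ ≤ Submodule.span A (Set.range pick) := (span_eq_top_of_tmul_eq_basis pick bk hpick).ge
  have hcard : Fintype.card B = Module.finrank A (KaehlerDifferential ℤ A) := by
    rw [← Module.finrank_eq_card_basis bk, Module.finrank_baseChange]
  let b := basisOfTopLeSpanOfCardEqFinrank pick hspan hcard
  have hinjv : Function.Injective v := hv.injective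
  refine ⟨B, b, ⟨fun i => ⟨v i, hBv ⟨i, rfl⟩⟩, fun i j h => hinjv (congrArg Subtype.val h)⟩, fun i => ?_⟩
  show b ⟨v i, hBv ⟨i, rfl⟩⟩ = _
  have hex : ∃ j, v j = v i := ⟨i, rfl⟩
  rw [coe_basisOfTopLeSpanOfCardEqFinrank]
  simp only [pick]
  rw [dif_pos hex, hinjv hex.choose_spec]

end Groth.Agent.S19270
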