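import Groth.Statements.S19272
import Groth.Agent.WittFilLib.Fil

set_option autoImplicit false
universe u
open WittFil

namespace Groth.Agent.S19272

/-- Let A be a unique factorisation domain of characteristic p, x_1, …, x_r pairwise non-associate prime
elements of A, B = A[1/(x_1⋯x_r)] with u_i the unit of B defined by x_i, m ≥ 0, and n ∈ ℤ^r with n_i
< 0 for every i. Then every truncated p-typical Witt vector of length m over B lying in the filtered
piece cut out by ∏ u_i ^ n_i (every coordinate y_j has y_j ^ (p ^ (m−1−j)) · ∏ u_i ^ n_i in the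
image of A) has all its coordinates in the image of the ideal (x_1⋯x_r)·A. (The published item,
stated for the filtered de Rham–Witt pieces in all degrees over a regular local ring, says only that
such vectors have all coordinates in A; this row states the divisibility of every coordinate by
x_1⋯x_r that its proof establishes, in degree zero, for a unique factorisation domain in place of a
regular local ring.) -/
theorem result (p : ℕ) [Fact p.Prime] {A B : Type u} [CommRing A] [IsDomain A]
    [UniqueFactorizationMonoid A] [CharP A p] [CommRing B] [Algebra A B] {r : ℕ} (x : Fin r → A)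
    (hx : ∀ i, Prime (x i)) (hxa : ∀ i j, Associated (x i) (x j) → i = j)
    [IsLocalization.Away (∏ i, x i) B] (u : Fin r → Bˣ)
    (hu : ∀ i, (u i : B) = algebraMap A B (x i)) (m : ℕ) (n : Fin r → ℤ) (hn : ∀ i, n i < 0)
    (a : TruncatedWittVector p m B) (ha : a ∈ WittFil.fil p m (A := A) (WittFil.zmon u n))
    (j : Fin m) :
    ∃ b : A, TruncatedWittVector.coeff j a = algebraMap A B ((∏ i, x i) * b) := by
  classical
  let π := ∏ i, x i
  have hπ : π ≠ 0 := Finset.prod_ne_zero_iff.2 fun i _ => (hx i).ne_zero
  have hle : Submonoid.powers π ≤ nonZeroDivisors A := powers_le_nonZeroDivisors_of_noZeroDivisors hπ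
  have hinj : Function.Injective (algebraMap A B) := IsLocalization.injective B hle
  obtain ⟨c, hc⟩ := ha j
  obtain ⟨q, hq0, hq⟩ : ∃ q, 0 < q ∧ algebraMap A B c = TruncatedWittVector.coeff j a ^ q * WittFil.zmon u n :=
    ⟨p ^ (m - 1 - (j : ℕ)), pow_pos (Fact.out : p.Prime).pos _, hc⟩
  have hcan : WittFil.zmon u n * algebraMap A B (∏ i, x i ^ (-(n i)).toNat) = 1 := by
    rw [WittFil.zmon, map_prod, Units.coe_prod, ← Finset.prod_mul_distrib]
    refine Finset.prod_eq_one fun i _ => ?_
    rw [map_pow, ← hu, ← Units.val_pow_eq_pow_val, ← Units.val_mul, ← zpow_natCast, ← zpow_add,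
      Int.toNat_of_nonneg (by have := hn i; omega), add_neg_cancel, zpow_zero, Units.val_one]
  have hyq : algebraMap A B (c * ∏ i, x i ^ (-(n i)).toNat) = TruncatedWittVector.coeff j a ^ q := by
    rw [map_mul, hq, mul_assoc, hcan, mul_one]
  obtain ⟨b, hb⟩ := (WittFilLib.powIn_of_away (A := A) (B := B) π hπ).2 _ q hq0 ⟨_, hyq⟩
  have hbq : b ^ q = c * ∏ i, x i ^ (-(n i)).toNat := hinj (by rw [map_pow, hb, hyq])
  have hdvd : ∀ i, x i ∣ b := fun i => (hx i).dvd_of_dvd_pow (n := q) (hbq ▸
    dvd_mul_of_dvd_right (dvd_trans (dvd_pow_self _ (by have := hn i; omega))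
      (Finset.dvd_prod_of_mem (fun i => x i ^ (-(n i)).toNat) (Finset.mem_univ i))) _)
  obtain ⟨b', hb'⟩ : π ∣ b := Finset.prod_dvd_of_isRelPrime
    (fun i _ i' _ hne => (hx i).irreducible.isRelPrime_iff_not_dvd.2 fun hd =>
      hne (hxa i i' ((hx i).associated_of_dvd (hx i') hd))) fun i _ => hdvd i
  exact ⟨b', by rw [← hb', hb]⟩

end Groth.Agent.S19272
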