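import Mathlib.RingTheory.Etale.Kaehler
import Groth.Statements.S19273
-- import your own Groth.Agent.* helpers here

set_option autoImplicit false
universe u
open CAlg

namespace Groth.Agent.S19273

open KaehlerDifferential in
/-- Let A be an integral domain of prime characteristic p, x_1, …, x_N elements of A, r ≤ N, B =
A[1/(x_1⋯x_r)] with u_i the unit of B defined by x_i for i ≤ r, and suppose that the module Ω_A of
absolute Kähler differentials of A is free with a basis b indexed by {1, …, N} ⊔ ι whose i-th vector
is d(x_i) for i ≤ N. Then the module of logarithmic 1-forms — the A-submodule of Ω_B spanned by the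
image of Ω_A and the forms u_i⁻¹ · d(x_i), i ≤ r — is a free A-module: it has a basis indexed by {1,
…, N} ⊔ ι whose vector at i ≤ r is u_i⁻¹ · d(x_i), at r < i ≤ N is d(x_i), and at k ∈ ι is the image
of b_k. (In the published statement A is a regular local F-finite algebra over the prime field with
maximal ideal (x_1, …, x_N), the basis of Ω_A comes from the preceding lemma, and the assertion
covers the logarithmic q-forms for all q together with their identification with the log de Rham
complex of the log ring; only the degree-one freeness is stated here, from the properties of A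
actually used.) -/
theorem result (p : ℕ) [Fact p.Prime]
    {A B : Type u} [CommRing A] [IsDomain A] [CharP A p] [CommRing B] [Algebra A B] {r N : ℕ}
    (hr : r ≤ N) (x : Fin N → A) [IsLocalization.Away (∏ i : Fin r, x (Fin.castLE hr i)) B]
    (u : Fin r → Bˣ) (hu : ∀ i, (u i : B) = algebraMap A B (x (Fin.castLE hr i)))
    {ι : Type u} (b : Module.Basis (Fin N ⊕ ι) A (Ω[A⁄ℤ])) (hb : ∀ i, b (Sum.inl i) = D ℤ A (x i)) :
    ∃ e : Module.Basis (Fin N ⊕ ι) A
        (W4c6katofilta.logForms1 (fun i : Fin r => x (Fin.castLE hr i)) u),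
      (∀ i : Fin r, (e (Sum.inl (Fin.castLE hr i)) : Ω[B⁄ℤ]) =
          ((u i)⁻¹ : Bˣ) • KaehlerDifferential.map ℤ ℤ A B (D ℤ A (x (Fin.castLE hr i)))) ∧
      (∀ i : Fin N, r ≤ (i : ℕ) →
          (e (Sum.inl i) : Ω[B⁄ℤ]) = KaehlerDifferential.map ℤ ℤ A B (D ℤ A (x i))) ∧
      (∀ k : ι, (e (Sum.inr k) : Ω[B⁄ℤ]) = KaehlerDifferential.map ℤ ℤ A B (b (Sum.inr k))) := by
  classical
  let P := ∏ i : Fin r, x (Fin.castLE hr i)
  have hP : P ≠ 0 := by
    refine Finset.prod_ne_zero_iff.2 fun i _ h0 => ?_
    have := b.ne_zero (Sum.inl (Fin.castLE hr i))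
    rw [hb, h0, map_zero] at this
    exact this rfl
  have hinj : Function.Injective (algebraMap A B) :=
    IsLocalization.injective B (powers_le_nonZeroDivisors_of_noZeroDivisors hP)
  let φ := KaehlerDifferential.map ℤ ℤ A B
  haveI : IsLocalizedModule (Submonoid.powers P) φ := KaehlerDifferential.isLocalizedModule_map ℤ A B _
  let bB : Module.Basis (Fin N ⊕ ι) B (Ω[B⁄ℤ]) := b.ofIsLocalizedModule B (Submonoid.powers P) φ
  have hbB : ∀ i, bB i = φ (b i) := fun i => b.ofIsLocalizedModule_apply B (Submonoid.powers P) φ i
  let c : Fin N ⊕ ι → Bˣ := Sum.elim (fun i => if h : (i : ℕ) < r then (u ⟨i, h⟩)⁻¹ else 1) (fun _ => 1)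
  let v : Fin N ⊕ ι → Ω[B⁄ℤ] := fun i => c i • φ (b i)
  have hv : LinearIndependent A v := by
    have h0 : LinearIndependent B v := by
      have := (bB.unitsSMul c).linearIndependent
      convert this using 1
      funext i
      rw [Module.Basis.unitsSMul_apply, hbB]
    exact h0.restrict_scalars (fun a a' h => hinj (by simpa [Algebra.smul_def] using h))
  have hcast : ∀ i : Fin r, v (Sum.inl (Fin.castLE hr i)) = (u i)⁻¹ • φ (D ℤ A (x (Fin.castLE hr i))) := by
    intro i
    show c _ • _ = _
    rw [hb]
    simp [c]
  have hspan : Submodule.span A (Set.range v) =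
      W4c6katofilta.logForms1 (fun i : Fin r => x (Fin.castLE hr i)) u := by
    apply le_antisymm
    · rw [Submodule.span_le]
      rintro _ ⟨i, rfl⟩
      rcases i with i | k
      · by_cases h : (i : ℕ) < r
        · have : i = Fin.castLE hr ⟨i, h⟩ := rfl
          rw [this, hcast]
          exact Submodule.subset_span (Or.inr ⟨⟨i, h⟩, rfl⟩)
        · exact Submodule.subset_span (Or.inl ⟨b (Sum.inl i), by simp [v, c, h, φ]⟩)
      · exact Submodule.subset_span (Or.inl ⟨b (Sum.inr k), by simp [v, c, φ]⟩)
    · rw [W4c6katofilta.logForms1, Submodule.span_le]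
      rintro _ (⟨w, rfl⟩ | ⟨i, rfl⟩)
      · have hgen : ∀ i, φ (b i) ∈ Submodule.span A (Set.range v) := by
          rintro (i | k)
          · by_cases h : (i : ℕ) < r
            · have h2 : φ (b (Sum.inl i)) = x i • v (Sum.inl i) := by
                have hxi : algebraMap A B (x i) = (u ⟨i, h⟩ : B) := (hu ⟨i, h⟩).symm
                simp only [v, c, Sum.elim_inl, dif_pos h, Units.smul_def]
                rw [← IsScalarTower.algebraMap_smul B (x i), smul_smul, hxi, Units.mul_inv, one_smul]
              rw [h2]
              exact Submodule.smul_mem _ _ (Submodule.subset_span ⟨_, rfl⟩)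
            · exact Submodule.subset_span ⟨Sum.inl i, by simp [v, c, h]⟩
          · exact Submodule.subset_span ⟨Sum.inr k, by simp [v, c]⟩
        have hle : (Submodule.span A (Set.range b)).map φ ≤ Submodule.span A (Set.range v) := by
          rw [Submodule.map_span, Submodule.span_le]
          rintro _ ⟨_, ⟨i, rfl⟩, rfl⟩
          exact hgen i
        exact hle ⟨w, by rw [b.span_eq]; trivial, rfl⟩
      · show (u i)⁻¹ • φ _ ∈ _
        rw [← hcast i]
        exact Submodule.subset_span ⟨_, rfl⟩
  refine ⟨(Module.Basis.span hv).map (LinearEquiv.ofEq _ _ hspan), fun i => ?_, fun i hi => ?_, fun k => ?_⟩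
  · simp only [Module.Basis.map_apply, LinearEquiv.coe_ofEq_apply, Module.Basis.span_apply]
    exact hcast i
  · simp only [Module.Basis.map_apply, LinearEquiv.coe_ofEq_apply, Module.Basis.span_apply]
    simp [v, c, Nat.not_lt.2 hi, hb, φ]
  · simp only [Module.Basis.map_apply, LinearEquiv.coe_ofEq_apply, Module.Basis.span_apply]
    simp [v, c, φ]

end Groth.Agent.S19273
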