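import Mathlib
import Groth.Statements.S19274
-- import your own Groth.Agent.* helpers here

set_option autoImplicit false
universe u
open WittFil

namespace Groth.Agent.S19274

/-- Let A be a unique factorisation domain of characteristic p, x a prime element of A, B = A[1/x] with
u the unit of B defined by x, m ≥ 1, and n an integer NOT divisible by p^m. For e in B and k ≥ 0
write fil_k(e) for the set of truncated p-typical Witt vectors of length k over B whose j-th
coordinate y_j satisfies y_j ^ (p ^ (k−1−j)) · e ∈ A for all j < k (the filtered piece; fil_k(u^n)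
is the piece of index n). Then fil_{m+1}(u^n) is contained in fil_{m+1}(u^(n−1)) + V(fil_m(u^n))
(the reverse inclusion is immediate): every a in fil_{m+1}(u^n) can be written a = b + V(y) with b
in fil_{m+1}(u^(n−1)) and y a Witt vector over B whose length-m truncation lies in fil_m(u^n), V(y)
being truncated to length m+1. (In the source A is a henselian discrete valuation ring, n = p^r·l >
1 with p not dividing l, and the condition reads m ≥ r + 1.) -/
theorem result (p : ℕ) [Fact p.Prime]
    {A B : Type u} [CommRing A] [IsDomain A] [UniqueFactorizationMonoid A] [CharP A p]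
    [CommRing B] [Algebra A B] (x : A) (hx : Prime x) [IsLocalization.Away x B] (u : Bˣ)
    (hu : (u : B) = algebraMap A B x) (m : ℕ) (hm : 0 < m) (n : ℤ) (hn : ¬ ((p : ℤ) ^ m ∣ n)) :
    ∀ a ∈ WittFil.fil p (m + 1) (A := A) ((u ^ n : Bˣ) : B),
      ∃ b ∈ WittFil.fil p (m + 1) (A := A) ((u ^ (n - 1) : Bˣ) : B),
        ∃ y : WittVector p B,
          WittVector.truncate m y ∈ WittFil.fil p m (A := A) ((u ^ n : Bˣ) : B) ∧
            a = b + WittVector.truncate (m + 1) (WittVector.verschiebung y) := by
  intro a ha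
  obtain ⟨w, rfl⟩ := WittVector.truncate_surjective p (m + 1) B a
  have hcoef : ∀ j, j < m + 1 → w.coeff j ^ (p ^ (m - j)) * ((u ^ n : Bˣ) : B) ∈ (algebraMap A B).range := by
    intro j hj
    have := ha ⟨j, hj⟩
    rwa [WittVector.coeff_truncate, show m + 1 - 1 - j = m - j by omega] at this
  have hinj : Function.Injective (algebraMap A B) :=
    IsLocalization.injective B (powers_le_nonZeroDivisors_of_noZeroDivisors hx.ne_zero)
  -- the leading coordinate gains one power of the uniformizer
  have hlead : w.coeff 0 ^ (p ^ m) * ((u ^ (n - 1) : Bˣ) : B) ∈ (algebraMap A B).range := by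
    obtain ⟨⟨α₀, _, e, rfl⟩, he⟩ := IsLocalization.surj (Submonoid.powers x) (w.coeff 0)
    have he' : w.coeff 0 * (u : B) ^ e = algebraMap A B α₀ := by rw [hu, ← map_pow]; exact he
    by_cases hα : α₀ = 0
    · have h0 : w.coeff 0 = 0 := by
        rw [hα, map_zero] at he'
        exact ((u.isUnit.pow e).mul_left_eq_zero).mp he'
      exact ⟨0, by rw [h0, zero_pow (pow_ne_zero _ (Fact.out : p.Prime).ne_zero), zero_mul, map_zero]⟩
    obtain ⟨a, α, hxα, rfl⟩ := WfDvdMonoid.max_power_factor hα hx.irreducible
    have hw : w.coeff 0 = ((u ^ ((a : ℤ) - e) : Bˣ) : B) * algebraMap A B α := by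
      have h1 : w.coeff 0 = w.coeff 0 * (u : B) ^ e * ((u ^ (-(e : ℤ)) : Bˣ) : B) := by
        rw [mul_assoc, ← Units.val_pow_eq_pow_val, ← Units.val_mul, ← zpow_natCast u e, ← zpow_add,
          add_neg_cancel, zpow_zero, Units.val_one, mul_one]
      rw [h1, he', map_mul, map_pow, ← hu, mul_right_comm, ← Units.val_pow_eq_pow_val, ← Units.val_mul,
        ← zpow_natCast u a, ← zpow_add, sub_eq_add_neg]
    have hrw : ∀ t : ℤ, w.coeff 0 ^ (p ^ m) * ((u ^ t : Bˣ) : B) =
        ((u ^ (((a : ℤ) - e) * (p ^ m : ℕ) + t) : Bˣ) : B) * algebraMap A B (α ^ p ^ m) := by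
      intro t
      rw [hw, mul_pow, zpow_add, Units.val_mul, zpow_mul, zpow_natCast, Units.val_pow_eq_pow_val, map_pow]
      ring
    have hmem := hcoef 0 (Nat.succ_pos m)
    rw [Nat.sub_zero, hrw] at hmem
    obtain ⟨c, hc⟩ := hmem
    set T : ℤ := ((a : ℤ) - e) * (p ^ m : ℕ) + n with hT
    have hpos : 1 ≤ T := by
      by_contra hle
      obtain ⟨q, hq⟩ : ∃ q : ℕ, T = -(q : ℤ) := ⟨(-T).toNat, by omega⟩
      rcases Nat.eq_zero_or_pos q with rfl | hqpos
      · refine hn ⟨-((a : ℤ) - e), ?_⟩
        rw [hT] at hq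
        push_cast at hq
        linarith
      · have h2 : algebraMap A B (x ^ q * c) = algebraMap A B (α ^ p ^ m) := by
          rw [map_mul, hc, map_pow, ← hu, ← mul_assoc, ← Units.val_pow_eq_pow_val, ← Units.val_mul,
            hq, ← zpow_natCast u q, ← zpow_add, add_neg_cancel, zpow_zero, Units.val_one, one_mul]
        exact hxα (hx.dvd_of_dvd_pow (⟨x ^ (q - 1) * c, by
          rw [← hinj h2, ← mul_assoc, ← pow_succ', show q - 1 + 1 = q by omega]⟩ : x ∣ α ^ p ^ m))
    obtain ⟨r, hr⟩ : ∃ r : ℕ, T - 1 = (r : ℤ) := ⟨(T - 1).toNat, by omega⟩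
    refine ⟨x ^ r * α ^ p ^ m, ?_⟩
    rw [hrw, show ((a : ℤ) - e) * (p ^ m : ℕ) + (n - 1) = (r : ℤ) by rw [← hr, hT]; ring,
      zpow_natCast, map_mul, map_pow, Units.val_pow_eq_pow_val, hu]
  -- separate the leading coordinate
  refine ⟨WittVector.truncate (m + 1) (WittVector.teichmuller p (w.coeff 0)), ?_, w.shift 1, ?_, ?_⟩
  · intro j
    rw [WittVector.coeff_truncate]
    rcases Nat.eq_zero_or_pos (j : ℕ) with hj | hj
    · rw [hj, WittVector.teichmuller_coeff_zero, show m + 1 - 1 - 0 = m by omega]
      exact hlead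
    · rw [WittVector.teichmuller_coeff_pos p _ _ hj, zero_pow (pow_ne_zero _ (Fact.out : p.Prime).ne_zero),
        zero_mul]
      exact zero_mem _
  · intro j
    rw [WittVector.coeff_truncate, WittVector.shift_coeff, show m - 1 - (j : ℕ) = m - (1 + j) by omega]
    exact hcoef (1 + j) (by omega)
  · rw [← map_add]
    congr 1
    refine WittVector.ext fun j => ?_
    rw [WittVector.coeff_add_of_disjoint j]
    · cases j with
      | zero => rw [WittVector.teichmuller_coeff_zero, WittVector.verschiebung_coeff_zero, add_zero]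
      | succ j =>
          rw [WittVector.teichmuller_coeff_pos p _ _ (Nat.succ_pos j), WittVector.verschiebung_coeff_succ,
            WittVector.shift_coeff, zero_add, add_comm 1 j]
    · intro i
      cases i with
      | zero => exact Or.inr (WittVector.verschiebung_coeff_zero _)
      | succ i => exact Or.inl (WittVector.teichmuller_coeff_pos p _ _ (Nat.succ_pos i))

end Groth.Agent.S19274
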