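import Groth.Statements.S19275
import Groth.Agent.CoradFil.BaseChange
import Mathlib.RingTheory.Flat.Basic
-- import your own Groth.Agent.* helpers here

set_option autoImplicit false
universe u v w
open Hoch

namespace Groth.Agent.S19275

open TensorProduct in
/-- Base change along a flat algebra commutes with subquotients `ker g / (range f)`. -/
theorem exists_quot_equiv {K : Type*} [Field K] {R : Type*} [CommRing R] [Algebra K R]
    {X Y W : Type*} [AddCommGroup X] [Module K X] [AddCommGroup Y] [Module K Y] [AddCommGroup W] [Module K W]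
    {X' Y' W' : Type*} [AddCommGroup X'] [Module R X'] [AddCommGroup Y'] [Module R Y'] [AddCommGroup W'] [Module R W']
    (f : X →ₗ[K] Y) (g : Y →ₗ[K] W) (B : Submodule K Y) (hB : B = LinearMap.range f)
    (f' : X' →ₗ[R] Y') (g' : Y' →ₗ[R] W') (B' : Submodule R Y') (hB' : B' = LinearMap.range f')
    (φX : R ⊗[K] X →ₗ[R] X') (φY : R ⊗[K] Y →ₗ[R] Y') (φW : R ⊗[K] W →ₗ[R] W')
    (hX : Function.Surjective φX) (hY : Function.Bijective φY) (hW : Function.Injective φW)
    (hf : ∀ x, φY (f.baseChange R x) = f' (φX x)) (hg : ∀ y, φW (g.baseChange R y) = g' (φY y)) :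
    ∃ e : R ⊗[K] (LinearMap.ker g ⧸ B.comap (LinearMap.ker g).subtype) ≃ₗ[R]
        (LinearMap.ker g' ⧸ B'.comap (LinearMap.ker g').subtype),
      ∀ (r : R) (z : LinearMap.ker g) (hz : φY (r ⊗ₜ[K] (z : Y)) ∈ LinearMap.ker g'),
        e (r ⊗ₜ[K] (B.comap (LinearMap.ker g).subtype).mkQ z) =
          (B'.comap (LinearMap.ker g').subtype).mkQ ⟨φY (r ⊗ₜ[K] (z : Y)), hz⟩ := by
  subst hB hB'
  let Z := LinearMap.ker g
  let N := (LinearMap.range f).comap Z.subtype
  let N' := (LinearMap.range f').comap (LinearMap.ker g').subtype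
  have hιinj : Function.Injective (Z.subtype.baseChange R) :=
    Module.Flat.lTensor_preserves_injective_linearMap (M := R) Z.subtype Z.injective_subtype
  have hmem : ∀ z, (φY ∘ₗ Z.subtype.baseChange R) z ∈ LinearMap.ker g' := fun z => by
    rw [LinearMap.mem_ker, LinearMap.comp_apply, ← hg, ← LinearMap.comp_apply (f := g.baseChange R), ← LinearMap.baseChange_comp,
      show g ∘ₗ Z.subtype = 0 from LinearMap.ext fun x => x.2, LinearMap.baseChange_zero, LinearMap.zero_apply, map_zero]
  let Ψ₀ : R ⊗[K] Z →ₗ[R] LinearMap.ker g' := (φY ∘ₗ Z.subtype.baseChange R).codRestrict _ hmem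
  have hΨ₀ : Function.Surjective Ψ₀ := by
    rintro ⟨y, hy⟩
    obtain ⟨y₀, rfl⟩ := hY.2 y
    have h0 : g.lTensor R y₀ = 0 := hW (by
      rw [map_zero]; exact (hg y₀).trans hy)
    obtain ⟨z, hz⟩ := (Module.Flat.lTensor_exact R (LinearMap.exact_subtype_ker_map g) y₀).1 h0
    exact ⟨z, Subtype.ext (congrArg φY hz)⟩
  have hker : ∀ z, Ψ₀ z ∈ N' ↔ z ∈ LinearMap.range (N.subtype.baseChange R) := by
    intro z
    constructor
    · rintro ⟨x', hx'⟩
      obtain ⟨x, rfl⟩ := hX x'
      rw [← hf] at hx'
      have hx : Z.subtype.baseChange R z = f.baseChange R x := (hY.1 hx').symm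
      have h0 : (g ∘ₗ f).lTensor R x = 0 := hW (by
        rw [map_zero]
        show φW ((g ∘ₗ f).baseChange R x) = 0
        rw [LinearMap.baseChange_comp, LinearMap.comp_apply, hg, hf, ← hf, hx']
        exact hmem z)
      obtain ⟨y, hy⟩ := (Module.Flat.lTensor_exact R (LinearMap.exact_subtype_ker_map (g ∘ₗ f)) x).1 h0
      let h₁ : LinearMap.ker (g ∘ₗ f) →ₗ[K] N :=
        ((f ∘ₗ (LinearMap.ker (g ∘ₗ f)).subtype).codRestrict Z fun v => v.2).codRestrict N fun v =>
          LinearMap.mem_range_self f _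
      refine ⟨h₁.baseChange R y, hιinj ?_⟩
      rw [← LinearMap.comp_apply (f := N.subtype.baseChange R), ← LinearMap.baseChange_comp,
        ← LinearMap.comp_apply (f := Z.subtype.baseChange R), ← LinearMap.baseChange_comp, hx, ← hy]
      show _ = f.baseChange R ((LinearMap.ker (g ∘ₗ f)).subtype.baseChange R y)
      rw [← LinearMap.comp_apply (f := f.baseChange R), ← LinearMap.baseChange_comp]
      rfl
    · rintro ⟨w, rfl⟩
      show φY (Z.subtype.baseChange R (N.subtype.baseChange R w)) ∈ LinearMap.range f'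
      induction w using TensorProduct.induction_on with
      | zero => simp
      | tmul r v =>
        obtain ⟨x, hx⟩ := v.2
        refine ⟨φX (r ⊗ₜ[K] x), ?_⟩
        rw [← hf, LinearMap.baseChange_tmul, hx, LinearMap.baseChange_tmul, LinearMap.baseChange_tmul]
        rfl
      | add a b ha hb => simp only [map_add]; exact Submodule.add_mem _ ha hb
  let q : R ⊗[K] Z →ₗ[R] R ⊗[K] (Z ⧸ N) := N.mkQ.baseChange R
  have hq : Function.Surjective q := LinearMap.lTensor_surjective R N.mkQ_surjective
  have hqker : LinearMap.ker q = LinearMap.range (N.subtype.baseChange R) := by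
    ext z
    rw [LinearMap.mem_ker]
    exact (lTensor_exact R (LinearMap.exact_subtype_mkQ N) N.mkQ_surjective z)
  have hΨker : LinearMap.ker (N'.mkQ ∘ₗ Ψ₀) = LinearMap.ker q := by
    rw [hqker]
    ext z
    rw [LinearMap.mem_ker, LinearMap.comp_apply, Submodule.mkQ_apply, Submodule.Quotient.mk_eq_zero, hker]
  let e := (q.quotKerEquivOfSurjective hq).symm ≪≫ₗ Submodule.quotEquivOfEq _ _ hΨker.symm ≪≫ₗ
    (N'.mkQ ∘ₗ Ψ₀).quotKerEquivOfSurjective (N'.mkQ_surjective.comp hΨ₀)
  refine ⟨e, fun r z hz => ?_⟩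
  show e (q (r ⊗ₜ[K] z)) = _
  have h1 : (q.quotKerEquivOfSurjective hq).symm (q (r ⊗ₜ[K] z)) = Submodule.Quotient.mk (r ⊗ₜ[K] z) := by
    rw [LinearEquiv.symm_apply_eq]; rfl
  show ((N'.mkQ ∘ₗ Ψ₀).quotKerEquivOfSurjective (N'.mkQ_surjective.comp hΨ₀)) (Submodule.quotEquivOfEq _ _ hΨker.symm
    ((q.quotKerEquivOfSurjective hq).symm (q (r ⊗ₜ[K] z)))) = _
  rw [h1]
  rfl

open TensorProduct in
/-- In the case of an affine group scheme over a field (a K-groupoid acting on Spec K itself),
cohomology commutes with arbitrary base change. Precisely: let K be a field, A a commutative Hopf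
algebra over K (the coordinate ring of an affine K-group scheme G), V a right A-comodule (a linear
representation of G) and R any commutative K-algebra. Give R ⊗ V the base-changed comodule structure
over the R-bialgebra R ⊗ A, whose coaction sends r ⊗ v to the image of r ⊗ ρ(v) under the canonical
identification of R ⊗ (V ⊗ A) with (R ⊗ V) ⊗_R (R ⊗ A), and let φ_n : R ⊗ C^n(A, V) → C^n(R ⊗ A, R ⊗
V) be the canonical R-linear maps between the Hochschild cochain modules, determined by φ_0 = id and
φ_{n+1}(r ⊗ (c ⊗ a)) = φ_n(r ⊗ c) ⊗ (1 ⊗ a). Then every φ_n is bijective, the φ_n commute with the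
Hochschild differentials, and for every n there is an R-linear isomorphism R ⊗ H^n(A, V) ≅ H^n(R ⊗
A, R ⊗ V) sending r ⊗ [z] to [φ_n(r ⊗ z)] for every n-cocycle z. (The published statement is for an
affine K-groupoid acting on the spectrum of a finite extension L of K and its coherent
representations, with K of characteristic 0; this is its case L = K, in which the cochain complex of
a representation is the Hochschild complex of the comodule; V is not assumed finite-dimensional and
K may be any field.) -/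
theorem result
    (K : Type u) [Field K] (A : Type v) [CommRing A] [HopfAlgebra K A]
    (V : Type v) [AddCommGroup V] [Module K V] [HopfRep.Comod K A V]
    (R : Type w) [CommRing R] [Algebra K R]
    (φ : ∀ n : ℕ, R ⊗[K] (Hoch.cochain K A V n) →ₗ[R] (Hoch.cochain R (R ⊗[K] A) (R ⊗[K] V) n))
    (hφ0 : ∀ x : R ⊗[K] V, φ 0 x = x)
    (hφs : ∀ (n : ℕ) (r : R) (c : Hoch.cochain K A V n) (a : A),
      φ (n + 1) (r ⊗ₜ[K] (c ⊗ₜ[K] a)) = (φ n (r ⊗ₜ[K] c)) ⊗ₜ[R] ((1 : R) ⊗ₜ[K] a)) :
    letI := CoactBr.Comod.baseChange K R A V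
    (∀ n : ℕ, Function.Bijective (φ n)) ∧
    (∀ (n : ℕ) (x : R ⊗[K] (Hoch.cochain K A V n)),
        φ (n + 1) ((Hoch.d K A V n).baseChange R x) = Hoch.d R (R ⊗[K] A) (R ⊗[K] V) n (φ n x)) ∧
      ∀ n : ℕ, ∃ e : R ⊗[K] Hoch.H K A V n ≃ₗ[R] Hoch.H R (R ⊗[K] A) (R ⊗[K] V) n,
        ∀ (r : R) (z : Hoch.cocycles K A V n)
          (hz : φ n (r ⊗ₜ[K] (z : Hoch.cochain K A V n)) ∈ Hoch.cocycles R (R ⊗[K] A) (R ⊗[K] V) n),
          e (r ⊗ₜ[K] Hoch.H.mk K A V n z) = Hoch.H.mk R (R ⊗[K] A) (R ⊗[K] V) n ⟨φ n (r ⊗ₜ[K] (z : Hoch.cochain K A V n)), hz⟩ := by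
  letI := CoactBr.Comod.baseChange K R A V
  have hrec : ∀ n, φ (n + 1) = TensorProduct.map (φ n) LinearMap.id ∘ₗ
      (TensorProduct.AlgebraTensorModule.distribBaseChange K R (Hoch.cochain K A V n : Type v) A).toLinearMap := by
    intro n
    refine LinearMap.ext fun x => ?_
    induction x using TensorProduct.induction_on with
    | zero => simp
    | add a b ha hb => simp only [map_add, ha, hb]
    | tmul r y =>
      induction y using TensorProduct.induction_on with
      | zero => simp
      | tmul c a => exact hφs n r c a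
      | add a b ha hb => simp only [TensorProduct.tmul_add, map_add, ha, hb]
  have hbij : ∀ n, Function.Bijective (φ n) := by
    intro n
    induction n with
    | zero => exact (show φ 0 = LinearMap.id from LinearMap.ext hφ0) ▸ Function.bijective_id
    | succ n ih =>
      rw [hrec n]
      exact (TensorProduct.congr (LinearEquiv.ofBijective (φ n) ih) (LinearEquiv.refl R (R ⊗[K] A))).bijective.comp
        (TensorProduct.AlgebraTensorModule.distribBaseChange K R (Hoch.cochain K A V n : Type v) A).bijective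
  have hpair : ∀ (n : ℕ) (r : R) (c : Hoch.cochain K A V n) (w : A ⊗[K] A),
      φ (n + 2) (r ⊗ₜ[K] (TensorProduct.assoc K (Hoch.cochain K A V n : Type v) A A).symm (c ⊗ₜ[K] w)) =
        (TensorProduct.assoc R (Hoch.cochain R (R ⊗[K] A) (R ⊗[K] V) n : Type _) (R ⊗[K] A) (R ⊗[K] A)).symm
          (φ n (r ⊗ₜ[K] c) ⊗ₜ[R] Groth.Agent.CoradFil.bcPair R w) := by
    intro n r c w
    induction w using TensorProduct.induction_on with
    | zero => simp
    | tmul p q =>
      rw [TensorProduct.assoc_symm_tmul, hφs (n + 1), hφs n, Groth.Agent.CoradFil.bcPair_tmul, TensorProduct.assoc_symm_tmul]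
    | add a b ha hb => simp only [map_add, TensorProduct.tmul_add, ha, hb]
  have hred : ∀ a : A, Hoch.redComul R (R ⊗[K] A) ((1 : R) ⊗ₜ[K] a) =
      Groth.Agent.CoradFil.bcPair R (Hoch.redComul K A a) := by
    intro a
    rw [Hoch.redComul_apply, Hoch.redComul_apply, map_sub, map_sub, Groth.Agent.CoradFil.bcPair_tmul,
      Groth.Agent.CoradFil.bcPair_tmul, Groth.Agent.CoradFil.comul_one_tmul]
    rfl
  have hd : ∀ (n : ℕ) (x : R ⊗[K] (Hoch.cochain K A V n)),
      φ (n + 1) ((Hoch.d K A V n).baseChange R x) = Hoch.d R (R ⊗[K] A) (R ⊗[K] V) n (φ n x) := by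
    intro n
    induction n with
    | zero =>
      intro x
      induction x using TensorProduct.induction_on with
      | zero => simp
      | add a b ha hb => simp only [map_add, ha, hb]
      | tmul r v =>
        rw [LinearMap.baseChange_tmul, hφ0, Hoch.d_zero_apply, Hoch.d_zero_apply, TensorProduct.tmul_sub, map_sub,
          hφs 0, hφ0]
        congr 1
        rw [CoactBr.baseChange_coact_tmul]
        generalize HopfRep.Comod.coact (k := K) (A := A) v = ρ
        induction ρ using TensorProduct.induction_on with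
        | zero => simp
        | add a b ha hb => simp only [TensorProduct.tmul_add, map_add, ha, hb]
        | tmul p q =>
          rw [TensorProduct.AlgebraTensorModule.tensorTensorTensorComm_tmul, hφs 0, hφ0]
          rw [show (r ⊗ₜ[K] p : R ⊗[K] V) = r • ((1 : R) ⊗ₜ[K] p) by rw [TensorProduct.smul_tmul', smul_eq_mul, mul_one],
            TensorProduct.smul_tmul, TensorProduct.smul_tmul', smul_eq_mul, mul_one]
    | succ n ih =>
      intro x
      induction x using TensorProduct.induction_on with
      | zero => simp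
      | add a b ha hb => simp only [map_add, ha, hb]
      | tmul r y =>
        induction y using TensorProduct.induction_on with
        | zero => simp
        | add a b ha hb => simp only [TensorProduct.tmul_add, map_add, ha, hb]
        | tmul c a =>
          rw [LinearMap.baseChange_tmul, hφs n, Hoch.d_succ, Hoch.d_succ, LinearMap.add_apply, LinearMap.add_apply,
            LinearMap.smul_apply, LinearMap.smul_apply, LinearMap.rTensor_tmul, LinearMap.rTensor_tmul,
            TensorProduct.tmul_add, map_add, hφs (n + 1), ← ih, LinearMap.baseChange_tmul]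
          congr 1
          rw [TensorProduct.tmul_smul, ← IsScalarTower.algebraMap_smul R ((-1 : K) ^ (n + 1)), map_smul, Hoch.tail_tmul,
            Hoch.tail_tmul, ← Hoch.redComul_apply, ← Hoch.redComul_apply, hpair, hred, map_pow, map_neg, map_one]
  refine ⟨hbij, hd, fun n => ?_⟩
  cases n with
  | zero =>
    exact exists_quot_equiv (0 : V →ₗ[K] (Hoch.cochain K A V 0 : Type v)) (Hoch.d K A V 0) _ LinearMap.range_zero.symm
      (0 : R ⊗[K] V →ₗ[R] (Hoch.cochain R (R ⊗[K] A) (R ⊗[K] V) 0 : Type _)) (Hoch.d R (R ⊗[K] A) (R ⊗[K] V) 0) _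
      LinearMap.range_zero.symm LinearMap.id (φ 0) (φ 1) Function.surjective_id (hbij 0) (hbij 1).1
      (fun x => by rw [LinearMap.baseChange_zero, LinearMap.zero_apply, map_zero, LinearMap.zero_apply]) (hd 0)
  | succ m =>
    exact exists_quot_equiv (Hoch.d K A V m) (Hoch.d K A V (m + 1)) _ rfl
      (Hoch.d R (R ⊗[K] A) (R ⊗[K] V) m) (Hoch.d R (R ⊗[K] A) (R ⊗[K] V) (m + 1)) _ rfl
      (φ m) (φ (m + 1)) (φ (m + 2)) (hbij m).2 (hbij (m + 1)) (hbij (m + 2)).1 (hd m) (hd (m + 1))

end Groth.Agent.S19275
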