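import Groth.Statements.S19276
import Groth.Agent.ComodLib.CycGroupRing
-- import your own Groth.Agent.* helpers here

set_option autoImplicit false
universe u v
open GrpAlg

namespace Groth.Agent.S19276

open Groth.Agent.ComodLib

/-- Let `A` be a finite commutative group and `Λ` a commutative ring in which the order of `A` is
invertible. Then the ring homomorphism from the group ring `Λ[A]` to the product, over the subgroups
`B` of `A` with cyclic quotient, of the cyclotomic quotients `Λ[A ⧸ B]/(Φ_{|A/B|})`, each component
induced by `A → A/B`, is bijective. (In terms of group schemes: `Λ[A]` is the representation ring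
with coefficients in `Λ` of the finite diagonalizable group with character group `A`, the factors
are indexed by its dual cyclic subgroups, i.e. those isomorphic to some `μ_n`, and the components
are restriction followed by the cyclotomic quotient. The published statement takes `Λ = ℤ[1/|A|]`;
here `Λ` is any commutative ring in which `|A|` is invertible.) -/
theorem result (Λ : Type u) [CommRing Λ] (A : Type v)
    [AddCommGroup A] [Finite A] (hA : IsUnit ((Nat.card A : ℕ) : Λ)) :
    Function.Bijective (RingHom.pi fun B : {B : AddSubgroup A // IsAddCyclic (A ⧸ B)} =>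
      W4c6equivkfinstab.cycQuotMap Λ A B.1) := by
  classical
  have hb : ((⊥ : AddSubgroup A).index : ℕ) = Nat.card A := AddSubgroup.index_bot
  have hu : IsUnit (((⊥ : AddSubgroup A).index : ℕ) : Λ) := by rw [hb]; exact hA
  constructor
  · rw [RingHom.injective_iff_ker_eq_bot, eq_bot_iff]
    intro x hx
    have h1 : x ∈ ⨅ B : CycGR.Idx A (⊥ : AddSubgroup A), CycGR.K Λ A B.1 :=
      Submodule.mem_iInf _ |>.mpr fun B => congrFun hx ⟨B.1, B.2.2⟩
    have h2 := CycGR.iInf_K_le hu h1
    rw [CycGR.ker_quotMap] at h2
    refine Ideal.span_le.mpr ?_ h2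
    rintro _ ⟨b, hb', rfl⟩
    rw [AddSubgroup.mem_bot.mp hb']
    show AddMonoidAlgebra.single (0 : A) (1 : Λ) - 1 = 0
    exact sub_self _
  · intro y
    choose z hz using fun B : CycGR.Idx A (⊥ : AddSubgroup A) => CycGR.cycQuotMap_surjective B.1 (y ⟨B.1, B.2.2⟩)
    obtain ⟨r, hr⟩ := Ideal.exists_forall_sub_mem_ideal (CycGR.pairwise_coprime hu) z
    refine ⟨r, funext fun B => ?_⟩
    have := hr ⟨B.1, bot_le, B.2⟩
    rw [RingHom.mem_ker, map_sub, sub_eq_zero] at this
    exact this.trans (hz _)

end Groth.Agent.S19276
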