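import Groth.Statements.S19279
import Groth.Agent.ComodLib.CycGroupRing
-- import your own Groth.Agent.* helpers here

set_option autoImplicit false
universe u v
open GrpAlg

namespace Groth.Agent.S19279

open Groth.Agent.ComodLib

/-- Let `M` be a commutative group, `B₀` a subgroup of finite index and `Λ` a commutative ring in which
the index of `B₀` is invertible. Then the `Λ[M]`-linear map from `Λ[M ⧸ B₀]` to the product, over
the subgroups `B ⊇ B₀` with `M ⧸ B` cyclic, of the localizations of `Λ[M ⧸ B₀]` at the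
multiplicative subsets of `Λ[M]` of elements with image `1` in `Λ[M ⧸ B]/(Φ_{|M/B|})`, with
components the localization maps, is bijective. (In terms of group schemes: for a finite closed
subgroup T' = D(M/B₀) of the diagonalizable group with character group `M`, the representation ring
of T' with coefficients in `Λ` is the product of its localizations at the dual cyclic subgroups of
T'. The published statement has a split torus and `Λ = ℤ[1/|T'|]`; here `M` is any commutative group
and `Λ` any commutative ring in which the order of T' is invertible.) -/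
theorem result (Λ : Type u) [CommRing Λ]
    (M : Type v) [AddCommGroup M] (B₀ : AddSubgroup M) [B₀.FiniteIndex]
    (hu : IsUnit ((B₀.index : ℕ) : Λ)) :
    Function.Bijective (LinearMap.pi (R := AddMonoidAlgebra Λ M)
      fun B : {B : AddSubgroup M // B₀ ≤ B ∧ IsAddCyclic (M ⧸ B)} =>
        LocalizedModule.mkLinearMap (W4c6equivkfinstab.locSubmonoid Λ M B.1)
          (AddMonoidAlgebra Λ (M ⧸ B₀))) := by
  classical
  let q := W4c6equivkfinstab.quotMap Λ M B₀
  have hsmul : ∀ (a : AddMonoidAlgebra Λ M) (m : AddMonoidAlgebra Λ (M ⧸ B₀)), a • m = q a * m := fun a m => rfl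
  have hsK : ∀ (B : AddSubgroup M), ∀ s ∈ W4c6equivkfinstab.locSubmonoid Λ M B, s - 1 ∈ CycGR.K Λ M B := by
    intro B s hs
    rw [RingHom.mem_ker, map_sub, map_one, sub_eq_zero]
    exact hs
  have hann : ∀ (B : CycGR.Idx M B₀) (d : AddMonoidAlgebra Λ M), d ∈ CycGR.K Λ M B.1 →
      ∃ t ∈ W4c6equivkfinstab.locSubmonoid Λ M B.1, q (t * d) = 0 := by
    intro B d hd
    haveI := Fintype.ofFinite (CycGR.Idx M B₀)
    have hc : IsCoprime (⨅ B' ∈ Finset.univ.erase B, CycGR.K Λ M B'.1) (CycGR.K Λ M B.1) :=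
      (Ideal.isCoprime_biInf fun B' hB' => (CycGR.pairwise_coprime hu) (Finset.ne_of_mem_erase hB').symm).symm
    obtain ⟨t, ht, ht'⟩ := CycGR.exists_mem_loc hc
    refine ⟨t, ht, ?_⟩
    rw [← RingHom.mem_ker, CycGR.ker_quotMap_eq hu]
    refine (Submodule.mem_iInf _).mpr fun B' => ?_
    by_cases h : B' = B
    · rw [h]; exact Ideal.mul_mem_left _ _ hd
    · refine Ideal.mul_mem_right _ _ ?_
      have := (Submodule.mem_iInf _).mp ht' B'
      exact (Submodule.mem_iInf _).mp this (Finset.mem_erase.mpr ⟨h, Finset.mem_univ _⟩)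
  constructor
  · rw [← LinearMap.ker_eq_bot, Submodule.eq_bot_iff]
    intro m hm
    obtain ⟨x, rfl⟩ := CycGR.quotMap_surjective B₀ m
    rw [← RingHom.mem_ker, CycGR.ker_quotMap_eq hu]
    refine (Submodule.mem_iInf _).mpr fun B => ?_
    have h1 := congrFun (LinearMap.mem_ker.mp hm) B
    obtain ⟨s, hs⟩ := (IsLocalizedModule.eq_zero_iff (W4c6equivkfinstab.locSubmonoid Λ M B.1)
      (LocalizedModule.mkLinearMap (W4c6equivkfinstab.locSubmonoid Λ M B.1) (AddMonoidAlgebra Λ (M ⧸ B₀)))).mp h1
    have h2 : q (s.1 * x) = 0 := by rw [map_mul, ← hsmul]; exact hs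
    have h3 : s.1 * x ∈ CycGR.K Λ M B.1 := CycGR.ker_quotMap_le_K B.2.1 h2
    have h4 : (s.1 - 1) * x ∈ CycGR.K Λ M B.1 := Ideal.mul_mem_right _ _ (hsK _ _ s.2)
    have h5 := Ideal.sub_mem _ h3 h4
    rwa [sub_mul, one_mul, sub_sub_cancel] at h5
  · intro y
    have hex : ∀ B : CycGR.Idx M B₀, ∃ (z : AddMonoidAlgebra Λ M) (s : W4c6equivkfinstab.locSubmonoid Λ M B.1),
        y B = LocalizedModule.mk (q z) s := by
      intro B
      induction y B using LocalizedModule.induction_on with
      | _ m s =>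
        obtain ⟨z, rfl⟩ := CycGR.quotMap_surjective B₀ m
        exact ⟨z, s, rfl⟩
    choose z s hz using hex
    obtain ⟨r, hr⟩ := Ideal.exists_forall_sub_mem_ideal (CycGR.pairwise_coprime hu) z
    refine ⟨q r, funext fun B => ?_⟩
    rw [hz B, LinearMap.pi_apply, LocalizedModule.mkLinearMap_apply, LocalizedModule.mk_eq]
    have hd : (s B).1 * r - z B ∈ CycGR.K Λ M B.1 := by
      have h1 : ((s B).1 - 1) * r ∈ CycGR.K Λ M B.1 := Ideal.mul_mem_right _ _ (hsK _ _ (s B).2)
      have h2 := Ideal.add_mem _ h1 (hr B)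
      convert h2 using 1
      ring
    obtain ⟨t, ht, ht'⟩ := hann B _ hd
    refine ⟨⟨t, ht⟩, ?_⟩
    rw [one_smul]
    show t • ((s B).1 • q r) = t • q (z B)
    rw [hsmul, hsmul, hsmul, ← sub_eq_zero, ← mul_sub, ← map_mul q (s B).1, ← map_sub, ← map_mul]
    exact ht'

end Groth.Agent.S19279
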