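import Groth.Statements.S19280
import Groth.Agent.GrpSchLib.MuScheme


set_option autoImplicit false
universe u
open CategoryTheory MonoidalCategory CartesianMonoidalCategory MonObj GrpObj AlgebraicGeometry
open AlgGrp

namespace Groth.Agent.S19280

open CategoryTheory.Limits WithConv Groth.Agent.GrpSchLib.AffineHopf Groth.Agent.GrpSchLib.MuGLn Groth.Agent.GrpSchLib.GLnDiag

/-- Let `k` be a field with an algebraic closure `K`, `m ≥ 0`, `n > 0`, and let `σ`, `τ` be closed
subgroup schemes of `GL_{m,k}`, each isomorphic as a `k`-group scheme to `μ_n = D(ℤ/n)`. If after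
base change to `K` there are a `K`-point `g` of `GL_m` and an isomorphism `σ_K ≅ τ_K` through which
conjugation by `g` carries the inclusion of `σ_K` to that of `τ_K`, then there are already a
`k`-rational point of `GL_{m,k}` and an isomorphism `σ ≅ τ` with the same property. (This is the
first of the two rationality conditions, stated for all dual cyclic subgroups rather than only for
those with a fixed point on a given algebraic space, which is what the printed argument establishes
and which gives the printed statement for every action of `GL_m`.) -/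
theorem result (k : Type u) [Field k]
    (K : Type u) [Field K] [Algebra k K] [IsAlgClosure k K] (m n : ℕ) (hn : 0 < n)
    (σ τ : Over (Spec (CommRingCat.of k))) [GrpObj σ] [GrpObj τ]
    (i : σ ⟶ CoactBr.sp k (CoordGrp.GLn m k)) (j : τ ⟶ CoactBr.sp k (CoordGrp.GLn m k))
    [IsMonHom i] [IsMonHom j] (hi : IsClosedImmersion i.left) (hj : IsClosedImmersion j.left)
    (hσ : Red.IsSplitTorusWith (ZMod n) σ) (hτ : Red.IsSplitTorusWith (ZMod n) τ)
    (h : ∃ (g : 𝟙_ (Over (Spec (CommRingCat.of K))) ⟶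
        Red.bc (Spec.map (CommRingCat.ofHom (algebraMap k K))) (CoactBr.sp k (CoordGrp.GLn m k)))
      (φ : Red.bc (Spec.map (CommRingCat.ofHom (algebraMap k K))) σ ≅
        Red.bc (Spec.map (CommRingCat.ofHom (algebraMap k K))) τ),
      AGF.conjBy g ((Over.pullback (Spec.map (CommRingCat.ofHom (algebraMap k K)))).map i) =
        φ.hom ≫ (Over.pullback (Spec.map (CommRingCat.ofHom (algebraMap k K)))).map j) :
    ∃ (g : 𝟙_ (Over (Spec (CommRingCat.of k))) ⟶ CoactBr.sp k (CoordGrp.GLn m k)) (φ : σ ≅ τ),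
      AGF.conjBy g i = φ.hom ≫ j := by
  haveI : NeZero n := ⟨hn.ne'⟩
  obtain ⟨es, _⟩ := exists_sp_iso σ hσ
  obtain ⟨et, _⟩ := exists_sp_iso τ hτ
  obtain ⟨πi, hπi⟩ := exists_bialgHom (es.hom ≫ i)
  obtain ⟨πj, hπj⟩ := exists_bialgHom (et.hom ≫ j)
  have hsi : Function.Surjective πi := by
    refine surjective_of_isClosedImmersion (πi : CoordGrp.GLn m k →ₐ[k] MonoidAlgebra k (Multiplicative (ZMod n))) ?_
    rw [← hπi]
    haveI := hi
    show IsClosedImmersion (es.hom.left ≫ i.left)
    infer_instance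
  have hsj : Function.Surjective πj := by
    refine surjective_of_isClosedImmersion (πj : CoordGrp.GLn m k →ₐ[k] MonoidAlgebra k (Multiplicative (ZMod n))) ?_
    rw [← hπj]
    haveI := hj
    show IsClosedImmersion (et.hom.left ≫ j.left)
    infer_instance
  obtain ⟨g, φ, hgφ⟩ := h
  let F := Over.pullback (Spec.map (CommRingCat.ofHom (algebraMap k K)))
  obtain ⟨γ, hγ⟩ := exists_eq_toBc (toUnit (sp K K) ≫ g)
  let G := Multiplicative (ZMod n)
  let u := toBc (S := K) (ιK k K G) ≫ F.map es.hom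
  obtain ⟨hh, hhh⟩ := exists_eq_toBc (u ≫ φ.hom ≫ F.map et.inv)
  have huj : u ≫ φ.hom ≫ F.map j = toBc (hh.comp (πj : CoordGrp.GLn m k →ₐ[k] MonoidAlgebra k (Multiplicative (ZMod n)))) := by
    rw [← toBc_comp_map, ← hπj, ← hhh]
    simp only [F, Category.assoc, ← Functor.map_comp, Iso.inv_hom_id_assoc]
  have hua : u ≫ toUnit _ ≫ g = toBc (((Algebra.ofId K (MonoidAlgebra K G)).restrictScalars k).comp γ) := by
    rw [← spMap_comp_toBc, ← hγ, ← Category.assoc, ← Category.assoc]
    exact congrArg (· ≫ g) (toUnit_unique _ _)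
  have hui : u ≫ F.map i = toBc ((ιK k K G).comp (πi : CoordGrp.GLn m k →ₐ[k] MonoidAlgebra k (Multiplicative (ZMod n)))) := by
    rw [← toBc_comp_map, ← hπi]
    simp only [F, u, Category.assoc, ← Functor.map_comp]
  have h1 := congrArg (u ≫ ·) hgφ
  simp only [AGF.conjBy, MonObj.comp_mul, GrpObj.comp_inv] at h1
  rw [hua, hui, huj, mul_inv_eq_iff_eq_mul] at h1
  have h2 : toBc (S := K) (toConv (((Algebra.ofId K (MonoidAlgebra K G)).restrictScalars k).comp γ) *
        toConv ((ιK k K G).comp (πi : CoordGrp.GLn m k →ₐ[k] MonoidAlgebra k (Multiplicative (ZMod n))))).ofConv =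
      toBc (toConv (hh.comp (πj : CoordGrp.GLn m k →ₐ[k] MonoidAlgebra k (Multiplicative (ZMod n)))) *
        toConv (((Algebra.ofId K (MonoidAlgebra K G)).restrictScalars k).comp γ)).ofConv := by
    rw [← toBc_mul, ← toBc_mul]; exact h1
  have h3 := congrArg mat (toBc_injective h2)
  rw [mat_mul, mat_mul] at h3
  obtain ⟨θ, γ₀, hθ⟩ := exists_conj_of_conj πi πj hsi hsj γ hh h3
  let g₀ := e1 k ≫ spMap γ₀
  let φ₀ : σ ≅ τ := es.symm ≪≫
    (Grp.forget _).mapIso (spIso (MonoidAlgebra.domCongrBialgEquiv k k θ)) ≪≫ et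
  refine ⟨g₀, φ₀, ?_⟩
  rw [← cancel_epi es.hom]
  simp only [AGF.conjBy, MonObj.comp_mul, GrpObj.comp_inv]
  rw [mul_inv_eq_iff_eq_mul]
  have ha : es.hom ≫ toUnit σ ≫ g₀ = spMap ((Algebra.ofId k (MonoidAlgebra k G)).comp γ₀) := by
    rw [← spMap_comp, ← toUnit_e1]
    simp only [g₀, ← Category.assoc]
    exact congrArg (fun t => (t ≫ e1 k) ≫ spMap γ₀) (toUnit_unique _ _)
  have hr : es.hom ≫ φ₀.hom ≫ j = spMap (((MonoidAlgebra.domCongrBialgEquiv k k θ :
      MonoidAlgebra k G →ₐc[k] MonoidAlgebra k G) : _ →ₐ[k] _).comp (πj : CoordGrp.GLn m k →ₐ[k] MonoidAlgebra k (Multiplicative (ZMod n)))) := by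
    rw [← spMap_comp, ← hπj]
    simp only [φ₀, Iso.trans_hom, Iso.symm_hom, Category.assoc, Iso.hom_inv_id_assoc]
    rfl
  rw [ha, hr, hπi, spMap_mul, spMap_mul]
  refine congrArg spMap (ext_mat ?_)
  rw [mat_mul, mat_mul]
  exact hθ

end Groth.Agent.S19280
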