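import Groth.Statements.S19281
import Groth.Agent.GrpSchLib.MuScheme
import Mathlib.AlgebraicGeometry.Morphisms.ClosedImmersion


set_option autoImplicit false
universe u
open CategoryTheory MonoidalCategory CartesianMonoidalCategory MonObj GrpObj AlgebraicGeometry
open AlgGrp

namespace Groth.Agent.S19281

open CategoryTheory.Limits WithConv Groth.Agent.GrpSchLib.AffineHopf Groth.Agent.GrpSchLib.MuGLn Groth.Agent.GrpSchLib.GLnDiag

/-- Let `k` be a field with an algebraic closure `K`, `m ≥ 0`, `n > 0`, and let `σ'` be a closed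
subgroup scheme of the base change of `GL_{m,k}` to `K` which is isomorphic as a `K`-group scheme to
`μ_n = D(ℤ/n)`. Then there are a closed subgroup scheme `σ` of `GL_{m,k}` isomorphic to `μ_n` over
`k`, a `K`-point `g` of `GL_m` and an isomorphism `σ' ≅ σ_K` through which conjugation by `g`
carries the inclusion of `σ'` to the base change of the inclusion of `σ`. (This is the second
rationality condition, stated for all dual cyclic subgroups rather than only for those with a fixed
point on a given algebraic space, which is what the printed argument establishes and which gives the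
printed statement for every action of `GL_m`.) -/
theorem result (k : Type u) [Field k]
    (K : Type u) [Field K] [Algebra k K] [IsAlgClosure k K] (m n : ℕ) (hn : 0 < n)
    (σ' : Over (Spec (CommRingCat.of K))) [GrpObj σ']
    (i' : σ' ⟶ Red.bc (Spec.map (CommRingCat.ofHom (algebraMap k K))) (CoactBr.sp k (CoordGrp.GLn m k)))
    [IsMonHom i'] (hi' : IsClosedImmersion i'.left) (hσ' : Red.IsSplitTorusWith (ZMod n) σ') :
    ∃ (σ : Over (Spec (CommRingCat.of k))) (_ : GrpObj σ) (i : σ ⟶ CoactBr.sp k (CoordGrp.GLn m k))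
      (_ : IsMonHom i), IsClosedImmersion i.left ∧ Red.IsSplitTorusWith (ZMod n) σ ∧
      ∃ (g : 𝟙_ (Over (Spec (CommRingCat.of K))) ⟶
          Red.bc (Spec.map (CommRingCat.ofHom (algebraMap k K))) (CoactBr.sp k (CoordGrp.GLn m k)))
        (φ : σ' ≅ Red.bc (Spec.map (CommRingCat.ofHom (algebraMap k K))) σ),
        AGF.conjBy g i' = φ.hom ≫ (Over.pullback (Spec.map (CommRingCat.ofHom (algebraMap k K)))).map i := by
  haveI : NeZero n := ⟨hn.ne'⟩
  let G := Multiplicative (ZMod n)
  obtain ⟨es, _⟩ := exists_sp_iso σ' hσ'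
  obtain ⟨f, hf⟩ := exists_eq_toBc (es.hom ≫ i')
  obtain ⟨P, c, hP, hc, hM⟩ := exists_diag_of_toBc f (by rw [← hf]; infer_instance) (by
    rw [← hf]
    haveI := hi'
    haveI : IsIso (bcToSp (R := k) (S := K) (A := CoordGrp.GLn m k)).left :=
      inferInstanceAs (IsIso (pullbackSymmetry .. ≪≫ pullbackSpecIso' k K (CoordGrp.GLn m k)).hom)
    show IsClosedImmersion ((es.hom.left ≫ i'.left) ≫ bcToSp.left)
    infer_instance)
  obtain ⟨π, hπ, hπd⟩ := exists_bialgHom_diag (k := k) c hc
  obtain ⟨γ, hγ⟩ := exists_pt (k := k) (P⁻¹) (Matrix.isUnit_nonsing_inv_iff.mpr hP)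
  let F := Over.pullback (Spec.map (CommRingCat.ofHom (algebraMap k K)))
  let i : sp k (MonoidAlgebra k G) ⟶ sp k (CoordGrp.GLn m k) := spMap (π : CoordGrp.GLn m k →ₐ[k] MonoidAlgebra k G)
  refine ⟨sp k (MonoidAlgebra k G), inferInstance, i, inferInstance, ?_, nonempty_DS_iso k (ZMod n),
    e1 K ≫ toBc γ, es.symm ≪≫ asIso (toBc (S := K) (ιK k K G)), ?_⟩
  · exact IsClosedImmersion.spec_of_surjective (CommRingCat.ofHom (π : CoordGrp.GLn m k →ₐ[k] MonoidAlgebra k G).toRingHom) hπ
  rw [← cancel_epi es.hom]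
  simp only [AGF.conjBy, MonObj.comp_mul, GrpObj.comp_inv]
  rw [mul_inv_eq_iff_eq_mul]
  have ha : es.hom ≫ toUnit σ' ≫ e1 K ≫ toBc γ =
      toBc (((Algebra.ofId K (MonoidAlgebra K G)).restrictScalars k).comp γ) := by
    rw [← spMap_comp_toBc, ← toUnit_e1]
    simp only [← Category.assoc]
    exact congrArg (fun t => (t ≫ e1 K) ≫ toBc γ) (toUnit_unique _ _)
  have hr : es.hom ≫ (es.symm ≪≫ asIso (toBc (S := K) (ιK k K G))).hom ≫ F.map i =
      toBc ((ιK k K G).comp (π : CoordGrp.GLn m k →ₐ[k] MonoidAlgebra k G)) := by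
    rw [← toBc_comp_map]
    simp only [Iso.trans_hom, Iso.symm_hom, Category.assoc, Iso.hom_inv_id_assoc, asIso_hom]
    rfl
  rw [ha, hr, hf]
  refine (toBc_mul (toConv _) (toConv _)).trans (Eq.trans ?_ (toBc_mul (toConv _) (toConv _)).symm)
  refine congrArg toBc (ext_mat ?_)
  rw [mat_mul, mat_mul]
  show (mat γ).map (algebraMap K (MonoidAlgebra K G)) * mat f =
    (mat (π : CoordGrp.GLn m k →ₐ[k] MonoidAlgebra k G)).map (ιK k K G) * (mat γ).map (algebraMap K (MonoidAlgebra K G))
  rw [hγ, hM, hπd]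
  have hd : (diagG (F := k) c).map (ιK k K G) = diagG (F := K) c := by
    unfold diagG
    rw [Matrix.diagonal_map (map_zero _)]
    exact congrArg Matrix.diagonal (funext fun l => ιK_single (c l))
  rw [hd, ← _root_.mul_assoc, ← _root_.mul_assoc, ← Matrix.map_mul,
    Matrix.nonsing_inv_mul _ ((Matrix.isUnit_iff_isUnit_det P).mp hP), Matrix.map_one _ (map_zero _) (map_one _),
    _root_.one_mul]

end Groth.Agent.S19281
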