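import Groth.Statements.S19285
import Groth.Agent.NFApprox.QuadSplit
import Groth.Agent.NFApprox.LinearSplit

set_option autoImplicit false
universe u
open scoped TensorProduct
open NumberField

namespace Groth.Agent.S19285

open Groth.Agent.NFApprox

/-- A conjectured statement on locally split values of the polynomials t − a_i holds unconditionally
when the degrees [k_i : k] sum to at most 2. Precisely: let k be a number field, n ≥ 1, and for each
i let k_i = k(a_i) be a finite extension generated by a_i, the minimal polynomials of the a_i over k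
being pairwise distinct and the degrees [k_i : k] summing to at most 2; let L_i/k_i be finite
extensions and b_i ∈ k_i nonzero. Let S_f, S_∞ be finite sets of finite and infinite places of k
such that S_∞ contains every real place and S_f contains every finite place of k below a finite
place of some k_i at which b_i is not a unit or below a prime of some L_i ramified over k_i. For v ∈
S_f ∪ S_∞ let t_v ∈ k_v, with an open neighbourhood U_v, be such that for every i the element b_i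
(t_v − a_i) of k_v ⊗_k k_i is the norm of a unit of the (k_v ⊗_k k_i)-algebra k_v ⊗_k L_i. Then
there is t_0 ∈ k whose image lies in U_v for all v ∈ S_f ∪ S_∞ and such that for every i and every
finite place w of k_i at which t_0 − a_i has positive valuation, either w lies above a place of S_f
or L_i admits a k_i-algebra embedding into the completion (k_i)_w (a place of L_i of degree 1 over
w). -/
theorem result (k : Type u) [Field k] [NumberField k]
    (n : ℕ) (hn : 1 ≤ n)
    (kf : Fin n → Type u) [∀ i, Field (kf i)] [∀ i, NumberField (kf i)] [∀ i, Algebra k (kf i)]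
    (Lf : Fin n → Type u) [∀ i, Field (Lf i)] [∀ i, NumberField (Lf i)] [∀ i, Algebra (kf i) (Lf i)]
    [∀ i, Algebra k (Lf i)] [∀ i, IsScalarTower k (kf i) (Lf i)]
    (a : (i : Fin n) → kf i) (ha : ∀ i, IntermediateField.adjoin k {a i} = ⊤)
    (hdist : ∀ i j, i ≠ j → minpoly k (a i) ≠ minpoly k (a j))
    (hdeg : ∑ i, Module.finrank k (kf i) ≤ 2)
    (b : (i : Fin n) → kf i) (hb : ∀ i, b i ≠ 0)
    (Sf : Finset (IsDedekindDomain.HeightOneSpectrum (NumberField.RingOfIntegers k)))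
    (Si : Finset (NumberField.InfinitePlace k))
    (hSreal : ∀ w : NumberField.InfinitePlace k, w.IsReal → w ∈ Si)
    (hSb : ∀ i, ∀ W : IsDedekindDomain.HeightOneSpectrum (NumberField.RingOfIntegers (kf i)),
      W.valuation (kf i) (b i) ≠ 1 → ∃ v ∈ Sf, W.asIdeal.LiesOver v.asIdeal)
    (hSram : ∀ i, ∀ Q : Ideal (NumberField.RingOfIntegers (Lf i)), Q.IsPrime → Q ≠ ⊥ →
      Q.ramificationIdx (NumberField.RingOfIntegers (kf i)) ≠ 1 → ∃ v ∈ Sf, Q.LiesOver v.asIdeal)
    (tf : (v : IsDedekindDomain.HeightOneSpectrum (NumberField.RingOfIntegers k)) → v.adicCompletion k)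
    (ti : (w : NumberField.InfinitePlace k) → w.Completion)
    (htf : ∀ i, ∀ v ∈ Sf,
      letI := (Algebra.TensorProduct.map (AlgHom.id k (v.adicCompletion k))
        (IsScalarTower.toAlgHom k (kf i) (Lf i))).toRingHom.toAlgebra
      ∃ x : (v.adicCompletion k) ⊗[k] Lf i, IsUnit x ∧
        Algebra.norm ((v.adicCompletion k) ⊗[k] kf i) x =
          (1 : v.adicCompletion k) ⊗ₜ[k] b i * (tf v ⊗ₜ[k] (1 : kf i) - (1 : v.adicCompletion k) ⊗ₜ[k] a i))
    (hti : ∀ i, ∀ w ∈ Si,
      letI := (Algebra.TensorProduct.map (AlgHom.id k w.Completion)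
        (IsScalarTower.toAlgHom k (kf i) (Lf i))).toRingHom.toAlgebra
      ∃ x : w.Completion ⊗[k] Lf i, IsUnit x ∧
        Algebra.norm (w.Completion ⊗[k] kf i) x =
          (1 : w.Completion) ⊗ₜ[k] b i * (ti w ⊗ₜ[k] (1 : kf i) - (1 : w.Completion) ⊗ₜ[k] a i))
    (Uf : (v : IsDedekindDomain.HeightOneSpectrum (NumberField.RingOfIntegers k)) → Set (v.adicCompletion k))
    (hUf : ∀ v ∈ Sf, IsOpen (Uf v) ∧ tf v ∈ Uf v)
    (Ui : (w : NumberField.InfinitePlace k) → Set w.Completion)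
    (hUi : ∀ w ∈ Si, IsOpen (Ui w) ∧ ti w ∈ Ui w) :
    ∃ t₀ : k, (∀ v ∈ Sf, algebraMap k (v.adicCompletion k) t₀ ∈ Uf v) ∧
      (∀ w ∈ Si, algebraMap k w.Completion t₀ ∈ Ui w) ∧
      ∀ i, ∀ W : IsDedekindDomain.HeightOneSpectrum (NumberField.RingOfIntegers (kf i)),
        W.valuation (kf i) (algebraMap k (kf i) t₀ - a i) < 1 →
          (∃ v ∈ Sf, W.asIdeal.LiesOver v.asIdeal) ∨ Nonempty (Lf i →ₐ[kf i] W.adicCompletion (kf i)) := by

  classical
  have hunder : ∀ (i : Fin n) (W : IsDedekindDomain.HeightOneSpectrum (NumberField.RingOfIntegers (kf i)))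
      (v v' : IsDedekindDomain.HeightOneSpectrum (NumberField.RingOfIntegers k)), W.asIdeal.LiesOver v.asIdeal →
      W.asIdeal.LiesOver v'.asIdeal → v = v' :=
    fun i W v v' hv hv' => IsDedekindDomain.HeightOneSpectrum.ext (hv.over.trans hv'.over.symm)
  have hunr : ∀ (i : Fin n) (W : IsDedekindDomain.HeightOneSpectrum (NumberField.RingOfIntegers (kf i))),
      (¬ ∃ v ∈ Sf, W.asIdeal.LiesOver v.asIdeal) →
      ∀ Q : Ideal (NumberField.RingOfIntegers (Lf i)), Q.IsPrime → Q.LiesOver W.asIdeal →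
        Q.ramificationIdx (NumberField.RingOfIntegers (kf i)) = 1 := by
    intro i W hW Q hQ hQW
    by_contra hne
    haveI := hQW
    obtain ⟨v', hv', hQv'⟩ := hSram i Q hQ (Ideal.ne_bot_of_liesOver_of_ne_bot W.ne_bot Q) hne
    obtain ⟨v, hv⟩ := exists_under (k := k) W
    haveI := hv
    refine hW ⟨v', hv', ?_⟩
    rwa [show v' = v from IsDedekindDomain.HeightOneSpectrum.ext
      (hQv'.over.trans (Ideal.LiesOver.trans Q W.asIdeal v.asIdeal).over.symm)]
  -- the degree one translation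
  have hone : ∀ i : Fin n, Module.finrank k (kf i) = 1 → ∃ a₀ b₀ : k, algebraMap k (kf i) a₀ = a i ∧ b₀ ≠ 0 ∧
      (∀ v ∉ Sf, v.valuation k b₀ = 1) ∧
      (∀ v ∉ Sf, ∀ c : k, v.valuation k c = 1 → ∃ x : TensorProduct k (v.adicCompletion k) (Lf i),
        Algebra.norm (v.adicCompletion k) x = algebraMap k _ c) ∧
      (∀ v ∈ Sf, algebraMap k _ b₀ * (tf v - algebraMap k _ a₀) ≠ 0 ∧
        ∃ x : TensorProduct k (v.adicCompletion k) (Lf i),
          Algebra.norm (v.adicCompletion k) x = algebraMap k _ b₀ * (tf v - algebraMap k _ a₀)) ∧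
      (∀ w ∈ Si, algebraMap k _ b₀ * (ti w - algebraMap k _ a₀) ≠ 0 ∧
        ∃ x : TensorProduct k w.Completion (Lf i),
          Algebra.norm w.Completion x = algebraMap k _ b₀ * (ti w - algebraMap k _ a₀)) ∧
      ∀ t₀ : k, (∀ v ∉ Sf, v.valuation k (t₀ - a₀) < 1 → Nonempty (Lf i →ₐ[k] v.adicCompletion k)) →
        ∀ W : IsDedekindDomain.HeightOneSpectrum (NumberField.RingOfIntegers (kf i)),
          W.valuation (kf i) (algebraMap k (kf i) t₀ - a i) < 1 →
            (∃ v ∈ Sf, W.asIdeal.LiesOver v.asIdeal) ∨ Nonempty (Lf i →ₐ[kf i] W.adicCompletion (kf i)) := by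
    intro i hi
    have hsurj : Function.Surjective (algebraMap k (kf i)) := fun x => by
      obtain ⟨c, hc⟩ := (finrank_eq_one_iff_of_nonzero' (1 : kf i) one_ne_zero).1 hi x
      exact ⟨c, by rw [Algebra.algebraMap_eq_smul_one, hc]⟩
    obtain ⟨a₀, ha₀⟩ := hsurj (a i)
    obtain ⟨b₀, hb₀⟩ := hsurj (b i)
    have hb₀' : b₀ ≠ 0 := fun h => hb i (by rw [← hb₀, h, map_zero])
    have hrhs : ∀ (R₀ : Type u) [Field R₀] [Algebra k R₀] (t : R₀),
        (1 : R₀) ⊗ₜ[k] b i * (t ⊗ₜ[k] (1 : kf i) - (1 : R₀) ⊗ₜ[k] a i) =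
          (algebraMap k R₀ b₀ * (t - algebraMap k R₀ a₀)) ⊗ₜ[k] (1 : kf i) := by
      intro R₀ _ _ t
      have hc : ∀ c : k, (1 : R₀) ⊗ₜ[k] algebraMap k (kf i) c = algebraMap k R₀ c ⊗ₜ[k] (1 : kf i) := fun c => by
        rw [Algebra.algebraMap_eq_smul_one, Algebra.algebraMap_eq_smul_one, ← TensorProduct.smul_tmul]
      rw [← ha₀, ← hb₀, hc, hc, ← TensorProduct.sub_tmul, Algebra.TensorProduct.tmul_mul_tmul, one_mul]
    have hnorm : ∀ (R₀ : Type u) [Field R₀] [Algebra k R₀] (t : R₀),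
        letI := (Algebra.TensorProduct.map (AlgHom.id k R₀)
          (IsScalarTower.toAlgHom k (kf i) (Lf i))).toRingHom.toAlgebra
        (∃ x : TensorProduct k R₀ (Lf i), IsUnit x ∧
          Algebra.norm (TensorProduct k R₀ (kf i)) x =
            (1 : R₀) ⊗ₜ[k] b i * (t ⊗ₜ[k] (1 : kf i) - (1 : R₀) ⊗ₜ[k] a i)) →
        algebraMap k R₀ b₀ * (t - algebraMap k R₀ a₀) ≠ 0 ∧
          ∃ x : TensorProduct k R₀ (Lf i), Algebra.norm R₀ x = algebraMap k R₀ b₀ * (t - algebraMap k R₀ a₀) := by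
      intro R₀ _ _ t
      rintro ⟨x, hxu, hx⟩
      rw [hrhs] at hx
      have h := norm_transfer hi R₀ (Lf i) _ x hx
      exact ⟨h ▸ (hxu.map _).ne_zero, x, h⟩
    have hb₀v : ∀ v ∉ Sf, v.valuation k b₀ = 1 := by
      intro v hv
      obtain ⟨I, hI, hI'⟩ := Ideal.exists_maximal_ideal_liesOver_of_isIntegral
        (S := NumberField.RingOfIntegers (kf i)) v.asIdeal
      let W : IsDedekindDomain.HeightOneSpectrum (NumberField.RingOfIntegers (kf i)) :=
        ⟨I, hI.isPrime, Ideal.ne_bot_of_liesOver_of_ne_bot v.ne_bot I⟩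
      haveI : W.asIdeal.LiesOver v.asIdeal := hI'
      have h1 : W.valuation (kf i) (b i) = 1 := by
        by_contra h
        obtain ⟨v', hv', hW'⟩ := hSb i W h
        exact hv (hunder i W v v' hI' hW' ▸ hv')
      rw [← hb₀, ← IsDedekindDomain.HeightOneSpectrum.valuation_liesOver (K := k) (kf i) v W] at h1
      exact (pow_eq_one_iff.1 h1).resolve_right (Ideal.IsDedekindDomain.ramificationIdx'_ne_zero_of_liesOver W.asIdeal v.ne_bot)
    refine ⟨a₀, b₀, ha₀, hb₀', hb₀v, fun v hv c hc => ?_, fun v hv => hnorm _ _ (htf i v hv),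
      fun w hw => hnorm _ _ (hti i w hw), fun t₀ ht₀ W hW => ?_⟩
    · obtain ⟨x, -, hx⟩ := exists_norm_eq_rel (k := k) (K := kf i) (Lf i) v
        (fun W hW Q hQ hQW => hunr i W (fun ⟨v', hv', hW'⟩ => hv (hunder i W v v' hW hW' ▸ hv')) Q hQ hQW)
        (algebraMap k (kf i) c) (fun W hW => by
          haveI := hW
          rw [← IsDedekindDomain.HeightOneSpectrum.valuation_liesOver (K := k) (kf i) v W, hc, one_pow])
      refine ⟨x, norm_transfer hi _ (Lf i) _ x (hx.trans ?_)⟩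
      rw [Algebra.algebraMap_eq_smul_one, Algebra.algebraMap_eq_smul_one, ← TensorProduct.smul_tmul]
    · by_cases hWS : ∃ v ∈ Sf, W.asIdeal.LiesOver v.asIdeal
      · exact Or.inl hWS
      refine Or.inr ?_
      obtain ⟨v, hv⟩ := exists_under (k := k) W
      haveI := hv
      rw [← ha₀, ← map_sub, ← IsDedekindDomain.HeightOneSpectrum.valuation_liesOver (K := k) (kf i) v W] at hW
      have hlt : v.valuation k (t₀ - a₀) < 1 := not_le.1 fun h => not_le.2 hW (one_le_pow₀ h)
      obtain ⟨φ⟩ := ht₀ v (fun h => hWS ⟨v, h, hv⟩) hlt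
      obtain ⟨f, -, hf⟩ := exists_completion_hom v W
      refine ⟨{ f.comp φ.toRingHom with commutes' := ?_ }⟩
      intro c
      obtain ⟨c, rfl⟩ := hsurj c
      show f (φ (algebraMap (kf i) (Lf i) (algebraMap k (kf i) c))) = _
      rw [← IsScalarTower.algebraMap_apply, φ.commutes, hf]
  have hpos : ∀ i, 0 < Module.finrank k (kf i) := fun i => Module.finrank_pos
  obtain rfl | rfl : n = 1 ∨ n = 2 := by
    have h1 : (∑ _i : Fin n, 1) ≤ ∑ i, Module.finrank k (kf i) := Finset.sum_le_sum fun i _ => hpos i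
    simp only [Finset.sum_const, Finset.card_univ, Fintype.card_fin, smul_eq_mul, mul_one] at h1
    omega
  · rw [Fin.sum_univ_one] at hdeg
    obtain h | h : Module.finrank k (kf 0) = 1 ∨ Module.finrank k (kf 0) = 2 := by
      have := hpos 0
      omega
    · obtain ⟨a₀, b₀, -, hb0, hbv, -, htf', hti', hconv⟩ := hone 0 h
      obtain ⟨t₀, h1, h2, h3⟩ := split_one (Lf 0) Sf Si a₀ b₀ hb0 hbv tf ti htf' hti' Uf hUf Ui hUi
      refine ⟨t₀, h1, h2, fun i => ?_⟩
      obtain rfl := Subsingleton.elim i 0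
      exact hconv t₀ h3
    · obtain ⟨t₀, h1, h2, h3⟩ := split_quad h (a 0) (ha 0) (Lf 0) (b 0) (hb 0) Sf Si (hSb 0) (hunr 0) tf ti
        (htf 0) (hti 0) Uf hUf Ui hUi
      refine ⟨t₀, h1, h2, fun i => ?_⟩
      obtain rfl := Subsingleton.elim i 0
      exact h3
  · rw [Fin.sum_univ_two] at hdeg
    have h0 : Module.finrank k (kf 0) = 1 := by have := hpos 0; have := hpos 1; omega
    have h1 : Module.finrank k (kf 1) = 1 := by have := hpos 0; have := hpos 1; omega
    obtain ⟨a₁, b₁, ha₁, hb1, hbv1, hu1, htf1, hti1, hconv1⟩ := hone 0 h0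
    obtain ⟨a₂, b₂, ha₂, hb2, hbv2, hu2, htf2, hti2, hconv2⟩ := hone 1 h1
    have hne : a₁ ≠ a₂ := fun h => hdist 0 1 (by decide) (by
      rw [← ha₁, ← ha₂, h, minpoly.eq_X_sub_C, minpoly.eq_X_sub_C])
    obtain ⟨t₀, e1, e2, e3, e4⟩ := split_two (Lf 0) (Lf 1) Sf Si a₁ a₂ b₁ b₂ hne hb1 hb2
      (fun v hv => ⟨hbv1 v hv, hbv2 v hv⟩) hu1 hu2 tf ti htf1 htf2 hti1 hti2 Uf hUf Ui hUi
    exact ⟨t₀, e1, e2, fun i => by
      fin_cases i
      · exact hconv1 t₀ e3
      · exact hconv2 t₀ e4⟩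

end Groth.Agent.S19285
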