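import Groth.Statements.S19286
import Groth.Agent.NFApprox.PowRoot

set_option autoImplicit false
universe u
open scoped TensorProduct
open NumberField

namespace Groth.Agent.S19286

open Groth.Agent.NFApprox

/-- Invariance, under a linear change of coordinate on the projective line, of the hypotheses (the data
listed next) of a conjecture on locally split values. Data: k a number field, n ≥ 1, k_i = k(a_i)
with pairwise distinct minimal polynomials, L_i/k_i finite, b_i ∈ k_i nonzero, finite sets S_f ⊇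
(finite places below a non-unit place of some b_i or a ramified prime of some L_i/k_i), S_∞ ⊇ real
places, t_v ∈ k_v for v ∈ S_f ∪ S_∞ with b_i(t_v − a_i) the norm of a unit of k_v ⊗_k L_i over k_v
⊗_k k_i. Let α, β, γ, δ ∈ k with αδ − βγ ≠ 0 satisfy: (i) γa_i + δ ≠ 0 for all i and γt_v + δ ≠ 0
for v ∈ S_f ∪ S_∞; (ii) α is a unit at every finite place outside S_f and αa_i + β is a unit at
every finite place of k_i not above S_f; (iii) for every i and v ∈ S_f ∪ S_∞, (αδ − βγ)/(γt_v + δ)
is the norm of a unit of k_v ⊗_k L_i. Put a'_i = (αa_i + β)/(γa_i + δ), b'_i = b_i(γa_i + δ); let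
S'_f ⊇ S_f be a finite set of finite places containing those where α or γ is not integral and those
below a place of some k_i where a'_i is not integral or b'_i is not a unit; put t'_v = (αt_v +
β)/(γt_v + δ) for v ∈ S_f ∪ S_∞ and t'_v = 0 for v ∈ S'_f ∖ S_f; for t'_0 ∈ k with α ≠ γt'_0 write
t_0 = (δt'_0 − β)/(α − γt'_0). Then: (1) for every i and v ∈ S'_f ∪ S_∞, b'_i(t'_v − a'_i) is the
norm of a unit of k_v ⊗_k L_i over k_v ⊗_k k_i; (2) for v ∈ S_f ∪ S_∞ and every neighbourhood U of
t_v there is a neighbourhood U' of t'_v such that t'_0 ∈ U' forces t_0 ∈ U; (4) there are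
neighbourhoods U'_v of 0 in k_v for v ∈ S'_f ∖ S_f such that whenever t'_0 ∈ U'_v for all such v,
every finite place w of some k_i with w(t_0 − a_i) > 0 either lies above S_f, or does not lie above
S'_f and satisfies w(t'_0 − a'_i) > 0. (The published statement's S' may also contain further
infinite places, and it has a further conclusion on signs at real places; both are omitted here.) -/
theorem result (k : Type u) [Field k] [NumberField k]
    (n : ℕ) (hn : 1 ≤ n)
    (kf : Fin n → Type u) [∀ i, Field (kf i)] [∀ i, NumberField (kf i)] [∀ i, Algebra k (kf i)]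
    (Lf : Fin n → Type u) [∀ i, Field (Lf i)] [∀ i, NumberField (Lf i)] [∀ i, Algebra (kf i) (Lf i)]
    [∀ i, Algebra k (Lf i)] [∀ i, IsScalarTower k (kf i) (Lf i)]
    (a : (i : Fin n) → kf i) (ha : ∀ i, IntermediateField.adjoin k {a i} = ⊤)
    (hdist : ∀ i j, i ≠ j → minpoly k (a i) ≠ minpoly k (a j))
    (b : (i : Fin n) → kf i) (hb : ∀ i, b i ≠ 0)
    (Sf : Finset (IsDedekindDomain.HeightOneSpectrum (NumberField.RingOfIntegers k)))
    (Si : Finset (NumberField.InfinitePlace k))
    (hSreal : ∀ w : NumberField.InfinitePlace k, w.IsReal → w ∈ Si)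
    (hSb : ∀ i, ∀ W : IsDedekindDomain.HeightOneSpectrum (NumberField.RingOfIntegers (kf i)),
      W.valuation (kf i) (b i) ≠ 1 → ∃ v ∈ Sf, W.asIdeal.LiesOver v.asIdeal)
    (hSram : ∀ i, ∀ Q : Ideal (NumberField.RingOfIntegers (Lf i)), Q.IsPrime → Q ≠ ⊥ →
      Q.ramificationIdx (NumberField.RingOfIntegers (kf i)) ≠ 1 → ∃ v ∈ Sf, Q.LiesOver v.asIdeal)
    (tf : (v : IsDedekindDomain.HeightOneSpectrum (NumberField.RingOfIntegers k)) → v.adicCompletion k)
    (ti : (w : NumberField.InfinitePlace k) → w.Completion)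
    (htf : ∀ i, ∀ v ∈ Sf,
      letI := (Algebra.TensorProduct.map (AlgHom.id k (v.adicCompletion k))
        (IsScalarTower.toAlgHom k (kf i) (Lf i))).toRingHom.toAlgebra
      ∃ x : (v.adicCompletion k) ⊗[k] Lf i, IsUnit x ∧
        Algebra.norm ((v.adicCompletion k) ⊗[k] kf i) x =
          (1 : v.adicCompletion k) ⊗ₜ[k] b i * (tf v ⊗ₜ[k] (1 : kf i) - (1 : v.adicCompletion k) ⊗ₜ[k] a i))
    (hti : ∀ i, ∀ w ∈ Si,
      letI := (Algebra.TensorProduct.map (AlgHom.id k w.Completion)
        (IsScalarTower.toAlgHom k (kf i) (Lf i))).toRingHom.toAlgebra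
      ∃ x : w.Completion ⊗[k] Lf i, IsUnit x ∧
        Algebra.norm (w.Completion ⊗[k] kf i) x =
          (1 : w.Completion) ⊗ₜ[k] b i * (ti w ⊗ₜ[k] (1 : kf i) - (1 : w.Completion) ⊗ₜ[k] a i))
    (α β γ δ : k) (hdet : α * δ - β * γ ≠ 0)
    (hia : ∀ i, algebraMap k (kf i) γ * a i + algebraMap k (kf i) δ ≠ 0)
    (hitf : ∀ v ∈ Sf, algebraMap k (v.adicCompletion k) γ * tf v + algebraMap k (v.adicCompletion k) δ ≠ 0)
    (hiti : ∀ w ∈ Si, algebraMap k w.Completion γ * ti w + algebraMap k w.Completion δ ≠ 0)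
    (hiiα : ∀ v : IsDedekindDomain.HeightOneSpectrum (NumberField.RingOfIntegers k), v ∉ Sf → v.valuation k α = 1)
    (hiia : ∀ i, ∀ W : IsDedekindDomain.HeightOneSpectrum (NumberField.RingOfIntegers (kf i)),
      (¬ ∃ v ∈ Sf, W.asIdeal.LiesOver v.asIdeal) →
        W.valuation (kf i) (algebraMap k (kf i) α * a i + algebraMap k (kf i) β) = 1)
    (hiiif : ∀ i, ∀ v ∈ Sf,
      letI := (Algebra.TensorProduct.map (AlgHom.id k (v.adicCompletion k))
        (IsScalarTower.toAlgHom k (kf i) (Lf i))).toRingHom.toAlgebra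
      ∃ y : (v.adicCompletion k) ⊗[k] Lf i, IsUnit y ∧
        Algebra.norm ((v.adicCompletion k) ⊗[k] kf i) y =
          (algebraMap k (v.adicCompletion k) (α * δ - β * γ) /
            (algebraMap k (v.adicCompletion k) γ * tf v + algebraMap k (v.adicCompletion k) δ)) ⊗ₜ[k] (1 : kf i))
    (hiiii : ∀ i, ∀ w ∈ Si,
      letI := (Algebra.TensorProduct.map (AlgHom.id k w.Completion)
        (IsScalarTower.toAlgHom k (kf i) (Lf i))).toRingHom.toAlgebra
      ∃ y : w.Completion ⊗[k] Lf i, IsUnit y ∧
        Algebra.norm (w.Completion ⊗[k] kf i) y =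
          (algebraMap k w.Completion (α * δ - β * γ) /
            (algebraMap k w.Completion γ * ti w + algebraMap k w.Completion δ)) ⊗ₜ[k] (1 : kf i))
    (a' b' : (i : Fin n) → kf i)
    (ha' : ∀ i, a' i = (algebraMap k (kf i) α * a i + algebraMap k (kf i) β) /
      (algebraMap k (kf i) γ * a i + algebraMap k (kf i) δ))
    (hb' : ∀ i, b' i = b i * (algebraMap k (kf i) γ * a i + algebraMap k (kf i) δ))
    (Sf' : Finset (IsDedekindDomain.HeightOneSpectrum (NumberField.RingOfIntegers k))) (hSS' : Sf ⊆ Sf')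
    (hS'αγ : ∀ v : IsDedekindDomain.HeightOneSpectrum (NumberField.RingOfIntegers k), v ∉ Sf' →
      v.valuation k α ≤ 1 ∧ v.valuation k γ ≤ 1)
    (hS'ab : ∀ i, ∀ W : IsDedekindDomain.HeightOneSpectrum (NumberField.RingOfIntegers (kf i)),
      (¬ ∃ v ∈ Sf', W.asIdeal.LiesOver v.asIdeal) → W.valuation (kf i) (a' i) ≤ 1 ∧ W.valuation (kf i) (b' i) = 1)
    (tf' : (v : IsDedekindDomain.HeightOneSpectrum (NumberField.RingOfIntegers k)) → v.adicCompletion k)
    (htf'S : ∀ v ∈ Sf, tf' v = (algebraMap k (v.adicCompletion k) α * tf v + algebraMap k (v.adicCompletion k) β) /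
      (algebraMap k (v.adicCompletion k) γ * tf v + algebraMap k (v.adicCompletion k) δ))
    (htf'S' : ∀ v ∈ Sf', v ∉ Sf → tf' v = 0)
    (ti' : (w : NumberField.InfinitePlace k) → w.Completion)
    (hti' : ∀ w ∈ Si, ti' w = (algebraMap k w.Completion α * ti w + algebraMap k w.Completion β) /
      (algebraMap k w.Completion γ * ti w + algebraMap k w.Completion δ)) :
    (∀ i, ∀ v ∈ Sf',
      letI := (Algebra.TensorProduct.map (AlgHom.id k (v.adicCompletion k))
        (IsScalarTower.toAlgHom k (kf i) (Lf i))).toRingHom.toAlgebra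
      ∃ x : (v.adicCompletion k) ⊗[k] Lf i, IsUnit x ∧
        Algebra.norm ((v.adicCompletion k) ⊗[k] kf i) x =
          (1 : v.adicCompletion k) ⊗ₜ[k] b' i * (tf' v ⊗ₜ[k] (1 : kf i) - (1 : v.adicCompletion k) ⊗ₜ[k] a' i)) ∧
    (∀ i, ∀ w ∈ Si,
      letI := (Algebra.TensorProduct.map (AlgHom.id k w.Completion)
        (IsScalarTower.toAlgHom k (kf i) (Lf i))).toRingHom.toAlgebra
      ∃ x : w.Completion ⊗[k] Lf i, IsUnit x ∧
        Algebra.norm (w.Completion ⊗[k] kf i) x =
          (1 : w.Completion) ⊗ₜ[k] b' i * (ti' w ⊗ₜ[k] (1 : kf i) - (1 : w.Completion) ⊗ₜ[k] a' i)) ∧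
    (∀ v ∈ Sf, ∀ U : Set (v.adicCompletion k), IsOpen U → tf v ∈ U →
      ∃ U' : Set (v.adicCompletion k), IsOpen U' ∧ tf' v ∈ U' ∧
        ∀ t₀' : k, α ≠ γ * t₀' → algebraMap k (v.adicCompletion k) t₀' ∈ U' →
          algebraMap k (v.adicCompletion k) ((δ * t₀' - β) / (α - γ * t₀')) ∈ U) ∧
    (∀ w ∈ Si, ∀ U : Set w.Completion, IsOpen U → ti w ∈ U →
      ∃ U' : Set w.Completion, IsOpen U' ∧ ti' w ∈ U' ∧
        ∀ t₀' : k, α ≠ γ * t₀' → algebraMap k w.Completion t₀' ∈ U' →
          algebraMap k w.Completion ((δ * t₀' - β) / (α - γ * t₀')) ∈ U) ∧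
    (∃ U' : (v : IsDedekindDomain.HeightOneSpectrum (NumberField.RingOfIntegers k)) → Set (v.adicCompletion k),
      (∀ v ∈ Sf', v ∉ Sf → IsOpen (U' v) ∧ (0 : v.adicCompletion k) ∈ U' v) ∧
      ∀ t₀' : k, α ≠ γ * t₀' → (∀ v ∈ Sf', v ∉ Sf → algebraMap k (v.adicCompletion k) t₀' ∈ U' v) →
        ∀ i, ∀ W : IsDedekindDomain.HeightOneSpectrum (NumberField.RingOfIntegers (kf i)),
          W.valuation (kf i) (algebraMap k (kf i) ((δ * t₀' - β) / (α - γ * t₀')) - a i) < 1 →
            (∃ v ∈ Sf, W.asIdeal.LiesOver v.asIdeal) ∨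
            ((¬ ∃ v ∈ Sf', W.asIdeal.LiesOver v.asIdeal) ∧
              W.valuation (kf i) (algebraMap k (kf i) t₀' - a' i) < 1)) := by

  classical
  have hid : ∀ {R : Type u} [CommRing R] (α β γ δ t a a' b u : R),
      (γ * a + δ) * a' = α * a + β → (γ * t + δ) * u = 1 →
      b * (γ * a + δ) * ((α * t + β) * u - a') = b * (t - a) * ((α * δ - β * γ) * u) := by
    intro R _ α β γ δ t a a' b u h1 h2
    linear_combination (-b) * h1 + b * (α * a + β) * h2
  have hnorm : ∀ (i : Fin n) (R₀ : Type u) [Field R₀] [Algebra k R₀] (t t' : R₀),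
      t' = (algebraMap k R₀ α * t + algebraMap k R₀ β) / (algebraMap k R₀ γ * t + algebraMap k R₀ δ) →
      algebraMap k R₀ γ * t + algebraMap k R₀ δ ≠ 0 →
      letI := (Algebra.TensorProduct.map (AlgHom.id k R₀)
        (IsScalarTower.toAlgHom k (kf i) (Lf i))).toRingHom.toAlgebra
      (∃ x : TensorProduct k R₀ (Lf i), IsUnit x ∧
        Algebra.norm (TensorProduct k R₀ (kf i)) x =
          (1 : R₀) ⊗ₜ[k] b i * (t ⊗ₜ[k] (1 : kf i) - (1 : R₀) ⊗ₜ[k] a i)) →
      (∃ y : TensorProduct k R₀ (Lf i), IsUnit y ∧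
        Algebra.norm (TensorProduct k R₀ (kf i)) y =
          (algebraMap k R₀ (α * δ - β * γ) /
            (algebraMap k R₀ γ * t + algebraMap k R₀ δ)) ⊗ₜ[k] (1 : kf i)) →
      ∃ x : TensorProduct k R₀ (Lf i), IsUnit x ∧
        Algebra.norm (TensorProduct k R₀ (kf i)) x =
          (1 : R₀) ⊗ₜ[k] b' i * (t' ⊗ₜ[k] (1 : kf i) - (1 : R₀) ⊗ₜ[k] a' i) := by
    intro i R₀ _ _ t t' ht' hD
    rintro ⟨x, hx, hxn⟩ ⟨y, hy, hyn⟩
    refine ⟨x * y, hx.mul hy, ?_⟩
    rw [map_mul, hxn, hyn]
    set D := algebraMap k R₀ γ * t + algebraMap k R₀ δ with hDdef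
    let C : R₀ →+* TensorProduct k R₀ (kf i) := Algebra.TensorProduct.includeLeftRingHom
    let A : kf i →+* TensorProduct k R₀ (kf i) :=
      (Algebra.TensorProduct.includeRight : kf i →ₐ[k] TensorProduct k R₀ (kf i)).toRingHom
    have hAC : ∀ c : k, A (algebraMap k (kf i) c) = C (algebraMap k R₀ c) := fun c => by
      show (1 : R₀) ⊗ₜ[k] algebraMap k (kf i) c = algebraMap k R₀ c ⊗ₜ[k] (1 : kf i)
      rw [Algebra.algebraMap_eq_smul_one, Algebra.algebraMap_eq_smul_one, ← TensorProduct.smul_tmul]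
    show A (b i) * (C t - A (a i)) * C (algebraMap k R₀ (α * δ - β * γ) / D) = A (b' i) * (C t' - A (a' i))
    have := hid (C (algebraMap k R₀ α)) (C (algebraMap k R₀ β)) (C (algebraMap k R₀ γ)) (C (algebraMap k R₀ δ))
      (C t) (A (a i)) (A (a' i)) (A (b i)) (C D⁻¹)
      (by rw [← hAC, ← hAC, ← hAC, ← hAC, ← map_mul, ← map_add, ← map_mul, ← map_mul, ← map_add, ha',
            mul_div_cancel₀ _ (hia i)])
      (by rw [← map_mul, ← map_add, ← hDdef, ← map_mul, mul_inv_cancel₀ hD, map_one])
    rw [hb', map_mul, map_add, map_mul, hAC, hAC, ht', div_eq_mul_inv, div_eq_mul_inv, map_mul, map_mul,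
      map_add, map_mul, map_sub, map_sub, map_mul, map_mul, map_mul, map_mul]
    exact this.symm
  have hunder : ∀ (i : Fin n) (W : IsDedekindDomain.HeightOneSpectrum (NumberField.RingOfIntegers (kf i)))
      (v : IsDedekindDomain.HeightOneSpectrum (NumberField.RingOfIntegers k)), W.asIdeal.LiesOver v.asIdeal →
      ∀ v' : IsDedekindDomain.HeightOneSpectrum (NumberField.RingOfIntegers k), W.asIdeal.LiesOver v'.asIdeal →
        v' = v := fun i W v hv v' hv' => IsDedekindDomain.HeightOneSpectrum.ext (hv'.over.trans hv.over.symm)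
  refine ⟨fun i v hv => ?_, fun i w hw => hnorm i w.Completion (ti w) (ti' w) (hti' w hw) (hiti w hw)
    (hti i w hw) (hiiii i w hw), fun v hv U hU htU => ?_, fun w hw U hU htU => ?_, ?_⟩
  · by_cases hvS : v ∈ Sf
    · exact hnorm i _ (tf v) (tf' v) (htf'S v hvS) (hitf v hvS) (htf i v hvS) (hiiif i v hvS)
    · obtain ⟨x, hx, hxn⟩ := exists_norm_eq_rel (k := k) (K := kf i) (Lf i) v
        (fun W hW Q hQ hQW => by
          by_contra hne
          haveI := hW
          haveI := hQW
          obtain ⟨v', hv', hQv'⟩ := hSram i Q hQ (Ideal.ne_bot_of_liesOver_of_ne_bot W.ne_bot Q) hne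
          exact hvS (IsDedekindDomain.HeightOneSpectrum.ext (hQv'.over.trans
            (Ideal.LiesOver.trans Q W.asIdeal v.asIdeal).over.symm) ▸ hv'))
        (-(b i * (algebraMap k (kf i) α * a i + algebraMap k (kf i) β))) (fun W hW => by
          have hnot : ¬ ∃ v' ∈ Sf, W.asIdeal.LiesOver v'.asIdeal := fun ⟨v', hv', hW'⟩ =>
            hvS (hunder i W v hW v' hW' ▸ hv')
          rw [Valuation.map_neg, map_mul, hiia i W hnot, mul_one]
          by_contra h
          exact hnot (hSb i W h))
      refine ⟨x, hx, hxn.trans ?_⟩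
      rw [htf'S' v hv hvS, TensorProduct.zero_tmul, zero_sub, mul_neg, Algebra.TensorProduct.tmul_mul_tmul,
        one_mul, TensorProduct.tmul_neg, hb', ha', mul_assoc, mul_div_cancel₀ _ (hia i)]
  · have hne : algebraMap k (v.adicCompletion k) α - algebraMap k _ γ * tf' v ≠ 0 := by
      rw [htf'S v hv, show algebraMap k (v.adicCompletion k) α - algebraMap k _ γ *
        ((algebraMap k _ α * tf v + algebraMap k _ β) / (algebraMap k _ γ * tf v + algebraMap k _ δ)) =
        algebraMap k _ (α * δ - β * γ) / (algebraMap k _ γ * tf v + algebraMap k _ δ) by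
        have := hitf v hv
        rw [mul_div_assoc', sub_div' this, map_sub, map_mul, map_mul]; congr 1; ring]
      exact div_ne_zero ((map_ne_zero_iff _ (algebraMap k _).injective).2 hdet) (hitf v hv)
    let f : v.adicCompletion k → v.adicCompletion k := fun x =>
      (algebraMap k _ δ * x - algebraMap k _ β) / (algebraMap k _ α - algebraMap k _ γ * x)
    have hf : ContinuousAt f (tf' v) :=
      ContinuousAt.div ((continuous_const.mul continuous_id).sub continuous_const).continuousAt
        (continuous_const.sub (continuous_const.mul continuous_id)).continuousAt hne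
    have hft : f (tf' v) = tf v := by
      show _ / _ = _
      rw [div_eq_iff hne, htf'S v hv]
      have := hitf v hv
      rw [mul_div_assoc', div_sub' this, mul_div_assoc', sub_div' this, mul_div_assoc']
      congr 1
      ring
    obtain ⟨U', hU', hU'o, htU'⟩ := mem_nhds_iff.1 (hf.preimage_mem_nhds (hU.mem_nhds (by rw [hft]; exact htU)))
    refine ⟨U', hU'o, htU', fun t₀' _ ht₀' => ?_⟩
    have h1 : f (algebraMap k (v.adicCompletion k) t₀') ∈ U := hU' ht₀'
    rwa [map_div₀, map_sub, map_sub, map_mul, map_mul]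
  · have hne : algebraMap k w.Completion α - algebraMap k _ γ * ti' w ≠ 0 := by
      rw [hti' w hw, show algebraMap k w.Completion α - algebraMap k _ γ *
        ((algebraMap k _ α * ti w + algebraMap k _ β) / (algebraMap k _ γ * ti w + algebraMap k _ δ)) =
        algebraMap k _ (α * δ - β * γ) / (algebraMap k _ γ * ti w + algebraMap k _ δ) by
        have := hiti w hw
        rw [mul_div_assoc', sub_div' this, map_sub, map_mul, map_mul]; congr 1; ring]
      exact div_ne_zero ((map_ne_zero_iff _ (algebraMap k _).injective).2 hdet) (hiti w hw)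
    let f : w.Completion → w.Completion := fun x =>
      (algebraMap k _ δ * x - algebraMap k _ β) / (algebraMap k _ α - algebraMap k _ γ * x)
    have hf : ContinuousAt f (ti' w) :=
      ContinuousAt.div ((continuous_const.mul continuous_id).sub continuous_const).continuousAt
        (continuous_const.sub (continuous_const.mul continuous_id)).continuousAt hne
    have hft : f (ti' w) = ti w := by
      show _ / _ = _
      rw [div_eq_iff hne, hti' w hw]
      have := hiti w hw
      rw [mul_div_assoc', div_sub' this, mul_div_assoc', sub_div' this, mul_div_assoc']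
      congr 1
      ring
    obtain ⟨U', hU', hU'o, htU'⟩ := mem_nhds_iff.1 (hf.preimage_mem_nhds (hU.mem_nhds (by rw [hft]; exact htU)))
    refine ⟨U', hU'o, htU', fun t₀' _ ht₀' => ?_⟩
    have h1 : f (algebraMap k w.Completion t₀') ∈ U := hU' ht₀'
    rwa [map_div₀, map_sub, map_sub, map_mul, map_mul]
  · have hfin : ∀ (i : Fin n) (v : IsDedekindDomain.HeightOneSpectrum (NumberField.RingOfIntegers k)),
        {W : IsDedekindDomain.HeightOneSpectrum (NumberField.RingOfIntegers (kf i)) |
          W.asIdeal.LiesOver v.asIdeal}.Finite := by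
      intro i v
      obtain ⟨p, hp, hp0⟩ := Submodule.exists_mem_ne_zero_of_ne_bot v.ne_bot
      refine (finite_places_mem (k := kf i) ((map_ne_zero_iff _ (FaithfulSMul.algebraMap_injective
        (NumberField.RingOfIntegers k) (NumberField.RingOfIntegers (kf i)))).2 hp0)).subset fun W hW => ?_
      haveI : W.asIdeal.LiesOver v.asIdeal := hW
      exact (Ideal.mem_of_liesOver W.asIdeal v.asIdeal p).1 hp
    let I : IsDedekindDomain.HeightOneSpectrum (NumberField.RingOfIntegers k) →
        Finset (Σ i : Fin n, IsDedekindDomain.HeightOneSpectrum (NumberField.RingOfIntegers (kf i))) :=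
      fun v => Finset.univ.sigma fun i => (hfin i v).toFinset
    let G : ∀ (_ : Σ i : Fin n, IsDedekindDomain.HeightOneSpectrum (NumberField.RingOfIntegers (kf i))),
        WithZero (Multiplicative ℤ) := fun p =>
      p.2.valuation (kf p.1) (algebraMap k (kf p.1) γ * a p.1 + algebraMap k (kf p.1) δ)
    have hm : ∀ v : IsDedekindDomain.HeightOneSpectrum (NumberField.RingOfIntegers k), ∃ N : ℕ,
        v.valuation k γ * WithZero.exp (-(N : ℤ)) ≤ 1 ∧ ∀ p ∈ I v, G p * WithZero.exp (-(N : ℤ)) ≤ 1 := by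
      intro v
      have hN : ∀ g : WithZero (Multiplicative ℤ), ∃ N : ℕ, g ≤ WithZero.exp (N : ℤ) := fun g => by
        rcases eq_or_ne g 0 with h | h
        · exact ⟨0, by rw [h]; exact zero_le'⟩
        · obtain ⟨e, rfl⟩ := WithZero.ne_zero_iff_exists.1 h
          refine ⟨(Multiplicative.toAdd e).natAbs, ?_⟩
          change WithZero.exp (Multiplicative.toAdd e) ≤ _
          rw [WithZero.exp_le_exp]
          omega
      choose N hN using hN
      refine ⟨max (N (v.valuation k γ)) ((I v).sup fun p => N (G p)), ?_, fun p hp => ?_⟩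
      · refine (mul_le_mul' (hN _) le_rfl).trans ?_
        rw [← WithZero.exp_add, ← WithZero.exp_zero, WithZero.exp_le_exp]
        have := le_max_left (N (v.valuation k γ)) ((I v).sup fun p => N (G p))
        omega
      · refine (mul_le_mul' (hN _) le_rfl).trans ?_
        rw [← WithZero.exp_add, ← WithZero.exp_zero, WithZero.exp_le_exp]
        have := (Finset.le_sup (f := fun p => N (G p)) hp).trans (le_max_right (N (v.valuation k γ)) _)
        omega
    choose N hNγ hNG using hm
    refine ⟨fun v => {x | Valued.v x < WithZero.exp (-(N v : ℤ))}, fun v _ _ =>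
      ⟨isOpen_lt_exp v _, by simp [WithZero.exp_pos]⟩, fun t₀' hne hsmall i W hW => ?_⟩
    by_cases hWS : ∃ v ∈ Sf, W.asIdeal.LiesOver v.asIdeal
    · exact Or.inl hWS
    refine Or.inr ?_
    set t := algebraMap k (kf i) t₀' with ht
    have hDa := hia i
    have hden : algebraMap k (kf i) α - algebraMap k (kf i) γ * t ≠ 0 := by
      rw [ht, ← map_mul, ← map_sub]
      exact (map_ne_zero_iff _ (algebraMap k _).injective).2 (sub_ne_zero.2 hne)
    have heq : (algebraMap k (kf i) γ * a i + algebraMap k (kf i) δ) * t -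
        (algebraMap k (kf i) α * a i + algebraMap k (kf i) β) =
        (algebraMap k (kf i) α - algebraMap k (kf i) γ * t) *
          (algebraMap k (kf i) ((δ * t₀' - β) / (α - γ * t₀')) - a i) := by
      rw [map_div₀, map_sub, map_sub, map_mul, map_mul, ← ht, mul_sub, mul_div_cancel₀ _ hden]
      ring
    obtain ⟨v, hWv⟩ : ∃ v : IsDedekindDomain.HeightOneSpectrum (NumberField.RingOfIntegers k),
        W.asIdeal.LiesOver v.asIdeal :=
      ⟨⟨W.asIdeal.under _, inferInstance, Ideal.under_ne_bot _ W.ne_bot⟩, ⟨rfl⟩⟩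
    haveI := hWv
    have hv : v ∉ Sf := fun h => hWS ⟨v, h, hWv⟩
    have hvS' : v ∉ Sf' := by
      intro hv'
      refine hW.ne ?_
      have ht' := hsmall v hv' hv
      rw [Set.mem_setOf_eq, valued_algebraMap] at ht'
      have htW : W.valuation (kf i) t < WithZero.exp (-(N v : ℤ)) := by
        rw [ht, ← IsDedekindDomain.HeightOneSpectrum.valuation_liesOver (K := k) (kf i) v W]
        refine lt_of_le_of_lt (pow_le_of_le_one zero_le' (ht'.le.trans ?_)
          (Ideal.IsDedekindDomain.ramificationIdx'_ne_zero_of_liesOver W.asIdeal v.ne_bot)) ht'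
        rw [← WithZero.exp_zero, WithZero.exp_le_exp]
        omega
      have hγt : W.valuation (kf i) (algebraMap k (kf i) γ * t) < 1 := by
        rw [ht, ← map_mul]
        refine valuation_lt_one_of_lt_one v W ?_
        rw [map_mul]
        rcases eq_or_ne (v.valuation k γ) 0 with h | h
        · rw [h, zero_mul]; exact zero_lt_one
        · exact (mul_lt_mul_of_pos_left ht' (zero_lt_iff.2 h)).trans_le (hNγ v)
      have hαW : W.valuation (kf i) (algebraMap k (kf i) α) = 1 := by
        rw [← IsDedekindDomain.HeightOneSpectrum.valuation_liesOver (K := k) (kf i) v W, hiiα v hv, one_pow]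
      have hG : W.valuation (kf i) ((algebraMap k (kf i) γ * a i + algebraMap k (kf i) δ) * t) < 1 := by
        rw [map_mul]
        rcases eq_or_ne (W.valuation (kf i) (algebraMap k (kf i) γ * a i + algebraMap k (kf i) δ)) 0 with h | h
        · rw [h, zero_mul]; exact zero_lt_one
        · exact (mul_lt_mul_of_pos_left htW (zero_lt_iff.2 h)).trans_le
            (hNG v ⟨i, W⟩ (Finset.mem_sigma.2 ⟨Finset.mem_univ _, (hfin i v).mem_toFinset.2 hWv⟩))
      have h1 := congrArg (W.valuation (kf i)) heq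
      rw [Valuation.map_sub_eq_of_lt_right _ (by rwa [hiia i W hWS]), hiia i W hWS, map_mul,
        Valuation.map_sub_eq_of_lt_left _ (by rwa [hαW]), hαW, one_mul] at h1
      exact h1.symm
    have hWS' : ¬ ∃ v ∈ Sf', W.asIdeal.LiesOver v.asIdeal := fun ⟨v', hv', hW'⟩ =>
      hvS' (hunder i W v hWv v' hW' ▸ hv')
    refine ⟨hWS', ?_⟩
    obtain ⟨ha'W, hb'W⟩ := hS'ab i W hWS'
    have hbW : W.valuation (kf i) (b i) = 1 := by
      by_contra h
      exact hWS (hSb i W h)
    rw [hb', map_mul, hbW, one_mul] at hb'W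
    have h1 : W.valuation (kf i) (t - a' i) = W.valuation (kf i) (algebraMap k (kf i) α - algebraMap k (kf i) γ * t) *
        W.valuation (kf i) (algebraMap k (kf i) ((δ * t₀' - β) / (α - γ * t₀')) - a i) := by
      rw [← map_mul, ← heq, ha',
        ← mul_div_cancel₀ (algebraMap k (kf i) α * a i + algebraMap k (kf i) β) hDa, ← mul_sub, map_mul, hb'W,
        one_mul, mul_div_cancel₀ _ hDa]
    have hαγ : W.valuation (kf i) (algebraMap k (kf i) α - algebraMap k (kf i) γ * t) ≤ max 1 (W.valuation (kf i) t) := by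
      refine (Valuation.map_sub _ _ _).trans (max_le_max (valuation_le_one_of_le_one v W (hS'αγ v hvS').1) ?_)
      rw [map_mul]
      exact mul_le_of_le_one_left' (valuation_le_one_of_le_one v W (hS'αγ v hvS').2)
    rcases le_or_gt (W.valuation (kf i) t) 1 with hle | hgt
    · rw [h1]
      rw [max_eq_left hle] at hαγ
      exact (mul_le_of_le_one_left' hαγ).trans_lt hW
    · exfalso
      rw [Valuation.map_sub_eq_of_lt_left _ (ha'W.trans_lt hgt)] at h1
      rw [max_eq_right hgt.le] at hαγ
      exact (ne_of_gt ((mul_le_mul' hαγ le_rfl).trans_lt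
        (mul_lt_of_lt_one_right (zero_lt_one.trans hgt) hW))) h1

end Groth.Agent.S19286
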