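import Groth.Statements.S19288
import Mathlib.AlgebraicGeometry.Morphisms.Etale
import Mathlib.AlgebraicGeometry.Morphisms.FlatMono
import Mathlib.AlgebraicGeometry.Morphisms.QuasiFinite
import Groth.Agent.AlgSpLib.EtLocalInst
-- import your own Groth.Agent.* helpers here

set_option autoImplicit false
universe u
open CategoryTheory CategoryTheory.Limits MonoidalCategory CartesianMonoidalCategory MonObj AlgebraicGeometry
open AbSch

namespace Groth.Agent.S19288

theorem isOpenImmersion_section {S X : Scheme.{u}} (p : X ⟶ S) [Etale p] (e : S ⟶ X) (he : e ≫ p = 𝟙 S) :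
    IsOpenImmersion e := by
  have : Etale (e ≫ p) := by rw [he]; infer_instance
  have : Etale e := Etale.of_comp e p
  have : Mono e := mono_of_mono_fac he
  exact IsOpenImmersion.of_flat_of_mono e

/-- Let S be a scheme, X a commutative S-group scheme which is etale and separated over S (hence locally
of finite presentation), and P a commutative S-group scheme of finite presentation over S all of
whose fibres are connected. Then every homomorphism of S-group schemes from P to X is trivial (it
factors through the unit section). -/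
theorem result {S : Scheme.{u}} (P X : Over S)
    [GrpObj P] [IsCommMonObj P] [GrpObj X] [IsCommMonObj X]
    [Etale X.hom] [IsSeparated X.hom]
    [QuasiCompact P.hom] [QuasiSeparated P.hom] [LocallyOfFinitePresentation P.hom]
    (hP : ∀ s : S, ConnectedSpace ↥(P.hom.fiber s))
    (f : P ⟶ X) [IsMonHom f] : f = 1 := by
  have hOI : IsOpenImmersion η[X].left := isOpenImmersion_section X.hom η[X].left (Over.w η[X])
  have hd : ∀ p, f.left p ∈ Set.range η[X].left := by
    intro p
    let s := P.hom p
    have := hP s
    obtain ⟨p', hp'⟩ : p ∈ Set.range (P.hom.fiberι s) := by rw [P.hom.range_fiberι]; rfl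
    let fs : P.hom.fiber s ⟶ X.hom.fiber s := Limits.pullback.map _ _ _ _ f.left (𝟙 _) (𝟙 _)
      (by rw [Category.comp_id, Over.w]) (by rw [Category.comp_id, Category.id_comp])
    have hfs : ∀ z, f.left (P.hom.fiberι s z) = X.hom.fiberι s (fs z) := fun z => by
      have h : fs ≫ X.hom.fiberι s = P.hom.fiberι s ≫ f.left := Limits.pullback.lift_fst _ _ _
      exact (congrArg (fun φ => φ z) h).symm
    have : DiscreteTopology ↥(X.hom.fiber s) :=
      have := Groth.Agent.AlgSpLib.locallyQuasiFinite_of_formallyUnramified X.hom
      have hd := (X.hom.isDiscrete_preimage_singleton s).to_subtype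
      (X.hom.fiberHomeo s).symm.discreteTopology
    let ηs : Spec (S.residueField s) ⟶ P.hom.fiber s :=
      Limits.pullback.lift (S.fromSpecResidueField s ≫ η[P].left) (𝟙 _) (by
        have h : η[P].left ≫ P.hom = 𝟙 S := Over.w η[P]
        rw [Category.assoc, h, Category.comp_id, Category.id_comp])
    let z₀ := ηs (IsLocalRing.closedPoint _)
    have hc : fs p' = fs z₀ :=
      (isPreconnected_range fs.continuous).subsingleton ⟨p', rfl⟩ ⟨z₀, rfl⟩
    rw [← hp', hfs, hc, ← hfs]
    refine ⟨s, ?_⟩
    have h1 : P.hom.fiberι s z₀ = η[P].left s := by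
      have h : ηs ≫ P.hom.fiberι s = S.fromSpecResidueField s ≫ η[P].left := Limits.pullback.lift_fst _ _ _
      refine (congrArg (fun φ => φ (IsLocalRing.closedPoint _)) h).trans ?_
      exact congrArg η[P].left (Scheme.fromSpecResidueField_apply _ _)
    rw [h1]
    exact (congrArg (fun φ : 𝟙_ (Over S) ⟶ X => φ.left s) (IsMonHom.one_hom f)).symm
  let g := IsOpenImmersion.lift η[X].left f.left (fun _ ⟨p, hp⟩ => hp ▸ hd p)
  have hg : g ≫ η[X].left = f.left := IsOpenImmersion.lift_fac _ _ _
  have hgs : g = P.hom :=
    calc g = g ≫ η[X].left ≫ X.hom := (Category.comp_id g).symm.trans (congrArg (g ≫ ·) (Over.w η[X]).symm)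
      _ = P.hom := by rw [reassoc_of% hg, Over.w f]
  refine Over.OverMorphism.ext ?_
  rw [← hg, hgs]
  have e : (1 : P ⟶ X) = toUnit P ≫ η[X] := rfl
  rw [e]
  rfl

end Groth.Agent.S19288
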