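import Groth.Statements.S19289
import Groth.Agent.AVTors.TorusHom
-- import your own Groth.Agent.* helpers here

set_option autoImplicit false
universe u
open CategoryTheory CategoryTheory.Limits MonoidalCategory CartesianMonoidalCategory MonObj AlgebraicGeometry
open AbSch

namespace Groth.Agent.S19289

set_option linter.style.haveILetI false
set_option backward.isDefEq.respectTransparency false
set_option backward.isDefEq.respectTransparency.types false
set_option maxHeartbeats 1000000

/-- Let S be a scheme, T an S-torus and A an abelian S-scheme (a smooth proper S-group scheme with
connected fibres). Then the group of homomorphisms from T to A is trivial: every homomorphism of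
S-group schemes T → A factors through the unit section. -/
theorem result {S : Scheme.{u}} (T A : Over S)
    [GrpObj T] [IsCommMonObj T] (hT : Red.IsTorus T)
    [GrpObj A] [IsCommMonObj A] [Smooth A.hom] [IsProper A.hom]
    (hA : ∀ s : S, ConnectedSpace ↥(A.hom.fiber s))
    (f : T ⟶ A) [IsMonHom f] : f = 1 := by
  exact Groth.Agent.AVTors.torus_hom_eq_one hT (fun s => hA s) f

end Groth.Agent.S19289
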