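import Groth.Statements.S19290
import Groth.Agent.AVTors.TorusHom
import Groth.Agent.TorusQI.SplitSubtori
import Groth.Agent.DSPtsLib.Basic
-- import your own Groth.Agent.* helpers here

set_option autoImplicit false
universe u
open CategoryTheory CategoryTheory.Limits MonoidalCategory CartesianMonoidalCategory MonObj AlgebraicGeometry
open AbSch

namespace Groth.Agent.S19290

set_option linter.style.haveILetI false
set_option backward.isDefEq.respectTransparency false
set_option backward.isDefEq.respectTransparency.types false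
set_option maxHeartbeats 1000000

/-- Let S be a scheme, T an S-torus and A an abelian S-scheme (smooth, proper, with connected fibres).
Then the S-sheaf of homomorphisms from T to A is trivial: the internal Hom sheaf, on the big fppf
site of S, from the abelian sheaf of points of T to that of A is the zero sheaf. -/
theorem result {S : Scheme.{u}} (T A : Over S)
    [GrpObj T] [IsCommMonObj T] (hT : Red.IsTorus T)
    [GrpObj A] [IsCommMonObj A] [Smooth A.hom] [IsProper A.hom]
    (hA : ∀ s : S, ConnectedSpace ↥(A.hom.fiber s)) :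
    IsZero (HomSh.homSh (QuotSh.J Scheme.fppfPrecoverage S) (CGrpSh.pts Scheme.fppfPrecoverage T) (CGrpSh.pts Scheme.fppfPrecoverage A)) := by
  let J := QuotSh.J Scheme.fppfPrecoverage S
  let PT := CGrpSh.pts Scheme.fppfPrecoverage T
  let PA := CGrpSh.pts Scheme.fppfPrecoverage A
  suffices hzero : ∀ (X : Over S) (φ : PT.over X ⟶ PA.over X), φ = 0 by
    rw [IsZero.iff_id_eq_zero]
    refine Sheaf.hom_ext (NatTrans.ext (funext fun X => ?_))
    ext x
    exact (hzero X.unop x).trans (hzero X.unop _).symm
  intro X φ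
  let v : ∀ W : Over X, (W.left ⟶ T) → (W.left ⟶ A) := fun W b =>
    Additive.toMul (ULift.down (φ.hom.app (Opposite.op W) (ULift.up (Additive.ofMul b))))
  have vmul : ∀ (W : Over X) (a b : W.left ⟶ T), v W (a * b) = v W a * v W b := fun W a b =>
    congrArg (fun x => Additive.toMul (ULift.down x))
      (map_add (φ.hom.app (Opposite.op W)).hom (ULift.up (Additive.ofMul a)) (ULift.up (Additive.ofMul b)))
  have vres : ∀ {W W' : Over X} (g : W' ⟶ W) (b : W.left ⟶ T), v W' (g.left ≫ b) = g.left ≫ v W b := fun g b =>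
    congrArg (fun x => Additive.toMul (ULift.down x))
      (ConcreteCategory.congr_hom (φ.hom.naturality g.op) (ULift.up (Additive.ofMul b)))
  -- the universal point
  let Y₀ : Over S := (Over.map X.hom).obj (Red.bc X.hom T)
  let p : Y₀ ⟶ X := Over.homMk (pullback.snd T.hom X.hom) rfl
  let t₀ : Y₀ ⟶ T := Groth.Agent.DSPtsLib.theta X.hom (𝟙 (Red.bc X.hom T))
  let h : Y₀ ⟶ A := v (Over.mk p) t₀
  let f : Red.bc X.hom T ⟶ Red.bc X.hom A := (Over.mapPullbackAdj X.hom).homEquiv _ _ h
  have hf : Groth.Agent.DSPtsLib.theta X.hom f = h := Equiv.symm_apply_apply _ _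
  haveI : IsMonHom f := by
    refine Groth.Agent.TorusQI.isMonHom_of_pts f fun Z a b => (Groth.Agent.DSPtsLib.theta_bijective X.hom).injective ?_
    let WZ : Over X := Over.mk (Over.homMk Z.hom rfl : (Over.map X.hom).obj Z ⟶ X)
    have key : ∀ c : Z ⟶ Red.bc X.hom T, Groth.Agent.DSPtsLib.theta X.hom (c ≫ f) = v WZ (Groth.Agent.DSPtsLib.theta X.hom c) := by
      intro c
      let g : WZ ⟶ Over.mk p := Over.homMk ((Over.map X.hom).map c) (Over.OverMorphism.ext (Over.w c))
      have e := vres g t₀
      rw [show g.left ≫ t₀ = Groth.Agent.DSPtsLib.theta X.hom c from by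
        rw [show t₀ = Groth.Agent.DSPtsLib.theta X.hom (𝟙 _) from rfl]
        exact (Groth.Agent.DSPtsLib.theta_comp X.hom c (𝟙 _)).symm.trans (congrArg _ (Category.comp_id c))] at e
      rw [e, Groth.Agent.DSPtsLib.theta_comp, hf]
      rfl
    rw [Groth.Agent.DSPtsLib.theta_mul, key, key, key, Groth.Agent.DSPtsLib.theta_mul, vmul]
  have hone : f = 1 := Groth.Agent.AVTors.torus_bc_hom_eq_one X.hom hT hA f
  have h1 : h = 1 := by
    have e := Groth.Agent.DSPtsLib.theta_mul X.hom f f
    rw [show f * f = f from by rw [hone, _root_.one_mul], hf] at e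
    exact mul_eq_left.1 e.symm
  refine Sheaf.hom_ext (NatTrans.ext (funext fun W => ?_))
  ext b
  refine congrArg (fun y => ULift.up (Additive.ofMul y)) (?_ : v W.unop b.down.toMul = 1)
  let g' : W.unop.left ⟶ Y₀ := Over.homMk (pullback.lift b.down.toMul.left W.unop.hom.left
    ((Over.w _).trans (Over.w W.unop.hom).symm)) (by
    show pullback.lift _ _ _ ≫ pullback.snd T.hom X.hom ≫ X.hom = _
    rw [pullback.lift_snd_assoc]
    exact Over.w W.unop.hom)
  let g : W.unop ⟶ Over.mk p := Over.homMk g' (Over.OverMorphism.ext (pullback.lift_snd _ _ _))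
  have e := vres g t₀
  rw [show g.left ≫ t₀ = b.down.toMul from Over.OverMorphism.ext (by
    show pullback.lift _ _ _ ≫ ((𝟙 (Red.bc X.hom T) : _ ⟶ _).left ≫ pullback.fst T.hom X.hom) = _
    exact (congrArg (pullback.lift _ _ _ ≫ ·) (Category.id_comp _)).trans (pullback.lift_fst _ _ _)), show v (Over.mk p) t₀ = 1 from h1, MonObj.comp_one] at e
  exact e

end Groth.Agent.S19290
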