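import Groth.Statements.S1930
import Groth.Agent.H23.GysinComm
import Groth.Agent.H23.FundCycle
-- import your own Groth.Agent.* helpers here

set_option autoImplicit false
universe u
open CategoryTheory AlgebraicGeometry
open Cyc

namespace Groth.Agent.S1930

/-- Let X be integral with generic point η and δ(η) = n, i : D → X an effective Cartier divisor given as
the zero scheme of a global section s of an invertible module L which is a nonzerodivisor at every
point, N an invertible O_X-module and t ∈ N(η) a nonzero rational section. Then i^*(div_N t) ∼_rat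
c_1(N|_D) ∩ [D]_{n−1} as (n − 2)-cycles on D, the right side computed with any nonzero rational
sections of i^*N on D. Here i : D → X is the zero scheme of a global section s of the invertible
module L (Cyc.IsZeroSchemeOf), the Gysin map i^* : Z_{k+1}(X) → CH_k(D) is computed on coefficient
functions as c_1(L) ∩ − with the rational sections taken to be s where it is nonzero
(Cyc.gysinChoice) and restricted to the points of D, and classes on D are compared up to rational
equivalence on D for the restricted dimension function. Here a pair (X, δ) satisfying Cyc.IsSetup (X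
locally Noetherian with universally catenary local rings, δ a dimension function) plays the role of
a scheme locally of finite type over a fixed base equipped with a dimension function. -/
theorem result (X D : Scheme.{u}) [IsIntegral X] (δ : X → ℤ) (hX : Cyc.IsSetup X δ) (n : ℤ) (hn : δ (genericPoint X) = n) (L : X.Modules) (hL : PicF.IsInvertible L) (s : L.presheaf.obj (Opposite.op ⊤)) (hreg : ∀ x : X, Function.Injective (fun a : X.presheaf.stalk x => a • (L.presheaf.germ ⊤ x trivial) s)) (i : D ⟶ X) [IsClosedImmersion i] (hD : Cyc.IsZeroSchemeOf i L s) (N : X.Modules) (hN : PicF.IsInvertible N) (t : Cyc.secFibre N (genericPoint X)) (ht : t ≠ 0) (w : (ξ : X) → Cyc.secFibre L ξ) (hw : ∀ ξ, w ξ ≠ 0) (u : (d : D) → Cyc.secFibre ((Scheme.Modules.pullback i).obj N) d) (hu : ∀ d, u d ≠ 0) (γ₁ γ₂ : AlgebraicCycle D ℤ) (h₁ : ∀ d : D, γ₁ d = Cyc.c1CapFun δ L (Cyc.secDivFun δ N (genericPoint X) t) (Cyc.gysinChoice L s w) (i d)) (h₂ : ⇑γ₂ = Cyc.c1CapFun (fun d => δ (i d)) ((Scheme.Modules.pullback i).obj N) (Cyc.subschemeFun (fun d => δ (i d))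 (n - 1) (𝟙 D)) u) : Cyc.RatEquiv (fun d => δ (i d)) (n - 2) γ₁ γ₂ := by
  
  classical
  haveI := hX.1
  have hd := hX.2.2
  have hgc := Groth.Agent.H23.GysinLib.gysinChoice_ne_zero (L := L) s hw
  have hs : Groth.Agent.H23.RatSec.cls L (genericPoint X) (L.presheaf.germ ⊤ _ trivial s) ≠ 0 := by
    obtain ⟨g, hg, -⟩ := Groth.Agent.H23.RatSec.exists_gen hL (genericPoint X)
    obtain ⟨f, hf⟩ := Submodule.mem_span_singleton.1
      (hg.1.ge (Submodule.mem_top : L.presheaf.germ ⊤ (genericPoint X) trivial s ∈ ⊤))
    rw [← hf, Groth.Agent.H23.RatSec.cls_smul, ← Groth.Agent.H23.RatSec.residue_ne_zero hg]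
    intro h0
    have hm := Groth.Agent.H23.ZeroSec.primeOf_refl' (genericPoint X)
    have hb := Groth.Agent.H23.TameScheme.primeOf_gen (X := X) (genericPoint X)
    have h1 : f ∈ IsLocalRing.maximalIdeal (X.presheaf.stalk (genericPoint X)) := Ideal.Quotient.eq_zero_iff_mem.1 h0
    rw [← hm, hb, Ideal.mem_bot] at h1
    have h2 := @hreg (genericPoint X) 1 0 (by
      show (1 : X.presheaf.stalk (genericPoint X)) • (L.presheaf.germ ⊤ _ trivial s) = (0 : X.presheaf.stalk (genericPoint X)) • _
      rw [one_smul, zero_smul, ← hf, h1, zero_smul])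
    exact one_ne_zero h2
  choose g hg using fun ξ => Groth.Agent.H23.RatSec.exists_gen hN ξ
  let v₀ : (ξ : X) → Cyc.secFibre N ξ := fun ξ => Groth.Agent.H23.RatSec.cls N ξ (g ξ)
  let v := Function.update v₀ (genericPoint X) t
  have hv : ∀ ξ, v ξ ≠ 0 := fun ξ => by
    by_cases h : ξ = genericPoint X
    · subst h
      simp only [v, Function.update_self]
      exact ht
    · simp only [v, Function.update_of_ne h, v₀]
      rw [← one_smul (X.presheaf.stalk ξ) (Groth.Agent.H23.RatSec.cls N ξ (g ξ)),
        ← Groth.Agent.H23.RatSec.residue_ne_zero (hg ξ).1, map_one]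
      exact one_ne_zero
  let α : AlgebraicCycle X ℤ := Function.locallyFinsuppWithin.single (genericPoint X) 1
  have hcap : ∀ (M : X.Modules) (b : (ξ : X) → Cyc.secFibre M ξ) (x : X),
      Cyc.c1CapFun δ M ⇑α b x = Cyc.secDivFun δ M (genericPoint X) (b _) x := fun M b x => by
    refine (finsum_eq_single _ (genericPoint X) fun ξ hξ => ?_).trans ?_
    · show (Pi.single (genericPoint X) (1 : ℤ) : X → ℤ) ξ * _ = 0
      rw [Pi.single_eq_of_ne hξ, zero_mul]
    · show (Pi.single (genericPoint X) (1 : ℤ) : X → ℤ) (genericPoint X) * _ = _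
      rw [Pi.single_eq_same, one_mul]
  have hgη : Cyc.gysinChoice L s w (genericPoint X) =
      Groth.Agent.H23.RatSec.cls L _ (L.presheaf.germ ⊤ _ trivial s) := if_pos hs
  refine Groth.Agent.H23.GysinLib.gysin_c1Cap hL hd hD (k := n - 2) α (fun x hx => ?_) hw hN hv ?_ (fun d => ?_) hu h₁ h₂
  · show (Pi.single (genericPoint X) (1 : ℤ) : X → ℤ) x = 0
    exact Pi.single_eq_of_ne (fun h => hx (by rw [h, hn]; ring)) 1
  · funext x
    rw [hcap]
    simp only [v, Function.update_self]
  · haveI : IsLocallyNoetherian D := LocallyOfFiniteType.isLocallyNoetherian i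
    rw [hcap, hgη, Groth.Agent.H23.FundCycle.secDivFun_eq_subschemeFun hd hL hD hs d, hn]

end Groth.Agent.S1930
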