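import Groth.Statements.S19302
import Groth.Agent.AVTors.AffineHom
import Groth.Agent.AVTors.HomShZero
import Groth.Agent.AVTors.TorusHom
import Groth.Agent.TransLib.MultEssFree
-- import your own Groth.Agent.* helpers here

set_option autoImplicit false
universe u
open CategoryTheory CategoryTheory.Limits MonoidalCategory CartesianMonoidalCategory MonObj AlgebraicGeometry
open AbSch

namespace Groth.Agent.S19302

set_option linter.style.haveILetI false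
set_option backward.isDefEq.respectTransparency false
set_option backward.isDefEq.respectTransparency.types false
set_option maxHeartbeats 1000000

/-- Let S be a scheme and, for i = 1, 2, let G_i be a commutative S-group scheme given as an extension
of an abelian S-scheme A_i (smooth, proper, connected fibres) by an S-torus T_i: homomorphisms T_i →
G_i → A_i composing to the trivial map whose sequence of sheaves of points on the big fppf site of S
is short exact. Then, for the internal Hom sheaves of the sheaves of points on that site: the map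
Hom(A₁, A₂) → Hom(G₁, A₂) induced by G₁ → A₁ is an isomorphism; the map Hom(T₁, T₂) → Hom(T₁, G₂)
induced by T₂ → G₂ is an isomorphism; the map Hom(G₁, T₂) → Hom(T₁, T₂) induced by T₁ → G₁ is a
monomorphism; and the map Hom(A₁, G₂) → Hom(A₁, A₂) induced by G₂ → A₂ is a monomorphism. -/
theorem result {S : Scheme.{u}} (T₁ G₁ A₁ T₂ G₂ A₂ : Over S)
    [GrpObj T₁] [IsCommMonObj T₁] (hT₁ : Red.IsTorus T₁) [GrpObj G₁] [IsCommMonObj G₁]
    [GrpObj A₁] [IsCommMonObj A₁] [Smooth A₁.hom] [IsProper A₁.hom]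
    (hA₁ : ∀ s : S, ConnectedSpace ↥(A₁.hom.fiber s))
    [GrpObj T₂] [IsCommMonObj T₂] (hT₂ : Red.IsTorus T₂) [GrpObj G₂] [IsCommMonObj G₂]
    [GrpObj A₂] [IsCommMonObj A₂] [Smooth A₂.hom] [IsProper A₂.hom]
    (hA₂ : ∀ s : S, ConnectedSpace ↥(A₂.hom.fiber s))
    (ι₁ : T₁ ⟶ G₁) (π₁ : G₁ ⟶ A₁) [IsMonHom ι₁] [IsMonHom π₁] (w₁ : ι₁ ≫ π₁ = 1)
    (hex₁ : (CGrpSh.seq Scheme.fppfPrecoverage ι₁ π₁ w₁).ShortExact)
    (ι₂ : T₂ ⟶ G₂) (π₂ : G₂ ⟶ A₂) [IsMonHom ι₂] [IsMonHom π₂] (w₂ : ι₂ ≫ π₂ = 1)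
    (hex₂ : (CGrpSh.seq Scheme.fppfPrecoverage ι₂ π₂ w₂).ShortExact) :
    IsIso (HomSh.homShMap (QuotSh.J Scheme.fppfPrecoverage S) (CGrpSh.ptsMap Scheme.fppfPrecoverage π₁) (𝟙 (CGrpSh.pts Scheme.fppfPrecoverage A₂))) ∧
    IsIso (HomSh.homShMap (QuotSh.J Scheme.fppfPrecoverage S) (𝟙 (CGrpSh.pts Scheme.fppfPrecoverage T₁)) (CGrpSh.ptsMap Scheme.fppfPrecoverage ι₂)) ∧
    Mono (HomSh.homShMap (QuotSh.J Scheme.fppfPrecoverage S) (CGrpSh.ptsMap Scheme.fppfPrecoverage ι₁) (𝟙 (CGrpSh.pts Scheme.fppfPrecoverage T₂))) ∧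
    Mono (HomSh.homShMap (QuotSh.J Scheme.fppfPrecoverage S) (𝟙 (CGrpSh.pts Scheme.fppfPrecoverage A₁)) (CGrpSh.ptsMap Scheme.fppfPrecoverage π₂)) := by
  let J := QuotSh.J Scheme.fppfPrecoverage S
  haveI : IsAffineHom T₂.hom := (TransLib.multTypeFT_essFree (TorusQI.isMultTypeFT_of_isTorus hT₂)).1
  have hzTA : IsZero (HomSh.homSh J (CGrpSh.pts Scheme.fppfPrecoverage T₁) (CGrpSh.pts Scheme.fppfPrecoverage A₂)) :=
    AVTors.isZero_homSh T₁ A₂ fun t f _ => AVTors.torus_bc_hom_eq_one t hT₁ hA₂ f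
  have hzAT : IsZero (HomSh.homSh J (CGrpSh.pts Scheme.fppfPrecoverage A₁) (CGrpSh.pts Scheme.fppfPrecoverage T₂)) :=
    AVTors.isZero_homSh A₁ T₂ fun t f _ => AVTors.hom_affine_bc_eq_one t hA₁ f
  refine ⟨?_, ?_, ?_, ?_⟩
  · obtain ⟨w, hex, hm⟩ := HomShExact.exact_mono_homSh hex₁ (CGrpSh.pts Scheme.fppfPrecoverage A₂)
    haveI : Mono (HomSh.homShMap J (CGrpSh.ptsMap Scheme.fppfPrecoverage π₁) (𝟙 (CGrpSh.pts Scheme.fppfPrecoverage A₂))) := hm
    haveI : Epi (HomSh.homShMap J (CGrpSh.ptsMap Scheme.fppfPrecoverage π₁) (𝟙 (CGrpSh.pts Scheme.fppfPrecoverage A₂))) :=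
      hex.epi_f (hzTA.eq_of_tgt _ _)
    exact isIso_of_mono_of_epi _
  · obtain ⟨w, hex, hm⟩ := AVTors.exact_mono_homSh_right hex₂ (CGrpSh.pts Scheme.fppfPrecoverage T₁)
    haveI : Mono (HomSh.homShMap J (𝟙 (CGrpSh.pts Scheme.fppfPrecoverage T₁)) (CGrpSh.ptsMap Scheme.fppfPrecoverage ι₂)) := hm
    haveI : Epi (HomSh.homShMap J (𝟙 (CGrpSh.pts Scheme.fppfPrecoverage T₁)) (CGrpSh.ptsMap Scheme.fppfPrecoverage ι₂)) :=
      hex.epi_f (hzTA.eq_of_tgt _ _)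
    exact isIso_of_mono_of_epi _
  · obtain ⟨w, hex, hm⟩ := HomShExact.exact_mono_homSh hex₁ (CGrpSh.pts Scheme.fppfPrecoverage T₂)
    exact hex.mono_g (hzAT.eq_of_src _ _)
  · obtain ⟨w, hex, hm⟩ := AVTors.exact_mono_homSh_right hex₂ (CGrpSh.pts Scheme.fppfPrecoverage A₁)
    exact hex.mono_g (hzAT.eq_of_src _ _)

end Groth.Agent.S19302
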