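import Groth.Statements.S19305
import Groth.Agent.H9Misc.SemiAbBridge
import Groth.Agent.GrpSchLib.SemiabExt
import Groth.Agent.GrpSchLib.SemiabIsog
import Groth.Agent.GrpSchLib.SemiabDescent
import Groth.Agent.GrpSchLib.ImageFactor
import Groth.Agent.GrpSchLib.GenQuot
import Groth.Agent.GrpSchLib.HomFlat
import Groth.Agent.GrpSchLib.SmoothQuot
import Groth.Agent.GrpSchLib.MultTypeBC
import Groth.Agent.SolvGrp.TorusPts
import Groth.Agent.Lib.AVDualIsog
import Groth.Agent.QCoh.ProperOver
import Groth.Agent.S19289
import Groth.Agent.S19978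
import Groth.Agent.S7982
import Groth.Agent.AGFLib.AntPart

set_option autoImplicit false
set_option backward.isDefEq.respectTransparency false
set_option backward.isDefEq.respectTransparency.types false
set_option linter.style.haveILetI false
set_option linter.unusedSectionVars false
set_option maxHeartbeats 400000
universe u
open CategoryTheory CategoryTheory.Limits MonoidalCategory CartesianMonoidalCategory MonObj AlgebraicGeometry
open AbSch

namespace Groth.Agent.S19305


open MonoidalCategory CartesianMonoidalCategory GrpObj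

set_option maxHeartbeats 1000000

section

variable {k : Type u} [Field k] [IsAlgClosed k]

/-- The only fibre over a field is the whole space. -/
theorem connectedSpace_of_fibres {A : Over (Spec (CommRingCat.of k))}
    (hA : ∀ s : Spec (CommRingCat.of k), ConnectedSpace ↥(A.hom.fiber s)) : ConnectedSpace A.left := by
  haveI := hA (IsLocalRing.closedPoint k)
  have hr : Set.range (A.hom.fiberι (IsLocalRing.closedPoint k)) = Set.univ := by
    rw [Scheme.Hom.range_fiberι]
    exact Set.eq_univ_of_forall fun x => @Subsingleton.elim (Spec (CommRingCat.of k)) inferInstance _ _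
  rw [connectedSpace_iff_univ, ← hr]
  exact isConnected_range (A.hom.fiberι _).continuous

/-- A connected scheme over a field has connected fibre. -/
theorem fibres_connected_of_connectedSpace {A : Over (Spec (CommRingCat.of k))} [ConnectedSpace A.left]
    (s : Spec (CommRingCat.of k)) : ConnectedSpace ↥(A.hom.fiber s) := by
  have hr : Set.range (A.hom.fiberι s) = Set.univ := by
    rw [Scheme.Hom.range_fiberι]
    exact Set.eq_univ_of_forall fun x => @Subsingleton.elim (Spec (CommRingCat.of k)) inferInstance _ _
  exact ((A.hom.fiberι s).isEmbedding.toHomeomorphOfSurjective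
    (Set.range_eq_univ.1 hr)).symm.surjective.connectedSpace (Homeomorph.continuous _)

/-- An abelian variety is semi-abelian with trivial torus part. -/
theorem isSemiab_av (A : Over (Spec (CommRingCat.of k))) [GrpObj A] [IsProper A.hom] [Smooth A.hom]
    [ConnectedSpace A.left] : Groth.Agent.GrpSchLib.SemiabExt.IsSemiab A := by
  let T : Over (Spec (CommRingCat.of k)) := Red.DS (Spec (CommRingCat.of k)) (Fin 0 → ℤ)
  haveI : IsIso T.hom := Groth.Agent.S19978.isIso_DS_zero _
  haveI : IsIso (toUnit T).left := by
    rw [show (toUnit T).left = T.hom from (Category.comp_id _).symm.trans (Over.w (toUnit T))]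
    infer_instance
  haveI : IsIso (toUnit T) := by
    haveI : IsIso ((Over.forget _).map (toUnit T)) := ‹IsIso (toUnit T).left›
    exact isIso_of_reflects_iso (toUnit T) (Over.forget _)
  haveI : IsClosedImmersion (toUnit T ≫ η[A]).left := by
    haveI : IsClosedImmersion η[A].left := inferInstance
    exact inferInstanceAs (IsClosedImmersion ((toUnit T).left ≫ η[A].left))
  exact ⟨T, inferInstance, toUnit T ≫ η[A], A, ‹_›, 𝟙 A, inferInstance, inferInstance,
    Groth.Agent.S19978.isTorus_DS_zero _, inferInstance, inferInstance, inferInstance,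
    IsPullback.of_vert_isIso ⟨by rw [Category.comp_id]⟩, inferInstance, inferInstance, inferInstance⟩

/-- A homomorphism from an abelian variety to an abelian variety whose cokernel receives a torus onto it is surjective. -/
theorem surjective_qu {T A E Q : Over (Spec (CommRingCat.of k))} [GrpObj T] [IsCommMonObj T] (hT : Red.IsTorus T)
    [GrpObj A] [IsProper A.hom] [GrpObj E] [LocallyOfFiniteType E.hom] [QuasiCompact E.hom]
    [GrpObj Q] [IsCommMonObj Q] [IsProper Q.hom] [ConnectedSpace Q.left] [Smooth Q.hom]
    (u : A ⟶ E) [IsMonHom u] (v : E ⟶ T) [IsMonHom v] [Flat v.left] [Surjective v.left]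
    [LocallyOfFinitePresentation v.left] (hk : AlgGrp.IsKernel u v) (q : E ⟶ Q) [IsMonHom q] [Surjective q.left] [Flat q.left] :
    Surjective (u ≫ q).left := by
  obtain ⟨I, _, p, e, hp, he, hpe, hec, hpf, hps, hIl, hIq⟩ := Groth.Agent.GrpSchLib.ImageFactor.exists_image (u ≫ q)
  haveI := he; haveI := hec; haveI := hps
  obtain ⟨C, grp, π, hπ, hπs, hπf, hπl, hCl, hCq, hCs, hker, -⟩ := Groth.Agent.GrpSchLib.GenQuot.exists_quot e
    fun W g n => ⟨n, by rw [mul_comm g, mul_inv_cancel_right]⟩
  letI := grp
  haveI := hπ; haveI := hπs; haveI := hπf; haveI := hπl; haveI := hCl; haveI := hCs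
  haveI : IsProper (π.left ≫ C.hom) := by rw [Over.w π]; infer_instance
  haveI : IsProper π.left := IsProper.of_comp π.left C.hom
  haveI : IsProper C.hom := Groth.Agent.QCoh.isProper_of_comp_surjective π.left C.hom
  haveI : Smooth C.hom := by
    haveI : Smooth (π.left ≫ C.hom) := by rw [Over.w π]; infer_instance
    exact Groth.Agent.GrpSchLib.smooth_of_flat_surjective_algClosed π.left C.hom
  haveI : ConnectedSpace ↥C.left := π.left.surjective.connectedSpace π.left.continuous
  haveI : GeometricallyIntegral C.hom := by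
    haveI : GeometricallyReduced C.hom := Groth.Agent.GrpSchLib.geometricallyReduced_of_smooth C.hom
    exact Groth.Agent.H23.MaxAbelian.geometricallyIntegral_of_connected C
  haveI : IsCommMonObj C := isCommMonObj_of_isProper_of_geometricallyIntegral _
  haveI : IsMonHom (q ≫ π) := inferInstance
  obtain ⟨c, hc⟩ := Groth.Agent.GrpSchLib.SemiabDescent.exists_factor_quot v hk (q ≫ π) (by
    rw [← Category.assoc, ← hpe, Category.assoc, hker.w, ← Category.assoc, comp_toUnit, Hom.one_def])
  haveI : IsMonHom c :=
    { one_hom := by rw [← IsMonHom.one_hom v, Category.assoc, hc, IsMonHom.one_hom]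
      mul_hom := by
        haveI : Flat (v ⊗ₘ v).left := Groth.Agent.AGFLib.AntPart.property_tensorHom v v @Flat inferInstance inferInstance
        haveI : Surjective (v ⊗ₘ v).left := Groth.Agent.AGFLib.AntPart.property_tensorHom v v @Surjective inferInstance inferInstance
        haveI : LocallyOfFinitePresentation (v ⊗ₘ v).left :=
          Groth.Agent.AGFLib.AntPart.property_tensorHom v v @LocallyOfFinitePresentation inferInstance inferInstance
        refine Groth.Agent.GrpSchLib.SemiabDescent.eq_of_epi_quot (v ⊗ₘ v) ?_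
        rw [← Category.assoc, ← IsMonHom.mul_hom, Category.assoc, hc, IsMonHom.mul_hom,
          ← Category.assoc, tensorHom_comp_tensorHom, hc] }
  have hc1 : c = 1 := Groth.Agent.S19289.result T C hT fibres_connected_of_connectedSpace c
  haveI : LocallyOfFinitePresentation q.left := by
    haveI : LocallyOfFiniteType (q.left ≫ Q.hom) := by rw [Over.w q]; infer_instance
    haveI : LocallyOfFiniteType q.left := locallyOfFiniteType_of_comp q.left Q.hom
    haveI : IsLocallyNoetherian Q.left := LocallyOfFiniteType.isLocallyNoetherian Q.hom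
    exact LocallyOfFinitePresentation.iff_locallyOfFiniteType.2 inferInstance
  have hπ1 : π = 1 := Groth.Agent.GrpSchLib.SemiabDescent.eq_of_epi_quot q (by
    rw [← hc, hc1, MonObj.comp_one, MonObj.comp_one])
  obtain ⟨sec, hsec⟩ : ∃ sec : Q ⟶ I, sec ≫ e = 𝟙 Q :=
    ⟨hker.lift (𝟙 Q) (toUnit Q) (by rw [hπ1, MonObj.comp_one, Hom.one_def]), hker.lift_fst _ _ _⟩
  refine ⟨fun y => ?_⟩
  obtain ⟨x, hx⟩ := p.left.surjective (sec.left y)
  refine ⟨x, ?_⟩
  rw [← hpe]
  show e.left (p.left x) = y
  rw [hx]
  exact congrArg (fun m : Q ⟶ Q => m.left y) hsec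

end

/-- Let k be an algebraically closed field, T a k-torus, A an abelian variety over k (smooth proper
k-group scheme with connected fibres over Spec k) and E a commutative k-group scheme which is an
extension of T by A: homomorphisms A → E → T composing to the trivial map whose sequence of sheaves
of points on the big fppf site of Spec k is short exact. Then E is a connected smooth k-group
scheme, and every maximal torus T₀ of E maps onto T by an isogeny: the composite T₀ → E → T is
finite, flat and surjective (so T₀ and T have the same dimension). (The source lets E be a sheaf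
extension and first shows it is a scheme; here E is taken to be a scheme.) -/
theorem result (k : Type u) [Field k] [IsAlgClosed k] (T A E : Over (Spec (CommRingCat.of k)))
    [GrpObj T] [IsCommMonObj T] (hT : Red.IsTorus T)
    [GrpObj A] [IsCommMonObj A] [Smooth A.hom] [IsProper A.hom]
    (hA : ∀ s : Spec (CommRingCat.of k), ConnectedSpace ↥(A.hom.fiber s))
    [GrpObj E] [IsCommMonObj E]
    (u : A ⟶ E) (v : E ⟶ T) [IsMonHom u] [IsMonHom v] (w : u ≫ v = 1)
    (hex : (CGrpSh.seq Scheme.fppfPrecoverage u v w).ShortExact) :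
    Smooth E.hom ∧ ConnectedSpace ↥E.left ∧
      ∀ (T₀ : Over (Spec (CommRingCat.of k))) [GrpObj T₀] (i : T₀ ⟶ E), Red.IsMaximalTorus i →
        IsFinite (i ≫ v).left ∧ Flat (i ≫ v).left ∧ Surjective (i ≫ v).left := by
  haveI : ConnectedSpace A.left := connectedSpace_of_fibres hA
  obtain ⟨hTa, hTs, hTc, -⟩ := Groth.Agent.SolvGrp.torus_props hT
  haveI := hTa
  haveI := hTs
  haveI := hTc
  have hx := Groth.Agent.H9Misc.SemiAbBridge.isExactSeq hex
  have hk : AlgGrp.IsKernel u v := Groth.Agent.GrpSchLib.ExtSmooth.isKernel hx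
  haveI : Smooth v.left := Groth.Agent.H9Misc.SemiAbBridge.property_proj hx @Smooth inferInstance
  haveI : Surjective A.hom := ⟨fun x => ⟨η[A].left x, by
    show (η[A].left ≫ A.hom) x = x
    rw [Over.w η[A]]; rfl⟩⟩
  haveI : Surjective v.left := Groth.Agent.H9Misc.SemiAbBridge.property_proj hx @Surjective inferInstance
  haveI : QuasiCompact v.left := Groth.Agent.H9Misc.SemiAbBridge.property_proj hx @QuasiCompact inferInstance
  haveI : Smooth E.hom := by rw [← Over.w v]; infer_instance
  haveI : QuasiCompact E.hom := by rw [← Over.w v]; infer_instance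
  haveI hEc : ConnectedSpace E.left := (Groth.Agent.S7982.result k A E T u v hk).2.2 inferInstance inferInstance
  refine ⟨inferInstance, hEc, fun T₀ _ i hi => ?_⟩
  obtain ⟨hi₁, hi₂, hT₀, hmax⟩ := hi
  haveI := hi₁
  haveI := hi₂
  obtain ⟨hT₀a, hT₀s, hT₀c, -⟩ := Groth.Agent.SolvGrp.torus_props hT₀
  haveI := hT₀a
  haveI := hT₀s
  haveI := hT₀c
  haveI : IsCommMonObj T₀ := Groth.Agent.GrpSchLib.SemiabIsog.isCommMonObj_of_mono i
  have hlc : Groth.Agent.GrpSchLib.SemiabExt.LineConst E := by
    refine Groth.Agent.GrpSchLib.SemiabExt.lineConst_ext u v hk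
      (Groth.Agent.GrpSchLib.SemiabExt.lineConst_of_semiab (isSemiab_av A)) fun f => ?_
    let o : 𝟙_ (Over (Spec (CommRingCat.of k))) ⟶ Groth.Agent.GrpSchLib.LineInUnip.A1 k := Over.homMk
      (AffineSpace.homOfVector (𝟙_ (Over (Spec (CommRingCat.of k)))).hom
        fun _ => algebraMap k (Groth.Agent.GrpSchLib.Kunneth.Fn (𝟙_ (Over (Spec (CommRingCat.of k))))) 0)
      (AffineSpace.homOfVector_over _ _)
    exact ⟨o ≫ f, Groth.Agent.GrpSchLib.SemiabLine.torus_const hT f o⟩
  obtain ⟨TE, _, iE, Q, _, q, hiE, hiEc, hTE, hq, hqs, hqf, hkq, hQp, hQs, hQc⟩ :=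
    Groth.Agent.GrpSchLib.SemiabExt.semiab_iff.2 hlc
  haveI := hiE
  haveI := hiEc
  haveI := hq
  haveI := hqs
  haveI := hqf
  haveI := hQp
  haveI := hQs
  haveI := hQc
  haveI : GeometricallyIntegral Q.hom := by
    haveI : GeometricallyReduced Q.hom := Groth.Agent.GrpSchLib.geometricallyReduced_of_smooth Q.hom
    exact Groth.Agent.H23.MaxAbelian.geometricallyIntegral_of_connected Q
  haveI : IsCommMonObj Q := isCommMonObj_of_isProper_of_geometricallyIntegral _
  haveI : LocallyOfFinitePresentation v.left := inferInstance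
  haveI hqu : Surjective (u ≫ q).left := surjective_qu hT u v hk q
  haveI : Mono iE := Over.mono_of_mono_left iE
  haveI : IsCommMonObj TE := Groth.Agent.GrpSchLib.SemiabIsog.isCommMonObj_of_mono iE
  -- the torus part surjects to the torus
  haveI hsurjE : Surjective (iE ≫ v).left := by
    haveI : JacobsonSpace T.left := LocallyOfFiniteType.jacobsonSpace T.hom
    haveI : LocallyOfFiniteType TE.hom := by rw [← Over.w iE]; infer_instance
    haveI : QuasiCompact TE.hom := by rw [← Over.w iE]; infer_instance
    haveI : IsSeparated T.hom := Groth.Agent.GrpSchLib.AntiAffine.isSeparated_grp T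
    haveI : QuasiCompact (iE ≫ v).left := by
      haveI : QuasiCompact ((iE ≫ v).left ≫ T.hom) := by rw [Over.w (iE ≫ v)]; infer_instance
      exact QuasiCompact.of_comp (iE ≫ v).left T.hom
    have hcl : IsClosed (Set.range (iE ≫ v).left) :=
      Groth.Agent.GrpSchLib.HomClosedRange.isClosed_range (iE ≫ v)
    refine ⟨fun y => ?_⟩
    by_contra hy
    obtain ⟨z, hz, hzc⟩ := nonempty_inter_closedPoints (X := T.left) (Z := (Set.range (iE ≫ v).left)ᶜ)
      ⟨y, fun ⟨x, hx⟩ => hy ⟨x, hx⟩⟩ hcl.isOpen_compl.isLocallyClosed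
    let t : 𝟙_ (Over (Spec (CommRingCat.of k))) ⟶ T :=
      Over.homMk (pointOfClosedPoint T.hom z hzc) (pointOfClosedPoint_comp _ _ _)
    obtain ⟨x, hxt⟩ := Groth.Agent.AVDualIsog.exists_lift_point v t
    obtain ⟨a, ha⟩ := Groth.Agent.AVDualIsog.exists_lift_point (u ≫ q) (x ≫ q)
    have hker : (x * (a ≫ u)⁻¹) ≫ q = toUnit _ ≫ η[Q] := by
      rw [MonObj.mul_comp, GrpObj.inv_comp, Category.assoc, ha, mul_inv_cancel, Hom.one_def]
    refine hz ⟨(hkq.lift _ _ hker).left (IsLocalRing.closedPoint k), ?_⟩
    have h : hkq.lift _ _ hker ≫ iE ≫ v = t := by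
      rw [← Category.assoc, hkq.lift_fst, MonObj.mul_comp, GrpObj.inv_comp, Category.assoc, w, MonObj.comp_one,
        inv_one, _root_.mul_one, hxt]
    exact (congrArg (fun m : 𝟙_ (Over (Spec (CommRingCat.of k))) ⟶ T => m.left (IsLocalRing.closedPoint k)) h).trans
      (pointOfClosedPoint_apply _ _ _ _)
  -- the maximal torus is the torus part
  have hiq : i ≫ q = 1 := Groth.Agent.S19289.result T₀ Q hT₀ fibres_connected_of_connectedSpace (i ≫ q)
  let f : T₀ ⟶ TE := hkq.lift i (toUnit T₀) (by rw [hiq, Hom.one_def])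
  have hf : f ≫ iE = i := hkq.lift_fst _ _ _
  haveI : IsMonHom f :=
    { one_hom := by rw [← cancel_mono iE, Category.assoc, hf, IsMonHom.one_hom, IsMonHom.one_hom]
      mul_hom := by
        rw [← cancel_mono iE, Category.assoc, hf, IsMonHom.mul_hom, Category.assoc, IsMonHom.mul_hom,
          tensorHom_comp_tensorHom_assoc, hf] }
  haveI hfiso : IsIso f.left := by
    let s : Spec (CommRingCat.of k) := IsLocalRing.closedPoint k
    let m := (Over.pullback (Red.geomPt s)).map f
    haveI : IsIso m := hmax s (Red.geomFibre s TE) ((Over.pullback (Red.geomPt s)).map iE) m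
      (Groth.Agent.SolvGrp.isTorus_bc _ hTE) (by rw [← Functor.map_comp, hf])
    haveI : IsIso m.left := inferInstanceAs (IsIso ((Over.forget _).map m))
    have hs : Surjective (Red.geomPt s) :=
      ⟨fun y => ⟨IsLocalRing.closedPoint _, @Subsingleton.elim (Spec (CommRingCat.of k)) inferInstance _ _⟩⟩
    haveI : Flat (Red.geomPt s) := inferInstance
    haveI : Surjective (pullback.fst TE.hom (Red.geomPt s)) := inferInstance
    have hg : (@Surjective ⊓ @Flat ⊓ @QuasiCompact : MorphismProperty Scheme.{u}) (pullback.fst TE.hom (Red.geomPt s)) :=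
      ⟨⟨inferInstance, inferInstance⟩, inferInstance⟩
    exact MorphismProperty.of_isPullback_of_descendsAlong (P := MorphismProperty.isomorphisms Scheme.{u})
      (Q := @Surjective ⊓ @Flat ⊓ @QuasiCompact) (Groth.Agent.GrpSchLib.HomSplitLocal.isPullback_map f (Red.geomPt s)).flip hg
      ‹IsIso m.left›
  haveI : Surjective (i ≫ v).left := by
    rw [← hf, Category.assoc]
    exact inferInstanceAs (Surjective (f.left ≫ (iE ≫ v).left))
  haveI : LocallyOfFiniteType T₀.hom := inferInstance
  haveI : QuasiCompact T₀.hom := inferInstance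
  haveI : IsSeparated T.hom := Groth.Agent.GrpSchLib.AntiAffine.isSeparated_grp T
  haveI : IsReduced T.left := Groth.Agent.GrpSchLib.isReduced_of_smooth_field T.hom
  haveI : QuasiCompact (i ≫ v).left := by
    haveI : QuasiCompact ((i ≫ v).left ≫ T.hom) := by rw [Over.w (i ≫ v)]; infer_instance
    exact QuasiCompact.of_comp (i ≫ v).left T.hom
  refine ⟨?_, Groth.Agent.GrpSchLib.flat_of_surjective_hom (i ≫ v), inferInstance⟩
  haveI : IsClosedImmersion i.left := by
    rw [← hf]; exact inferInstanceAs (IsClosedImmersion (f.left ≫ iE.left))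
  obtain ⟨K, _, kq, -, hkc, -, hkk⟩ := Groth.Agent.GrpSchLib.exists_kernel (i ≫ v)
  haveI := hkc
  let x : K ⟶ A := hk.lift (kq ≫ i) (toUnit K) (by rw [Category.assoc, hkk.w])
  have hxu : x ≫ u = kq ≫ i := hk.lift_fst _ _ _
  haveI : IsSeparated E.hom := Groth.Agent.GrpSchLib.AntiAffine.isSeparated_grp E
  haveI : IsSeparated u.left := by
    haveI : IsSeparated (u.left ≫ E.hom) := by rw [Over.w u]; infer_instance
    exact IsSeparated.of_comp u.left E.hom
  haveI : IsClosedImmersion x.left := by
    haveI : IsClosedImmersion (x.left ≫ u.left) := by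
      rw [← Over.comp_left, hxu]; exact inferInstanceAs (IsClosedImmersion (kq.left ≫ i.left))
    exact IsClosedImmersion.of_comp x.left u.left
  haveI : IsProper K.hom := by rw [← Over.w x]; infer_instance
  haveI : IsAffineHom K.hom := by rw [← Over.w kq]; infer_instance
  haveI : IsFinite K.hom := IsFinite.iff_isProper_and_isAffineHom.2 ⟨inferInstance, inferInstance⟩
  haveI : Finite K.left := Set.finite_univ_iff.1
    ((K.hom.finite_preimage_singleton (IsLocalRing.closedPoint k)).subset
      fun x _ => Subsingleton.elim (α := Spec (CommRingCat.of k)) _ _)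
  haveI : Finite (𝟙_ (Over (Spec (CommRingCat.of k))) ⟶ K) :=
    Finite.of_injective (fun a => a.left (IsLocalRing.closedPoint k)) fun a b h =>
      Over.OverMorphism.ext (ext_of_apply_closedPoint_eq K.hom (Over.w a) (Over.w b) h)
  refine Groth.Agent.GrpSchLib.SemiabIsog.isFinite_of_finite_kernel (i ≫ v)
    ((Set.finite_range fun a : 𝟙_ (Over (Spec (CommRingCat.of k))) ⟶ K => a ≫ kq).subset fun a ha => ?_)
  exact ⟨hkk.lift a (toUnit _) (ha.trans Hom.one_def), hkk.lift_fst _ _ _⟩

end Groth.Agent.S19305
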