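import Groth.Statements.S19306
import Mathlib

set_option autoImplicit false
universe u
open PowerSeries
open CAlg

namespace Groth.Agent.S19306

/-- A quotient of a flat module by a pure submodule is flat. -/
theorem flat_quotient {R : Type u} [CommRing R] {G : Type u} [AddCommGroup G] [Module R G] [Module.Flat R G]
    (L : Submodule R G)
    (h : ∀ (I : Ideal R) (x : L), (x : G) ∈ I • (⊤ : Submodule R G) → x ∈ I • (⊤ : Submodule R L)) :
    Module.Flat R (G ⧸ L) := by
  rw [Module.Flat.iff_rTensor_injective]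
  intro I _
  rw [injective_iff_map_eq_zero]
  intro x hx
  obtain ⟨x', rfl⟩ := LinearMap.lTensor_surjective I L.mkQ_surjective x
  let μG : TensorProduct R I G →ₗ[R] G := (TensorProduct.lid R G).toLinearMap ∘ₗ I.subtype.rTensor G
  let μL : TensorProduct R I L →ₗ[R] L := (TensorProduct.lid R L).toLinearMap ∘ₗ I.subtype.rTensor L
  let μQ : TensorProduct R I (G ⧸ L) →ₗ[R] G ⧸ L :=
    (TensorProduct.lid R (G ⧸ L)).toLinearMap ∘ₗ I.subtype.rTensor (G ⧸ L)
  have hμQ : L.mkQ ∘ₗ μG = μQ ∘ₗ L.mkQ.lTensor I := TensorProduct.ext' fun a g => by simp [μG, μQ]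
  have hμL : μG ∘ₗ L.subtype.lTensor I = L.subtype ∘ₗ μL := TensorProduct.ext' fun a g => by simp [μG, μL]
  have hy : μG x' ∈ L := by
    rw [← Submodule.Quotient.mk_eq_zero, ← Submodule.mkQ_apply, ← LinearMap.comp_apply, hμQ,
      LinearMap.comp_apply]
    show (TensorProduct.lid R (G ⧸ L)) _ = 0
    rw [hx, map_zero]
  have hyI : μG x' ∈ I • (⊤ : Submodule R G) := by
    clear hx hy
    induction x' using TensorProduct.induction_on with
    | zero => rw [map_zero]; exact zero_mem _
    | tmul a g => simpa [μG] using Submodule.smul_mem_smul a.2 (Submodule.mem_top (x := g))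
    | add a b ha hb => rw [map_add]; exact add_mem ha hb
  have hsurj : ∀ z ∈ I • (⊤ : Submodule R L), ∃ w, μL w = z := by
    intro z hz
    induction hz using Submodule.smul_induction_on' with
    | smul a ha w _ => exact ⟨⟨a, ha⟩ ⊗ₜ[R] w, by simp [μL]⟩
    | add a _ b _ ha hb =>
      obtain ⟨u, rfl⟩ := ha; obtain ⟨v, rfl⟩ := hb
      exact ⟨u + v, map_add _ _ _⟩
  obtain ⟨w, hw⟩ := hsurj _ (h I ⟨μG x', hy⟩ hyI)
  have hinj : Function.Injective μG :=
    (TensorProduct.lid R G).injective.comp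
      (Module.Flat.rTensor_preserves_injective_linearMap I.subtype I.injective_subtype)
  have hx' : x' = L.subtype.lTensor I w := hinj (by
    show μG x' = (μG ∘ₗ L.subtype.lTensor I) w
    rw [hμL]
    exact (congrArg Subtype.val hw).symm)
  rw [hx', ← LinearMap.comp_apply, ← LinearMap.lTensor_comp]
  have h0 : L.mkQ ∘ₗ L.subtype = 0 := LinearMap.ext fun z => by simp
  rw [h0, LinearMap.lTensor_zero, LinearMap.zero_apply]

open Matrix in
/-- Every vector of power series is a constant vector modulo `X - A`, `A` nilpotent. -/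
theorem exists_const_add {R : Type u} [CommRing R] {m : ℕ} (A : Matrix (Fin m) (Fin m) R) {N : ℕ}
    (hA : A ^ N = 0) (v : Fin m → R⟦X⟧) :
    ∃ (c : Fin m → R) (w : Fin m → R⟦X⟧),
      v = (fun i => C (c i)) + ((X : R⟦X⟧) • w - A.map C *ᵥ w) := by
  let D : (Fin m → R⟦X⟧) → (Fin m → R⟦X⟧) := fun w => (X : R⟦X⟧) • w - A.map C *ᵥ w
  have Dadd : ∀ a b, D (a + b) = D a + D b := fun a b => by
    simp only [D, smul_add, Matrix.mulVec_add]; abel
  have Dsmul : ∀ a, D ((X : R⟦X⟧) • a) = (X : R⟦X⟧) • D a := fun a => by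
    simp only [D, smul_sub, Matrix.mulVec_smul]
  have hAN : (A.map C) ^ N = 0 := by
    rw [← RingHom.mapMatrix_apply, ← map_pow, hA, map_zero]
  have hconst : ∀ (j : ℕ) (u : Fin m → R), ∃ (c : Fin m → R) (w : Fin m → R⟦X⟧),
      (X : R⟦X⟧) ^ j • (fun i => C (u i)) = (fun i => C (c i)) + D w := by
    intro j
    induction j with
    | zero => exact fun u => ⟨u, 0, by simp [D]⟩
    | succ j ih =>
      intro u
      obtain ⟨c, w, hw⟩ := ih u
      refine ⟨A *ᵥ c, (fun i => C (c i)) + (X : R⟦X⟧) • w, ?_⟩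
      rw [pow_succ', mul_smul, hw, smul_add, Dadd, Dsmul, ← add_assoc]
      congr 1
      have e : A.map C *ᵥ (fun i => C (c i)) = fun i => C ((A *ᵥ c) i) := by
        funext i
        exact (RingHom.map_mulVec C A c i).symm
      simp only [D, e]
      abel
  have hdecomp : ∀ (j : ℕ) (v : Fin m → R⟦X⟧), ∃ (c : Fin m → R) (w v' : Fin m → R⟦X⟧),
      v = (fun i => C (c i)) + D w + (X : R⟦X⟧) ^ j • v' := by
    intro j
    induction j with
    | zero => exact fun v => ⟨0, 0, v, by funext i; simp [D]⟩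
    | succ j ih =>
      intro v
      obtain ⟨c, w, v', rfl⟩ := ih v
      let u : Fin m → R := fun i => PowerSeries.constantCoeff (v' i)
      let v'' : Fin m → R⟦X⟧ := fun i => PowerSeries.mk fun p => PowerSeries.coeff (p + 1) (v' i)
      have hv' : v' = (fun i => C (u i)) + (X : R⟦X⟧) • v'' := funext fun i => by
        rw [Pi.add_apply, Pi.smul_apply, smul_eq_mul, add_comm]
        exact PowerSeries.eq_X_mul_shift_add_const (v' i)
      obtain ⟨c', w', hw'⟩ := hconst j u
      refine ⟨c + c', w + w', v'', ?_⟩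
      rw [hv', smul_add, hw', smul_smul, ← pow_succ, Dadd]
      funext i
      simp only [Pi.add_apply, map_add]
      ring
  have hpow : ∀ (j : ℕ) (v : Fin m → R⟦X⟧), ∃ w,
      (X : R⟦X⟧) ^ j • v = D w + (A.map C) ^ j *ᵥ v := by
    intro j
    induction j with
    | zero => exact fun v => ⟨0, by simp [D]⟩
    | succ j ih =>
      intro v
      obtain ⟨w, hw⟩ := ih v
      refine ⟨(X : R⟦X⟧) • w + (A.map C) ^ j *ᵥ v, ?_⟩
      rw [pow_succ', mul_smul, hw, smul_add, Dadd, Dsmul, pow_succ', ← Matrix.mulVec_mulVec, add_assoc]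
      congr 1
      simp only [D]
      abel
  obtain ⟨c, w, v', hv⟩ := hdecomp N v
  obtain ⟨w', hw'⟩ := hpow N v'
  rw [hAN, Matrix.zero_mulVec, add_zero] at hw'
  exact ⟨c, w + w', by rw [hv, hw', add_assoc, ← Dadd]⟩

open Matrix in
/-- A finite projective `R`-module with nilpotent endomorphism `X` has a two-term resolution. -/
theorem projective_submodule {R : Type u} [CommRing R] (n N : ℕ) (Λ : Submodule R⟦X⟧ (Fin n → R⟦X⟧))
    (hN : ∀ v : Fin n → R⟦X⟧, ((X : R⟦X⟧) ^ N) • v ∈ Λ) (hN0 : N ≠ 0)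
    [Module.Finite R ((Fin n → R⟦X⟧) ⧸ Λ)] [Module.Projective R ((Fin n → R⟦X⟧) ⧸ Λ)] :
    Module.Finite R⟦X⟧ Λ ∧ Module.Projective R⟦X⟧ Λ := by
  classical
  let Q := (Fin n → R⟦X⟧) ⧸ Λ
  obtain ⟨m, r, hr⟩ := Module.Finite.exists_fin' R Q
  obtain ⟨i, hi⟩ := Module.projective_lifting_property r LinearMap.id hr
  have hri : ∀ q, r (i q) = q := fun q => LinearMap.congr_fun hi q
  let T : Q →ₗ[R] Q :=
    { toFun := fun q => (X : R⟦X⟧) • q
      map_add' := fun a b => smul_add _ a b
      map_smul' := fun a q => smul_comm (X : R⟦X⟧) a q }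
  have hTN : ∀ q, (T ^ N) q = 0 := by
    have h : ∀ j q, (T ^ j) q = (X : R⟦X⟧) ^ j • q := by
      intro j
      induction j with
      | zero => simp
      | succ j ih => intro q; rw [pow_succ', Module.End.mul_apply, ih, pow_succ', mul_smul]; rfl
    intro q
    obtain ⟨v, rfl⟩ := Λ.mkQ_surjective q
    rw [h, ← map_smul, Submodule.mkQ_apply, Submodule.Quotient.mk_eq_zero]
    exact hN v
  let E : Matrix (Fin m) (Fin m) R := LinearMap.toMatrix' (i ∘ₗ r)
  let A : Matrix (Fin m) (Fin m) R := LinearMap.toMatrix' (i ∘ₗ T ∘ₗ r)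
  have hEv : ∀ c, E *ᵥ c = i (r c) := fun c => LinearMap.toMatrix'_mulVec (i ∘ₗ r) c
  have hAv : ∀ c, A *ᵥ c = i (T (r c)) := fun c => LinearMap.toMatrix'_mulVec (i ∘ₗ T ∘ₗ r) c
  have hEE : E * E = E := Matrix.ext_of_mulVec_single fun c => by simp only [← Matrix.mulVec_mulVec, hEv, hri]
  have hEA : E * A = A := Matrix.ext_of_mulVec_single fun c => by simp only [← Matrix.mulVec_mulVec, hEv, hAv, hri]
  have hAE : A * E = A := Matrix.ext_of_mulVec_single fun c => by simp only [← Matrix.mulVec_mulVec, hEv, hAv, hri]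
  have hApow : ∀ (j : ℕ) c, (A ^ (j + 1)) *ᵥ c = i ((T ^ (j + 1)) (r c)) := by
    intro j
    induction j with
    | zero => intro c; simpa using hAv c
    | succ j ih =>
      intro c
      rw [pow_succ', ← Matrix.mulVec_mulVec, ih, hAv, hri, pow_succ' T (j + 1), Module.End.mul_apply]
  have hAN : A ^ N = 0 := Matrix.ext_of_mulVec_single fun c => by
    obtain ⟨j, rfl⟩ := Nat.exists_eq_succ_of_ne_zero hN0
    rw [hApow, hTN, map_zero, Matrix.zero_mulVec]
  let Em := E.map (C : R →+* R⟦X⟧)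
  let Am := A.map (C : R →+* R⟦X⟧)
  have hEEm : Em * Em = Em := by rw [← Matrix.map_mul, hEE]
  have hEAm : Em * Am = Am := by rw [← Matrix.map_mul, hEA]
  have hAEm : Am * Em = Am := by rw [← Matrix.map_mul, hAE]
  let q : Fin m → Q := fun t => r (Pi.single t 1)
  let π : (Fin m → R⟦X⟧) →ₗ[R⟦X⟧] Q := Fintype.linearCombination R⟦X⟧ q
  have hπC : ∀ c : Fin m → R, π (fun t => C (c t)) = r c := fun c => by
    have : ∀ (a : R) (x : Q), (C a : R⟦X⟧) • x = a • x := fun a x => by
      obtain ⟨v, rfl⟩ := Λ.mkQ_surjective x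
      rw [← map_smul, ← LinearMap.map_smul_of_tower]
      congr 1
      funext t
      simp [PowerSeries.smul_eq_C_mul]
    simp only [π, Fintype.linearCombination_apply, this, q, ← map_smul, ← map_sum]
    congr 1
    funext t
    simp [Finset.sum_apply, Pi.single_apply]
  have hcm : ∀ (B : Matrix (Fin m) (Fin m) R) (c : Fin m → R),
      B.map C *ᵥ (fun t => (C (c t) : R⟦X⟧)) = fun t => C ((B *ᵥ c) t) := fun B c => by
    funext t
    exact (RingHom.map_mulVec C B c t).symm
  have hsingle : ∀ t : Fin m, (Pi.single t 1 : Fin m → R⟦X⟧) = fun s => C ((Pi.single t 1 : Fin m → R) s) := by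
    intro t
    funext s
    by_cases h : s = t
    · subst h; simp
    · simp [h]
  have hπE : ∀ v, π (Em *ᵥ v) = π v := by
    intro v
    have h : π ∘ₗ Matrix.mulVecLin Em = π := LinearMap.pi_ext' fun t => LinearMap.ext_ring (by
      simp only [LinearMap.comp_apply, LinearMap.single_apply, Matrix.mulVecLin_apply]
      rw [hsingle, hcm, hπC, hπC, hEv, hri])
    exact LinearMap.congr_fun h v
  have hπA : ∀ v, π (Am *ᵥ v) = (X : R⟦X⟧) • π v := by
    intro v
    have h : π ∘ₗ Matrix.mulVecLin Am = (X : R⟦X⟧) • π := LinearMap.pi_ext' fun t => LinearMap.ext_ring (by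
      simp only [LinearMap.comp_apply, LinearMap.single_apply, Matrix.mulVecLin_apply, LinearMap.smul_apply]
      rw [hsingle, hcm, hπC, hπC, hAv, hri]
      rfl)
    exact LinearMap.congr_fun h v
  let P : Submodule R⟦X⟧ (Fin m → R⟦X⟧) := LinearMap.range (Matrix.mulVecLin Em)
  have hP : ∀ v ∈ P, Em *ᵥ v = v := by
    rintro _ ⟨v, rfl⟩
    simp only [Matrix.mulVecLin_apply, Matrix.mulVec_mulVec, hEEm]
  let eP : (Fin m → R⟦X⟧) →ₗ[R⟦X⟧] P := (Matrix.mulVecLin Em).rangeRestrict
  haveI hPp : Module.Projective R⟦X⟧ P := Module.Projective.of_split P.subtype eP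
    (LinearMap.ext fun v => Subtype.ext (hP v v.2))
  haveI hPf : Module.Finite R⟦X⟧ P := Module.Finite.range _
  let πP : P →ₗ[R⟦X⟧] Q := π ∘ₗ P.subtype
  have hπs : Function.Surjective πP := fun x =>
    ⟨eP (fun t => C (i x t)), by
      show π (Em *ᵥ fun t => C (i x t)) = x
      rw [hπE, hπC, hri]⟩
  let d : P →ₗ[R⟦X⟧] P :=
    (((X : R⟦X⟧) • LinearMap.id - Matrix.mulVecLin Am : (Fin m → R⟦X⟧) →ₗ[R⟦X⟧] _) ∘ₗ P.subtype).codRestrict P
      (fun v => by
        refine ⟨(X : R⟦X⟧) • (v : Fin m → R⟦X⟧) - Am *ᵥ (v : Fin m → R⟦X⟧), ?_⟩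
        simp [Matrix.mulVec_sub, Matrix.mulVec_smul, Matrix.mulVec_mulVec, hEAm, hP _ v.2])
  have hdinj : Function.Injective d := by
    rw [injective_iff_map_eq_zero]
    intro v hv
    have h1 : (X : R⟦X⟧) • (v : Fin m → R⟦X⟧) = Am *ᵥ (v : Fin m → R⟦X⟧) := by
      have h0 : (X : R⟦X⟧) • (v : Fin m → R⟦X⟧) - Am *ᵥ (v : Fin m → R⟦X⟧) = 0 := congrArg Subtype.val hv
      exact sub_eq_zero.1 h0
    have h2 : ∀ j, (X : R⟦X⟧) ^ j • (v : Fin m → R⟦X⟧) = Am ^ j *ᵥ (v : Fin m → R⟦X⟧) := by
      intro j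
      induction j with
      | zero => simp
      | succ j ih =>
        rw [pow_succ', mul_smul, ih, ← Matrix.mulVec_smul, h1, Matrix.mulVec_mulVec, ← pow_succ]
    have h3 := h2 N
    rw [show Am ^ N = 0 by
      show ((C : R →+* R⟦X⟧).mapMatrix A) ^ N = 0
      rw [← map_pow, hAN, map_zero], Matrix.zero_mulVec] at h3
    apply Subtype.ext
    funext t
    have h4 := congrFun h3 t
    simp only [Pi.smul_apply, smul_eq_mul, Pi.zero_apply] at h4
    rw [← mul_zero ((X : R⟦X⟧) ^ N)] at h4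
    exact PowerSeries.X_pow_mul_cancel h4
  have hker : LinearMap.ker πP = LinearMap.range d := by
    refine le_antisymm (fun v hv => ?_) ?_
    · obtain ⟨c, w, hw⟩ := exists_const_add A hAN (v : Fin m → R⟦X⟧)
      have h0 : π (v : Fin m → R⟦X⟧) = 0 := hv
      rw [hw, map_add, map_sub, map_smul, hπA, sub_self, add_zero, hπC] at h0
      refine ⟨eP w, Subtype.ext ?_⟩
      show (X : R⟦X⟧) • (Em *ᵥ w) - Am *ᵥ (Em *ᵥ w) = v
      have h1 := hP v v.2
      rw [hw, Matrix.mulVec_add, hcm, hEv, h0, map_zero, Matrix.mulVec_sub, Matrix.mulVec_smul,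
        Matrix.mulVec_mulVec, hEAm] at h1
      rw [Matrix.mulVec_mulVec, hAEm, hw]
      refine Eq.trans ?_ h1
      funext t
      simp
    · rintro _ ⟨v, rfl⟩
      show π ((X : R⟦X⟧) • (v : Fin m → R⟦X⟧) - Am *ᵥ (v : Fin m → R⟦X⟧)) = 0
      rw [map_sub, map_smul, hπA, sub_self]
  haveI hKp : Module.Projective R⟦X⟧ (LinearMap.ker πP) :=
    Module.Projective.of_equiv ((LinearEquiv.ofInjective d hdinj).trans (LinearEquiv.ofEq _ _ hker.symm))
  haveI hKf : Module.Finite R⟦X⟧ (LinearMap.ker πP) :=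
    Module.Finite.equiv ((LinearEquiv.ofInjective d hdinj).trans (LinearEquiv.ofEq _ _ hker.symm))
  -- compare the two presentations of `Q`
  obtain ⟨g, hg⟩ := Module.projective_lifting_property πP Λ.mkQ hπs
  obtain ⟨h, hh⟩ := Module.projective_lifting_property Λ.mkQ πP Λ.mkQ_surjective
  have hg' : ∀ f, πP (g f) = Λ.mkQ f := LinearMap.congr_fun hg
  have hh' : ∀ x, Λ.mkQ (h x) = πP x := LinearMap.congr_fun hh
  let iΛ : Λ →ₗ[R⟦X⟧] (Fin n → R⟦X⟧) × LinearMap.ker πP :=
    LinearMap.prod Λ.subtype ((g ∘ₗ Λ.subtype).codRestrict _ fun l => by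
      rw [LinearMap.mem_ker]
      exact (hg' l).trans ((Submodule.Quotient.mk_eq_zero Λ).2 l.2))
  let pΛ : (Fin n → R⟦X⟧) × LinearMap.ker πP →ₗ[R⟦X⟧] Λ :=
    ((LinearMap.id - h ∘ₗ g : (Fin n → R⟦X⟧) →ₗ[R⟦X⟧] Fin n → R⟦X⟧).coprod
      (h ∘ₗ (LinearMap.ker πP).subtype)).codRestrict Λ fun x => by
      rw [← Submodule.Quotient.mk_eq_zero, ← Submodule.mkQ_apply]
      simp only [LinearMap.coprod_apply, map_add, LinearMap.sub_apply, map_sub, LinearMap.id_apply,
        LinearMap.comp_apply, hh', hg', sub_self, zero_add]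
      exact x.2.2
  have hsplit : pΛ ∘ₗ iΛ = LinearMap.id := LinearMap.ext fun l => Subtype.ext (by
    simp [pΛ, iΛ])
  refine ⟨Module.Finite.of_surjective pΛ fun l => ⟨iΛ l, LinearMap.congr_fun hsplit l⟩,
    Module.Projective.of_split iΛ pΛ hsplit⟩

/-- Let k be a field, R a commutative k-algebra, n, M natural numbers and Λ an R⟦X⟧-submodule of the
free module R⟦X⟧^n with X^M · R⟦X⟧^n ⊆ Λ. Then Λ is a finitely generated projective R⟦X⟧-module if
and only if the quotient R⟦X⟧^n / Λ is projective as an R-module. (The published statement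
identifies, functorially in R, the families of lattices between t^N Λ₀ and t^{-N} Λ₀ in R((t))^n, Λ₀
the standard lattice, with the R⟦t⟧-submodules in that range whose quotient t^{-N} Λ₀ / Λ is
R-projective; after multiplying by t^N this is the pointwise statement here, with 2N replaced by any
exponent M; a submodule containing X^M · R⟦X⟧^n automatically spans R((X))^n.) -/
theorem result
    (k : Type u) [Field k] (R : Type u) [CommRing R] [Algebra k R] (n M : ℕ)
    (Λ : Submodule R⟦X⟧ (Fin n → R⟦X⟧))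
    (hΛ : ∀ v : Fin n → R⟦X⟧, ((PowerSeries.X : R⟦X⟧) ^ M) • v ∈ Λ) :
    (Module.Finite R⟦X⟧ Λ ∧ Module.Projective R⟦X⟧ Λ) ↔
      Module.Projective R ((Fin n → R⟦X⟧) ⧸ Λ) := by
  classical
  let F := Fin n → R⟦X⟧
  let π₀ : F →ₗ[R] (Fin n × Fin M → R) :=
    LinearMap.pi fun x => (PowerSeries.coeff (x.2 : ℕ)) ∘ₗ LinearMap.proj x.1
  have hπ₀ : ∀ (v : F) t j, π₀ v (t, j) = PowerSeries.coeff (j : ℕ) (v t) := fun v t j => rfl
  have hπs : Function.Surjective π₀ := fun c =>
    ⟨fun t => PowerSeries.mk fun j => if h : j < M then c (t, ⟨j, h⟩) else 0, funext fun ⟨t, j⟩ => by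
      simp [hπ₀]⟩
  have hπker : ∀ v : F, π₀ v = 0 → ∃ w : F, (X : R⟦X⟧) ^ M • w = v := by
    intro v hv
    have : ∀ t, (X : R⟦X⟧) ^ M ∣ v t := fun t => PowerSeries.X_pow_dvd_iff.2 fun j hj =>
      congrFun hv (t, ⟨j, hj⟩)
    choose w hw using this
    exact ⟨w, funext fun t => (hw t).symm⟩
  let L : Submodule R (Fin n × Fin M → R) := (Λ.restrictScalars R).map π₀
  let φ : F →ₗ[R] (Fin n × Fin M → R) ⧸ L := L.mkQ ∘ₗ π₀
  have hφker : LinearMap.ker φ = Λ.restrictScalars R := by
    refine le_antisymm (fun v hv => ?_) (fun v hv => ?_)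
    · rw [LinearMap.mem_ker, LinearMap.comp_apply, Submodule.mkQ_apply, Submodule.Quotient.mk_eq_zero] at hv
      obtain ⟨l, hl, hlv⟩ := hv
      obtain ⟨w, hw⟩ := hπker (v - l) (by rw [map_sub, hlv, sub_self])
      have : v = l + (X : R⟦X⟧) ^ M • w := by rw [hw]; abel
      rw [this]
      exact add_mem hl (hΛ w)
    · rw [LinearMap.mem_ker, LinearMap.comp_apply, Submodule.mkQ_apply, Submodule.Quotient.mk_eq_zero]
      exact Submodule.mem_map_of_mem hv
  let e : ((Fin n → R⟦X⟧) ⧸ Λ) ≃ₗ[R] (Fin n × Fin M → R) ⧸ L :=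
    (Submodule.Quotient.restrictScalarsEquiv R Λ).symm.trans ((Submodule.quotEquivOfEq _ _ hφker.symm).trans
      (φ.quotKerEquivOfSurjective (L.mkQ_surjective.comp hπs)))
  constructor
  · rintro ⟨hfin, hproj⟩
    suffices Module.Projective R ((Fin n × Fin M → R) ⧸ L) from Module.Projective.of_equiv e.symm
    haveI : Module.Flat R ((Fin n × Fin M → R) ⧸ L) := flat_quotient L fun I x hx => by
      obtain ⟨l, hl, hlx⟩ := x.2
      have h1 : (x : Fin n × Fin M → R) ∈ Submodule.map π₀ (I • ⊤) := by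
        rwa [Submodule.map_smul'', Submodule.map_top, LinearMap.range_eq_top.2 hπs]
      obtain ⟨a, ha, hax⟩ := h1
      obtain ⟨w, hw⟩ := hπker (a - l) (by rw [map_sub, hax, hlx, sub_self])
      have haΛ : a ∈ Λ := by
        have : a = l + (X : R⟦X⟧) ^ M • w := by rw [hw]; abel
        rw [this]
        exact add_mem hl (hΛ w)
      -- `a ∈ Λ ∩ I F` lies in `I Λ`
      have key : (⟨a, haΛ⟩ : Λ) ∈ I • (⊤ : Submodule R Λ) := by
        obtain ⟨m, r, hr⟩ := Module.Finite.exists_fin' R⟦X⟧ Λ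
        obtain ⟨i, hi⟩ := Module.projective_lifting_property r LinearMap.id hr
        let mulX : F →ₗ[R] Λ :=
          { toFun := fun v => ⟨(X : R⟦X⟧) ^ M • v, hΛ v⟩
            map_add' := fun v w => Subtype.ext (smul_add _ v w)
            map_smul' := fun c v => Subtype.ext (smul_comm ((X : R⟦X⟧) ^ M) c v) }
        let sh : (Fin m → R⟦X⟧) →ₗ[R] (Fin m → R⟦X⟧) :=
          { toFun := fun v t => PowerSeries.mk fun j => PowerSeries.coeff (j + M) (v t)
            map_add' := fun v w => funext fun t => PowerSeries.ext fun j => by simp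
            map_smul' := fun c v => funext fun t => PowerSeries.ext fun j => by simp }
        let χ : F →ₗ[R] Λ := r.restrictScalars R ∘ₗ sh ∘ₗ i.restrictScalars R ∘ₗ mulX
        have hχ : χ a = (⟨a, haΛ⟩ : Λ) := by
          have hm : mulX a = (X : R⟦X⟧) ^ M • (⟨a, haΛ⟩ : Λ) := rfl
          have hs : sh ((X : R⟦X⟧) ^ M • i ⟨a, haΛ⟩) = i ⟨a, haΛ⟩ := funext fun t => PowerSeries.ext fun j => by
            simp [sh, PowerSeries.coeff_X_pow_mul]
          show r (sh (i (mulX a))) = _
          rw [hm, map_smul, hs]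
          exact LinearMap.congr_fun hi _
        rw [← hχ]
        have := Submodule.mem_map_of_mem (f := χ) ha
        rw [Submodule.map_smul''] at this
        exact Submodule.smul_mono le_rfl le_top this
      let p : Λ →ₗ[R] L := (π₀ ∘ₗ (Λ.subtype.restrictScalars R)).codRestrict L
        fun z => Submodule.mem_map_of_mem (f := π₀) z.2
      have hpa : p ⟨a, haΛ⟩ = x := Subtype.ext hax
      rw [← hpa]
      have := Submodule.mem_map_of_mem (f := p) key
      rw [Submodule.map_smul''] at this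
      exact Submodule.smul_mono le_rfl le_top this
    haveI : Module.FinitePresentation R ((Fin n × Fin M → R) ⧸ L) := by
      refine Module.finitePresentation_of_surjective L.mkQ L.mkQ_surjective ?_
      rw [Submodule.ker_mkQ]
      obtain ⟨s, hs⟩ := (Submodule.fg_top Λ).1 hfin.fg_top
      refine ⟨(s ×ˢ (Finset.univ : Finset (Fin M))).image fun g => π₀ ((X : R⟦X⟧) ^ (g.2 : ℕ) • g.1),
        le_antisymm (Submodule.span_le.2 ?_) ?_⟩
      · intro z hz
        rw [Finset.coe_image] at hz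
        obtain ⟨⟨g, j⟩, hg, rfl⟩ := hz
        refine Submodule.mem_map_of_mem (Λ.smul_mem _ ?_)
        rw [← hs]
        exact Submodule.subset_span (Finset.mem_product.1 hg).1
      · rintro _ ⟨l, hl, rfl⟩
        suffices ∀ c : R⟦X⟧, π₀ (c • l) ∈ Submodule.span R (↑((s ×ˢ (Finset.univ : Finset (Fin M))).image
            fun g => π₀ ((X : R⟦X⟧) ^ (g.2 : ℕ) • g.1)) : Set (Fin n × Fin M → R)) by
          simpa using this 1
        have hl' : l ∈ Submodule.span R⟦X⟧ (s : Set F) := by rw [hs]; exact hl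
        clear hl
        induction hl' using Submodule.span_induction with
        | mem g hg =>
          intro c
          have e : π₀ (c • g) = ∑ j : Fin M, PowerSeries.coeff (j : ℕ) c • π₀ ((X : R⟦X⟧) ^ (j : ℕ) • g) := by
            funext ⟨t, l⟩
            have e1 : (c • g) t = c * g t := rfl
            have e2 : ∀ j : ℕ, ((X : R⟦X⟧) ^ j • g) t = X ^ j * g t := fun j => rfl
            simp only [Finset.sum_apply, Pi.smul_apply, hπ₀, smul_eq_mul]
            show PowerSeries.coeff (l : ℕ) (c * g t) =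
              ∑ j : Fin M, PowerSeries.coeff (j : ℕ) c * PowerSeries.coeff (l : ℕ) (X ^ (j : ℕ) * g t)
            simp only [PowerSeries.coeff_X_pow_mul']
            rw [PowerSeries.coeff_mul, Finset.Nat.sum_antidiagonal_eq_sum_range_succ_mk,
              Fin.sum_univ_eq_sum_range (fun j => PowerSeries.coeff j c *
                if j ≤ (l : ℕ) then PowerSeries.coeff ((l : ℕ) - j) (g t) else 0)]
            rw [← Finset.sum_subset (Finset.range_mono (Nat.succ_le_of_lt l.2))]
            · exact Finset.sum_congr rfl fun j hj => by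
                rw [if_pos (Nat.lt_succ_iff.1 (Finset.mem_range.1 hj))]
            · intro j _ hj
              rw [if_neg (by simpa using hj), mul_zero]
          rw [e]
          refine Submodule.sum_mem _ fun j _ => Submodule.smul_mem _ _ (Submodule.subset_span ?_)
          rw [Finset.coe_image]
          exact ⟨(g, j), by simp [Finset.mem_coe.1 hg], rfl⟩
        | zero => intro c; simp
        | add a b _ _ ha hb => intro c; rw [smul_add, map_add]; exact add_mem (ha c) (hb c)
        | smul d a _ ha => intro c; rw [smul_smul]; exact ha _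
    exact Module.Flat.projective_of_finitePresentation
  · intro hQ
    haveI : Module.Finite R ((Fin n → R⟦X⟧) ⧸ Λ) := Module.Finite.equiv e.symm
    exact projective_submodule n (M + 1) Λ
      (fun v => by rw [pow_succ', mul_smul]; exact Λ.smul_mem _ (hΛ v)) (Nat.succ_ne_zero M)

end Groth.Agent.S19306
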