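import Groth.Statements.S19308
import Mathlib.RingTheory.Nullstellensatz
import Mathlib.RingTheory.Filtration
import Mathlib.RingTheory.Jacobson.Ring
import Mathlib.RingTheory.TensorProduct.Free
import Mathlib.RingTheory.Flat.Basic
import Mathlib.RingTheory.Flat.Tensor
import Mathlib.RingTheory.Spectrum.Prime.Topology
import Mathlib.LinearAlgebra.TensorProduct.RightExactness
import Mathlib.RingTheory.FiniteType
import Mathlib.FieldTheory.IsAlgClosed.Basic
import Mathlib.RingTheory.Localization.Away.Basic
set_option autoImplicit false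
universe u
open TensorProduct
open CAlg

namespace Groth.Agent.S19308

open scoped TensorProduct

section
variable {k : Type u} [Field k] {A : Type u} [CommRing A] [Algebra k A]

theorem exists_fg (R : Type u) [CommRing R] [Algebra k R] (x : R ⊗[k] A) :
    ∃ s : Finset R, ∀ S : Subalgebra k R, ↑s ⊆ (S : Set R) →
      x ∈ Set.range (Algebra.TensorProduct.map S.val (AlgHom.id k A)) := by
  classical
  induction x using TensorProduct.induction_on with
  | zero => exact ⟨∅, fun S _ => ⟨0, map_zero _⟩⟩
  | tmul r a => exact ⟨{r}, fun S hS => ⟨⟨r, hS (Finset.mem_singleton_self r)⟩ ⊗ₜ a, rfl⟩⟩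
  | add x y hx hy =>
    obtain ⟨s, hs⟩ := hx; obtain ⟨t, ht⟩ := hy
    refine ⟨s ∪ t, fun S hS => ?_⟩
    rw [Finset.coe_union, Set.union_subset_iff] at hS
    obtain ⟨a, rfl⟩ := hs S hS.1; obtain ⟨b, rfl⟩ := ht S hS.2
    exact ⟨a + b, map_add _ _ _⟩

/-- The coefficient of a tensor along a functional. -/
noncomputable def coef (R : Type u) [CommRing R] [Algebra k R] (φ : A →ₗ[k] k) :
    R ⊗[k] A →ₗ[k] R :=
  (TensorProduct.rid k R).toLinearMap ∘ₗ φ.lTensor R

theorem coef_map {R S : Type u} [CommRing R] [Algebra k R] [CommRing S] [Algebra k S]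
    (g : R →ₐ[k] S) (φ : A →ₗ[k] k) (x : R ⊗[k] A) :
    coef S φ (Algebra.TensorProduct.map g (AlgHom.id k A) x) = g (coef R φ x) := by
  induction x using TensorProduct.induction_on with
  | zero => simp
  | tmul r a => simp [coef]
  | add x y hx hy => simp only [map_add, hx, hy]

theorem ker_map_mk {R : Type u} [CommRing R] [Algebra k R] (I : Ideal R) :
    RingHom.ker (Algebra.TensorProduct.map (Ideal.Quotient.mkₐ k I) (AlgHom.id k A)) =
      I.map (Algebra.TensorProduct.includeLeft : R →ₐ[k] R ⊗[k] A) := by
  rw [Algebra.TensorProduct.rTensor_ker _ Ideal.Quotient.mk_surjective]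
  congr 1
  exact Ideal.Quotient.mkₐ_ker k I

/-- A tensor with a unit coefficient is a nonzerodivisor (`k` algebraically closed, `A` a domain). -/
theorem nzd_fg [IsAlgClosed k] [IsDomain A] (R : Type u) [CommRing R] [Algebra k R]
    [Algebra.FiniteType k R] (f x : R ⊗[k] A) (φ : A →ₗ[k] k) (hu : IsUnit (coef R φ f))
    (h : f * x = 0) : x = 0 := by
  classical
  haveI : IsNoetherianRing R := Algebra.FiniteType.isNoetherianRing k R
  have key : ∀ (m : Ideal R), m.IsMaximal → ∀ i : ℕ,
      x ∈ (m ^ i).map (Algebra.TensorProduct.includeLeft : R →ₐ[k] R ⊗[k] A) := by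
    intro m hm
    haveI := hm
    letI := Ideal.Quotient.field m
    haveI : Algebra.FiniteType k (R ⧸ m) :=
      Algebra.FiniteType.of_surjective (Ideal.Quotient.mkₐ k m) Ideal.Quotient.mk_surjective
    haveI : Module.Finite k (R ⧸ m) := finite_of_finite_type_of_isJacobsonRing k (R ⧸ m)
    haveI : Algebra.IsIntegral k (R ⧸ m) := Algebra.IsIntegral.of_finite k (R ⧸ m)
    let e : k ≃ₐ[k] (R ⧸ m) :=
      AlgEquiv.ofBijective (Algebra.ofId k (R ⧸ m)) IsAlgClosed.algebraMap_bijective_of_isIntegral
    let χ : R →ₐ[k] k := e.symm.toAlgHom.comp (Ideal.Quotient.mkₐ k m)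
    let f₀ : A := Algebra.TensorProduct.lid k A (Algebra.TensorProduct.map χ (AlgHom.id k A) f)
    have hf₀ : f₀ ≠ 0 := by
      intro h0
      have h1 : Algebra.TensorProduct.map χ (AlgHom.id k A) f = 0 := by
        simpa [f₀] using h0
      have := (coef_map χ φ f).symm
      rw [h1, map_zero] at this
      exact (hu.map χ).ne_zero this
    have hdiff : f - (1 : R) ⊗ₜ f₀ ∈
        m.map (Algebra.TensorProduct.includeLeft : R →ₐ[k] R ⊗[k] A) := by
      rw [← ker_map_mk m, RingHom.mem_ker, map_sub, sub_eq_zero]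
      have : ∀ y : R ⊗[k] A, Algebra.TensorProduct.map (Ideal.Quotient.mkₐ k m) (AlgHom.id k A) y =
          (1 : R ⧸ m) ⊗ₜ (Algebra.TensorProduct.lid k A
            (Algebra.TensorProduct.map χ (AlgHom.id k A) y)) := by
        intro y
        induction y using TensorProduct.induction_on with
        | zero => simp
        | tmul r a =>
          simp only [Algebra.TensorProduct.map_tmul, AlgHom.id_apply, Algebra.TensorProduct.lid_tmul]
          rw [← TensorProduct.smul_tmul, Algebra.smul_def, mul_one]
          congr 1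
          exact (e.apply_symm_apply _).symm
        | add y z hy hz => simp only [map_add, hy, hz, TensorProduct.tmul_add]
      rw [this f, Algebra.TensorProduct.map_tmul, map_one, AlgHom.id_apply]
    intro i
    induction i with
    | zero => rw [pow_zero, Ideal.one_eq_top, Ideal.map_top]; trivial
    | succ i ih =>
      have h1 : ((1 : R) ⊗ₜ[k] f₀) * x ∈
          (m ^ (i + 1)).map (Algebra.TensorProduct.includeLeft : R →ₐ[k] R ⊗[k] A) := by
        have h2 : ((1 : R) ⊗ₜ[k] f₀) * x = -((f - (1 : R) ⊗ₜ f₀) * x) := by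
          rw [sub_mul, h]; ring
        rw [h2, pow_succ', Ideal.map_mul]
        exact neg_mem (Ideal.mul_mem_mul hdiff ih)
      rw [← ker_map_mk, RingHom.mem_ker] at h1 ⊢
      rw [map_mul, Algebra.TensorProduct.map_tmul, map_one, AlgHom.id_apply] at h1
      have hinj : Function.Injective ((LinearMap.mulLeft k f₀).lTensor (R ⧸ m ^ (i + 1))) :=
        Module.Flat.lTensor_preserves_injective_linearMap _ (mul_right_injective₀ hf₀)
      refine hinj ?_
      rw [map_zero]
      generalize Algebra.TensorProduct.map (Ideal.Quotient.mkₐ k (m ^ (i + 1))) (AlgHom.id k A) x = y at h1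
      rw [← h1]
      clear h1
      induction y using TensorProduct.induction_on with
      | zero => simp
      | tmul r a => simp
      | add y z hy hz => rw [map_add, mul_add, hy, hz]
  let b := Module.Basis.ofVectorSpace k A
  let B := Algebra.TensorProduct.basis R b
  refine B.ext_elem fun j => ?_
  rw [map_zero, Finsupp.zero_apply]
  by_contra hc
  set c := B.repr x j with hcdef
  let Ann : Ideal R := (⊥ : Ideal R).colon {c}
  have hAnn : ∀ r, r ∈ Ann ↔ r * c = 0 := fun r => by simp [Ann, Submodule.mem_colon]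
  have hne : Ann ≠ ⊤ := fun h => hc (by simpa using (hAnn 1).1 (h ▸ Submodule.mem_top))
  obtain ⟨m, hm, hle⟩ := Ideal.exists_le_maximal Ann hne
  have hmem : c ∈ (⨅ i : ℕ, m ^ i • ⊤ : Submodule R R) := by
    rw [Submodule.mem_iInf]
    intro i
    rw [smul_eq_mul, Ideal.mul_top]
    have hx := key m hm i
    have aux : ∀ y ∈ (m ^ i).map (Algebra.TensorProduct.includeLeft : R →ₐ[k] R ⊗[k] A),
        ∀ j, B.repr y j ∈ m ^ i := by
      intro y hy
      change y ∈ (m ^ i).map (algebraMap R (R ⊗[k] A)) at hy
      rw [← Submodule.restrictScalars_mem R, ← Ideal.smul_top_eq_map] at hy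
      refine Submodule.smul_induction_on hy (fun r hr z _ j => ?_) (fun a b ha hb j => ?_)
      · rw [map_smul, Finsupp.smul_apply, smul_eq_mul]; exact Ideal.mul_mem_right _ _ hr
      · rw [map_add, Finsupp.add_apply]; exact Ideal.add_mem _ (ha j) (hb j)
    exact aux x hx j
  obtain ⟨⟨r, hr⟩, hrc⟩ := (Ideal.mem_iInf_smul_pow_eq_bot_iff m c).1 hmem
  have h1r : (1 : R) - r ∈ Ann := (hAnn _).2 (by
    have : r * c = c := hrc
    linear_combination -this)
  exact hm.ne_top (m.eq_top_iff_one.2 (by simpa using m.add_mem (hle h1r) hr))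

theorem nzd [IsAlgClosed k] [IsDomain A] (R : Type u) [CommRing R] [Algebra k R]
    (f : R ⊗[k] A) (φ : A →ₗ[k] k) (hu : IsUnit (coef R φ f)) :
    f ∈ nonZeroDivisors (R ⊗[k] A) := by
  classical
  suffices ∀ x, f * x = 0 → x = 0 from
    mem_nonZeroDivisors_iff_right.2 fun x hx => this x (by rwa [mul_comm])
  intro x hx
  obtain ⟨s, hs⟩ := exists_fg R f
  obtain ⟨t, ht⟩ := exists_fg R x
  obtain ⟨v, hv⟩ := hu.exists_left_inv
  let S : Subalgebra k R := Algebra.adjoin k (↑(s ∪ t ∪ {v}) : Set R)
  haveI : Algebra.FiniteType k S :=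
    (Subalgebra.fg_iff_finiteType S).1 (Subalgebra.fg_adjoin_finset _)
  have hsub : (↑(s ∪ t ∪ {v}) : Set R) ⊆ S := Algebra.subset_adjoin
  simp only [Finset.coe_union, Finset.coe_singleton, Set.union_subset_iff, Set.singleton_subset_iff] at hsub
  obtain ⟨f', rfl⟩ := hs S hsub.1.1
  obtain ⟨x', rfl⟩ := ht S hsub.1.2
  have hinj : Function.Injective (Algebra.TensorProduct.map S.val (AlgHom.id k A)) :=
    Module.Flat.rTensor_preserves_injective_linearMap S.val.toLinearMap Subtype.val_injective
  rw [nzd_fg S f' x' φ ?_ (hinj (by rw [map_mul, hx, map_zero])), map_zero]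
  refine IsUnit.of_mul_eq_one_right (⟨v, hsub.2⟩ : S) (Subtype.ext ?_)
  rw [coef_map] at hv
  exact hv

theorem flat_quot [IsAlgClosed k] [IsDomain A] (R : Type u) [CommRing R] [Algebra k R]
    (f : R ⊗[k] A) (φ : A →ₗ[k] k) (hu : IsUnit (coef R φ f)) :
    Module.Flat R (R ⊗[k] A ⧸ Ideal.span {f}) := by
  refine Module.Flat.iff_lTensor_injective'.2 fun I => ?_
  let π : R ⊗[k] A →ₗ[R] R ⊗[k] A ⧸ Ideal.span {f} := (Ideal.Quotient.mkₐ R _).toLinearMap
  let μ : R ⊗[k] A →ₗ[R] R ⊗[k] A := LinearMap.mulLeft R f
  have hπ : Function.Surjective π := Ideal.Quotient.mk_surjective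
  let ι : (R ⊗[k] A) ⊗[R] I →ₗ[R] R ⊗[k] A :=
    (TensorProduct.rid R (R ⊗[k] A)).toLinearMap ∘ₗ I.subtype.lTensor (R ⊗[k] A)
  have hι : Function.Injective ι := (TensorProduct.rid R _).injective.comp
    (Module.Flat.lTensor_preserves_injective_linearMap _ I.subtype_injective)
  have hrange : ∀ b, b ∈ LinearMap.range ι ↔
      b ∈ I.map (Algebra.TensorProduct.includeLeft : R →ₐ[k] R ⊗[k] A) := by
    intro b
    change _ ↔ b ∈ I.map (algebraMap R (R ⊗[k] A))
    rw [← Submodule.restrictScalars_mem R (I.map (algebraMap R (R ⊗[k] A))), ← Ideal.smul_top_eq_map]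
    constructor
    · rintro ⟨w, rfl⟩
      induction w using TensorProduct.induction_on with
      | zero => simp
      | tmul c i => simpa [ι] using Submodule.smul_mem_smul i.2 (Submodule.mem_top (x := c))
      | add u v hu hv => rw [map_add]; exact Submodule.add_mem _ hu hv
    · intro hb
      refine Submodule.smul_induction_on hb (fun r hr c _ => ⟨c ⊗ₜ ⟨r, hr⟩, by simp [ι]⟩)
        (fun a b ha hb => Submodule.add_mem _ ha hb)
  have hcomm : ∀ w, ι (μ.rTensor I w) = f * ι w := by
    intro w
    induction w using TensorProduct.induction_on with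
    | zero => simp
    | tmul c i => simp [ι, μ]
    | add u v hu hv => simp only [map_add, hu, hv, mul_add]
  rw [injective_iff_map_eq_zero]
  intro y hy
  obtain ⟨w, rfl⟩ := LinearMap.rTensor_surjective I hπ y
  have h1 : π (ι w) = 0 := by
    have : ∀ w, π (ι w) =
        TensorProduct.rid R _ (I.subtype.lTensor _ (π.rTensor I w)) := by
      intro w
      induction w using TensorProduct.induction_on with
      | zero => simp
      | tmul c i => simp [ι]
      | add u v hu hv => simp only [map_add, hu, hv]
    rw [this, hy, map_zero]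
  obtain ⟨c, hc⟩ := Ideal.mem_span_singleton'.1 (Ideal.Quotient.eq_zero_iff_mem.1 h1)
  have hf : Algebra.TensorProduct.map (Ideal.Quotient.mkₐ k I) (AlgHom.id k A) f ∈
      nonZeroDivisors _ := nzd (R ⧸ I) _ φ (by rw [coef_map]; exact hu.map _)
  have hcI : c ∈ I.map (Algebra.TensorProduct.includeLeft : R →ₐ[k] R ⊗[k] A) := by
    rw [← ker_map_mk I, RingHom.mem_ker]
    refine mem_nonZeroDivisors_iff_right.1 hf _ ?_
    rw [← map_mul, hc, ← RingHom.mem_ker, ker_map_mk, ← hrange]
    exact ⟨w, rfl⟩
  obtain ⟨w', hw'⟩ := (hrange c).2 hcI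
  rw [show w = μ.rTensor I w' from hι (by rw [hcomm, hw', mul_comm, hc]), ← LinearMap.rTensor_comp_apply]
  have : π ∘ₗ μ = 0 := LinearMap.ext fun b =>
    Ideal.Quotient.eq_zero_iff_mem.2 (Ideal.mul_mem_right b _ (Ideal.mem_span_singleton_self f))
  rw [this, LinearMap.rTensor_zero, LinearMap.zero_apply]

end

/-- Let k be an algebraically closed field, A a finitely generated k-algebra which is an integral domain
(an affine variety X = Spec A), Z a finite (possibly empty) set of k-points of A, R a commutative
k-algebra and U an open dense subset of Spec (R ⊗_k A) = X_R containing every point of Z_R and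
meeting every fibre of X_R → Spec R. Then locally on Spec R there is a principal relative effective
Cartier divisor missing Z_R whose complement lies in U: for every prime p of R there are r ∉ p and f
∈ R[1/r] ⊗_k A such that f is a non-zero-divisor, (R[1/r] ⊗_k A)/(f) is flat over R[1/r], f maps to
a unit under every point of Z, and the basic open set D(f) of X_{R[1/r]} maps into U. (The published
statement is for a quasi-projective variety X and asks for relative Cartier divisors D_i over an
open cover of Spec R; this row is the affine case, to which the published proof reduces, where the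
divisors produced are principal.) -/
theorem result
    (k : Type u) [Field k] [IsAlgClosed k]
    (A : Type u) [CommRing A] [Algebra k A] [IsDomain A] [Algebra.FiniteType k A]
    (Z : Finset (A →ₐ[k] k))
    (R : Type u) [CommRing R] [Algebra k R]
    (U : TopologicalSpace.Opens (PrimeSpectrum (TensorProduct k R A)))
    (hU : Dense (U : Set (PrimeSpectrum (TensorProduct k R A))))
    (hZ : ∀ z ∈ Z, ∀ q : PrimeSpectrum R,
      PrimeSpectrum.comap (Algebra.TensorProduct.lift (AlgHom.id k R) ((Algebra.ofId k R).comp z)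
        (fun _ _ => Commute.all _ _)).toRingHom q ∈ U)
    (hsurj : ∀ q : PrimeSpectrum R, ∃ P ∈ U,
      PrimeSpectrum.comap (Algebra.TensorProduct.includeLeftRingHom : R →+* TensorProduct k R A) P = q)
    (p : PrimeSpectrum R) :
    ∃ r : R, r ∉ p.asIdeal ∧
      ∃ f : TensorProduct k (Localization.Away r) A,
        f ∈ nonZeroDivisors (TensorProduct k (Localization.Away r) A) ∧
        Module.Flat (Localization.Away r)
          (TensorProduct k (Localization.Away r) A ⧸ Ideal.span {f}) ∧
        (∀ z ∈ Z, IsUnit (Algebra.TensorProduct.lift (AlgHom.id k (Localization.Away r))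
          ((Algebra.ofId k (Localization.Away r)).comp z) (fun _ _ => Commute.all _ _) f)) ∧
        (∀ P : PrimeSpectrum (TensorProduct k (Localization.Away r) A), f ∉ P.asIdeal →
          PrimeSpectrum.comap (Algebra.TensorProduct.map
            (IsScalarTower.toAlgHom k R (Localization.Away r)) (AlgHom.id k A)).toRingHom P ∈ U) := by
  classical
  obtain ⟨I, hI⟩ := (PrimeSpectrum.isClosed_iff_zeroLocus_ideal _).1 U.isOpen.isClosed_compl
  have hU' : ∀ P, P ∈ U ↔ ¬ I ≤ P.asIdeal := by
    intro P
    have := Set.ext_iff.1 hI P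
    simp only [Set.mem_compl_iff, SetLike.mem_coe, PrimeSpectrum.mem_zeroLocus] at this
    exact not_iff_not.1 (by simpa using this)
  obtain ⟨P₀, hP₀U, hP₀⟩ := hsurj p
  let ζ : (A →ₐ[k] k) → (TensorProduct k R A →ₐ[k] R) := fun z =>
    Algebra.TensorProduct.lift (AlgHom.id k R) ((Algebra.ofId k R).comp z) (fun _ _ => Commute.all _ _)
  let T : Finset (PrimeSpectrum (TensorProduct k R A)) :=
    insert P₀ (Z.image fun z => PrimeSpectrum.comap (ζ z).toRingHom p)
  have hT : ∀ P ∈ T, P ∈ U := by
    intro P hP
    rcases Finset.mem_insert.1 hP with rfl | hP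
    · exact hP₀U
    · obtain ⟨z, hz, rfl⟩ := Finset.mem_image.1 hP
      exact hZ z hz p
  obtain ⟨f, hfI, hfT⟩ : ∃ f ∈ I, ∀ P ∈ T, f ∉ P.asIdeal := by
    by_contra hcon
    push Not at hcon
    have hsub : (I : Set (TensorProduct k R A)) ⊆ ⋃ P ∈ (T : Set (PrimeSpectrum (TensorProduct k R A))),
        (P.asIdeal : Set (TensorProduct k R A)) := by
      intro f hf
      obtain ⟨P, hP, hfP⟩ := hcon f hf
      exact Set.mem_biUnion hP hfP
    obtain ⟨P, hP, hle⟩ := (Ideal.subset_union_prime P₀ P₀ (fun P _ _ _ => P.isPrime)).1 hsub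
    exact (hU' P).1 (hT P hP) hle
  let b := Module.Basis.ofVectorSpace k A
  obtain ⟨j, hj⟩ : ∃ j, coef R (b.coord j) f ∉ p.asIdeal := by
    by_contra hcon
    push Not at hcon
    apply hfT P₀ (Finset.mem_insert_self _ _)
    let B := Algebra.TensorProduct.basis R b
    have hrepr : ∀ (y : TensorProduct k R A) (i), B.repr y i = coef R (b.coord i) y := by
      intro y i
      induction y using TensorProduct.induction_on with
      | zero => simp
      | tmul r a => simp [B, coef, mul_comm, Algebra.smul_def]
      | add y z hy hz => simp only [map_add, Finsupp.add_apply, hy, hz]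
    rw [← B.linearCombination_repr f, Finsupp.linearCombination_apply]
    refine Ideal.sum_mem _ fun i _ => ?_
    show B.repr f i • B i ∈ P₀.asIdeal
    rw [Algebra.smul_def, hrepr]
    refine Ideal.mul_mem_right _ _ ?_
    have := hcon i
    rw [← hP₀] at this
    exact this
  let r : R := coef R (b.coord j) f * ∏ z ∈ Z, ζ z f
  have hr : r ∉ p.asIdeal := by
    intro h
    rcases p.isPrime.mem_or_mem h with h | h
    · exact hj h
    · obtain ⟨z, hz, hzf⟩ := Ideal.IsPrime.prod_mem_iff.1 h
      exact hfT _ (Finset.mem_insert_of_mem (Finset.mem_image_of_mem _ hz)) hzf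
  have hunit : ∀ s, s ∣ r → IsUnit (algebraMap R (Localization.Away r) s) := fun s hs =>
    isUnit_of_dvd_unit ((algebraMap R (Localization.Away r)).map_dvd hs)
      (IsLocalization.Away.algebraMap_isUnit r)
  let g := IsScalarTower.toAlgHom k R (Localization.Away r)
  refine ⟨r, hr, Algebra.TensorProduct.map g (AlgHom.id k A) f, ?_, ?_, ?_, ?_⟩
  · exact nzd _ _ (b.coord j) (by rw [coef_map]; exact hunit _ (dvd_mul_right _ _))
  · exact flat_quot _ _ (b.coord j) (by rw [coef_map]; exact hunit _ (dvd_mul_right _ _))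
  · intro z hz
    have hcomp : (Algebra.TensorProduct.lift (AlgHom.id k (Localization.Away r))
        ((Algebra.ofId k (Localization.Away r)).comp z) (fun _ _ => Commute.all _ _)).comp
          (Algebra.TensorProduct.map g (AlgHom.id k A)) = g.comp (ζ z) := by
      refine Algebra.TensorProduct.ext' fun a c => ?_
      simp [g, ζ, IsScalarTower.algebraMap_apply k R (Localization.Away r)]
    have := AlgHom.congr_fun hcomp f
    simp only [AlgHom.comp_apply] at this
    rw [this]
    exact hunit _ (dvd_mul_of_dvd_right (Finset.dvd_prod_of_mem (fun z => ζ z f) hz) _)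
  · intro P hP
    rw [hU']
    exact fun hle => hP (hle hfI)

end Groth.Agent.S19308
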