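import Groth.Statements.S19309
-- import your own Groth.Agent.* helpers here

set_option autoImplicit false
universe u
open PowerSeries LaurentSeries
open CAlg

namespace Groth.Agent.S19309

lemma single_one_unique {R' : Type u} [CommRing R'] {R : Type u} [CommRing R] (φ : R →+* R')
    (θ : R⸨X⸩ →+* R'⸨X⸩)
    (hθ : θ.comp (algebraMap R⟦X⟧ R⸨X⸩) = (algebraMap R'⟦X⟧ R'⸨X⸩).comp (PowerSeries.map φ))
    (f : R⸨X⸩) (n : ℤ) : (θ f).coeff n = φ (f.coeff n) := by
  have hps : ∀ g : R⟦X⟧, θ (HahnSeries.ofPowerSeries ℤ R g) =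
      HahnSeries.ofPowerSeries ℤ R' (PowerSeries.map φ g) := fun g => RingHom.congr_fun hθ g
  have hpos : ∀ m : ℕ, θ (HahnSeries.single (m : ℤ) (1 : R)) = HahnSeries.single (m : ℤ) (1 : R') := fun m => by
    rw [← HahnSeries.ofPowerSeries_X_pow (R := R) m, hps, map_pow, PowerSeries.map_X,
      HahnSeries.ofPowerSeries_X_pow]
  have hneg : ∀ m : ℕ, θ (HahnSeries.single (-(m : ℤ)) (1 : R)) = HahnSeries.single (-(m : ℤ)) (1 : R') := fun m => by
    have h1 : θ (HahnSeries.single (-(m : ℤ)) (1 : R)) * HahnSeries.single (m : ℤ) (1 : R') = 1 := by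
      rw [← hpos, ← map_mul]; simp
    calc _ = θ (HahnSeries.single (-(m : ℤ)) (1 : R)) * HahnSeries.single (m : ℤ) (1 : R') *
          HahnSeries.single (-(m : ℤ)) (1 : R') := by rw [mul_assoc]; simp
      _ = _ := by rw [h1, one_mul]
  have hall : ∀ z : ℤ, θ (HahnSeries.single z (1 : R)) = HahnSeries.single z (1 : R') := fun z => by
    obtain ⟨m, rfl | rfl⟩ := z.eq_nat_or_neg
    · exact hpos m
    · exact hneg m
  have hf : θ f = HahnSeries.single f.order (1 : R') *
      HahnSeries.ofPowerSeries ℤ R' (PowerSeries.map φ f.powerSeriesPart) := by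
    conv_lhs => rw [← LaurentSeries.single_order_mul_powerSeriesPart f]
    rw [map_mul, hall]
    congr 1
    exact hps _
  rw [hf]
  conv_rhs => rw [← LaurentSeries.single_order_mul_powerSeriesPart f]
  obtain ⟨m, rfl⟩ : ∃ m : ℤ, m + f.order = n := ⟨n - f.order, by omega⟩
  rw [HahnSeries.coeff_single_mul_add, HahnSeries.coeff_single_mul_add, one_mul, one_mul]
  rcases lt_or_ge m 0 with hm | hm
  · rw [PowerSeries.coeff_coe, if_pos hm, PowerSeries.coeff_coe, if_pos hm, map_zero]
  · obtain ⟨j, rfl⟩ := Int.eq_ofNat_of_zero_le hm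
    simp [PowerSeries.coeff_coe, apply_ite φ]

/-- Let k be a field, R a commutative k-algebra, B a finitely presented R⟦X⟧-algebra (an affine scheme V
= Spec B of finite presentation over the disc D_R = Spec R⟦X⟧) and s : B → R((X)) an R⟦X⟧-algebra
map (a section of V over the punctured disc). Then there is an ideal I of R such that for every ring
map φ : R → R', writing θ : R((X)) → R'((X)) for the ring map compatible with R⟦X⟧ → R'⟦X⟧, the
section s extends to a section over D_{R'} — an R⟦X⟧-algebra map s' : B → R'⟦X⟧ whose composite with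
R'⟦X⟧ → R'((X)) is θ ∘ s — if and only if φ kills I. In other words the sub-presheaf of Spec R where
s extends over the disc is the closed subscheme defined by I. -/
theorem result
    (k : Type u) [Field k] (R : Type u) [CommRing R] [Algebra k R]
    (B : Type u) [CommRing B] [Algebra R⟦X⟧ B] [Algebra.FinitePresentation R⟦X⟧ B]
    (s : B →ₐ[R⟦X⟧] R⸨X⸩) :
    ∃ I : Ideal R, ∀ (R' : Type u) [CommRing R'] (φ : R →+* R') (θ : R⸨X⸩ →+* R'⸨X⸩),
      θ.comp (algebraMap R⟦X⟧ R⸨X⸩) = (algebraMap R'⟦X⟧ R'⸨X⸩).comp (PowerSeries.map φ) →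
      ((∃ s' : B →+* R'⟦X⟧, s'.comp (algebraMap R⟦X⟧ B) = PowerSeries.map φ ∧
          (algebraMap R'⟦X⟧ R'⸨X⸩).comp s' = θ.comp s.toRingHom) ↔ I ≤ RingHom.ker φ) := by
  refine ⟨Ideal.span {r | ∃ b : B, ∃ n : ℤ, n < 0 ∧ (s b).coeff n = r}, ?_⟩
  intro R' _ φ θ hθ
  constructor
  · rintro ⟨s', -, h2⟩
    rw [Ideal.span_le]
    rintro r ⟨b, n, hn, rfl⟩
    show φ _ = 0
    rw [← single_one_unique φ θ hθ]
    have : θ (s b) = HahnSeries.ofPowerSeries ℤ R' (s' b) := (RingHom.congr_fun h2 b).symm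
    rw [this, PowerSeries.coeff_coe, if_pos hn]
  · intro hI
    have hker : ∀ (b : B) (n : ℤ), n < 0 → φ ((s b).coeff n) = 0 := fun b n hn =>
      hI (Ideal.subset_span ⟨b, n, hn, rfl⟩)
    have hex : ∀ b : B, ∃ g : R'⟦X⟧, HahnSeries.ofPowerSeries ℤ R' g = θ (s b) := fun b =>
      ⟨PowerSeries.mk fun j => φ ((s b).coeff (j : ℤ)), by
        ext n
        rw [single_one_unique φ θ hθ, PowerSeries.coeff_coe]
        rcases lt_or_ge n 0 with hn | hn
        · rw [if_pos hn, hker b n hn]
        · obtain ⟨j, rfl⟩ := Int.eq_ofNat_of_zero_le hn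
          simp⟩
    choose g hg using hex
    have hinj : Function.Injective (HahnSeries.ofPowerSeries ℤ R') := HahnSeries.ofPowerSeries_injective
    refine ⟨{ toFun := g, map_one' := hinj ?_, map_mul' := fun a b => hinj ?_,
              map_zero' := hinj ?_, map_add' := fun a b => hinj ?_ }, ?_, ?_⟩
    · rw [hg, map_one, map_one, map_one]
    · simp only [map_mul, hg]
    · rw [hg, map_zero, map_zero, map_zero]
    · simp only [map_add, hg]
    · refine RingHom.ext fun p => hinj ?_
      show HahnSeries.ofPowerSeries ℤ R' (g _) = _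
      rw [hg, AlgHom.commutes]
      exact RingHom.congr_fun hθ p
    · exact RingHom.ext fun b => hg b

end Groth.Agent.S19309
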