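import Groth.Statements.S19310
import Groth.Agent.GrpSchLib.TensorDomain
import Mathlib

set_option autoImplicit false
universe u
open TensorProduct
open CAlg

namespace Groth.Agent.S19310

section
variable {k : Type u} [Field k] {A : Type u} [CommRing A] [Algebra k A] {ι : Type u} (b : Module.Basis ι k A)

open TensorProduct

/-- Coefficients of a product in `S ⊗ A`. -/
theorem repr_mul {S : Type u} [CommRing S] [Algebra k S] (s t : Finset ι) (c d : ι → S) (l : ι) :
    (Algebra.TensorProduct.basis S b).repr
      ((∑ i ∈ s, c i ⊗ₜ[k] b i) * (∑ j ∈ t, d j ⊗ₜ[k] b j)) l =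
      ∑ i ∈ s, ∑ j ∈ t, c i * d j * algebraMap k S (b.repr (b i * b j) l) := by
  simp [Finset.sum_mul, Finset.mul_sum, map_sum, Algebra.TensorProduct.tmul_mul_tmul]
  rw [Finset.sum_comm]

theorem repr_map {S T : Type u} [CommRing S] [Algebra k S] [CommRing T] [Algebra k T] (φ : S →ₐ[k] T)
    (x : S ⊗[k] A) (l : ι) :
    (Algebra.TensorProduct.basis T b).repr (Algebra.TensorProduct.map φ (AlgHom.id k A) x) l =
      φ ((Algebra.TensorProduct.basis S b).repr x l) := by
  induction x with
  | zero => simp
  | tmul r a => simp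
  | add x y hx hy => simp only [map_add, Finsupp.add_apply, hx, hy]

theorem eq_sum_repr {S : Type u} [CommRing S] [Algebra k S] (x : S ⊗[k] A) :
    ∑ i ∈ ((Algebra.TensorProduct.basis S b).repr x).support, (Algebra.TensorProduct.basis S b).repr x i ⊗ₜ[k] b i = x := by
  conv_rhs => rw [← (Algebra.TensorProduct.basis S b).linearCombination_repr x]
  rw [Finsupp.linearCombination_apply]
  exact Finset.sum_congr rfl fun i _ => by simp [TensorProduct.smul_tmul']

variable [IsAlgClosed k] [IsDomain A]

/-- An element not in the maximal ideal coefficientwise is a nonzero divisor, Noetherian local base. -/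
theorem eq_zero_of_mul_eq_zero {S : Type u} [CommRing S] [Algebra k S] [IsNoetherianRing S] [IsLocalRing S]
    (s f : S ⊗[k] A) (hs : ∃ i, (Algebra.TensorProduct.basis S b).repr s i ∉ IsLocalRing.maximalIdeal S)
    (h : s * f = 0) : f = 0 := by
  classical
  set m := IsLocalRing.maximalIdeal S with hm
  let κ := S ⧸ m
  haveI : m.IsMaximal := IsLocalRing.maximalIdeal.isMaximal S
  letI : Field κ := Ideal.Quotient.field m
  haveI : IsDomain (κ ⊗[k] A) := Groth.Agent.GrpSchLib.isDomain_tensor_of_isAlgClosed
  let φ : S →ₐ[k] κ := Ideal.Quotient.mkₐ k m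
  set Bs := Algebra.TensorProduct.basis S b
  have key : ∀ n i, Bs.repr f i ∈ m ^ n := by
    intro n
    induction n with
    | zero => intro i; simp
    | succ n ih =>
      let N : Submodule S S := m ^ n
      let v : ι → N ⧸ (m • ⊤ : Submodule S N) := fun i => Submodule.Quotient.mk ⟨Bs.repr f i, ih i⟩
      have hv : ∀ i, v i = 0 := by
        intro i
        by_contra hvi
        obtain ⟨lam, hlam⟩ := Module.Projective.exists_dual_ne_zero κ hvi
        let T := (Bs.repr s).support
        let U := (Bs.repr f).support
        let g : κ ⊗[k] A := ∑ j ∈ U, lam (v j) ⊗ₜ[k] b j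
        have h0 : Algebra.TensorProduct.map φ (AlgHom.id k A) s * g = 0 := by
          conv_lhs => rw [← eq_sum_repr b s, map_sum]
          refine (Algebra.TensorProduct.basis κ b).ext_elem fun l => ?_
          simp only [Algebra.TensorProduct.map_tmul, AlgHom.id_apply]
          rw [repr_mul b, map_zero, Finsupp.zero_apply]
          have hz : ∑ i ∈ T, ∑ j ∈ U, Bs.repr s i * Bs.repr f j * algebraMap k S (b.repr (b i * b j) l) = 0 := by
            have := congrArg (fun x => Bs.repr x l) h
            simp only [map_zero, Finsupp.zero_apply] at this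
            rw [← eq_sum_repr b s, ← eq_sum_repr b f, repr_mul b] at this
            exact this
          have hN : ∑ i ∈ T, ∑ j ∈ U, (Bs.repr s i * algebraMap k S (b.repr (b i * b j) l)) • v j = 0 := by
            have e : ∑ i ∈ T, ∑ j ∈ U, (Bs.repr s i * algebraMap k S (b.repr (b i * b j) l)) • v j =
                Submodule.Quotient.mk (∑ i ∈ T, ∑ j ∈ U, (Bs.repr s i * algebraMap k S (b.repr (b i * b j) l)) • (⟨Bs.repr f j, ih j⟩ : N)) := by
              simp only [v, ← Submodule.mkQ_apply, map_sum, map_smul]
            rw [e, Submodule.Quotient.mk_eq_zero]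
            convert zero_mem (m • ⊤ : Submodule S N)
            refine Subtype.ext ?_
            simp only [Submodule.coe_sum, Submodule.coe_smul, Submodule.coe_zero, smul_eq_mul]
            refine Eq.trans (Finset.sum_congr rfl fun i _ => Finset.sum_congr rfl fun j _ => ?_) hz
            ring
          have hl := congrArg lam hN
          simp only [map_sum, map_zero] at hl
          refine Eq.trans (Finset.sum_congr rfl fun i _ => Finset.sum_congr rfl fun j _ => ?_) hl
          rw [show ∀ r : S, r • v j = (φ r) • v j from fun r => rfl, map_smul, map_mul φ, AlgHom.commutes, smul_eq_mul]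
          ring
        rcases mul_eq_zero.1 h0 with h1 | h1
        · obtain ⟨i', hi'⟩ := hs
          have := congrArg (fun x => (Algebra.TensorProduct.basis κ b).repr x i') h1
          simp only [repr_map b, map_zero, Finsupp.zero_apply] at this
          exact hi' (Ideal.Quotient.eq_zero_iff_mem.1 this)
        · refine hlam ?_
          by_cases hiU : i ∈ U
          · have := congrArg (fun x => (Algebra.TensorProduct.basis κ b).repr x i) h1
            simpa [g, map_sum, Finsupp.single_apply, hiU] using this
          · have e : (⟨Bs.repr f i, ih i⟩ : N) = 0 := Subtype.ext (Finsupp.notMem_support_iff.1 hiU)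
            have : v i = 0 := (Submodule.Quotient.mk_eq_zero _).2 (e ▸ zero_mem _)
            rw [this, map_zero]
      intro i
      have h1 := (Submodule.Quotient.mk_eq_zero _).1 (hv i)
      rw [Submodule.mem_smul_top_iff, smul_eq_mul] at h1
      rw [pow_succ']
      exact h1
  refine Bs.ext_elem fun i => ?_
  rw [map_zero, Finsupp.zero_apply, ← Ideal.mem_bot, ← Ideal.iInf_pow_eq_bot_of_isLocalRing m (IsLocalRing.maximalIdeal.isMaximal S).ne_top]
  exact Ideal.mem_iInf.2 fun n => key n i

end


/-- Let k be an algebraically closed field, A a finitely generated k-algebra which is an integral domain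
(X = Spec A an affine variety), R a commutative k-algebra, possibly non-reduced, and U an open
subset of X_R = Spec (R ⊗_k A) meeting every fibre of X_R → Spec R (a very dense open subset). Then
a regular function on X_R whose restriction to U vanishes is zero: if f ∈ R ⊗_k A maps to 0 in the
localisation (R ⊗_k A)[1/g] for every g with D(g) ⊆ U, then f = 0. (The published statement is that
automorphisms of a torsor under a smooth affine group scheme over X_R which are the identity over a
very dense open subset are the identity, for X a smooth projective curve; its proof reduces this to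
the present assertion about functions, for quasi-projective X; this row is the affine case.) -/
theorem result
    (k : Type u) [Field k] [IsAlgClosed k]
    (A : Type u) [CommRing A] [Algebra k A] [IsDomain A] [Algebra.FiniteType k A]
    (R : Type u) [CommRing R] [Algebra k R]
    (U : TopologicalSpace.Opens (PrimeSpectrum (TensorProduct k R A)))
    (hsurj : ∀ q : PrimeSpectrum R, ∃ P ∈ U,
      PrimeSpectrum.comap (Algebra.TensorProduct.includeLeftRingHom : R →+* TensorProduct k R A) P = q)
    (f : TensorProduct k R A)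
    (hf : ∀ g : TensorProduct k R A, (PrimeSpectrum.basicOpen g : Set (PrimeSpectrum (TensorProduct k R A))) ⊆ U →
      algebraMap (TensorProduct k R A) (Localization.Away g) f = 0) :
    f = 0 := by
  classical
  by_contra hf0
  let b := Module.Free.chooseBasis k A
  let BR := Algebra.TensorProduct.basis R b
  obtain ⟨i, hi⟩ : ∃ i, BR.repr f i ≠ 0 := by
    by_contra h
    push Not at h
    exact hf0 (BR.ext_elem fun i => by rw [h, map_zero, Finsupp.zero_apply])
  let ann : Ideal R := Ideal.torsionOf R R (BR.repr f i)
  have hann : ann ≠ ⊤ := fun h => hi (by simpa using (Ideal.mem_torsionOf_iff _ _).1 (h.ge (Submodule.mem_top (x := (1 : R)))))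
  obtain ⟨q, hqm, hqa⟩ := Ideal.exists_le_maximal ann hann
  haveI := hqm
  letI : Field (R ⧸ q) := Ideal.Quotient.field q
  haveI : IsDomain ((R ⧸ q) ⊗[k] A) := Groth.Agent.GrpSchLib.isDomain_tensor_of_isAlgClosed
  let Q := Algebra.TensorProduct.map (Ideal.Quotient.mkₐ k q) (AlgHom.id k A)
  let Pq : PrimeSpectrum (R ⊗[k] A) := ⟨RingHom.ker Q, RingHom.ker_isPrime _⟩
  obtain ⟨P, hPU, hPq⟩ := hsurj ⟨q, hqm.isPrime⟩
  have hcomap : P.asIdeal.comap (Algebra.TensorProduct.includeLeftRingHom : R →+* R ⊗[k] A) = q :=
    congrArg PrimeSpectrum.asIdeal hPq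
  have hle : Pq.asIdeal ≤ P.asIdeal := fun x hx => by
    rw [← eq_sum_repr b x]
    refine Ideal.sum_mem _ fun j _ => ?_
    have hj : BR.repr x j ∈ q := by
      have := congrArg (fun y => (Algebra.TensorProduct.basis (R ⧸ q) b).repr y j) (RingHom.mem_ker.1 hx)
      simp only [Q, repr_map b, map_zero, Finsupp.zero_apply] at this
      exact Ideal.Quotient.eq_zero_iff_mem.1 this
    rw [← hcomap, Ideal.mem_comap, Algebra.TensorProduct.includeLeftRingHom_apply] at hj
    rw [show BR.repr x j ⊗ₜ[k] b j = BR.repr x j ⊗ₜ[k] (1 : A) * ((1 : R) ⊗ₜ[k] b j) by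
      rw [Algebra.TensorProduct.tmul_mul_tmul, mul_one, one_mul]]
    exact Ideal.mul_mem_right _ _ hj
  have hPqU : Pq ∈ U := ((PrimeSpectrum.le_iff_specializes Pq P).1 hle).mem_open U.isOpen hPU
  obtain ⟨_, ⟨g, rfl⟩, hg, hgU⟩ := PrimeSpectrum.isTopologicalBasis_basic_opens.exists_subset_of_mem_open hPqU U.isOpen
  have h0 := hf g hgU
  rw [IsLocalization.map_eq_zero_iff (Submonoid.powers g)] at h0
  obtain ⟨⟨_, n, rfl⟩, hn⟩ := h0
  change g ^ n * f = 0 at hn
  have hgn : ∃ j, BR.repr (g ^ n) j ∉ q := by
    by_contra h
    push Not at h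
    have : Q (g ^ n) = 0 := (Algebra.TensorProduct.basis (R ⧸ q) b).ext_elem fun j => by
      rw [repr_map b, map_zero, Finsupp.zero_apply]
      exact Ideal.Quotient.eq_zero_iff_mem.2 (h j)
    exact hg (Pq.isPrime.mem_of_pow_mem n (RingHom.mem_ker.2 this))
  obtain ⟨j, hj⟩ := hgn
  set s := g ^ n
  let R0 : Subalgebra k R := Algebra.adjoin k (((BR.repr s).support.image (BR.repr s) ∪ (BR.repr f).support.image (BR.repr f) : Finset R) : Set R)
  have hmem : ∀ x, x = s ∨ x = f → ∀ l, BR.repr x l ∈ R0 := by
    intro x hx l
    by_cases hl : l ∈ (BR.repr x).support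
    · refine Algebra.subset_adjoin ?_
      rw [Finset.coe_union]
      rcases hx with rfl | rfl
      · exact Or.inl (Finset.mem_coe.2 (Finset.mem_image_of_mem _ hl))
      · exact Or.inr (Finset.mem_coe.2 (Finset.mem_image_of_mem _ hl))
    · rw [Finsupp.notMem_support_iff.1 hl]; exact zero_mem _
  haveI : Algebra.FiniteType k R0 := (Subalgebra.fg_iff_finiteType _).1 ⟨_, rfl⟩
  haveI : IsNoetherianRing R0 := Algebra.FiniteType.isNoetherianRing k R0
  have hup : ∀ x, (x = s ∨ x = f) → ∃ x0 : R0 ⊗[k] A, Algebra.TensorProduct.map R0.val (AlgHom.id k A) x0 = x := by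
    intro x hx
    refine ⟨∑ l ∈ (BR.repr x).support, (⟨BR.repr x l, hmem x hx l⟩ : R0) ⊗ₜ[k] b l, ?_⟩
    simp only [map_sum, Algebra.TensorProduct.map_tmul, Subalgebra.coe_val, AlgHom.id_apply]
    exact eq_sum_repr b x
  obtain ⟨s0, hs0⟩ := hup s (Or.inl rfl)
  obtain ⟨f0, hf0'⟩ := hup f (Or.inr rfl)
  have hsf0 : s0 * f0 = 0 := (Algebra.TensorProduct.basis R0 b).ext_elem fun l => Subtype.ext (by
    have := repr_map b R0.val (s0 * f0) l
    rw [map_mul, hs0, hf0', hn, map_zero, Finsupp.zero_apply] at this
    rw [map_zero, Finsupp.zero_apply]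
    exact this.symm)
  let q0 : Ideal R0 := q.comap R0.val.toRingHom
  haveI : q0.IsPrime := Ideal.IsPrime.comap _
  let loc : R0 →ₐ[k] Localization.AtPrime q0 := IsScalarTower.toAlgHom k R0 _
  haveI : IsNoetherianRing (Localization.AtPrime q0) := IsLocalization.isNoetherianRing q0.primeCompl _ inferInstance
  let M := Algebra.TensorProduct.map loc (AlgHom.id k A)
  have hM : M f0 = 0 := eq_zero_of_mul_eq_zero b (M s0) (M f0) ⟨j, fun h => hj (by
      rw [repr_map b] at h
      have h2 : (Algebra.TensorProduct.basis R0 b).repr s0 j ∈ q0 :=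
        (IsLocalization.AtPrime.to_map_mem_maximal_iff (Localization.AtPrime q0) q0 _).1 h
      have h3 := repr_map b R0.val s0 j
      rw [hs0] at h3
      rw [h3]
      exact h2)⟩ (by rw [← map_mul, hsf0, map_zero])
  have h1 := repr_map b loc f0 i
  rw [show Algebra.TensorProduct.map loc (AlgHom.id k A) f0 = 0 from hM, LinearEquiv.map_zero, Finsupp.zero_apply] at h1
  obtain ⟨⟨t, ht⟩, ht0⟩ := (IsLocalization.map_eq_zero_iff q0.primeCompl (Localization.AtPrime q0) _).1 h1.symm
  refine ht (hqa ((Ideal.mem_torsionOf_iff _ _).2 ?_))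
  have h3 := repr_map b R0.val f0 i
  rw [hf0'] at h3
  rw [h3, smul_eq_mul]
  exact congrArg Subtype.val ht0

end Groth.Agent.S19310
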