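import Groth.Statements.S19316
import Groth.Agent.DecShLib.Bounded
import Groth.Agent.DecShLib.Par
import Groth.Agent.Lib.CurvePsi

set_option autoImplicit false
universe u
open CategoryTheory CategoryTheory.Limits AlgebraicGeometry
open DecSh

namespace Groth.Agent.S19316

/-- Let k be an algebraically closed field of characteristic zero, Y a smooth proper k-scheme of
dimension one without isolated points (possibly disconnected) and L an ample invertible O_Y-module.
Fix finitely many effective Cartier ideal sheaves I_1, …, I_ν on Y (the divisors D_i), rational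
weights κ_i with 0 < κ_i < 1, δ > 0, natural numbers r, a, b and an integer d. Consider the locally
free O_Y-modules E of rank r and degree d (χ(E) − r·χ(O_Y) = d) for which there exist k-subspaces
K_i ⊂ H⁰(E ⊗ O_{D_i}) with quotients of dimension r and a tensor field of type (a, b) on E with
values in some O_Y-module, (κ, δ)-semistable with respect to L. This family is bounded: there is n₀
such that for every such E and every n ≥ n₀, H¹(Y, E ⊗ L^{⊗n}) = 0 and E ⊗ L^{⊗n} is globally
generated. (The published statement fixes the target det(E)^{⊗c} ⊗ L' of the tensor field and takes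
the D_i to be the pairs of points over the nodes; allowing any target and any effective divisors
gives a larger family, bounded by the same argument.) -/
theorem result
    (k : Type u) [Field k] [IsAlgClosed k] [CharZero k]
    (Y : Scheme.{u}) [Y.Over (Spec (CommRingCat.of k))] [IsProper (Y ↘ Spec (CommRingCat.of k))]
    [Smooth (Y ↘ Spec (CommRingCat.of k))] (hdim : topologicalKrullDim Y = 1)
    (hpure : ∀ y : Y, ¬ IsOpen ({y} : Set Y))
    (L : Y.Modules) (hL : CohB1.IsAmple L)
    {ν : ℕ} (I : Fin ν → Y.IdealSheafData) (hI : ∀ i, FGA.IsEffCartier (I i))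
    (κ : Fin ν → ℚ) (hκ : ∀ i, 0 < κ i ∧ κ i < 1) (δ : ℚ) (hδ : 0 < δ)
    (r a b : ℕ) (d : ℤ) :
    ∃ n₀ : ℕ, ∀ n : ℕ, n₀ ≤ n → ∀ E : Y.Modules,
      (FlatMod.IsFinLocFreeOfRank r E ∧ Curv2.deg k Y E r = d ∧
        ∃ (K : ∀ i, Submodule k (ParSh.fibD Y (I i) E)),
          (∀ i, Module.finrank k (ParSh.fibD Y (I i) E ⧸ K i) = r) ∧
          ∃ (D : Y.Modules) (T : DecSh.TF E a b D), T.IsParSemistable k I K κ L δ) →
      Subsingleton (Coh.HH Y (CohB1.tensorMod E (CohB1.tensorPow L n)) 1) ∧
        Curv2.IsGloballyGenerated (CohB1.tensorMod E (CohB1.tensorPow L n)) := by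
  haveI := Groth.Agent.CurveCohLib.isNoetherian_of_proper (k := k) (X := Y)
  haveI := Groth.Agent.GrpSchLib.isReduced_of_smooth_field (Y ↘ Spec (CommRingCat.of k))
  obtain ⟨n₀, hn⟩ := Groth.Agent.DecShLib.exists_generated k hdim hpure hL ((r : ℤ) * Curv2.deg k Y L 1)
    (d + (r : ℤ) * Curv2.euler k Y (Coh.structureModule Y))
    (|((d + (r : ℤ) * Curv2.euler k Y (Coh.structureModule Y) : ℤ) : ℚ)| + δ * a + (r : ℚ) * (ν : ℚ))
  refine ⟨n₀, fun n hn0 E hE => ?_⟩
  obtain ⟨hEr, hd, K, hK, D, T, hT⟩ := hE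
  have hEf : FlatMod.IsFinLocFree E := fun y => let ⟨U, hy, e⟩ := hEr y; ⟨U, r, hy, e⟩
  have hEc : Coh.IsCoh E := Groth.Agent.QCoh.isCoh_iff_isFP.2 (Groth.Agent.QCoh.isFP_of_isFinLocFree hEf)
  have he : Curv2.euler k Y E = d + (r : ℤ) * Curv2.euler k Y (Coh.structureModule Y) := by
    rw [← hd, Curv2.deg]; ring
  have hα : DecSh.mult k Y L E = (r : ℤ) * Curv2.deg k Y L 1 := by
    have h := Groth.Agent.CurvePsi.deg_tensor_locFree k hdim.le hEr (Groth.Agent.InvEnd.isFinLocFreeOfRank_one hL.1)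
    rw [mul_one] at h
    change Curv2.euler k Y (CohB1.tensorMod E L) - _ = _ at h
    rw [hd] at h
    rw [DecSh.mult, he]
    push_cast at h ⊢
    linarith
  refine hn E hEc (Groth.Agent.DecShLib.isTorsionFree_of_finLocFree hEf) hα he (fun G j hj hG hG0 => ?_) n hn0
  haveI := hj
  rw [← he]
  have hν : (0 : ℚ) ≤ (r : ℚ) * (ν : ℚ) := by positivity
  have hδa : (0 : ℚ) ≤ δ * (a : ℚ) := by positivity
  have habs := le_abs_self (Curv2.euler k Y E : ℚ)
  by_cases hiso : IsIso j
  · haveI := hiso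
    have h : Curv2.euler k Y G = Curv2.euler k Y E := (Groth.Agent.HilbPoly.additive_euler k).iso _ _ ⟨asIso j⟩
    rw [h]
    linarith
  obtain ⟨h1, h2, h⟩ := Groth.Agent.DecShLib.par_sub_le k hdim hpure hL hEr hK hκ T hδ hT G j hG hG0 hiso
  have h1' : (1 : ℚ) ≤ DecSh.mult k Y L G := by exact_mod_cast h1
  have h2' : (DecSh.mult k Y L G : ℚ) ≤ DecSh.mult k Y L E := by exact_mod_cast h2
  refine le_of_mul_le_mul_left ?_ (by linarith : (0 : ℚ) < DecSh.mult k Y L E)
  have h3 : (DecSh.mult k Y L G : ℚ) * (Curv2.euler k Y E : ℚ) ≤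
      (DecSh.mult k Y L E : ℚ) * |(Curv2.euler k Y E : ℚ)| :=
    (mul_le_mul_of_nonneg_left habs (by linarith)).trans (mul_le_mul_of_nonneg_right h2' (abs_nonneg _))
  linarith

end Groth.Agent.S19316
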