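import Groth.Statements.S19318
import Groth.Agent.DecShLib.ParSect

set_option autoImplicit false
universe u
open CategoryTheory CategoryTheory.Limits AlgebraicGeometry
open DecSh

namespace Groth.Agent.S19318

/-- Let k be an algebraically closed field of characteristic zero, Y a smooth proper k-scheme of
dimension one without isolated points (possibly disconnected) and L an ample invertible O_Y-module;
write χ for the Euler characteristic over k, M(n) = M ⊗ L^{⊗n}, h⁰(M) = dim_k H⁰(Y, M), α(M) = χ(M ⊗
L) − χ(M). Fix effective Cartier ideal sheaves I_1, …, I_ν (divisors D_j), rational weights 0 < κ_j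
< 1, δ > 0, natural numbers r, a, b and an integer d. Then there is n₁ such that for every n > n₁
the following holds. Let E be locally free of rank r and degree d (χ(E) − r χ(O_Y) = d) with
k-subspaces K_j ⊂ H⁰(E ⊗ O_{D_j}) whose quotients q_j have dimension r, let T be a tensor field of
type (a, b) on E with values in an O_Y-module D such that (E, K, T) is (κ, δ)-semistable with
respect to L, and let (E•, m•) be a weighted filtration of E by coherent subsheaves E_i with weights
m_i. For a subsheaf P ⊆ E put c(P) = Σ_j κ_j · dim q_j(image of H⁰(P ⊗ O_{D_j})), so that the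
κ-parabolic Euler characteristic is parχ(P) = χ(P) − c(P); put parh⁰(E_i(n)) = h⁰(E_i(n)) − c(E_i)
and parχ(E(n)) = χ(E(n)) − c(E). Then Σ_i m_i (α(E) · parh⁰(E_i(n)) − α(E_i) · parχ(E(n))) + δ ·
μ(E•, m•, φ) ≤ 0, with μ taken in the sign convention where δ-semistability reads 'linear part + δ μ
≤ 0' (the source writes this chapter with the opposite signs). (Only the semistable version is
stated; the published target of the tensor field is det(E)^{⊗c} ⊗ L' and the D_j are the pairs of
points over the nodes of the curve being normalised — the argument uses neither.) -/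
theorem result
    (k : Type u) [Field k] [IsAlgClosed k] [CharZero k]
    (Y : Scheme.{u}) [Y.Over (Spec (CommRingCat.of k))] [IsProper (Y ↘ Spec (CommRingCat.of k))]
    [Smooth (Y ↘ Spec (CommRingCat.of k))] (hdim : topologicalKrullDim Y = 1)
    (hpure : ∀ y : Y, ¬ IsOpen ({y} : Set Y))
    (L : Y.Modules) (hL : CohB1.IsAmple L)
    {ν : ℕ} (I : Fin ν → Y.IdealSheafData) (hI : ∀ i, FGA.IsEffCartier (I i))
    (κ : Fin ν → ℚ) (hκ : ∀ i, 0 < κ i ∧ κ i < 1) (δ : ℚ) (hδ : 0 < δ)
    (r a b : ℕ) (d : ℤ) :
    ∃ n₁ : ℕ, ∀ n : ℕ, n₁ < n → ∀ (E : Y.Modules), FlatMod.IsFinLocFreeOfRank r E → Curv2.deg k Y E r = d →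
      ∀ (K : ∀ i, Submodule k (ParSh.fibD Y (I i) E)),
        (∀ i, Module.finrank k (ParSh.fibD Y (I i) E ⧸ K i) = r) →
        ∀ (D : Y.Modules) (T : DecSh.TF E a b D), T.IsParSemistable k I K κ L δ →
          ∀ 𝓕 : DecSh.WFilt E, (∀ i, Coh.IsCoh ((𝓕.piece i : Subobject E) : Y.Modules)) →
            (∑ i, 𝓕.wt i *
              ((DecSh.mult k Y L E : ℚ) *
                  ((Module.finrank k (Coh.HH Y (ShStab.twist Y L ((𝓕.piece i : Subobject E) : Y.Modules) n) 0) : ℚ) -
                    ((Curv2.euler k Y ((𝓕.piece i : Subobject E) : Y.Modules) : ℚ) -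
                      DecSh.parChi k I K κ (𝓕.piece i).arrow)) -
                (DecSh.mult k Y L ((𝓕.piece i : Subobject E) : Y.Modules) : ℚ) *
                  ((Curv2.euler k Y (ShStab.twist Y L E n) : ℚ) -
                    ((Curv2.euler k Y E : ℚ) - DecSh.parChi k I K κ (𝟙 E))))) +
              δ * T.mu k L 𝓕 ≤ 0 := by
  obtain ⟨n₁, h⟩ := DecShLib.exists_par_sect k hdim hpure hL I hκ hδ r a b
    (d + r * Curv2.euler k Y (Coh.structureModule Y))
  exact ⟨n₁, fun n hn E hE hd K hK D T hT 𝓕 hok => h n hn E hE (by rw [← hd]; unfold Curv2.deg; ring) K hK D T hT 𝓕 hok⟩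

end Groth.Agent.S19318
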