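import Groth.Statements.S19319
import Groth.Agent.DecShLib.SectMain

set_option autoImplicit false
universe u
open CategoryTheory CategoryTheory.Limits AlgebraicGeometry
open DecSh

namespace Groth.Agent.S19319

/-- Let k be an algebraically closed field of characteristic zero, X a reduced proper k-scheme of
dimension one without isolated points, and L an ample invertible O_X-module which is very ample
relative to some projective space over k; write χ for the Euler characteristic over k, M(m) = M ⊗
L^{⊗m}, h⁰(M) = dim_k H⁰(X, M), α(M) = χ(M ⊗ L) − χ(M). Fix δ > 0, integers α and e, natural numbers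
a, b and a finite locally free O_X-module D. Then there is N₀ such that for every m ≥ N₀, every
coherent O_X-module E with torsion free stalks, α(E) = α and χ(E) = e, every tensor field T of type
(a, b) on E with values in D which is δ-semistable with respect to L, and every saturated weighted
filtration (F•, m•) of E (coherent subsheaves F_i with torsion free quotients E/F_i, weights m_i)
for which the sectional expression vanishes, Σ_i m_i (α · h⁰(F_i(m)) − α(F_i) · χ(E(m))) + δ μ(F•,
m•, φ) = 0, every piece satisfies h⁰(F_i(m)) = χ(F_i(m)). (The published corollary is stated for any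
weighted filtration and also places each F_i in an auxiliary bounded family of saturated subsheaves
defined through constants of the proof; the published proof treats saturated filtrations, which is
the case stated here, and the membership clause is not restated. N₀ is the threshold of the
sectional characterisation of δ-semistability; the published setting is a reduced projective curve
with a very ample polarisation and a locally free D, as here.) -/
theorem result
    (k : Type u) [Field k] [IsAlgClosed k] [CharZero k]
    (X : Scheme.{u}) [X.Over (Spec (CommRingCat.of k))] [IsProper (X ↘ Spec (CommRingCat.of k))]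
    [AlgebraicGeometry.IsReduced X] (hdim : topologicalKrullDim X = 1)
    (hpure : ∀ x : X, ¬ IsOpen ({x} : Set X))
    (L : X.Modules) (hL : CohB1.IsAmple L) (hva : RelAmple.IsRelVeryAmplePn (X ↘ Spec (CommRingCat.of k)) L)
    (δ : ℚ) (hδ : 0 < δ) (α e : ℤ) (a b : ℕ) (D : X.Modules) (hD : FlatMod.IsFinLocFree D) :
    ∃ N₀ : ℕ, ∀ m : ℕ, N₀ ≤ m → ∀ (E : X.Modules), Coh.IsCoh E → TorSh.IsTorsionFree E →
      DecSh.mult k X L E = α → Curv2.euler k X E = e → ∀ T : DecSh.TF E a b D, T.IsSemistable k L δ →
        ∀ 𝓕 : DecSh.WFilt E, (∀ i, Coh.IsCoh ((𝓕.piece i : Subobject E) : X.Modules)) →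
          (∀ i, TorSh.IsTorsionFree (cokernel (𝓕.piece i).arrow)) →
          (∑ i, 𝓕.wt i * ((α : ℚ) *
              (Module.finrank k (Coh.HH X (ShStab.twist X L ((𝓕.piece i : Subobject E) : X.Modules) m) 0) : ℚ) -
            (DecSh.mult k X L ((𝓕.piece i : Subobject E) : X.Modules) : ℚ) *
              (Curv2.euler k X (ShStab.twist X L E m) : ℚ))) + δ * T.mu k L 𝓕 = 0 →
          ∀ i, (Module.finrank k (Coh.HH X (ShStab.twist X L ((𝓕.piece i : Subobject E) : X.Modules) m) 0) : ℤ) =
            Curv2.euler k X (ShStab.twist X L ((𝓕.piece i : Subobject E) : X.Modules) m) := by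
  obtain ⟨N₁, h₁⟩ := DecShLib.exists_sect_of_ss k hdim hpure hL hδ α e a b
  exact ⟨N₁, fun m hm E hE htf hα he T hT 𝓕 hok _ h0 => (h₁ m hm E hE htf hα he D T hT 𝓕 hok).2 h0⟩

end Groth.Agent.S19319
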