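import Groth.Statements.S1932
import Groth.Agent.H23.GysinFun
-- import your own Groth.Agent.* helpers here

set_option autoImplicit false
universe u
open CategoryTheory AlgebraicGeometry
open CategoryTheory.Limits
open Cyc

namespace Groth.Agent.S1932

/-- Gysin maps commute with proper push-forward: let f : X' → X be a proper morphism, L an invertible
O_X-module with a global section s whose zero scheme is the closed immersion i : D → X
(Cyc.IsZeroSchemeOf), and D' = X' ×_X D with projections i' : D' → X' and g : D' → D, where i' is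
the zero scheme of some global section s' of f^*L. For a (k + 1)-cycle α' on X', i^*(f_*α') ∼_rat
g_*((i')^*α') as k-cycles on D. Here the Gysin map i^* : Z_{k+1}(X) → CH_k(D) is computed on
coefficient functions as c_1(L) ∩ − with the rational sections taken to be s where it is nonzero
(Cyc.gysinChoice, completed by arbitrary nonzero choices elsewhere) and restricted to the points of
D, likewise for (i')^* with f^*L and s', and classes on D are compared up to rational equivalence on
D for the restricted dimension function. A pair (X, δ) with Cyc.IsSetup (X locally Noetherian with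
universally catenary local rings, δ a dimension function) plays the role of a scheme locally of
finite type over a base equipped with a dimension function, and Cyc.DeltaCompat records that the
dimension function δ' on X' is the one induced from δ along f. -/
theorem result (X X' D : Scheme.{u}) (δ : X → ℤ) (δ' : X' → ℤ) (hX : Cyc.IsSetup X δ) (hX' : Cyc.IsSetup X' δ') (f : X' ⟶ X) [IsProper f] (hδ : Cyc.DeltaCompat f δ' δ) (L : X.Modules) (hL : PicF.IsInvertible L) (s : L.presheaf.obj (Opposite.op ⊤)) (i : D ⟶ X) [IsClosedImmersion i] (hD : Cyc.IsZeroSchemeOf i L s) (s' : ((Scheme.Modules.pullback f).obj L).presheaf.obj (Opposite.op ⊤)) (hD' : Cyc.IsZeroSchemeOf (pullback.fst f i) ((Scheme.Modules.pullback f).obj L) s') (k : ℤ) (α' : AlgebraicCycle X' ℤ) (hα' : α' ∈ Cyc.Zk X' δ' (k + 1)) (w : (ξ : X) → Cyc.secFibre L ξ) (hw : ∀ ξ, w ξ ≠ 0) (w' : (ξ : X') → Cyc.secFibre ((Scheme.Modules.pullback f).obj L) ξ) (hw' : ∀ ξ, w' ξ ≠ 0) (γ : AlgebraicCycle D ℤ) (hγ : ∀ d, γ d = Cyc.c1CapFun δ L ⇑(AlgebraicCycle.map f δ' δ α') (Cyc.gysinChoice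 L s w) (i d)) (γ' : AlgebraicCycle (pullback f i) ℤ) (hγ' : ∀ z, γ' z = Cyc.c1CapFun δ' ((Scheme.Modules.pullback f).obj L) ⇑α' (Cyc.gysinChoice ((Scheme.Modules.pullback f).obj L) s' w') (pullback.fst f i z)) : Cyc.RatEquiv (fun d => δ (i d)) k γ (AlgebraicCycle.map (pullback.snd f i) (fun z => δ' (pullback.fst f i z)) (fun d => δ (i d)) γ') := by
  
  haveI := hX.1
  haveI := hX'.1
  have hL' := Groth.Agent.PicClLib.isInvertible_pullback f hL
  have hgc := Groth.Agent.H23.GysinLib.gysinChoice_ne_zero (L := L) s hw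
  have hgc' := Groth.Agent.H23.GysinLib.gysinChoice_ne_zero (L := (Scheme.Modules.pullback f).obj L) s' hw'
  have hv := Groth.Agent.H23.C1Pull.vPull_ne_zero (p := f) hL hgc
  let A := Groth.Agent.H23.RatSec.c1CapCycle hL' hX'.2.2 α' _ hv
  let A' := Groth.Agent.CycLib.restrictCycle (pullback.fst f i) (pullback.fst f i).isClosedEmbedding.injective A
  have h1 : Cyc.RatEquiv (fun z => δ' (pullback.fst f i z)) k A' γ' :=
    Groth.Agent.H23.GysinLib.ratEquiv_restrict (pullback.fst f i) hL' hX'.2.2 α' hα' hv hgc'
      (fun ξ hξ => Groth.Agent.H23.GysinLib.secDivFun_gysinChoice f i hL hX'.2.2 hD hD' w w' hξ)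
      (fun z => rfl) hγ'
  have hDs := Groth.Agent.H23.GysinLib.isSetup_closedImmersion i hX
  have hPs := Groth.Agent.H23.GysinLib.isSetup_closedImmersion (pullback.fst f i) hX'
  have hg : Cyc.DeltaCompat (pullback.snd f i) (fun z => δ' (pullback.fst f i z)) (fun d => δ (i d)) := fun z => by
    obtain ⟨n, hn, hn'⟩ := hδ (pullback.fst f i z)
    refine ⟨n, ?_, ?_⟩
    · rw [← hn]
      exact Groth.Agent.FibDim.rdeg_congr_preimmersion (f := f) (f' := pullback.snd f i)
        (a := pullback.fst f i) (b := i) (pullback.condition (f := f) (g := i)).symm z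
    · show δ' (pullback.fst f i z) = δ (i (pullback.snd f i z)) + _
      rw [hn', Groth.Agent.H23.GysinPb.apply_fst_eq]
  have h2 := Groth.Agent.CycLib.ratEquiv_map (pullback.snd f i) hPs hDs hg h1
  refine cast (congrArg (fun c => Cyc.RatEquiv (fun d => δ (i d)) k c _) ?_) h2
  classical
  have hA : AlgebraicCycle.map (pullback.fst f i) (fun z => δ' (pullback.fst f i z)) δ' A' = A := by
    ext x
    by_cases hx : x ∈ Set.range (pullback.fst f i)
    · obtain ⟨z, rfl⟩ := hx
      rw [Groth.Agent.CycLib.map_preimmersion_apply]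
      rfl
    · rw [Groth.Agent.CycLib.map_apply_not_range _ _ δ' A' hx]
      symm
      refine finsum_eq_zero_of_forall_eq_zero fun ξ => mul_eq_zero_of_right _ ?_
      by_cases hsp : ξ ⤳ x
      · have hξ : ξ ∉ Set.range (pullback.fst f i) := fun hr =>
          hx (hsp.mem_closed (pullback.fst f i).isClosedEmbedding.isClosed_range hr)
        rw [Groth.Agent.H23.GysinLib.secDivFun_gysinChoice f i hL hX'.2.2 hD hD' w w' hξ]
        have h0 := Groth.Agent.H23.GysinLib.c1CapFun_eq_zero (pullback.fst f i) hL' hX'.2.2 hD'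
          (Pi.single ξ 1) w' hx
        rwa [Cyc.c1CapFun, finsum_eq_single _ ξ (fun η hη => by rw [Pi.single_eq_of_ne hη, zero_mul]),
          Pi.single_eq_same, one_mul] at h0
      · simp [Cyc.secDivFun, hsp]
  ext d
  have h3 : AlgebraicCycle.map i (fun d => δ (i d)) δ
      (AlgebraicCycle.map (pullback.snd f i) (fun z => δ' (pullback.fst f i z)) (fun d => δ (i d)) A') =
      AlgebraicCycle.map f δ' δ A := by
    rw [Groth.Agent.CycLib.map_map _ _ hg (Groth.Agent.H23.GysinLib.deltaCompat_closedImmersion i δ), ← hA,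
      Groth.Agent.CycLib.map_map _ _ (Groth.Agent.H23.GysinLib.deltaCompat_closedImmersion (pullback.fst f i) δ') hδ]
    congr 1
    exact pullback.condition.symm
  rw [← Groth.Agent.CycLib.map_preimmersion_apply i δ
    (AlgebraicCycle.map (pullback.snd f i) (fun z => δ' (pullback.fst f i z)) (fun d => δ (i d)) A') d, h3,
    congrFun (Groth.Agent.H23.C1Push.map_c1Cap hL hX'.2.2 hX.2.2 hδ α' hgc) (i d), hγ d]

end Groth.Agent.S1932
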