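import Groth.Statements.S19321
import Groth.Agent.DecShLib.SectFam

set_option autoImplicit false
universe u
open CategoryTheory CategoryTheory.Limits AlgebraicGeometry
open DecSh

namespace Groth.Agent.S19321

/-- Let k be an algebraically closed field of characteristic zero, X a reduced proper k-scheme of
dimension one without isolated points, and L an ample invertible O_X-module which is very ample
relative to some projective space over k; write χ for the Euler characteristic over k, M(m) = M ⊗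
L^{⊗m}, h⁰(M) = dim_k H⁰(X, M), α(M) = χ(M ⊗ L) − χ(M). Fix δ > 0, integers α and e, natural numbers
a, b and a finite locally free O_X-module D. Then there is N₁ such that for every rational number C
the following family of coherent O_X-modules F′ is bounded: F′ admits a monomorphism with torsion
free cokernel (a saturated subsheaf) into some coherent F with torsion free stalks, α(F) = α, χ(F) =
e, which carries a tensor field T of type (a, b) with values in D that is δ-semistable with respect
to L or satisfies for some m ≥ N₁ the quotient sectional condition Σ_i m_i (α(F/F_i) · χ(F(m)) − α ·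
h⁰((F/F_i)(m))) + δ μ ≤ 0 for all weighted filtrations of F by coherent subsheaves; and |χ(F′) −
α(F′) · (e − aδ)/α| ≤ C. (The last condition is the source's |deg F′ − α(F′) μ_s| ≤ C with μ_s =
(deg F − aδ)/α, rewritten through χ: the correction terms by the rational rank cancel. The published
setting is a reduced projective curve with a very ample polarisation and a locally free D, as here.) -/
theorem result
    (k : Type u) [Field k] [IsAlgClosed k] [CharZero k]
    (X : Scheme.{u}) [X.Over (Spec (CommRingCat.of k))] [IsProper (X ↘ Spec (CommRingCat.of k))]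
    [AlgebraicGeometry.IsReduced X] (hdim : topologicalKrullDim X = 1)
    (hpure : ∀ x : X, ¬ IsOpen ({x} : Set X))
    (L : X.Modules) (hL : CohB1.IsAmple L) (hva : RelAmple.IsRelVeryAmplePn (X ↘ Spec (CommRingCat.of k)) L)
    (δ : ℚ) (hδ : 0 < δ) (α e : ℤ) (a b : ℕ) (D : X.Modules) (hD : FlatMod.IsFinLocFree D) :
    ∃ N₁ : ℕ, ∀ C : ℚ, Pic13.IsBounded k X (fun F' => Coh.IsCoh F' ∧
      (∃ (F : X.Modules) (ι : F' ⟶ F), Mono ι ∧ TorSh.IsTorsionFree (cokernel ι) ∧
        Coh.IsCoh F ∧ TorSh.IsTorsionFree F ∧ DecSh.mult k X L F = α ∧ Curv2.euler k X F = e ∧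
          ∃ T : DecSh.TF F a b D, (T.IsSemistable k L δ ∨ ∃ m : ℕ, N₁ ≤ m ∧
            ∀ 𝓕 : DecSh.WFilt F, (∀ i, Coh.IsCoh ((𝓕.piece i : Subobject F) : X.Modules)) →
              (∑ i, 𝓕.wt i * ((DecSh.mult k X L (cokernel (𝓕.piece i).arrow) : ℚ) *
                  (Curv2.euler k X (ShStab.twist X L F m) : ℚ) -
                (α : ℚ) * (Module.finrank k (Coh.HH X (ShStab.twist X L (cokernel (𝓕.piece i).arrow) m) 0) : ℚ))) +
                δ * T.mu k L 𝓕 ≤ 0)) ∧
      |(Curv2.euler k X F' : ℚ) - (DecSh.mult k X L F' : ℚ) * (((e : ℚ) - (a : ℚ) * δ) / (α : ℚ))| ≤ C) := by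
  obtain ⟨N₂, h₂⟩ := DecShLib.exists_ss_of_quot k hdim hpure hL hδ α e a b
  refine ⟨N₂, fun C => ?_⟩
  obtain ⟨M, hM⟩ : ∃ M : ℕ, |C| + |(α : ℚ)| * |((e : ℚ) - (a : ℚ) * δ) / (α : ℚ)| < (M : ℚ) := exists_nat_gt _
  refine Pic13Lib.isBounded_mono (fun F' hF' => ?_) (DecShLib.isBounded_sub_bound_finset k hdim hpure hL
    (Finset.Icc (0 : ℤ) α ×ˢ Finset.Icc (-(M : ℤ)) (M : ℤ)) (|(e : ℚ)| + δ * a))
  obtain ⟨hF'c, ⟨F, ι, hι, -, hF, htf, hα, he, T, hT⟩, habs⟩ := hF'
  haveI := hι
  have hss : T.IsSemistable k L δ := by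
    rcases hT with hT | ⟨m, hm, h⟩
    · exact hT
    · exact (h₂ m hm F hF htf hα he D T h).1
  haveI := CurveCohLib.isNoetherian_of_proper (k := k) (X := X)
  have h0 : 0 ≤ DecSh.mult k X L F' :=
    (HilbPoly.mult_nonneg_and_pos k hL 1 _ hF'c (DecShLib.dim_le_one hdim _)).1
  have h1 : DecSh.mult k X L F' ≤ α := hα ▸ DecShLib.mult_le hdim hL ι hF'c hF
  refine ⟨hF'c, DecShLib.isTorsionFree_of_mono ι htf, Finset.mk_mem_product (Finset.mem_Icc.2 ⟨h0, h1⟩)
    (Finset.mem_Icc.2 ?_), fun G j hj hG hG0 => ?_⟩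
  · have ha : |(DecSh.mult k X L F' : ℚ) * (((e : ℚ) - (a : ℚ) * δ) / (α : ℚ))| ≤
        |(α : ℚ)| * |((e : ℚ) - (a : ℚ) * δ) / (α : ℚ)| := by
      rw [abs_mul]
      refine mul_le_mul_of_nonneg_right ?_ (abs_nonneg _)
      rw [abs_of_nonneg (by exact_mod_cast h0 : (0 : ℚ) ≤ DecSh.mult k X L F')]
      exact le_trans (by exact_mod_cast h1) (le_abs_self _)
    have hb := abs_le.1 ha
    have hc := abs_le.1 (habs.trans (le_abs_self C))
    constructor
    · have : ((-(M : ℤ) : ℤ) : ℚ) ≤ (Curv2.euler k X F' : ℚ) := by push_cast; linarith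
      exact_mod_cast this
    · have : (Curv2.euler k X F' : ℚ) ≤ ((M : ℤ) : ℚ) := by push_cast; linarith
      exact_mod_cast this
  · haveI := hj
    rw [← he]
    exact DecShLib.euler_sub_le k hdim hpure hL hδ T hss hF htf G (j ≫ ι) hG hG0

end Groth.Agent.S19321
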