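import Groth.Statements.S19322
import Groth.Agent.H9Misc.SSFinrank

set_option autoImplicit false
universe v u
open CategoryTheory CategoryTheory.Limits
open SpSeq

namespace Groth.Agent.S19322

/-- Let K be a field and E a cohomological spectral sequence of K-vector spaces, pages from r₀,
concentrated in the first quadrant on page r₀ and with all terms of page r₀ finite-dimensional, and
let H be abutment data for E whose filtration in degree n is finite, H n finite-dimensional. If the
dimensions of the page-r₀ terms E^{s, n-s}, 0 ≤ s ≤ n, add up to the dimension of H n, then every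
position of total degree n is stationary from page r₀ on: all differentials into and out of it
vanish on every page. (The printed statement takes r₀ a positive integer and n ≥ 0; neither
restriction is needed.) -/
theorem result
    {K : Type u} [Field K] {r₀ : ℤ}
    (E : CohomologicalSpectralSequence (ModuleCat.{v} K) r₀) (H : ℤ → ModuleCat.{v} K)
    (a : SpSeq.Abutment E H) (n : ℤ) (hfin : a.IsFinite n)
    (hquad : ∀ pq : ℤ × ℤ, pq.1 < 0 ∨ pq.2 < 0 → IsZero ((E.page r₀ le_rfl).X pq))
    (hfd : ∀ pq : ℤ × ℤ, Module.Finite K ((E.page r₀ le_rfl).X pq))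
    (hH : Module.Finite K (H n))
    (hsum : ∑ s ∈ Finset.Icc (0 : ℤ) n, Module.finrank K ((E.page r₀ le_rfl).X (s, n - s)) =
      Module.finrank K (H n)) :
    ∀ s : ℤ, SpSeq.StationaryAt E (s, n - s) r₀ := by
  open Groth.Agent.H9Misc.SSBasic Groth.Agent.H9Misc.SSFinrank in
  exact by
    haveI := hH
    have hzero : ∀ p : ℤ, p < 0 ∨ n < p → IsZero (SpSeq.grPiece (a.fil n) (a.anti n) p) := fun p hp => by
      obtain ⟨q', hq'⟩ : ∃ q', n = p + q' := ⟨n - p, by ring⟩
      subst hq'
      exact (isZero_le E r₀ _ le_rfl (a.stat (p, q')).1 _ (hquad (p, q')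
        (hp.imp id fun h => by show q' < 0; lia))).of_iso (a.β (p, q')).symm
    intro s
    by_cases hs : s < 0 ∨ n < s
    · have h0 : ∀ (r : ℤ) (h : r₀ ≤ r), IsZero ((E.page r h).X (s, n - s)) := fun r h =>
        isZero_le E r₀ r le_rfl h _ (hquad (s, n - s) (hs.imp id fun h => by show n - s < 0; lia))
      exact ⟨le_rfl, fun r h _ => ⟨(h0 r h).eq_of_tgt _ _, (h0 r h).eq_of_src _ _⟩⟩
    push_neg at hs
    obtain ⟨⟨lo, hlo⟩, ⟨hi, hhi⟩⟩ := hfin
    replace hlo : a.fil n lo = ⊤ := hlo
    replace hhi : a.fil n hi = ⊥ := hhi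
    have hF0 : a.fil n 0 = ⊤ := by
      rcases le_or_gt lo 0 with h | h
      · rw [← const_of_isZero_gr (a.fil n) (a.anti n) lo 0 h fun p _ hp => hzero p (Or.inl hp)]
        exact hlo
      · exact top_le_iff.1 (hlo.symm.le.trans (a.anti n h.le))
    have hFn : a.fil n (n + 1) = ⊥ := by
      rcases le_or_gt hi (n + 1) with h | h
      · exact le_bot_iff.1 ((a.anti n h).trans hhi.le)
      · rw [const_of_isZero_gr (a.fil n) (a.anti n) (n + 1) hi h.le fun p hp _ => hzero p (Or.inr (by lia))]
        exact hhi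
    let f : ℤ → ℤ := fun p => Module.finrank K (a.fil n p : ModuleCat.{v} K)
    have hf0 : f 0 = Module.finrank K (H n) := by
      haveI : IsIso (a.fil n 0).arrow := by rw [hF0]; infer_instance
      simp only [f]
      rw [(asIso (a.fil n 0).arrow).toLinearEquiv.finrank_eq]
    have hfn : f (n + 1) = 0 := by
      have hz : IsZero (a.fil n (n + 1) : ModuleCat.{v} K) := by
        rw [hFn]
        exact (isZero_zero _).of_iso Subobject.botCoeIsoZero
      haveI := ModuleCat.subsingleton_of_isZero hz
      simp [f, Module.finrank_zero_of_subsingleton]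
    have hgr : ∀ t : ℤ, ∀ p q : ℤ, p = t → q = n - t →
        (Module.finrank K ((E.page (a.rk (p, q)) (a.stat (p, q)).1).X (p, q)) : ℤ) = f t - f (t + 1) := by
      rintro t p q rfl rfl
      rw [(a.β (p, n - p)).toLinearEquiv.finrank_eq]
      have hm : ∀ m (hm : m = n), (Module.finrank K (SpSeq.grPiece (a.fil m) (a.anti m) p : ModuleCat.{v} K) : ℤ) = f p - f (p + 1) := by
        rintro m rfl
        exact finrank_gr (a.fil m) (a.anti m) p
      exact hm _ (by simp)
    let g : ℤ → ℕ := fun t => Module.finrank K ((E.page r₀ le_rfl).X (t, n - t))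
    have hle : ∀ t : ℤ, f t - f (t + 1) ≤ (g t : ℤ) := fun t => by
      haveI := hfd (t, n - t)
      rw [← hgr t t (n - t) rfl rfl, Int.ofNat_le]
      generalize a.stat (t, n - t) = hst
      generalize a.rk (t, n - t) = r at hst ⊢
      obtain ⟨m, rfl⟩ := Int.le.dest hst.1
      exact ((le_page E (t, n - t) m).2 0 (Nat.zero_le _)).trans
        (E.pageXIsoOfEq (t, n - t) (r₀ + ((0 : ℕ) : ℤ)) r₀ (by simp) (by lia)).toLinearEquiv.finrank_eq.le
    have htel : ∀ k : ℕ, ∑ t ∈ Finset.Ico (0 : ℤ) k, (f t - f (t + 1)) = f 0 - f k := by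
      intro k
      induction k with
      | zero => simp
      | succ k ih =>
        rw [show ((k + 1 : ℕ) : ℤ) = (k : ℤ) + 1 by push_cast; ring,
          show Finset.Ico (0 : ℤ) ((k : ℤ) + 1) = insert (k : ℤ) (Finset.Ico (0 : ℤ) k) by
            ext x; simp <;> lia, Finset.sum_insert (by simp), ih]
        ring
    have hsum' : ∑ t ∈ Finset.Icc (0 : ℤ) n, (f t - f (t + 1)) = ∑ t ∈ Finset.Icc (0 : ℤ) n, (g t : ℤ) := by
      obtain ⟨k, hk⟩ := Int.le.dest (show (0 : ℤ) ≤ n + 1 by lia)
      rw [show Finset.Icc (0 : ℤ) n = Finset.Ico (0 : ℤ) k by ext x; simp <;> lia, htel k,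
        show Finset.Ico (0 : ℤ) k = Finset.Icc (0 : ℤ) n by ext x; simp <;> lia,
        show (k : ℤ) = n + 1 by lia, hf0, hfn, sub_zero]
      exact_mod_cast hsum.symm
    have heq := (Finset.sum_eq_sum_iff_of_le fun t _ => hle t).1 hsum' s (Finset.mem_Icc.2 ⟨hs.1, hs.2⟩)
    haveI := hfd (s, n - s)
    refine stationary_of_le E (s, n - s) _ (a.stat (s, n - s)) ?_
    have := hgr s s (n - s) rfl rfl
    rw [heq] at this
    exact Int.ofNat_le.1 this.symm.le

end Groth.Agent.S19322
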