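import Groth.Statements.S19323
import Groth.Agent.H9Misc.SSBasic

set_option autoImplicit false
universe v u
open CategoryTheory CategoryTheory.Limits
open SpSeq

namespace Groth.Agent.S19323

/-- In an abelian category let E and E' be first-quadrant E₂ cohomological spectral sequences and φ : E
⟶ E' a morphism of spectral sequences such that (i) every differential of E' leaving a position
whose first coordinate is nonzero vanishes, (ii) on every page the map φ at each position followed
by the outgoing differential of E' is zero, and (iii) φ is a monomorphism at every position of page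
2. Then E degenerates at page 2. -/
theorem result
    {C : Type u} [Category.{v} C] [Abelian C]
    (E E' : E₂CohomologicalSpectralSequence C) (φ : E ⟶ E')
    (hE : ∀ pq : ℤ × ℤ, pq.1 < 0 ∨ pq.2 < 0 → IsZero ((E.page 2 le_rfl).X pq))
    (hE' : ∀ pq : ℤ × ℤ, pq.1 < 0 ∨ pq.2 < 0 → IsZero ((E'.page 2 le_rfl).X pq))
    (hd' : ∀ (r : ℤ) (hr : 2 ≤ r) (pq : ℤ × ℤ), pq.1 ≠ 0 →
      (E'.page r hr).d pq (pq + (r, 1 - r)) = 0)
    (hφd : ∀ (r : ℤ) (hr : 2 ≤ r) (pq : ℤ × ℤ),
      (φ.hom r hr).f pq ≫ (E'.page r hr).d pq (pq + (r, 1 - r)) = 0)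
    (hmono : ∀ pq : ℤ × ℤ, Mono ((φ.hom 2 le_rfl).f pq)) :
    SpSeq.Degenerates E 2 := by
  open Groth.Agent.H9Misc.SSBasic in
  exact by
    have hzero : ∀ (r : ℤ) (hr : 2 ≤ r) (pq : ℤ × ℤ), pq.1 < 0 ∨ pq.2 < 0 → IsZero ((E.page r hr).X pq) :=
      fun r hr pq h => isZero_le E 2 r le_rfl hr pq (hE pq h)
    have hd0 : ∀ (r : ℤ) (hr : 2 ≤ r), (∀ pq : ℤ × ℤ, r ≤ pq.1 → Mono ((φ.hom r hr).f pq)) →
        ∀ pq pq', (E.page r hr).d pq pq' = 0 := by
      intro r hr hm pq pq'
      by_cases h : pq + (r, 1 - r) = pq'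
      · subst h
        by_cases hp : pq.1 < 0
        · exact (hzero r hr pq (Or.inl hp)).eq_of_src _ _
        · haveI := hm (pq + (r, 1 - r)) (by simp; lia)
          rw [← cancel_mono ((φ.hom r hr).f (pq + (r, 1 - r))), zero_comp,
            ← (φ.hom r hr).comm, hφd]
      · exact (E.page r hr).shape _ _ h
    have key : ∀ (k : ℕ) (pq : ℤ × ℤ), (2 + k : ℤ) ≤ pq.1 ∨ k = 0 → Mono ((φ.hom (2 + k) (by lia)).f pq) := by
      intro k
      induction k with
      | zero =>
        intro pq _
        have := hmono pq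
        convert this using 2 <;> simp
      | succ k ih =>
        rintro pq (hp | hp)
        · have hr : (2 : ℤ) ≤ 2 + k := by lia
          have hd := hd0 (2 + k) hr fun x hx => ih x (Or.inl hx)
          have hin : (E'.page (2 + k) hr).d (pq - ((2 + k : ℤ), 1 - (2 + k : ℤ))) pq = 0 := by
            have := hd' (2 + k) hr (pq - ((2 + k : ℤ), 1 - (2 + k : ℤ))) (by simp; lia)
            rwa [sub_add_cancel] at this
          haveI : Mono ((φ.hom (2 + k) hr).f pq) := ih pq (Or.inl (by lia))
          haveI : Mono ((HomologicalComplex.shortComplexFunctor C _ pq).map (φ.hom (2 + k) hr)).τ₂ :=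
            ih pq (Or.inl (by lia))
          haveI : Mono (HomologicalComplex.homologyMap (φ.hom (2 + k) hr) pq) :=
            mono_homologyMap ((HomologicalComplex.shortComplexFunctor C _ pq).map (φ.hom (2 + k) hr))
              (sc_f E _ hr pq (hd _ _)) (sc_f E' _ hr pq hin)
          have hc := φ.comm (2 + k) (2 + ((k + 1 : ℕ) : ℤ)) pq (by push_cast; ring) hr
          rw [← Iso.inv_comp_eq] at hc
          rw [← hc]
          infer_instance
        · simp at hp
    refine ⟨le_rfl, fun r h₀ _ pq pq' => hd0 r h₀ (fun x hx => ?_) pq pq'⟩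
    obtain ⟨k, rfl⟩ := Int.le.dest h₀
    exact key k x (Or.inl hx)

end Groth.Agent.S19323
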