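import Groth.Statements.S19325
import Groth.Agent.PsReflLib.HopfGen
-- import your own Groth.Agent.* helpers here

set_option autoImplicit false
universe u
open GLin

namespace Groth.Agent.S19325

/-- Let k be a field and G = Spec A a finite linearly reductive group scheme over k acting on the
polynomial ring in finitely many variables through a multiplicative, linear coaction that is
faithful on linear forms. Let H be the closed subgroup scheme generated by the pseudo-reflections of
G, i.e. the one whose ideal is the supremum of all Hopf ideals contained in every pseudo-reflection
ideal (a pseudo-reflection ideal being a Hopf ideal whose subgroup scheme fixes a subspace of linear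
forms of codimension exactly one). Then a polynomial is invariant under H exactly when it is
invariant under every pseudo-reflection: the invariants for the ideal of H are the intersection,
over the pseudo-reflection ideals I, of the invariants for I. -/
theorem result
    {k : Type u} [Field k] {A : Type u} [CommRing A] [HopfAlgebra k A] [Module.Finite k A]
    (hG : HopfRep.IsLinearlyReductive k A)
    {ι : Type u} [Fintype ι] [HopfRep.Comod k A (MvPolynomial ι k)]
    [GLin.IsCoactAlg k A (MvPolynomial ι k)]
    (hlin : GLin.IsLinear k A ι) (hf : GLin.IsFaithfulLin k A ι) :
    GLin.quotInvariants k A (MvPolynomial ι k) (GLin.genIdeal k A ι) =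
      ⨅ (I : Ideal A) (_ : GLin.IsPseudoRefl k A ι I), GLin.quotInvariants k A (MvPolynomial ι k) I := by
  refine le_antisymm (le_iInf fun I => le_iInf fun hI f hf => ?_) fun f hf => ?_
  · rw [GLin.mem_quotInvariants_iff] at hf ⊢
    exact Groth.Agent.PsReflLib.fixed_mono (sSup_le fun J hJ => hJ.2 I hI) hf
  · rw [GLin.mem_quotInvariants_iff]
    simp only [Submodule.mem_iInf, GLin.mem_quotInvariants_iff] at hf
    exact Groth.Agent.PsReflLib.fixed_of_forall (GLin.IsPseudoRefl k A ι) hf

end Groth.Agent.S19325
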