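import Groth.Statements.S19326
import Groth.Agent.ComodLib.Basic
import Mathlib.RingTheory.Bialgebra.MonoidAlgebra
-- import your own Groth.Agent.* helpers here

set_option autoImplicit false
universe u
open TensorProduct
open GLin

namespace Groth.Agent.S19326

open Groth.Agent.ComodLib TensorProduct

section
variable {M : Type u} [AddCommGroup M] {R : Type u} [CommRing R]

/-- The coefficient form. -/
noncomputable def cf (k : Type u) [Field k] (m : M) : AddMonoidAlgebra k M →ₗ[k] k :=
  (Finsupp.lapply m).comp (AddMonoidAlgebra.coeffLinearEquiv k).toLinearMap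

variable (k : Type u) [Field k] [Algebra k R] [HopfRep.Comod k (AddMonoidAlgebra k M) R]

theorem cf_single [DecidableEq M] (m a : M) (c : k) : cf k m (AddMonoidAlgebra.single a c) = if a = m then c else 0 := by
  simp [cf, Finsupp.single_apply]

/-- The weight component. -/
noncomputable def comp_ (m : M) : R →ₗ[k] R := actF (cf k m)

theorem coact_comp (m : M) (f : R) :
    HopfRep.Comod.coact (k := k) (A := AddMonoidAlgebra k M) (comp_ k m f) = comp_ k m f ⊗ₜ[k] AddMonoidAlgebra.single m (1 : k) := by
  classical
  refine ext_of_forall_slice_eq fun φ => ?_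
  rw [slice_tmul]
  show actF φ (actF (cf k m) f) = φ (AddMonoidAlgebra.single m 1) • actF (cf k m) f
  rw [show actF φ (actF (cf k m) f) = actF (WithConv.toConv φ * WithConv.toConv (cf k m)).ofConv f from
    (actF_convMul (WithConv.toConv φ) (WithConv.toConv (cf k m)) f).symm, ← LinearMap.smul_apply, ← actF_smul]
  congr 2
  refine (AddMonoidAlgebra.basis M k).ext fun a => ?_
  rw [AddMonoidAlgebra.basis_apply, LinearMap.convMul_apply]
  simp only [AddMonoidAlgebra.comul_single, CommSemiring.comul_apply, TensorProduct.map_tmul, LinearMap.smul_apply, smul_eq_mul]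
  simp only [LinearMap.mul'_apply, TensorProduct.map_tmul, cf_single, AddMonoidAlgebra.lsingle_apply]
  split
  · next h => subst h; rfl
  · simp

variable {k}

theorem mem_eig_iff (v : R) (a : AddMonoidAlgebra k M) : v ∈ HopfRep.eigenspace k (AddMonoidAlgebra k M) R a ↔
    HopfRep.Comod.coact (k := k) (A := AddMonoidAlgebra k M) v = v ⊗ₜ[k] a := Iff.rfl

theorem expand [Fintype M] (f : R) :
    HopfRep.Comod.coact (k := k) (A := AddMonoidAlgebra k M) f = ∑ m : M, comp_ k m f ⊗ₜ[k] AddMonoidAlgebra.single m (1 : k) := by
  classical
  refine ext_of_forall_slice_eq fun φ => ?_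
  rw [map_sum]
  simp only [slice_tmul]
  show slice φ (HopfRep.Comod.coact (k := k) (A := AddMonoidAlgebra k M) f) = ∑ m : M, φ (AddMonoidAlgebra.single m 1) • actF (cf k m) f
  simp only [← LinearMap.smul_apply, ← actF_smul]
  have hφ : φ = ∑ m : M, φ (AddMonoidAlgebra.single m 1) • cf k m := by
    refine (AddMonoidAlgebra.basis M k).ext fun a => ?_
    simp [AddMonoidAlgebra.basis_apply, cf_single, LinearMap.sum_apply]
  conv_lhs => rw [hφ]
  simp only [actF_apply]
  clear hφ
  induction HopfRep.Comod.coact (k := k) (A := AddMonoidAlgebra k M) f using TensorProduct.induction_on with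
  | zero => simp
  | tmul p q => simp [LinearMap.sum_apply, Finset.sum_smul]
  | add p q hp hq => simp only [map_add, hp, hq, Finset.sum_add_distrib]

end

/-- Let k be a field, M a finite abelian group and D = Spec k[M] the finite diagonalizable group scheme
it defines, acting on an affine k-scheme U = Spec R through a multiplicative coaction R → R ⊗ k[M];
write R_a for the weight space of a ∈ M (elements with coaction f ⊗ a). For an ideal J of R the
induced action of D on the closed subscheme V(J) is trivial, meaning that the coaction followed by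
reduction modulo J equals f ↦ (f mod J) ⊗ 1, exactly when J contains the ideal generated by the
weight spaces R_a for a ≠ 0; in other words that ideal defines the largest closed subscheme of U on
which D acts trivially. (The printed setting has U smooth, which plays no role here and is not
assumed; the further assertion that the construction commutes with flat base change on U/D is not
part of this statement.) -/
theorem result
    {k : Type u} [Field k] {M : Type u} [AddCommGroup M] [Finite M]
    {R : Type u} [CommRing R] [Algebra k R] [HopfRep.Comod k (AddMonoidAlgebra k M) R]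
    [GLin.IsCoactAlg k (AddMonoidAlgebra k M) R] (J : Ideal R) :
    (∀ f : R, LinearMap.rTensor (AddMonoidAlgebra k M) (Ideal.Quotient.mkₐ k J).toLinearMap
        (HopfRep.Comod.coact (k := k) (A := AddMonoidAlgebra k M) f) =
        (Ideal.Quotient.mk J f) ⊗ₜ[k] (1 : AddMonoidAlgebra k M)) ↔
      Ideal.span (⋃ (a : M) (_ : a ≠ 0),
        (HopfRep.eigenspace k (AddMonoidAlgebra k M) R (AddMonoidAlgebra.single a 1) : Set R)) ≤ J := by
  classical
  haveI := Fintype.ofFinite M
  constructor
  · intro h
    rw [Ideal.span_le]
    rintro v hv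
    simp only [Set.mem_iUnion] at hv
    obtain ⟨a, ha, hv⟩ := hv
    have h1 := congrArg (slice (cf k a)) (h v)
    rw [(mem_eig_iff v (AddMonoidAlgebra.single a (1 : k))).mp hv, LinearMap.rTensor_tmul, slice_tmul, slice_tmul] at h1
    have e2 : cf k a (1 : AddMonoidAlgebra k M) = 0 := by
      rw [AddMonoidAlgebra.one_def, cf_single, if_neg (fun h => ha h.symm)]
    rw [e2, zero_smul, cf_single, if_pos rfl, one_smul] at h1
    exact Ideal.Quotient.eq_zero_iff_mem.mp h1
  · intro h f
    have hz : ∀ m : M, m ≠ 0 → Ideal.Quotient.mk J (comp_ k m f) = 0 := fun m hm =>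
      Ideal.Quotient.eq_zero_iff_mem.mpr (h (Ideal.subset_span (Set.mem_iUnion₂.mpr ⟨m, hm,
        (mem_eig_iff _ _).mpr (coact_comp k m f)⟩)))
    have hexp := expand (k := k) (M := M) f
    have hf : f = ∑ m : M, comp_ k m f := by
      conv_lhs => rw [← actF_counit (C := AddMonoidAlgebra k M) (k := k) f, actF_apply, hexp, map_sum]
      refine Finset.sum_congr rfl fun m _ => ?_
      rw [slice_tmul, show Coalgebra.counit (R := k) (AddMonoidAlgebra.single m (1 : k)) = 1 by simp, one_smul]
    rw [hexp, map_sum, Finset.sum_eq_single (0 : M)]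
    · rw [LinearMap.rTensor_tmul, ← AddMonoidAlgebra.one_def]
      congr 1
      conv_rhs => rw [hf, map_sum, Finset.sum_eq_single (0 : M) (fun m _ hm => hz m hm) (fun h => absurd (Finset.mem_univ _) h)]
      rfl
    · intro m _ hm
      rw [LinearMap.rTensor_tmul]
      show (Ideal.Quotient.mk J (comp_ k m f)) ⊗ₜ[k] _ = 0
      rw [hz m hm, TensorProduct.zero_tmul]
    · intro h; exact absurd (Finset.mem_univ _) h

end Groth.Agent.S19326
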