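import Groth.Statements.S19327
import Groth.Agent.PsReflLib.Regular
-- import your own Groth.Agent.* helpers here

set_option autoImplicit false
universe u
open GLin

namespace Groth.Agent.S19327

/-- Let k be a field, G = Spec A a finite linearly reductive group scheme over k acting faithfully on a
smooth affine k-scheme U = Spec R (R of finite type and smooth over k, the coaction multiplicative,
and a Hopf ideal whose subgroup acts trivially on R contains the augmentation ideal), and x a
k-rational point of U that G fixes. Assume the pseudo-reflections at x generate G, a
pseudo-reflection at x being a closed subgroup scheme (Hopf ideal) fixing a subspace of codimension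
exactly one of the cotangent space m_x/m_x², and generation meaning that the only Hopf ideal
contained in all their ideals is zero. Then U/G = Spec R^G is smooth at the image y of x: since y is
rational, equivalently the local ring of the ring of invariants at the prime below m_x is a regular
local ring, which is the form stated; the primality of that kernel, which always holds, is taken as
an instance argument. (The printed statement also allows x defined over a finite separable extension
of k; only the rational case is stated here. As in the linear case the row also assumes every
quotient of A by a Hopf ideal linearly reductive, i.e. every closed subgroup scheme of G linearly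
reductive, which holds for finite linearly reductive G.) -/
theorem result
    {k : Type u} [Field k] {A : Type u} [CommRing A] [HopfAlgebra k A] [Module.Finite k A]
    (hG : HopfRep.IsLinearlyReductive k A)
    (hsub : ∀ (I : Ideal A) [I.IsHopfIdeal k], HopfRep.IsLinearlyReductive k (A ⧸ I))
    {R : Type u} [CommRing R] [Algebra k R] [Algebra.FiniteType k R] [Algebra.Smooth k R]
    [HopfRep.Comod k A R] [GLin.IsCoactAlg k A R] (hf : GLin.IsFaithful k A R)
    (x : R →ₐ[k] k) (hx : GLin.IsFixedPt k A x) (hgen : GLin.IsGenByPseudoReflAt k A R x)
    [(RingHom.ker (x.comp (GLin.invariants k A R).val)).IsPrime] :
    IsRegularLocalRing (Localization.AtPrime (RingHom.ker (x.comp (GLin.invariants k A R).val))) := by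
  haveI hm : (RingHom.ker x).IsPrime := RingHom.ker_isPrime x
  haveI : Algebra.FormallySmooth k (Localization.AtPrime (RingHom.ker x)) :=
    haveI := Algebra.FormallySmooth.of_isLocalization (R := R) (Rₘ := Localization.AtPrime (RingHom.ker x))
      (RingHom.ker x).primeCompl
    Algebra.FormallySmooth.comp k R _
  haveI : Algebra.IsSmoothAt k (RingHom.ker x) := by assumption
  haveI := Groth.Agent.CotTLib.isRegularLocalRing_of_isSmoothAt (k := k) (RingHom.ker x)
  exact Groth.Agent.PsReflLib.isRegularLocalRing_invariants hG hsub x hx hgen

end Groth.Agent.S19327
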