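import Groth.Statements.S19329
import Groth.Agent.ModPairLib.Dense

set_option autoImplicit false
universe u
open CategoryTheory CategoryTheory.Limits AlgebraicGeometry TopologicalSpace
open ModPair

namespace Groth.Agent.S19329

/-- Let (X, I), (Y, J), (Z, K) be modulus pairs, i.e. schemes with quasi-coherent ideal sheaves of
effective Cartier divisors, and let f : X ⟶ Y and g : Y ⟶ Z satisfy the modulus conditions I ≤
J.comap f and J ≤ K.comap g. Suppose the composite X ⟶ Z is minimal, I = K.comap (f ≫ g). Then f is
minimal, and there is an open subset U of Y whose inclusion is quasi-compact, which contains the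
image of f, and such that U ⟶ Z is minimal for the modulus of Y restricted to U. -/
theorem result {X Y Z : Scheme.{u}}
    (I : X.IdealSheafData) (J : Y.IdealSheafData) (K : Z.IdealSheafData)
    (hI : BlowUp.IsEffCartierIdeal I) (hJ : BlowUp.IsEffCartierIdeal J)
    (hK : BlowUp.IsEffCartierIdeal K) (f : X ⟶ Y) (g : Y ⟶ Z)
    (hf : ModPair.IsAmbient I J f) (hg : ModPair.IsAmbient J K g)
    (hfg : ModPair.IsMinimal I K (f ≫ g)) :
    ModPair.IsMinimal I J f ∧
      ∃ U : Y.Opens, QuasiCompact U.ι ∧ Set.range f.base ⊆ (U : Set Y) ∧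
        ModPair.IsMinimal (J.comap U.ι) K (U.ι ≫ g) := by
  exact ModPairLib.minimal_of_comp hI hJ hK f g hf hg hfg

end Groth.Agent.S19329
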