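import Groth.Statements.S1933
import Groth.Agent.H23.GysinFun
import Groth.Agent.H23.GysinLen
-- import your own Groth.Agent.* helpers here

set_option autoImplicit false
universe u
open CategoryTheory AlgebraicGeometry
open CategoryTheory.Limits
open Cyc

namespace Groth.Agent.S1933

/-- Gysin maps commute with flat pullback. Let f : X' → X be flat, locally of finite type, of relative
dimension r, (L, s, i : D → X) as in the Gysin construction and D' = X' ×_X D with i' : D' → X' (the
zero scheme of a section of f^*L) and g : D' → D. For a (k + 1)-cycle α on X, (i')^*(f^*α) ∼_rat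
g^*(i^*α) as (k + r)-cycles on D', flat pullbacks being taken coefficientwise. Here i : D → X is the
zero scheme of a global section s of the invertible module L (Cyc.IsZeroSchemeOf), the Gysin map i^*
: Z_{k+1}(X) → CH_k(D) is computed on coefficient functions as c_1(L) ∩ − with the rational sections
taken to be s where it is nonzero (Cyc.gysinChoice) and restricted to the points of D, and classes
on D are compared up to rational equivalence on D for the restricted dimension function. A pair (X,
δ) with Cyc.IsSetup plays the role of a scheme locally of finite type over a base (S, δ) (X locally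
Noetherian with universally catenary local rings, δ a dimension function), and Cyc.DeltaCompat
records that the dimension function upstairs is the induced one. -/
theorem result (X X' D : Scheme.{u}) (δ : X → ℤ) (δ' : X' → ℤ) (hX : Cyc.IsSetup X δ) (hX' : Cyc.IsSetup X' δ') (f : X' ⟶ X) [Flat f] [LocallyOfFiniteType f] (r : ℕ) (hr : Cyc.HasRelDim f r) (hδ : Cyc.DeltaCompat f δ' δ) (L : X.Modules) (hL : PicF.IsInvertible L) (s : L.presheaf.obj (Opposite.op ⊤)) (i : D ⟶ X) [IsClosedImmersion i] (hD : Cyc.IsZeroSchemeOf i L s) (s' : ((Scheme.Modules.pullback f).obj L).presheaf.obj (Opposite.op ⊤)) (hD' : Cyc.IsZeroSchemeOf (pullback.fst f i) ((Scheme.Modules.pullback f).obj L) s') (k : ℤ) (α : AlgebraicCycle X ℤ) (hα : α ∈ Cyc.Zk X δ (k + 1)) (w : (ξ : X) → Cyc.secFibre L ξ) (hw : ∀ ξ, w ξ ≠ 0) (w' : (ξ : X') → Cyc.secFibre ((Scheme.Modules.pullback f).obj L) ξ) (hw' : ∀ ξ, w' ξ ≠ 0) (ζ₁ ζ₂ : AlgebraicCycle (pullback f i) ℤ) (h₁ : ∀ z, ζ₁ z = Cyc.c1CapFun δ' ((Scheme.Modules.pullback f).obj L) (Cyc.pullFun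 f δ' δ r ⇑α) (Cyc.gysinChoice ((Scheme.Modules.pullback f).obj L) s' w') (pullback.fst f i z)) (h₂ : ⇑ζ₂ = Cyc.pullFun (pullback.snd f i) (fun z => δ' (pullback.fst f i z)) (fun d => δ (i d)) r (fun d => Cyc.c1CapFun δ L ⇑α (Cyc.gysinChoice L s w) (i d))) : Cyc.RatEquiv (fun z => δ' (pullback.fst f i z)) (k + r) ζ₁ ζ₂ := by
  
  classical
  haveI := hX.1
  haveI := hX'.1
  have hL' := Groth.Agent.PicClLib.isInvertible_pullback f hL
  have hgc := Groth.Agent.H23.GysinLib.gysinChoice_ne_zero (L := L) s hw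
  have hgc' := Groth.Agent.H23.GysinLib.gysinChoice_ne_zero (L := (Scheme.Modules.pullback f).obj L) s' hw'
  have hc := Groth.Agent.H23.FlatShift.hasShift_of_hasRelDim f hr hδ
  have hfin := Groth.Agent.H23.GysinLib.locFin α
  let β : AlgebraicCycle X' ℤ :=
    { toFun := Cyc.pullFun f δ' δ r ⇑α
      supportWithinDomain' := fun _ _ => trivial
      supportLocallyFiniteWithinDomain' := fun z _ =>
        Groth.Agent.H23.C1Pull.locFin_pullFun hc hX'.2.2 hfin z }
  have hβ : β ∈ Cyc.Zk X' δ' (k + r + 1) := fun z hz => by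
    show Cyc.pullFun f δ' δ r ⇑α z = 0
    rw [Cyc.pullFun]
    split_ifs with h
    · rw [hα (f z) (fun h' => hz (by omega)), zero_mul]
    · rfl
  refine Groth.Agent.H23.GysinLib.ratEquiv_restrict (pullback.fst f i) hL' hX'.2.2 β hβ hgc'
    (Groth.Agent.H23.C1Pull.vPull_ne_zero hL hgc)
    (fun ξ hξ => (Groth.Agent.H23.GysinLib.secDivFun_gysinChoice f i hL hX'.2.2 hD hD' w w' hξ).symm) h₁ fun z => ?_
  show ζ₂ z = Cyc.c1CapFun δ' _ (Cyc.pullFun f δ' δ r ⇑α) _ _
  rw [congrFun h₂ z, ← Groth.Agent.H23.C1Pull.pullFun_c1CapFun hL hL' hc hX.2.2 hX'.2.2 hfin hgc]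
  have e := Groth.Agent.H23.GysinPb.apply_fst_eq f i z
  have el := congrArg (fun n : ℕ∞ => (n.toNat : ℤ)) (Groth.Agent.H23.GysinPb.fibreLen_snd f i z)
  simp only [Cyc.pullFun, ← e]
  split_ifs with h
  · exact congrArg _ el
  · rfl

end Groth.Agent.S1933
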