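import Groth.Statements.S19330
import Groth.Agent.ModPairLib.Closure

set_option autoImplicit false
universe u
open CategoryTheory CategoryTheory.Limits AlgebraicGeometry TopologicalSpace
open ModPair

namespace Groth.Agent.S19330

/-- Let (S, I) be a modulus pair, i.e. a scheme with the quasi-coherent ideal sheaf of an effective
Cartier divisor, with interior U, and let g_i : V_i ⟶ U be a jointly surjective family of closed
immersions into the interior. Let V̄_i be the scheme-theoretic image of V_i ⟶ U ⟶ S. Then the closed
immersions V̄_i ⟶ S are jointly surjective, the modulus restricted to each V̄_i is again the ideal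
sheaf of an effective Cartier divisor (so that V̄_i ⟶ S is a minimal morphism of modulus pairs), and
the interior of V̄_i is V_i: the canonical morphism V_i ⟶ V̄_i is an open immersion whose image is
the preimage of U. -/
theorem result {S : Scheme.{u}} (I : S.IdealSheafData)
    (hI : BlowUp.IsEffCartierIdeal I) {ι : Type u} (V : ι → Scheme.{u})
    (g : ∀ i, V i ⟶ (ModPair.interior I : Scheme.{u})) [∀ i, IsClosedImmersion (g i)]
    (hsurj : ∀ u : (ModPair.interior I : Scheme.{u}), ∃ (i : ι) (v : V i), (g i).base v = u) :
    (∀ s : S, ∃ (i : ι) (v : (g i ≫ (ModPair.interior I).ι).image),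
        (g i ≫ (ModPair.interior I).ι).imageι.base v = s) ∧
      (∀ i, BlowUp.IsEffCartierIdeal (I.comap (g i ≫ (ModPair.interior I).ι).imageι)) ∧
      ∀ i, IsOpenImmersion (g i ≫ (ModPair.interior I).ι).toImage ∧
        Set.range (g i ≫ (ModPair.interior I).ι).toImage.base =
          (g i ≫ (ModPair.interior I).ι).imageι.base ⁻¹' (ModPair.interior I : Set S) := by
  have := ModPairLib.isAffineHom_interior (ModPairLib.isLocPrincipal_of_isEffCartier hI)
  refine ⟨fun s => ?_, fun i => ModPairLib.isEffCartier_comap_imageι hI (g i),
    fun i => ModPairLib.isOpenImmersion_toImage _ (g i)⟩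
  obtain ⟨u, hu, hspec⟩ := ModPairLib.exists_specializes_mem_interior hI s
  obtain ⟨i, v, hv⟩ := hsurj ⟨u, hu⟩
  refine ⟨i, ?_⟩
  set f := g i ≫ (ModPair.interior I).ι
  show s ∈ Set.range f.ker.subschemeι
  rw [Scheme.IdealSheafData.range_subschemeι, Scheme.Hom.support_ker]
  refine closure_mono ?_ hspec.mem_closure
  rintro _ rfl
  exact ⟨v, congrArg Subtype.val hv⟩

end Groth.Agent.S19330
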