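import Groth.Statements.S19331
import Groth.Agent.S0385
import Groth.Agent.ModDesc.Closure
-- import your own Groth.Agent.* helpers here

set_option autoImplicit false
universe u
open CategoryTheory CategoryTheory.Limits AlgebraicGeometry TopologicalSpace
open ModPair

namespace Groth.Agent.S19331

/-- Let (S, I) be a modulus pair, i.e. a scheme with the quasi-coherent ideal sheaf of an effective
Cartier divisor, with S quasi-compact and quasi-separated and with interior U, and let t₀ : T₀ ⟶ U
be a finite surjective morphism. Then there are a finite surjective morphism t : T ⟶ S such that the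
pulled-back modulus I.comap t is again the ideal sheaf of an effective Cartier divisor, making T ⟶ S
a minimal morphism of modulus pairs, and an open immersion j : T₀ ⟶ T with image t⁻¹(U) and j ≫ t =
t₀ ≫ (U ⟶ S), so that t₀ is the interior of t. -/
theorem result {S : Scheme.{u}}
    [CompactSpace S] [QuasiSeparatedSpace S] (I : S.IdealSheafData)
    (hI : BlowUp.IsEffCartierIdeal I) {T₀ : Scheme.{u}}
    (t₀ : T₀ ⟶ (ModPair.interior I : Scheme.{u})) [IsFinite t₀] [Surjective t₀] :
    ∃ (T : Scheme.{u}) (t : T ⟶ S) (j : T₀ ⟶ T), IsFinite t ∧ Surjective t ∧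
      BlowUp.IsEffCartierIdeal (I.comap t) ∧ IsOpenImmersion j ∧
      Set.range j.base = t.base ⁻¹' (ModPair.interior I : Set S) ∧
      j ≫ t = t₀ ≫ (ModPair.interior I).ι := by
  let U := ModPair.interior I
  haveI := ModPairLib.isAffineHom_interior (ModPairLib.isLocPrincipal_of_isEffCartier hI)
  haveI := ModPairLib.isSchemeTheoreticallyDominant_interior hI
  let f : T₀ ⟶ S := t₀ ≫ U.ι
  haveI : IsSeparated f := inferInstanceAs (IsSeparated (t₀ ≫ U.ι))
  haveI : QuasiCompact f := inferInstanceAs (QuasiCompact (t₀ ≫ U.ι))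
  haveI : LocallyOfFiniteType f := inferInstanceAs (LocallyOfFiniteType (t₀ ≫ U.ι))
  haveI : LocallyQuasiFinite f := inferInstanceAs (LocallyQuasiFinite (t₀ ≫ U.ι))
  obtain ⟨T', j', π, hj', hjq, hπ, hjπ⟩ := Groth.Agent.S0385.result f
  haveI := hj'
  haveI := hjq
  haveI := hπ
  -- the closure of the interior
  let t : j'.image ⟶ S := j'.imageι ≫ π
  let j : T₀ ⟶ j'.image := j'.toImage
  haveI : IsFinite t := inferInstanceAs (IsFinite (j'.imageι ≫ π))
  haveI : IsOpenImmersion j := inferInstanceAs (IsOpenImmersion j'.toImage)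
  haveI : QuasiCompact j := inferInstanceAs (QuasiCompact j'.toImage)
  haveI : IsSchemeTheoreticallyDominant j := ⟨Groth.Agent.ModDesc.ker_toImage j'⟩
  have hjt : j ≫ t = t₀ ≫ U.ι := by
    show j'.toImage ≫ j'.imageι ≫ π = f
    rw [Scheme.Hom.toImage_imageι_assoc, hjπ]
  let W : j'.image.Opens := t ⁻¹ᵁ U
  have hr : Set.range j.base ⊆ (W : Set j'.image) := by
    rintro _ ⟨z, rfl⟩
    show t (j z) ∈ U
    rw [← Scheme.Hom.comp_apply, hjt]
    exact (t₀ z).2
  let k : T₀ ⟶ (W : Scheme.{u}) := IsOpenImmersion.lift W.ι j (by rw [Scheme.Opens.range_ι]; exact hr)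
  have hk : k ≫ W.ι = j := IsOpenImmersion.lift_fac _ _ _
  have hkt : k ≫ (t ∣_ U) = t₀ := by
    rw [← cancel_mono U.ι, Category.assoc, morphismRestrict_ι, reassoc_of% hk, hjt]
  haveI : IsFinite (k ≫ (t ∣_ U)) := by rw [hkt]; infer_instance
  haveI : IsFinite (t ∣_ U) := IsZariskiLocalAtTarget.restrict (P := @IsFinite) inferInstance U
  haveI : IsFinite k := IsFinite.of_comp k (t ∣_ U)
  have hsurj : Set.range j.base = (W : Set j'.image) := by
    refine Set.Subset.antisymm hr fun w hw => ?_
    have hcl : IsClosed (Set.range k.base) := k.isClosedMap.isClosed_range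
    obtain ⟨C, hC, hCk⟩ := W.isOpenEmbedding'.isInducing.isClosed_iff.mp hcl
    have hd : DenseRange j.base := j.denseRange
    by_contra hwj
    have hne : (Cᶜ ∩ (W : Set j'.image)).Nonempty := by
      refine ⟨w, fun hwC => hwj ?_, hw⟩
      have : (⟨w, hw⟩ : W) ∈ Set.range k.base := hCk ▸ hwC
      obtain ⟨z, hz⟩ := this
      refine ⟨z, ?_⟩
      rw [← hk]
      exact congrArg Subtype.val hz
    obtain ⟨z, hzC, hzW⟩ := hd.exists_mem_open (hC.isOpen_compl.inter W.isOpen) hne
    refine hzC ?_
    have : k z ∈ Set.range k.base := ⟨z, rfl⟩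
    rw [← hCk] at this
    have e : W.ι (k z) = j z := by rw [← Scheme.Hom.comp_apply, hk]
    rw [← e]
    exact this
  refine ⟨j'.image, t, j, inferInstance, ?_, ?_, inferInstance, ?_, hjt⟩
  · refine ⟨fun s => ?_⟩
    have hsub : (U : Set S) ⊆ Set.range t.base := fun x hx => by
      obtain ⟨z, hz⟩ := t₀.surjective ⟨x, hx⟩
      refine ⟨j z, ?_⟩
      rw [← Scheme.Hom.comp_apply, hjt, Scheme.Hom.comp_apply, hz]
      rfl
    have hd : Dense (U : Set S) := by
      have := (ModPair.interior I).ι.denseRange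
      rw [DenseRange, Scheme.Opens.range_ι] at this
      exact this
    exact (t.isClosedMap.isClosed_range.closure_subset_iff.mpr hsub) (hd s)
  · have hle : W ≤ ModPair.interior (I.comap t) := (ModPairLib.preimage_interior I t).le
    haveI : IsAffineHom W.ι := by
      rw [show W = ModPair.interior (I.comap t) from ModPairLib.preimage_interior I t]
      exact ModPairLib.isAffineHom_interior ((ModPairLib.isLocPrincipal_of_isEffCartier hI).comap t)
    haveI : IsSchemeTheoreticallyDominant W.ι :=
      ⟨le_bot_iff.1 (by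
        calc W.ι.ker ≤ (k ≫ W.ι).ker := Scheme.Hom.le_ker_comp _ _
          _ = ⊥ := by rw [hk]; exact j.ker_eq_bot)⟩
    exact ModPairLib.isEffCartier_of_dense ((ModPairLib.isLocPrincipal_of_isEffCartier hI).comap t) W hle
  · exact hsurj

end Groth.Agent.S19331
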