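import Groth.Statements.S19333
import Mathlib.RingTheory.Valuation.LocalSubring
import Mathlib.RingTheory.Ideal.MinimalPrime.Localization
import Mathlib.RingTheory.Adjoin.Polynomial.Basic
import Mathlib.RingTheory.Localization.AtPrime.Basic

set_option autoImplicit false
universe u
open ModPair

namespace Groth.Agent.S19333

/-- Let A → B be any homomorphism of commutative rings. An element x of B is integral over A if and only
if for every field K, every valuation subring R of K and every ring homomorphism φ : B → K which
sends the image of A into R, the element φ(x) lies in R. In other words the integral closure of A in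
B is the intersection of the subrings R ×_K B taken over all commutative squares A → R ⊆ K ← B with
R a valuation ring of the field K. -/
theorem result {A B : Type u} [CommRing A]
    [CommRing B] [Algebra A B] (x : B) :
    x ∈ integralClosure A B ↔
      ∀ (K : Type u) [Field K] (R : ValuationSubring K) (φ : B →+* K),
        (∀ a : A, φ (algebraMap A B a) ∈ R) → φ x ∈ R := by
  constructor
  · intro hx K _ R φ hφ
    obtain ⟨p, hp, hpx⟩ := hx
    have hint : IsIntegral R (φ x) := by
      refine ⟨p.map (RingHom.codRestrict (φ.comp (algebraMap A B)) R hφ), hp.map _, ?_⟩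
      rw [Polynomial.eval₂_map]
      have := congrArg φ hpx
      rw [Polynomial.hom_eval₂, map_zero] at this
      exact this
    obtain ⟨y, hy⟩ := IsIntegrallyClosed.isIntegral_iff.1 hint
    rw [← hy]; exact y.2
  · intro h
    by_contra hx
    let Bx := Localization.Away x
    let z : Bx := algebraMap B Bx x
    obtain ⟨y, hzy⟩ := (IsLocalization.Away.algebraMap_isUnit (S := Bx) x).exists_right_inv
    let T := Algebra.adjoin A ({y} : Set Bx)
    have hy : ¬ IsUnit (⟨y, Algebra.self_mem_adjoin_singleton A y⟩ : T) := by
      intro hu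
      obtain ⟨w, hw⟩ := hu.exists_left_inv
      have hwz : (w : Bx) = z := by
        have h1 : (w : Bx) * y = 1 := congrArg Subtype.val hw
        calc (w : Bx) = w * (z * y) := by rw [show z * y = 1 from hzy, mul_one]
          _ = (w * y) * z := by ring
          _ = z := by rw [h1, one_mul]
      have hzT : z ∈ Algebra.adjoin A ({y} : Set Bx) := hwz ▸ w.2
      rw [Algebra.adjoin_singleton_eq_range_aeval] at hzT
      obtain ⟨P, hP⟩ := hzT
      set d := P.natDegree with hd
      let S : Polynomial A := ∑ i ∈ Finset.range (d + 1), Polynomial.C (P.coeff i) * Polynomial.X ^ (d - i)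
      have hSdeg : S.degree ≤ (d : WithBot ℕ) := by
        refine (Polynomial.degree_sum_le _ _).trans (Finset.sup_le fun i _ => ?_)
        refine (Polynomial.degree_C_mul_X_pow_le _ _).trans ?_
        exact_mod_cast Nat.sub_le d i
      have hQm : (Polynomial.X ^ (d + 1) - S).Monic :=
        Polynomial.monic_X_pow_sub (lt_of_le_of_lt hSdeg (by exact_mod_cast Nat.lt_succ_self d))
      have hQ : Polynomial.aeval z (Polynomial.X ^ (d + 1) - S) = 0 := by
        have hP' : Polynomial.aeval y P = z := hP
        rw [map_sub, map_pow, Polynomial.aeval_X, map_sum, sub_eq_zero, pow_succ]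
        conv_lhs => arg 2; rw [← hP', Polynomial.aeval_eq_sum_range]
        rw [Finset.mul_sum]
        refine Finset.sum_congr rfl fun i hi => ?_
        rw [Finset.mem_range] at hi
        simp only [map_mul, Polynomial.aeval_C, map_pow, Polynomial.aeval_X, Algebra.smul_def]
        conv_lhs => rw [show d = (d - i) + i by omega, pow_add]
        calc z ^ (d - i) * z ^ i * (algebraMap A Bx (P.coeff i) * y ^ i)
            = algebraMap A Bx (P.coeff i) * z ^ (d - i) * (z * y) ^ i := by rw [mul_pow]; ring
          _ = _ := by rw [show z * y = 1 from hzy, one_pow, mul_one]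
      have hz0 : algebraMap B Bx (Polynomial.aeval x (Polynomial.X ^ (d + 1) - S)) = 0 := by
        rw [← hQ, Polynomial.aeval_algebraMap_apply]
      rw [IsLocalization.map_eq_zero_iff (Submonoid.powers x) Bx] at hz0
      obtain ⟨⟨_, m, rfl⟩, hm⟩ := hz0
      exact hx ⟨Polynomial.X ^ m * (Polynomial.X ^ (d + 1) - S), (Polynomial.monic_X_pow m).mul hQm,
        by rw [← Polynomial.aeval_def, map_mul, map_pow, Polynomial.aeval_X]; exact hm⟩
    obtain ⟨mI, hmI, hmy⟩ := exists_max_ideal_of_mem_nonunits hy
    haveI := hmI.isPrime
    obtain ⟨q, hq, hqm⟩ := Ideal.exists_minimalPrimes_le (bot_le : (⊥ : Ideal T) ≤ mI)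
    obtain ⟨Q, hQp, hQc⟩ := Ideal.exists_comap_eq_of_mem_minimalPrimes_of_injective (f := T.val.toRingHom) Subtype.val_injective q hq
    haveI := hQp
    let K := FractionRing (Bx ⧸ Q)
    let ψ : Bx →+* K := (algebraMap (Bx ⧸ Q) K).comp (Ideal.Quotient.mk Q)
    have hψ : ∀ s : mI.primeCompl, IsUnit ((ψ.comp T.val.toRingHom) s) := by
      intro s
      rw [isUnit_iff_ne_zero]
      intro h0
      have h1 : Ideal.Quotient.mk Q ((s : T) : Bx) = 0 := IsFractionRing.injective (Bx ⧸ Q) K (by rw [map_zero]; exact h0)
      rw [Ideal.Quotient.eq_zero_iff_mem] at h1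
      exact s.2 (hqm (hQc ▸ h1))
    let f : Localization.AtPrime mI →+* K := IsLocalization.lift (g := ψ.comp T.val.toRingHom) hψ
    have hf : ∀ t : T, f (algebraMap T (Localization.AtPrime mI) t) = ψ (t : Bx) := fun t => IsLocalization.lift_eq hψ t
    obtain ⟨R, hR, hloc⟩ := IsLocalRing.exists_factor_valuationRing (R := Localization.AtPrime mI) f
    have hxR := h K R (ψ.comp (algebraMap B Bx)) (fun a => by
      have h1 := hR (algebraMap T (Localization.AtPrime mI) (algebraMap A T a))
      rw [hf] at h1
      rw [RingHom.comp_apply, ← IsScalarTower.algebraMap_apply A B Bx]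
      exact h1)
    set y' : T := ⟨y, Algebra.self_mem_adjoin_singleton A y⟩ with hy'
    have hun : IsUnit ((f.codRestrict R.toSubring hR) (algebraMap T (Localization.AtPrime mI) y')) := by
      refine IsUnit.of_mul_eq_one ⟨ψ z, hxR⟩ (Subtype.ext ?_)
      change f (algebraMap T (Localization.AtPrime mI) y') * ψ z = 1
      rw [hf, ← map_mul]
      change ψ (y * z) = 1
      rw [mul_comm, show z * y = 1 from hzy, map_one]
    have := hloc.map_nonunit _ hun
    rw [IsLocalization.AtPrime.isUnit_to_map_iff (Localization.AtPrime mI) mI] at this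
    exact this hmy

end Groth.Agent.S19333
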