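import Groth.Statements.S19334
import Groth.Agent.ModPairLib.Dense
import Groth.Agent.ValTest.Basic

set_option autoImplicit false
universe u
open CategoryTheory CategoryTheory.Limits AlgebraicGeometry TopologicalSpace
open ModPair

namespace Groth.Agent.S19334

/-- Let (X, I) be a modulus pair, i.e. a scheme X with the quasi-coherent ideal sheaf I of an effective
Cartier divisor. Suppose that for every valuation ring R and every morphism p : Spec R ⟶ X along
which the divisor of I pulls back to an effective Cartier divisor on Spec R (so that p is a minimal
morphism of modulus pairs for the pulled-back modulus), the pulled-back divisor is empty, I.comap p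
= ⊤. Then the divisor of I is empty: I = ⊤. -/
theorem result {X : Scheme.{u}}
    (I : X.IdealSheafData) (hI : BlowUp.IsEffCartierIdeal I)
    (h : ∀ (R : Type u) [CommRing R] [IsDomain R] [ValuationRing R]
      (p : Spec (CommRingCat.of R) ⟶ X), BlowUp.IsEffCartierIdeal (I.comap p) → I.comap p = ⊤) :
    I = ⊤ := by
  refine ModPairLib.eq_top_of_eq_mul_self hI (Groth.Agent.ValTest.eq_of_valuation I (I * I) hI
    (fun U => Ideal.mul_le_right) fun R _ _ _ p hp _ => ?_)
  rw [h R p hp, ModPairLib.comap_mul_eq_top p (h R p hp) (h R p hp)]

end Groth.Agent.S19334
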