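import Groth.Statements.S19335
import Groth.Agent.ValTest.Basic

set_option autoImplicit false
universe u
open CategoryTheory CategoryTheory.Limits AlgebraicGeometry TopologicalSpace
open ModPair

namespace Groth.Agent.S19335

/-- Let X be a scheme and I, J quasi-coherent ideal sheaves of effective Cartier divisors D_I ≤ D_J on
X, i.e. J ≤ I. Suppose that for every valuation ring R and every morphism p : Spec R ⟶ X such that
I.comap p is the ideal sheaf of an effective Cartier divisor on Spec R (so p is a minimal morphism
of modulus pairs for (X, I)) whose open complement consists of the generic point of Spec R only, the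
two divisors agree after pull-back, I.comap p = J.comap p. Then I = J. -/
theorem result {X : Scheme.{u}} (I J : X.IdealSheafData)
    (hI : BlowUp.IsEffCartierIdeal I) (hJ : BlowUp.IsEffCartierIdeal J) (hJI : J ≤ I)
    (h : ∀ (R : Type u) [CommRing R] [IsDomain R] [ValuationRing R]
      (p : Spec (CommRingCat.of R) ⟶ X), BlowUp.IsEffCartierIdeal (I.comap p) →
        (∀ x : Spec (CommRingCat.of R),
          x ∈ (ModPair.interior (I.comap p) : Set (Spec (CommRingCat.of R))) ↔ x.asIdeal = ⊥) →
        I.comap p = J.comap p) :
    I = J := by
  exact ValTest.eq_of_valuation I J hI hJI h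

end Groth.Agent.S19335
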