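import Groth.Statements.S19336
import Groth.Agent.MorLib.IdealFG2
import Groth.Agent.ModPairLib.BlowUp
import Groth.Agent.BlowUpLib.Glue
-- import your own Groth.Agent.* helpers here

set_option autoImplicit false
universe u
open CategoryTheory CategoryTheory.Limits AlgebraicGeometry TopologicalSpace
open ModPair

namespace Groth.Agent.S19336

/-- Let (S, I) be a modulus pair, i.e. a scheme S with the quasi-coherent ideal sheaf I of an effective
Cartier divisor, with S quasi-compact and quasi-separated and with interior U, and let (V_i) be a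
covering of U by quasi-compact open subsets. Then there are a quasi-coherent ideal sheaf F of finite
type on S whose support is disjoint from U, a blow-up b : Y ⟶ S of S in F (an admissible blow-up)
such that I.comap b is again the ideal sheaf of an effective Cartier divisor, and a covering of Y by
quasi-compact open subsets W_j such that each W_j ∩ b⁻¹(U) is contained in b⁻¹(V_i) for some i: the
Zariski covering of the interior extends, after an admissible blow-up, to a Zariski covering of the
total space. -/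
theorem result {S : Scheme.{u}}
    [CompactSpace S] [QuasiSeparatedSpace S] (I : S.IdealSheafData)
    (hI : BlowUp.IsEffCartierIdeal I) {ι : Type u} (V : ι → S.Opens)
    (hVU : ∀ i, V i ≤ ModPair.interior I) (hVqc : ∀ i, IsCompact (V i : Set S))
    (hcov : ModPair.interior I ≤ ⨆ i, V i) :
    ∃ (F : S.IdealSheafData) (Y : Scheme.{u}) (b : Y ⟶ S) (κ : Type u) (W : κ → Y.Opens),
      BlowUp.IsAdmissibleFor (ModPair.interior I) F ∧ BlowUp.IsBlowUp b F ∧
        BlowUp.IsEffCartierIdeal (I.comap b) ∧ (∀ k, IsCompact (W k : Set Y)) ∧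
        (⨆ k, W k) = ⊤ ∧ ∀ k, ∃ i, W k ⊓ b ⁻¹ᵁ ModPair.interior I ≤ b ⁻¹ᵁ V i := by
  classical
  have hUaff := ModPairLib.isAffineHom_interior (ModPairLib.isLocPrincipal_of_isEffCartier hI)
  haveI : CompactSpace (ModPair.interior I : Scheme.{u}) :=
    QuasiCompact.compactSpace_of_compactSpace (ModPair.interior I).ι
  have hUc : IsCompact (ModPair.interior I : Set S) :=
    isCompact_iff_compactSpace.mpr (‹CompactSpace (ModPair.interior I : Scheme.{u})›)
  -- refine the covering to finitely many affine opens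
  have hx : ∀ x : (ModPair.interior I : Set S), ∃ A : S.affineOpens, x.1 ∈ A.1 ∧ ∃ i, A.1 ≤ V i := by
    intro x
    obtain ⟨i, hi⟩ := Opens.mem_iSup.mp (hcov x.2)
    obtain ⟨_, ⟨A, hA, rfl⟩, hxA, hAV⟩ := S.isBasis_affineOpens.exists_subset_of_mem_open hi (V i).isOpen
    exact ⟨⟨A, hA⟩, hxA, i, hAV⟩
  choose A hxA iA hiA using hx
  obtain ⟨t, ht⟩ := hUc.elim_finite_subcover (fun x => ((A x).1 : Set S)) (fun x => (A x).1.isOpen)
    (fun x hx => Set.mem_iUnion.mpr ⟨⟨x, hx⟩, hxA ⟨x, hx⟩⟩)
  have hK : ∀ x : (ModPair.interior I : Set S), ∃ K : S.IdealSheafData, Groth.Agent.MorLib.IdealFG.IsFG K ∧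
      (K.support : Set S) = ((A x).1 : Set S)ᶜ := by
    intro x
    let Z : Closeds S := ⟨((A x).1 : Set S)ᶜ, (A x).1.isOpen.isClosed_compl⟩
    let I' := Scheme.IdealSheafData.vanishingIdeal Z
    have hI' : I'.ideal (A x) = ⊤ := by
      show PrimeSpectrum.vanishingIdeal ((A x).2.fromSpec ⁻¹' ((A x).1 : Set S)ᶜ) = ⊤
      have : (A x).2.fromSpec ⁻¹' ((A x).1 : Set S)ᶜ = ∅ := by
        rw [Set.preimage_eq_empty_iff, (A x).2.range_fromSpec]
        exact disjoint_compl_left
      exact (congrArg (fun t => PrimeSpectrum.vanishingIdeal (R := Γ(S, (A x).1)) t) this).trans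
        PrimeSpectrum.vanishingIdeal_empty
    obtain ⟨K, hK, hfg, hUK⟩ :=
      Groth.Agent.MorLib.IdealFG.exists_fg_le I' (A x) ⊤ Module.Finite.fg_top hI'.ge
    refine ⟨K, hfg, Set.Subset.antisymm (fun z hz hzA => ?_) fun z hz =>
      (Scheme.IdealSheafData.le_support_iff_le_vanishingIdeal (Z := Z)).2 hK hz⟩
    have h0 : z ∈ S.zeroLocus (U := (A x).1) (K.ideal (A x) : Set Γ(S, (A x).1)) :=
      (Scheme.IdealSheafData.mem_support_iff_of_mem hzA).1 hz
    rw [Scheme.mem_zeroLocus_iff] at h0
    exact h0 1 (hUK Submodule.mem_top) (by rw [Scheme.basicOpen_of_isUnit _ isUnit_one]; exact hzA)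
  choose K hKfg hKsupp using hK
  let F : S.IdealSheafData := t.sup K
  have hFfg : Groth.Agent.MorLib.IdealFG.IsFG F :=
    Finset.sup_induction Groth.Agent.MorLib.IdealFG.isFG_bot
      (fun _ h _ h' => Groth.Agent.MorLib.IdealFG.isFG_sup h h') fun x _ => hKfg x
  have hKF : ∀ x ∈ t, K x ≤ F := fun x hx => Finset.le_sup hx
  have hFU : Disjoint (F.support : Set S) (ModPair.interior I : Set S) := by
    rw [Set.disjoint_left]
    intro z hz hzU
    obtain ⟨x, hx, hzx⟩ := Set.mem_iUnion₂.mp (ht hzU)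
    have h1 : z ∈ (K x).support := Scheme.IdealSheafData.support_antitone (hKF x hx) hz
    exact (hKsupp x).le h1 hzx
  obtain ⟨Y, b, hb⟩ := Groth.Agent.BlowUpLib.exists_blowUp F
  have hb1 : BlowUp.IsEffCartierIdeal (F.comap b) := hb.1
  -- near each point of the blow-up one member of the covering generates
  have key : ∀ y : Y, ∃ W : Y.affineOpens, y ∈ W.1 ∧ ∃ x, W.1 ⊓ b ⁻¹ᵁ ModPair.interior I ≤ b ⁻¹ᵁ (A x).1 := by
    intro y
    obtain ⟨W, hyW, e, he, hW⟩ := hb1 y
    let p := (W.2.primeIdealOf ⟨y, hyW⟩).asIdeal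
    obtain ⟨x, hx, a, ha, hap⟩ : ∃ x ∈ t, ∃ a ∈ ((K x).comap b).ideal W, a ∉ Ideal.span {e} * p := by
      by_contra hno
      push Not at hno
      have h1 : (F.comap b).ideal W ≤ Ideal.span {e} * p := by
        have h2 : ∀ s : Finset (ModPair.interior I : Set S), s ⊆ t →
            ((s.sup K).comap b).ideal W ≤ Ideal.span {e} * p := by
          intro s
          induction s using Finset.induction_on with
          | empty => intro _; simp
          | insert x s _ ih =>
            intro hs
            rw [Finset.sup_insert, Scheme.IdealSheafData.comap_sup, Scheme.IdealSheafData.ideal_sup,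
              Pi.sup_apply]
            exact sup_le (fun a ha => hno x (hs (Finset.mem_insert_self _ _)) a ha)
              (ih ((Finset.subset_insert _ _).trans hs))
        exact h2 t subset_rfl
      rw [hW] at h1
      obtain ⟨z, hz, hze⟩ := Ideal.mem_span_singleton_mul.mp (h1 (Ideal.mem_span_singleton_self e))
      have h3 : (z - 1) * e = 0 := by rw [sub_mul, one_mul, mul_comm, hze, sub_self]
      have h4 := sub_eq_zero.mp (mem_nonZeroDivisors_iff_right.mp he _ h3)
      exact (W.2.primeIdealOf ⟨y, hyW⟩).2.ne_top ((Ideal.eq_top_iff_one _).mpr (h4 ▸ hz))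
    have haE : a ∈ Ideal.span {e} := hW ▸ (Scheme.IdealSheafData.comap_mono b (hKF x hx)) W ha
    obtain ⟨u, rfl⟩ := Ideal.mem_span_singleton'.mp haE
    have hu : u ∉ p := fun hu => hap (Ideal.mem_span_singleton_mul.mpr ⟨u, hu, mul_comm _ _⟩)
    have hyu : y ∈ Y.basicOpen u := by
      have h5 : W.2.primeIdealOf ⟨y, hyW⟩ ∈ PrimeSpectrum.basicOpen u := hu
      have h7 : W.2.fromSpec (W.2.primeIdealOf ⟨y, hyW⟩) ∈ Y.basicOpen u := by
        show W.2.primeIdealOf ⟨y, hyW⟩ ∈ W.2.fromSpec ⁻¹ᵁ Y.basicOpen u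
        rw [W.2.fromSpec_preimage_basicOpen u]
        exact h5
      rwa [W.2.fromSpec_primeIdealOf ⟨y, hyW⟩] at h7
    refine ⟨⟨Y.basicOpen u, W.2.basicOpen u⟩, hyu, x, fun z hz => ?_⟩
    have hzW : z ∈ W.1 := Y.basicOpen_le u hz.1
    have hzF : z ∉ (F.comap b).support := fun h => by
      rw [Scheme.IdealSheafData.support_comap] at h
      exact Set.disjoint_left.mp hFU h hz.2
    have hze : z ∈ Y.basicOpen e := by
      by_contra hze
      refine hzF ((Scheme.IdealSheafData.mem_support_iff_of_mem hzW).2 ?_)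
      rw [hW, Scheme.zeroLocus_span, Scheme.mem_zeroLocus_iff]
      rintro f rfl
      exact hze
    show b z ∈ (A x).1
    by_contra hzA
    have hzK : z ∈ ((K x).comap b).support := by
      rw [Scheme.IdealSheafData.support_comap]
      exact (hKsupp x).ge hzA
    have h6 := (Scheme.IdealSheafData.mem_support_iff_of_mem hzW).1 hzK
    rw [Scheme.mem_zeroLocus_iff] at h6
    exact h6 _ ha (by rw [Scheme.basicOpen_mul]; exact ⟨hz.1, hze⟩)
  choose W hyW xW hW using key
  exact ⟨F, Y, b, Y, fun y => (W y).1, ⟨hFfg, hFU⟩, hb, ModPairLib.isEffCartier_comap_blowUp hb hI,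
    fun y => (W y).2.isCompact, eq_top_iff.mpr fun y _ => Opens.mem_iSup.mpr ⟨y, hyW y⟩,
    fun y => ⟨iA (xW y), (hW y).trans (fun z hz => hiA (xW y) hz)⟩⟩

end Groth.Agent.S19336
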