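import Groth.Statements.S19338
import Mathlib.CategoryTheory.Sites.Sheaf
import Mathlib.CategoryTheory.Types.Basic

set_option autoImplicit false
universe w v u
open CategoryTheory
open ModPair

namespace Groth.Agent.S19338

/-- Let C be a category and S a class of morphisms which contains the identities, is closed under
composition, admits a right calculus of fractions, and consists of monomorphisms. Then the sieves
containing a morphism of S are the covering sieves of a Grothendieck topology on C, and for every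
such topology J a presheaf of types F on C is a J-sheaf if and only if it is S-local, i.e. F sends
every morphism of S to a bijection. -/
theorem result {C : Type u} [Category.{v} C]
    (S : MorphismProperty C) [S.HasRightCalculusOfFractions]
    (hmono : ∀ ⦃X Y : C⦄ (s : X ⟶ Y), S s → Mono s) :
    (∃ J : GrothendieckTopology C, ∀ (X : C) (T : Sieve X),
        T ∈ J X ↔ ∃ (Y : C) (s : Y ⟶ X), S s ∧ T s) ∧
      ∀ J : GrothendieckTopology C, (∀ (X : C) (T : Sieve X),
          T ∈ J X ↔ ∃ (Y : C) (s : Y ⟶ X), S s ∧ T s) →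
        ∀ F : Cᵒᵖ ⥤ Type w,
          Presheaf.IsSheaf J F ↔ ∀ ⦃X Y : C⦄ (s : X ⟶ Y), S s → IsIso (F.map s.op) := by
  have hore : ∀ {X Y X' : C} (f : Y ⟶ X) (s : X' ⟶ X), S s →
      ∃ (Y' : C) (s' : Y' ⟶ Y) (f' : Y' ⟶ X'), S s' ∧ s' ≫ f = f' ≫ s := by
    intro X Y X' f s hs
    obtain ⟨ψ, hψ⟩ := MorphismProperty.HasRightCalculusOfFractions.exists_rightFraction
      (MorphismProperty.LeftFraction.mk (W := S) f s hs)
    exact ⟨_, ψ.s, ψ.f, ψ.hs, hψ⟩
  refine ⟨⟨{ sieves := fun X => {T | ∃ (Y : C) (s : Y ⟶ X), S s ∧ T s}, top_mem' := fun X => ⟨X, 𝟙 X, S.id_mem X, trivial⟩, pullback_stable' := ?_, transitive' := ?_ }, fun X T => Iff.rfl⟩, ?_⟩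
  · rintro X Y T f ⟨Z, s, hs, hTs⟩
    obtain ⟨Y', s', f', hs', hfac⟩ := hore f s hs
    exact ⟨Y', s', hs', show T (s' ≫ f) by rw [hfac]; exact T.downward_closed hTs _⟩
  · rintro X T ⟨Z, s, hs, hTs⟩ R h
    obtain ⟨W, t, ht, hRt⟩ := h hTs
    exact ⟨W, t ≫ s, S.comp_mem _ _ ht hs, hRt⟩
  intro J hJ F
  rw [isSheaf_iff_isSheaf_of_type]
  constructor
  · intro hF Y X s hs
    rw [isIso_iff_bijective]
    have hsh : Presieve.IsSheafFor F (Presieve.singleton s) := by
      rw [Presieve.isSheafFor_iff_generate]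
      exact hF _ ((hJ _ _).2 ⟨Y, s, hs, Sieve.le_generate _ _ _ (Presieve.singleton.mk)⟩)
    have hb : ∀ y : F.obj (Opposite.op Y), ∃! x, F.map s.op x = y := by
      intro y
      let fam : Presieve.FamilyOfElements F (Presieve.singleton s) := fun Z g hg =>
        F.map (eqToHom (show Z = Y by cases hg; rfl)).op y
      have hfam : fam.Compatible := by
        intro Y₁ Y₂ Z g₁ g₂ f₁ f₂ h₁ h₂ heq
        cases h₁; cases h₂
        haveI := hmono s hs
        rw [cancel_mono] at heq
        subst heq; rfl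
      obtain ⟨x, hx, hux⟩ := hsh fam hfam
      refine ⟨x, ?_, fun x' hx' => hux x' ?_⟩
      · have := hx s Presieve.singleton.mk
        simpa [fam] using this
      · intro Z g hg
        cases hg
        simpa [fam] using hx'
    exact ⟨fun a b hab => (hb (F.map s.op b)).unique hab rfl, fun y => (hb y).exists⟩
  · intro hF X T hT fam hfam
    obtain ⟨Y, s, hs, hTs⟩ := (hJ X T).1 hT
    have hbij := (isIso_iff_bijective _).1 (hF s hs)
    obtain ⟨x, hx⟩ := hbij.2 (fam s hTs)
    refine ⟨x, ?_, fun x' hx' => hbij.1 (by rw [hx]; exact hx' s hTs)⟩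
    intro Z g hg
    obtain ⟨Z', s', f', hs', hfac⟩ := hore g s hs
    refine ((isIso_iff_bijective _).1 (hF s' hs')).1 ?_
    rw [hfam s' f' hg hTs hfac, ← hx]
    simp only [← Functor.map_comp_apply, ← op_comp, hfac]

end Groth.Agent.S19338
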