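import Groth.Statements.S19340


set_option autoImplicit false
universe v v' u u'
open CategoryTheory
open ModPair

namespace Groth.Agent.S19340

/-- Let C be a category, S a class of morphisms of C containing the identities, closed under composition
and admitting a right calculus of fractions, and L : C ⥤ D a localization functor for S. Then for
every object X of C the comma category of L under X, whose objects are pairs (Y, L(X) ⟶ L(Y)) and
whose morphisms are morphisms Y ⟶ Y' of C compatible with the structure maps, is cofiltered. The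
published statement calls this category filtered; its proof verifies, and this row states,
cofilteredness. -/
theorem result {C : Type u}
    [Category.{v} C] {D : Type u'} [Category.{v'} D] (S : MorphismProperty C)
    [S.HasRightCalculusOfFractions] (L : C ⥤ D) [L.IsLocalization S] (X : C) :
    IsCofiltered (StructuredArrow (L.obj X) L) := by
  have hinv : S.IsInvertedBy L := Localization.inverts L S
  have hrep : ∀ a : StructuredArrow (L.obj X) L, ∃ (Z : C) (s : Z ⟶ X) (f : Z ⟶ a.right), S s ∧ L.map s ≫ a.hom = L.map f := by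
    intro a
    obtain ⟨φ, hφ⟩ := Localization.exists_rightFraction L S (X := X) (Y := a.right) a.hom
    exact ⟨_, φ.s, φ.f, φ.hs, by rw [hφ]; exact φ.map_s_comp_map L hinv⟩
  haveI : Nonempty (StructuredArrow (L.obj X) L) := ⟨StructuredArrow.mk (Y := X) (𝟙 _)⟩
  haveI : IsCofilteredOrEmpty (StructuredArrow (L.obj X) L) := by
    constructor
    · intro a b
      obtain ⟨Z₁, s₁, f₁, hs₁, e₁⟩ := hrep a
      obtain ⟨Z₂, s₂, f₂, hs₂, e₂⟩ := hrep b
      obtain ⟨ψ, hψ⟩ := MorphismProperty.HasRightCalculusOfFractions.exists_rightFraction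
        (MorphismProperty.LeftFraction.mk (W := S) s₁ s₂ hs₂)
      dsimp at hψ
      haveI := hinv _ (S.comp_mem _ _ ψ.hs hs₁)
      refine ⟨StructuredArrow.mk (inv (L.map (ψ.s ≫ s₁))), StructuredArrow.homMk (ψ.s ≫ f₁) ?_,
        StructuredArrow.homMk (ψ.f ≫ f₂) ?_, trivial⟩
      · change inv (L.map (ψ.s ≫ s₁)) ≫ L.map (ψ.s ≫ f₁) = a.hom
        rw [IsIso.inv_comp_eq]
        simp only [Functor.map_comp, Category.assoc, e₁]
      · change inv (L.map (ψ.s ≫ s₁)) ≫ L.map (ψ.f ≫ f₂) = b.hom
        rw [IsIso.inv_comp_eq]
        simp only [hψ, Functor.map_comp, Category.assoc, e₂]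
    · intro a b u v
      obtain ⟨Z, s, f, hs, e⟩ := hrep a
      have h : L.map (f ≫ u.right) = L.map (f ≫ v.right) := by
        rw [Functor.map_comp, Functor.map_comp, ← e, Category.assoc, Category.assoc, StructuredArrow.w u, StructuredArrow.w v]
      obtain ⟨Z', t, ht, hfac⟩ := (MorphismProperty.map_eq_iff_precomp L S _ _).1 h
      haveI := hinv _ (S.comp_mem _ _ ht hs)
      refine ⟨StructuredArrow.mk (inv (L.map (t ≫ s))), StructuredArrow.homMk (t ≫ f) ?_, ?_⟩
      · change inv (L.map (t ≫ s)) ≫ L.map (t ≫ f) = a.hom
        rw [IsIso.inv_comp_eq]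
        simp only [Functor.map_comp, Category.assoc, e]
      · apply StructuredArrow.ext
        simpa [Category.assoc] using hfac
  exact ⟨⟩

end Groth.Agent.S19340
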