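import Groth.Statements.S19343
import Groth.Agent.ModPairLocal.Et
-- import your own Groth.Agent.* helpers here

set_option autoImplicit false
universe u
open CategoryTheory CategoryTheory.Limits AlgebraicGeometry TopologicalSpace
open ModPair

namespace Groth.Agent.S19343

/-- Let P be a modulus pair (a scheme P̄ with the quasi-coherent ideal sheaf of an effective Cartier
divisor) whose total space P̄ is quasi-compact and quasi-separated. Then P is local both for étale
coverings of modulus pairs (for every pair X, every jointly surjective family of minimal morphisms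
U_i ⟶ X whose underlying morphisms are étale, quasi-compact and quasi-separated, and every morphism
of pairs P ⟶ X, the latter factors through some U_i) and for abstract admissible blow-ups (every P ⟶
X lifts along every abstract admissible blow-up Q ⟶ X) if and only if (1) P̄ is affine and A = Γ(P̄)
is a strictly henselian local ring, (2) the interior P° is affine and its ring of global sections is
a henselian local ring, and, writing p for the closed point of P° and 𝔮 ⊂ A for its prime ideal, (3)
A/𝔮 is a valuation ring which is strictly henselian and (4) the localisation map sends 𝔮 bijectively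
onto the maximal ideal of A_𝔮, i.e. A = A/𝔮 ×_{k(𝔮)} A_𝔮 and P̄ is the gluing of the closure of p to
P° along p. The published statement allows any modulus pair P; this row assumes the total space P̄
quasi-compact and quasi-separated. -/
theorem result (P : ModPair.Pair.{u})
    [CompactSpace P.total] [QuasiSeparatedSpace P.total] :
    ((∀ (X : ModPair.Pair.{u}) (ι : Type u) (U : ι → ModPair.Pair.{u}) (v : ∀ i, U i ⟶ X),
        (∀ i, ModPair.IsMinimal (U i).mod X.mod (v i).hom ∧ Etale (v i).hom ∧
          QuasiCompact (v i).hom ∧ QuasiSeparated (v i).hom) →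
        (∀ x : X.total, ∃ (i : ι) (y : (U i).total), (v i).hom.base y = x) →
        ∀ g : P ⟶ X, ∃ (i : ι) (h : P ⟶ U i), h ≫ v i = g) ∧
      (∀ (Q X : ModPair.Pair.{u}) (q : Q ⟶ X), ModPair.Pair.admBlowup q →
        ∀ g : P ⟶ X, ∃ h : P ⟶ Q, h ≫ q = g)) ↔
    (IsAffine P.total ∧ EtCoh.IsStrictlyHenselianLocalRing Γ(P.total, ⊤) ∧
      IsAffine (ModPair.interior P.mod : Scheme.{u}) ∧
      HenselianLocalRing Γ((ModPair.interior P.mod : Scheme.{u}), ⊤) ∧
      ∀ p : (ModPair.interior P.mod : Scheme.{u}),
        IsClosed ({p} : Set (ModPair.interior P.mod : Scheme.{u})) →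
          ValuationRing (Γ(P.total, ⊤) ⧸ (P.total.toSpecΓ.base ((ModPair.interior P.mod).ι.base p)).asIdeal) ∧
          EtCoh.IsStrictlyHenselianLocalRing (Γ(P.total, ⊤) ⧸ (P.total.toSpecΓ.base ((ModPair.interior P.mod).ι.base p)).asIdeal) ∧
          Set.BijOn (algebraMap Γ(P.total, ⊤) (Localization.AtPrime (P.total.toSpecΓ.base ((ModPair.interior P.mod).ι.base p)).asIdeal))
            ((P.total.toSpecΓ.base ((ModPair.interior P.mod).ι.base p)).asIdeal : Set Γ(P.total, ⊤))
            (IsLocalRing.maximalIdeal (Localization.AtPrime (P.total.toSpecΓ.base ((ModPair.interior P.mod).ι.base p)).asIdeal) :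
              Set (Localization.AtPrime (P.total.toSpecΓ.base ((ModPair.interior P.mod).ι.base p)).asIdeal))) := by
  constructor
  · rintro ⟨he, hadm⟩
    have hloc : ModPairLocal.LocCov ModPairLocal.EtQ P := fun X ι U v hv =>
      he X ι U v fun i => ⟨(hv i).1, (hv i).2.1.1, (hv i).2.1.2, (hv i).2.2⟩
    obtain ⟨_, _⟩ := ModPairLocal.affine_local P (hloc.mono ModPairLocal.le_EtQ)
    obtain ⟨_, _, hV, hB⟩ := ModPairLocal.LocAdm.interior_facts P hadm
    have hA := ModPairLocal.strictlyHenselian_of_locCov P hloc
    haveI : HenselianLocalRing Γ(P.total, ⊤) := hA.choose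
    letI := ModPairLocal.intAlg P
    refine ⟨inferInstance, hA, inferInstance,
      ModPairLocal.henselianLocalRing_of_surjOn (ModPairLocal.primeB (A := Γ(P.total, ⊤)) (ModPairLocal.intRing P))
        (Ideal.IsPrime.ne_top inferInstance) hB.surjOn, ?_⟩
    have h := (ModPairLocal.condition_iff P fun q => ∀ [q.IsPrime], ValuationRing (Γ(P.total, ⊤) ⧸ q) ∧
      EtCoh.IsStrictlyHenselianLocalRing (Γ(P.total, ⊤) ⧸ q) ∧
      Set.BijOn (algebraMap Γ(P.total, ⊤) (Localization.AtPrime q)) (q : Set Γ(P.total, ⊤))
        (IsLocalRing.maximalIdeal (Localization.AtPrime q) : Set (Localization.AtPrime q))).2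
      (@fun _ => ⟨hV, ModPairLocal.strictlyHenselian_quotient hA _ (Ideal.IsPrime.ne_top inferInstance),
        (ModPairLocal.bijOn_localization_iff P).2 hB⟩)
    exact fun p hp => h p hp
  · rintro ⟨_, hA, _, hHB, hcond⟩
    haveI : HenselianLocalRing Γ(P.total, ⊤) := hA.choose
    haveI : IsLocalRing (ModPairLocal.intRing P) := hHB.toIsLocalRing
    have h := (ModPairLocal.condition_iff P fun q => ∀ [q.IsPrime], ValuationRing (Γ(P.total, ⊤) ⧸ q) ∧
      EtCoh.IsStrictlyHenselianLocalRing (Γ(P.total, ⊤) ⧸ q) ∧
      Set.BijOn (algebraMap Γ(P.total, ⊤) (Localization.AtPrime q)) (q : Set Γ(P.total, ⊤))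
        (IsLocalRing.maximalIdeal (Localization.AtPrime q) : Set (Localization.AtPrime q))).1
      (fun p hp => @fun _ => hcond p hp)
    exact ⟨fun X ι U v hv => ModPairLocal.locCov_of_strictlyHenselian P hA X ι U v
        fun i => ⟨(hv i).1, ⟨(hv i).2.1, (hv i).2.2.1⟩, (hv i).2.2.2⟩,
      ModPairLocal.locAdm_of_shape P h.1 h.2.2⟩

end Groth.Agent.S19343
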