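import Groth.Statements.S19344
import Groth.Agent.ModPairLocal.Fppf
-- import your own Groth.Agent.* helpers here

set_option autoImplicit false
universe u
open CategoryTheory CategoryTheory.Limits AlgebraicGeometry TopologicalSpace
open ModPair

namespace Groth.Agent.S19344

/-- Let P be a modulus pair (a scheme P̄ with the quasi-coherent ideal sheaf of an effective Cartier
divisor) whose total space P̄ is quasi-compact and quasi-separated. Call a scheme T fppf-local when
for every scheme X, every jointly surjective family of morphisms to X that are flat and of finite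
presentation (locally of finite presentation, quasi-compact, quasi-separated) and every T ⟶ X, the
latter factors through a member of the family. Then P is local both for fppf coverings of modulus
pairs (families of minimal morphisms U_i ⟶ X whose underlying morphisms form such a family, with the
same factorisation property for morphisms of pairs P ⟶ X) and for abstract admissible blow-ups
(every P ⟶ X lifts along every abstract admissible blow-up Q ⟶ X) if and only if (1) P̄ is
fppf-local, (2) the interior P° is fppf-local, (3) P° is affine with local ring of global sections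
and, writing p for its closed point and 𝔮 ⊂ A = Γ(P̄) for the prime ideal of p, the ring A/𝔮 is a
valuation ring with algebraically closed fraction field, and (4) the localisation map sends 𝔮
bijectively onto the maximal ideal of A_𝔮, i.e. A = A/𝔮 ×_{k(𝔮)} A_𝔮 and P̄ is the gluing of the
closure of p to P° along p. (The affine-local clause in (3) is a consequence of (2) and only serves
to name p.) The published statement allows any modulus pair P; this row assumes the total space P̄
quasi-compact and quasi-separated. -/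
theorem result (P : ModPair.Pair.{u})
    [CompactSpace P.total] [QuasiSeparatedSpace P.total] :
    ((∀ (X : ModPair.Pair.{u}) (ι : Type u) (U : ι → ModPair.Pair.{u}) (v : ∀ i, U i ⟶ X),
        (∀ i, ModPair.IsMinimal (U i).mod X.mod (v i).hom ∧ Flat (v i).hom ∧
          LocallyOfFinitePresentation (v i).hom ∧ QuasiCompact (v i).hom ∧
          QuasiSeparated (v i).hom) →
        (∀ x : X.total, ∃ (i : ι) (y : (U i).total), (v i).hom.base y = x) →
        ∀ g : P ⟶ X, ∃ (i : ι) (h : P ⟶ U i), h ≫ v i = g) ∧
      (∀ (Q X : ModPair.Pair.{u}) (q : Q ⟶ X), ModPair.Pair.admBlowup q →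
        ∀ g : P ⟶ X, ∃ h : P ⟶ Q, h ≫ q = g)) ↔
    ((∀ (X : Scheme.{u}) (R : Presieve X), R ∈ Scheme.precoverage (@Flat ⊓ @LocallyOfFinitePresentation ⊓ @QuasiCompact ⊓ @QuasiSeparated) X →
        ∀ g : P.total ⟶ X, ∃ (Y : Scheme.{u}) (w : Y ⟶ X) (h : P.total ⟶ Y), R w ∧ h ≫ w = g) ∧
      (∀ (X : Scheme.{u}) (R : Presieve X), R ∈ Scheme.precoverage (@Flat ⊓ @LocallyOfFinitePresentation ⊓ @QuasiCompact ⊓ @QuasiSeparated) X →
        ∀ g : (ModPair.interior P.mod : Scheme.{u}) ⟶ X, ∃ (Y : Scheme.{u}) (w : Y ⟶ X) (h : (ModPair.interior P.mod : Scheme.{u}) ⟶ Y), R w ∧ h ≫ w = g) ∧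
      IsAffine (ModPair.interior P.mod : Scheme.{u}) ∧
      IsLocalRing Γ((ModPair.interior P.mod : Scheme.{u}), ⊤) ∧
      ∀ p : (ModPair.interior P.mod : Scheme.{u}),
        IsClosed ({p} : Set (ModPair.interior P.mod : Scheme.{u})) →
          ValuationRing (Γ(P.total, ⊤) ⧸ (P.total.toSpecΓ.base ((ModPair.interior P.mod).ι.base p)).asIdeal) ∧
          IsAlgClosed (FractionRing (Γ(P.total, ⊤) ⧸ (P.total.toSpecΓ.base ((ModPair.interior P.mod).ι.base p)).asIdeal)) ∧
          Set.BijOn (algebraMap Γ(P.total, ⊤) (Localization.AtPrime (P.total.toSpecΓ.base ((ModPair.interior P.mod).ι.base p)).asIdeal))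
            ((P.total.toSpecΓ.base ((ModPair.interior P.mod).ι.base p)).asIdeal : Set Γ(P.total, ⊤))
            (IsLocalRing.maximalIdeal (Localization.AtPrime (P.total.toSpecΓ.base ((ModPair.interior P.mod).ι.base p)).asIdeal) :
              Set (Localization.AtPrime (P.total.toSpecΓ.base ((ModPair.interior P.mod).ι.base p)).asIdeal))) := by
  constructor
  · rintro ⟨hf, hadm⟩
    have hloc : ModPairLocal.LocCov ModPairLocal.FppfQ P := fun X ι U v hv =>
      hf X ι U v fun i => ⟨(hv i).1, (hv i).2.1.1.1, (hv i).2.1.1.2, (hv i).2.1.2, (hv i).2.2⟩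
    obtain ⟨_, _⟩ := ModPairLocal.affine_local P
      ((hloc.mono ModPairLocal.EtQ_le_FppfQ).mono ModPairLocal.le_EtQ)
    obtain ⟨_, _, hV, hB⟩ := ModPairLocal.LocAdm.interior_facts P hadm
    have hA := ModPairLocal.strictlyHenselian_of_locCov P (hloc.mono ModPairLocal.EtQ_le_FppfQ)
    haveI : HenselianLocalRing Γ(P.total, ⊤) := hA.choose
    letI := ModPairLocal.intAlg P
    haveI := ModPairLocal.henselianLocalRing_of_surjOn (B := ModPairLocal.intRing P)
      (ModPairLocal.primeB (A := Γ(P.total, ⊤)) (ModPairLocal.intRing P))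
      (Ideal.IsPrime.ne_top inferInstance) hB.surjOn
    refine ⟨hloc.presieve, ModPairLocal.interior_fppfLocal P hloc, inferInstance, inferInstance, ?_⟩
    have h := (ModPairLocal.condition_iff P fun q => ∀ [q.IsPrime], ValuationRing (Γ(P.total, ⊤) ⧸ q) ∧
      IsAlgClosed (FractionRing (Γ(P.total, ⊤) ⧸ q)) ∧
      Set.BijOn (algebraMap Γ(P.total, ⊤) (Localization.AtPrime q)) (q : Set Γ(P.total, ⊤))
        (IsLocalRing.maximalIdeal (Localization.AtPrime q) : Set (Localization.AtPrime q))).2
      (@fun _ => ⟨hV, ModPairLocal.isAlgClosed_fractionRing_quotient P hloc _,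
        (ModPairLocal.bijOn_localization_iff P).2 hB⟩)
    exact fun p hp => h p hp
  · rintro ⟨h1, -, _, hlB, hcond⟩
    have hloc : ModPairLocal.LocCov ModPairLocal.FppfQ P := ModPairLocal.locCov_of_scheme h1
    obtain ⟨_, _⟩ := ModPairLocal.affine_local P
      ((hloc.mono ModPairLocal.EtQ_le_FppfQ).mono ModPairLocal.le_EtQ)
    haveI : IsLocalRing (ModPairLocal.intRing P) := hlB
    have h := (ModPairLocal.condition_iff P fun q => ∀ [q.IsPrime], ValuationRing (Γ(P.total, ⊤) ⧸ q) ∧
      IsAlgClosed (FractionRing (Γ(P.total, ⊤) ⧸ q)) ∧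
      Set.BijOn (algebraMap Γ(P.total, ⊤) (Localization.AtPrime q)) (q : Set Γ(P.total, ⊤))
        (IsLocalRing.maximalIdeal (Localization.AtPrime q) : Set (Localization.AtPrime q))).1
      (fun p hp => @fun _ => hcond p hp)
    exact ⟨fun X ι U v hv => hloc X ι U v
        fun i => ⟨(hv i).1, ⟨⟨(hv i).2.1, (hv i).2.2.1⟩, (hv i).2.2.2.1⟩, (hv i).2.2.2.2⟩,
      ModPairLocal.locAdm_of_shape P h.1 h.2.2⟩

end Groth.Agent.S19344
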