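import Groth.Statements.S19346
import Groth.Agent.ModPairLocal.AIC
-- import your own Groth.Agent.* helpers here

set_option autoImplicit false
universe u
open CategoryTheory CategoryTheory.Limits AlgebraicGeometry TopologicalSpace
open ModPair

namespace Groth.Agent.S19346

/-- Let P be a modulus pair (a scheme P̄ with the quasi-coherent ideal sheaf of an effective Cartier
divisor) whose total space P̄ is quasi-compact and quasi-separated. Then P is local for Zariski
coverings of modulus pairs (jointly surjective families of minimal morphisms U_i ⟶ X whose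
underlying morphisms are quasi-compact open immersions: every morphism of pairs P ⟶ X factors
through some U_i), for finite coverings of modulus pairs (the same with finite underlying morphisms)
— locality for both kinds being locality for the rqfh coverings, their finite composites — and for
abstract admissible blow-ups (every P ⟶ X lifts along every abstract admissible blow-up Q ⟶ X) if
and only if (1) P̄ is affine and A = Γ(P̄) is a local integral domain in which every monic
polynomial of positive degree has a root, (2) the interior P° is affine and Γ(P°) is likewise a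
local integral domain in which every monic polynomial of positive degree has a root, and, writing p
for the closed point of P° and 𝔮 ⊂ A for its prime ideal, (3) A/𝔮 is a valuation ring with
algebraically closed fraction field and (4) the localisation map sends 𝔮 bijectively onto the
maximal ideal of A_𝔮, i.e. A = A/𝔮 ×_{k(𝔮)} A_𝔮 and P̄ is the gluing of the closure of p to P° along
p. The published statement allows any modulus pair P; this row assumes the total space P̄
quasi-compact and quasi-separated. -/
theorem result (P : ModPair.Pair.{u})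
    [CompactSpace P.total] [QuasiSeparatedSpace P.total] :
    ((∀ (X : ModPair.Pair.{u}) (ι : Type u) (U : ι → ModPair.Pair.{u}) (v : ∀ i, U i ⟶ X),
        (∀ i, ModPair.IsMinimal (U i).mod X.mod (v i).hom ∧ IsOpenImmersion (v i).hom ∧ QuasiCompact (v i).hom) →
        (∀ x : X.total, ∃ (i : ι) (y : (U i).total), (v i).hom.base y = x) →
        ∀ g : P ⟶ X, ∃ (i : ι) (h : P ⟶ U i), h ≫ v i = g) ∧
      (∀ (X : ModPair.Pair.{u}) (ι : Type u) (U : ι → ModPair.Pair.{u}) (v : ∀ i, U i ⟶ X),
        (∀ i, ModPair.IsMinimal (U i).mod X.mod (v i).hom ∧ IsFinite (v i).hom) →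
        (∀ x : X.total, ∃ (i : ι) (y : (U i).total), (v i).hom.base y = x) →
        ∀ g : P ⟶ X, ∃ (i : ι) (h : P ⟶ U i), h ≫ v i = g) ∧
      (∀ (Q : ModPair.Pair.{u}) (X : ModPair.Pair.{u}) (q : Q ⟶ X), ModPair.Pair.admBlowup q →
        ∀ g : P ⟶ X, ∃ h : P ⟶ Q, h ≫ q = g)) ↔
    (IsAffine P.total ∧ IsLocalRing Γ(P.total, ⊤) ∧ IsDomain Γ(P.total, ⊤) ∧
      Curves.IsAIC Γ(P.total, ⊤) ∧
      IsAffine (ModPair.interior P.mod : Scheme.{u}) ∧
      IsLocalRing Γ((ModPair.interior P.mod : Scheme.{u}), ⊤) ∧
      IsDomain Γ((ModPair.interior P.mod : Scheme.{u}), ⊤) ∧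
      Curves.IsAIC Γ((ModPair.interior P.mod : Scheme.{u}), ⊤) ∧
      ∀ p : (ModPair.interior P.mod : Scheme.{u}),
        IsClosed ({p} : Set (ModPair.interior P.mod : Scheme.{u})) →
          ValuationRing (Γ(P.total, ⊤) ⧸ (P.total.toSpecΓ.base ((ModPair.interior P.mod).ι.base p)).asIdeal) ∧
          IsAlgClosed (FractionRing (Γ(P.total, ⊤) ⧸ (P.total.toSpecΓ.base ((ModPair.interior P.mod).ι.base p)).asIdeal)) ∧
          Set.BijOn (algebraMap Γ(P.total, ⊤) (Localization.AtPrime (P.total.toSpecΓ.base ((ModPair.interior P.mod).ι.base p)).asIdeal))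
            ((P.total.toSpecΓ.base ((ModPair.interior P.mod).ι.base p)).asIdeal : Set Γ(P.total, ⊤))
            (IsLocalRing.maximalIdeal (Localization.AtPrime (P.total.toSpecΓ.base ((ModPair.interior P.mod).ι.base p)).asIdeal) :
              Set (Localization.AtPrime (P.total.toSpecΓ.base ((ModPair.interior P.mod).ι.base p)).asIdeal))) := by
  constructor
  · rintro ⟨hz, hf, hadm⟩
    have hzl : ModPairLocal.LocCov (@IsOpenImmersion ⊓ @QuasiCompact) P := fun X ι U v hv => hz X ι U v hv
    have hfl : ModPairLocal.LocCov @IsFinite P := fun X ι U v hv => hf X ι U v hv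
    obtain ⟨_, _, _, haic⟩ := (S19345.result P.total).1 ⟨hzl.presieve, hfl.presieve⟩
    obtain ⟨_, _, hV, hB⟩ := ModPairLocal.LocAdm.interior_facts P hadm
    obtain ⟨hdB, haB⟩ := ModPairLocal.intRing_facts P haic
    refine ⟨inferInstance, inferInstance, inferInstance, haic, inferInstance, inferInstance, hdB, haB, ?_⟩
    have h := (ModPairLocal.condition_iff P fun q => ∀ [q.IsPrime], ValuationRing (Γ(P.total, ⊤) ⧸ q) ∧
      IsAlgClosed (FractionRing (Γ(P.total, ⊤) ⧸ q)) ∧
      Set.BijOn (algebraMap Γ(P.total, ⊤) (Localization.AtPrime q)) (q : Set Γ(P.total, ⊤))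
        (IsLocalRing.maximalIdeal (Localization.AtPrime q) : Set (Localization.AtPrime q))).2
      (@fun _ => ⟨hV, ModPairLocal.isAlgClosed_fractionRing (ModPairLocal.isAIC_quotient haic _),
        (ModPairLocal.bijOn_localization_iff P).2 hB⟩)
    exact fun p hp => h p hp
  · rintro ⟨_, _, _, haic, _, hlB, -, -, hcond⟩
    haveI : IsLocalRing (ModPairLocal.intRing P) := hlB
    have h := (ModPairLocal.condition_iff P fun q => ∀ [q.IsPrime], ValuationRing (Γ(P.total, ⊤) ⧸ q) ∧
      IsAlgClosed (FractionRing (Γ(P.total, ⊤) ⧸ q)) ∧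
      Set.BijOn (algebraMap Γ(P.total, ⊤) (Localization.AtPrime q)) (q : Set Γ(P.total, ⊤))
        (IsLocalRing.maximalIdeal (Localization.AtPrime q) : Set (Localization.AtPrime q))).1
      (fun p hp => @fun _ => hcond p hp)
    exact ⟨fun X ι U v hv => ModPairLocal.locCov_openImmersion P X ι U v hv,
      fun X ι U v hv => ModPairLocal.locCov_finite P haic X ι U v hv,
      ModPairLocal.locAdm_of_shape P h.1 h.2.2⟩

end Groth.Agent.S19346
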