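import Groth.Statements.S19352
import Groth.Agent.Lib.SurfHodge
import Groth.Agent.HilbPoly.EllSimple
import Groth.Agent.CurveCohLib.RegularCurve
import Groth.Agent.CurveCohLib.SmoothCurve
import Groth.Agent.PnCoh.Chow.Proper

set_option autoImplicit false
set_option backward.isDefEq.respectTransparency false
set_option backward.isDefEq.respectTransparency.types false
set_option linter.style.haveILetI false
set_option linter.unusedSectionVars false
set_option maxHeartbeats 400000
universe u
open CategoryTheory CategoryTheory.Limits AlgebraicGeometry
open Surf

namespace Groth.Agent.S19352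

open Groth.Agent.H23
set_option maxHeartbeats 800000

/-- Let k be an algebraically closed field and X a nonsingular projective surface over k, namely an
integral scheme, smooth over k, of dimension two, given with a closed immersion ι into a projective
space P^n_k over k, and let H = ι^* O(1) be the invertible module of a hyperplane section. If L is
an invertible O_X-module (the module of a divisor D) with dim_k H^0(X, L) > 1, then (L·H) > 0. Here
(A·B) denotes the intersection number of two invertible modules, the alternating sum χ(O_X) − χ(A) −
χ(B) + χ(A ⊗ B) of Euler characteristics (cohomology in degrees at most two); for two invertible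
modules this agrees with the same sum formed from their inverses. -/
theorem result (k : Type u) [Field k] [IsAlgClosed k]
    (X : Scheme.{u}) [X.Over (Spec (CommRingCat.of k))] [AlgebraicGeometry.IsIntegral X]
    [Smooth (X ↘ Spec (CommRingCat.of k))] (hdim : topologicalKrullDim X = 2)
    (n : ℕ) (ι : X ⟶ CohB1.ProjSpace n k) [IsClosedImmersion ι]
    (hι : ι ≫ CohB1.ProjSpace.toSpec n k = X ↘ Spec (CommRingCat.of k))
    (L : X.Modules) (hL : PicF.IsInvertible L)
    (hsec : 1 < Module.finrank k (Coh.HH X L 0)) :
    0 < FGA.intNum k X 2 ![L, (Scheme.Modules.pullback ι).obj (Twist.twistProjSpace n k 1)] (Coh.structureModule X) := by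
  letI := PicMul.clMonoid (X := X)
  haveI := PnCoh.Chow.isProper_toSpec n k
  haveI : IsProper (X ↘ Spec (CommRingCat.of k)) := hι ▸ inferInstance
  have hH := HilbPoly.isAmple_pullback_pn (k := k) ι
  rw [SurfPairing.intNum_eq_pair k hdim.le hL hH.1]
  obtain ⟨s, hs, hne⟩ := CurveAmple.exists_section_locus_ne_top (k := k) hL hsec
  exact SurfAmple.pair_pos (k := k) hdim (SurfHodge.regular k) hL hH hs hne

end Groth.Agent.S19352
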