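import Groth.Statements.S19355
import Groth.Agent.CastSev.Basic

set_option autoImplicit false
universe u
open CategoryTheory AlgebraicGeometry Limits
open Zeta

set_option backward.isDefEq.respectTransparency false
set_option backward.isDefEq.respectTransparency.types false

namespace Groth.Agent.S19355

open Groth.Agent Groth.Agent.H23
attribute [local instance] PicMul.clMonoid

/-- Let C₁ and C₂ be smooth proper integral curves over an algebraically closed field k and S = C₁ × C₂,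
with the curves C₁ × pt and pt × C₂ realised as sections i₁ : C₁ → S and i₂ : C₂ → S through
k-rational points, pinned by their composites with the two projections. For divisors D, D' on S,
given as invertible modules L, L' with inverses M, M', write d₁, d₂ for the degrees of L along i₁,
i₂ (and d₁', d₂' for L'), (D·D') for the intersection number of M, M' with O_S (alternating sum of
Euler characteristics, cohomology up to degree two) and def(D) = 2 d₁ d₂ − (D·D) for the equivalence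
defect. Then ((D·D') − d₁ d₂' − d₂ d₁')² ≤ def(D)·def(D'), i.e. the absolute value of (D·D') − d₁
d₂' − d₂ d₁' is at most the square root of def(D) def(D') (both defects being non-negative by the
Castelnuovo–Severi inequality). -/
theorem result (k : Type u) [Field k]
    [IsAlgClosed k] (C₁ C₂ : Scheme.{u}) [C₁.Over (Spec (CommRingCat.of k))]
    [C₂.Over (Spec (CommRingCat.of k))]
    (h₁ : Curve.IsSmoothProperCurve k C₁ (C₁ ↘ Spec (CommRingCat.of k)))
    (h₂ : Curve.IsSmoothProperCurve k C₂ (C₂ ↘ Spec (CommRingCat.of k)))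
    (x : Spec (CommRingCat.of k) ⟶ C₁) (hx : x ≫ (C₁ ↘ Spec (CommRingCat.of k)) = 𝟙 _)
    (y : Spec (CommRingCat.of k) ⟶ C₂) (hy : y ≫ (C₂ ↘ Spec (CommRingCat.of k)) = 𝟙 _)
    (i₁ : C₁ ⟶ pullback (C₁ ↘ Spec (CommRingCat.of k)) (C₂ ↘ Spec (CommRingCat.of k)))
    (hi₁ : i₁ ≫ pullback.fst _ _ = 𝟙 C₁ ∧ i₁ ≫ pullback.snd _ _ = (C₁ ↘ Spec (CommRingCat.of k)) ≫ y)
    (i₂ : C₂ ⟶ pullback (C₁ ↘ Spec (CommRingCat.of k)) (C₂ ↘ Spec (CommRingCat.of k)))
    (hi₂ : i₂ ≫ pullback.snd _ _ = 𝟙 C₂ ∧ i₂ ≫ pullback.fst _ _ = (C₂ ↘ Spec (CommRingCat.of k)) ≫ x)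
    (L M L' M' : (pullback (C₁ ↘ Spec (CommRingCat.of k)) (C₂ ↘ Spec (CommRingCat.of k))).Modules)
    (hL : PicF.IsInvertible L) (hM : Nonempty (CohB1.tensorMod L M ≅ Coh.structureModule _))
    (hL' : PicF.IsInvertible L') (hM' : Nonempty (CohB1.tensorMod L' M' ≅ Coh.structureModule _)) :
    letI : (pullback (C₁ ↘ Spec (CommRingCat.of k)) (C₂ ↘ Spec (CommRingCat.of k))).Over
        (Spec (CommRingCat.of k)) := ⟨pullback.fst _ _ ≫ (C₁ ↘ Spec (CommRingCat.of k))⟩
    (FGA.intNum k (pullback (C₁ ↘ Spec (CommRingCat.of k)) (C₂ ↘ Spec (CommRingCat.of k))) 2 ![M, M'] (Coh.structureModule _)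
        - Curv2.deg k C₁ ((Scheme.Modules.pullback i₁).obj L) 1
            * Curv2.deg k C₂ ((Scheme.Modules.pullback i₂).obj L') 1
        - Curv2.deg k C₂ ((Scheme.Modules.pullback i₂).obj L) 1
            * Curv2.deg k C₁ ((Scheme.Modules.pullback i₁).obj L') 1) ^ 2 ≤
      (2 * Curv2.deg k C₁ ((Scheme.Modules.pullback i₁).obj L) 1
            * Curv2.deg k C₂ ((Scheme.Modules.pullback i₂).obj L) 1
          - FGA.intNum k (pullback (C₁ ↘ Spec (CommRingCat.of k)) (C₂ ↘ Spec (CommRingCat.of k))) 2 ![M, M] (Coh.structureModule _))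
        * (2 * Curv2.deg k C₁ ((Scheme.Modules.pullback i₁).obj L') 1
            * Curv2.deg k C₂ ((Scheme.Modules.pullback i₂).obj L') 1
          - FGA.intNum k (pullback (C₁ ↘ Spec (CommRingCat.of k)) (C₂ ↘ Spec (CommRingCat.of k))) 2 ![M', M'] (Coh.structureModule _)) := by
  letI : (pullback (C₁ ↘ Spec (CommRingCat.of k)) (C₂ ↘ Spec (CommRingCat.of k))).Over
      (Spec (CommRingCat.of k)) := ⟨pullback.fst _ _ ≫ (C₁ ↘ Spec (CommRingCat.of k))⟩
  obtain ⟨hP, hS, hI, hdim, A₁, A₂, hA₁, hA₂, h11, h22, h12, hdeg⟩ :=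
    CastSev.exists_fibre_classes k h₁ h₂ x hx y hy i₁ hi₁ i₂ hi₂
  haveI := hP
  haveI := hS
  haveI := hI
  obtain ⟨hMi, hc⟩ := CurveOnSurf.isInvertible_of_inverse (L := M) (I := L) hL
    ⟨(PicMul.comm M L).some ≪≫ hM.some⟩
  obtain ⟨hMi', hc'⟩ := CurveOnSurf.isInvertible_of_inverse (L := M') (I := L') hL'
    ⟨(PicMul.comm M' L').some ≪≫ hM'.some⟩
  have inv_pair : ∀ {L M L' M' : (pullback (C₁ ↘ Spec (CommRingCat.of k)) (C₂ ↘ Spec (CommRingCat.of k))).Modules},
      PicF.IsInvertible L → PicF.IsInvertible M → PicF.IsInvertible L' → PicF.IsInvertible M' →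
      PicF.cl M * PicF.cl L = 1 → PicF.cl M' * PicF.cl L' = 1 →
      SurfPairing.pair k (PicF.cl M) (PicF.cl M') = SurfPairing.pair k (PicF.cl L) (PicF.cl L') := by
    intro L M L' M' hL hM hL' hM' h h'
    rw [SurfPairing.pair_inv k hdim.le hM hL' hM' ((mul_comm _ _).trans h'), SurfPairing.pair_comm,
      SurfPairing.pair_inv k hdim.le hL' hL hM ((mul_comm _ _).trans h), neg_neg, SurfPairing.pair_comm]
  rw [SurfPairing.intNum_eq_pair k hdim.le hMi hMi', SurfPairing.intNum_eq_pair k hdim.le hMi hMi,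
    SurfPairing.intNum_eq_pair k hdim.le hMi' hMi', inv_pair hL hMi hL' hMi' hc hc',
    inv_pair hL hMi hL hMi hc hc, inv_pair hL' hMi' hL' hMi' hc' hc', (hdeg hL).1, (hdeg hL).2, (hdeg hL').1,
    (hdeg hL').2]
  have h := CastSev.defect_cauchy k hdim hA₁ hA₂ h11 h22 h12 hL hL'
  ring_nf at h ⊢
  exact h

end Groth.Agent.S19355
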