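import Groth.Statements.S19356
import Groth.Agent.H23.PosInvSOS

set_option autoImplicit false
universe u
open AbVar

namespace Groth.Agent.S19356

/-- Let R be a finite-dimensional ℚ-algebra with a ℚ-linear involution x ↦ x† (an anti-automorphism of
order two) and a ℚ-linear functional σ with σ(x x†) > 0 for every x ≠ 0; this is the positivity of
the involution, σ being the trace of R over ℚ in the case of the endomorphism algebra of an abelian
variety with a Rosati involution, and the trace on a cohomology group in the case of an algebra of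
correspondences with the adjoint for a Weil form. Let α ∈ R with α α† = q for a rational number q.
Then α† lies in the subalgebra ℚ[α], and for every ℚ-algebra homomorphism ρ : ℚ[α] → ℂ one has ρ(α†)
= the complex conjugate of ρ(α) and |ρ(α)|² = q. (The published statement is for the endomorphism
algebra of an abelian variety with a Rosati involution, with σ its trace over ℚ and q an integer;
the form given here, for an arbitrary ℚ-linear functional σ positive on every x x† with x ≠ 0 and
rational q, is what its proof establishes.) -/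
theorem result (R : Type u) [Ring R] [Algebra ℚ R]
    [Module.Finite ℚ R] [StarRing R] [StarModule ℚ R]
    (σ : R →ₗ[ℚ] ℚ) (hpos : ∀ x : R, x ≠ 0 → 0 < σ (x * star x))
    (α : R) (q : ℚ) (hα : α * star α = algebraMap ℚ R q) :
    ∃ hmem : star α ∈ Algebra.adjoin ℚ ({α} : Set R),
      ∀ ρ : Algebra.adjoin ℚ ({α} : Set R) →ₐ[ℚ] ℂ,
        ρ ⟨star α, hmem⟩ = starRingEnd ℂ (ρ ⟨α, Algebra.self_mem_adjoin_singleton ℚ α⟩) ∧
          ‖ρ ⟨α, Algebra.self_mem_adjoin_singleton ℚ α⟩‖ ^ 2 = (q : ℝ) := by
  have hmem : star α ∈ Algebra.adjoin ℚ ({α} : Set R) := by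
    by_cases hq : q = 0
    · have : α = 0 := Groth.Agent.H23.PosInv.eq_zero_of_sigma σ hpos (by rw [hα, hq, map_zero, map_zero])
      rw [this, star_zero]; exact Subalgebra.zero_mem _
    · have hr : α * (q⁻¹ • star α) = 1 := by
        rw [mul_smul_comm, hα, Algebra.smul_def, ← map_mul, inv_mul_cancel₀ hq, map_one]
      have : IsArtinianRing R := .of_finite ℚ R
      have hl : (q⁻¹ • star α) * α = 1 := mul_eq_one_comm.mp hr
      let A := Algebra.adjoin ℚ ({α} : Set R)
      let a : A := ⟨α, Algebra.self_mem_adjoin_singleton ℚ α⟩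
      have hinj : Function.Injective (LinearMap.mulLeft ℚ a) := by
        intro u v huv
        apply Subtype.ext
        have h : α * (u : R) = α * (v : R) := congrArg Subtype.val huv
        rw [← one_mul (u : R), ← hl, mul_assoc, h, ← mul_assoc, hl, one_mul]
      obtain ⟨b, hb⟩ := LinearMap.injective_iff_surjective.mp hinj 1
      have hb' : α * (b : R) = 1 := congrArg Subtype.val hb
      have h : q⁻¹ • star α = (b : R) := left_inv_eq_right_inv hl hb'
      rw [inv_smul_eq_iff₀ hq] at h
      rw [h]; exact Subalgebra.smul_mem _ b.2 q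
  refine ⟨hmem, fun ρ => ?_⟩
  have h1 := Groth.Agent.H23.PosInv.map_star hpos hmem ρ ⟨α, Algebra.self_mem_adjoin_singleton ℚ α⟩
  refine ⟨h1, ?_⟩
  have h2 : (⟨α, Algebra.self_mem_adjoin_singleton ℚ α⟩ : Algebra.adjoin ℚ ({α} : Set R)) * ⟨star α, hmem⟩ =
      algebraMap ℚ _ q := Subtype.ext hα
  have h3 := congrArg ρ h2
  rw [map_mul, h1, AlgHom.commutes, Complex.mul_conj, eq_ratCast, Complex.normSq_eq_norm_sq] at h3
  exact_mod_cast h3


end Groth.Agent.S19356
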