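import Groth.Statements.S19358
import Groth.Agent.InstabFan.Basic
-- import your own Groth.Agent.* helpers here

set_option autoImplicit false
universe u
open CategoryTheory Opposite Instab
open Instab Instab.Fan

namespace Groth.Agent.S19358

/-- Let f : F ⟶ G be a map of formal fans. If f is injective on n-cones for every n, then the induced
continuous map of projective realizations P F → P G is injective; if f is surjective on n-cones for
every n, then P F → P G is surjective. -/
theorem result {F G : Fan.{u}} (f : F ⟶ G) :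
    ((∀ n : ICone, Function.Injective (f.app (op n))) → Function.Injective (Fan.P.map f)) ∧
    ((∀ n : ICone, Function.Surjective (f.app (op n))) → Function.Surjective (Fan.P.map f)) := by
  constructor
  · intro hinj x x' h
    obtain ⟨n, σ, v, rfl⟩ := InstabFan.exists_mk x
    obtain ⟨n', σ', v', rfl⟩ := InstabFan.exists_mk x'
    rw [InstabFan.map_mk, InstabFan.map_mk, InstabFan.mk_eq_mk_iff] at h
    obtain ⟨k, φ₁, φ₂, y, c₁, c₂, h, h₁, h₂, e₁, e₂⟩ := h
    rw [← NatTrans.naturality_apply f φ₁.op σ, ← NatTrans.naturality_apply f φ₂.op σ'] at h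
    exact (InstabFan.mk_eq_mk_iff σ σ' v v').mpr ⟨k, φ₁, φ₂, y, c₁, c₂, hinj k h, h₁, h₂, e₁, e₂⟩
  · intro hsurj x
    obtain ⟨n, σ, v, rfl⟩ := InstabFan.exists_mk x
    obtain ⟨τ, rfl⟩ := hsurj n σ
    exact ⟨Fan.P.mk τ v, rfl⟩

end Groth.Agent.S19358
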