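import Groth.Statements.S19359
import Groth.Agent.InstabFan.Bounded
-- import your own Groth.Agent.* helpers here

set_option autoImplicit false
universe u
open CategoryTheory Opposite Instab
open Instab Instab.Fan

namespace Groth.Agent.S19359

/-- A formal fan G is quasi-separated (the fibre product of any two of its cones is a bounded fan) if
and only if, for every bounded formal fan F, every map of fans F ⟶ G is bounded (its base change
along each cone of G is a bounded fan). -/
theorem result (G : Fan.{u}) :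
    G.IsQuasiSeparated ↔
      ∀ (F : Fan.{u}) (f : F ⟶ G), F.IsBounded → Fan.IsBoundedMap f := by
  classical
  constructor
  · intro hG F f hF n σ
    obtain ⟨t, ht⟩ := hF
    let Θ : ∀ c : Σ m : ICone, F.obj (op m),
        Limits.pullback (Fan.coneMap (f.app _ c.2)) (Fan.coneMap σ) ⟶ Limits.pullback f (Fan.coneMap σ) := fun c =>
      Limits.pullback.lift (Limits.pullback.fst _ _ ≫ Fan.coneMap c.2) (Limits.pullback.snd _ _)
        (by rw [Category.assoc, InstabFan.coneMap_comp, Limits.pullback.condition])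
    choose T hT using fun c : Σ m : ICone, F.obj (op m) => hG c.1 n (f.app _ c.2) σ
    refine ⟨t.biUnion fun c => (T c).image fun e => ⟨e.1, (Θ c).app _ e.2⟩, fun x => ?_⟩
    obtain ⟨k, e, y, rfl⟩ := InstabFan.exists_mk x
    obtain ⟨⟨m, τ⟩, hc, w, hw⟩ := ht (Fan.P.map (Limits.pullback.fst f (Fan.coneMap σ)) (Fan.P.mk e y))
    rw [InstabFan.map_mk] at hw
    obtain ⟨j, a, b, z, c₁, c₂, hab, h₁, h₂, e₁, e₂⟩ := (InstabFan.mk_eq_mk_iff _ _ _ _).mp hw.symm
    set A : (uliftYoneda.{u}.obj n).obj (op j) :=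
      (uliftYoneda.{u}.obj n).map a.op ((Limits.pullback.snd f (Fan.coneMap σ)).app _ e) with hA
    have hfa : f.app _ (F.map b.op τ) = (Fan.coneMap σ).app _ A := by
      rw [hA, NatTrans.naturality_apply (Fan.coneMap σ) a.op, ← InstabFan.pullback_condition_app,
        ← NatTrans.naturality_apply f a.op, hab]
    obtain ⟨e', he'₁, he'₂⟩ := InstabFan.exists_pullback_elem (Fan.coneMap (f.app _ τ)) (Fan.coneMap σ)
      (a := ULift.up b) (b := A) (by rw [InstabFan.coneMap_app, ← NatTrans.naturality_apply f b.op]; exact hfa)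
    obtain ⟨⟨l, q⟩, hq, w', hw'⟩ := hT ⟨m, τ⟩ (Fan.P.mk e' z)
    refine ⟨⟨l, (Θ ⟨m, τ⟩).app _ q⟩, Finset.mem_biUnion.mpr ⟨_, hc, Finset.mem_image.mpr ⟨_, hq, rfl⟩⟩, w', ?_⟩
    show Fan.P.map (Θ ⟨m, τ⟩) (Fan.P.mk q w') = _
    rw [hw', InstabFan.map_mk, ← InstabFan.mk_glue a e z y c₁ h₁ e₁]
    refine congrArg (fun t => Fan.P.mk t z) (InstabFan.pullback_elem_ext _ _ ?_ ?_)
    · rw [NatTrans.naturality_apply (Limits.pullback.fst f (Fan.coneMap σ)) a.op, hab]
      refine (congrArg (fun T : Limits.pullback (Fan.coneMap (f.app _ τ)) (Fan.coneMap σ) ⟶ F => T.app (op j) e')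
        (Limits.pullback.lift_fst _ _ _)).trans ?_
      exact congrArg ((Fan.coneMap τ).app (op j)) he'₁
    · rw [NatTrans.naturality_apply (Limits.pullback.snd f (Fan.coneMap σ)) a.op]
      exact (congrArg (fun T : Limits.pullback (Fan.coneMap (f.app _ τ)) (Fan.coneMap σ) ⟶ uliftYoneda.{u}.obj n => T.app (op j) e')
        (Limits.pullback.lift_snd _ _ _)).trans he'₂
  · intro h n₀ n₁ σ₀ σ₁
    refine h (uliftYoneda.{u}.obj n₀) (Fan.coneMap σ₀) ⟨{⟨n₀, ULift.up (𝟙 n₀)⟩}, fun x => ?_⟩ n₁ σ₁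
    obtain ⟨k, φ, y, rfl⟩ := InstabFan.exists_mk x
    refine ⟨_, Finset.mem_singleton_self _, InstabFan.push φ.down y, ?_⟩
    rw [← InstabFan.mk_map_push]
    exact congrArg (fun t => Fan.P.mk (F := uliftYoneda.{u}.obj n₀) t y) (ULift.ext _ _ (Category.comp_id φ.down))

end Groth.Agent.S19359
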