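import Groth.Statements.S19362
import Groth.Agent.InstabFan.Basic
-- import your own Groth.Agent.* helpers here

set_option autoImplicit false
universe u
open CategoryTheory Opposite Instab
open Instab Instab.Fan

namespace Groth.Agent.S19362

/-- Let f : F ⟶ G be a map of formal fans. (1) The image of the induced map P F → P G is the image of
the projective realization of the image sub-fan of f. (2) For a map g : G' ⟶ G, the image of the
projective realization of the base change F ×_G G' ⟶ G' is the preimage, under P G' → P G, of the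
image of P F → P G. -/
theorem result {F G G' : Fan.{u}} (f : F ⟶ G) (g : G' ⟶ G) :
    Set.range (Fan.P.map f) = Set.range (Fan.P.map (Subfunctor.range f).ι) ∧
    Set.range (Fan.P.map (Limits.pullback.snd f g)) = Fan.P.map g ⁻¹' Set.range (Fan.P.map f) := by
  constructor
  · ext x
    constructor
    · rintro ⟨a, rfl⟩
      obtain ⟨n, σ, v, rfl⟩ := InstabFan.exists_mk a
      let e : (Subfunctor.range f).toFunctor.obj (op n) := ⟨f.app _ σ, σ, rfl⟩
      exact ⟨Fan.P.mk e v, rfl⟩
    · rintro ⟨a, rfl⟩
      obtain ⟨n, ⟨τ, σ, hσ⟩, v, rfl⟩ := InstabFan.exists_mk a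
      exact ⟨Fan.P.mk σ v, congrArg (fun t => Fan.P.mk t v) hσ⟩
  · ext x
    constructor
    · rintro ⟨a, rfl⟩
      refine ⟨Fan.P.map (Limits.pullback.fst f g) a, ?_⟩
      rw [← InstabFan.map_comp, ← InstabFan.map_comp, Limits.pullback.condition]
    · rintro ⟨a, ha⟩
      obtain ⟨y, -, hy⟩ := InstabFan.exists_pullback_lift f g a x ha
      exact ⟨y, hy⟩

end Groth.Agent.S19362
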