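import Groth.Statements.S19363
import Groth.Agent.InstabFan.Bounded
-- import your own Groth.Agent.* helpers here

set_option autoImplicit false
universe u
open CategoryTheory Opposite Instab
open Instab Instab.Fan

namespace Groth.Agent.S19363

/-- Let ψ : F ⟶ G be a bounded map of formal fans. Then the induced map P F → P G is a closed map whose
fibres are finite, and its image meets each rational simplex of P G in a finite union of closed
rational sub-simplices: for every n-cone ξ of G there are finitely many cone morphisms φ into [n]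
such that a nonzero nonnegative vector v of ℝ^n gives a point of the image exactly when v is a
positive multiple of φ y for one of these φ and some nonzero nonnegative y. -/
theorem result {F G : Fan.{u}} (ψ : F ⟶ G)
    (hψ : Fan.IsBoundedMap ψ) :
    IsClosedMap (Fan.P.map ψ) ∧ (∀ y : Fan.P G, (Fan.P.map ψ ⁻¹' {y}).Finite) ∧
    ∀ (n : ICone) (ξ : G.obj (op n)), ∃ s : Finset (Σ k : ICone, k ⟶ n),
      {v : Fan.Orth n | Fan.P.mk ξ v ∈ Set.range (Fan.P.map ψ)} =
        ⋃ e ∈ s, {v : Fan.Orth n | ∃ (y : Fan.Orth e.1) (c : ℝ), 0 < c ∧ v.1 = c • e.2.realMap y.1} := by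
  classical
  refine ⟨InstabFan.isClosedMap_map hψ, fun x => ?_, fun n ξ => ?_⟩
  · obtain ⟨n, ξ, v, rfl⟩ := InstabFan.exists_mk x
    obtain ⟨s, hs₁, hs₂⟩ := InstabFan.exists_range_cells hψ ξ
    refine (s.finite_toSet.biUnion (t := fun e => Fan.P.mk e.2.1 '' (InstabFan.push e.2.2 ⁻¹' {v})) fun e _ =>
      (Set.Subsingleton.finite ?_).image _).subset fun z hz => ?_
    · exact fun a ha b hb => (InstabFan.isClosedEmbedding_push e.2.2).injective
        ((Set.mem_singleton_iff.mp ha).trans (Set.mem_singleton_iff.mp hb).symm)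
    · obtain ⟨e, he, y, hy₁, hy₂⟩ := hs₂ z v hz
      exact Set.mem_iUnion₂.mpr ⟨e, he, y, hy₁, hy₂⟩
  · obtain ⟨s, hs₁, hs₂⟩ := InstabFan.exists_range_cells hψ ξ
    refine ⟨s.image fun e => ⟨e.1, e.2.2⟩, Set.ext fun v => ⟨?_, ?_⟩⟩
    · rintro ⟨x, hx⟩
      obtain ⟨e, he, y, hy, -⟩ := hs₂ x v hx
      exact Set.mem_iUnion₂.mpr ⟨_, Finset.mem_image_of_mem _ he, y, 1, one_pos, by rw [one_smul, ← hy]; rfl⟩
    · intro hv
      obtain ⟨_, he', y, c, hc, hyv⟩ := Set.mem_iUnion₂.mp hv
      obtain ⟨e, he, rfl⟩ := Finset.mem_image.mp he'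
      exact ⟨Fan.P.mk e.2.1 y, by rw [InstabFan.map_mk, hs₁ e he]; exact InstabFan.mk_glue _ _ _ _ c hc hyv⟩

end Groth.Agent.S19363
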