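import Groth.Statements.S19365
import Groth.Agent.InstabFan.Bounded
-- import your own Groth.Agent.* helpers here

set_option autoImplicit false
universe u
open CategoryTheory Opposite Instab
open Instab Instab.Fan

namespace Groth.Agent.S19365

/-- Let F ⟶ G be a map of formal fans which is bounded and injective on n-cones for every n (a bounded
sub-fan). Then the induced map P F → P G is a closed embedding. (The description of its preimage
under a rational simplex as a finite union of rational sub-simplices is the corresponding assertion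
for bounded maps and is not repeated here.) -/
theorem result {F G : Fan.{u}} (ψ : F ⟶ G)
    (hψ : Fan.IsBoundedMap ψ) (hinj : ∀ n : ICone, Function.Injective (ψ.app (op n))) :
    Topology.IsClosedEmbedding (Fan.P.map ψ) := by
  refine Topology.IsClosedEmbedding.of_continuous_injective_isClosedMap (InstabFan.continuous_map ψ) ?_
    (InstabFan.isClosedMap_map hψ)
  intro x x' h
  obtain ⟨n, σ, v, rfl⟩ := InstabFan.exists_mk x
  obtain ⟨n', σ', v', rfl⟩ := InstabFan.exists_mk x'
  rw [InstabFan.map_mk, InstabFan.map_mk, InstabFan.mk_eq_mk_iff] at h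
  obtain ⟨k, φ₁, φ₂, y, c₁, c₂, h, h₁, h₂, e₁, e₂⟩ := h
  rw [← NatTrans.naturality_apply ψ φ₁.op σ, ← NatTrans.naturality_apply ψ φ₂.op σ'] at h
  exact (InstabFan.mk_eq_mk_iff σ σ' v v').mpr ⟨k, φ₁, φ₂, y, c₁, c₂, hinj k h, h₁, h₂, e₁, e₂⟩

end Groth.Agent.S19365
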