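import Groth.Statements.S19367
import Groth.Agent.InstabFan.Bounded
-- import your own Groth.Agent.* helpers here

set_option autoImplicit false
universe u
open CategoryTheory Opposite Instab
open Instab Instab.Fan

namespace Groth.Agent.S19367

/-- Let ψ : F ⟶ G be a map of formal fans with F quasi-separated. Then injectivity of the induced map P
F → P G is equivalent to its injectivity on the rational points of P F. -/
theorem result {F G : Fan.{u}} (ψ : F ⟶ G)
    (hF : F.IsQuasiSeparated) :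
    Function.Injective (Fan.P.map ψ) ↔
      ∀ x y : Fan.P F, x.IsRational → y.IsRational → Fan.P.map ψ x = Fan.P.map ψ y → x = y := by
  refine ⟨fun h x y _ _ e => h e, fun h x x' hxx => ?_⟩
  obtain ⟨n, σ, v, rfl⟩ := InstabFan.exists_mk x
  obtain ⟨n', σ', v', rfl⟩ := InstabFan.exists_mk x'
  rw [InstabFan.map_mk, InstabFan.map_mk, InstabFan.mk_eq_mk_iff] at hxx
  obtain ⟨k, φ₁, φ₂, y, c₁, c₂, he, h₁, h₂, e₁, e₂⟩ := hxx
  rw [← NatTrans.naturality_apply ψ φ₁.op σ, ← NatTrans.naturality_apply ψ φ₂.op σ'] at he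
  have hy : y ∈ {w : Fan.Orth k | Fan.P.mk (F.map φ₁.op σ) w = Fan.P.mk (F.map φ₂.op σ') w} :=
    (InstabFan.eq_univ_of_ratSet_subset (InstabFan.isClosed_setOf_mk_eq hF _ _) fun w hw =>
      h _ _ (InstabFan.isRational_mk _ hw) (InstabFan.isRational_mk _ hw)
        (congrArg (fun t => Fan.P.mk t w) he)).symm ▸ Set.mem_univ y
  rw [← InstabFan.mk_glue φ₁ σ y v c₁ h₁ e₁, ← InstabFan.mk_glue φ₂ σ' y v' c₂ h₂ e₂]
  exact hy

end Groth.Agent.S19367
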