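import Groth.Statements.S19368
import Groth.Agent.InstabFan.Basic
-- import your own Groth.Agent.* helpers here

set_option autoImplicit false
universe u
open CategoryTheory Opposite Instab
open Instab Instab.Fan

namespace Groth.Agent.S19368

/-- Let F be a formal fan; a subset of P F is realizable when it is the image of the projective
realization of some sub-fan of F. The intersection of two realizable subsets is realizable, and the
union of an arbitrary family of realizable subsets is realizable. -/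
theorem result (F : Fan.{u}) :
    (∀ U V : Set (Fan.P F), Fan.IsRealizable U → Fan.IsRealizable V → Fan.IsRealizable (U ∩ V)) ∧
    ∀ (ι : Type u) (U : ι → Set (Fan.P F)), (∀ i, Fan.IsRealizable (U i)) →
      Fan.IsRealizable (Set.iUnion U) := by
  constructor
  · rintro U V ⟨S, rfl⟩ ⟨T, rfl⟩
    refine ⟨S ⊓ T, Set.ext fun x => ⟨?_, ?_⟩⟩
    · rintro ⟨⟨a, rfl⟩, b, hb⟩
      obtain ⟨n, σ, v, rfl⟩ := InstabFan.exists_mk a
      obtain ⟨n', σ', v', rfl⟩ := InstabFan.exists_mk b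
      obtain ⟨k, φ₁, φ₂, y, c₁, c₂, h, h₁, h₂, e₁, e₂⟩ :=
        (InstabFan.mk_eq_mk_iff (S.ι.app _ σ) (T.ι.app _ σ') v v').mp hb.symm
      have hm : F.map φ₁.op σ.1 ∈ (S ⊓ T).obj (op k) :=
        ⟨S.map φ₁.op σ.2, by
          rw [show F.map φ₁.op σ.1 = F.map φ₂.op σ'.1 from h]
          exact T.map φ₂.op σ'.2⟩
      let e : (S ⊓ T).toFunctor.obj (op k) := ⟨_, hm⟩
      exact ⟨Fan.P.mk e y, InstabFan.mk_glue φ₁ σ.1 y v c₁ h₁ e₁⟩
    · rintro ⟨a, rfl⟩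
      obtain ⟨n, ⟨τ, hτ₁, hτ₂⟩, v, rfl⟩ := InstabFan.exists_mk a
      let e₁ : S.toFunctor.obj (op n) := ⟨τ, hτ₁⟩
      let e₂ : T.toFunctor.obj (op n) := ⟨τ, hτ₂⟩
      exact ⟨⟨Fan.P.mk e₁ v, rfl⟩, ⟨Fan.P.mk e₂ v, rfl⟩⟩
  · intro ι U hU
    choose S hS using hU
    refine ⟨⨆ i, S i, Set.ext fun x => ⟨?_, ?_⟩⟩
    · intro hx
      obtain ⟨i, hi⟩ := Set.mem_iUnion.mp hx
      rw [hS i] at hi
      obtain ⟨a, rfl⟩ := hi
      obtain ⟨n, σ, v, rfl⟩ := InstabFan.exists_mk a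
      let e : (⨆ i, S i).toFunctor.obj (op n) := ⟨σ.1, by rw [Subfunctor.iSup_obj]; exact Set.mem_iUnion.mpr ⟨i, σ.2⟩⟩
      exact ⟨Fan.P.mk e v, rfl⟩
    · rintro ⟨a, rfl⟩
      obtain ⟨n, ⟨τ, hτ⟩, v, rfl⟩ := InstabFan.exists_mk a
      rw [Subfunctor.iSup_obj] at hτ
      obtain ⟨i, hi⟩ := Set.mem_iUnion.mp hτ
      refine Set.mem_iUnion.mpr ⟨i, ?_⟩
      rw [hS i]
      let e : (S i).toFunctor.obj (op n) := ⟨τ, hi⟩
      exact ⟨Fan.P.mk e v, rfl⟩

end Groth.Agent.S19368
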