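import Groth.Statements.S19369
import Groth.Agent.InstabFan.Bounded
import Mathlib.Data.Nat.Nth
-- import your own Groth.Agent.* helpers here

set_option autoImplicit false
universe u
open CategoryTheory Opposite Instab
open Instab Instab.Fan

namespace Groth.Agent.S19369

/-- Let F be a quasi-separated formal fan and let (x i) be a sequence in P F converging to a point x.
Then there are an n-cone σ of F and a subsequence of (x i) whose terms lift to nonzero nonnegative
vectors of ℝ^n, mapping to them under the rational simplex of σ, such that the lifts converge to a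
vector that lifts x. -/
theorem result (F : Fan.{u}) (hF : F.IsQuasiSeparated)
    (x : ℕ → Fan.P F) (x₀ : Fan.P F) (hx : Filter.Tendsto x Filter.atTop (nhds x₀)) :
    ∃ (n : ICone) (σ : F.obj (op n)) (r : ℕ → ℕ) (v : ℕ → Fan.Orth n) (v₀ : Fan.Orth n),
      StrictMono r ∧ (∀ j, Fan.P.mk σ (v j) = x (r j)) ∧ Fan.P.mk σ v₀ = x₀ ∧
        Filter.Tendsto v Filter.atTop (nhds v₀) := by
  classical
  by_cases hinf : {j | x j = x₀}.Infinite
  · obtain ⟨n, ξ, v, rfl⟩ := InstabFan.exists_mk x₀
    refine ⟨n, ξ, Nat.nth fun j => x j = Fan.P.mk ξ v, fun _ => v, v, Nat.nth_strictMono hinf,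
      fun j => (Nat.nth_mem_of_infinite hinf j).symm, rfl, tendsto_const_nhds⟩
  · obtain ⟨N, hN⟩ : ∃ N, ∀ j, N ≤ j → x j ≠ x₀ := by
      obtain ⟨N, hN⟩ := (Set.not_infinite.mp hinf).bddAbove
      exact ⟨N + 1, fun j hj h => by have := hN h; omega⟩
    obtain ⟨n, ξ, hcell⟩ : ∃ (n : ICone) (ξ : F.obj (op n)), ((x '' Set.Ici N) ∩ Fan.P.cell ξ).Infinite := by
      by_contra hall
      push Not at hall
      have hclosed := InstabFan.isClosed_of_finite_inter hF hall
      exact absurd (hclosed.mem_of_tendsto hx (Filter.eventually_atTop.mpr ⟨N, fun j hj => ⟨j, hj, rfl⟩⟩))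
        (fun ⟨j, hj, e⟩ => hN j hj e)
    set J := {j | N ≤ j ∧ x j ∈ Fan.P.cell ξ} with hJ
    have hJinf : J.Infinite := fun hfin => hcell ((hfin.image x).subset (by
      rintro z ⟨⟨j, hj, rfl⟩, hz⟩
      exact ⟨j, ⟨hj, hz⟩, rfl⟩))
    have hex : ∀ j, ∃ w ∈ InstabFan.simplex n, Fan.P.mk ξ w = x (Nat.nth (· ∈ J) j) := fun j => by
      obtain ⟨v, hv⟩ := (Nat.nth_mem_of_infinite (p := (· ∈ J)) hJinf j).2
      obtain ⟨w, hw, e⟩ := InstabFan.exists_mem_simplex ξ v
      exact ⟨w, hw, e.trans hv⟩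
    choose w hw hwx using hex
    haveI : FirstCountableTopology (Fan.Orth n) :=
      inferInstanceAs (FirstCountableTopology {v : Fin n.dim → ℝ // (∀ i, 0 ≤ v i) ∧ v ≠ 0})
    obtain ⟨v₀, hv₀, φ, hφ, hlim⟩ := (InstabFan.isCompact_simplex n).tendsto_subseq hw
    have hr : StrictMono (fun j => Nat.nth (· ∈ J) (φ j)) := (Nat.nth_strictMono hJinf).comp hφ
    refine ⟨n, ξ, _, w ∘ φ, v₀, hr, fun j => hwx (φ j), ?_, hlim⟩
    by_contra hne
    -- the tail together with the limit of the lifts is closed and misses `x₀`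
    let Nrm : Fan.Orth n → Fan.Orth n := fun v => InstabFan.scale _ (inv_pos.mpr (InstabFan.sum_pos v)) v
    have hNrm : Continuous Nrm := by
      refine Continuous.subtype_mk ?_ _
      exact ((continuous_finsetSum _ fun i _ => (continuous_apply i).comp InstabFan.continuous_val).inv₀
        fun v => (InstabFan.sum_pos v).ne').smul InstabFan.continuous_val
    haveI : T2Space (Fan.Orth n) := inferInstanceAs (T2Space {v : Fin n.dim → ℝ // (∀ i, 0 ≤ v i) ∧ v ≠ 0})
    have hclosed := InstabFan.isClosed_image hF ξ (hlim.isCompact_insert_range.isClosed.preimage hNrm) (by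
      intro v v' hv c hc hvv
      rw [Set.mem_preimage] at hv ⊢
      have : Nrm v' = Nrm v := Subtype.ext (by
        show (∑ i, v'.1 i)⁻¹ • v'.1 = (∑ i, v.1 i)⁻¹ • v.1
        simp only [hvv, Pi.smul_apply, smul_eq_mul, ← Finset.mul_sum, smul_smul, mul_inv]
        congr 1
        field_simp)
      rw [this]; exact hv)
    have hsimp : ∀ u ∈ InstabFan.simplex n, Nrm u = u := fun u hu => Subtype.ext (by
      show (∑ i, u.1 i)⁻¹ • u.1 = u.1
      rw [show ∑ i, u.1 i = 1 from hu, inv_one, one_smul])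
    obtain ⟨u, hu, hux⟩ := hclosed.mem_of_tendsto (hx.comp hr.tendsto_atTop) (Filter.Eventually.of_forall fun j =>
      ⟨w (φ j), by rw [Set.mem_preimage, hsimp _ (hw _)]; exact Set.mem_insert_of_mem _ ⟨j, rfl⟩, hwx (φ j)⟩)
    have hmk : Fan.P.mk ξ (Nrm u) = x₀ := (InstabFan.mk_scale ξ _ _ u).trans hux
    rcases hu with hu | ⟨j, hj⟩
    · rw [show Nrm u = v₀ from hu] at hmk; exact hne hmk
    · rw [← show (w ∘ φ) j = Nrm u from hj] at hmk
      exact hN _ ((Nat.nth_mem_of_infinite (p := (· ∈ J)) hJinf (φ j)).1) ((hwx (φ j)).symm.trans hmk)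

end Groth.Agent.S19369
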