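import Groth.Statements.S19370
import Groth.Agent.InstabFan.Convex
-- import your own Groth.Agent.* helpers here

set_option autoImplicit false
universe u v
open CategoryTheory Opposite Instab
open Instab Instab.Fan

namespace Groth.Agent.S19370

/-- Let F be a formal fan, U ⊆ P F a convex subset, Γ a totally ordered set and Φ : U → Γ a
quasi-concave function that is lower semicontinuous in the sense that every sublevel set {Φ ≤ c} is
closed in U. Then every rational point of U at which Φ has a local maximum is a global maximum of Φ,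
and if Φ is strictly quasi-concave there is at most one such rational point. -/
theorem result (F : Fan.{u}) (U : Set (Fan.P F))
    (hU : Fan.IsConvex U) {Γ : Type v} [LinearOrder Γ] (Φ : U → Γ) (hΦ : Fan.IsQuasiConcaveOn U Φ)
    (hlsc : ∀ c : Γ, IsClosed {x : U | Φ x ≤ c}) :
    (∀ x : U, (x : Fan.P F).IsRational → IsLocalMax Φ x → ∀ y : U, Φ y ≤ Φ x) ∧
    (Fan.IsStrictQuasiConcaveOn U Φ → ∀ x y : U, (x : Fan.P F).IsRational → (y : Fan.P F).IsRational →
      IsLocalMax Φ x → IsLocalMax Φ y → x = y) := by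
  obtain ⟨hloc, hreal, hseg⟩ := hU
  have hseg' : ∀ x y : U, (x : Fan.P F).IsRational → (y : Fan.P F).IsRational → x ≠ y →
      ∃ γ : unitInterval → U, Continuous γ ∧ γ 0 = x ∧ γ 1 = y ∧ ∀ t : unitInterval, 0 < (t : ℝ) → (t : ℝ) < 1 →
        (min (Φ x) (Φ y) ≤ Φ (γ t) ∧ (Φ (γ t) = min (Φ x) (Φ y) → Φ x = Φ y)) ∧
        (Fan.IsStrictQuasiConcaveOn U Φ → min (Φ x) (Φ y) < Φ (γ t)) := by
    intro x y hx hy hxy
    obtain ⟨τ, -, h0, h1⟩ := hseg x y x.2 y.2 hx hy fun h => hxy (Subtype.ext h)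
    obtain ⟨γ, hγ, hγ0, hγ1, hγt⟩ := InstabFan.exists_segment hloc τ _ _ (h0 ▸ x.2) (h1 ▸ y.2)
    refine ⟨γ, hγ, Subtype.ext (hγ0.trans h0), Subtype.ext (hγ1.trans h1), fun t ht0 ht1 => ?_⟩
    obtain ⟨w, hw, hwv⟩ := hγt t ht0 ht1
    have ex : (⟨Fan.P.mk τ (Fan.Orth.basis Fan.two 0), h0 ▸ x.2⟩ : U) = x := Subtype.ext h0
    have ey : (⟨Fan.P.mk τ (Fan.Orth.basis Fan.two 1), h1 ▸ y.2⟩ : U) = y := Subtype.ext h1
    have ew : (⟨Fan.P.mk τ w, hw ▸ (γ t).2⟩ : U) = γ t := Subtype.ext hw.symm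
    have hex : ∃ a b : ℝ, 0 < a ∧ 0 < b ∧
        w.1 = a • (Fan.Orth.basis Fan.two 0).1 + b • (Fan.Orth.basis Fan.two 1).1 :=
      ⟨_, _, sub_pos.mpr ht1, ht0, hwv⟩
    refine ⟨?_, fun hst => ?_⟩
    · have := hΦ _ τ _ w _ (h0 ▸ x.2) (hw ▸ (γ t).2) (h1 ▸ y.2) InstabFan.basis_ne_parallel hex
      rwa [ex, ey, ew] at this
    · have := hst _ τ _ w _ (h0 ▸ x.2) (hw ▸ (γ t).2) (h1 ▸ y.2) InstabFan.basis_ne_parallel hex
      rwa [ex, ey, ew] at this
  have hglob : ∀ x : U, (x : Fan.P F).IsRational → IsLocalMax Φ x → ∀ y : U, Φ y ≤ Φ x := by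
    intro x hx hmax
    have hrat : ∀ y : U, (y : Fan.P F).IsRational → Φ y ≤ Φ x := by
      intro y hy
      by_contra hlt
      push Not at hlt
      obtain ⟨γ, hγ, h0, -, ht⟩ := hseg' x y hx hy fun h => hlt.ne (congrArg Φ h)
      have hev : ∀ᶠ t in nhds (0 : unitInterval), Φ (γ t) ≤ Φ x := (h0.symm ▸ hγ.tendsto 0).eventually hmax
      obtain ⟨ε, hε, hball⟩ := Metric.eventually_nhds_iff.mp hev
      let t : unitInterval := ⟨min (1 / 2) (ε / 2), le_min (by norm_num) (by linarith), (min_le_left _ _).trans (by norm_num)⟩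
      have htp : (0 : ℝ) < t := lt_min (by norm_num) (by linarith)
      have hle : Φ (γ t) ≤ Φ x := hball (by
        rw [Subtype.dist_eq, Real.dist_eq]
        show |(t : ℝ) - 0| < ε
        rw [sub_zero, abs_of_pos htp]
        exact (min_le_right _ _).trans_lt (by linarith))
      obtain ⟨⟨h1, h2⟩, -⟩ := ht t htp ((min_le_left _ _).trans_lt (by norm_num))
      rw [min_eq_left hlt.le] at h1 h2
      exact hlt.ne (h2 (le_antisymm hle h1))
    intro y
    obtain ⟨n, ξ, v, hv, hcell⟩ := InstabFan.exists_cell_subset hreal y.2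
    let f : Fan.Orth n → U := fun w => ⟨Fan.P.mk ξ w, hcell w⟩
    have hf : Continuous f := (InstabFan.continuous_mk ξ).subtype_mk _
    have := Set.eq_univ_iff_forall.mp (InstabFan.eq_univ_of_ratSet_subset ((hlsc (Φ x)).preimage hf)
      fun w hw => hrat _ (InstabFan.isRational_mk ξ hw)) v
    rwa [Set.mem_preimage, show f v = y from Subtype.ext hv] at this
  refine ⟨hglob, fun hst x y hx hy hxm hym => ?_⟩
  by_contra hne
  obtain ⟨γ, -, -, -, ht⟩ := hseg' x y hx hy hne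
  have hh := (ht ⟨1 / 2, by norm_num, by norm_num⟩ (by norm_num) (by norm_num)).2 hst
  rw [le_antisymm (hglob y hy hym x) (hglob x hx hxm y), min_self] at hh
  exact (hglob y hy hym _).not_gt hh

end Groth.Agent.S19370
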