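import Groth.Statements.S19371
import Groth.Agent.InstabFan.Convex
-- import your own Groth.Agent.* helpers here

set_option autoImplicit false
universe u v
open CategoryTheory Opposite Instab
open Instab Instab.Fan

namespace Groth.Agent.S19371

/-- Let F be a quasi-separated formal fan whose projective realization P F is a Hausdorff space, U ⊆ P F
a compact convex subset, Γ a totally ordered set with the order topology, and Φ : U → Γ continuous
and strictly quasi-concave. Then any two local maxima of Φ coincide, so the global maximum of Φ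
(which exists when U is nonempty, by the extreme value property of upper semicontinuous functions on
compact sets) is its unique local maximum. (The published lemma assumes only that F is
quasi-separated and derives the Hausdorff property of P F from that; this derivation does not hold
in general, and the Hausdorff property, which the published proof uses, is assumed here.) -/
theorem result (F : Fan.{u})
    (hF : F.IsQuasiSeparated) (hT2 : T2Space (Fan.P F)) (U : Set (Fan.P F)) (hUc : IsCompact U)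
    (hU : Fan.IsConvex U) {Γ : Type v} [LinearOrder Γ] [TopologicalSpace Γ] [OrderTopology Γ]
    (Φ : U → Γ) (hΦc : Continuous Φ) (hΦ : Fan.IsStrictQuasiConcaveOn U Φ) (x y : U)
    (hx : IsLocalMax Φ x) (hy : IsLocalMax Φ y) : x = y := by
  classical
  by_contra hne
  obtain ⟨hloc, hreal, hseg⟩ := hU
  haveI : CompactSpace U := isCompact_iff_compactSpace.mp hUc
  wlog hle : Φ x ≤ Φ y generalizing x y
  · exact this y x hy hx (Ne.symm hne) (le_of_not_ge hle)
  set c := Φ x with hc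
  -- strictness on segments
  have hstrict : ∀ (n : ICone) (ξ : F.obj (op n)) (v v' : Fan.Orth n) (hv : Fan.P.mk ξ v ∈ U) (hv' : Fan.P.mk ξ v' ∈ U),
      (¬ ∃ c : ℝ, v'.1 = c • v.1) → ∃ γ : unitInterval → U, Continuous γ ∧ γ 0 = ⟨_, hv⟩ ∧ γ 1 = ⟨_, hv'⟩ ∧
        ∀ t : unitInterval, 0 < (t : ℝ) → (t : ℝ) < 1 → min (Φ ⟨_, hv⟩) (Φ ⟨_, hv'⟩) < Φ (γ t) := by
    intro n ξ v v' hv hv' hpar
    obtain ⟨γ, hγ, h0, h1, ht⟩ := InstabFan.exists_segment hloc ξ v v' hv hv'
    refine ⟨γ, hγ, Subtype.ext h0, Subtype.ext h1, fun t ht0 ht1 => ?_⟩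
    obtain ⟨w, hw, hwv⟩ := ht t ht0 ht1
    have := hΦ n ξ v w v' hv (hw ▸ (γ t).2) hv' hpar ⟨_, _, sub_pos.mpr ht1, ht0, hwv⟩
    rwa [show (⟨Fan.P.mk ξ w, hw ▸ (γ t).2⟩ : U) = γ t from Subtype.ext hw.symm] at this
  -- local maxima of value `c` are finite
  set M : Set (Fan.P F) := Subtype.val '' {z : U | IsLocalMax Φ z ∧ Φ z = c} with hM
  have hsub : ∀ (n : ICone) (ξ : F.obj (op n)), (M ∩ Fan.P.cell ξ).Subsingleton := by
    rintro n ξ _ ⟨⟨z, ⟨hz, hzc⟩, rfl⟩, v, hv⟩ _ ⟨⟨z', ⟨-, hzc'⟩, rfl⟩, v', hv'⟩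
    by_contra hzz
    obtain ⟨γ, hγ, h0, -, ht⟩ := hstrict n ξ v v' (hv ▸ z.2) (hv' ▸ z'.2)
      (InstabFan.exists_ne_parallel (by rw [hv, hv']; exact hzz))
    have e : (⟨Fan.P.mk ξ v, hv ▸ z.2⟩ : U) = z := Subtype.ext hv
    have e' : (⟨Fan.P.mk ξ v', hv' ▸ z'.2⟩ : U) = z' := Subtype.ext hv'
    rw [e] at h0 ht
    rw [e'] at ht
    have hev : ∀ᶠ t in nhds (0 : unitInterval), Φ (γ t) ≤ Φ z := (h0.symm ▸ hγ.tendsto 0).eventually hz
    obtain ⟨ε, hε, hball⟩ := Metric.eventually_nhds_iff.mp hev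
    let t : unitInterval := ⟨min (1 / 2) (ε / 2), le_min (by norm_num) (by linarith), (min_le_left _ _).trans (by norm_num)⟩
    have htp : (0 : ℝ) < t := lt_min (by norm_num) (by linarith)
    have h1 : Φ (γ t) ≤ Φ z := hball (by
      rw [Subtype.dist_eq, Real.dist_eq]
      show |(t : ℝ) - 0| < ε
      rw [sub_zero, abs_of_pos htp]
      exact (min_le_right _ _).trans_lt (by linarith))
    have h2 := ht t htp ((min_le_left _ _).trans_lt (by norm_num))
    rw [hzc, hzc', min_self] at h2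
    rw [hzc] at h1
    exact h1.not_gt h2
  have hMfin : M.Finite := by
    by_contra hinf
    obtain ⟨a, -, ha⟩ := Set.Infinite.exists_accPt_of_subset_isCompact hinf hUc (by rintro _ ⟨z, -, rfl⟩; exact z.2)
    have hcl : IsClosed (M \ {a}) := InstabFan.isClosed_of_finite_inter hF fun n ξ =>
      ((hsub n ξ).anti (Set.inter_subset_inter_left _ Set.sdiff_subset)).finite
    exact (hcl.closure_subset (accPt_principal_iff_clusterPt.mp ha |> mem_closure_iff_clusterPt.mpr)).2 rfl
  set B : Set U := (Subtype.val ⁻¹' (M \ {(x : Fan.P F)})) ∪ {y} with hB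
  have hBclosed : IsClosed B := ((hMfin.subset Set.sdiff_subset).isClosed.preimage continuous_subtype_val).union isClosed_singleton
  have hxB : x ∉ B := by
    rintro (⟨-, h⟩ | h)
    · exact h rfl
    · exact hne h
  obtain ⟨N, hN, hNc, hNsub⟩ := exists_mem_nhds_isClosed_subset
    (show interior {z : U | Φ z ≤ c} \ B ∈ nhds x from
      (isOpen_interior.sdiff hBclosed).mem_nhds ⟨mem_interior_iff_mem_nhds.mpr hx, hxB⟩)
  have hFr : ∀ z ∈ frontier N, Φ z < c := by
    intro z hz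
    have hzN : z ∈ N := hNc.frontier_subset hz
    obtain ⟨hzi, hzB⟩ := hNsub hzN
    refine lt_of_le_of_ne (interior_subset (s := {z : U | Φ z ≤ c}) hzi) fun hzc => ?_
    have hzmax : IsLocalMax Φ z := Filter.mem_of_superset (isOpen_interior.mem_nhds hzi)
      fun w hw => (interior_subset (s := {z : U | Φ z ≤ c}) hw).trans hzc.ge
    have hzx : z = x := by
      by_contra h
      exact hzB (Or.inl ⟨⟨z, ⟨hzmax, hzc⟩, rfl⟩, fun h' => h (Subtype.ext h')⟩)
    exact hz.2 (hzx ▸ mem_interior_iff_mem_nhds.mpr hN)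
  have hW : ∀ z : U, c ≤ Φ z → {p : U | ∀ w ∈ frontier N, Φ w < Φ p} ∈ nhds z := by
    intro z hz
    rcases (frontier N).eq_empty_or_nonempty with h | h
    · simp [h]
    · obtain ⟨m, hm, hmax⟩ := (isClosed_frontier.isCompact).exists_isMaxOn h hΦc.continuousOn
      exact Filter.mem_of_superset ((isOpen_Ioi.preimage hΦc).mem_nhds (show Φ m < Φ z from (hFr m hm).trans_le hz))
        fun p hp w hw => (hmax hw).trans_lt hp
  obtain ⟨x', ⟨hx'W, hx'N⟩, hx'r⟩ := InstabFan.exists_rational_mem_of_mem_nhds hreal x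
    (Filter.inter_mem (hW x le_rfl) (interior_mem_nhds.mpr hN))
  obtain ⟨y', ⟨hy'W, hy'N⟩, hy'r⟩ := InstabFan.exists_rational_mem_of_mem_nhds hreal y
    (Filter.inter_mem (hW y hle) (hNc.isOpen_compl.mem_nhds fun h => (hNsub h).2 (Or.inr rfl)))
  have hne' : x' ≠ y' := fun h => hy'N (h ▸ interior_subset hx'N)
  obtain ⟨τ, -, h0, h1⟩ := hseg x' y' x'.2 y'.2 hx'r hy'r fun h => hne' (Subtype.ext h)
  obtain ⟨γ, hγ, hγ0, hγ1, ht⟩ := hstrict _ τ _ _ (h0 ▸ x'.2) (h1 ▸ y'.2) InstabFan.basis_ne_parallel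
  rw [show (⟨Fan.P.mk τ (Fan.Orth.basis Fan.two 0), h0 ▸ x'.2⟩ : U) = x' from Subtype.ext h0] at hγ0 ht
  rw [show (⟨Fan.P.mk τ (Fan.Orth.basis Fan.two 1), h1 ▸ y'.2⟩ : U) = y' from Subtype.ext h1] at hγ1 ht
  obtain ⟨t, htf⟩ : ∃ t, γ t ∈ frontier N := by
    by_contra hall
    push Not at hall
    have hsub : Set.range γ ⊆ interior N ∪ Nᶜ := by
      rintro _ ⟨t, rfl⟩
      by_cases h : γ t ∈ N
      · by_cases h' : γ t ∈ interior N
        · exact Or.inl h'
        · exact absurd (show γ t ∈ frontier N from ⟨subset_closure h, h'⟩) (hall t)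
      · exact Or.inr h
    obtain ⟨z, -, hz1, hz2⟩ := isPreconnected_range hγ _ _ isOpen_interior hNc.isOpen_compl hsub
      ⟨x', ⟨0, hγ0⟩, hx'N⟩ ⟨y', ⟨1, hγ1⟩, hy'N⟩
    exact hz2 (interior_subset hz1)
  have ht0 : 0 < (t : ℝ) := by
    rcases t.2.1.lt_or_eq with h | h
    · exact h
    · rw [show t = 0 from Subtype.ext h.symm, hγ0] at htf
      exact absurd (hx'W _ htf) (lt_irrefl _)
  have ht1 : (t : ℝ) < 1 := by
    rcases t.2.2.lt_or_eq with h | h
    · exact h
    · rw [show t = 1 from Subtype.ext h, hγ1] at htf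
      exact absurd (hy'W _ htf) (lt_irrefl _)
  exact (lt_min (hx'W _ htf) (hy'W _ htf)).not_gt (ht t ht0 ht1)

end Groth.Agent.S19371
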