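import Groth.Statements.S19372
import Groth.Agent.InstabFan.RFanLib
-- import your own Groth.Agent.* helpers here

set_option autoImplicit false
open CategoryTheory Opposite Instab
open Instab Instab.Fan

namespace Groth.Agent.S19372

/-- Let K a ⊆ ℝ^N, for a in a finite index type, be cones, each expressible as finitely many rational
polyhedral cones put together (nonnegative real spans of finite sets of integer vectors). Then the
canonical map from the projective realization of the formal fan R(K) to the space of rays of ℝ^N (a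
model of the sphere), sending the point given by a cone φ and a vector v to the ray of φ v, is a
homeomorphism onto the rays through ⋃ K a: it is a topological embedding with that image. (The
published lemma also asserts that the affine realization of R(K), defined as a colimit over the
category of cones of R(K), maps homeomorphically onto ⋃ K a; that fails at the cone point, since for
the pair of coordinate rays of ℝ^2 the colimit has two origins and for ⋃ K a = 0 it is empty, and it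
is not stated here.) -/
theorem result {N : ℕ} {ι : Type} [Finite ι] (K : ι → Set (Fin N → ℝ))
    (hK : ∀ a, ∃ (m : ℕ) (gen : Fin m → Finset (Fin N → ℤ)),
      K a = Set.iUnion fun l => {x | ∃ c : (Fin N → ℤ) → ℝ, (∀ g, 0 ≤ c g) ∧
        x = Finset.sum (gen l) fun g => c g • fun j => (g j : ℝ)}) :
    ∃ g : Fan.P (RFan K) → Fan.Rays N,
      (∀ (n : ICone) (φ : (RFan K).obj (op n)) (v : Fan.Orth n) (h : RFan.toVec K n φ v.1 ≠ 0),
        g (Fan.P.mk φ v) = Quot.mk _ ⟨RFan.toVec K n φ v.1, h⟩) ∧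
      Topology.IsEmbedding g ∧
      Set.range g = {r | ∃ w : {w : Fin N → ℝ // w ≠ 0}, r = Quot.mk _ w ∧ w.1 ∈ Set.iUnion K} := by
  classical
  choose m gen hgen using hK
  have hmemK : ∀ a x, x ∈ K a ↔ ∃ l, x ∈ InstabFan.coneHull (gen a l) := fun a x => by
    rw [hgen a, Set.mem_iUnion]; exact Iff.rfl
  have hne : ∀ (n : ICone) (φ : RFan.Cone K n) (v : Fan.Orth n), RFan.toVec K n φ v.1 ≠ 0 := fun n φ v h =>
    v.2.2 (InstabFan.lift_injective φ.2.1 (h.trans (map_zero (InstabFan.lift φ.1)).symm))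
  let g : Fan.P (RFan K) → Fan.Rays N :=
    Quot.lift (fun p => Quot.mk _ ⟨RFan.toVec K p.1.1 p.1.2 p.2.1, hne _ _ _⟩) (by
      rintro _ _ ⟨φ, ξ, v, w, c, hc, h⟩
      refine Quot.sound ⟨c, hc, ?_⟩
      show InstabFan.lift ξ.1 w.1 = c • InstabFan.lift (ξ.1.comp φ.toLin) v.1
      rw [InstabFan.lift_comp, LinearMap.comp_apply, h, map_smul]
      rfl)
  have hgmk : ∀ (n : ICone) (φ : (RFan K).obj (op n)) (v : Fan.Orth n),
      g (Fan.P.mk φ v) = Quot.mk _ ⟨RFan.toVec K n φ v.1, hne n φ v⟩ := fun _ _ _ => rfl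
  have hinj : Function.Injective g := by
    intro p q hpq
    obtain ⟨n, φ, v, rfl⟩ := InstabFan.exists_mk p
    obtain ⟨n', φ', v', rfl⟩ := InstabFan.exists_mk q
    rw [hgmk, hgmk] at hpq
    obtain ⟨c, hc, e⟩ := InstabFan.exists_smul_of_ray_eq hpq
    change InstabFan.lift φ'.1 v'.1 = c • InstabFan.lift φ.1 v.1 at e
    rw [← map_smul] at e
    obtain ⟨l, a, b, z, hab, ha, hb⟩ := InstabFan.exists_refine' φ.1 φ.2.1 φ'.1 φ'.2.1 (InstabFan.scale c hc v) v'.1
      v'.2.1 e.symm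
    exact (InstabFan.mk_eq_mk_iff φ φ' v v').mpr ⟨l, a, b, z, c⁻¹, 1, Subtype.ext hab, inv_pos.mpr hc, one_pos,
      by rw [ha]; show v.1 = c⁻¹ • (c • v.1); rw [smul_smul, inv_mul_cancel₀ hc.ne', one_smul],
      by rw [hb, one_smul]⟩
  have hcone : ∀ (n : ICone) (φ : (RFan K).obj (op n)) (v : Fan.Orth n), RFan.toVec K n φ v.1 ∈ Set.iUnion K := by
    intro n φ v
    obtain ⟨a, ha⟩ := φ.2.2
    refine Set.mem_iUnion.mpr ⟨a, ?_⟩
    have hclosed : IsClosed (K a) := by
      rw [hgen a]; exact isClosed_iUnion_of_finite fun l => InstabFan.isClosed_coneHull (gen a l)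
    refine Set.eq_univ_iff_forall.mp (InstabFan.eq_univ_of_ratSet_subset (S := {w : Fan.Orth n | RFan.toVec K n φ w.1 ∈ K a})
      (hclosed.preimage ((LinearMap.continuous_of_finiteDimensional (InstabFan.lift φ.1)).comp InstabFan.continuous_val)) ?_) v
    rintro w ⟨ψ, c, hc, hw⟩
    show InstabFan.lift φ.1 w.1 ∈ K a
    have h1 : (Fan.Orth.ones Fan.one).1 = fun _ => ((1 : ℤ) : ℝ) := funext fun _ => Int.cast_one.symm
    rw [hw, map_smul, InstabFan.realMap_eq_lift, h1, InstabFan.lift_intCast, InstabFan.lift_intCast]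
    obtain ⟨l, hl⟩ := (hmemK a _).mp (ha _ (ψ.nonneg _ fun _ => zero_le_one))
    exact (hmemK a _).mpr ⟨l, InstabFan.smul_mem_coneHull hl hc.le⟩
  -- finitely many simplicial cones cover the range
  let ι' := {q : Σ a, Σ _ : Fin (m a), Finset (Fin N → ℤ) // q.2.2 ⊆ gen q.1 q.2.1 ∧ InstabFan.Indep q.2.2 ∧ 0 < q.2.2.card}
  haveI : Finite ι' := Finite.of_injective
    (fun q => (⟨q.1.1, q.1.2.1, q.1.2.2, Finset.mem_powerset.mpr q.2.1⟩ : Σ a, Σ l : Fin (m a), ↥(gen a l).powerset))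
    (by
      rintro ⟨⟨a, l, t⟩, h⟩ ⟨⟨a', l', t'⟩, h'⟩ e
      have e' := congrArg (fun z : Σ a, Σ l : Fin (m a), ↥(gen a l).powerset =>
        (⟨z.1, z.2.1, z.2.2.1⟩ : Σ a, Σ _ : Fin (m a), Finset (Fin N → ℤ))) e
      exact Subtype.ext e')
  let cn : ι' → Σ n : ICone, (RFan K).obj (op n) := fun q =>
    ⟨⟨⟨q.1.2.2.card, q.2.2.2⟩⟩, ⟨InstabFan.genMap q.1.2.2, InstabFan.genMap_injective q.2.2.1, q.1.1, fun x hx => by
      refine (hmemK _ _).mpr ⟨q.1.2.1, ?_⟩
      have h := InstabFan.lift_genMap_mem q.2.1 (y := fun i => (x i : ℝ)) (fun i => by exact_mod_cast hx i)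
      exact (InstabFan.lift_intCast (InstabFan.genMap q.1.2.2) x) ▸ h⟩⟩
  have hcover : ∀ w : {w : Fin N → ℝ // w ≠ 0}, w.1 ∈ Set.iUnion K →
      ∃ q, ∃ v : Fan.Orth (cn q).1, g (Fan.P.mk (cn q).2 v) = Quot.mk _ w := by
    intro w hw
    obtain ⟨a, ha⟩ := Set.mem_iUnion.mp hw
    obtain ⟨l, hl⟩ := (hmemK a _).mp ha
    obtain ⟨t, ht, hti, y, hy, e⟩ := InstabFan.exists_indep_lift hl
    have hy0 : y ≠ 0 := fun h => w.2 (by rw [← e, h, map_zero])
    have hcard : 0 < t.card := Nat.pos_of_ne_zero fun h => hy0 (funext fun i => absurd i.2 (by omega))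
    exact ⟨⟨⟨a, l, t⟩, ht, hti, hcard⟩, ⟨y, hy, hy0⟩, congrArg (Quot.mk _) (Subtype.ext e)⟩
  have hrange : Set.range g = {r | ∃ w : {w : Fin N → ℝ // w ≠ 0}, r = Quot.mk _ w ∧ w.1 ∈ Set.iUnion K} := by
    ext r
    constructor
    · rintro ⟨p, rfl⟩
      obtain ⟨n, φ, v, rfl⟩ := InstabFan.exists_mk p
      exact ⟨_, hgmk n φ v, hcone n φ v⟩
    · rintro ⟨w, rfl, hw⟩
      obtain ⟨q, v, hv⟩ := hcover w hw
      exact ⟨Fan.P.mk (cn q).2 v, hv⟩
  have huniv : (Set.univ : Set (Fan.P (RFan K))) = ⋃ q, Fan.P.cell (cn q).2 := by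
    refine (Set.eq_univ_of_forall fun p => ?_).symm
    obtain ⟨n, φ, v, rfl⟩ := InstabFan.exists_mk p
    obtain ⟨q, v', hv⟩ := hcover ⟨_, hne n φ v⟩ (hcone n φ v)
    exact Set.mem_iUnion.mpr ⟨q, v', hinj (hv.trans (hgmk n φ v).symm)⟩
  haveI : CompactSpace (Fan.P (RFan K)) := ⟨huniv ▸ isCompact_iUnion fun q => InstabFan.isCompact_cell _⟩
  haveI : T2Space (Fan.Rays N) := InstabFan.rays_t2
  have hcont : Continuous g := continuous_quot_lift _ (continuous_sigma fun e => continuous_quot_mk.comp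
    (Continuous.subtype_mk ((LinearMap.continuous_of_finiteDimensional (InstabFan.lift e.2.1)).comp InstabFan.continuous_val) _))
  exact ⟨g, fun n φ v _ => hgmk n φ v, (hcont.isClosedEmbedding hinj).isEmbedding, hrange⟩

end Groth.Agent.S19372
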