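import Groth.Statements.S19373
import Groth.Agent.InstabFan.Bounded
-- import your own Groth.Agent.* helpers here

set_option autoImplicit false
universe u
open CategoryTheory Opposite Instab
open Instab Instab.Fan

namespace Groth.Agent.S19373

/-- Let G be a quasi-separated formal fan, ξ an n-cone and ξ' an n'-cone of G. The pairs of points of
the rational simplices of ξ and ξ' with the same image in P G form a finite union of diagonally
embedded common rational sub-simplices: there is a finite set of pairs of cone morphisms φ : [k] ⟶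
[n], φ' : [k] ⟶ [n'] with G(φ) ξ = G(φ') ξ' such that nonzero nonnegative vectors v of ℝ^n and w of
ℝ^n' give the same point of P G if and only if, for one of these pairs and some nonzero nonnegative
y in ℝ^k, v is a positive multiple of φ y and w is a positive multiple of φ' y. (The assertion that
the image of finitely many rational simplices carries the quotient topology is not stated.) -/
theorem result (G : Fan.{u}) (hG : G.IsQuasiSeparated)
    {n n' : ICone} (ξ : G.obj (op n)) (ξ' : G.obj (op n')) :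
    ∃ s : Finset (Σ k : ICone, (k ⟶ n) × (k ⟶ n')),
      (∀ e ∈ s, G.map e.2.1.op ξ = G.map e.2.2.op ξ') ∧
      ∀ (v : Fan.Orth n) (w : Fan.Orth n'), Fan.P.mk ξ v = Fan.P.mk ξ' w ↔
        ∃ e ∈ s, ∃ (y : Fan.Orth e.1) (c c' : ℝ), 0 < c ∧ 0 < c' ∧
          v.1 = c • e.2.1.realMap y.1 ∧ w.1 = c' • e.2.2.realMap y.1 := by
  obtain ⟨s, hs₁, hs₂⟩ := InstabFan.exists_pairs hG ξ ξ'
  refine ⟨s, hs₁, fun v w => ⟨fun h => ?_, ?_⟩⟩
  · obtain ⟨e, he, y, c, hc, hy₁, hy₂⟩ := (hs₂ v w).mp h
    exact ⟨e, he, y, 1, c, one_pos, hc, by rw [one_smul, ← hy₁]; rfl, hy₂⟩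
  · rintro ⟨e, he, y, c, c', hc, hc', e₁, e₂⟩
    exact (InstabFan.mk_eq_mk_iff ξ ξ' v w).mpr ⟨e.1, _, _, y, c, c', hs₁ e he, hc, hc', e₁, e₂⟩

end Groth.Agent.S19373
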