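import Groth.Statements.S19374
import Groth.Agent.InstabFan.Basic
-- import your own Groth.Agent.* helpers here

set_option autoImplicit false
universe u
open CategoryTheory Opposite Instab
open Instab Instab.Fan

namespace Groth.Agent.S19374

/-- Let F be a formal fan and U ⊆ P F. Then U is locally convex in the simplex-wise sense — for every
rational simplex, a ray lying strictly between two rays that map into U also maps into U — if and
only if, for every n-cone ξ of F, the set of nonzero nonnegative vectors v of ℝ^n whose point of the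
rational simplex of ξ lies in U is a convex subset of ℝ^n (convexity of the preimage of U in each
punctured cone of the affine realization). -/
theorem result (F : Fan.{u}) (U : Set (Fan.P F)) :
    Fan.IsLocallyConvex U ↔
      ∀ (n : ICone) (ξ : F.obj (op n)),
        Convex ℝ {v : Fin n.dim → ℝ | ∃ h : (∀ i, 0 ≤ v i) ∧ v ≠ 0, Fan.P.mk ξ (⟨v, h⟩ : Fan.Orth n) ∈ U} := by
  constructor
  · intro h n ξ v ⟨hv, hvU⟩ w ⟨hw, hwU⟩ a b ha hb hab
    rcases ha.lt_or_eq with ha' | rfl
    rcases hb.lt_or_eq with hb' | rfl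
    · have hne : a • v + b • w ≠ 0 := by
        obtain ⟨i, hi⟩ : ∃ i, v i ≠ 0 := by
          by_contra hh; push Not at hh; exact hv.2 (funext hh)
        intro h0
        have h1 := congr_fun h0 i
        simp only [Pi.add_apply, Pi.smul_apply, smul_eq_mul, Pi.zero_apply] at h1
        have h2 : 0 < a * v i := mul_pos ha' (lt_of_le_of_ne (hv.1 i) (Ne.symm hi))
        have h3 : 0 ≤ b * w i := mul_nonneg hb (hw.1 i)
        linarith
      refine ⟨⟨fun i => add_nonneg (mul_nonneg ha (hv.1 i)) (mul_nonneg hb (hw.1 i)), hne⟩, ?_⟩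
      exact h n ξ ⟨v, hv⟩ _ ⟨w, hw⟩ hvU hwU ⟨a, b, ha', hb', rfl⟩
    · rw [add_zero] at hab
      subst hab
      rw [one_smul, zero_smul, add_zero]
      exact ⟨hv, hvU⟩
    · rw [zero_add] at hab
      subst hab
      rw [one_smul, zero_smul, zero_add]
      exact ⟨hw, hwU⟩
  · intro h n ξ v₀ v₁ v₂ h₀ h₂ hex
    obtain ⟨a, b, ha, hb, hv₁⟩ := hex
    have hab : 0 < a + b := add_pos ha hb
    obtain ⟨hc, hcU⟩ := h n ξ ⟨v₀.2, h₀⟩ ⟨v₂.2, h₂⟩ (div_pos ha hab).le (div_pos hb hab).le
      (by rw [← add_div, div_self hab.ne'])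
    rw [InstabFan.mk_eq_of_smul ξ (v := v₁) (w := ⟨_, hc⟩) (inv_pos.mpr hab) (by
      show (a / (a + b)) • v₀.1 + (b / (a + b)) • v₂.1 = (a + b)⁻¹ • v₁.1
      rw [hv₁, smul_add, smul_smul, smul_smul, div_eq_inv_mul, div_eq_inv_mul])]
    exact hcU

end Groth.Agent.S19374
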