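import Groth.Statements.S19375
import Groth.Agent.FormCat.OnePlus
import Groth.Agent.FlatLoc6.GeomComp

set_option autoImplicit false
universe u
open EGA4

namespace Groth.Agent.S19375

/-- Let A be a Noetherian ring, J a proper ideal of A, Â the J-adic completion of A and A_T the
localization of A at the multiplicative set T = 1 + J (the elements congruent to 1 modulo J). Assume
that the canonical map A → Â is a normal homomorphism (flat, with geometrically normal fibres), as
happens when A is excellent. Then Â is an integrally closed domain if and only if A_T is an
integrally closed domain and the spectrum of A/J is connected. (The published statement asserts the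
equivalence of the first two conditions alone; for A = ℤ and J = 6ℤ the localization A_T is an
integrally closed domain while Â ≅ ℤ_2 × ℤ_3 is not a domain, and the published proof tacitly uses
that Spec Â, whose connected components correspond to those of Spec(A/J), is connected. The case of
the henselization of the pair and of the weak completion is not stated here.) -/
theorem result
    (A : Type u) [CommRing A] [IsNoetherianRing A] (J : Ideal A) (hJ : J ≠ ⊤)
    (hf : EGA4.IsNormalHom A (AdicCompletion J A))
    (T : Submonoid A) (hT : T = MonoidHom.mker (Ideal.Quotient.mk J)) :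
    (IsDomain (AdicCompletion J A) ∧ IsIntegrallyClosed (AdicCompletion J A)) ↔
      ((IsDomain (Localization T) ∧ IsIntegrallyClosed (Localization T)) ∧
        ConnectedSpace (PrimeSpectrum (A ⧸ J))) := by
    obtain ⟨_, _, hff, ⟨e⟩⟩ := FormCat.exists_onePlus A J hJ T hT
    haveI := hff
    haveI : IsNoetherianRing (AdicCompletion J A) := FormalFib6.isNoetherianRing_adicCompletion A J
    haveI : IsNoetherianRing (Localization T) := IsLocalization.isNoetherianRing T _ inferInstance
    haveI : Algebra.EssFiniteType A (Localization T) := Algebra.EssFiniteType.of_isLocalization _ T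
    have hn := FormalFib6.isNormalHom_of_algEquiv e (FlatLoc6.isNormalHom_baseChange_ess A (AdicCompletion J A) (Localization T) hf)
    have hloc : ∀ (R : Type u) [CommRing R] [IsDomain R] [IsIntegrallyClosed R], EGA4.IsNormalRing R :=
      fun R _ _ _ p _ => ⟨IsLocalization.isDomain_localization p.primeCompl_le_nonZeroDivisors,
        isIntegrallyClosed_of_isLocalization _ p.primeCompl p.primeCompl_le_nonZeroDivisors⟩
    constructor
    · rintro ⟨hd, hi⟩
      haveI : IsDomain (Localization T) := Function.Injective.isDomain
        (f := algebraMap (Localization T) (AdicCompletion J A)) (FaithfulSMul.algebraMap_injective _ _)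
      refine ⟨⟨inferInstance, IntBC.isIntegrallyClosed_of_normal _
        (FlatLoc6.isNormalRing_of_faithfullyFlat _ (AdicCompletion J A) (hloc _))⟩, ?_⟩
      exact (FormCat.idem_adicCompletion_iff A J hJ).mp fun x hx => IsIdempotentElem.iff_eq_zero_or_one.mp hx
    · rintro ⟨⟨hd, hi⟩, hc⟩
      have hN := FlatLoc6.normal_of_isNormalHom _ _ hn (hloc (Localization T))
      haveI : Nontrivial (AdicCompletion J A) :=
        haveI : Nontrivial (A ⧸ J) := Ideal.Quotient.nontrivial_iff.mpr hJ
      (AdicCompletion.evalOneₐ J).toRingHom.domain_nontrivial
      haveI := FormCat.isDomain_of_normal_of_idem _ hN ((FormCat.idem_adicCompletion_iff A J hJ).mpr hc)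
      exact ⟨inferInstance, IntBC.isIntegrallyClosed_of_normal _ hN⟩

end Groth.Agent.S19375
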