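import Groth.Statements.S19376
import Mathlib.RingTheory.Smooth.AdicCompletion
import Mathlib.RingTheory.AdicCompletion.Completeness

set_option autoImplicit false
universe u
open EGA4

namespace Groth.Agent.S19376

open AdicCompletion in
/-- Finite powers of precomplete modules are precomplete. -/
theorem isPrecomplete_fin_fun {V : Type*} [CommRing V] (I : Ideal V) {M : Type*} [AddCommGroup M]
    [Module V M] [IsPrecomplete I M] (n : ℕ) : IsPrecomplete I (Fin n → M) := by
  classical
  refine ⟨fun f hf => ?_⟩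
  have key : ∀ i : Fin n, ∃ L : M, ∀ m, f m i ≡ L [SMOD (I ^ m • ⊤ : Submodule V M)] := by
    intro i
    refine IsPrecomplete.prec inferInstance (f := fun m => f m i) (fun {a b} hab => ?_)
    have h := hf hab
    rw [SModEq.sub_mem] at h ⊢
    have h2 : Submodule.map (LinearMap.proj i : (Fin n → M) →ₗ[V] M)
        (I ^ a • ⊤ : Submodule V (Fin n → M)) ≤ I ^ a • ⊤ := by
      rw [Submodule.map_smul'']
      exact Submodule.smul_mono le_rfl le_top
    exact h2 ⟨_, h, rfl⟩
  choose L hL using key
  refine ⟨L, fun m => ?_⟩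
  rw [SModEq.sub_mem, ← Finset.univ_sum_single (f m - L)]
  refine Submodule.sum_mem _ fun i _ => ?_
  have h := hL i m
  rw [SModEq.sub_mem] at h
  have h2 : Submodule.map (LinearMap.single V (fun _ : Fin n => M) i)
      (I ^ m • ⊤ : Submodule V M) ≤ I ^ m • ⊤ := by
    rw [Submodule.map_smul'']
    exact Submodule.smul_mono le_rfl le_top
  exact h2 ⟨_, h, rfl⟩

theorem evalₐ_mem_of_evalOneₐ_eq_zero {R : Type*} [CommRing R] (J : Ideal R)
    (x : AdicCompletion J R) (hx : AdicCompletion.evalOneₐ J x = 0) (n : ℕ) (hn : 1 ≤ n) :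
    AdicCompletion.evalₐ J n x ∈ J.map (Ideal.Quotient.mk (J ^ n)) := by
  obtain ⟨r, rfl⟩ := AdicCompletion.mk_surjective J R x
  rw [AdicCompletion.evalₐ_mk]
  apply Ideal.mem_map_of_mem
  have h1 : AdicCompletion.evalOneₐ J (AdicCompletion.mk J R r) =
      Ideal.Quotient.mk J (r.val 1) := by
    rw [← AdicCompletion.factorₐ_evalₐ_one, AdicCompletion.evalₐ_mk]
    rfl
  rw [h1, Ideal.Quotient.eq_zero_iff_mem] at hx
  have h2 := r.2 hn
  rw [SModEq.sub_mem, smul_eq_mul, Ideal.mul_top, pow_one] at h2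
  simpa using J.sub_mem hx h2

theorem factor_evalₐ' {R : Type*} [CommRing R] (J : Ideal R) {m n : ℕ} (hle : m ≤ n)
    (x : AdicCompletion J R) :
    Ideal.Quotient.factor (Ideal.pow_le_pow_right hle) (AdicCompletion.evalₐ J n x) =
      AdicCompletion.evalₐ J m x := by
  obtain ⟨r, rfl⟩ := AdicCompletion.mk_surjective J R x
  rw [AdicCompletion.evalₐ_mk, AdicCompletion.evalₐ_mk, Ideal.Quotient.factor_mk,
    Ideal.Quotient.eq]
  have h2 := r.2 hle
  rw [SModEq.sub_mem, smul_eq_mul, Ideal.mul_top] at h2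
  simpa using (J ^ m).neg_mem h2

theorem aux (V : Type u) [CommRing V] [IsNoetherianRing V] (I : Ideal V)
    (A C : Type u) [CommRing A] [Algebra V A] [Algebra.Smooth V A]
    [CommRing C] [Algebra V C]
    (IA : Ideal A) (IC : Ideal C)
    (hIA : IA = I.map (algebraMap V A)) (hIC : IC = I.map (algebraMap V C))
    (φ₀ : (A ⧸ IA) →ₐ[V] (C ⧸ IC))
    (hφ₀ : φ₀.toRingHom.Finite) :
    ∃ φ : AdicCompletion IA A →ₐ[V] AdicCompletion IC C,
      φ.toRingHom.Finite ∧
      (AdicCompletion.evalOneₐ IC).toRingHom.comp φ.toRingHom =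
        φ₀.toRingHom.comp (AdicCompletion.evalOneₐ IA).toRingHom := by
  classical
  have hI : I.FG := IsNoetherian.noetherian I
  have hICfg : IC.FG := hIC ▸ hI.map _
  have hIAfg : IA.FG := hIA ▸ hI.map _
  obtain ⟨g, hg⟩ := Algebra.FormallySmooth.exists_adicCompletionEvalOneₐ_comp_eq
    (I := IC) (φ₀.comp (Ideal.Quotient.mkₐ V IA))
  have hg' : ∀ a, AdicCompletion.evalOneₐ IC (g a) = φ₀ (Ideal.Quotient.mk IA a) := fun a =>
    congr($hg a)
  -- `g` carries `IA ^ n` to zero modulo `IC ^ n`
  have hker : ∀ (n : ℕ) (a : A), a ∈ IA ^ n →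
      (((AdicCompletion.evalₐ IC n).restrictScalars V).comp g) a = 0 := by
    intro n
    set h := ((AdicCompletion.evalₐ IC n).restrictScalars V).comp g with hh
    suffices hle : IA ^ n ≤ RingHom.ker h.toRingHom by
      intro a ha
      exact hle ha
    rcases Nat.eq_zero_or_pos n with rfl | hn
    · intro a _
      haveI : Subsingleton (C ⧸ IC ^ 0) := by
        rw [pow_zero, Ideal.one_eq_top]
        exact Ideal.Quotient.subsingleton_iff.2 rfl
      exact Subsingleton.elim _ _
    · have h1 : IA.map h.toRingHom ≤ IC.map (Ideal.Quotient.mk (IC ^ n)) := by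
        rw [Ideal.map_le_iff_le_comap]
        intro a ha
        refine evalₐ_mem_of_evalOneₐ_eq_zero IC (g a) ?_ n hn
        rw [hg', Ideal.Quotient.eq_zero_iff_mem.2 ha, map_zero]
      rw [← Ideal.map_eq_bot_iff_le_ker, ← le_bot_iff, Ideal.map_pow]
      refine (Ideal.pow_right_mono h1 n).trans ?_
      rw [← Ideal.map_pow, Ideal.map_quotient_self]
  let F : (n : ℕ) → AdicCompletion IA A →ₐ[V] C ⧸ IC ^ n := fun n =>
    (Ideal.Quotient.liftₐ (IA ^ n) (((AdicCompletion.evalₐ IC n).restrictScalars V).comp g)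
      (hker n)).comp ((AdicCompletion.evalₐ IA n).restrictScalars V)
  have hFmk : ∀ n r, F n (AdicCompletion.mk IA A r) =
      AdicCompletion.evalₐ IC n (g (r.val n)) := by
    intro n r
    simp only [F, AlgHom.comp_apply, AlgHom.restrictScalars_apply, AdicCompletion.evalₐ_mk]
    rfl
  have hF : ∀ {m n : ℕ} (hle : m ≤ n),
      (Ideal.Quotient.factorₐ V (Ideal.pow_le_pow_right hle)).comp (F n) = F m := by
    intro m n hle
    refine AlgHom.ext fun x => ?_
    obtain ⟨r, rfl⟩ := AdicCompletion.mk_surjective IA A x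
    rw [AlgHom.comp_apply, hFmk, hFmk, Ideal.Quotient.factorₐ_apply, factor_evalₐ' IC hle]
    have h2 := r.2 hle
    rw [SModEq.sub_mem, smul_eq_mul, Ideal.mul_top] at h2
    have h3 := hker m _ h2
    simp only [AlgHom.comp_apply, AlgHom.restrictScalars_apply, map_sub, sub_eq_zero] at h3
    exact h3.symm
  let φ := AdicCompletion.liftAlgHom IC F hF
  have hφev : ∀ x, AdicCompletion.evalOneₐ IC (φ x) =
      φ₀ (AdicCompletion.evalOneₐ IA x) := by
    intro x
    obtain ⟨r, rfl⟩ := AdicCompletion.mk_surjective IA A x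
    rw [AdicCompletion.evalOneₐ_liftAlgHom, hFmk,
      ← AdicCompletion.factorₐ_evalₐ_one IA, AdicCompletion.evalₐ_mk, Ideal.Quotient.factor_mk,
      ← hg']
    rfl
  refine ⟨φ, ?_, RingHom.ext fun x => hφev x⟩
  -- finiteness
  obtain ⟨n, c, hc⟩ : ∃ (n : ℕ) (c : Fin n → C), ∀ y : C ⧸ IC, ∃ a : Fin n → A,
      y = ∑ i, φ₀ (Ideal.Quotient.mk IA (a i)) * Ideal.Quotient.mk IC (c i) := by
    letI := φ₀.toRingHom.toAlgebra
    haveI : Module.Finite (A ⧸ IA) (C ⧸ IC) := hφ₀
    obtain ⟨n, s, hs⟩ := Module.Finite.exists_fin (R := A ⧸ IA) (M := C ⧸ IC)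
    choose c hc using fun i => Ideal.Quotient.mk_surjective (s i)
    refine ⟨n, c, fun y => ?_⟩
    obtain ⟨b, hb⟩ := (Submodule.mem_span_range_iff_exists_fun (A ⧸ IA)).1
      (hs ▸ Submodule.mem_top (x := y))
    choose a ha using fun i => Ideal.Quotient.mk_surjective (b i)
    refine ⟨a, ?_⟩
    simp only [ha, hc]
    exact hb.symm
  haveI : IsAdicComplete IA (AdicCompletion IA A) := AdicCompletion.isAdicComplete hIAfg
  haveI : IsPrecomplete I (AdicCompletion IA A) :=
    (IsPrecomplete.map_algebraMap_iff (I := I) (S := A)).1 (hIA ▸ inferInstance)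
  haveI := isPrecomplete_fin_fun I (M := AdicCompletion IA A) n
  haveI : IsHausdorff I (AdicCompletion IC C) :=
    (IsHausdorff.map_algebraMap_iff (I := I) (S := C)).1
      (hIC ▸ inferInstanceAs (IsHausdorff IC (AdicCompletion IC C)))
  let Φ : (Fin n → AdicCompletion IA A) →ₗ[V] AdicCompletion IC C :=
    ∑ i, (LinearMap.mulRight V (AdicCompletion.of IC C (c i))).comp
      (φ.toLinearMap.comp (LinearMap.proj i))
  have hΦ : ∀ a, Φ a = ∑ i, φ (a i) * AdicCompletion.of IC C (c i) := by
    intro a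
    simp [Φ]
  have hsurj : Function.Surjective Φ := by
    refine surjective_of_mkQ_comp_surjective (I := I) fun q => ?_
    obtain ⟨y, rfl⟩ := Submodule.mkQ_surjective _ q
    obtain ⟨a, ha⟩ := hc (AdicCompletion.evalOneₐ IC y)
    refine ⟨fun i => AdicCompletion.of IA A (a i), ?_⟩
    rw [LinearMap.comp_apply, Submodule.mkQ_apply, Submodule.mkQ_apply, Submodule.Quotient.eq,
      Ideal.smul_top_eq_map, Submodule.restrictScalars_mem,
      IsScalarTower.algebraMap_eq V C (AdicCompletion IC C), ← Ideal.map_map, ← hIC,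
      ← AdicCompletion.ker_evalOneₐ_eq_map IC hICfg, RingHom.mem_ker, hΦ]
    simp [map_sum, hφev, ha]
  letI := φ.toRingHom.toAlgebra
  show Module.Finite (AdicCompletion IA A) (AdicCompletion IC C)
  refine Module.Finite.of_fg_top ⟨Finset.univ.image fun i => AdicCompletion.of IC C (c i), ?_⟩
  rw [eq_top_iff]
  intro y _
  obtain ⟨a, rfl⟩ := hsurj y
  rw [hΦ]
  exact Submodule.sum_mem _ fun i _ => Submodule.smul_mem _ (a i)
    (Submodule.subset_span (by simp))


/-- Let V be an excellent normal ring with no additive torsion, I an ideal of V such that (V, I) is a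
henselian pair, A and C smooth V-algebras, and φ₀ a V-algebra homomorphism from A/IA to C/IC which
is finite. Then φ₀ lifts to a finite V-algebra homomorphism φ from the IA-adic completion of A to
the IC-adic completion of C: composing φ with the projection onto C/IC equals the projection onto
A/IA followed by φ₀. (The published statement also treats finite flat, finite faithfully flat and
finite étale maps, whose proofs are referred elsewhere; only the finite case is stated.) -/
theorem result
    (V : Type u) [CommRing V] [IsAddTorsionFree V]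
    (hexc : EGA4.IsExcellent V) (hV : EGA4.IsNormalRing V)
    (I : Ideal V) [HenselianRing V I]
    (A C : Type u) [CommRing A] [Algebra V A] [Algebra.Smooth V A]
    [CommRing C] [Algebra V C] [Algebra.Smooth V C]
    (φ₀ : (A ⧸ I.map (algebraMap V A)) →ₐ[V] (C ⧸ I.map (algebraMap V C)))
    (hφ₀ : φ₀.toRingHom.Finite) :
    ∃ φ : AdicCompletion (I.map (algebraMap V A)) A →ₐ[V]
        AdicCompletion (I.map (algebraMap V C)) C,
      φ.toRingHom.Finite ∧
      (AdicCompletion.evalOneₐ (I.map (algebraMap V C))).toRingHom.comp φ.toRingHom =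
        φ₀.toRingHom.comp (AdicCompletion.evalOneₐ (I.map (algebraMap V A))).toRingHom := by
  haveI : IsNoetherianRing V := hexc.1
  exact aux V I A C _ _ rfl rfl φ₀ hφ₀

end Groth.Agent.S19376
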