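import Groth.Statements.S19377
import Groth.Agent.GrpSchLib.SmoothRegular
import Groth.Agent.RegLoc6.Basic
import Groth.Agent.PtIntegral5.Components
import Groth.Agent.ProjCl17.Basic
import Groth.Agent.RelVA16.Qcqs
import Groth.Agent.AmpleX.Comp
import Groth.Agent.AmpleX.BaseChange
import Mathlib.AlgebraicGeometry.Morphisms.UniversallyOpen
import Mathlib.AlgebraicGeometry.Morphisms.Smooth

set_option backward.isDefEq.respectTransparency false
set_option backward.isDefEq.respectTransparency.types false
set_option linter.style.haveILetI false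

set_option autoImplicit false
universe u
open CategoryTheory CategoryTheory.Limits AlgebraicGeometry
open RelProj

namespace Groth.Agent.S19377

/-- In a smooth quasi-compact scheme over a field, irreducible components are open. -/
theorem isOpen_component {k : Type u} [Field k] {S : Scheme.{u}} (g : S ⟶ Spec (.of k)) [Smooth g]
    [TopologicalSpace.NoetherianSpace S] {A : Set S} (hA : A ∈ irreducibleComponents (S : Type u)) : IsOpen A := by
  have hdom : ∀ z : S, IsDomain (S.presheaf.stalk z) := fun z => by
    haveI := GrpSchLib.isRegularLocalRing_stalk_of_smooth g z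
    exact RegLoc6.isDomain_of_isRegularLocalRing _
  have hc : Aᶜ = ⋃₀ (irreducibleComponents ↥S \ {A}) := by
    ext z
    refine ⟨fun hz => ⟨_, ⟨irreducibleComponent_mem_irreducibleComponents z, fun he => ?_⟩,
      mem_irreducibleComponent⟩, ?_⟩
    · exact hz ((Set.mem_singleton_iff.1 he) ▸ mem_irreducibleComponent)
    · rintro ⟨C, ⟨hC, hCA⟩, hzC⟩ hzA
      haveI := hdom z
      exact hCA (Set.mem_singleton_iff.2 (PtIntegral5.eq_of_isDomain_stalk z hC hA hzC hzA))
  refine isClosed_compl_iff.1 ?_
  rw [hc, Set.sUnion_eq_biUnion]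
  exact (TopologicalSpace.NoetherianSpace.finite_irreducibleComponents.subset
    Set.sdiff_subset).isClosed_biUnion fun C hC => isClosed_of_mem_irreducibleComponents _ hC.1

/-- Let k be a field, S a smooth, separated and quasi-compact k-scheme and f : X → S a proper smooth
morphism. The following two conditions are equivalent. (P): there is a dense open subscheme U of X,
quasi-projective over S, such that every connected component of S has a point not lying in the image
f(X ∖ U). Generic projectivity: there is a dense open subscheme V of S such that the restriction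
f⁻¹(V) → V of f is projective. (The source works over the residue field of a complete discrete
valuation ring of mixed characteristic and adds that the restriction over V is smooth, which is
automatic; the base field plays no role and is arbitrary here.) -/
theorem result
    {k : Type u} [Field k] {X S : Scheme.{u}} (f : X ⟶ S) (g : S ⟶ Spec (.of k))
    [Smooth g] [IsSeparated g] [QuasiCompact g] [IsProper f] [Smooth f] :
    (∃ U : X.Opens, Dense (U : Set X) ∧ RelProj.IsQuasiProjective (U.ι ≫ f) ∧
        ∀ s : S, ∃ s' : S, s' ∈ connectedComponent s ∧ s' ∉ ⇑f.base '' (U : Set X)ᶜ) ↔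
      ∃ V : S.Opens, Dense (V : Set S) ∧ RelProj.IsProjective (f ∣_ V) := by
  haveI : IsLocallyNoetherian S := LocallyOfFiniteType.isLocallyNoetherian g
  haveI : CompactSpace S := QuasiCompact.compactSpace_of_compactSpace g
  haveI : IsNoetherian S := ⟨⟩
  have hcc : ∀ (A : Set S), A ∈ irreducibleComponents (S : Type u) → ∀ s ∈ A,
      _root_.connectedComponent s = A := fun A hA s hs =>
    (IsClopen.connectedComponent_subset ⟨isClosed_of_mem_irreducibleComponents _ hA, isOpen_component g hA⟩
      hs).antisymm (PtIntegral5.component_subset_connectedComponent hA hs)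
  constructor
  · rintro ⟨U, hUd, ⟨hft, hqc, L, hL⟩, hs⟩
    let V : S.Opens := ⟨(⇑f.base '' (U : Set X)ᶜ)ᶜ,
      (f.isClosedMap _ U.isOpen.isClosed_compl).isOpen_compl⟩
    refine ⟨V, fun s => ?_, ?_⟩
    · obtain ⟨s', hs', hs'V⟩ := hs s
      have hA := irreducibleComponent_mem_irreducibleComponents s
      rw [hcc _ hA s mem_irreducibleComponent] at hs'
      exact closure_mono Set.inter_subset_right
        (subset_closure_inter_of_isPreirreducible_of_isOpen hA.1.2 V.isOpen ⟨s', hs', hs'V⟩
          mem_irreducibleComponent)
    · have hle : f ⁻¹ᵁ V ≤ U := fun x hx => by_contra fun h => hx ⟨x, h, rfl⟩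
      haveI : IsProper (f ∣_ V) := IsZariskiLocalAtTarget.restrict ‹IsProper f› V
      let j : ((f ⁻¹ᵁ V : X.Opens) : Scheme.{u}) ⟶ pullback (U.ι ≫ f) V.ι :=
        pullback.lift (X.homOfLE hle) (f ∣_ V) (by rw [Scheme.homOfLE_ι_assoc, morphismRestrict_ι])
      have h1 : j ≫ pullback.fst (U.ι ≫ f) V.ι = X.homOfLE hle := pullback.lift_fst _ _ _
      have h2 : j ≫ pullback.snd (U.ι ≫ f) V.ι = f ∣_ V := pullback.lift_snd _ _ _
      haveI : QuasiCompact (j ≫ pullback.snd (U.ι ≫ f) V.ι) := by rw [h2]; infer_instance
      haveI : QuasiCompact j := QuasiCompact.of_comp j (pullback.snd (U.ι ≫ f) V.ι)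
      have hj : Topology.IsEmbedding j.base := by
        refine Topology.IsEmbedding.of_comp j.continuous (pullback.fst (U.ι ≫ f) V.ι).continuous ?_
        have := (X.homOfLE hle).isOpenEmbedding.isEmbedding
        rwa [← h1] at this
      have hq : RelProj.IsQuasiProjective (f ∣_ V) := ⟨inferInstance, inferInstance, _,
        h2 ▸ AmpleX.isRelAmple_pullback_embedding _ j hj (AmpleX.isRelAmple_baseChange _ V.ι hL)⟩
      haveI : CompactSpace (V : Scheme.{u}) :=
        isCompact_iff_compactSpace.1 (TopologicalSpace.NoetherianSpace.isCompact (V : Set S))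
      exact RelVA16.isProjective_of_isQuasiProjective hq
  · rintro ⟨V, hVd, hV⟩
    refine ⟨f ⁻¹ᵁ V, hVd.preimage f.isOpenMap, ?_, fun s => ?_⟩
    · rw [← morphismRestrict_ι]
      obtain ⟨⟨hft, hqc, L, hL⟩, -⟩ := ProjCl17.isQuasiProjective_and_isProper hV
      haveI := hft
      haveI := hqc
      have hV' := (AmpleX.isQuasiAffine_iff_isRelAmple V.ι).1
        (AmpleX.isQuasiAffine_of_isEmbedding V.ι V.ι.isOpenEmbedding.isEmbedding)
      obtain ⟨n, -, hn⟩ := AmpleX.eventually_isRelAmple_comp _ V.ι hL hV'
      exact ⟨inferInstance, inferInstance, _, hn n le_rfl⟩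
    · have hA := irreducibleComponent_mem_irreducibleComponents s
      obtain ⟨s', hs', hs'V⟩ := hVd.inter_open_nonempty _ (isOpen_component g hA) ⟨s, mem_irreducibleComponent⟩
      exact ⟨s', PtIntegral5.component_subset_connectedComponent hA mem_irreducibleComponent hs',
        fun ⟨x, hx, hxs⟩ => hx (show f x ∈ V from hxs ▸ hs'V)⟩

end Groth.Agent.S19377
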