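import Groth.Statements.S19379
import Groth.Agent.RegFS6.LocCrit

set_option autoImplicit false
universe u
open CAlg

namespace Groth.Agent.S19379

/-- Let A and B be Noetherian rings and let B be an A-algebra which is formally smooth for the discrete
topologies. Then A → B is a regular homomorphism, that is, flat with (Noetherian) geometrically
regular fibres. -/
theorem result
    (A B : Type u) [CommRing A] [CommRing B] [Algebra A B]
    [IsNoetherianRing A] [IsNoetherianRing B] [Algebra.FormallySmooth A B] :
    CAlg.IsRegularHom A B := by
    refine RegFS6.isRegularHom_of_fs_localRingHom fun q _ => ?_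
    let p := q.comap (algebraMap A B)
    haveI : q.LiesOver p := ⟨rfl⟩
    letI := Localization.AtPrime.algebraOfLiesOver p q
    intro E _ _ J hJ ψ _
    letI : Algebra A E := ((algebraMap (Localization.AtPrime p) E).comp (algebraMap A (Localization.AtPrime p))).toAlgebra
    haveI : IsScalarTower A (Localization.AtPrime p) E := IsScalarTower.of_algebraMap_eq fun _ => rfl
    haveI : Algebra.FormallySmooth B (Localization.AtPrime q) :=
      Algebra.FormallySmooth.of_isLocalization q.primeCompl
    haveI : Algebra.FormallySmooth A (Localization.AtPrime q) := Algebra.FormallySmooth.comp A B _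
    obtain ⟨χ, hχ⟩ := Algebra.FormallySmooth.exists_lift (R := A) J ⟨2, by rw [hJ, Ideal.zero_eq_bot]⟩ (ψ.restrictScalars A)
    have hc : χ.toRingHom.comp (algebraMap (Localization.AtPrime p) (Localization.AtPrime q)) =
        algebraMap (Localization.AtPrime p) E := by
      refine IsLocalization.ringHom_ext p.primeCompl (RingHom.ext fun a => ?_)
      simp only [RingHom.comp_apply]
      rw [← IsScalarTower.algebraMap_apply A (Localization.AtPrime p) (Localization.AtPrime q),
        ← IsScalarTower.algebraMap_apply A (Localization.AtPrime p) E]
      exact χ.commutes a
    exact ⟨{ χ.toRingHom with commutes' := fun x => RingHom.congr_fun hc x }, AlgHom.ext fun y => AlgHom.congr_fun hχ y⟩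

end Groth.Agent.S19379
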