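import Groth.Statements.S1938
import Groth.Agent.GrpdLib.StabTorsor
import Groth.Agent.S9371
import Groth.Agent.S9372

set_option backward.isDefEq.respectTransparency false
set_option backward.isDefEq.respectTransparency.types false
-- import your own Groth.Agent.* helpers here

set_option autoImplicit false
universe u
open CategoryTheory CategoryTheory.Limits AlgebraicGeometry
open Grpd

namespace Groth.Agent.S1938

/-- Let (U, R, s, t, c) be a groupoid scheme over S, e : U → R its identity and C_{U/R} the conormal
sheaf of the immersion e. View R as a scheme over U via t. Then there is an epimorphism of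
O_R-modules s^*C_{U/R} → Ω_{R/U}, and if s is flat there is an isomorphism s^*C_{U/R} ≅ Ω_{R/U}.
(The published statement has t^*C_{U/R} here; with R over U via t that version is false — for the
pair groupoid of the disjoint union of a point and the affine line over ℚ the two sheaves have
different supports — and the statement given here has s^*C_{U/R} instead.) Stated for t
quasi-separated, where the shared prelude's Ω_{R/U} (conormal sheaf of the diagonal of t through
Mathlib's kernel ideal sheaf) and conormal sheaf of the section e are the usual ones. (A groupoid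
scheme carries U, R, s, t, c, e, i over S with the groupoid axioms on T-points.) -/
theorem result (S : Scheme.{u}) (G : Grpd.GroupoidScheme S) [QuasiSeparated G.t] : (∃ φ : (Scheme.Modules.pullback G.s).obj (Omega.conormal G.e) ⟶ Omega.sheaf G.t, Epi φ) ∧ (Flat G.s → Nonempty ((Scheme.Modules.pullback G.s).obj (Omega.conormal G.e) ≅ Omega.sheaf G.t)) :=  by
  have ht : G.e ≫ G.t = 𝟙 G.U := G.e_t
  haveI : IsImmersion (G.e ≫ G.t) := by rw [ht]; infer_instance
  haveI : IsImmersion G.e := IsImmersion.of_comp G.e G.t
  haveI : QuasiCompact (G.e ≫ G.t) := by rw [ht]; infer_instance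
  haveI : QuasiCompact G.e := QuasiCompact.of_comp G.e G.t
  let ψ := (GrpdLib.isPullback_fst_c G).isoPullback
  let σ : G.R ⟶ pullback G.s G.t := pullback.lift (𝟙 G.R) (G.s ≫ G.e) (by
    rw [Category.id_comp, Category.assoc, G.e_t, Category.comp_id])
  have hσ : σ ≫ ψ.hom = pullback.diagonal G.t := by
    apply pullback.hom_ext
    · rw [Category.assoc, IsPullback.isoPullback_hom_fst, pullback.lift_fst, pullback.diagonal_fst]
    · rw [Category.assoc, IsPullback.isoPullback_hom_snd, pullback.diagonal_snd]
      refine (GrpdLib.c_congr G _ rfl ?_).trans (G.comp_e (𝟙 G.R))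
      rw [Category.id_comp]
  have h0 : IsPullback σ G.s (pullback.snd G.s G.t) G.e := by
    refine IsPullback.of_right ?_ (pullback.lift_snd _ _ _) (IsPullback.of_hasPullback G.s G.t)
    rw [pullback.lift_fst, ht]
    exact IsPullback.of_horiz_isIso ⟨by simp⟩
  have h1 : IsPullback (pullback.diagonal G.t) G.s (ψ.inv ≫ pullback.snd G.s G.t) G.e := by
    refine h0.of_iso (Iso.refl _) ψ (Iso.refl _) (Iso.refl _) ?_ ?_ ?_ ?_ <;> simp [hσ]
  obtain ⟨φ, hφ, -⟩ := Groth.Agent.S9371.result (pullback.diagonal G.t) G.e (ψ.inv ≫ pullback.snd G.s G.t) G.s h1.w.symm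
  obtain ⟨hepi, hiso⟩ := Groth.Agent.S9372.result (pullback.diagonal G.t) G.e (ψ.inv ≫ pullback.snd G.s G.t) G.s h1 φ hφ
  refine ⟨⟨φ, hepi⟩, fun hflat => ?_⟩
  haveI : Flat (pullback.snd G.s G.t) := inferInstance
  haveI := hiso inferInstance
  exact ⟨asIso φ⟩
end Groth.Agent.S1938
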