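import Groth.Statements.S19380
import Mathlib

set_option autoImplicit false
universe u
open CAlg

namespace Groth.Agent.S19380

/-- Let L be a commutative ring, σ a ring automorphism of L of finite order dividing d (σ^d = 1), and C
an r × r matrix over L. The reverse characteristic polynomial det(1 − T·N) of the twisted product N
= C·σ(C)·σ²(C)⋯σ^(d−1)(C), with σ applied to the entries, is fixed by σ acting on coefficients. (In
the source this is phrased for the fibre at a closed point x of degree d of a convergent F-module
with Frobenius matrix C: the d-th iterate of the semilinear Frobenius of the fibre is the linear map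
with matrix N, so its characteristic polynomial has coefficients in the subfield fixed by the
Frobenius of K(x), namely K, and likewise with the valuation ring in place of K for an integral
F-module; only this linear-algebra statement, over any commutative ring, is given here.) -/
theorem result
    (L : Type u) [CommRing L] (σ : L ≃+* L) (d : ℕ) (hσ : σ ^ d = 1)
    (r : ℕ) (C : Matrix (Fin r) (Fin r) L) :
    (Matrix.charpolyRev (((List.range d).map fun i => C.map ⇑(σ ^ i)).prod)).map (σ : L →+* L) =
      Matrix.charpolyRev (((List.range d).map fun i => C.map ⇑(σ ^ i)).prod) := by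
  let σh : L →+* L := σ
  let g : ℕ → Matrix (Fin r) (Fin r) L := fun i => C.map ⇑(σ ^ i)
  show (Matrix.charpolyRev ((List.range d).map g).prod).map σh = Matrix.charpolyRev ((List.range d).map g).prod
  have hmap : ∀ M : Matrix (Fin r) (Fin r) L,
      (Matrix.charpolyRev M).map σh = Matrix.charpolyRev (σh.mapMatrix M) := by
    intro M
    rw [Matrix.charpolyRev, Matrix.charpolyRev, ← Polynomial.coe_mapRingHom, RingHom.map_det]
    congr 1
    ext i j
    by_cases h : i = j <;> simp [h]
  have hcomm : ∀ P Q : Matrix (Fin r) (Fin r) L,
      Matrix.charpolyRev (P * Q) = Matrix.charpolyRev (Q * P) := by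
    intro P Q
    rw [Matrix.charpolyRev, Matrix.charpolyRev, Matrix.map_mul, Matrix.map_mul,
      ← Matrix.smul_mul, Matrix.det_one_sub_mul_comm, Matrix.mul_smul]
  rw [hmap]
  rcases Nat.eq_zero_or_pos d with rfl | hd
  · simp
  obtain ⟨n, rfl⟩ := Nat.exists_eq_succ_of_ne_zero hd.ne'
  have hg : ∀ i, σh.mapMatrix (g i) = g (i + 1) := by
    intro i
    ext a b
    show σ ((σ ^ i) (C a b)) = (σ ^ (i + 1)) (C a b)
    rw [pow_succ', RingAut.mul_apply]
  have hlast : g (n + 1) = g 0 := by
    show C.map ⇑(σ ^ (n + 1)) = C.map ⇑(σ ^ 0)
    rw [hσ, pow_zero]
  have e : σh.mapMatrix ((List.range (n + 1)).map g).prod =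
      ((List.range n).map fun i => g (i + 1)).prod * g 0 := by
    rw [map_list_prod, List.map_map, List.range_succ, List.map_append, List.prod_append]
    simp only [Function.comp_def, hg, List.map_singleton, List.prod_singleton, hlast]
  rw [e, hcomm, List.range_succ_eq_map, List.map_cons, List.prod_cons, List.map_map]
  rfl

end Groth.Agent.S19380
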