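import Groth.Statements.S19381
import Mathlib
import Groth.Agent.AdicFlatProper.Basic

set_option autoImplicit false
universe u
open CategoryTheory CategoryTheory.Limits AlgebraicGeometry
open FlatMor

namespace Groth.Agent.S19381

/-- Over a discrete valuation ring, let V be a henselian discrete valuation ring with maximal ideal 𝔪, A
a smooth V-algebra, Â the 𝔪A-adic completion of A, and h : X → Spec A a proper morphism with
reduction h₀ : X ×_{Spec A} Spec(A/𝔪A) → Spec(A/𝔪A). Then X is flat over V and h₀ is flat if and
only if the base change of h to Spec Â is flat. (The published statement is for an excellent normal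
ring V with a henselian pair (V, V/I) and the projective lift h built from lifted equations, and
also lists the base changes to the weak completion and to the henselization of (A, 𝔪A); it rests on
a lemma asserting 'B flat over V iff B̂ flat over V' for V-algebras B of finite type, which fails
when V has dimension ≥ 2 (V = ℤ_p[[x]], I = (p), B = V[y]/(x, py − 1) ≅ ℚ_p has B̂ = 0), so the
statement is given over a discrete valuation ring and for an arbitrary proper h.) -/
theorem result
    (V : Type u) [CommRing V] [IsDomain V] [IsDiscreteValuationRing V] [HenselianLocalRing V]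
    (A : Type u) [CommRing A] [Algebra V A] [Algebra.Smooth V A]
    (X : Scheme.{u}) (h : X ⟶ Spec (.of A)) [IsProper h] :
    (Flat (h ≫ Spec.map (CommRingCat.ofHom (algebraMap V A))) ∧
        Flat (pullback.snd h (Spec.map (CommRingCat.ofHom
          (Ideal.Quotient.mk ((IsLocalRing.maximalIdeal V).map (algebraMap V A))))))) ↔
      Flat (pullback.snd h (Spec.map (CommRingCat.ofHom
          (algebraMap A (AdicCompletion ((IsLocalRing.maximalIdeal V).map (algebraMap V A)) A))))) := by
  open CategoryTheory.Limits Groth.Agent.AdicFlatProper in
  haveI : IsNoetherianRing A := Algebra.FiniteType.isNoetherianRing V A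
  haveI : LocallyOfFinitePresentation (str V A) := by
    rw [HasRingHomProperty.Spec_iff (P := @LocallyOfFinitePresentation)]
    exact RingHom.finitePresentation_algebraMap.mpr inferInstance
  haveI : LocallyOfFiniteType h := inferInstance
  haveI : LocallyOfFinitePresentation h := inferInstance
  haveI : LocallyOfFinitePresentation (h ≫ str V A) := inferInstance
  constructor
  · rintro ⟨hV, h0⟩
    haveI := hV
    let U : X.Opens := ⟨{x | (h.stalkMap x).hom.Flat}, Groth.Agent.FlatLocus.isOpen_flat_locus h⟩
    refine cpl_of_opens V A h (P := @Flat) U (fun x hx => ?_) ?_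
    · exact (FlatMisc.flat_of_flat_fibre (str V A) h x (Flat.stalkMap _ _)
        (fibre_of_red V A h (P := @Flat) h0 ((closed_iff V A _).mpr hx))).2
    · refine Flat.of_stalkMap _ fun x => ?_
      rw [Scheme.Hom.stalkMap_comp]
      have h1 : (h.stalkMap (U.ι x)).hom.Flat := x.2
      exact h1.comp (Flat.stalkMap U.ι x)
  · intro hA
    exact ⟨flat_over_base V A h hA, red_of_cpl V A h (P := @Flat) hA⟩

end Groth.Agent.S19381
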