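import Groth.Statements.S19382
import Mathlib
import Groth.Agent.AdicFlatProper.Basic

set_option autoImplicit false
universe u
open CategoryTheory CategoryTheory.Limits AlgebraicGeometry
open FlatMor

namespace Groth.Agent.S19382

/-- Over a discrete valuation ring, let V be a henselian discrete valuation ring with maximal ideal 𝔪, A
a smooth V-algebra, Â the 𝔪A-adic completion of A, and h : X → Spec A a proper morphism with
reduction h₀ over Spec(A/𝔪A). Then X is flat over V and h₀ is smooth if and only if the base change
of h to Spec Â is smooth. (As for the flat case, the published statement concerns an excellent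
normal base ring with a henselian pair and the projective lift built from lifted equations, together
with the weak completion and the henselization; it is given here over a discrete valuation ring and
for an arbitrary proper h.) -/
theorem result
    (V : Type u) [CommRing V] [IsDomain V] [IsDiscreteValuationRing V] [HenselianLocalRing V]
    (A : Type u) [CommRing A] [Algebra V A] [Algebra.Smooth V A]
    (X : Scheme.{u}) (h : X ⟶ Spec (.of A)) [IsProper h] :
    (Flat (h ≫ Spec.map (CommRingCat.ofHom (algebraMap V A))) ∧
        Smooth (pullback.snd h (Spec.map (CommRingCat.ofHom
          (Ideal.Quotient.mk ((IsLocalRing.maximalIdeal V).map (algebraMap V A))))))) ↔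
      Smooth (pullback.snd h (Spec.map (CommRingCat.ofHom
          (algebraMap A (AdicCompletion ((IsLocalRing.maximalIdeal V).map (algebraMap V A)) A))))) := by
  open CategoryTheory.Limits Groth.Agent.AdicFlatProper in
  haveI : IsNoetherianRing A := Algebra.FiniteType.isNoetherianRing V A
  haveI : LocallyOfFinitePresentation (str V A) := by
    rw [HasRingHomProperty.Spec_iff (P := @LocallyOfFinitePresentation)]
    exact RingHom.finitePresentation_algebraMap.mpr inferInstance
  haveI : LocallyOfFiniteType h := inferInstance
  haveI : LocallyOfFinitePresentation h := inferInstance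
  haveI : LocallyOfFinitePresentation (h ≫ str V A) := inferInstance
  constructor
  · rintro ⟨hV, h0⟩
    haveI := hV
    refine cpl_of_opens V A h (P := @Smooth) h.smoothLocus (fun x hx => ?_) ?_
    · exact FlatMisc.smooth_stalk_of_smooth_fibre (str V A) h x (Flat.stalkMap _ _)
        (fibre_of_red V A h (P := @Smooth) h0 ((closed_iff V A _).mpr hx))
    · rw [← Scheme.Hom.smoothLocus_eq_top_iff, eq_top_iff]
      intro x _
      rw [Scheme.Hom.mem_smoothLocus, Scheme.Hom.stalkMap_comp]
      have h1 : (h.stalkMap (h.smoothLocus.ι x)).hom.FormallySmooth := x.2
      exact RingHom.FormallySmooth.comp h1 (RingHom.FormallySmooth.of_bijective (ConcreteCategory.bijective_of_isIso (h.smoothLocus.ι.stalkMap x)))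
  · intro hA
    haveI := hA
    exact ⟨flat_over_base V A h inferInstance, red_of_cpl V A h (P := @Smooth) hA⟩

end Groth.Agent.S19382
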