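import Groth.Statements.S19383
import Mathlib


set_option autoImplicit false
universe u
open CAlg

namespace Groth.Agent.S19383

/-- Over a discrete valuation ring, let V be a henselian discrete valuation ring with maximal ideal 𝔪
and B a Noetherian V-algebra, B̂ its 𝔪B-adic completion. Then B is flat over V if and only if B̂ is
flat over V. (The published lemma takes V an excellent normal ring with an ideal I such that (V,
V/I) is a henselian pair and B of finite type; in that generality it fails: for V = ℤ_p[[x]], I =
(p) and B = V[y]/(x, py − 1) ≅ ℚ_p one has IB = B, so B̂ = 0 is flat while B is not flat over V.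
Over a discrete valuation ring flatness is torsion-freeness and the statement holds for every
Noetherian B.) -/
theorem result
    (V : Type u) [CommRing V] [IsDomain V] [IsDiscreteValuationRing V] [HenselianLocalRing V]
    (B : Type u) [CommRing B] [Algebra V B] [IsNoetherianRing B] :
    Module.Flat V B ↔
      Module.Flat V (AdicCompletion ((IsLocalRing.maximalIdeal V).map (algebraMap V B)) B) := by
  let I : Ideal B := (IsLocalRing.maximalIdeal V).map (algebraMap V B)
  refine ⟨fun _ => Module.Flat.trans V B (AdicCompletion I B), fun h => ?_⟩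
  obtain ⟨ϖ, hϖ⟩ := IsDiscreteValuationRing.exists_irreducible V
  rw [Module.Flat.flat_iff_torsion_eq_bot_of_isBezout] at h ⊢
  rw [eq_bot_iff]
  intro b hb
  rw [Submodule.mem_bot]
  obtain ⟨⟨v, hv⟩, hvb⟩ := hb
  change v • b = 0 at hvb
  have hv0 : v ≠ 0 := nonZeroDivisors.ne_zero hv
  have h0 : algebraMap B (AdicCompletion I B) b = 0 := by
    have hmem : algebraMap B (AdicCompletion I B) b ∈ Submodule.torsion V (AdicCompletion I B) := by
      refine ⟨⟨v, hv⟩, ?_⟩
      change v • algebraMap B (AdicCompletion I B) b = 0
      rw [Algebra.smul_def, IsScalarTower.algebraMap_apply V B (AdicCompletion I B), ← map_mul,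
        ← Algebra.smul_def, hvb, map_zero]
    rw [h] at hmem
    exact hmem
  have hmem : b ∈ ⨅ n : ℕ, (I ^ n • ⊤ : Submodule B B) := by
    refine Submodule.mem_iInf _ |>.2 fun n => ?_
    have h1 := congrArg (AdicCompletion.evalₐ I n) h0
    rw [AlgHom.commutes, map_zero] at h1
    rw [smul_eq_mul, Ideal.mul_top]
    exact Ideal.Quotient.eq_zero_iff_mem.1 h1
  rw [Ideal.mem_iInf_smul_pow_eq_bot_iff] at hmem
  obtain ⟨⟨c, hc⟩, hcb⟩ := hmem
  change c • b = b at hcb
  rw [show I = Ideal.span {algebraMap V B ϖ} by
    show (IsLocalRing.maximalIdeal V).map (algebraMap V B) = _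
    rw [hϖ.maximalIdeal_eq, Ideal.map_span, Set.image_singleton]] at hc
  obtain ⟨c', rfl⟩ := Ideal.mem_span_singleton'.1 hc
  obtain ⟨k, u, rfl⟩ := IsDiscreteValuationRing.eq_unit_mul_pow_irreducible hv0 hϖ
  rw [smul_eq_mul] at hcb
  rw [Algebra.smul_def, map_mul, map_pow, mul_assoc, IsUnit.mul_right_eq_zero (u.isUnit.map _)] at hvb
  clear hv hv0
  induction k with
  | zero => simpa using hvb
  | succ k ih =>
    refine ih ?_
    calc algebraMap V B ϖ ^ k * b = algebraMap V B ϖ ^ k * (c' * algebraMap V B ϖ * b) := by rw [hcb]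
      _ = c' * (algebraMap V B ϖ ^ (k + 1) * b) := by ring
      _ = 0 := by rw [hvb, mul_zero]

end Groth.Agent.S19383
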