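import Groth.Statements.S19384
import Groth.Agent.S15889
-- import your own Groth.Agent.* helpers here

set_option autoImplicit false
universe u
open Versch

namespace Groth.Agent.S19384

open TensorProduct in
theorem v_pow (p : ℕ) [Fact p.Prime] (R : Type u) [CommRing R] [CharP R p]
    (A : Type u) [CommRing A] [HopfAlgebra R A] [Coalgebra.IsCocomm R A] [Module.Finite R A] [Module.Projective R A]
    [CharP A p] (v : A →+* FrobAlg.BaseChange p R A) (hv : Versch.IsVerschiebung p R A v) :
    ∀ a : A, (v a) ^ p = SGA3b.powConv R A p a ⊗ₜ[R] (1 : FrobAlg.Twist p R) := by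
  obtain ⟨r, f, hf⟩ := Module.Finite.exists_fin' R A
  obtain ⟨s, hs⟩ := Module.projective_lifting_property f LinearMap.id hf
  classical
  let x : Fin r → CartDual.D R A := fun i => WithConv.toConv (LinearMap.proj i ∘ₗ s)
  let e : Fin r → A := fun i => f (Pi.single i 1)
  have hdual : ∀ a : A, a = ∑ i, x i a • e i := by
    intro a
    conv_lhs => rw [← show f (s a) = a from LinearMap.congr_fun hs a, pi_eq_sum_univ' (s a), map_sum]
    exact Finset.sum_congr rfl fun i _ => by rw [map_smul]; rfl
  haveI hch : CharP (FrobAlg.BaseChange p R A) p := by
    refine charP_of_injective_ringHom (f := (Algebra.TensorProduct.includeRight (R := R) (A := A) (B := FrobAlg.Twist p R)).toRingHom) (fun r r' h => ?_) p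
    have h1 := congrArg (Algebra.TensorProduct.lift (Algebra.ofId R (FrobAlg.Twist p R) |>.comp (Bialgebra.counitAlgHom R A)) (AlgHom.id R (FrobAlg.Twist p R)) (fun _ _ => Commute.all _ _)) h
    simpa using h1
  have hz : ∀ z : FrobAlg.BaseChange p R A, z = ∑ i, e i ⊗ₜ[R] Versch.evTw p R A (x i) z := by
    intro z
    induction z using TensorProduct.induction_on with
    | zero => simp
    | add z z' h h' => simp only [map_add, TensorProduct.tmul_add, Finset.sum_add_distrib, ← h, ← h']
    | tmul b t =>
      conv_lhs => rw [hdual b, TensorProduct.sum_tmul]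
      refine Finset.sum_congr rfl fun i _ => ?_
      rw [Versch.evTw_tmul, TensorProduct.smul_tmul, Algebra.smul_def]
  have hvp : ∀ a : A, (v a) ^ p = SGA3b.powConv R A p a ⊗ₜ[R] (1 : FrobAlg.Twist p R) := by
    intro a
    rw [hz (v a), sum_pow_char, Groth.Agent.S15889.powConv_eq p x e hdual a, TensorProduct.sum_tmul]
    refine Finset.sum_congr rfl fun i _ => ?_
    rw [Algebra.TensorProduct.tmul_pow, (Versch.isVerschiebung_iff p R A v).mp hv, ← map_pow (FrobAlg.toTwist p R),
      TensorProduct.smul_tmul, Algebra.smul_def, mul_one]
    rfl
  exact hvp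

theorem powConv_mul {R : Type u} [CommRing R] {A : Type u} [CommRing A] [HopfAlgebra R A] (m j : ℕ) :
    SGA3b.powConv R A (m * j) = (SGA3b.powConv R A m).comp (SGA3b.powConv R A j) := by
  refine (WithConv.toConv_injective ?_)
  rw [SGA3b.powConv, WithConv.toConv_ofConv, pow_mul]
  induction j with
  | zero =>
    refine WithConv.ofConv_injective (AlgHom.ext fun a => ?_)
    simp [SGA3b.powConv, AlgHom.convOne_apply]
  | succ j ih =>
    rw [pow_succ, ih]
    refine WithConv.ofConv_injective ?_
    simp only [SGA3b.powConv, pow_succ, AlgHom.comp_convMul_distrib]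
    simp

/-- Over a field and for one finite level, let k be a field of characteristic p > 0 and G = Spec A a
finite commutative k-group scheme (A a finite-dimensional commutative cocommutative Hopf algebra)
killed by p^n, i.e. the p^n-th power map of G is the trivial homomorphism, and suppose the
Verschiebung of G is an isomorphism (the ring map v : A → A ⊗_k k^(p) characterised as the
Verschiebung is bijective). Then G is infinitesimal, more precisely the n-th iterate of its
Frobenius is trivial: a^(p^n) = 0 for every a in the augmentation ideal. (The source states this for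
the p^n-torsion levels of a p-divisible group of multiplicative type over any scheme of
characteristic p and reduces to a field fibre by fibre; it also records that the Cartier dual has
unipotent fibres, which is not stated here.) -/
theorem result
    (p : ℕ) [Fact p.Prime] (k : Type u) [Field k] [CharP k p]
    (A : Type u) [CommRing A] [HopfAlgebra k A] [Coalgebra.IsCocomm k A] [Module.Finite k A]
    (n : ℕ)
    (hn : SGA3b.powConv k A (p ^ n) = (Algebra.ofId k A).comp (Bialgebra.counitAlgHom k A))
    (v : A →+* FrobAlg.BaseChange p k A) (hv : Versch.IsVerschiebung p k A v)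
    (hbij : Function.Bijective v)
    (a : A) (ha : Coalgebra.counit (R := k) a = 0) : a ^ (p ^ n) = 0 := by
  haveI : Nontrivial A := (Bialgebra.counitAlgHom k A).toRingHom.domain_nontrivial
  haveI : CharP A p := charP_of_injective_algebraMap (algebraMap k A).injective p
  have key : ∀ (m : ℕ) (b : A), SGA3b.powConv k A (p ^ m) b = 0 → b ^ (p ^ m) = 0 := by
    intro m
    induction m with
    | zero =>
      intro b hb
      rw [pow_zero] at hb ⊢
      simpa [SGA3b.powConv] using hb
    | succ m ih =>
      intro b hb
      have hP : SGA3b.powConv k A p b ^ (p ^ m) = 0 := ih _ (by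
        rw [pow_succ, powConv_mul] at hb
        exact hb)
      refine hbij.1 ?_
      rw [map_zero, map_pow, pow_succ', pow_mul, v_pow p k A v hv, Algebra.TensorProduct.tmul_pow, hP,
        TensorProduct.zero_tmul]
  exact key n a (by rw [hn]; simp [ha])

end Groth.Agent.S19384
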