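import Groth.Statements.S19389
import Groth.Agent.AGF20Lib.PicThk
-- import your own Groth.Agent.* helpers here

set_option autoImplicit false
set_option linter.style.haveILetI false
set_option backward.isDefEq.respectTransparency.types false
set_option maxHeartbeats 1000000
universe u
open CategoryTheory CategoryTheory.Limits AlgebraicGeometry
open PicThk

namespace Groth.Agent.S19389

/-- Let p > 2 be a prime, k a finite field of characteristic p and W = W(k) its ring of Witt vectors;
let f : X → Spec W be proper and smooth of relative dimension 1 with an ample invertible O_X-module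
(a smooth projective relative curve), and X_n = X ×_W Spec W/(p^{n+1}) the infinitesimal thickenings
of the special fibre, with inclusions ι_n : X_n → X. Granting the group laws of the Picard groups
involved and the multiplicativity of pull-back of invertible classes along each ι_n, the restriction
maps Pic(X) → Pic(X_n) are all surjective, and for every i there is a level t such that a class on X
whose restriction to X_t is a p^i-th power is already a p^i-th power in Pic(X). (The published proof
identifies CH^1(X) with Pic(X) and H^1(X_1, K^M_1 of X_n) with Pic(X_n) and states that CH^1(X) ⊗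
Z/p^i → (Pic(X_n) ⊗ Z/p^i)_n is an isomorphism of pro-abelian groups; the two assertions here are
what its proof establishes and imply that pro-isomorphism, the first giving levelwise surjectivity
and the second the vanishing of the kernel pro-system.) -/
theorem result
    (p : ℕ) [Fact p.Prime] (hp : 2 < p) (k : Type u) [Field k] [Finite k] [CharP k p]
    (X : Scheme.{u}) (f : X ⟶ Spec (CommRingCat.of (WittVector p k))) [IsProper f] [SmoothOfRelativeDimension 1 f]
    (L : X.Modules) (hL : CohB1.IsAmple L)
    [PicGrp.Law X] [∀ n : ℕ, PicGrp.Law (CohB1.thick f (Ideal.span (singleton (p : (WittVector p k)))) n)]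
    (hι : ∀ n : ℕ, PicGrp.PullMul (CohB1.thickι f (Ideal.span (singleton (p : (WittVector p k)))) n)) (i : ℕ) :
    (∀ n : ℕ, Function.Surjective (PicGrp.pullHom (CohB1.thickι f (Ideal.span (singleton (p : (WittVector p k)))) n) (hι n))) ∧
    ∃ t : ℕ, ∀ a : PicLoc.PicSet X,
      (∃ b : PicLoc.PicSet (CohB1.thick f (Ideal.span (singleton (p : (WittVector p k)))) t), b ^ (p ^ i) = PicGrp.pullHom (CohB1.thickι f (Ideal.span (singleton (p : (WittVector p k)))) t) (hι t) a) →
      ∃ a' : PicLoc.PicSet X, a' ^ (p ^ i) = a := by
  haveI : PerfectRing k p := PerfectRing.ofFiniteOfIsReduced p k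
  haveI : Smooth f := SmoothOfRelativeDimension.smooth 1 f
  have hirr : Irreducible (p : WittVector p k) := WittVector.irreducible p
  have hI : Ideal.span (singleton (p : WittVector p k)) = IsLocalRing.maximalIdeal (WittVector p k) :=
    hirr.maximalIdeal_eq.symm
  have hsurj : ∀ n : ℕ, Function.Surjective
      (PicGrp.pullHom (CohB1.thickι f (Ideal.span (singleton (p : (WittVector p k)))) n) (hι n)) := fun n b => by
    obtain ⟨L₀, hL₀, rfl⟩ := PicGrp.exists_eq_cls b
    obtain ⟨M, hM, e⟩ := AGF20Lib.PicThk.exists_lift f hI n L₀ hL₀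
    refine ⟨PicGrp.cls M hM, ?_⟩
    rw [PicGrp.pullHom_cls, PicGrp.cls_eq_cls_iff]
    exact e
  refine ⟨hsurj, i, fun a ⟨b, hb⟩ => ?_⟩
  obtain ⟨b', rfl⟩ := hsurj i b
  have h1 : PicGrp.pullHom _ (hι i) (a / b' ^ p ^ i) = 1 := by rw [map_div, map_pow, hb, div_self']
  obtain ⟨L₀, hL₀, he⟩ := PicGrp.exists_eq_cls (a / b' ^ p ^ i)
  rw [he, PicGrp.pullHom_cls, PicGrp.cls_eq_one_iff] at h1
  obtain ⟨M, hM, e⟩ := AGF20Lib.PicThk.exists_root_of_trivial f Fact.out hp hI rfl
    (IsRegular.of_ne_zero hirr.ne_zero) i L₀ hL₀ h1.some
  refine ⟨PicGrp.cls M hM * b', ?_⟩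
  have h2 : PicGrp.cls M hM ^ p ^ i = a / b' ^ p ^ i := by
    rw [he]
    exact Subtype.ext ((PicGrp.cls_pow_val hM _).trans ((PicGrp.cl_eq_cl_iff _ _).2 e))
  rw [mul_pow, h2, div_mul_cancel]

end Groth.Agent.S19389
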