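import Groth.Statements.S19390
import Mathlib
-- import your own Groth.Agent.* helpers here

set_option autoImplicit false
universe u
open GIT

namespace Groth.Agent.S19390

/-- If every value is taken at most `m` times on a set of `2 m` elements, the set has a permutation moving
each element to one with a different value. -/
theorem exists_derangement {α β : Type*} [DecidableEq α] [DecidableEq β] (x : β → α) (S : Finset β) (m : ℕ)
    (hS : S.card = 2 * m) (hfib : ∀ v, (S.filter fun k => x k = v).card ≤ m) :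
    ∃ q : β → β, (∀ k ∈ S, q k ∈ S) ∧ Set.InjOn q S ∧ ∀ k ∈ S, x (q k) ≠ x k := by
  classical
  letI : LinearOrder α := WellOrderingRel.isWellOrder.linearOrder
  let g₀ : Fin (2 * m) ≃ S := (S.equivFinOfCardEq hS).symm
  let σ := Tuple.sort fun i => x (g₀ i)
  let g : Fin (2 * m) ≃ S := σ.trans g₀
  have hmono : Monotone fun i => x (g i) := Tuple.monotone_sort (fun i => x (g₀ i))
  have hno : ∀ i j : Fin (2 * m), (i : ℕ) + m = j → x (g i) ≠ x (g j) := by
    intro i j hij h
    have h1 : ((Finset.Icc i j).image fun l => (g l : β)) ⊆ S.filter fun k => x k = x (g i) := by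
      intro k hk
      obtain ⟨l, hl, rfl⟩ := Finset.mem_image.1 hk
      rw [Finset.mem_Icc] at hl
      exact Finset.mem_filter.2 ⟨(g l).2, le_antisymm ((hmono hl.2).trans_eq h.symm) (hmono hl.1)⟩
    have h2 := (Finset.card_le_card h1).trans (hfib _)
    rw [Finset.card_image_of_injective _ (fun _ _ h => g.injective (Subtype.ext h)), Fin.card_Icc] at h2
    omega
  let s : Fin (2 * m) → Fin (2 * m) := fun i =>
    if h : (i : ℕ) + m < 2 * m then ⟨i + m, h⟩ else ⟨i - m, by omega⟩
  refine ⟨fun k => if h : k ∈ S then g (s (g.symm ⟨k, h⟩)) else k, fun k hk => ?_, ?_, fun k hk => ?_⟩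
  · simp only [dif_pos hk]; exact (g _).2
  · intro k hk l hl h
    simp only [dif_pos (Finset.mem_coe.1 hk), dif_pos (Finset.mem_coe.1 hl)] at h
    have h1 := g.injective (Subtype.ext h)
    have h2 : g.symm ⟨k, hk⟩ = g.symm ⟨l, hl⟩ := by
      generalize g.symm ⟨k, hk⟩ = u at h1
      generalize g.symm ⟨l, hl⟩ = v at h1
      apply Fin.ext
      simp only [s] at h1
      split_ifs at h1 <;> simp only [Fin.ext_iff] at h1 <;> omega
    exact congrArg Subtype.val (g.symm.injective h2)
  · simp only [dif_pos hk]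
    obtain ⟨u, hu⟩ : ∃ u, g u = ⟨k, hk⟩ := ⟨g.symm ⟨k, hk⟩, g.apply_symm_apply _⟩
    rw [← hu, Equiv.symm_apply_apply, show x k = x (g u) by rw [hu]]
    by_cases h : (u : ℕ) + m < 2 * m
    · rw [show s u = ⟨u + m, h⟩ from dif_pos h]
      exact (hno u _ rfl).symm
    · rw [show s u = ⟨u - m, by omega⟩ from dif_neg h]
      exact hno _ u (by simp only; omega)

/-- Let e ≥ 1, n = 2e + 1, and let x_1, …, x_n be points such that no point occurs more than e times
among them (the stability condition for n ordered points on a line, n odd). Then there are index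
sequences i_1, …, i_n and j_1, …, j_n in which every index between 1 and n occurs exactly twice in
total, such that x_{i_k} ≠ x_{j_k} for every k and (i_1, i_2, i_3) = (j_3, j_1, j_2). Indices are
written 0, …, n − 1 here. -/
theorem result {α : Type u} [DecidableEq α] (e : ℕ) (he : 1 ≤ e)
    (x : Fin (2 * e + 1) → α)
    (hx : ∀ a : α, (Finset.univ.filter fun k => x k = a).card ≤ e) :
    ∃ i j : Fin (2 * e + 1) → Fin (2 * e + 1),
      (∀ m : Fin (2 * e + 1),
        (Finset.univ.filter fun k => i k = m).card + (Finset.univ.filter fun k => j k = m).card = 2) ∧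
      (∀ k, x (i k) ≠ x (j k)) ∧
      i 0 = j 2 ∧ i 1 = j 0 ∧ i 2 = j 1 := by
  classical
  let cnt : α → ℕ := fun a => (Finset.univ.filter fun k => x k = a).card
  let V : Finset α := Finset.univ.image x
  let H : Finset α := V.filter fun a => cnt a = e
  have hcov : ∀ T : Finset α, (∑ a ∈ T, cnt a) ≤ 2 * e + 1 := by
    intro T
    simp only [cnt]
    rw [← Finset.card_biUnion]
    · exact (Finset.card_le_univ _).trans_eq (Fintype.card_fin _)
    · intro a _ b _ hab
      simp only [Function.onFun, Finset.disjoint_left, Finset.mem_filter]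
      exact fun k hk hk' => hab (hk.2.symm.trans hk'.2)
  have hH : H.card ≤ 3 := by
    have h1 := hcov H
    rw [Finset.sum_congr rfl (fun a ha => (Finset.mem_filter.1 ha).2), Finset.sum_const, smul_eq_mul] at h1
    change H.card * e ≤ 2 * e + 1 at h1
    by_contra h2
    nlinarith [Nat.mul_le_mul_right e (Nat.lt_of_not_le h2 : 4 ≤ H.card)]
  have hV : 3 ≤ V.card := by
    by_contra h2
    have h1 : Fintype.card (Fin (2 * e + 1)) = ∑ a ∈ V, cnt a :=
      Finset.card_eq_sum_card_image x Finset.univ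
    have h3 : ∑ a ∈ V, cnt a ≤ V.card * e := by
      simpa using Finset.sum_le_card_nsmul V cnt e fun a _ => hx a
    rw [Fintype.card_fin] at h1
    nlinarith [Nat.mul_le_mul_right e (Nat.le_of_lt_succ (Nat.lt_of_not_le h2) : V.card ≤ 2)]
  obtain ⟨T, hHT, hTV, hT⟩ := Finset.exists_subsuperset_card_eq (Finset.filter_subset _ _ : H ⊆ V) hH hV
  obtain ⟨va, vb, vc, hab, hac, hbc, hTeq⟩ := Finset.card_eq_three.1 hT
  have hmem : ∀ v ∈ T, ∃ k, x k = v := fun v hv => by simpa [V] using hTV hv
  obtain ⟨a, ha⟩ := hmem va (by simp [hTeq])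
  obtain ⟨b, hb⟩ := hmem vb (by simp [hTeq])
  obtain ⟨c, hc⟩ := hmem vc (by simp [hTeq])
  subst ha hb hc
  have nab : a ≠ b := fun h => hab (h ▸ rfl)
  have nac : a ≠ c := fun h => hac (h ▸ rfl)
  have nbc : b ≠ c := fun h => hbc (h ▸ rfl)
  let S : Finset (Fin (2 * e + 1)) := Finset.univ \ {a, b, c}
  have hS : S.card = 2 * (e - 1) := by
    rw [Finset.card_sdiff_of_subset (Finset.subset_univ _), Finset.card_univ, Fintype.card_fin,
      Finset.card_eq_three.2 ⟨a, b, c, nab, nac, nbc, rfl⟩]
    omega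
  have hfib : ∀ v, (S.filter fun k => x k = v).card ≤ e - 1 := by
    intro v
    have hle : (S.filter fun k => x k = v).card ≤ cnt v :=
      Finset.card_le_card (Finset.filter_subset_filter _ (Finset.subset_univ _))
    rcases Nat.lt_or_ge (cnt v) e with h | h
    · omega
    have hve : cnt v = e := le_antisymm (hx v) h
    have hvV : v ∈ V := by
      obtain ⟨k, hk⟩ := Finset.card_pos.1 (show 0 < cnt v by omega)
      exact Finset.mem_image.2 ⟨k, Finset.mem_univ _, (Finset.mem_filter.1 hk).2⟩
    have hvT : v ∈ T := hHT (Finset.mem_filter.2 ⟨hvV, hve⟩)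
    obtain ⟨w, hw, hxw⟩ : ∃ w ∈ ({a, b, c} : Finset (Fin (2 * e + 1))), x w = v := by
      rw [hTeq] at hvT
      simp only [Finset.mem_insert, Finset.mem_singleton] at hvT ⊢
      rcases hvT with rfl | rfl | rfl
      · exact ⟨a, Or.inl rfl, rfl⟩
      · exact ⟨b, Or.inr (Or.inl rfl), rfl⟩
      · exact ⟨c, Or.inr (Or.inr rfl), rfl⟩
    have hlt : (S.filter fun k => x k = v).card < cnt v := by
      refine Finset.card_lt_card ?_
      rw [Finset.ssubset_iff_of_subset (Finset.filter_subset_filter _ (Finset.subset_univ _))]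
      exact ⟨w, by simp [hxw], fun hwS => (Finset.mem_sdiff.1 (Finset.mem_filter.1 hwS).1).2 hw⟩
    omega
  obtain ⟨q, hqS, hqinj, hq⟩ := exists_derangement x S (e - 1) hS hfib
  let p : Fin (2 * e + 1) → Fin (2 * e + 1) := fun k =>
    if k = a then b else if k = b then c else if k = c then a else q k
  have hnS : ∀ k, k ∉ S → k = a ∨ k = b ∨ k = c := fun k hk => by simp [S] at hk; tauto
  have hS' : ∀ k, k ∈ S → k ≠ a ∧ k ≠ b ∧ k ≠ c := fun k hk => by simpa [S] using hk
  have hpS : ∀ k, k ∈ S → p k = q k := fun k hk => by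
    obtain ⟨h1, h2, h3⟩ := hS' k hk; simp [p, h1, h2, h3]
  have pa : p a = b := by simp [p]
  have pb : p b = c := by simp [p, Ne.symm nab]
  have pc : p c = a := by simp [p, Ne.symm nac, Ne.symm nbc]
  have hxp : ∀ k, x (p k) ≠ x k := by
    intro k
    by_cases hk : k ∈ S
    · rw [hpS k hk]; exact hq k hk
    rcases hnS k hk with rfl | rfl | rfl
    · rw [pa]; exact hab.symm
    · rw [pb]; exact hbc.symm
    · rw [pc]; exact hac
  have hpinj : Function.Injective p := by
    intro k l hkl
    have hout : ∀ y, y ∉ S → p y ∉ S := by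
      intro y hy
      rcases hnS y hy with rfl | rfl | rfl
      · simp [pa, S]
      · simp [pb, S]
      · simp [pc, S]
    by_cases hk : k ∈ S <;> by_cases hl : l ∈ S
    · rw [hpS k hk, hpS l hl] at hkl; exact hqinj hk hl hkl
    · exact absurd (hkl ▸ (hpS k hk).symm ▸ hqS k hk) (hout l hl)
    · exact absurd (hkl.symm ▸ (hpS l hl).symm ▸ hqS l hl) (hout k hk)
    · rcases hnS k hk with rfl | rfl | rfl <;> rcases hnS l hl with rfl | rfl | rfl <;>
        simp_all
  obtain ⟨i, hi0, hi1, hi2⟩ : ∃ i : Fin (2 * e + 1) ≃ Fin (2 * e + 1), i 0 = a ∧ i 1 = b ∧ i 2 = c := by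
    have h01 : (0 : Fin (2 * e + 1)) ≠ 1 := by simp [Fin.ext_iff, Nat.mod_eq_of_lt (show 1 < 2 * e + 1 by omega)]
    have h02 : (0 : Fin (2 * e + 1)) ≠ 2 := by simp [Fin.ext_iff, Nat.mod_eq_of_lt (show 2 < 2 * e + 1 by omega)]
    have h12 : (1 : Fin (2 * e + 1)) ≠ 2 := by
      simp [Fin.ext_iff, Nat.mod_eq_of_lt (show 1 < 2 * e + 1 by omega), Nat.mod_eq_of_lt (show 2 < 2 * e + 1 by omega)]
    let e1 := Equiv.swap (0 : Fin (2 * e + 1)) a
    let e2 := e1.trans (Equiv.swap (e1 1) b)
    let e3 := e2.trans (Equiv.swap (e2 2) c)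
    have e10 : e1 0 = a := Equiv.swap_apply_left _ _
    have e20 : e2 0 = a := by
      show Equiv.swap (e1 1) b (e1 0) = a
      rw [e10, Equiv.swap_apply_of_ne_of_ne (fun h => h01 (e1.injective (e10.trans h))) nab]
    have e21 : e2 1 = b := Equiv.swap_apply_left _ _
    refine ⟨e3, ?_, ?_, Equiv.swap_apply_left _ _⟩
    · show Equiv.swap (e2 2) c (e2 0) = a
      rw [e20, Equiv.swap_apply_of_ne_of_ne (fun h => h02 (e2.injective (e20.trans h))) nac]
    · show Equiv.swap (e2 2) c (e2 1) = b
      rw [e21, Equiv.swap_apply_of_ne_of_ne (fun h => h12 (e2.injective (e21.trans h))) nbc]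
  refine ⟨i, p ∘ i, fun m => ?_, fun k => (hxp _).symm, ?_, ?_, ?_⟩
  · have h1 : (Finset.univ.filter fun k => i k = m).card = 1 :=
      Finset.card_eq_one.2 ⟨i.symm m, by ext k; simp [Equiv.eq_symm_apply]⟩
    have hb' : Function.Bijective (p ∘ i) :=
      Finite.injective_iff_bijective.1 (hpinj.comp i.injective)
    have h2 : (Finset.univ.filter fun k => (p ∘ i) k = m).card = 1 := by
      obtain ⟨k, hk⟩ := hb'.2 m
      exact Finset.card_eq_one.2 ⟨k, by ext l; simp only [Finset.mem_filter, Finset.mem_univ, true_and, Finset.mem_singleton]; exact ⟨fun h => hb'.1 (h.trans hk.symm), fun h => h ▸ hk⟩⟩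
    omega
  · simp [hi0, hi2, pc]
  · simp [hi0, hi1, pa]
  · simp [hi1, hi2, pb]

end Groth.Agent.S19390
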