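import Groth.Statements.S19392
import Mathlib
-- import your own Groth.Agent.* helpers here

set_option autoImplicit false
universe u
open InvQ

namespace Groth.Agent.S19392

/-- Over a field of characteristic different from 2 and 3, a nonzero binary quartic f has P(f) = Q(f) =
0 for the two basic invariants P, Q if and only if f has a triple zero. Stated for f = ∏_i (μ_i X₀ −
λ_i X₁) given by four root points (λ_i, μ_i) ≠ (0, 0) (over an algebraically closed field every
nonzero quartic form is of this shape), with the integral invariants I = 6P and J = 72Q of the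
coefficients of f; a triple zero means that three of the four root points are pairwise proportional. -/
theorem result (k : Type u) [Field k]
    (h2 : (2 : k) ≠ 0) (h3 : (3 : k) ≠ 0) (la mu : Fin 4 → k) (hne : ∀ i, la i ≠ 0 ∨ mu i ≠ 0) :
    (W4c6intromoduli.invI (W4c6intromoduli.coef la mu) = 0 ∧
        W4c6intromoduli.invJ (W4c6intromoduli.coef la mu) = 0) ↔
      ∃ i j l : Fin 4, i ≠ j ∧ j ≠ l ∧ i ≠ l ∧
        la i * mu j = la j * mu i ∧ la j * mu l = la l * mu j := by
  set e1 := la 0 * mu 1 * mu 2 * mu 3 + mu 0 * la 1 * mu 2 * mu 3 + mu 0 * mu 1 * la 2 * mu 3 + mu 0 * mu 1 * mu 2 * la 3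
  set e2 := la 0 * la 1 * mu 2 * mu 3 + la 0 * mu 1 * la 2 * mu 3 + la 0 * mu 1 * mu 2 * la 3 +
    mu 0 * la 1 * la 2 * mu 3 + mu 0 * la 1 * mu 2 * la 3 + mu 0 * mu 1 * la 2 * la 3
  set e3 := mu 0 * la 1 * la 2 * la 3 + la 0 * mu 1 * la 2 * la 3 + la 0 * la 1 * mu 2 * la 3 + la 0 * la 1 * la 2 * mu 3
  have hr : W4c6intromoduli.rootPoly la mu = Polynomial.C (mu 0 * mu 1 * mu 2 * mu 3) -
      Polynomial.C e1 * Polynomial.X + Polynomial.C e2 * Polynomial.X ^ 2 - Polynomial.C e3 * Polynomial.X ^ 3 +
      Polynomial.C (la 0 * la 1 * la 2 * la 3) * Polynomial.X ^ 4 := by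
    simp only [W4c6intromoduli.rootPoly, Fin.prod_univ_four, e1, e2, e3, map_add, map_mul]
    ring
  let d : Fin 4 → Fin 4 → k := fun i j => la j * mu i - la i * mu j
  have hd : ∀ i j, d j i = - d i j := fun i j => by simp only [d]; ring
  set p := d 0 1 * d 2 3 with hp_def
  set q := -(d 0 2 * d 1 3) with hq_def
  set r := d 0 3 * d 1 2 with hr_def
  have hI : 2 * W4c6intromoduli.invI (W4c6intromoduli.coef la mu) = p ^ 2 + q ^ 2 + r ^ 2 := by
    simp only [W4c6intromoduli.invI, W4c6intromoduli.coef, hr, Polynomial.coeff_add,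
      Polynomial.coeff_sub, Polynomial.coeff_C_mul_X_pow, Polynomial.coeff_C_mul_X, Polynomial.coeff_C]
    simp [e1, e2, e3, p, q, r, d]
    ring
  have hJ : W4c6intromoduli.invJ (W4c6intromoduli.coef la mu) = (p - q) * (q - r) * (r - p) := by
    simp only [W4c6intromoduli.invJ, W4c6intromoduli.coef, hr, Polynomial.coeff_add,
      Polynomial.coeff_sub, Polynomial.coeff_C_mul_X_pow, Polynomial.coeff_C_mul_X, Polynomial.coeff_C]
    simp [e1, e2, e3, p, q, r, d]
    ring
  have hsum : p + q + r = 0 := by simp only [p, q, r, d]; ring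
  have htrans : ∀ i j l : Fin 4, d i j = 0 → d j l = 0 → d i l = 0 := by
    intro i j l h1 h2
    rcases hne j with h | h
    · have : la j * d i l = 0 := by
        have e : la j * d i l = la l * d i j + la i * d j l := by simp only [d]; ring
        rw [e, h1, h2]; ring
      exact (mul_eq_zero.mp this).resolve_left h
    · have : mu j * d i l = 0 := by
        have e : mu j * d i l = mu l * d i j + mu i * d j l := by simp only [d]; ring
        rw [e, h1, h2]; ring
      exact (mul_eq_zero.mp this).resolve_left h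
  have hfin : (∃ i j l : Fin 4, i ≠ j ∧ j ≠ l ∧ i ≠ l ∧ la i * mu j = la j * mu i ∧ la j * mu l = la l * mu j) ↔
      p = 0 ∧ q = 0 ∧ r = 0 := by
    constructor
    · rintro ⟨i, j, l, hij, hjl, hil, h1, h2⟩
      have a1 : d i j = 0 := by simp only [d]; linear_combination (-1 : k) * h1
      have a2 : d j l = 0 := by simp only [d]; linear_combination (-1 : k) * h2
      have a3 := htrans i j l a1 a2
      have hall : ∀ a b : Fin 4, (a = i ∨ a = j ∨ a = l) → (b = i ∨ b = j ∨ b = l) → d a b = 0 := by
        have a0 : ∀ a, d a a = 0 := fun a => by simp [d]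
        rintro a b (rfl | rfl | rfl) (rfl | rfl | rfl) <;>
          first | exact a0 _ | exact a1 | exact a2 | exact a3 | (rw [hd]; simp [a1, a2, a3])
      have hcover : ∀ i j l : Fin 4, i ≠ j → j ≠ l → i ≠ l → ∀ a b a' b' : Fin 4, a ≠ b → a' ≠ b' →
          a ≠ a' → a ≠ b' → b ≠ a' → b ≠ b' →
          ((a = i ∨ a = j ∨ a = l) ∧ (b = i ∨ b = j ∨ b = l)) ∨
            ((a' = i ∨ a' = j ∨ a' = l) ∧ (b' = i ∨ b' = j ∨ b' = l)) := by decide +kernel
      refine ⟨?_, ?_, ?_⟩
      · rcases hcover i j l hij hjl hil 0 1 2 3 (by decide) (by decide) (by decide) (by decide) (by decide) (by decide) with h | h <;>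
          simp [p, hall _ _ h.1 h.2]
      · rcases hcover i j l hij hjl hil 0 2 1 3 (by decide) (by decide) (by decide) (by decide) (by decide) (by decide) with h | h <;>
          simp [q, hall _ _ h.1 h.2]
      · rcases hcover i j l hij hjl hil 0 3 1 2 (by decide) (by decide) (by decide) (by decide) (by decide) (by decide) with h | h <;>
          simp [r, hall _ _ h.1 h.2]
    · rintro ⟨hp, hq, hr'⟩
      have fin : ∀ i j l : Fin 4, i ≠ j → j ≠ l → i ≠ l → d i j = 0 → d j l = 0 →
          ∃ i j l : Fin 4, i ≠ j ∧ j ≠ l ∧ i ≠ l ∧ la i * mu j = la j * mu i ∧ la j * mu l = la l * mu j :=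
        fun i j l h1 h2 h3 ha hb => ⟨i, j, l, h1, h2, h3, (sub_eq_zero.mp ha).symm, (sub_eq_zero.mp hb).symm⟩
      simp only [p, q, r, neg_eq_zero, mul_eq_zero] at hp hq hr'
      have sw : ∀ i j, d i j = 0 → d j i = 0 := fun i j h => by rw [hd, h, neg_zero]
      rcases hp with a | a <;> rcases hq with b | b <;> rcases hr' with c | c
      · exact fin 1 0 2 (by decide) (by decide) (by decide) (sw _ _ a) b
      · exact fin 1 0 2 (by decide) (by decide) (by decide) (sw _ _ a) b
      · exact fin 1 0 3 (by decide) (by decide) (by decide) (sw _ _ a) c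
      · exact fin 0 1 3 (by decide) (by decide) (by decide) a b
      · exact fin 2 0 3 (by decide) (by decide) (by decide) (sw _ _ b) c
      · exact fin 0 2 3 (by decide) (by decide) (by decide) b a
      · exact fin 2 3 1 (by decide) (by decide) (by decide) a (sw _ _ b)
      · exact fin 1 2 3 (by decide) (by decide) (by decide) c a
  rw [hfin]
  constructor
  · rintro ⟨hI0, hJ0⟩
    rw [hI0, mul_zero] at hI
    rw [hJ0] at hJ
    have h6 : (6 : k) ≠ 0 := by rw [show (6 : k) = 2 * 3 by norm_num]; exact mul_ne_zero h2 h3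
    rcases mul_eq_zero.mp hJ.symm with h | h
    rcases mul_eq_zero.mp h with h | h
    · have e : q = p := (sub_eq_zero.mp h).symm
      have e' : r = -2 * p := by linear_combination hsum - e
      have : 6 * p ^ 2 = 0 := by rw [e, e'] at hI; linear_combination -hI
      have hp0 : p = 0 := by simpa [h6] using this
      simp [e, e', hp0]
    · have e : r = q := (sub_eq_zero.mp h).symm
      have e' : p = -2 * q := by linear_combination hsum - e
      have : 6 * q ^ 2 = 0 := by rw [e, e'] at hI; linear_combination -hI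
      have hp0 : q = 0 := by simpa [h6] using this
      simp [e, e', hp0]
    · have e : r = p := sub_eq_zero.mp h
      have e' : q = -2 * p := by linear_combination hsum - e
      have : 6 * p ^ 2 = 0 := by rw [e, e'] at hI; linear_combination -hI
      have hp0 : p = 0 := by simpa [h6] using this
      simp [e, e', hp0]
  · rintro ⟨hp, hq, hr'⟩
    rw [hp, hq, hr'] at hI hJ
    exact ⟨by simpa [h2] using hI, by simpa using hJ⟩

end Groth.Agent.S19392
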