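import Groth.Statements.S19393
import Mathlib
-- import your own Groth.Agent.* helpers here

set_option autoImplicit false
universe u
open InvQ

namespace Groth.Agent.S19393

set_option maxHeartbeats 1000000

variable {k : Type u} [Field k]

/-- The bracket of two root points. -/
def D (la mu : Fin 4 → k) (i j : Fin 4) : k := la j * mu i - la i * mu j

/-- First pairing product. -/
def P (la mu : Fin 4 → k) : k := D la mu 0 1 * D la mu 2 3

/-- Second pairing product. -/
def Q (la mu : Fin 4 → k) : k := -(D la mu 0 2 * D la mu 1 3)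

theorem invariants_eq (la mu : Fin 4 → k) :
    2 * W4c6intromoduli.invI (W4c6intromoduli.coef la mu) =
        P la mu ^ 2 + Q la mu ^ 2 + (-P la mu - Q la mu) ^ 2 ∧
      W4c6intromoduli.invJ (W4c6intromoduli.coef la mu) =
        (P la mu - Q la mu) * (Q la mu - (-P la mu - Q la mu)) * ((-P la mu - Q la mu) - P la mu) := by
  set e1 := la 0 * mu 1 * mu 2 * mu 3 + mu 0 * la 1 * mu 2 * mu 3 + mu 0 * mu 1 * la 2 * mu 3 + mu 0 * mu 1 * mu 2 * la 3
  set e2 := la 0 * la 1 * mu 2 * mu 3 + la 0 * mu 1 * la 2 * mu 3 + la 0 * mu 1 * mu 2 * la 3 +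
    mu 0 * la 1 * la 2 * mu 3 + mu 0 * la 1 * mu 2 * la 3 + mu 0 * mu 1 * la 2 * la 3
  set e3 := mu 0 * la 1 * la 2 * la 3 + la 0 * mu 1 * la 2 * la 3 + la 0 * la 1 * mu 2 * la 3 + la 0 * la 1 * la 2 * mu 3
  have hr : W4c6intromoduli.rootPoly la mu = Polynomial.C (mu 0 * mu 1 * mu 2 * mu 3) -
      Polynomial.C e1 * Polynomial.X + Polynomial.C e2 * Polynomial.X ^ 2 - Polynomial.C e3 * Polynomial.X ^ 3 +
      Polynomial.C (la 0 * la 1 * la 2 * la 3) * Polynomial.X ^ 4 := by
    simp only [W4c6intromoduli.rootPoly, Fin.prod_univ_four, e1, e2, e3, map_add, map_mul]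
    ring
  simp only [W4c6intromoduli.invI, W4c6intromoduli.invJ, W4c6intromoduli.coef, hr, Polynomial.coeff_add,
    Polynomial.coeff_sub, Polynomial.coeff_C_mul_X_pow, Polynomial.coeff_C_mul_X, Polynomial.coeff_C]
  simp [e1, e2, e3, P, Q, D]
  constructor <;> ring

theorem D_ne_zero (la mu : Fin 4 → k) (hd : W4c6intromoduli.disc la mu ≠ 0) (i j : Fin 4) (hij : i ≠ j) :
    D la mu i j ≠ 0 := by
  have key : ∀ a b : Fin 4, a < b → D la mu a b ≠ 0 := fun a b hab h => hd (by
    rw [W4c6intromoduli.disc]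
    exact Finset.prod_eq_zero (Finset.mem_filter.mpr ⟨Finset.mem_univ (a, b), hab⟩) (by
      show (la b * mu a - la a * mu b) ^ 2 = 0
      rw [show la b * mu a - la a * mu b = 0 from h]; ring))
  rcases lt_or_gt_of_ne hij with h | h
  · exact key i j h
  · intro hc
    exact key j i h (by unfold D at hc ⊢; linear_combination (-1 : k) * hc)

theorem exists_subst (la mu A B : Fin 4 → k) (hd : ∀ i j, i ≠ j → D la mu i j ≠ 0)
    (hd' : ∀ i j, i ≠ j → D A B i j ≠ 0) (he : P A B * Q la mu = Q A B * P la mu) :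
    ∃ (M : Matrix (Fin 2) (Fin 2) k) (c : k), IsUnit M.det ∧ c ≠ 0 ∧
      W4c6intromoduli.binForm A B =
        MvPolynomial.C c * W4c6intromoduli.subst M (W4c6intromoduli.binForm la mu) := by
  let w : Fin 4 → Fin 4 → k := fun i j => la i * mu j - la j * mu i
  let w' : Fin 4 → Fin 4 → k := fun i j => A i * B j - A j * B i
  have hw : ∀ i j, i ≠ j → w i j ≠ 0 := fun i j h hc => hd j i h.symm (by simpa [D, w] using hc)
  have hw' : ∀ i j, i ≠ j → w' i j ≠ 0 := fun i j h hc => hd' j i h.symm (by simpa [D, w'] using hc)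
  let a := w' 2 1 * w 0 2
  let b := w' 0 2 * w 2 1
  let M : Matrix (Fin 2) (Fin 2) k :=
    !![-la 1 * a * B 0 + la 0 * b * B 1, la 1 * a * A 0 - la 0 * b * A 1;
       -mu 1 * a * B 0 + mu 0 * b * B 1, mu 1 * a * A 0 - mu 0 * b * A 1]
  let c : Fin 4 → k :=
    ![w 0 1 * a, w 0 1 * b, w 2 1 * w 0 2 * w' 0 1, w 3 1 * a * w' 0 1 / w' 3 1]
  have ha : a ≠ 0 := mul_ne_zero (hw' _ _ (by decide)) (hw _ _ (by decide))
  have hb : b ≠ 0 := mul_ne_zero (hw' _ _ (by decide)) (hw _ _ (by decide))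
  have hc : ∀ i, c i ≠ 0 := by
    intro i
    fin_cases i <;>
      simp [c, ha, hb, hw 0 1 (by decide), hw 2 1 (by decide), hw 0 2 (by decide), hw' 0 1 (by decide),
        hw 3 1 (by decide), hw' 3 1 (by decide)]
  have hdet : M.det ≠ 0 := by
    rw [show M.det = w 0 1 * a * b * w' 0 1 by simp [M, Matrix.det_fin_two, w, w']; ring]
    exact mul_ne_zero (mul_ne_zero (mul_ne_zero (hw _ _ (by decide)) ha) hb) (hw' _ _ (by decide))
  have h31 := hw' 3 1 (by decide)
  have hi : ∀ i, mu i * M 0 0 - la i * M 1 0 = c i * B i ∧ mu i * M 0 1 - la i * M 1 1 = -(c i * A i) := by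
    intro i
    fin_cases i
    · constructor <;> simp [M, c, a, b, w, w'] <;> ring
    · constructor <;> simp [M, c, a, b, w, w'] <;> ring
    · constructor <;> simp [M, c, a, b, w, w'] <;> ring
    · simp only [P, Q, D] at he
      constructor <;> simp [M, c, a, b, w, w'] <;>
        rw [eq_comm] <;> simp only [div_mul_eq_mul_div, neg_div'] <;> rw [div_eq_iff (by simpa [w'] using h31)]
      · linear_combination B 1 * he
      · linear_combination -A 1 * he
  have hprod : ∏ i, c i ≠ 0 := Finset.prod_ne_zero_iff.mpr fun i _ => hc i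
  refine ⟨M, (∏ i, c i)⁻¹, isUnit_iff_ne_zero.mpr hdet, inv_ne_zero hprod, ?_⟩
  have hs : ∀ i, W4c6intromoduli.subst M (MvPolynomial.C (mu i) * MvPolynomial.X 0 - MvPolynomial.C (la i) * MvPolynomial.X 1) =
      MvPolynomial.C (c i) * (MvPolynomial.C (B i) * MvPolynomial.X 0 - MvPolynomial.C (A i) * MvPolynomial.X 1) := fun i => by
    obtain ⟨e1, e2⟩ := hi i
    have f1 := congrArg (MvPolynomial.C (σ := Fin 2)) e1
    have f2 := congrArg (MvPolynomial.C (σ := Fin 2)) e2
    simp only [map_mul, map_sub, map_neg] at f1 f2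
    simp [W4c6intromoduli.subst, Fin.sum_univ_two, MvPolynomial.smul_eq_C_mul]
    linear_combination (MvPolynomial.X 0) * f1 + (MvPolynomial.X 1) * f2
  have : W4c6intromoduli.subst M (W4c6intromoduli.binForm la mu) =
      MvPolynomial.C (∏ i, c i) * W4c6intromoduli.binForm A B := by
    simp only [W4c6intromoduli.binForm, map_prod, hs, Finset.prod_mul_distrib]
  rw [this, ← mul_assoc, ← map_mul, inv_mul_cancel₀ hprod, map_one, one_mul]

/-- Over a field of characteristic different from 2 and 3, two binary quartics without double zeros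
lying in the same fibre of the map to the projective line given by the invariants, i.e. with
proportional (P³, Q²), are equivalent under a linear substitution of the variables up to a nonzero
constant factor. Stated for split quartics f = ∏_i (μ_i X₀ − λ_i X₁) given by root points (λ_i, μ_i)
≠ (0, 0), with the integral invariants I = 6P, J = 72Q and the discriminant ∏_{i<j} (λ_j μ_i − λ_i
μ_j)²; only the assertion that such a fibre is a single orbit is stated (not its closedness). -/
theorem result (k : Type u) [Field k]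
    (h2 : (2 : k) ≠ 0) (h3 : (3 : k) ≠ 0) (la mu la' mu' : Fin 4 → k)
    (hne : ∀ i, la i ≠ 0 ∨ mu i ≠ 0) (hne' : ∀ i, la' i ≠ 0 ∨ mu' i ≠ 0)
    (hd : W4c6intromoduli.disc la mu ≠ 0) (hd' : W4c6intromoduli.disc la' mu' ≠ 0)
    (h : W4c6intromoduli.invI (W4c6intromoduli.coef la mu) ^ 3
          * W4c6intromoduli.invJ (W4c6intromoduli.coef la' mu') ^ 2 =
        W4c6intromoduli.invI (W4c6intromoduli.coef la' mu') ^ 3
          * W4c6intromoduli.invJ (W4c6intromoduli.coef la mu) ^ 2) :
    ∃ (M : Matrix (Fin 2) (Fin 2) k) (c : k), IsUnit M.det ∧ c ≠ 0 ∧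
      W4c6intromoduli.binForm la' mu' =
        MvPolynomial.C c * W4c6intromoduli.subst M (W4c6intromoduli.binForm la mu) := by
  classical
  have h3' : (27 : k) ≠ 0 := by rw [show (27 : k) = 3 ^ 3 by norm_num]; exact pow_ne_zero _ h3
  obtain ⟨hI, hJ⟩ := invariants_eq la mu
  obtain ⟨hI', hJ'⟩ := invariants_eq la' mu'
  set p := P la mu with hp
  set q := Q la mu with hq
  set p' := P la' mu' with hp'
  set q' := Q la' mu' with hq'
  have h2I : (2 : k) ^ 3 ≠ 0 := pow_ne_zero _ h2
  have hprod : (p' * q - q' * p) * (q' * q - p' * p) * ((-p' - q') * q - q' * p) * (p' * q - (-p' - q') * p) *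
      (q' * q - (-p' - q') * p) * ((-p' - q') * q - p' * p) = 0 := by
    have key : 27 * 2 ^ 3 * ((p' * q - q' * p) * (q' * q - p' * p) * ((-p' - q') * q - q' * p) * (p' * q - (-p' - q') * p) *
        (q' * q - (-p' - q') * p) * ((-p' - q') * q - p' * p)) =
        (p' ^ 2 + q' ^ 2 + (-p' - q') ^ 2) ^ 3 * ((p - q) * (q - (-p - q)) * ((-p - q) - p)) ^ 2 -
        (p ^ 2 + q ^ 2 + (-p - q) ^ 2) ^ 3 * ((p' - q') * (q' - (-p' - q')) * ((-p' - q') - p')) ^ 2 := by ring
    rw [← hI, ← hI', ← hJ, ← hJ'] at key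
    have : 27 * (2 : k) ^ 3 ≠ 0 := mul_ne_zero h3' h2I
    exact (mul_eq_zero.mp (key.trans (by linear_combination (-8 : k) * h))).resolve_left this
  have hD := D_ne_zero la mu hd
  have hD' := D_ne_zero la' mu' hd'
  suffices h' : ∃ e : Equiv.Perm (Fin 4),
      P (la' ∘ e) (mu' ∘ e) * q = Q (la' ∘ e) (mu' ∘ e) * p by
    obtain ⟨e, he⟩ := h'
    obtain ⟨M, c, hM, hc, hbin⟩ := exists_subst la mu (la' ∘ e) (mu' ∘ e) hD
      (fun i j hij => hD' (e i) (e j) (e.injective.ne hij)) he
    refine ⟨M, c, hM, hc, ?_⟩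
    rw [← hbin]
    unfold W4c6intromoduli.binForm
    exact (Equiv.prod_comp e (fun i => MvPolynomial.C (mu' i) * MvPolynomial.X 0 - MvPolynomial.C (la' i) * MvPolynomial.X (1 : Fin 2))).symm
  simp only [mul_eq_zero] at hprod
  rcases hprod with ((((h1 | h1) | h1) | h1) | h1) | h1
  · exact ⟨1, by simp only [Equiv.Perm.coe_one, Function.comp_id]; linear_combination h1⟩
  · refine ⟨Equiv.swap 1 2, ?_⟩
    simp only [hp', hq', P, Q, D] at h1
    simp [P, Q, D, Equiv.swap_apply_def]
    linear_combination (-1 : k) * h1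
  · refine ⟨Equiv.swap 1 3, ?_⟩
    simp only [hp', hq', P, Q, D] at h1
    simp [P, Q, D, Equiv.swap_apply_def]
    linear_combination (-1 : k) * h1
  · refine ⟨Equiv.swap 2 3, ?_⟩
    simp only [hp', hq', P, Q, D] at h1
    simp [P, Q, D, Equiv.swap_apply_def]
    linear_combination (-1 : k) * h1
  · refine ⟨Equiv.swap 1 2 * Equiv.swap 2 3, ?_⟩
    simp only [hp', hq', P, Q, D] at h1
    simp [P, Q, D, Equiv.swap_apply_def]
    linear_combination h1
  · refine ⟨Equiv.swap 2 3 * Equiv.swap 1 2, ?_⟩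
    simp only [hp', hq', P, Q, D] at h1
    simp [P, Q, D, Equiv.swap_apply_def]
    linear_combination h1

end Groth.Agent.S19393
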