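import Groth.Statements.S19400
import Groth.Agent.ComodLib.Orbits
-- import your own Groth.Agent.* helpers here

set_option autoImplicit false
universe u
open GIT

namespace Groth.Agent.S19400

/-- For a reductive group G (here: every finite-dimensional representation completely reducible, i.e.
linearly reductive; any characteristic) acting on an affine variety X = Spec R over an algebraically
closed field with all orbits of closed points closed, the morphism X → Y = Spec R^G is a geometric
quotient; in particular it is surjective on closed points and its fibre over every closed point of Y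
is a single orbit. This row states those two point-set assertions in coaction form: G = Spec A with
A a finitely generated commutative Hopf algebra whose finite-dimensional comodules are semisimple, R
of finite type with a multiplicative unital coaction, points as k-algebra maps. The published
statement takes X to be a variety (reduced and irreducible); this row does not assume R reduced or a
domain. -/
theorem result (k : Type u) [Field k] [IsAlgClosed k]
    (A : Type u) [CommRing A] [HopfAlgebra k A] [Algebra.FiniteType k A]
    (hG : HopfRep.IsLinearlyReductive k A)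
    (R : Type u) [CommRing R] [Algebra k R] [Algebra.FiniteType k R]
    [HopfRep.Comod k A R] [GLin.IsCoactAlg k A R]
    (hcl : ∀ x : R →ₐ[k] k, GLin.IsClosedOrbit k A x)
    (y : GLin.invariants k A R →ₐ[k] k) :
    (∃ x : R →ₐ[k] k, x.comp (GLin.invariants k A R).val = y) ∧
      ∀ x x' : R →ₐ[k] k, x.comp (GLin.invariants k A R).val = y →
        x'.comp (GLin.invariants k A R).val = y →
          ∃ g : A →ₐ[k] k, x' = GLin.actPt k g x := by
  obtain ⟨α, hα, h1⟩ := Groth.Agent.ComodLib.exists_integral_of_isLinearlyReductive hG
  refine ⟨?_, fun x x' hx hx' => ?_⟩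
  · let J : Ideal R := Ideal.map (GLin.invariants k A R).val.toRingHom (RingHom.ker y)
    have hJ : J ≠ ⊤ := by
      intro htop
      have h := Groth.Agent.ComodLib.comap_map_val hα h1 (RingHom.ker y)
      change Ideal.comap _ J = _ at h
      rw [htop, Ideal.comap_top] at h
      exact RingHom.ker_ne_top _ h.symm
    obtain ⟨x, hx⟩ := Groth.Agent.ComodLib.exists_point (k := k) J hJ
    refine ⟨x, (Groth.Agent.ComodLib.eq_of_ker_le fun f hf => ?_).symm⟩
    exact hx (Ideal.mem_map_of_mem _ hf)
  · obtain ⟨z, h₁, h₂⟩ := Groth.Agent.ComodLib.exists_closures_meet hα h1 x x'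
      fun f hf => AlgHom.congr_fun (hx.trans hx'.symm) ⟨f, hf⟩
    obtain ⟨g, rfl⟩ := Groth.Agent.ComodLib.mem_orbit_of_isClosedOrbit (hcl x) h₁
    obtain ⟨g', hg'⟩ := Groth.Agent.ComodLib.mem_orbit_of_isClosedOrbit (hcl x') h₂
    have h := congrArg (GLin.actPt k (g'.comp (HopfAlgebra.antipodeAlgHom k A))) hg'
    rw [Groth.Agent.ComodLib.actPt_inv, Groth.Agent.ComodLib.actPt_actPt] at h
    exact ⟨_, h.symm⟩

end Groth.Agent.S19400
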