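import Groth.Statements.S19401
import Groth.Agent.ComodLib.StableClosed
-- import your own Groth.Agent.* helpers here

set_option autoImplicit false
universe u
open TensorProduct
open GLin

namespace Groth.Agent.S19401

open TensorProduct Groth.Agent.ComodLib
open GLin (orbitHom actPt InOrbitClosure)

set_option linter.style.haveILetI false
attribute [local instance] RingHom.ker_isPrime

/-- A strictly smaller orbit closure has strictly smaller dimension. -/
theorem dim_add_one_le {k : Type u} [Field k] [IsAlgClosed k] {A : Type u} [CommRing A] [HopfAlgebra k A]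
    [Algebra.FiniteType k A] {R : Type u} [CommRing R] [Algebra k R] [Algebra.FiniteType k R]
    [HopfRep.Comod k A R] [GLin.IsCoactAlg k A R] {x y : R →ₐ[k] k}
    (hle : RingHom.ker (orbitHom k A y) ≤ RingHom.ker (orbitHom k A x))
    (hne : ¬ RingHom.ker (orbitHom k A x) ≤ RingHom.ker (orbitHom k A y)) (n : ℕ)
    (hn : (n : WithBot ℕ∞) ≤ ringKrullDim (R ⧸ RingHom.ker (orbitHom k A x))) :
    ((n + 1 : ℕ) : WithBot ℕ∞) ≤ ringKrullDim (R ⧸ RingHom.ker (orbitHom k A y)) := by
  obtain ⟨l, hl⟩ := Order.le_krullDim_iff.mp hn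
  let L := l.map _ (RingHom.strictMono_comap_of_surjective
    (f := Ideal.Quotient.mk (RingHom.ker (orbitHom k A x))) Ideal.Quotient.mk_surjective)
  have hx : RingHom.ker (orbitHom k A x) ≤ L.head.asIdeal := fun f hf => by
    rw [LTSeries.head_map, PrimeSpectrum.comap_asIdeal, Ideal.mem_comap, Ideal.Quotient.eq_zero_iff_mem.mpr hf]
    exact zero_mem _
  obtain ⟨q, hq, hqle⟩ := Ideal.exists_minimalPrimes_le (hle.trans hx)
  haveI : q.IsPrime := hq.1.1
  obtain ⟨P', hP', hqP⟩ := Ideal.exists_minimalPrimes_comap_eq (I := ⊥) (orbitHom k A y).toRingHom q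
    (by rw [← RingHom.ker_eq_comap_bot]; exact hq)
  haveI : P'.IsPrime := hP'.1.1
  have hlt : (⟨q, inferInstance⟩ : PrimeSpectrum R) < L.head := by
    refine lt_of_le_of_ne hqle fun he => hne ?_
    obtain ⟨p, hp⟩ := exists_point (k := k) P' (Ideal.IsPrime.ne_top inferInstance)
    have h1 : InOrbitClosure k A x (actPt k p y) := fun f hf => by
      have hfq : f ∈ q := (congrArg PrimeSpectrum.asIdeal he : q = L.head.asIdeal).ge (hx hf)
      have hf' : f ∈ Ideal.comap (orbitHom k A y).toRingHom P' := hqP.symm ▸ hfq
      exact hp hf'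
    exact ((inOrbitClosure_iff _ _).mp h1).trans (ker_orbitHom_actPt p y).le
  have hco := Order.length_le_coheight (p := L.cons ⟨q, inferInstance⟩ hlt)
    (x := (⟨q, inferInstance⟩ : PrimeSpectrum R)) (by simp)
  have h2 : ((L.cons ⟨q, inferInstance⟩ hlt).length : WithBot ℕ∞) ≤ ringKrullDim (R ⧸ q) := by
    rw [← VarDim.coheight_eq_ringKrullDim_quotient (⟨q, inferInstance⟩ : PrimeSpectrum R)]
    exact_mod_cast hco
  rw [RelSeries.cons_length, show L.length = n from hl] at h2
  exact h2.trans (ringKrullDim_le_of_surjective (Ideal.Quotient.factor hq.1.2) (Ideal.Quotient.factor_surjective hq.1.2))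

theorem orbitHom_comp {k : Type u} [Field k] {A : Type u} [CommRing A] [HopfAlgebra k A]
    {S : Type u} [CommRing S] [Algebra k S] [HopfRep.Comod k A S] [GLin.IsCoactAlg k A S]
    {R : Type u} [CommRing R] [Algebra k R] [HopfRep.Comod k A R] [GLin.IsCoactAlg k A R]
    (ι : S →ₐ[k] R)
    (h : ∀ s : S, HopfRep.Comod.coact (k := k) (A := A) (ι s) =
      Algebra.TensorProduct.map ι (AlgHom.id k A) (HopfRep.Comod.coact (k := k) (A := A) s))
    (x : R →ₐ[k] k) : orbitHom k A (x.comp ι) = (orbitHom k A x).comp ι := by
  refine AlgHom.ext fun s => ?_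
  rw [AlgHom.comp_apply, orbitHom_apply, orbitHom_apply, h]
  induction HopfRep.Comod.coact (k := k) (A := A) s using TensorProduct.induction_on with
  | zero => simp
  | tmul a b => simp
  | add p q hp hq => simp only [map_add, hp, hq]

/-- Suppose the field k is algebraically closed and has characteristic zero. Take A to be a finitely
generated commutative Hopf algebra over k (an affine algebraic group G), and take S and R to be
finitely generated commutative k-algebras, each equipped with a multiplicative A-coaction (so G acts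
on Y = Spec S and on X = Spec R). Assume S → R is a finite algebra map respecting the coactions (a
G-morphism X → Y). Given a k-point x of X whose image in Y is y, the orbit of x is closed (meaning
its orbit morphism Spec A → Spec R has closed image) exactly when the orbit of y is closed. (This is
the affine version of the source's result about G-morphisms of varieties.) -/
theorem result (k : Type u) [Field k] [IsAlgClosed k] [CharZero k]
    (A : Type u) [CommRing A] [HopfAlgebra k A] [Algebra.FiniteType k A]
    (S : Type u) [CommRing S] [Algebra k S] [Algebra.FiniteType k S] [HopfRep.Comod k A S] [GLin.IsCoactAlg k A S]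
    (R : Type u) [CommRing R] [Algebra k R] [Algebra.FiniteType k R] [HopfRep.Comod k A R] [GLin.IsCoactAlg k A R]
    [Algebra S R] [IsScalarTower k S R] [Module.Finite S R]
    (hequiv : ∀ s : S, HopfRep.Comod.coact (k := k) (A := A) (algebraMap S R s) =
      Algebra.TensorProduct.map (IsScalarTower.toAlgHom k S R) (AlgHom.id k A) (HopfRep.Comod.coact (k := k) (A := A) s))
    (x : R →ₐ[k] k) :
    GLin.IsClosedOrbit k A x ↔ GLin.IsClosedOrbit k A (x.comp (IsScalarTower.toAlgHom k S R)) := by
  set ι := IsScalarTower.toAlgHom k S R with hι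
  have he : ∀ z : R →ₐ[k] k, orbitHom k A (z.comp ι) = (orbitHom k A z).comp ι := orbitHom_comp ι hequiv
  haveI : Algebra.IsIntegral S R := Algebra.IsIntegral.of_finite S R
  constructor
  · intro hx
    show IsClosed _
    rw [he]
    rw [show ((orbitHom k A x).comp ι).toRingHom = (orbitHom k A x).toRingHom.comp (algebraMap S R) from rfl,
      PrimeSpectrum.comap_comp, Set.range_comp]
    exact PrimeSpectrum.isClosedMap_comap_of_isIntegral (algebraMap S R) Algebra.IsIntegral.isIntegral _ hx
  · intro hx
    refine isClosedOrbit_of_forall_mem fun z hz => ?_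
    have hle := (inOrbitClosure_iff x z).mp hz
    have hcl : InOrbitClosure k A (x.comp ι) (z.comp ι) := fun s hs => by
      rw [he] at hs
      exact hz hs
    obtain ⟨g, hg⟩ := mem_orbit_of_isClosedOrbit hx hcl
    have hker : RingHom.ker (orbitHom k A (z.comp ι)) = RingHom.ker (orbitHom k A (x.comp ι)) := by
      rw [hg, ker_orbitHom_actPt]
    refine exists_actPt_of_ker_eq (le_antisymm hle ?_)
    by_contra hne
    have hdim : ∀ w : R →ₐ[k] k, ringKrullDim (R ⧸ RingHom.ker (orbitHom k A w)) =
        ringKrullDim (S ⧸ RingHom.ker (orbitHom k A (w.comp ι))) := by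
      intro w
      have hc : RingHom.ker (orbitHom k A (w.comp ι)) =
          (RingHom.ker (orbitHom k A w)).comap (algebraMap S R) := by
        rw [he]; rfl
      letI := Ideal.Quotient.algebraQuotientOfLEComap (p := RingHom.ker (orbitHom k A (w.comp ι)))
        (P := RingHom.ker (orbitHom k A w)) hc.le
      haveI : IsScalarTower S (S ⧸ RingHom.ker (orbitHom k A (w.comp ι))) (R ⧸ RingHom.ker (orbitHom k A w)) :=
        IsScalarTower.of_algebraMap_eq fun s => rfl
      haveI : Algebra.IsIntegral (S ⧸ RingHom.ker (orbitHom k A (w.comp ι))) (R ⧸ RingHom.ker (orbitHom k A w)) :=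
        ⟨fun r => by
          obtain ⟨r, rfl⟩ := Ideal.Quotient.mk_surjective r
          exact ((Algebra.IsIntegral.isIntegral (R := S) r).map
            (Ideal.Quotient.mkₐ S (RingHom.ker (orbitHom k A w)))).tower_top⟩
      haveI : FaithfulSMul (S ⧸ RingHom.ker (orbitHom k A (w.comp ι))) (R ⧸ RingHom.ker (orbitHom k A w)) :=
        (faithfulSMul_iff_algebraMap_injective _ _).mpr (Ideal.quotientMap_injective' (H := hc.le) hc.ge)
      exact VarDim.ringKrullDim_eq_of_isIntegral
    haveI : Nontrivial (R ⧸ RingHom.ker (orbitHom k A z)) := Ideal.Quotient.nontrivial_iff.mpr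
      fun htop => RingHom.ker_ne_top z (top_le_iff.mp (htop.ge.trans (ker_orbitHom_le z)))
    obtain ⟨s, φ, hinj, hint⟩ := exists_integral_inj_algHom_of_fg k (R ⧸ RingHom.ker (orbitHom k A z))
    letI : Algebra (MvPolynomial (Fin s) k) (R ⧸ RingHom.ker (orbitHom k A z)) := φ.toRingHom.toAlgebra
    haveI : FaithfulSMul (MvPolynomial (Fin s) k) (R ⧸ RingHom.ker (orbitHom k A z)) :=
      (faithfulSMul_iff_algebraMap_injective _ _).2 hinj
    haveI : Algebra.IsIntegral (MvPolynomial (Fin s) k) (R ⧸ RingHom.ker (orbitHom k A z)) := ⟨hint⟩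
    have hs : ringKrullDim (R ⧸ RingHom.ker (orbitHom k A z)) = s := by
      rw [VarDim.ringKrullDim_eq_of_isIntegral (R := MvPolynomial (Fin s) k),
        MvPolynomial.ringKrullDim_of_isNoetherianRing, ringKrullDim_eq_zero_of_field, zero_add, Nat.card_fin]
    have h := dim_add_one_le hle hne s hs.ge
    rw [hdim x, ← hker, ← hdim z, hs] at h
    have h' : (s + 1 : ℕ) ≤ s := by exact_mod_cast h
    omega

end Groth.Agent.S19401
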