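import Groth.Statements.S19402
import Mathlib
-- import your own Groth.Agent.* helpers here

set_option autoImplicit false
universe u v w
open scoped Pointwise
open GLin

namespace Groth.Agent.S19402

open scoped TensorProduct

section Galois

variable {R B : Type v} [CommRing R] [CommRing B] [Algebra B R] [FaithfulSMul B R]
  {G : Type w} [Group G] [Finite G] [MulSemiringAction G R] [SMulCommClass G B R] [Algebra.IsInvariant B R G]

/-- The twisted multiplication map. -/
noncomputable def tw (g : G) : R ⊗[B] R →ₐ[B] R :=
  (Algebra.TensorProduct.lmul' B).comp (Algebra.TensorProduct.map (AlgHom.id B R) (MulSemiringAction.toAlgHom B R g))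

omit [FaithfulSMul B R] [Finite G] [Algebra.IsInvariant B R G] in
theorem tw_tmul (g : G) (a b : R) : tw g (a ⊗ₜ[B] b) = a * g • b := by simp [tw]

/-- A Galois system away from the finitely many translates of `m`. -/
theorem exists_galois_system (m : Ideal R) [m.IsMaximal] (hs : MulAction.stabilizer G m = ⊥) :
    ∃ (f : B) (e : R ⊗[B] R), algebraMap B R f ∉ m ∧ tw (1 : G) e = algebraMap B R f ∧
      ∀ g : G, g ≠ 1 → tw g e = 0 := by
  classical
  haveI := Fintype.ofFinite G
  have hc : ∀ g : G, g ≠ 1 → ∃ (c : R) (e : R ⊗[B] R), (∀ h : G, c ∉ h • m) ∧ tw (1 : G) e = c ∧ tw g e = 0 := by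
    intro g hg
    let J : Ideal R := Ideal.span (Set.range fun r : R => r - g • r)
    have hJ : ¬ ((J : Set R) ⊆ ⋃ h ∈ ((Finset.univ : Finset G) : Set G), ((h • m : Ideal R) : Set R)) := by
      rw [Ideal.subset_union_prime (1 : G) (1 : G) (fun h _ _ _ => Ideal.IsPrime.smul h)]
      rintro ⟨h, -, hle⟩
      apply hg
      have hfix : g • (h • m) = h • m := by
        have hle' : ∀ y ∈ h • m, g • y ∈ h • m := fun y hy => by
          have := hle (Ideal.subset_span ⟨y, rfl⟩)
          simpa using Submodule.sub_mem _ hy this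
        refine le_antisymm ?_ ?_
        · intro y hy
          have hy' := Ideal.mem_pointwise_smul_iff_inv_smul_mem.1 hy
          have := hle' _ hy'
          rwa [smul_inv_smul] at this
        · intro y hy
          rw [Ideal.mem_pointwise_smul_iff_inv_smul_mem]
          have := hle (Ideal.subset_span ⟨g⁻¹ • y, rfl⟩)
          simp only [smul_inv_smul] at this
          simpa using Submodule.add_mem _ this hy
      have hst : h⁻¹ * g * h ∈ MulAction.stabilizer G m := by
        rw [MulAction.mem_stabilizer_iff, mul_smul, mul_smul, hfix, inv_smul_smul]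
      rw [hs, Subgroup.mem_bot] at hst
      calc g = h * (h⁻¹ * g * h) * h⁻¹ := by group
        _ = 1 := by rw [hst]; group
    obtain ⟨c, hcJ, hcn⟩ := Set.not_subset.1 hJ
    have hex : ∃ e : R ⊗[B] R, tw (1 : G) e = c ∧ tw g e = 0 := by
      clear hcn
      induction hcJ using Submodule.span_induction with
      | mem x hx =>
        obtain ⟨r, rfl⟩ := hx
        refine ⟨(1 : R) ⊗ₜ[B] r - (g • r) ⊗ₜ[B] 1, ?_, ?_⟩ <;> simp [tw_tmul]
      | zero => exact ⟨0, map_zero _, map_zero _⟩
      | add x y _ _ hx hy =>
        obtain ⟨e, h1, h2⟩ := hx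
        obtain ⟨e', h1', h2'⟩ := hy
        exact ⟨e + e', by rw [map_add, h1, h1'], by rw [map_add, h2, h2', add_zero]⟩
      | smul a x _ hx =>
        obtain ⟨e, h1, h2⟩ := hx
        refine ⟨(a ⊗ₜ[B] 1) * e, ?_, ?_⟩ <;> simp [tw_tmul, h1, h2]
    obtain ⟨e, h1, h2⟩ := hex
    exact ⟨c, e, fun h hh => hcn (Set.mem_biUnion (Finset.mem_coe.2 (Finset.mem_univ h)) hh), h1, h2⟩
  choose c e hcn he1 he2 using hc
  let u : R := ∏ g : {g : G // g ≠ 1}, c g.1 g.2
  let e₀ : R ⊗[B] R := ∏ g : {g : G // g ≠ 1}, e g.1 g.2
  have hu : ∀ h : G, u ∉ h • m := by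
    intro h hh
    haveI : (h • m).IsPrime := Ideal.IsPrime.smul h
    obtain ⟨g, -, hg⟩ := Ideal.IsPrime.prod_mem_iff.1 hh
    exact hcn g.1 g.2 h hg
  let φ : R := ∏ h : G, h • u
  have hφ : ∀ g : G, g • φ = φ := fun g => by
    simp only [φ, Finset.smul_prod', smul_smul]
    exact Fintype.prod_equiv (Equiv.mulLeft g) _ _ fun h => rfl
  obtain ⟨f, hf⟩ := Algebra.IsInvariant.isInvariant (A := B) (G := G) φ hφ
  refine ⟨f, (∏ h ∈ (Finset.univ : Finset G).erase 1, (h • u) ⊗ₜ[B] (1 : R)) * e₀, ?_, ?_, fun g hg => ?_⟩
  · rw [hf]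
    intro h
    obtain ⟨g, -, hg⟩ := Ideal.IsPrime.prod_mem_iff.1 h
    refine hu g⁻¹ ?_
    rw [Ideal.mem_pointwise_smul_iff_inv_smul_mem, inv_inv]
    exact hg
  · have h0 : tw (1 : G) e₀ = u := by
      simp only [e₀, map_prod]
      exact Finset.prod_congr rfl fun g _ => he1 g.1 g.2
    rw [map_mul, h0, map_prod, hf]
    simp only [tw_tmul, smul_one, mul_one, φ]
    rw [← Finset.prod_erase_mul (Finset.univ : Finset G) _ (Finset.mem_univ 1), one_smul]
  · rw [map_mul]
    have : tw g e₀ = 0 := by
      simp only [e₀, map_prod]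
      exact Finset.prod_eq_zero (Finset.mem_univ ⟨g, hg⟩) (he2 g hg)
    rw [this, mul_zero]

open Classical in
theorem isEtaleAt_of_stabilizer_eq_bot [IsNoetherianRing B] [Algebra.FiniteType B R]
    (m : Ideal R) [m.IsMaximal] (hs : MulAction.stabilizer G m = ⊥) : Algebra.IsEtaleAt B m := by
  haveI := Fintype.ofFinite G
  obtain ⟨f, e, hfm, he1, he⟩ := exists_galois_system (B := B) m hs
  obtain ⟨S, hS⟩ := TensorProduct.exists_finset e
  have hinj : Function.Injective (algebraMap B R) := FaithfulSMul.algebraMap_injective B R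
  have htr : ∀ r : R, ∃ b : B, algebraMap B R b = ∑ g : G, g • r := fun r =>
    Algebra.IsInvariant.isInvariant (G := G) _ fun g => by
      rw [Finset.smul_sum]
      exact Fintype.sum_equiv (Equiv.mulLeft g) _ _ fun h => by simp [smul_smul]
  choose tr htr using htr
  -- reconstruction
  have hrec : ∀ r : R, ∑ s ∈ S, tr (r * s.1) • s.2 = f • r := by
    intro r
    have h1 : ∀ g : G, ∑ s ∈ S, g • s.1 * s.2 = if g = 1 then algebraMap B R f else 0 := by
      intro g
      have h2 : tw g⁻¹ e = if g = 1 then algebraMap B R f else 0 := by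
        split_ifs with h
        · subst h; rw [inv_one]; exact he1
        · exact he _ (inv_ne_one.2 h)
      have h3 : g • tw g⁻¹ e = g • (if g = 1 then algebraMap B R f else 0) := by rw [h2]
      rw [hS, map_sum, Finset.smul_sum] at h3
      simp only [tw_tmul, smul_mul', smul_inv_smul] at h3
      rw [h3]
      split_ifs with h
      · subst h; rw [one_smul]
      · rw [smul_zero]
    simp only [Algebra.smul_def, htr, Finset.sum_mul, smul_mul']
    rw [Finset.sum_comm]
    simp only [mul_assoc, ← Finset.mul_sum, h1]
    rw [Finset.sum_eq_single (1 : G)]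
    · rw [if_pos rfl, one_smul, mul_comm]
    · intro g _ hg; rw [if_neg hg, mul_zero]
    · simp
  have hzero : ∀ z : R ⊗[B] R, f • z = ∑ s ∈ S, ∑ g : G, (tw g z * g • s.1) ⊗ₜ[B] s.2 := by
    intro z
    induction z using TensorProduct.induction_on with
    | zero => simp
    | tmul a b =>
      rw [← TensorProduct.tmul_smul, ← hrec b, TensorProduct.tmul_sum]
      refine Finset.sum_congr rfl fun s _ => ?_
      rw [← TensorProduct.smul_tmul, Algebra.smul_def, htr, Finset.sum_mul, TensorProduct.sum_tmul]
      exact Finset.sum_congr rfl fun g _ => by rw [tw_tmul, smul_mul']; ring_nf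
    | add p q hp hq =>
      rw [smul_add, hp, hq, ← Finset.sum_add_distrib]
      refine Finset.sum_congr rfl fun s _ => ?_
      rw [← Finset.sum_add_distrib]
      exact Finset.sum_congr rfl fun g _ => by rw [map_add, add_mul, TensorProduct.add_tmul]
  have hkill : ∀ r : R, f • (((1 : R) ⊗ₜ[B] r - r ⊗ₜ[B] (1 : R)) * e) = 0 := by
    intro r
    rw [hzero]
    refine Finset.sum_eq_zero fun s _ => Finset.sum_eq_zero fun g _ => ?_
    have : tw g (((1 : R) ⊗ₜ[B] r - r ⊗ₜ[B] (1 : R)) * e) = 0 := by
      rw [map_mul]
      by_cases hg : g = 1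
      · subst hg; simp [tw_tmul]
      · rw [he g hg, mul_zero]
    rw [this, zero_mul, TensorProduct.zero_tmul]
  -- the localization
  let φ : R := algebraMap B R f
  let L := Localization.Away φ
  haveI : IsLocalization (Algebra.algebraMapSubmonoid R (Submonoid.powers f)) L := by
    rw [Algebra.algebraMapSubmonoid_powers]; infer_instance
  haveI : Algebra.FiniteType R L := IsLocalization.finiteType_of_monoid_fg (Submonoid.powers φ) _
  haveI : Algebra.FiniteType B L := Algebra.FiniteType.trans (S := R) inferInstance inferInstance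
  haveI : Algebra.FinitePresentation B L := Algebra.FinitePresentation.of_finiteType.1 inferInstance
  obtain ⟨v, hv⟩ := (IsLocalization.Away.algebraMap_isUnit (S := L) φ).exists_right_inv
  have hφL : algebraMap R L φ = algebraMap B L f := (IsScalarTower.algebraMap_apply B R L f).symm
  haveI : Algebra.FormallyUnramified B L := by
    rw [Algebra.FormallyUnramified.iff_exists_tensorProduct]
    let ι : R ⊗[B] R →ₐ[B] L ⊗[B] L :=
      Algebra.TensorProduct.map (IsScalarTower.toAlgHom B R L) (IsScalarTower.toAlgHom B R L)
    refine ⟨ι e * (v ⊗ₜ[B] 1), fun s => ?_, ?_⟩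
    · have hf1 : ∀ z : L ⊗[B] L, f • z = 0 → z = 0 := by
        intro z hz
        have h1 : ((algebraMap B L f) ⊗ₜ[B] (1 : L)) * z = 0 := by
          rw [Algebra.algebraMap_eq_smul_one, ← TensorProduct.smul_tmul', ← Algebra.TensorProduct.one_def,
            smul_mul_assoc, one_mul, hz]
        have h2 : (v ⊗ₜ[B] (1 : L)) * ((algebraMap B L f) ⊗ₜ[B] (1 : L)) = 1 := by
          rw [Algebra.TensorProduct.tmul_mul_tmul, ← hφL, mul_comm, hv, one_mul, Algebra.TensorProduct.one_def]
        rw [← one_mul z, ← h2, mul_assoc, h1, mul_zero]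
      have hR : ∀ r : R, ((1 : L) ⊗ₜ[B] algebraMap R L r - algebraMap R L r ⊗ₜ[B] (1 : L)) * ι e = 0 := by
        intro r
        refine hf1 _ ?_
        have := congrArg ι (hkill r)
        rw [map_zero, Algebra.smul_def, map_mul, map_mul, AlgHom.commutes, ← Algebra.smul_def] at this
        simp only [ι, map_sub, Algebra.TensorProduct.map_tmul, IsScalarTower.toAlgHom_apply, map_one] at this
        exact this
      have hv' : ((1 : L) ⊗ₜ[B] v - v ⊗ₜ[B] (1 : L)) * ι e = 0 := by
        have h1 : (1 : L) ⊗ₜ[B] v - v ⊗ₜ[B] (1 : L) = 0 := by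
          refine hf1 _ ?_
          rw [smul_sub, ← TensorProduct.tmul_smul, TensorProduct.smul_tmul', Algebra.smul_def,
            ← hφL, hv, sub_self]
        rw [h1, zero_mul]
      obtain ⟨⟨r, ⟨p, N, rfl⟩⟩, hrs⟩ := IsLocalization.surj (Submonoid.powers φ) s
      have hs' : s = algebraMap R L r * v ^ N := by
        rw [← hrs, map_pow, mul_assoc, ← mul_pow, hv, one_pow, mul_one]
      rw [← mul_assoc]
      suffices h : ((1 : L) ⊗ₜ[B] s - s ⊗ₜ[B] (1 : L)) * ι e = 0 by rw [h, zero_mul]
      have hmul : ∀ p q : L, ((1 : L) ⊗ₜ[B] p - p ⊗ₜ[B] (1 : L)) * ι e = 0 →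
          ((1 : L) ⊗ₜ[B] q - q ⊗ₜ[B] (1 : L)) * ι e = 0 →
          ((1 : L) ⊗ₜ[B] (p * q) - (p * q) ⊗ₜ[B] (1 : L)) * ι e = 0 := by
        intro p q hp hq
        have h1 : (1 : L) ⊗ₜ[B] (p * q) - (p * q) ⊗ₜ[B] (1 : L) =
            ((1 : L) ⊗ₜ[B] p - p ⊗ₜ[B] (1 : L)) * ((1 : L) ⊗ₜ[B] q) +
              (p ⊗ₜ[B] (1 : L)) * ((1 : L) ⊗ₜ[B] q - q ⊗ₜ[B] (1 : L)) := by
          simp only [sub_mul, mul_sub, Algebra.TensorProduct.tmul_mul_tmul, one_mul, mul_one]; abel
        rw [h1, add_mul, mul_right_comm, hp, zero_mul, mul_assoc, hq, mul_zero, add_zero]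
      rw [hs']
      refine hmul _ _ (hR r) ?_
      clear hrs hs'
      induction N with
      | zero => simp [Algebra.TensorProduct.one_def]
      | succ N ih => rw [pow_succ]; exact hmul _ _ ih hv'
    · have h1 : Algebra.TensorProduct.lmul' B (ι e) = algebraMap R L (tw (1 : G) e) := by
        generalize e = z
        induction z using TensorProduct.induction_on with
        | zero => simp
        | tmul a b => simp [ι, tw_tmul]
        | add p q hp hq => simp only [map_add, hp, hq]
      rw [map_mul, h1, he1, Algebra.TensorProduct.lmul'_apply_tmul, mul_one]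
      exact hv
  haveI : Module.Flat B L := by
    let φl : R →ₗ[B] (S → B) :=
      { toFun := fun r s => tr (r * s.1.1)
        map_add' := fun x y => funext fun s => hinj (by
          simp only [htr, Pi.add_apply, map_add, add_mul, smul_add, Finset.sum_add_distrib])
        map_smul' := fun b x => funext fun s => hinj (by
          simp only [htr, Pi.smul_apply, RingHom.id_apply, smul_eq_mul, map_mul, smul_mul_assoc, Finset.mul_sum]
          exact Finset.sum_congr rfl fun g _ => by rw [smul_comm, Algebra.smul_def]) }
    let ψl : (S → B) →ₗ[B] R := ∑ s : S, (LinearMap.proj s).smulRight s.1.2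
    have hψφ : ψl ∘ₗ φl = f • LinearMap.id := by
      ext r
      simp only [ψl, φl, LinearMap.coe_comp, Function.comp_apply, LinearMap.coe_sum, Finset.sum_apply,
        LinearMap.smulRight_apply, LinearMap.proj_apply, LinearMap.coe_mk, AddHom.coe_mk, LinearMap.smul_apply,
        LinearMap.id_apply]
      rw [Finset.sum_coe_sort S (fun s => tr (r * s.1) • s.2), hrec]
    let Bf := Localization.Away f
    let gR : R →ₗ[B] L := (IsScalarTower.toAlgHom B R L).toLinearMap
    let gB : (S → B) →ₗ[B] (S → Bf) :=
      LinearMap.pi fun s => Algebra.linearMap B Bf ∘ₗ LinearMap.proj s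
    haveI : IsLocalizedModule (Submonoid.powers f) gR := by
      rw [isLocalizedModule_iff_isLocalization]; infer_instance
    haveI : IsLocalizedModule (Submonoid.powers f) gB :=
      IsLocalizedModule.pi (Submonoid.powers f) fun _ : S => Algebra.linearMap B Bf
    let φS : L →ₗ[B] (S → Bf) := IsLocalizedModule.map (Submonoid.powers f) gR gB φl
    let ψS : (S → Bf) →ₗ[B] L := IsLocalizedModule.map (Submonoid.powers f) gB gR ψl
    have hcomp : ψS ∘ₗ φS = f • LinearMap.id := by
      apply IsLocalizedModule.ext (Submonoid.powers f) gR (fun x => IsLocalizedModule.map_units gR x)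
      ext r
      simp only [LinearMap.comp_apply, φS, ψS, IsLocalizedModule.map_apply, LinearMap.smul_apply, LinearMap.id_apply]
      rw [← LinearMap.comp_apply ψl φl, hψφ, LinearMap.smul_apply, LinearMap.id_apply, map_smul]
    haveI : Module.Flat B Bf := IsLocalization.flat Bf (Submonoid.powers f)
    haveI : Module.Flat B (S → Bf) := Module.Flat.of_linearEquiv (DirectSum.linearEquivFunOnFintype B S (fun _ => Bf)).symm
    refine Module.Flat.of_retract ((LinearMap.mulLeft B v) ∘ₗ ψS |> fun r => φS) ((LinearMap.mulLeft B v) ∘ₗ ψS) ?_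
    ext x
    simp only [LinearMap.comp_apply, LinearMap.id_apply, LinearMap.mulLeft_apply]
    rw [← LinearMap.comp_apply ψS φS, hcomp, LinearMap.smul_apply, LinearMap.id_apply, Algebra.smul_def, ← hφL,
      ← mul_assoc, mul_comm v, hv, one_mul]
  haveI : Algebra.Etale B L := Algebra.Etale.of_formallyUnramified_of_flat
  have hsub := (Algebra.basicOpen_subset_etaleLocus_iff (R := B) (f := φ)).2 inferInstance
  exact hsub (show (⟨m, inferInstance⟩ : PrimeSpectrum R) ∈ PrimeSpectrum.basicOpen φ from hfm)

end Galois

/-- Let k be an algebraically closed field of characteristic zero, R a finitely generated commutative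
k-algebra which is an integrally closed domain (a normal irreducible affine variety X), and G a
finite group acting faithfully on R by k-algebra automorphisms. Let B be a commutative k-algebra
with an injective algebra map B → R, compatible with the k-structures and G-invariant, whose image
is exactly the subring of G-invariants (so Spec R → Spec B is the quotient morphism X → X/G). Then
for a maximal ideal m of R (a closed point x of X), R is étale over B at m (the local ring R_m is
formally étale over B) if and only if the stabilizer of m in G is trivial. -/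
theorem result (k : Type u) [Field k] [IsAlgClosed k] [CharZero k]
    (R : Type v) [CommRing R] [IsDomain R] [IsIntegrallyClosed R] [Algebra k R] [Algebra.FiniteType k R]
    (G : Type w) [Group G] [Finite G] [MulSemiringAction G R] [FaithfulSMul G R] [SMulCommClass G k R]
    (B : Type v) [CommRing B] [Algebra k B] [Algebra B R] [IsScalarTower k B R] [FaithfulSMul B R]
    [SMulCommClass G B R] [Algebra.IsInvariant B R G]
    (m : Ideal R) [m.IsMaximal] :
    Algebra.IsEtaleAt B m ↔ MulAction.stabilizer G m = ⊥ := by
  classical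
  haveI : IsNoetherianRing R := Algebra.FiniteType.isNoetherianRing k R
  haveI : Algebra.FiniteType B R := Algebra.FiniteType.of_restrictScalars_finiteType k B R
  haveI : Algebra.IsIntegral B R := Algebra.IsInvariant.isIntegral B R G
  haveI : Module.Finite B R := Algebra.IsIntegral.finite
  have hinj : Function.Injective (algebraMap B R) := FaithfulSMul.algebraMap_injective B R
  haveI : Algebra.FiniteType k B :=
    ⟨fg_of_fg_of_fg k B R Algebra.FiniteType.out Module.Finite.fg_top hinj⟩
  haveI : IsNoetherianRing B := Algebra.FiniteType.isNoetherianRing k B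
  constructor
  · intro het
    refine (Subgroup.eq_bot_iff_forall _).2 fun σ hσ => ?_
    rw [MulAction.mem_stabilizer_iff] at hσ
    refine eq_of_smul_eq_smul (α := R) fun r => ?_
    rw [one_smul]
    let n : Ideal B := m.comap (algebraMap B R)
    haveI : m.LiesOver n := ⟨rfl⟩
    letI := Localization.AtPrime.algebraOfLiesOver n m
    haveI : Algebra.IsUnramifiedAt B m := by
      haveI : Algebra.FormallyEtale B (Localization.AtPrime m) := het
      exact inferInstanceAs (Algebra.FormallyUnramified B (Localization.AtPrime m))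
    have hmap := ((Algebra.isUnramifiedAt_iff_map_eq B n m).1 inferInstance).2
    -- the residue field is `k`
    have hres : ∀ a : R, ∃ c : k, a - algebraMap k R c ∈ m := by
      intro a
      letI := Ideal.Quotient.field m
      haveI : Algebra.FiniteType k (R ⧸ m) :=
        Algebra.FiniteType.of_surjective (Ideal.Quotient.mkₐ k m) (Ideal.Quotient.mkₐ_surjective k m)
      haveI : Module.Finite k (R ⧸ m) := finite_of_finite_type_of_isJacobsonRing _ _
      obtain ⟨c, hc⟩ := (IsAlgClosed.algebraMap_bijective_of_isIntegral (k := k) (K := R ⧸ m)).2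
        (Ideal.Quotient.mk m a)
      exact ⟨c, Ideal.Quotient.eq.1 hc.symm⟩
    have hσk : ∀ c : k, σ • algebraMap k R c = algebraMap k R c := fun c => by
      rw [Algebra.algebraMap_eq_smul_one, smul_comm, smul_one]
    have hσm : ∀ x ∈ m, σ • x ∈ m := fun x hx => hσ ▸ Ideal.smul_mem_pointwise_smul σ x m hx
    -- move `x ∈ m` into `n R`
    have hgen : ∀ x ∈ m, ∃ u, u ∉ m ∧ u * x ∈ n.map (algebraMap B R) := by
      intro x hx
      have h1 : algebraMap R (Localization.AtPrime m) x ∈
          (n.map (algebraMap B R)).map (algebraMap R (Localization.AtPrime m)) := by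
        rw [Ideal.map_map, ← IsScalarTower.algebraMap_eq, hmap, ← Localization.AtPrime.map_eq_maximalIdeal]
        exact Ideal.mem_map_of_mem _ hx
      obtain ⟨u, hu, hux⟩ := (IsLocalization.algebraMap_mem_map_algebraMap_iff m.primeCompl _ _ _).1 h1
      exact ⟨u, hu, hux⟩
    have key : ∀ N : ℕ, ∀ a : R, σ • a - a ∈ m ^ N := by
      intro N
      induction N with
      | zero => intro a; simp
      | succ N ih =>
        intro a
        obtain ⟨c, hc⟩ := hres a
        set x := a - algebraMap k R c with hx
        have hax : σ • a - a = σ • x - x := by rw [hx, smul_sub, hσk]; ring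
        rw [hax]
        obtain ⟨u, hu, hux⟩ := hgen x hc
        have hd : ∀ y ∈ n.map (algebraMap B R), σ • y - y ∈ m ^ (N + 1) := by
          intro y hy
          rw [Ideal.map] at hy
          induction hy using Submodule.span_induction with
          | mem y hy =>
            obtain ⟨b, hb, rfl⟩ := hy
            rw [show σ • algebraMap B R b = algebraMap B R b by
              rw [Algebra.algebraMap_eq_smul_one, smul_comm, smul_one], sub_self]
            exact Submodule.zero_mem _
          | zero => simp
          | add y z _ _ hy hz =>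
            rw [smul_add, add_sub_add_comm]
            exact Submodule.add_mem _ hy hz
          | smul a y hy' hy =>
            have hym : y ∈ m := Ideal.map_comap_le hy'
            rw [smul_eq_mul, smul_mul', show σ • a * σ • y - a * y = σ • a * (σ • y - y) + y * (σ • a - a) by ring,
              pow_succ']
            refine Submodule.add_mem _ ?_ (Ideal.mul_mem_mul hym (ih a))
            rw [← pow_succ']
            exact Ideal.mul_mem_left _ _ hy
        have h2 := hd _ hux
        rw [smul_mul', show σ • u * σ • x - u * x = σ • x * (σ • u - u) + u * (σ • x - x) by ring] at h2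
        have h3 : σ • x * (σ • u - u) ∈ m ^ (N + 1) := by
          rw [pow_succ']; exact Ideal.mul_mem_mul (hσm x hc) (ih u)
        have h4 : u * (σ • x - x) ∈ m ^ (N + 1) := by simpa using Submodule.sub_mem _ h2 h3
        exact (Ideal.IsMaximal.mul_mem_pow m h4).resolve_left hu
    have h0 : σ • r - r ∈ (⊥ : Ideal R) := by
      rw [← Ideal.iInf_pow_eq_bot_of_isDomain m (Ideal.IsPrime.ne_top inferInstance), Submodule.mem_iInf]
      exact fun N => key N r
    exact sub_eq_zero.1 (by simpa using h0)
  · exact isEtaleAt_of_stabilizer_eq_bot m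

end Groth.Agent.S19402
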