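import Groth.Statements.S19403
-- import your own Groth.Agent.* helpers here
import Groth.Agent.GLinEt.SubComod
import Groth.Agent.ComodLib.CartierChar0
import Mathlib.RingTheory.ZariskisMainTheorem

set_option autoImplicit false
universe u
open TensorProduct
open GLin

namespace Groth.Agent.S19403

theorem exists_pow_mul_eq {B R : Type*} [CommRing B] [CommRing R] (i : B →+* R) (r : B)
    (h : Function.Surjective (Localization.awayMap i r)) (x : R) : ∃ (n : ℕ) (b : B), i r ^ n * x = i b := by
  obtain ⟨z, hz⟩ := h (algebraMap R _ x)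
  obtain ⟨b, ⟨_, n, rfl⟩, rfl⟩ := IsLocalization.exists_mk'_eq (.powers r) z
  have heq : ∀ c : B, Localization.awayMap i r (algebraMap B _ c) = algebraMap R _ (i c) := fun c => by
    simp [Localization.awayMap, IsLocalization.Away.map, IsLocalization.map_eq]
  have h1 := congrArg (Localization.awayMap i r) (IsLocalization.mk'_spec (Localization.Away r) b
    (⟨r ^ n, n, rfl⟩ : Submonoid.powers r))
  rw [map_mul, heq, heq] at h1
  erw [hz] at h1
  rw [← map_mul, IsLocalization.eq_iff_exists (.powers (i r))] at h1
  replace hz := h1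
  obtain ⟨⟨_, m, rfl⟩, hm⟩ := hz
  refine ⟨m + n, r ^ m * b, ?_⟩
  simp only [map_pow] at hm
  rw [map_mul, map_pow, pow_add, mul_assoc, _root_.mul_comm _ x]
  exact hm

/-- The equivariant form of Zariski's Main Theorem. Let k be an algebraically closed field of
characteristic zero, A a finitely generated commutative Hopf algebra over k all of whose
finite-dimensional comodules are semisimple (a reductive group G), R and S finitely generated
commutative k-algebras with multiplicative A-coactions (G acting on the affine schemes X = Spec R, Y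
= Spec S), and S → R an algebra map compatible with the coactions (a G-morphism φ : X → Y) which is
quasi-finite. Then there exist a finitely generated commutative k-algebra B with a multiplicative
A-coaction (an affine G-scheme Z), an algebra map ψ : S → B compatible with the coactions and
finite, and an algebra map i : B → R compatible with the coactions such that Spec R → Spec B is an
open immersion, with i ∘ ψ the given map S → R (φ factors as an equivariant open immersion followed
by a finite G-morphism). -/
theorem result (k : Type u) [Field k] [IsAlgClosed k] [CharZero k]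
    (A : Type u) [CommRing A] [HopfAlgebra k A] [Algebra.FiniteType k A] (hG : HopfRep.IsLinearlyReductive k A)
    (S : Type u) [CommRing S] [Algebra k S] [Algebra.FiniteType k S] [HopfRep.Comod k A S] [GLin.IsCoactAlg k A S]
    (R : Type u) [CommRing R] [Algebra k R] [Algebra.FiniteType k R] [HopfRep.Comod k A R] [GLin.IsCoactAlg k A R]
    [Algebra S R] [IsScalarTower k S R] [Algebra.QuasiFinite S R]
    (hequiv : (∀ s : S, HopfRep.Comod.coact (k := k) (A := A) (algebraMap S R s) =
      Algebra.TensorProduct.map (IsScalarTower.toAlgHom k S R) (AlgHom.id k A) (HopfRep.Comod.coact (k := k) (A := A) s))) :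
    ∃ (B : Type u) (_ : CommRing B) (_ : Algebra k B) (_ : HopfRep.Comod k A B) (_ : GLin.IsCoactAlg k A B),
      Algebra.FiniteType k B ∧
      ∃ (ψ : S →ₐ[k] B) (i : B →ₐ[k] R),
        (∀ s : S, HopfRep.Comod.coact (k := k) (A := A) (ψ s) =
        Algebra.TensorProduct.map ψ (AlgHom.id k A) (HopfRep.Comod.coact (k := k) (A := A) s)) ∧
        (∀ s : B, HopfRep.Comod.coact (k := k) (A := A) (i s) =
        Algebra.TensorProduct.map i (AlgHom.id k A) (HopfRep.Comod.coact (k := k) (A := A) s)) ∧
        i.comp ψ = IsScalarTower.toAlgHom k S R ∧ ψ.toRingHom.Finite ∧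
        AlgebraicGeometry.IsOpenImmersion (AlgebraicGeometry.Spec.map (CommRingCat.ofHom i.toRingHom)) := by
  classical
  haveI : _root_.IsReduced A := ComodLib.isReduced_of_charZero' (k := k)
  haveI : Algebra.FiniteType S R := Algebra.FiniteType.of_restrictScalars_finiteType k S R
  let φ := IsScalarTower.toAlgHom k S R
  have hφ : Hoch.IsComodHom A φ.toLinearMap := LinearMap.ext fun s => hequiv s
  have hact : ∀ (g : A →ₐ[k] k) (f : R), HopfRep.Comod.act k A R g f = GLinEt.transHom g f := fun g f => by
    rw [GLinEt.transHom_apply]; rfl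
  let U : Submodule k R := Subalgebra.toSubmodule ((integralClosure S R).restrictScalars k)
  have hU : HopfRep.IsSubcomod (k := k) (A := A) U := ComodLib.isSubcomod_of_forall_act fun g b hb => by
    rw [hact]
    exact IsIntegral.map_of_comp_eq (GLinEt.transHom (R := S) g).toRingHom (GLinEt.transHom (R := R) g).toRingHom
      (RingHom.ext fun s => (GLinEt.transHom_comp φ hφ g s).symm) (hb : IsIntegral S b)
  -- finitely many elements to invert
  have hzmt : ∀ p : PrimeSpectrum R, ∃ S' : Subalgebra S R, S'.toSubmodule.FG ∧ ∃ r : S',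
      r.1 ∉ p.asIdeal ∧ Function.Bijective (Localization.awayMap S'.val.toRingHom r) := fun p =>
    Algebra.QuasiFiniteAt.exists_fg_and_exists_notMem_and_awayMap_bijective p.asIdeal
  choose S' hS' r hr hbij using hzmt
  have hspan : (1 : R) ∈ Ideal.span (Set.range fun p => (r p).1) := by
    rw [← Ideal.eq_top_iff_one]
    by_contra hne
    obtain ⟨M, hM, hle⟩ := Ideal.exists_le_maximal _ hne
    exact hr ⟨M, hM.isPrime⟩ (hle (Ideal.subset_span ⟨⟨M, hM.isPrime⟩, rfl⟩))
  obtain ⟨J, hJsub, hJ⟩ := Submodule.mem_span_finite_of_mem_span hspan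
  have hJ' : ∀ y : J, ∃ p : PrimeSpectrum R, (r p).1 = y.1 := fun y => hJsub y.2
  choose pt hpt using hJ'
  choose gens hgens using fun p => hS' p
  obtain ⟨W₀, hW₀f, hW₀s, hW₀⟩ := ComodLib.exists_finite_subcomod_le (k := k) (C := A) (V := R)
    (Set.finite_iUnion fun y : J => (gens (pt y)).finite_toSet)
  haveI := hW₀f
  let W : Submodule k R := W₀ ⊓ U
  have hW : HopfRep.IsSubcomod (k := k) (A := A) W := ComodLib.isSubcomod_inf hW₀ hU
  haveI : Module.Finite k W := Submodule.finiteDimensional_inf_left W₀ U
  obtain ⟨t, ht⟩ := (Module.Finite.iff_fg.mp inferInstance : W.FG)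
  have htW : ∀ z ∈ t, z ∈ W := fun z hz => ht ▸ Submodule.subset_span hz
  let B₁ : Subalgebra S R := Algebra.adjoin S (t : Set R)
  have hWB : ∀ z ∈ W, z ∈ B₁ := fun z hz => by
    rw [← ht] at hz
    exact (Submodule.span_le (p := Subalgebra.toSubmodule (B₁.restrictScalars k))).mpr
      (Algebra.subset_adjoin) hz
  haveI : Module.Finite S B₁ := Module.Finite.iff_fg.mpr
    (fg_adjoin_of_finite t.finite_toSet fun z hz => (htW z hz).2)
  have hsub : ∀ y : J, S' (pt y) ≤ B₁ := fun y z hz => by
    have hz' : z ∈ Submodule.span S (gens (pt y) : Set R) := (hgens (pt y)).symm ▸ hz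
    refine (Submodule.span_le (p := Subalgebra.toSubmodule B₁)).mpr (fun w hw => hWB w ?_) hz'
    exact ⟨hW₀s (Set.mem_iUnion.mpr ⟨y, hw⟩), IsIntegral.of_mem_of_fg _ (hS' (pt y)) w
      ((hgens (pt y)) ▸ Submodule.subset_span hw : w ∈ Subalgebra.toSubmodule (S' (pt y)))⟩
  let B : Subalgebra k R := B₁.restrictScalars k
  have hB : HopfRep.IsSubcomod (k := k) (A := A) (Subalgebra.toSubmodule B) :=
    ComodLib.isSubcomod_of_forall_act fun g b hb => by
      rw [hact]
      have hb' : b ∈ B₁ := hb
      clear hb
      show GLinEt.transHom g b ∈ B₁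
      induction hb' using Algebra.adjoin_induction with
      | mem z hz =>
        apply hWB
        rw [GLinEt.transHom_apply]
        exact ComodLib.subcomod_actF_mem hW _ (htW z hz)
      | algebraMap s =>
        rw [show algebraMap S R s = φ s from rfl, GLinEt.transHom_comp φ hφ]
        exact B₁.algebraMap_mem _
      | add u v _ _ hu hv => rw [map_add]; exact add_mem hu hv
      | mul u v _ _ hu hv => rw [map_mul]; exact mul_mem hu hv
  letI : HopfRep.Comod k A B := GLinEt.subalgComod hB
  haveI : GLin.IsCoactAlg k A B := GLinEt.isCoactAlg_sub hB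
  refine ⟨B, inferInstance, inferInstance, inferInstance, inferInstance, ?_, φ.codRestrict B fun s => B₁.algebraMap_mem s,
    B.val, fun s => GLinEt.map_val_injective B ?_, fun b => (GLinEt.map_val_coact hB b).symm, ?_, ?_, ?_⟩
  · exact Algebra.FiniteType.trans (R := k) (S := S) (A := B₁) inferInstance inferInstance
  · rw [GLinEt.map_val_coact hB]
    refine (hequiv s).trans ?_
    induction HopfRep.Comod.coact (k := k) (A := A) s using TensorProduct.induction_on with
    | zero => simp
    | tmul p q => simp [φ]
    | add p q hp hq => simp only [map_add, hp, hq]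
  · exact AlgHom.ext fun s => rfl
  · show (algebraMap S B₁).Finite
    exact RingHom.finite_algebraMap.mpr inferInstance
  · refine GLinEt.isOpenImmersion_of_forall_exists B.val.toRingHom Subtype.val_injective fun p => ?_
    obtain ⟨y, hy⟩ : ∃ y : J, y.1 ∉ p.asIdeal := by
      by_contra hc
      simp only [not_exists, not_not] at hc
      exact p.isPrime.ne_top ((Ideal.eq_top_iff_one _).mpr (Ideal.span_le.mpr (fun z hz => hc ⟨z, hz⟩) hJ))
    have hrB : (r (pt y)).1 ∈ B₁ := hsub y (r (pt y)).2
    refine ⟨⟨(r (pt y)).1, hrB⟩, ?_, fun x => ?_⟩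
    · show (r (pt y)).1 ∉ p.asIdeal
      rw [hpt]; exact hy
    · obtain ⟨n, b, hb⟩ := exists_pow_mul_eq _ _ (hbij (pt y)).2 x
      exact ⟨n, ⟨b.1, hsub y b.2⟩, hb⟩

end Groth.Agent.S19403
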