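import Groth.Statements.S19405
-- import your own Groth.Agent.* helpers here
import Groth.Agent.GLinEt.Orbit
import Groth.Agent.S2136
import Groth.Agent.S9812
import Groth.Agent.S13124

set_option autoImplicit false
universe u
open TensorProduct
open GLin

namespace Groth.Agent.S19405

/-- Let k be an algebraically closed field of characteristic zero, A a finitely generated commutative
Hopf algebra over k which is an integral domain and all of whose finite-dimensional comodules are
semisimple (a connected reductive group G), S and R finitely generated commutative k-algebras which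
are integrally closed domains, with multiplicative A-coactions (G acting on the normal irreducible
affine varieties Y = Spec S and X = Spec R), and S → R an algebra map compatible with the coactions
(a G-morphism θ : X → Y) which is finite. Let S₀ → S and R₀ → R be injective k-algebra maps whose
images are exactly the subrings of invariants, and S₀ → R₀ an algebra map with S₀ → R₀ → R equal to
S₀ → S → R (the induced morphism θ/G : X//G → Y//G). Let x be a k-point of X whose orbit is closed,
m its kernel (a maximal ideal of R), suppose R is étale over S at m (θ étale at x), and suppose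
every k-point of G fixing the image point θ(x) fixes x (θ is injective on the orbit of x). Then R₀
is étale over S₀ at the prime of R₀ under the kernel of x (θ/G is étale at the image of x in X//G).
(The published statement allows any reductive G and normal X, Y; the argument given is for connected
G and irreducible X, Y, assumed here.) -/
theorem result (k : Type u) [Field k] [IsAlgClosed k] [CharZero k]
    (A : Type u) [CommRing A] [IsDomain A] [HopfAlgebra k A] [Algebra.FiniteType k A] (hG : HopfRep.IsLinearlyReductive k A)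
    (S : Type u) [CommRing S] [IsDomain S] [IsIntegrallyClosed S] [Algebra k S] [Algebra.FiniteType k S]
    [HopfRep.Comod k A S] [GLin.IsCoactAlg k A S]
    (R : Type u) [CommRing R] [IsDomain R] [IsIntegrallyClosed R] [Algebra k R] [Algebra.FiniteType k R]
    [HopfRep.Comod k A R] [GLin.IsCoactAlg k A R]
    [Algebra S R] [IsScalarTower k S R] [Module.Finite S R]
    (hequiv : (∀ s : S, HopfRep.Comod.coact (k := k) (A := A) (algebraMap S R s) =
      Algebra.TensorProduct.map (IsScalarTower.toAlgHom k S R) (AlgHom.id k A) (HopfRep.Comod.coact (k := k) (A := A) s)))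
    (S₀ : Type u) [CommRing S₀] [Algebra k S₀] [Algebra S₀ S] [IsScalarTower k S₀ S]
    (hS₀i : Function.Injective (algebraMap S₀ S)) (hS₀ : (IsScalarTower.toAlgHom k S₀ S).range = GLin.invariants k A S)
    (R₀ : Type u) [CommRing R₀] [Algebra k R₀] [Algebra R₀ R] [IsScalarTower k R₀ R]
    (hR₀i : Function.Injective (algebraMap R₀ R)) (hR₀ : (IsScalarTower.toAlgHom k R₀ R).range = GLin.invariants k A R)
    [Algebra S₀ R₀] [Algebra S₀ R] [IsScalarTower S₀ S R] [IsScalarTower S₀ R₀ R]
    (x : R →ₐ[k] k) (hx : GLin.IsClosedOrbit k A x) (m : Ideal R) [m.IsMaximal] (hm : m = RingHom.ker x.toRingHom)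
    (het : Algebra.IsEtaleAt S m)
    (hinj : ∀ g : A →ₐ[k] k, GLin.actPt k g (x.comp (IsScalarTower.toAlgHom k S R)) = x.comp (IsScalarTower.toAlgHom k S R) →
      GLin.actPt k g x = x) :
    Algebra.IsEtaleAt S₀ (Ideal.comap (algebraMap R₀ R) m) := by
  classical
  obtain ⟨α, hα, hα1⟩ := ComodLib.exists_integral_of_isLinearlyReductive hG
  haveI : IsNoetherianRing R := Algebra.FiniteType.isNoetherianRing k R
  haveI : IsNoetherianRing S := Algebra.FiniteType.isNoetherianRing k S
  haveI : Algebra.FinitePresentation S R := Algebra.FinitePresentation.of_finiteType.mp inferInstance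
  have hφ : Hoch.IsComodHom A (IsScalarTower.toAlgHom k S R).toLinearMap := LinearMap.ext fun s => hequiv s
  haveI := het
  -- injectivity of `S → R`
  obtain ⟨a, ha, hetA⟩ := Algebra.exists_etale_of_isEtaleAt (R := S) m
  haveI := hetA
  have ha0 : a ≠ 0 := fun h => ha (h ▸ m.zero_mem)
  have hSR : Function.Injective (algebraMap S R) := by
    rw [injective_iff_map_eq_zero]
    intro s hs
    by_contra hs0
    haveI : Nontrivial (Localization.Away a) :=
      (IsLocalization.injective (Localization.Away a) (powers_le_nonZeroDivisors_of_noZeroDivisors ha0)).nontrivial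
    haveI : Module.IsTorsionFree S (Localization.Away a) := inferInstance
    have h1 : s • (1 : Localization.Away a) = 0 := by
      rw [Algebra.smul_def, IsScalarTower.algebraMap_apply S R (Localization.Away a), hs, map_zero, zero_mul]
    rcases smul_eq_zero.mp h1 with h | h
    · exact hs0 h
    · exact one_ne_zero h
  -- the fibre ideal at `x`
  have hxm : ∀ f : R, x f = 0 ↔ f ∈ m := fun f => by rw [hm]; exact Iff.rfl
  have hux : GLinEt.IsUnramPt S x := by
    letI := Localization.AtPrime.algebraOfLiesOver (m.under S) m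
    have hmap := ((Algebra.isUnramifiedAt_iff_map_eq S (m.under S) m).mp inferInstance).2
    have hstep : ∀ f ∈ m, ∃ s ∉ m, s * f ∈ Ideal.map (algebraMap S R) (m.under S) := fun f hf => by
      have h1 : algebraMap R (Localization.AtPrime m) f ∈
          Ideal.map (algebraMap R (Localization.AtPrime m)) (Ideal.map (algebraMap S R) (m.under S)) := by
        rw [Ideal.map_map, ← IsScalarTower.algebraMap_eq, hmap, ← Localization.AtPrime.map_eq_maximalIdeal]
        exact Ideal.mem_map_of_mem _ hf
      obtain ⟨s, hs, h⟩ := (IsLocalization.algebraMap_mem_map_algebraMap_iff m.primeCompl _ _ _).mp h1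
      exact ⟨s, hs, h⟩
    choose! s hs hsf using hstep
    obtain ⟨gens, hgens⟩ := IsNoetherian.noetherian m
    refine ⟨∏ f ∈ gens, s f, ?_, fun f hf => ?_⟩
    · rw [map_prod, Finset.prod_ne_zero_iff]
      exact fun f hf h => hs f (hgens ▸ Submodule.subset_span hf) ((hxm _).mp h)
    · have hker : RingHom.ker (x.comp (IsScalarTower.toAlgHom k S R)) = m.under S :=
        Ideal.ext fun b => hxm _
      rw [hker]
      have hf' : f ∈ Submodule.span R (gens : Set R) := hgens.symm ▸ (hxm f).mp hf
      clear hf
      induction hf' using Submodule.span_induction with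
      | mem f hf =>
        have hfm : f ∈ m := hgens ▸ Submodule.subset_span hf
        rw [← Finset.prod_erase_mul _ _ (Finset.mem_coe.mp hf), mul_assoc]
        exact Ideal.mul_mem_left _ _ (hsf f hfm)
      | zero => rw [mul_zero]; exact zero_mem _
      | add u v _ _ hu hv => rw [mul_add]; exact add_mem hu hv
      | smul r u _ hu => rw [smul_eq_mul, mul_left_comm]; exact Ideal.mul_mem_left _ _ hu
  have hu : ∀ g : A →ₐ[k] k, GLinEt.IsUnramPt S (GLin.actPt k g x) := fun g => hux.translate hφ g
  have horb : ∀ z : R →ₐ[k] k, RingHom.ker (GLin.orbitHom k A x) ≤ RingHom.ker z →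
      ∃ g : A →ₐ[k] k, z = GLin.actPt k g x := fun z hz => ComodLib.mem_orbit_of_isClosedOrbit hx hz
  set Q : Ideal R := RingHom.ker (GLin.orbitHom k A x) with hQ
  have hQx : Q ≤ m := hm ▸ ComodLib.ker_orbitHom_le x
  have hs1 := GLinEt.exists_sub_mem_ker_orbitHom (S := S) hφ x hu horb hinj
  have hpow := GLinEt.exists_sub_mem_pow hs1 (GLinEt.ker_orbitHom_le_map_sup_sq (S := S) hφ x hu horb hs1)
  -- the invariant rings
  have hS₀mem : ∀ s₀ : S₀, algebraMap S₀ S s₀ ∈ GLin.invariants k A S := fun s₀ => hS₀ ▸ ⟨s₀, rfl⟩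
  have hR₀mem : ∀ r₀ : R₀, algebraMap R₀ R r₀ ∈ GLin.invariants k A R := fun r₀ => hR₀ ▸ ⟨r₀, rfl⟩
  have hS₀surj : ∀ s ∈ GLin.invariants k A S, ∃ s₀ : S₀, algebraMap S₀ S s₀ = s := fun s hs => by
    rw [← hS₀] at hs; exact hs
  have hR₀surj : ∀ r ∈ GLin.invariants k A R, ∃ r₀ : R₀, algebraMap R₀ R r₀ = r := fun r hr => by
    rw [← hR₀] at hr; exact hr
  have hcompat : ∀ s₀ : S₀, algebraMap R₀ R (algebraMap S₀ R₀ s₀) = algebraMap S R (algebraMap S₀ S s₀) := fun s₀ => by
    rw [← IsScalarTower.algebraMap_apply S₀ R₀ R, ← IsScalarTower.algebraMap_apply S₀ S R]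
  haveI : IsScalarTower k S₀ R₀ := IsScalarTower.of_algebraMap_eq fun c => hR₀i (by
    rw [hcompat, ← IsScalarTower.algebraMap_apply k S₀ S, ← IsScalarTower.algebraMap_apply k S R,
      ← IsScalarTower.algebraMap_apply k R₀ R])
  haveI : IsDomain R₀ := hR₀i.isDomain
  haveI : IsDomain S₀ := hS₀i.isDomain
  have hS₀R₀ : Function.Injective (algebraMap S₀ R₀) := fun u v h => hS₀i (hSR (by rw [← hcompat, ← hcompat, h]))
  have eS := (AlgEquiv.ofInjective (IsScalarTower.toAlgHom k S₀ S) hS₀i).trans (Subalgebra.equivOfEq _ _ hS₀)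
  haveI : IsIntegrallyClosed (GLin.invariants k A S) := S13124.result k A S
  haveI : IsIntegrallyClosed S₀ := IsIntegrallyClosed.of_equiv eS.symm.toRingEquiv
  obtain ⟨t, htgen⟩ := ComodLib.exists_finset_invariants_adjoin (C := R) hα hα1
  haveI : Algebra.FiniteType k (GLin.invariants k A R) :=
    (Subalgebra.fg_iff_finiteType _).mp ⟨t, htgen.symm⟩
  haveI : Algebra.FiniteType k R₀ := Algebra.FiniteType.equiv ‹Algebra.FiniteType k (GLin.invariants k A R)›
    ((AlgEquiv.ofInjective (IsScalarTower.toAlgHom k R₀ R) hR₀i).trans (Subalgebra.equivOfEq _ _ hR₀)).symm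
  haveI : Algebra.FiniteType S₀ R₀ := Algebra.FiniteType.of_restrictScalars_finiteType k S₀ R₀
  set q : Ideal R₀ := Ideal.comap (algebraMap R₀ R) m with hq
  have hqx : ∀ f : R₀, f ∈ q ↔ x (algebraMap R₀ R f) = 0 := fun f => (hxm _).symm
  set p : Ideal S₀ := q.under S₀ with hp
  -- the fibre ideal downstairs
  have key : ∀ f ∈ q, ∃ r ∈ q, (1 - r) * f ∈ Ideal.map (algebraMap S₀ R₀) p := by
    intro f hf
    set F := algebraMap R₀ R f
    let I : Ideal R := Ideal.map (algebraMap R₀ R) (Ideal.map (algebraMap S₀ R₀) p)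
    have hFn : ∀ n : ℕ, F ∈ I ⊔ Q ^ n := by
      intro n
      rcases Nat.eq_zero_or_pos n with rfl | hn
      · rw [pow_zero, Ideal.one_eq_top, sup_top_eq]; trivial
      obtain ⟨b, hb⟩ := hpow n F
      have hQn : HopfRep.IsSubcomod (k := k) (A := A) ((Q ^ n).restrictScalars k) := by
        rw [Submodule.restrictScalars_pow (by omega)]
        clear hb hn
        induction n with
        | zero =>
          rw [pow_zero]
          intro u hu
          obtain ⟨c, rfl⟩ := Submodule.mem_one.mp hu
          refine ⟨(⟨algebraMap k R c, hu⟩ : ↥(1 : Submodule k R)) ⊗ₜ[k] (1 : A), ?_⟩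
          rw [LinearMap.rTensor_tmul, Submodule.subtype_apply]
          exact ((GLin.invariants k A R).algebraMap_mem c).symm
        | succ n ih => rw [pow_succ]; exact ComodLib.isSubcomod_mul ih (ComodLib.isSubcomod_ker_orbitHom x)
      obtain ⟨s₀, hs₀⟩ := hS₀surj (ComodLib.rey α b) (ComodLib.rey_mem_fixedPts hα b)
      have hrq : ComodLib.rey α (F - algebraMap S R b) ∈ Q ^ n :=
        ComodLib.rey_mem_of_isSubcomod (α := α) hQn hb
      rw [map_sub, ComodLib.rey_of_fixed hα1 (hR₀mem f : F ∈ HopfRep.fixedPts k A R)] at hrq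
      rw [show ComodLib.rey α (algebraMap S R b) = algebraMap R₀ R (algebraMap S₀ R₀ s₀) by
        rw [hcompat, hs₀]; exact (ComodLib.map_rey hφ b).symm] at hrq
      have hs₀p : s₀ ∈ p := by
        show algebraMap R₀ R (algebraMap S₀ R₀ s₀) ∈ m
        have h1 := m.sub_mem (Ideal.mem_comap.mp hf) (hQx (Ideal.pow_le_self (by omega) hrq))
        rwa [sub_sub_cancel] at h1
      have := Submodule.add_mem_sup (show algebraMap R₀ R (algebraMap S₀ R₀ s₀) ∈ I from
        Ideal.mem_map_of_mem _ (Ideal.mem_map_of_mem _ hs₀p)) hrq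
      rwa [add_sub_cancel] at this
    obtain ⟨⟨r, hr⟩, hrF⟩ := (Ideal.mem_iInf_smul_pow_eq_bot_iff Q (I.mkQ F)).mp (by
      rw [Submodule.mem_iInf]
      intro n
      obtain ⟨u, hu, v, hv, e⟩ := Submodule.mem_sup.mp (hFn n)
      rw [← e, map_add, Submodule.mkQ_apply, (Submodule.Quotient.mk_eq_zero _).mpr hu, zero_add,
        show v = v • (1 : R) from (mul_one v).symm, map_smul]
      exact Submodule.smul_mem_smul hv Submodule.mem_top)
    have hF : (1 - r) * F ∈ I := by
      rw [← Submodule.Quotient.mk_eq_zero I, ← smul_eq_mul, Submodule.Quotient.mk_smul, sub_smul, one_smul,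
        sub_eq_zero]
      exact hrF.symm
    obtain ⟨r₀, hr₀⟩ := hR₀surj (ComodLib.rey α r) (ComodLib.rey_mem_fixedPts hα r)
    refine ⟨r₀, ?_, ?_⟩
    · rw [hqx, hr₀]
      exact ComodLib.ker_orbitHom_le (A := A) x
        (ComodLib.rey_mem_of_isSubcomod (ComodLib.isSubcomod_ker_orbitHom x) hr)
    have hI : ∀ u ∈ I, ∀ c : R, ∃ i ∈ Ideal.map (algebraMap S₀ R₀) p,
        algebraMap R₀ R i = ComodLib.rey α (c * u) := by
      intro u hu
      induction hu using Submodule.span_induction with
      | mem u hu =>
        obtain ⟨i, hi, rfl⟩ := hu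
        intro c
        obtain ⟨c₀, hc₀⟩ := hR₀surj (ComodLib.rey α c) (ComodLib.rey_mem_fixedPts hα c)
        exact ⟨c₀ * i, Ideal.mul_mem_left _ _ hi, by
          rw [map_mul, hc₀, ComodLib.rey_mul_invariant _ (hR₀mem i)]⟩
      | zero => exact fun c => ⟨0, zero_mem _, by rw [map_zero, mul_zero, map_zero]⟩
      | add u v _ _ hu hv =>
        intro c
        obtain ⟨i, hi, e⟩ := hu c
        obtain ⟨i', hi', e'⟩ := hv c
        exact ⟨i + i', add_mem hi hi', by rw [mul_add, map_add, map_add, e, e']⟩
      | smul a u _ hu =>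
        intro c
        rw [smul_eq_mul, ← mul_assoc]
        exact hu _
    obtain ⟨i, hi, e⟩ := hI _ hF 1
    rw [one_mul, ComodLib.rey_mul_invariant _ (hR₀mem f), map_sub,
      ComodLib.rey_of_fixed hα1 ((GLin.invariants k A R).one_mem : (1 : R) ∈ HopfRep.fixedPts k A R), ← hr₀,
      ← map_one (algebraMap R₀ R), ← map_sub, ← map_mul] at e
    exact hR₀i e ▸ hi
  -- unramified downstairs
  haveI hunr : Algebra.IsUnramifiedAt S₀ q := by
    letI := Localization.AtPrime.algebraOfLiesOver p q
    refine (Algebra.isUnramifiedAt_iff_map_eq S₀ p q).mpr ⟨⟨fun z => ?_⟩, le_antisymm ?_ ?_⟩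
    · haveI : q.IsMaximal := by
        have hs : Function.Surjective (x.comp (IsScalarTower.toAlgHom k R₀ R)) := fun c =>
          ⟨algebraMap k R₀ c, by simp⟩
        have e : q = RingHom.ker (x.comp (IsScalarTower.toAlgHom k R₀ R)) := Ideal.ext fun f => hqx f
        rw [e]
        exact RingHom.ker_isMaximal_of_surjective _ hs
      obtain ⟨r, rfl⟩ := q.algebraMap_residueField_surjective z
      have hr : r - algebraMap k R₀ (x (algebraMap R₀ R r)) ∈ q := by
        rw [hqx, map_sub, map_sub, ← IsScalarTower.algebraMap_apply, AlgHom.commutes, Algebra.algebraMap_self_apply,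
          sub_self]
      rw [← Ideal.algebraMap_residueField_eq_zero, map_sub, sub_eq_zero] at hr
      rw [hr, IsScalarTower.algebraMap_apply k S₀ R₀, ← IsScalarTower.algebraMap_apply S₀ R₀ q.ResidueField,
        IsScalarTower.algebraMap_apply S₀ p.ResidueField q.ResidueField]
      exact isSeparable_algebraMap _
    · rw [Ideal.map_le_iff_le_comap]
      intro s hs
      rw [Ideal.mem_comap, IsScalarTower.algebraMap_apply S₀ R₀ (Localization.AtPrime q),
        IsLocalization.AtPrime.to_map_mem_maximal_iff _ q]
      exact hs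
    · rw [← Localization.AtPrime.map_eq_maximalIdeal, Ideal.map_le_iff_le_comap]
      intro f hf
      obtain ⟨r, hr, hrf⟩ := key f hf
      rw [Ideal.mem_comap, IsScalarTower.algebraMap_eq S₀ R₀ (Localization.AtPrime q), ← Ideal.map_map,
        IsLocalization.algebraMap_mem_map_algebraMap_iff q.primeCompl]
      exact ⟨1 - r, fun h => Ideal.IsPrime.ne_top (I := q) inferInstance ((Ideal.eq_top_iff_one _).mpr (by
        simpa using q.add_mem h hr)), hrf⟩
  have hAnb : CAlg2.IsGeomUnibranch (Localization.AtPrime p) := by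
    haveI : IsDomain (Localization.AtPrime p) := IsLocalization.isDomain_of_atPrime (Localization.AtPrime p) p
    haveI : IsIntegrallyClosed (Localization.AtPrime p) :=
      isIntegrallyClosed_of_isLocalization _ p.primeCompl p.primeCompl_le_nonZeroDivisors
    exact S9812.result (Localization.AtPrime p)
  have hloc : Function.Injective (Localization.localRingHom p q (algebraMap S₀ R₀) (q.over_def p)) := by
    rw [injective_iff_map_eq_zero]
    intro z hz
    obtain ⟨a₁, b₁, rfl⟩ := IsLocalization.exists_mk'_eq p.primeCompl z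
    rw [Localization.localRingHom_mk', IsLocalization.mk'_eq_zero_iff] at hz
    obtain ⟨⟨c, hc⟩, hca⟩ := hz
    have hc0 : c ≠ 0 := fun h => hc (h ▸ q.zero_mem)
    have ha1 : a₁ = 0 := (map_eq_zero_iff _ hS₀R₀).mp ((mul_eq_zero.mp hca).resolve_left hc0)
    rw [ha1, IsLocalization.mk'_zero]
  obtain ⟨g, hg, hgE⟩ := S2136.result q p hAnb hloc
  haveI : Algebra.FinitePresentation S₀ (Localization.Away g) := inferInstance
  haveI : Algebra.FormallyEtale S₀ (Localization.Away g) := inferInstance
  exact Algebra.basicOpen_subset_etaleLocus_iff.mpr inferInstance (show (⟨q, inferInstance⟩ : PrimeSpectrum R₀) ∈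
    (PrimeSpectrum.basicOpen g : Set (PrimeSpectrum R₀)) from hg)

end Groth.Agent.S19405
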