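import Groth.Statements.S19406
import Mathlib.RingTheory.HopfAlgebra.GroupLike
import Groth.Agent.ComodLib.StableOrbit
import Groth.Agent.ComodLib.Reductive
import Mathlib.FieldTheory.IntermediateField.Adjoin.Basic
-- import your own Groth.Agent.* helpers here

set_option autoImplicit false
universe u
open TensorProduct
open GLin

namespace Groth.Agent.S19406

open TensorProduct Groth.Agent.ComodLib
open GLin (orbitHom actPt)

set_option linter.style.haveILetI false

/-- The right translation by a point, as an algebra endomorphism. -/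
noncomputable def rtr {k : Type u} [Field k] {A : Type u} [CommRing A] [HopfAlgebra k A] (h : A →ₐ[k] k) : A →ₐ[k] A :=
  (Algebra.TensorProduct.rid k k A).toAlgHom.comp
    ((Algebra.TensorProduct.map (AlgHom.id k A) h).comp (Bialgebra.comulAlgHom k A))

theorem rtr_eq_actF {k : Type u} [Field k] {A : Type u} [CommRing A] [HopfAlgebra k A] (h : A →ₐ[k] k) (a : A) :
    rtr h a = slice h.toLinearMap (Coalgebra.comul (R := k) a) := by
  show Algebra.TensorProduct.rid k k A (Algebra.TensorProduct.map (AlgHom.id k A) h (Coalgebra.comul (R := k) a)) = _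
  induction Coalgebra.comul (R := k) a using TensorProduct.induction_on with
  | zero => simp
  | tmul p q => simp
  | add p q hp hq => simp only [map_add, hp, hq]

/-- A group-like element congruent to `1` modulo the stabilizer ideal lies in the fraction field of the range of
the orbit morphism. -/
theorem exists_div (k : Type u) [Field k] (A : Type u) [CommRing A] [IsDomain A] [HopfAlgebra k A]
    {R : Type u} [CommRing R] [Algebra k R] [HopfRep.Comod k A R] [GLin.IsCoactAlg k A R]
    (x : R →ₐ[k] k) {χ : A} (hχ : IsGroupLikeElem k χ) (hs : χ - 1 ∈ GLin.stabIdeal k A x) :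
    ∃ y : R, orbitHom k A x y ≠ 0 ∧ orbitHom k A x y * χ ∈ (orbitHom k A x).range := by
  let F := FractionRing A
  let ι : A →ₐ[k] F := IsScalarTower.toAlgHom k A F
  have hι : Function.Injective ι := IsFractionRing.injective A F
  set φ := orbitHom k A x with hφ
  let L : IntermediateField k F := IntermediateField.adjoin k (((ι.comp φ).range : Subalgebra k F) : Set F)
  let l : A →ₐ[k] F ⊗[L] F := (Algebra.TensorProduct.includeLeft : F →ₐ[k] F ⊗[L] F).comp ι
  let r : A →ₐ[k] F ⊗[L] F :=
    ((Algebra.TensorProduct.includeRight : F →ₐ[L] F ⊗[L] F).restrictScalars k).comp ι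
  let m : A ⊗[k] A →ₐ[k] F ⊗[L] F := Algebra.TensorProduct.lift l r fun _ _ => .all _ _
  let ψ : A →ₐ[k] F ⊗[L] F :=
    (m.comp (Algebra.TensorProduct.map (HopfAlgebra.antipodeAlgHom k A) (AlgHom.id k A))).comp
      (((Algebra.TensorProduct.comm k A A).toAlgHom).comp (Bialgebra.comulAlgHom k A))
  have hlr : ∀ y, r (φ y) = l (φ y) := fun y => by
    have hy : ι (φ y) ∈ L := IntermediateField.subset_adjoin k _ ⟨y, rfl⟩
    show (1 : F) ⊗ₜ[L] ι (φ y) = ι (φ y) ⊗ₜ[L] (1 : F)
    rw [show ι (φ y) = (⟨ι (φ y), hy⟩ : L) • (1 : F) from (mul_one (ι (φ y))).symm, TensorProduct.tmul_smul,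
      TensorProduct.smul_tmul']
  have hψφ : ∀ y, ψ (φ y) = l (algebraMap k A (x y)) := fun y => by
    have hc : Coalgebra.comul (R := k) (φ y) =
        φ.toLinearMap.rTensor A (HopfRep.Comod.coact (k := k) (A := A) y) :=
      LinearMap.congr_fun (isComodHom_orbitHom (A := A) x) y
    rw [← counit_orbitHom (A := A) x y, ← hφ, ← HopfAlgebra.mul_antipode_lTensor_comul_apply (R := k) (φ y)]
    show m (Algebra.TensorProduct.map (HopfAlgebra.antipodeAlgHom k A) (AlgHom.id k A)
      (Algebra.TensorProduct.comm k A A (Coalgebra.comul (R := k) (φ y)))) = _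
    rw [hc]
    induction HopfRep.Comod.coact (k := k) (A := A) y using TensorProduct.induction_on with
    | zero => simp
    | add p q hp hq => simp only [map_add, hp, hq]
    | tmul p q =>
      simp only [LinearMap.rTensor_tmul, AlgHom.toLinearMap_apply, Algebra.TensorProduct.comm_tmul,
        Algebra.TensorProduct.map_tmul, LinearMap.lTensor_tmul, LinearMap.mul'_apply, AlgHom.id_apply, m,
        Algebra.TensorProduct.lift_tmul, HopfAlgebra.antipodeAlgHom_apply]
      rw [hlr, mul_comm, map_mul]
  have hker : GLin.stabIdeal k A x ≤ RingHom.ker ψ := Ideal.map_le_iff_le_comap.mpr fun y hy => by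
    rw [Ideal.mem_comap, RingHom.mem_ker, ← hφ, hψφ, RingHom.mem_ker.mp hy, map_zero, map_zero]
  have h1 : ψ χ = 1 := sub_eq_zero.mp (by simpa using hker hs)
  have h2 : l (HopfAlgebra.antipode k χ) * r χ = 1 := by
    rw [← h1]
    show _ = m (Algebra.TensorProduct.map (HopfAlgebra.antipodeAlgHom k A) (AlgHom.id k A)
      (Algebra.TensorProduct.comm k A A (Coalgebra.comul (R := k) χ)))
    rw [hχ.comul_eq_tmul_self]
    simp [m]
  have h3 : r χ = l χ := by
    calc r χ = l χ * (l (HopfAlgebra.antipode k χ) * r χ) := by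
          rw [← mul_assoc, ← map_mul, hχ.mul_antipode_cancel, map_one, one_mul]
      _ = l χ := by rw [h2, mul_one]
  have hmem : ι χ ∈ L := by
    by_contra hn
    have h4 : ι χ ∉ Submodule.span L {(1 : F)} := fun h => by
      obtain ⟨c, hc⟩ := Submodule.mem_span_singleton.mp h
      exact hn (by rw [← hc]; exact (show (c : F) * 1 ∈ L by rw [mul_one]; exact c.2))
    obtain ⟨f, hf, hf1⟩ := Submodule.exists_dual_map_eq_bot_of_notMem h4 inferInstance
    have hf0 : f 1 = 0 := LinearMap.mem_ker.mp <| LinearMap.le_ker_iff_map.mpr hf1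
      (Submodule.mem_span_singleton_self _)
    have h5 := congrArg (fun z => TensorProduct.lid L F (f.rTensor F z)) h3
    simp only [l, r, AlgHom.comp_apply, AlgHom.restrictScalars_apply, Algebra.TensorProduct.includeRight_apply,
      Algebra.TensorProduct.includeLeft_apply, LinearMap.rTensor_tmul, TensorProduct.lid_tmul, hf0, zero_smul] at h5
    have : (f (ι χ) : F) = 0 := by simpa [Algebra.smul_def] using h5.symm
    exact hf (Subtype.ext this)
  obtain ⟨a, ha, b, hb, hab⟩ := (IntermediateField.mem_adjoin_iff_div (F := k)).mp hmem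
  rw [Algebra.adjoin_eq] at ha hb
  obtain ⟨ya, rfl⟩ := ha
  obtain ⟨yb, rfl⟩ := hb
  have hb0 : (ι.comp φ) yb ≠ 0 := fun h0 => by
    have h6 : (ι.comp φ).toRingHom yb = 0 := h0
    rw [h6, div_zero] at hab
    exact hχ.isUnit.ne_zero (hι (hab.trans (map_zero ι).symm))
  refine ⟨yb, fun h0 => hb0 (by rw [AlgHom.comp_apply, h0, map_zero]), ⟨ya, hι ?_⟩⟩
  rw [map_mul]
  refine ((div_eq_iff hb0).mp hab.symm).trans ?_
  exact mul_comm _ _

theorem exists_semiinv (k : Type u) [Field k] [IsAlgClosed k] (A : Type u) [CommRing A] [IsDomain A]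
    [HopfAlgebra k A] [Algebra.FiniteType k A] (hG : HopfRep.IsLinearlyReductive k A)
    (R : Type u) [CommRing R] [Algebra k R] [Algebra.FiniteType k R] [HopfRep.Comod k A R] [GLin.IsCoactAlg k A R]
    {x : R →ₐ[k] k} (hx : GLin.IsClosedOrbit k A x)
    {χ : A} (hχ : IsGroupLikeElem k χ) (hs : χ - 1 ∈ GLin.stabIdeal k A x) :
    ∃ F : R, HopfRep.Comod.coact (k := k) (A := A) F = F ⊗ₜ[k] χ ∧ x F ≠ 0 := by
  classical
  obtain ⟨y₀, hy₀, hy₀m⟩ := exists_div k A x hχ hs
  set φ := orbitHom k A x with hφ
  let J : Ideal R :=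
    { carrier := {y | φ y * χ ∈ φ.range}
      add_mem' := fun {a b} ha hb => by
        show φ (a + b) * χ ∈ φ.range
        rw [map_add, add_mul]; exact add_mem ha hb
      zero_mem' := by
        show φ 0 * χ ∈ φ.range
        rw [map_zero, zero_mul]; exact zero_mem _
      smul_mem' := fun c a ha => by
        show φ (c * a) * χ ∈ φ.range
        rw [map_mul, mul_assoc]; exact mul_mem ⟨c, rfl⟩ ha }
  have hact : ∀ (h : A →ₐ[k] k) (y : R), φ (HopfRep.Comod.act k A R h y) = rtr h (φ y) := fun h y => by
    rw [rtr_eq_actF]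
    exact comodHom_actF (isComodHom_orbitHom (A := A) x) h.toLinearMap y
  have hJ : J = ⊤ := by
    by_contra hne
    obtain ⟨z, hz⟩ := exists_point (k := k) J hne
    obtain ⟨g, hg⟩ := mem_orbit_of_isClosedOrbit hx (z := z) fun f hf => hz (by
      show φ f * χ ∈ φ.range
      rw [RingHom.mem_ker.mp hf, zero_mul]; exact zero_mem _)
    refine hy₀ ?_
    suffices h : ∀ p : A →ₐ[k] k, z (HopfRep.Comod.act k A R p y₀) = 0 by
      have h' := (forall_act_eq_zero_iff z y₀).mp h
      have : orbitHom k A z y₀ = 0 := h'.eq_zero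
      rwa [← RingHom.mem_ker, hg, ker_orbitHom_actPt, RingHom.mem_ker] at this
    intro p
    refine RingHom.mem_ker.mp (hz ?_)
    show φ (HopfRep.Comod.act k A R p y₀) * χ ∈ φ.range
    obtain ⟨w, hw⟩ := hy₀m
    have hχp : rtr p χ = p χ • χ := by
      rw [rtr_eq_actF, hχ.comul_eq_tmul_self, slice_tmul]; rfl
    have hp : p χ ≠ 0 := (hχ.isUnit.map p).ne_zero
    have h1 : φ (HopfRep.Comod.act k A R p w) = p χ • (φ (HopfRep.Comod.act k A R p y₀) * χ) := by
      rw [hact, hact, show φ w = φ y₀ * χ from hw, map_mul, hχp, mul_smul_comm]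
    exact ⟨(p χ)⁻¹ • HopfRep.Comod.act k A R p w, by
      show φ ((p χ)⁻¹ • HopfRep.Comod.act k A R p w) = _
      rw [map_smul, h1, inv_smul_smul₀ hp]⟩
  obtain ⟨F₀, hF₀⟩ : φ 1 * χ ∈ φ.range := hJ.ge (Submodule.mem_top (x := (1 : R)))
  rw [map_one, one_mul] at hF₀
  obtain ⟨W, hW, hWc⟩ := isSemisimpleComod_of_isLinearlyReductive hG (V := R) _ (isSubcomod_ker_orbitHom (A := A) x)
  obtain ⟨u, hu, F, hF, hsum⟩ := Submodule.mem_sup.mp (hWc.sup_eq_top.ge (Submodule.mem_top (x := F₀)))
  have hφF : φ F = χ := by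
    rw [← hF₀, ← hsum]
    show φ F = φ (u + F)
    rw [map_add, RingHom.mem_ker.mp hu, zero_add]
  refine ⟨F, ext_of_forall_slice_eq fun ψ => ?_, ?_⟩
  · rw [slice_tmul]
    show actF ψ F = _
    refine sub_eq_zero.mp (Submodule.disjoint_def.mp hWc.disjoint _ ?_
      (sub_mem (subcomod_actF_mem hW ψ hF) (Submodule.smul_mem _ _ hF)))
    show φ (actF ψ F - ψ χ • F) = 0
    have h1 : φ (actF ψ F) = actF ψ (φ F) := comodHom_actF (isComodHom_orbitHom (A := A) x) ψ F
    have h2 : actF ψ χ = slice ψ (Coalgebra.comul (R := k) χ) := rfl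
    rw [map_sub, map_smul, h1, hφF, h2, hχ.comul_eq_tmul_self, slice_tmul, sub_self]
  · rw [← counit_orbitHom (A := A) x F, ← hφ, hφF, hχ.counit_eq_one]
    exact one_ne_zero

/-- Let k be an algebraically closed field of characteristic zero, A a finitely generated commutative
Hopf algebra over k which is an integral domain and all of whose finite-dimensional comodules are
semisimple (a connected reductive group G), R a reduced finitely generated commutative k-algebra
with a multiplicative A-coaction (G acting on the affine variety X = Spec R), and χ a group-like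
element of A (a character of G). Then there is a set E of G-invariant functions on X such that, for
every k-point x of X whose orbit is closed, χ − 1 lies in the stabilizer ideal of x (χ is trivial on
the stabilizer of x) if and only if some member of E does not vanish at x: the set of points of X//G
over which the closed orbit has stabilizer on which χ is trivial is open. (The published statement
allows any reductive G; this row assumes G connected, the case the source's argument covers.) -/
theorem result (k : Type u) [Field k] [IsAlgClosed k] [CharZero k]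
    (A : Type u) [CommRing A] [IsDomain A] [HopfAlgebra k A] [Algebra.FiniteType k A] (hG : HopfRep.IsLinearlyReductive k A)
    (R : Type u) [CommRing R] [IsReduced R] [Algebra k R] [Algebra.FiniteType k R] [HopfRep.Comod k A R] [GLin.IsCoactAlg k A R]
    (χ : A) (hχ : IsGroupLikeElem k χ) :
    ∃ E : Set R, E ⊆ GLin.invariants k A R ∧
      ∀ x : R →ₐ[k] k, GLin.IsClosedOrbit k A x →
        (χ - 1 ∈ GLin.stabIdeal k A x ↔ ∃ f ∈ E, x f ≠ 0) := by
  classical
  refine ⟨{f | ∃ F F' : R, f = F * F' ∧ HopfRep.Comod.coact (k := k) (A := A) F = F ⊗ₜ[k] χ ∧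
    HopfRep.Comod.coact (k := k) (A := A) F' = F' ⊗ₜ[k] HopfAlgebra.antipode k χ}, ?_, fun x hx => ?_⟩
  · rintro f ⟨F, F', rfl, hF, hF'⟩
    show _ = _
    rw [GLin.IsCoactAlg.coact_mul, hF, hF', Algebra.TensorProduct.tmul_mul_tmul, hχ.mul_antipode_cancel]
  constructor
  · intro hs
    have hu := hχ.mul_antipode_cancel
    have hs' : HopfAlgebra.antipode k χ - 1 ∈ GLin.stabIdeal k A x := by
      have h := (GLin.stabIdeal k A x).mul_mem_left (- HopfAlgebra.antipode k χ) hs
      rwa [show -HopfAlgebra.antipode k χ * (χ - 1) = HopfAlgebra.antipode k χ - χ * HopfAlgebra.antipode k χ by ring,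
        hu] at h
    obtain ⟨F, hF, hxF⟩ := exists_semiinv k A hG R hx hχ hs
    obtain ⟨F', hF', hxF'⟩ := exists_semiinv k A hG R hx hχ.antipode hs'
    refine ⟨F * F', ⟨F, F', rfl, hF, hF'⟩, ?_⟩
    rw [map_mul]
    exact mul_ne_zero hxF hxF'
  · rintro ⟨f, ⟨F, F', rfl, hF, -⟩, hne⟩
    rw [map_mul] at hne
    have hxF : x F ≠ 0 := left_ne_zero_of_mul hne
    have h1 : GLin.orbitHom k A x (F - algebraMap k R (x F)) ∈ GLin.stabIdeal k A x :=
      Ideal.mem_map_of_mem _ (by simp [RingHom.mem_ker])
    have h2 : GLin.orbitHom k A x F = x F • χ := by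
      rw [orbitHom_apply, hF]; simp
    rw [map_sub, AlgHom.commutes, h2, Algebra.algebraMap_eq_smul_one, ← smul_sub] at h1
    exact (Submodule.smul_mem_iff ((GLin.stabIdeal k A x).restrictScalars k) hxF).mp h1

end Groth.Agent.S19406
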