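import Groth.Statements.S19407
-- import your own Groth.Agent.* helpers here
import Groth.Agent.GLinEt.Main
import Groth.Agent.ComodLib.Integral

set_option autoImplicit false
universe u
open TensorProduct
open GLin

namespace Groth.Agent.S19407

/-- With explicit neighbourhoods: let k be an algebraically closed field of characteristic zero, A a
finitely generated commutative Hopf algebra over k which is an integral domain and all of whose
finite-dimensional comodules are semisimple (a connected reductive group G), S and R reduced
finitely generated commutative k-algebras with multiplicative A-coactions (G acting on the affine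
varieties Y = Spec S and X = Spec R), S → R an algebra map compatible with the coactions (a
G-morphism θ : X → Y), S₀ → S and R₀ → R injective k-algebra maps whose images are exactly the
subrings of invariants, and S₀ → R₀ an algebra map with S₀ → R₀ → R equal to S₀ → S → R (the
morphism θ/G : X//G → Y//G). Let x be a k-point of X with kernel m such that the local ring of R at
m is an integrally closed domain (X normal at x), R is étale over S at m (θ étale at x), the orbit
of the image point θ(x) is closed, and every k-point of G fixing θ(x) fixes x (θ injective on the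
orbit of x). Then there are f ∈ R₀ and g ∈ S₀ with f and g non-vanishing at x such that, writing h
for the image of f·g in R (so that U = X_h is a saturated affine open neighbourhood of x and V = Y_g
a saturated affine open of Y): every prime of S not containing g is the contraction of a prime of R
not containing h (θ maps U onto V); R is étale over S at every prime not containing h; every k-point
of U with closed orbit maps to a point with closed orbit; R₀ is étale over S₀ at every prime not
containing f·g (θ/G étale on U//G); and the canonical map S ⊗_{S₀} R₀ → R has every element of its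
kernel killed by a power of f·g and every element of R multiplied into its image by a power of h (it
becomes an isomorphism over U//G, i.e. U ≅ V ×_{V//G} U//G): the restriction of θ to U is a strongly
étale G-morphism onto V. (The published statement allows any reductive G; the argument in the source
is complete for connected G, assumed here.) -/
theorem result (k : Type u) [Field k] [IsAlgClosed k] [CharZero k]
    (A : Type u) [CommRing A] [IsDomain A] [HopfAlgebra k A] [Algebra.FiniteType k A] (hG : HopfRep.IsLinearlyReductive k A)
    (S : Type u) [CommRing S] [IsReduced S] [Algebra k S] [Algebra.FiniteType k S] [HopfRep.Comod k A S] [GLin.IsCoactAlg k A S]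
    (R : Type u) [CommRing R] [IsReduced R] [Algebra k R] [Algebra.FiniteType k R] [HopfRep.Comod k A R] [GLin.IsCoactAlg k A R]
    [Algebra S R] [IsScalarTower k S R]
    (hequiv : (∀ s : S, HopfRep.Comod.coact (k := k) (A := A) (algebraMap S R s) =
      Algebra.TensorProduct.map (IsScalarTower.toAlgHom k S R) (AlgHom.id k A) (HopfRep.Comod.coact (k := k) (A := A) s)))
    (S₀ : Type u) [CommRing S₀] [Algebra k S₀] [Algebra S₀ S] [IsScalarTower k S₀ S]
    (hS₀i : Function.Injective (algebraMap S₀ S)) (hS₀ : (IsScalarTower.toAlgHom k S₀ S).range = GLin.invariants k A S)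
    (R₀ : Type u) [CommRing R₀] [Algebra k R₀] [Algebra R₀ R] [IsScalarTower k R₀ R]
    (hR₀i : Function.Injective (algebraMap R₀ R)) (hR₀ : (IsScalarTower.toAlgHom k R₀ R).range = GLin.invariants k A R)
    [Algebra S₀ R₀] [Algebra S₀ R] [IsScalarTower S₀ S R] [IsScalarTower S₀ R₀ R]
    (x : R →ₐ[k] k) (m : Ideal R) [m.IsMaximal] (hm : m = RingHom.ker x.toRingHom)
    [IsDomain (Localization.AtPrime m)] [IsIntegrallyClosed (Localization.AtPrime m)]
    (het : Algebra.IsEtaleAt S m)
    (hy : GLin.IsClosedOrbit k A (x.comp (IsScalarTower.toAlgHom k S R)))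
    (hinj : ∀ g : A →ₐ[k] k, GLin.actPt k g (x.comp (IsScalarTower.toAlgHom k S R)) = x.comp (IsScalarTower.toAlgHom k S R) →
      GLin.actPt k g x = x) :
    ∃ (f : R₀) (g : S₀), x (algebraMap R₀ R (f * algebraMap S₀ R₀ g)) ≠ 0 ∧
      (∀ P : Ideal S, P.IsPrime → algebraMap S₀ S g ∉ P →
        ∃ Q : Ideal R, Q.IsPrime ∧ algebraMap R₀ R (f * algebraMap S₀ R₀ g) ∉ Q ∧ Q.comap (algebraMap S R) = P) ∧
      (∀ (Q : Ideal R) [Q.IsPrime], algebraMap R₀ R (f * algebraMap S₀ R₀ g) ∉ Q → Algebra.IsEtaleAt S Q) ∧
      (∀ x' : R →ₐ[k] k, x' (algebraMap R₀ R (f * algebraMap S₀ R₀ g)) ≠ 0 → GLin.IsClosedOrbit k A x' →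
        GLin.IsClosedOrbit k A (x'.comp (IsScalarTower.toAlgHom k S R))) ∧
      (∀ (q : Ideal R₀) [q.IsPrime], f * algebraMap S₀ R₀ g ∉ q → Algebra.IsEtaleAt S₀ q) ∧
      (∀ z : S ⊗[S₀] R₀, Algebra.TensorProduct.productMap (IsScalarTower.toAlgHom S₀ S R) (IsScalarTower.toAlgHom S₀ R₀ R) z = 0 →
        ∃ n : ℕ, ((1 : S) ⊗ₜ[S₀] (f * algebraMap S₀ R₀ g)) ^ n * z = 0) ∧
      (∀ r : R, ∃ (n : ℕ) (z : S ⊗[S₀] R₀),
        Algebra.TensorProduct.productMap (IsScalarTower.toAlgHom S₀ S R) (IsScalarTower.toAlgHom S₀ R₀ R) z =
          algebraMap R₀ R (f * algebraMap S₀ R₀ g) ^ n * r) := by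
  obtain ⟨α, hα, hα1⟩ := ComodLib.exists_integral_of_isLinearlyReductive hG
  have hφ : Hoch.IsComodHom A (IsScalarTower.toAlgHom k S R).toLinearMap := LinearMap.ext fun s => hequiv s
  exact GLinEt.exists_stronglyEtale_nhd hα hα1 hφ hS₀i hS₀ hR₀i hR₀ x m hm het hy hinj

end Groth.Agent.S19407
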