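import Groth.Agent.ComodLib.Invariants
import Mathlib.RingTheory.Etale.Basic
import Groth.Statements.S19408
-- import your own Groth.Agent.* helpers here

set_option autoImplicit false
universe u
open TensorProduct
open GLin

namespace Groth.Agent.S19408

open TensorProduct Groth.Agent.ComodLib in
theorem main (k : Type u) [Field k]
    (A : Type u) [CommRing A] [HopfAlgebra k A]
    (S : Type u) [CommRing S] [Algebra k S] [HopfRep.Comod k A S] [GLin.IsCoactAlg k A S]
    (R : Type u) [CommRing R] [Algebra k R] [HopfRep.Comod k A R] [GLin.IsCoactAlg k A R]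
    [Algebra S R] [IsScalarTower k S R]
    (hequiv : (∀ s : S, HopfRep.Comod.coact (k := k) (A := A) (algebraMap S R s) =
      Algebra.TensorProduct.map (IsScalarTower.toAlgHom k S R) (AlgHom.id k A) (HopfRep.Comod.coact (k := k) (A := A) s)))
    (S₀ : Type u) [CommRing S₀] [Algebra k S₀] [Algebra S₀ S] [IsScalarTower k S₀ S]
    (hS₀ : (IsScalarTower.toAlgHom k S₀ S).range = GLin.invariants k A S)
    (R₀ : Type u) [CommRing R₀] [Algebra k R₀] [Algebra R₀ R] [IsScalarTower k R₀ R]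
    (hR₀ : (IsScalarTower.toAlgHom k R₀ R).range = GLin.invariants k A R)
    [Algebra S₀ R₀] [Algebra S₀ R] [IsScalarTower S₀ S R] [IsScalarTower S₀ R₀ R]
    (het₀ : Algebra.Etale S₀ R₀)
    (hcart : Function.Bijective (Algebra.TensorProduct.productMap (IsScalarTower.toAlgHom S₀ S R) (IsScalarTower.toAlgHom S₀ R₀ R)))
    (J : Ideal S)
    [HopfRep.Comod k A (S ⧸ J)] [GLin.IsCoactAlg k A (S ⧸ J)]
    (hqS : (∀ s : S, HopfRep.Comod.coact (k := k) (A := A) ((Ideal.Quotient.mkₐ k J) s) =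
        Algebra.TensorProduct.map (Ideal.Quotient.mkₐ k J) (AlgHom.id k A) (HopfRep.Comod.coact (k := k) (A := A) s)))
    [HopfRep.Comod k A (R ⧸ J.map (algebraMap S R))] [GLin.IsCoactAlg k A (R ⧸ J.map (algebraMap S R))]
    (hqR : (∀ s : R, HopfRep.Comod.coact (k := k) (A := A) ((Ideal.Quotient.mkₐ k (J.map (algebraMap S R))) s) =
        Algebra.TensorProduct.map (Ideal.Quotient.mkₐ k (J.map (algebraMap S R))) (AlgHom.id k A) (HopfRep.Comod.coact (k := k) (A := A) s)))
    (S₁ : Type u) [CommRing S₁] [Algebra k S₁] [Algebra S₁ (S ⧸ J)] [IsScalarTower k S₁ (S ⧸ J)]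
    (hS₁i : Function.Injective (algebraMap S₁ (S ⧸ J)))
    (hS₁ : (IsScalarTower.toAlgHom k S₁ (S ⧸ J)).range = GLin.invariants k A (S ⧸ J))
    (R₁ : Type u) [CommRing R₁] [Algebra k R₁] [Algebra R₁ (R ⧸ J.map (algebraMap S R))] [IsScalarTower k R₁ (R ⧸ J.map (algebraMap S R))]
    (hR₁i : Function.Injective (algebraMap R₁ (R ⧸ J.map (algebraMap S R))))
    (hR₁ : (IsScalarTower.toAlgHom k R₁ (R ⧸ J.map (algebraMap S R))).range = GLin.invariants k A (R ⧸ J.map (algebraMap S R)))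
    [Algebra S₁ R₁] [Algebra S₁ (R ⧸ J.map (algebraMap S R))]
    [IsScalarTower S₁ (S ⧸ J) (R ⧸ J.map (algebraMap S R))] [IsScalarTower S₁ R₁ (R ⧸ J.map (algebraMap S R))]
    {α : A →ₗ[k] k} (hα : IsIntegral k α) (h1 : α 1 = 1) :
    Algebra.Etale (S ⧸ J) (R ⧸ J.map (algebraMap S R)) ∧ Algebra.Etale S₁ R₁ ∧
      Function.Bijective (Algebra.TensorProduct.productMap
        (IsScalarTower.toAlgHom S₁ (S ⧸ J) (R ⧸ J.map (algebraMap S R)))
        (IsScalarTower.toAlgHom S₁ R₁ (R ⧸ J.map (algebraMap S R)))) := by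
  classical
  have hQT : ∀ s : S, algebraMap (S ⧸ J) (R ⧸ (J.map (algebraMap S R))) (Ideal.Quotient.mk J s) = Ideal.Quotient.mk (J.map (algebraMap S R)) (algebraMap S R s) :=
    fun s => rfl
  have hmS : Hoch.IsComodHom A (Ideal.Quotient.mkₐ k J).toLinearMap := LinearMap.ext fun s => hqS s
  have hmR : Hoch.IsComodHom A (Ideal.Quotient.mkₐ k (J.map (algebraMap S R))).toLinearMap := LinearMap.ext fun s => hqR s
  have hSR : Hoch.IsComodHom A (IsScalarTower.toAlgHom k S R).toLinearMap := LinearMap.ext fun s => hequiv s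
  have h1S : ∀ q : S₁, algebraMap S₁ (S ⧸ J) q ∈ GLin.invariants k A (S ⧸ J) := fun q => hS₁ ▸ ⟨q, rfl⟩
  have h0S : ∀ a : S₀, algebraMap S₀ S a ∈ GLin.invariants k A S := fun a => hS₀ ▸ ⟨a, rfl⟩
  have h0R : ∀ a : R₀, algebraMap R₀ R a ∈ GLin.invariants k A R := fun a => hR₀ ▸ ⟨a, rfl⟩
  have exS : ∀ q ∈ GLin.invariants k A (S ⧸ J), ∃ a : S₁, algebraMap S₁ (S ⧸ J) a = q := fun q hq => by
    rw [← hS₁] at hq; exact hq
  have exR : ∀ q ∈ GLin.invariants k A (R ⧸ (J.map (algebraMap S R))), ∃ a : R₁, algebraMap R₁ (R ⧸ (J.map (algebraMap S R))) a = q := fun q hq => by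
    rw [← hR₁] at hq; exact hq
  choose φf hφ using fun a : S₀ => exS _ (map_mem_fixedPts hmS (h0S a))
  choose ψf hψ using fun a : R₀ => exR _ (map_mem_fixedPts hmR (h0R a))
  let φ : S₀ →+* S₁ :=
    { toFun := φf
      map_one' := hS₁i (by rw [hφ]; simp)
      map_mul' := fun a b => hS₁i (by rw [map_mul, hφ, hφ, hφ]; simp)
      map_zero' := hS₁i (by rw [hφ]; simp)
      map_add' := fun a b => hS₁i (by rw [map_add, hφ, hφ, hφ]; simp) }
  have hφ' : ∀ a, algebraMap S₁ (S ⧸ J) (φ a) = Ideal.Quotient.mk J (algebraMap S₀ S a) := hφ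
  let ψ : R₀ →+* R₁ :=
    { toFun := ψf
      map_one' := hR₁i (by rw [hψ]; simp)
      map_mul' := fun a b => hR₁i (by rw [map_mul, hψ, hψ, hψ]; simp)
      map_zero' := hR₁i (by rw [hψ]; simp)
      map_add' := fun a b => hR₁i (by rw [map_add, hψ, hψ, hψ]; simp) }
  have hψ' : ∀ a, algebraMap R₁ (R ⧸ (J.map (algebraMap S R))) (ψ a) = Ideal.Quotient.mk (J.map (algebraMap S R)) (algebraMap R₀ R a) := hψ
  letI : Algebra S₀ S₁ := φ.toAlgebra
  letI : Algebra S₀ R₁ := ((algebraMap S₁ R₁).comp φ).toAlgebra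
  haveI : IsScalarTower S₀ S₁ R₁ := IsScalarTower.of_algebraMap_eq fun a => rfl
  haveI : IsScalarTower S₀ S₁ (S ⧸ J) := IsScalarTower.of_algebraMap_eq fun a => (hφ' a).symm
  have key0 : ∀ a : S₀, algebraMap S₀ (R ⧸ (J.map (algebraMap S R))) a = algebraMap (S ⧸ J) (R ⧸ (J.map (algebraMap S R))) (algebraMap S₀ (S ⧸ J) a) := fun a => by
    show Ideal.Quotient.mk (J.map (algebraMap S R)) (algebraMap S₀ R a) = algebraMap (S ⧸ J) (R ⧸ (J.map (algebraMap S R))) (Ideal.Quotient.mk J (algebraMap S₀ S a))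
    rw [hQT, ← IsScalarTower.algebraMap_apply S₀ S R]
  haveI : IsScalarTower S₀ (S ⧸ J) (R ⧸ (J.map (algebraMap S R))) := IsScalarTower.of_algebraMap_eq key0
  haveI : IsScalarTower S₀ R₁ (R ⧸ (J.map (algebraMap S R))) := IsScalarTower.of_algebraMap_eq fun a => by
    show _ = algebraMap R₁ (R ⧸ (J.map (algebraMap S R))) (algebraMap S₁ R₁ (φ a))
    rw [← IsScalarTower.algebraMap_apply S₁ R₁, IsScalarTower.algebraMap_apply S₁ (S ⧸ J) (R ⧸ (J.map (algebraMap S R))), key0, hφ']
    rfl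
  let ψA : R₀ →ₐ[S₀] R₁ :=
    { ψ with
      commutes' := fun a => hR₁i (by
        show algebraMap R₁ (R ⧸ (J.map (algebraMap S R))) (ψ (algebraMap S₀ R₀ a)) = _
        rw [hψ', ← IsScalarTower.algebraMap_apply S₀ R₀ R, ← IsScalarTower.algebraMap_apply S₀ R₁ (R ⧸ (J.map (algebraMap S R)))]
        rfl) }
  -- the base change to the quotient
  let W : (S ⧸ J) ⊗[S₀] R₀ →ₐ[S ⧸ J] R ⧸ (J.map (algebraMap S R)) := Algebra.TensorProduct.lift (Algebra.ofId (S ⧸ J) (R ⧸ (J.map (algebraMap S R))))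
    ((Ideal.Quotient.mkₐ S₀ (J.map (algebraMap S R))).comp (IsScalarTower.toAlgHom S₀ R₀ R)) fun _ _ => Commute.all _ _
  have hW : ∀ (q : S) (r : R₀), W (Ideal.Quotient.mk J q ⊗ₜ[S₀] r) =
      Ideal.Quotient.mk (J.map (algebraMap S R)) (algebraMap S R q * algebraMap R₀ R r) := fun q r => by
    simp only [W, Algebra.TensorProduct.lift_tmul, map_mul]
    rfl
  let P := Algebra.TensorProduct.productMap (IsScalarTower.toAlgHom S₀ S R) (IsScalarTower.toAlgHom S₀ R₀ R)
  let e := AlgEquiv.ofBijective P hcart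
  let g₀ : R →+* (S ⧸ J) ⊗[S₀] R₀ :=
    (Algebra.TensorProduct.map (Ideal.Quotient.mkₐ S₀ J) (AlgHom.id S₀ R₀)).toRingHom.comp e.symm.toRingEquiv.toRingHom
  have hg : ∀ a ∈ (J.map (algebraMap S R)), g₀ a = 0 := fun a ha => by
    refine (Ideal.map_le_iff_le_comap.2 (fun j hj => ?_) : (J.map (algebraMap S R)) ≤ RingHom.ker g₀) ha
    show Algebra.TensorProduct.map (Ideal.Quotient.mkₐ S₀ J) (AlgHom.id S₀ R₀) (e.symm (algebraMap S R j)) = 0
    rw [show e.symm (algebraMap S R j) = j ⊗ₜ[S₀] (1 : R₀) from e.symm_apply_eq.2 (by simp [e, P]),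
      Algebra.TensorProduct.map_tmul, Ideal.Quotient.mkₐ_eq_mk, Ideal.Quotient.eq_zero_iff_mem.2 hj, zero_tmul]
  have hgW : ∀ z, Ideal.Quotient.lift (J.map (algebraMap S R)) g₀ hg (W z) = z := fun z => by
    induction z using TensorProduct.induction_on with
    | zero => simp
    | add p q hp hq => rw [map_add, map_add, hp, hq]
    | tmul p r =>
      obtain ⟨q, rfl⟩ := Ideal.Quotient.mk_surjective p
      rw [hW, Ideal.Quotient.lift_mk]
      show Algebra.TensorProduct.map (Ideal.Quotient.mkₐ S₀ J) (AlgHom.id S₀ R₀) (e.symm _) = _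
      rw [show e.symm (algebraMap S R q * algebraMap R₀ R r) = q ⊗ₜ[S₀] r from e.symm_apply_eq.2 (by simp [e, P])]
      rfl
  have hWsurj : Function.Surjective W := fun t => by
    obtain ⟨x, rfl⟩ := Ideal.Quotient.mk_surjective t
    obtain ⟨z, rfl⟩ := hcart.2 x
    refine ⟨Algebra.TensorProduct.map (Ideal.Quotient.mkₐ S₀ J) (AlgHom.id S₀ R₀) z, ?_⟩
    induction z using TensorProduct.induction_on with
    | zero => simp
    | add p q hp hq => simp only [map_add, hp, hq]
    | tmul p q => exact (hW p q).trans (by simp)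
  have hWb : Function.Bijective W := ⟨Function.LeftInverse.injective hgW, hWsurj⟩
  -- the retraction onto the invariants
  choose rf hr using fun q : S ⧸ J => exS _ (rey_mem_fixedPts (α := α) hα q)
  let r : (S ⧸ J) →ₗ[S₀] S₁ :=
    { toFun := rf
      map_add' := fun a b => hS₁i (by rw [map_add, hr, hr, hr, map_add])
      map_smul' := fun c a => hS₁i (by
        rw [RingHom.id_apply, Algebra.smul_def c (rf a), map_mul, hr, hr, ← IsScalarTower.algebraMap_apply S₀ S₁,
          Algebra.smul_def, mul_comm, rey_mul_invariant a (show algebraMap S₀ (S ⧸ J) c ∈ GLin.invariants k A (S ⧸ J) from map_mem_fixedPts hmS (h0S c)), mul_comm]) }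
  have hr' : ∀ q, algebraMap S₁ (S ⧸ J) (r q) = rey α q := hr
  -- invariants
  let v : S₁ ⊗[S₀] R₀ →ₐ[S₁] R₁ := Algebra.TensorProduct.lift (Algebra.ofId S₁ R₁) ψA fun _ _ => Commute.all _ _
  let inc : S₁ ⊗[S₀] R₀ →ₐ[S₀] (S ⧸ J) ⊗[S₀] R₀ :=
    Algebra.TensorProduct.map (IsScalarTower.toAlgHom S₀ S₁ (S ⧸ J)) (AlgHom.id S₀ R₀)
  have hvW : ∀ z, algebraMap R₁ (R ⧸ (J.map (algebraMap S R))) (v z) = W (inc z) := fun z => by
    induction z using TensorProduct.induction_on with
    | zero => simp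
    | add p q hp hq => simp only [map_add, hp, hq]
    | tmul p q =>
      show algebraMap R₁ (R ⧸ (J.map (algebraMap S R))) (algebraMap S₁ R₁ p * ψ q) =
        algebraMap (S ⧸ J) (R ⧸ (J.map (algebraMap S R))) (algebraMap S₁ (S ⧸ J) p) * Ideal.Quotient.mk (J.map (algebraMap S R)) (algebraMap R₀ R q)
      rw [map_mul, hψ', ← IsScalarTower.algebraMap_apply S₁ R₁, ← IsScalarTower.algebraMap_apply S₁ (S ⧸ J)]
  have hvinj : Function.Injective v := by
    have hl : ∀ z, (r.rTensor R₀) (inc z) = z := fun z => by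
      induction z using TensorProduct.induction_on with
      | zero => simp
      | add p q hp hq => simp only [map_add, hp, hq]
      | tmul p q =>
        show r (algebraMap S₁ (S ⧸ J) p) ⊗ₜ[S₀] q = _
        rw [show r (algebraMap S₁ (S ⧸ J) p) = p from hS₁i (by rw [hr', rey_of_fixed h1 (h1S p)])]
    intro z z' h
    have h2 : W (inc z) = W (inc z') := by rw [← hvW, ← hvW, h]
    rw [← hl z, ← hl z', hWb.1 h2]
  have hrey : ∀ w, rey α (W w) = algebraMap R₁ (R ⧸ (J.map (algebraMap S R))) (v (r.rTensor R₀ w)) := fun w => by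
    induction w using TensorProduct.induction_on with
    | zero => simp
    | add p q hp hq => simp only [map_add, hp, hq]
    | tmul p q =>
      obtain ⟨s, rfl⟩ := Ideal.Quotient.mk_surjective p
      rw [hvW, LinearMap.rTensor_tmul, hW, map_mul,
        rey_mul_invariant _ (show Ideal.Quotient.mk (J.map (algebraMap S R)) (algebraMap R₀ R q) ∈ GLin.invariants k A (R ⧸ (J.map (algebraMap S R))) from map_mem_fixedPts hmR (h0R q))]
      show _ = algebraMap (S ⧸ J) (R ⧸ (J.map (algebraMap S R))) (algebraMap S₁ (S ⧸ J) (r (Ideal.Quotient.mk J s))) *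
        Ideal.Quotient.mk (J.map (algebraMap S R)) (algebraMap R₀ R q)
      have e1 : Ideal.Quotient.mk J (rey α s) = rey α (Ideal.Quotient.mk J s) := map_rey hmS s
      have e2 : algebraMap S R (rey α s) = rey α (algebraMap S R s) := map_rey hSR s
      have e3 : Ideal.Quotient.mk (J.map (algebraMap S R)) (rey α (algebraMap S R s)) = rey α (Ideal.Quotient.mk (J.map (algebraMap S R)) (algebraMap S R s)) :=
        map_rey hmR _
      rw [hr', ← e1, hQT, e2, e3]
  have hvsurj : Function.Surjective v := fun y => by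
    obtain ⟨w, hw⟩ := hWb.2 (algebraMap R₁ (R ⧸ (J.map (algebraMap S R))) y)
    refine ⟨r.rTensor R₀ w, hR₁i ?_⟩
    rw [← hrey, hw]
    exact rey_of_fixed h1 (show algebraMap R₁ (R ⧸ (J.map (algebraMap S R))) y ∈ GLin.invariants k A (R ⧸ (J.map (algebraMap S R))) from hR₁ ▸ ⟨y, rfl⟩)
  refine ⟨Algebra.Etale.of_equiv (AlgEquiv.ofBijective W hWb), Algebra.Etale.of_equiv (AlgEquiv.ofBijective v ⟨hvinj, hvsurj⟩), ?_⟩
  -- the square
  let P₁ := Algebra.TensorProduct.productMap (IsScalarTower.toAlgHom S₁ (S ⧸ J) (R ⧸ (J.map (algebraMap S R))))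
    (IsScalarTower.toAlgHom S₁ R₁ (R ⧸ (J.map (algebraMap S R))))
  let L : (S ⧸ J) ⊗[S₀] R₀ →ₐ[S ⧸ J] (S ⧸ J) ⊗[S₁] R₁ := Algebra.TensorProduct.lift
    (Algebra.ofId (S ⧸ J) _)
    (((Algebra.TensorProduct.includeRight : R₁ →ₐ[S₁] (S ⧸ J) ⊗[S₁] R₁).restrictScalars S₀).comp ψA)
    fun _ _ => Commute.all _ _
  have hLsurj : Function.Surjective L := fun z => by
    induction z using TensorProduct.induction_on with
    | zero => exact ⟨0, map_zero L⟩
    | add p q hp hq =>
      obtain ⟨p, rfl⟩ := hp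
      obtain ⟨q, rfl⟩ := hq
      exact ⟨p + q, map_add L p q⟩
    | tmul p q =>
      obtain ⟨w, rfl⟩ := hvsurj q
      induction w using TensorProduct.induction_on with
      | zero => exact ⟨0, by simp⟩
      | add a b ha hb =>
        obtain ⟨a', ha'⟩ := ha
        obtain ⟨b', hb'⟩ := hb
        exact ⟨a' + b', by rw [map_add, ha', hb', map_add, tmul_add]⟩
      | tmul a b =>
        refine ⟨(a • p) ⊗ₜ[S₀] b, ?_⟩
        show ((a • p) ⊗ₜ[S₁] (1 : R₁)) * ((1 : S ⧸ J) ⊗ₜ[S₁] ψ b) = p ⊗ₜ[S₁] (algebraMap S₁ R₁ a * ψ b)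
        rw [Algebra.TensorProduct.tmul_mul_tmul, mul_one, one_mul, ← Algebra.smul_def, smul_tmul]
  have hPL : ∀ z, P₁ (L z) = W z := fun z => by
    induction z using TensorProduct.induction_on with
    | zero => simp
    | add p q hp hq => simp only [map_add, hp, hq]
    | tmul p q =>
      show P₁ ((p ⊗ₜ[S₁] (1 : R₁)) * ((1 : S ⧸ J) ⊗ₜ[S₁] ψ q)) =
        algebraMap (S ⧸ J) (R ⧸ (J.map (algebraMap S R))) p * Ideal.Quotient.mk (J.map (algebraMap S R)) (algebraMap R₀ R q)
      rw [Algebra.TensorProduct.tmul_mul_tmul, mul_one, one_mul, Algebra.TensorProduct.productMap_apply_tmul,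
        IsScalarTower.coe_toAlgHom', IsScalarTower.coe_toAlgHom', hψ']
  refine ⟨fun a b h => ?_, fun t => ?_⟩
  · obtain ⟨a, rfl⟩ := hLsurj a
    obtain ⟨b, rfl⟩ := hLsurj b
    rw [hPL, hPL] at h
    rw [hWb.1 h]
  · obtain ⟨w, rfl⟩ := hWb.2 t
    exact ⟨L w, hPL w⟩

/-- Let k be an algebraically closed field of characteristic zero, A a finitely generated commutative
Hopf algebra over k all of whose finite-dimensional comodules are semisimple (a reductive group G),
S and R finitely generated commutative k-algebras with multiplicative A-coactions (G acting on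
affine Y = Spec S and X = Spec R), S → R an algebra map compatible with the coactions (a G-morphism
θ : X → Y), S₀ → S and R₀ → R injective k-algebra maps whose images are the subrings of invariants,
and S₀ → R₀ an algebra map with S₀ → R₀ → R equal to S₀ → S → R (θ/G). Suppose R is étale over S, R₀
is étale over S₀, and the canonical map S ⊗_{S₀} R₀ → R is bijective (θ and θ/G étale and X ≅ Y
×_{Y//G} X//G). Let J be an ideal of S which is a subcomodule (Y' = V(J) a closed G-invariant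
subscheme), let S/J and R/JR carry A-coactions for which the quotient maps are compatible with the
coactions (the induced actions on Y' and X' = Y' ×_Y X), and let S₁ → S/J and R₁ → R/JR be injective
k-algebra maps whose images are the subrings of invariants, with S₁ → R₁ an algebra map such that S₁
→ R₁ → R/JR equals S₁ → S/J → R/JR. Then R/JR is étale over S/J, R₁ is étale over S₁, and the
canonical map (S/J) ⊗_{S₁} R₁ → R/JR is bijective (θ' : X' → Y' and θ'/G are étale and X' ≅ Y'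
×_{Y'//G} X'//G). -/
theorem result (k : Type u) [Field k] [IsAlgClosed k] [CharZero k]
    (A : Type u) [CommRing A] [HopfAlgebra k A] [Algebra.FiniteType k A] (hG : HopfRep.IsLinearlyReductive k A)
    (S : Type u) [CommRing S] [Algebra k S] [Algebra.FiniteType k S] [HopfRep.Comod k A S] [GLin.IsCoactAlg k A S]
    (R : Type u) [CommRing R] [Algebra k R] [Algebra.FiniteType k R] [HopfRep.Comod k A R] [GLin.IsCoactAlg k A R]
    [Algebra S R] [IsScalarTower k S R]
    (hequiv : (∀ s : S, HopfRep.Comod.coact (k := k) (A := A) (algebraMap S R s) =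
      Algebra.TensorProduct.map (IsScalarTower.toAlgHom k S R) (AlgHom.id k A) (HopfRep.Comod.coact (k := k) (A := A) s)))
    (S₀ : Type u) [CommRing S₀] [Algebra k S₀] [Algebra S₀ S] [IsScalarTower k S₀ S]
    (hS₀i : Function.Injective (algebraMap S₀ S)) (hS₀ : (IsScalarTower.toAlgHom k S₀ S).range = GLin.invariants k A S)
    (R₀ : Type u) [CommRing R₀] [Algebra k R₀] [Algebra R₀ R] [IsScalarTower k R₀ R]
    (hR₀i : Function.Injective (algebraMap R₀ R)) (hR₀ : (IsScalarTower.toAlgHom k R₀ R).range = GLin.invariants k A R)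
    [Algebra S₀ R₀] [Algebra S₀ R] [IsScalarTower S₀ S R] [IsScalarTower S₀ R₀ R]
    (het : Algebra.Etale S R) (het₀ : Algebra.Etale S₀ R₀)
    (hcart : Function.Bijective (Algebra.TensorProduct.productMap (IsScalarTower.toAlgHom S₀ S R) (IsScalarTower.toAlgHom S₀ R₀ R)))
    (J : Ideal S) (hJ : HopfRep.IsSubcomod (k := k) (A := A) (J.restrictScalars k))
    [HopfRep.Comod k A (S ⧸ J)] [GLin.IsCoactAlg k A (S ⧸ J)]
    (hqS : (∀ s : S, HopfRep.Comod.coact (k := k) (A := A) ((Ideal.Quotient.mkₐ k J) s) =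
        Algebra.TensorProduct.map (Ideal.Quotient.mkₐ k J) (AlgHom.id k A) (HopfRep.Comod.coact (k := k) (A := A) s)))
    [HopfRep.Comod k A (R ⧸ J.map (algebraMap S R))] [GLin.IsCoactAlg k A (R ⧸ J.map (algebraMap S R))]
    (hqR : (∀ s : R, HopfRep.Comod.coact (k := k) (A := A) ((Ideal.Quotient.mkₐ k (J.map (algebraMap S R))) s) =
        Algebra.TensorProduct.map (Ideal.Quotient.mkₐ k (J.map (algebraMap S R))) (AlgHom.id k A) (HopfRep.Comod.coact (k := k) (A := A) s)))
    (S₁ : Type u) [CommRing S₁] [Algebra k S₁] [Algebra S₁ (S ⧸ J)] [IsScalarTower k S₁ (S ⧸ J)]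
    (hS₁i : Function.Injective (algebraMap S₁ (S ⧸ J)))
    (hS₁ : (IsScalarTower.toAlgHom k S₁ (S ⧸ J)).range = GLin.invariants k A (S ⧸ J))
    (R₁ : Type u) [CommRing R₁] [Algebra k R₁] [Algebra R₁ (R ⧸ J.map (algebraMap S R))] [IsScalarTower k R₁ (R ⧸ J.map (algebraMap S R))]
    (hR₁i : Function.Injective (algebraMap R₁ (R ⧸ J.map (algebraMap S R))))
    (hR₁ : (IsScalarTower.toAlgHom k R₁ (R ⧸ J.map (algebraMap S R))).range = GLin.invariants k A (R ⧸ J.map (algebraMap S R)))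
    [Algebra S₁ R₁] [Algebra S₁ (R ⧸ J.map (algebraMap S R))]
    [IsScalarTower S₁ (S ⧸ J) (R ⧸ J.map (algebraMap S R))] [IsScalarTower S₁ R₁ (R ⧸ J.map (algebraMap S R))] :
    Algebra.Etale (S ⧸ J) (R ⧸ J.map (algebraMap S R)) ∧ Algebra.Etale S₁ R₁ ∧
      Function.Bijective (Algebra.TensorProduct.productMap
        (IsScalarTower.toAlgHom S₁ (S ⧸ J) (R ⧸ J.map (algebraMap S R)))
        (IsScalarTower.toAlgHom S₁ R₁ (R ⧸ J.map (algebraMap S R)))) := by
  classical
  obtain ⟨α, hα, h1⟩ := Groth.Agent.ComodLib.exists_integral_of_isLinearlyReductive hG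
  exact main k A S R hequiv S₀ hS₀ R₀ hR₀ het₀ hcart J hqS hqR S₁ hS₁i hS₁ R₁ hR₁i hR₁ hα h1

end Groth.Agent.S19408
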