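import Groth.Statements.S1941
import Groth.Agent.H23.FlatPushPull
-- import your own Groth.Agent.* helpers here

set_option autoImplicit false
universe u
open CategoryTheory AlgebraicGeometry
open CategoryTheory.Limits
open Cyc

namespace Groth.Agent.S1941

/-- Flat base change commutes with proper pushforward of cycles. In the base-change setting let f : Y →
X be proper and Y' = Y ×_X X' with projections f' to X' and q to Y. Y and Y' carry dimension
functions δ_Y and δ_Y' induced from δ and δ' along f and f' (Cyc.DeltaCompat), and δ_Y' satisfies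
the same shift-c condition relative to q as δ' does relative to p. For a k-cycle α on Y, g^*(f_*α) =
f'_*(q^*α) as (k + c)-cycles on X', where q^*α is any cycle on Y' with the base-change coefficients.
Base-change setting, stated without a fixed base scheme: p : X' → X is flat (not necessarily of
finite type), (X, δ) and (X', δ') carry dimension functions, and δ'(x') = δ(p x') + c whenever x' is
a generic point of an irreducible component of its fibre; g^* : Z_k(X) → Z_{k+c}(X') is the
coefficientwise flat pullback Cyc.pullFun p δ' δ c. A pair (X, δ) with Cyc.IsSetup plays the role of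
a scheme locally of finite type over a base with a dimension function (X locally Noetherian with
universally catenary local rings, δ a dimension function). -/
theorem result (X X' Y : Scheme.{u}) (f : Y ⟶ X) (p : X' ⟶ X) [IsProper f] [Flat p] (δ : X → ℤ) (δ' : X' → ℤ) (δY : Y → ℤ) (δY' : ↥(pullback f p) → ℤ) (hX : Cyc.IsSetup X δ) (hX' : Cyc.IsSetup X' δ') (hY : Cyc.IsSetup Y δY) (hf : Cyc.DeltaCompat f δY δ) (hf' : Cyc.DeltaCompat (pullback.snd f p) δY' δ') (c : ℤ) (hc : ∀ x' : X', (∀ y, p y = p x' → y ⤳ x' → y = x') → δ' x' = δ (p x') + c) (hcY : ∀ y' : ↥(pullback f p), (∀ y, pullback.fst f p y = pullback.fst f p y' → y ⤳ y' → y = y') → δY' y' = δY (pullback.fst f p y') + c) (k : ℤ) (α : AlgebraicCycle Y ℤ) (hα : α ∈ Cyc.Zk Y δY k) (α' : AlgebraicCycle (pullback f p) ℤ) (hα' : ⇑α' = Cyc.pullFun (pullback.fst f p) δY' δY c ⇑α) : Cyc.pullFun p δ' δ c ⇑(AlgebraicCycle.map f δY δ α) = ⇑(AlgebraicCycle.map (pullback.snd f p) δY' δ' α') := by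
  haveI := hX'.1
  exact Groth.Agent.H23.FlatShift.map_pullFun_baseChange (IsPullback.of_hasPullback f p) (c := c) hc hX'.2.2 hf hf' α α' hα'

end Groth.Agent.S1941
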