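import Groth.Statements.S19411
import Groth.Agent.ComodLib.StableOrbit
import Groth.Agent.ComodLib.CartierChar0
import Mathlib
-- import your own Groth.Agent.* helpers here

set_option autoImplicit false
universe u
open TensorProduct
open GLin

namespace Groth.Agent.S19411

section Aux
open TensorProduct

variable {k : Type u} [Field k] {A : Type u} [CommRing A] [HopfAlgebra k A]
variable {R : Type u} [CommRing R] [Algebra k R]

/-- Evaluation of the left factor at a point. -/
noncomputable def evL (x : R →ₐ[k] k) : R ⊗[k] A →ₐ[k] A :=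
  Algebra.TensorProduct.lift ((Algebra.ofId k A).comp x) (AlgHom.id k A) fun _ _ => .all _ _

/-- Evaluation of the right factor at a point. -/
noncomputable def evR (g : A →ₐ[k] k) : R ⊗[k] A →ₐ[k] R :=
  Algebra.TensorProduct.lift (AlgHom.id k R) ((Algebra.ofId k R).comp g) fun _ _ => .all _ _

theorem isUnit_of_cocycle (co : R →ₐ[k] R ⊗[k] A) (θ : R ⊗[k] A) (T : R →ₗ[k] R ⊗[k] A)
    (hT : ∀ r, T r = co r * θ)
    (h1 : TensorProduct.assoc k R A A (T.rTensor A θ) = (CoalgebraStruct.comul (R := k) (A := A)).lTensor R θ)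
    (h2 : (CoalgebraStruct.counit (R := k) (A := A)).lTensor R θ = (1 : R) ⊗ₜ[k] (1 : k)) : IsUnit θ := by
  let μ : A ⊗[k] A →ₗ[k] A := LinearMap.mul' k A ∘ₗ (HopfAlgebra.antipode k (A := A)).lTensor A
  let ω : R ⊗[k] A →ₐ[k] R ⊗[k] A :=
    Algebra.TensorProduct.lift co (Algebra.TensorProduct.includeRight.comp (HopfAlgebra.antipodeAlgHom k A))
      fun _ _ => .all _ _
  have eL : ∀ z : R ⊗[k] A, μ.lTensor R (TensorProduct.assoc k R A A (T.rTensor A z)) = θ * ω z := by
    intro z
    induction z using TensorProduct.induction_on with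
    | zero => simp
    | add p q hp hq => simp only [map_add, hp, hq, mul_add]
    | tmul r a =>
      have e : ∀ w : R ⊗[k] A, μ.lTensor R (TensorProduct.assoc k R A A (w ⊗ₜ[k] a)) =
          w * ((1 : R) ⊗ₜ[k] HopfAlgebra.antipode k a) := fun w => by
        induction w using TensorProduct.induction_on with
        | zero => simp
        | tmul s b => simp [μ]
        | add p q hp hq => simp only [TensorProduct.add_tmul, map_add, hp, hq, add_mul]
      rw [LinearMap.rTensor_tmul, e, hT]
      simp [ω]
      ring
  have eR : ∀ z : R ⊗[k] A, μ.lTensor R ((CoalgebraStruct.comul (R := k) (A := A)).lTensor R z) =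
      (Algebra.linearMap k A).lTensor R ((CoalgebraStruct.counit (R := k) (A := A)).lTensor R z) := by
    intro z
    induction z using TensorProduct.induction_on with
    | zero => simp
    | add p q hp hq => simp only [map_add, hp, hq]
    | tmul r a => simp [μ, HopfAlgebra.mul_antipode_lTensor_comul_apply]
  refine IsUnit.of_mul_eq_one (ω θ) ?_
  rw [← eL, h1, eR, h2]
  simp [Algebra.TensorProduct.one_def]

theorem tmul_one_injective [Nontrivial R] {M : Type u} [AddCommGroup M] [Module k M] {a b : M}
    (h : (1 : R) ⊗ₜ[k] a = (1 : R) ⊗ₜ[k] b) : a = b := by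
  obtain ⟨π, hπ⟩ : ∃ π : R →ₗ[k] k, π 1 = 1 := by
    obtain ⟨π, hπ, -⟩ := Submodule.exists_dual_map_eq_bot_of_notMem
      (p := (⊥ : Submodule k R)) (x := (1 : R)) (by simp) inferInstance
    exact ⟨(π 1)⁻¹ • π, by simp [inv_mul_cancel₀ hπ]⟩
  simpa [hπ] using congrArg (fun z => TensorProduct.lid k M (π.rTensor M z)) h

theorem exists_fg_mem (θ : R ⊗[k] A) : ∃ W : Submodule k A, W.FG ∧ ∀ x : R →ₐ[k] k, evL x θ ∈ W := by
  classical
  obtain ⟨S, rfl⟩ := TensorProduct.exists_finset θ
  refine ⟨Submodule.span k ((S.image Prod.snd : Finset A) : Set A), Submodule.fg_span (Finset.finite_toSet _), fun x => ?_⟩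
  rw [map_sum]
  refine Submodule.sum_mem _ fun p hp => ?_
  simp only [evL, Algebra.TensorProduct.lift_tmul, AlgHom.comp_apply, AlgHom.id_apply, Algebra.ofId_apply,
    ← Algebra.smul_def]
  exact Submodule.smul_mem _ _ (Submodule.subset_span (Finset.mem_image_of_mem _ hp))

theorem idem_trivial {S : Type*} [CommRing S] [ConnectedSpace (PrimeSpectrum S)] {e : S} (he : IsIdempotentElem e) :
    e = 0 ∨ e = 1 := by
  have hcl := PrimeSpectrum.isClopen_basicOpen_of_mul_add e (1 - e) (by rw [mul_sub, mul_one, he.eq, sub_self]) (by ring)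
  rcases isClopen_iff.1 hcl with h | h
  · left
    refine PrimeSpectrum.basicOpen_injOn_isIdempotentElem he IsIdempotentElem.zero ?_
    exact TopologicalSpace.Opens.ext (by rw [h]; simp)
  · right
    refine PrimeSpectrum.basicOpen_injOn_isIdempotentElem he IsIdempotentElem.one ?_
    exact TopologicalSpace.Opens.ext (by rw [h]; simp)

end Aux

open TensorProduct Groth.Agent.ComodLib

/-- Let k be an uncountable algebraically closed field of characteristic zero, A a finitely generated
commutative Hopf algebra over k all of whose finite-dimensional comodules are semisimple (a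
reductive group G), and R a reduced finitely generated commutative k-algebra whose prime spectrum is
connected, with a multiplicative A-coaction ρ (G acting on the connected affine scheme X = Spec R).
Let θ ∈ R ⊗ A be such that the map r ↦ ρ(r)·θ from R to R ⊗ A is coassociative and counital (a
structure of G-line bundle on the trivial line bundle of X, θ being the corresponding invertible
function on X × G). Suppose that either every unit of A is a scalar multiple of a group-like element
(every invertible function on G is a constant times a character), or every unit of R is a scalar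
(every invertible function on X is constant). Then θ = 1 ⊗ χ for some group-like element χ of A: the
G-line bundle is the one attached to the character χ. (Stated for G-line bundle structures on the
trivial bundle, the case to which the hypothesis of a trivial Picard group reduces the source's
statement; uncountability of k is what the argument uses in the first case.) -/
theorem result (k : Type u) [Field k] [IsAlgClosed k] [CharZero k] [Uncountable k]
    (A : Type u) [CommRing A] [HopfAlgebra k A] [Algebra.FiniteType k A] (hG : HopfRep.IsLinearlyReductive k A)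
    (R : Type u) [CommRing R] [IsReduced R] [Algebra k R] [Algebra.FiniteType k R] [HopfRep.Comod k A R] [GLin.IsCoactAlg k A R]
    [ConnectedSpace (PrimeSpectrum R)]
    (θ : R ⊗[k] A)
    (hassoc : (TensorProduct.assoc k R A A).toLinearMap ∘ₗ
        ((LinearMap.mulRight k θ) ∘ₗ HopfRep.Comod.coact (k := k) (A := A) (V := R)).rTensor A ∘ₗ
          ((LinearMap.mulRight k θ) ∘ₗ HopfRep.Comod.coact (k := k) (A := A) (V := R)) =
      (CoalgebraStruct.comul (R := k) (A := A)).lTensor R ∘ₗ
        ((LinearMap.mulRight k θ) ∘ₗ HopfRep.Comod.coact (k := k) (A := A) (V := R)))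
    (hcounit : (CoalgebraStruct.counit (R := k) (A := A)).lTensor R ∘ₗ
        ((LinearMap.mulRight k θ) ∘ₗ HopfRep.Comod.coact (k := k) (A := A) (V := R)) =
      (TensorProduct.mk k R k).flip 1)
    (h : (∀ u : Aˣ, ∃ (c : k) (χ : A), IsGroupLikeElem k χ ∧ (u : A) = c • χ) ∨
      (∀ u : Rˣ, (u : R) ∈ Set.range (algebraMap k R))) :
    ∃ χ : A, IsGroupLikeElem k χ ∧ θ = (1 : R) ⊗ₜ[k] χ := by
  classical
  haveI : Nontrivial R := by
    obtain ⟨p⟩ := (inferInstance : Nonempty (PrimeSpectrum R))
    exact ⟨⟨0, 1, fun h => p.2.ne_top ((Ideal.eq_top_iff_one _).2 (h ▸ p.1.zero_mem))⟩⟩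
  haveI : _root_.IsReduced A := isReduced_of_charZero' (k := k)
  let co : R →ₐ[k] R ⊗[k] A := GLin.coactAlgHom k A R
  let T : R →ₗ[k] R ⊗[k] A := (LinearMap.mulRight k θ) ∘ₗ HopfRep.Comod.coact (k := k) (A := A) (V := R)
  have hT1 : T 1 = θ := by
    simp [T, GLin.IsCoactAlg.coact_one (k := k) (A := A) (R := R)]
  have hTco : ∀ r, T r = co r * θ := fun r => rfl
  have h1 : TensorProduct.assoc k R A A (T.rTensor A θ) = (CoalgebraStruct.comul (R := k) (A := A)).lTensor R θ := by
    have := LinearMap.congr_fun hassoc 1
    simpa [T, GLin.IsCoactAlg.coact_one (k := k) (A := A) (R := R)] using this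
  have h2 : (CoalgebraStruct.counit (R := k) (A := A)).lTensor R θ = (1 : R) ⊗ₜ[k] (1 : k) := by
    have := LinearMap.congr_fun hcounit 1
    simpa [T, GLin.IsCoactAlg.coact_one (k := k) (A := A) (R := R)] using this
  have hθ : IsUnit θ := isUnit_of_cocycle co θ T hTco h1 h2
  have hε : ∀ x : R →ₐ[k] k, Coalgebra.counit (R := k) (evL x θ) = (1 : k) := fun x => by
    have e : ∀ z : R ⊗[k] A, Coalgebra.counit (R := k) (evL x z) =
        x (TensorProduct.rid k R ((CoalgebraStruct.counit (R := k) (A := A)).lTensor R z)) := fun z => by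
      induction z using TensorProduct.induction_on with
      | zero => simp
      | tmul r a => simp [evL, mul_comm, ← Algebra.smul_def]
      | add p q hp hq => simp only [map_add, hp, hq]
    rw [e, h2]; simp
  have hsep : ∀ r : R, (∀ x : R →ₐ[k] k, x r = 0) → r = 0 := fun r hr => by
    by_contra hne
    obtain ⟨x, hx⟩ := ComodLib.exists_point_ne_zero (k := k) (a := r) fun hn => hne hn.eq_zero
    exact hx (hr x)
  suffices hχ : ∃ χ : A, θ = (1 : R) ⊗ₜ[k] χ by
    obtain ⟨χ, rfl⟩ := hχ
    refine ⟨χ, ⟨?_, ?_⟩, rfl⟩
    · obtain ⟨x⟩ : Nonempty (R →ₐ[k] k) := by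
        by_contra hno
        exact one_ne_zero (hsep 1 fun x => absurd ⟨x⟩ hno)
      have := hε x
      simpa [evL] using this
    · have h3 : (1 : R) ⊗ₜ[k] (χ ⊗ₜ[k] χ) = (1 : R) ⊗ₜ[k] Coalgebra.comul (R := k) χ := by
        simpa [hT1] using h1
      exact (tmul_one_injective h3).symm
  rcases h with hA | hR
  · have hx : ∀ x : R →ₐ[k] k, IsGroupLikeElem k (evL x θ) := fun x => by
      obtain ⟨c, χ, hχ, hcχ⟩ := hA (hθ.map (evL x)).unit
      rw [IsUnit.unit_spec] at hcχ
      have h4 := hε x
      rw [hcχ, map_smul, hχ.counit_eq_one, smul_eq_mul, mul_one] at h4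
      rw [hcχ, h4, one_smul]
      exact hχ
    obtain ⟨W, hW, hθW⟩ := exists_fg_mem θ
    haveI : FiniteDimensional k W := Module.Finite.iff_fg.2 hW
    let S : Set A := Set.range fun x : R →ₐ[k] k => evL x θ
    have hSW : S ⊆ W := by rintro _ ⟨x, rfl⟩; exact hθW x
    have hli : LinearIndepOn k id S := (linearIndepOn_isGroupLikeElem (R := k) (A := A)).mono
      (by rintro _ ⟨x, rfl⟩; exact hx x)
    have hSfin : S.Finite := by
      have h5 : LinearIndependent k (fun s : S => (⟨s.1, hSW s.2⟩ : W)) := LinearIndependent.of_comp W.subtype hli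
      exact Set.finite_coe_iff.1 h5.finite
    let e := Module.Basis.extend hli
    obtain ⟨x₀⟩ : Nonempty (R →ₐ[k] k) := by
      by_contra hno
      exact one_ne_zero (hsep 1 fun x => absurd ⟨x⟩ hno)
    let χ := evL x₀ θ
    have hχS : χ ∈ hli.extend (Set.subset_univ S) := hli.subset_extend _ ⟨x₀, rfl⟩
    let φ : A →ₗ[k] k := e.coord ⟨χ, hχS⟩
    let f : R := TensorProduct.rid k R (φ.lTensor R θ)
    have hxf : ∀ x : R →ₐ[k] k, x f = φ (evL x θ) := fun x => by
      have e' : ∀ z : R ⊗[k] A, x (TensorProduct.rid k R (φ.lTensor R z)) = φ (evL x z) := fun z => by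
        induction z using TensorProduct.induction_on with
        | zero => simp
        | tmul r a => simp [evL, ← Algebra.smul_def]; ring
        | add p q hp hq => simp only [map_add, hp, hq]
      exact e' θ
    have hφ : ∀ x : R →ₐ[k] k, φ (evL x θ) = if evL x θ = χ then 1 else 0 := fun x => by
      have hmem : evL x θ ∈ hli.extend (Set.subset_univ S) := hli.subset_extend _ ⟨x, rfl⟩
      have he : (e ⟨evL x θ, hmem⟩ : A) = evL x θ := Module.Basis.extend_apply_self hli ⟨_, hmem⟩
      rw [show φ (evL x θ) = e.coord ⟨χ, hχS⟩ (e ⟨evL x θ, hmem⟩) by rw [he]]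
      simp [Finsupp.single_apply, eq_comm]
    have hidem : IsIdempotentElem f := by
      rw [IsIdempotentElem, ← sub_eq_zero]
      refine hsep _ fun x => ?_
      rw [map_sub, map_mul, hxf, hφ]
      split_ifs <;> simp
    have hf1 : f = 1 := by
      rcases idem_trivial hidem with h6 | h6
      · have := hxf x₀
        rw [h6, map_zero, hφ, if_pos rfl] at this
        exact absurd this zero_ne_one
      · exact h6
    have hall : ∀ x : R →ₐ[k] k, evL x θ = χ := fun x => by
      have := hxf x
      rw [hf1, map_one, hφ] at this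
      by_contra h7
      rw [if_neg h7] at this
      exact one_ne_zero this
    refine ⟨χ, sub_eq_zero.1 (ComodLib.eq_zero_of_forall_slice_eq_zero fun ψ => hsep _ fun x => ?_)⟩
    have e' : ∀ z : R ⊗[k] A, x (ComodLib.slice ψ z) = ψ (evL x z) := fun z => by
      induction z using TensorProduct.induction_on with
      | zero => simp
      | tmul r a => simp [evL, ← Algebra.smul_def]; ring
      | add p q hp hq => simp only [map_add, hp, hq]
    rw [e', map_sub, hall x]
    simp [evL]
  · obtain ⟨x₀⟩ : Nonempty (R →ₐ[k] k) := by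
      by_contra hno
      exact one_ne_zero (hsep 1 fun x => absurd ⟨x⟩ hno)
    refine ⟨evL x₀ θ, sub_eq_zero.1 (ComodLib.eq_zero_of_forall_pt fun g => ?_)⟩
    have e' : ∀ z : R ⊗[k] A, ComodLib.slice g.toLinearMap z = evR g z ∧ g (evL x₀ z) = x₀ (evR g z) := fun z => by
      induction z using TensorProduct.induction_on with
      | zero => simp
      | tmul r a => simp [evR, evL, ← Algebra.smul_def, mul_comm, Algebra.smul_def]
      | add p q hp hq => simp only [map_add, hp.1, hq.1, hp.2, hq.2, and_self]
    obtain ⟨c, hc⟩ := hR (hθ.map (evR g)).unit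
    rw [IsUnit.unit_spec] at hc
    rw [map_sub, (e' θ).1, ComodLib.slice_tmul, AlgHom.toLinearMap_apply, (e' θ).2, ← hc,
      AlgHom.commutes, Algebra.algebraMap_self, RingHom.id_apply, ← Algebra.algebraMap_eq_smul_one, sub_self]

end Groth.Agent.S19411
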