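import Groth.Statements.S19412
import Groth.Agent.ComodLib.Orbits
import Mathlib.RingTheory.Etale.Basic
-- import your own Groth.Agent.* helpers here

set_option autoImplicit false
universe u
open TensorProduct
open GLin

namespace Groth.Agent.S19412

/-- Let k be an algebraically closed field of characteristic zero, A a finitely generated commutative
Hopf algebra over k (an algebraic group G), S and R finitely generated commutative k-algebras with
multiplicative A-coactions (G acting on affine Y = Spec S, X = Spec R), S → R an algebra map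
compatible with the coactions (a G-morphism φ : X → Y), S₀ → S and R₀ → R injective k-algebra maps
whose images are the subrings of invariants, and S₀ → R₀ an algebra map with S₀ → R₀ → R equal to S₀
→ S → R (φ/G). Suppose R₀ is étale over S₀ and the canonical map S ⊗_{S₀} R₀ → R is bijective (φ is
strongly étale: φ/G étale and X ≅ Y ×_{Y//G} X//G). Then R is étale over S (φ étale), and for every
k-point x of X: every k-point of G fixing the image point φ(x) fixes x (φ restricted to the orbit of
x is injective), and the orbit of x is closed if and only if the orbit of φ(x) is closed. (The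
published item also asserts that φ is surjective; that fails when φ is the inclusion of a proper
saturated open subset, which is strongly étale, so surjectivity is not asserted here.) -/
theorem result (k : Type u) [Field k] [IsAlgClosed k] [CharZero k]
    (A : Type u) [CommRing A] [HopfAlgebra k A] [Algebra.FiniteType k A]
    (S : Type u) [CommRing S] [Algebra k S] [Algebra.FiniteType k S] [HopfRep.Comod k A S] [GLin.IsCoactAlg k A S]
    (R : Type u) [CommRing R] [Algebra k R] [Algebra.FiniteType k R] [HopfRep.Comod k A R] [GLin.IsCoactAlg k A R]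
    [Algebra S R] [IsScalarTower k S R]
    (hequiv : (∀ s : S, HopfRep.Comod.coact (k := k) (A := A) (algebraMap S R s) =
      Algebra.TensorProduct.map (IsScalarTower.toAlgHom k S R) (AlgHom.id k A) (HopfRep.Comod.coact (k := k) (A := A) s)))
    (S₀ : Type u) [CommRing S₀] [Algebra k S₀] [Algebra S₀ S] [IsScalarTower k S₀ S]
    (hS₀i : Function.Injective (algebraMap S₀ S)) (hS₀ : (IsScalarTower.toAlgHom k S₀ S).range = GLin.invariants k A S)
    (R₀ : Type u) [CommRing R₀] [Algebra k R₀] [Algebra R₀ R] [IsScalarTower k R₀ R]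
    (hR₀i : Function.Injective (algebraMap R₀ R)) (hR₀ : (IsScalarTower.toAlgHom k R₀ R).range = GLin.invariants k A R)
    [Algebra S₀ R₀] [Algebra S₀ R] [IsScalarTower S₀ S R] [IsScalarTower S₀ R₀ R]
    (het₀ : Algebra.Etale S₀ R₀)
    (hcart : Function.Bijective (Algebra.TensorProduct.productMap (IsScalarTower.toAlgHom S₀ S R) (IsScalarTower.toAlgHom S₀ R₀ R))) :
    Algebra.Etale S R ∧
      ∀ x : R →ₐ[k] k,
        (∀ g : A →ₐ[k] k, GLin.actPt k g (x.comp (IsScalarTower.toAlgHom k S R)) = x.comp (IsScalarTower.toAlgHom k S R) →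
          GLin.actPt k g x = x) ∧
        (GLin.IsClosedOrbit k A x ↔ GLin.IsClosedOrbit k A (x.comp (IsScalarTower.toAlgHom k S R))) := by
  classical
  let μ := Algebra.TensorProduct.productMap (IsScalarTower.toAlgHom S₀ S R) (IsScalarTower.toAlgHom S₀ R₀ R)
  refine ⟨?_, fun x => ?_⟩
  · let μS : S ⊗[S₀] R₀ →ₐ[S] R := AlgHom.mk μ.toRingHom fun s => by
      show μ (s ⊗ₜ[S₀] (1 : R₀)) = algebraMap S R s
      simp [μ]
    exact Algebra.Etale.of_equiv (AlgEquiv.ofBijective μS hcart)
  let y : S →ₐ[k] k := x.comp (IsScalarTower.toAlgHom k S R)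
  have hinv : ∀ r₀ : R₀, algebraMap R₀ R r₀ ∈ GLin.invariants k A R := fun r₀ => hR₀ ▸ ⟨r₀, rfl⟩
  have horb : ∀ s : S, GLin.orbitHom k A x (algebraMap S R s) = GLin.orbitHom k A y s := fun s => by
    rw [Groth.Agent.ComodLib.orbitHom_apply, Groth.Agent.ComodLib.orbitHom_apply, hequiv]
    induction HopfRep.Comod.coact (k := k) (A := A) s using TensorProduct.induction_on with
    | zero => simp
    | tmul a b => simp [y]
    | add p q hp hq => simp only [map_add, hp, hq]
  refine ⟨fun g hg => AlgHom.ext fun r => ?_, ?_⟩
  · obtain ⟨z, rfl⟩ := hcart.2 r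
    induction z using TensorProduct.induction_on with
    | zero => rw [map_zero, map_zero, map_zero]
    | add a b ha hb => rw [map_add, map_add, map_add, ha, hb]
    | tmul s r₀ =>
      rw [Algebra.TensorProduct.productMap_apply_tmul, map_mul, map_mul]
      congr 1
      · show g (GLin.orbitHom k A x (algebraMap S R s)) = x (algebraMap S R s)
        rw [horb]
        exact AlgHom.congr_fun hg s
      · show g (GLin.orbitHom k A x (algebraMap R₀ R r₀)) = x (algebraMap R₀ R r₀)
        rw [Groth.Agent.ComodLib.orbitHom_of_invariant x (hinv r₀), AlgHom.commutes]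
        rfl
  let J : Ideal R := (RingHom.ker ((x : R →+* k).comp (algebraMap R₀ R))).map (algebraMap R₀ R)
  have hJ : J ≤ RingHom.ker (GLin.orbitHom k A x).toRingHom := Ideal.map_le_iff_le_comap.2 fun r₀ hr => by
    rw [Ideal.mem_comap, RingHom.mem_ker]
    show GLin.orbitHom k A x (algebraMap R₀ R r₀) = 0
    rw [Groth.Agent.ComodLib.orbitHom_of_invariant x (hinv r₀), show x (algebraMap R₀ R r₀) = 0 from hr, map_zero]
  let ō : R ⧸ J →+* A := Ideal.Quotient.lift J (GLin.orbitHom k A x).toRingHom fun a ha => hJ ha
  let h : S →+* R ⧸ J := (Ideal.Quotient.mk J).comp (algebraMap S R)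
  have hsurj : Function.Surjective h := by
    intro q
    obtain ⟨r, rfl⟩ := Ideal.Quotient.mk_surjective q
    obtain ⟨z, rfl⟩ := hcart.2 r
    induction z using TensorProduct.induction_on with
    | zero => exact ⟨0, by simp⟩
    | add a b ha hb =>
      obtain ⟨u, hu⟩ := ha
      obtain ⟨v, hv⟩ := hb
      exact ⟨u + v, by rw [map_add, hu, hv, map_add, map_add]⟩
    | tmul s r₀ =>
      refine ⟨algebraMap k S (x (algebraMap R₀ R r₀)) * s, ?_⟩
      show Ideal.Quotient.mk J (algebraMap S R (algebraMap k S (x (algebraMap R₀ R r₀)) * s)) =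
        Ideal.Quotient.mk J (μ (s ⊗ₜ[S₀] r₀))
      rw [Algebra.TensorProduct.productMap_apply_tmul, IsScalarTower.toAlgHom_apply, IsScalarTower.toAlgHom_apply,
        map_mul (algebraMap S R), ← IsScalarTower.algebraMap_apply k S R, mul_comm (algebraMap S R s), map_mul, map_mul]
      congr 1
      rw [Ideal.Quotient.eq, IsScalarTower.algebraMap_apply k R₀ R, ← map_sub]
      refine Ideal.mem_map_of_mem _ ?_
      rw [RingHom.mem_ker, RingHom.comp_apply, map_sub, ← IsScalarTower.algebraMap_apply k R₀ R, map_sub]
      show x (algebraMap k R _) - x (algebraMap R₀ R r₀) = 0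
      rw [AlgHom.commutes]
      exact sub_self _
  have h1 : (GLin.orbitHom k A x).toRingHom = ō.comp (Ideal.Quotient.mk J) := RingHom.ext fun r => rfl
  have h2 : (GLin.orbitHom k A y).toRingHom = ō.comp h := RingHom.ext fun s => (horb s).symm
  have hr1 : Set.range (PrimeSpectrum.comap (GLin.orbitHom k A x).toRingHom) =
      PrimeSpectrum.comap (Ideal.Quotient.mk J) '' Set.range (PrimeSpectrum.comap ō) := by
    rw [h1, PrimeSpectrum.comap_comp, ← Set.range_comp]
  have hr2 : Set.range (PrimeSpectrum.comap (GLin.orbitHom k A y).toRingHom) =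
      PrimeSpectrum.comap h '' Set.range (PrimeSpectrum.comap ō) := by
    rw [h2, PrimeSpectrum.comap_comp, ← Set.range_comp]
  show IsClosed (Set.range (PrimeSpectrum.comap (GLin.orbitHom k A x).toRingHom)) ↔
    IsClosed (Set.range (PrimeSpectrum.comap (GLin.orbitHom k A y).toRingHom))
  rw [hr1, hr2,
    ← (PrimeSpectrum.isClosedEmbedding_comap_of_surjective _ (Ideal.Quotient.mk J) Ideal.Quotient.mk_surjective).isClosed_iff_image_isClosed,
    ← (PrimeSpectrum.isClosedEmbedding_comap_of_surjective _ h hsurj).isClosed_iff_image_isClosed]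

end Groth.Agent.S19412
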