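import Groth.Statements.S19414
import Groth.Agent.WeilLib.Geometry

set_option autoImplicit false
open Groth.Agent.WeilLib
universe u v
open CategoryTheory AlgebraicGeometry
open WeilCoh

namespace Groth.Agent.S19414

/-- Let H be a Weil cohomology theory with coefficients in a field K of characteristic zero on
nonsingular connected projective varieties over an algebraically closed field k, X such a variety, P
= X × X with its projections p and q, and d : X → P the diagonal (the section of p and of q). For a
closed irreducible subset Z ⊆ X with generic point η and a class α ∈ H^i(X), the cohomological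
correspondence given by the class of the diagonal image d(Z) ⊆ P acts on α as cup product with the
class of Z: q_*(p^*(α) · cl_P(d(Z))) = α · cl_X(Z) in the total cohomology ring of X. The
push-forward q_* (Gysin map, defined through Poincaré duality) is taken on the homogeneous component
of degree i + 2 codim_P(d(Z)) that contains p^*(α) · cl_P(d(Z)). The published statement takes Z to
be a smooth hyperplane section, in which case cup product with cl_X(Z) is the Lefschetz operator L
and the identity says that L is given by an algebraic correspondence; it is stated here for every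
closed irreducible Z, which is what the argument establishes. -/
theorem result (k : Type u) [Field k] [IsAlgClosed k]
    (K : Type v) [Field K] [CharZero K] (T : WeilCoh.Theory k K) (X P : WeilCoh.Var k)
    (p q : P ⟶ X) (hP : WeilCoh.IsProd p q) (d : X ⟶ P) (hdp : d ≫ p = 𝟙 X) (hdq : d ≫ q = 𝟙 X)
    (η : ↥X.obj.left) (i : ℤ) (a : ↥(T.gr X i)) :
    (T.push q (i + 2 * (WeilCoh.codim P.obj.left (WeilCoh.sm d η) : ℤ))
        ⟨T.pull p (a : T.H X) * T.cl P (WeilCoh.sm d η),
          SetLike.mul_mem_graded (T.pull_mem p i a a.2) (T.cl_mem P (WeilCoh.sm d η))⟩ : T.H X) =
      (a : T.H X) * T.cl X η := by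
  have hd := dim_prod T hP
  refine push_eq T q _ _ (mem_congr T ?_ (mul_mem T a.2 (T.cl_mem X η))) fun b hb => ?_
  · rw [cast_codim, cast_codim, pdim_section hdp, hd]; ring
  show _ = T.tr P (T.pull p (a : T.H X) * T.cl P (WeilCoh.sm d η) * T.pull q b)
  rw [comm_even T (T.pull_mem p i a a.2) (T.cl_mem P _) ((even_two_mul _).mul_left i), mul_assoc (T.cl P _),
    tr_cl_section T hdp η (mem_congr T (by rw [cast_codim, pdim_section hdp]; ring)
      (prod_mem T p q a.2 hb)),
    map_mul (T.pull d), pull_section T hdp, pull_section T hdq, ← mul_assoc,
    comm_even T (T.cl_mem X η) a.2 ((even_two_mul _).mul_right i)]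

end Groth.Agent.S19414
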