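import Groth.Statements.S19419
import Groth.Agent.H23.GraphPull
import Groth.Agent.InvDim1.Descend
-- import your own Groth.Agent.* helpers here

set_option autoImplicit false
universe u
open CategoryTheory CategoryTheory.Limits AlgebraicGeometry
open Cyc

namespace Groth.Agent.S19419

/-- Let X be a smooth proper integral curve over an algebraically closed field k, with generic point η,
and ψ : X → X a flat endomorphism over k. Let Y = X ×_k X with its two projections, m = ψ × id : Y →
Y (first projection intertwines ψ, second projection unchanged), d : X → Y the diagonal and g = (id,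
ψ) : X → Y the graph of ψ. For the dimension function δ on Y induced from weight 0 on Spec k, the
flat pull-back of cycles along m in relative dimension 0 takes the diagonal divisor [Δ], the cycle
equal to 1 at d(η) and 0 elsewhere, to the graph divisor [Γ_ψ], the cycle equal to 1 at g(η) and 0
elsewhere: (ψ × id)^*[Δ] = [Γ_ψ]. The published statement allows any endomorphism ψ and reads the
pull-back on divisors; flatness of ψ is what the flat pull-back of cycles requires (the intended
case is the Frobenius endomorphism), and iterating gives [Γ_{ψ^n}] = ((ψ × id)^*)^n [Δ]. -/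
theorem result (k : Type u) [Field k]
    [IsAlgClosed k] (X : Scheme.{u}) (f : X ⟶ Spec (CommRingCat.of k)) [Smooth f] [IsProper f]
    [IsIntegral X] (hdim : topologicalKrullDim ↥X = 1) (ψ : X ⟶ X) (hψ : ψ ≫ f = f) [Flat ψ]
    (m : pullback f f ⟶ pullback f f) (hm₁ : m ≫ pullback.fst f f = pullback.fst f f ≫ ψ)
    (hm₂ : m ≫ pullback.snd f f = pullback.snd f f) (g : X ⟶ pullback f f)
    (hg₁ : g ≫ pullback.fst f f = 𝟙 X) (hg₂ : g ≫ pullback.snd f f = ψ)
    (δ : ↥(pullback f f) → ℤ) (hδ : Cyc.DeltaCompat (pullback.fst f f ≫ f) δ (fun _ => 0)) :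
    Cyc.pullFun m δ δ 0
        (Set.indicator ({pullback.diagonal f (genericPoint ↥X)} : Set ↥(pullback f f)) (fun _ => (1 : ℤ))) =
      Set.indicator ({g (genericPoint ↥X)} : Set ↥(pullback f f)) (fun _ => (1 : ℤ)) := by
  classical
  have sq := H23.GraphPull.isPullback_graph hm₁ hm₂ hg₁ hg₂
  haveI : IsProper (ψ ≫ f) := by rw [hψ]; infer_instance
  haveI : IsProper ψ := IsProper.of_comp ψ f
  haveI : IsClosedImmersion (g ≫ pullback.fst f f) := by rw [hg₁]; infer_instance
  haveI : IsClosedImmersion g := IsClosedImmersion.of_comp g (pullback.fst f f)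
  have hη : ψ (genericPoint ↥X) = genericPoint ↥X := by
    obtain ⟨t, ht, hts⟩ := (Flat.generalizingMap ψ) ((genericPoint_spec ↥X).specializes (Set.mem_univ (ψ (genericPoint ↥X))))
    rw [show genericPoint ↥X = t from (((genericPoint_spec ↥X).specializes (Set.mem_univ t)).antisymm ht).eq] at hts ⊢
    exact hts
  have hfib : ∀ t : X, ψ t = genericPoint ↥X → t = genericPoint ↥X := fun t ht => by
    by_contra hne
    haveI : Nonempty X := ⟨t⟩
    have hc := InvDim1.isClosed_singleton hdim.le ((genericPoint_spec ↥X).specializes (Set.mem_univ t)) hne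
    have hc' : IsClosed ({genericPoint ↥X} : Set X) := by
      have := ψ.isClosedMap _ hc
      rwa [Set.image_singleton, ht] at this
    have huniv : ({genericPoint ↥X} : Set X) = Set.univ := by
      rw [← hc'.closure_eq]
      exact (genericPoint_spec ↥X).def
    exact hne (huniv.ge (Set.mem_univ t))
  funext x
  unfold Cyc.pullFun
  by_cases hx : x = g (genericPoint ↥X)
  · subst hx
    have hmy : m (g (genericPoint ↥X)) = pullback.diagonal f (genericPoint ↥X) := by
      rw [← Scheme.Hom.comp_apply, sq.w, Scheme.Hom.comp_apply, hη]
    rw [Set.indicator_of_mem (show m (g (genericPoint ↥X)) ∈ ({pullback.diagonal f (genericPoint ↥X)} : Set _) from hmy),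
      Set.indicator_of_mem (Set.mem_singleton _)]
    have hq : ∀ (j : X ⟶ pullback f f) [IsClosedImmersion j], j ≫ pullback.fst f f = 𝟙 X →
        δ (j (genericPoint ↥X)) = FibDim.rd f (genericPoint ↥X) := fun j _ hj => by
      rw [CycLib.deltaCompat_eq _ hδ, zero_add, ← DimFormula.rd_closedSub, ← Category.assoc, hj, Category.id_comp]
    rw [if_pos (by rw [hmy, hq g hg₁, hq (pullback.diagonal f) (pullback.diagonal_fst f), add_zero])]
    have key : ∀ z : ↥(pullback m (pullback.diagonal f)), z = sq.isoPullback.hom (genericPoint ↥X) →
        Module.length ((pullback f f).presheaf.stalk (pullback.fst m (pullback.diagonal f) z))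
          ((pullback f f).presheaf.stalk (pullback.fst m (pullback.diagonal f) z) ⧸
            Ideal.map (m.stalkMap (pullback.fst m (pullback.diagonal f) z)).hom
              (IsLocalRing.maximalIdeal ((pullback f f).presheaf.stalk (m (pullback.fst m (pullback.diagonal f) z))))) = 1 := by
      intro z hz
      subst hz
      refine H23.GraphPull.length_fibre _ _ _ ?_ ?_
      · rw [← Scheme.Hom.comp_apply, sq.isoPullback_hom_snd, hη]
        exact Field.toIsField X.functionField
      · exact MulEquiv.isField (Field.toIsField X.functionField)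
          (asIso (sq.isoPullback.hom.stalkMap (genericPoint ↥X))).commRingCatIsoToRingEquiv.toMulEquiv
    have hpt : g (genericPoint ↥X) = pullback.fst m (pullback.diagonal f) (sq.isoPullback.hom (genericPoint ↥X)) := by
      rw [← Scheme.Hom.comp_apply, sq.isoPullback_hom_fst]
    rw [hpt, key _ rfl]
    simp
  · rw [Set.indicator_of_notMem (show x ∉ ({g (genericPoint ↥X)} : Set _) from hx)]
    split_ifs with h
    · rw [Set.indicator_of_notMem, zero_mul]
      intro hmx
      obtain ⟨z, hz, -⟩ := Scheme.Pullback.exists_preimage_pullback (f := m) (g := pullback.diagonal f) x (genericPoint ↥X) hmx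
      obtain ⟨t, rfl⟩ := sq.isoPullback.hom.surjective z
      have hxt : x = g t := by rw [← hz, ← Scheme.Hom.comp_apply, sq.isoPullback_hom_fst]
      refine hx (hxt.trans (congrArg _ (hfib t ((pullback.diagonal f).isEmbedding.injective ?_))))
      rw [← Scheme.Hom.comp_apply, ← sq.w, Scheme.Hom.comp_apply, ← hxt]
      exact hmx
    · rfl

end Groth.Agent.S19419
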