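import Groth.Statements.S1942
import Groth.Agent.H23.CapSheaf
import Groth.Agent.H23.GysinFun
import Groth.Agent.H23.C1Cycle
-- import your own Groth.Agent.* helpers here

set_option autoImplicit false
universe u
open CategoryTheory AlgebraicGeometry
open CategoryTheory.Limits
open Cyc

namespace Groth.Agent.S1942

/-- Let (L, s, i : D → X) be an invertible module, a global section and its zero scheme, and F a
coherent O_X-module with δ ≤ k + 1 on its support such that s : F → F ⊗ L is injective (at each
point, writing s = f·t on a generator t of L_x, multiplication by f is injective on F_x). Then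
i^*[F]_{k+1} ∼_rat [i^*F]_k as k-cycles on D. Here i : D → X is the zero scheme of a global section
s of the invertible module L (Cyc.IsZeroSchemeOf), the Gysin map i^* : Z_{k+1}(X) → CH_k(D) is
computed on coefficient functions as c_1(L) ∩ − with the rational sections taken to be s where it is
nonzero (Cyc.gysinChoice) and restricted to the points of D, and classes on D are compared up to
rational equivalence on D for the restricted dimension function. Here a pair (X, δ) satisfying
Cyc.IsSetup (X locally Noetherian with universally catenary local rings, δ a dimension function)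
plays the role of a scheme locally of finite type over a fixed base equipped with a dimension
function. -/
theorem result (X D : Scheme.{u}) (δ : X → ℤ) (hX : Cyc.IsSetup X δ) (L : X.Modules) (hL : PicF.IsInvertible L) (s : L.presheaf.obj (Opposite.op ⊤)) (i : D ⟶ X) [IsClosedImmersion i] (hD : Cyc.IsZeroSchemeOf i L s) (k : ℤ) (F : X.Modules) (hF : Coh.IsCoh F) (hdim : ∀ x : X, Nontrivial (F.presheaf.stalk x) → δ x ≤ k + 1) (hreg : ∀ (x : X) (t : L.presheaf.stalk x) (f : X.presheaf.stalk x), Submodule.span (X.presheaf.stalk x) {t} = ⊤ → (L.presheaf.germ ⊤ x trivial) s = f • t → Function.Injective (fun m : F.presheaf.stalk x => f • m)) (w : (ξ : X) → Cyc.secFibre L ξ) (hw : ∀ ξ, w ξ ≠ 0) (γ : AlgebraicCycle D ℤ) (hγ : ∀ d, γ d = Cyc.c1CapFun δ L (Cyc.sheafFun δ (k + 1) F) (Cyc.gysinChoice L s w) (i d)) (ζ : AlgebraicCycle D ℤ) (hζ : ⇑ζ = Cyc.sheafFun (fun d => δ (i d)) k ((Scheme.Modules.pullback i).obj F)) : Cyc.RatEquiv (fun d => δ (i d)) k γ ζ := by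
  
  classical
  haveI := hX.1
  have h0 : γ - ζ = 0 := by
    ext d
    show γ d - ζ d = 0
    rw [sub_eq_zero, hγ, hζ]
    obtain ⟨t, f, ht, hst, hker⟩ := hD.2 d
    simp only [Cyc.sheafFun]
    by_cases hd : δ (i d) = k
    · rw [if_pos hd, H23.CapSheaf.length_stalk_pullback_closed i F d hker]
      haveI := QCoh.finite_stalk_of_isFT hF.1 hF.2 (i d)
      refine H23.CapLocal.c1CapFun_gysin_eq hX.2.2 hL w (fun ξ h => if_neg h) hd ht hst (hreg _ t f ht hst) ?_ ?_
      · intro ξ h hm
        refine hdim ξ (not_subsingleton_iff_nontrivial.1 fun hs => ?_)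
        haveI := Module.mem_support_iff.1 hm
        have := H23.CapSheaf.length_stalk_eq hF.1 h
        rw [Module.length_eq_zero (M := F.presheaf.stalk ξ), Module.length_eq_zero_iff] at this
        exact not_subsingleton _ this
      · intro ξ h hk
        rw [if_pos hk, H23.CapSheaf.length_stalk_eq hF.1 h]
    · rw [if_neg hd]
      refine finsum_eq_zero_of_forall_eq_zero fun ξ => ?_
      by_cases hk : δ ξ = k + 1
      · rw [Cyc.secDivFun, dif_neg (fun hh => hd ?_), mul_zero]
        obtain ⟨-, hh⟩ := hh
        omega
      · simp only [Cyc.sheafFun, if_neg hk, zero_mul]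
  show Cyc.RatEquivZero _ k (γ - ζ)
  rw [h0]
  refine ⟨PEmpty, PEmpty.elim, fun i => i.elim, fun i => i.elim, fun i => i.elim,
    fun x => ⟨Set.univ, isOpen_univ, trivial, Set.toFinite _⟩, fun x => ?_⟩
  rw [finsum_of_isEmpty]
  rfl

end Groth.Agent.S1942
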