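import Groth.Statements.S19420
import Groth.Agent.FormsSLLib.Singular
import Groth.Agent.S12559
-- import your own Groth.Agent.* helpers here

set_option autoImplicit false
universe u
open TensorProduct LaurentPolynomial
open GIT

namespace Groth.Agent.S19420

open Groth.Agent.FormsSLLib Groth.Agent.SmoothFormLib MvPolynomial
open scoped Groth.Agent.FormsSLLib
set_option maxHeartbeats 1000000

/-- Let k be an algebraically closed field of characteristic zero and let SL_3 act by substitution on
ternary cubic forms, the point a having the form F = Σ_m (3; m) a_m x^m. Then a is semistable (some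
invariant homogeneous polynomial of positive degree in the coefficients is non-zero at a) if and
only if at every non-zero vector w where all first partial derivatives of F vanish, the matrix of
second partial derivatives of F at w has rank 2: every singular point of the plane cubic F = 0 is a
double point with two distinct tangent lines. (The published statement assumes only that the
characteristic of k is neither 2 nor 3; it is stated here in characteristic zero.) -/
theorem result (k : Type u) [Field k] [IsAlgClosed k] [CharZero k]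
    (a : CoordGrp.FormIdx 3 3 → k) :
    @GLin.IsSemistableVec k _ (CoordGrp.SLn 3 k) _ _ (CoordGrp.FormIdx 3 3) (GLin.comodAlong ((CoordGrp.SLn.mkHom 3 k).comp (CoordGrp.Mat.toGLn 3 k)) (CoordGrp.formsCoact k 3 3))
      (GLin.isCoactAlg_comodAlong ((CoordGrp.SLn.mkHom 3 k).comp (CoordGrp.Mat.toGLn 3 k)) (CoordGrp.formsCoact k 3 3)
        (CoordGrp.formsCoact_isCoactAlg k 3 3))
      a ↔
      ∀ w : Fin 3 → k, w ≠ 0 →
        (∀ i : Fin 3, MvPolynomial.eval w (MvPolynomial.pderiv i (CoordGrp.formPoly a)) = 0) →
          (Matrix.of fun i j : Fin 3 =>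
            MvPolynomial.eval w (MvPolynomial.pderiv i (MvPolynomial.pderiv j (CoordGrp.formPoly a)))).rank = 2 := by
  classical
  have hF := isHomogeneous_formPoly a
  have hwt : ∀ (F : MvPolynomial (Fin 3) k), F.IsHomogeneous 3 → ∀ α, coeff α F ≠ 0 → ∑ i, α i = 3 := by
    intro F hF α hα
    simpa [Finsupp.weight_apply, Finsupp.sum_fintype] using hF hα
  constructor
  · intro hss w hw hgw
    by_contra hrank
    apply hss
    obtain ⟨M₁, hM₁, c₁, hc₁, hcol₁⟩ := exists_frame (n := 3) (m := 1) (by norm_num) ![w]
      (by rw [linearIndependent_unique_iff]; simpa using hw) (by norm_num)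
    have hM₁e : M₁.mulVec (Pi.single 0 1) = c₁ • w := by simpa using hcol₁ 0
    let H := hess (CoordGrp.formPoly a) (c₁ • w)
    have hHw : H.mulVec (c₁ • w) = 0 := by
      have h0 : (hess (linSub M₁ (CoordGrp.formPoly a)) (Pi.single 0 1)).mulVec (Pi.single 0 1) = 0 := by
        rw [Matrix.mulVec_single_one]
        funext i
        show hess (linSub M₁ (CoordGrp.formPoly a)) (Pi.single 0 1) i 0 = 0
        rw [hess_e0_iff (isHomogeneous_linSub M₁ hF)]
        have h1 : eval (Pi.single 0 1) (pderiv i (linSub M₁ (CoordGrp.formPoly a))) = 0 := by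
          rw [grad_linSub, hM₁e]
          exact Finset.sum_eq_zero fun b _ => by rw [grad_smul_eq_zero hF w c₁ hgw b, zero_mul]
        rw [grad_e0_iff (isHomogeneous_linSub M₁ hF)] at h1
        convert h1 using 2
        ext l; fin_cases l <;> fin_cases i <;> simp
      rw [hess_linSub, hM₁e, ← Matrix.mulVec_mulVec, hM₁e, ← Matrix.mulVec_mulVec] at h0
      have hu : IsUnit M₁.transpose := (Matrix.isUnit_iff_isUnit_det M₁.transpose).mpr
        (by rw [Matrix.det_transpose, hM₁]; exact isUnit_one)
      exact Matrix.mulVec_injective_iff_isUnit.mpr hu (h0.trans (Matrix.mulVec_zero M₁.transpose).symm)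
    have hcw : c₁ • w ≠ 0 := smul_ne_zero hc₁ hw
    have hH2 : H.rank ≤ 2 := by
      by_contra h3
      have hu : H.rank = 3 := le_antisymm (Matrix.rank_le_card_width H |>.trans (by simp)) (by omega)
      refine hcw ?_
      by_contra hne
      have hker : (LinearMap.ker H.mulVecLin) = ⊥ := by
        have h2 := LinearMap.finrank_range_add_finrank_ker H.mulVecLin
        rw [Module.finrank_fintype_fun_eq_card, Fintype.card_fin,
          show Module.finrank k (LinearMap.range H.mulVecLin) = 3 from hu] at h2
        exact Submodule.finrank_eq_zero.mp (by omega)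
      exact hne ((Submodule.eq_bot_iff _).mp hker _ hHw)
    have hH1 : H.rank ≤ 1 := by
      have hne : H.rank ≠ 2 := by
        intro e
        apply hrank
        rw [← e]
        show (hess (CoordGrp.formPoly a) w).rank = (hess (CoordGrp.formPoly a) (c₁ • w)).rank
        have hs : hess (CoordGrp.formPoly a) (c₁ • w) = hess (CoordGrp.formPoly a) w * Matrix.diagonal (fun _ => c₁) := by
          ext i j
          rw [Matrix.mul_diagonal]
          show eval (c₁ • w) (pderiv i (pderiv j _)) = eval w (pderiv i (pderiv j _)) * c₁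
          rw [grad_smul_eq_zero.eval_smul w c₁ (isHomogeneous_pderiv (isHomogeneous_pderiv hF j) i), pow_one, mul_comm]
        rw [hs, Matrix.rank_mul_eq_left_of_isUnit_det _ _ (by simp [Matrix.det_diagonal, hc₁])]
      omega
    obtain ⟨v, hv, hHv⟩ := exists_kernel_vector H (c₁ • w) hcw (by omega)
    obtain ⟨M, hM, c, hc0, hcol⟩ := exists_frame (n := 3) (m := 2) (by norm_num) ![c₁ • w, v] hv (by norm_num)
    have hMe : M.mulVec (Pi.single 0 1) = c • c₁ • w := by simpa using hcol 0
    have hMe1 : M.mulVec (Pi.single 1 1) = c • v := by simpa using hcol 1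
    have hhom := isHomogeneous_linSub M hF
    have hgrad : ∀ j : Fin 3, coeff (Finsupp.single 0 2 + Finsupp.single j 1) (linSub M (CoordGrp.formPoly a)) = 0 := by
      intro j
      rw [← grad_e0_iff hhom, grad_linSub, hMe]
      exact Finset.sum_eq_zero fun i _ => by
        rw [smul_smul, grad_smul_eq_zero hF w (c * c₁) hgw i, zero_mul]
    have hhess : ∀ i : Fin 3, coeff (Finsupp.single 0 1 + Finsupp.single i 1 + Finsupp.single 1 1) (linSub M (CoordGrp.formPoly a)) = 0 := by
      intro i
      rw [← hess_e0_iff hhom]
      have hsc : hess (CoordGrp.formPoly a) (c • c₁ • w) = c • H := by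
        ext i j
        show eval (c • c₁ • w) (pderiv i (pderiv j _)) = c * eval (c₁ • w) (pderiv i (pderiv j _))
        rw [grad_smul_eq_zero.eval_smul (c₁ • w) c (isHomogeneous_pderiv (isHomogeneous_pderiv hF j) i), pow_one]
      have h1 : (hess (linSub M (CoordGrp.formPoly a)) (Pi.single 0 1)).mulVec (Pi.single 1 1) = 0 := by
        rw [hess_linSub, hMe, ← Matrix.mulVec_mulVec, hMe1, ← Matrix.mulVec_mulVec, hsc, Matrix.smul_mulVec,
          Matrix.mulVec_smul, Matrix.mulVec_smul, hHv, smul_zero, Matrix.mulVec_zero, smul_zero]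
      rw [Matrix.mulVec_single_one] at h1
      exact congrFun h1 i
    refine isNullform_of_weights factorial_ne_zero a ![-3, 1, 2] (by simp [Fin.sum_univ_three]) M hM ?_
    intro α hα
    have hd := hwt _ hhom α hα
    rw [Fin.sum_univ_three] at hd
    by_contra hneg
    simp only [wt, Fin.sum_univ_three, Matrix.cons_val] at hneg
    apply hα
    rcases (show (α 0 = 3 ∧ α 1 = 0 ∧ α 2 = 0) ∨ (α 0 = 2 ∧ α 1 = 1 ∧ α 2 = 0) ∨ (α 0 = 2 ∧ α 1 = 0 ∧ α 2 = 1) ∨
        (α 0 = 1 ∧ α 1 = 2 ∧ α 2 = 0) ∨ (α 0 = 1 ∧ α 1 = 1 ∧ α 2 = 1) by omega) with h | h | h | h | h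
    · rw [show α = Finsupp.single 0 2 + Finsupp.single 0 1 by ext i; fin_cases i <;> simp [h]]; exact hgrad 0
    · rw [show α = Finsupp.single 0 2 + Finsupp.single 1 1 by ext i; fin_cases i <;> simp [h]]; exact hgrad 1
    · rw [show α = Finsupp.single 0 2 + Finsupp.single 2 1 by ext i; fin_cases i <;> simp [h]]; exact hgrad 2
    · rw [show α = Finsupp.single 0 1 + Finsupp.single 1 1 + Finsupp.single 1 1 by ext i; fin_cases i <;> simp [h]]; exact hhess 1
    · rw [show α = Finsupp.single 0 1 + Finsupp.single 2 1 + Finsupp.single 1 1 by ext i; fin_cases i <;> simp [h]]; exact hhess 2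
  · intro hsing
    refine isSemistableVec_of_additive (Groth.Agent.S12559.result k 3) a fun Ω _ _ _ G _ _ _ P y hP hy hsum hz => ?_
    have h01 : y 1 ≤ y 0 := hy (by decide)
    have h12 : y 2 ≤ y 1 := hy (by decide)
    rw [Fin.sum_univ_three] at hsum
    let e : ℕ → ℕ → ℕ → (Fin 3 →₀ ℕ) := fun i j l => Finsupp.single 0 i + Finsupp.single 1 j + Finsupp.single 2 l
    have hw : ∀ i j l : ℕ, 0 ≤ i • y 0 + j • y 1 + l • y 2 →
        coeff (e i j l) (linSub P (MvPolynomial.map (algebraMap k Ω) (CoordGrp.formPoly a))) = 0 :=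
      fun i j l h => hz _ (by rw [Fin.sum_univ_three]; simpa [e] using h)
    obtain ⟨M, hM, hMS⟩ := exists_matrix_of_extension (k := k) (n := 3) (by norm_num) hF
      {e 3 0 0, e 2 1 0, e 2 0 1, e 1 2 0, e 1 1 1} P hP (fun α hα => by
        simp only [Finset.mem_insert, Finset.mem_singleton] at hα
        rcases hα with rfl | rfl | rfl | rfl | rfl
        · exact hw 3 0 0 (by grind)
        · exact hw 2 1 0 (by grind)
        · exact hw 2 0 1 (by grind)
        · exact hw 1 2 0 (by grind)
        · exact hw 1 1 1 (by grind))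
    have hM' := (Matrix.isUnit_iff_isUnit_det M).mpr (hM ▸ isUnit_one)
    have hhom := isHomogeneous_linSub M hF
    have hg : ∀ i, eval (M.mulVec (Pi.single 0 1)) (pderiv i (CoordGrp.formPoly a)) = 0 := by
      let u : Fin 3 → k := fun i => eval (M.mulVec (Pi.single 0 1)) (pderiv i (CoordGrp.formPoly a))
      have hu : Matrix.vecMul u M = Matrix.vecMul 0 M := by
        rw [Matrix.zero_vecMul]
        funext j
        refine (grad_linSub M _ _ j).symm.trans ((grad_e0_iff hhom j).mpr (hMS _ ?_))
        fin_cases j
        · simp [e, ← Finsupp.single_add]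
        · simp [e]
        · simp [e]
      exact congrFun (Matrix.vecMul_injective_iff_isUnit.mpr hM' hu)
    have h2 := hsing _ (fun h0 => by
      have := Matrix.mulVec_injective_iff_isUnit.mpr hM' (h0.trans (Matrix.mulVec_zero M).symm)
      simpa using congrFun this 0) hg
    have hr := rank_hess_linSub M hM (CoordGrp.formPoly a) (Pi.single 0 1)
    rw [show (hess (CoordGrp.formPoly a) (M.mulVec (Pi.single 0 1))).rank = 2 from h2] at hr
    have hle : (hess (linSub M (CoordGrp.formPoly a)) (Pi.single 0 1)).rank ≤ 1 := by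
      set H := hess (linSub M (CoordGrp.formPoly a)) (Pi.single 0 1)
      have hz' : ∀ i j : Fin 3, ¬ (i = 2 ∧ j = 2) → H i j = 0 := fun i j hij => by
        refine (hess_e0_iff hhom i j).mpr (hMS _ ?_)
        fin_cases i <;> fin_cases j <;>
          first
            | exact absurd ⟨rfl, rfl⟩ hij
            | (simp only [e, Finset.mem_insert, Finset.mem_singleton]; simp [Finsupp.ext_iff, Fin.forall_fin_succ])
      rw [show H = (Matrix.of fun i (_ : Fin 1) => if i = 2 then H 2 2 else 0) * (Matrix.of fun (_ : Fin 1) j => if j = 2 then (1 : k) else 0) by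
        ext i j
        rw [Matrix.mul_apply, Fin.sum_univ_one]
        by_cases hi : i = 2 <;> by_cases hj : j = 2
        · subst hi; subst hj; simp
        · subst hi; simpa [hj] using hz' 2 j (fun h => hj h.2)
        · subst hj; simpa [hi] using hz' i 2 (fun h => hi h.1)
        · simpa [hi, hj] using hz' i j (fun h => hj h.2)]
      exact (Matrix.rank_mul_le_left _ _).trans (Matrix.rank_le_card_width _ |>.trans (by simp))
    omega

end Groth.Agent.S19420
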