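import Groth.Statements.S19421
import Groth.Agent.FormsSLLib.Singular
import Groth.Agent.S12548
-- import your own Groth.Agent.* helpers here

set_option autoImplicit false
universe u
open TensorProduct LaurentPolynomial
open GIT

namespace Groth.Agent.S19421

open Groth.Agent.FormsSLLib Groth.Agent.SmoothFormLib MvPolynomial
open scoped Groth.Agent.FormsSLLib

/-- Let k be an algebraically closed field of characteristic zero and let SL_3 act by substitution on
ternary cubic forms, the point a having the form F = Σ_m (3; m) a_m x^m. Then a is stable (its orbit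
is closed and its stabiliser finite) if and only if the plane cubic curve F = 0 is smooth: at every
non-zero vector some first partial derivative of F is non-zero. (The published statement assumes
only that the characteristic of k is neither 2 nor 3; it is stated here in characteristic zero.) -/
theorem result (k : Type u) [Field k] [IsAlgClosed k] [CharZero k]
    (a : CoordGrp.FormIdx 3 3 → k) :
    @GLin.IsStableVec k _ (CoordGrp.SLn 3 k) _ _ (CoordGrp.FormIdx 3 3) (GLin.comodAlong ((CoordGrp.SLn.mkHom 3 k).comp (CoordGrp.Mat.toGLn 3 k)) (CoordGrp.formsCoact k 3 3))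
      (GLin.isCoactAlg_comodAlong ((CoordGrp.SLn.mkHom 3 k).comp (CoordGrp.Mat.toGLn 3 k)) (CoordGrp.formsCoact k 3 3)
        (CoordGrp.formsCoact_isCoactAlg k 3 3))
      a ↔
      ∀ w : Fin 3 → k, w ≠ 0 →
        ∃ i : Fin 3, MvPolynomial.eval w (MvPolynomial.pderiv i (CoordGrp.formPoly a)) ≠ 0 := by
  classical
  refine ⟨fun hst w hw => ?_, fun h => Groth.Agent.S12548.result k 2 3 le_rfl a h⟩
  by_contra hc
  push Not at hc
  have hwt : ∀ (F : MvPolynomial (Fin 3) k), F.IsHomogeneous 3 → ∀ α, coeff α F ≠ 0 → ∑ i, α i = 3 := by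
    intro F hF α hα
    simpa [Finsupp.weight_apply, Finsupp.sum_fintype] using hF hα
  obtain ⟨M, hM, c, hc0, hcol⟩ := exists_frame (n := 3) (m := 1) (by norm_num) ![w]
    (by rw [linearIndependent_unique_iff]; simpa using hw) (by norm_num)
  have hMe : M.mulVec (Pi.single 0 1) = c • w := by simpa using hcol 0
  have hhom := isHomogeneous_linSub M (isHomogeneous_formPoly a)
  have hgrad : ∀ j : Fin 3, coeff (Finsupp.single 0 2 + Finsupp.single j 1) (linSub M (CoordGrp.formPoly a)) = 0 := by
    intro j
    rw [← grad_e0_iff hhom, grad_linSub, hMe]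
    exact Finset.sum_eq_zero fun i _ => by rw [grad_smul_eq_zero (isHomogeneous_formPoly a) w c hc i, zero_mul]
  refine not_isStableVec_of_weights factorial_ne_zero a ![-2, 1, 1] (by simp [Fin.sum_univ_three]) (fun h0 => ?_) M hM ?_ hst
  · have := congrFun h0 0; simp at this
  · intro α hα
    have hd := hwt _ hhom α hα
    rw [Fin.sum_univ_three] at hd
    by_contra hneg
    simp only [wt, Fin.sum_univ_three, Matrix.cons_val] at hneg
    apply hα
    obtain ⟨j, rfl⟩ : ∃ j, α = Finsupp.single 0 2 + Finsupp.single j 1 := by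
      rcases (show (α 0 = 3 ∧ α 1 = 0 ∧ α 2 = 0) ∨ (α 0 = 2 ∧ α 1 = 1 ∧ α 2 = 0) ∨ (α 0 = 2 ∧ α 1 = 0 ∧ α 2 = 1) by omega)
        with h | h | h
      exacts [⟨0, by ext i; fin_cases i <;> simp [h]⟩, ⟨1, by ext i; fin_cases i <;> simp [h]⟩,
        ⟨2, by ext i; fin_cases i <;> simp [h]⟩]
    exact hgrad j

end Groth.Agent.S19421
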