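import Groth.Statements.S19422
import Mathlib.Algebra.Polynomial.Laurent
import Mathlib.RingTheory.MvPolynomial.Homogeneous
-- import your own Groth.Agent.* helpers here

set_option autoImplicit false
universe u
open TensorProduct LaurentPolynomial
open GIT

namespace Groth.Agent.S19422

open TensorProduct

/-- The coefficient of `T^w`. -/
noncomputable def coeffAt (k : Type u) [Field k] (w : ℤ) : k[T;T⁻¹] →ₗ[k] k :=
  (Finsupp.lapply w).comp (AddMonoidAlgebra.coeffLinearEquiv k).toLinearMap

theorem coeffAt_T (k : Type u) [Field k] (w n : ℤ) : coeffAt k w (T n) = if n = w then 1 else 0 := by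
  show (AddMonoidAlgebra.coeff (AddMonoidAlgebra.single n (1:k))) w = _
  rw [AddMonoidAlgebra.coeff_single, Finsupp.single_apply]

/-- Over an algebraically closed field k, let the multiplicative group, whose coordinate Hopf algebra is
the Laurent polynomial ring, act diagonally on affine ι-space, ι finite: the coaction on the
polynomial ring is multiplicative and sends the coordinate function X_i to X_i ⊗ T^(r_i) for
integers r_i. Then a vector v is semistable (some invariant homogeneous polynomial of positive
degree does not vanish at v) if and only if there are indices i and j, possibly equal, with v_i ≠ 0,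
v_j ≠ 0 and r_i ≤ 0 ≤ r_j, i.e. the origin lies in the convex hull of the weights of v. (Stated for
the ambient projective space on its affine cone; the published statement is for a point of a closed
invariant subvariety, whose semistability is that of the point in the ambient space.) -/
theorem result (k : Type u) [Field k] [IsAlgClosed k]
    (ι : Type u) [Fintype ι] [HopfRep.Comod k k[T;T⁻¹] (MvPolynomial ι k)] [GLin.IsCoactAlg k k[T;T⁻¹] (MvPolynomial ι k)]
    (r : ι → ℤ)
    (hr : ∀ i : ι, HopfRep.Comod.coact (k := k) (A := k[T;T⁻¹]) (MvPolynomial.X i : MvPolynomial ι k) =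
      (MvPolynomial.X i : MvPolynomial ι k) ⊗ₜ[k] (T (r i) : k[T;T⁻¹]))
    (v : ι → k) :
    GLin.IsSemistableVec k k[T;T⁻¹] v ↔ ∃ i j : ι, v i ≠ 0 ∧ v j ≠ 0 ∧ r i ≤ 0 ∧ 0 ≤ r j := by
  classical
  have hmon : ∀ e : ι →₀ ℕ, HopfRep.Comod.coact (k := k) (A := k[T;T⁻¹]) (MvPolynomial.monomial e (1 : k)) =
      MvPolynomial.monomial e (1 : k) ⊗ₜ[k] (T (∑ i, (e i : ℤ) * r i) : k[T;T⁻¹]) := by
    intro e
    induction e using Finsupp.induction with
    | zero =>
      simp only [MvPolynomial.monomial_zero', map_one, Finsupp.coe_zero, Pi.zero_apply, Nat.cast_zero, zero_mul,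
        Finset.sum_const_zero, LaurentPolynomial.T_zero]
      exact GLin.IsCoactAlg.coact_one
    | single_add i m e _ _ ih =>
      have hX : ∀ m : ℕ, HopfRep.Comod.coact (k := k) (A := k[T;T⁻¹]) ((MvPolynomial.X i : MvPolynomial ι k) ^ m) =
          (MvPolynomial.X i ^ m) ⊗ₜ[k] (T ((m : ℤ) * r i) : k[T;T⁻¹]) := by
        intro m
        induction m with
        | zero => rw [pow_zero, Nat.cast_zero, zero_mul, LaurentPolynomial.T_zero]; exact GLin.IsCoactAlg.coact_one
        | succ m ih =>
          rw [pow_succ, GLin.IsCoactAlg.coact_mul, ih, hr, Algebra.TensorProduct.tmul_mul_tmul, ← LaurentPolynomial.T_add]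
          congr 2
          push_cast; ring
      rw [← one_mul (1 : k), ← MvPolynomial.monomial_mul, ← MvPolynomial.X_pow_eq_monomial, GLin.IsCoactAlg.coact_mul, hX, ih,
        Algebra.TensorProduct.tmul_mul_tmul, ← LaurentPolynomial.T_add]
      congr 2
      have hs : (∑ l, ((Finsupp.single i m) l : ℤ) * r l) = (m : ℤ) * r i := by
        rw [Finset.sum_eq_single i]
        · simp
        · intro j _ hj; simp [Ne.symm hj]
        · intro h; exact absurd (Finset.mem_univ _) h
      simp only [Finsupp.add_apply, Nat.cast_add, add_mul, Finset.sum_add_distrib, hs]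
  constructor
  · intro h
    rw [GLin.IsSemistableVec, GLin.IsNullform] at h
    push Not at h
    obtain ⟨F, hF, d, hd, hhom, hne⟩ := h
    rw [MvPolynomial.eval_eq'] at hne
    obtain ⟨e, he, hte⟩ := Finset.exists_ne_zero_of_sum_ne_zero hne
    have hv : ∀ i, e i ≠ 0 → v i ≠ 0 := by
      intro i hi hvi
      apply hte
      rw [Finset.prod_eq_zero (Finset.mem_univ i) (by rw [hvi, zero_pow hi]), mul_zero]
    have hw : ∑ i, (e i : ℤ) * r i = 0 := by
      by_contra hne0
      let φ : MvPolynomial ι k ⊗[k] k[T;T⁻¹] →ₗ[k] k :=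
        LinearMap.mul' k k ∘ₗ TensorProduct.map (MvPolynomial.lcoeff k e) (coeffAt k (∑ i, (e i : ℤ) * r i))
      have h1 : φ (HopfRep.Comod.coact (k := k) (A := k[T;T⁻¹]) F) = MvPolynomial.coeff e F := by
        conv_lhs => rw [F.as_sum, map_sum, map_sum]
        have hsm : ∀ (e' : ι →₀ ℕ) (c : k), MvPolynomial.monomial e' c = c • MvPolynomial.monomial e' 1 := fun e' c => by
          rw [MvPolynomial.smul_monomial]; simp
        rw [Finset.sum_eq_single e]
        · rw [hsm, map_smul, hmon e, map_smul]
          simp [φ, coeffAt_T]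
        · intro e' _ he'
          rw [hsm, map_smul, hmon e', map_smul]
          simp [φ, he']
        · intro h; exact absurd he h
      rw [show HopfRep.Comod.coact (k := k) (A := k[T;T⁻¹]) F = F ⊗ₜ[k] (1 : k[T;T⁻¹]) from hF, ← LaurentPolynomial.T_zero] at h1
      have hc0 : coeffAt k (∑ i, (e i : ℤ) * r i) (1 : k[T;T⁻¹]) = 0 := by
        rw [← LaurentPolynomial.T_zero, coeffAt_T, if_neg (Ne.symm hne0)]
      simp [φ, hc0] at h1
      exact (MvPolynomial.mem_support_iff.mp he) h1.symm
    obtain ⟨i0, hi0⟩ : ∃ i, e i ≠ 0 := by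
      by_contra hall
      push Not at hall
      have h0 : e = 0 := Finsupp.ext hall
      have := hhom (MvPolynomial.mem_support_iff.mp he)
      rw [h0] at this
      simp at this
      omega
    have hneg : ∃ i, e i ≠ 0 ∧ r i ≤ 0 := by
      by_contra hall
      push Not at hall
      have : (0 : ℤ) < ∑ i, (e i : ℤ) * r i := Finset.sum_pos' (fun i _ => by
        rcases eq_or_ne (e i) 0 with h | h
        · simp [h]
        · exact mul_nonneg (by positivity) (hall i h).le)
        ⟨i0, Finset.mem_univ _, mul_pos (by exact_mod_cast Nat.pos_of_ne_zero hi0) (hall i0 hi0)⟩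
      omega
    have hpos : ∃ j, e j ≠ 0 ∧ 0 ≤ r j := by
      by_contra hall
      push Not at hall
      have : ∑ i, (e i : ℤ) * r i < 0 := Finset.sum_neg' (fun i _ => by
        rcases eq_or_ne (e i) 0 with h | h
        · simp [h]
        · exact mul_nonpos_of_nonneg_of_nonpos (by positivity) (hall i h).le)
        ⟨i0, Finset.mem_univ _, mul_neg_of_pos_of_neg (by exact_mod_cast Nat.pos_of_ne_zero hi0) (hall i0 hi0)⟩
      omega
    obtain ⟨i, hi, hri⟩ := hneg
    obtain ⟨j, hj, hrj⟩ := hpos
    exact ⟨i, j, hv i hi, hv j hj, hri, hrj⟩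
  · rintro ⟨i, j, hvi, hvj, hri, hrj⟩ hnull
    obtain ⟨e, he0, hew, hev⟩ : ∃ e : ι →₀ ℕ, e.degree ≠ 0 ∧ (∑ l, (e l : ℤ) * r l) = 0 ∧
        (∀ l, e l ≠ 0 → v l ≠ 0) := by
      rcases eq_or_ne (r i) 0 with h | h
      · refine ⟨Finsupp.single i 1, by simp, ?_, fun l hl => ?_⟩
        · simp [Finsupp.single_apply, h]
        · rw [Finsupp.single_apply] at hl
          split at hl
          · next h' => exact h' ▸ hvi
          · exact absurd rfl hl
      · rcases eq_or_ne (r j) 0 with h' | h'
        · refine ⟨Finsupp.single j 1, by simp, ?_, fun l hl => ?_⟩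
          · simp [Finsupp.single_apply, h']
          · rw [Finsupp.single_apply] at hl
            split at hl
            · next h'' => exact h'' ▸ hvj
            · exact absurd rfl hl
        · have hij : i ≠ j := fun hh => by subst hh; omega
          refine ⟨Finsupp.single i (r j).toNat + Finsupp.single j (-r i).toNat, ?_, ?_, fun l hl => ?_⟩
          · simp only [map_add, Finsupp.degree_single]; omega
          · have hsingle : ∀ (t : ι) (m : ℕ), (∑ l, ((Finsupp.single t m) l : ℤ) * r l) = (m : ℤ) * r t := fun t m => by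
              rw [Finset.sum_eq_single t]
              · simp
              · intro l _ hl; simp [Ne.symm hl]
              · intro hh; exact absurd (Finset.mem_univ _) hh
            simp only [Finsupp.add_apply, Nat.cast_add, add_mul, Finset.sum_add_distrib, hsingle]
            rw [Int.toNat_of_nonneg hrj, Int.toNat_of_nonneg (by omega)]
            ring
          · by_contra hvl
            simp only [Finsupp.add_apply, Finsupp.single_apply] at hl
            rw [if_neg (fun hh : i = l => hvi (hh ▸ hvl)), if_neg (fun hh : j = l => hvj (hh ▸ hvl))] at hl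
            exact hl rfl
    have h1 := hnull (MvPolynomial.monomial e 1) (by
      show HopfRep.Comod.coact (k := k) (A := k[T;T⁻¹]) _ = _
      rw [hmon, hew, LaurentPolynomial.T_zero]) e.degree (Nat.pos_of_ne_zero he0) (MvPolynomial.isHomogeneous_monomial _ rfl)
    rw [MvPolynomial.eval_monomial, one_mul, Finsupp.prod, Finset.prod_eq_zero_iff] at h1
    obtain ⟨l, hl, hl0⟩ := h1
    exact hev l (Finsupp.mem_support_iff.mp hl) (pow_eq_zero_iff (Finsupp.mem_support_iff.mp hl) |>.mp hl0)

end Groth.Agent.S19422
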