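import Groth.Statements.S19423
import Groth.Agent.ComodLib.StableClosed
import Mathlib.Algebra.Polynomial.Laurent
import Mathlib.RingTheory.RootsOfUnity.Basic
-- import your own Groth.Agent.* helpers here

set_option autoImplicit false
universe u
open TensorProduct LaurentPolynomial
open GIT

namespace Groth.Agent.S19423

open TensorProduct

/-- The coefficient of `T^w`. -/
noncomputable def coeffAt (k : Type u) [Field k] (w : ℤ) : k[T;T⁻¹] →ₗ[k] k :=
  (Finsupp.lapply w).comp (AddMonoidAlgebra.coeffLinearEquiv k).toLinearMap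

theorem coeffAt_T (k : Type u) [Field k] (w n : ℤ) : coeffAt k w (T n) = if n = w then 1 else 0 := by
  show (AddMonoidAlgebra.coeff (AddMonoidAlgebra.single n (1:k))) w = _
  rw [AddMonoidAlgebra.coeff_single, Finsupp.single_apply]

/-- The rational point of the multiplicative group given by a unit. -/
noncomputable def ptOf {k : Type u} [Field k] (t : kˣ) : k[T;T⁻¹] →ₐ[k] k :=
  AddMonoidAlgebra.lift k k ℤ ((Units.coeHom k).comp (zpowersHom kˣ t))

theorem ptOf_T {k : Type u} [Field k] (t : kˣ) (n : ℤ) : ptOf t (T n) = (t : k) ^ n := by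
  show AddMonoidAlgebra.lift k k ℤ ((Units.coeHom k).comp (zpowersHom kˣ t)) (AddMonoidAlgebra.single n 1) = _
  rw [AddMonoidAlgebra.lift_single, one_smul]
  simp [Units.val_zpow_eq_zpow_val]

theorem T_sum {k : Type u} [Field k] {ι : Type*} (s : Finset ι) (f : ι → ℤ) :
    ∏ l ∈ s, (T (f l) : k[T;T⁻¹]) = T (∑ l ∈ s, f l) := by
  classical
  induction s using Finset.induction with
  | empty => simp
  | insert a s ha ih => rw [Finset.prod_insert ha, Finset.sum_insert ha, ih, T_add]

theorem apply_T_ne_zero {k : Type u} [Field k] (g : k[T;T⁻¹] →ₐ[k] k) : g (T 1) ≠ 0 :=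
  (((LaurentPolynomial.isUnit_T 1).map g).ne_zero)

theorem apply_T {k : Type u} [Field k] (g : k[T;T⁻¹] →ₐ[k] k) (n : ℤ) : g (T n) = g (T 1) ^ n := by
  induction n using Int.induction_on with
  | zero => simp
  | succ m ih => rw [T_add, map_mul, ih, zpow_add₀ (apply_T_ne_zero g), zpow_one]
  | pred m ih =>
    have h : g (T (-(m : ℤ) - 1)) * g (T 1) = g (T (-(m : ℤ))) := by rw [← map_mul, ← T_add, sub_add_cancel]
    rw [zpow_sub₀ (apply_T_ne_zero g), zpow_one, ← ih, ← h, mul_div_assoc, div_self (apply_T_ne_zero g), mul_one]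

theorem exists_zpow_eq {k : Type u} [Field k] [IsAlgClosed k] (c : kˣ) {d : ℤ} (hd : d ≠ 0) : ∃ t : kˣ, t ^ d = c := by
  obtain ⟨z, hz⟩ := IsAlgClosed.exists_pow_nat_eq (k := k) (if 0 ≤ d then (c : k) else (c : k)⁻¹)
    (n := d.natAbs) (Int.natAbs_pos.mpr hd)
  have hz0 : z ≠ 0 := fun h => by
    rw [h, zero_pow (Int.natAbs_ne_zero.mpr hd)] at hz
    split at hz <;> simp [eq_comm (a := (0 : k))] at hz
  refine ⟨Units.mk0 z hz0, Units.ext ?_⟩
  rw [Units.val_zpow_eq_zpow_val, Units.val_mk0]
  split at hz
  · next h => rw [← Int.natAbs_of_nonneg h, zpow_natCast]; exact hz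
  · next h => rw [show d = -((d.natAbs : ℕ) : ℤ) by omega, zpow_neg, zpow_natCast, hz, inv_inv]

/-- Over an algebraically closed field k, let the multiplicative group, whose coordinate Hopf algebra is
the Laurent polynomial ring, act diagonally on affine ι-space, ι finite: the coaction on the
polynomial ring is multiplicative and sends the coordinate function X_i to X_i ⊗ T^(r_i) for
integers r_i. Then a vector v is stable (the orbit of the point v of affine space is closed and its
stabiliser is a finite group scheme) if and only if there are indices i and j with v_i ≠ 0, v_j ≠ 0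
and r_i < 0 < r_j, i.e. the origin is an interior point of the convex hull of the weights of v.
(Stated for the ambient projective space on its affine cone, where stability means a closed orbit
with finite stabiliser in the cone.) -/
theorem result (k : Type u) [Field k] [IsAlgClosed k]
    (ι : Type u) [Fintype ι] [HopfRep.Comod k k[T;T⁻¹] (MvPolynomial ι k)] [GLin.IsCoactAlg k k[T;T⁻¹] (MvPolynomial ι k)]
    (r : ι → ℤ)
    (hr : ∀ i : ι, HopfRep.Comod.coact (k := k) (A := k[T;T⁻¹]) (MvPolynomial.X i : MvPolynomial ι k) =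
      (MvPolynomial.X i : MvPolynomial ι k) ⊗ₜ[k] (T (r i) : k[T;T⁻¹]))
    (v : ι → k) :
    GLin.IsStableVec k k[T;T⁻¹] v ↔ ∃ i j : ι, v i ≠ 0 ∧ v j ≠ 0 ∧ r i < 0 ∧ 0 < r j := by
  classical
  set x := GLin.vecPt k ι v with hx
  have hX : ∀ l, GLin.orbitHom k k[T;T⁻¹] x (MvPolynomial.X l) = v l • T (r l) := by
    intro l
    simp [GLin.orbitHom, GLin.coactAlgHom_apply, hr, hx]
  have horb : GLin.orbitHom k k[T;T⁻¹] x = MvPolynomial.aeval fun l => v l • (T (r l) : k[T;T⁻¹]) :=
    MvPolynomial.algHom_ext fun l => by rw [hX, MvPolynomial.aeval_X]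
  have hmono : ∀ (e : ι →₀ ℕ) (c : k), GLin.orbitHom k k[T;T⁻¹] x (MvPolynomial.monomial e c) =
      (c * ∏ l, v l ^ e l) • (T (∑ l, (e l : ℤ) * r l) : k[T;T⁻¹]) := by
    intro e c
    rw [horb, MvPolynomial.aeval_monomial, Finsupp.prod_fintype _ _ (fun l => pow_zero _), ← Algebra.smul_def, ← T_sum]
    simp only [smul_pow, LaurentPolynomial.T_pow]
    rw [Finset.prod_smul, smul_smul]
  have hact : ∀ (g : k[T;T⁻¹] →ₐ[k] k) (l : ι), GLin.actPt k g x (MvPolynomial.X l) = v l * g (T 1) ^ r l := by
    intro g l
    show g (GLin.orbitHom k k[T;T⁻¹] x (MvPolynomial.X l)) = _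
    rw [hX, map_smul, smul_eq_mul, apply_T]
  show GLin.IsStablePt k k[T;T⁻¹] x ↔ _
  rw [GLin.IsStablePt, ComodLib.isClosedOrbit_iff, ComodLib.hasFiniteStab_iff]
  constructor
  · rintro ⟨hclosed, hfin⟩
    obtain ⟨l₀, hv₀, hr₀⟩ : ∃ l, v l ≠ 0 ∧ r l ≠ 0 := by
      by_contra hall
      push Not at hall
      haveI : Infinite ↥(({0} : Set k)ᶜ) := ((Set.finite_singleton (0 : k)).infinite_compl).to_subtype
      refine (Set.infinite_of_injective_forall_mem (f := fun t : ↥(({0} : Set k)ᶜ) => WithConv.toConv (ptOf (Units.mk0 t.1 t.2)))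
        ?_ ?_) hfin
      · intro a b hab
        have h := congrArg (fun g : WithConv (k[T;T⁻¹] →ₐ[k] k) => g.ofConv (T 1)) hab
        simp only [WithConv.ofConv_toConv, ptOf_T, zpow_one, Units.val_mk0] at h
        exact Subtype.ext h
      · intro t
        show GLin.actPt k (ptOf (Units.mk0 t.1 t.2)) x = x
        refine MvPolynomial.algHom_ext fun l => ?_
        rw [hact, hx, MvPolynomial.aeval_X]
        rcases eq_or_ne (v l) 0 with h | h
        · rw [h, zero_mul]
        · rw [hall l h, zpow_zero, mul_one]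
    -- if the supported weights all lie on one side, the projection to weight zero is in the closure
    have key : ∀ ε : ℤ, (ε = 1 ∨ ε = -1) → ¬ ∀ l, v l ≠ 0 → 0 ≤ ε * r l := by
      intro ε hε hside
      have hε0 : ε ≠ 0 := by omega
      let w : ι → k := fun l => if r l = 0 then v l else 0
      obtain ⟨g, hg⟩ := hclosed (MvPolynomial.aeval w) (fun f hf => by
        rw [RingHom.mem_ker] at hf ⊢
        have h0 := congrArg (coeffAt k 0) hf
        rw [map_zero, f.as_sum, map_sum, map_sum] at h0
        rw [f.as_sum, map_sum, ← h0]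
        refine Finset.sum_congr rfl fun e _ => ?_
        rw [hmono, map_smul, coeffAt_T, MvPolynomial.aeval_monomial, Finsupp.prod_fintype _ _ (fun l => pow_zero _)]
        rw [smul_eq_mul, show algebraMap k k (MvPolynomial.coeff e f) = MvPolynomial.coeff e f from rfl, mul_assoc]
        congr 1
        rcases eq_or_ne (∏ l, v l ^ e l) 0 with hz | hnz
        · rw [hz, zero_mul]
          obtain ⟨l, -, hl⟩ := Finset.prod_eq_zero_iff.mp hz
          obtain ⟨hvl, hel⟩ := pow_eq_zero_iff'.mp hl
          exact Finset.prod_eq_zero (Finset.mem_univ l) (by simp [w, hvl, hel])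
        · have hsupp : ∀ l, e l ≠ 0 → v l ≠ 0 := fun l hel hvl =>
            hnz (Finset.prod_eq_zero (Finset.mem_univ l) (by rw [hvl, zero_pow hel]))
          by_cases hz : ∀ l, e l ≠ 0 → r l = 0
          · rw [if_pos (Finset.sum_eq_zero fun l _ => by
              rcases eq_or_ne (e l) 0 with h | h
              · rw [h, Nat.cast_zero, zero_mul]
              · rw [hz l h, mul_zero]), mul_one]
            refine Finset.prod_congr rfl fun l _ => ?_
            rcases eq_or_ne (e l) 0 with h | h
            · rw [h, pow_zero, pow_zero]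
            · simp [w, hz l h]
          · push Not at hz
            obtain ⟨l, hel, hrl⟩ := hz
            have hpos : 0 < ∑ m, (e m : ℤ) * (ε * r m) := Finset.sum_pos' (fun m _ => by
                rcases eq_or_ne (e m) 0 with h | h
                · simp [h]
                · exact mul_nonneg (by positivity) (hside m (hsupp m h)))
              ⟨l, Finset.mem_univ _, mul_pos (by exact_mod_cast Nat.pos_of_ne_zero hel)
                (lt_of_le_of_ne (hside l (hsupp l hel)) (Ne.symm (mul_ne_zero hε0 hrl)))⟩
            have hne : ∑ m, (e m : ℤ) * r m ≠ 0 := fun h => by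
              rw [show (∑ m, (e m : ℤ) * (ε * r m)) = ε * ∑ m, (e m : ℤ) * r m by
                rw [Finset.mul_sum]; exact Finset.sum_congr rfl fun m _ => by ring, h, mul_zero] at hpos
              exact lt_irrefl _ hpos
            rw [if_neg hne, mul_zero]
            exact Finset.prod_eq_zero (Finset.mem_univ l) (by simp [w, hrl, hel]))
      have h := congrArg (fun φ : MvPolynomial ι k →ₐ[k] k => φ (MvPolynomial.X l₀)) hg
      simp only [MvPolynomial.aeval_X, w, if_neg hr₀, hact] at h
      exact mul_ne_zero hv₀ (zpow_ne_zero _ (apply_T_ne_zero g)) h.symm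
    obtain ⟨i, hi, hri⟩ : ∃ l, v l ≠ 0 ∧ r l < 0 := by
      by_contra h
      push Not at h
      exact key 1 (Or.inl rfl) (by simpa using h)
    obtain ⟨j, hj, hrj⟩ : ∃ l, v l ≠ 0 ∧ 0 < r l := by
      by_contra h
      push Not at h
      exact key (-1) (Or.inr rfl) (by simpa using h)
    exact ⟨i, j, hi, hj, hri, hrj⟩
  · rintro ⟨i, j, hvi, hvj, hri, hrj⟩
    refine ⟨fun y hy => ?_, ?_⟩
    · -- a point of the closure is a translate
      set w : ι → k := fun l => y (MvPolynomial.X l) with hw
      have hyev : ∀ (e : ι →₀ ℕ) (c : k), y (MvPolynomial.monomial e c) = c * ∏ l, w l ^ e l := fun e c => by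
        rw [MvPolynomial.algHom_ext (f := y) (g := MvPolynomial.aeval w) (fun l => by rw [MvPolynomial.aeval_X]),
          MvPolynomial.aeval_monomial, Finsupp.prod_fintype _ _ (fun l => pow_zero _)]
        rfl
      have hrel : ∀ a b : ι →₀ ℕ, (∑ l, (a l : ℤ) * r l) = (∑ l, (b l : ℤ) * r l) →
          (∏ l, v l ^ b l) * (∏ l, w l ^ a l) = (∏ l, v l ^ a l) * ∏ l, w l ^ b l := by
        intro a b hab
        have h := hy (x := MvPolynomial.monomial a (∏ l, v l ^ b l) - MvPolynomial.monomial b (∏ l, v l ^ a l)) (by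
          rw [RingHom.mem_ker, map_sub, hmono, hmono, hab, mul_comm, sub_self])
        rw [RingHom.mem_ker, map_sub, hyev, hyev, sub_eq_zero] at h
        exact h
      have hzero : ∀ l, v l = 0 → w l = 0 := fun l hl => by
        have h := hy (x := MvPolynomial.X l) (by rw [RingHom.mem_ker, hX, hl, zero_smul])
        exact h
      have hsingle : ∀ (t : ι) (m : ℕ) (u : ι → k), (∏ l, u l ^ (Finsupp.single t m) l) = u t ^ m := fun t m u => by
        rw [Finset.prod_eq_single t]
        · simp
        · intro l _ hl; simp [Ne.symm hl]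
        · intro hh; exact absurd (Finset.mem_univ _) hh
      have hwsingle : ∀ (t : ι) (m : ℕ), (∑ l, ((Finsupp.single t m) l : ℤ) * r l) = (m : ℤ) * r t := fun t m => by
        rw [Finset.sum_eq_single t]
        · simp
        · intro l _ hl; simp [Ne.symm hl]
        · intro hh; exact absurd (Finset.mem_univ _) hh
      have hpair : ∀ p q, v p ≠ 0 → v q ≠ 0 → r p < 0 → 0 < r q → w p ≠ 0 ∧ w q ≠ 0 := by
        intro p q hp hq hrp hrq
        have hd : ∀ (u : ι → k) (m n : ℕ), (∏ l, u l ^ (Finsupp.single p m + Finsupp.single q n) l) = u p ^ m * u q ^ n := by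
          intro u m n
          simp only [Finsupp.add_apply, pow_add, Finset.prod_mul_distrib, hsingle]
        have h := hrel (Finsupp.single p (r q).toNat + Finsupp.single q (-r p).toNat) 0 (by
          simp only [Finsupp.add_apply, Nat.cast_add, add_mul, Finset.sum_add_distrib, hwsingle,
            Int.toNat_of_nonneg hrq.le, Int.toNat_of_nonneg (neg_nonneg.mpr hrp.le), Finsupp.coe_zero,
            Pi.zero_apply, Nat.cast_zero, zero_mul, Finset.sum_const_zero]
          ring)
        simp only [Finsupp.coe_zero, Pi.zero_apply, pow_zero, Finset.prod_const_one, one_mul, mul_one, hd] at h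
        have hne : w p ^ (r q).toNat * w q ^ (-r p).toNat ≠ 0 :=
          h ▸ mul_ne_zero (pow_ne_zero _ hp) (pow_ne_zero _ hq)
        exact ⟨fun h0 => hne (by rw [h0, zero_pow (by omega), zero_mul]),
          fun h0 => hne (by rw [h0, zero_pow (n := (-r p).toNat) (by omega), mul_zero])⟩
      have hne : ∀ l, v l ≠ 0 → w l ≠ 0 := by
        intro l hl
        rcases lt_trichotomy (r l) 0 with h | h | h
        · exact (hpair l j hl hvj h hrj).1
        · have h1 := hrel (Finsupp.single l 1) 0 (by rw [hwsingle]; simp [h])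
          simp only [Finsupp.coe_zero, Pi.zero_apply, pow_zero, Finset.prod_const_one, one_mul, mul_one, hsingle,
            pow_one] at h1
          exact h1 ▸ hl
        · exact (hpair i l hvi hl hri h).2
      let c : ι → kˣ := fun l => if hl : v l = 0 then 1 else Units.mk0 (w l / v l) (div_ne_zero (hne l hl) hl)
      have hc : ∀ a : ι → ℤ, (∀ l, v l = 0 → a l = 0) → (∑ l, a l * r l) = 0 → ∏ l, c l ^ a l = 1 := by
        intro a ha hsum
        let P : ι →₀ ℕ := Finsupp.equivFunOnFinite.symm fun l => (a l).toNat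
        let N : ι →₀ ℕ := Finsupp.equivFunOnFinite.symm fun l => (-a l).toNat
        have hPN : ∀ l, a l = (P l : ℤ) - (N l : ℤ) := fun l => by simp [P, N]
        have heq : (∑ l, (P l : ℤ) * r l) = ∑ l, (N l : ℤ) * r l := by
          rw [← sub_eq_zero, ← Finset.sum_sub_distrib, ← hsum]
          exact Finset.sum_congr rfl fun l _ => by rw [hPN, sub_mul]
        have h := hrel P N heq
        have hcv : ∀ e : ι →₀ ℕ, (∀ l, v l = 0 → e l = 0) →
            (∏ l, (c l : k) ^ e l) * ∏ l, v l ^ e l = ∏ l, w l ^ e l := by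
          intro e he
          rw [← Finset.prod_mul_distrib]
          refine Finset.prod_congr rfl fun l _ => ?_
          rcases eq_or_ne (v l) 0 with hl | hl
          · simp [he l hl]
          · rw [← mul_pow]
            simp [c, hl, div_mul_cancel₀]
        have hP : ∀ l, v l = 0 → P l = 0 := fun l hl => by simp [P, ha l hl]
        have hN : ∀ l, v l = 0 → N l = 0 := fun l hl => by simp [N, ha l hl]
        have hv0 : ∀ e : ι →₀ ℕ, (∀ l, v l = 0 → e l = 0) → ∏ l, v l ^ e l ≠ 0 := fun e he =>
          Finset.prod_ne_zero_iff.mpr fun l _ hl => by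
            obtain ⟨h1, h2⟩ := pow_eq_zero_iff'.mp hl
            exact h2 (he l h1)
        rw [← hcv P hP, ← hcv N hN] at h
        have hprod : ∏ l, c l ^ P l = ∏ l, c l ^ N l := by
          refine Units.ext ?_
          simp only [Units.coe_prod, Units.val_pow_eq_pow_val]
          refine mul_right_cancel₀ (mul_ne_zero (hv0 P hP) (hv0 N hN)) ?_
          linear_combination h
        rw [show (∏ l, c l ^ a l) = (∏ l, c l ^ P l) / ∏ l, c l ^ N l by
          rw [← Finset.prod_div_distrib]
          exact Finset.prod_congr rfl fun l _ => by rw [hPN, zpow_sub, zpow_natCast, zpow_natCast, div_eq_mul_inv],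
          hprod, div_self']
      obtain ⟨d, hd⟩ := (inferInstance : IsPrincipalIdealRing ℤ).principal (Ideal.span (r '' {l | v l ≠ 0}))
      have hdmem : d ∈ Ideal.span (r '' {l | v l ≠ 0}) := hd ▸ Ideal.mem_span_singleton_self d
      have hdvd : ∀ l, v l ≠ 0 → d ∣ r l := fun l hl => Ideal.mem_span_singleton.mp
        (hd.le (Ideal.subset_span ⟨l, hl, rfl⟩))
      obtain ⟨a, ha, had⟩ : ∃ a : ι → ℤ, (∀ l, v l = 0 → a l = 0) ∧ ∑ l, a l * r l = d := by
        clear hd hdvd
        induction hdmem using Submodule.span_induction with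
        | mem z hz =>
          obtain ⟨l, hl, rfl⟩ := hz
          refine ⟨Pi.single l 1, fun m hm => Pi.single_eq_of_ne (fun hml : m = l => hl (hml ▸ hm)) _, ?_⟩
          simp [Pi.single_apply]
        | zero => exact ⟨0, fun _ _ => rfl, by simp⟩
        | add p q _ _ hp hq =>
          obtain ⟨a, ha, rfl⟩ := hp
          obtain ⟨b, hb, rfl⟩ := hq
          exact ⟨a + b, fun m hm => by simp [ha m hm, hb m hm], by simp [add_mul, Finset.sum_add_distrib]⟩
        | smul n p _ hp =>
          obtain ⟨a, ha, rfl⟩ := hp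
          exact ⟨n • a, fun m hm => by simp [ha m hm], by simp [Finset.mul_sum, mul_assoc]⟩
      have hd0 : d ≠ 0 := fun h => hrj.ne' (zero_dvd_iff.mp (h ▸ hdvd j hvj))
      obtain ⟨t, ht⟩ := exists_zpow_eq (∏ l, c l ^ a l) hd0
      refine ⟨ptOf t, (MvPolynomial.algHom_ext fun l => ?_)⟩
      rw [hact, ptOf_T, zpow_one]
      show w l = _
      rcases eq_or_ne (v l) 0 with hl | hl
      · rw [hl, zero_mul, hzero l hl]
      · obtain ⟨q, hq⟩ := hdvd l hl
        have h1 := hc (fun m => q * a m - (Pi.single l 1 : ι → ℤ) m) (fun m hm => by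
          rw [ha m hm, mul_zero, Pi.single_eq_of_ne (fun hml : m = l => hl (hml ▸ hm)), sub_zero]) (by
          simp only [sub_mul, Finset.sum_sub_distrib, mul_assoc, ← Finset.mul_sum, had]
          rw [Finset.sum_eq_single l (fun m _ hm => by simp [hm]) (fun h => absurd (Finset.mem_univ _) h)]
          simp [hq, mul_comm])
        simp only [zpow_sub, Finset.prod_mul_distrib] at h1
        rw [show (∏ m, c m ^ (q * a m)) = (∏ m, c m ^ a m) ^ q by
          rw [← Finset.prod_zpow]; exact Finset.prod_congr rfl fun m _ => by rw [← zpow_mul, mul_comm],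
          ← ht, ← zpow_mul, ← hq,
          Finset.prod_eq_single l (fun m _ hm => by simp [hm]) (fun h => absurd (Finset.mem_univ _) h),
          Pi.single_eq_same, zpow_one, mul_inv_eq_one] at h1
        have h2 := congrArg Units.val h1
        rw [Units.val_zpow_eq_zpow_val] at h2
        rw [h2]
        simp [c, hl, mul_div_cancel₀]
    · -- the stabiliser is finite
      refine Set.Finite.of_finite_image (f := fun g : WithConv (k[T;T⁻¹] →ₐ[k] k) => g.ofConv (T 1)) ?_ ?_
      · refine ((Polynomial.X ^ (r j).toNat - Polynomial.C (1 : k)).roots.toFinset.finite_toSet).subset ?_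
        rintro _ ⟨g, hg, rfl⟩
        have h := congrArg (fun φ : MvPolynomial ι k →ₐ[k] k => φ (MvPolynomial.X j))
          (show GLin.actPt k g.ofConv x = x from hg)
        rw [hact, hx, MvPolynomial.aeval_X] at h
        have h1 : g.ofConv (T 1) ^ r j = 1 := mul_left_cancel₀ hvj (h.trans (mul_one _).symm)
        simp only [Finset.mem_coe, Multiset.mem_toFinset, Polynomial.mem_roots', Polynomial.IsRoot.def,
          Polynomial.eval_sub, Polynomial.eval_pow, Polynomial.eval_X, Polynomial.eval_C]
        refine ⟨Polynomial.X_pow_sub_C_ne_zero (by omega) 1, ?_⟩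
        rw [← zpow_natCast, Int.toNat_of_nonneg hrj.le, h1, sub_self]
      · intro g _ g' _ h
        refine congrArg WithConv.toConv (AddMonoidAlgebra.algHom_ext (fun n => ?_) (Subsingleton.elim _ _))
        show g.ofConv (T n) = g'.ofConv (T n)
        rw [apply_T, apply_T g'.ofConv]
        exact congrArg (· ^ n) h

end Groth.Agent.S19423
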