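import Groth.Statements.S19424
import Groth.Agent.GITQuot.Good
-- import your own Groth.Agent.* helpers here

set_option autoImplicit false
universe u
open CategoryTheory MonoidalCategory CartesianMonoidalCategory MonObj AlgebraicGeometry Topology
open NRQuot

namespace Groth.Agent.S19424

/-- Let k be an algebraically closed field, G an affine group scheme of finite type over k acting on a
k-scheme X locally of finite type, and φ : X → Y a good quotient (affine and invariant, functions on
every open of Y are exactly the invariant functions on its preimage, invariant closed subsets have
closed images, and images commute with intersections of families of invariant closed subsets). Then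
for two k-points x₁, x₂ of X, the closures of their orbits (the images of the orbit morphisms G → X)
have a common point if and only if x₁ and x₂ have the same image in Y. -/
theorem result
    (k : Type u) [Field k] [IsAlgClosed k]
    (G X Y : Over (Spec (CommRingCat.of k))) [GrpObj G] [IsAffine G.left] [LocallyOfFiniteType G.hom]
    [LocallyOfFiniteType X.hom]
    (a : AlgGrp.Action G X) (φ : X ⟶ Y) (h : NRQuot.IsGoodQuot a φ)
    (x₁ x₂ : 𝟙_ (Over (Spec (CommRingCat.of k))) ⟶ X) :
    (closure (Set.range (a.orbitMap x₁).left.base) ∩ closure (Set.range (a.orbitMap x₂).left.base)).Nonempty ↔
      x₁ ≫ φ = x₂ ≫ φ := by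
  exact Groth.Agent.GITQuot.Good.closures_meet a h x₁ x₂

end Groth.Agent.S19424
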