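import Groth.Statements.S19425
import Groth.Agent.GITQuot.UnivCat
import Groth.Agent.GITQuot.BaseChange
-- import your own Groth.Agent.* helpers here

set_option autoImplicit false
universe u
open CategoryTheory MonoidalCategory CartesianMonoidalCategory MonObj AlgebraicGeometry Topology
open NRQuot

namespace Groth.Agent.S19425

/-- Let k be an algebraically closed field, G an affine group scheme of finite type over k acting on a
k-scheme X locally of finite type, φ : X → Y a good quotient (affine and invariant, functions on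
every open of Y are exactly the invariant functions on its preimage, invariant closed subsets have
closed images, and images commute with intersections of families of invariant closed subsets), and U
an open subset of Y. Equip the open subscheme φ⁻¹(U) of X with the restricted action, given here as
an action compatible with the inclusion into X, and let φ_U : φ⁻¹(U) → U be the restriction of φ.
Then φ_U is a good quotient for the restricted action. -/
theorem result
    (k : Type u) [Field k] [IsAlgClosed k]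
    (G X Y : Over (Spec (CommRingCat.of k))) [GrpObj G] [IsAffine G.left] [LocallyOfFiniteType G.hom]
    [LocallyOfFiniteType X.hom]
    (a : AlgGrp.Action G X) (φ : X ⟶ Y) (h : NRQuot.IsGoodQuot a φ)
    (U : Y.left.Opens)
    (aU : AlgGrp.Action G (Over.mk ((φ.left ⁻¹ᵁ U).ι ≫ X.hom)))
    (jU : Over.mk ((φ.left ⁻¹ᵁ U).ι ≫ X.hom) ⟶ X) (hjU : jU.left = (φ.left ⁻¹ᵁ U).ι)
    (haU : aU.act ≫ jU = (G ◁ jU) ≫ a.act)
    (φU : Over.mk ((φ.left ⁻¹ᵁ U).ι ≫ X.hom) ⟶ Over.mk (U.ι ≫ Y.hom))
    (hφU : φU.left ≫ U.ι = (φ.left ⁻¹ᵁ U).ι ≫ φ.left) :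
    NRQuot.IsGoodQuot aU φU := by
  let V := φ.left ⁻¹ᵁ U
  haveI : UniversallyOpen G.hom := inferInstance
  haveI : UniversallyOpen (snd G X).left := inferInstanceAs (UniversallyOpen (Limits.pullback.snd G.hom X.hom))
  have hsq : IsPullback jU.left φU.left φ.left U.ι := by
    have e : φU.left = φ.left ∣_ U := by rw [← cancel_mono U.ι, morphismRestrict_ι]; exact hφU
    rw [e, hjU]
    exact (isPullback_morphismRestrict φ.left U).flip
  have hinv : GIT.IsInvariant aU φU := by
    refine Over.OverMorphism.ext ?_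
    rw [← cancel_mono U.ι, Over.comp_left, Over.comp_left, Category.assoc, Category.assoc, ← hsq.w,
      ← Over.comp_left, ← Over.comp_left, ← Over.comp_left]
    refine congrArg CommaMorphism.left ?_
    rw [← Category.assoc, haU, Category.assoc, h.inv, ← Category.assoc, whiskerLeft_snd, Category.assoc]
  have hemb : IsOpenEmbedding jU.left.base := by rw [hjU]; exact V.ι.isOpenEmbedding
  have hrange : Set.range jU.left.base = (V : Set X.left) := by rw [hjU, Scheme.Opens.range_ι]
  have hφ : ∀ x, U.ι.base (φU.left.base x) = φ.left.base (jU.left.base x) := fun x => by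
    rw [← Scheme.Hom.comp_apply, ← Scheme.Hom.comp_apply, hφU, hjU]
  -- invariant closures
  have hclo : ∀ W, NRQuot.IsInvariantSet aU W → NRQuot.IsInvariantSet a (closure (jU.left.base '' W)) := by
    intro W hW p hp
    have h1 : p ∈ closure ((snd G X).left.base ⁻¹' (jU.left.base '' W)) :=
      (snd G X).left.isOpenMap.preimage_closure_subset_closure_preimage hp
    refine closure_mono ?_ (image_closure_subset_closure_image a.act.left.continuous ⟨p, h1, rfl⟩)
    rintro _ ⟨q, ⟨w, hw, hwq⟩, rfl⟩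
    have hG := GITQuot.isPullback_left (GITQuot.isPullback_tensorLeft (G := G) jU)
    obtain ⟨z, hz₁, hz₂⟩ := Scheme.Pullback.exists_preimage_pullback (f := (snd G X).left) (g := jU.left) q w hwq.symm
    let q' := hG.isoPullback.inv.base z
    have hq₁ : (G ◁ jU).left.base q' = q := by rw [← Scheme.Hom.comp_apply, IsPullback.isoPullback_inv_fst, hz₁]
    have hq₂ : (snd G _).left.base q' = w := by rw [← Scheme.Hom.comp_apply, IsPullback.isoPullback_inv_snd, hz₂]
    refine ⟨aU.act.left.base q', hW q' (hq₂.symm ▸ hw), ?_⟩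
    rw [← Scheme.Hom.comp_apply, ← Over.comp_left, haU, Over.comp_left, Scheme.Hom.comp_apply, hq₁]
  refine ⟨MorphismProperty.of_isPullback hsq h.affine, hinv, fun U' => ?_, fun W hWc hWi => ?_, fun J W hWc hWi => ?_⟩
  · -- functions
    haveI : IsOpenImmersion jU.left := by rw [hjU]; infer_instance
    have hjsq : jU.left ⁻¹ᵁ (φ.left ⁻¹ᵁ (U.ι ''ᵁ U')) = φU.left ⁻¹ᵁ U' := by
      rw [← Scheme.Hom.comp_preimage, hsq.w, Scheme.Hom.comp_preimage, Scheme.Hom.preimage_image_eq]
    set U₀ := U.ι ''ᵁ U' with hU₀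
    have hle : φU.left ⁻¹ᵁ U' ≤ jU.left ⁻¹ᵁ (φ.left ⁻¹ᵁ U₀) := hjsq.ge
    have hU'le : U' ≤ U.ι ⁻¹ᵁ U₀ := (U.ι.preimage_image_eq U').ge
    have hle' : φ.left ⁻¹ᵁ U₀ ≤ V := fun x hx => U.ι_image_le U' hx
    have hbij : Function.Bijective (jU.left.appLE (φ.left ⁻¹ᵁ U₀) (φU.left ⁻¹ᵁ U') hle) := by
      haveI : IsIso (jU.left.app (φ.left ⁻¹ᵁ U₀)) :=
        jU.left.isIso_app _ (by intro x hx; show x ∈ Set.range jU.left.base; rw [hrange]; exact hle' hx)
      rw [Scheme.Hom.appLE, Subsingleton.elim (homOfLE hle).op (eqToHom hjsq.symm).op]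
      exact ConcreteCategory.bijective_of_isIso _
    have hbij' : Function.Bijective (U.ι.appLE U₀ U' hU'le) := by
      haveI : IsIso (U.ι.app U₀) := U.ι.isIso_app _ (by
        intro x hx; show x ∈ Set.range U.ι.base; rw [Scheme.Opens.range_ι]; exact U.ι_image_le U' hx)
      rw [Scheme.Hom.appLE, Subsingleton.elim (homOfLE hU'le).op (eqToHom (U.ι.preimage_image_eq U').symm).op]
      exact ConcreteCategory.bijective_of_isIso _
    have hcomm : ∀ s, jU.left.appLE _ _ hle (φ.left.app U₀ s) = φU.left.app U' (U.ι.appLE U₀ U' hU'le s) := by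
      intro s
      rw [Scheme.Hom.app_eq_appLE, Scheme.Hom.app_eq_appLE, ← CommRingCat.comp_apply, ← CommRingCat.comp_apply,
        Scheme.Hom.appLE_comp_appLE, Scheme.Hom.appLE_comp_appLE]
      have key : ∀ (f g : (Over.mk (V.ι ≫ X.hom)).left ⟶ Y.left) (hf : φU.left ⁻¹ᵁ U' ≤ f ⁻¹ᵁ U₀)
          (hg : φU.left ⁻¹ᵁ U' ≤ g ⁻¹ᵁ U₀), f = g → f.appLE U₀ _ hf = g.appLE U₀ _ hg := by
        rintro f g hf hg rfl; rfl
      exact congrArg (fun T : Γ(Y.left, U₀) ⟶ _ => T.hom s) (key _ _ _ _ hsq.w)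
    refine ⟨fun s t hst => ?_, Set.Subset.antisymm ?_ fun f hf => ?_⟩
    · obtain ⟨s', rfl⟩ := hbij'.2 s
      obtain ⟨t', rfl⟩ := hbij'.2 t
      rw [← hcomm, ← hcomm] at hst
      exact congrArg _ ((h.sections U₀).1 (hbij.1 hst))
    · rintro _ ⟨t, rfl⟩
      have h' := GITQuot.isInvSection_appLE (φ := φU) φU hinv U' U' (le_refl (φU.left ⁻¹ᵁ U')) t
      rwa [Scheme.Hom.appLE_eq_app] at h'
    · obtain ⟨f₀, rfl⟩ := hbij.2 f
      obtain ⟨s, hs⟩ : f₀ ∈ Set.range (φ.left.app U₀) := by
        rw [(h.sections U₀).2]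
        show GIT.IsInvSection a φ U₀ f₀
        let W := a.act.left ⁻¹ᵁ (φ.left ⁻¹ᵁ U₀) ⊓ (snd G X).left ⁻¹ᵁ (φ.left ⁻¹ᵁ U₀)
        show a.act.left.appLE _ W inf_le_left f₀ = (snd G X).left.appLE _ W inf_le_right f₀
        apply GITQuot.hat_injective
        rw [← GITQuot.resLE_hat, ← GITQuot.resLE_hat]
        have hsqG := GITQuot.isPullback_left (GITQuot.isPullback_tensorLeft (G := G) jU)
        let w := hsqG.lift W.ι (IsOpenImmersion.lift jU.left (W.ι ≫ (snd G X).left) (by
          rintro _ ⟨z, rfl⟩; rw [hrange]; exact hle' z.2.2))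
          (IsOpenImmersion.lift_fac _ _ _).symm
        have hw : w ≫ (G ◁ jU).left = W.ι := hsqG.lift_fst _ _ _
        have ea : aU.act.left ≫ jU.left = (G ◁ jU).left ≫ a.act.left := congrArg CommaMorphism.left haU
        have es : (snd G _).left ≫ jU.left = (G ◁ jU).left ≫ (snd G X).left := by
          rw [← Over.comp_left, ← Over.comp_left, whiskerLeft_snd]
        have hg : ∀ (p' : (G ⊗ Over.mk (V.ι ≫ X.hom)).left ⟶ (Over.mk (V.ι ≫ X.hom)).left)
            (p : (G ⊗ X).left ⟶ X.left) (hp : W ≤ p ⁻¹ᵁ (φ.left ⁻¹ᵁ U₀)),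
            p' ≫ jU.left = (G ◁ jU).left ≫ p → Set.range (w ≫ p').base ⊆ Set.range (φU.left ⁻¹ᵁ U').ι.base := by
          rintro p' p hp e _ ⟨z, rfl⟩
          rw [Scheme.Opens.range_ι, ← hjsq]
          show jU.left.base ((w ≫ p').base z) ∈ φ.left ⁻¹ᵁ U₀
          rw [← Scheme.Hom.comp_apply, Category.assoc, e, ← Category.assoc, hw]
          exact hp z.2
        have main : ∀ (p' : (G ⊗ Over.mk (V.ι ≫ X.hom)).left ⟶ (Over.mk (V.ι ≫ X.hom)).left)
            (p : (G ⊗ X).left ⟶ X.left) (hp : W ≤ p ⁻¹ᵁ (φ.left ⁻¹ᵁ U₀))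
            (e : p' ≫ jU.left = (G ◁ jU).left ≫ p) (g : W.toScheme ⟶ (φU.left ⁻¹ᵁ U').toScheme),
            g ≫ (φU.left ⁻¹ᵁ U').ι = w ≫ p' →
            g ≫ GITQuot.hat (jU.left.appLE (φ.left ⁻¹ᵁ U₀) (φU.left ⁻¹ᵁ U') hle f₀) =
              p.resLE (φ.left ⁻¹ᵁ U₀) W hp ≫ GITQuot.hat f₀ := by
          intro p' p hp e g hg'
          rw [← GITQuot.resLE_hat, ← Category.assoc]
          congr 1
          rw [← cancel_mono (φ.left ⁻¹ᵁ U₀).ι, Category.assoc, Scheme.Hom.resLE_comp_ι, Scheme.Hom.resLE_comp_ι,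
            ← Category.assoc, hg', Category.assoc, e, ← Category.assoc, hw]
        rw [← main aU.act.left a.act.left inf_le_left ea
            (IsOpenImmersion.lift _ _ (hg _ _ inf_le_left ea)) (IsOpenImmersion.lift_fac _ _ _),
          ← main (snd G _).left (snd G X).left inf_le_right es
            (IsOpenImmersion.lift _ _ (hg _ _ inf_le_right es)) (IsOpenImmersion.lift_fac _ _ _)]
        exact GITQuot.invariant_hat hf w _ _ (IsOpenImmersion.lift_fac _ _ _) (IsOpenImmersion.lift_fac _ _ _)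
      exact ⟨U.ι.appLE U₀ U' hU'le s, by rw [← hcomm, hs]⟩
  · have hcl := h.closed _ isClosed_closure (hclo W hWi)
    suffices e : φU.left.base '' W = U.ι.base ⁻¹' (φ.left.base '' closure (jU.left.base '' W)) from
      Eq.mpr (congrArg IsClosed e) (hcl.preimage U.ι.continuous)
    refine Set.ext fun y => ⟨?_, ?_⟩
    · rintro ⟨x, hx, rfl⟩
      exact ⟨jU.left.base x, subset_closure ⟨x, hx, rfl⟩, (hφ x).symm⟩
    · rintro ⟨x, hx, hxy⟩
      obtain ⟨x', rfl⟩ : x ∈ Set.range jU.left.base := by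
        rw [hrange]; show φ.left.base x ∈ U; rw [hxy]; exact y.2
      have : x' ∈ closure W := by
        rw [hemb.toIsEmbedding.closure_eq_preimage_closure_image]; exact hx
      rw [hWc.closure_eq] at this
      exact ⟨x', this, U.ι.isOpenEmbedding.injective ((hφ x').trans hxy)⟩
  · refine Set.Subset.antisymm (Set.image_iInter_subset _ _) fun y hy => ?_
    have h' := h.inter J (fun i => closure (jU.left.base '' W i)) (fun i => isClosed_closure) fun i => hclo _ (hWi i)
    obtain ⟨x, hx, hxy⟩ : U.ι.base y ∈ φ.left.base '' ⋂ i, closure (jU.left.base '' W i) := by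
      rw [h']
      refine Set.mem_iInter.mpr fun i => ?_
      obtain ⟨x, hx, hxy⟩ := Set.mem_iInter.mp hy i
      exact ⟨jU.left.base x, subset_closure ⟨x, hx, rfl⟩, by rw [← hφ, hxy]⟩
    obtain ⟨x', rfl⟩ : x ∈ Set.range jU.left.base := by
      rw [hrange]; show φ.left.base x ∈ U; rw [hxy]; exact y.2
    refine ⟨x', Set.mem_iInter.mpr fun i => ?_, U.ι.isOpenEmbedding.injective ((hφ x').trans hxy)⟩
    have : x' ∈ closure (W i) := by
      rw [hemb.toIsEmbedding.closure_eq_preimage_closure_image]; exact Set.mem_iInter.mp hx i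
    rwa [(hWc i).closure_eq] at this

end Groth.Agent.S19425
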