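import Groth.Statements.S19427
import Groth.Agent.MilKLib.Basic

set_option autoImplicit false
open Groth.Agent.MilKLib
universe u
open MilnorK

namespace Groth.Agent.S19427

/-- For a field F and nonzero b, c with b + c ≠ 0, in the Milnor K-group K_2(F) one has {b, c} + {b + c,
-b/c} = 0, that is {b, c} = -{b + c, -b/c} = {b + c, -c/b}. (The identity as displayed in the source
is {b, c} = {b + c, -b/c}, which differs from this by a sign and fails in general: for b = 3, c = 5
over the rationals the tame symbol at 5 takes the values 3 and 1/3 on the two sides; the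
accompanying derivation from the Steinberg relation b/(b+c) + c/(b+c) = 1 gives exactly the identity
stated here.) -/
theorem result (F : Type u) [Field F] (b c : Fˣ)
    (h : (b : F) + (c : F) ≠ 0) :
    (MilK.symbol ![b, c] : MilK.K F 2) + MilK.symbol ![Units.mk0 ((b : F) + (c : F)) h, -(b / c)] = 0 := by
  set s := Units.mk0 ((b : F) + (c : F)) h with hs
  have hb : ∀ a : Fˣ, ∀ y : Fˣ, MilK.symbol ![a, y] = lmul 1 a (MilK.symbol ![y]) := fun a y => by
    rw [lmul_symbol]; rfl
  have hneg : ∀ a b : Fˣ, lmul 1 a (MilK.symbol ![b]) = -lmul 1 b (MilK.symbol ![a]) := fun a b => by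
    have h := lmul_anticomm a b (MilK.symbol (F := F) ![]); simp only [lmul_symbol] at h ⊢; exact h
  have hadd : ∀ a b : Fˣ, MilK.symbol ![a * b] = MilK.symbol ![a] + MilK.symbol ![b] := fun a b => by
    have h := lmul_mul a b (MilK.symbol (F := F) ![]); simp only [lmul_symbol] at h; exact h
  have hdiv : ∀ a b : Fˣ, MilK.symbol ![a / b] = MilK.symbol ![a] - MilK.symbol ![b] := fun a b => by
    have h := lmul_div a b (MilK.symbol (F := F) ![]); simp only [lmul_symbol] at h; exact h
  have h0 : MilK.symbol ![b / s, c / s] = 0 :=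
    symbol_eq_zero_of_add_eq_one _ (i := 0) (j := 1) (by decide) (by
      simp only [Matrix.cons_val_zero, Matrix.cons_val_one, Units.val_div_eq_div_val, hs, Units.val_mk0]
      field_simp)
  have hss : lmul 1 s (MilK.symbol ![s]) = lmul 1 s (MilK.symbol ![-1]) := by
    have h := lmul_lmul_self s (MilK.symbol (F := F) ![]); simp only [lmul_symbol] at h ⊢; exact h
  rw [hb, hdiv, map_sub, lmul_div, lmul_div, hneg b s, hss] at h0
  rw [hb, hb, ← neg_one_mul (b / c), hadd, hdiv, map_add, map_sub]
  rw [← h0]
  abel

end Groth.Agent.S19427
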