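import Groth.Statements.S19430
import Groth.Agent.H28.PBFreeK
-- import your own Groth.Agent.* helpers here

set_option autoImplicit false
universe u
open SGA6

namespace Groth.Agent.S19430

open CategoryTheory CategoryTheory.Limits AlgebraicGeometry in
/-- For Grothendieck groups of vector bundles (the degree-zero case of the statement), let T be a
quasi-compact scheme, E a finite locally free O_T-module of rank r, and (π : P ⟶ T, O(1), q) a
projective bundle P(E) of E, characterised by its universal property for invertible quotients of
pull-backs of E; let O(-1) be an inverse of the invertible module O(1). For each i < r let G_i be an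
additive map from K₀ of the finite locally free O_T-modules to K₀ of the finite locally free
O_P-modules with G_i [N] = [O(-1)^{⊗ i} ⊗ π^* N] for every finite locally free N (the K₀(T)-module
structure of K₀(P) through π^* and the powers of t = [O(-1)]). Then (a_0, …, a_{r-1}) ↦ Σ_i G_i
(a_i) is a bijection from K₀(T)^r onto K₀(P): K₀(P) is free over K₀(T) on 1, t, …, t^{r-1}. No
Noetherian or connectedness hypothesis on T. -/
theorem result (T P : Scheme.{u}) [CompactSpace T]
    (r : ℕ) (E : T.Modules) (hE : FlatMod.IsFinLocFreeOfRank r E)
    (π : P ⟶ T) (O1 : P.Modules) (q : (Scheme.Modules.pullback π).obj E ⟶ O1) (hPB : KRR.IsProjBundle π E O1 q)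
    (Oinv : P.Modules) (hinv : ClSub.IsInverseOf Oinv O1)
    (G : Fin r → (SGA6.Kvb T →+ SGA6.Kvb P))
    (hG : ∀ (i : Fin r) (N : T.Modules), FlatMod.IsFinLocFree N →
      G i (KRR.cl T N) = KRR.cl P (CohB1.tensorMod (CohB1.tensorPow Oinv (i : ℕ)) ((Scheme.Modules.pullback π).obj N))) :
    Function.Bijective (fun a : Fin r → SGA6.Kvb T => ∑ i : Fin r, G i (a i)) := by
  exact Groth.Agent.H28.PBFreeK.bijective r hE hPB Oinv hinv G hG

end Groth.Agent.S19430
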