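import Groth.Statements.S19435
import Groth.Agent.H9Misc.HypCoh
import Groth.Agent.SheafHomX.Coherent

set_option autoImplicit false
set_option backward.isDefEq.respectTransparency false
set_option backward.isDefEq.respectTransparency.types false
set_option linter.style.haveILetI false
universe u
open Coherent

namespace Groth.Agent.S19435

open CategoryTheory CategoryTheory.Limits AlgebraicGeometry in
/-- The case d = 0. Let F be a field, k ≥ 1, P = P^1_F and X ⊆ P a hypersurface of degree k: a closed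
subscheme (ideal sheaf I) whose ideal sheaf is isomorphic as an O_P-module to O_P(-k), with
coordinate ring A = F[x_0, x_1]/(q) whose degree-m piece has dimension a(m) = C(m+1, 1) - C(m-k+1,
1) (negative upper entries read as 0); O_X(n) = O_X ⊗ O_P(n) as an O_P-module. Then H^0(P, O_X(n))
is finite-dimensional of dimension a(n) + a(k-2-n), that of an extension of the dual of the
degree-(k-2-n) piece of A by the degree-n piece (the exact sequence itself is not stated here); and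
H^p(P, O_X(n)) vanishes for every p ≥ 1. -/
theorem result (F : Type u) [Field F] (k : ℕ)
    (hk : 1 ≤ k) (I : (CohB1.ProjSpace 1 F).IdealSheafData)
    (hI : Nonempty (ClSub.idealMod I ≅ Twist.twistProjSpace 1 F (-(k : ℤ)))) (n : ℤ) :
    (Module.Finite F (Coh.HH (CohB1.ProjSpace 1 F)
        (CohB1.tensorMod (ClSub.quotMod I) (Twist.twistProjSpace 1 F n)) 0) ∧
      Module.finrank F (Coh.HH (CohB1.ProjSpace 1 F)
        (CohB1.tensorMod (ClSub.quotMod I) (Twist.twistProjSpace 1 F n)) 0) =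
        (Nat.choose (n + 1).toNat 1 - Nat.choose (n - (k : ℤ) + 1).toNat 1) +
        (Nat.choose ((k : ℤ) - 2 - n + 1).toNat 1 - Nat.choose ((k : ℤ) - 2 - n - (k : ℤ) + 1).toNat 1)) ∧
    (∀ p : ℕ, 1 ≤ p →
      Subsingleton (Coh.HH (CohB1.ProjSpace 1 F)
        (CohB1.tensorMod (ClSub.quotMod I) (Twist.twistProjSpace 1 F n)) p)) := by
  obtain ⟨S, hS, ⟨e₁⟩, ⟨e₂⟩, ⟨e₃⟩, h₃, hvan⟩ :=
    Groth.Agent.H9Misc.HypCoh.exists_ses (N := 1) 0 k rfl I hI n
  haveI : IsNoetherian (CohB1.ProjSpace 1 F) := Groth.Agent.CurveCohLib.isNoetherian_of_proper (k := F)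
  have h₁ : Coh.IsCoh S.X₁ := Groth.Agent.SheafHomX.isCoh_of_iso e₁.symm (Groth.Agent.H9Misc.HypCoh.isCoh_O _)
  have h₂ : Coh.IsCoh S.X₂ := Groth.Agent.SheafHomX.isCoh_of_iso e₂.symm (Groth.Agent.H9Misc.HypCoh.isCoh_O _)
  let g₁ := fun p : ℕ => Groth.Agent.CurveCohLib.hhEquiv (k := F) e₁ p
  let g₂ := fun p : ℕ => Groth.Agent.CurveCohLib.hhEquiv (k := F) e₂ p
  let g₃ := fun p : ℕ => Groth.Agent.CurveCohLib.hhEquiv (k := F) e₃ p
  refine ⟨⟨?_, ?_⟩, fun p hp => @Equiv.subsingleton _ _ (g₃ p).symm.toEquiv (hvan p hp)⟩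
  · haveI := Groth.Agent.CurveCohLib.finite_HH (k := F) h₃ 0
    exact Module.Finite.equiv (g₃ 0)
  · have h := Groth.Agent.H9Misc.HypCoh.finrank_zero (k := F) hS h₂ h₃
    have h' : Module.finrank F (LinearMap.range (Groth.Agent.PnCoh.Finite.deltaLin F hS 0)) + Module.finrank F (Coh.HH _ S.X₂ 1) = Module.finrank F (Coh.HH _ S.X₁ 1) := Groth.Agent.H9Misc.HypCoh.finrank_delta_range (k := F) hS 0 h₁ h₂ (hvan 1 le_rfl)
    rw [(g₁ 0).finrank_eq, (g₂ 0).finrank_eq, (g₃ 0).finrank_eq] at h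
    rw [(g₁ 1).finrank_eq, (g₂ 1).finrank_eq] at h'
    rw [Groth.Agent.H9Misc.HypCoh.finrank_H0 _ one_pos, Groth.Agent.H9Misc.HypCoh.finrank_H0 _ one_pos] at h
    rw [Groth.Agent.H9Misc.HypCoh.finrank_Htop _ one_pos, Groth.Agent.H9Misc.HypCoh.finrank_Htop _ one_pos] at h'
    simp only [Groth.Agent.H9Misc.HypCoh.O] at h h'
    push_cast at h h'
    simp only [Nat.choose_one_right] at h h' ⊢
    omega

end Groth.Agent.S19435
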