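import Groth.Statements.S19436
import Mathlib

set_option autoImplicit false
universe u
open CAlg

namespace Groth.Agent.S19436

/-- For a Noetherian local commutative algebra R over a field k, with maximal ideal M, and an ideal I of
R whose quotient R/I is finite-dimensional over k of dimension n, the power M^n lies in I. -/
theorem result (k : Type u) [Field k] (R : Type u) [CommRing R]
    [Algebra k R] [IsNoetherianRing R] [IsLocalRing R] (I : Ideal R) [Module.Finite k (R ⧸ I)] (n : ℕ)
    (hn : Module.finrank k (R ⧸ I) = n) : IsLocalRing.maximalIdeal R ^ n ≤ I := by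
  rcases eq_or_ne I ⊤ with rfl | hI
  · exact le_top
  have : Nontrivial (R ⧸ I) := Ideal.Quotient.nontrivial_iff.2 hI
  have hloc : IsLocalRing (R ⧸ I) := IsLocalRing.of_surjective' (Ideal.Quotient.mk I) Ideal.Quotient.mk_surjective
  let J := (IsLocalRing.maximalIdeal R).map (Ideal.Quotient.mk I)
  have hJ : J ≤ Ideal.jacobson ⊥ := by
    rw [IsLocalRing.jacobson_eq_maximalIdeal _ bot_ne_top]
    exact IsLocalRing.le_maximalIdeal (by
      intro h
      have h1 : (1 : R ⧸ I) ∈ J := h ▸ trivial
      obtain ⟨a, ha, ha1⟩ := (Ideal.mem_map_iff_of_surjective _ Ideal.Quotient.mk_surjective).1 h1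
      have h2 : a - 1 ∈ IsLocalRing.maximalIdeal R :=
        IsLocalRing.le_maximalIdeal hI (Ideal.Quotient.eq_zero_iff_mem.1 (by rw [map_sub, ha1, map_one, sub_self]))
      exact (IsLocalRing.maximalIdeal.isMaximal R).ne_top
        ((Ideal.eq_top_iff_one _).2 (by simpa using Ideal.sub_mem _ ha h2)))
  have : IsArtinianRing (R ⧸ I) := IsArtinianRing.of_finite k (R ⧸ I)
  have key : ∀ i, J ^ i = ⊥ ∨ Module.finrank k ((J ^ i).restrictScalars k) + i ≤ n := by
    intro i
    induction i with
    | zero =>
      right
      simpa [hn] using Submodule.finrank_le ((J ^ 0).restrictScalars k)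
    | succ i ih =>
      rcases eq_or_ne (J ^ (i + 1)) ⊥ with h | h
      · exact Or.inl h
      right
      have hlt : J ^ (i + 1) < J ^ i := by
        refine lt_of_le_of_ne (Ideal.pow_le_pow_right (by omega)) fun he => h ?_
        rw [he]
        refine Submodule.eq_bot_of_le_smul_of_le_jacobson_bot J _ (IsNoetherian.noetherian _) ?_ hJ
        rw [smul_eq_mul, ← pow_succ', he]
      rcases ih with hb | hb
      · exact absurd (hb ▸ hlt) not_lt_bot
      have := Submodule.finrank_lt_finrank_of_lt (s := (J ^ (i + 1)).restrictScalars k)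
        (t := (J ^ i).restrictScalars k) hlt
      omega
  have hn0 : J ^ n = ⊥ := by
    rcases key n with h | h
    · exact h
    · have h0 : (J ^ n).restrictScalars k = ⊥ := Submodule.finrank_eq_zero.1 (by omega)
      exact (Submodule.restrictScalars_eq_bot_iff k (R ⧸ I) (R ⧸ I)).1 h0
  rw [← Ideal.map_pow, Ideal.map_eq_bot_iff_le_ker, Ideal.mk_ker] at hn0
  exact hn0

end Groth.Agent.S19436
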