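import Mathlib
import Groth.Statements.S19437
-- import your own Groth.Agent.* helpers here

set_option autoImplicit false
universe u
open CAlg

noncomputable section

namespace Groth.Agent.S19437

variable {k : Type u} [Field k]

local notation "PS" k => MvPowerSeries (Fin 2) k

open MvPowerSeries Finsupp in
lemma key_coeff (e n : Fin 2 →₀ ℕ) (f : PS k) :
    coeff e (monomial n 1 * f) = if n 0 ≤ e 0 ∧ n 1 ≤ e 1 then coeff (e - n) f else 0 := by
  classical
  rw [coeff_monomial_mul, one_mul]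
  refine if_congr ?_ rfl rfl
  rw [Finsupp.le_def]
  exact ⟨fun h => ⟨h 0, h 1⟩, fun h i => by fin_cases i <;> simp_all⟩

/-- coefficient of `x ^ i` -/
noncomputable def cx (i : ℕ) : (PS k) →ₗ[k] k := MvPowerSeries.coeff (Finsupp.single 0 i)
/-- coefficient of `y ^ j` -/
noncomputable def cy (j : ℕ) : (PS k) →ₗ[k] k := MvPowerSeries.coeff (Finsupp.single 1 j)

lemma cx0_eq (f : PS k) : cx 0 f = MvPowerSeries.constantCoeff f := by
  rw [cx, Finsupp.single_zero, MvPowerSeries.coeff_zero_eq_constantCoeff_apply]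

lemma cy0_eq (f : PS k) : cy 0 f = cx 0 f := by simp [cx, cy]

lemma cx_powx (a i : ℕ) (f : PS k) :
    cx i (MvPowerSeries.X 0 ^ a * f) = if a ≤ i then cx (i - a) f else 0 := by
  rw [cx, MvPowerSeries.X_pow_eq, key_coeff]
  simp [Finsupp.single_tsub, cx]

lemma cy_powy (b j : ℕ) (f : PS k) :
    cy j (MvPowerSeries.X 1 ^ b * f) = if b ≤ j then cy (j - b) f else 0 := by
  rw [cy, MvPowerSeries.X_pow_eq, key_coeff]
  simp [Finsupp.single_tsub, cy]

lemma cx_powy (b i : ℕ) (hb : 1 ≤ b) (f : PS k) : cx i (MvPowerSeries.X 1 ^ b * f) = 0 := by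
  rw [cx, MvPowerSeries.X_pow_eq, key_coeff, if_neg]
  simp
  omega

lemma cy_powx (a j : ℕ) (ha : 1 ≤ a) (f : PS k) : cy j (MvPowerSeries.X 0 ^ a * f) = 0 := by
  rw [cy, MvPowerSeries.X_pow_eq, key_coeff, if_neg]
  simp
  omega

lemma cx_xy (i : ℕ) (f : PS k) : cx i (MvPowerSeries.X 0 * MvPowerSeries.X 1 * f) = 0 := by
  rw [mul_comm (MvPowerSeries.X 0 : PS k), mul_assoc, ← pow_one (MvPowerSeries.X 1 : PS k), cx_powy _ _ le_rfl]

lemma cy_xy (j : ℕ) (f : PS k) : cy j (MvPowerSeries.X 0 * MvPowerSeries.X 1 * f) = 0 := by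
  rw [mul_assoc, ← pow_one (MvPowerSeries.X 0 : PS k), cy_powx _ _ le_rfl]

lemma cx_C (i : ℕ) (c : k) (f : PS k) : cx i (MvPowerSeries.C c * f) = c * cx i f := by
  simp [cx, MvPowerSeries.coeff_C_mul]

lemma cy_C (i : ℕ) (c : k) (f : PS k) : cy i (MvPowerSeries.C c * f) = c * cy i f := by
  simp [cy, MvPowerSeries.coeff_C_mul]

noncomputable def K (k : Type u) [Field k] (a b : ℕ) : Ideal (PS k) :=
  Ideal.span {MvPowerSeries.X 0 * MvPowerSeries.X 1, MvPowerSeries.X 0 ^ a, MvPowerSeries.X 1 ^ b}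

open MvPowerSeries Finsupp in
lemma mem_K (a b : ℕ) (f : PS k) (hx : ∀ i < a, cx i f = 0) (hy : ∀ j, 1 ≤ j → j < b → cy j f = 0)
    (ha : 1 ≤ a) : f ∈ K k a b := by
  classical
  let u : PS k := fun e => if e 1 = 0 then coeff (e + single 0 a) f else 0
  let v : PS k := fun e => if e 0 = 0 ∧ (1 ≤ e 1 + b) then coeff (e + single 1 b) f else 0
  let w : PS k := fun e => coeff (e + single 0 1 + single 1 1) f
  have hf : f = X 0 ^ a * u + X 1 ^ b * v + monomial (single 0 1 + single 1 1) 1 * w := by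
    ext e
    have he : e = single 0 (e 0) + single 1 (e 1) := by
      ext i; fin_cases i <;> simp
    simp only [map_add, X_pow_eq, key_coeff, Finsupp.add_apply, single_eq_same,
      single_eq_of_ne (show (1 : Fin 2) ≠ 0 by decide), single_eq_of_ne (show (0 : Fin 2) ≠ 1 by decide),
      zero_le, and_true, true_and, add_zero, zero_add]
    have hu : ∀ d, coeff d u = if d 1 = 0 then coeff (d + single 0 a) f else 0 := fun d => rfl
    have hv : ∀ d, coeff d v = if d 0 = 0 ∧ (1 ≤ d 1 + b) then coeff (d + single 1 b) f else 0 := fun d => rfl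
    have hw : ∀ d, coeff d w = coeff (d + single 0 1 + single 1 1) f := fun d => rfl
    simp only [hu, hv, hw, Finsupp.tsub_apply, single_eq_same,
      single_eq_of_ne (show (1 : Fin 2) ≠ 0 by decide), single_eq_of_ne (show (0 : Fin 2) ≠ 1 by decide),
      Nat.sub_zero]
    by_cases h1 : e 1 = 0
    · rw [if_pos h1, if_neg (show ¬(1 ≤ e 0 ∧ 1 ≤ e 1) by omega)]
      by_cases h0 : a ≤ e 0
      · rw [if_pos h0, tsub_add_cancel_of_le (show single 0 a ≤ e by rw [single_le_iff]; exact h0)]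
        rw [show (if b ≤ e 1 then if e 0 = 0 ∧ 1 ≤ e 1 - b + b then coeff (e - single 1 b + single 1 b) f else 0 else 0) = 0 from by
          split_ifs <;> first | rfl | (exfalso; omega)]
        simp
      · rw [if_neg h0]
        have : coeff e f = 0 := by
          have := hx (e 0) (by omega)
          have e' : single 0 (e 0) = e := by
            ext i; fin_cases i <;> simp [h1]
          simp only [cx] at this
          rwa [e'] at this
        rw [this]
        split_ifs <;> first | (simp; done) | (exfalso; omega)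
    · rw [if_neg h1]
      by_cases h0 : e 0 = 0
      · rw [if_neg (show ¬(1 ≤ e 0 ∧ 1 ≤ e 1) by omega), if_neg (show ¬ a ≤ e 0 by omega)]
        by_cases hb : b ≤ e 1
        · rw [if_pos hb, if_pos ⟨h0, by omega⟩,
            tsub_add_cancel_of_le (show single 1 b ≤ e by rw [single_le_iff]; exact hb)]
          simp
        · rw [if_neg hb]
          have : coeff e f = 0 := by
            have := hy (e 1) (by omega) (by omega)
            have e' : single 1 (e 1) = e := by
              ext i; fin_cases i <;> simp [h0]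
            simp only [cy] at this
            rwa [e'] at this
          rw [this]
          simp
      · rw [if_pos (show 1 ≤ e 0 ∧ 1 ≤ e 1 by omega)]
        have hd : e - (single 0 1 + single 1 1) + single 0 1 + single 1 1 = e := by
          rw [add_assoc, tsub_add_cancel_of_le]
          intro i; fin_cases i <;> simp <;> omega
        rw [hd]
        simp [h0]
  rw [hf]
  have hm : (X 0 * X 1 : PS k) = monomial (single 0 1 + single 1 1) 1 := by
    rw [X_def, X_def, monomial_mul_monomial, one_mul]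
  refine add_mem (add_mem ?_ ?_) ?_
  · exact Ideal.mul_mem_right _ _ (Ideal.subset_span (by simp))
  · exact Ideal.mul_mem_right _ _ (Ideal.subset_span (by simp))
  · rw [← hm]; exact Ideal.mul_mem_right _ _ (Ideal.subset_span (by simp))

lemma of_mem_K (a b : ℕ) (ha : 1 ≤ a) (hb : 1 ≤ b) {f : PS k} (hf : f ∈ K k a b) :
    (∀ i < a, cx i f = 0) ∧ (∀ j < b, cy j f = 0) := by
  rw [K, Ideal.mem_span_insert] at hf
  obtain ⟨r, z, hz, rfl⟩ := hf
  rw [Ideal.mem_span_pair] at hz
  obtain ⟨s, t, rfl⟩ := hz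
  rw [mul_comm r, mul_comm s, mul_comm t]
  refine ⟨fun i hi => ?_, fun j hj => ?_⟩
  · rw [map_add, map_add, cx_xy, cx_powx, cx_powy _ _ hb, if_neg (by omega)]; simp
  · rw [map_add, map_add, cy_xy, cy_powy, cy_powx _ _ ha, if_neg (by omega)]; simp

lemma finrank_quot {V : Type u} [AddCommGroup V] [Module k V] (I : Ideal (PS k)) (ψ : (PS k) →ₗ[k] V)
    (hsurj : Function.Surjective ψ) (hker : ∀ f, ψ f = 0 ↔ f ∈ I) :
    Module.finrank k ((PS k) ⧸ I) = Module.finrank k V := by
  have h : LinearMap.ker ψ = I.restrictScalars k := Submodule.ext hker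
  exact (((Submodule.Quotient.restrictScalarsEquiv k I).symm.trans
    (Submodule.quotEquivOfEq _ _ h.symm)).trans (ψ.quotKerEquivOfSurjective hsurj)).finrank_eq

noncomputable def mk' (g : (Fin 2 →₀ ℕ) → k) : PS k := g

lemma coeff_mk (d : Fin 2 →₀ ℕ) (g : (Fin 2 →₀ ℕ) → k) :
    MvPowerSeries.coeff d (mk' g) = g d := rfl

lemma finrank_K (a b : ℕ) (ha : 1 ≤ a) (hb : 1 ≤ b) :
    Module.finrank k ((PS k) ⧸ K k a b) = a + (b - 1) := by
  classical
  let ψ : (PS k) →ₗ[k] (Fin a → k) × (Fin (b - 1) → k) :=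
    (LinearMap.pi fun i : Fin a => cx (i : ℕ)).prod (LinearMap.pi fun j : Fin (b - 1) => cy ((j : ℕ) + 1))
  have hψ : ∀ g, ψ g = (fun i : Fin a => cx (i : ℕ) g, fun j : Fin (b - 1) => cy ((j : ℕ) + 1) g) := fun g => rfl
  rw [finrank_quot (K k a b) ψ ?_ fun f => ?_]
  · rw [Module.finrank_prod, Module.finrank_fintype_fun_eq_card, Module.finrank_fintype_fun_eq_card,
      Fintype.card_fin, Fintype.card_fin]
  · rintro ⟨p, q⟩
    refine ⟨mk' (fun e => if h : e 1 = 0 ∧ e 0 < a then p ⟨e 0, h.2⟩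
      else if h : 1 ≤ e 1 ∧ e 1 - 1 < b - 1 then q ⟨e 1 - 1, h.2⟩ else 0), ?_⟩
    refine (hψ _).trans ?_
    refine Prod.ext (funext fun i => ?_) (funext fun j => ?_)
    · show MvPowerSeries.coeff (R := k) (Finsupp.single (0 : Fin 2) (i : ℕ)) _ = _
      rw [coeff_mk, dif_pos (by simp)]
      simp
    · show MvPowerSeries.coeff (R := k) (Finsupp.single (1 : Fin 2) ((j : ℕ) + 1)) _ = _
      rw [coeff_mk, dif_neg (by simp), dif_pos (by simp)]
      simp
  · constructor
    · intro h
      rw [Prod.ext_iff, funext_iff, funext_iff] at h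
      refine mem_K a b f (fun i hi => h.1 ⟨i, hi⟩) (fun j hj1 hj => ?_) ha
      obtain ⟨j, rfl⟩ : ∃ j', j = j' + 1 := ⟨j - 1, by omega⟩
      exact h.2 ⟨j, by omega⟩
    · intro h
      obtain ⟨h1, h2⟩ := of_mem_K a b ha hb h
      exact Prod.ext (funext fun i => h1 _ i.2) (funext fun j => h2 _ (by omega))

/-- The second normal form. -/
noncomputable def h' (k : Type u) [Field k] (a b : ℕ) (α : k) : PS k :=
  MvPowerSeries.X 0 ^ a + MvPowerSeries.C α * MvPowerSeries.X 1 ^ b

lemma cx_h (a b : ℕ) (hb : 1 ≤ b) (α : k) (i : ℕ) (r : PS k) :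
    cx i (h' k a b α * r) = if a ≤ i then cx (i - a) r else 0 := by
  rw [h', add_mul, map_add, cx_powx, mul_assoc, cx_C, cx_powy _ _ hb, mul_zero, add_zero]

lemma cy_h (a b : ℕ) (ha : 1 ≤ a) (α : k) (j : ℕ) (r : PS k) :
    cy j (h' k a b α * r) = α * (if b ≤ j then cy (j - b) r else 0) := by
  rw [h', add_mul, map_add, cy_powx _ _ ha, mul_assoc, cy_C, cy_powy, zero_add]

lemma K_le (a b : ℕ) (ha : 1 ≤ a) (hb : 1 ≤ b) (α : k) (hα : α ≠ 0) :
    K k (a + 1) (b + 1) ≤ Ideal.span {MvPowerSeries.X 0 * MvPowerSeries.X 1, h' k a b α} := by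
  rw [K, Ideal.span_le]
  have hxy : (MvPowerSeries.X 0 * MvPowerSeries.X 1 : PS k) ∈
      Ideal.span {MvPowerSeries.X 0 * MvPowerSeries.X 1, h' k a b α} := Ideal.subset_span (by simp)
  have hh : h' k a b α ∈ Ideal.span {MvPowerSeries.X 0 * MvPowerSeries.X 1, h' k a b α} :=
    Ideal.subset_span (by simp)
  obtain ⟨a, rfl⟩ : ∃ a', a = a' + 1 := ⟨a - 1, by omega⟩
  obtain ⟨b, rfl⟩ : ∃ b', b = b' + 1 := ⟨b - 1, by omega⟩
  rintro z (rfl | rfl | hz)
  · exact hxy
  · rw [show (MvPowerSeries.X 0 : PS k) ^ (a + 1 + 1) = MvPowerSeries.X 0 * h' k (a + 1) (b + 1) α -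
      (MvPowerSeries.C α * MvPowerSeries.X 1 ^ b) * (MvPowerSeries.X 0 * MvPowerSeries.X 1) by rw [h']; ring]
    exact sub_mem (Ideal.mul_mem_left _ _ hh) (Ideal.mul_mem_left _ _ hxy)
  · rw [Set.mem_singleton_iff] at hz
    subst hz
    have h1 : MvPowerSeries.C α * (MvPowerSeries.X 1 : PS k) ^ (b + 1 + 1) =
        MvPowerSeries.X 1 * h' k (a + 1) (b + 1) α -
          MvPowerSeries.X 0 ^ a * (MvPowerSeries.X 0 * MvPowerSeries.X 1) := by rw [h']; ring
    have h2 : (MvPowerSeries.X 1 : PS k) ^ (b + 1 + 1) =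
        MvPowerSeries.C α⁻¹ * (MvPowerSeries.C α * MvPowerSeries.X 1 ^ (b + 1 + 1)) := by
      rw [← mul_assoc, ← map_mul, inv_mul_cancel₀ hα, map_one, one_mul]
    rw [SetLike.mem_coe, h2, h1]
    exact Ideal.mul_mem_left _ _ (sub_mem (Ideal.mul_mem_left _ _ hh) (Ideal.mul_mem_left _ _ hxy))

lemma finrank_h (a b : ℕ) (ha : 1 ≤ a) (hb : 1 ≤ b) (α : k) (hα : α ≠ 0) :
    Module.finrank k ((PS k) ⧸ Ideal.span {MvPowerSeries.X 0 * MvPowerSeries.X 1, h' k a b α}) = a + b := by
  classical
  let ψ : (PS k) →ₗ[k] (Fin a → k) × ((Fin (b - 1) → k) × k) :=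
    (LinearMap.pi fun i : Fin a => cx (i : ℕ)).prod
      ((LinearMap.pi fun j : Fin (b - 1) => cy ((j : ℕ) + 1)).prod (cx a - α⁻¹ • cy b))
  have hψ : ∀ g, ψ g = (fun i : Fin a => cx (i : ℕ) g,
      (fun j : Fin (b - 1) => cy ((j : ℕ) + 1) g, cx a g - α⁻¹ * cy b g)) := fun g => rfl
  rw [finrank_quot _ ψ ?_ fun f => ?_]
  · rw [Module.finrank_prod, Module.finrank_prod, Module.finrank_fintype_fun_eq_card,
      Module.finrank_fintype_fun_eq_card, Fintype.card_fin, Fintype.card_fin, Module.finrank_self]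
    omega
  · rintro ⟨p, q, c⟩
    refine ⟨mk' (fun e => if h : e 1 = 0 ∧ e 0 < a then p ⟨e 0, h.2⟩
      else if h : 1 ≤ e 1 ∧ e 1 - 1 < b - 1 then q ⟨e 1 - 1, h.2⟩
      else if e 1 = 0 ∧ e 0 = a then c else 0), ?_⟩
    refine (hψ _).trans ?_
    refine Prod.ext (funext fun i => ?_) (Prod.ext (funext fun j => ?_) ?_)
    · show MvPowerSeries.coeff (R := k) (Finsupp.single (0 : Fin 2) (i : ℕ)) _ = _
      rw [coeff_mk, dif_pos (by simp)]
      simp
    · show MvPowerSeries.coeff (R := k) (Finsupp.single (1 : Fin 2) ((j : ℕ) + 1)) _ = _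
      rw [coeff_mk, dif_neg (by simp), dif_pos (by simp)]
      simp
    · show MvPowerSeries.coeff (R := k) (Finsupp.single (0 : Fin 2) a) _ - α⁻¹ * MvPowerSeries.coeff (R := k) (Finsupp.single (1 : Fin 2) b) _ = _
      rw [coeff_mk, coeff_mk, dif_neg (by simp), dif_neg (by simp), if_pos (by simp),
        dif_neg (by simp <;> omega), dif_neg (by simp <;> omega), if_neg (by simp <;> omega)]
      first | done | simp
  · constructor
    · intro h
      rw [Prod.ext_iff, Prod.ext_iff, funext_iff, funext_iff] at h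
      obtain ⟨h1, h2, h3⟩ := h
      have h3' : cx a f - α⁻¹ * cy b f = 0 := h3
      have hK : f - h' k a b α * MvPowerSeries.C (cx a f) ∈ K k (a + 1) (b + 1) := by
        refine mem_K _ _ _ (fun i hi => ?_) (fun j hj1 hj => ?_) (by omega)
        · rw [map_sub, cx_h _ _ hb]
          rcases Nat.lt_succ_iff_lt_or_eq.1 hi with hlt | rfl
          · rw [if_neg (by omega), sub_zero]; exact h1 ⟨i, hlt⟩
          · rw [if_pos le_rfl, Nat.sub_self, cx0_eq (MvPowerSeries.C _)]; simp
        · rw [map_sub, cy_h _ _ ha]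
          rcases Nat.lt_succ_iff_lt_or_eq.1 hj with hlt | rfl
          · obtain ⟨j, rfl⟩ : ∃ j', j = j' + 1 := ⟨j - 1, by omega⟩
            rw [if_neg (by omega), mul_zero, sub_zero]; exact h2 ⟨j, by omega⟩
          · rw [if_pos le_rfl, Nat.sub_self, cy0_eq, cx0_eq, MvPowerSeries.constantCoeff_C,
              sub_eq_zero.1 h3', ← mul_assoc, mul_inv_cancel₀ hα, one_mul, sub_self]
      have := add_mem (K_le a b ha hb α hα hK)
        (Ideal.mul_mem_right (MvPowerSeries.C (cx a f)) _
          (Ideal.subset_span (show h' k a b α ∈ ({MvPowerSeries.X 0 * MvPowerSeries.X 1, h' k a b α} : Set _) by simp)))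
      rwa [sub_add_cancel] at this
    · intro h
      rw [Ideal.mem_span_pair] at h
      obtain ⟨r, s, rfl⟩ := h
      rw [mul_comm r, mul_comm s]
      refine (hψ _).trans ?_
      refine Prod.ext (funext fun i => ?_) (Prod.ext (funext fun j => ?_) ?_)
      · show cx (k := k) (i : ℕ) _ = 0
        rw [map_add, cx_xy, cx_h _ _ hb, if_neg (by omega), add_zero]
      · show cy (k := k) ((j : ℕ) + 1) _ = 0
        rw [map_add, cy_xy, cy_h _ _ ha, if_neg (by omega), mul_zero, add_zero]
      · show cx (k := k) a _ - α⁻¹ * cy (k := k) b _ = 0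
        rw [map_add, map_add, cx_xy, cy_xy, cx_h _ _ hb, cy_h _ _ ha, if_pos le_rfl, if_pos le_rfl,
          Nat.sub_self, Nat.sub_self, cy0_eq, zero_add, zero_add, ← mul_assoc, inv_mul_cancel₀ hα, one_mul, sub_self]

/-- Ideals of colength n of the complete local ring of a node. Let k be a field and J an ideal of the
power series ring k[[x,y]] in two variables x, y which contains xy and whose quotient is
finite-dimensional over k of dimension n ≥ 2. Then there are integers a, b ≥ 1 such that either a +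
b = n + 1 and J is generated by xy, x^a, y^b, or a + b = n and J is generated by xy and x^a + α y^b
for some nonzero scalar α. -/
theorem result (k : Type u) [Field k]
    (J : Ideal (MvPowerSeries (Fin 2) k))
    (hxy : (MvPowerSeries.X 0 * MvPowerSeries.X 1 : MvPowerSeries (Fin 2) k) ∈ J)
    [Module.Finite k (MvPowerSeries (Fin 2) k ⧸ J)] (n : ℕ) (hn : Module.finrank k (MvPowerSeries (Fin 2) k ⧸ J) = n)
    (h2 : 2 ≤ n) :
    ∃ a b : ℕ, 1 ≤ a ∧ 1 ≤ b ∧
      ((a + b = n + 1 ∧
        J = Ideal.span {MvPowerSeries.X 0 * MvPowerSeries.X 1, MvPowerSeries.X 0 ^ a, MvPowerSeries.X 1 ^ b}) ∨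
       (a + b = n ∧ ∃ α : k, α ≠ 0 ∧
        J = Ideal.span {MvPowerSeries.X 0 * MvPowerSeries.X 1,
          MvPowerSeries.X 0 ^ a + MvPowerSeries.C α * MvPowerSeries.X 1 ^ b})) := by
  classical
  have hJ : J ≠ ⊤ := by
    intro h
    subst h
    rw [Module.finrank_zero_of_subsingleton] at hn
    omega
  haveI : IsArtinianRing (MvPowerSeries (Fin 2) k ⧸ J) := IsArtinianRing.of_finite k _
  have hpow : ∀ s : Fin 2, ∃ N, (MvPowerSeries.X s : MvPowerSeries (Fin 2) k) ^ N ∈ J := by
    intro s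
    obtain ⟨N, y, hy⟩ := IsArtinian.exists_pow_succ_smul_dvd (M := MvPowerSeries (Fin 2) k ⧸ J)
      (Ideal.Quotient.mk J (MvPowerSeries.X s)) 1
    obtain ⟨r, rfl⟩ := Ideal.Quotient.mk_surjective y
    refine ⟨N, ?_⟩
    rw [smul_eq_mul, smul_eq_mul, mul_one, ← map_pow, ← map_pow, ← map_mul, Ideal.Quotient.eq] at hy
    have hu : IsUnit (MvPowerSeries.X s * r - 1 : MvPowerSeries (Fin 2) k) := by
      rw [MvPowerSeries.isUnit_iff_constantCoeff]; simp
    rw [← Ideal.mul_unit_mem_iff_mem J hu]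
    have heq : (MvPowerSeries.X s : MvPowerSeries (Fin 2) k) ^ N.succ * r - MvPowerSeries.X s ^ N =
        MvPowerSeries.X s ^ N * (MvPowerSeries.X s * r - 1) := by rw [pow_succ]; ring
    rwa [heq] at hy
  let a := Nat.find (hpow 0)
  let b := Nat.find (hpow 1)
  have ha1 : 1 ≤ a := by
    by_contra h
    have h0 := Nat.find_spec (hpow 0)
    rw [show Nat.find (hpow 0) = 0 by omega, pow_zero, ← Ideal.eq_top_iff_one] at h0
    exact hJ h0
  have hb1 : 1 ≤ b := by
    by_contra h
    have h0 := Nat.find_spec (hpow 1)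
    rw [show Nat.find (hpow 1) = 0 by omega, pow_zero, ← Ideal.eq_top_iff_one] at h0
    exact hJ h0
  have hKJ : K k a b ≤ J := by
    rw [K, Ideal.span_le]
    rintro z (rfl | rfl | hz)
    · exact hxy
    · exact Nat.find_spec (hpow 0)
    · rw [Set.mem_singleton_iff] at hz; subst hz; exact Nat.find_spec (hpow 1)
  have hconst : ∀ f ∈ J, cx 0 f = 0 := by
    intro f hf
    by_contra h
    refine hJ (Ideal.eq_top_of_isUnit_mem _ hf ?_)
    rw [MvPowerSeries.isUnit_iff_constantCoeff, ← cx0_eq]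
    exact isUnit_iff_ne_zero.2 h
  have hlowx : ∀ f ∈ J, ∀ i, i + 1 < a → cx i f = 0 := by
    intro f hf i
    induction i using Nat.strong_induction_on with
    | _ i ih =>
      intro hi
      by_contra hne
      refine Nat.find_min (hpow 0) (show i + 1 < Nat.find (hpow 0) from hi) ?_
      have hK : MvPowerSeries.X 0 * f - MvPowerSeries.X 0 ^ (i + 1) * MvPowerSeries.C (cx i f) ∈ K k (i + 2) b := by
        refine mem_K _ _ _ (fun l hl => ?_) (fun j h1 h2 => ?_) (by omega)
        swap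
        · rw [map_sub, cy_powx _ _ (by omega), ← pow_one (MvPowerSeries.X 0 : MvPowerSeries (Fin 2) k),
            cy_powx _ _ le_rfl, sub_zero]
        rw [map_sub, ← pow_one (MvPowerSeries.X 0 : MvPowerSeries (Fin 2) k), cx_powx, pow_one, cx_powx]
        rcases Nat.lt_succ_iff_lt_or_eq.1 hl with hl' | rfl
        · rw [if_neg (show ¬ i + 1 ≤ l by omega), sub_zero]
          rcases Nat.eq_zero_or_pos l with rfl | hl0
          · simp
          · rw [if_pos (show 1 ≤ l by omega)]
            exact ih (l - 1) (by omega) (by omega)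
        · rw [if_pos (by omega), if_pos le_rfl, Nat.sub_self, cx0_eq, MvPowerSeries.constantCoeff_C]
          simp
      rw [K, Ideal.mem_span_insert] at hK
      obtain ⟨r, z, hz, hrz⟩ := hK
      rw [Ideal.mem_span_pair] at hz
      obtain ⟨s, t, rfl⟩ := hz
      have hu : IsUnit (MvPowerSeries.C (cx i f) + MvPowerSeries.X 0 * s : MvPowerSeries (Fin 2) k) := by
        rw [MvPowerSeries.isUnit_iff_constantCoeff]; simpa using hne
      rw [← Ideal.mul_unit_mem_iff_mem J hu]
      have heq : (MvPowerSeries.X 0 : MvPowerSeries (Fin 2) k) ^ (i + 1) *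
          (MvPowerSeries.C (cx i f) + MvPowerSeries.X 0 * s) =
          MvPowerSeries.X 0 * f - r * (MvPowerSeries.X 0 * MvPowerSeries.X 1) - t * MvPowerSeries.X 1 ^ b := by
        linear_combination -hrz
      rw [heq]
      exact sub_mem (sub_mem (J.mul_mem_left _ hf) (J.mul_mem_left _ hxy)) (J.mul_mem_left _ (Nat.find_spec (hpow 1)))
  have hlowy : ∀ f ∈ J, ∀ i, i + 1 < b → cy i f = 0 := by
    intro f hf i
    induction i using Nat.strong_induction_on with
    | _ i ih =>
      intro hi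
      by_contra hne
      refine Nat.find_min (hpow 1) (show i + 1 < Nat.find (hpow 1) from hi) ?_
      have hK : MvPowerSeries.X 1 * f - MvPowerSeries.X 1 ^ (i + 1) * MvPowerSeries.C (cy i f) ∈ K k a (i + 2) := by
        refine mem_K _ _ _ (fun l hl => ?_) (fun l h1 h2 => ?_) ha1
        · rw [map_sub, ← pow_one (MvPowerSeries.X 1 : MvPowerSeries (Fin 2) k), cx_powy _ _ le_rfl, pow_one,
            cx_powy _ _ (by omega), sub_zero]
        · rw [map_sub, ← pow_one (MvPowerSeries.X 1 : MvPowerSeries (Fin 2) k), cy_powy, pow_one, cy_powy,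
            if_pos h1]
          rcases Nat.lt_succ_iff_lt_or_eq.1 h2 with hl' | rfl
          · rw [if_neg (show ¬ i + 1 ≤ l by omega), sub_zero]
            exact ih (l - 1) (by omega) (by omega)
          · rw [if_pos le_rfl, Nat.sub_self, cy0_eq, cx0_eq, MvPowerSeries.constantCoeff_C]
            simp
      rw [K, Ideal.mem_span_insert] at hK
      obtain ⟨r, z, hz, hrz⟩ := hK
      rw [Ideal.mem_span_pair] at hz
      obtain ⟨s, t, rfl⟩ := hz
      have hu : IsUnit (MvPowerSeries.C (cy i f) + MvPowerSeries.X 1 * t : MvPowerSeries (Fin 2) k) := by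
        rw [MvPowerSeries.isUnit_iff_constantCoeff]; simpa using hne
      rw [← Ideal.mul_unit_mem_iff_mem J hu]
      have heq : (MvPowerSeries.X 1 : MvPowerSeries (Fin 2) k) ^ (i + 1) *
          (MvPowerSeries.C (cy i f) + MvPowerSeries.X 1 * t) =
          MvPowerSeries.X 1 * f - r * (MvPowerSeries.X 0 * MvPowerSeries.X 1) - s * MvPowerSeries.X 0 ^ a := by
        linear_combination -hrz
      rw [heq]
      exact sub_mem (sub_mem (J.mul_mem_left _ hf) (J.mul_mem_left _ hxy)) (J.mul_mem_left _ (Nat.find_spec (hpow 0)))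
  by_cases hJK : J ≤ K k a b
  · have hJe : J = K k a b := le_antisymm hJK hKJ
    rw [(Ideal.quotientEquivAlgOfEq k hJe).toLinearEquiv.finrank_eq, finrank_K a b ha1 hb1] at hn
    exact ⟨a, b, ha1, hb1, Or.inl ⟨by omega, hJe⟩⟩
  obtain ⟨f, hf, hfK⟩ := SetLike.not_le_iff_exists.1 hJK
  have hnx : ∀ g ∈ J, (cx (a - 1) g = 0 → cy (b - 1) g = 0 → g ∈ K k a b) := by
    intro g hg h1 h2
    refine mem_K _ _ _ (fun i hi => ?_) (fun j _ hj => ?_) ha1
    · rcases Nat.lt_or_ge (i + 1) a with h | h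
      · exact hlowx g hg i h
      · rwa [show i = a - 1 by omega]
    · rcases Nat.lt_or_ge (j + 1) b with h | h
      · exact hlowy g hg j h
      · rwa [show j = b - 1 by omega]
  have hgx : ∀ g ∈ J, cx (a - 1) g = 0 → cy (b - 1) g = 0 := by
    intro g hg h1
    by_contra h2
    have hb2 : 1 ≤ b - 1 := by
      by_contra h
      apply h2
      rw [show b - 1 = 0 by omega, cy0_eq]
      exact hconst g hg
    refine Nat.find_min (hpow 1) (show b - 1 < Nat.find (hpow 1) by omega) ?_
    have hK : g - MvPowerSeries.X 1 ^ (b - 1) * MvPowerSeries.C (cy (b - 1) g) ∈ K k a b := by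
      refine mem_K _ _ _ (fun i hi => ?_) (fun j _ hj => ?_) ha1
      · rw [map_sub, cx_powy _ _ hb2, sub_zero]
        rcases Nat.lt_or_ge (i + 1) a with h | h
        · exact hlowx g hg i h
        · rwa [show i = a - 1 by omega]
      · rw [map_sub, cy_powy]
        rcases Nat.lt_or_ge (j + 1) b with h | h
        · rw [hlowy g hg j h, if_neg (by omega), sub_zero]
        · rw [show j = b - 1 by omega, if_pos le_rfl, Nat.sub_self, cy0_eq, cx0_eq, MvPowerSeries.constantCoeff_C]
          simp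
    have hu : IsUnit (MvPowerSeries.C (cy (b - 1) g) : MvPowerSeries (Fin 2) k) :=
      (isUnit_iff_ne_zero.2 h2).map _
    rw [← Ideal.mul_unit_mem_iff_mem J hu]
    have := sub_mem hg (hKJ hK)
    rwa [sub_sub_cancel] at this
  have hc : cx (a - 1) f ≠ 0 := fun h => hfK (hnx f hf h (hgx f hf h))
  have ha2 : 1 ≤ a - 1 := by
    by_contra h
    apply hc
    rw [show a - 1 = 0 by omega]
    exact hconst f hf
  have hd : cy (b - 1) f ≠ 0 := by
    intro h2
    refine Nat.find_min (hpow 0) (show a - 1 < Nat.find (hpow 0) by omega) ?_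
    have hK : f - MvPowerSeries.X 0 ^ (a - 1) * MvPowerSeries.C (cx (a - 1) f) ∈ K k a b := by
      refine mem_K _ _ _ (fun i hi => ?_) (fun j _ hj => ?_) ha1
      · rw [map_sub, cx_powx]
        rcases Nat.lt_or_ge (i + 1) a with h | h
        · rw [hlowx f hf i h, if_neg (by omega), sub_zero]
        · rw [show i = a - 1 by omega, if_pos le_rfl, Nat.sub_self, cx0_eq, MvPowerSeries.constantCoeff_C]
          simp
      · rw [map_sub, cy_powx _ _ ha2, sub_zero]
        rcases Nat.lt_or_ge (j + 1) b with h | h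
        · exact hlowy f hf j h
        · rwa [show j = b - 1 by omega]
    rw [← Ideal.mul_unit_mem_iff_mem J ((isUnit_iff_ne_zero.2 hc).map MvPowerSeries.C)]
    have := sub_mem hf (hKJ hK)
    rwa [sub_sub_cancel] at this
  have hb2 : 1 ≤ b - 1 := by
    by_contra h
    apply hd
    rw [show b - 1 = 0 by omega, cy0_eq]
    exact hconst f hf
  obtain ⟨a', ha'⟩ : ∃ a', a = a' + 1 := ⟨a - 1, by omega⟩
  obtain ⟨b', hb'⟩ : ∃ b', b = b' + 1 := ⟨b - 1, by omega⟩
  rw [show a - 1 = a' by omega] at hc ha2 hgx hnx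
  rw [show b - 1 = b' by omega] at hd hb2 hgx hnx
  set α : k := cy b' f / cx a' f with hα
  have hα0 : α ≠ 0 := div_ne_zero hd hc
  have hKle := K_le a' b' ha2 hb2 α hα0
  have hh : h' k a' b' α ∈ J := by
    have hK : f - h' k a' b' α * MvPowerSeries.C (cx a' f) ∈ K k a b := by
      refine mem_K _ _ _ (fun i hi => ?_) (fun j _ hj => ?_) ha1
      · rw [map_sub, cx_h _ _ hb2]
        rcases Nat.lt_or_ge (i + 1) a with h | h
        · rw [hlowx f hf i h, if_neg (by omega), sub_zero]
        · rw [show i = a' by omega, if_pos le_rfl, Nat.sub_self, cx0_eq (MvPowerSeries.C _)]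
          simp
      · rw [map_sub, cy_h _ _ ha2]
        rcases Nat.lt_or_ge (j + 1) b with h | h
        · rw [hlowy f hf j h, if_neg (by omega), mul_zero, sub_zero]
        · rw [show j = b' by omega, if_pos le_rfl, Nat.sub_self, cy0_eq (MvPowerSeries.C _), cx0_eq (MvPowerSeries.C _),
            MvPowerSeries.constantCoeff_C, hα, div_mul_cancel₀ _ hc, sub_self]
    rw [← Ideal.mul_unit_mem_iff_mem J ((isUnit_iff_ne_zero.2 hc).map MvPowerSeries.C)]
    have := sub_mem hf (hKJ hK)
    rwa [sub_sub_cancel] at this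
  have hJe : J = Ideal.span {MvPowerSeries.X 0 * MvPowerSeries.X 1, h' k a' b' α} := by
    refine le_antisymm (fun g hg => ?_) ?_
    · have hg' : g - h' k a' b' α * MvPowerSeries.C (cx a' g) ∈ J := sub_mem hg (J.mul_mem_right _ hh)
      have h0 : cx a' (g - h' k a' b' α * MvPowerSeries.C (cx a' g)) = 0 := by
        rw [map_sub, cx_h _ _ hb2, if_pos le_rfl, Nat.sub_self, cx0_eq (MvPowerSeries.C _)]
        simp
      have hK := hnx _ hg' h0 (hgx _ hg' h0)
      rw [ha', hb'] at hK
      have := add_mem (hKle hK) (Ideal.mul_mem_right (MvPowerSeries.C (cx a' g)) _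
        (Ideal.subset_span (show h' k a' b' α ∈
          ({MvPowerSeries.X 0 * MvPowerSeries.X 1, h' k a' b' α} : Set _) by simp)))
      rwa [sub_add_cancel] at this
    · rw [Ideal.span_le]
      rintro z (rfl | hz)
      · exact hxy
      · rw [Set.mem_singleton_iff] at hz; subst hz; exact hh
  rw [(Ideal.quotientEquivAlgOfEq k hJe).toLinearEquiv.finrank_eq, finrank_h a' b' ha2 hb2 α hα0] at hn
  exact ⟨a', b', ha2, hb2, Or.inr ⟨hn, α, hα0, hJe⟩⟩

end Groth.Agent.S19437
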