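import Groth.Statements.S19438
import Mathlib.RingTheory.Ideal.Cotangent
import Mathlib.RingTheory.Adjoin.Polynomial.Basic
import Mathlib.LinearAlgebra.FiniteDimensional.Basic

set_option autoImplicit false
universe u
open CAlg

namespace Groth.Agent.S19438
open IsLocalRing

/-- First assertion: let A be a Noetherian local commutative algebra over a field k with maximal ideal
M, residue field k (the map from k to A/M is onto) and embedding dimension dim M/M^2 at least 2, and
let I be a proper ideal with A/I finite-dimensional over k. If A/I is generated as a k-algebra by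
one element, then some element of I does not lie in M^2; that is, the finite closed subscheme
defined by I lies on a smooth hypersurface germ (it is curvilinear). (The published statement is for
the local ring of a smooth surface at a closed point; only a Noetherian local algebra with residue
field k and embedding dimension at least 2 is assumed here, which is what the published argument
uses.) -/
theorem result (k : Type u) [Field k]
    (A : Type u) [CommRing A] [Algebra k A] [IsNoetherianRing A] [IsLocalRing A]
    (hres : Function.Surjective (algebraMap k (IsLocalRing.ResidueField A)))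
    (hemb : 2 ≤ Module.finrank (IsLocalRing.ResidueField A) (IsLocalRing.CotangentSpace A))
    (I : Ideal A) (hI : I ≠ ⊤) [Module.Finite k (A ⧸ I)]
    (f : A ⧸ I) (hf : Algebra.adjoin k {f} = ⊤) :
    ∃ g ∈ I, g ∉ IsLocalRing.maximalIdeal A ^ 2 := by
  by_contra! hsub
  obtain ⟨F, rfl⟩ := Ideal.Quotient.mk_surjective f
  obtain ⟨c, hc⟩ := hres (residue A F)
  have hx : F - algebraMap k A c ∈ maximalIdeal A := by
    rw [← residue_eq_zero_iff, map_sub, ← hc, IsScalarTower.algebraMap_apply k A (ResidueField A), ResidueField.algebraMap_eq, sub_self]
  let x : maximalIdeal A := ⟨_, hx⟩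
  have key : ∀ P : Polynomial k, ∃ α β : k, Polynomial.aeval F P - algebraMap k A α - algebraMap k A β * x ∈ maximalIdeal A ^ 2 := by
    intro P
    induction P using Polynomial.induction_on with
    | C a => exact ⟨a, 0, by simp⟩
    | add p q hp hq =>
      obtain ⟨a, b, hp⟩ := hp
      obtain ⟨a', b', hq⟩ := hq
      refine ⟨a + a', b + b', ?_⟩
      convert Ideal.add_mem _ hp hq using 1
      simp only [map_add]; ring
    | monomial n a ih =>
      obtain ⟨α, β, ih⟩ := ih
      refine ⟨α * c, β * c + α, ?_⟩
      have h2 : (x : A) * x ∈ maximalIdeal A ^ 2 := by rw [sq]; exact Ideal.mul_mem_mul x.2 x.2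
      convert Ideal.add_mem _ (Ideal.mul_mem_right F _ ih) (Ideal.mul_mem_left _ (algebraMap k A β) h2) using 1
      simp only [map_mul, map_add, map_pow, Polynomial.aeval_C, Polynomial.aeval_X, x, pow_succ]
      ring
  have hspan : ∀ w : CotangentSpace A, ∃ r : ResidueField A, r • (maximalIdeal A).toCotangent x = w := by
    intro w
    obtain ⟨a, rfl⟩ := Ideal.toCotangent_surjective _ w
    have hmem : Ideal.Quotient.mk I (a : A) ∈ Algebra.adjoin k {Ideal.Quotient.mk I F} := hf ▸ Algebra.mem_top
    rw [Algebra.adjoin_singleton_eq_range_aeval] at hmem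
    obtain ⟨P, hP⟩ := hmem
    obtain ⟨α, β, h⟩ := key P
    have hP' : (a : A) - Polynomial.aeval F P ∈ maximalIdeal A ^ 2 := hsub _ (Ideal.Quotient.eq.1 (by
      rw [← hP]
      exact Polynomial.aeval_algHom_apply (Ideal.Quotient.mkₐ k I) F P))
    have h' := Ideal.add_mem _ hP' h
    rw [sub_sub, sub_add_sub_cancel] at h'
    have hα : α = 0 := by
      by_contra h0
      refine (maximalIdeal.isMaximal A).ne_top (Ideal.eq_top_of_isUnit_mem _ ?_ ((isUnit_iff_ne_zero.2 h0).map (algebraMap k A)))
      have := Ideal.sub_mem _ (Ideal.sub_mem _ a.2 (Ideal.mul_mem_left _ (algebraMap k A β) x.2)) (Ideal.pow_le_self two_ne_zero h')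
      convert this using 1
      ring
    refine ⟨residue A (algebraMap k A β), ?_⟩
    change algebraMap k A β • (maximalIdeal A).toCotangent x = _
    rw [← map_smul, Ideal.toCotangent_eq]
    rw [hα, map_zero, zero_add] at h'
    show algebraMap k A β * (x : A) - a ∈ _
    rw [← neg_sub]
    exact neg_mem h'
  have := finrank_le_one _ hspan
  omega

end Groth.Agent.S19438
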