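import Groth.Statements.S19439
import Mathlib

set_option autoImplicit false
universe u
open CAlg

namespace Groth.Agent.S19439

/-- Affine form: for all n and N there is an integer d, that depends only on n and N, such that for
every algebraically closed field k and every ideal I of the polynomial ring in N variables over k
whose quotient has finite dimension n over k, the polynomials of total degree at most d map onto the
quotient. -/
theorem result (n N : ℕ) :
    ∃ d : ℕ, ∀ (k : Type u) [Field k] [IsAlgClosed k] (I : Ideal (MvPolynomial (Fin N) k))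
      [Module.Finite k (MvPolynomial (Fin N) k ⧸ I)],
      Module.finrank k (MvPolynomial (Fin N) k ⧸ I) = n →
      Submodule.map (Ideal.Quotient.mkₐ k I).toLinearMap (MvPolynomial.restrictTotalDegree (Fin N) k d) = ⊤ := by
  refine ⟨n, fun k _ _ I _ hn => ?_⟩
  let V : ℕ → Submodule k (MvPolynomial (Fin N) k ⧸ I) := fun d =>
    Submodule.map (Ideal.Quotient.mkₐ k I).toLinearMap (MvPolynomial.restrictTotalDegree (Fin N) k d)
  show V n = ⊤
  have hmono : ∀ d, V d ≤ V (d + 1) := fun d => Submodule.map_mono fun p hp => by
    rw [MvPolynomial.mem_restrictTotalDegree] at hp ⊢; omega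
  have hX : ∀ d i, ∀ v ∈ V d, v * Ideal.Quotient.mk I (MvPolynomial.X i) ∈ V (d + 1) := by
    rintro d i _ ⟨p, hp, rfl⟩
    refine ⟨p * MvPolynomial.X i, ?_, map_mul (Ideal.Quotient.mk I) _ _⟩
    simp only [SetLike.mem_coe, MvPolynomial.mem_restrictTotalDegree] at hp ⊢
    exact (MvPolynomial.totalDegree_mul _ _).trans (by
      have := MvPolynomial.totalDegree_X (R := k) i; omega)
  have hstab : ∀ d, V (d + 1) = V d → V d = ⊤ := by
    intro d hd
    rw [eq_top_iff]
    rintro x -
    obtain ⟨p, rfl⟩ := Ideal.Quotient.mk_surjective x
    induction p using MvPolynomial.induction_on with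
    | C a => exact ⟨MvPolynomial.C a, by simp [MvPolynomial.mem_restrictTotalDegree], rfl⟩
    | add p q hp hq => rw [map_add]; exact add_mem hp hq
    | mul_X p i hp => rw [map_mul]; exact hd ▸ hX d i _ hp
  have key : ∀ d, V d = ⊤ ∨ d + 1 ≤ Module.finrank k (V d) := by
    intro d
    induction d with
    | zero =>
      rcases subsingleton_or_nontrivial (MvPolynomial (Fin N) k ⧸ I) with h | h
      · left; exact Subsingleton.elim _ _
      · right
        rw [Nat.one_le_iff_ne_zero, ne_eq, Submodule.finrank_eq_zero]
        intro h0
        have h1 : Ideal.Quotient.mk I 1 ∈ V 0 := ⟨1, by simp [MvPolynomial.mem_restrictTotalDegree], rfl⟩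
        rw [h0, Submodule.mem_bot, map_one] at h1
        exact one_ne_zero h1
    | succ d ih =>
      rcases eq_or_ne (V (d + 1)) (V d) with h | h
      · left; rw [h, hstab d h]
      rcases ih with ih | ih
      · left; exact top_unique (ih ▸ hmono d)
      · right
        have := Submodule.finrank_lt_finrank_of_lt (lt_of_le_of_ne (hmono d) (Ne.symm h))
        omega
  rcases key n with h | h
  · exact h
  · have := Submodule.finrank_le (V n)
    omega

end Groth.Agent.S19439
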