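import Groth.Statements.S19440
-- import your own Groth.Agent.* helpers here

set_option autoImplicit false
universe u
open LinAlg

namespace Groth.Agent.S19440

/-- Let U, V be commuting n × n matrices over a field k and e a vector which is cyclic for them (the
vectors U^p V^q e span k^n). An invertible matrix T which commutes with U and V and fixes e is the
identity: the general linear group acts freely by simultaneous conjugation on commuting pairs with a
cyclic vector. -/
theorem result (k : Type u) [Field k] (n : ℕ)
    (U V : Matrix (Fin n) (Fin n) k) (hUV : U * V = V * U) (e : Fin n → k)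
    (he : Submodule.span k (Set.range fun p : ℕ × ℕ => (U ^ p.1 * V ^ p.2).mulVec e) = ⊤)
    (T : Matrix.GeneralLinearGroup (Fin n) k)
    (hTU : (T : Matrix (Fin n) (Fin n) k) * U = U * T) (hTV : (T : Matrix (Fin n) (Fin n) k) * V = V * T)
    (hTe : (T : Matrix (Fin n) (Fin n) k).mulVec e = e) : T = 1 := by
  have hcomm : ∀ p q : ℕ, (T : Matrix (Fin n) (Fin n) k) * (U ^ p * V ^ q) = U ^ p * V ^ q * T :=
    fun p q => (((Commute.pow_right hTU p).mul_right (Commute.pow_right hTV q))).eq
  have key : ∀ v, (T : Matrix (Fin n) (Fin n) k).mulVec v = v := by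
    intro v
    have hv : v ∈ Submodule.span k (Set.range fun p : ℕ × ℕ => (U ^ p.1 * V ^ p.2).mulVec e) :=
      he ▸ Submodule.mem_top
    induction hv using Submodule.span_induction with
    | mem x hx =>
      obtain ⟨⟨p, q⟩, rfl⟩ := hx
      simp only
      rw [Matrix.mulVec_mulVec, hcomm, ← Matrix.mulVec_mulVec, hTe]
    | zero => simp
    | add x y _ _ hx hy => rw [Matrix.mulVec_add, hx, hy]
    | smul r x _ hx => rw [Matrix.mulVec_smul, hx]
  refine Units.ext ?_
  ext i j
  have := congrFun (key (Pi.single j 1)) i
  simpa [Matrix.one_apply, Pi.single_apply] using this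

end Groth.Agent.S19440
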