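import Groth.Statements.S19443
-- import your own Groth.Agent.* helpers here

set_option autoImplicit false
universe u
open LinAlg

namespace Groth.Agent.S19443

/-- Algebraic form: let G be a finite group with order invertible in the field k, ρ a linear
representation of G on a k-vector space V, and ω a nondegenerate bilinear form on V invariant under
G. Then ω restricted to the fixed subspace V^G is nondegenerate (for a finite group of symplectic
automorphisms, the fixed subspace is a symplectic subspace). -/
theorem result (k : Type u) [Field k]
    (G : Type u) [Group G] [Finite G] (hG : (Nat.card G : k) ≠ 0)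
    (V : Type u) [AddCommGroup V] [Module k V] (ρ : Representation k G V)
    (ω : LinearMap.BilinForm k V) (hω : ω.Nondegenerate)
    (hinv : ∀ (g : G) (v w : V), ω (ρ g v) (ρ g w) = ω v w) :
    (ω.restrict ρ.invariants).Nondegenerate := by
  classical
  have : Fintype G := Fintype.ofFinite G
  have hG' : (Fintype.card G : k) ≠ 0 := by rwa [← Nat.card_eq_fintype_card]
  have hG'' : Invertible (Fintype.card G : k) := invertibleOfNonzero hG'
  have key : ∀ v ∈ ρ.invariants, ∀ w, ω v (ρ.averageMap w) = ω v w ∧ ω (ρ.averageMap w) v = ω w v := by
    intro v hv w
    have hs : ∀ g : G, ω v (ρ g w) = ω v w ∧ ω (ρ g w) v = ω w v := fun g => by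
      constructor
      · conv_lhs => rw [← hv g]
        exact hinv g v w
      · conv_lhs => rw [← hv g]
        exact hinv g w v
    simp [Representation.averageMap, GroupAlgebra.average, map_sum, Finset.smul_sum, hs,
      Finset.sum_const, Finset.card_univ, hG']
  constructor
  · rintro ⟨v, hv⟩ h
    refine Subtype.ext (hω.1 v fun w => ?_)
    rw [← (key v hv w).1]
    exact h ⟨_, Representation.averageMap_invariant ρ w⟩
  · rintro ⟨v, hv⟩ h
    refine Subtype.ext (hω.2 v fun w => ?_)
    rw [← (key v hv w).2]
    exact h ⟨_, Representation.averageMap_invariant ρ w⟩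

end Groth.Agent.S19443
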