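import Groth.Statements.S19445
import Mathlib

set_option autoImplicit false
universe u
open CAlg

namespace Groth.Agent.S19445

/-- Local form: let k be a field and A a regular local k-algebra with maximal ideal M and residue field
k (k maps onto A/M); let a finite group G whose order is invertible in k act on A by k-algebra
automorphisms. Then A/J is a regular local ring, where J is the ideal generated by the elements g·a
− a (J defines the fixed-point subscheme, so the fixed locus of G is smooth at the point). The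
accompanying identification of its tangent space with the G-invariants of the tangent space of A is
not restated here. -/
theorem result (k : Type u) [Field k] (A : Type u) [CommRing A]
    [Algebra k A] [IsRegularLocalRing A]
    (hres : Function.Surjective (algebraMap k (IsLocalRing.ResidueField A)))
    (G : Type u) [Group G] [Finite G] [MulSemiringAction G A] [SMulCommClass G k A]
    (hG : (Nat.card G : k) ≠ 0) :
    IsRegularLocalRing (A ⧸ Ideal.span {x : A | ∃ (g : G) (a : A), x = g • a - a}) := by
  classical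
  set m := IsLocalRing.maximalIdeal A with hm
  haveI : Fintype G := Fintype.ofFinite G
  let J : Ideal A := Ideal.span {x : A | ∃ (g : G) (a : A), x = g • a - a}
  have hgm : ∀ (g : G) (a : A), a ∈ m → g • a ∈ m := fun g a ha hu => ha (by
    have := hu.map (MulSemiringAction.toRingHom G A g⁻¹)
    simpa using this)
  have hgm2 : ∀ (g : G) (a : A), a ∈ m ^ 2 → g • a ∈ m ^ 2 := fun g a ha => by
    have h := Ideal.mem_map_of_mem (MulSemiringAction.toRingHom G A g) ha
    rw [Ideal.map_pow] at h
    have hle : Ideal.map (MulSemiringAction.toRingHom G A g) m ≤ m := Ideal.map_le_iff_le_comap.2 fun x hx => hgm g x hx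
    exact Ideal.pow_right_mono hle 2 h
  let M2 : Submodule k A := (m ^ 2).restrictScalars k
  obtain ⟨Q, hQ⟩ := M2.exists_isCompl
  let p : A →ₗ[k] A := M2.projection Q hQ
  let L : G → A →ₗ[k] A := fun g => DistribSMul.toLinearMap k A g
  let q : A →ₗ[k] A := (Nat.card G : k)⁻¹ • ∑ g : G, L g ∘ₗ p ∘ₗ L g⁻¹
  have hq_apply : ∀ a, q a = (Nat.card G : k)⁻¹ • ∑ g : G, g • p (g⁻¹ • a) := fun a => by simp [q, L]
  have hpM : ∀ a, p a ∈ M2 := fun a => Submodule.projection_apply_mem hQ a
  have hqM : ∀ a, q a ∈ M2 := fun a => by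
    rw [hq_apply]
    exact M2.smul_mem _ (Submodule.sum_mem _ fun g _ => hgm2 g _ (hpM _))
  have hqid : ∀ a ∈ M2, q a = a := fun a ha => by
    rw [hq_apply, Finset.sum_congr rfl (fun g _ => show g • p (g⁻¹ • a) = a by
      rw [show p (g⁻¹ • a) = g⁻¹ • a from Submodule.projection_apply_left hQ ⟨g⁻¹ • a, hgm2 g⁻¹ a ha⟩, smul_inv_smul]),
      Finset.sum_const, Finset.card_univ, ← Nat.card_eq_fintype_card, ← Nat.cast_smul_eq_nsmul k, smul_smul,
      inv_mul_cancel₀ hG, one_smul]
  have hqequiv : ∀ (h : G) a, q (h • a) = h • q a := fun h a => by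
    rw [hq_apply, hq_apply, smul_comm h (Nat.card G : k)⁻¹, Finset.smul_sum (r := h)]
    congr 1
    refine (Fintype.sum_equiv (Equiv.mulLeft h) _ _ fun g => ?_).symm
    simp [mul_smul]
  have hqm : ∀ a ∈ M2, a ∈ m := fun a ha => Ideal.pow_le_self two_ne_zero ha
  let C : Submodule k A := m.restrictScalars k ⊓ LinearMap.ker q
  have hCmem : ∀ a ∈ m, a - q a ∈ C := fun a ha =>
    ⟨sub_mem ha (hqm _ (hqM a)), by rw [SetLike.mem_coe, LinearMap.mem_ker, map_sub, hqid _ (hqM a), sub_self]⟩
  obtain ⟨t, htc, hts⟩ : ∃ t : Finset A, t.card = m.spanFinrank ∧ Ideal.span (t : Set A) = m := by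
    obtain ⟨t, ht1, ht2⟩ := (IsNoetherian.noetherian m).exists_span_finset_card_eq_spanFinrank
    exact ⟨t, ht1, ht2⟩
  have hscal : ∀ a : A, ∃ r : k, a - algebraMap k A r ∈ m := fun a => by
    obtain ⟨r, hr⟩ := hres (IsLocalRing.residue A a)
    refine ⟨r, Ideal.Quotient.eq.1 ?_⟩
    exact hr.symm
  let T : Finset A := t.image fun x => x - q x
  have hCle : C ≤ Submodule.span k (T : Set A) := by
    intro c hc
    obtain ⟨hcm, hcq⟩ := hc
    have hcm' : c ∈ Ideal.span (t : Set A) := hts.symm ▸ hcm
    obtain ⟨w, -, hw⟩ := Submodule.mem_span_finset.1 hcm'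
    choose r hr using fun x => hscal (w x)
    have e : c - q c = ∑ x ∈ t, r x • (x - q x) := by
      have h2 : c - ∑ x ∈ t, r x • x ∈ M2 := by
        rw [← hw, ← Finset.sum_sub_distrib]
        refine Submodule.sum_mem _ fun x hx => ?_
        show w x * x - r x • x ∈ m ^ 2
        rw [Algebra.smul_def, ← sub_mul, pow_two]
        exact Ideal.mul_mem_mul (hr x) (hts ▸ Ideal.subset_span hx)
      have h3 := hqid _ h2
      rw [map_sub, map_sum] at h3
      simp only [smul_sub, Finset.sum_sub_distrib, map_smul] at h3 ⊢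
      rw [sub_eq_sub_iff_sub_eq_sub]
      exact h3.symm
    rw [LinearMap.mem_ker.1 hcq, sub_zero] at e
    rw [e]
    exact Submodule.sum_mem _ fun x hx => Submodule.smul_mem _ _ (Submodule.subset_span (Finset.mem_image_of_mem _ hx))
  haveI : FiniteDimensional k (Submodule.span k (T : Set A)) := FiniteDimensional.span_finset k T
  haveI : FiniteDimensional k C := Submodule.finiteDimensional_of_le hCle
  have hCd : Module.finrank k C ≤ m.spanFinrank :=
    (Submodule.finrank_mono hCle).trans ((finrank_span_finset_le_card T).trans (Finset.card_image_le.trans htc.le))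
  let WS : Set A := {x | ∃ (g : G), ∃ c ∈ C, x = g • c - c}
  let W : Submodule k A := Submodule.span k WS
  have hCg : ∀ (g : G) c, c ∈ C → g • c ∈ C := fun g c hc =>
    ⟨hgm g c hc.1, by rw [SetLike.mem_coe, LinearMap.mem_ker, hqequiv, LinearMap.mem_ker.1 hc.2, smul_zero]⟩
  have hWC : W ≤ C := Submodule.span_le.2 (by rintro _ ⟨g, c, hc, rfl⟩; exact sub_mem (hCg g c hc) hc)
  haveI : FiniteDimensional k W := Submodule.finiteDimensional_of_le hWC
  let bW := Module.finBasis k W
  let K : Ideal A := Ideal.span (Set.range fun i => (bW i : A))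
  have hWK : ∀ w ∈ W, w ∈ K := fun w hw => by
    have := congrArg Subtype.val (bW.sum_repr ⟨w, hw⟩)
    rw [Submodule.coe_sum] at this
    rw [← show ∑ i, ((bW.repr ⟨w, hw⟩ i • bW i : W) : A) = w from this]
    exact Ideal.sum_mem _ fun i _ => by
      rw [Submodule.coe_smul, Algebra.smul_def]
      exact Ideal.mul_mem_left _ _ (Ideal.subset_span ⟨i, rfl⟩)
  have hKm : K ≤ m := Ideal.span_le.2 (by rintro _ ⟨i, rfl⟩; exact (hWC (bW i).2).1)
  haveI : Nontrivial (A ⧸ K) := Ideal.Quotient.nontrivial_iff.2 (ne_top_of_le_ne_top (IsLocalRing.maximalIdeal.isMaximal A).ne_top hKm)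
  haveI : IsLocalRing (A ⧸ K) := IsLocalRing.of_surjective' _ Ideal.Quotient.mk_surjective
  have hmove : ∀ n, ∀ (g : G), ∀ a ∈ m, g • a - a ∈ K ⊔ m ^ n := by
    intro n
    induction n with
    | zero => intro g a _; simp
    | succ n ih =>
      have h2 : ∀ z ∈ m ^ 2, ∀ g : G, g • z - z ∈ K ⊔ m ^ (n + 1) := by
        intro z hz
        rw [pow_two] at hz
        induction hz using Submodule.mul_induction_on' with
        | mem_mul_mem x hx y hy =>
          intro g
          rw [smul_mul', show g • x * g • y - x * y = (g • x - x) * g • y + x * (g • y - y) by ring]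
          have hle : (K ⊔ m ^ n) * m ≤ K ⊔ m ^ (n + 1) := by
            rw [Submodule.sup_mul, pow_succ]
            exact sup_le_sup_right Ideal.mul_le_left _
          refine add_mem (hle (Ideal.mul_mem_mul (ih g x hx) (hgm g y hy))) (hle ?_)
          rw [mul_comm x]
          exact Ideal.mul_mem_mul (ih g y hy) hx
        | add a _ b _ ha hb =>
          intro g
          rw [smul_add, add_sub_add_comm]
          exact add_mem (ha g) (hb g)
      intro g a ha
      have e : g • a - a = (g • q a - q a) + (g • (a - q a) - (a - q a)) := by rw [smul_sub]; abel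
      rw [e]
      exact add_mem (h2 _ (hqM a) g) (Submodule.mem_sup_left (hWK _ (Submodule.subset_span ⟨g, _, hCmem a ha, rfl⟩)))
  have hall : ∀ (g : G) (a : A), g • a - a ∈ K := by
    intro g a
    obtain ⟨r, hr⟩ := hscal a
    have e : g • a - a = g • (a - algebraMap k A r) - (a - algebraMap k A r) := by
      rw [smul_sub, show g • algebraMap k A r = algebraMap k A r by rw [Algebra.algebraMap_eq_smul_one, smul_comm, smul_one]]
      abel
    rw [e]
    refine Ideal.Quotient.eq_zero_iff_mem.1 ((Submodule.mem_bot (A ⧸ K)).1 ?_)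
    rw [← Ideal.iInf_pow_eq_bot_of_isLocalRing (IsLocalRing.maximalIdeal (A ⧸ K)) (IsLocalRing.maximalIdeal.isMaximal _).ne_top]
    refine Ideal.mem_iInf.2 fun n => ?_
    obtain ⟨u, hu, v, hv, huv⟩ := Submodule.mem_sup.1 (hmove n g _ hr)
    rw [← huv, map_add, Ideal.Quotient.eq_zero_iff_mem.2 hu, zero_add]
    have h := Ideal.mem_map_of_mem (Ideal.Quotient.mk K) hv
    rw [Ideal.map_pow] at h
    exact Ideal.pow_right_mono (IsLocalRing.le_maximalIdeal (by
      intro htop
      have := congrArg (Ideal.comap (Ideal.Quotient.mk K)) htop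
      rw [Ideal.comap_map_of_surjective _ Ideal.Quotient.mk_surjective, ← RingHom.ker_eq_comap_bot, Ideal.mk_ker,
        sup_eq_left.2 hKm, Ideal.comap_top] at this
      exact (IsLocalRing.maximalIdeal.isMaximal A).ne_top this)) n h
  have hJK : J = K := by
    refine le_antisymm (Ideal.span_le.2 (by rintro _ ⟨g, a, rfl⟩; exact hall g a)) (Ideal.span_le.2 ?_)
    rintro _ ⟨i, rfl⟩
    have : W ≤ J.restrictScalars k := Submodule.span_le.2 (by
      rintro _ ⟨g, c, -, rfl⟩
      exact Ideal.subset_span ⟨g, c, rfl⟩)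
    exact this (bW i).2
  show IsRegularLocalRing (A ⧸ J)
  rw [hJK]
  refine IsRegularLocalRing.of_spanFinrank_maximalIdeal_le _ ?_
  obtain ⟨U, hU⟩ := Submodule.exists_isCompl (W.comap C.subtype)
  haveI : Module.Free k U := Module.Free.of_divisionRing k U
  let bU := Module.finBasis k U
  have hgen : IsLocalRing.maximalIdeal (A ⧸ K) = Ideal.span (Set.range fun i => Ideal.Quotient.mk K ((bU i : C) : A)) := by
    have hmax : IsLocalRing.maximalIdeal (A ⧸ K) = m.map (Ideal.Quotient.mk K) := by
      refine (IsLocalRing.eq_maximalIdeal ((Ideal.map_eq_top_or_isMaximal_of_surjective _ Ideal.Quotient.mk_surjective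
        (IsLocalRing.maximalIdeal.isMaximal A)).resolve_left fun htop => ?_)).symm
      have := congrArg (Ideal.comap (Ideal.Quotient.mk K)) htop
      rw [Ideal.comap_map_of_surjective _ Ideal.Quotient.mk_surjective, ← RingHom.ker_eq_comap_bot, Ideal.mk_ker,
        sup_eq_left.2 hKm, Ideal.comap_top] at this
      exact (IsLocalRing.maximalIdeal.isMaximal A).ne_top this
    let U' : Ideal A := K ⊔ Ideal.span (Set.range fun i => ((bU i : C) : A))
    have hCU : ∀ c ∈ C, c ∈ U' := fun c hc => by
      obtain ⟨w, hw, u, hu, hwu⟩ := Submodule.mem_sup.1 (hU.sup_eq_top.ge (Submodule.mem_top (x := (⟨c, hc⟩ : C))))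
      rw [← show (w : A) + (u : A) = c from congrArg Subtype.val hwu]
      refine add_mem (Submodule.mem_sup_left (hWK _ hw)) (Submodule.mem_sup_right ?_)
      have := congrArg (fun z : U => ((z : C) : A)) (bU.sum_repr ⟨u, hu⟩)
      simp only [Submodule.coe_sum, Submodule.coe_smul] at this
      rw [← this]
      exact Ideal.sum_mem _ fun i _ => by
        rw [Algebra.smul_def]
        exact Ideal.mul_mem_left _ _ (Ideal.subset_span ⟨i, rfl⟩)
    have hU'm : U' = m := by
      refine le_antisymm (sup_le hKm (Ideal.span_le.2 (by rintro _ ⟨i, rfl⟩; exact (bU i : C).2.1))) ?_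
      refine Submodule.le_of_le_smul_of_le_jacobson_bot (IsNoetherian.noetherian m)
        (IsLocalRing.maximalIdeal_le_jacobson _) fun a ha => ?_
      rw [← sub_add_cancel a (q a)]
      refine Submodule.add_mem_sup (hCU _ (hCmem a ha)) ?_
      rw [smul_eq_mul, ← pow_two]
      exact hqM a
    rw [hmax, ← hU'm, Ideal.map_sup, Ideal.map_quotient_self, bot_sup_eq, Ideal.map_span, ← Set.range_comp]
    rfl
  have h1 : (IsLocalRing.maximalIdeal (A ⧸ K)).spanFinrank ≤ Module.finrank k U := by
    rw [hgen]
    refine (Submodule.spanFinrank_span_le_ncard_of_finite (Set.finite_range _)).trans ?_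
    exact (Finite.card_range_le _).trans (by simp)
  have h2 : Module.finrank k W + Module.finrank k U ≤ m.spanFinrank := by
    refine le_trans (le_of_eq ?_) hCd
    rw [← LinearEquiv.finrank_eq (Submodule.comapSubtypeEquivOfLe hWC)]
    exact Submodule.finrank_add_eq_of_isCompl hU
  have h3 : ringKrullDim A ≤ ringKrullDim (A ⧸ K) + K.spanFinrank :=
    ringKrullDim_le_ringKrullDim_quotient_add_spanFinrank K (by
      rw [IsLocalRing.ringJacobson_eq_maximalIdeal]; exact hKm)
  have h4 : K.spanFinrank ≤ Module.finrank k W := by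
    refine (Submodule.spanFinrank_span_le_ncard_of_finite (Set.finite_range _)).trans ?_
    exact (Finite.card_range_le _).trans (by simp)
  have h5 := (isRegularLocalRing_iff A).1 inferInstance
  obtain ⟨d', hd'⟩ := WithBot.ne_bot_iff_exists.1 (ringKrullDim_ne_bot (R := A ⧸ K))
  rw [← h5, ← hd', ← hm] at h3
  rw [← hd']
  cases d' with
  | top => exact le_top
  | coe d =>
    have : m.spanFinrank ≤ d + K.spanFinrank := by exact_mod_cast h3
    exact_mod_cast (show (IsLocalRing.maximalIdeal (A ⧸ K)).spanFinrank ≤ d by omega)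

end Groth.Agent.S19445
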