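import Groth.Statements.S19447
import Groth.Agent.PsReflLib.Const
import Groth.Agent.PSLib.Regular
-- import your own Groth.Agent.* helpers here

set_option autoImplicit false
universe u
open ConstAct

namespace Groth.Agent.S19447

/-- Let k be an algebraically closed field, A the power series ring in n variables over k with maximal
ideal M, and G a finite group of order invertible in k acting faithfully on A by k-algebra
automorphisms, A being finite over the ring of invariants A^G. Say g is a pseudo-reflection or acts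
trivially on the cotangent space when A modulo M^2 and the elements g·a − a has dimension at least n
over k. If G is generated by such elements, then A is flat over A^G and A^G is a regular local ring:
generation by pseudo-reflections implies the other two conditions of the published criterion (only
this sufficiency half is stated; the converse implication is not part of this statement). -/
theorem result (k : Type u) [Field k]
    [IsAlgClosed k] (n : ℕ) (G : Type u) [Group G] [Finite G] [MulSemiringAction G (MvPowerSeries (Fin n) k)]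
    [SMulCommClass G k (MvPowerSeries (Fin n) k)] [FaithfulSMul G (MvPowerSeries (Fin n) k)]
    (hG : (Nat.card G : k) ≠ 0)
    [Module.Finite (ConstAct.inv k (MvPowerSeries (Fin n) k) G) (MvPowerSeries (Fin n) k)]
    (hgen : Subgroup.closure {g : G | n ≤ Module.finrank k (MvPowerSeries (Fin n) k ⧸
        (Ideal.span {x : MvPowerSeries (Fin n) k | ∃ a, x = g • a - a} ⊔
          IsLocalRing.maximalIdeal (MvPowerSeries (Fin n) k) ^ 2))} = ⊤) :
    Module.Flat (ConstAct.inv k (MvPowerSeries (Fin n) k) G) (MvPowerSeries (Fin n) k) ∧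
      IsRegularLocalRing (ConstAct.inv k (MvPowerSeries (Fin n) k) G) := by
  classical
  let P := MvPowerSeries (Fin n) k
  set m := IsLocalRing.maximalIdeal P with hm
  haveI := Groth.Agent.PSLib.isRegularLocalRing k n
  have hsub : ∀ a : P, a - algebraMap k P (MvPowerSeries.constantCoeff a) ∈ m := fun a => by
    rw [hm, Groth.Agent.PSLib.maximalIdeal_eq_vars, Groth.Agent.PSLib.mem_vars_iff, map_sub, sub_eq_zero]
    exact (MvPowerSeries.constantCoeff_C (σ := Fin n) (R := k) _).symm
  have hx : Function.Surjective ((IsLocalRing.residue P).comp (algebraMap k P)) := fun z => by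
    obtain ⟨a, rfl⟩ := IsLocalRing.residue_surjective z
    refine ⟨MvPowerSeries.constantCoeff a, ?_⟩
    rw [RingHom.comp_apply]
    exact (Ideal.Quotient.eq.mpr (hsub a)).symm
  have hm2 : ∀ a : P, ∃ c : Fin n → k, a - algebraMap k P (MvPowerSeries.constantCoeff a) -
      ∑ i, c i • MvPowerSeries.X i ∈ m ^ 2 := by
    intro a
    have h := hsub a
    rw [hm, Groth.Agent.PSLib.maximalIdeal_eq_vars, Groth.Agent.PSLib.vars] at h
    obtain ⟨f, hf⟩ := (Submodule.mem_span_range_iff_exists_fun P).mp h
    refine ⟨fun i => MvPowerSeries.constantCoeff (f i), ?_⟩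
    rw [← hf, ← Finset.sum_sub_distrib]
    refine Ideal.sum_mem _ fun i _ => ?_
    rw [smul_eq_mul, Algebra.smul_def, ← sub_mul, pow_two]
    refine Ideal.mul_mem_mul (hsub _) ?_
    rw [hm, Groth.Agent.PSLib.maximalIdeal_eq_vars]
    exact Ideal.subset_span ⟨i, rfl⟩
  let v : Option (Fin n) → P ⧸ m ^ 2 := fun o => Ideal.Quotient.mk _ (o.elim 1 MvPowerSeries.X)
  have hspan : Submodule.span k (Set.range v) = ⊤ := eq_top_iff.mpr (by
    rintro z -
    obtain ⟨a, rfl⟩ := Ideal.Quotient.mk_surjective z
    obtain ⟨c, hc⟩ := hm2 a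
    refine (Submodule.mem_span_range_iff_exists_fun k).mpr ⟨fun o => o.elim (MvPowerSeries.constantCoeff a) c, ?_⟩
    rw [Fintype.sum_option]
    show _ • Ideal.Quotient.mkₐ k (m ^ 2) 1 + ∑ i, c i • Ideal.Quotient.mkₐ k (m ^ 2) (MvPowerSeries.X i) =
      Ideal.Quotient.mkₐ k (m ^ 2) a
    simp only [Option.elim_none, ← map_smul, ← map_sum, ← map_add]
    refine (Ideal.Quotient.eq.mpr ?_).symm
    rw [← sub_sub, ← Algebra.algebraMap_eq_smul_one]
    exact hc)
  haveI : Module.Finite k (P ⧸ m ^ 2) :=
    ⟨⟨Finset.univ.image v, by rw [Finset.coe_image, Finset.coe_univ, Set.image_univ, hspan]⟩⟩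
  have hrank : Module.finrank k (P ⧸ m ^ 2) ≤ n + 1 := by
    rw [← finrank_top, ← hspan]
    exact (finrank_range_le_card v).trans (by simp)
  refine Groth.Agent.PsReflLib.Const.flat_and_isRegularLocalRing hx hG (eq_top_iff.mpr (hgen ▸ Subgroup.closure_mono ?_))
  intro g hg
  set U : Ideal P := Ideal.span {x : P | ∃ a, x = g • a - a} ⊔ m ^ 2
  let π : (P ⧸ m ^ 2) →ₐ[k] P ⧸ U := Ideal.Quotient.factorₐ k (le_sup_right : m ^ 2 ≤ U)
  have hπ : Function.Surjective π.toLinearMap := Ideal.Quotient.factor_surjective (le_sup_right : m ^ 2 ≤ U)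
  have hker : Module.finrank k (LinearMap.ker π.toLinearMap) ≤ 1 := by
    have h1 := LinearMap.finrank_range_add_finrank_ker π.toLinearMap
    rw [LinearMap.range_eq_top.mpr hπ, finrank_top] at h1
    have hg' : n ≤ Module.finrank k (P ⧸ U) := hg
    omega
  obtain ⟨W, hw'⟩ := finrank_le_one_iff.mp hker
  obtain ⟨w, hwker⟩ := W
  obtain ⟨l₀, rfl⟩ := Ideal.Quotient.mk_surjective w
  refine ⟨l₀, fun a => ?_⟩
  have hmem : Ideal.Quotient.mk (m ^ 2) (g • a - a) ∈ LinearMap.ker π.toLinearMap := by
    show π (Ideal.Quotient.mk (m ^ 2) (g • a - a)) = 0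
    exact Ideal.Quotient.eq_zero_iff_mem.mpr (Submodule.mem_sup_left (Ideal.subset_span ⟨a, rfl⟩))
  obtain ⟨c, hc⟩ := hw' ⟨_, hmem⟩
  refine ⟨c, Ideal.Quotient.eq.mp ?_⟩
  exact (congrArg Subtype.val hc).symm.trans (map_smul (Ideal.Quotient.mkₐ k (m ^ 2)) c l₀).symm

end Groth.Agent.S19447
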