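import Groth.Statements.S19448
import Mathlib.RingTheory.Filtration
import Mathlib.GroupTheory.OrderOfElement

set_option autoImplicit false
universe u
open CAlg

namespace Groth.Agent.S19448
open IsLocalRing

/-- Let k be a field, A a Noetherian local k-algebra with maximal ideal M and residue field k, and G a
finite group with |G| ≠ 0 in k acting on A by k-algebra automorphisms. An element of G which acts
trivially on M/M^2 acts trivially on A; in other words the stabilizer acts faithfully on the
cotangent space whenever it acts faithfully on the local ring. -/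
theorem result (k : Type u) [Field k] (A : Type u) [CommRing A]
    [Algebra k A] [IsLocalRing A] [IsNoetherianRing A]
    (hres : Function.Surjective (algebraMap k (IsLocalRing.ResidueField A)))
    (G : Type u) [Group G] [Finite G] [MulSemiringAction G A] [SMulCommClass G k A]
    (hG : (Nat.card G : k) ≠ 0) (g : G)
    (hg : ∀ a ∈ IsLocalRing.maximalIdeal A, g • a - a ∈ IsLocalRing.maximalIdeal A ^ 2) (a : A) :
    g • a = a := by
  let m := maximalIdeal A
  have hgm : ∀ a ∈ m, g • a ∈ m := fun a ha => by
    have := Ideal.add_mem _ (Ideal.pow_le_self two_ne_zero (hg a ha)) ha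
    rwa [sub_add_cancel] at this
  have h0 : ∀ a : A, g • a - a ∈ m := by
    intro a
    obtain ⟨c, hc⟩ := hres (residue A a)
    have hx : a - algebraMap k A c ∈ m := by
      rw [← residue_eq_zero_iff, map_sub, ← hc, IsScalarTower.algebraMap_apply k A (ResidueField A), ResidueField.algebraMap_eq, sub_self]
    have := Ideal.sub_mem _ (hgm _ hx) hx
    rwa [smul_sub, smul_algebraMap, sub_sub_sub_cancel_right] at this
  have hdeg : ∀ n, ∀ z ∈ m ^ n, g • z - z ∈ m ^ (n + 1) := by
    intro n
    induction n with
    | zero => intro z _; rw [zero_add, pow_one]; exact h0 z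
    | succ n ih =>
      intro z hz
      rw [pow_succ] at hz
      refine Submodule.mul_induction_on hz (fun a ha b hb => ?_) (fun u v hu hv => ?_)
      · rw [smul_mul', show (g • a) * (g • b) - a * b = (g • a - a) * (g • b) + a * (g • b - b) by ring]
        refine Ideal.add_mem _ ?_ ?_
        · rw [pow_succ]; exact Ideal.mul_mem_mul (ih a ha) (hgm b hb)
        · rw [show n + 1 + 1 = n + 2 from rfl, pow_add]; exact Ideal.mul_mem_mul ha (hg b hb)
      · rw [smul_add, add_sub_add_comm]; exact Ideal.add_mem _ hu hv
  have key : ∀ n, ∀ b : A, g • b - b ∈ m ^ n := by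
    intro n
    induction n with
    | zero => intro b; rw [pow_zero, Ideal.one_eq_top]; trivial
    | succ n ih =>
      intro b
      let d := g • b - b
      have hpow : ∀ j : ℕ, g ^ j • b - b - (j : A) * d ∈ m ^ (n + 1) := by
        intro j
        induction j with
        | zero => simp
        | succ j ihj =>
          have hd : g ^ j • b - b ∈ m ^ n := by
            have := Ideal.add_mem _ (Ideal.pow_le_pow_right n.le_succ ihj) (Ideal.mul_mem_left _ (j : A) (ih b))
            rwa [sub_add_cancel] at this
          have h1 := hdeg n _ hd
          rw [smul_sub, ← mul_smul, ← pow_succ'] at h1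
          convert Ideal.add_mem _ h1 ihj using 1
          push_cast
          show g ^ (j + 1) • b - b - ((j : A) + 1) * (g • b - b) = g ^ (j + 1) • b - g • b - (g ^ j • b - b) + (g ^ j • b - b - (j : A) * (g • b - b))
          ring
      have h2 := hpow (Nat.card G)
      rw [pow_card_eq_one', one_smul, sub_self, zero_sub, neg_mem_iff] at h2
      have hu : IsUnit (Nat.card G : A) := by
        rw [← map_natCast (algebraMap k A)]
        exact (isUnit_iff_ne_zero.2 hG).map _
      exact (Ideal.unit_mul_mem_iff_mem _ hu).1 h2
  have hbot : g • a - a ∈ ⨅ n, m ^ n := Submodule.mem_iInf _ |>.2 fun n => key n a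
  rw [Ideal.iInf_pow_eq_bot_of_isLocalRing _ (maximalIdeal.isMaximal A).ne_top, Ideal.mem_bot] at hbot
  exact sub_eq_zero.1 hbot

end Groth.Agent.S19448
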