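import Groth.Statements.S19449
import Mathlib.LinearAlgebra.Matrix.Determinant.Basic
import Mathlib.RingTheory.MvPolynomial.Basic
-- import your own Groth.Agent.* helpers here

set_option autoImplicit false
universe u
open SymRep

namespace Groth.Agent.S19449

open MvPolynomial in
/-- The exponent of a product of monomials `x_i ^ a_i * y_i ^ b_i`. -/
noncomputable def expo {n : ℕ} (p : Fin n → ℕ × ℕ) : (Fin n × Fin 2) →₀ ℕ :=
  Finsupp.equivFunOnFinite.symm fun v => if v.2 = 0 then (p v.1).1 else (p v.1).2

open MvPolynomial in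
theorem monomial_expo {k : Type u} [CommRing k] {n : ℕ} (p : Fin n → ℕ × ℕ) :
    (monomial (expo p) 1 : MvPolynomial (Fin n × Fin 2) k) = ∏ i, X (i, 0) ^ (p i).1 * X (i, 1) ^ (p i).2 := by
  rw [monomial_eq, C_1, one_mul, Finsupp.prod_fintype _ _ fun i => pow_zero _, Fintype.prod_prod_type]
  refine Finset.prod_congr rfl fun i _ => ?_
  rw [Fin.prod_univ_two]
  simp [expo]

theorem expo_injective {n : ℕ} : Function.Injective (expo : (Fin n → ℕ × ℕ) → _) := fun p q h => by
  funext i
  have h0 := DFunLike.congr_fun h (i, 0)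
  have h1 := DFunLike.congr_fun h (i, 1)
  simp [expo] at h0 h1
  exact Prod.ext h0 h1

open MvPolynomial in
theorem det_eq {k : Type u} [CommRing k] {n : ℕ} (p : Fin n → ℕ × ℕ) :
    (Matrix.of fun i j : Fin n => (X (i, 0) : MvPolynomial (Fin n × Fin 2) k) ^ (p j).1 * X (i, 1) ^ (p j).2).det =
      ∑ σ : Equiv.Perm (Fin n), ((Equiv.Perm.sign σ : ℤˣ) : ℤ) • rename (fun v => (σ v.1, v.2)) (monomial (expo p) 1) := by
  rw [Matrix.det_apply]
  refine Finset.sum_congr rfl fun σ _ => ?_
  rw [monomial_expo, map_prod, Units.smul_def]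
  simp [rename_X]

/-- Over a field k of characteristic zero, let the symmetric group S_n act on the polynomial ring in the
2n variables x_i, y_i (i < n; the variable (i, 0) is x_i and (i, 1) is y_i) by permuting the index
i, and for an n-tuple p of pairs (p_j, q_j) of exponents let Δ_p be the determinant det(x_i^{p_j}
y_i^{q_j}). A polynomial is alternating — each permutation acts on it by its sign — exactly when it
is a k-linear combination of the Δ_p; and the Δ_p for p strictly increasing in the lexicographic
order on pairs (one for each n-element set of exponent pairs) are linearly independent. Hence these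
Δ_p form a basis of the space of alternating polynomials. -/
theorem result (k : Type u) [Field k] [CharZero k] (n : ℕ) :
    (∀ f : MvPolynomial (Fin n × Fin 2) k,
      (∀ σ : Equiv.Perm (Fin n),
          MvPolynomial.rename (fun v : Fin n × Fin 2 => (σ v.1, v.2)) f = ((Equiv.Perm.sign σ : ℤˣ) : ℤ) • f) ↔
        f ∈ Submodule.span k (Set.range fun p : Fin n → ℕ × ℕ =>
          (Matrix.of fun i j : Fin n =>
            (MvPolynomial.X (i, 0) : MvPolynomial (Fin n × Fin 2) k) ^ (p j).1 * MvPolynomial.X (i, 1) ^ (p j).2).det)) ∧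
    LinearIndependent k (fun p : {p : Fin n → ℕ ×ₗ ℕ // StrictMono p} =>
      (Matrix.of fun i j : Fin n =>
        (MvPolynomial.X (i, 0) : MvPolynomial (Fin n × Fin 2) k) ^ (ofLex (p.1 j)).1 *
          MvPolynomial.X (i, 1) ^ (ofLex (p.1 j)).2).det) := by
  classical
  have hdet : ∀ (p : Fin n → ℕ × ℕ) (τ : Equiv.Perm (Fin n)),
      MvPolynomial.rename (fun v : Fin n × Fin 2 => (τ v.1, v.2)) (Matrix.of fun i j : Fin n =>
        (MvPolynomial.X (i, 0) : MvPolynomial (Fin n × Fin 2) k) ^ (p j).1 * MvPolynomial.X (i, 1) ^ (p j).2).det =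
      ((Equiv.Perm.sign τ : ℤˣ) : ℤ) • (Matrix.of fun i j : Fin n =>
        (MvPolynomial.X (i, 0) : MvPolynomial (Fin n × Fin 2) k) ^ (p j).1 * MvPolynomial.X (i, 1) ^ (p j).2).det := by
    intro p τ
    rw [AlgHom.map_det, zsmul_eq_mul, ← Matrix.det_permute τ]
    congr 1
    ext i j
    simp [Matrix.submatrix]
  refine ⟨fun f => ⟨fun hf => ?_, fun hf => ?_⟩, ?_⟩
  · have hsum : ∑ σ : Equiv.Perm (Fin n), ((Equiv.Perm.sign σ : ℤˣ) : ℤ) •
        MvPolynomial.rename (fun v : Fin n × Fin 2 => (σ v.1, v.2)) f = Fintype.card (Equiv.Perm (Fin n)) • f := by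
      rw [Finset.sum_congr rfl fun σ _ => show _ = f by
        rw [hf σ, smul_smul, ← Units.val_mul, Int.units_mul_self, Units.val_one, one_smul]]
      rw [Finset.sum_const, Finset.card_univ]
    have hne : ((Fintype.card (Equiv.Perm (Fin n)) : ℕ) : k) ≠ 0 := Nat.cast_ne_zero.2 Fintype.card_ne_zero
    rw [← Nat.cast_smul_eq_nsmul k] at hsum
    rw [← inv_smul_smul₀ hne f, ← hsum]
    refine Submodule.smul_mem _ _ ?_
    clear hsum hf
    induction f using MvPolynomial.induction_on' with
    | add p q hp hq =>
      simp only [map_add, smul_add, Finset.sum_add_distrib]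
      exact Submodule.add_mem _ hp hq
    | monomial e c =>
      have he : e = expo fun i => (e (i, 0), e (i, 1)) := by
        ext ⟨i, j⟩
        fin_cases j <;> simp [expo]
      rw [show (MvPolynomial.monomial e c : MvPolynomial (Fin n × Fin 2) k) = c • MvPolynomial.monomial e 1 by
        rw [MvPolynomial.smul_monomial, smul_eq_mul, mul_one]]
      simp only [map_smul, smul_comm _ c, ← Finset.smul_sum]
      refine Submodule.smul_mem _ c (Submodule.subset_span ⟨fun i => (e (i, 0), e (i, 1)), ?_⟩)
      rw [he] at *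
      exact det_eq _
  · intro σ
    induction hf using Submodule.span_induction with
    | mem x hx => obtain ⟨p, rfl⟩ := hx; exact hdet p σ
    | zero => simp
    | add x y _ _ hx hy => rw [map_add, hx, hy, smul_add]
    | smul c x _ hx => rw [map_smul, hx, smul_comm]
  · rw [linearIndependent_iff']
    intro s g hg p hp
    have h1 := congrArg (MvPolynomial.coeff (expo fun i => ofLex (p.1 i))) hg
    rw [MvPolynomial.coeff_sum, MvPolynomial.coeff_zero] at h1
    have hc : ∀ q : {p : Fin n → ℕ ×ₗ ℕ // StrictMono p},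
        MvPolynomial.coeff (expo fun i => ofLex (p.1 i)) (Matrix.of fun i j : Fin n =>
          (MvPolynomial.X (i, 0) : MvPolynomial (Fin n × Fin 2) k) ^ (ofLex (q.1 j)).1 *
            MvPolynomial.X (i, 1) ^ (ofLex (q.1 j)).2).det = if q = p then 1 else 0 := by
      intro q
      rw [det_eq fun j => ofLex (q.1 j), MvPolynomial.coeff_sum]
      have hσ : ∀ σ : Equiv.Perm (Fin n),
          MvPolynomial.coeff (expo fun i => ofLex (p.1 i)) (((Equiv.Perm.sign σ : ℤˣ) : ℤ) •
            MvPolynomial.rename (fun v : Fin n × Fin 2 => (σ v.1, v.2))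
              (MvPolynomial.monomial (expo fun j => ofLex (q.1 j)) (1 : k))) =
          if q = p ∧ σ = 1 then 1 else 0 := by
        intro σ
        rw [MvPolynomial.coeff_smul, MvPolynomial.rename_monomial, MvPolynomial.coeff_monomial]
        have hmap : Finsupp.mapDomain (fun v : Fin n × Fin 2 => (σ v.1, v.2)) (expo fun j => ofLex (q.1 j)) =
            expo fun i => ofLex (q.1 (σ⁻¹ i)) := by
          ext ⟨i, j⟩
          rw [show (i, j) = (fun v : Fin n × Fin 2 => (σ v.1, v.2)) (σ⁻¹ i, j) by simp,
            Finsupp.mapDomain_apply (fun a b h => by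
              simp only [Prod.mk.injEq, EmbeddingLike.apply_eq_iff_eq] at h; exact Prod.ext h.1 h.2)]
          simp [expo]
        rw [hmap]
        by_cases h : q = p ∧ σ = 1
        · rw [if_pos h, h.1, h.2]
          simp
        · rw [if_neg h, if_neg fun e => h ?_, smul_zero]
          have e' : ∀ i, q.1 (σ⁻¹ i) = p.1 i := fun i => ofLex.injective (congrFun (expo_injective e) i)
          have hq : q = p := Subtype.ext ((q.2.range_inj p.2).1 (by
            rw [show p.1 = q.1 ∘ ⇑σ⁻¹ from funext fun i => (e' i).symm, Set.range_comp, Equiv.range_eq_univ, Set.image_univ]))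
          refine ⟨hq, Equiv.ext fun i => ?_⟩
          have := e' (σ i)
          rw [show σ⁻¹ (σ i) = i from σ.symm_apply_apply i, hq] at this
          exact (p.2.injective this).symm
      simp only [hσ]
      by_cases hqp : q = p
      · simp [hqp]
      · simp [hqp]
    simp only [MvPolynomial.coeff_smul, hc, smul_eq_mul, mul_ite, mul_one, mul_zero, Finset.sum_ite_eq', if_pos hp] at h1
    exact h1

end Groth.Agent.S19449
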