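import Groth.Statements.S19450
import Groth.Agent.H23.SymSing
import Groth.Agent.S0255
import Groth.Agent.S0565
-- import your own Groth.Agent.* helpers here

set_option autoImplicit false
set_option backward.isDefEq.respectTransparency false
universe u
open CategoryTheory CategoryTheory.Limits AlgebraicGeometry
open SymProd

namespace Groth.Agent.S19450

/-- Let k be an algebraically closed field, X an irreducible smooth separated k-scheme of dimension d ≥
2 in which every finite set of points lies in an affine open (as for X quasi-projective), n ≥ 2, and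
q : X ×_k ⋯ ×_k X → Y (n factors) a symmetric product over k, i.e. a quotient by the symmetric group
permuting the factors. Then for a closed point z of the n-fold product, the local ring of Y at q(z)
is regular if and only if the n components of z are pairwise distinct points of X; that is, the
singular locus of the n-th symmetric power is the image of the big diagonal. -/
theorem result (k : Type u) [Field k] [IsAlgClosed k]
    (X : Scheme.{u}) (f : X ⟶ Spec (CommRingCat.of k)) [Smooth f] [IsSeparated f]
    [IrreducibleSpace X]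
    (d : ℕ) (hd : 2 ≤ d) (hdim : topologicalKrullDim X = d) (hAF : SymProd.IsAF f)
    (n : ℕ) (hn : 2 ≤ n) (Y : Scheme.{u}) (q : SymProd.fibPow f n ⟶ Y) (g : Y ⟶ Spec (CommRingCat.of k))
    (hY : SymProd.IsSymProd f n q g) (z : SymProd.fibPow f n) (hz : IsClosed ({z} : Set (SymProd.fibPow f n))) :
    IsRegularLocalRing (Y.presheaf.stalk (q.base z)) ↔
      Function.Injective (fun i : Fin n => (WidePullback.π (fun _ : Fin n => f) i).base z) := by
  haveI : LocallyOfFiniteType (WidePullback.base (fun _ : Fin n => f)) :=
    H23.SymCurve.base_property @LocallyOfFiniteType f inferInstance n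
  haveI : IsSeparated (WidePullback.base (fun _ : Fin n => f)) :=
    H23.SymCurve.base_property @IsSeparated f inferInstance n
  haveI : MorphismProperty.IsMultiplicative (@Smooth : MorphismProperty Scheme.{u}) :=
    { id_mem := fun _ => inferInstance }
  haveI : Smooth (WidePullback.base (fun _ : Fin n => f)) :=
    H23.SymCurve.base_property @Smooth f inferInstance n
  haveI := LocallyOfFiniteType.isLocallyNoetherian (WidePullback.base (fun _ : Fin n => f))
  haveI := (H23.SymSing.isFinite hY).1
  haveI := (H23.SymSing.isFinite hY).2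
  haveI := LocallyOfFiniteType.isLocallyNoetherian g
  constructor
  · intro hreg
    by_contra hinj
    simp only [Function.Injective, not_forall] at hinj
    obtain ⟨i, j, hij, hne⟩ := hinj
    have hkpt : ∀ l, pointOfClosedPoint (WidePullback.base (fun _ : Fin n => f)) z hz ≫
        WidePullback.π (fun _ : Fin n => f) l ≫ f = 𝟙 _ := fun l => by
      rw [WidePullback.π_arrow]; exact pointOfClosedPoint_comp _ z hz
    let u := pointOfClosedPoint (WidePullback.base (fun _ : Fin n => f)) z hz
    have heq : u ≫ WidePullback.π (fun _ : Fin n => f) i = u ≫ WidePullback.π (fun _ : Fin n => f) j := by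
      refine ext_of_apply_closedPoint_eq f ((Category.assoc _ _ _).trans (hkpt i)) ((Category.assoc _ _ _).trans (hkpt j)) ?_
      simp only [Scheme.Hom.comp_apply, u, pointOfClosedPoint_apply]
      exact hij
    have hu : ∀ t, u t = z := fun t => pointOfClosedPoint_apply _ _ _ _
    let σ := permHom f n (Equiv.swap i j)
    have hσ : u ≫ σ = u := by
      refine WidePullback.hom_ext _ _ _ (fun l => ?_) (by simp [σ])
      rw [Category.assoc, permHom_π, Equiv.symm_swap]
      rcases eq_or_ne l i with rfl | hli
      · rw [Equiv.swap_apply_left, heq]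
      rcases eq_or_ne l j with rfl | hlj
      · rw [Equiv.swap_apply_right, heq]
      rw [Equiv.swap_apply_of_ne_of_ne hli hlj]
    haveI := Groth.Agent.GrpSchLib.isRegularLocalRing_stalk_of_smooth (WidePullback.base (fun _ : Fin n => f)) z
    have hdist : ¬ H23.SymSing.Distinct z := by
      have h := H23.SymSing.not_distinct_of_comp_eq u (IsLocalRing.closedPoint k) hne heq
      rwa [hu] at h
    have hz2 := H23.SymSing.le_codim_of_not_distinct f hdim z hdist
    obtain ⟨U, hzU, hU⟩ := S0255.result q z
      ⟨RegLoc6.isDomain_of_isRegularLocalRing _, RegLoc6.isIntegrallyClosed_of_isRegularLocalRing _⟩ hreg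
      (q.quasiFiniteAt z)
      (by rw [DimFormula.ringKrullDim_stalk, DimFormula.ringKrullDim_stalk, H23.SymSing.codim_map f hdim hY z])
      (by rw [DimFormula.ringKrullDim_stalk]
          exact_mod_cast (show 1 ≤ DimFormula.codim z by omega))
      (fun x' _ hx' => by
        rw [DimFormula.ringKrullDim_stalk] at hx'
        have hx1 : DimFormula.codim x' = 1 := by exact_mod_cast hx'
        have hd' : H23.SymSing.Distinct x' := by
          by_contra hd'
          have := H23.SymSing.le_codim_of_not_distinct f hdim x' hd'
          omega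
        let v : (H23.SymSing.distinctOpens (f := f) (n := n)).toScheme := ⟨x', hd'⟩
        haveI := (H23.SymSing.flat_unramified hY).2
        have h := FormallyUnramified.stalkMap ((H23.SymSing.distinctOpens (f := f) (n := n)).ι ≫ q) v
        rw [Scheme.Hom.stalkMap_comp] at h
        exact (RingHom.FormallyUnramified.respectsIso.cancel_right_isIso (q.stalkMap x')
          ((H23.SymSing.distinctOpens (f := f) (n := n)).ι.stalkMap v)).1 h)
    let W : (fibPow f n).Opens := U ⊓ σ ⁻¹ᵁ U
    have hzσ : σ z = z := by
      have h := congr(($hσ).base (IsLocalRing.closedPoint k))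
      change σ (u _) = u _ at h
      rwa [hu] at h
    have hzW : z ∈ W := ⟨hzU, show σ z ∈ U by rw [hzσ]; exact hzU⟩
    let a₁ : W.toScheme ⟶ U.toScheme := (fibPow f n).homOfLE inf_le_left
    let a₂ : W.toScheme ⟶ U.toScheme := σ.resLE U W inf_le_right
    have ha₁ : a₁ ≫ U.ι = W.ι := Scheme.homOfLE_ι _ _
    have ha₂ : a₂ ≫ U.ι = W.ι ≫ σ := Scheme.Hom.resLE_comp_ι _ _
    have haa : a₁ ≫ U.ι ≫ q = a₂ ≫ U.ι ≫ q := by
      rw [reassoc_of% ha₁, reassoc_of% ha₂]
      exact congrArg (fun t => W.ι ≫ t) (hY.isQuot.inv ⟨Equiv.swap i j⟩).symm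
    haveI := hU
    let e := pullback.lift a₁ a₂ haa
    haveI : IsOpenImmersion (pullback.diagonal (U.ι ≫ q)) := inferInstance
    let W' : W.toScheme.Opens := e ⁻¹ᵁ (pullback.diagonal (U.ι ≫ q)).opensRange
    let c := IsOpenImmersion.lift (pullback.diagonal (U.ι ≫ q)) (W'.ι ≫ e) (by
      rintro _ ⟨w, rfl⟩
      exact w.2)
    have hc : c ≫ pullback.diagonal (U.ι ≫ q) = W'.ι ≫ e := IsOpenImmersion.lift_fac _ _ _
    have hc1 : W'.ι ≫ W.ι = W'.ι ≫ W.ι ≫ σ := by
      have h1 := congrArg (fun t => t ≫ pullback.fst _ _) hc
      have h2 := congrArg (fun t => t ≫ pullback.snd _ _) hc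
      simp only [e, Category.assoc, pullback.diagonal_fst, pullback.diagonal_snd, Category.comp_id,
        pullback.lift_fst, pullback.lift_snd] at h1 h2
      rw [← ha₂, ← ha₁, ← reassoc_of% h1, ← reassoc_of% h2]
    have hr : Set.range u ⊆ Set.range W.ι := by
      rintro _ ⟨t, rfl⟩
      rw [Scheme.Opens.range_ι, Subsingleton.elim t (IsLocalRing.closedPoint k)]
      rw [hu]
      exact hzW
    let w := IsOpenImmersion.lift W.ι u hr
    have hw : w ≫ W.ι = u := IsOpenImmersion.lift_fac _ _ _
    have hwe : w ≫ e = (w ≫ a₁) ≫ pullback.diagonal (U.ι ≫ q) := by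
      apply pullback.hom_ext
      · simp only [e, Category.assoc, pullback.lift_fst, pullback.diagonal_fst, Category.comp_id]
      · have h : w ≫ a₁ = w ≫ a₂ := by
          rw [← cancel_mono U.ι, Category.assoc, Category.assoc, ha₁, ha₂, reassoc_of% hw, hw, hσ]
        simp only [e, Category.assoc, pullback.lift_snd, pullback.diagonal_snd, Category.comp_id]
        exact h.symm
    have hwW' : w (IsLocalRing.closedPoint k) ∈ W' := by
      show e (w (IsLocalRing.closedPoint k)) ∈ Set.range (pullback.diagonal (U.ι ≫ q))
      exact ⟨(w ≫ a₁) (IsLocalRing.closedPoint k), congr(($hwe).base (IsLocalRing.closedPoint k)).symm⟩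
    let Wimg : (fibPow f n).Opens := W.ι ''ᵁ W'
    have hzimg : z ∈ Wimg :=
      ⟨w (IsLocalRing.closedPoint k), hwW', (congr(($hw).base (IsLocalRing.closedPoint k))).trans
        (pointOfClosedPoint_apply _ _ _ _)⟩
    obtain ⟨η, hη, hmax, -⟩ := DimFormula.exists_maximal_cd_eq_codim z
    obtain ⟨t, ht, htη⟩ := hη.mem_open Wimg.2 hzimg
    have hnd : ¬ H23.SymSing.Distinct η := by
      rw [← htη]
      refine H23.SymSing.not_distinct_of_comp_eq (W'.ι ≫ W.ι) (⟨t, ht⟩ : W'.toScheme) (i := i) (j := j) hne ?_
      conv_lhs => rw [hc1]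
      simp only [Category.assoc, σ, permHom_π, Equiv.symm_swap, Equiv.swap_apply_left]
    have := H23.SymSing.le_codim_of_not_distinct f hdim η hnd
    rw [DimFormula.codim_eq_zero_iff.2 hmax] at this
    omega
  · intro hinj
    have hd : H23.SymSing.Distinct z := fun i j hij e => hij (hinj (by
      have h := congr(($e).base (default : Spec _))
      simpa using h))
    let v : (H23.SymSing.distinctOpens (f := f) (n := n)).toScheme := ⟨z, hd⟩
    haveI := (H23.SymSing.flat_unramified hY).1
    let F := (H23.SymSing.distinctOpens (f := f) (n := n)).ι ≫ q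
    haveI : IsRegularLocalRing ((H23.SymSing.distinctOpens (f := f) (n := n)).toScheme.presheaf.stalk v) :=
      Groth.Agent.GrpSchLib.isRegularLocalRing_stalk_of_smooth
        ((H23.SymSing.distinctOpens (f := f) (n := n)).ι ≫ WidePullback.base (fun _ : Fin n => f)) v
    letI := (F.stalkMap v).hom.toAlgebra
    haveI : IsLocalHom (algebraMap (Y.presheaf.stalk (F v))
        ((H23.SymSing.distinctOpens (f := f) (n := n)).toScheme.presheaf.stalk v)) :=
      inferInstanceAs (IsLocalHom (F.stalkMap v).hom)
    haveI : Module.Flat (Y.presheaf.stalk (F v))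
        ((H23.SymSing.distinctOpens (f := f) (n := n)).toScheme.presheaf.stalk v) := Flat.stalkMap F v
    exact S0565.result (Y.presheaf.stalk (F v)) ((H23.SymSing.distinctOpens (f := f) (n := n)).toScheme.presheaf.stalk v)

end Groth.Agent.S19450
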