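import Groth.Statements.S19452
import Groth.Agent.HilbDLib.DualFlat

set_option autoImplicit false
universe u
attribute [local instance] W4c6puncthilbintro.dualAlgebra
open HilbD

namespace Groth.Agent.S19452

open TrivSqZeroExt
theorem aux {A : Type u} [CommRing A] {R : Type u} [CommRing R] [Algebra A R] (I : Ideal R)
    (J : Ideal (DualNumber R)) (hfst : ∀ x ∈ J, x.fst ∈ I) (hlift : ∀ a ∈ I, ∃ x ∈ J, x.fst = a)
    (hb : ∀ b : R, b ∈ I → (inr b : DualNumber R) ∈ J) :
    ∃ π : (DualNumber R ⧸ J) →+ R ⧸ I, Function.Surjective π ∧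
      (∀ (a : A) (x : DualNumber R ⧸ J), π ((inl a : DualNumber A) • x) = a • π x) ∧
      (∀ x : DualNumber R, π (Ideal.Quotient.mk J x) = Ideal.Quotient.mk I x.fst) ∧
      (∀ x, π x = 0 ↔ ∃ y, (DualNumber.eps : DualNumber A) • y = x) := by
  let f : DualNumber R →+* R ⧸ I := (Ideal.Quotient.mk I).comp (TrivSqZeroExt.fstHom R R R).toRingHom
  have hf : ∀ x ∈ J, f x = 0 := fun x hx => Ideal.Quotient.eq_zero_iff_mem.mpr (hfst x hx)
  let π := (Ideal.Quotient.lift J f hf).toAddMonoidHom
  have hπ : ∀ x, π (Ideal.Quotient.mk J x) = Ideal.Quotient.mk I x.fst := fun x => rfl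
  have hsmul : ∀ (c : DualNumber A) (x : DualNumber R),
      c • Ideal.Quotient.mk J x = Ideal.Quotient.mk J (W4c6puncthilbintro.dualMap A R c * x) :=
    fun c x => rfl
  refine ⟨π, fun y => ?_, fun a x => ?_, hπ, fun x => ⟨fun hx => ?_, ?_⟩⟩
  · obtain ⟨y, rfl⟩ := Ideal.Quotient.mk_surjective y
    exact ⟨Ideal.Quotient.mk J (inl y), rfl⟩
  · obtain ⟨x, rfl⟩ := Ideal.Quotient.mk_surjective x
    rw [hsmul, W4c6puncthilbintro.dualMap_inl, hπ, hπ]
    show Ideal.Quotient.mk I _ = Ideal.Quotient.mk I (a • x.fst)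
    simp [Algebra.smul_def, TrivSqZeroExt.algebraMap_eq_inl']
  · obtain ⟨x, rfl⟩ := Ideal.Quotient.mk_surjective x
    obtain ⟨j, hj, hje⟩ := hlift x.fst (Ideal.Quotient.eq_zero_iff_mem.mp ((hπ x).symm.trans hx))
    refine ⟨Ideal.Quotient.mk J (inl (x.snd - j.snd)), ?_⟩
    rw [hsmul, W4c6puncthilbintro.dualMap_eps, Ideal.Quotient.eq]
    have : DualNumber.eps * inl (x.snd - j.snd) - x = -j := by
      ext <;> simp [hje]
    rw [this]; exact neg_mem hj
  · rintro ⟨y, rfl⟩
    obtain ⟨y, rfl⟩ := Ideal.Quotient.mk_surjective y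
    rw [hsmul, hπ, W4c6puncthilbintro.dualMap_eps]
    simp


/-- Let A be a commutative ring, R a commutative A-algebra free as an A-module, I an ideal of R with R/I
flat over A, and view the dual numbers R[ε] as an algebra over A[ε] (ε ↦ ε). For φ : I → R/I linear
over R, let J_φ be the ideal of elements a + bε of R[ε] with a ∈ I and b ≡ φ(a) modulo I. Then each
R[ε]/J_φ is flat over A[ε] and J_φ reduces to I modulo ε; the assignment φ ↦ J_φ is injective; and
every ideal J of R[ε] with R[ε]/J flat over A[ε] which reduces to I modulo ε equals some J_φ. Thus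
the first-order liftings of I correspond one-to-one to Hom_R(I, R/I) (the tangent space of the
Hilbert scheme at I). -/
theorem result (A : Type u) [CommRing A] (R : Type u) [CommRing R]
    [Algebra A R] [Module.Free A R] (I : Ideal R) [Module.Flat A (R ⧸ I)] :
    (∀ φ : I →ₗ[R] R ⧸ I,
        Module.Flat (DualNumber A) (DualNumber R ⧸ W4c6puncthilbintro.liftIdeal I φ) ∧
          Ideal.map (TrivSqZeroExt.fstHom A R R) (W4c6puncthilbintro.liftIdeal I φ) = I) ∧
      Function.Injective (W4c6puncthilbintro.liftIdeal I) ∧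
      ∀ J : Ideal (DualNumber R), Module.Flat (DualNumber A) (DualNumber R ⧸ J) →
        Ideal.map (TrivSqZeroExt.fstHom A R R) J = I →
          ∃ φ : I →ₗ[R] R ⧸ I, J = W4c6puncthilbintro.liftIdeal I φ := by
  have hmap : ∀ (J : Ideal (DualNumber R)) (a : R),
      a ∈ Ideal.map (TrivSqZeroExt.fstHom A R R) J ↔ ∃ x ∈ J, x.fst = a := fun J a =>
    (Ideal.mem_map_iff_of_surjective _ fun r => ⟨inl r, rfl⟩)
  refine ⟨fun φ => ?_, fun φ ψ h => ?_, fun J hflat hJ => ?_⟩
  · set J := W4c6puncthilbintro.liftIdeal I φ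
    have hfst : ∀ x ∈ J, x.fst ∈ I := fun x ⟨h, _⟩ => h
    have hlift : ∀ a ∈ I, ∃ x ∈ J, x.fst = a := by
      intro a ha
      obtain ⟨b, hb⟩ := Ideal.Quotient.mk_surjective (φ ⟨a, ha⟩)
      exact ⟨inl a + inr b, ⟨by simpa using ha, by simpa using hb⟩, by simp⟩
    have hb : ∀ b : R, (inr b : DualNumber R) ∈ J ↔ b ∈ I := by
      intro b
      constructor
      · rintro ⟨h, h'⟩
        have : (⟨(inr b : DualNumber R).fst, h⟩ : I) = 0 := rfl
        rw [this, map_zero] at h'
        exact Ideal.Quotient.eq_zero_iff_mem.mp h'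
      · intro h
        refine ⟨I.zero_mem, ?_⟩
        have : (⟨(inr b : DualNumber R).fst, I.zero_mem⟩ : I) = 0 := rfl
        rw [this, map_zero]
        exact Ideal.Quotient.eq_zero_iff_mem.mpr h
    refine ⟨?_, ?_⟩
    · obtain ⟨π, h1, h2, h3, h4⟩ := aux (A := A) I J hfst hlift fun b => (hb b).mpr
      refine HilbDLib.flat_of_reduction π h1 h2 h4 fun x hx => (h4 x).mp ?_
      obtain ⟨x, rfl⟩ := Ideal.Quotient.mk_surjective x
      have hmem : DualNumber.eps * x ∈ J := by
        rw [← W4c6puncthilbintro.dualMap_eps A R]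
        exact Ideal.Quotient.eq_zero_iff_mem.mp hx
      have : DualNumber.eps * x = inr x.fst := by ext <;> simp
      rw [this, hb] at hmem
      rw [h3]; exact Ideal.Quotient.eq_zero_iff_mem.mpr hmem
    · ext a
      rw [hmap]
      exact ⟨fun ⟨x, hx, hxa⟩ => hxa ▸ hfst x hx, hlift a⟩
  · refine LinearMap.ext fun a => ?_
    obtain ⟨b, hb⟩ := Ideal.Quotient.mk_surjective (φ a)
    have hm : (inl (a : R) + inr b : DualNumber R) ∈ W4c6puncthilbintro.liftIdeal I φ :=
      ⟨by simp, by simpa using hb⟩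
    rw [h] at hm
    obtain ⟨h', hb'⟩ := hm
    rw [← hb]
    simpa using hb'
  · have hfst : ∀ x ∈ J, x.fst ∈ I := fun x hx => hJ ▸ (hmap J _).mpr ⟨x, hx, rfl⟩
    have hlift : ∀ a ∈ I, ∃ x ∈ J, x.fst = a := fun a ha => (hmap J a).mp (hJ.symm ▸ ha)
    have hb1 : ∀ b : R, b ∈ I → (inr b : DualNumber R) ∈ J := by
      intro b hb
      obtain ⟨x, hx, rfl⟩ := hlift b hb
      have : (inr x.fst : DualNumber R) = DualNumber.eps * x := by ext <;> simp
      rw [this]; exact J.mul_mem_left _ hx
    obtain ⟨π, h1, h2, h3, h4⟩ := aux (A := A) I J hfst hlift hb1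
    have hb2 : ∀ b : R, (inr b : DualNumber R) ∈ J → b ∈ I := by
      intro b hb
      have hx : (DualNumber.eps : DualNumber A) • Ideal.Quotient.mk J (inl b) = 0 := by
        show Ideal.Quotient.mk J (W4c6puncthilbintro.dualMap A R DualNumber.eps * inl b) = 0
        rw [W4c6puncthilbintro.dualMap_eps, Ideal.Quotient.eq_zero_iff_mem]
        have : DualNumber.eps * inl b = (inr b : DualNumber R) := by ext <;> simp
        rwa [this]
      have := (h4 _).mpr (HilbDLib.exists_eps_smul_of_flat (A := A) (M := DualNumber R ⧸ J) _ hx)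
      rw [h3] at this
      exact Ideal.Quotient.eq_zero_iff_mem.mp this
    choose g hg hg' using hlift
    have key : ∀ x (hx : x ∈ J), Ideal.Quotient.mk I x.snd = Ideal.Quotient.mk I (g x.fst (hfst x hx)).snd := by
      intro x hx
      refine Ideal.Quotient.eq.mpr (hb2 _ ?_)
      have : (inr (x.snd - (g x.fst (hfst x hx)).snd) : DualNumber R) = x - g x.fst (hfst x hx) := by
        ext <;> simp [hg']
      rw [this]; exact sub_mem hx (hg _ _)
    let φ : I →ₗ[R] R ⧸ I :=
      { toFun := fun a => Ideal.Quotient.mk I (g a.1 a.2).snd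
        map_add' := fun a b => by
          have h := key _ (add_mem (hg a.1 a.2) (hg b.1 b.2))
          simp only [fst_add, hg', snd_add, map_add] at h
          exact h.symm
        map_smul' := fun r a => by
          have h := key _ (J.mul_mem_left (inl r) (hg a.1 a.2))
          simp only [fst_mul, fst_inl, hg', DualNumber.snd_mul, snd_inl, zero_mul, add_zero, map_mul] at h
          exact h.symm }
    refine ⟨φ, le_antisymm (fun x hx => ⟨hfst x hx, key x hx⟩) ?_⟩
    rintro x ⟨h, hx⟩
    have hi : x.snd - (g x.fst h).snd ∈ I := Ideal.Quotient.eq.mp hx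
    have : x = g x.fst h + inr (x.snd - (g x.fst h).snd) := by ext <;> simp [hg']
    rw [this]
    exact add_mem (hg _ _) (hb1 _ hi)

end Groth.Agent.S19452
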