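import Groth.Statements.S19453
import Mathlib.RingTheory.RegularLocalRing.Defs
import Mathlib.RingTheory.Ideal.Cotangent
import Mathlib.RingTheory.Nakayama
import Mathlib.RingTheory.Artinian.Ring
import Mathlib.RingTheory.Polynomial.Quotient
import Mathlib.RingTheory.AdjoinRoot

set_option autoImplicit false
universe u
open CAlg

namespace Groth.Agent.S19453
open IsLocalRing

/-- Converse direction: let k be a field, A a regular local k-algebra of Krull dimension 2 with maximal
ideal M and residue field k, and I an ideal with A/I of finite dimension n ≥ 1 over k. If some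
element of I does not lie in M^2, then A/I is isomorphic as a k-algebra to k[x]/(x^n): a cluster
lying on a smooth curve germ of a smooth surface is curvilinear, with coordinate ring generated by
one element. -/
theorem result (k : Type u) [Field k]
    (A : Type u) [CommRing A] [Algebra k A] [IsRegularLocalRing A] (hdim : ringKrullDim A = 2)
    (hres : Function.Surjective (algebraMap k (IsLocalRing.ResidueField A)))
    (I : Ideal A) [Module.Finite k (A ⧸ I)] (n : ℕ) (hn : Module.finrank k (A ⧸ I) = n) (h1 : 1 ≤ n)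
    (g : A) (hgI : g ∈ I) (hg : g ∉ IsLocalRing.maximalIdeal A ^ 2) :
    Nonempty ((A ⧸ I) ≃ₐ[k] (Polynomial k ⧸ Ideal.span {(Polynomial.X : Polynomial k) ^ n})) := by
  classical
  have hI : I ≤ maximalIdeal A := le_maximalIdeal fun h => by
    rw [h] at hn
    haveI : Subsingleton (A ⧸ (⊤ : Ideal A)) := Ideal.Quotient.subsingleton_iff.2 rfl
    rw [Module.finrank_zero_of_subsingleton] at hn
    omega
  have hct : Module.finrank (ResidueField A) (CotangentSpace A) = 2 := by
    have h := (isRegularLocalRing_iff A).1 ‹_›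
    rw [hdim] at h
    rw [← IsLocalRing.spanFinrank_maximalIdeal_eq_finrank_cotangentSpace]
    exact_mod_cast h
  let gm : maximalIdeal A := ⟨g, hI hgI⟩
  have hg0 : (maximalIdeal A).toCotangent gm ≠ 0 := fun h => hg ((Ideal.toCotangent_eq_zero _ gm).1 h)
  -- a second generator
  obtain ⟨t, ht⟩ : ∃ t : maximalIdeal A, maximalIdeal A ≤ Ideal.span {g, (t : A)} := by
    haveI : FiniteDimensional (ResidueField A) (CotangentSpace A) := Module.finite_of_finrank_pos (hct.symm ▸ two_pos)
    obtain ⟨v, hv⟩ : ∃ v, v ∉ Submodule.span (ResidueField A) {(maximalIdeal A).toCotangent gm} := by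
      by_contra! h
      have := finrank_le_one _ fun w => Submodule.mem_span_singleton.1 (h w)
      exact absurd (hct.symm.le.trans this) (by norm_num)
    obtain ⟨t, rfl⟩ := Ideal.toCotangent_surjective _ v
    have hli : LinearIndependent (ResidueField A) ![(maximalIdeal A).toCotangent t, (maximalIdeal A).toCotangent gm] := by
      rw [LinearIndependent.pair_iff' (fun h => hv (by rw [h]; exact zero_mem _))]
      intro a ha
      refine hv ?_
      have ha0 : a ≠ 0 := fun h => hg0 (by rw [← ha, h, zero_smul])
      exact Submodule.mem_span_singleton.2 ⟨a⁻¹, by rw [← ha, smul_smul, inv_mul_cancel₀ ha0, one_smul]⟩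
    have htop := hli.span_eq_top_of_card_eq_finrank (by simp [hct])
    refine ⟨t, Submodule.le_of_le_smul_of_le_jacobson_bot (IsNoetherian.noetherian _) (IsLocalRing.maximalIdeal_le_jacobson _) fun a ha => ?_⟩
    have := htop.ge (Submodule.mem_top (x := (maximalIdeal A).toCotangent ⟨a, ha⟩))
    rw [Matrix.range_cons, Matrix.range_cons, Matrix.range_empty, Set.union_empty, Set.singleton_union, Submodule.mem_span_pair] at this
    obtain ⟨r, s, hrs⟩ := this
    obtain ⟨r, rfl⟩ := residue_surjective r
    obtain ⟨s, rfl⟩ := residue_surjective s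
    change r • (maximalIdeal A).toCotangent t + s • (maximalIdeal A).toCotangent gm = _ at hrs
    rw [← map_smul, ← map_smul, ← map_add, Ideal.toCotangent_eq] at hrs
    refine Submodule.mem_sup.2 ⟨r * t + s * g, Ideal.mem_span_pair.2 ⟨s, r, add_comm _ _⟩, a - (r * t + s * g), ?_, by ring⟩
    rw [smul_eq_mul, ← sq, ← neg_sub]
    exact neg_mem hrs
  let π := Ideal.Quotient.mkₐ k I
  let φ : Polynomial k →ₐ[k] A ⧸ I := Polynomial.aeval (π t)
  haveI : IsArtinianRing (A ⧸ I) := IsArtinianRing.of_finite k _
  haveI : IsLocalRing (A ⧸ I) := by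
    haveI : Nontrivial (A ⧸ I) := Ideal.Quotient.nontrivial_iff.2 fun h => (maximalIdeal.isMaximal A).ne_top (top_le_iff.1 (h ▸ hI))
    exact IsLocalRing.of_surjective' (Ideal.Quotient.mk I) Ideal.Quotient.mk_surjective
  obtain ⟨e, he⟩ : IsNilpotent (π t) := by
    rw [← mem_nilradical, nilradical_eq_sInf, Ideal.mem_sInf]
    intro P (hP : P.IsPrime)
    rw [IsLocalRing.eq_maximalIdeal (IsArtinianRing.isMaximal_of_isPrime P)]
    exact fun hu => by
      obtain ⟨b, hb⟩ := isUnit_iff_exists_inv.1 hu
      obtain ⟨b, rfl⟩ := Ideal.Quotient.mk_surjective b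
      change Ideal.Quotient.mk I t * Ideal.Quotient.mk I b = 1 at hb
      rw [← map_mul, ← map_one (Ideal.Quotient.mk I), Ideal.Quotient.eq] at hb
      refine (maximalIdeal.isMaximal A).ne_top ((Ideal.eq_top_iff_one _).2 ?_)
      have := Ideal.sub_mem _ (Ideal.mul_mem_right b _ t.2) (hI hb)
      rwa [sub_sub_cancel] at this
  have hsurj : Function.Surjective φ := by
    have key : ∀ n, ∀ a : A, ∃ P : Polynomial k, ∃ b : A, π a = φ P + π t ^ n * π b := by
      intro n
      induction n with
      | zero => exact fun a => ⟨0, a, by simp⟩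
      | succ n ih =>
        intro a
        obtain ⟨P, b, hb⟩ := ih a
        obtain ⟨c, hc⟩ := hres (residue A b)
        have hx : b - algebraMap k A c ∈ maximalIdeal A := by
          rw [← residue_eq_zero_iff, map_sub, ← hc, IsScalarTower.algebraMap_apply k A (ResidueField A), ResidueField.algebraMap_eq, sub_self]
        obtain ⟨r, s, hrs⟩ := Ideal.mem_span_pair.1 (ht hx)
        refine ⟨P + Polynomial.C c * Polynomial.X ^ n, s, ?_⟩
        have hπg : π g = 0 := Ideal.Quotient.eq_zero_iff_mem.2 hgI
        have hb' : π b = algebraMap k (A ⧸ I) c + π s * π t := by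
          have := congrArg π hrs
          rw [map_add, map_mul, map_mul, hπg, mul_zero, zero_add, map_sub, AlgHom.commutes] at this
          rw [this]; ring
        rw [hb, hb', map_add, map_mul, map_pow]
        simp only [φ, Polynomial.aeval_C, Polynomial.aeval_X]
        ring
    intro q
    obtain ⟨a, rfl⟩ := Ideal.Quotient.mkₐ_surjective k I q
    obtain ⟨P, b, hb⟩ := key e a
    exact ⟨P, by rw [hb, he, zero_mul, add_zero]⟩
  obtain ⟨p, hp⟩ := IsPrincipalIdealRing.principal (RingHom.ker φ)
  change RingHom.ker φ = Ideal.span {p} at hp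
  have hX : φ (Polynomial.X ^ e) = 0 := by simp [φ, he]
  have hdvd : p ∣ Polynomial.X ^ e := Ideal.mem_span_singleton.1 (hp ▸ RingHom.mem_ker.2 hX)
  obtain ⟨j, -, hj⟩ := (dvd_prime_pow Polynomial.prime_X e).1 hdvd
  rw [Ideal.span_singleton_eq_span_singleton.2 hj] at hp
  let ψ : (Polynomial k ⧸ Ideal.span {(Polynomial.X : Polynomial k) ^ j}) ≃ₐ[k] A ⧸ I :=
    (Ideal.quotientEquivAlgOfEq k hp.symm).trans (Ideal.quotientKerAlgEquivOfSurjective hsurj)
  have hjn : j = n := by
    rw [← hn, ← ψ.toLinearEquiv.finrank_eq, finrank_quotient_span_eq_natDegree, Polynomial.natDegree_X_pow]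
  subst hjn
  exact ⟨ψ.symm⟩

end Groth.Agent.S19453
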