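import Groth.Statements.S19456
import Groth.Agent.ZeroSchX.Basic
import Groth.Agent.InvX.Frame
import Groth.Agent.DivX.MeroMod

set_option autoImplicit false
universe u
open CategoryTheory CategoryTheory.Limits AlgebraicGeometry TopologicalSpace Opposite
open Mero

namespace Groth.Agent.S19456

/-- With the preceding paragraph: let X be an integral scheme, L an invertible O_X-module and s a
nonzero global section of L, given as a nonzero morphism O_X → L. Then the zero scheme Z(s) of s is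
an effective Cartier divisor: there is a divisor D on X (a global section of the sheaf of units of
K_X modulo units of O_X) which, around every point of X, on some affine open neighbourhood, is the
class of a regular function generating the ideal of Z(s) there; and there is an isomorphism of
O_X-modules L ≅ O_X(D) which carries s to the element 1 of Γ(X, O_X(D)) ⊆ K(X). (The published
statement is for an irreducible variety over an algebraically closed field; this row states it for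
an arbitrary integral scheme.) -/
theorem result (X : Scheme.{u}) [AlgebraicGeometry.IsIntegral X]
    (L : X.Modules) (hL : PicF.IsInvertible L) (s : Coh.structureModule X ⟶ L) (hs : s ≠ 0) :
    ∃ D : Mero.Divisor X, Mero.IsDivOfIdeal D (PicF2.zeroScheme L s) ∧
      ∃ e : L ≅ Mero.divMod D,
        (Mero.divModι D).app ⊤ (e.hom.app ⊤ (SecTwist.val s ⊤)) = 1 := by
  classical
  open Groth.Agent in
  have hne : ∀ (V : X.Opens) (f : Γ(L, V)), InvX.IsFrame f → (V : Set X).Nonempty →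
      ∀ c : Γ(X, V), ZeroSchX.sv s V = c • f → c ≠ 0 := by
    intro V f he hne c hc h0
    subst h0
    have hV : ZeroSchX.sv s V = 0 := hc.trans (zero_smul _ _)
    have hall : ZeroSchX.sv s ⊤ = (0 : Γ(L, (⊤ : X.Opens))) := by
      refine AModX.eq_of_locally _ _ fun p _ => ?_
      obtain ⟨W, hpW, e', he'⟩ := InvX.exists_frame hL p
      obtain ⟨k, hk⟩ := (he' W le_rfl).2 (ZeroSchX.sv s W)
      refine ⟨W, le_top, hpW, ?_⟩
      rw [map_zero, show AModX.res L le_top (ZeroSchX.sv s ⊤) = ZeroSchX.sv s W from ZeroSchX.res_sv s le_top]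
      suffices k = 0 by rw [← hk, this]; exact zero_smul _ _
      have hk' : AModX.resR (inf_le_left : W ⊓ V ≤ W) k • AModX.res L (inf_le_left : W ⊓ V ≤ W) e' = 0 := by
        rw [← AModX.res_res le_rfl inf_le_left e', ← AModX.res_smul]
        refine (congrArg _ hk).trans ?_
        exact (ZeroSchX.res_sv s (inf_le_left : W ⊓ V ≤ W)).trans (((ZeroSchX.res_sv s (inf_le_right : W ⊓ V ≤ V)).symm.trans (congrArg _ hV)).trans (map_zero _))
      have h1 : AModX.resR (inf_le_left : W ⊓ V ≤ W) k = 0 :=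
        (he' (W ⊓ V) inf_le_left).1 (hk'.trans (zero_smul _ _).symm)
      have hne' : Nonempty (W ⊓ V : X.Opens) :=
        (nonempty_preirreducible_inter W.isOpen V.isOpen ⟨p, hpW⟩ hne).to_subtype
      exact map_injective_of_isIntegral X (homOfLE (inf_le_left : W ⊓ V ≤ W)) (h1.trans (map_zero _).symm)
    refine hs (L.unitHomEquiv.injective (Subtype.ext (funext fun W => ?_)))
    refine (SecTwist.map_val s (homOfLE (le_top (a := W.unop)))).symm.trans ?_
    exact ((congrArg _ hall).trans (map_zero _)).trans rfl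
  have hdata : ∀ p : X, ∃ (V : X.affineOpens), p ∈ (V : X.Opens) ∧ ∃ (f : Γ(L, V.1)) (c : Γ(X, V.1)),
      InvX.IsFrame f ∧ ZeroSchX.sv s V.1 = c • f ∧ c ∈ Mero.regSub X V.1 := fun p => by
    obtain ⟨W, hpW, f, hf⟩ := InvX.exists_frame hL p
    obtain ⟨_, ⟨V, hV, rfl⟩, hpV, hVW⟩ :=
      X.isBasis_affineOpens.exists_subset_of_mem_open hpW W.isOpen
    obtain ⟨c, hc⟩ := (hf V hVW).2 (ZeroSchX.sv s V)
    refine ⟨⟨V, hV⟩, hpV, _, c, hf.res hVW, hc.symm, fun y => mem_nonZeroDivisors_of_ne_zero fun h0 => ?_⟩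
    exact hne V _ (hf.res hVW) ⟨p, hpV⟩ c hc.symm (germ_injective_of_isIntegral X y.1 y.2 (h0.trans (map_zero _).symm))
  choose V hpV f c hf hc hreg using hdata
  have hu : ∀ p, IsUnit (Mero.toK X (V p).1 (c p)) := fun p =>
    DivX.isUnit_of_smul_injective _ fun W hW r hr => by
      refine TopCat.Presheaf.section_ext X.sheaf _ _ _ fun z hz => ?_
      have h1 := congrArg (fun k : Γ(Mero.kmod X, W) => k.1 ⟨z, hz⟩) hr
      simp only [DivX.smul_val, DivX.kRes_apply, DivX.toK_val, ← map_mul] at h1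
      exact ((mem_nonZeroDivisors_iff_right.1 (hreg p ⟨z, hW hz⟩)) _
        (Mero.algebraMap_KStalk_injective z (h1.trans (map_zero _).symm))).trans (map_zero _).symm
  have hcoord : ∀ (a b : X) (W : X.Opens) (ha : W ≤ (V a).1) (hb : W ≤ (V b).1) (g : Γ(X, W)),
      AModX.res L hb (f b) = g • AModX.res L ha (f a) → AModX.resR ha (c a) = AModX.resR hb (c b) * g := by
    intro a b W ha hb g hg
    refine (hf a _ ha).1 ?_
    show AModX.resR ha (c a) • AModX.res L ha (f a) = (AModX.resR hb (c b) * g) • AModX.res L ha (f a)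
    rw [mul_smul, ← hg, ← AModX.res_smul, ← AModX.res_smul, ← hc, ← hc]
    exact (ZeroSchX.res_sv s ha).trans (ZeroSchX.res_sv s hb).symm
  have hgerm : ∀ (a b : X) (y : X) (ha : y ∈ (V a).1) (hb : y ∈ (V b).1),
      Mero.germOf (hu a).unit ⟨y, ha⟩ = Mero.germOf (hu b).unit ⟨y, hb⟩ := by
    intro a b y ha hb
    let W : X.Opens := (V a).1 ⊓ (V b).1
    obtain ⟨g, hg⟩ := (hf a W inf_le_left).2 (AModX.res L (inf_le_right : W ≤ (V b).1) (f b))
    obtain ⟨g', hg'⟩ := (hf b W inf_le_right).2 (AModX.res L (inf_le_left : W ≤ (V a).1) (f a))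
    have hgg : g' * g = 1 := (hf a W inf_le_left).1 (by
      show (g' * g) • AModX.res L (inf_le_left : W ≤ (V a).1) (f a) = (1 : Γ(X, W)) • _
      rw [mul_smul, one_smul]
      exact (congrArg (g' • ·) hg).trans hg')
    have h1 := hcoord a b W inf_le_left inf_le_right g hg.symm
    refine Eq.symm (QuotientGroup.eq.2 ?_)
    refine ⟨(Units.mkOfMulEqOne _ _ ((mul_comm g' g).symm.trans hgg)).map
      (X.presheaf.germ W y ⟨ha, hb⟩).hom.toMonoidHom, Units.ext ?_⟩
    rw [Units.val_mul]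
    refine ((Units.inv_mul_eq_iff_eq_mul (Units.map (Mero.evalK X (V b).1 ⟨y, hb⟩).toMonoidHom (hu b).unit)).2 ?_).symm
    show algebraMap (X.presheaf.stalk y) (Mero.KStalk X y) (X.presheaf.germ (V a).1 y ha (c a)) =
      algebraMap (X.presheaf.stalk y) (Mero.KStalk X y) (X.presheaf.germ (V b).1 y hb (c b)) *
        algebraMap (X.presheaf.stalk y) (Mero.KStalk X y) (X.presheaf.germ W y ⟨ha, hb⟩ g)
    rw [← map_mul]
    refine congrArg _ ?_
    have h2 := congrArg (X.presheaf.germ W y ⟨ha, hb⟩) h1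
    rw [map_mul] at h2
    refine (TopCat.Presheaf.germ_res_apply X.presheaf (homOfLE inf_le_left) y ⟨ha, hb⟩ (c a)).symm.trans (h2.trans ?_)
    exact congrArg (· * _) (TopCat.Presheaf.germ_res_apply X.presheaf (homOfLE inf_le_right) y ⟨ha, hb⟩ (c b))
  let D : Mero.Divisor X := ⟨fun y => Mero.germOf (hu y).unit ⟨y, hpV y⟩,
    fun p => ⟨(V p).1, hpV p, (hu p).unit, fun y => hgerm y.1 p y.1 (hpV y.1) y.2⟩⟩
  have hD : ∀ (p : X) (y : (V p).1), D.1 y.1 = Mero.germOf (hu p).unit y := fun p y =>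
    hgerm y.1 p y.1 (hpV y.1) y.2
  refine ⟨D, fun p => ⟨V p, hpV p, c p, hreg p, ?_, fun y => (hD p y).trans (congrArg _ (Units.ext
    (((IsUnit.unit_spec _)).symm)))⟩, ?_⟩
  · rw [ZeroSchX.ideal_zeroScheme hL, ZeroSchX.zeroIdealOn_eq_span s (hf p) (hc p)]
  let n : ∀ p, Γ(Mero.divMod D, (V p).1) := fun p => DivX.gen (hu p).unit (hD p)
  have hn : ∀ (p : X) (W : X.Opens) (h : W ≤ (V p).1) (y : W),
      algebraMap (X.presheaf.stalk y.1) (Mero.KStalk X y.1) (X.presheaf.germ (V p).1 y.1 (h y.2) (c p)) *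
        (n p).1 ⟨y.1, h y.2⟩ = 1 := fun p W h y =>
    (mul_comm _ _).trans (DivX.unit_val_mul (hu p).unit ⟨y.1, h y.2⟩)
  have hcomp : ∀ (a b : X) (W : X.Opens) (ha : W ≤ (V a).1) (hb : W ≤ (V b).1) (g : Γ(X, W)),
      AModX.res L hb (f b) = g • AModX.res L ha (f a) →
        AModX.res (Mero.divMod D) hb (n b) = g • AModX.res (Mero.divMod D) ha (n a) := by
    intro a b W ha hb g hg
    refine Subtype.ext (funext fun y => ?_)
    have h1 := congrArg (fun k => algebraMap (X.presheaf.stalk y.1) (Mero.KStalk X y.1) (X.presheaf.germ W y.1 y.2 k))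
      (hcoord a b W ha hb g hg)
    simp only [map_mul, AModX.resR, TopCat.Presheaf.germ_res_apply] at h1
    show (n b).1 ⟨y.1, hb y.2⟩ = X.presheaf.germ W y.1 y.2 g • (n a).1 ⟨y.1, ha y.2⟩
    rw [Algebra.smul_def]
    calc (n b).1 ⟨y.1, hb y.2⟩ = (algebraMap (X.presheaf.stalk y.1) (Mero.KStalk X y.1) (X.presheaf.germ (V a).1 y.1 (ha y.2) (c a)) *
          (n a).1 ⟨y.1, ha y.2⟩) * (n b).1 ⟨y.1, hb y.2⟩ := by rw [hn a W ha y, one_mul]
      _ = (algebraMap (X.presheaf.stalk y.1) (Mero.KStalk X y.1) (X.presheaf.germ (V b).1 y.1 (hb y.2) (c b)) *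
          (n b).1 ⟨y.1, hb y.2⟩) * (algebraMap (X.presheaf.stalk y.1) (Mero.KStalk X y.1) (X.presheaf.germ W y.1 y.2 g) *
            (n a).1 ⟨y.1, ha y.2⟩) := by rw [h1]; ring
      _ = _ := by rw [hn b W hb y, one_mul]
  let φ : L ⟶ Mero.divMod D := InvX.ofFrames (U := fun p => (V p).1) (e := f) (n := n)
    (fun x => ⟨x, hpV x⟩) hf hcomp
  have hφ : ∀ p, φ.app (V p).1 (f p) = n p := fun p => InvX.ofFrames_app _ _ _ p
  haveI : IsIso φ := DivX.isIso_of_frames φ fun x =>
    ⟨(V x).1, hpV x, f x, hf x, by rw [hφ]; exact DivX.isFrame_gen _ _⟩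
  refine ⟨asIso φ, Subtype.ext (funext fun y => ?_)⟩
  show (φ.app ⊤ (ZeroSchX.sv s ⊤)).1 y = 1
  have h1 : AModX.res (Mero.divMod D) (le_top : (V y.1).1 ≤ ⊤) (φ.app ⊤ (ZeroSchX.sv s ⊤)) = c y.1 • n y.1 := by
    rw [← AModX.app_res, ← hφ, ← Scheme.Modules.Hom.app_smul, ← hc]
    exact congrArg _ (ZeroSchX.res_sv s le_top)
  have h2 := congrArg (fun k : Γ(Mero.divMod D, (V y.1).1) => k.1 ⟨y.1, hpV y.1⟩) h1
  refine h2.trans ?_
  show X.presheaf.germ (V y.1).1 y.1 (hpV y.1) (c y.1) • (n y.1).1 ⟨y.1, hpV y.1⟩ = 1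
  rw [Algebra.smul_def]
  exact hn y.1 _ le_rfl ⟨y.1, hpV y.1⟩

end Groth.Agent.S19456
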