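import Groth.Statements.S19457
import Groth.Agent.ZeroSchX.Basic
import Groth.Agent.InvX.Frame

set_option autoImplicit false
universe u
open CategoryTheory CategoryTheory.Limits AlgebraicGeometry TopologicalSpace Opposite
open PicF2

namespace Groth.Agent.S19457

/-- Let X be an integral scheme, L an invertible O_X-module and s, s' two nonzero global sections of L,
given as nonzero morphisms O_X → L. Then the zero schemes Z(s') and Z(s) are equal (as
quasi-coherent ideal sheaves of O_X, that is, as effective Cartier divisors) if and only if s' = h ·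
s for some unit h of the ring of global functions Γ(X, O_X). (The published statement is for an
irreducible variety over an algebraically closed field; this row states it for an arbitrary integral
scheme.) -/
theorem result (X : Scheme.{u}) [AlgebraicGeometry.IsIntegral X]
    (L : X.Modules) (hL : PicF.IsInvertible L) (s s' : Coh.structureModule X ⟶ L) (hs : s ≠ 0) (hs' : s' ≠ 0) :
    PicF2.zeroScheme L s' = PicF2.zeroScheme L s ↔
      ∃ h : Γ(X, ⊤), IsUnit h ∧ (SecTwist.val s' ⊤ : Γ(L, ⊤)) = h • (SecTwist.val s ⊤ : Γ(L, ⊤)) := by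
  open Groth.Agent in
  have hz : ∀ (s : Coh.structureModule X ⟶ L), s ≠ 0 → ∀ (V : X.Opens) (e : Γ(L, V)), InvX.IsFrame e → (V : Set X).Nonempty →
      ∀ c : Γ(X, V), ZeroSchX.sv s V = c • e → c ≠ 0 := by
    intro s hs V e he hne c hc h0
    subst h0
    have hV : ZeroSchX.sv s V = 0 := hc.trans (zero_smul _ _)
    have hall : ZeroSchX.sv s ⊤ = (0 : Γ(L, (⊤ : X.Opens))) := by
      refine AModX.eq_of_locally _ _ fun p _ => ?_
      obtain ⟨W, hpW, e', he'⟩ := InvX.exists_frame hL p
      obtain ⟨k, hk⟩ := (he' W le_rfl).2 (ZeroSchX.sv s W)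
      refine ⟨W, le_top, hpW, ?_⟩
      rw [map_zero, show AModX.res L le_top (ZeroSchX.sv s ⊤) = ZeroSchX.sv s W from ZeroSchX.res_sv s le_top]
      suffices k = 0 by rw [← hk, this]; exact zero_smul _ _
      have hk' : AModX.resR (inf_le_left : W ⊓ V ≤ W) k • AModX.res L (inf_le_left : W ⊓ V ≤ W) e' = 0 := by
        rw [← AModX.res_res le_rfl inf_le_left e', ← AModX.res_smul]
        refine (congrArg _ hk).trans ?_
        exact (ZeroSchX.res_sv s (inf_le_left : W ⊓ V ≤ W)).trans (((ZeroSchX.res_sv s (inf_le_right : W ⊓ V ≤ V)).symm.trans (congrArg _ hV)).trans (map_zero _))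
      have h1 : AModX.resR (inf_le_left : W ⊓ V ≤ W) k = 0 :=
        (he' (W ⊓ V) inf_le_left).1 (hk'.trans (zero_smul _ _).symm)
      have hne' : Nonempty (W ⊓ V : X.Opens) :=
        (nonempty_preirreducible_inter W.isOpen V.isOpen ⟨p, hpW⟩ hne).to_subtype
      exact map_injective_of_isIntegral X (homOfLE (inf_le_left : W ⊓ V ≤ W)) (h1.trans (map_zero _).symm)
    refine hs (L.unitHomEquiv.injective (Subtype.ext (funext fun W => ?_)))
    refine (SecTwist.map_val s (homOfLE (le_top (a := W.unop)))).symm.trans ?_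
    exact ((congrArg _ hall).trans (map_zero _)).trans rfl
  constructor
  · intro heq
    have hfr : ∀ p : X, ∃ (V : X.Opens), p ∈ V ∧ IsAffineOpen V ∧ ∃ e : Γ(L, V), InvX.IsFrame e := fun p => by
      obtain ⟨W, hpW, e, he⟩ := InvX.exists_frame hL p
      obtain ⟨_, ⟨V, hV, rfl⟩, hpV, hVW⟩ :=
        X.isBasis_affineOpens.exists_subset_of_mem_open hpW W.isOpen
      exact ⟨V, hpV, hV, _, he.res hVW⟩
    choose V hpV hV e he using hfr
    have hloc : ∀ p, ∃ u : Γ(X, V p), IsUnit u ∧ ZeroSchX.sv s' (V p) = u • ZeroSchX.sv s (V p) := by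
      intro p
      obtain ⟨c, hc⟩ := (he p _ le_rfl).2 (ZeroSchX.sv s (V p))
      obtain ⟨c', hc'⟩ := (he p _ le_rfl).2 (ZeroSchX.sv s' (V p))
      simp only [AModX.res_self] at hc hc'
      have hI := congrArg (fun I : X.IdealSheafData => I.ideal ⟨V p, hV p⟩) heq
      simp only [ZeroSchX.ideal_zeroScheme hL] at hI
      rw [ZeroSchX.zeroIdealOn_eq_span s (he p) hc.symm, ZeroSchX.zeroIdealOn_eq_span s' (he p) hc'.symm] at hI
      haveI : Nonempty (V p) := ⟨⟨p, hpV p⟩⟩
      obtain ⟨u, hu⟩ := Ideal.span_singleton_eq_span_singleton.1 hI.symm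
      refine ⟨u, u.isUnit, ?_⟩
      rw [← hc, ← hc', ← hu, smul_smul, mul_comm]
    choose u hu hsu using hloc
    obtain ⟨h, hh, -⟩ := AModX.existsUnique_glue (M := Coh.structureModule X) (V := (⊤ : X.Opens)) V
      (fun _ => le_top) (fun p _ => ⟨p, hpV p⟩) u fun i j => by
        obtain ⟨c, hc⟩ := (he i _ le_rfl).2 (ZeroSchX.sv s (V i))
        simp only [AModX.res_self] at hc
        by_cases hne : (V i ⊓ V j : X.Opens) = ⊥
        · refine AModX.eq_of_locally _ _ fun p hp => absurd hp ?_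
          rw [hne]; exact id
        have hne : ((V i ⊓ V j : X.Opens) : Set X).Nonempty := Set.nonempty_iff_ne_empty.2 fun h =>
          hne (Opens.ext h)
        haveI : Nonempty (V i ⊓ V j : X.Opens) := hne.to_subtype
        have hf := he i |>.res (inf_le_left : V i ⊓ V j ≤ V i)
        have hcS : ZeroSchX.sv s (V i ⊓ V j) =
            AModX.resR (inf_le_left : V i ⊓ V j ≤ V i) c • AModX.res L inf_le_left (e i) := by
          rw [← AModX.res_smul, hc]; exact (ZeroSchX.res_sv s _).symm
        have h1 : ∀ (k : X) (hk : V i ⊓ V j ≤ V k), AModX.resR hk (u k) • ZeroSchX.sv s (V i ⊓ V j) =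
            ZeroSchX.sv s' (V i ⊓ V j) := fun k hk => by
          rw [← ZeroSchX.res_sv s hk, ← ZeroSchX.res_sv s' hk, hsu k]
          exact (AModX.res_smul hk _ _).symm
        have h2 := (h1 i inf_le_left).trans (h1 j inf_le_right).symm
        rw [hcS, smul_smul, smul_smul] at h2
        show AModX.resR inf_le_left (u i) = AModX.resR inf_le_right (u j)
        exact mul_right_cancel₀ (hz s hs _ _ hf hne _ hcS) ((he i _ inf_le_left).1 h2)
    refine ⟨h, X.toRingedSpace.isUnit_of_isUnit_germ ⊤ h fun p _ => ?_, ?_⟩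
    · have h1 := congrArg (X.presheaf.germ (V p) p (hpV p)) (hh p)
      have h2 : X.presheaf.germ ⊤ p trivial h = X.presheaf.germ (V p) p (hpV p) (u p) :=
        (TopCat.Presheaf.germ_res_apply X.presheaf (homOfLE le_top) p (hpV p) h).symm.trans h1
      show IsUnit (X.presheaf.germ ⊤ p trivial h)
      rw [h2]
      exact (hu p).map _
    · refine AModX.eq_of_locally (M := L) _ _ fun p _ => ⟨V p, le_top, hpV p, ?_⟩
      refine (ZeroSchX.res_sv s' le_top).trans ((hsu p).trans ?_)
      refine Eq.trans ?_ (AModX.res_smul (M := L) (le_top : V p ≤ ⊤) h (ZeroSchX.sv s ⊤)).symm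
      rw [show AModX.resR (le_top : V p ≤ ⊤) h = u p from hh p]
      exact congrArg _ (ZeroSchX.res_sv s le_top).symm
  · rintro ⟨h, hh, he⟩
    refine Scheme.IdealSheafData.ext (funext fun U => ?_)
    rw [ZeroSchX.ideal_zeroScheme hL, ZeroSchX.ideal_zeroScheme hL]
    have hU : ZeroSchX.sv s' U.1 = AModX.resR (le_top : U.1 ≤ ⊤) h • ZeroSchX.sv s U.1 := by
      rw [← ZeroSchX.res_sv s' le_top, ← ZeroSchX.res_sv s le_top]
      exact (congrArg _ he).trans (AModX.res_smul _ _ _)
    obtain ⟨w, hw⟩ := hh.map (AModX.resR (le_top : U.1 ≤ ⊤))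
    ext a
    rw [ZeroSchX.mem_zeroIdealOn, ZeroSchX.mem_zeroIdealOn]
    refine forall_congr' fun m => ⟨fun ⟨b, hb⟩ => ⟨b * w, ?_⟩, fun ⟨b, hb⟩ => ⟨b * (w⁻¹ : Γ(X, U.1)ˣ), ?_⟩⟩
    · rw [hb, hU, ← hw, smul_smul]
    · rw [hb, hU, ← hw, smul_smul, mul_assoc, Units.inv_mul, mul_one]

end Groth.Agent.S19457
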