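import Groth.Statements.S19458
import Groth.Agent.ZeroSchX.Basic
import Groth.Agent.InvX.GenLocusPull
import Groth.Agent.DivX.MeroMod
import Groth.Agent.QCoh.Devissage

set_option autoImplicit false
universe u
open CategoryTheory CategoryTheory.Limits AlgebraicGeometry TopologicalSpace Opposite
open Mero

namespace Groth.Agent.S19458

/-- Let X be an integral scheme, L an invertible O_X-module and D an effective Cartier divisor on X (a
global section of the sheaf of units of K_X modulo units of O_X whose germ at every point is the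
class of a germ of a regular function) such that O_X(D) is isomorphic to L. Then there is a nonzero
global section s of L, given as a nonzero morphism O_X → L, whose zero scheme Z(s) is D: around
every point of X, on some affine open neighbourhood, the ideal of Z(s) is generated by a regular
function whose classes are the germs of D there. (The published statement is for an irreducible
variety over an algebraically closed field; this row states it for an arbitrary integral scheme.) -/
theorem result (X : Scheme.{u}) [AlgebraicGeometry.IsIntegral X]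
    (L : X.Modules) (hL : PicF.IsInvertible L) (D : Mero.Divisor X) (hD : Mero.IsEffective D)
    (e : L ≅ Mero.divMod D) :
    ∃ s : Coh.structureModule X ⟶ L, s ≠ 0 ∧ Mero.IsDivOfIdeal D (PicF2.zeroScheme L s) := by
  open Groth.Agent in
  let one : Γ(Mero.divMod D, (⊤ : X.Opens)) := DivX.mkDiv D (1 : Γ(Mero.kmod X, (⊤ : X.Opens))) fun y => by
    obtain ⟨a, ha⟩ := hD y.1
    refine DivX.divCond_of_rep ha ⟨a.1, ?_⟩
    exact (one_mul _).symm
  let t : Γ(L, (⊤ : X.Opens)) := e.inv.app ⊤ one
  let s : Coh.structureModule X ⟶ L := QCoh.homOfTop t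
  have hsv : ∀ U : X.Opens, ZeroSchX.sv s U = AModX.res L le_top t := fun U => by
    refine Eq.trans ?_ (one_smul Γ(X, U) _)
    exact QCoh.homOfTop_app t (1 : Γ(X, U))
  have key : ∀ x : X, ∃ (U : X.affineOpens) (_ : x ∈ (U : X.Opens)) (c : Γ(X, U.1)) (hc : c ∈ Mero.regSub X U.1)
      (f : Γ(L, U.1)), InvX.IsFrame f ∧ ZeroSchX.sv s U.1 = c • f ∧ ∀ y : (U : X.Opens), D.1 y.1 =
        QuotientGroup.mk (IsLocalization.map_units (Mero.KStalk X y.1) (Mero.regGerm y ⟨c, hc⟩)).unit := by
    intro x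
    obtain ⟨W, hxW, f, hf, hfr⟩ := DivX.exists_gen_frame D x
    obtain ⟨_, ⟨U, hU, rfl⟩, hxU, hUW⟩ :=
      X.isBasis_affineOpens.exists_subset_of_mem_open hxW W.isOpen
    obtain ⟨c, hc⟩ := (hfr U hUW).2 (AModX.res (Mero.divMod D) (le_top : U ≤ ⊤) one)
    have hval : ∀ y : U, algebraMap (X.presheaf.stalk y.1) (Mero.KStalk X y.1) (X.presheaf.germ U y.1 y.2 c) =
        (f : Γ(Mero.kmod X, W)).1 ⟨y.1, hUW y.2⟩ := fun y => by
      have h1 := congrArg (fun k : Γ(Mero.divMod D, U) => k.1 y) hc
      have h2 : algebraMap (X.presheaf.stalk y.1) (Mero.KStalk X y.1) (X.presheaf.germ U y.1 y.2 c) *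
          ((f⁻¹ : (Γ(Mero.kmod X, W))ˣ) : Γ(Mero.kmod X, W)).1 ⟨y.1, hUW y.2⟩ = 1 := by
        refine Eq.trans ?_ h1
        rw [← Algebra.smul_def]; rfl
      calc _ = algebraMap (X.presheaf.stalk y.1) (Mero.KStalk X y.1) (X.presheaf.germ U y.1 y.2 c) *
            (((f⁻¹ : (Γ(Mero.kmod X, W))ˣ) : Γ(Mero.kmod X, W)).1 ⟨y.1, hUW y.2⟩ *
              (f : Γ(Mero.kmod X, W)).1 ⟨y.1, hUW y.2⟩) := by rw [DivX.unit_val_mul, mul_one]
        _ = _ := by rw [← mul_assoc, h2, one_mul]
    have hreg : c ∈ Mero.regSub X U := fun y => mem_nonZeroDivisors_of_ne_zero fun h0 => by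
      have h1 := hval y
      rw [h0, map_zero] at h1
      have h2 := DivX.unit_val_mul f ⟨y.1, hUW y.2⟩
      rw [← h1, mul_zero] at h2
      exact zero_ne_one (Mero.algebraMap_KStalk_injective y.1 (by rw [map_zero, map_one]; exact h2) :
        (0 : X.presheaf.stalk y.1) = 1)
    refine ⟨⟨U, hU⟩, hxU, c, hreg, e.inv.app U (AModX.res _ hUW (DivX.gen f hf)),
      InvX.IsFrame.map_iso e.symm (hfr.res hUW), ?_, fun y => ?_⟩
    · rw [hsv, ← Scheme.Modules.Hom.app_smul]
      exact (AModX.app_res e.inv le_top one).symm.trans (congrArg (e.inv.app U) hc.symm)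
    · rw [hf ⟨y.1, hUW y.2⟩]
      exact congrArg _ (Units.ext ((hval y).symm.trans (IsUnit.unit_spec _).symm))
  refine ⟨s, fun h => ?_, fun x => ?_⟩
  · obtain ⟨x⟩ := (inferInstance : Nonempty X)
    obtain ⟨U, hxU, c, hreg, f, hf, hs, -⟩ := key x
    have h0 : ZeroSchX.sv s U.1 = 0 := by rw [h]; rfl
    have hc : c = 0 := (hf U.1 le_rfl).1 (by
      show c • AModX.res L le_rfl f = (0 : Γ(X, U.1)) • AModX.res L le_rfl f
      rw [AModX.res_self, zero_smul, ← hs, h0])
    subst hc
    exact nonZeroDivisors.ne_zero (hreg ⟨x, hxU⟩) (map_zero _)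
  · obtain ⟨U, hxU, c, hreg, f, hf, hs, hDy⟩ := key x
    refine ⟨U, hxU, c, hreg, ?_, hDy⟩
    rw [ZeroSchX.ideal_zeroScheme hL, ZeroSchX.zeroIdealOn_eq_span s hf hs]

end Groth.Agent.S19458
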