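import Groth.Statements.S19459
import Groth.Agent.ZeroSchX.Basic
import Groth.Agent.InvX.Tensor
import Groth.Agent.DivX.MeroMod

set_option autoImplicit false
universe u
open CategoryTheory CategoryTheory.Limits AlgebraicGeometry TopologicalSpace Opposite
open Mero

namespace Groth.Agent.S19459

/-- Let X be an integral scheme, L₁ and L₂ invertible O_X-modules with nonzero global sections s₁ and s₂
(nonzero morphisms O_X → L₁ and O_X → L₂), and let D₁, D₂ be the effective Cartier divisors of the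
zero schemes Z(s₁), Z(s₂): divisors on X (global sections of the sheaf of units of K_X modulo units
of O_X) which around every point, on some affine open neighbourhood, are the class of a regular
function generating the ideal of the zero scheme. Then the divisor D₁ · D₂ (multiplicative notation
for the sum D₁ + D₂) is in the same sense the effective Cartier divisor of the zero scheme of the
global section s₁ ⊗ s₂ of the tensor product L₁ ⊗ L₂; that is, Z(s₁ ⊗ s₂) = Z(s₁) + Z(s₂). (The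
published statement is for an irreducible variety over an algebraically closed field; this row
states it for an arbitrary integral scheme.) -/
theorem result (X : Scheme.{u}) [AlgebraicGeometry.IsIntegral X]
    (L₁ L₂ : X.Modules) (hL₁ : PicF.IsInvertible L₁) (hL₂ : PicF.IsInvertible L₂)
    (s₁ : Coh.structureModule X ⟶ L₁) (s₂ : Coh.structureModule X ⟶ L₂) (hs₁ : s₁ ≠ 0) (hs₂ : s₂ ≠ 0)
    (D₁ D₂ : Mero.Divisor X) (hD₁ : Mero.IsDivOfIdeal D₁ (PicF2.zeroScheme L₁ s₁))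
    (hD₂ : Mero.IsDivOfIdeal D₂ (PicF2.zeroScheme L₂ s₂)) :
    Mero.IsDivOfIdeal (D₁ * D₂) (PicF2.zeroScheme (CohB1.tensorMod L₁ L₂) (SecTwist.tmulHom s₁ s₂)) := by
  open Groth.Agent in
  intro x
  obtain ⟨U₁, hx₁, c₁, hc₁, hI₁, hy₁⟩ := hD₁ x
  obtain ⟨U₂, hx₂, c₂, hc₂, hI₂, hy₂⟩ := hD₂ x
  obtain ⟨W, hxW, f₁, f₂, hf₁, hf₂⟩ := InvX.exists_frame₂ hL₁ hL₂ x
  obtain ⟨_, ⟨U, hU, rfl⟩, hxU, hUle⟩ := X.isBasis_affineOpens.exists_subset_of_mem_open
    (show x ∈ U₁.1 ⊓ U₂.1 ⊓ W from ⟨⟨hx₁, hx₂⟩, hxW⟩) (U₁.1 ⊓ U₂.1 ⊓ W).isOpen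
  have hle₁ : U ≤ U₁.1 := fun y hy => (hUle hy).1.1
  have hle₂ : U ≤ U₂.1 := fun y hy => (hUle hy).1.2
  have hleW : U ≤ W := fun y hy => (hUle hy).2
  haveI : Nonempty U := ⟨⟨x, hxU⟩⟩
  have key : ∀ (L : X.Modules) (hL : PicF.IsInvertible L) (s : Coh.structureModule X ⟶ L) (D : Mero.Divisor X)
      (V : X.affineOpens) (h : U ≤ V.1) (c : Γ(X, V.1)) (hc : c ∈ Mero.regSub X V.1)
      (f : Γ(L, U)), InvX.IsFrame f → (PicF2.zeroScheme L s).ideal V = Ideal.span {c} →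
      (∀ y : (V : X.Opens), D.1 y.1 =
        QuotientGroup.mk (IsLocalization.map_units (Mero.KStalk X y.1) (Mero.regGerm y ⟨c, hc⟩)).unit) →
      ∃ (a : Γ(X, U)) (ha : a ∈ Mero.regSub X U), ZeroSchX.sv s U = a • f ∧ ∀ y : U, D.1 y.1 =
        QuotientGroup.mk (IsLocalization.map_units (Mero.KStalk X y.1) (Mero.regGerm y ⟨a, ha⟩)).unit := by
    intro L hL s D V h c hc f hf hI hy
    obtain ⟨a, ha⟩ := (hf U le_rfl).2 (ZeroSchX.sv s U)
    simp only [AModX.res_self] at ha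
    have h1 := (PicF2.zeroScheme L s).map_ideal (U := ⟨U, hU⟩) (V := V) h
    rw [hI, ZeroSchX.ideal_zeroScheme hL, ZeroSchX.zeroIdealOn_eq_span s hf ha.symm, Ideal.map_span,
      Set.image_singleton] at h1
    obtain ⟨w, hw⟩ := Ideal.span_singleton_eq_span_singleton.1 h1
    have hcU : (X.presheaf.map (homOfLE h).op).hom c ∈ Mero.regSub X U := Mero.regSub_res (homOfLE h) hc
    have haU : a ∈ Mero.regSub X U := hw ▸ Submonoid.mul_mem _ hcU fun y =>
      (w.isUnit.map (X.presheaf.germ U y.1 y.2).hom).mem_nonZeroDivisors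
    refine ⟨a, haU, ha.symm, fun y => (hy ⟨y.1, h y.2⟩).trans (QuotientGroup.eq.2 ?_)⟩
    refine ⟨w.map (X.presheaf.germ U y.1 y.2).hom.toMonoidHom, Units.ext ?_⟩
    rw [Units.val_mul]
    refine ((Units.inv_mul_eq_iff_eq_mul _).2 ?_).symm
    show algebraMap (X.presheaf.stalk y.1) (Mero.KStalk X y.1) (X.presheaf.germ U y.1 y.2 a) =
      algebraMap (X.presheaf.stalk y.1) (Mero.KStalk X y.1) (X.presheaf.germ V.1 y.1 (h y.2) c) *
        algebraMap (X.presheaf.stalk y.1) (Mero.KStalk X y.1) (X.presheaf.germ U y.1 y.2 (w : Γ(X, U)))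
    rw [← map_mul, ← TopCat.Presheaf.germ_res_apply X.presheaf (homOfLE h) y.1 y.2 c]
    refine congrArg _ ((congrArg _ hw.symm).trans (map_mul _ _ _))
  obtain ⟨a₁, ha₁, hs₁', hd₁⟩ := key L₁ hL₁ s₁ D₁ U₁ hle₁ c₁ hc₁ _ (hf₁.res hleW) hI₁ hy₁
  obtain ⟨a₂, ha₂, hs₂', hd₂⟩ := key L₂ hL₂ s₂ D₂ U₂ hle₂ c₂ hc₂ _ (hf₂.res hleW) hI₂ hy₂
  refine ⟨⟨U, hU⟩, hxU, a₁ * a₂, Submonoid.mul_mem _ ha₁ ha₂, ?_, fun y => ?_⟩
  · rw [ZeroSchX.ideal_zeroScheme (InvX.isInvertible_tensorMod hL₁ hL₂),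
      ZeroSchX.zeroIdealOn_eq_span _ (InvX.isFrame_tmul (hf₁.res hleW) (hf₂.res hleW))]
    refine (SecTwist.val_tmulHom s₁ s₂ U).trans ?_
    refine (congrArg₂ (SecTwist.tmul L₁ L₂ U) hs₁' hs₂').trans ?_
    rw [mul_smul]
    exact (InvX.tmul_smul_left a₁ _ _).trans (congrArg _ (InvX.tmul_smul_right a₂ _ _))
  · show D₁.1 y.1 * D₂.1 y.1 = _
    rw [hd₁ y, hd₂ y, ← QuotientGroup.mk_mul]
    refine congrArg _ (Units.ext ?_)
    rw [Units.val_mul, IsUnit.unit_spec, IsUnit.unit_spec, IsUnit.unit_spec, ← map_mul]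
    exact congrArg _ (map_mul _ a₁ a₂).symm

end Groth.Agent.S19459
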