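import Groth.Statements.S19461
import Groth.Agent.RigPt7.Base

set_option autoImplicit false
universe u
open CAlg

namespace Groth.Agent.S19461

/-- The implication from isomorphic completions to flat and unramified. Let A → B be a local
homomorphism of Noetherian local rings and ψ a ring map from the completion of A at its maximal
ideal to that of B whose composite with A → A^ is A → B → B^. If ψ is bijective, then A → B is flat
and the maximal ideal of A generates the maximal ideal of B. (The published statement is the
implication, for a morphism of algebraic varieties over an algebraically closed field, from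
isomorphic induced maps of completed local rings at every point to flat and unramified; its proof is
this local-ring argument, valid for any Noetherian local rings. The converse implication is a
separate result.) -/
theorem result (A B : Type u) [CommRing A]
    [CommRing B] [IsLocalRing A] [IsLocalRing B] [IsNoetherianRing A] [IsNoetherianRing B]
    [Algebra A B] [IsLocalHom (algebraMap A B)]
    (ψ : AdicCompletion (IsLocalRing.maximalIdeal A) A →+* AdicCompletion (IsLocalRing.maximalIdeal B) B)
    (hψ : ψ.comp (algebraMap A (AdicCompletion (IsLocalRing.maximalIdeal A) A)) =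
      (algebraMap B (AdicCompletion (IsLocalRing.maximalIdeal B) B)).comp (algebraMap A B))
    (hbij : Function.Bijective ψ) :
    Module.Flat A B ∧
      Ideal.map (algebraMap A B) (IsLocalRing.maximalIdeal A) = IsLocalRing.maximalIdeal B := by
  let Ah := AdicCompletion (IsLocalRing.maximalIdeal A) A
  let Bh := AdicCompletion (IsLocalRing.maximalIdeal B) B
  letI : Algebra Ah Bh := ψ.toAlgebra
  haveI : IsScalarTower A Ah Bh := IsScalarTower.of_algebraMap_eq fun a => by
    rw [IsScalarTower.algebraMap_apply A B Bh]
    exact (RingHom.congr_fun hψ a).symm
  haveI : Module.Flat Ah Bh := Module.Flat.of_linearEquiv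
    (LinearEquiv.ofBijective (Algebra.linearMap Ah Bh) hbij).symm
  haveI : Module.Flat A Bh := Module.Flat.trans A Ah Bh
  haveI : Module.FaithfullyFlat B Bh := Module.FaithfullyFlat.of_flat_of_isLocalHom
  refine ⟨RigPt7.flat_of_faithfullyFlat A B Bh, ?_⟩
  refine ((Ideal.comap_map_eq_self_of_faithfullyFlat (B := Bh) _).symm.trans (congrArg _ ?_)).trans
    (Ideal.comap_map_eq_self_of_faithfullyFlat (B := Bh) (IsLocalRing.maximalIdeal B))
  rw [Ideal.map_map, ← IsScalarTower.algebraMap_eq, IsScalarTower.algebraMap_eq A Ah Bh, ← Ideal.map_map,
    ← AdicCompletion.maximalIdeal_eq_map, ← AdicCompletion.maximalIdeal_eq_map]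
  exact IsLocalRing.map_maximalIdeal_of_surjective _ hbij.2

end Groth.Agent.S19461
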