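import Groth.Statements.S19462
import Mathlib

set_option autoImplicit false
universe u
open GrNak

namespace Groth.Agent.S19462
open DirectSum

section
variable {R : Type u} [CommRing R] {σ : Type u} [SetLike σ R] [AddSubmonoidClass σ R] (𝒜 : ℤ → σ) [GradedRing 𝒜]
  {M : Type u} [AddCommGroup M] [Module R M]
  {τ : Type u} [SetLike τ M] [AddSubmonoidClass τ M] (ℳ : ℤ → τ) [DirectSum.Decomposition ℳ]
  [SetLike.GradedSMul 𝒜 ℳ]

/-- The irrelevant ideal. -/
def irr : Ideal R := Ideal.span {p : R | ∃ i : ℤ, 0 < i ∧ p ∈ 𝒜 i}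

theorem smul_mem_irr_sum (hneg : ∀ i : ℤ, i < 0 → ∀ x ∈ 𝒜 i, x = 0) {p : R} (hp : p ∈ irr 𝒜) :
    p ∈ AddSubmonoid.closure {p : R | ∃ i : ℤ, 0 < i ∧ p ∈ 𝒜 i} := by
  classical
  induction hp using Submodule.span_induction with
  | mem p hp => exact AddSubmonoid.subset_closure hp
  | zero => exact zero_mem _
  | add p q _ _ hp hq => exact add_mem hp hq
  | smul r p hp' hp =>
    clear hp'
    rw [smul_eq_mul]
    induction hp using AddSubmonoid.closure_induction with
    | mem p hp =>
      obtain ⟨i, hi, hp⟩ := hp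
      rw [← DirectSum.sum_support_decompose 𝒜 r, Finset.sum_mul]
      refine sum_mem fun j _ => ?_
      rcases lt_or_ge j 0 with hj | hj
      · rw [hneg j hj _ (decompose 𝒜 r j).2, zero_mul]
        exact zero_mem _
      · exact AddSubmonoid.subset_closure ⟨j + i, by omega, SetLike.mul_mem_graded (decompose 𝒜 r j).2 hp⟩
    | zero => rw [mul_zero]; exact zero_mem _
    | add p q _ _ hp hq => rw [mul_add]; exact add_mem hp hq

theorem component_irr_smul (hneg : ∀ i : ℤ, i < 0 → ∀ x ∈ 𝒜 i, x = 0) {p : R} (hp : p ∈ irr 𝒜) {d : ℤ} {x : M}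
    (hx : x ∈ ℳ d) : (decompose ℳ (p • x) d : M) = 0 := by
  classical
  have hp' := smul_mem_irr_sum 𝒜 hneg hp
  clear hp
  induction hp' using AddSubmonoid.closure_induction with
  | mem p hp =>
    obtain ⟨i, hi, hp⟩ := hp
    exact DirectSum.decompose_of_mem_ne ℳ (SetLike.GradedSMul.smul_mem hp hx) (by simp only [vadd_eq_add]; omega)
  | zero => simp
  | add p q _ _ ihp ihq =>
    rw [add_smul, decompose_add, DirectSum.add_apply, AddMemClass.coe_add, ihp, ihq, add_zero]

theorem eq_zero_of_smul (hneg : ∀ i : ℤ, i < 0 → ∀ x ∈ 𝒜 i, x = 0) {r c : R} (hr : r - 1 ∈ irr 𝒜)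
    (h : r * c = 0) : c = 0 := by
  classical
  by_contra hc
  have hne : (decompose 𝒜 c).support.Nonempty := by
    rw [Finset.nonempty_iff_ne_empty]
    intro h0
    refine hc ?_
    rw [← DirectSum.sum_support_decompose 𝒜 c, h0, Finset.sum_empty]
  let d := (decompose 𝒜 c).support.min' hne
  have hd : d ∈ (decompose 𝒜 c).support := Finset.min'_mem _ hne
  have hmin : ∀ e ∈ (decompose 𝒜 c).support, d ≤ e := fun e he => Finset.min'_le _ e he
  have h1 : c + (r - 1) * c = 0 := by rw [sub_mul, one_mul, h]; abel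
  have h3 : (decompose 𝒜 ((r - 1) * c) d : R) = 0 := by
    have hp' := smul_mem_irr_sum 𝒜 hneg hr
    generalize r - 1 = p at hp' ⊢
    induction hp' using AddSubmonoid.closure_induction with
    | mem p hp =>
      obtain ⟨i, hi, hp⟩ := hp
      rw [← DirectSum.sum_support_decompose 𝒜 c, Finset.mul_sum, decompose_sum, DFinsupp.finsetSum_apply,
        AddSubmonoidClass.coe_finsetSum]
      refine Finset.sum_eq_zero fun e he => ?_
      refine DirectSum.decompose_of_mem_ne 𝒜 (SetLike.mul_mem_graded hp (decompose 𝒜 c e).2) ?_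
      have := hmin e he
      omega
    | zero => simp
    | add p q _ _ hp hq => rw [add_mul, decompose_add, DirectSum.add_apply, AddMemClass.coe_add, hp, hq, add_zero]
  have h2 := congrArg (fun x => (decompose 𝒜 x d : R)) h1
  simp only [decompose_add, DirectSum.add_apply, AddMemClass.coe_add, h3, add_zero, decompose_zero,
    DirectSum.zero_apply, ZeroMemClass.coe_zero] at h2
  exact DFinsupp.mem_support_iff.1 hd (Subtype.ext h2)

include 𝒜 in
/-- A submodule spanned by homogeneous elements contains the components of its elements. -/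
theorem component_mem {G : Set M} (hG : ∀ g ∈ G, SetLike.IsHomogeneousElem ℳ g) {y : M}
    (hy : y ∈ Submodule.span R G) (d : ℤ) : (decompose ℳ y d : M) ∈ Submodule.span R G := by
  classical
  rw [Submodule.mem_span_set'] at hy
  obtain ⟨n, f, g, rfl⟩ := hy
  rw [decompose_sum, DFinsupp.finsetSum_apply, AddSubmonoidClass.coe_finsetSum]
  refine sum_mem fun k _ => ?_
  obtain ⟨e, he⟩ := hG _ (g k).2
  rw [← DirectSum.sum_support_decompose 𝒜 (f k), Finset.sum_smul, decompose_sum, DFinsupp.finsetSum_apply,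
    AddSubmonoidClass.coe_finsetSum]
  refine sum_mem fun i _ => ?_
  have hmem : (decompose 𝒜 (f k) i : R) • (g k : M) ∈ ℳ (i + e) :=
    SetLike.GradedSMul.smul_mem (decompose 𝒜 (f k) i).2 he
  by_cases hid : i + e = d
  · rw [DirectSum.decompose_of_mem_same ℳ (hid ▸ hmem)]
    exact Submodule.smul_mem _ _ (Submodule.subset_span (g k).2)
  · rw [DirectSum.decompose_of_mem_ne ℳ hmem hid]
    exact zero_mem _

include 𝒜 in
theorem nakayama (hneg : ∀ i : ℤ, i < 0 → ∀ x ∈ 𝒜 i, x = 0) [Module.Finite R M] {G : Set M}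
    (hG : ∀ g ∈ G, SetLike.IsHomogeneousElem ℳ g)
    (h : ∀ x : M, x ∈ Submodule.span R G ⊔ irr 𝒜 • ⊤) : Submodule.span R G = ⊤ := by
  classical
  let N := Submodule.span R G
  have hle : (⊤ : Submodule R (M ⧸ N)) ≤ irr 𝒜 • (⊤ : Submodule R (M ⧸ N)) := by
    rintro z -
    obtain ⟨x, rfl⟩ := Submodule.Quotient.mk_surjective N z
    obtain ⟨a, ha, b, hb, rfl⟩ := Submodule.mem_sup.1 (h x)
    rw [Submodule.Quotient.mk_add, (Submodule.Quotient.mk_eq_zero N).2 ha, zero_add]
    have := Submodule.mem_map_of_mem (f := N.mkQ) hb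
    rw [Submodule.map_smul'', Submodule.map_top, Submodule.range_mkQ] at this
    exact this
  obtain ⟨r, hr, hr0⟩ := Submodule.exists_sub_one_mem_and_smul_eq_zero_of_fg_of_le_smul (irr 𝒜)
    (⊤ : Submodule R (M ⧸ N)) Module.Finite.fg_top hle
  refine top_le_iff.1 fun x _ => ?_
  rw [← DirectSum.sum_support_decompose ℳ x]
  refine sum_mem fun d _ => ?_
  let y : M := (decompose ℳ x d : M)
  have hy : y ∈ ℳ d := (decompose ℳ x d).2
  have h1 : r • y ∈ N := by
    rw [← Submodule.Quotient.mk_eq_zero N, Submodule.Quotient.mk_smul]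
    exact hr0 _ Submodule.mem_top
  have h2 := component_mem 𝒜 ℳ hG h1 d
  have h3 : r • y = y + (r - 1) • y := by rw [sub_smul, one_smul]; abel
  rw [h3, decompose_add, DirectSum.add_apply, AddMemClass.coe_add, DirectSum.decompose_of_mem_same ℳ hy,
    component_irr_smul 𝒜 ℳ hneg hr hy, add_zero] at h2
  exact h2

end



/-- Let k be a field and R a commutative ℤ-graded k-algebra whose pieces of negative degree vanish and
whose degree-zero piece is the image of k, and let M be a finitely generated ℤ-graded R-module,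
graded compatibly with R. Then M is a projective R-module if and only if M has an R-basis consisting
of homogeneous elements, i.e. M is a free graded module. (The published statement takes R a graded
quotient of a polynomial ring k[x_0, …, x_n] with its standard grading; stated here for any
commutative graded k-algebra concentrated in non-negative degrees with degree-zero part k, to which
the same graded-Nakayama argument applies.) -/
theorem result {k : Type u} [Field k] {R : Type u} [CommRing R] [Algebra k R]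
    {σ : Type u} [SetLike σ R] [AddSubmonoidClass σ R] (𝒜 : ℤ → σ) [GradedRing 𝒜]
    (hneg : ∀ i : ℤ, i < 0 → ∀ x ∈ 𝒜 i, x = 0)
    (hk : ∀ c : k, algebraMap k R c ∈ 𝒜 0) (h0 : ∀ x ∈ 𝒜 0, ∃ c : k, algebraMap k R c = x)
    {M : Type u} [AddCommGroup M] [Module R M] [Module.Finite R M]
    {τ : Type u} [SetLike τ M] [AddSubmonoidClass τ M] (ℳ : ℤ → τ) [DirectSum.Decomposition ℳ]
    [SetLike.GradedSMul 𝒜 ℳ] :
    Module.Projective R M ↔
      ∃ (ι : Type u) (b : Module.Basis ι R M), ∀ i : ι, SetLike.IsHomogeneousElem ℳ (b i) := by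
  classical
  refine ⟨fun hP => ?_, fun ⟨ι, b, _⟩ => Module.Projective.of_basis b⟩
  obtain ⟨T, hT⟩ := (Module.Finite.fg_top : (⊤ : Submodule R M).FG)
  have hex : ∃ n, ∃ G : Finset M, G.card = n ∧ (∀ g ∈ G, SetLike.IsHomogeneousElem ℳ g) ∧
      Submodule.span R (G : Set M) = ⊤ := by
    refine ⟨_, T.biUnion (fun x => (decompose ℳ x).support.image fun d => (decompose ℳ x d : M)), rfl, ?_, ?_⟩
    · intro g hg
      obtain ⟨x, _, hg⟩ := Finset.mem_biUnion.1 hg
      obtain ⟨d, _, rfl⟩ := Finset.mem_image.1 hg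
      exact ⟨d, (decompose ℳ x d).2⟩
    · rw [eq_top_iff, ← hT, Submodule.span_le]
      intro x hx
      rw [← DirectSum.sum_support_decompose ℳ x]
      exact sum_mem fun d hd => Submodule.subset_span (Finset.mem_coe.2
        (Finset.mem_biUnion.2 ⟨x, hx, Finset.mem_image.2 ⟨d, hd, rfl⟩⟩))
  obtain ⟨G, hcard, hhom, hspan⟩ := Nat.find_spec hex
  let ι := {g : M // g ∈ G}
  let φ : (ι → R) →ₗ[R] M := Fintype.linearCombination R (fun i : ι => (i : M))
  have hφ : Function.Surjective φ := by
    rw [← LinearMap.range_eq_top, Fintype.range_linearCombination, ← hspan]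
    congr 1
    ext z
    simp [ι]
  have key : ∀ v : ι → R, φ v ∈ irr 𝒜 • (⊤ : Submodule R M) → ∀ i, v i ∈ irr 𝒜 := by
    intro v hv j
    by_contra hj
    have hdec : ∃ c : k, v j - algebraMap k R c ∈ irr 𝒜 := by
      obtain ⟨c, hc⟩ := h0 _ (decompose 𝒜 (v j) 0).2
      refine ⟨c, ?_⟩
      have hsum := DirectSum.sum_support_decompose 𝒜 (v j)
      rw [hc]
      suffices (∑ i ∈ (decompose 𝒜 (v j)).support, (decompose 𝒜 (v j) i : R)) - (decompose 𝒜 (v j) 0 : R) ∈ irr 𝒜 by
        rwa [hsum] at this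
      by_cases h00 : (0 : ℤ) ∈ (decompose 𝒜 (v j)).support
      · rw [← Finset.add_sum_erase _ _ h00, add_sub_cancel_left]
        refine sum_mem fun i hi => ?_
        obtain ⟨hi0, -⟩ := Finset.mem_erase.1 hi
        rcases lt_or_gt_of_ne hi0 with h | h
        · rw [hneg i h _ (decompose 𝒜 (v j) i).2]; exact zero_mem _
        · exact Ideal.subset_span ⟨i, h, (decompose 𝒜 (v j) i).2⟩
      · rw [DFinsupp.notMem_support_iff.1 h00, ZeroMemClass.coe_zero, sub_zero]
        refine sum_mem fun i hi => ?_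
        have hi0 : i ≠ 0 := fun h => h00 (h ▸ hi)
        rcases lt_or_gt_of_ne hi0 with h | h
        · rw [hneg i h _ (decompose 𝒜 (v j) i).2]; exact zero_mem _
        · exact Ideal.subset_span ⟨i, h, (decompose 𝒜 (v j) i).2⟩
    obtain ⟨c, hc⟩ := hdec
    have hc0 : c ≠ 0 := fun h => hj (by rwa [h, map_zero, sub_zero] at hc)
    have hu : IsUnit (algebraMap k R c) := (Ne.isUnit hc0).map _
    let G' := G.erase (j : M)
    have hj' : (j : M) ∈ Submodule.span R (G' : Set M) ⊔ irr 𝒜 • ⊤ := by
      refine (Submodule.smul_mem_iff_of_isUnit _ hu).1 ?_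
      have h1 : φ v = ∑ i : ι, v i • (i : M) := Fintype.linearCombination_apply R _ v
      rw [← Finset.add_sum_erase _ _ (Finset.mem_univ j)] at h1
      have h2 : algebraMap k R c • (j : M) =
          φ v - (v j - algebraMap k R c) • (j : M) - ∑ i ∈ Finset.univ.erase j, v i • (i : M) := by
        rw [h1, sub_smul]; abel
      rw [h2]
      refine sub_mem (Submodule.mem_sup_right (sub_mem hv (Submodule.smul_mem_smul hc Submodule.mem_top)))
        (Submodule.mem_sup_left (sum_mem fun i hi => Submodule.smul_mem _ _ (Submodule.subset_span ?_)))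
      exact Finset.mem_coe.2 (Finset.mem_erase.2 ⟨fun h => (Finset.mem_erase.1 hi).1 (Subtype.ext h), i.2⟩)
    have htop : Submodule.span R (G' : Set M) = ⊤ := by
      refine nakayama 𝒜 ℳ hneg (fun g hg => hhom g (Finset.mem_of_mem_erase (Finset.mem_coe.1 hg))) fun x => ?_
      have hx : x ∈ Submodule.span R (G : Set M) := hspan ▸ Submodule.mem_top
      refine Submodule.span_le.2 ?_ hx
      intro g hg
      by_cases hgj : g = (j : M)
      · rw [hgj]; exact hj'
      · exact Submodule.mem_sup_left (Submodule.subset_span (Finset.mem_coe.2 (Finset.mem_erase.2 ⟨hgj, hg⟩)))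
    have hlt : G'.card < Nat.find hex := hcard ▸ Finset.card_erase_lt_of_mem j.2
    exact Nat.find_min hex hlt ⟨G', rfl, fun g hg => hhom g (Finset.mem_of_mem_erase hg), htop⟩
  obtain ⟨s, hs⟩ := Module.projective_lifting_property φ LinearMap.id hφ
  have hs' : ∀ y, φ (s y) = y := fun y => LinearMap.congr_fun hs y
  let e : (ι → R) →ₗ[R] (ι → R) := LinearMap.id - s.comp φ
  let K := LinearMap.range e
  have hKφ : ∀ v ∈ K, φ v = 0 := by
    rintro _ ⟨w, rfl⟩
    simp [e, hs']
  have hKsmul : K ≤ irr 𝒜 • K := by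
    intro v hv
    have h1 := key v (by rw [hKφ v hv]; exact zero_mem _)
    have h2 : v ∈ irr 𝒜 • (⊤ : Submodule R (ι → R)) := by
      rw [pi_eq_sum_univ' v]
      exact sum_mem fun i _ => Submodule.smul_mem_smul (h1 i) Submodule.mem_top
    have h3 := Submodule.mem_map_of_mem (f := e) h2
    rw [Submodule.map_smul'', Submodule.map_top] at h3
    have h4 : e v = v := by simp [e, hKφ v hv]
    rwa [h4] at h3
  have hKfg : K.FG := by
    change (LinearMap.range e).FG
    rw [← Submodule.map_top]
    exact Submodule.FG.map _ Module.Finite.fg_top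
  obtain ⟨r, hr, hr0⟩ := Submodule.exists_sub_one_mem_and_smul_eq_zero_of_fg_of_le_smul (irr 𝒜) K hKfg hKsmul
  have hinj : Function.Injective φ := by
    rw [injective_iff_map_eq_zero]
    intro v hv
    have hvK : v ∈ K := ⟨v, by simp [e, hv]⟩
    funext i
    exact eq_zero_of_smul 𝒜 hneg hr (congrFun (hr0 v hvK) i)
  let b : Module.Basis ι R M := (Pi.basisFun R ι).map (LinearEquiv.ofBijective φ ⟨hinj, hφ⟩)
  refine ⟨ι, b, fun i => ?_⟩
  have : b i = (i : M) := by simp [b, φ]
  rw [this]
  exact hhom _ i.2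


end Groth.Agent.S19462
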