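import Groth.Statements.S19463
import Groth.Agent.CurveCover.SmoothCompletion

set_option autoImplicit false
universe u
open CategoryTheory CategoryTheory.Limits AlgebraicGeometry
open Curves

namespace Groth.Agent.S19463

/-- Let k be an algebraically closed field and X a smooth curve over k (integral, separated, of finite
type and smooth over k, of dimension one). Then there are a smooth projective curve Y over k
(integral, smooth over k, of dimension one, admitting a closed immersion over k into some P^n_k) and
an open immersion X → Y over k. -/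
theorem result (k : Type u) [Field k] [IsAlgClosed k]
    (X : Scheme.{u}) [X.Over (Spec (CommRingCat.of k))] [IsIntegral X] [IsSeparated (X ↘ (Spec (CommRingCat.of k)))]
    [LocallyOfFiniteType (X ↘ (Spec (CommRingCat.of k)))] [QuasiCompact (X ↘ (Spec (CommRingCat.of k)))] [Smooth (X ↘ (Spec (CommRingCat.of k)))]
    (hdimX : topologicalKrullDim X = 1) :
    ∃ (Y : Scheme.{u}) (_ : Y.Over (Spec (CommRingCat.of k))) (j : X ⟶ Y), IsOpenImmersion j ∧
      j ≫ (Y ↘ (Spec (CommRingCat.of k))) = X ↘ (Spec (CommRingCat.of k)) ∧ IsIntegral Y ∧ Smooth (Y ↘ (Spec (CommRingCat.of k))) ∧ topologicalKrullDim Y = 1 ∧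
      ∃ (n : ℕ) (i : Y ⟶ CohB1.ProjSpace n k), IsClosedImmersion i ∧ i ≫ CohB1.ProjSpace.toSpec n k = Y ↘ (Spec (CommRingCat.of k)) := by
  exact Groth.Agent.CurveCover.SmoothCompletion.exists_completion k X hdimX

end Groth.Agent.S19463
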