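import Groth.Statements.S19464
import Groth.Agent.SurfSeq.Main
import Groth.Agent.R1Push.Support
import Groth.Agent.Sol.Regular
import Groth.Agent.Lib.SurfHodge
import Groth.Agent.H26.BiratFibre
import Groth.Agent.SchTop.Closed

set_option autoImplicit false
set_option backward.isDefEq.respectTransparency false
set_option backward.isDefEq.respectTransparency.types false
set_option linter.style.haveILetI false
set_option linter.unusedSectionVars false
set_option maxHeartbeats 800000
universe u
open CategoryTheory CategoryTheory.Limits AlgebraicGeometry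
open Surf

namespace Groth.Agent.S19464

open Groth.Agent Groth.Agent.H23
attribute [local instance] PicMul.clMonoid

/-- Let k be an algebraically closed field, X and Y smooth surfaces over k (integral, separated, of
finite type and smooth over k, of dimension two), f : X → Y a proper k-morphism which is an
isomorphism over some nonempty open subset of Y (birational), and y a closed point of Y over no open
neighbourhood of which f is an isomorphism (y is not in the domain of the inverse rational map).
Then f factors through the blow-up of Y at y: for every π : Y' → Y having the universal property of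
the blowing up of Y in the ideal of the reduced closed point y, there is g : X → Y' with g ≫ π = f. -/
theorem result (k : Type u) [Field k] [IsAlgClosed k]
    (X Y : Scheme.{u}) [X.Over (Spec (CommRingCat.of k))] [Y.Over (Spec (CommRingCat.of k))]
    [IsIntegral X] [IsSeparated (X ↘ (Spec (CommRingCat.of k)))] [LocallyOfFiniteType (X ↘ (Spec (CommRingCat.of k)))]
    [QuasiCompact (X ↘ (Spec (CommRingCat.of k)))] [Smooth (X ↘ (Spec (CommRingCat.of k)))] (hdimX : topologicalKrullDim X = 2)
    [IsIntegral Y] [IsSeparated (Y ↘ (Spec (CommRingCat.of k)))] [LocallyOfFiniteType (Y ↘ (Spec (CommRingCat.of k)))]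
    [QuasiCompact (Y ↘ (Spec (CommRingCat.of k)))] [Smooth (Y ↘ (Spec (CommRingCat.of k)))] (hdimY : topologicalKrullDim Y = 2)
    (f : X ⟶ Y) (hf : f ≫ (Y ↘ (Spec (CommRingCat.of k))) = X ↘ (Spec (CommRingCat.of k))) [IsProper f]
    (hbir : ∃ U : Y.Opens, (U : Set Y).Nonempty ∧ IsIso (f ∣_ U))
    (y : Y) (hy : IsClosed ({y} : Set Y)) (hP : ∀ V : Y.Opens, y ∈ V → ¬ IsIso (f ∣_ V))
    (Y' : Scheme.{u}) (π : Y' ⟶ Y) (hπ : BlowUp.IsBlowUp π (Scheme.IdealSheafData.vanishingIdeal ⟨{y}, hy⟩)) :
    ∃ g : X ⟶ Y', g ≫ π = f := by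
  haveI : IsLocallyNoetherian X := LocallyOfFiniteType.isLocallyNoetherian (X ↘ Spec (CommRingCat.of k))
  haveI : IsLocallyNoetherian Y := LocallyOfFiniteType.isLocallyNoetherian (Y ↘ Spec (CommRingCat.of k))
  haveI : CompactSpace X := QuasiCompact.compactSpace_of_compactSpace (X ↘ Spec (CommRingCat.of k))
  haveI : CompactSpace Y := QuasiCompact.compactSpace_of_compactSpace (Y ↘ Spec (CommRingCat.of k))
  haveI : IsNoetherian X := {}
  haveI : IsNoetherian Y := {}
  obtain ⟨V, hV, hiso⟩ := hbir
  haveI := hiso
  have hgen := H26.BiratFibre.apply_genericPoint_eq f hV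
  have hxV : genericPoint X ∈ f ⁻¹ᵁ V := by
    show f (genericPoint X) ∈ V
    rw [hgen]
    exact ((genericPoint_spec Y).mem_open_set_iff V.2).2 (by simpa using hV)
  have hb : IsIso (f.stalkMap (genericPoint X)) :=
    (MorphismProperty.isomorphisms CommRingCat).arrow_mk_iso_iff
      (morphismRestrictStalkMap f V ⟨genericPoint X, hxV⟩) |>.1 (inferInstanceAs (IsIso _))
  have hX : ∀ x : X, IsRegularLocalRing (X.presheaf.stalk x) := SurfHodge.regular k
  have hY : ∀ z : Y, IsRegularLocalRing (Y.presheaf.stalk z) := SurfHodge.regular k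
  have hcl : IsClosed {w : X | ¬ IsIso (f.stalkMap w)} := by
    rw [← isOpen_compl_iff, isOpen_iff_forall_mem_open]
    intro w hw
    obtain ⟨W, hwW, hOI⟩ := PurBir.exists_isOpenImmersion_of_isIso_stalkMap f (not_not.1 hw)
    haveI := hOI
    exact ⟨W, fun y hy h => h (PurBir.isIso_stalkMap_of_mem f (W := W) hy), W.isOpen, hwW⟩
  obtain ⟨x, hx, hxy⟩ : y ∈ f '' {w : X | ¬ IsIso (f.stalkMap w)} := by
    by_contra h
    let U : Y.Opens := ⟨(f '' {w : X | ¬ IsIso (f.stalkMap w)})ᶜ, (f.isClosedMap _ hcl).isOpen_compl⟩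
    exact hP U h (Sol.isIso_restrict_of_stalk f hb U ⟨y, h⟩ fun w hw => not_not.1 fun hn => hw ⟨w, hn, rfl⟩)
  subst hxy
  obtain ⟨g, hg, -⟩ := hπ.2 X f (SurfSeq.isEffCartier_pt f hb hX
    (fun z => (SchTop.ringKrullDim_stalk_le z).trans hdimX.le) hY
    (fun z => (SchTop.ringKrullDim_stalk_le z).trans hdimY.le) hx hy)
  exact ⟨g, hg⟩

end Groth.Agent.S19464
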