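import Groth.Statements.S19465
import Groth.Agent.GrpSchLib.Shear
import Groth.Agent.GrpSchLib.UnramifiedFibre
-- import your own Groth.Agent.* helpers here

set_option autoImplicit false
universe u
open CategoryTheory CategoryTheory.Limits MonoidalCategory CartesianMonoidalCategory MonObj GrpObj AlgebraicGeometry
open AlgGrp

namespace Groth.Agent.S19465

/-- Let S be a scheme and G an S-group scheme whose structure morphism G → S is locally of finite type.
Then G → S is an isomorphism (G is the trivial group scheme over S) if and only if every fibre G_s →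
Spec κ(s), s ∈ S, is an isomorphism. -/
theorem result (S : Scheme.{u}) (G : Over S)
    [GrpObj G] [LocallyOfFiniteType G.hom] :
    IsIso G.hom ↔ ∀ s : S, IsIso (G.hom.fiberToSpecResidueField s) := by
  refine ⟨fun h s => MorphismProperty.pullback_snd (P := MorphismProperty.isomorphisms Scheme) _ _ h,
    fun h => ?_⟩
  have : FormallyUnramified G.hom :=
    Groth.Agent.GrpSchLib.formallyUnramified_of_fibres G.hom fun s => by
      have := h s
      infer_instance
  have : IsOpenImmersion η[G].left :=
    (Groth.Agent.GrpSchLib.diagonal_iff_unit @IsOpenImmersion).mp inferInstance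
  have : Surjective η[G].left := by
    refine ⟨fun x => ⟨G.hom x, ?_⟩⟩
    have hs : (G.hom ⁻¹' {G.hom x}).Subsingleton := by
      have := h (G.hom x)
      have : Subsingleton ↥(G.hom.fiber (G.hom x)) :=
        (asIso (G.hom.fiberToSpecResidueField (G.hom x))).hom.homeomorph.subsingleton
      rw [← Scheme.Hom.range_fiberι, ← Set.image_univ]
      exact Set.subsingleton_univ.image _
    refine hs ?_ rfl
    show G.hom (η[G].left (G.hom x)) = G.hom x
    rw [← Scheme.Hom.comp_apply, Over.w η[G]]
    rfl
  have : IsIso η[G].left := (isIso_iff_isOpenImmersion_and_surjective η[G].left).mpr ⟨inferInstance, inferInstance⟩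
  have : IsIso (η[G].left ≫ G.hom) := by
    rw [Over.w η[G]]
    exact inferInstanceAs (IsIso (𝟙 S))
  exact IsIso.of_isIso_comp_left η[G].left G.hom

end Groth.Agent.S19465
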