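import Groth.Statements.S19467
import Groth.Agent.AGF20Lib.UnipComplement
import Groth.Agent.UniPart.Centre
import Groth.Agent.GrpSchLib.MultTypeExtension
import Groth.Agent.ComodLib.StableClosed
import Groth.Agent.AGFLib.QuotProper
-- import your own Groth.Agent.* helpers here

set_option autoImplicit false
set_option maxHeartbeats 3200000
set_option synthInstance.maxHeartbeats 400000
set_option backward.isDefEq.respectTransparency false
set_option backward.isDefEq.respectTransparency.types false
set_option linter.style.haveILetI false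
set_option backward.isDefEq.respectTransparency.types false
set_option maxHeartbeats 1000000
universe u
open CategoryTheory MonoidalCategory CartesianMonoidalCategory MonObj GrpObj AlgebraicGeometry CategoryTheory.Limits
open AlgGrp

namespace Groth.Agent.S19467

theorem exists_iso_multPart {k : Type u} [Field k] {G M : Over (Spec (CommRingCat.of k))} [GrpObj G] [GrpObj M]
    {A : Type u} [CommRing A] [HopfAlgebra k A] [Coalgebra.IsCocomm k A] [Algebra.FiniteType k A]
    (e : Grp.mk (GrpSchLib.AffineHopf.sp k A) ≅ Grp.mk G)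
    (j : M ⟶ G) [IsMonHom j] [IsClosedImmersion j.left] (hM : SGA3x.IsMultTypeFT M)
    (hMmax : ∀ (M' : Over (Spec (CommRingCat.of k))) [GrpObj M'] (j' : M' ⟶ G) [IsMonHom j']
      [IsClosedImmersion j'.left], SGA3x.IsMultTypeFT M' → ∃ g : M' ⟶ M, g ≫ j = j') :
    ∃ α : GrpSchLib.AffineHopf.sp k (A ⧸ UniPart.multIdeal k A) ≅ M, IsMonHom α.hom ∧
      α.hom ≫ j = GrpSchLib.AffineHopf.spMap (Ideal.Quotient.mkₐ k (UniPart.multIdeal k A)) ≫ e.hom.hom.hom := by
  haveI : IsMonHom e.hom.hom.hom := e.hom.hom.isMonHom_hom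
  haveI : IsMonHom e.inv.hom.hom := e.inv.hom.isMonHom_hom
  haveI : IsMonHom (GrpSchLib.AffineHopf.spMap (Ideal.Quotient.mkₐ k (UniPart.multIdeal k A))) :=
    GrpSchLib.AffineHopf.isMonHom_spMap (Bialgebra.Quotient.mkBialgHom (R := k) (UniPart.multIdeal k A))
  let j' := GrpSchLib.AffineHopf.spMap (Ideal.Quotient.mkₐ k (UniPart.multIdeal k A)) ≫ e.hom.hom.hom
  haveI : IsClosedImmersion (GrpSchLib.AffineHopf.spMap (Ideal.Quotient.mkₐ k (UniPart.multIdeal k A))).left :=
    IsClosedImmersion.spec_of_surjective _ Ideal.Quotient.mk_surjective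
  haveI : IsIso e.hom.hom.hom.left :=
    ⟨e.inv.hom.hom.left, congrArg (fun h => h.hom.hom.left) e.hom_inv_id,
      congrArg (fun h => h.hom.hom.left) e.inv_hom_id⟩
  haveI : IsMonHom j' := inferInstanceAs (IsMonHom (_ ≫ e.hom.hom.hom))
  haveI : IsClosedImmersion j'.left := by
    rw [Over.comp_left]; infer_instance
  haveI : Mono j' := (Over.forget _).mono_of_mono_map (inferInstanceAs (Mono j'.left))
  haveI : Mono j := (Over.forget _).mono_of_mono_map (inferInstanceAs (Mono j.left))
  haveI : Mono e.hom.hom.hom := mono_of_mono_fac (h := 𝟙 _) (congrArg (fun h => h.hom.hom) e.hom_inv_id)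
  obtain ⟨g, hg⟩ := hMmax _ j' UniPart.isMultTypeFT_multPart
  haveI : IsMonHom g := by
    haveI : IsMonHom (g ≫ j) := by rw [hg]; infer_instance
    exact { one_hom := by rw [← cancel_mono j, Category.assoc, IsMonHom.one_hom (g ≫ j), IsMonHom.one_hom j]
            mul_hom := by
              rw [← cancel_mono j, Category.assoc, IsMonHom.mul_hom (g ≫ j), Category.assoc, IsMonHom.mul_hom j,
                ← Category.assoc, MonoidalCategory.tensorHom_comp_tensorHom] }
  let φ : ∀ X : Over (Spec (CommRingCat.of k)), (Over.map (𝟙 (Spec (CommRingCat.of k)))).obj X ⟶ X := fun X =>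
    Over.homMk (𝟙 X.left) (by show 𝟙 _ ≫ X.hom = X.hom ≫ 𝟙 _; simp)
  have hφ : ∀ {X : Over (Spec (CommRingCat.of k))} (x : X ⟶ M),
      (Over.map (𝟙 (Spec (CommRingCat.of k)))).map x ≫ φ M = φ X ≫ x := fun x => by
    refine Over.OverMorphism.ext ?_
    show x.left ≫ 𝟙 _ = 𝟙 _ ≫ x.left
    simp
  obtain ⟨c, hc⟩ := UniPart.exists_factor_multIdeal (𝟙 (Spec (CommRingCat.of k))) M hM (φ M ≫ j ≫ e.inv.hom.hom)
    fun X a b => by
      rw [← Category.assoc, ← Category.assoc ((Over.map _).map a), ← Category.assoc ((Over.map _).map b), hφ, hφ, hφ,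
        Category.assoc, Category.assoc, Category.assoc, MonObj.mul_comp, MonObj.comp_mul]
  let g' : M ⟶ GrpSchLib.AffineHopf.sp k (A ⧸ UniPart.multIdeal k A) := Over.homMk c.left (by
    have := Over.w c
    simpa using this)
  have hg' : g' ≫ j' = j := by
    refine Over.OverMorphism.ext ?_
    have h1 := congrArg CommaMorphism.left hc
    have h2 := congrArg (fun t => t.hom.hom.left) e.inv_hom_id
    show c.left ≫ (GrpSchLib.AffineHopf.spMap _).left ≫ e.hom.hom.hom.left = j.left
    rw [← Category.assoc]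
    refine (congrArg (· ≫ e.hom.hom.hom.left) h1).trans ?_
    show (𝟙 _ ≫ j.left ≫ e.inv.hom.hom.left) ≫ e.hom.hom.hom.left = j.left
    rw [Category.id_comp, Category.assoc]
    exact (congrArg (j.left ≫ ·) h2).trans (Category.comp_id _)
  refine ⟨⟨g, g', ?_, ?_⟩, ‹_›, hg⟩
  · rw [← cancel_mono j', Category.assoc, hg', hg, Category.id_comp]
  · rw [← cancel_mono j, Category.assoc, hg, hg', Category.id_comp]

theorem surjective_of_field_pts {k : Type u} [Field k] {B : Type u} [CommRing B] [Algebra k B] [Algebra.FiniteType k B]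
    {U : Over (Spec (CommRingCat.of k))} [LocallyOfFiniteType U.hom] [QuasiCompact U.hom]
    (f : U ⟶ GrpSchLib.AffineHopf.sp k B)
    (h : ∀ x : B →ₐ[k] AlgebraicClosure k, ∃ g, g ≫ f = GrpSchLib.AffineHopf.spMap x) :
    Function.Surjective f.left := by
  haveI : IsJacobsonRing B := isJacobsonRing_of_finiteType (A := k)
  haveI : LocallyOfFiniteType (GrpSchLib.AffineHopf.sp k B).hom := (HasRingHomProperty.Spec_iff (P := @LocallyOfFiniteType)).mpr
    (RingHom.finiteType_algebraMap.mpr inferInstance)
  haveI : LocallyOfFiniteType (f.left ≫ (GrpSchLib.AffineHopf.sp k B).hom) := by rw [Over.w f]; infer_instance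
  haveI : LocallyOfFiniteType f.left := locallyOfFiniteType_of_comp f.left (GrpSchLib.AffineHopf.sp k B).hom
  haveI : IsLocallyNoetherian (GrpSchLib.AffineHopf.sp k B).left :=
    LocallyOfFiniteType.isLocallyNoetherian (GrpSchLib.AffineHopf.sp k B).hom
  haveI : QuasiCompact (f.left ≫ (GrpSchLib.AffineHopf.sp k B).hom) := by rw [Over.w f]; infer_instance
  haveI : QuasiCompact f.left := QuasiCompact.of_comp f.left (GrpSchLib.AffineHopf.sp k B).hom
  haveI : IsAffine (GrpSchLib.AffineHopf.sp k B).left := isAffine_Spec _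
  have hcons : Topology.IsConstructible (f.left '' Set.univ) :=
    f.left.isConstructible_image Topology.IsConstructible.univ
  intro s
  by_contra hs
  obtain ⟨c, hc1, hc2⟩ := ComodLib.exists_closedPoint_of_isConstructible (S := B) hcons.compl
    ⟨s, by simpa using hs⟩
  haveI : (c : PrimeSpectrum B).asIdeal.IsMaximal :=
    (PrimeSpectrum.isClosed_singleton_iff_isMaximal _).1 (mem_closedPoints_iff.1 hc2)
  obtain ⟨φ, hφ⟩ := AGF20Lib.UnipComplement.exists_pt (k := k) (K := AlgebraicClosure k) (c : PrimeSpectrum B).asIdeal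
  obtain ⟨g, hg⟩ := h φ
  let o : PrimeSpectrum (AlgebraicClosure k) := ⟨⊥, Ideal.isPrime_bot⟩
  refine hc1 ⟨g.left o, trivial, ?_⟩
  rw [← Scheme.Hom.comp_apply, ← Over.comp_left, hg]
  refine PrimeSpectrum.ext ?_
  show Ideal.comap φ.toRingHom ⊥ = _
  rw [← RingHom.ker_eq_comap_bot, ← hφ]
  rfl

/-- Let k be a field, G a commutative affine k-group scheme of finite type, and j : M → G the largest
closed subgroup scheme of multiplicative type (M is of multiplicative type and every closed subgroup
scheme of G of multiplicative type factors through M). Then there is a closed subgroup scheme h : H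
→ G such that G = M · H, in the sense that the multiplication M × H → G is surjective, and M ∩ H
(the fibre product of j and h) is finite over k. (The existence of the largest subgroup scheme of
multiplicative type is taken here as a hypothesis on M.) -/
theorem result (k : Type u) [Field k]
    (G : Over (Spec (CommRingCat.of k))) [GrpObj G] [IsCommMonObj G] [IsAffine G.left]
    [LocallyOfFiniteType G.hom]
    (M : Over (Spec (CommRingCat.of k))) [GrpObj M] (j : M ⟶ G) [IsMonHom j] [IsClosedImmersion j.left]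
    (hM : SGA3x.IsMultTypeFT M)
    (hMmax : ∀ (M' : Over (Spec (CommRingCat.of k))) [GrpObj M'] (j' : M' ⟶ G) [IsMonHom j']
      [IsClosedImmersion j'.left], SGA3x.IsMultTypeFT M' → ∃ g : M' ⟶ M, g ≫ j = j') :
    ∃ (H : Over (Spec (CommRingCat.of k))) (_ : GrpObj H) (h : H ⟶ G), IsMonHom h ∧ IsClosedImmersion h.left ∧
      Surjective ((j ⊗ₘ h) ≫ μ[G]).left ∧
      IsFinite (pullback.fst j.left h.left ≫ M.hom) := by
  obtain ⟨A, _, _, ⟨e⟩⟩ := GrpSchLib.AffineHopf.exists_hopf G
  haveI : IsMonHom e.hom.hom.hom := e.hom.hom.isMonHom_hom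
  haveI : IsMonHom e.inv.hom.hom := e.inv.hom.isMonHom_hom
  haveI hie : IsIso e.hom.hom.hom.left :=
    ⟨e.inv.hom.hom.left, congrArg (fun h => h.hom.hom.left) e.hom_inv_id,
      congrArg (fun h => h.hom.hom.left) e.inv_hom_id⟩
  haveI : IsIso e.inv.hom.hom.left :=
    ⟨e.hom.hom.hom.left, congrArg (fun h => h.hom.hom.left) e.inv_hom_id,
      congrArg (fun h => h.hom.hom.left) e.hom_inv_id⟩
  haveI : Mono e.hom.hom.hom := mono_of_mono_fac (h := 𝟙 _) (congrArg (fun h => h.hom.hom) e.hom_inv_id)
  haveI hcA : Coalgebra.IsCocomm k A := GrpSchLib.MultTypeExtension.isCocomm_of_isCommMonObj fun T x y => by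
    rw [← cancel_mono e.hom.hom.hom, MonObj.mul_comp, MonObj.mul_comp, mul_comm]
  haveI : Algebra.FiniteType k A := RingHom.finiteType_algebraMap.mp
    ((HasRingHomProperty.Spec_iff (P := @LocallyOfFiniteType)).mp
      (show LocallyOfFiniteType (GrpSchLib.AffineHopf.sp k A).hom by
        rw [← Over.w e.hom.hom.hom]; infer_instance))
  obtain ⟨α, hα, hαj⟩ := exists_iso_multPart e j hM hMmax
  obtain ⟨J, hJ, hdec, hfin⟩ :=
    AGF20Lib.UnipComplement.exists_complement (k := k) (A := A) (K := AlgebraicClosure k)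
  haveI := hJ
  let mI := GrpSchLib.AffineHopf.spMap (Ideal.Quotient.mkₐ k (UniPart.multIdeal k A))
  let mJ := GrpSchLib.AffineHopf.spMap (Ideal.Quotient.mkₐ k J)
  haveI : IsMonHom mJ := GrpSchLib.AffineHopf.isMonHom_spMap (Bialgebra.Quotient.mkBialgHom (R := k) J)
  let h : GrpSchLib.AffineHopf.sp k (A ⧸ J) ⟶ G := mJ ≫ e.hom.hom.hom
  haveI : IsClosedImmersion mJ.left := IsClosedImmersion.spec_of_surjective _ Ideal.Quotient.mk_surjective
  haveI : IsClosedImmersion h.left := by simp only [h, Over.comp_left]; infer_instance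
  haveI : LocallyOfFiniteType M.hom := by rw [← Over.w j]; infer_instance
  haveI : QuasiCompact G.hom := inferInstance
  haveI : QuasiCompact M.hom := by rw [← Over.w j]; infer_instance
  haveI : LocallyOfFiniteType (GrpSchLib.AffineHopf.sp k (A ⧸ J)).hom := by rw [← Over.w h]; infer_instance
  haveI : QuasiCompact (GrpSchLib.AffineHopf.sp k (A ⧸ J)).hom := by rw [← Over.w h]; infer_instance
  refine ⟨GrpSchLib.AffineHopf.sp k (A ⧸ J), inferInstance, h, inferInstanceAs (IsMonHom (mJ ≫ e.hom.hom.hom)),
    inferInstance, ?_, ?_⟩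
  · let F : M ⊗ GrpSchLib.AffineHopf.sp k (A ⧸ J) ⟶ GrpSchLib.AffineHopf.sp k A :=
      ((j ⊗ₘ h) ≫ μ[G]) ≫ e.inv.hom.hom
    haveI : LocallyOfFiniteType (M ⊗ GrpSchLib.AffineHopf.sp k (A ⧸ J)).hom := by
      rw [show (M ⊗ GrpSchLib.AffineHopf.sp k (A ⧸ J)).hom = pullback.fst M.hom _ ≫ M.hom from rfl]
      infer_instance
    haveI : QuasiCompact (M ⊗ GrpSchLib.AffineHopf.sp k (A ⧸ J)).hom := by
      rw [show (M ⊗ GrpSchLib.AffineHopf.sp k (A ⧸ J)).hom = pullback.fst M.hom _ ≫ M.hom from rfl]
      infer_instance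
    have hF : Function.Surjective F.left := surjective_of_field_pts F fun x => by
      obtain ⟨t, u, htu, htI, huJ⟩ := hdec (WithConv.toConv x)
      let tb : A ⧸ UniPart.multIdeal k A →ₐ[k] AlgebraicClosure k :=
        Ideal.Quotient.liftₐ _ t.ofConv htI
      let ub : A ⧸ J →ₐ[k] AlgebraicClosure k := Ideal.Quotient.liftₐ _ u.ofConv huJ
      refine ⟨lift (GrpSchLib.AffineHopf.spMap tb ≫ α.hom) (GrpSchLib.AffineHopf.spMap ub), ?_⟩
      have h1 : GrpSchLib.AffineHopf.spMap tb ≫ α.hom ≫ j =
          GrpSchLib.AffineHopf.spMap t.ofConv ≫ e.hom.hom.hom := by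
        rw [hαj, ← Category.assoc, GrpSchLib.AffineHopf.spMap_comp]
        congr 2
      have h2 : GrpSchLib.AffineHopf.spMap ub ≫ h = GrpSchLib.AffineHopf.spMap u.ofConv ≫ e.hom.hom.hom := by
        show _ ≫ mJ ≫ _ = _
        rw [← Category.assoc, GrpSchLib.AffineHopf.spMap_comp]
        congr 2
      show _ ≫ ((j ⊗ₘ h) ≫ μ[G]) ≫ e.inv.hom.hom = _
      rw [← Category.assoc, lift_map_assoc, ← Hom.mul_def, Category.assoc, h1, h2, ← MonObj.mul_comp,
        GrpSchLib.AffineHopf.spMap_mul, Category.assoc,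
        show e.hom.hom.hom ≫ e.inv.hom.hom = 𝟙 _ from congrArg (fun h => h.hom.hom) e.hom_inv_id, Category.comp_id]
      exact congrArg _ (congrArg WithConv.ofConv htu.symm)
    refine ⟨fun y => ?_⟩
    obtain ⟨z, hz⟩ := hF (e.inv.hom.hom.left y)
    exact ⟨z, e.inv.hom.hom.left.injective hz⟩
  · haveI : Mono j.left := inferInstance
    let P := pullback j.left h.left
    haveI : IsClosedImmersion (pullback.fst j.left h.left) := inferInstance
    let Z : Set (GrpSchLib.AffineHopf.sp k A).left :=
      {q | UniPart.multIdeal k A ⊔ J ≤ (q : PrimeSpectrum A).asIdeal}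
    have hZ : Z.Finite := by
      let I' := UniPart.multIdeal k A ⊔ J
      haveI : IsJacobsonRing A := isJacobsonRing_of_finiteType (A := k)
      let S : Set (Ideal A) := (fun x : WithConv (A →ₐ[k] AlgebraicClosure k) => RingHom.ker x.ofConv) ''
        {x | (∀ a ∈ UniPart.multIdeal k A, x.ofConv a = 0) ∧ ∀ a ∈ J, x.ofConv a = 0}
      have hS : S.Finite := hfin.image _
      have hmax : ∀ m : Ideal A, m.IsMaximal → I' ≤ m → m ∈ S := fun m hm hle => by
        obtain ⟨φ, hφ⟩ := AGF20Lib.UnipComplement.exists_pt (k := k) (K := AlgebraicClosure k) m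
        exact ⟨WithConv.toConv φ, ⟨fun a ha => by
          have := (le_sup_left.trans (hle.trans hφ.ge)) ha
          exact this, fun a ha => by
          have := (le_sup_right.trans (hle.trans hφ.ge)) ha
          exact this⟩, hφ⟩
      have hprime : ∀ q : PrimeSpectrum A, I' ≤ q.asIdeal → q.asIdeal ∈ S := fun q hq => by
        have hjac : q.asIdeal.jacobson = q.asIdeal := IsJacobsonRing.out ‹_› q.2.isRadical
        let T : Set (Ideal A) := {m | q.asIdeal ≤ m ∧ m.IsMaximal}
        have hT : T.Finite := hS.subset fun m hm => hmax m hm.2 (hq.trans hm.1)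
        have hle : hT.toFinset.inf id ≤ q.asIdeal := by
          refine le_trans (le_sInf fun m hm => ?_) hjac.le
          exact Finset.inf_le (f := id) (hT.mem_toFinset.2 hm)
        obtain ⟨m, hm, hmq⟩ := (Ideal.IsPrime.inf_le' q.2).1 hle
        have hm' := hT.mem_toFinset.1 hm
        have : q.asIdeal = m := le_antisymm hm'.1 hmq
        rw [this]
        exact hmax m hm'.2 (hq.trans hm'.1)
      exact (hS.preimage (Function.Injective.injOn fun a b hab => PrimeSpectrum.ext hab)).subset fun q hq => hprime q hq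
    haveI : Finite P := by
      let ι' : P ⟶ (GrpSchLib.AffineHopf.sp k A).left := (pullback.fst j.left h.left ≫ j.left) ≫ e.inv.hom.hom.left
      haveI : IsClosedImmersion ι' := inferInstance
      refine Set.finite_univ_iff.1 ((hZ.preimage ι'.isClosedEmbedding.injective.injOn).subset fun z _ => ?_)
      show UniPart.multIdeal k A ⊔ J ≤ _
      refine sup_le ?_ ?_
      · have hj : α.inv ≫ mI = j ≫ e.inv.hom.hom := by
          rw [← cancel_mono e.hom.hom.hom, Category.assoc, ← hαj, Iso.inv_hom_id_assoc, Category.assoc,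
            show e.inv.hom.hom ≫ e.hom.hom.hom = 𝟙 _ from congrArg (fun h => h.hom.hom) e.inv_hom_id, Category.comp_id]
        have h3 : ι' = (pullback.fst j.left h.left ≫ α.inv.left) ≫ mI.left := by
          simp only [ι', Category.assoc, ← Over.comp_left, hj]
        rw [h3, Scheme.Hom.comp_apply]
        intro a ha
        show Ideal.Quotient.mk (UniPart.multIdeal k A) a ∈ (PrimeSpectrum.asIdeal (R := A ⧸ UniPart.multIdeal k A) _)
        rw [Ideal.Quotient.eq_zero_iff_mem.2 ha]
        exact Ideal.zero_mem _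
      · have h4 : ι' = pullback.snd j.left h.left ≫ mJ.left := by
          show (pullback.fst j.left h.left ≫ j.left) ≫ e.inv.hom.hom.left = _
          rw [pullback.condition]
          simp only [h, Over.comp_left, Category.assoc]
          rw [show e.hom.hom.hom.left ≫ e.inv.hom.hom.left = 𝟙 _ from
            congrArg (fun h => h.hom.hom.left) e.hom_inv_id, Category.comp_id]
        rw [h4, Scheme.Hom.comp_apply]
        intro a ha
        show Ideal.Quotient.mk J a ∈ (PrimeSpectrum.asIdeal (R := A ⧸ J) _)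
        rw [Ideal.Quotient.eq_zero_iff_mem.2 ha]
        exact Ideal.zero_mem _
    haveI : LocallyQuasiFinite (pullback.fst j.left h.left ≫ M.hom) :=
      LocallyQuasiFinite.of_finite_preimage_singleton _ fun x => Set.toFinite _
    exact IsFinite.of_locallyQuasiFinite _

end Groth.Agent.S19467
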