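import Groth.Statements.S19468
import Groth.Agent.AGFLib.ChevalleyPerfect
import Groth.Agent.AGFLib.AntiAffineFinite
-- import your own Groth.Agent.* helpers here

set_option autoImplicit false
set_option backward.isDefEq.respectTransparency.types false
set_option maxHeartbeats 1000000
universe u
open CategoryTheory MonoidalCategory CartesianMonoidalCategory MonObj GrpObj AlgebraicGeometry CategoryTheory.Limits
open AlgGrp

namespace Groth.Agent.S19468

/-- Let k be a finite field and G a smooth connected k-group scheme of finite type. Then there are a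
closed normal subgroup scheme l : L → G with L smooth, connected and affine, and a closed subgroup
scheme a : A → G with A an abelian variety (proper, smooth and connected over k), such that G = L ·
A, in the sense that the multiplication L × A → G is surjective, and L ∩ A (the fibre product of l
and a) is finite over k. (The published statement also asserts that such a decomposition is unique;
that part is not included here.) -/
theorem result (k : Type u) [Field k] [Finite k]
    (G : Over (Spec (CommRingCat.of k))) [GrpObj G] [Smooth G.hom] [QuasiCompact G.hom]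
    [ConnectedSpace ↥G.left] :
    ∃ (L : Over (Spec (CommRingCat.of k))) (_ : GrpObj L) (l : L ⟶ G) (A : Over (Spec (CommRingCat.of k)))
      (_ : GrpObj A) (a : A ⟶ G),
      IsMonHom l ∧ IsClosedImmersion l.left ∧ AlgGrp.IsNormalHom l ∧ Smooth L.hom ∧ ConnectedSpace ↥L.left ∧
        IsAffine L.left ∧
      IsMonHom a ∧ IsClosedImmersion a.left ∧ IsProper A.hom ∧ Smooth A.hom ∧ ConnectedSpace ↥A.left ∧
      Surjective ((l ⊗ₘ a) ≫ μ[G]).left ∧ IsFinite (pullback.fst l.left a.left ≫ L.hom) := by
  haveI := GrpSchLib.AntiAffine.isSeparated_grp G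
  obtain ⟨L, _, l, Q, _, q, hl, hlc, hln, hls, hlcs, hla, hq, hQ, -, -, hqs, hqf, hk⟩ :=
    AGFLib.ChevalleyPerfect.exists_linearPart G
  haveI := hl; haveI := hlc; haveI := hla; haveI := hq; haveI := hQ; haveI := hqs; haveI := hqf
  obtain ⟨M, _, j, hj, hjc, -, hlft, hqc, hant, -, -⟩ := AGFLib.AntPart.exists_ant (G := G)
  haveI := hj; haveI := hjc; haveI := hlft; haveI := hqc
  haveI : IsProper M.hom := AGFLib.AntiAffineFinite.isProper M ((AGFLib.AntPart.bij_appTop_iff M).2 hant.bij)
  exact ⟨L, inferInstance, l, M, inferInstance, j, hl, hlc, hln, hls, hlcs, hla, hj, hjc, inferInstance,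
    GrpSchLib.AntiAffineSmooth.smooth hant.bij, GrpSchLib.AntiAffine.connectedSpace_of_bijective hant.bij,
    (AGFLib.AntPart.main_mul l q hk j hant).1,
    AGFLib.ChevalleyPerfect.isFinite_inter (P := Over.mk (Limits.pullback.fst l.left j.left ≫ L.hom)) l j
      (Limits.pullback.fst l.left j.left) (Limits.pullback.snd l.left j.left) (IsPullback.of_hasPullback _ _) rfl⟩

end Groth.Agent.S19468
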