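import Groth.Statements.S19472
import Groth.Agent.AGF20Lib.MultExact
import Groth.Agent.UniPart.Centre
import Groth.Agent.GrpSchLib.KernelGrp
import Groth.Agent.GrpSchLib.MultTypeExtension
import Groth.Agent.MultTypeQI.ClosedSubgroup
import Groth.Agent.S0607
-- import your own Groth.Agent.* helpers here

set_option autoImplicit false
set_option maxHeartbeats 1600000
set_option synthInstance.maxHeartbeats 400000
set_option backward.isDefEq.respectTransparency false
set_option backward.isDefEq.respectTransparency.types false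
set_option linter.style.haveILetI false
set_option backward.isDefEq.respectTransparency.types false
set_option maxHeartbeats 1000000
universe u
open CategoryTheory MonoidalCategory CartesianMonoidalCategory MonObj GrpObj AlgebraicGeometry CategoryTheory.Limits
open AlgGrp

namespace Groth.Agent.S19472

theorem exists_iso_multPart {k : Type u} [Field k] {G M : Over (Spec (CommRingCat.of k))} [GrpObj G] [GrpObj M]
    {A : Type u} [CommRing A] [HopfAlgebra k A] [Coalgebra.IsCocomm k A] [Algebra.FiniteType k A]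
    (e : Grp.mk (GrpSchLib.AffineHopf.sp k A) ≅ Grp.mk G)
    (j : M ⟶ G) [IsMonHom j] [IsClosedImmersion j.left] (hM : SGA3x.IsMultTypeFT M)
    (hMmax : ∀ (M' : Over (Spec (CommRingCat.of k))) [GrpObj M'] (j' : M' ⟶ G) [IsMonHom j']
      [IsClosedImmersion j'.left], SGA3x.IsMultTypeFT M' → ∃ g : M' ⟶ M, g ≫ j = j') :
    ∃ α : GrpSchLib.AffineHopf.sp k (A ⧸ UniPart.multIdeal k A) ≅ M, IsMonHom α.hom ∧
      α.hom ≫ j = GrpSchLib.AffineHopf.spMap (Ideal.Quotient.mkₐ k (UniPart.multIdeal k A)) ≫ e.hom.hom.hom := by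
  haveI : IsMonHom e.hom.hom.hom := e.hom.hom.isMonHom_hom
  haveI : IsMonHom e.inv.hom.hom := e.inv.hom.isMonHom_hom
  haveI : IsMonHom (GrpSchLib.AffineHopf.spMap (Ideal.Quotient.mkₐ k (UniPart.multIdeal k A))) :=
    GrpSchLib.AffineHopf.isMonHom_spMap (Bialgebra.Quotient.mkBialgHom (R := k) (UniPart.multIdeal k A))
  let j' := GrpSchLib.AffineHopf.spMap (Ideal.Quotient.mkₐ k (UniPart.multIdeal k A)) ≫ e.hom.hom.hom
  haveI : IsClosedImmersion (GrpSchLib.AffineHopf.spMap (Ideal.Quotient.mkₐ k (UniPart.multIdeal k A))).left :=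
    IsClosedImmersion.spec_of_surjective _ Ideal.Quotient.mk_surjective
  haveI : IsIso e.hom.hom.hom.left :=
    ⟨e.inv.hom.hom.left, congrArg (fun h => h.hom.hom.left) e.hom_inv_id,
      congrArg (fun h => h.hom.hom.left) e.inv_hom_id⟩
  haveI : IsMonHom j' := inferInstanceAs (IsMonHom (_ ≫ e.hom.hom.hom))
  haveI : IsClosedImmersion j'.left := by
    rw [Over.comp_left]; infer_instance
  haveI : Mono j' := (Over.forget _).mono_of_mono_map (inferInstanceAs (Mono j'.left))
  haveI : Mono j := (Over.forget _).mono_of_mono_map (inferInstanceAs (Mono j.left))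
  haveI : Mono e.hom.hom.hom := mono_of_mono_fac (h := 𝟙 _) (congrArg (fun h => h.hom.hom) e.hom_inv_id)
  obtain ⟨g, hg⟩ := hMmax _ j' UniPart.isMultTypeFT_multPart
  haveI : IsMonHom g := by
    haveI : IsMonHom (g ≫ j) := by rw [hg]; infer_instance
    exact { one_hom := by rw [← cancel_mono j, Category.assoc, IsMonHom.one_hom (g ≫ j), IsMonHom.one_hom j]
            mul_hom := by
              rw [← cancel_mono j, Category.assoc, IsMonHom.mul_hom (g ≫ j), Category.assoc, IsMonHom.mul_hom j,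
                ← Category.assoc, MonoidalCategory.tensorHom_comp_tensorHom] }
  let φ : ∀ X : Over (Spec (CommRingCat.of k)), (Over.map (𝟙 (Spec (CommRingCat.of k)))).obj X ⟶ X := fun X =>
    Over.homMk (𝟙 X.left) (by show 𝟙 _ ≫ X.hom = X.hom ≫ 𝟙 _; simp)
  have hφ : ∀ {X : Over (Spec (CommRingCat.of k))} (x : X ⟶ M),
      (Over.map (𝟙 (Spec (CommRingCat.of k)))).map x ≫ φ M = φ X ≫ x := fun x => by
    refine Over.OverMorphism.ext ?_
    show x.left ≫ 𝟙 _ = 𝟙 _ ≫ x.left
    simp
  obtain ⟨c, hc⟩ := UniPart.exists_factor_multIdeal (𝟙 (Spec (CommRingCat.of k))) M hM (φ M ≫ j ≫ e.inv.hom.hom)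
    fun X a b => by
      rw [← Category.assoc, ← Category.assoc ((Over.map _).map a), ← Category.assoc ((Over.map _).map b), hφ, hφ, hφ,
        Category.assoc, Category.assoc, Category.assoc, MonObj.mul_comp, MonObj.comp_mul]
  let g' : M ⟶ GrpSchLib.AffineHopf.sp k (A ⧸ UniPart.multIdeal k A) := Over.homMk c.left (by
    have := Over.w c
    simpa using this)
  have hg' : g' ≫ j' = j := by
    refine Over.OverMorphism.ext ?_
    have h1 := congrArg CommaMorphism.left hc
    have h2 := congrArg (fun t => t.hom.hom.left) e.inv_hom_id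
    show c.left ≫ (GrpSchLib.AffineHopf.spMap _).left ≫ e.hom.hom.hom.left = j.left
    rw [← Category.assoc]
    refine (congrArg (· ≫ e.hom.hom.hom.left) h1).trans ?_
    show (𝟙 _ ≫ j.left ≫ e.inv.hom.hom.left) ≫ e.hom.hom.hom.left = j.left
    rw [Category.id_comp, Category.assoc]
    exact (congrArg (j.left ≫ ·) h2).trans (Category.comp_id _)
  refine ⟨⟨g, g', ?_, ?_⟩, ‹_›, hg⟩
  · rw [← cancel_mono j', Category.assoc, hg', hg, Category.id_comp]
  · rw [← cancel_mono j, Category.assoc, hg, hg', Category.id_comp]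

/-- Let k be a field and 1 → G₁ → G → G₂ → 1 an exact sequence of commutative affine k-group schemes of
finite type: i : G₁ → G is a closed subgroup scheme and the kernel of a flat surjective homomorphism
q : G → G₂. Let j₁ : M₁ → G₁, j : M → G and j₂ : M₂ → G₂ be the largest closed subgroup schemes of
multiplicative type (each of multiplicative type, every closed subgroup scheme of multiplicative
type factoring through it). Then the induced sequence 1 → M₁ → M → M₂ → 1 is exact: there are u : M₁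
→ M over i and v : M → M₂ over q with u a closed immersion, v flat and surjective, and u the kernel
of v. (The companion statement for the largest unipotent subgroup schemes over a perfect field is
not included; the existence of the largest multiplicative-type subgroups is carried as hypotheses.) -/
theorem result (k : Type u) [Field k]
    (G₁ : Over (Spec (CommRingCat.of k))) [GrpObj G₁] [IsCommMonObj G₁] [IsAffine G₁.left] [LocallyOfFiniteType G₁.hom]
    (G : Over (Spec (CommRingCat.of k))) [GrpObj G] [IsCommMonObj G] [IsAffine G.left] [LocallyOfFiniteType G.hom]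
    (G₂ : Over (Spec (CommRingCat.of k))) [GrpObj G₂] [IsCommMonObj G₂] [IsAffine G₂.left] [LocallyOfFiniteType G₂.hom]
    (i : G₁ ⟶ G) [IsMonHom i] [IsClosedImmersion i.left]
    (q : G ⟶ G₂) [IsMonHom q] [Surjective q.left] [Flat q.left] (hq : AlgGrp.IsKernel i q)
    (M₁ : Over (Spec (CommRingCat.of k))) [GrpObj M₁] (j₁ : M₁ ⟶ G₁) [IsMonHom j₁] [IsClosedImmersion j₁.left]
    (hM₁ : SGA3x.IsMultTypeFT M₁)
    (hM₁max : ∀ (M' : Over (Spec (CommRingCat.of k))) [GrpObj M'] (j' : M' ⟶ G₁) [IsMonHom j']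
      [IsClosedImmersion j'.left], SGA3x.IsMultTypeFT M' → ∃ g : M' ⟶ M₁, g ≫ j₁ = j')
    (M : Over (Spec (CommRingCat.of k))) [GrpObj M] (j : M ⟶ G) [IsMonHom j] [IsClosedImmersion j.left]
    (hM : SGA3x.IsMultTypeFT M)
    (hMmax : ∀ (M' : Over (Spec (CommRingCat.of k))) [GrpObj M'] (j' : M' ⟶ G) [IsMonHom j']
      [IsClosedImmersion j'.left], SGA3x.IsMultTypeFT M' → ∃ g : M' ⟶ M, g ≫ j = j')
    (M₂ : Over (Spec (CommRingCat.of k))) [GrpObj M₂] (j₂ : M₂ ⟶ G₂) [IsMonHom j₂] [IsClosedImmersion j₂.left]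
    (hM₂ : SGA3x.IsMultTypeFT M₂)
    (hM₂max : ∀ (M' : Over (Spec (CommRingCat.of k))) [GrpObj M'] (j' : M' ⟶ G₂) [IsMonHom j']
      [IsClosedImmersion j'.left], SGA3x.IsMultTypeFT M' → ∃ g : M' ⟶ M₂, g ≫ j₂ = j') :
    ∃ (u : M₁ ⟶ M) (v : M ⟶ M₂), u ≫ j = j₁ ≫ i ∧ v ≫ j₂ = j ≫ q ∧
      IsClosedImmersion u.left ∧ Surjective v.left ∧ Flat v.left ∧ AlgGrp.IsKernel u v := by
  obtain ⟨A, _, _, ⟨e⟩⟩ := GrpSchLib.AffineHopf.exists_hopf G
  obtain ⟨A₂, _, _, ⟨e₂⟩⟩ := GrpSchLib.AffineHopf.exists_hopf G₂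
  haveI : IsMonHom e.hom.hom.hom := e.hom.hom.isMonHom_hom
  haveI : IsMonHom e.inv.hom.hom := e.inv.hom.isMonHom_hom
  haveI : IsMonHom e₂.hom.hom.hom := e₂.hom.hom.isMonHom_hom
  haveI : IsMonHom e₂.inv.hom.hom := e₂.inv.hom.isMonHom_hom
  haveI hie : IsIso e.hom.hom.hom.left :=
    ⟨e.inv.hom.hom.left, congrArg (fun h => h.hom.hom.left) e.hom_inv_id,
      congrArg (fun h => h.hom.hom.left) e.inv_hom_id⟩
  haveI : IsIso e₂.inv.hom.hom.left :=
    ⟨e₂.hom.hom.hom.left, congrArg (fun h => h.hom.hom.left) e₂.inv_hom_id,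
      congrArg (fun h => h.hom.hom.left) e₂.hom_inv_id⟩
  haveI : IsIso e₂.hom.hom.hom.left :=
    ⟨e₂.inv.hom.hom.left, congrArg (fun h => h.hom.hom.left) e₂.hom_inv_id,
      congrArg (fun h => h.hom.hom.left) e₂.inv_hom_id⟩
  haveI hcA : Coalgebra.IsCocomm k A := GrpSchLib.MultTypeExtension.isCocomm_of_isCommMonObj fun T x y => by
    haveI : Mono e.hom.hom.hom := mono_of_mono_fac (h := 𝟙 _) (congrArg (fun h => h.hom.hom) e.hom_inv_id)
    rw [← cancel_mono e.hom.hom.hom, MonObj.mul_comp, MonObj.mul_comp, mul_comm]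
  haveI hcA₂ : Coalgebra.IsCocomm k A₂ := GrpSchLib.MultTypeExtension.isCocomm_of_isCommMonObj fun T x y => by
    haveI : Mono e₂.hom.hom.hom := mono_of_mono_fac (h := 𝟙 _) (congrArg (fun h => h.hom.hom) e₂.hom_inv_id)
    rw [← cancel_mono e₂.hom.hom.hom, MonObj.mul_comp, MonObj.mul_comp, mul_comm]
  haveI : Algebra.FiniteType k A := RingHom.finiteType_algebraMap.mp
    ((HasRingHomProperty.Spec_iff (P := @LocallyOfFiniteType)).mp
      (show LocallyOfFiniteType (GrpSchLib.AffineHopf.sp k A).hom by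
        rw [← Over.w e.hom.hom.hom]; infer_instance))
  haveI : Algebra.FiniteType k A₂ := RingHom.finiteType_algebraMap.mp
    ((HasRingHomProperty.Spec_iff (P := @LocallyOfFiniteType)).mp
      (show LocallyOfFiniteType (GrpSchLib.AffineHopf.sp k A₂).hom by
        rw [← Over.w e₂.hom.hom.hom]; infer_instance))
  obtain ⟨α, hα, hαj⟩ := exists_iso_multPart e j hM hMmax
  obtain ⟨α₂, hα₂, hα₂j⟩ := exists_iso_multPart e₂ j₂ hM₂ hM₂max
  haveI := hα; haveI := hα₂
  let qq := e.hom.hom.hom ≫ q ≫ e₂.inv.hom.hom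
  haveI : IsMonHom qq := inferInstanceAs (IsMonHom (_ ≫ q ≫ _))
  obtain ⟨f, hf⟩ := GrpSchLib.AffineHopf.exists_bialgHom qq
  have hfi : Function.Injective f := by
    haveI : Surjective qq.left := by simp only [qq, Over.comp_left]; infer_instance
    haveI : Flat qq.left := by simp only [qq, Over.comp_left]; infer_instance
    have h1 : (CommRingCat.ofHom (f : A₂ →ₐ[k] A).toRingHom).hom.FaithfullyFlat := by
      refine (flat_and_surjective_SpecMap_iff _).1 ?_
      rw [show Spec.map (CommRingCat.ofHom (f : A₂ →ₐ[k] A).toRingHom) = qq.left from congrArg CommaMorphism.left hf.symm]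
      exact ⟨inferInstance, inferInstance⟩
    exact RingHom.FaithfullyFlat.injective h1
  let fb := AGF20Lib.MultExact.multMap f
  have hfb := AGF20Lib.MultExact.multMap_injective f hfi
  haveI : Algebra.FiniteType k (A ⧸ UniPart.multIdeal k A) :=
    Algebra.FiniteType.of_surjective (Ideal.Quotient.mkₐ k _) Ideal.Quotient.mk_surjective
  haveI : Algebra.FiniteType k (A₂ ⧸ UniPart.multIdeal k A₂) :=
    Algebra.FiniteType.of_surjective (Ideal.Quotient.mkₐ k _) Ideal.Quotient.mk_surjective
  have hff := S0607.result fb hfb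
  let v' := GrpSchLib.AffineHopf.spMap (fb : (A₂ ⧸ UniPart.multIdeal k A₂) →ₐ[k] A ⧸ UniPart.multIdeal k A)
  obtain ⟨hv'f, hv's⟩ := (flat_and_surjective_SpecMap_iff (CommRingCat.ofHom
    (fb : (A₂ ⧸ UniPart.multIdeal k A₂) →ₐ[k] A ⧸ UniPart.multIdeal k A).toRingHom)).2 hff
  let v : M ⟶ M₂ := α.inv ≫ v' ≫ α₂.hom
  haveI : IsIso α.inv.left := ((Over.forget _).mapIso α).isIso_inv
  haveI : IsIso α₂.hom.left := ((Over.forget _).mapIso α₂).isIso_hom
  haveI : Surjective v'.left := hv's
  haveI : Flat v'.left := hv'f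
  haveI : Surjective v.left := by simp only [v, Over.comp_left]; infer_instance
  haveI : Flat v.left := by simp only [v, Over.comp_left]; infer_instance
  haveI : Mono j₂ := (Over.forget _).mono_of_mono_map (inferInstanceAs (Mono j₂.left))
  have hv : v ≫ j₂ = j ≫ q := by
    have h1 : v' ≫ GrpSchLib.AffineHopf.spMap (Ideal.Quotient.mkₐ k (UniPart.multIdeal k A₂)) =
        GrpSchLib.AffineHopf.spMap (Ideal.Quotient.mkₐ k (UniPart.multIdeal k A)) ≫ qq := by
      rw [hf, GrpSchLib.AffineHopf.spMap_comp, GrpSchLib.AffineHopf.spMap_comp]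
      rfl
    rw [show v ≫ j₂ = α.inv ≫ v' ≫ α₂.hom ≫ j₂ by simp [v], hα₂j, reassoc_of% h1,
      show j ≫ q = α.inv ≫ (α.hom ≫ j) ≫ q by simp, hαj]
    simp only [qq, Category.assoc]
    rw [show e₂.inv.hom.hom ≫ e₂.hom.hom.hom = 𝟙 _ from congrArg (fun h => h.hom.hom) e₂.inv_hom_id, Category.comp_id]
  -- the kernel
  haveI : Mono j := (Over.forget _).mono_of_mono_map (inferInstanceAs (Mono j.left))
  haveI : Mono j₁ := (Over.forget _).mono_of_mono_map (inferInstanceAs (Mono j₁.left))
  haveI : Mono i := (Over.forget _).mono_of_mono_map (inferInstanceAs (Mono i.left))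
  haveI : IsClosedImmersion (j₁ ≫ i).left := by rw [Over.comp_left]; infer_instance
  obtain ⟨u, hu⟩ := hMmax M₁ (j₁ ≫ i) hM₁
  haveI : IsClosedImmersion u.left := by
    haveI : IsClosedImmersion (u.left ≫ j.left) := by rw [← Over.comp_left, hu]; infer_instance
    exact IsClosedImmersion.of_comp u.left j.left
  haveI : IsMonHom v := by
    haveI : IsMonHom v' := GrpSchLib.AffineHopf.isMonHom_spMap fb
    haveI : IsMonHom α.inv := inferInstance
    exact inferInstanceAs (IsMonHom (α.inv ≫ v' ≫ α₂.hom))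
  haveI : IsSeparated M₂.hom := by rw [← Over.w j₂]; infer_instance
  haveI : LocallyOfFiniteType M.hom := by rw [← Over.w j]; infer_instance
  obtain ⟨N, _, n, hn, hnc, -, hnk⟩ := GrpSchLib.exists_kernel v
  haveI := hn; haveI := hnc
  haveI : LocallyOfFiniteType N.hom := by rw [← Over.w n]; infer_instance
  haveI : IsLocallyNoetherian (Spec (CommRingCat.of k)) := inferInstance
  haveI : LocallyOfFinitePresentation N.hom := inferInstance
  have hNM : SGA3x.IsMultTypeFT N := MultTypeQI.isMultTypeFT_of_closedSubgroup hM n hnc inferInstance inferInstance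
  have hnq : (n ≫ j) ≫ q = toUnit N ≫ η[G₂] := by
    rw [Category.assoc, ← hv, reassoc_of% hnk.w, IsMonHom.one_hom]
  let l : N ⟶ G₁ := hq.lift (n ≫ j) (toUnit _) hnq
  have hl : l ≫ i = n ≫ j := hq.lift_fst _ _ _
  haveI : IsClosedImmersion l.left := by
    haveI : IsClosedImmersion (l.left ≫ i.left) := by
      rw [← Over.comp_left, hl, Over.comp_left]; infer_instance
    exact IsClosedImmersion.of_comp l.left i.left
  haveI : IsMonHom l := by
    haveI : IsMonHom (l ≫ i) := by rw [hl]; infer_instance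
    exact { one_hom := by rw [← cancel_mono i, Category.assoc, IsMonHom.one_hom (l ≫ i), IsMonHom.one_hom i]
            mul_hom := by
              rw [← cancel_mono i, Category.assoc, IsMonHom.mul_hom (l ≫ i), Category.assoc, IsMonHom.mul_hom i,
                ← Category.assoc, MonoidalCategory.tensorHom_comp_tensorHom] }
  obtain ⟨g, hg⟩ := hM₁max N l hNM
  have hgu : g ≫ u = n := by
    rw [← cancel_mono j, Category.assoc, hu, reassoc_of% hg, hl]
  haveI : Mono u := mono_of_mono_fac hu
  refine ⟨u, v, hu, hv, inferInstance, inferInstance, inferInstance, ?_⟩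
  have hw : u ≫ v = toUnit M₁ ≫ η[M₂] := by
    rw [← cancel_mono j₂, Category.assoc, hv, reassoc_of% hu, hq.w, ← Category.assoc, comp_toUnit,
      Category.assoc, IsMonHom.one_hom]
  refine ⟨⟨hw⟩, ⟨PullbackCone.IsLimit.mk _ (fun c => hnk.lift c.fst c.snd c.condition ≫ g) (fun c => ?_)
    (fun c => toUnit_unique _ _) (fun c m h1 _ => ?_)⟩⟩
  · show (_ ≫ g) ≫ u = _
    rw [Category.assoc, hgu, hnk.lift_fst]
  · rw [← cancel_mono u, Category.assoc, hgu, hnk.lift_fst]
    exact h1

end Groth.Agent.S19472
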