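import Groth.Statements.S19473
import Groth.Agent.GrpSchLib.Shear
import Groth.Agent.GrpSchLib.UnramifiedFibre
-- import your own Groth.Agent.* helpers here

set_option autoImplicit false
universe u
open CategoryTheory CategoryTheory.Limits MonoidalCategory CartesianMonoidalCategory MonObj GrpObj AlgebraicGeometry
open AlgGrp

namespace Groth.Agent.S19473

/-- Let S be a scheme and G an S-group scheme whose structure morphism G → S is locally of finite type.
Then G → S is unramified — formally unramified, since it is locally of finite type — if and only if
the identity section S → G is an open immersion. (The separated and quasi-separated clauses of the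
published item are separate results.) -/
theorem result (S : Scheme.{u})
    (G : Over S) [GrpObj G] [LocallyOfFiniteType G.hom] :
    FormallyUnramified G.hom ↔ IsOpenImmersion η[G].left := by
  refine ⟨fun h => (Groth.Agent.GrpSchLib.diagonal_iff_unit @IsOpenImmersion).mp inferInstance, fun h => ?_⟩
  have : IsOpenImmersion (Limits.pullback.diagonal G.hom) :=
    (Groth.Agent.GrpSchLib.diagonal_iff_unit @IsOpenImmersion).mpr h
  infer_instance

end Groth.Agent.S19473
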