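import Groth.Statements.S19475
import Mathlib.RingTheory.AdicCompletion.Algebra
import Mathlib.RingTheory.Localization.AtPrime.Basic
import Mathlib.RingTheory.LocalRing.ResidueField.Basic
import Mathlib.RingTheory.TensorProduct.Maps
import Mathlib.RingTheory.AdicCompletion.Noetherian
import Mathlib.RingTheory.AdicCompletion.Completeness
import Mathlib.RingTheory.Localization.Submodule

set_option autoImplicit false
universe u
open CAlg

namespace Groth.Agent.S19475
open IsLocalRing TensorProduct

open IsLocalRing in
/-- Let A be a Noetherian ring, B an A-algebra, q a prime ideal of B and p its preimage in A; let A_p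
and B_q be the local rings at p and q and Â_p the completion of A_p at its maximal ideal pA_p. Then
the ideal generated by qB_q in B_q ⊗ Â_p is maximal. (The tensor product is formed over A; since A_p
is a localization of A it agrees with the tensor product over A_p used in the published statement.) -/
theorem result (A B : Type u) [CommRing A] [CommRing B]
    [Algebra A B] [IsNoetherianRing A] (q : Ideal B) [q.IsPrime] :
    ((maximalIdeal (Localization.AtPrime q)).map
      (Algebra.TensorProduct.includeLeftRingHom :
        Localization.AtPrime q →+* TensorProduct A (Localization.AtPrime q)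
          (AdicCompletion (maximalIdeal (Localization.AtPrime (q.under A)))
            (Localization.AtPrime (q.under A))))).IsMaximal := by
  haveI : IsNoetherianRing (Localization.AtPrime (q.under A)) :=
    IsLocalization.isNoetherianRing (q.under A).primeCompl _ inferInstance
  set J := (maximalIdeal (Localization.AtPrime q)).map
      (Algebra.TensorProduct.includeLeftRingHom :
        Localization.AtPrime q →+* TensorProduct A (Localization.AtPrime q)
          (AdicCompletion (maximalIdeal (Localization.AtPrime (q.under A)))
            (Localization.AtPrime (q.under A)))) with hJ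
  have hfac : ∀ a : A, a ∈ (q.under A).primeCompl → IsUnit (algebraMap A (Localization.AtPrime q) a) := by
    intro a ha
    rw [IsScalarTower.algebraMap_apply A B (Localization.AtPrime q)]
    exact IsLocalization.map_units (Localization.AtPrime q) (⟨algebraMap A B a, ha⟩ : q.primeCompl)
  let ρ : Localization.AtPrime (q.under A) →ₐ[A] Localization.AtPrime q :=
    IsLocalization.liftAlgHom (M := (q.under A).primeCompl) (f := Algebra.ofId A (Localization.AtPrime q))
      fun a => hfac a a.2
  have hρ : ∀ r ∈ maximalIdeal (Localization.AtPrime (q.under A)), ρ r ∈ maximalIdeal (Localization.AtPrime q) := by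
    intro r hr
    rw [← Localization.AtPrime.map_eq_maximalIdeal] at hr
    have : (Ideal.map (algebraMap A (Localization.AtPrime (q.under A))) (q.under A)) ≤
        (maximalIdeal (Localization.AtPrime q)).comap ρ := by
      rw [Ideal.map_le_iff_le_comap]
      intro a ha
      rw [Ideal.mem_comap, Ideal.mem_comap, AlgHom.commutes, IsScalarTower.algebraMap_apply A B,
        ← Localization.AtPrime.map_eq_maximalIdeal]
      exact Ideal.mem_map_of_mem _ ha
    exact this hr
  let ρbar : AdicCompletion (maximalIdeal (Localization.AtPrime (q.under A))) (Localization.AtPrime (q.under A)) →ₐ[A]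
      Localization.AtPrime q ⧸ maximalIdeal (Localization.AtPrime q) :=
    (Ideal.quotientMapₐ (maximalIdeal (Localization.AtPrime q)) ρ hρ).comp
      ((AdicCompletion.evalOneₐ (maximalIdeal (Localization.AtPrime (q.under A)))).restrictScalars A)
  let φ := Algebra.TensorProduct.lift (Ideal.Quotient.mkₐ A (maximalIdeal (Localization.AtPrime q))) ρbar
    (fun _ _ => .all _ _)
  haveI : (maximalIdeal (Localization.AtPrime q)).IsMaximal := maximalIdeal.isMaximal _
  letI := Ideal.Quotient.field (maximalIdeal (Localization.AtPrime q))
  have hφ : Function.Surjective φ := fun z => by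
    obtain ⟨b, rfl⟩ := Ideal.Quotient.mk_surjective z
    exact ⟨b ⊗ₜ 1, by simp [φ]⟩
  suffices h : J = RingHom.ker φ.toRingHom by
    rw [h]; exact RingHom.ker_isMaximal_of_surjective _ hφ
  have hle : J ≤ RingHom.ker φ.toRingHom := by
    rw [hJ, Ideal.map_le_iff_le_comap]
    intro b hb
    simp [φ, RingHom.mem_ker, Ideal.Quotient.eq_zero_iff_mem.2 hb]
  refine le_antisymm hle fun t ht => ?_
  have hmod : ∀ t, ∃ b : Localization.AtPrime q, t - b ⊗ₜ[A] (1 : AdicCompletion
      (maximalIdeal (Localization.AtPrime (q.under A))) (Localization.AtPrime (q.under A))) ∈ J := by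
    intro t
    induction t with
    | zero => exact ⟨0, by simp⟩
    | add x y hx hy =>
      obtain ⟨b, hb⟩ := hx
      obtain ⟨c, hc⟩ := hy
      refine ⟨b + c, ?_⟩
      rw [TensorProduct.add_tmul, add_sub_add_comm]
      exact add_mem hb hc
    | tmul b c =>
      obtain ⟨r, hr⟩ := Ideal.Quotient.mk_surjective (AdicCompletion.evalOneₐ
        (maximalIdeal (Localization.AtPrime (q.under A))) c)
      have hc : c - algebraMap _ _ r ∈ (maximalIdeal (Localization.AtPrime (q.under A))).map
          (algebraMap _ (AdicCompletion (maximalIdeal (Localization.AtPrime (q.under A))) (Localization.AtPrime (q.under A)))) := by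
        rw [← AdicCompletion.ker_evalOneₐ_eq_map _ (IsNoetherian.noetherian _), RingHom.mem_ker, map_sub,
          sub_eq_zero]
        exact hr.symm.trans ((AdicCompletion.evalOneₐ (maximalIdeal (Localization.AtPrime (q.under A)))).commutes r).symm
      have hJm : (maximalIdeal (Localization.AtPrime (q.under A))).map
          (algebraMap _ (AdicCompletion (maximalIdeal (Localization.AtPrime (q.under A))) (Localization.AtPrime (q.under A)))) ≤
          J.comap (Algebra.TensorProduct.includeRight : _ →ₐ[A] TensorProduct A (Localization.AtPrime q)
            (AdicCompletion (maximalIdeal (Localization.AtPrime (q.under A))) (Localization.AtPrime (q.under A)))).toRingHom := by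
        refine le_trans (le_of_eq (congrArg (Ideal.map _) Localization.AtPrime.map_eq_maximalIdeal.symm)) ?_
        rw [Ideal.map_map, Ideal.map_le_iff_le_comap, ← IsScalarTower.algebraMap_eq]
        intro a ha
        simp only [Ideal.mem_comap, AlgHom.toRingHom_eq_coe, RingHom.coe_coe,
          Algebra.TensorProduct.includeRight_apply]
        rw [← Algebra.TensorProduct.tmul_one_eq_one_tmul]
        refine Ideal.mem_map_of_mem _ ?_
        rw [IsScalarTower.algebraMap_apply A B, ← Localization.AtPrime.map_eq_maximalIdeal]
        exact Ideal.mem_map_of_mem _ ha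
      obtain ⟨⟨a, s⟩, hs⟩ := IsLocalization.surj (q.under A).primeCompl r
      obtain ⟨w, hw⟩ := isUnit_iff_exists_inv.1 (hfac s s.2)
      refine ⟨b * (algebraMap A (Localization.AtPrime q) a * w), ?_⟩
      have h1 : (1 : Localization.AtPrime q) ⊗ₜ[A] (algebraMap _ (AdicCompletion
          (maximalIdeal (Localization.AtPrime (q.under A))) (Localization.AtPrime (q.under A))) r) =
          (algebraMap A (Localization.AtPrime q) a * w) ⊗ₜ[A] 1 := by
        have h2 := congrArg (algebraMap _ (AdicCompletion
          (maximalIdeal (Localization.AtPrime (q.under A))) (Localization.AtPrime (q.under A)))) hs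
        rw [map_mul, ← IsScalarTower.algebraMap_apply, ← IsScalarTower.algebraMap_apply, mul_comm,
          ← Algebra.smul_def, Algebra.algebraMap_eq_smul_one (R := A)] at h2
        conv_lhs => rw [← hw]
        rw [mul_comm, ← Algebra.commutes (s : A), ← Algebra.smul_def, TensorProduct.smul_tmul, h2,
          ← TensorProduct.smul_tmul, Algebra.smul_def]
      have h3 : b ⊗ₜ[A] c - (b * (algebraMap A (Localization.AtPrime q) a * w)) ⊗ₜ[A] 1 =
          b ⊗ₜ[A] 1 * ((1 : Localization.AtPrime q) ⊗ₜ[A] (c - algebraMap _ _ r)) := by
        rw [TensorProduct.tmul_sub, h1, mul_sub, Algebra.TensorProduct.tmul_mul_tmul,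
          Algebra.TensorProduct.tmul_mul_tmul, mul_one, one_mul, one_mul]
      rw [h3]
      exact Ideal.mul_mem_left _ _ (hJm hc)
  obtain ⟨b, hb⟩ := hmod t
  have h := hle hb
  rw [RingHom.mem_ker, map_sub, RingHom.mem_ker.1 ht, zero_sub, neg_eq_zero] at h
  have hbm : b ∈ maximalIdeal (Localization.AtPrime q) := by
    simpa [φ, Ideal.Quotient.eq_zero_iff_mem] using h
  rw [← sub_add_cancel t (b ⊗ₜ 1)]
  exact add_mem hb (Ideal.mem_map_of_mem _ hbm)

end Groth.Agent.S19475
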