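import Groth.Statements.S19476
import Groth.Agent.SeesawX.Glue
import Groth.Agent.H23.SeesawGlobal

set_option autoImplicit false
universe u
open CategoryTheory CategoryTheory.Limits AlgebraicGeometry
open PicF

namespace Groth.Agent.S19476

/-- Let S be a locally Noetherian scheme, f : X → S flat and proper with integral geometric fibres, and
L a line bundle on X (a locally free module of rank 1). Then there is a closed subscheme Z ⊆ S with
the following universal property among locally Noetherian S-schemes: a morphism u : T → S with T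
locally Noetherian factors through Z if and only if the pullback of L to X ×_S T is isomorphic to
the pullback along the projection X ×_S T → T of some line bundle on T, i.e. is trivial relative to
T. (Only the existence of such a closed subscheme is asserted.) -/
theorem result {X S : Scheme.{u}} (f : X ⟶ S)
    [IsProper f] [Flat f] [GeometricallyIntegral f] [IsLocallyNoetherian S]
    (L : X.Modules) (hL : FlatMod.IsFinLocFreeOfRank 1 L) :
    ∃ (Z : Scheme.{u}) (ι : Z ⟶ S), IsClosedImmersion ι ∧
      ∀ (T : Scheme.{u}) (u : T ⟶ S), IsLocallyNoetherian T →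
        ((∃ u' : T ⟶ Z, u' ≫ ι = u) ↔
          ∃ M : T.Modules, FlatMod.IsFinLocFreeOfRank 1 M ∧
            Nonempty ((Scheme.Modules.pullback (pullback.fst f u)).obj L ≅
              (Scheme.Modules.pullback (pullback.snd f u)).obj M)) := by
  haveI : LocallyOfFinitePresentation f := inferInstance
  have hinv : PicF.IsInvertible L := fun y => (hL y).elim fun U h =>
    ⟨U, h.1, h.2.elim fun i => ⟨i ≪≫ Groth.Agent.H23.DblAlg.freeOneIso _⟩⟩
  have hcf := Groth.Agent.H23.RigidApply.constFibres_of_geometricallyIntegral f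
  obtain ⟨Z, ι, hι, -, -, hu⟩ := Groth.Agent.SeesawX.exists_seesaw (f := f) (n := 1)
    (fun T XT g fT gT h W => Groth.Agent.SeesawX.bijective_app_baseChange f hcf h W) hL
    (Groth.Agent.H23.Seesaw.isFlatOver_of_isInvertible f hinv)
  have hrange : Set.range ι = {s : S | Groth.Agent.H23.SeesawGlobal.FieldTriv f L s} := by
    ext s
    rw [Groth.Agent.SeesawX.mem_range_iff_factor, hu (S.fromSpecResidueField s) _ _ (IsPullback.of_hasPullback f (S.fromSpecResidueField s)),
      Set.mem_ofPred_eq, Groth.Agent.H23.SeesawGlobal.fieldTriv_iff_residueField]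
    constructor
    · rintro ⟨M, hM, ⟨e⟩⟩
      obtain ⟨n, ⟨e'⟩⟩ := Groth.Agent.SeesawX.exists_free_iso_of_field (M := M) fun x => (hM x).elim fun U h => ⟨U, 1, h⟩
      obtain rfl : n = 1 := Groth.Agent.SeesawX.rank_unique (IsLocalRing.closedPoint (S.residueField s))
        ((Groth.Agent.ConsPropLib.isFinLocFreeOfRank_iso e').2 fun _ => ⟨⊤, trivial, ⟨Groth.Agent.QCoh.freeModRestrict _ _⟩⟩) hM
      exact ⟨e ≪≫ (Scheme.Modules.pullback _).mapIso e' ≪≫ Groth.Agent.SeesawX.freePullIso _ 1 ≪≫
        Groth.Agent.H23.DblAlg.freeOneIso _⟩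
    · rintro ⟨e⟩
      exact ⟨FlatMod.freeMod _ 1, fun _ => ⟨⊤, trivial, ⟨Groth.Agent.QCoh.freeModRestrict _ _⟩⟩,
        ⟨e ≪≫ (Groth.Agent.H23.DblAlg.freeOneIso _).symm ≪≫ (Groth.Agent.SeesawX.freePullIso _ 1).symm⟩⟩
  haveI := hι
  refine ⟨Z, ι, IsClosedImmersion.of_isPreimmersion ι ?_, fun T u _ => hu u _ _ (IsPullback.of_hasPullback f u)⟩
  rw [hrange]
  exact Groth.Agent.H23.SeesawGlobal.isClosed_fieldTriv (f := f) (L := L) hinv

end Groth.Agent.S19476
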