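import Groth.Statements.S19477
-- import your own Groth.Agent.* helpers here

set_option autoImplicit false
set_option linter.style.haveILetI false
universe u
open Variety

namespace Groth.Agent.S19477

theorem finiteDimensional_of_isAlgebraic {K F : Type u} [Field K] [Field F] [Algebra K F]
    [Algebra.EssFiniteType K F] (E : IntermediateField K F) [Algebra.IsAlgebraic K E] :
    FiniteDimensional K E := by
  classical
  obtain ⟨ι, x, hx⟩ := exists_isTranscendenceBasis' K F
  let L₀ := IntermediateField.adjoin K (Set.range x)
  haveI : Algebra.IsAlgebraic L₀ F := hx.isAlgebraic_field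
  haveI : Algebra.EssFiniteType L₀ F := Algebra.EssFiniteType.of_comp K L₀ F
  haveI : FiniteDimensional L₀ F := by
    obtain ⟨s, hs⟩ := IntermediateField.fg_top L₀ F
    haveI : FiniteDimensional L₀ (IntermediateField.adjoin L₀ (s : Set F)) :=
      IntermediateField.finiteDimensional_adjoin fun y _ => (Algebra.IsAlgebraic.isAlgebraic y).isIntegral
    rw [hs] at this
    exact IntermediateField.topEquiv.toLinearEquiv.finiteDimensional
  let b := Module.Free.chooseBasis K E
  have hind : AlgebraicIndependent E x := hx.1.extendScalars E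
  have hli : LinearIndependent L₀ (fun i => ((b i : E) : F)) := by
    rw [linearIndependent_iff']
    intro s c hsum i hi
    choose r q hrq using fun j => (IntermediateField.mem_adjoin_range_iff (F := K) x (c j : F)).mp (c j).2
    let D : MvPolynomial ι K := ∏ j ∈ s.filter (fun j => c j ≠ 0), q j
    have hq0 : ∀ j, c j ≠ 0 → MvPolynomial.aeval x (q j) ≠ 0 := fun j hj h0 => hj <| by
      apply Subtype.ext
      rw [hrq j, h0, div_zero]
      rfl
    let p : _ → MvPolynomial ι K := fun j =>
      if c j ≠ 0 then r j * ∏ l ∈ (s.filter (fun j => c j ≠ 0)).erase j, q l else 0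
    have hp : ∀ j ∈ s, MvPolynomial.aeval x (p j) = (c j : F) * MvPolynomial.aeval x D := fun j hj => by
      simp only [p]
      split_ifs with h
      · have hmem : j ∈ s.filter (fun j => c j ≠ 0) := Finset.mem_filter.mpr ⟨hj, h⟩
        have hD : D = q j * ∏ l ∈ (s.filter (fun j => c j ≠ 0)).erase j, q l :=
          (Finset.mul_prod_erase _ _ hmem).symm
        rw [hD, map_mul, map_mul, hrq j, ← mul_assoc, div_mul_cancel₀ _ (hq0 j h)]
      · push Not at h
        simp [h]
    let P : MvPolynomial ι E := ∑ j ∈ s, MvPolynomial.C (b j) * MvPolynomial.map (algebraMap K E) (p j)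
    have hP : MvPolynomial.aeval x P = (0 : F) := by
      have h1 : ∀ j ∈ s, MvPolynomial.aeval x
          (MvPolynomial.C (b j) * MvPolynomial.map (algebraMap K E) (p j)) =
            MvPolynomial.aeval x D * ((c j : F) * (b j : F)) := fun j hj => by
        rw [map_mul, MvPolynomial.aeval_C, MvPolynomial.aeval_map_algebraMap, hp j hj]
        show (b j : F) * _ = _
        ring
      simp only [P, map_sum]
      rw [Finset.sum_congr rfl h1, ← Finset.mul_sum]
      have h2 : ∑ j ∈ s, (c j : F) * (b j : F) = 0 := hsum
      rw [h2, mul_zero]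
    have hP0 : P = 0 := hind.eq_zero_of_aeval_eq_zero P hP
    have hpi : p i = 0 := by
      ext m
      have h := congrArg (MvPolynomial.coeff m) hP0
      simp only [P, MvPolynomial.coeff_sum, MvPolynomial.coeff_C_mul, MvPolynomial.coeff_map,
        MvPolynomial.coeff_zero] at h
      have h' : ∑ j ∈ s, (p j).coeff m • b j = 0 := by
        rw [← h]
        refine Finset.sum_congr rfl fun j _ => ?_
        rw [Algebra.smul_def, mul_comm]
      simpa using linearIndependent_iff'.mp b.linearIndependent s _ h' i hi
    by_contra hci
    have h3 := hp i hi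
    rw [hpi, map_zero, eq_comm, mul_eq_zero] at h3
    rcases h3 with h3 | h3
    · exact hci (Subtype.ext h3)
    · simp only [D, map_prod, Finset.prod_eq_zero_iff, Finset.mem_filter] at h3
      obtain ⟨j, ⟨-, hj⟩, hj0⟩ := h3
      exact hq0 j hj hj0
  haveI := hli.finite
  exact Module.Finite.of_basis b


/-- Let K be a field, B an integral K-algebra of finite type with fraction field F, and L a Galois
extension of K with group Γ = Aut_K(L). Then F ⊗_K L has only finitely many prime ideals and Γ,
acting through the second factor, permutes them transitively: for prime ideals P, Q there is γ ∈ Γ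
with Q the preimage of P under id ⊗ γ. (The published statement is the geometric one, that the
points of an algebraic K-scheme X correspond to the Γ-orbits of points of X_L and that these orbits
are finite; it reduces to this algebraic statement by passing to the fibre over a point, and the
algebraic statement is what is proved.) -/
theorem result (K B L : Type u) [Field K]
    [CommRing B] [IsDomain B] [Algebra K B] [Algebra.FiniteType K B] [Field L] [Algebra K L] [IsGalois K L] :
    Finite (PrimeSpectrum (TensorProduct K (FractionRing B) L)) ∧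
      ∀ P Q : PrimeSpectrum (TensorProduct K (FractionRing B) L), ∃ γ : L ≃ₐ[K] L,
        Q.asIdeal = P.asIdeal.comap
          (Algebra.TensorProduct.map (AlgHom.id K (FractionRing B)) (γ : L →ₐ[K] L)) := by
  classical
  let F := FractionRing B
  let Ω := AlgebraicClosure (FractionRing B)
  haveI : Algebra.EssFiniteType K (FractionRing B) :=
    haveI := Algebra.EssFiniteType.of_isLocalization (R := B) (FractionRing B) (nonZeroDivisors B)
    Algebra.EssFiniteType.comp K B _
  let lift : (L →ₐ[K] Ω) → (TensorProduct K (FractionRing B) L →ₐ[FractionRing B] Ω) := fun σ =>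
    Algebra.TensorProduct.lift (Algebra.ofId (FractionRing B) Ω) σ fun _ _ => Commute.all _ _
  have hlift : ∀ σ f l, lift σ (f ⊗ₜ[K] l) = algebraMap (FractionRing B) Ω f * σ l := fun σ f l => by
    simp [lift, Algebra.TensorProduct.lift_tmul]
  let ker : (L →ₐ[K] Ω) → PrimeSpectrum (TensorProduct K (FractionRing B) L) := fun σ =>
    ⟨RingHom.ker (lift σ), RingHom.ker_isPrime _⟩
  -- every prime is the kernel of some `σ`
  have hsurj : ∀ P, ∃ σ, ker σ = P := fun P => by
    haveI : Algebra.IsIntegral (FractionRing B) (TensorProduct K (FractionRing B) L) := inferInstance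
    haveI : Algebra.IsIntegral (FractionRing B) (TensorProduct K (FractionRing B) L ⧸ P.asIdeal) :=
      Algebra.IsIntegral.of_surjective (Ideal.Quotient.mkₐ (FractionRing B) P.asIdeal)
        Ideal.Quotient.mk_surjective
    haveI : IsDomain (TensorProduct K (FractionRing B) L ⧸ P.asIdeal) := Ideal.Quotient.isDomain _
    haveI : Algebra.IsAlgebraic (FractionRing B) (TensorProduct K (FractionRing B) L ⧸ P.asIdeal) :=
      Algebra.IsIntegral.isAlgebraic
    let e : (TensorProduct K (FractionRing B) L ⧸ P.asIdeal) →ₐ[FractionRing B] Ω :=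
      IsAlgClosed.lift (R := FractionRing B) (S := TensorProduct K (FractionRing B) L ⧸ P.asIdeal) (M := Ω)
    let φ := e.comp (Ideal.Quotient.mkₐ (FractionRing B) P.asIdeal)
    refine ⟨(φ.restrictScalars K).comp Algebra.TensorProduct.includeRight, PrimeSpectrum.ext ?_⟩
    have hφ : lift ((φ.restrictScalars K).comp Algebra.TensorProduct.includeRight) = φ := by
      refine Algebra.TensorProduct.ext' fun f l => ?_
      rw [hlift]
      show _ * φ (1 ⊗ₜ[K] l) = _
      rw [← φ.commutes, ← map_mul, Algebra.TensorProduct.algebraMap_apply,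
        Algebra.TensorProduct.tmul_mul_tmul, mul_one, one_mul]
      rfl
    show RingHom.ker (lift _) = _
    rw [hφ]
    haveI : P.asIdeal.IsMaximal := (Ideal.Quotient.maximal_ideal_iff_isField_quotient P.asIdeal).mpr
      (isField_of_isIntegral_of_isField' (R := FractionRing B)
        (S := TensorProduct K (FractionRing B) L ⧸ P.asIdeal) (Field.toIsField (FractionRing B)))
    refine (Ideal.IsMaximal.eq_of_le ‹P.asIdeal.IsMaximal› (RingHom.ker_ne_top φ) fun z hz => ?_).symm
    show e (Ideal.Quotient.mk P.asIdeal z) = 0
    rw [Ideal.Quotient.eq_zero_iff_mem.mpr hz, map_zero]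
  -- any two homomorphisms differ by a Galois element
  have hgal : ∀ σ τ : L →ₐ[K] Ω, ∃ γ : L ≃ₐ[K] L, τ = σ.comp (γ : L →ₐ[K] L) := fun σ τ => by
    have hmem : ∀ l : L, τ l ∈ σ.fieldRange := fun l => by
      have h1 : τ l ∈ (minpoly K l).rootSet Ω := by
        rw [Polynomial.mem_rootSet]
        exact ⟨minpoly.ne_zero (Algebra.IsIntegral.isIntegral l), by
          rw [Polynomial.aeval_algHom_apply, minpoly.aeval, map_zero]⟩
      rw [← (Normal.splits (inferInstance : Normal K L) l).image_rootSet σ] at h1
      obtain ⟨y, -, hy⟩ := h1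
      exact ⟨y, hy⟩
    let γ₀ : L →ₐ[K] L :=
      (AlgEquiv.ofInjective σ σ.injective).symm.toAlgHom.comp (τ.codRestrict σ.range hmem)
    refine ⟨AlgEquiv.ofBijective γ₀ (Algebra.IsAlgebraic.algHom_bijective γ₀), AlgHom.ext fun l => ?_⟩
    show τ l = σ ((AlgEquiv.ofInjective σ σ.injective).symm (τ.codRestrict σ.range hmem l))
    exact (congrArg Subtype.val ((AlgEquiv.ofInjective σ σ.injective).apply_symm_apply
      (τ.codRestrict σ.range hmem l))).symm
  have hcomap : ∀ (σ : L →ₐ[K] Ω) (γ : L ≃ₐ[K] L), (ker (σ.comp (γ : L →ₐ[K] L))).asIdeal =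
      (ker σ).asIdeal.comap (Algebra.TensorProduct.map (AlgHom.id K (FractionRing B)) (γ : L →ₐ[K] L)) :=
    fun σ γ => by
    have h : ((lift σ).restrictScalars K).comp
        (Algebra.TensorProduct.map (AlgHom.id K (FractionRing B)) (γ : L →ₐ[K] L)) =
        (lift (σ.comp (γ : L →ₐ[K] L))).restrictScalars K :=
      Algebra.TensorProduct.ext' fun f l => by
        show lift σ (f ⊗ₜ[K] γ l) = lift (σ.comp (γ : L →ₐ[K] L)) (f ⊗ₜ[K] l)
        rw [hlift, hlift]
        rfl
    ext z
    have hz := DFunLike.congr_fun h z
    show lift (σ.comp (γ : L →ₐ[K] L)) z = 0 ↔ lift σ _ = 0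
    rw [show lift (σ.comp (γ : L →ₐ[K] L)) z = lift σ _ from hz.symm]
    exact Iff.rfl
  refine ⟨?_, fun P Q => ?_⟩
  swap
  · obtain ⟨σ, rfl⟩ := hsurj P
    obtain ⟨τ, rfl⟩ := hsurj Q
    obtain ⟨γ, rfl⟩ := hgal σ τ
    exact ⟨γ, hcomap σ γ⟩
  -- finiteness
  let σ₀ : L →ₐ[K] Ω := IsAlgClosed.lift
  let ιF : FractionRing B →ₐ[K] Ω := IsScalarTower.toAlgHom K (FractionRing B) Ω
  let M : IntermediateField K L := ιF.fieldRange.comap σ₀
  have hM : ∀ m : M, ∃ f : FractionRing B, algebraMap (FractionRing B) Ω f = σ₀ (m : L) := fun m => m.2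
  haveI : Algebra.IsSeparable M L := Algebra.isSeparable_tower_top_of_isSeparable K M L
  haveI hMfin : FiniteDimensional K M := by
    choose j hj using hM
    let jA : M →ₐ[K] FractionRing B :=
      AlgHom.ofLinearMap
        { toFun := j
          map_add' := fun a b => (algebraMap (FractionRing B) Ω).injective (by simp [hj])
          map_smul' := fun c a => (algebraMap (FractionRing B) Ω).injective (by
            simp [hj, Algebra.smul_def, ← IsScalarTower.algebraMap_apply]) }
        ((algebraMap (FractionRing B) Ω).injective (by simp [hj]))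
        (fun a b => (algebraMap (FractionRing B) Ω).injective (by simp [hj]))
    haveI : Algebra.IsAlgebraic K M := Algebra.IsAlgebraic.tower_bot K M L
    haveI : Algebra.IsAlgebraic K jA.fieldRange := by
      refine ⟨fun y => ?_⟩
      obtain ⟨m, hm⟩ := y.2
      have h1 : IsAlgebraic K (y : FractionRing B) :=
        hm ▸ (Algebra.IsAlgebraic.isAlgebraic m).algHom jA
      exact (isAlgebraic_algHom_iff jA.fieldRange.val Subtype.val_injective).mp h1
    haveI := finiteDimensional_of_isAlgebraic jA.fieldRange
    exact Module.Finite.of_injective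
      ((jA.toLinearMap).codRestrict jA.fieldRange.toSubmodule fun m => ⟨m, rfl⟩)
      fun a b h => jA.injective (congrArg Subtype.val h)
  -- key: the kernel depends only on the restriction to `M`
  have hkey : ∀ ρ : L ≃ₐ[K] L, (∀ m : M, ρ m = m) → ker (σ₀.comp (ρ : L →ₐ[K] L)) = ker σ₀ := by
    intro ρ hρ
    let σM : M →+* FractionRing B := RingHom.comp
      (RingHom.id _) <| Classical.choose
        (show ∃ j : M →+* FractionRing B, ∀ m, algebraMap (FractionRing B) Ω (j m) = σ₀ (m : L) by
          choose j hj using hM
          exact ⟨{ toFun := j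
                   map_one' := (algebraMap (FractionRing B) Ω).injective (by simp [hj])
                   map_mul' := fun a b => (algebraMap (FractionRing B) Ω).injective (by simp [hj])
                   map_zero' := (algebraMap (FractionRing B) Ω).injective (by simp [hj])
                   map_add' := fun a b => (algebraMap (FractionRing B) Ω).injective (by simp [hj]) }, hj⟩)
    have hσM : ∀ m : M, algebraMap (FractionRing B) Ω (σM m) = σ₀ (m : L) := Classical.choose_spec
      (p := fun j : M →+* FractionRing B => ∀ m, algebraMap (FractionRing B) Ω (j m) = σ₀ (m : L)) _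
    let ρ' : L →ₐ[M] L := { (ρ : L →+* L) with commutes' := hρ }
    -- every element is a polynomial in one element, with coefficients in the fraction field
    have hpoly : ∀ z : TensorProduct K (FractionRing B) L, ∃ s : Finset L,
        ∀ w : L, (∀ l ∈ s, l ∈ Algebra.adjoin M {w}) →
          ∃ Q : Polynomial (FractionRing B), lift σ₀ z = Polynomial.aeval (σ₀ w) Q ∧
            lift (σ₀.comp (ρ : L →ₐ[K] L)) z = Polynomial.aeval (σ₀ (ρ w)) Q := by
      intro z
      induction z using TensorProduct.induction_on with
      | zero => exact ⟨∅, fun w _ => ⟨0, by simp, by simp⟩⟩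
      | tmul f l =>
        refine ⟨{l}, fun w hw => ?_⟩
        obtain ⟨q, hq⟩ := (Algebra.adjoin_singleton_eq_range_aeval M w).le (hw l (Finset.mem_singleton_self l))
        refine ⟨Polynomial.C f * q.map σM, ?_, ?_⟩
        · rw [hlift, map_mul, Polynomial.aeval_C]
          congr 1
          rw [← hq, Polynomial.aeval_def, Polynomial.eval₂_map]
          show σ₀.toRingHom (Polynomial.aeval w q) = _
          rw [Polynomial.aeval_def, Polynomial.hom_eval₂]
          congr 1
          exact RingHom.ext fun m => (hσM m).symm
        · rw [hlift, map_mul, Polynomial.aeval_C]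
          congr 1
          show σ₀ (ρ l) = _
          rw [← hq, Polynomial.aeval_def (σ₀ (ρ w)), Polynomial.eval₂_map]
          show σ₀.toRingHom (ρ' (Polynomial.aeval w q)) = _
          rw [← Polynomial.aeval_algHom_apply, Polynomial.aeval_def, Polynomial.hom_eval₂]
          congr 1
          exact RingHom.ext fun m => (hσM m).symm
      | add z z' hz hz' =>
        obtain ⟨s, hs⟩ := hz
        obtain ⟨s', hs'⟩ := hz'
        refine ⟨s ∪ s', fun w hw => ?_⟩
        obtain ⟨Q, h1, h2⟩ := hs w fun l hl => hw l (Finset.mem_union_left _ hl)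
        obtain ⟨Q', h1', h2'⟩ := hs' w fun l hl => hw l (Finset.mem_union_right _ hl)
        exact ⟨Q + Q', by rw [map_add, map_add, h1, h1'], by rw [map_add, map_add, h2, h2']⟩
    -- minimal polynomials over the fraction field come from `M`
    have hroot : ∀ (w : L) (Q : Polynomial (FractionRing B)),
        Polynomial.aeval (σ₀ w) Q = 0 ↔ Polynomial.aeval (σ₀ (ρ w)) Q = 0 := by
      intro w Q
      have hw : IsIntegral M w := Algebra.IsIntegral.isIntegral w
      have haev : ∀ y : L, Polynomial.aeval (σ₀ y) ((minpoly M w).map σM) =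
          σ₀ (Polynomial.aeval y (minpoly M w)) := fun y => by
        rw [Polynomial.aeval_def, Polynomial.eval₂_map]
        show _ = σ₀.toRingHom _
        rw [Polynomial.aeval_def, Polynomial.hom_eval₂]
        congr 1
        exact RingHom.ext fun m => hσM m
      have hmin : minpoly (FractionRing B) (σ₀ w) = (minpoly M w).map σM := by
        have hint : IsIntegral (FractionRing B) (σ₀ w) := ⟨(minpoly M w).map σM, (minpoly.monic hw).map _, by
          have h0 := haev w
          rw [minpoly.aeval, map_zero] at h0
          exact h0⟩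
        set g := minpoly (FractionRing B) (σ₀ w)
        -- the coefficients of `g` lie in the image of `M`
        let R₁ : Subfield Ω := σ₀.fieldRange.toSubfield
        have hcoeff : ∀ n, algebraMap (FractionRing B) Ω (g.coeff n) ∈ R₁ := by
          intro n
          have hdvd : g.map (algebraMap (FractionRing B) Ω) ∣
              ((minpoly K w).map (algebraMap K Ω)) := by
            have h0 : Polynomial.aeval (σ₀ w) ((minpoly K w).map (algebraMap K (FractionRing B))) = 0 := by
              rw [Polynomial.aeval_map_algebraMap, Polynomial.aeval_algHom_apply, minpoly.aeval, map_zero]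
            have := Polynomial.map_dvd (algebraMap (FractionRing B) Ω) (minpoly.dvd _ _ h0)
            rwa [Polynomial.map_map, ← IsScalarTower.algebraMap_eq] at this
          have hspl := (Normal.splits (inferInstance : Normal K L) w)
          have e1 : (minpoly K w).map (algebraMap K Ω) =
              ((minpoly K w).map (algebraMap K L)).map σ₀.toRingHom := by
            rw [Polynomial.map_map]
            congr 1
            exact RingHom.ext fun c => (σ₀.commutes c).symm
          have hlifts : g.map (algebraMap (FractionRing B) Ω) ∈ Polynomial.lifts σ₀.toRingHom := by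
            have hs : ((g.map (algebraMap (FractionRing B) Ω))).Splits :=
              IsAlgClosed.splits _
            rw [hs.eq_prod_roots_of_monic ((minpoly.monic hint).map _)]
            refine Subsemiring.multiset_prod_mem _ _ fun q hq => ?_
            obtain ⟨r, hr, rfl⟩ := Multiset.mem_map.mp hq
            have hr' : r ∈ ((minpoly K w).map (algebraMap K Ω)).roots :=
              Multiset.mem_of_le (Polynomial.roots.le_of_dvd
                (Polynomial.map_ne_zero (minpoly.ne_zero (Algebra.IsIntegral.isIntegral w))) hdvd) hr
            rw [e1, hspl.roots_map_of_injective σ₀.toRingHom.injective] at hr'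
            obtain ⟨r₀, -, rfl⟩ := Multiset.mem_map.mp hr'
            exact ⟨Polynomial.X - Polynomial.C r₀, by simp⟩
          obtain ⟨y, hy⟩ := (Polynomial.lifts_iff_coeff_lifts _).mp hlifts n
          rw [Polynomial.coeff_map] at hy
          exact ⟨y, hy⟩
        -- descend `g` to `M`
        have hdesc : g ∈ Polynomial.lifts σM := by
          rw [Polynomial.lifts_iff_coeff_lifts]
          intro n
          obtain ⟨y, hy⟩ := hcoeff n
          have hy' : σ₀ y = algebraMap (FractionRing B) Ω (g.coeff n) := hy
          exact ⟨⟨y, ⟨g.coeff n, hy'.symm⟩⟩, (algebraMap (FractionRing B) Ω).injective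
            ((hσM _).trans hy')⟩
        obtain ⟨g₀, hg₀, hdeg, hmon⟩ :=
          Polynomial.lifts_and_degree_eq_and_monic hdesc (minpoly.monic hint)
        have hz : Polynomial.aeval w g₀ = 0 := σ₀.injective (by
          rw [map_zero]
          show σ₀.toRingHom (Polynomial.aeval w g₀) = 0
          have h0 : Polynomial.aeval (σ₀ w) g = 0 := minpoly.aeval _ _
          rw [← hg₀, Polynomial.aeval_def, Polynomial.eval₂_map] at h0
          rw [Polynomial.aeval_def, Polynomial.hom_eval₂, ← h0]
          congr 1
          exact RingHom.ext fun m => (hσM m).symm)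
        have hle : (minpoly M w).degree ≤ g.degree := hdeg ▸ minpoly.min M w hmon hz
        have hge : g ∣ (minpoly M w).map σM := minpoly.dvd _ _ (by
          rw [haev, minpoly.aeval, map_zero])
        refine (Polynomial.eq_of_monic_of_dvd_of_natDegree_le (minpoly.monic hint)
          ((minpoly.monic hw).map _) hge ?_).symm
        rw [Polynomial.natDegree_map]
        exact Polynomial.natDegree_le_natDegree hle
      have h' : minpoly (FractionRing B) (σ₀ (ρ w)) = minpoly (FractionRing B) (σ₀ w) := by
        refine (minpoly.eq_of_irreducible_of_monic (minpoly.irreducible ?_) ?_ (minpoly.monic ?_)).symm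
        · exact Algebra.IsIntegral.isIntegral _
        · rw [hmin, haev]
          show σ₀ (Polynomial.aeval (ρ' w) (minpoly M w)) = 0
          rw [Polynomial.aeval_algHom_apply, minpoly.aeval, map_zero, map_zero]
        · exact Algebra.IsIntegral.isIntegral _
      rw [← minpoly.dvd_iff, ← minpoly.dvd_iff, h']
    refine PrimeSpectrum.ext (Ideal.ext fun z => ?_)
    obtain ⟨s, hs⟩ := hpoly z
    haveI : FiniteDimensional M (IntermediateField.adjoin M (s : Set L)) :=
      IntermediateField.finiteDimensional_adjoin fun y _ => Algebra.IsIntegral.isIntegral y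
    obtain ⟨w, hw⟩ := Field.exists_primitive_element M (IntermediateField.adjoin M (s : Set L))
    have hw' : ∀ l ∈ s, l ∈ Algebra.adjoin M {(w : L)} := fun l hl => by
      have h2 : l ∈ IntermediateField.adjoin M {(w : L)} := by
        have h3 := congrArg (IntermediateField.lift) hw
        rw [IntermediateField.lift_adjoin_simple, IntermediateField.lift_top] at h3
        rw [h3]
        exact IntermediateField.subset_adjoin _ _ hl
      rwa [← IntermediateField.mem_toSubalgebra,
        IntermediateField.adjoin_simple_toSubalgebra_of_isAlgebraic (Algebra.IsAlgebraic.isAlgebraic _)] at h2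
    obtain ⟨Q, h1, h2⟩ := hs w hw'
    show lift (σ₀.comp (ρ : L →ₐ[K] L)) z = 0 ↔ lift σ₀ z = 0
    rw [h1, h2]
    exact (hroot _ Q).symm
  -- so there are finitely many primes
  have hfac : ∀ γ γ' : L ≃ₐ[K] L, (∀ m : M, γ.symm m = γ'.symm m) →
      ker (σ₀.comp (γ : L →ₐ[K] L)) = ker (σ₀.comp (γ' : L →ₐ[K] L)) := by
    intro γ γ' h
    have hρ : ∀ m : M, (γ.symm.trans γ') m = m := fun m => by
      simp [h m]
    have h1 : (σ₀.comp (γ' : L →ₐ[K] L)) =
        (σ₀.comp ((γ.symm.trans γ' : L ≃ₐ[K] L) : L →ₐ[K] L)).comp (γ : L →ₐ[K] L) :=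
      AlgHom.ext fun l => by simp
    refine PrimeSpectrum.ext ?_
    rw [h1, hcomap, hcomap, hkey _ hρ]
  let f : PrimeSpectrum (TensorProduct K (FractionRing B) L) → (M →ₐ[K] L) := fun P =>
    ((Classical.choose (hgal σ₀ (Classical.choose (hsurj P)))).symm : L →ₐ[K] L).comp M.val
  haveI : Finite (M →ₐ[K] L) := inferInstance
  refine Finite.of_injective f fun P Q hPQ => ?_
  rw [← Classical.choose_spec (hsurj P), ← Classical.choose_spec (hsurj Q),
    Classical.choose_spec (hgal σ₀ (Classical.choose (hsurj P))),
    Classical.choose_spec (hgal σ₀ (Classical.choose (hsurj Q)))]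
  exact hfac _ _ fun m => DFunLike.congr_fun hPQ m

end Groth.Agent.S19477
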