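import Groth.Statements.S19480
import Groth.Agent.Quiet5.SmoothFrob
import Groth.Agent.EGA41Lib.RegSeqPow
import Mathlib.RingTheory.Regular.Flat
-- import your own Groth.Agent.* helpers here

set_option autoImplicit false
open CategoryTheory AlgebraicGeometry MvPolynomial
universe u
open Quiet

namespace Groth.Agent.S19480

theorem isRegular_map_faithfullyFlat {R S : Type*} [CommRing R] [CommRing S] (f : R →+* S) (hf : f.FaithfullyFlat)
    {rs : List R} (h : RingTheory.Sequence.IsRegular R rs) : RingTheory.Sequence.IsRegular S (rs.map f) := by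
  algebraize [f]
  haveI : Module.FaithfullyFlat R S := hf
  exact h.of_faithfullyFlat

/-- Let k be a perfect field of prime characteristic p, A a smooth k-algebra of characteristic p and
t_1, …, t_n a regular sequence in A, so that A₀ = A/(t_1^p, …, t_n^p) is a p-good algebra when A has
a system of parameters; let v_1, …, v_m ∈ A[Y_1, …, Y_r] have images forming a regular sequence in
A₀[Y_1, …, Y_r], and put B_0 = A[Y]/(t_1^p, …, t_n^p, v_1, …, v_m). Identify A^{1/p} with A as a
ring, so that u_i = t_i^p and the Frobenius x ↦ x^p of A[Y] carries the ideal (t_i^p, v_j) into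
(u_i^p, v_j^p) = (t_i^{p²}, v_j^p). Then: (ii) (t_1^{p²}, …, t_n^{p²}, v_1^p, …, v_m^p) is a regular
sequence in A[Y]; (iii) the induced ring map β : B_0 → B = A[Y]/(t_i^{p²}, v_j^p) is faithfully flat
and Spec β is an extraction of p-th roots, i.e. every point of Spec B_0 has an affine open
neighbourhood with affine preimage over which the ring map is a tower of finitely many elementary
extractions R → R[x]/(x^p − a). (The published statement also assumes B_0 faithfully flat and
syntomic over A₀ and A good; these are not used for (ii) and (iii) and are not assumed here. The v_j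
are taken in A[Y] rather than in A₀[Y], which is how their p-th powers in A^{1/p}[Y] are meant.) -/
theorem result (p : ℕ) [Fact p.Prime]
    (k : Type u) [Field k] [CharP k p] [PerfectRing k p] (A : Type u) [CommRing A] [Algebra k A]
    [CharP A p] [Algebra.Smooth k A] (n : ℕ) (t : Fin n → A) (ht : RingTheory.Sequence.IsRegular A (List.ofFn t))
    (r m : ℕ) (v : Fin m → MvPolynomial (Fin r) A)
    (hv : RingTheory.Sequence.IsRegular
      (MvPolynomial (Fin r) A ⧸ Ideal.span (Set.range fun i => C (t i) ^ p))
      (List.ofFn fun j => Ideal.Quotient.mk (Ideal.span (Set.range fun i => C (t i) ^ p)) (v j))) :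
    RingTheory.Sequence.IsRegular (MvPolynomial (Fin r) A)
        (List.ofFn (fun i => C (t i) ^ (p ^ 2)) ++ List.ofFn (fun j => v j ^ p)) ∧
      (Ideal.quotientMap ((Ideal.span (Set.range (fun i => C (t i) ^ p) ∪ Set.range v)).map (frobenius (MvPolynomial (Fin r) A) p)) (frobenius (MvPolynomial (Fin r) A) p) Ideal.le_comap_map).FaithfullyFlat ∧
      Quiet.IsPthRoot p (Spec.map (CommRingCat.ofHom (Ideal.quotientMap ((Ideal.span (Set.range (fun i => C (t i) ^ p) ∪ Set.range v)).map (frobenius (MvPolynomial (Fin r) A) p)) (frobenius (MvPolynomial (Fin r) A) p) Ideal.le_comap_map))) := by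
  have hp : p.Prime := Fact.out
  let P := MvPolynomial (Fin r) A
  haveI : Algebra.Smooth A P := ⟨inferInstance, inferInstance⟩
  haveI : Algebra.Smooth k P := Algebra.Smooth.comp k A P
  have hF := Quiet5.isPthRoot_frobenius_of_smooth hp (CharP.cast_eq_zero k p) (bijective_frobenius k p)
    (frobenius P p) (fun x => rfl)
  have hFF := Quiet5.faithfullyFlat_of_isPthRoot hp.ne_zero (CommRingCat.ofHom (frobenius P p)) hF
    (Quiet5.surjective_SpecMap_of_pow hp.ne_zero _ fun x => rfl)
  refine ⟨?_, ?_⟩
  · -- the regular sequence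
    set I : Ideal P := Ideal.span (Set.range fun i => C (t i) ^ p) with hI
    have h1 : RingTheory.Sequence.IsWeaklyRegular P (List.ofFn fun i => (C (t i) : P)) := by
      have := (ht.toIsWeaklyRegular).of_flat (S := P)
      rwa [List.map_ofFn] at this
    have h2 : RingTheory.Sequence.IsWeaklyRegular P (List.ofFn fun i => (C (t i) : P) ^ p) :=
      EGA41Lib.isWeaklyRegular_pow n _ (fun _ => p) (fun _ => hp.pos) h1
    have hofl : Ideal.ofList (List.ofFn fun i => (C (t i) : P) ^ p) = I := by
      simp [Ideal.ofList, hI, List.mem_ofFn, Set.range]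
      rfl
    have h3 : RingTheory.Sequence.IsRegular P
        (List.ofFn (fun i => (C (t i) : P) ^ p) ++ List.ofFn v) := by
      refine ⟨(RingTheory.Sequence.isWeaklyRegular_append_iff P _ _).2 ⟨h2, ?_⟩, ?_⟩
      · rw [(Submodule.quotEquivOfEq (Ideal.ofList (List.ofFn fun i => (C (t i) : P) ^ p) • (⊤ : Submodule P P))
          I (by rw [hofl, smul_eq_mul, Ideal.mul_top])).isWeaklyRegular_congr,
          ← RingTheory.Sequence.isWeaklyRegular_map_algebraMap_iff (P ⧸ I), List.map_ofFn]
        exact hv.toIsWeaklyRegular
      · intro htop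
        refine hv.2 ?_
        rw [smul_eq_mul, Ideal.mul_top] at htop ⊢
        rw [show (List.ofFn fun j => Ideal.Quotient.mk I (v j)) = (List.ofFn v).map (Ideal.Quotient.mk I) by
          rw [List.map_ofFn]; rfl, ← Ideal.map_ofList]
        have h4 := congrArg (Ideal.map (Ideal.Quotient.mk I)) htop
        rw [Ideal.map_top, Ideal.ofList_append, Ideal.map_sup, hofl, Ideal.map_quotient_self, bot_sup_eq] at h4
        exact h4
    have h5 := isRegular_map_faithfullyFlat (frobenius P p) hFF h3
    rw [List.map_append, List.map_ofFn, List.map_ofFn] at h5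
    suffices e : (List.ofFn fun i => (C (t i) : P) ^ (p ^ 2)) ++ (List.ofFn fun j => v j ^ p) =
        List.ofFn (⇑(frobenius P p) ∘ fun i => (C (t i) : P) ^ p) ++ List.ofFn (⇑(frobenius P p) ∘ v) by
      rw [← e] at h5
      exact h5
    refine congrArg₂ (· ++ ·) (congrArg List.ofFn (funext fun i => ?_)) rfl
    show _ = frobenius P p (C (t i) ^ p)
    rw [frobenius_def, ← pow_mul, sq]
  · -- the quotient
    have h := (isPullback_SpecMap_of_isPushout _ _ _ _ (Quiet5.isPushout_quotientMap (frobenius P p)
      (Ideal.span (Set.range (fun i => C (t i) ^ p) ∪ Set.range v)))).flip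
    have hq := Quiet5.isPthRoot_of_isPullback h.flip hF
    refine ⟨Quiet5.faithfullyFlat_of_isPthRoot hp.ne_zero (CommRingCat.ofHom _) hq ?_, hq⟩
    exact MorphismProperty.of_isPullback (P := @Surjective) h.flip
      (Quiet5.surjective_SpecMap_of_pow hp.ne_zero _ fun x => rfl)

end Groth.Agent.S19480
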