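import Groth.Statements.S19485


set_option autoImplicit false
universe u
open Crimp

namespace Groth.Agent.S19485

/-- The criterion for closedness under multiplication on which the description of the stratum rests.
Over R = k⟦t⟧ with k an algebraically closed field of characteristic zero, let S̃ = k⟦x⟧ regarded as
an R-algebra through t ↦ x ^ 3, that is S̃ = R[x] / (x ^ 3 - t). Let m, n be natural numbers with m
not divisible by 3, and let g be a power series with nonzero constant term. Then the R-submodule of
S̃ spanned by 1 and x ^ m g together with the ideal x ^ n S̃ is closed under multiplication if and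
only if n ≤ 2m. (The published proposition goes on to describe the stratum of crimps with these
invariants as irreducible of dimension ⌊(n - m)/3⌋ with a normal form for g; only the closedness
criterion is stated here.) -/
theorem result {k : Type u} [Field k] [IsAlgClosed k] [CharZero k]
    (m n : ℕ) (hm : ¬ 3 ∣ m) (x g : W4c1hurwitzcpt.RootDisk 3 k)
    (hx : W4c1hurwitzcpt.RootDisk.val x = PowerSeries.X) (hg : PowerSeries.order (W4c1hurwitzcpt.RootDisk.val g) = 0)
    (M : Submodule (PowerSeries k) (W4c1hurwitzcpt.RootDisk 3 k))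
    (hM : M = Submodule.span (PowerSeries k) {1, x ^ m * g} ⊔
      (Ideal.span {x ^ n} : Ideal (W4c1hurwitzcpt.RootDisk 3 k)).restrictScalars (PowerSeries k)) :
    (∀ a ∈ M, ∀ b ∈ M, a * b ∈ M) ↔ n ≤ 2 * m := by
  subst hM
  have h1M : (1 : W4c1hurwitzcpt.RootDisk 3 k) ∈ Submodule.span (PowerSeries k) {1, x ^ m * g} ⊔
      (Ideal.span {x ^ n} : Ideal (W4c1hurwitzcpt.RootDisk 3 k)).restrictScalars (PowerSeries k) :=
    Submodule.mem_sup_left (Submodule.subset_span (Or.inl rfl))
  have huM : x ^ m * g ∈ Submodule.span (PowerSeries k) {1, x ^ m * g} ⊔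
      (Ideal.span {x ^ n} : Ideal (W4c1hurwitzcpt.RootDisk 3 k)).restrictScalars (PowerSeries k) :=
    Submodule.mem_sup_left (Submodule.subset_span (Or.inr rfl))
  constructor
  · intro h
    by_contra hlt
    obtain ⟨a, ha, b, hb, hab⟩ := Submodule.mem_sup.1 (h _ huM _ huM)
    obtain ⟨c, e, rfl⟩ := Submodule.mem_span_pair.1 ha
    obtain ⟨z, rfl⟩ := Ideal.mem_span_singleton.1 (hb : b ∈ Ideal.span {x ^ n})
    have h1 := congrArg W4c1hurwitzcpt.RootDisk.val hab
    simp only [Algebra.smul_def, map_add, map_mul, map_pow, hx, mul_one] at h1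
    set G := W4c1hurwitzcpt.RootDisk.val g
    set A := PowerSeries.expand 3 (NeZero.ne 3) c with hA
    set B := PowerSeries.expand 3 (NeZero.ne 3) e with hB
    change A + B * (PowerSeries.X ^ m * G) + PowerSeries.X ^ n * W4c1hurwitzcpt.RootDisk.val z = _ at h1
    have hord : (A + B * (PowerSeries.X ^ m * G)).order = ((2 * m : ℕ) : ℕ∞) := by
      rw [eq_sub_of_add_eq h1, sub_eq_add_neg, PowerSeries.order_add_of_order_ne]
      · rw [PowerSeries.order_neg, PowerSeries.order_mul, PowerSeries.order_mul, PowerSeries.order_mul,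
          PowerSeries.order_X_pow, PowerSeries.order_X_pow, hg, add_zero, min_eq_left, two_mul, Nat.cast_add]
        calc (m : ℕ∞) + m ≤ (n : ℕ∞) := by rw [← Nat.cast_add, Nat.cast_le]; omega
          _ ≤ _ := self_le_add_right _ _
      · rw [PowerSeries.order_neg, PowerSeries.order_mul, PowerSeries.order_mul, PowerSeries.order_mul,
          PowerSeries.order_X_pow, PowerSeries.order_X_pow, hg, add_zero]
        refine ne_of_lt (lt_of_lt_of_le ?_ (self_le_add_right _ _))
        rw [← Nat.cast_add, Nat.cast_lt]; omega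
    have hA' : A.order = 3 • c.order := PowerSeries.order_expand _ _ _
    have hB' : (B * (PowerSeries.X ^ m * G)).order = 3 • e.order + m := by
      rw [PowerSeries.order_mul, PowerSeries.order_mul, PowerSeries.order_X_pow, hg, add_zero,
        hB, PowerSeries.order_expand]
    have hs : ∀ q : ℕ, (3 : ℕ) • (q : ℕ∞) = ((3 * q : ℕ) : ℕ∞) := fun q => by rw [nsmul_eq_mul]; norm_cast
    have ht : (3 : ℕ) • (⊤ : ℕ∞) = ⊤ := by simp
    have hne : A.order ≠ (B * (PowerSeries.X ^ m * G)).order ∨ (A.order = ⊤ ∧ (B * (PowerSeries.X ^ m * G)).order = ⊤) := by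
      rw [hA', hB']
      cases hc : c.order with
      | top =>
        cases he : e.order with
        | top => exact Or.inr ⟨ht, by rw [ht]; simp⟩
        | coe q => left; rw [ht, hs, ← Nat.cast_add]; exact (ENat.natCast_ne_top _).symm
      | coe p =>
        left
        cases he : e.order with
        | top => rw [hs, ht, top_add]; exact ENat.natCast_ne_top _
        | coe q => rw [hs, hs, ← Nat.cast_add, Ne, Nat.cast_inj]; omega
    rcases hne with hne | ⟨htA, htB⟩
    · rw [PowerSeries.order_add_of_order_ne _ _ hne, hA', hB'] at hord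
      cases hc : c.order with
      | top =>
        cases he : e.order with
        | top => rw [hc, he, ht, top_add, min_self] at hord; exact ENat.natCast_ne_top _ hord.symm
        | coe q => rw [hc, he, ht, hs, ← Nat.cast_add, top_inf_eq, Nat.cast_inj] at hord; omega
      | coe p =>
        cases he : e.order with
        | top => rw [hc, he, ht, hs, top_add, inf_top_eq, Nat.cast_inj] at hord; omega
        | coe q =>
          rw [hc, he, hs, hs, ← Nat.cast_add] at hord
          rcases le_total (3 * p) (3 * q + m) with h' | h'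
          · rw [min_eq_left (Nat.cast_le.2 h'), Nat.cast_inj] at hord; omega
          · rw [min_eq_right (Nat.cast_le.2 h'), Nat.cast_inj] at hord; omega
    · rw [PowerSeries.order_eq_top] at htA htB
      rw [htA, htB, add_zero, PowerSeries.order_zero] at hord
      exact ENat.natCast_ne_top _ hord.symm
  · intro hn a ha b hb
    obtain ⟨a', ha', za, hza, rfl⟩ := Submodule.mem_sup.1 ha
    obtain ⟨b', hb', zb, hzb, rfl⟩ := Submodule.mem_sup.1 hb
    obtain ⟨c₁, c₂, rfl⟩ := Submodule.mem_span_pair.1 ha'
    obtain ⟨d₁, d₂, rfl⟩ := Submodule.mem_span_pair.1 hb'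
    have hI : ∀ z ∈ (Ideal.span {x ^ n} : Ideal (W4c1hurwitzcpt.RootDisk 3 k)),
        z ∈ Submodule.span (PowerSeries k) {1, x ^ m * g} ⊔
          (Ideal.span {x ^ n} : Ideal (W4c1hurwitzcpt.RootDisk 3 k)).restrictScalars (PowerSeries k) :=
      fun z hz => Submodule.mem_sup_right hz
    have husq : (x ^ m * g) * (x ^ m * g) ∈ (Ideal.span {x ^ n} : Ideal (W4c1hurwitzcpt.RootDisk 3 k)) := by
      rw [Ideal.mem_span_singleton, show x ^ m * g * (x ^ m * g) = x ^ (m + m) * (g * g) by ring]
      exact dvd_mul_of_dvd_left (pow_dvd_pow _ (by omega)) _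
    rw [add_mul]
    refine add_mem ?_ (hI _ (Ideal.mul_mem_right _ _ hza))
    rw [mul_add]
    refine add_mem ?_ (hI _ (Ideal.mul_mem_left _ _ hzb))
    simp only [add_mul, mul_add, smul_mul_assoc, mul_smul_comm, one_mul, mul_one, smul_smul, smul_add]
    exact add_mem (add_mem (Submodule.smul_mem _ _ h1M) (Submodule.smul_mem _ _ huM))
      (add_mem (Submodule.smul_mem _ _ huM) (Submodule.smul_mem _ _ (hI _ husq)))

end Groth.Agent.S19485
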