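import Groth.Statements.S19486


set_option autoImplicit false
universe u
open Crimp

namespace Groth.Agent.S19486

/-- The emptiness of the stratum rests on the following computation. Over R = k⟦t⟧ with k an
algebraically closed field of characteristic zero, let S̃ = S̃₁ × R where S̃₁ = k⟦x⟧ is regarded as
an R-algebra through t ↦ x ^ 2, that is S̃₁ = R[x] / (x ^ 2 - t), with R embedded diagonally in the
product. Let m be odd, n > 2m, and let g be a power series with nonzero constant term. Then the
R-submodule of S̃ spanned by 1 = (1, 1) and (x ^ m g, 0) together with the ideal x ^ n S̃₁ × 0 is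
not closed under multiplication. (The published item concludes that the corresponding stratum of
crimps is empty; only this computation is stated here, with the ideal read as x ^ n S̃₁ × 0.) -/
theorem result {k : Type u} [Field k] [IsAlgClosed k] [CharZero k]
    (m n : ℕ) (hm : Odd m) (hmn : 2 * m < n) (x g : W4c1hurwitzcpt.RootDisk 2 k)
    (hx : W4c1hurwitzcpt.RootDisk.val x = PowerSeries.X) (hg : PowerSeries.order (W4c1hurwitzcpt.RootDisk.val g) = 0)
    (M : Submodule (PowerSeries k) (W4c1hurwitzcpt.RootDisk 2 k × PowerSeries k))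
    (hM : M = Submodule.span (PowerSeries k) {(1 : W4c1hurwitzcpt.RootDisk 2 k × PowerSeries k), (x ^ m * g, 0)} ⊔
      ((Ideal.span {x ^ n} : Ideal (W4c1hurwitzcpt.RootDisk 2 k)).restrictScalars (PowerSeries k)).prod ⊥) :
    ∃ a ∈ M, ∃ b ∈ M, a * b ∉ M := by
  subst hM
  have hu : (x ^ m * g, (0 : PowerSeries k)) ∈ Submodule.span (PowerSeries k) {(1 : W4c1hurwitzcpt.RootDisk 2 k × PowerSeries k), (x ^ m * g, 0)} ⊔
      ((Ideal.span {x ^ n} : Ideal (W4c1hurwitzcpt.RootDisk 2 k)).restrictScalars (PowerSeries k)).prod ⊥ :=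
    Submodule.mem_sup_left (Submodule.subset_span (Or.inr rfl))
  refine ⟨_, hu, _, hu, fun h => ?_⟩
  obtain ⟨a, ha, b, hb, hab⟩ := Submodule.mem_sup.1 h
  obtain ⟨c, e, rfl⟩ := Submodule.mem_span_pair.1 ha
  obtain ⟨hb1, hb2⟩ := hb
  obtain ⟨z, hz⟩ := Ideal.mem_span_singleton.1 (hb1 : b.1 ∈ Ideal.span {x ^ n})
  have h2 := congrArg Prod.snd hab
  simp only [Prod.snd_add, Prod.smul_snd, Prod.snd_one, smul_eq_mul, mul_one, mul_zero, add_zero, Prod.snd_mul,
    (Submodule.mem_bot (PowerSeries k)).1 hb2] at h2
  have h1 := congrArg (fun q => W4c1hurwitzcpt.RootDisk.val (Prod.fst q)) hab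
  simp only [Prod.fst_add, Prod.smul_fst, Prod.fst_one, Prod.fst_mul, h2, zero_smul, zero_add, hz,
    Algebra.smul_def, Prod.algebraMap_apply, map_zero, zero_mul, zero_add, map_add, map_mul, map_pow, map_one, mul_one, hx, mul_zero] at h1
  set G := W4c1hurwitzcpt.RootDisk.val g
  set E := PowerSeries.expand 2 (NeZero.ne 2) e
  change E * (PowerSeries.X ^ m * G) + PowerSeries.X ^ n * W4c1hurwitzcpt.RootDisk.val z = _ at h1
  have hord : (E * (PowerSeries.X ^ m * G)).order = ((2 * m : ℕ) : ℕ∞) := by
    rw [eq_sub_of_add_eq h1, sub_eq_add_neg, PowerSeries.order_add_of_order_ne]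
    · rw [PowerSeries.order_neg, PowerSeries.order_mul, PowerSeries.order_mul, PowerSeries.order_mul,
        PowerSeries.order_X_pow, PowerSeries.order_X_pow, hg, add_zero, min_eq_left, two_mul, Nat.cast_add]
      calc (m : ℕ∞) + m ≤ (n : ℕ∞) := by rw [← Nat.cast_add, Nat.cast_le]; omega
        _ ≤ _ := self_le_add_right _ _
    · rw [PowerSeries.order_neg, PowerSeries.order_mul, PowerSeries.order_mul, PowerSeries.order_mul,
        PowerSeries.order_X_pow, PowerSeries.order_X_pow, hg, add_zero]
      refine ne_of_lt (lt_of_lt_of_le ?_ (self_le_add_right _ _))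
      rw [← Nat.cast_add, Nat.cast_lt]; omega
  rw [PowerSeries.order_mul, PowerSeries.order_mul, PowerSeries.order_X_pow, hg, add_zero,
    PowerSeries.order_expand] at hord
  obtain ⟨r, hr⟩ := hm
  cases he : e.order with
  | top =>
    rw [he] at hord; simp at hord
    exact ENat.natCast_ne_top (2 * m) (by push_cast; exact hord.symm)
  | coe q => rw [he, nsmul_eq_mul, ← Nat.cast_mul, ← Nat.cast_add, Nat.cast_inj] at hord; norm_num at hord; omega

end Groth.Agent.S19486
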