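import Groth.Statements.S19487
import Groth.Agent.BoundedCount.Basic
-- import your own Groth.Agent.* helpers here

set_option autoImplicit false
open W4c1frobunstiva

namespace Groth.Agent.S19487

/-- The second formula. For p odd and natural numbers n, s, write N_p(n, s) for the number of monomials
of degree s in n variables in which every variable occurs with a positive exponent strictly less
than p, that is of exponent vectors (e_1, …, e_n) with sum s and 1 ≤ e_i ≤ p − 1, and N_p^D(n, s)
for the number of those in which exactly D variables occur with exponent less than p/2. Then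
N_p^D(n, s) = C(n, D) · Σ_j N_{(p+1)/2}(D, j) · N_{(p+1)/2}(n − D, s − j − (n − D)(p − 1)/2), the
sum running over 0 ≤ j ≤ s. (Natural-number subtraction is used in the last argument; when it
truncates and n > D the factor vanishes, as it should. The published setting has p an odd prime;
only p odd is used. The companion inclusion–exclusion expression for N_p(n, s) itself is a separate
statement.) -/
theorem result (p n s D : ℕ) (hp : Odd p) :
    Fintype.card {e : Fin n → Fin p // (∀ i, 1 ≤ (e i : ℕ)) ∧ ∑ i, (e i : ℕ) = s ∧
        (Finset.univ.filter fun i => 2 * (e i : ℕ) < p).card = D} =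
      n.choose D * ∑ j ∈ Finset.range (s + 1),
        Fintype.card {e : Fin D → Fin ((p + 1) / 2) // (∀ i, 1 ≤ (e i : ℕ)) ∧ ∑ i, (e i : ℕ) = j} *
          Fintype.card {e : Fin (n - D) → Fin ((p + 1) / 2) // (∀ i, 1 ≤ (e i : ℕ)) ∧ ∑ i, (e i : ℕ) = (s - j - (n - D) * ((p - 1) / 2))} := by
  exact BoundedCount.card_by_small p n s D hp

end Groth.Agent.S19487
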