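import Groth.Statements.S19488
import Mathlib.CategoryTheory.Adjunction.FullyFaithful
import Mathlib.Algebra.Homology.ShortComplex.ExactFunctor
import Groth.Agent.QCoh.Sections
-- import your own Groth.Agent.* helpers here

set_option autoImplicit false
universe u
open CategoryTheory CategoryTheory.Limits AlgebraicGeometry
open W4c1frobunstiva

namespace Groth.Agent.S19488

/-- Fix a closed immersion of schemes f : S → T, an O_T-module G, an O_S-module E and an epimorphism ψ :
G → f_*E. Then the morphism ψ′ : f^*G → E that corresponds to ψ under the adjunction between
pullback and pushforward (it is the pullback f^*ψ followed by the counit f^*f_*E → E, an isomorphism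
for a closed immersion) is an epimorphism, and the canonical map f^*(ker ψ) → ker(f^*ψ) is an
epimorphism. (The published statement takes G and E locally free, which these two assertions do not
use.) -/
theorem result
    {S T : Scheme.{u}} (f : S ⟶ T) [IsClosedImmersion f] (G : T.Modules) (E : S.Modules)
    (ψ : G ⟶ (Scheme.Modules.pushforward f).obj E) [Epi ψ] :
    Epi (((Scheme.Modules.pullbackPushforwardAdjunction f).homEquiv G E).symm ψ) ∧
      Epi (kernelComparison ψ (Scheme.Modules.pullback f)) := by
    have hF : (Scheme.Modules.pushforward f).Faithful := ⟨fun {M N} a b h => Scheme.Modules.hom_ext _ _ fun V => by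
      obtain ⟨O, hO, hOV⟩ := (IsClosedImmersion.base_closed (f := f)).isInducing.isOpen_iff.1 V.2
      obtain rfl : (TopologicalSpace.Opens.map f.base).obj ⟨O, hO⟩ = V := TopologicalSpace.Opens.ext hOV
      exact congrArg (fun t => Scheme.Modules.Hom.app t ⟨O, hO⟩) h⟩
    let adj := Scheme.Modules.pullbackPushforwardAdjunction f
    have := hF
    have : Epi (adj.counit.app E) := Adjunction.counit_epi_of_R_faithful adj E
    have : PreservesColimitsOfSize.{0, 0} (Scheme.Modules.pullback f) := adj.leftAdjoint_preservesColimits
    have := Functor.preservesEpimorphisms_of_adjunction adj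
    refine ⟨?_, ?_⟩
    · rw [Adjunction.homEquiv_counit]
      exact epi_comp _ _
    · have h := ShortComplex.exact_of_f_is_kernel (ShortComplex.mk _ _ (kernel.condition ψ)) (kernelIsKernel ψ)
      have h' := h.map_of_epi_of_preservesCokernel (Scheme.Modules.pullback f) ‹Epi ψ› inferInstance
      exact h'.epi_kernelLift

end Groth.Agent.S19488
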