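import Groth.Statements.S19489
import Mathlib.RingTheory.Localization.Integer
import Mathlib.LinearAlgebra.Dimension.Finite
import Mathlib.Algebra.MvPolynomial.PDeriv
-- import your own Groth.Agent.* helpers here

set_option autoImplicit false
open scoped TensorProduct
open ZeroCyc

namespace Groth.Agent.S19489

section
variable (p : ℕ) [Fact p.Prime] (k : Type) [Field k] [CharP k p]

theorem natCast_eq_zero' (S : Type) [CommSemiring S] [Algebra k S] : (p : S) = 0 := by
  rw [← map_natCast (algebraMap k S) p, CharP.cast_eq_zero, map_zero]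

/-- The Frobenius as a semiring map of a test algebra. -/
def frobS (S : Type) [CommSemiring S] [Algebra k S] : S →+* S where
  toFun x := x ^ p
  map_one' := one_pow p
  map_mul' x y := mul_pow x y p
  map_zero' := zero_pow (Fact.out : p.Prime).ne_zero
  map_add' x y := by
    obtain ⟨r, hr⟩ := exists_add_pow_prime_eq (Fact.out : p.Prime) x y
    rw [hr, natCast_eq_zero' p k S, zero_mul, zero_mul, zero_mul, add_zero]

/-- `s ⊗ a ↦ s ^ p * a`. -/
noncomputable def phi (S : Type) [CommSemiring S] [Algebra k S] :
    S ⊗[k] FrobAlg.Twist p k →+* S :=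
  letI : Algebra k S := ‹_›
  { toFun := TensorProduct.liftAddHom
      (R := k)
      { toFun := fun s =>
          { toFun := fun a => frobS p k S s * algebraMap k S ((FrobAlg.toTwist p k).symm a)
            map_zero' := by simp
            map_add' := fun a b => by simp [mul_add] }
        map_zero' := by ext a; simp
        map_add' := fun s t => by ext a; simp [add_mul] }
      (fun c s a => by
        show frobS p k S (c • s) * algebraMap k S ((FrobAlg.toTwist p k).symm a) =
          frobS p k S s * algebraMap k S ((FrobAlg.toTwist p k).symm (c • a))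
        rw [Algebra.smul_def, Algebra.smul_def, FrobAlg.algebraMap_twist, map_mul, map_mul,
          RingEquiv.symm_apply_apply, map_mul]
        show algebraMap k S c ^ p * _ * _ = _ * (algebraMap k S (c ^ p) * _)
        rw [map_pow]
        ring)
    map_one' := by
      rw [Algebra.TensorProduct.one_def, TensorProduct.liftAddHom_tmul]
      show frobS p k S 1 * algebraMap k S ((FrobAlg.toTwist p k).symm 1) = 1
      simp
    map_mul' := fun x y => by
      induction x using TensorProduct.induction_on with
      | zero => simp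
      | add x₁ x₂ h₁ h₂ => simp only [add_mul, map_add, h₁, h₂]
      | tmul s a =>
        induction y using TensorProduct.induction_on with
        | zero => simp
        | add y₁ y₂ h₁ h₂ => simp only [mul_add, map_add, h₁, h₂]
        | tmul t b =>
          simp only [Algebra.TensorProduct.tmul_mul_tmul, TensorProduct.liftAddHom_tmul]
          show frobS p k S (s * t) * algebraMap k S ((FrobAlg.toTwist p k).symm (a * b)) =
            frobS p k S s * algebraMap k S ((FrobAlg.toTwist p k).symm a) *
              (frobS p k S t * algebraMap k S ((FrobAlg.toTwist p k).symm b))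
          simp only [map_mul]
          ring
    map_zero' := map_zero _
    map_add' := map_add _ }

theorem phi_tmul (S : Type) [CommSemiring S] [Algebra k S] (s : S) (a : FrobAlg.Twist p k) :
    phi p k S (s ⊗ₜ[k] a) = s ^ p * algebraMap k S ((FrobAlg.toTwist p k).symm a) := rfl

theorem phi_nat {S S' : Type} [CommSemiring S] [Algebra k S] [CommSemiring S'] [Algebra k S']
    (φ : S →ₐ[k] S') (x : S ⊗[k] FrobAlg.Twist p k) :
    φ (phi p k S x) = phi p k S' (φ.toLinearMap.rTensor _ x) := by
  induction x using TensorProduct.induction_on with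
  | zero => simp
  | add x₁ x₂ h₁ h₂ => simp only [map_add, h₁, h₂]
  | tmul s a =>
    rw [LinearMap.rTensor_tmul, phi_tmul, phi_tmul, map_mul, map_pow, AlgHom.commutes]
    rfl

/-- The law `s ⊗ a ↦ s ^ p ⊗ a`. -/
noncomputable def law : PolLaw.MulLaw k (FrobAlg.Twist p k) k p where
  law :=
    { toFun' := fun S _ _ x => phi p k S x ⊗ₜ[k] (1 : k)
      isCompat' := fun φ => by
        funext x
        simp only [Function.comp_apply]
        rw [LinearMap.rTensor_tmul, ← phi_nat]
        rfl }
  homog S _ _ s x := by
    show phi p k S (s • x) ⊗ₜ[k] (1 : k) = s ^ p • (phi p k S x ⊗ₜ[k] (1 : k))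
    rw [TensorProduct.smul_tmul', smul_eq_mul]
    congr 1
    induction x using TensorProduct.induction_on with
    | zero => simp
    | add x₁ x₂ h₁ h₂ => simp only [smul_add, map_add, h₁, h₂, mul_add]
    | tmul t a => rw [TensorProduct.smul_tmul', smul_eq_mul, phi_tmul, phi_tmul, mul_pow, mul_assoc]
  mult S _ _ := by
    refine ⟨?_, fun x y => ?_⟩
    · show phi p k S 1 ⊗ₜ[k] (1 : k) = 1
      rw [map_one, Algebra.TensorProduct.one_def]
    · show phi p k S (x * y) ⊗ₜ[k] (1 : k) = (phi p k S x ⊗ₜ[k] (1 : k)) * (phi p k S y ⊗ₜ[k] (1 : k))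
      rw [map_mul, Algebra.TensorProduct.tmul_mul_tmul, one_mul]

end

theorem notFinite (p : ℕ) [Fact p.Prime] :
    ¬ Module.Finite (FractionRing (MvPolynomial ℕ (ZMod p)))
      (FrobAlg.Twist p (FractionRing (MvPolynomial ℕ (ZMod p)))) := by
  intro hfin
  set k := FractionRing (MvPolynomial ℕ (ZMod p)) with hk
  set P := MvPolynomial ℕ (ZMod p) with hP
  have hli : LinearIndependent k
      (fun n : ℕ => FrobAlg.toTwist p k (algebraMap P k (MvPolynomial.X n))) := by
    rw [linearIndependent_iff']
    intro s g hg m hm
    obtain ⟨q, hq⟩ := IsLocalization.exist_integer_multiples (nonZeroDivisors P) s g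
    have hq' : ∀ i ∈ s, ∃ a : P, algebraMap P k a = algebraMap P k (q : P) * g i := by
      intro i hi
      obtain ⟨a, ha⟩ := hq i hi
      exact ⟨a, by rw [ha, Algebra.smul_def]⟩
    choose! a ha using hq'
    have hpne : p ≠ 0 := (Fact.out : p.Prime).ne_zero
    have e0 : ∑ i ∈ s, g i ^ p * algebraMap P k (MvPolynomial.X i) = 0 := by
      have h' := congrArg (FrobAlg.toTwist p k).symm hg
      rw [map_zero, map_sum] at h'
      rw [← h']
      refine Finset.sum_congr rfl fun i _ => ?_
      rw [Algebra.smul_def, FrobAlg.algebraMap_twist, ← map_mul, RingEquiv.symm_apply_apply]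
    have e1 : ∑ i ∈ s, a i ^ p * (MvPolynomial.X i : P) = 0 := by
      refine (IsFractionRing.injective P k) ?_
      rw [map_sum, map_zero]
      have : ∀ i ∈ s, algebraMap P k (a i ^ p * MvPolynomial.X i) =
          algebraMap P k (q : P) ^ p * (g i ^ p * algebraMap P k (MvPolynomial.X i)) := by
        intro i hi
        rw [map_mul, map_pow, ha i hi, mul_pow, mul_assoc]
      rw [Finset.sum_congr rfl this, ← Finset.mul_sum, e0, mul_zero]
    have e2 := congrArg (MvPolynomial.pderiv m) e1
    rw [map_sum, map_zero] at e2
    have hp0 : (p : P) = 0 := CharP.cast_eq_zero P p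
    have hterm : ∀ i ∈ s, MvPolynomial.pderiv m (a i ^ p * (MvPolynomial.X i : P)) =
        if i = m then a i ^ p else 0 := by
      intro i _
      rw [MvPolynomial.pderiv_mul, MvPolynomial.pderiv_pow, hp0]
      split_ifs with h
      · subst h
        simp
      · rw [MvPolynomial.pderiv_X_of_ne h]
        simp
    rw [Finset.sum_congr rfl hterm, Finset.sum_ite_eq' s m, if_pos hm] at e2
    have ham : a m = 0 := (pow_eq_zero_iff hpne).mp e2
    have := ha m hm
    rw [ham, map_zero, eq_comm, mul_eq_zero] at this
    rcases this with h | h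
    · exact absurd ((map_eq_zero_iff _ (IsFractionRing.injective P k)).mp h)
        (nonZeroDivisors.ne_zero q.2)
    · exact h
  exact Module.Finite.not_linearIndependent_of_infinite _ hli


/-- Let p be a prime, k = F_p(t_0, t_1, …) the field of rational functions over F_p in countably many
variables, and K = k^{1/p} = F_p(t_0^{1/p}, t_1^{1/p}, …), modelled here as a copy of k made into a
k-algebra through the Frobenius b ↦ b ^ p (under a ↦ a ^ p the extension k ⊆ k^{1/p} becomes this
algebra). Then a ↦ a ^ p is a multiplicative polynomial law from K to k over k, homogeneous of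
degree p: there is such a law sending s ⊗ a to s ^ p ⊗ a ^ p on every test algebra S, where a ^ p is
read in k. Every such law has zero kernel, so the support of the corresponding family of zero-cycles
of degree p on Spec K over Spec k is all of Spec K; and K is not finite over k. Thus the support of
a family of zero-cycles need not be finite over the base. -/
theorem result (p : ℕ) [Fact p.Prime] :
    (∃ F : PolLaw.MulLaw (FractionRing (MvPolynomial ℕ (ZMod p))) (FrobAlg.Twist p (FractionRing (MvPolynomial ℕ (ZMod p)))) (FractionRing (MvPolynomial ℕ (ZMod p))) p,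
      ∀ (S : Type) [CommSemiring S] [Algebra (FractionRing (MvPolynomial ℕ (ZMod p))) S] (s : S) (a : FrobAlg.Twist p (FractionRing (MvPolynomial ℕ (ZMod p)))),
        F.law.toFun' S (s ⊗ₜ[FractionRing (MvPolynomial ℕ (ZMod p))] a) =
          (s ^ p) ⊗ₜ[FractionRing (MvPolynomial ℕ (ZMod p))] (FrobAlg.toTwist p (FractionRing (MvPolynomial ℕ (ZMod p)))).symm a) ∧
    (∀ F : PolLaw.MulLaw (FractionRing (MvPolynomial ℕ (ZMod p))) (FrobAlg.Twist p (FractionRing (MvPolynomial ℕ (ZMod p)))) (FractionRing (MvPolynomial ℕ (ZMod p))) p,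
      (∀ (S : Type) [CommSemiring S] [Algebra (FractionRing (MvPolynomial ℕ (ZMod p))) S] (s : S) (a : FrobAlg.Twist p (FractionRing (MvPolynomial ℕ (ZMod p)))),
        F.law.toFun' S (s ⊗ₜ[FractionRing (MvPolynomial ℕ (ZMod p))] a) =
          (s ^ p) ⊗ₜ[FractionRing (MvPolynomial ℕ (ZMod p))] (FrobAlg.toTwist p (FractionRing (MvPolynomial ℕ (ZMod p)))).symm a) →
      PolLaw.ker F.law = ⊥) ∧
    ¬ Module.Finite (FractionRing (MvPolynomial ℕ (ZMod p))) (FrobAlg.Twist p (FractionRing (MvPolynomial ℕ (ZMod p)))) := by
  refine ⟨⟨law p _, fun S _ _ s a => ?_⟩, fun F hF => ?_, notFinite p⟩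
  · show phi p _ S (s ⊗ₜ a) ⊗ₜ[_] (1 : FractionRing (MvPolynomial ℕ (ZMod p))) = _
    rw [phi_tmul, mul_comm, ← Algebra.smul_def, TensorProduct.smul_tmul, smul_eq_mul, mul_one]
  · refine eq_bot_iff.mpr fun b hb => ?_
    rw [Ideal.mem_bot]
    have h := hb (FractionRing (MvPolynomial ℕ (ZMod p))) 0 1
    rw [zero_add, one_mul, hF, one_pow] at h
    have h0 : F.law.toFun' (FractionRing (MvPolynomial ℕ (ZMod p))) 0 = 0 := by
      have h1 := F.homog (FractionRing (MvPolynomial ℕ (ZMod p))) 0 0
      rw [zero_smul, zero_pow (Fact.out : p.Prime).ne_zero, zero_smul] at h1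
      exact h1
    rw [h0] at h
    have h2 := congrArg (TensorProduct.lid _ _) h
    rw [TensorProduct.lid_tmul, one_smul, map_zero] at h2
    exact (map_eq_zero_iff _ (FrobAlg.toTwist p _).symm.injective).mp h2


end Groth.Agent.S19489
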