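import Groth.Statements.S1949
import Groth.Agent.H23.P1Vert
import Groth.Agent.H23.P1Closed
import Groth.Agent.H23.P1Div
import Groth.Agent.S1952
-- import your own Groth.Agent.* helpers here

set_option autoImplicit false
universe u
open CategoryTheory CategoryTheory.Limits AlgebraicGeometry
attribute [local instance] HasDerivedCategory.standard
open IntMult
open Groth.Agent Groth.Agent.H23

namespace Groth.Agent.S1949

/-- Let W → P^1_X be a closed immersion with W integral of dimension s + 1 (for the dimension function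
δP on P^1_X induced from δ) dominating P^1_K (dense image under P^1_X → P^1_K), W_0, W_∞ → X its
pullbacks along the sections at 0 and ∞, and V ⊆ X the closure of a point v with δ(v) = r, such that
[V] intersects [W_0]_s and [W_∞]_s properly. Then [V]·[W_0]_s ∼_rat [V]·[W_∞]_s as (r + s −
n)-cycles on X. (The source allows any two closed points a, b of P^1; they are taken to be 0 and ∞,
to which any two distinct closed points are carried by an automorphism of P^1 over the algebraically
closed K.) Here X is a nonsingular variety over the algebraically closed field K (smooth, separated,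
quasi-compact, integral) with dimension function δ (transcendence degree) and n = dim X; cycles are
Mathlib AlgebraicCycles with Cyc.Zk membership, proper intersection is IntMult.IntersectProperly and
α · β is the Tor-formula intersection product on coefficient functions (IntMult.interProd), bundled
where needed as 'any cycle with these coefficients'. -/
theorem result (K : Type u) [Field K] [IsAlgClosed K] (X : Scheme.{u}) (f : X ⟶ Spec (CommRingCat.of K)) [Smooth f] [IsSeparated f] [QuasiCompact f] [IsIntegral X] (δ : X → ℤ) (hX : Cyc.IsSetup X δ) (hδ : Cyc.DeltaCompat f δ (fun _ => 0)) (n : ℤ) (hn : δ (genericPoint X) = n) (δP : ↥(CohB1.ProjSpaceOver 1 X) → ℤ) (hP : Cyc.DeltaCompat (CohB1.ProjSpaceOver.toBase 1 X) δP δ) (r s : ℤ) (W : Scheme.{u}) [IsIntegral W] (ιW : W ⟶ CohB1.ProjSpaceOver 1 X) [IsClosedImmersion ιW] (hW : δP (ιW (genericPoint W)) = s + 1) (hdom : ∀ U : (CohB1.ProjSpaceOver 1 (Spec (CommRingCat.of K))).Opens, (U : Set ↥(CohB1.ProjSpaceOver 1 (Spec (CommRingCat.of K)))).Nonempty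 → ∃ w : W, (ιW ≫ P1.toP1 f) w ∈ U) (v : X) (hv : δ v = r) (h0 : IntMult.IntersectProperly δ n (Set.indicator {v} 1) (Cyc.subschemeFun δ s (pullback.snd ιW (P1.sect X 0)))) (h1 : IntMult.IntersectProperly δ n (Set.indicator {v} 1) (Cyc.subschemeFun δ s (pullback.snd ιW (P1.sect X 1)))) (γ₀ γ₁ : AlgebraicCycle X ℤ) (hγ₀ : ⇑γ₀ = IntMult.interProd δ n (Set.indicator {v} 1) (Cyc.subschemeFun δ s (pullback.snd ιW (P1.sect X 0)))) (hγ₁ : ⇑γ₁ = IntMult.interProd δ n (Set.indicator {v} 1) (Cyc.subschemeFun δ s (pullback.snd ιW (P1.sect X 1)))) : Cyc.RatEquiv δ (r + s - n) γ₀ γ₁ := by  classical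
  haveI := hX.1
  haveI := P1Proper.isIntegral f
  have hPs := SetupLFT.isSetup (CohB1.ProjSpaceOver.toBase 1 X) hX hP
  haveI := hPs.1
  have hdP := hPs.2.2
  haveI : IsSeparated ((CohB1.ProjSpaceOver.toBase 1 X) ≫ f) := inferInstance
  have hcomp := P1Proper.deltaCompat_comp f hδ hP
  have hgen := P1Proper.delta_generic f hδ hP hX hn
  let F := (Coh.push ιW).obj (Coh.structureModule W)
  haveI := LocallyOfFiniteType.isLocallyNoetherian ιW
  have hF : Coh.IsCoh F := SpClosed.isCoh_push ιW
  let ξW := ιW (genericPoint W)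
  change δP ξW = s + 1 at hW
  have hFr : ∀ q, Nontrivial (F.presheaf.stalk q) → q ∈ Set.range ιW := fun q h => by_contra fun hq =>
    not_subsingleton_iff_nontrivial.2 h (ClosedPushLen.subsingleton_stalk _ _ hq)
  have hWgen : ∀ q ∈ Set.range ιW, ξW ⤳ q := by
    rintro _ ⟨w, rfl⟩
    exact (genericPoint_specializes w).map ιW.continuous
  have hξrange : ∀ j : Fin (1 + 1), ξW ∉ Set.range (P1.sect X j) := fun j hj => by
    let S := Spec (CommRingCat.of K)
    have hne : ((Set.range (P1.sect S j))ᶜ : Set ↥(CohB1.ProjSpaceOver 1 S)).Nonempty := by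
      refine ⟨P1.sect S (1 - j) (IsLocalRing.closedPoint K), fun ⟨a, ha⟩ => ?_⟩
      have hj01 : j = 0 ∨ j = 1 := by fin_cases j <;> simp
      rcases hj01 with rfl | rfl
      · exact P1Vert.sect_ne_sect _ _ ha
      · exact P1Vert.sect_ne_sect _ _ ha.symm
    obtain ⟨w, hw⟩ := hdom ⟨_, (P1.sect S j).isClosedEmbedding.isClosed_range.isOpen_compl⟩ hne
    obtain ⟨x, hx⟩ : ιW w ∈ Set.range (P1.sect X j) :=
      (P1.sect X j).isClosedEmbedding.isClosed_range.stableUnderSpecialization (hWgen _ ⟨w, rfl⟩) hj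
    refine hw ⟨f x, ?_⟩
    rw [← Scheme.Hom.comp_apply, ← P1Vert.toP1_sect, Scheme.Hom.comp_apply, hx]
    rfl
  let w : Fin (1 + 1) → X → ℤ := fun i => Cyc.sheafFun δ s ((Scheme.Modules.pullback (P1.sect X i)).obj F)
  have hsub : ∀ i, Cyc.subschemeFun δ s (pullback.snd ιW (P1.sect X i)) = w i := fun i => by
    rw [SpClosed.subschemeFun_symm, SpClosed.subschemeFun_eq]
  have hstalk : ∀ (i : Fin (1 + 1)) (x : X),
      Nontrivial (((Scheme.Modules.pullback (P1.sect X i)).obj F).presheaf.stalk x) → P1.sect X i x ∈ Set.range ιW :=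
    fun i x hx => hFr _ (not_subsingleton_iff_nontrivial.1 fun hs => by
      rw [SpGysin.nontrivial_iff_length (A := X.presheaf.stalk x),
        CapSheaf.length_stalk_pullback_closed _ _ x (P1Sect.ker_sect X i x)] at hx
      exact hx Module.length_eq_zero)
  have hdimW : ∀ (i : Fin (1 + 1)) (x : X),
      Nontrivial (((Scheme.Modules.pullback (P1.sect X i)).obj F).presheaf.stalk x) → δ x ≤ s := fun i x hx => by
    have := CycLib.delta_lt hdP (hWgen _ (hstalk i x hx)) fun e => hξrange i ⟨x, e.symm⟩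
    rw [P1Fam.delta_sect hP] at this
    omega
  have hwne : ∀ i x, w i x ≠ 0 → δ x = s ∧ P1.sect X i x ∈ Set.range ιW := fun i x hx =>
    ⟨by_contra fun h => hx (if_neg h), hstalk i x (CycleClassK.nontrivial_of_sheafFun hx).2⟩
  -- every component of a fibre has the expected dimension and appears
  have hprop : ∀ (i : Fin (1 + 1)), IntMult.IntersectProperly δ n (Set.indicator {v} 1) (w i) →
      ∀ x, v ⤳ x → P1.sect X i x ∈ Set.range ιW → δ x ≤ r + s - n := by
    intro i hi x hvx hx
    obtain ⟨q, hq1, hq2, ⟨x', rfl⟩, hq3⟩ := P1Vert.exists_cut f hX hδ hn hP (hWgen _ hx)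
    have hlt := CycLib.delta_lt hdP hq1 fun e => hξrange i ⟨x', e.symm⟩
    rw [P1Fam.delta_sect hP] at hlt hq3
    have hs' : δ x' = s := by omega
    have hx'W : P1.sect X i x' ∈ Set.range ιW :=
      ιW.isClosedEmbedding.isClosed_range.stableUnderSpecialization hq1 ⟨genericPoint W, rfl⟩
    have hne : w i x' ≠ 0 := by
      show Cyc.sheafFun δ s _ x' ≠ 0
      rw [Cyc.sheafFun, if_pos hs', Nat.cast_ne_zero]
      intro h0
      rcases ENat.toNat_eq_zero.1 h0 with h0 | h0
      · rw [CapSheaf.length_stalk_pullback_closed _ F x' (P1Sect.ker_sect X i x')] at h0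
        haveI := QCoh.finite_stalk_of_isFT hF.1 hF.2 (P1.sect X i x')
        haveI : Nontrivial (F.presheaf.stalk (P1.sect X i x')) := by
          obtain ⟨z, hz⟩ := hx'W
          rw [← hz, SpGysin.nontrivial_iff_length (A := (CohB1.ProjSpaceOver 1 X).presheaf.stalk (ιW z)),
            ClosedPushLen.length_stalk ιW (Coh.structureModule W) z, ClosedPushLen.length_structureModule]
          exact Module.length_pos.ne'
        refine P1Fam.nontrivial_quot_smul ?_ h0
        rw [IsLocalRing.mem_maximalIdeal, mem_nonunits_iff]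
        exact fun hu => P1Fam.sect_ne i x' ((P1Sect.mem_other_iff' X i (P1Sect.sect_mem X i x')).2 hu)
      · refine (CycLib.length_stalk_lt_top _ (ZClosLib.isCoh_pullback (P1.sect X i) hF) fun z hz hzx =>
          CycLib.eq_of_delta_le hX.2.2 hzx ?_).ne h0
        have := hdimW i z hz
        omega
    have hxx : x' ⤳ x := by
      have := hq2.map (CohB1.ProjSpaceOver.toBase 1 X).continuous
      rwa [P1Vert.toBase_sect, P1Vert.toBase_sect] at this
    have := hi v x' x (by simp) hne hvx hxx
    omega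
  have hpr : ∀ i : Fin (1 + 1), ∀ x, v ⤳ x → P1.sect X i x ∈ Set.range ιW → δ x ≤ r + s - n := by
    intro i
    have hi01 : i = 0 ∨ i = 1 := by fin_cases i <;> simp
    rcases hi01 with rfl | rfl
    · exact hprop 0 (hsub 0 ▸ h0)
    · exact hprop 1 (hsub 1 ▸ h1)
  -- the line over v
  obtain ⟨ζ, hζv, hζd, hζgen⟩ := P1Vert.exists_vert f hX hδ hn hP v
  rw [hv] at hζd
  let J := Cyc.pullFun (CohB1.ProjSpaceOver.toBase 1 X) δP δ 1 (Set.indicator {v} 1)
  let c := J ζ
  have hJ : J = c • Set.indicator {ζ} 1 := P1Vert.pullFun_indicator f hX hδ hn hP hζv (by omega) hζgen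
  have hsmul : ∀ (φ ψ : ↥(CohB1.ProjSpaceOver 1 X) → ℤ) (p : CohB1.ProjSpaceOver 1 X),
      IntMult.interProd δP (n + 1) (c • φ) ψ p = c * IntMult.interProd δP (n + 1) φ ψ p := fun φ ψ p => by
    rw [IntMult.interProd, IntMult.interProd, mul_finsum]
    exact finsum_congr fun q => by rw [Pi.smul_apply, smul_eq_mul, mul_assoc c, mul_assoc c]
  let T : Set ↥(CohB1.ProjSpaceOver 1 X) := (CohB1.ProjSpaceOver.toBase 1 X) ⁻¹' closure {v} ∩ Set.range ιW
  have hT : IsClosed T := (isClosed_closure.preimage (CohB1.ProjSpaceOver.toBase 1 X).continuous).inter ιW.isClosedEmbedding.isClosed_range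
  have hTζ : ∀ {q}, q ∈ T → ζ ⤳ q ∧ ξW ⤳ q := fun h => ⟨hζgen _ (specializes_iff_mem_closure.2 h.1), hWgen _ h.2⟩
  have hTmem : ∀ {q}, ζ ⤳ q → ξW ⤳ q → q ∈ T := fun h h' => ⟨by
      have := h.map (CohB1.ProjSpaceOver.toBase 1 X).continuous
      rw [hζv] at this
      exact specializes_iff_mem_closure.1 this,
    ιW.isClosedEmbedding.isClosed_range.stableUnderSpecialization h' ⟨genericPoint W, rfl⟩⟩
  set m := r + s + 1 - n with hm
  have hnear : ∀ (i : Fin (1 + 1)) (x : X) y, y ∈ T → y ⤳ P1.sect X i x → δP y ≤ m := fun i x y hy hyx => by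
    obtain ⟨q, hq1, hq2, ⟨x', rfl⟩, hq3⟩ := P1Vert.exists_cut f hX hδ hn hP hyx
    have hqT := hTmem ((hTζ hy).1.trans hq1) ((hTζ hy).2.trans hq1)
    have h' : v ⤳ x' := by
      have := specializes_iff_mem_closure.2 hqT.1
      rwa [P1Vert.toBase_sect] at this
    have := hpr i x' h' hqT.2
    rw [P1Fam.delta_sect hP] at hq3
    omega
  let Good : Set ↥(CohB1.ProjSpaceOver 1 X) := {q | (q ∈ T ∧ ∀ z ∈ T, z ⤳ q → z = q) ∧ δP q = m}
  let β := IntMult.interProd δP (n + 1) J (Set.indicator {ξW} 1)
  let α : AlgebraicCycle (CohB1.ProjSpaceOver 1 X) ℤ :=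
    ⟨Good.indicator β, Set.subset_univ _, fun z _ => by
      obtain ⟨U, hzU, hU⟩ := P1Vert.lfPts_maximal hT z
      exact ⟨U, U.2.mem_nhds hzU, hU.subset fun y hy => ⟨(Set.mem_of_indicator_ne_zero hy.2).1, hy.1⟩⟩⟩
  have hαgood : ∀ q, α q ≠ 0 → q ∈ Good := fun q hq => Set.mem_of_indicator_ne_zero hq
  have hα : α ∈ Cyc.Zk _ δP (r + s - n + 1) := fun q hq => by_contra fun h => hq (by
    have := (hαgood q h).2
    omega)
  have hαD : ∀ i, IntMult.IntersectProperly δP (n + 1) ⇑α (Set.indicator {P1.sect X i (genericPoint X)} 1) := by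
    intro i q η z hq hη hqz hηz
    obtain rfl : η = P1.sect X i (genericPoint X) := Set.mem_singleton_iff.1 (Set.mem_of_indicator_ne_zero hη)
    obtain ⟨⟨hqT, -⟩, hqd⟩ := hαgood q hq
    have e := P1Vert.eq_sect_of_specializes hηz
    have hzT := hTmem ((hTζ hqT).1.trans hqz) ((hTζ hqT).2.trans hqz)
    have h' : δ (CohB1.ProjSpaceOver.toBase 1 X z) ≤ r + s - n :=
      hpr i _ (specializes_iff_mem_closure.2 hzT.1) (e ▸ hzT.2)
    rw [e, P1Fam.delta_sect hP, P1Fam.delta_sect hP i (genericPoint X), hn, hqd]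
    omega
  -- the intersection of W with the sections
  let D : Fin (1 + 1) → ↥(CohB1.ProjSpaceOver 1 X) → ℤ := fun i => Set.indicator {P1.sect X i (genericPoint X)} 1
  let B : Fin (1 + 1) → ↥(CohB1.ProjSpaceOver 1 X) → ℤ := fun i =>
    IntMult.interProd δP (n + 1) (Set.indicator {ξW} 1) (D i)
  have hWF : Set.indicator {ξW} 1 = Cyc.sheafFun δP (s + 1) F := by
    funext q
    rw [Cyc.sheafFun]
    by_cases hq : q = ξW
    · subst hq
      rw [Set.indicator_of_mem (Set.mem_singleton _), Pi.one_apply, if_pos hW,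
        ClosedPushLen.length_stalk ιW (Coh.structureModule W) (genericPoint W), ClosedPushLen.length_structureModule,
        P1Div.length_function_field]
      rfl
    · rw [Set.indicator_of_notMem fun h => hq (Set.mem_singleton_iff.1 h)]
      split_ifs with hd
      · haveI : Subsingleton (F.presheaf.stalk q) := not_nontrivial_iff_subsingleton.1 fun h =>
          hq (CycLib.eq_of_delta_le hdP (hWgen _ (hFr q h)) (by omega)).symm
        rw [Module.length_eq_zero]
        rfl
      · rfl
  have hBsect : ∀ i x, B i (P1.sect X i x) = w i x := fun i x => by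
    refine ((P1Proper.interProd_sect f hδ hP hX hn hW (hξrange 0) (hξrange 1) i _).1 ⟨x, rfl⟩).trans ?_
    rw [hWF]
    show _ = Cyc.sheafFun δ s _ x
    rw [Cyc.sheafFun]
    by_cases hx : δ x = s
    · rw [if_pos hx, CapSheaf.length_stalk_pullback_closed _ F x (P1Sect.ker_sect X i x)]
      refine P1Fam.cap_eq hF hdP hP (fun p hp => hW ▸ CycLib.delta_le hdP (hWgen _ (hFr p hp))) hdimW (fun p hp => ?_) i
        (P1Sect.sect_mem X i x) (by rw [P1Fam.delta_sect hP, hx])
      obtain ⟨z, rfl⟩ := hFr p (by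
        by_contra hn'
        haveI := not_nontrivial_iff_subsingleton.1 hn'
        exact not_isAssociatedPrime_of_subsingleton hp)
      rw [P1Closed.eq_genericPoint_of_associated (P1Closed.isAssociatedPrime_of_push ιW z hp)]
      exact Or.inl fun h => h.elim (hξrange 0) (hξrange 1)
    · rw [if_neg hx]
      refine GysinLib.c1CapFun_degree (k := s + 1) _ (fun q hq => if_neg hq) _ ?_
      rw [P1Fam.delta_sect hP]
      omega
  have hassoc : ∀ i x, IntMult.interProd δP (n + 1) ⇑α (D i) (P1.sect X i x) =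
      IntMult.interProd δP (n + 1) J (B i) (P1.sect X i x) := by
    intro i x
    set p := P1.sect X i x with hp
    have hloc : IntMult.interProd δP (n + 1) ⇑α (D i) p = IntMult.interProd δP (n + 1) β (D i) p := by
      refine finsum_congr fun ⟨⟨y, z⟩, hy, _, _⟩ => ?_
      show α y * _ * _ = β y * _ * _
      congr 2
      by_cases hb : β y = 0
      · show Good.indicator β y = _
        by_cases hg : y ∈ Good <;> simp [hg, hb]
      show Good.indicator β y = _
      refine Set.indicator_of_mem ?_ _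
      have hb' : IntMult.interProd δP (n + 1) (Set.indicator {ζ} 1) (Set.indicator {ξW} 1) y ≠ 0 := by
        intro h
        refine hb ?_
        show IntMult.interProd δP (n + 1) J _ y = 0
        rw [hJ, hsmul, h, mul_zero]
      obtain ⟨h1', h2', h3'⟩ := InterAssoc.interProd_pair_ne hb'
      have hyd : δP y = m := by omega
      refine ⟨⟨hTmem h1' h2', fun u hu huy => ?_⟩, hyd⟩
      have := hnear i x u hu (huy.trans hy)
      exact CycLib.eq_of_delta_le hdP huy (by omega)
    rw [hloc, show β = c • IntMult.interProd δP (n + 1) (Set.indicator {ζ} 1) (Set.indicator {ξW} 1) from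
      funext fun y => by
        show IntMult.interProd δP (n + 1) J _ y = _
        rw [hJ, hsmul]
        rfl, hsmul, hJ, hsmul]
    congr 1
    rw [InterAssoc.interProd_comm δP (n + 1) (IntMult.interProd δP (n + 1) _ _) (D i),
      InterAssoc.interProd_comm δP (n + 1) (Set.indicator {ζ} 1) (Set.indicator {ξW} 1)]
    let η := P1.sect X i (genericPoint X)
    have hηd : δP η = n := (P1Fam.delta_sect hP i _).trans hn
    by_cases hc : ζ ⤳ p ∧ ξW ⤳ p ∧ η ⤳ p ∧ δP p = δP ζ + δP ξW + δP η - 2 * (n + 1)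
    · obtain ⟨ha, hb, hc', hd⟩ := hc
      have habc : ∀ y, y ⤳ p → ζ ⤳ y → ξW ⤳ y → η ⤳ y → δP y ≤ δP ζ + δP ξW + δP η - 2 * (n + 1) :=
        fun y _ h1 h2 h3 => by
          have e := P1Vert.eq_sect_of_specializes h3
          have hyT := hTmem h1 h2
          have := hpr i _ (specializes_iff_mem_closure.2 hyT.1) (e ▸ hyT.2)
          rw [e, P1Fam.delta_sect hP, hζd, hW, hηd]
          omega
      obtain ⟨g1, v1, e1⟩ := InterAssoc.interProd_triple_local ((CohB1.ProjSpaceOver.toBase 1 X) ≫ f) hdP hcomp hgen ζ ξW η (fun y _ h1 h2 => by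
        have e := P1Vert.eq_sect_of_specializes h2
        have := CycLib.delta_lt hdP h1 fun e' => hξrange i ⟨_, (e'.trans e).symm⟩
        omega) habc ha hb hc' hd
      obtain ⟨g2, v2, e2⟩ := InterAssoc.interProd_triple_local ((CohB1.ProjSpaceOver.toBase 1 X) ≫ f) hdP hcomp hgen η ξW ζ (fun y hy h1 h2 => by
        have := hnear i x y (hTmem h2 h1) hy
        omega) (fun y hy h1 h2 h3 => by have := habc y hy h3 h2 h1; omega) hc' hb ha (by omega)
      rw [e1, e2]
      exact (AssocAlg.chi_assoc _ _ _ _ v1 v2 g1 g2).symm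
    · rw [InterAssoc.interProd_triple_eq_zero ζ ξW η hc,
        InterAssoc.interProd_triple_eq_zero η ξW ζ fun ⟨a, b, c', d⟩ => hc ⟨c', b, a, by omega⟩]
  have hBr : ∀ i p, B i p ≠ 0 → P1.sect X i (genericPoint X) ⤳ p := fun i p h =>
    (InterAssoc.interProd_pair_ne h).2.1
  have hlf : ∀ i, CycleClassK.LFPts (Function.support (w i)) := fun i =>
    CycleClassK.lfPts_sheafFun hX.2.2 ⟨ZClosLib.isCoh_pullback (P1.sect X i) hF, hdimW i⟩
  have hval : ∀ i x, IntMult.interProd δP (n + 1) ⇑α (D i) (P1.sect X i x) =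
      IntMult.interProd δ n (Set.indicator {v} 1) (w i) x := by
    intro i x
    rw [hassoc]
    have hfin := InterBilin.finite_gen (hlf i) x
    rw [InterBilin.interProd_expand (P1.sect X i x) ({()} : Finset Unit) hfin.toFinset (fun _ => 1) (fun y => w i y)
        (fun _ => J) (fun y => Set.indicator {P1.sect X i y} 1) J (B i) (fun _ _ => by simp) ?_
        (fun _ _ => ?_) (fun y _ => P1Vert.lfPts_indicator _),
      InterBilin.interProd_expand x ({()} : Finset Unit) hfin.toFinset (fun _ => 1) (fun y => w i y)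
        (fun _ => Set.indicator {v} 1) (fun y => Set.indicator {y} 1) (Set.indicator {v} 1) (w i) (fun _ _ => by simp)
        (fun z hz => InterBilin.eq_sum_indicator x hfin hz) (fun _ _ => P1Vert.lfPts_indicator _)
        (fun y _ => P1Vert.lfPts_indicator _), Finset.sum_singleton, Finset.sum_singleton]
    rotate_left
    · intro z hz
      by_cases hzr : z ∈ Set.range (P1.sect X i)
      · obtain ⟨z', rfl⟩ := hzr
        have hz' : z' ⤳ x := by
          have := hz.map (CohB1.ProjSpaceOver.toBase 1 X).continuous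
          rwa [P1Vert.toBase_sect, P1Vert.toBase_sect] at this
        rw [hBsect, InterBilin.eq_sum_indicator x hfin hz']
        refine Finset.sum_congr rfl fun y _ => congrArg (w i y * ·) ?_
        by_cases hy : z' = y
        · subst hy; simp
        · rw [Set.indicator_of_notMem (fun h => hy (Set.mem_singleton_iff.1 h)),
            Set.indicator_of_notMem (fun h => hy ((P1.sect X i).isEmbedding.injective (Set.mem_singleton_iff.1 h)))]
      · rw [show B i z = 0 from by_contra fun h => hzr ⟨_, (P1Vert.eq_sect_of_specializes (hBr i z h)).symm⟩]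
        exact (Finset.sum_eq_zero fun y _ => by
          rw [Set.indicator_of_notMem (fun h => hzr ⟨y, (Set.mem_singleton_iff.1 h).symm⟩), mul_zero]).symm
    · rw [hJ]
      exact fun z => ⟨⊤, trivial, (Set.finite_singleton ζ).subset fun u hu => by_contra fun h => hu.1 (by
        rw [Pi.smul_apply, Set.indicator_of_notMem h, smul_zero])⟩
    refine Finset.sum_congr rfl fun y hy => congrArg ((1 : ℤ) * w i y * ·) ?_
    rw [Set.Finite.mem_toFinset] at hy
    obtain ⟨hys, hyW⟩ := hwne i y hy.1
    by_cases hx : v ⤳ x ∧ δ x = r + s - n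
    · have hd : ∀ z, P1.sect X i y ⤳ z → v ⤳ (CohB1.ProjSpaceOver.toBase 1 X) z → δP z ≤ s + r - n := fun z h1 h2 => by
        have e := P1Vert.eq_sect_of_specializes h1
        have := hpr i _ h2 (e ▸ ιW.isClosedEmbedding.isClosed_range.stableUnderSpecialization h1 hyW)
        rw [e, P1Fam.delta_sect hP]
        omega
      have hp := (ProjFormula.pair (CohB1.ProjSpaceOver.toBase 1 X) ((CohB1.ProjSpaceOver.toBase 1 X) ≫ f) f hdP hX.2.2 hcomp hδ hP hgen hn (c := 1) (by ring)
        (P1Vert.le_delta f hX hδ hn hP) (r := s) (s := r) ((P1Fam.delta_sect hP i y).trans hys) hv hd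
        (ζ := x) (by omega) (by rw [P1Vert.toBase_sect]; exact hy.2) hx.1).2
      rw [P1Fam.mapCoeff_sect hP, Nat.cast_one, one_smul, P1Vert.toBase_sect, InterAssoc.interProd_comm δ n] at hp
      rw [hp, InterAssoc.interProd_comm δP (n + 1) J, finsum_mem_def, finsum_eq_single _ (P1.sect X i x) fun z hz => ?_,
        Set.indicator_of_mem (show P1.sect X i x ∈ (CohB1.ProjSpaceOver.toBase 1 X) ⁻¹' {x} from P1Vert.toBase_sect i x), P1Fam.mapCoeff_sect hP,
        Nat.cast_one, mul_one]
      refine Set.indicator_apply_eq_zero.2 fun hzx => ?_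
      by_contra hne
      obtain ⟨q, hq⟩ := not_forall.1 fun hall => left_ne_zero_of_mul hne (finsum_eq_zero_of_forall_eq_zero hall)
      have hq1 := Set.mem_singleton_iff.1 (Set.mem_of_indicator_ne_zero (left_ne_zero_of_mul (left_ne_zero_of_mul hq)))
      refine hz ?_
      have e := P1Vert.eq_sect_of_specializes ((specializes_of_eq hq1.symm).trans q.2.1)
      rwa [show (CohB1.ProjSpaceOver.toBase 1 X) z = x from hzx] at e
    · rw [hJ, hsmul]
      rw [show IntMult.interProd δP (n + 1) (Set.indicator {ζ} 1) (Set.indicator {P1.sect X i y} 1) (P1.sect X i x) = 0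
        from by_contra fun h => hx (by
          obtain ⟨h1', -, h3'⟩ := InterAssoc.interProd_pair_ne h
          have h4 := h1'.map (CohB1.ProjSpaceOver.toBase 1 X).continuous
          rw [hζv, P1Vert.toBase_sect] at h4
          rw [P1Fam.delta_sect hP, P1Fam.delta_sect hP, hys, hζd] at h3'
          exact ⟨h4, by omega⟩), mul_zero]
      exact (by_contra fun h => hx (by
          obtain ⟨h1', -, h3'⟩ := InterAssoc.interProd_pair_ne (Ne.symm h)
          exact ⟨h1', by rw [hys, hv] at h3'; exact h3'⟩))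
  -- bundle
  have hmc : ∀ (i : Fin (1 + 1)) (y : X), AlgebraicCycle.mapCoeff (P1.sect X i) δ δP y = 1 := fun i y => by
    rw [AlgebraicCycle.mapCoeff, if_pos (P1Fam.delta_sect hP i y).symm, CycLib.residueDegree_preimmersion]
  let g : Fin (1 + 1) → AlgebraicCycle X ℤ → AlgebraicCycle (CohB1.ProjSpaceOver 1 X) ℤ := fun i =>
    AlgebraicCycle.map (P1.sect X i) δ δP
  have hg : ∀ (i : Fin (1 + 1)) (γ : AlgebraicCycle X ℤ), ⇑γ = IntMult.interProd δ n (Set.indicator {v} 1) (w i) →
      ⇑(g i γ) = IntMult.interProd δP (n + 1) ⇑α (D i) := by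
    intro i γ hγ
    funext p
    show AlgebraicCycle.map (P1.sect X i) δ δP γ p = _
    rw [CycLib.map_apply']
    by_cases hp : p ∈ Set.range (P1.sect X i)
    · obtain ⟨x, rfl⟩ := hp
      rw [hval, show (P1.sect X i) ⁻¹' {P1.sect X i x} = {x} from Set.ext fun z =>
        ⟨fun h => (P1.sect X i).isEmbedding.injective h, fun h => congrArg _ h⟩, finsum_mem_singleton, hmc,
        Nat.cast_one, mul_one, hγ]
    · refine (finsum_mem_eq_zero_of_forall_eq_zero fun z hz => absurd ⟨z, hz⟩ hp).trans ?_
      refine (finsum_eq_zero_of_forall_eq_zero fun ⟨⟨a, b⟩, _, hb, _⟩ => ?_).symm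
      by_contra hne
      obtain rfl : b = P1.sect X i (genericPoint X) := Set.mem_singleton_iff.1
        (Set.mem_of_indicator_ne_zero (right_ne_zero_of_mul (left_ne_zero_of_mul hne)))
      exact hp ⟨_, (P1Vert.eq_sect_of_specializes hb).symm⟩
  have hid : ∀ (i : Fin (1 + 1)) (γ : AlgebraicCycle X ℤ), AlgebraicCycle.map (CohB1.ProjSpaceOver.toBase 1 X) δP δ (g i γ) = γ := by
    intro i γ
    have h1 : Cyc.DeltaCompat (P1.sect X i) δ δP := by
      have h := GysinLib.deltaCompat_closedImmersion (P1.sect X i) δP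
      rwa [show (fun d => δP (P1.sect X i d)) = δ from funext fun d => P1Fam.delta_sect hP i d] at h
    show AlgebraicCycle.map (CohB1.ProjSpaceOver.toBase 1 X) δP δ (AlgebraicCycle.map (P1.sect X i) δ δP γ) = γ
    rw [CycLib.map_map _ _ h1 hP]
    ext x
    rw [CycLib.map_apply', show (P1.sect X i ≫ (CohB1.ProjSpaceOver.toBase 1 X)) ⁻¹' {x} = {x} from Set.ext fun z => by
      simp only [Set.mem_preimage, Set.mem_singleton_iff, Scheme.Hom.comp_apply]
      rw [P1Vert.toBase_sect], finsum_mem_singleton, AlgebraicCycle.mapCoeff]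
    have e : (P1.sect X i ≫ (CohB1.ProjSpaceOver.toBase 1 X)) x = x := by rw [Scheme.Hom.comp_apply]; exact P1Vert.toBase_sect i x
    rw [if_pos (congrArg δ e).symm, P1Sect.sect_toBase, CycLib.residueDegree_preimmersion, Nat.cast_one, mul_one]
  have hfinal := S1952.result K X f δ hX hδ n hn δP hPs hP (r + s - n) α hα (hαD 0) (hαD 1) (g 0 γ₀ - g 1 γ₁) (by
    rw [Function.locallyFinsuppWithin.coe_sub, hg 0 γ₀ (hsub 0 ▸ hγ₀), hg 1 γ₁ (hsub 1 ▸ hγ₁)])
  rw [CycLib.map_sub', hid, hid] at hfinal
  exact hfinal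


end Groth.Agent.S1949
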