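import Groth.Statements.S19492
import Groth.Agent.AffCompl.Compl
import Groth.Agent.DimOneAmple.Normal
import Groth.Agent.CurveRes.Blow
-- import your own Groth.Agent.* helpers here

set_option autoImplicit false
set_option linter.style.haveILetI false
set_option backward.isDefEq.respectTransparency false
set_option backward.isDefEq.respectTransparency.types false
set_option maxHeartbeats 1000000
universe u
open CategoryTheory AlgebraicGeometry
open Variety Groth.Agent

namespace Groth.Agent.S19492

/-- Over an algebraically closed field k, let X be an irreducible affine variety (an integral affine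
k-scheme of finite type). Then X is an open subvariety of an irreducible projective variety: there
are an integral k-scheme Y admitting a closed immersion over k into a projective space Pⁿ_k and an
open immersion j : X → Y over k. If X is normal (every local ring an integrally closed domain), then
Y can be chosen normal as well. -/
theorem result (k : Type u) [Field k]
    [IsAlgClosed k] (X : Scheme.{u}) (f : X ⟶ Spec (CommRingCat.of k)) [IsAffine X]
    [AlgebraicGeometry.IsIntegral X] [LocallyOfFiniteType f] :
    ∃ (Y : Scheme.{u}) (g : Y ⟶ Spec (CommRingCat.of k)) (n : ℕ) (c : Y ⟶ CohB1.ProjSpace n k)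
      (j : X ⟶ Y), AlgebraicGeometry.IsIntegral Y ∧ IsClosedImmersion c ∧
      c ≫ CohB1.ProjSpace.toSpec n k = g ∧ IsOpenImmersion j ∧ j ≫ g = f ∧
      (Pi1.IsNormalScheme X → Pi1.IsNormalScheme Y) := by
  obtain ⟨d, u, huq, hu, -, -⟩ := Groth.Agent.AffCompl.exists_chart_embedding k f
  obtain ⟨Z, i, u', hi, hZ, hu', hfac⟩ := Groth.Agent.AffCompl.exists_dominant_factor u
  haveI := hu; haveI := hi; haveI := hZ; haveI := hu'
  haveI : IsProper (CohB1.ProjSpace.toSpec d k) := Groth.Agent.PnCoh.Chow.isProper_toSpec d k
  let q : Z ⟶ Spec (CommRingCat.of k) := i ≫ CohB1.ProjSpace.toSpec d k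
  haveI : IsProper q := inferInstanceAs (IsProper (i ≫ CohB1.ProjSpace.toSpec d k))
  have huf : u' ≫ q = f := by simp only [q]; rw [reassoc_of% hfac, huq]
  haveI : IsImmersion (u' ≫ i) := by rw [hfac]; infer_instance
  haveI : IsImmersion u' := IsImmersion.of_comp u' i
  haveI : QuasiCompact f := (quasiCompact_iff_compactSpace f).2 inferInstance
  haveI : QuasiCompact u' := by
    haveI : QuasiCompact (u' ≫ q) := by rw [huf]; infer_instance
    exact QuasiCompact.of_comp u' q
  haveI : IsOpenImmersion u' :=
    Groth.Agent.AlgSpLib.isOpenImmersion_of_ker_eq_bot u' (Groth.Agent.CurveRes.ker_eq_bot u')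
  by_cases hN : Pi1.IsNormalScheme X
  · haveI : LocallyOfFiniteType q := inferInstance
    haveI := Groth.Agent.DimOneAmple.isFinite_fromNormalization_of_reduced q u'
    let π := u'.fromNormalization
    let j := u'.toNormalization
    haveI : IsProper (π ≫ q) := inferInstance
    haveI : IsImmersion (j ≫ π) := by rw [show j ≫ π = u' from u'.toNormalization_fromNormalization]; infer_instance
    haveI : IsImmersion j := IsImmersion.of_comp j π
    haveI : IsOpenImmersion j := Groth.Agent.AlgSpLib.isOpenImmersion_of_ker_eq_bot j u'.ker_toNormalization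
    haveI : CompactSpace u'.normalization := QuasiCompact.compactSpace_of_compactSpace (π ≫ q)
    have hM : CohB1.IsAmple (Twist.twist (CohB1.polyGrading d k) 1) := by
      classical
      refine Groth.Agent.AmpleX.isAmple_twist_one (CohB1.polyGrading d k)
        (Finset.image (fun i : Fin (d + 1) => (MvPolynomial.X i : MvPolynomial (Fin (d + 1)) k)) Finset.univ)
        (fun g hg => ?_) (top_le_iff.1 fun y _ => ?_)
      · obtain ⟨i, -, rfl⟩ := Finset.mem_image.1 hg
        exact Groth.Agent.ProjPt.X_mem i
      · obtain ⟨i, hi⟩ := Groth.Agent.ProjUPX.cov_X y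
        exact TopologicalSpace.Opens.mem_iSup.2 ⟨⟨_, Finset.mem_image.2 ⟨i, Finset.mem_univ _, rfl⟩⟩, hi⟩
    haveI : IsAffineHom (π ≫ i) := inferInstance
    have hY := Groth.Agent.S11556.Aux.isAmple_pullback_of_isAffineHom (π ≫ i) hM
    obtain ⟨d', c', hc', hcf'⟩ := Groth.Agent.AmpleEmbed.exists_closedImmersion (π ≫ q) hY
    refine ⟨u'.normalization, π ≫ q, d', c', j, inferInstance, hc', hcf', inferInstance, ?_,
      fun h => Groth.Agent.AffCompl.isNormalScheme_normalization u' h⟩
    rw [← Category.assoc, show j ≫ π = u' from u'.toNormalization_fromNormalization]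
    exact huf
  · exact ⟨Z, q, d, i, u', inferInstance, inferInstance, rfl, inferInstance, huf, fun h => absurd h hN⟩

end Groth.Agent.S19492
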