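import Groth.Statements.S19493
import Groth.Agent.EtHull5.DominantFlat
-- import your own Groth.Agent.* helpers here

set_option autoImplicit false
universe u
open CategoryTheory AlgebraicGeometry
open EtHull

namespace Groth.Agent.S19493

/-- Let f : S' → S be a morphism of locally Noetherian schemes which is integral, radicial (universally
injective) and surjective, and which matches embedded points: a point s' of S' is an embedded
associated point of O_{S'} (an associated point that is a proper specialization of another
associated point) if and only if f(s') is an embedded associated point of O_S. Let a : X → S be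
faithfully flat, g : E → S étale and u : X → E a morphism with u ≫ g = a, so that X → E → S is a
factorization of a through an étale S-scheme. Let E' → S' be the base change of g along f, with
projection φ : E' → E, and u' : X' → E' the base change of u along φ (so X' = X ×_S S'). Then u is
scheme-theoretically dominant if and only if u' is. (The source allows algebraic spaces; schemes
here.) -/
theorem result {X E S S' E' X' : Scheme.{u}}
    [IsLocallyNoetherian S] [IsLocallyNoetherian S'] (f : S' ⟶ S) [IsIntegralHom f]
    [UniversallyInjective f] [Surjective f]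
    (hemb : ∀ s' : S', (s' ∈ AssSch.Ass (Coh.structureModule S') ∧ ∃ t ∈ AssSch.Ass (Coh.structureModule S'), t ⤳ s' ∧ t ≠ s') ↔
      (f.base s' ∈ AssSch.Ass (Coh.structureModule S) ∧ ∃ t ∈ AssSch.Ass (Coh.structureModule S), t ⤳ f.base s' ∧ t ≠ f.base s'))
    (a : X ⟶ S) [Flat a] [Surjective a] (g : E ⟶ S) [Etale g] (u : X ⟶ E) (hu : u ≫ g = a)
    (g' : E' ⟶ S') (φ : E' ⟶ E) (hE : IsPullback φ g' g f)
    (u' : X' ⟶ E') (ψ : X' ⟶ X) (hX : IsPullback ψ u' u φ) :
    IsSchemeTheoreticallyDominant u ↔ IsSchemeTheoreticallyDominant u' := by
  subst hu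
  haveI : Flat u := EtHull5.flat_of_comp_etale g u
  haveI : Flat u' := MorphismProperty.of_isPullback (P := @Flat) hX inferInstance
  haveI : Etale g' := MorphismProperty.of_isPullback (P := @Etale) hE inferInstance
  haveI : IsLocallyNoetherian E := LocallyOfFiniteType.isLocallyNoetherian g
  haveI : IsLocallyNoetherian E' := LocallyOfFiniteType.isLocallyNoetherian g'
  haveI : UniversallyInjective φ := MorphismProperty.of_isPullback (P := @UniversallyInjective) hE.flip inferInstance
  haveI : Surjective φ := MorphismProperty.of_isPullback (P := @Surjective) hE.flip inferInstance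
  have hf : IsHomeomorph f.base := isHomeomorph_iff_continuous_isClosedMap_bijective.2
    ⟨f.continuous, f.isClosedMap, f.injective, f.surjective⟩
  have hS : ∀ s' : S', s' ∈ AssSch.Ass (Coh.structureModule S') ↔ f s' ∈ AssSch.Ass (Coh.structureModule S) := by
    intro s'
    have hspec : ∀ a b : S', f a ⤳ f b ↔ a ⤳ b := fun a b => hf.isEmbedding.isInducing.specializes_iff
    constructor
    · intro h
      by_cases hm : ∀ t, t ⤳ f s' → t = f s'
      · exact AssLib.mem_ass_of_maximal hm
      push Not at hm
      obtain ⟨t, ht, hne⟩ := hm
      obtain ⟨t', rfl⟩ := f.surjective t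
      obtain ⟨m, hmt, hmax⟩ := FibDim.exists_maximal_generization t'
      refine ((hemb s').1 ⟨h, m, AssLib.mem_ass_of_maximal hmax, hmt.trans ((hspec _ _).1 ht), ?_⟩).1
      rintro rfl
      exact hne (congrArg f (((hspec _ _).1 ht).antisymm hmt).eq)
    · intro h
      by_cases hm : ∀ t, t ⤳ s' → t = s'
      · exact AssLib.mem_ass_of_maximal hm
      push Not at hm
      obtain ⟨t, ht, hne⟩ := hm
      obtain ⟨m, hmt, hmax⟩ := FibDim.exists_maximal_generization (f t)
      refine ((hemb s').2 ⟨h, m, AssLib.mem_ass_of_maximal hmax, hmt.trans ((hspec _ _).2 ht), ?_⟩).1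
      rintro rfl
      exact hne (f.injective (((hspec _ _).2 ht).antisymm hmt).eq)
  have hE' : ∀ z : E', z ∈ AssSch.Ass (Coh.structureModule E') ↔ φ z ∈ AssSch.Ass (Coh.structureModule E) := by
    intro z
    rw [EtHull5.mem_ass_iff_of_etale g', hS, EtHull5.mem_ass_iff_of_etale g, ← Scheme.Hom.comp_apply,
      ← Scheme.Hom.comp_apply, hE.w]
  have hr : Set.range u' = φ ⁻¹' Set.range u := by
    rw [← hX.isoPullback_hom_snd, ← Scheme.Pullback.range_snd, Scheme.Hom.comp_base, TopCat.coe_comp,
      hX.isoPullback.hom.surjective.range_comp]
  constructor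
  · intro h
    refine EtHull5.dominant_of_flat u' fun z hz => ?_
    rw [hr]
    exact EtHull5.mem_range_of_dominant u ((hE' z).1 hz)
  · intro h
    refine EtHull5.dominant_of_flat u fun z hz => ?_
    obtain ⟨z', rfl⟩ := φ.surjective z
    have := EtHull5.mem_range_of_dominant u' ((hE' z').2 hz)
    rwa [hr] at this

end Groth.Agent.S19493
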