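import Groth.Statements.S19494
import Groth.Agent.EtHull5.Greatest
-- import your own Groth.Agent.* helpers here

set_option autoImplicit false
open CategoryTheory AlgebraicGeometry
universe u
open EtHull

namespace Groth.Agent.S19494

/-- Let S be a Noetherian scheme all of whose local rings are geometrically unibranch and whose
structure sheaf has no embedded associated points, and let f : X → S be flat, surjective and of
finite presentation. Call an admissible factorization a factorization X → E → S of f with E → S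
étale and affine and X → E scheme-theoretically dominant. Then any two admissible factorizations X →
E₁ → S and X → E₂ → S have an infimum: an admissible factorization X → E → S together with
compatible S-morphisms E₁ → E and E₂ → E, such that every admissible factorization X → E' → S
receiving compatible S-morphisms E₁ → E' and E₂ → E' admits a compatible morphism E → E'. (The
source allows X to be an algebraic space; X is a scheme here.) -/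
theorem result {X S : Scheme.{u}} [IsNoetherian S]
    (hS : ∀ s : S, CAlg2.IsGeomUnibranch (S.presheaf.stalk s))
    (hemb : AssSch.NoEmbedded (Coh.structureModule S))
    (f : X ⟶ S) [Flat f] [Surjective f] [LocallyOfFinitePresentation f] [QuasiCompact f]
    [QuasiSeparated f]
    (E₁ E₂ : Scheme.{u}) (g₁ : E₁ ⟶ S) (g₂ : E₂ ⟶ S) (u₁ : X ⟶ E₁) (u₂ : X ⟶ E₂)
    [Etale g₁] [Etale g₂] [IsAffineHom g₁] [IsAffineHom g₂]
    [IsSchemeTheoreticallyDominant u₁] [IsSchemeTheoreticallyDominant u₂]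
    (h₁ : u₁ ≫ g₁ = f) (h₂ : u₂ ≫ g₂ = f) :
    ∃ (E : Scheme.{u}) (g : E ⟶ S) (u : X ⟶ E) (v₁ : E₁ ⟶ E) (v₂ : E₂ ⟶ E),
      Etale g ∧ IsAffineHom g ∧ IsSchemeTheoreticallyDominant u ∧ u ≫ g = f ∧
      u₁ ≫ v₁ = u ∧ u₂ ≫ v₂ = u ∧ v₁ ≫ g = g₁ ∧ v₂ ≫ g = g₂ ∧
      ∀ (E' : Scheme.{u}) (g' : E' ⟶ S) (u' : X ⟶ E') (w₁ : E₁ ⟶ E') (w₂ : E₂ ⟶ E'),
        Etale g' → IsAffineHom g' → IsSchemeTheoreticallyDominant u' → u' ≫ g' = f →
        u₁ ≫ w₁ = u' → u₂ ≫ w₂ = u' → w₁ ≫ g' = g₁ → w₂ ≫ g' = g₂ →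
        ∃ w : E ⟶ E', u ≫ w = u' ∧ v₁ ≫ w = w₁ ∧ v₂ ≫ w = w₂ := by
  haveI hfd : IsSchemeTheoreticallyDominant f :=
    EtHull5.dominant_of_flat f fun z _ => f.surjective z
  let F₁ : EtHull5.Fac f := ⟨S, 𝟙 S, f, inferInstance, inferInstance, hfd, Category.comp_id f⟩
  haveI : QuasiCompact (u₁ ≫ g₁) := by rw [h₁]; infer_instance
  haveI : QuasiCompact (u₂ ≫ g₂) := by rw [h₂]; infer_instance
  let T : Set (EtHull5.Fac f) := {F | (∃ v : E₁ ⟶ F.E, u₁ ≫ v = F.u ∧ v ≫ F.g = g₁) ∧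
    (∃ v : E₂ ⟶ F.E, u₂ ≫ v = F.u ∧ v ≫ F.g = g₂)}
  obtain ⟨F₀, ⟨⟨v₁, hv₁, hv₁'⟩, v₂, hv₂, hv₂'⟩, hF₀⟩ := EtHull5.exists_greatest f hemb T
    ⟨F₁, ⟨g₁, h₁, Category.comp_id _⟩, g₂, h₂, Category.comp_id _⟩
    fun F ⟨⟨a₁, ha₁, ha₁'⟩, a₂, ha₂, ha₂'⟩ G ⟨⟨b₁, hb₁, hb₁'⟩, b₂, hb₂, hb₂'⟩ => by
      obtain ⟨H, vF, vG, e₁, e₂, e₁', e₂', huniv⟩ := EtHull5.exists_sup f hS hemb F G
      obtain ⟨w₁, p₁, q₁, -⟩ := huniv E₁ g₁ u₁ a₁ b₁ inferInstance inferInstance h₁ ha₁ hb₁ ha₁' hb₁'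
      obtain ⟨w₂, p₂, q₂, -⟩ := huniv E₂ g₂ u₂ a₂ b₂ inferInstance inferInstance h₂ ha₂ hb₂ ha₂' hb₂'
      exact ⟨H, ⟨⟨w₁, p₁, by rw [← e₁', reassoc_of% q₁, ha₁']⟩,
        w₂, p₂, by rw [← e₁', reassoc_of% q₂, ha₂']⟩, ⟨vF, e₁, e₁'⟩, ⟨vG, e₂, e₂'⟩⟩
  refine ⟨F₀.E, F₀.g, F₀.u, v₁, v₂, F₀.etale, F₀.affine, F₀.dom, F₀.fac, hv₁, hv₂, hv₁', hv₂',
    fun E' g' u' w₁ w₂ he ha hd hf h₁' h₂' h₁'' h₂'' => ?_⟩
  obtain ⟨w, hw, hw'⟩ := hF₀ ⟨E', g', u', he, ha, hd, hf⟩ ⟨⟨w₁, h₁', h₁''⟩, w₂, h₂', h₂''⟩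
  dsimp only at w hw hw'
  refine ⟨w, hw, ?_, ?_⟩
  · refine S2299.result u₁ g' (v₁ ≫ w) w₁ (by rw [Category.assoc, hw', hv₁', h₁'']) ?_
    rw [reassoc_of% hv₁, hw, h₁']
  · refine S2299.result u₂ g' (v₂ ≫ w) w₂ (by rw [Category.assoc, hw', hv₂', h₂'']) ?_
    rw [reassoc_of% hv₂, hw, h₂']


end Groth.Agent.S19494
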