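import Groth.Statements.S19495
import Groth.Agent.EtHull5.Initial
import Groth.Agent.EtHull5.RelPerfect
-- import your own Groth.Agent.* helpers here

set_option autoImplicit false
open CategoryTheory AlgebraicGeometry
universe u
open EtHull

namespace Groth.Agent.S19495

/-- Let p be a prime and S a Noetherian scheme of characteristic p (p = 0 in O_S); let a : X → S be
flat, surjective and of finite presentation, c : P → S étale, quasi-compact and quasi-separated, and
ϖ : X → P a morphism over S which is initial among S-morphisms from X to étale finitely presented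
S-schemes: for every étale quasi-compact quasi-separated E → S, every S-morphism X → E factors
uniquely through ϖ. Then ϖ is a coperfection of X over S: P is relatively perfect over S (the
relative Frobenius of c is an isomorphism) and for every S-scheme Y → S which is relatively perfect
(relative Frobenius an isomorphism), every S-morphism X → Y factors uniquely through ϖ. (The source
allows algebraic spaces and phrases the hypothesis as the existence of an initial object; schemes
here.) -/
theorem result (p : ℕ) [Fact p.Prime]
    {X P S : Scheme.{u}} [IsNoetherian S] [FrobSch.IsCharP S p]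
    (a : X ⟶ S) [Flat a] [Surjective a] [LocallyOfFinitePresentation a] [QuasiCompact a]
    [QuasiSeparated a] (c : P ⟶ S) [Etale c] [QuasiCompact c] [QuasiSeparated c]
    (ϖ : X ⟶ P) (hϖ : ϖ ≫ c = a)
    (hinit : ∀ (E : Scheme.{u}) (e : E ⟶ S), Etale e → QuasiCompact e → QuasiSeparated e →
      ∀ k : X ⟶ E, k ≫ e = a → ∃! l : P ⟶ E, ϖ ≫ l = k ∧ l ≫ e = c) :
    IsIso (FrobSch.relFrob c p) ∧
      ∀ (Y : Scheme.{u}) (b : Y ⟶ S), IsIso (FrobSch.relFrob b p) →
        ∀ k : X ⟶ Y, k ≫ b = a → ∃! l : P ⟶ Y, ϖ ≫ l = k ∧ l ≫ b = c := by
  refine ⟨EtHull5.isIso_relFrob_of_etale p c, fun Y b hb k hk => ?_⟩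
  haveI := hb
  haveI : FormallyUnramified b := EtHull5.formallyUnramified_of_mono_relFrob p b
  exact EtHull5.existsUnique_desc a c ϖ hϖ hinit b k hk

end Groth.Agent.S19495
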