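import Groth.Statements.S19496
import Groth.Agent.NefH1.Rel

set_option autoImplicit false
universe u
open CategoryTheory CategoryTheory.Limits AlgebraicGeometry
open Curves

namespace Groth.Agent.S19496

/-- Let A be a Noetherian ring and f : X → Spec A a proper morphism such that H^1(X, O_X) = 0 and every
fibre of f has dimension at most one. Let L be an invertible O_X-module which is f-nef: for every
one-dimensional integral closed subscheme C of X which f maps to a point — expressed here as: C lies
over Spec K → Spec A for some field K — the degree of L restricted to C, computed over K as χ(L|_C)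
− χ(O_C), is nonnegative. Then L is globally generated (a quotient of a free O_X-module) and H^1(X,
L) = 0. -/
theorem result (A : Type u) [CommRing A]
    [IsNoetherianRing A] (X : Scheme.{u}) (f : X ⟶ Spec (CommRingCat.of A)) [IsProper f]
    (h1 : Subsingleton (Coh.HH X (Coh.structureModule X) 1))
    (hfib : ∀ y : ↥(Spec (CommRingCat.of A)), topologicalKrullDim ↥(f.fiber y) ≤ 1)
    (L : X.Modules) (hL : PicF.IsInvertible L)
    (hnef : ∀ (K : Type u) [Field K] (i : A →+* K) (J : X.IdealSheafData)
      (t : J.subscheme ⟶ Spec (CommRingCat.of K)),
      AlgebraicGeometry.IsIntegral J.subscheme → topologicalKrullDim ↥J.subscheme = 1 →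
      t ≫ Spec.map (CommRingCat.ofHom i) = J.subschemeι ≫ f →
      0 ≤ @Curv2.deg K _ J.subscheme ⟨t⟩ ((Scheme.Modules.pullback J.subschemeι).obj L) 1) :
    Curv2.IsGloballyGenerated L ∧ Subsingleton (Coh.HH X L 1) := by
  letI : X.Over (Spec (CommRingCat.of A)) := ⟨f⟩
  haveI : IsProper (X ↘ Spec (CommRingCat.of A)) := inferInstanceAs (IsProper f)
  exact Groth.Agent.NefH1.main (fun y => by exact_mod_cast hfib y) h1 hL hnef


end Groth.Agent.S19496
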