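import Groth.Statements.S19500
import Mathlib
import Groth.Agent.CubicLib.TPoints
import Groth.Agent.CubicLib.Bridge

set_option autoImplicit false
universe u
open Cubic

namespace Groth.Agent.S19500

/-- Let K be an algebraically closed field of characteristic zero and S = V(F) ⊂ P^3_K a cubic surface
(F homogeneous of degree 3) which is irreducible and not a cone (no nonzero vector v has Σ_i v_i
∂F/∂x_i = 0). For a nonzero vector b with F(b) = 0 write ℓ_b = Σ_i ∂F/∂x_i(b) · x_i for the linear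
form of the tangent plane at b; call b a T-point when b is a smooth point of S (some ∂F/∂x_i(b) ≠ 0)
and F is congruent modulo ℓ_b to a product of three linear forms (the plane cubic T_b S ∩ S is
set-theoretically a union of lines). Let a be a smooth point of S which is not a T-point and H ⊂ K^4
the hyperplane ℓ_a = 0 (the tangent plane T_a S). Then T_a S contains only finitely many T-points of
S: the set of one-dimensional subspaces U ≤ H all of whose nonzero vectors are T-points is finite. -/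
theorem result (K : Type u) [Field K] [IsAlgClosed K]
    [CharZero K] (F : MvPolynomial (Fin 4) K) (hF : F.IsHomogeneous 3) (hirr : Irreducible F)
    (hcone : ¬ ∃ v : Fin 4 → K, v ≠ 0 ∧ ∑ i : Fin 4, v i • MvPolynomial.pderiv i F = 0)
    (tp : (Fin 4 → K) → Prop)
    (htp : ∀ b : Fin 4 → K, tp b ↔ (b ≠ 0 ∧ MvPolynomial.eval b F = 0 ∧
      (∃ i : Fin 4, MvPolynomial.eval b (MvPolynomial.pderiv i F) ≠ 0) ∧
      ∃ L₁ L₂ L₃ : MvPolynomial (Fin 4) K, L₁.IsHomogeneous 1 ∧ L₂.IsHomogeneous 1 ∧ L₃.IsHomogeneous 1 ∧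
        F - L₁ * L₂ * L₃ ∈ Ideal.span {∑ i : Fin 4,
          MvPolynomial.C (MvPolynomial.eval b (MvPolynomial.pderiv i F)) * MvPolynomial.X i}))
    (a : Fin 4 → K) (haF : MvPolynomial.eval a F = 0)
    (hsm : ∃ i : Fin 4, MvPolynomial.eval a (MvPolynomial.pderiv i F) ≠ 0) (ha : ¬ tp a)
    (H : Submodule K (Fin 4 → K))
    (hH : ∀ x : Fin 4 → K, x ∈ H ↔ MvPolynomial.eval x (∑ i : Fin 4,
      MvPolynomial.C (MvPolynomial.eval a (MvPolynomial.pderiv i F)) * MvPolynomial.X i) = 0) :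
    Set.Finite {U : Submodule K (Fin 4 → K) | Module.finrank K ↥U = 1 ∧ U ≤ H ∧
      ∀ b ∈ U, b ≠ 0 → tp b} := by
  obtain ⟨G, hG, hd, -⟩ := CubicLib.exists_cubic F hF
  have hℓ : ∀ x : Fin 4 → K, MvPolynomial.eval x (∑ i : Fin 4,
      MvPolynomial.C (MvPolynomial.eval a (MvPolynomial.pderiv i F)) * MvPolynomial.X i) = 3 * G.T a a x := fun x => by
    simp only [map_sum, map_mul, MvPolynomial.eval_C, MvPolynomial.eval_X, hd]
    conv_rhs => rw [pi_eq_sum_univ' x, map_sum, Finset.mul_sum]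
    exact Finset.sum_congr rfl fun i _ => by rw [map_smul, smul_eq_mul]; ring
  have ha0 : a ≠ 0 := fun h => by
    obtain ⟨i, hi⟩ := hsm
    exact hi (by rw [hd, h]; simp)
  have hFa : G.F a = 0 := (hG a) ▸ haF
  have hsm' : ∃ m, G.T a a m ≠ 0 := by
    obtain ⟨i, hi⟩ := hsm
    exact ⟨Pi.single i 1, fun h => hi (by rw [hd, h, mul_zero])⟩
  obtain ⟨w₁, w₂, N⟩ := (CubicLib.nice_or_product (K := K) hG hF hd ha0 hFa hsm').resolve_right (by
    simp only [Algebra.algebraMap_self, MvPolynomial.map_id, RingHom.id_apply]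
    exact fun h => ha ((htp a).2 ⟨ha0, haF, hsm, h⟩))
  refine (CubicLib.finite_TPoints N).subset fun U ⟨hU, hUH, htpU⟩ => ⟨hU, fun b hb hb0 => ?_⟩
  obtain ⟨-, hbF, -, L₁, L₂, L₃, h₁, h₂, h₃, hmem⟩ := (htp b).1 (htpU b hb hb0)
  refine ⟨?_, (hG b) ▸ hbF, CubicLib.isProd_of_mem hG hd h₁ h₂ h₃ hmem⟩
  have := (hH b).1 (hUH hb)
  rw [hℓ] at this
  simpa using this

end Groth.Agent.S19500
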