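import Groth.Statements.S19502
import Mathlib.Topology.Algebra.InfiniteSum.Real
import Mathlib.Analysis.Normed.Group.InfiniteSum

set_option autoImplicit false
universe u
open W4c3ghconstell

namespace Groth.Agent.S19502


/-- Let ι index the irreducible representations, θ : ι → ℚ a weight which is negative exactly on the
finite set D₋, h h' : ι → ℕ with h' ≤ h pointwise (the isotypic dimensions of an object and of a
sub-object) and Σ_i θ_i h_i summable. For a finite set D of indices put S_D = Σ_{i ∉ D} θ_i h_i, d =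
#(D ∖ D₋) and θ̃_D = Σ_{i ∈ D} θ_i h'_i + (S_D / d) · Σ_{i ∈ D ∖ D₋} h'_i / h_i, the modified weight
attached to the parameters chosen for D (a quotient by zero is read as zero). Then for finite sets
D₋ ⊆ D ⊆ D̃ contained in the locus θ ≠ 0: (first error term) θ̃_{D̃} − θ̃_D = Σ_{τ ∈ D̃ ∖ D} (θ_τ
h_τ + S_{D̃}/d̃) · (h'_τ/h_τ − (1/d) Σ_{σ ∈ D ∖ D₋} h'_σ/h_σ); (second error term) Σ_i θ_i h'_i −
θ̃_D = Σ_{τ ∉ D} θ_τ h_τ · (h'_τ/h_τ − (1/d) Σ_{σ ∈ D ∖ D₋} h'_σ/h_σ). -/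
theorem result {ι : Type u} [DecidableEq ι]
    (θ : ι → ℚ) (h h' : ι → ℕ) (hle : ∀ i, h' i ≤ h i) (hfin : {i | θ i < 0}.Finite)
    (hsum : Summable (fun i => (θ i : ℝ) * (h i : ℝ))) (D D' : Finset ι)
    (hDm : hfin.toFinset ⊆ D) (hDD' : D ⊆ D') (hsupp : ∀ i ∈ D', θ i ≠ 0) :
    (((∑ i ∈ D', (θ i : ℝ) * (h' i : ℝ)) + ((∑' i, if i ∈ D' then (0 : ℝ) else (θ i : ℝ) * (h i : ℝ)) / ((D' \ hfin.toFinset).card : ℝ)) * (∑ σ ∈ D' \ hfin.toFinset, ((h' σ : ℝ) / (h σ : ℝ)))) - ((∑ i ∈ D, (θ i : ℝ) * (h' i : ℝ)) + ((∑' i, if i ∈ D then (0 : ℝ) else (θ i : ℝ) * (h i : ℝ)) / ((D \ hfin.toFinset).card : ℝ)) * (∑ σ ∈ D \ hfin.toFinset, ((h' σ : ℝ) / (h σ : ℝ)))) =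
      ∑ τ ∈ D' \ D, ((θ τ : ℝ) * (h τ : ℝ) + (∑' i, if i ∈ D' then (0 : ℝ) else (θ i : ℝ) * (h i : ℝ)) / ((D' \ hfin.toFinset).card : ℝ)) *
        (((h' τ : ℝ) / (h τ : ℝ)) - (1 / ((D \ hfin.toFinset).card : ℝ)) * (∑ σ ∈ D \ hfin.toFinset, ((h' σ : ℝ) / (h σ : ℝ))))) ∧
    ((∑' i, (θ i : ℝ) * (h' i : ℝ)) - ((∑ i ∈ D, (θ i : ℝ) * (h' i : ℝ)) + ((∑' i, if i ∈ D then (0 : ℝ) else (θ i : ℝ) * (h i : ℝ)) / ((D \ hfin.toFinset).card : ℝ)) * (∑ σ ∈ D \ hfin.toFinset, ((h' σ : ℝ) / (h σ : ℝ)))) =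
      ∑' τ, if τ ∈ D then (0 : ℝ) else (θ τ : ℝ) * (h τ : ℝ) *
        (((h' τ : ℝ) / (h τ : ℝ)) - (1 / ((D \ hfin.toFinset).card : ℝ)) * (∑ σ ∈ D \ hfin.toFinset, ((h' σ : ℝ) / (h σ : ℝ))))) := by
  have habs : ∀ i, |(θ i : ℝ) * (h' i : ℝ)| ≤ |(θ i : ℝ) * (h i : ℝ)| := fun i => by
    rw [abs_mul, abs_mul, Nat.abs_cast, Nat.abs_cast]
    exact mul_le_mul_of_nonneg_left (Nat.cast_le.2 (hle i)) (abs_nonneg _)
  have hs' : Summable (fun i => (θ i : ℝ) * (h' i : ℝ)) := by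
    rw [← summable_abs_iff]
    exact Summable.of_nonneg_of_le (fun i => abs_nonneg _) habs hsum.abs
  have hr : ∀ i, (θ i : ℝ) * (h i : ℝ) * ((h' i : ℝ) / (h i : ℝ)) = (θ i : ℝ) * (h' i : ℝ) := by
    intro i
    rcases Nat.eq_zero_or_pos (h i) with h0 | h0
    · have : h' i = 0 := Nat.le_zero.1 (h0 ▸ hle i)
      simp [h0, this]
    · rw [mul_assoc, mul_div_cancel₀ _ (Nat.cast_ne_zero.2 h0.ne')]
  have hsplit : ∀ (f : ι → ℝ) (D : Finset ι), Summable f →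
      (∑' i, if i ∈ D then (0 : ℝ) else f i) = (∑' i, f i) - ∑ i ∈ D, f i := by
    intro f D hf
    have h1 : Summable (fun i => if i ∈ D then f i else 0) :=
      summable_of_ne_finset_zero (s := D) fun i hi => if_neg hi
    have h2 : (fun i => if i ∈ D then (0 : ℝ) else f i) = fun i => f i - (if i ∈ D then f i else 0) :=
      funext fun i => by split <;> simp
    rw [h2, hf.tsum_sub h1, tsum_eq_sum (s := D) fun i hi => if_neg hi]
    congr 1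
    exact Finset.sum_congr rfl fun i hi => if_pos hi
  have hDm' : hfin.toFinset ⊆ D' := hDm.trans hDD'
  have hcard : ((D' \ hfin.toFinset).card : ℝ) = ((D' \ D).card : ℝ) + ((D \ hfin.toFinset).card : ℝ) := by
    rw [Finset.card_sdiff_of_subset hDm', Finset.card_sdiff_of_subset hDD', Finset.card_sdiff_of_subset hDm]
    have := Finset.card_le_card hDm
    have := Finset.card_le_card hDD'
    exact_mod_cast (by omega : D'.card - hfin.toFinset.card = (D'.card - D.card) + (D.card - hfin.toFinset.card))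
  refine ⟨?_, ?_⟩
  · have e1 : ∀ f : ι → ℝ, ∑ i ∈ D', f i = ∑ i ∈ D' \ D, f i + ∑ i ∈ D, f i := fun f =>
      (Finset.sum_sdiff hDD').symm
    have e2 : ∑ σ ∈ D' \ hfin.toFinset, ((h' σ : ℝ) / (h σ : ℝ)) =
        ∑ σ ∈ D' \ D, ((h' σ : ℝ) / (h σ : ℝ)) + ∑ σ ∈ D \ hfin.toFinset, ((h' σ : ℝ) / (h σ : ℝ)) := by
      rw [Finset.sum_sdiff_eq_sub hDm', Finset.sum_sdiff_eq_sub hDm, Finset.sum_sdiff_eq_sub hDD']
      ring
    have e3 : (∑' i, if i ∈ D then (0 : ℝ) else (θ i : ℝ) * (h i : ℝ)) =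
        ∑ i ∈ D' \ D, (θ i : ℝ) * (h i : ℝ) + ∑' i, if i ∈ D' then (0 : ℝ) else (θ i : ℝ) * (h i : ℝ) := by
      rw [hsplit _ D hsum, hsplit _ D' hsum, e1]; ring
    rw [e1, e2, e3]
    simp only [add_mul, mul_sub, Finset.sum_add_distrib, Finset.sum_sub_distrib, hr, ← Finset.sum_mul, ← Finset.mul_sum,
      Finset.sum_const, nsmul_eq_mul]
    rcases Nat.eq_zero_or_pos (D \ hfin.toFinset).card with h0 | h0
    · simp [Finset.card_eq_zero.1 h0]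
      ring
    have hd : ((D \ hfin.toFinset).card : ℝ) ≠ 0 := Nat.cast_ne_zero.2 h0.ne'
    have hd' : ((D' \ hfin.toFinset).card : ℝ) ≠ 0 := by
      rw [hcard]
      exact (add_pos_of_nonneg_of_pos (Nat.cast_nonneg _) (Nat.cast_pos.2 h0)).ne'
    field_simp
    rw [hcard]
    ring
  · set c : ℝ := (1 / ((D \ hfin.toFinset).card : ℝ)) * ∑ σ ∈ D \ hfin.toFinset, ((h' σ : ℝ) / (h σ : ℝ))
    have hf : (fun i => (θ i : ℝ) * (h i : ℝ) * ((h' i : ℝ) / (h i : ℝ) - c)) =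
        fun i => (θ i : ℝ) * (h' i : ℝ) - (θ i : ℝ) * (h i : ℝ) * c := funext fun i => by rw [mul_sub, hr]
    have hsf : Summable (fun i => (θ i : ℝ) * (h i : ℝ) * ((h' i : ℝ) / (h i : ℝ) - c)) := by
      rw [hf]; exact hs'.sub (hsum.mul_right c)
    rw [hsplit _ D hsum, hsplit (fun i => (θ i : ℝ) * (h i : ℝ) * ((h' i : ℝ) / (h i : ℝ) - c)) D hsf, hf,
      hs'.tsum_sub (hsum.mul_right c), tsum_mul_right, Finset.sum_sub_distrib, ← Finset.sum_mul]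
    simp only [c]
    ring

end Groth.Agent.S19502
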