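import Groth.Statements.S19503
import Groth.Agent.CurveGor18.RelAmpleH1
import Groth.Agent.AmpleX.RelAffine

set_option backward.isDefEq.respectTransparency false
set_option backward.isDefEq.respectTransparency.types false
-- import your own Groth.Agent.* helpers here

set_option autoImplicit false
universe u
open CategoryTheory CategoryTheory.Limits AlgebraicGeometry
open Curves

namespace Groth.Agent.S19503

/-- Let A be a Noetherian ring and f : X → Spec A a proper morphism such that H^1(X, O_X) = 0 and every
fibre of f has dimension at most one. If an O_X-module L is f-ample (f quasi-compact and L an ample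
invertible module on the preimage of every affine open of Spec A), then L is f-very ample: for some
n there is an immersion i : X → Pⁿ over Spec A, compatible with f, such that L is isomorphic to the
pullback of O(1) along i. -/
theorem result (A : Type u) [CommRing A]
    [IsNoetherianRing A] (X : Scheme.{u}) (f : X ⟶ Spec (CommRingCat.of A)) [IsProper f]
    (h1 : Subsingleton (Coh.HH X (Coh.structureModule X) 1))
    (hfib : ∀ y : ↥(Spec (CommRingCat.of A)), topologicalKrullDim ↥(f.fiber y) ≤ 1)
    (L : X.Modules) (hL : RelAmple.IsRelAmple f L) :
    RelAmple.IsRelVeryAmplePn f L := by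
  letI : X.Over (Spec (CommRingCat.of A)) := ⟨f⟩
  haveI : IsProper (X ↘ Spec (CommRingCat.of A)) := inferInstanceAs (IsProper f)
  have hLa : CohB1.IsAmple L := (Groth.Agent.AmpleX.isRelAmple_iff_isAmple f L).1 hL
  exact Groth.Agent.CurveCover.NormGen.isRelVeryAmplePn_of_normGenerated f hLa
    (Groth.Agent.CurveGor18.normGenerated_rel (fun y => by exact_mod_cast hfib y) h1 hLa)

end Groth.Agent.S19503
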