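import Groth.Statements.S19504
import Groth.Agent.PicLift.Main

set_option autoImplicit false
open CategoryTheory CategoryTheory.Limits AlgebraicGeometry
universe u
open PicF

namespace Groth.Agent.S19504
open Groth.Agent in


/-- Let X be a scheme and I a quasi-coherent ideal sheaf of square zero defining the closed subscheme i
: X₀ → X, and suppose H²(X, I) = 0 for the ideal regarded as an O_X-module (Zariski cohomology).
Then every invertible O_{X₀}-module is, up to isomorphism, the pullback along i of an invertible
O_X-module: restriction of Picard groups along i is surjective. (The published statement allows a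
nilpotent ideal with the same hypothesis on I alone; its proof treats the square-zero case, which is
what is stated. No separatedness is assumed.) -/
theorem result (X : Scheme.{u}) (I : X.IdealSheafData)
    (hI : I * I = ⊥) (h2 : Subsingleton (Coh.HH X (ClSub.idealMod I) 2))
    (c : PicF.Cl I.subscheme) (hc : PicF.IsInvertibleCl c) :
    ∃ d : PicF.Cl X, PicF.IsInvertibleCl d ∧ PicF.pullCl I.subschemeι d = c := by
  obtain ⟨L, rfl, hL⟩ := hc
  obtain ⟨L', hL', ⟨e⟩⟩ := PicLift.exists_lift hI h2 L hL
  exact ⟨PicF.cl L', ⟨L', rfl, hL'⟩, Quot.sound ⟨e⟩⟩

end Groth.Agent.S19504
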