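import Groth.Agent.PSLib.Regular
import Groth.Agent.CoeffField.AdicSmooth
import Mathlib
import Groth.Statements.S19506
-- import your own Groth.Agent.* helpers here

set_option autoImplicit false
universe u
open CAlg

namespace Groth.Agent.S19506

open IsLocalRing
open Groth.Agent (PSLib.vars)

variable {k A : Type u} [Field k] [CommRing A] [Algebra k A] [IsLocalRing A] {n : ℕ}

local notation "PP" => MvPowerSeries (Fin n) k
local notation "VV" => Groth.Agent.PSLib.vars n k

lemma vars_ne_top : (VV) ≠ ⊤ := Groth.Agent.PSLib.maximalIdeal_eq_vars k n ▸ (maximalIdeal.isMaximal PP).ne_top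

lemma sub_const_mem (c : PP) : c - algebraMap k PP (MvPowerSeries.constantCoeff c) ∈ VV := by
  rw [Groth.Agent.PSLib.mem_vars_iff, map_sub, MvPowerSeries.algebraMap_apply, MvPowerSeries.constantCoeff_C,
    Algebra.algebraMap_self, RingHom.id_apply, sub_self]

lemma mem_sq_of_ker [IsNoetherianRing A] (ψ : PP →ₐ[k] A)
    (hgen : maximalIdeal A = Ideal.span (Set.range fun i => ψ (MvPowerSeries.X i)))
    (hd : (maximalIdeal A).spanFinrank = n) (x : PP) (hx : ψ x = 0) : x ∈ VV ^ 2 := by
  classical
  have hxV : x ∈ VV := by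
    rw [← Groth.Agent.PSLib.maximalIdeal_eq_vars k n]
    intro hu
    exact not_isUnit_zero (hx ▸ hu.map ψ)
  obtain ⟨c, rfl⟩ := (Submodule.mem_span_range_iff_exists_fun _).1 hxV
  by_cases hc : ∀ i, c i ∈ VV
  · refine Ideal.sum_mem _ fun i _ => ?_
    rw [sq, smul_eq_mul]
    exact Ideal.mul_mem_mul (hc i) (Ideal.subset_span ⟨i, rfl⟩)
  exfalso
  push_neg at hc
  obtain ⟨i, hi⟩ := hc
  have hu : IsUnit (c i) := by
    rw [← Groth.Agent.PSLib.maximalIdeal_eq_vars k n] at hi
    exact notMem_maximalIdeal.1 hi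
  rw [map_sum, ← Finset.add_sum_erase _ _ (Finset.mem_univ i)] at hx
  simp only [smul_eq_mul, map_mul] at hx
  let T : Finset A := (Finset.univ.erase i).image fun j => ψ (MvPowerSeries.X j)
  have hT : maximalIdeal A = Ideal.span (T : Set A) := by
    refine le_antisymm ?_ ?_
    · rw [hgen, Ideal.span_le]
      rintro _ ⟨j, rfl⟩
      by_cases hj : j = i
      · subst hj
        obtain ⟨w, hw⟩ := (hu.map ψ).exists_left_inv
        have : ψ (MvPowerSeries.X j) = -w * ∑ l ∈ Finset.univ.erase j, ψ (c l) * ψ (MvPowerSeries.X l) := by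
          linear_combination (w : A) * hx - (ψ (MvPowerSeries.X j)) * hw
        show ψ (MvPowerSeries.X j) ∈ Ideal.span (T : Set A)
        rw [this]
        refine Ideal.mul_mem_left _ _ (Ideal.sum_mem _ fun l hl => Ideal.mul_mem_left _ _ (Ideal.subset_span ?_))
        exact Finset.mem_image_of_mem _ hl
      · exact Ideal.subset_span (Finset.mem_image_of_mem _ (Finset.mem_erase.2 ⟨hj, Finset.mem_univ j⟩))
    · rw [hgen]
      refine Ideal.span_mono fun a ha => ?_
      obtain ⟨j, -, rfl⟩ := Finset.mem_image.1 ha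
      exact ⟨j, rfl⟩
  have h1 : (maximalIdeal A).spanFinrank ≤ T.card := by
    rw [hT]
    exact (Submodule.spanFinrank_span_le_ncard_of_finite T.finite_toSet).trans (Set.ncard_coe_finset T).le
  have h2 : T.card ≤ n - 1 := Finset.card_image_le.trans (by simp)
  have := i.2
  omega

/-- A map to a truncation congruent to the identity moves only the next order. -/
lemma sub_mem_pow {N : ℕ} (h : PP →ₐ[k] PP ⧸ VV ^ N)
    (hX : ∀ i, h (MvPowerSeries.X i) - Ideal.Quotient.mk _ (MvPowerSeries.X i) ∈ (VV ^ 2).map (Ideal.Quotient.mk (VV ^ N))) :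
    ∀ j, ∀ x ∈ VV ^ j, h x - Ideal.Quotient.mk _ x ∈ (VV ^ (j + 1)).map (Ideal.Quotient.mk (VV ^ N)) := by
  classical
  set W := (VV).map (Ideal.Quotient.mk (VV ^ N)) with hW
  have hW2 : ∀ j, (VV ^ j).map (Ideal.Quotient.mk (VV ^ N)) = W ^ j := fun j => Ideal.map_pow _ _ _
  have hXW : ∀ i, h (MvPowerSeries.X i) ∈ W := fun i => by
    have h2 := hX i
    have := add_mem (Ideal.map_mono (Ideal.pow_le_self two_ne_zero) h2) (Ideal.mem_map_of_mem (Ideal.Quotient.mk (VV ^ N)) (Ideal.subset_span ⟨i, rfl⟩ : MvPowerSeries.X i ∈ VV))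
    rwa [sub_add_cancel] at this
  have hV : ∀ x ∈ VV, h x ∈ W := by
    intro x hx
    obtain ⟨c, rfl⟩ := (Submodule.mem_span_range_iff_exists_fun _).1 hx
    rw [map_sum]
    exact Ideal.sum_mem _ fun i _ => by rw [smul_eq_mul, map_mul]; exact Ideal.mul_mem_left _ _ (hXW i)
  have h0 : ∀ x, h x - Ideal.Quotient.mk _ x ∈ W := by
    intro x
    have h1 := sub_mem (hV _ (sub_const_mem x)) (Ideal.mem_map_of_mem (Ideal.Quotient.mk (VV ^ N)) (sub_const_mem x))
    rw [map_sub, map_sub, AlgHom.commutes,
      show Ideal.Quotient.mk (VV ^ N) (algebraMap k PP (MvPowerSeries.constantCoeff x)) =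
        algebraMap k (PP ⧸ VV ^ N) (MvPowerSeries.constantCoeff x) from rfl] at h1
    convert h1 using 1
    ring
  have h1 : ∀ x ∈ VV, h x - Ideal.Quotient.mk _ x ∈ W ^ 2 := by
    intro x hx
    obtain ⟨c, rfl⟩ := (Submodule.mem_span_range_iff_exists_fun _).1 hx
    rw [map_sum, map_sum, ← Finset.sum_sub_distrib]
    refine Ideal.sum_mem _ fun i _ => ?_
    rw [smul_eq_mul, map_mul, map_mul,
      show h (c i) * h (MvPowerSeries.X i) - Ideal.Quotient.mk _ (c i) * Ideal.Quotient.mk _ (MvPowerSeries.X i) =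
        (h (c i) - Ideal.Quotient.mk _ (c i)) * h (MvPowerSeries.X i) +
          Ideal.Quotient.mk _ (c i) * (h (MvPowerSeries.X i) - Ideal.Quotient.mk _ (MvPowerSeries.X i)) by ring]
    refine add_mem ?_ (Ideal.mul_mem_left _ _ (hW2 2 ▸ hX i))
    rw [sq]
    exact Ideal.mul_mem_mul (h0 _) (hXW i)
  intro j
  induction j with
  | zero => exact fun x _ => by rw [zero_add, pow_one]; exact h0 x
  | succ j ih =>
    intro x hx
    rw [pow_succ] at hx
    induction hx using Submodule.mul_induction_on' with
    | mem_mul_mem a ha b hb =>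
      rw [map_mul, map_mul,
        show h a * h b - Ideal.Quotient.mk _ a * Ideal.Quotient.mk _ b =
          (h a - Ideal.Quotient.mk _ a) * h b + Ideal.Quotient.mk _ a * (h b - Ideal.Quotient.mk _ b) by ring]
      refine add_mem ?_ ?_
      · rw [pow_succ (VV) (j + 1), Ideal.map_mul]
        exact Ideal.mul_mem_mul (ih a ha) (hV b hb)
      · rw [show j + 1 + 1 = j + 2 by rfl, pow_add, Ideal.map_mul]
        exact Ideal.mul_mem_mul (Ideal.mem_map_of_mem _ ha) ((hW2 2).symm ▸ h1 b hb)
    | add a _ b _ ha hb =>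
      rw [map_add, map_add, add_sub_add_comm]
      exact add_mem ha hb

/-- (i) ⇔ (iii): let k be a field and A a complete local Noetherian k-algebra with residue field k (a
k-algebra map π : A → k with kernel the maximal ideal; A complete for the adic topology of its
maximal ideal). Then A is regular if and only if A satisfies the infinitesimal lifting criterion:
for every Artinian local k-algebra R and every ideal J of R of square zero, every local k-algebra
homomorphism A → R/J (one carrying non-units to non-units) lifts to a k-algebra homomorphism A → R.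
(The test algebras R range over one universe, that of A. The published criterion is worded for
arbitrary k-algebra homomorphisms A → R/J; it is stated here for local ones, the case the argument
establishes and the form in which the text itself restates the criterion afterwards. The published
statement lists a third equivalent condition, A ≅ k[[x_1, …, x_d]].) -/
theorem result (k A : Type u) [Field k]
    [CommRing A] [Algebra k A] [IsLocalRing A] [IsNoetherianRing A]
    [IsAdicComplete (IsLocalRing.maximalIdeal A) A]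
    (π : A →ₐ[k] k) (hπ : RingHom.ker π = IsLocalRing.maximalIdeal A) :
    IsRegularLocalRing A ↔
      ∀ (R : Type u) [CommRing R] [Algebra k R] [IsArtinianRing R] [IsLocalRing R] (J : Ideal R),
        J ^ 2 = ⊥ → ∀ f : A →ₐ[k] R ⧸ J, IsLocalHom (f : A →+* R ⧸ J) →
          ∃ g : A →ₐ[k] R, (Ideal.Quotient.mkₐ k J).comp g = f := by
  classical
  have hres : Function.Surjective ((IsLocalRing.residue A).comp (algebraMap k A)) := by
    intro z
    obtain ⟨a, rfl⟩ := IsLocalRing.residue_surjective z
    refine ⟨π a, ?_⟩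
    rw [RingHom.comp_apply, ← sub_eq_zero, ← map_sub, IsLocalRing.residue_eq_zero_iff, ← hπ, RingHom.mem_ker, map_sub,
      AlgHom.commutes, Algebra.algebraMap_self, RingHom.id_apply, sub_self]
  let d := (maximalIdeal A).spanFinrank
  obtain ⟨t, ht, htspan⟩ := (IsNoetherian.noetherian (maximalIdeal A)).exists_span_finset_card_eq_spanFinrank
  let b : Fin d → A := fun i => ((t.equivFinOfCardEq ht).symm i : A)
  have hrange : Set.range b = (t : Set A) := by
    ext z
    exact ⟨fun ⟨i, hi⟩ => hi ▸ ((t.equivFinOfCardEq ht).symm i).2,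
      fun hz => ⟨t.equivFinOfCardEq ht ⟨z, hz⟩, by simp [b]⟩⟩
  have hspan : Ideal.span (Set.range b) = maximalIdeal A := by rw [hrange]; exact htspan
  have hbm : ∀ i, b i ∈ maximalIdeal A := fun i => hspan.le (Ideal.subset_span ⟨i, rfl⟩)
  obtain ⟨ψ, hψ⟩ := Groth.Agent.PSLib.exists_algHom (R := k) (maximalIdeal A) b hbm
  have hψr : (Set.range fun i => ψ (MvPowerSeries.X i)) = Set.range b := by simp only [hψ]
  have hsurj : Function.Surjective ψ := Groth.Agent.PSLib.surjective_of_span hres ψ (fun i => by rw [hψ]; exact hbm i)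
    (le_sup_of_le_left (by rw [hψr, hspan]))
  constructor
  · intro hreg R _ _ _ _ J hJ f hf
    have hdim : ringKrullDim A = d := ((isRegularLocalRing_iff A).1 hreg).symm
    let e := AlgEquiv.ofBijective ψ (Groth.Agent.PSLib.bijective_of_surjective k d (ψ : _ →+* A) hsurj hdim)
    choose r hr using fun i => Ideal.Quotient.mk_surjective (f (b i))
    have hrm : ∀ i, r i ∈ maximalIdeal R := fun i hu => by
      have h1 : IsUnit ((f : A →+* R ⧸ J) (b i)) := by
        show IsUnit (f (b i))
        rw [← hr i]; exact hu.map (Ideal.Quotient.mk J)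
      exact hbm i (isUnit_of_map_unit _ _ h1)
    obtain ⟨N, hN⟩ := (isArtinianRing_iff_isNilpotent_maximalIdeal R).1 inferInstance
    haveI : IsAdicComplete (maximalIdeal R) R := Groth.Agent.CoeffField.isAdicComplete_of_pow_eq_bot hN
    obtain ⟨g₀, hg₀⟩ := Groth.Agent.PSLib.exists_algHom (R := k) (maximalIdeal R) r hrm
    refine ⟨g₀.comp e.symm.toAlgHom, ?_⟩
    have hK : ((maximalIdeal R).map (Ideal.Quotient.mk J)) ^ N = ⊥ := by
      rw [← Ideal.map_pow, hN]; exact Ideal.map_bot
    haveI := Groth.Agent.CoeffField.isAdicComplete_of_pow_eq_bot hK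
    have h2 : (Ideal.Quotient.mkₐ k J).comp g₀ = f.comp ψ :=
      Groth.Agent.PSLib.algHom_ext (I := (maximalIdeal R).map (Ideal.Quotient.mk J)) _ _
        (fun i => by rw [AlgHom.comp_apply, hg₀]; exact Ideal.mem_map_of_mem _ (hrm i))
        (fun i => by rw [AlgHom.comp_apply, AlgHom.comp_apply, hg₀, hψ]; exact hr i)
    refine AlgHom.ext fun a => ?_
    obtain ⟨p, rfl⟩ := hsurj a
    show Ideal.Quotient.mkₐ k J (g₀ (e.symm (e p))) = f (ψ p)
    rw [e.symm_apply_apply]
    exact AlgHom.congr_fun h2 p
  · intro hlift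
    let P := MvPowerSeries (Fin d) k
    let V : Ideal P := Groth.Agent.PSLib.vars d k
    have hV : V ≠ ⊤ := vars_ne_top
    have hsq : ∀ x : P, ψ x = 0 → x ∈ V ^ 2 := mem_sq_of_ker ψ (by rw [hψr, hspan]) rfl
    have hg : ∀ N, ∃ g : A →ₐ[k] P ⧸ V ^ (N + 2),
        ∀ i, g (b i) - Ideal.Quotient.mk _ (MvPowerSeries.X i) ∈ (V ^ 2).map (Ideal.Quotient.mk (V ^ (N + 2))) := by
      intro N
      induction N with
      | zero =>
        let e := Ideal.quotientKerAlgEquivOfSurjective (f := ψ) hsurj
        let l : (P ⧸ RingHom.ker ψ) →ₐ[k] P ⧸ V ^ 2 :=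
          Ideal.Quotient.liftₐ _ (Ideal.Quotient.mkₐ k (V ^ 2)) fun x hx => Ideal.Quotient.eq_zero_iff_mem.2 (hsq x hx)
        refine ⟨l.comp e.symm.toAlgHom, fun i => ?_⟩
        have : e.symm (b i) = Ideal.Quotient.mk (RingHom.ker ψ) (MvPowerSeries.X i) := e.injective (by
          rw [e.apply_symm_apply, ← hψ i]; rfl)
        show l (e.symm (b i)) - _ ∈ _
        rw [this]
        show Ideal.Quotient.mk (V ^ 2) (MvPowerSeries.X i) - _ ∈ _
        rw [sub_self]; exact zero_mem _
      | succ N ih =>
        obtain ⟨g, hg⟩ := ih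
        have hle : V ^ (N + 1 + 2) ≤ V ^ (N + 2) := Ideal.pow_le_pow_right (by omega)
        let q : (P ⧸ V ^ (N + 1 + 2)) →ₐ[k] P ⧸ V ^ (N + 2) :=
          Ideal.Quotient.liftₐ _ (Ideal.Quotient.mkₐ k _) fun x hx => Ideal.Quotient.eq_zero_iff_mem.2 (hle hx)
        have hqmk : ∀ p, q (Ideal.Quotient.mk _ p) = Ideal.Quotient.mk _ p := fun p => rfl
        have hq : Function.Surjective q := fun y => by
          obtain ⟨p, rfl⟩ := Ideal.Quotient.mk_surjective y
          exact ⟨Ideal.Quotient.mk _ p, hqmk p⟩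
        have hJeq : RingHom.ker q = (V ^ (N + 2)).map (Ideal.Quotient.mk (V ^ (N + 1 + 2))) := by
          ext y
          obtain ⟨p, rfl⟩ := Ideal.Quotient.mk_surjective y
          rw [RingHom.mem_ker, hqmk, Ideal.Quotient.eq_zero_iff_mem, Ideal.mem_map_iff_of_surjective _ Ideal.Quotient.mk_surjective]
          refine ⟨fun h => ⟨p, h, rfl⟩, fun ⟨z, hz, hzp⟩ => ?_⟩
          have := hle (Ideal.Quotient.eq.1 hzp)
          simpa using sub_mem hz this
        have hne : V ^ (N + 1 + 2) ≠ ⊤ := fun h => hV (top_le_iff.1 (h ▸ Ideal.pow_le_self (by omega)))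
        haveI : Nontrivial (P ⧸ V ^ (N + 1 + 2)) := Ideal.Quotient.nontrivial_iff.2 hne
        haveI : IsLocalRing (P ⧸ V ^ (N + 1 + 2)) :=
          IsLocalRing.of_surjective' (Ideal.Quotient.mk (V ^ (N + 1 + 2))) Ideal.Quotient.mk_surjective
        haveI : IsNoetherianRing P := (by haveI := Groth.Agent.PSLib.isRegularLocalRing k d; infer_instance)
        haveI : IsArtinianRing (P ⧸ V ^ (N + 1 + 2)) := by
          rw [isArtinianRing_iff_isNilpotent_maximalIdeal]
          refine ⟨N + 1 + 2, ?_⟩
          have hmax : maximalIdeal (P ⧸ V ^ (N + 1 + 2)) = V.map (Ideal.Quotient.mk (V ^ (N + 1 + 2))) := by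
            show _ = (Groth.Agent.PSLib.vars d k).map _
            rw [← Groth.Agent.PSLib.maximalIdeal_eq_vars, IsLocalRing.map_maximalIdeal_of_surjective _ Ideal.Quotient.mk_surjective]
          rw [hmax, ← Ideal.map_pow, Ideal.map_quotient_self, Ideal.zero_eq_bot]
        let E := Ideal.quotientKerAlgEquivOfSurjective (f := q) hq
        have hlocal : IsLocalHom (RingHomClass.toRingHom (E.symm.toAlgHom.comp g)) := by
          refine ⟨fun a ha => ?_⟩
          by_contra hna
          have ha' : IsUnit (g a) := by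
            have h := ha.map E
            simpa using h
          have hgm : g a ∈ V.map (Ideal.Quotient.mk (V ^ (N + 2))) := by
            have : (maximalIdeal A).map g ≤ V.map (Ideal.Quotient.mk (V ^ (N + 2))) := by
              rw [← hspan, Ideal.map_span, Ideal.span_le]
              rintro _ ⟨_, ⟨i, rfl⟩, rfl⟩
              have h1 := Ideal.map_mono (Ideal.pow_le_self two_ne_zero) (hg i)
              have h2 := add_mem h1 (Ideal.mem_map_of_mem (Ideal.Quotient.mk (V ^ (N + 2)))
                (Ideal.subset_span ⟨i, rfl⟩ : MvPowerSeries.X i ∈ V))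
              rwa [sub_add_cancel] at h2
            exact this (Ideal.mem_map_of_mem _ hna)
          have htop := Ideal.eq_top_of_isUnit_mem _ hgm ha'
          have h3 := congrArg (Ideal.comap (Ideal.Quotient.mk (V ^ (N + 2)))) htop
          rw [Ideal.comap_map_of_surjective' _ Ideal.Quotient.mk_surjective, Ideal.mk_ker,
            sup_eq_left.2 (Ideal.pow_le_self (by omega)), Ideal.comap_top] at h3
          exact hV h3
        obtain ⟨g', hg'⟩ := hlift (P ⧸ V ^ (N + 1 + 2)) (RingHom.ker q) (by
          rw [hJeq, ← Ideal.map_pow, Ideal.map_eq_bot_iff_le_ker, Ideal.mk_ker, ← pow_mul]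
          exact Ideal.pow_le_pow_right (by omega)) (E.symm.toAlgHom.comp g) hlocal
        refine ⟨g', fun i => ?_⟩
        have h1 : q (g' (b i)) = g (b i) := by
          have h2 := congrArg E (AlgHom.congr_fun hg' (b i))
          simpa [E] using h2
        obtain ⟨p, hp⟩ := Ideal.Quotient.mk_surjective (g' (b i))
        have h3 := hg i
        rw [← h1, ← hp, hqmk, ← map_sub, Ideal.mem_map_iff_of_surjective _ Ideal.Quotient.mk_surjective] at h3
        obtain ⟨z, hz, hzp⟩ := h3
        rw [← hp, ← map_sub]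
        refine Ideal.mem_map_of_mem _ ?_
        have h4 : z - (p - MvPowerSeries.X i) ∈ V ^ 2 :=
          Ideal.pow_le_pow_right (by omega) (Ideal.Quotient.eq.1 hzp)
        simpa using sub_mem hz h4
    have hinj : Function.Injective ψ := (injective_iff_map_eq_zero ψ).2 fun x hx => by
      refine Groth.Agent.PSLib.eq_zero_of_forall_mem_pow fun M => ?_
      suffices h : ∀ j, j ≤ M + 2 → x ∈ V ^ j by exact h M (by omega)
      obtain ⟨g, hgb⟩ := hg M
      intro j
      induction j with
      | zero => simp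
      | succ j ih =>
        intro hj
        have h1 := sub_mem_pow (g.comp ψ) (fun i => by rw [AlgHom.comp_apply, hψ]; exact hgb i) j x (ih (by omega))
        rw [AlgHom.comp_apply, hx, map_zero, zero_sub, neg_mem_iff,
          Ideal.mem_map_iff_of_surjective _ Ideal.Quotient.mk_surjective] at h1
        obtain ⟨z, hz, hzx⟩ := h1
        have := Ideal.pow_le_pow_right hj (Ideal.Quotient.eq.1 hzx)
        simpa using sub_mem hz this
    haveI := Groth.Agent.PSLib.isRegularLocalRing k d
    exact IsRegularLocalRing.of_ringEquiv (RingEquiv.ofBijective ψ ⟨hinj, hsurj⟩)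

end Groth.Agent.S19506
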