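import Groth.Statements.S19507
import Groth.Agent.GrpSchLib.FieldSmooth
-- import your own Groth.Agent.* helpers here

set_option autoImplicit false
universe u
open CategoryTheory MonoidalCategory CartesianMonoidalCategory MonObj GrpObj AlgebraicGeometry
open AlgGrp

namespace Groth.Agent.S19507

/-- (iv) ⇒ (i): let k be a field, G a k-group scheme of finite type and e ∈ G the identity point (the
image of the unit section Spec k → G). If the local ring of G at e is regular, then G is smooth over
k. (The corollary lists six equivalent conditions; (i) ⇒ (iv) is the standard fact that smooth
schemes over a field have regular local rings, and the remaining conditions concern the base change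
to an algebraic closure and the completed local ring.) -/
theorem result (k : Type u) [Field k]
    (G : Over (Spec (CommRingCat.of k))) [GrpObj G] [LocallyOfFiniteType G.hom] [QuasiCompact G.hom]
    (e : G.left) (he : e ∈ Set.range (η[G]).left.base)
    (hreg : IsRegularLocalRing (G.left.presheaf.stalk e)) : Smooth G.hom := by
  obtain ⟨t, rfl⟩ := he
  refine Groth.Agent.GrpSchLib.smooth_of_isRegularLocalRing_stalk_one ?_
  obtain rfl : t = IsLocalRing.closedPoint k := @Subsingleton.elim (Spec (CommRingCat.of k)) inferInstance _ _
  exact hreg

end Groth.Agent.S19507
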