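import Groth.Statements.S19508
import Groth.Agent.AGFLib.GeomBC
-- import your own Groth.Agent.* helpers here

set_option autoImplicit false
set_option backward.isDefEq.respectTransparency false
set_option backward.isDefEq.respectTransparency.types false
universe u
open CategoryTheory MonoidalCategory CartesianMonoidalCategory MonObj GrpObj AlgebraicGeometry
open AGF

namespace Groth.Agent.S19508

open Groth.Agent.AGFLib

section

variable {K : Type u} [Field K] [IsAlgClosed K] {G : Over (Spec (CommRingCat.of K))} [GrpObj G] [IsAffine G.left]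
  [Smooth G.hom] [ConnectedSpace G.left] {P : Over (Spec (CommRingCat.of K))} [GrpObj P] (iP : P ⟶ G)
  [IsMonHom iP] [IsClosedImmersion iP.left] {X : Over (Spec (CommRingCat.of K))} {a : AlgGrp.Action G X}
  {o : 𝟙_ (Over (Spec (CommRingCat.of K))) ⟶ X}

omit [IsMonHom iP] in
theorem exists_of_proper (hX : AGF.IsQuotient iP X a o) [IsProper X.hom] :
    ∃ (B : Over (Spec (CommRingCat.of K))) (_ : GrpObj B) (b : B ⟶ P), Red.IsBorelOver K (b ≫ iP) := by
  obtain ⟨B, _, iB, _, _, _, hB, -, -⟩ := Borel.exists_borel G
  obtain ⟨_, _, _, _, hs, -⟩ := id hB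
  obtain ⟨g, f, hf⟩ := Borel.exists_conj_into iP iB hs hX
  refine ⟨B, inferInstance, f, ?_⟩
  have e : AGF.conjBy g⁻¹ iB = f ≫ iP := by
    rw [← hf, Borel.conjBy_eq, Borel.conjBy_eq, Category.assoc, Category.assoc,
      Borel.conjM_comp, inv_mul_cancel, Borel.conjM_one, Category.comp_id]
  rw [← e]
  exact Borel.isBorel_conj iB hB g⁻¹

omit [IsMonHom iP] in
theorem proper_of_borel (hX : AGF.IsQuotient iP X a o) {B : Over (Spec (CommRingCat.of K))} [GrpObj B] (b : B ⟶ P)
    (hB : Red.IsBorelOver K (b ≫ iP)) : IsProper X.hom := by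
  obtain ⟨_, _, _, _, -⟩ := id hB
  haveI : QuasiCompact G.hom := inferInstance
  haveI : QuasiCompact B.hom := by rw [← Over.w (b ≫ iP)]; infer_instance
  haveI : LocallyOfFiniteType B.hom := by rw [← Over.w (b ≫ iP)]; infer_instance
  haveI : Mono (b ≫ iP) := BorelExist.mono_of_closedImmersion _
  obtain ⟨Y, c, y, hl, hqc, hfl, hsu, hsq⟩ := GrpSchLib.HomogeneousQuot.exists_quot G B (b ≫ iP)
  have hY : AGF.IsQuotient (b ≫ iP) Y c y := ⟨hl, hfl, hsu, hsq⟩
  haveI := Borel.isProper_borel _ hB hY
  exact Borel.isProper_of_conj (b ≫ iP) iP 1 b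
    (by rw [Borel.conjBy_eq, Borel.conjM_one, Category.comp_id]) hY hX

end

/-- Let k be a field, G an affine, smooth, connected k-group scheme, P a smooth connected closed
k-subgroup scheme of G and X = G/P the quotient. Then X is proper over k if and only if, after base
change to an algebraic closure of k (the geometric fibre over the point of Spec k), P contains a
Borel subgroup of G. (Over an algebraically closed field this is the usual characterisation of
parabolic subgroups; the point here is an arbitrary ground field.) -/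
theorem result (k : Type u) [Field k]
    (G : Over (Spec (CommRingCat.of k))) [GrpObj G] [IsAffine G.left] [Smooth G.hom] [ConnectedSpace G.left]
    (P : Over (Spec (CommRingCat.of k))) [GrpObj P] (iP : P ⟶ G) [IsMonHom iP] (hcl : IsClosedImmersion iP.left)
    [Smooth P.hom] [ConnectedSpace P.left]
    (X : Over (Spec (CommRingCat.of k))) (a : AlgGrp.Action G X) (o : 𝟙_ (Over (Spec (CommRingCat.of k))) ⟶ X)
    (hX : AGF.IsQuotient iP X a o) :
    IsProper X.hom ↔ Red.IsParabolic iP := by
  haveI := hX.1
  haveI : QuasiCompact G.hom := inferInstance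
  constructor
  · intro _
    refine ⟨inferInstance, hcl, inferInstance, fun s => ?_⟩
    haveI : IsProper (Red.geomFibre s X).hom :=
      inferInstanceAs (IsProper (Limits.pullback.snd X.hom (Red.geomPt s)))
    exact ⟨inferInstance, inferInstance, inferInstanceAs (Smooth (Limits.pullback.snd P.hom (Red.geomPt s))),
      exists_of_proper (G := Red.geomFibre s G) _ (AGFLib.GeomBC.isQuotient_bc (Red.geomPt s) iP a o hX)⟩
  · rintro ⟨-, -, -, hfib⟩
    let s := AGFLib.GeomBC.pt k
    obtain ⟨-, -, -, B, _, b, hB⟩ := hfib s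
    haveI : IsProper (Red.geomFibre s X).hom :=
      proper_of_borel (G := Red.geomFibre s G) _ (AGFLib.GeomBC.isQuotient_bc (Red.geomPt s) iP a o hX) b hB
    haveI : UniversallyClosed X.hom := AGFLib.GeomBC.universallyClosed_of_geomFibre s X
    haveI : QuasiCompact X.hom := AGFLib.QuotProper.quot_quasiCompact hX
    haveI : IsSeparated X.hom := AGFLib.QuotProper.quot_isSeparated hX
    exact ⟨⟩

end Groth.Agent.S19508
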