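import Groth.Statements.S19512
import Mathlib.AlgebraicGeometry.Morphisms.Proper
import Mathlib.AlgebraicGeometry.Properties

set_option autoImplicit false
universe u
open CategoryTheory CategoryTheory.Limits AlgebraicGeometry
open Variety

namespace Groth.Agent.S19512


theorem exists_preimage_mem {X Y : Scheme.{u}} (f : X ⟶ Y) (hfib : ∀ V : Y.Opens, IsIso (f.app V))
    (V : Y.Opens) (hV : Nonempty V) : Nonempty (f ⁻¹ᵁ V) := by
  by_contra h
  have e : f ⁻¹ᵁ V = ⊥ := by
    ext x; simp only [TopologicalSpace.Opens.coe_bot, Set.mem_empty_iff_false, iff_false]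
    exact fun hx => h ⟨⟨x, hx⟩⟩
  haveI : Subsingleton Γ(X, f ⁻¹ᵁ V) := by
    rw [e]; exact CommRingCat.subsingleton_of_isTerminal X.sheaf.isTerminalOfEmpty
  haveI := hfib V
  haveI : Subsingleton Γ(Y, V) := (asIso (f.app V)).commRingCatIsoToRingEquiv.toEquiv.subsingleton
  exact false_of_nontrivial_of_subsingleton Γ(Y, V)

/-- Let k be a field and f : X → Y a k-morphism between proper k-schemes which is a fibration, i.e. O_Y
→ f_*O_X is an isomorphism (Γ(V, O_Y) → Γ(f⁻¹V, O_X) bijective for every open V ⊆ Y). If X is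
integral, then Y is integral. (The second assertion of (ii), generic flatness of f, is quoted from
the literature and not stated.) -/
theorem result (k : Type u) [Field k] (X Y : Scheme.{u})
    [X.Over (Spec (CommRingCat.of k))] [Y.Over (Spec (CommRingCat.of k))] [IsProper (X ↘ Spec (CommRingCat.of k))] [IsProper (Y ↘ Spec (CommRingCat.of k))]
    (f : X ⟶ Y) (hf : f ≫ (Y ↘ Spec (CommRingCat.of k)) = X ↘ Spec (CommRingCat.of k)) (hfib : ∀ V : Y.Opens, IsIso (f.app V))
    [AlgebraicGeometry.IsIntegral X] : AlgebraicGeometry.IsIntegral Y := by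
  haveI : Nonempty Y := Nonempty.map f inferInstance
  refine ⟨inferInstance, fun V hV => ?_⟩
  haveI := exists_preimage_mem f hfib V hV
  haveI := hfib V
  exact (asIso (f.app V)).commRingCatIsoToRingEquiv.toMulEquiv.isDomain Γ(X, f ⁻¹ᵁ V)

end Groth.Agent.S19512
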