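import Groth.Statements.S19513
import Mathlib

set_option autoImplicit false
universe u
open CategoryTheory CategoryTheory.Limits AlgebraicGeometry
open Variety

namespace Groth.Agent.S19513


set_option linter.style.haveILetI false

open AlgebraicGeometry CategoryTheory Opposite TopologicalSpace Polynomial

namespace FibrationNormal

variable {X Y : Scheme.{u}}

/-- On a locally noetherian scheme with domains as local rings, vanishing of germs is closed. -/
theorem eventually_germ_ne_zero [IsLocallyNoetherian X] (W : X.Opens) (x : X) (hx : x ∈ W)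
    (hd : IsDomain (X.presheaf.stalk x)) (b : Γ(X, W)) (hb : X.presheaf.germ W x hx b ≠ 0) :
    ∃ U : X.Opens, x ∈ U ∧ ∀ z : X, z ∈ U → ∀ hz : z ∈ W, X.presheaf.germ W z hz b ≠ 0 := by
  obtain ⟨_, ⟨U, hU, rfl⟩, hxU, hUW⟩ :=
    X.isBasis_affineOpens.exists_subset_of_mem_open hx W.isOpen
  replace hU : IsAffineOpen U := hU
  replace hUW : U ≤ W := hUW
  haveI : IsNoetherianRing Γ(X, U) := IsLocallyNoetherian.component_noetherian ⟨U, hU⟩
  let b' : Γ(X, U) := X.presheaf.map (homOfLE hUW).op b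
  have hres : ∀ (z : X) (hz : z ∈ U), X.presheaf.germ U z hz b' = X.presheaf.germ W z (hUW hz) b :=
    fun z hz => X.presheaf.germ_res_apply (homOfLE hUW) z hz b
  let p := (hU.primeIdealOf ⟨x, hxU⟩).asIdeal
  letI : Algebra Γ(X, U) (X.presheaf.stalk x) :=
    X.presheaf.algebra_section_stalk ⟨x, hxU⟩
  haveI : IsLocalization.AtPrime (X.presheaf.stalk x) p := hU.isLocalization_stalk ⟨x, hxU⟩
  let J : Ideal Γ(X, U) := LinearMap.ker (LinearMap.mulLeft Γ(X, U) b')
  obtain ⟨S, hS⟩ := IsNoetherian.noetherian J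
  have hJ : ∀ j ∈ J, ∃ s : p.primeCompl, (s : Γ(X, U)) * j = 0 := by
    intro j hj
    have h1 : b' * j = 0 := hj
    have h2 : X.presheaf.germ U x hxU b' * X.presheaf.germ U x hxU j = 0 := by
      rw [← map_mul, h1, map_zero]
    rcases mul_eq_zero.mp h2 with h3 | h3
    · exact absurd ((hres x hxU).symm.trans h3) hb
    · exact (IsLocalization.map_eq_zero_iff p.primeCompl (X.presheaf.stalk x) j).mp h3
  have : ∀ j : S, ∃ s : p.primeCompl, (s : Γ(X, U)) * (j : Γ(X, U)) = 0 :=
    fun j => hJ j (hS ▸ Submodule.subset_span j.2)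
  choose s hs using this
  let t : Γ(X, U) := ∏ j : S, (s j : Γ(X, U))
  have ht : ∀ j ∈ J, t * j = 0 := by
    intro j hj
    rw [← hS] at hj
    induction hj using Submodule.span_induction with
    | mem a ha =>
      obtain ⟨c, hc⟩ := Finset.dvd_prod_of_mem (fun j : S => (s j : Γ(X, U)))
        (Finset.mem_univ (⟨a, ha⟩ : S))
      have h := hs ⟨a, ha⟩
      show (∏ j : S, (s j : Γ(X, U))) * a = 0
      rw [hc, mul_comm _ c, mul_assoc]
      simp [h]
    | zero => simp
    | add a b _ _ ha hb => simp [mul_add, ha, hb]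
    | smul r a _ ha => rw [smul_eq_mul, mul_left_comm, ha, mul_zero]
  have htx : x ∈ X.basicOpen t := by
    rw [X.mem_basicOpen t x hxU]
    exact IsLocalization.map_units (X.presheaf.stalk x)
      (⟨t, Submonoid.prod_mem _ fun j _ => (s j).2⟩ : p.primeCompl)
  refine ⟨X.basicOpen t, htx, fun z hz hzW hbz => ?_⟩
  have hzU : z ∈ U := X.basicOpen_le t hz
  letI : Algebra Γ(X, U) (X.presheaf.stalk z) :=
    X.presheaf.algebra_section_stalk ⟨z, hzU⟩
  haveI : IsLocalization.AtPrime (X.presheaf.stalk z) (hU.primeIdealOf ⟨z, hzU⟩).asIdeal :=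
    hU.isLocalization_stalk ⟨z, hzU⟩
  obtain ⟨r, hr⟩ := (IsLocalization.map_eq_zero_iff
    (hU.primeIdealOf ⟨z, hzU⟩).asIdeal.primeCompl (X.presheaf.stalk z) b').mp ((hres z hzU).trans hbz)
  have h1 : t * (r : Γ(X, U)) = 0 := ht r (show b' * (r : Γ(X, U)) = 0 by rw [mul_comm]; exact hr)
  have h2 : IsUnit (X.presheaf.germ U z hzU t) := (X.mem_basicOpen t z hzU).mp hz
  have h3 : IsUnit (X.presheaf.germ U z hzU (r : Γ(X, U))) :=
    IsLocalization.map_units (X.presheaf.stalk z) r
  exact (h2.mul h3).ne_zero (by rw [← map_mul, h1, map_zero])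

variable [IsLocallyNoetherian X] (hX : ∀ x : X, IsDomain (X.presheaf.stalk x))
  (f : X ⟶ Y) (hfib : ∀ V : Y.Opens, IsIso (f.app V))

include hX hfib in
/-- If `b` is non-zero at `y`, then near `y` its pull-back has nowhere vanishing germs. -/
theorem exists_nbhd (V : Y.Opens) (y : Y) (hy : y ∈ V) (b : Γ(Y, V))
    (hb : Y.presheaf.germ V y hy b ≠ 0) :
    ∃ V' : Y.Opens, y ∈ V' ∧ V' ≤ V ∧ ∀ (z : X) (hz : z ∈ f ⁻¹ᵁ V), z ∈ f ⁻¹ᵁ V' →
      X.presheaf.germ (f ⁻¹ᵁ V) z hz (f.app V b) ≠ 0 := by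
  let W := f ⁻¹ᵁ V
  let bX : Γ(X, W) := f.app V b
  let N : X.Opens := ⟨{z | ∃ hz : z ∈ W, X.presheaf.germ W z hz bX = 0}, by
    rw [isOpen_iff_forall_mem_open]
    rintro z ⟨hz, h0⟩
    obtain ⟨U, hzU, i₁, i₂, h⟩ := X.presheaf.germ_eq z hz hz bX 0 (by rw [h0, map_zero])
    refine ⟨U, fun w hw => ⟨i₁.le hw, ?_⟩, U.isOpen, hzU⟩
    rw [← X.presheaf.germ_res_apply i₁ w hw bX, h]
    simp⟩
  let M : X.Opens := ⟨{z | ∃ hz : z ∈ W, X.presheaf.germ W z hz bX ≠ 0}, by
    rw [isOpen_iff_forall_mem_open]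
    rintro z ⟨hz, h0⟩
    obtain ⟨U, hzU, hU⟩ := eventually_germ_ne_zero W z hz (hX z) bX h0
    exact ⟨(U : Set X) ∩ W, fun w hw => ⟨hw.2, hU w hw.1 hw.2⟩, U.isOpen.inter W.isOpen,
      hzU, hz⟩⟩
  let C : Bool → X.Opens := fun c => bif c then N else M
  let sf : ∀ c, Γ(X, C c) := fun c => match c with | true => 1 | false => 0
  have hcompat : TopCat.Presheaf.IsCompatible X.sheaf.presheaf C sf := by
    intro c c'
    cases c <;> cases c'
    · rfl
    all_goals
      first
        | rfl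
        | (refine TopCat.Sheaf.eq_of_locally_eq' X.sheaf (fun e : Empty => (⊥ : X.Opens)) _
            (fun e => e.elim) ?_ _ _ (fun e => e.elim)
           rintro z ⟨⟨hz, h⟩, ⟨hz', h'⟩⟩
           first | exact absurd h' h | exact absurd h h')
  have hCW : ∀ c, C c ≤ W := fun c => by cases c <;> exact fun z hz => hz.1
  obtain ⟨e, he⟩ : ∃ e : Γ(X, W), ∀ c, X.presheaf.map (homOfLE (hCW c)).op e = sf c := by
   obtain ⟨e, he, -⟩ := TopCat.Sheaf.existsUnique_gluing' X.sheaf C W
    (fun c => homOfLE (hCW c))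
    (by
      intro z hz
      rw [Opens.mem_iSup]
      by_cases h : X.presheaf.germ W z hz bX = 0
      · exact ⟨true, hz, h⟩
      · exact ⟨false, hz, h⟩)
    sf hcompat
   exact ⟨e, he⟩
  have heN : ∀ (z : X) (hz : z ∈ W), X.presheaf.germ W z hz bX = 0 →
      X.presheaf.germ W z hz e = 1 := by
    intro z hz h
    rw [← X.presheaf.germ_res_apply (homOfLE (show N ≤ W from fun w hw => hw.1)) z ⟨hz, h⟩ e]
    exact (congrArg _ (he true)).trans (map_one _)
  have heM : ∀ (z : X) (hz : z ∈ W), X.presheaf.germ W z hz bX ≠ 0 →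
      X.presheaf.germ W z hz e = 0 := by
    intro z hz h
    rw [← X.presheaf.germ_res_apply (homOfLE (show M ≤ W from fun w hw => hw.1)) z ⟨hz, h⟩ e]
    exact (congrArg _ (he false)).trans (map_zero _)
  haveI := hfib V
  have hbij := ConcreteCategory.bijective_of_isIso (f.app V)
  obtain ⟨e', he'⟩ := hbij.2 e
  have h1 : e' * e' = e' := by
    apply hbij.1
    rw [map_mul, he']
    apply TopCat.Presheaf.section_ext X.sheaf
    intro z hz
    show X.presheaf.germ W z hz (e * e) = X.presheaf.germ W z hz e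
    rw [map_mul]
    by_cases h : X.presheaf.germ W z hz bX = 0
    · rw [heN z hz h, one_mul]
    · rw [heM z hz h, zero_mul]
  have h2 : e' * b = 0 := by
    apply hbij.1
    rw [map_mul, he', map_zero]
    apply TopCat.Presheaf.section_ext X.sheaf
    intro z hz
    show X.presheaf.germ W z hz (e * f.app V b) = X.presheaf.germ W z hz 0
    rw [map_mul, map_zero]
    by_cases h : X.presheaf.germ W z hz bX = 0
    · rw [show X.presheaf.germ W z hz (f.app V b) = 0 from h, mul_zero]
    · rw [heM z hz h, zero_mul]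
  have h3 : ¬ IsUnit (Y.presheaf.germ V y hy e') := fun hu =>
    hb (hu.mul_right_eq_zero.mp (by rw [← map_mul, h2, map_zero]))
  have h4 : IsUnit (1 - Y.presheaf.germ V y hy e') :=
    IsLocalRing.isUnit_one_sub_self_of_mem_nonunits _ h3
  have h5 : Y.presheaf.germ V y hy e' = 0 := by
    refine h4.mul_right_eq_zero.mp ?_
    rw [sub_mul, one_mul, ← map_mul, h1, sub_self]
  obtain ⟨V', hyV', i₁, i₂, h6⟩ := Y.presheaf.germ_eq y hy hy e' 0 (by rw [h5, map_zero])
  refine ⟨V', hyV', i₁.le, fun z hz hz' hz0 => ?_⟩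
  have h7 : X.presheaf.germ W z hz e = 1 := heN z hz hz0
  rw [← he', ← Scheme.Hom.germ_stalkMap_apply f V z hz e',
    ← Y.presheaf.germ_res_apply i₁ (f z) hz' e', h6] at h7
  simp at h7

include hX hfib in
theorem isDomain_stalk (y : Y) : IsDomain (Y.presheaf.stalk y) := by
  haveI : NoZeroDivisors (Y.presheaf.stalk y) := by
    constructor
    intro a b hab
    by_contra! h
    obtain ⟨V₁, hy₁, a', rfl⟩ := Y.presheaf.exists_germ_eq a
    obtain ⟨V₂, hy₂, b', rfl⟩ := Y.presheaf.exists_germ_eq b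
    obtain ⟨V, hyV, i, j, hV⟩ : ∃ (V : Y.Opens) (hyV : y ∈ V) (i : V ⟶ V₁) (j : V ⟶ V₂),
        Y.presheaf.map i.op a' * Y.presheaf.map j.op b' = 0 := by
      have hy : y ∈ V₁ ⊓ V₂ := ⟨hy₁, hy₂⟩
      obtain ⟨V, hyV, i₁, i₂, h'⟩ := Y.presheaf.germ_eq y hy hy
        (Y.presheaf.map (homOfLE inf_le_left).op a' * Y.presheaf.map (homOfLE inf_le_right).op b') 0
        (by rw [map_mul, Y.presheaf.germ_res_apply, Y.presheaf.germ_res_apply, hab, map_zero])
      refine ⟨V, hyV, i₁ ≫ homOfLE inf_le_left, i₁ ≫ homOfLE inf_le_right, ?_⟩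
      rw [map_mul, map_zero] at h'
      simpa [← CategoryTheory.comp_apply, ← Functor.map_comp] using h'
    rw [← Y.presheaf.germ_res_apply i y hyV a'] at h
    rw [← Y.presheaf.germ_res_apply j y hyV b'] at h
    obtain ⟨V', hyV', hle, hne⟩ := exists_nbhd hX f hfib V y hyV _ h.2
    apply h.1
    have key : Y.presheaf.map (homOfLE hle).op (Y.presheaf.map i.op a') = 0 := by
      haveI := hfib V'
      apply (ConcreteCategory.bijective_of_isIso (f.app V')).1
      rw [map_zero]
      apply TopCat.Presheaf.section_ext X.sheaf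
      intro z hz
      show X.presheaf.germ (f ⁻¹ᵁ V') z hz _ = X.presheaf.germ (f ⁻¹ᵁ V') z hz 0
      rw [map_zero]
      have hz' : z ∈ f ⁻¹ᵁ V := hle hz
      have h1 := congrArg (fun s => X.presheaf.germ (f ⁻¹ᵁ V) z hz' (f.app V s)) hV
      simp only [map_mul, map_zero] at h1
      haveI := hX z
      rcases mul_eq_zero.mp h1 with h2 | h2
      · refine Eq.trans ?_ h2
        rw [← CategoryTheory.comp_apply (Y.presheaf.map (homOfLE hle).op) (f.app V'),
          Scheme.Hom.naturality, CategoryTheory.comp_apply]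
        exact X.presheaf.germ_res_apply _ _ _ _
      · exact absurd h2 (hne z hz' hz)
    rw [← Y.presheaf.germ_res_apply (homOfLE hle) y hyV', key]
    exact map_zero (Y.presheaf.germ V' y hyV').hom
  exact NoZeroDivisors.to_isDomain _

include hX hfib in
theorem isIntegrallyClosed_stalk (hn : ∀ x : X, IsIntegrallyClosed (X.presheaf.stalk x)) (y : Y) :
    IsIntegrallyClosed (Y.presheaf.stalk y) := by
  haveI := isDomain_stalk hX f hfib y
  set R := Y.presheaf.stalk y
  rw [isIntegrallyClosed_iff (FractionRing R)]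
  intro x hx
  obtain ⟨p, hp, hpx⟩ := hx
  obtain ⟨a, b, hb, rfl⟩ := IsFractionRing.div_surjective R x
  replace hb : b ≠ 0 := nonZeroDivisors.ne_zero hb
  have hb' : algebraMap R (FractionRing R) b ≠ 0 := by
    simpa using (IsFractionRing.injective R (FractionRing R)).ne hb
  have hroot : (p.scaleRoots b).eval a = 0 := by
    apply IsFractionRing.injective R (FractionRing R)
    rw [← Polynomial.eval₂_at_apply, map_zero]
    have h1 := Polynomial.scaleRoots_eval₂_eq_zero (algebraMap R (FractionRing R)) (s := b) hpx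
    rwa [mul_div_cancel₀ _ hb'] at h1
  obtain ⟨V, hyV, q, a', b', hqm, hq, ha', hb'', hrel⟩ : ∃ (V : Y.Opens) (hyV : y ∈ V)
      (q : Γ(Y, V)[X]) (a' b' : Γ(Y, V)), q.Monic ∧ q.natDegree = p.natDegree ∧
      Y.presheaf.germ V y hyV a' = a ∧ Y.presheaf.germ V y hyV b' = b ∧
      (q.scaleRoots b').eval a' = 0 := by
    classical
    have hc : ∀ i : Fin p.natDegree, ∃ (V : Y.Opens) (hyV : y ∈ V) (c : Γ(Y, V)),
        Y.presheaf.germ V y hyV c = p.coeff i := fun i => Y.presheaf.exists_germ_eq _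
    choose U hU c hc using hc
    obtain ⟨Va, hya, a', ha'⟩ := Y.presheaf.exists_germ_eq a
    obtain ⟨Vb, hyb, b', hb''⟩ := Y.presheaf.exists_germ_eq b
    let V₀ : Y.Opens := (Va ⊓ Vb) ⊓ Finset.univ.inf U
    have hy₀ : y ∈ V₀ := by
      refine ⟨⟨hya, hyb⟩, ?_⟩
      rw [TopologicalSpace.Opens.coe_finset_inf]
      simp [hU]
    let iU : ∀ i, V₀ ⟶ U i := fun i => homOfLE (inf_le_right.trans (Finset.inf_le (Finset.mem_univ i)))
    let q₀ : Γ(Y, V₀)[X] := Polynomial.X ^ p.natDegree +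
      ∑ i : Fin p.natDegree, Polynomial.C (Y.presheaf.map (iU i).op (c i)) * Polynomial.X ^ (i : ℕ)
    let g := (Y.presheaf.germ V₀ y hy₀).hom
    have hmap : q₀.map g = p := by
      simp only [q₀, Polynomial.map_add, Polynomial.map_pow, Polynomial.map_X, Polynomial.map_sum,
        Polynomial.map_mul, Polynomial.map_C]
      conv_rhs => rw [hp.as_sum]
      rw [← Fin.sum_univ_eq_sum_range (fun i => Polynomial.C (p.coeff i) * Polynomial.X ^ i)]
      congr 1
      refine Finset.sum_congr rfl fun i _ => ?_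
      congr 2
      exact (Y.presheaf.germ_res_apply (iU i) y hy₀ (c i)).trans (hc i)
    have hdeg : (∑ i : Fin p.natDegree, Polynomial.C (Y.presheaf.map (iU i).op (c i)) *
        Polynomial.X ^ (i : ℕ)).degree < (p.natDegree : WithBot ℕ) :=
      Polynomial.degree_sum_fin_lt _
    have hm₀ : q₀.Monic := Polynomial.monic_X_pow_add hdeg
    haveI : Nontrivial Γ(Y, V₀) := g.domain_nontrivial
    have hq₀ : q₀.natDegree = p.natDegree := by rw [← hmap, hm₀.natDegree_map]
    let a₀ := Y.presheaf.map (homOfLE (show V₀ ≤ Va from inf_le_left.trans inf_le_left)).op a'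
    let b₀ := Y.presheaf.map (homOfLE (show V₀ ≤ Vb from inf_le_left.trans inf_le_right)).op b'
    have ha₀ : g a₀ = a := (Y.presheaf.germ_res_apply _ y hy₀ a').trans ha'
    have hb₀ : g b₀ = b := (Y.presheaf.germ_res_apply _ y hy₀ b').trans hb''
    have h0 : g ((q₀.scaleRoots b₀).eval a₀) = 0 := by
      rw [← Polynomial.eval_map_apply, Polynomial.map_scaleRoots, ha₀, hb₀, hmap, hroot]
      rw [hm₀.leadingCoeff, map_one]
      exact one_ne_zero
    obtain ⟨V, hyV, i₁, i₂, h'⟩ := Y.presheaf.germ_eq y hy₀ hy₀ _ 0 (h0.trans (map_zero g).symm)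
    let ρ := (Y.presheaf.map i₁.op).hom
    refine ⟨V, hyV, q₀.map ρ, ρ a₀, ρ b₀, hm₀.map _, ?_, ?_, ?_, ?_⟩
    · haveI : Nontrivial Γ(Y, V) := (Y.presheaf.germ V y hyV).hom.domain_nontrivial
      rw [hm₀.natDegree_map, hq₀]
    · exact (Y.presheaf.germ_res_apply i₁ y hyV a₀).trans ha₀
    · exact (Y.presheaf.germ_res_apply i₁ y hyV b₀).trans hb₀
    · have h'' : ρ ((q₀.scaleRoots b₀).eval a₀) = 0 := h'.trans (map_zero _)
      haveI : Nontrivial Γ(Y, V) := (Y.presheaf.germ V y hyV).hom.domain_nontrivial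
      rw [← Polynomial.eval_map_apply, Polynomial.map_scaleRoots] at h''
      · exact h''
      · rw [hm₀.leadingCoeff, map_one]; exact one_ne_zero
  have hbne : Y.presheaf.germ V y hyV b' ≠ 0 := hb'' ▸ hb
  obtain ⟨V', hyV', hle, hne⟩ := exists_nbhd hX f hfib V y hyV b' hbne
  let W' := f ⁻¹ᵁ V'
  have hWle : W' ≤ f ⁻¹ᵁ V := fun z hz => hle hz
  let r := (X.presheaf.map (homOfLE hWle).op).hom.comp (f.app V).hom
  have hbz : ∀ (z : X) (hz : z ∈ W'), X.presheaf.germ W' z hz (r b') ≠ 0 := fun z hz => by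
    rw [show X.presheaf.germ W' z hz (r b') = X.presheaf.germ (f ⁻¹ᵁ V) z (hWle hz) (f.app V b')
      from X.presheaf.germ_res_apply (homOfLE hWle) z hz _]
    exact hne z _ hz
  have hq_loc : ∀ w : W', ∃ (U : X.Opens) (hw : (w : X) ∈ U) (hUW : U ≤ W') (s : Γ(X, U)),
      X.presheaf.map (homOfLE hUW).op (r a') = s * X.presheaf.map (homOfLE hUW).op (r b') := by
    intro w
    haveI := hX w.1
    haveI := hn w.1
    let g := (X.presheaf.germ W' w.1 w.2).hom.comp r
    let S := X.presheaf.stalk w.1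
    let K := FractionRing S
    have hbK : algebraMap S K (g b') ≠ 0 := by
      have h : g b' ≠ 0 := hbz w.1 w.2
      simpa using (IsFractionRing.injective S K).ne h
    have hint : IsIntegral S (algebraMap S K (g a') / algebraMap S K (g b')) := by
      refine ⟨q.map g, hqm.map g, ?_⟩
      have h0 : ((q.map g).scaleRoots (g b')).eval (g a') = 0 := by
        rw [← Polynomial.map_scaleRoots, Polynomial.eval_map_apply, hrel, map_zero]
        rw [hqm.leadingCoeff, map_one]
        exact one_ne_zero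
      have h1 : ((q.map g).scaleRoots (g b')).eval₂ (algebraMap S K)
          (algebraMap S K (g b') * (algebraMap S K (g a') / algebraMap S K (g b'))) = 0 := by
        rw [mul_div_cancel₀ _ hbK, Polynomial.eval₂_at_apply, h0, map_zero]
      rw [Polynomial.scaleRoots_eval₂_mul] at h1
      exact (mul_eq_zero.mp h1).resolve_left (pow_ne_zero _ hbK)
    obtain ⟨c, hc⟩ := IsIntegrallyClosed.algebraMap_eq_of_integral hint
    have hc' : g a' = c * g b' := by
      apply IsFractionRing.injective S K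
      rw [map_mul, hc, div_mul_cancel₀ _ hbK]
    obtain ⟨U, hwU, s, hs⟩ := X.presheaf.exists_germ_eq c
    have hw₁ : w.1 ∈ U ⊓ W' := ⟨hwU, w.2⟩
    obtain ⟨U', hwU', i₁, i₂, h'⟩ := X.presheaf.germ_eq w.1 hw₁ hw₁
      (X.presheaf.map (homOfLE (inf_le_right : U ⊓ W' ≤ W')).op (r a'))
      (X.presheaf.map (homOfLE (inf_le_left : U ⊓ W' ≤ U)).op s *
        X.presheaf.map (homOfLE (inf_le_right : U ⊓ W' ≤ W')).op (r b'))
      (by rw [map_mul, X.presheaf.germ_res_apply, X.presheaf.germ_res_apply,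
        X.presheaf.germ_res_apply, hs]; exact hc')
    refine ⟨U', hwU', i₁.le.trans inf_le_right,
      X.presheaf.map i₁.op (X.presheaf.map (homOfLE (inf_le_left : U ⊓ W' ≤ U)).op s), ?_⟩
    rw [Subsingleton.elim i₂ i₁, map_mul] at h'
    simp only [← CategoryTheory.comp_apply, ← Functor.map_comp] at h' ⊢
    convert h' using 2
    all_goals rfl
  choose U hwU hUW s hs using hq_loc
  have hs' : ∀ (w : W') (z : X) (hz : z ∈ U w),
      X.presheaf.germ W' z (hUW w hz) (r a') =
        X.presheaf.germ (U w) z hz (s w) * X.presheaf.germ W' z (hUW w hz) (r b') := by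
    intro w z hz
    rw [← X.presheaf.germ_res_apply (homOfLE (hUW w)) z hz (r a'), hs w, map_mul,
      X.presheaf.germ_res_apply]
  obtain ⟨Q, hQ⟩ : ∃ Q : Γ(X, W'), ∀ w, X.presheaf.map (homOfLE (hUW w)).op Q = s w := by
   obtain ⟨Q, hQ, -⟩ := TopCat.Sheaf.existsUnique_gluing' X.sheaf U W'
    (fun w => homOfLE (hUW w)) (fun z hz => Opens.mem_iSup.mpr ⟨⟨z, hz⟩, hwU ⟨z, hz⟩⟩) s (by
      intro w w'
      apply TopCat.Presheaf.section_ext X.sheaf
      intro z hz
      erw [X.presheaf.germ_res_apply, X.presheaf.germ_res_apply]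
      haveI := hX z
      show X.presheaf.germ (U w) z hz.1 (s w) = X.presheaf.germ (U w') z hz.2 (s w')
      exact mul_right_cancel₀ (hbz z (hUW w hz.1)) ((hs' w z hz.1).symm.trans (hs' w' z hz.2)))
   exact ⟨Q, hQ⟩
  haveI := hfib V'
  have hbij := ConcreteCategory.bijective_of_isIso (f.app V')
  obtain ⟨Q', hQ'⟩ := hbij.2 Q
  refine ⟨Y.presheaf.germ V' y hyV' Q', ?_⟩
  have hkey : Y.presheaf.map (homOfLE hle).op a' = Q' * Y.presheaf.map (homOfLE hle).op b' := by
    apply hbij.1
    have hnat : ∀ t, f.app V' (Y.presheaf.map (homOfLE hle).op t) = r t := fun t => by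
      rw [← CategoryTheory.comp_apply, Scheme.Hom.naturality]
      rfl
    rw [map_mul, hQ', hnat, hnat]
    apply TopCat.Presheaf.section_ext X.sheaf
    intro z hz
    show X.presheaf.germ W' z hz (r a') = X.presheaf.germ W' z hz (Q * r b')
    rw [map_mul]
    refine (hs' ⟨z, hz⟩ z (hwU ⟨z, hz⟩)).trans ?_
    congr 1
    rw [← hQ ⟨z, hz⟩]
    exact X.presheaf.germ_res_apply _ _ _ Q
  have := congrArg (Y.presheaf.germ V' y hyV') hkey
  rw [map_mul, Y.presheaf.germ_res_apply, Y.presheaf.germ_res_apply, ha', hb''] at this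
  rw [this, map_mul, mul_div_assoc, div_self hb', mul_one]

end FibrationNormal

/-- Let k be a field and f : X → Y a k-morphism between proper k-schemes which is a fibration, i.e. O_Y
→ f_*O_X is an isomorphism (Γ(V, O_Y) → Γ(f⁻¹V, O_X) bijective for every open V ⊆ Y). If X is normal
(every local ring an integrally closed domain), then so is Y. -/
theorem result (k : Type u) [Field k] (X Y : Scheme.{u})
    [X.Over (Spec (CommRingCat.of k))] [Y.Over (Spec (CommRingCat.of k))] [IsProper (X ↘ Spec (CommRingCat.of k))] [IsProper (Y ↘ Spec (CommRingCat.of k))]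
    (f : X ⟶ Y) (hf : f ≫ (Y ↘ Spec (CommRingCat.of k)) = X ↘ Spec (CommRingCat.of k)) (hfib : ∀ V : Y.Opens, IsIso (f.app V))
    (hX : Pi1.IsNormalScheme X) : Pi1.IsNormalScheme Y := by
  haveI : IsLocallyNoetherian X :=
    LocallyOfFiniteType.isLocallyNoetherian (X ↘ Spec (CommRingCat.of k))
  exact fun y => ⟨FibrationNormal.isDomain_stalk (fun x => (hX x).1) f hfib y,
    FibrationNormal.isIntegrallyClosed_stalk (fun x => (hX x).1) f hfib
      (fun x => (hX x).2) y⟩

end Groth.Agent.S19513
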