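import Groth.Statements.S19514
import Mathlib

set_option autoImplicit false
set_option linter.style.haveILetI false
universe u
open CategoryTheory CategoryTheory.Limits AlgebraicGeometry
open Variety

namespace Groth.Agent.S19514

/-- Let k be a field and f : X → Y a k-morphism between proper k-schemes which is a fibration, i.e. O_Y
→ f_*O_X is an isomorphism (Γ(V, O_Y) → Γ(f⁻¹V, O_X) bijective for every open V ⊆ Y). If X is
geometrically integral over k, then so is Y. (The assertion of (iii) for geometric normality is not
stated here.) -/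
theorem result (k : Type u) [Field k] (X Y : Scheme.{u})
    [X.Over (Spec (CommRingCat.of k))] [Y.Over (Spec (CommRingCat.of k))] [IsProper (X ↘ Spec (CommRingCat.of k))] [IsProper (Y ↘ Spec (CommRingCat.of k))]
    (f : X ⟶ Y) (hf : f ≫ (Y ↘ Spec (CommRingCat.of k)) = X ↘ Spec (CommRingCat.of k)) (hfib : ∀ V : Y.Opens, IsIso (f.app V))
    [GeometricallyIntegral (X ↘ Spec (CommRingCat.of k))] : GeometricallyIntegral (Y ↘ Spec (CommRingCat.of k)) := by
  haveI : IsProper (f ≫ (Y ↘ Spec (CommRingCat.of k))) := hf ▸ ‹_›
  haveI : IsProper f := IsProper.of_comp f (Y ↘ Spec (CommRingCat.of k))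
  haveI : IsSchemeTheoreticallyDominant f := by
    refine ⟨Scheme.IdealSheafData.ext (funext fun U => ?_)⟩
    haveI := hfib U.1
    rw [Scheme.Hom.ker_apply, Scheme.IdealSheafData.ideal_bot, Pi.bot_apply,
      ← RingHom.injective_iff_ker_eq_bot]
    exact (ConcreteCategory.bijective_of_isIso (f.app U.1)).1
  refine ⟨fun K _ y Z fst snd h => ?_⟩
  haveI : Flat y := by
    obtain ⟨φ, rfl⟩ := Spec.map_surjective y
    rw [HasRingHomProperty.Spec_iff (P := @Flat)]
    algebraize [φ.hom]
    exact (inferInstance : Module.Flat k K)
  haveI : Flat fst := MorphismProperty.of_isPullback h.flip ‹_›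
  have hX : IsPullback (Limits.pullback.fst f fst) (Limits.pullback.snd f fst ≫ snd)
      (X ↘ Spec (CommRingCat.of k)) y := by
    have := (IsPullback.of_hasPullback f fst).flip.paste_horiz h.flip
    rw [hf] at this
    exact this.flip
  haveI : IsIntegral (Limits.pullback f fst) :=
    GeometricallyIntegral.geometrically_isIntegral y _ _ hX
  let g := Limits.pullback.snd f fst
  haveI : IsSchemeTheoreticallyDominant g := inferInstance
  haveI : IsReduced Z := IsSchemeTheoreticallyDominant.isReduced g
  have hsurj : Function.Surjective g := by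
    rw [← Set.range_eq_univ, ← g.isClosedMap.isClosed_range.closure_eq]
    exact g.denseRange.closure_eq
  haveI : IrreducibleSpace Z := hsurj.irreducibleSpace g.continuous
  exact isIntegral_of_irreducibleSpace_of_isReduced Z

end Groth.Agent.S19514
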