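import Groth.Statements.S19515
import Groth.Agent.S19513
import Groth.Agent.Blanchard.Basic
import Groth.Agent.GrpSchLib.GeomIrr

set_option autoImplicit false
universe u
open CategoryTheory CategoryTheory.Limits AlgebraicGeometry
open Variety

set_option backward.isDefEq.respectTransparency false

namespace Groth.Agent.S19515

/-- Let k be a field and f : X → Y a k-morphism between proper k-schemes which is a fibration, i.e. O_Y
→ f_*O_X is an isomorphism (Γ(V, O_Y) → Γ(f⁻¹V, O_X) bijective for every open V ⊆ Y). If X is
geometrically normal, i.e. its base change to every algebraic closure of k has all local rings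
integrally closed domains, then Y is geometrically normal in the same sense. -/
theorem result (k : Type u) [Field k] (X Y : Scheme.{u})
    [X.Over (Spec (CommRingCat.of k))] [Y.Over (Spec (CommRingCat.of k))] [IsProper (X ↘ Spec (CommRingCat.of k))] [IsProper (Y ↘ Spec (CommRingCat.of k))]
    (f : X ⟶ Y) (hf : f ≫ (Y ↘ Spec (CommRingCat.of k)) = X ↘ Spec (CommRingCat.of k)) (hfib : ∀ V : Y.Opens, IsIso (f.app V))
    (hX : ∀ (K : Type u) [Field K] [Algebra k K] [IsAlgClosure k K],
      Pi1.IsNormalScheme (pullback (X ↘ Spec (CommRingCat.of k)) (Spec.map (CommRingCat.ofHom (algebraMap k K)))))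
    (K : Type u) [Field K] [Algebra k K] [IsAlgClosure k K] :
    Pi1.IsNormalScheme (pullback (Y ↘ Spec (CommRingCat.of k)) (Spec.map (CommRingCat.ofHom (algebraMap k K)))) := by
  set sX := X ↘ Spec (CommRingCat.of k)
  set sY := Y ↘ Spec (CommRingCat.of k)
  set y := Spec.map (CommRingCat.ofHom (algebraMap k K))
  haveI : Flat y := GrpSchLib.flat_spec_map_field (algebraMap k K)
  letI : (pullback sX y).Over (Spec (CommRingCat.of K)) := ⟨pullback.snd sX y⟩
  letI : (pullback sY y).Over (Spec (CommRingCat.of K)) := ⟨pullback.snd sY y⟩
  haveI : IsProper (pullback sX y ↘ Spec (CommRingCat.of K)) := inferInstanceAs (IsProper (pullback.snd sX y))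
  haveI : IsProper (pullback sY y ↘ Spec (CommRingCat.of K)) := inferInstanceAs (IsProper (pullback.snd sY y))
  haveI : IsProper (f ≫ sY) := hf ▸ ‹_›
  haveI : IsProper f := IsProper.of_comp f sY
  haveI : QuasiSeparatedSpace X := (quasiSeparated_iff_quasiSeparatedSpace sX).mp inferInstance
  let g : pullback sX y ⟶ pullback sY y :=
    pullback.map sX y sY y f (𝟙 _) (𝟙 _) (by rw [Category.comp_id]; exact hf.symm)
      (by rw [Category.id_comp, Category.comp_id])
  have hg : g ≫ pullback.snd sY y = pullback.snd sX y := by
    rw [pullback.lift_snd, Category.comp_id]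
  have hsq : IsPullback (pullback.fst sX y) g f (pullback.fst sY y) := by
    refine IsPullback.of_bot ?_ (pullback.lift_fst _ _ _).symm (IsPullback.of_hasPullback sY y)
    rw [hg, hf]
    exact IsPullback.of_hasPullback sX y
  haveI : Flat (pullback.fst sY y) := MorphismProperty.pullback_fst sY y ‹_›
  refine S19513.result K _ _ g hg (fun V => ?_) (hX K)
  exact (ConcreteCategory.isIso_iff_bijective _).2 (Blanchard.bijective_app_of_flat hsq
    (fun U => (haveI := hfib U; ConcreteCategory.bijective_of_isIso _)) V)

end Groth.Agent.S19515
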