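import Groth.Statements.S19516
import Groth.Agent.PicTorsFF.Main
import Groth.Agent.S14811
import Groth.Agent.CurveBC.PicInj
import Groth.Agent.CurveCohLib.Proper
set_option autoImplicit false
universe u
open CategoryTheory CategoryTheory.Limits AlgebraicGeometry
open Pic13

namespace Groth.Agent.S19516
open scoped Groth.Agent.H23.PicMul

/-- Let k be a field of characteristic p > 0 which is algebraic over its prime field, i.e. every element
x of k satisfies x^(p^n) = x for some n ≥ 1, and let X be a geometrically normal proper k-scheme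
(the base change of X to an algebraic closure of k has all local rings integrally closed domains).
Then every numerically trivial invertible O_X-module L (degree 0 on every closed subscheme of X
integral of dimension one) has finite order: L^{⊗d} ≅ O_X for some d ≥ 1. -/
theorem result
    (p : ℕ) [Fact (Nat.Prime p)] (k : Type u) [Field k] [CharP k p]
    (halg : ∀ x : k, ∃ n : ℕ, 0 < n ∧ x ^ (p ^ n) = x)
    (X : Scheme.{u}) [X.Over (Spec (CommRingCat.of k))] [IsProper (X ↘ Spec (CommRingCat.of k))]
    (hgn : ∀ (K : Type u) [Field K] [Algebra k K] [IsAlgClosure k K],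
      Pi1.IsNormalScheme (pullback (X ↘ Spec (CommRingCat.of k)) (Spec.map (CommRingCat.ofHom (algebraMap k K)))))
    (L : X.Modules) (hL : PicF.IsInvertible L) (hnum : Pic13.IsNumEquivZero k X L) :
    ∃ d : ℕ, 0 < d ∧ Nonempty (CohB1.tensorPow L d ≅ Coh.structureModule X) := by
  haveI : CompactSpace X := QuasiCompact.compactSpace_of_compactSpace (X ↘ Spec (CommRingCat.of k))
  haveI : QuasiSeparatedSpace X := quasiSeparatedSpace_of_quasiSeparated (X ↘ Spec (CommRingCat.of k))
  let K := AlgebraicClosure k
  haveI : CharP K p := charP_of_injective_algebraMap (algebraMap k K).injective p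
  let s := Spec.map (CommRingCat.ofHom (algebraMap k K))
  let Y := pullback (X ↘ Spec (CommRingCat.of k)) s
  letI : Y.Over (Spec (CommRingCat.of K)) := ⟨pullback.snd (X ↘ Spec (CommRingCat.of k)) s⟩
  haveI : IsProper (Y ↘ Spec (CommRingCat.of K)) := inferInstanceAs (IsProper (pullback.snd (X ↘ Spec (CommRingCat.of k)) s))
  have hLY : PicF.IsInvertible ((Scheme.Modules.pullback (pullback.fst (X ↘ Spec (CommRingCat.of k)) s)).obj L) :=
    Groth.Agent.PicClLib.isInvertible_pullback _ hL
  obtain ⟨d, hd, ⟨e⟩⟩ := Groth.Agent.PicTorsFF.exists_pow_eq_one p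
    (Groth.Agent.PicTorsFF.pow_eq_self_of_isAlgebraic p halg) (hgn K)
    (L := (Scheme.Modules.pullback (pullback.fst (X ↘ Spec (CommRingCat.of k)) s)).obj L)
    ⟨hLY, (Groth.Agent.S14811.result k X L hL K).1 hnum⟩
  refine ⟨d, hd, Groth.Agent.CurveBC.PicInj.triv_of_pullback k K (pullback.fst (X ↘ Spec (CommRingCat.of k)) s)
    (IsPullback.of_hasPullback _ _) ?_ (Groth.Agent.H23.PicMul.isInvertible_tensorPow hL d) ?_⟩
  · haveI : IsLocallyNoetherian X := LocallyOfFiniteType.isLocallyNoetherian (X ↘ Spec (CommRingCat.of k))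
    exact Groth.Agent.CurveCohLib.finite_HH (k := k) Groth.Agent.QCoh.isCoh_structureModule' 0
  · refine Groth.Agent.H23.PicMul.cl_eq_iff.1 ?_
    show PicF.pullCl _ (PicF.cl (CohB1.tensorPow L d)) = _
    rw [Groth.Agent.H23.PicMul.cl_tensorPow, Groth.Agent.H23.PicMul.pullCl_pow]
    exact (Groth.Agent.H23.PicMul.cl_tensorPow _ _).symm.trans (Groth.Agent.H23.PicMul.cl_eq_iff.2 ⟨e⟩)

end Groth.Agent.S19516
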