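import Groth.Statements.S19518
import Groth.Agent.AGF20Lib.SolvRad
-- import your own Groth.Agent.* helpers here

set_option autoImplicit false
set_option linter.style.haveILetI false
set_option backward.isDefEq.respectTransparency.types false
set_option maxHeartbeats 1000000
universe u
open CategoryTheory CategoryTheory.Limits MonoidalCategory CartesianMonoidalCategory MonObj GrpObj AlgebraicGeometry
open AlgGrp

namespace Groth.Agent.S19518

/-- Over an algebraically closed field k let e → K → G → Q → e be an exact sequence of k-group schemes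
of finite type with G smooth and affine (i : K → G a closed subgroup scheme which is the kernel of
the flat surjective homomorphism π : G → Q), and let G_solv ⊆ G and Q_solv ⊆ Q be the largest smooth
connected solvable normal closed subgroup schemes. Then π maps G_solv into Q_solv and the induced
homomorphism G_solv → Q_solv is surjective. (The published proposition is stated for arbitrary
algebraic groups; G is taken smooth, as the argument requires, and affine, the setting in which the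
solvable part is considered.) -/
theorem result (k : Type u) [Field k] [IsAlgClosed k]
    (K G Q : Over (Spec (CommRingCat.of k))) [GrpObj K] [GrpObj G] [GrpObj Q]
    [QuasiCompact K.hom] [LocallyOfFiniteType K.hom] [Smooth G.hom] [QuasiCompact G.hom] [IsAffine G.left]
    [QuasiCompact Q.hom] [LocallyOfFiniteType Q.hom]
    (i : K ⟶ G) [IsMonHom i] [IsClosedImmersion i.left]
    (π : G ⟶ Q) [IsMonHom π] [Flat π.left] [Surjective π.left] (hker : AlgGrp.IsKernel i π)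
    (NG : Over (Spec (CommRingCat.of k))) [GrpObj NG] (iG : NG ⟶ G) [IsMonHom iG] [IsClosedImmersion iG.left]
    [Smooth NG.hom] [ConnectedSpace ↥NG.left] (hNGs : Red.IsSolvableGrp NG) (hNG : AlgGrp.IsNormalHom iG)
    (hNGmax : (∀ (N' : Over (Spec (CommRingCat.of k))) [GrpObj N'] (i' : N' ⟶ G) [IsMonHom i'] [IsClosedImmersion i'.left]
      [Smooth N'.hom] [ConnectedSpace ↥N'.left], Red.IsSolvableGrp N' → AlgGrp.IsNormalHom i' → ∃ f : N' ⟶ NG, f ≫ iG = i'))
    (NQ : Over (Spec (CommRingCat.of k))) [GrpObj NQ] (iQ : NQ ⟶ Q) [IsMonHom iQ] [IsClosedImmersion iQ.left]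
    [Smooth NQ.hom] [ConnectedSpace ↥NQ.left] (hNQs : Red.IsSolvableGrp NQ) (hNQ : AlgGrp.IsNormalHom iQ)
    (hNQmax : (∀ (N' : Over (Spec (CommRingCat.of k))) [GrpObj N'] (i' : N' ⟶ Q) [IsMonHom i'] [IsClosedImmersion i'.left]
      [Smooth N'.hom] [ConnectedSpace ↥N'.left], Red.IsSolvableGrp N' → AlgGrp.IsNormalHom i' → ∃ f : N' ⟶ NQ, f ≫ iQ = i')) :
    ∃ f : NG ⟶ NQ, f ≫ iQ = iG ≫ π ∧ Surjective f.left := by
  open CartesianMonoidalCategory MonObj GrpObj Groth.Agent.SolvGrp Groth.Agent.AGF20Lib Groth.Agent.AGFLib in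
  haveI : IsReduced G.left := GrpSchLib.isReduced_of_smooth_field G.hom
  haveI : IsReduced Q.left := FBaseLib.isReduced_of_flat_surjective π.left
  haveI : Smooth Q.hom := GrpSchLib.smooth_of_perfectField_of_isReduced Q
  haveI : IsAffine Q.left := isAffine_of_surjective π
  have hnG : (rangePts iG).Normal := ⟨fun z hz g => by
    obtain ⟨x, rfl⟩ := hz
    obtain ⟨y, hy⟩ := hNG _ g x
    exact ⟨y, hy.symm⟩⟩
  have hnQ : (rangePts iQ).Normal := ⟨fun z hz g => by
    obtain ⟨x, rfl⟩ := hz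
    obtain ⟨y, hy⟩ := hNQ _ g x
    exact ⟨y, hy.symm⟩⟩
  obtain ⟨haNG, hlNG, hqNG, -, -⟩ := sub_props iG
  haveI := haNG
  haveI := hlNG
  haveI := hqNG
  obtain ⟨haNQ, hlNQ, hqNQ, hmNQ, -⟩ := sub_props iQ
  haveI := haNQ
  haveI := hlNQ
  haveI := hqNQ
  haveI := hmNQ
  obtain ⟨D, _, iD, hiD, hcD, hsD, hconnD, hnD, hsolvD, heD⟩ := exists_solv_image π iG hnG (solvPts_of_isSolvableGrp hNGs)
  haveI := hiD
  haveI := hcD
  haveI := hsD
  haveI := hconnD
  obtain ⟨d, hd⟩ := hNQmax D iD hsolvD hnD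
  obtain ⟨f, hf, hfi⟩ := exists_fac_sub iQ (iG ≫ π) (fun z hz => by
    obtain ⟨w, rfl⟩ := heD.ge hz
    exact ⟨w ≫ d, by show (w ≫ d) ≫ iQ = w ≫ iD; rw [Category.assoc, hd]⟩)
  haveI := hf
  refine ⟨f, hfi, ?_⟩
  -- identity components
  obtain ⟨G0, _, i0, hi0, hc0, hs0, hcn0, hq0, hfin0⟩ := BorelExist.exists_idComp (P := G)
  haveI := hi0
  haveI := hc0
  haveI := hs0
  haveI := hcn0
  haveI := hq0
  haveI : Mono i0 := BorelExist.mono_of_closedImmersion i0
  haveI : IsAffine G0.left := isAffine_of_isAffineHom i0.left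
  obtain ⟨Q0, _, j0, hj0, hd0, ht0, hcm0, hr0, hfinQ⟩ := BorelExist.exists_idComp (P := Q)
  haveI := hj0
  haveI := hd0
  haveI := ht0
  haveI := hcm0
  haveI := hr0
  haveI : Mono j0 := BorelExist.mono_of_closedImmersion j0
  haveI : IsAffine Q0.left := isAffine_of_isAffineHom j0.left
  obtain ⟨π0, hπ0, hπ0j⟩ := exists_fac_sub j0 (i0 ≫ π) (rangePts_le_of_translates j0 hfinQ (i0 ≫ π))
  haveI := hπ0
  haveI : Surjective π0.left := by
    obtain ⟨S, hS, hcov⟩ := hfin0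
    refine surjective_of_rangePts π0 fun y => ?_
    have hfinπ : ∃ S' : Set (𝟙_ (Over (Spec (CommRingCat.of k))) ⟶ Q), S'.Finite ∧ ∀ p : 𝟙_ (Over (Spec (CommRingCat.of k))) ⟶ Q,
        ∃ s ∈ S', ∃ q : 𝟙_ (Over (Spec (CommRingCat.of k))) ⟶ G0, s * (q ≫ i0 ≫ π) = p := by
      refine ⟨(fun s => s ≫ π) '' S, hS.image _, fun p => ?_⟩
      obtain ⟨g, rfl⟩ := exists_pt_of_surjective π p
      obtain ⟨s, hs, q, rfl⟩ := hcov g
      exact ⟨s ≫ π, ⟨s, hs, rfl⟩, q, by rw [MonObj.mul_comp, Category.assoc]⟩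
    obtain ⟨x, hx⟩ := rangePts_le_of_translates (i0 ≫ π) hfinπ j0 (⟨y, rfl⟩ : y ≫ j0 ∈ rangePts j0)
    exact ⟨x, (cancel_mono j0).mp (show (x ≫ π0) ≫ j0 = y ≫ j0 by rw [Category.assoc, hπ0j]; exact hx)⟩
  -- the radical of the identity component
  obtain ⟨R, _, r, hr, hcr, hsR, hcR, hnr, hRp, hRmax⟩ := exists_solvRad G0
  haveI := hr
  haveI := hcr
  haveI := hsR
  haveI := hcR
  obtain ⟨haR, hlR, hqR, -, -⟩ := sub_props r
  haveI := haR
  haveI := hlR
  haveI := hqR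
  have hRs : Red.IsSolvableGrp R := AGFLib.ProperSpace.isSolvableGrp_of_pts hRp.choose hRp.choose_spec
  have hnr' : (rangePts r).Normal := ⟨fun z hz g => by
    obtain ⟨x, rfl⟩ := hz
    obtain ⟨y, hy⟩ := hnr _ g x
    exact ⟨y, hy.symm⟩⟩
  have hconj : ∀ (g : 𝟙_ (Over (Spec (CommRingCat.of k))) ⟶ G) (x : 𝟙_ (Over (Spec (CommRingCat.of k))) ⟶ R),
      g * (x ≫ r ≫ i0) * g⁻¹ ∈ rangePts (r ≫ i0) := fun g x => by
    obtain ⟨c, hc, hci⟩ := exists_fac_sub i0 (i0 ≫ Borel.conjM g) (rangePts_le_of_translates i0 hfin0 (i0 ≫ Borel.conjM g))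
    haveI := hc
    haveI : Surjective c.left := surjective_of_rangePts c fun y => by
      obtain ⟨z, hz⟩ := rangePts_le_of_translates i0 hfin0 (i0 ≫ Borel.conjM g⁻¹) (⟨y, rfl⟩ : y ≫ i0 ≫ Borel.conjM g⁻¹ ∈ rangePts (i0 ≫ Borel.conjM g⁻¹))
      change z ≫ i0 = y ≫ i0 ≫ Borel.conjM g⁻¹ at hz
      refine ⟨z, (cancel_mono i0).mp (show (z ≫ c) ≫ i0 = y ≫ i0 from ?_)⟩
      rw [Category.assoc, hci, ← Category.assoc, hz, Category.assoc, Category.assoc, Borel.conjM_comp, mul_inv_cancel,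
        Borel.conjM_one, Category.comp_id]
    obtain ⟨D', _, iD', hiD', hcD', hsD', hconnD', hnD', hsolv', he'⟩ := exists_solv_image c r hnr' hRp
    haveI := hiD'
    haveI := hcD'
    obtain ⟨a, ha⟩ := hRmax D' iD' hcD' hsD' hconnD' hnD' (solvPts_of_isSolvableGrp hsolv')
    obtain ⟨w, hw⟩ := he'.ge (⟨x, rfl⟩ : x ≫ r ≫ c ∈ rangePts (r ≫ c))
    change w ≫ iD' = x ≫ r ≫ c at hw
    refine ⟨w ≫ a, ?_⟩
    show (w ≫ a) ≫ r ≫ i0 = g * (x ≫ r ≫ i0) * g⁻¹
    rw [Category.assoc, ← Category.assoc a r i0, ha, ← Category.assoc, hw, Category.assoc, Category.assoc, hci,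
      ← Category.assoc r i0, ← Category.assoc, Borel.comp_conjM, toUnit_unique (toUnit _) (𝟙 _), Category.id_comp]
  haveI : IsClosedImmersion (r ≫ i0).left := inferInstanceAs (IsClosedImmersion (r.left ≫ i0.left))
  obtain ⟨b, hb⟩ := hNGmax R (r ≫ i0) hRs (isNormalHom_of_pts (r ≫ i0) ⟨fun z hz g => by
    obtain ⟨x, rfl⟩ := hz
    exact hconj g x⟩)
  obtain ⟨w0, hw0, hw0j⟩ := exists_fac_sub j0 iQ (rangePts_le_of_translates j0 hfinQ iQ)
  haveI := hw0
  haveI : IsClosedImmersion w0.left := by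
    haveI : IsClosedImmersion (w0.left ≫ j0.left) := by rw [← Over.comp_left, hw0j]; infer_instance
    exact IsClosedImmersion.of_comp w0.left j0.left
  have hnw : (rangePts w0).Normal := ⟨fun z hz g => by
    obtain ⟨x, rfl⟩ := hz
    obtain ⟨y, hy⟩ := hnQ.conj_mem (x ≫ iQ) ⟨x, rfl⟩ (g ≫ j0)
    change y ≫ iQ = g ≫ j0 * (x ≫ iQ) * (g ≫ j0)⁻¹ at hy
    refine ⟨y, (cancel_mono j0).mp ?_⟩
    show (y ≫ w0) ≫ j0 = (g * (x ≫ w0) * g⁻¹) ≫ j0
    rw [MonObj.mul_comp, MonObj.mul_comp, GrpObj.inv_comp, Category.assoc, Category.assoc, hw0j]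
    exact hy⟩
  have key := le_map_radical π0 r hnr hRs
    (fun R' _ r' _ h1 h2 h3 h4 h5 => hRmax R' r' h1 h2 h3 h5 (solvPts_of_isSolvableGrp h4)) w0 hnw
    (solvPts_of_isSolvableGrp hNQs)
  refine surjective_of_rangePts f fun y => ?_
  obtain ⟨x, hx⟩ := key ⟨y, rfl⟩
  change x ≫ r ≫ π0 = y ≫ w0 at hx
  refine ⟨x ≫ b, (cancel_mono iQ).mp (show ((x ≫ b) ≫ f) ≫ iQ = y ≫ iQ from ?_)⟩
  rw [Category.assoc, Category.assoc, hfi, ← Category.assoc b iG, hb, ← hw0j, ← Category.assoc y, ← hx,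
    Category.assoc, Category.assoc, Category.assoc, hπ0j]

end Groth.Agent.S19518
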