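import Groth.Statements.S19521
import Groth.Agent.Lib.PicZeroPrim

set_option autoImplicit false
set_option backward.isDefEq.respectTransparency false
set_option backward.isDefEq.respectTransparency.types false
set_option linter.style.haveILetI false
set_option linter.unusedSectionVars false
set_option maxHeartbeats 400000
universe u
open CategoryTheory CategoryTheory.Limits MonoidalCategory CartesianMonoidalCategory MonObj GrpObj AlgebraicGeometry
open AbDual

namespace Groth.Agent.S19521

/-- Let S be a locally Noetherian scheme and f : A' → A a homomorphism of abelian schemes over S. Let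
A^t, A'^t be dual abelian schemes of A, A' (given through φ_A, φ_A', fppf topology, classes
algebraically equivalent to zero on geometric fibres), A^tt, A'^tt dual abelian schemes of A^t, A'^t
(through φ_{A^t}, φ_{A'^t}), ξ and ξ' Poincaré classes on A ×_S A^t and A' ×_S A'^t whose
factor-swapped classes are algebraically equivalent to zero on the geometric fibres over A and A',
f^t : A^t → A'^t the transpose of f and f^tt : A'^tt → A^tt the transpose of f^t. With κ_A : A →
A^tt and κ_A' : A' → A'^tt the biduality morphisms defined by the swapped Poincaré classes, the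
square commutes: f followed by κ_A equals κ_A' followed by f^tt. (The published statement is for
projective abelian schemes over a Noetherian base, where the duals exist as schemes; here the duals
are given as data.) -/
theorem result {S : Scheme.{u}} [IsLocallyNoetherian S]
    (A At Att A' A't A'tt : Over S) [GrpObj A] [IsCommMonObj A] [IsProper A.hom] [Smooth A.hom] [GeometricallyConnected A.hom] [GrpObj At] [IsCommMonObj At] [IsProper At.hom] [Smooth At.hom] [GeometricallyConnected At.hom] [GrpObj Att] [IsCommMonObj Att] [IsProper Att.hom] [Smooth Att.hom] [GeometricallyConnected Att.hom]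
    [GrpObj A'] [IsCommMonObj A'] [IsProper A'.hom] [Smooth A'.hom] [GeometricallyConnected A'.hom] [GrpObj A't] [IsCommMonObj A't] [IsProper A't.hom] [Smooth A't.hom] [GeometricallyConnected A't.hom] [GrpObj A'tt] [IsCommMonObj A'tt] [IsProper A'tt.hom] [Smooth A'tt.hom] [GeometricallyConnected A'tt.hom]
    (φA : ∀ T : Over S, PicF.Cl (PicF.XT A.hom T) → (T ⟶ At))
    (φAt : ∀ T : Over S, PicF.Cl (PicF.XT At.hom T) → (T ⟶ Att))
    (φA' : ∀ T : Over S, PicF.Cl (PicF.XT A'.hom T) → (T ⟶ A't))
    (φA't : ∀ T : Over S, PicF.Cl (PicF.XT A't.hom T) → (T ⟶ A'tt))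
    (hA : AbDual.IsDualAV Scheme.fppfPrecoverage A At φA) (hAt : AbDual.IsDualAV Scheme.fppfPrecoverage At Att φAt)
    (hA' : AbDual.IsDualAV Scheme.fppfPrecoverage A' A't φA') (hA't : AbDual.IsDualAV Scheme.fppfPrecoverage A't A'tt φA't)
    (ξ : PicF.Cl (PicF.XT A.hom At)) (hξ : AbDual.IsPoincareCl A At φA ξ)
    (hξs : AbDual.IsPicZeroCl At.hom A (PicF.pullCl (pullbackSymmetry At.hom A.hom).hom ξ))
    (ξ' : PicF.Cl (PicF.XT A'.hom A't)) (hξ' : AbDual.IsPoincareCl A' A't φA' ξ')
    (hξ's : AbDual.IsPicZeroCl A't.hom A' (PicF.pullCl (pullbackSymmetry A't.hom A'.hom).hom ξ'))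
    (f : A' ⟶ A) [IsMonHom f] (ft : At ⟶ A't) (hft : AbDual.IsTranspose f φA' φA ft)
    (ftt : A'tt ⟶ Att) (hftt : AbDual.IsTranspose ft φAt φA't ftt) :
    f ≫ φAt A (PicF.pullCl (pullbackSymmetry At.hom A.hom).hom ξ) =
      φA't A' (PicF.pullCl (pullbackSymmetry A't.hom A'.hom).hom ξ') ≫ ftt := by
  obtain ⟨hξ0, hξ1, hξ2⟩ := hξ
  obtain ⟨hξ'0, hξ'1, hξ'2⟩ := hξ'
  have hl : AbDual.IsPicZeroCl A'.hom At (PicF.pullCl (AbDual.bcMap f At) ξ) := AbDualBase.pz_bc f hξ0
  have hr : AbDual.IsPicZeroCl A'.hom At (PicF.pullCl (PicF.XTmap A'.hom ft) ξ') := AbDualBase.pz_xtMap ft hξ'0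
  have e1 : PicF.secT A'.hom η[A'].left (Over.w η[A']) At ≫ AbDual.bcMap f At =
      PicF.secT A.hom η[A].left (Over.w η[A]) At := by
    rw [PicZeroPrim.secT_eq, PicZeroPrim.secT_eq, PicZeroPrim.bcMap_eq, ← Over.comp_left]
    congr 1
    ext <;> simp
  have e2 : PicF.secT A'.hom η[A'].left (Over.w η[A']) At ≫ PicF.XTmap A'.hom ft =
      ft.left ≫ PicF.secT A'.hom η[A'].left (Over.w η[A']) A't := by
    rw [PicZeroPrim.secT_eq, PicZeroPrim.secT_eq, PicZeroPrim.xtMap_eq, ← Over.comp_left, ← Over.comp_left]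
    congr 1
    ext <;> simp
  have key : PicF.pullCl (AbDual.bcMap f At) ξ = PicF.pullCl (PicF.XTmap A'.hom ft) ξ' := by
    refine PicZeroPrim.eq_of_phi hA' hl hr ?_ ?_
    · rw [hft At ξ hξ0, hξ1, Category.id_comp, hA'.relPic.natural _ _ ft ξ' hξ'0, hξ'1, Category.comp_id]
    · rw [PicClLib.pullCl_comp, e1, PicClLib.pullCl_comp, e2, ← PicClLib.pullCl_comp _
        (PicF.secT A'.hom η[A'].left (Over.w η[A']) A't), hξ2, hξ'2]
      exact (AbDualBase.pullCl_one' _).symm
  have s1 : PicF.XTmap At.hom f ≫ (pullbackSymmetry At.hom A.hom).hom =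
      (pullbackSymmetry At.hom A'.hom).hom ≫ AbDual.bcMap f At := by
    refine pullback.hom_ext ?_ ?_
    · simp [PicF.XTmap, AbDual.bcMap]
    · simp [PicF.XTmap, AbDual.bcMap]
  have s2 : AbDual.bcMap ft A' ≫ (pullbackSymmetry A't.hom A'.hom).hom =
      (pullbackSymmetry At.hom A'.hom).hom ≫ PicF.XTmap A'.hom ft := by
    refine pullback.hom_ext ?_ ?_
    · simp [PicF.XTmap, AbDual.bcMap]
    · simp [PicF.XTmap, AbDual.bcMap]
  rw [← hAt.relPic.natural _ _ f _ hξs, ← hftt A' _ hξ's, PicClLib.pullCl_comp, PicClLib.pullCl_comp, s1, s2,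
    ← PicClLib.pullCl_comp, ← PicClLib.pullCl_comp, key]

end Groth.Agent.S19521
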