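import Groth.Statements.S19522
import Groth.Agent.ComodLib.Basic
-- import your own Groth.Agent.* helpers here

set_option autoImplicit false
universe u
open TensorProduct
open GLin

namespace Groth.Agent.S19522

open Groth.Agent.ComodLib TensorProduct

/-- Let k be a field, A a commutative k-bialgebra coacting multiplicatively on a commutative k-algebra
R, and χ ∈ A a group-like element with an inverse χ' (χχ' = 1). Suppose the polynomial ring R[t]
carries a multiplicative coaction which restricts to the given one on constants and sends t to t ⊗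
χ'. Then g ∈ R[t] is coinvariant if and only if, for every r, its r-th coefficient has coaction g_r
↦ g_r ⊗ χ^r; that is, the ring of invariants of R[t] is the sum over r ≥ 0 of the weight-χ^r
semi-invariants of R times t^r. (The published statement is phrased for an affine variety with an
action of a linear algebraic group over an algebraically closed field of characteristic zero and
identifies the invariants of X × A¹ with the graded ring of invariant sections of the powers of the
linearised trivial bundle; this is its coordinate-ring content, valid over any field.) -/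
theorem result (k : Type u) [Field k]
    (A : Type u) [CommRing A] [Bialgebra k A]
    (R : Type u) [CommRing R] [Algebra k R] [HopfRep.Comod k A R] [GLin.IsCoactAlg k A R]
    [HopfRep.Comod k A (Polynomial R)] [GLin.IsCoactAlg k A (Polynomial R)]
    (χ χ' : A) (hχ : CoalgebraStruct.comul (R := k) (A := A) χ = χ ⊗ₜ[k] χ)
    (hχε : CoalgebraStruct.counit (R := k) (A := A) χ = 1) (hχχ' : χ * χ' = 1)
    (hC : ∀ r : R, HopfRep.Comod.coact (k := k) (A := A) (Polynomial.C r) =
      Algebra.TensorProduct.map (Polynomial.CAlgHom : R →ₐ[k] Polynomial R) (AlgHom.id k A)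
        (HopfRep.Comod.coact (k := k) (A := A) r))
    (hX : HopfRep.Comod.coact (k := k) (A := A) (Polynomial.X : Polynomial R) = Polynomial.X ⊗ₜ[k] χ')
    (g : Polynomial R) :
    g ∈ GLin.invariants k A (Polynomial R) ↔
      ∀ r : ℕ, g.coeff r ∈ HopfRep.eigenspace k A R (χ ^ r) := by
  classical
  have hXr : ∀ r : ℕ, HopfRep.Comod.coact (k := k) (A := A) ((Polynomial.X : Polynomial R) ^ r) = (Polynomial.X ^ r) ⊗ₜ[k] (χ' ^ r) := by
    intro r
    induction r with
    | zero => rw [pow_zero, pow_zero]; exact (GLin.invariants k A (Polynomial R)).one_mem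
    | succ r ih =>
      rw [pow_succ, GLin.IsCoactAlg.coact_mul, ih, hX, Algebra.TensorProduct.tmul_mul_tmul, ← pow_succ, ← pow_succ]
  let Lc : ℕ → Polynomial R ⊗[k] A →ₗ[k] R ⊗[k] A := fun r => ((Polynomial.lcoeff R r).restrictScalars k).rTensor A
  have hL : ∀ (r : ℕ) (q : Polynomial R), Lc r (HopfRep.Comod.coact (k := k) (A := A) q) =
      HopfRep.Comod.coact (k := k) (A := A) (q.coeff r) * ((1 : R) ⊗ₜ[k] (χ' ^ r)) := by
    intro r q
    induction q using Polynomial.induction_on' with
    | add p q hp hq => rw [map_add, map_add, hp, hq, Polynomial.coeff_add, map_add, add_mul]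
    | monomial m a =>
      rw [← Polynomial.C_mul_X_pow_eq_monomial, GLin.IsCoactAlg.coact_mul, hC, hXr, Polynomial.coeff_C_mul_X_pow]
      have h1 : ∀ z : R ⊗[k] A, Lc r (Algebra.TensorProduct.map (Polynomial.CAlgHom : R →ₐ[k] Polynomial R) (AlgHom.id k A) z *
          (Polynomial.X ^ m) ⊗ₜ[k] (χ' ^ m)) = if r = m then z * ((1 : R) ⊗ₜ[k] (χ' ^ r)) else 0 := by
        intro z
        induction z using TensorProduct.induction_on with
        | zero => simp
        | add u w hu hw => rw [map_add, add_mul, map_add, hu, hw]; split <;> simp [add_mul]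
        | tmul u w =>
          rw [Algebra.TensorProduct.map_tmul, Algebra.TensorProduct.tmul_mul_tmul]
          simp only [Lc, LinearMap.rTensor_tmul, LinearMap.coe_restrictScalars, Polynomial.lcoeff_apply]
          show (Polynomial.C u * Polynomial.X ^ m).coeff r ⊗ₜ[k] (w * χ' ^ m) = _
          rw [Polynomial.coeff_C_mul_X_pow]
          split
          · next h => rw [h, Algebra.TensorProduct.tmul_mul_tmul, mul_one]
          · simp
      rw [h1]
      split <;> simp
  have hunit : ∀ r, χ ^ r * χ' ^ r = 1 := fun r => by rw [← mul_pow, hχχ', one_pow]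
  have key : ∀ (v : R) (a : A), v ∈ HopfRep.eigenspace k A R a ↔ HopfRep.Comod.coact (k := k) (A := A) v = v ⊗ₜ[k] a :=
    fun v a => Iff.rfl
  constructor
  · intro hg r
    have h1 := hL r g
    rw [show HopfRep.Comod.coact (k := k) (A := A) g = g ⊗ₜ[k] (1 : A) from hg] at h1
    rw [key]
    have h2 := congrArg (fun z => z * ((1 : R) ⊗ₜ[k] (χ ^ r))) h1
    simp only [Lc, LinearMap.rTensor_tmul, LinearMap.coe_restrictScalars, Polynomial.lcoeff_apply, mul_assoc,
      Algebra.TensorProduct.tmul_mul_tmul, one_mul, mul_one] at h2
    rw [mul_comm (χ' ^ r), hunit, ← Algebra.TensorProduct.one_def, mul_one] at h2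
    exact h2.symm
  · intro h
    show HopfRep.Comod.coact (k := k) (A := A) g = g ⊗ₜ[k] (1 : A)
    refine ext_of_forall_slice_eq fun φ => Polynomial.ext fun r => ?_
    have h1 : ∀ z : Polynomial R ⊗[k] A, (slice φ z).coeff r = slice φ (Lc r z) := fun z => by
      induction z using TensorProduct.induction_on with
      | zero => simp
      | tmul p q => simp [Lc]
      | add p q hp hq => simp only [map_add, Polynomial.coeff_add, hp, hq]
    rw [h1, h1, hL, (key _ _).mp (h r),
      Algebra.TensorProduct.tmul_mul_tmul, mul_one, hunit]
    simp [Lc]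

end Groth.Agent.S19522
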