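import Groth.Statements.S19523
import Groth.Agent.GrpSchLib.Homogeneous
-- import your own Groth.Agent.* helpers here

set_option autoImplicit false
universe u
open CategoryTheory MonoidalCategory CartesianMonoidalCategory MonObj GrpObj AlgebraicGeometry
open AlgGrp

namespace Groth.Agent.S19523

/-- Let k be a field, G a smooth k-group scheme of finite type acting on a k-scheme X of finite type,
and x a rational point of X. The orbit of x, the image of the orbit map G → X, is locally closed
(not restated here); if i : O → X is an immersion from a reduced scheme whose image is exactly the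
orbit — the orbit with its reduced induced structure — then O is smooth over k. -/
theorem result (k : Type u) [Field k]
    (G X : Over (Spec (CommRingCat.of k))) [GrpObj G] [Smooth G.hom] [QuasiCompact G.hom]
    [LocallyOfFiniteType X.hom] [QuasiCompact X.hom] (a : AlgGrp.Action G X)
    (x : 𝟙_ (Over (Spec (CommRingCat.of k))) ⟶ X)
    (O : Scheme.{u}) (i : O ⟶ X.left) [IsImmersion i] [IsReduced O]
    (hO : Set.range i.base = Set.range (a.orbitMap x).left.base) : Smooth (i ≫ X.hom) := by
  have : Nonempty G.left := ⟨(η[G] : 𝟙_ _ ⟶ G).left (IsLocalRing.closedPoint k)⟩
  have : IsLocallyNoetherian X.left := LocallyOfFiniteType.isLocallyNoetherian X.hom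
  have : QuasiSeparated X.hom := (quasiSeparated_iff_quasiSeparatedSpace _).mpr inferInstance
  have : QuasiCompact (a.orbitMap x).left := by
    have : QuasiCompact ((a.orbitMap x).left ≫ X.hom) := by rw [Over.w (a.orbitMap x)]; infer_instance
    exact QuasiCompact.of_comp (a.orbitMap x).left X.hom
  exact GrpSchLib.smooth_of_homogeneous_image (K := AlgebraicClosure k) (a.orbitMap x)
    (GrpSchLib.orbitMap_homogeneous a x) O i hO

end Groth.Agent.S19523
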