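import Groth.Statements.S19529
import Groth.Agent.Lib.AVEnd0
import Groth.Agent.S15655

set_option autoImplicit false
set_option backward.isDefEq.respectTransparency false
set_option backward.isDefEq.respectTransparency.types false
set_option linter.style.haveILetI false
set_option linter.unusedSectionVars false
set_option maxHeartbeats 400000
universe u
open CategoryTheory MonoidalCategory CartesianMonoidalCategory MonObj GrpObj AlgebraicGeometry
open AbVar

namespace Groth.Agent.S19529

set_option synthInstance.maxHeartbeats 400000

/-- Let k be a field with an algebraic closure Ω, l a prime invertible in k, A an abelian variety over k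
(a proper, geometrically integral commutative group scheme over k) and α an endomorphism of A (a
homomorphism of group schemes). Let T_l(α) be the induced ℤ_l-linear endomorphism of the l-adic Tate
module of Ω-points of A, which is assumed, as is always the case, to be free of finite rank over
ℤ_l. Then the minimal polynomial of T_l(α) over ℤ_l is defined over ℤ: there is a monic polynomial P
with integer coefficients whose image in ℤ_l[X] is that minimal polynomial. (The companion clause on
the characteristic polynomial is stated separately for finite and for algebraically closed ground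
fields.) -/
theorem result (k Ω : Type u) [Field k] [Field Ω] [Algebra k Ω] [IsAlgClosure k Ω]
    (l : ℕ) [Fact l.Prime] (hl : (l : k) ≠ 0) (A : Over (Spec (CommRingCat.of k)))
    [GrpObj A] [IsCommMonObj A] [IsProper A.hom] [GeometricallyIntegral A.hom]
    (α : A ⟶ A) [IsMonHom α]
    [Module.Free ℤ_[l] (AbDual.TateMod A l (SGA7.pt Ω))] [Module.Finite ℤ_[l] (AbDual.TateMod A l (SGA7.pt Ω))] :
    ∃ P : Polynomial ℤ, P.Monic ∧
      (minpoly ℤ_[l] (AbDual.tateMapₗ (l := l) (T := SGA7.pt Ω) α)) = P.map (Int.castRingHom ℤ_[l]) := by
  haveI : IsAlgClosed Ω := IsAlgClosure.isAlgClosed k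
  obtain ⟨m, hm, hmap, hm0⟩ := AVEnd0.exists_int_minpoly Ω (EndAV.End.of α)
  have h := AVEnd0.minpoly_tateRep Ω (EndAV.End.of α) l hl hm hmap hm0
  simp only [EndAV.End.tateRep_apply, EndAV.End.toHom_of] at h
  exact ⟨m, hm, h⟩

end Groth.Agent.S19529
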