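import Groth.Statements.S1953
import Groth.Agent.H23.DiagExt
import Groth.Agent.S1582
-- import your own Groth.Agent.* helpers here

set_option autoImplicit false
universe u
open CategoryTheory CategoryTheory.Limits AlgebraicGeometry
attribute [local instance] HasDerivedCategory.standard
open IntMult
open Groth.Agent Groth.Agent.H23

namespace Groth.Agent.S1953

/-- Let X be a proper nonsingular variety over K, α an r-cycle and β an s-cycle intersecting properly, Δ
⊆ X ×_K X the diagonal (as the prime cycle of its generic point) and α × β the exterior product,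
with dimension function δ₂ on X ×_K X. Then [Δ] and α × β intersect properly and pr_{1,*}([Δ] · (α ×
β)) = α · β coefficientwise, for any cycle on X ×_K X with the coefficients of [Δ] · (α × β). Here X
is a nonsingular variety over the algebraically closed field K (smooth, separated, quasi-compact,
integral) with dimension function δ (transcendence degree) and n = dim X; cycles are Mathlib
AlgebraicCycles with Cyc.Zk membership, proper intersection is IntMult.IntersectProperly and α · β
is the Tor-formula intersection product on coefficient functions (IntMult.interProd), bundled where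
needed as 'any cycle with these coefficients'. -/
theorem result (K : Type u) [Field K] [IsAlgClosed K] (X : Scheme.{u}) (f : X ⟶ Spec (CommRingCat.of K)) [Smooth f] [IsProper f] [IsIntegral X] (δ : X → ℤ) (hX : Cyc.IsSetup X δ) (hδ : Cyc.DeltaCompat f δ (fun _ => 0)) (n : ℤ) (hn : δ (genericPoint X) = n) (δ₂ : ↥(pullback f f) → ℤ) (h₂ : Cyc.DeltaCompat (pullback.fst f f ≫ f) δ₂ (fun _ => 0)) (h₂' : Cyc.DeltaCompat (pullback.fst f f) δ₂ δ) (r s : ℤ) (α β : AlgebraicCycle X ℤ) (hα : α ∈ Cyc.Zk X δ r) (hβ : β ∈ Cyc.Zk X δ s) (hprop : IntMult.IntersectProperly δ n ⇑α ⇑β) (γ : AlgebraicCycle (pullback f f) ℤ) (hγ : ⇑γ = IntMult.interProd δ₂ (n + n) (Set.indicator {pullback.diagonal f (genericPoint X)} 1) (IntMult.extProd f f δ δ δ₂ ⇑α ⇑β)) : IntMult.IntersectProperly δ₂ (n + n) (Set.indicator {pullback.diagonal f (genericPoint X)} 1) (IntMult.extProd f f δ δ δ₂ ⇑α ⇑β) ∧ ⇑(AlgebraicCycle.map (pullback.fst f f) δ₂ δ γ) = IntMult.interProd δ n ⇑α ⇑β := by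
  haveI : IsIntegral (pullback f f) := S1582.result K X X f f
  haveI : IsLocallyNoetherian (pullback f f) := LocallyOfFiniteType.isLocallyNoetherian (pullback.fst f f ≫ f)
  have hS := CycLib.isSetup_spec_field K
  obtain ⟨h1, h2, h3⟩ := DiagExt.interProd_diag f hX.2.2 hδ h₂
    (CycLib.isDimFun_of_deltaCompat (pullback.fst f f ≫ f) hS h₂) hn
    (CycleClassK.lfPts_cycle α) (CycleClassK.lfPts_cycle β) hprop
  refine ⟨h1, ?_⟩
  have hδΔ : δ = fun x => δ₂ (pullback.diagonal f x) :=
    GraphFlat.delta_graph (pullback.diagonal f) f (pullback.fst f f ≫ f)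
      (by rw [← Category.assoc, pullback.diagonal_fst, Category.id_comp]) hδ h₂
  set c := CycLib.restrictCycle (pullback.diagonal f) (pullback.diagonal f).isEmbedding.injective γ with hc
  have hγ' : γ = AlgebraicCycle.map (pullback.diagonal f) δ δ₂ c := by
    ext w
    by_cases hw : w ∈ Set.range (pullback.diagonal f)
    · obtain ⟨x, rfl⟩ := hw
      rw [hδΔ, CycLib.map_preimmersion_apply]
      rfl
    · rw [CycLib.map_apply_not_range _ _ _ _ hw, hγ]
      exact h3 w hw
  rw [hγ', CycLib.map_map (pullback.diagonal f) (pullback.fst f f)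
    (hδΔ ▸ GysinLib.deltaCompat_closedImmersion (pullback.diagonal f) δ₂) h₂']
  simp only [pullback.diagonal_fst, AlgebraicCycle.map_id]
  funext ξ
  show γ (pullback.diagonal f ξ) = _
  rw [hγ]
  exact h2 ξ


end Groth.Agent.S1953
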