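import Groth.Statements.S19532
import Groth.Agent.TFCurvLib.Tacnode

set_option autoImplicit false
universe u
open CategoryTheory
open TFCurv

namespace Groth.Agent.S19532

/-- Let k be an algebraically closed field of characteristic zero, δ ≥ 1, and O ⊂ k[[t]] × k[[t]] the
complete local ring of the simple plane curve singularity A_{2δ−1} (two smooth branches with contact
of order δ, y² = x^{2δ}), namely the k-subalgebra of all pairs (f, g) of power series with f − g
divisible by t^δ. For 0 ≤ j ≤ δ let I_j ⊂ k[[t]] × k[[t]] be the O-submodule generated by (t^j, t^j)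
and (t^δ, 0), so that I_0 = O and I_δ is the conductor; the I_j represent the rank-one torsion-free
O-modules M_j. Then for all 0 ≤ i, j ≤ δ the O-module Ext¹_O(I_i, I_j) has length 2·min(i, j)
(length over O equals k-dimension here). (The one-branch case n = 2δ of the published lemma is
stated separately.) -/
theorem result (k : Type u) [Field k] [IsAlgClosed k] [CharZero k] (δ : ℕ) (hδ : 1 ≤ δ) (O : Subalgebra k (PowerSeries k × PowerSeries k)) (hO : ∀ f : (PowerSeries k × PowerSeries k), f ∈ O ↔ (δ : ℕ∞) ≤ PowerSeries.order (f.1 - f.2)) (i j : ℕ) (hi : i ≤ δ) (hj : j ≤ δ) : Module.length ↥O (Abelian.Ext (ModuleCat.of ↥O ↥(Submodule.span ↥O ({((PowerSeries.X : PowerSeries k) ^ i, (PowerSeries.X : PowerSeries k) ^ i), ((PowerSeries.X : PowerSeries k) ^ δ, 0)} : Set (PowerSeries k × PowerSeries k)))) (ModuleCat.of ↥O ↥(Submodule.span ↥O ({((PowerSeries.X : PowerSeries k) ^ j, (PowerSeries.X : PowerSeries k) ^ j), ((PowerSeries.X : PowerSeries k) ^ δ, 0)} : Set (PowerSeries k × PowerSeries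 k)))) 1) = ((2 * min i j : ℕ) : ℕ∞) := by
  have hO' : ∀ f, f ∈ O ↔ f.1 - f.2 ∈ Groth.Agent.TFCurvLib.supp (k := k) (Set.Ici δ) := fun f =>
    (hO f).trans Groth.Agent.TFCurvLib.mem_Ici_iff.symm
  have hsp : ∀ l, l ≤ δ → ∀ p : PowerSeries k × PowerSeries k,
      (∃ y : Submodule.span ↥O ({((PowerSeries.X : PowerSeries k) ^ l, (PowerSeries.X : PowerSeries k) ^ l),
        ((PowerSeries.X : PowerSeries k) ^ δ, 0)} : Set (PowerSeries k × PowerSeries k)),
        Submodule.subtype _ y = p) ↔
      p.2 ∈ Groth.Agent.TFCurvLib.supp (Set.Ici l) ∧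
        p.1 - p.2 ∈ Groth.Agent.TFCurvLib.supp (Set.Ici δ) := fun l hl p => by
    rw [← Groth.Agent.TFCurvLib.mem_pair_span hO' hl p]
    exact ⟨fun ⟨y, hy⟩ => hy ▸ y.2, fun h => ⟨⟨p, h⟩, rfl⟩⟩
  exact Groth.Agent.TFCurvLib.length_ext_pair hO' hδ hi hj _ _ (Submodule.subtype _) Subtype.val_injective
    (hsp i hi) (Submodule.subtype _) Subtype.val_injective (hsp j hj)

end Groth.Agent.S19532
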