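import Groth.Statements.S19533
import Groth.Agent.S7806
import Groth.Agent.H23.MaxAbelian
-- import your own Groth.Agent.* helpers here

set_option autoImplicit false
universe u
open CategoryTheory CategoryTheory.Limits MonoidalCategory CartesianMonoidalCategory MonObj GrpObj AlgebraicGeometry
open AbVar

namespace Groth.Agent.S19533

/-- Let k be an algebraically closed field, A an abelian variety over k (a k-group scheme whose
structure morphism is proper, smooth and geometrically connected) with unit point e, Y a scheme
separated over k and f : A → Y a morphism over k. Write F₀ for the connected component of e in the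
fibre f⁻¹(f(e)). Then the k-rational points of F₀ are stable under the group law: if k-points x and
y of A lie in F₀ then so do the product point x·y and the inverse point x⁻¹. (The published
statement is for Y a k-variety and concludes that F₀ with its reduced structure is an abelian
subvariety, together with the translation formula F_a = a + F₀; this row records the closure of
F₀(k) under multiplication and inversion, for Y merely separated over k.) -/
theorem result (k : Type u) [Field k] [IsAlgClosed k]
    (A : Over (Spec (CommRingCat.of k))) [GrpObj A] [IsProper A.hom] [Smooth A.hom] [GeometricallyConnected A.hom]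
    {Y : Scheme.{u}} (q : Y ⟶ Spec (CommRingCat.of k)) [IsSeparated q] (f : A.left ⟶ Y) (hf : f ≫ q = A.hom)
    (x y : 𝟙_ (Over (Spec (CommRingCat.of k))) ⟶ A)
    (hx : x.left (IsLocalRing.closedPoint k) ∈
      connectedComponentIn (f ⁻¹' {f (η[A].left (IsLocalRing.closedPoint k))}) (η[A].left (IsLocalRing.closedPoint k)))
    (hy : y.left (IsLocalRing.closedPoint k) ∈
      connectedComponentIn (f ⁻¹' {f (η[A].left (IsLocalRing.closedPoint k))}) (η[A].left (IsLocalRing.closedPoint k))) :
    (lift x y ≫ μ[A]).left (IsLocalRing.closedPoint k) ∈
        connectedComponentIn (f ⁻¹' {f (η[A].left (IsLocalRing.closedPoint k))}) (η[A].left (IsLocalRing.closedPoint k)) ∧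
      (x ≫ ι[A]).left (IsLocalRing.closedPoint k) ∈
        connectedComponentIn (f ⁻¹' {f (η[A].left (IsLocalRing.closedPoint k))}) (η[A].left (IsLocalRing.closedPoint k)) := by
  let Y' : Over (Spec (CommRingCat.of k)) := Over.mk q
  let f' : A ⟶ Y' := Over.homMk f hf
  have : IsSeparated Y'.hom := ‹IsSeparated q›
  have : ConnectedSpace A.left := GeometricallyConnected.connectedSpace_of_subsingleton (f := A.hom)
  have := Groth.Agent.H23.RigidGamma.geometricallyReduced_of_smooth A.hom
  have := Groth.Agent.H23.MaxAbelian.geometricallyIntegral_of_connected A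
  let pt : ↥(Spec (CommRingCat.of k)) := IsLocalRing.closedPoint k
  let S := f ⁻¹' {f (η[A].left pt)}
  have he : η[A] = (1 : 𝟙_ (Over (Spec (CommRingCat.of k))) ⟶ A) := by simp [MonObj.one_eq_one]
  have key : ∀ z : 𝟙_ (Over (Spec (CommRingCat.of k))) ⟶ A,
      z.left pt ∈ connectedComponentIn S (η[A].left pt) →
      connectedComponentIn (f ⁻¹' {f (z.left pt)}) (z.left pt) = connectedComponentIn S (η[A].left pt) := by
    intro z hz
    have h := connectedComponentIn_subset _ _ hz
    rw [show f (z.left pt) = f (η[A].left pt) from h]
    exact (connectedComponentIn_eq hz).symm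
  refine ⟨?_, ?_⟩
  · have h := Groth.Agent.S7806.translate_component f' η[A] x ⟨y.left pt, hy, rfl⟩
    have e : y ≫ ((toUnit A ≫ (x * η[A]⁻¹)) * 𝟙 A) = lift x y ≫ μ[A] := by
      rw [he, inv_one, _root_.mul_one, ← Hom.mul_def, MonObj.comp_mul, Category.comp_id,
        comp_toUnit_assoc, toUnit_unit, Category.id_comp]
    exact (key x hx).subset ((congrArg (fun χ : _ ⟶ A => χ.left pt) e) ▸ h)
  · have h := Groth.Agent.S7806.translate_component f' x η[A]
      ⟨η[A].left pt, (key x hx).ge (mem_connectedComponentIn rfl), rfl⟩
    have e : η[A] ≫ ((toUnit A ≫ (η[A] * x⁻¹)) * 𝟙 A) = x ≫ ι[A] := by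
      rw [MonObj.comp_mul, Category.comp_id, comp_toUnit_assoc, toUnit_unit, Category.id_comp, he,
        _root_.one_mul, _root_.mul_one, Hom.inv_def]
    exact (congrArg (fun χ : _ ⟶ A => χ.left pt) e) ▸ h

end Groth.Agent.S19533
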