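import Groth.Statements.S19535
import Groth.Agent.S5019
import Groth.Agent.Lib.InvEnd
import Groth.Agent.PicClLib.Basic
import Groth.Agent.CurveCohLib.Proper
import Groth.Agent.Lib.CurveDuality
import Groth.Agent.Lib.CurveSection
import Groth.Agent.CurveFin.RelDim

set_option autoImplicit false
universe u
open CategoryTheory CategoryTheory.Limits AlgebraicGeometry TopologicalSpace
open Curves

namespace Groth.Agent.S19535

set_option backward.isDefEq.respectTransparency false
set_option backward.isDefEq.respectTransparency.types false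

/-- The fibre dimension of a variety over a field is its dimension. -/
theorem fibreDimAt_eq {k : Type u} [Field k] {X : Scheme.{u}} (f : X ⟶ Spec (CommRingCat.of k))
    [IrreducibleSpace X] [LocallyOfFiniteType f] (x : X) :
    FlatMor.fibreDimAt f x = topologicalKrullDim X := by
  have hopen : ∀ V : X.Opens, x ∈ V → topologicalKrullDim (V : Set X) = topologicalKrullDim X := by
    intro V hx
    rw [VarDim.topologicalKrullDim_opens_eq_iSup_deg f, VarDim.topologicalKrullDim_eq_deg_genericPoint f]
    refine le_antisymm (iSup_le fun z => ?_) ?_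
    · exact_mod_cast VarDim.deg_le_of_specializes f (genericPoint_specializes z.1)
    · exact le_iSup_of_le ⟨genericPoint X, ((genericPoint_spec X).mem_open_set_iff V.2).2
        ⟨x, trivial, hx⟩⟩ le_rfl
  haveI : Subsingleton (Spec (CommRingCat.of k)) := inferInstanceAs (Subsingleton (PrimeSpectrum k))
  let h : f.fiber (f x) ≃ₜ X := (f.fiberHomeo (f x)).trans
    ((Homeomorph.setCongr (Set.eq_univ_of_forall fun z => Subsingleton.elim (f z) (f x))).trans
      (Homeomorph.Set.univ X))
  have hx : h (f.asFiber x) = x := f.fiberι_asFiber x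
  have hU : ∀ U : {U : TopologicalSpace.Opens (f.fiber (f x)) // f.asFiber x ∈ U},
      topologicalKrullDim (U.1 : Set (f.fiber (f x))) = topologicalKrullDim X := fun U => by
    let V : X.Opens := ⟨h '' U.1, h.isOpenMap _ U.1.2⟩
    exact ((h.image U.1).isHomeomorph.topologicalKrullDim_eq).trans (hopen V ⟨_, U.2, hx⟩)
  haveI : Nonempty {U : TopologicalSpace.Opens (f.fiber (f x)) // f.asFiber x ∈ U} := ⟨⟨⊤, trivial⟩⟩
  exact (iInf_congr hU).trans ciInf_const

/-- A nonzero map of invertible modules is generically surjective. -/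
theorem exists_open_isZero {X : Scheme.{u}} [IsIntegral X] {L M : X.Modules} (hL : PicF.IsInvertible L)
    (hM : PicF.IsInvertible M) (c : L ⟶ M) (hc : c ≠ 0) :
    ∃ U : X.Opens, (U : Set X).Nonempty ∧ IsZero ((Scheme.Modules.pullback U.ι).obj (cokernel c)) := by
  obtain ⟨U₁, h₁, l, hl⟩ := InvEnd.exists_frame_inv hL (genericPoint X)
  obtain ⟨U₂, h₂, m, hm⟩ := InvEnd.exists_frame_inv hM (genericPoint X)
  obtain ⟨a, ha⟩ := (hm (U₁ ⊓ U₂) inf_le_right).2 (c.app (U₁ ⊓ U₂) (L.presheaf.map (homOfLE inf_le_left).op l))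
  replace ha : a • M.presheaf.map (homOfLE inf_le_right).op m =
    c.app (U₁ ⊓ U₂) (L.presheaf.map (homOfLE inf_le_left).op l) := ha
  have hne : a ≠ 0 := by
    rintro rfl
    haveI := InvEnd.mono_of_ne_zero hL hM c hc
    have hinj := InvEnd.app_injective_of_ne_zero hL hM c hc (U₁ ⊓ U₂)
    have h0 : L.presheaf.map (homOfLE (inf_le_left : U₁ ⊓ U₂ ≤ U₁)).op l = 0 :=
      hinj ((ha.symm.trans (zero_smul _ _)).trans (map_zero _).symm)
    haveI : Nonempty (U₁ ⊓ U₂ : X.Opens) := ⟨⟨_, ⟨h₁, h₂⟩⟩⟩
    exact one_ne_zero (α := Γ(X, U₁ ⊓ U₂)) ((hl (U₁ ⊓ U₂) inf_le_left).1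
      (show (1 : Γ(X, U₁ ⊓ U₂)) • _ = (0 : Γ(X, U₁ ⊓ U₂)) • _ by rw [h0, smul_zero, smul_zero]))
  let V : X.Opens := X.basicOpen a
  have hVle : V ≤ U₁ ⊓ U₂ := X.basicOpen_le a
  have hVne : (V : Set X).Nonempty := by
    by_contra h
    exact hne ((basicOpen_eq_bot_iff a).1 (TopologicalSpace.Opens.ext (Set.not_nonempty_iff_eq_empty.1 h)))
  refine ⟨V, hVne, ?_⟩
  have hstalk : ∀ y ∈ V, Subsingleton ((cokernel c).presheaf.stalk y) := by
    intro y hy
    have hzero : ∀ z : (cokernel c).presheaf.stalk y, z = 0 := by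
      intro z
      haveI : Epi ((DerSch.stalkFunctor X y).map (cokernel.π c)) := inferInstance
      obtain ⟨(w : M.presheaf.stalk y), hw⟩ :=
        (ModuleCat.epi_iff_surjective ((DerSch.stalkFunctor X y).map (cokernel.π c))).1 inferInstance z
      subst hw
      obtain ⟨W, hyW, s, rfl⟩ := TopCat.Presheaf.exists_germ_eq M.presheaf w
      obtain ⟨b, hb⟩ := (hm (W ⊓ V) (inf_le_right.trans (hVle.trans inf_le_right))).2
        (M.presheaf.map (homOfLE inf_le_left).op s)
      obtain ⟨v, hv⟩ : IsUnit (X.presheaf.map (homOfLE ((inf_le_right : W ⊓ V ≤ V).trans hVle)).op a) := by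
        refine X.toRingedSpace.isUnit_of_isUnit_germ _ _ fun z hz => ?_
        erw [X.presheaf.germ_res_apply]
        exact (X.mem_basicOpen a z (hVle hz.2)).1 hz.2
      have hpre : c.app (W ⊓ V) ((b * (v⁻¹ : (Γ(X, W ⊓ V))ˣ)) •
          L.presheaf.map (homOfLE (inf_le_right.trans (hVle.trans inf_le_left))).op l) =
          M.presheaf.map (homOfLE inf_le_left).op s := by
        rw [Scheme.Modules.Hom.app_smul, ← hb]
        have hnat := congrArg (fun g => g (L.presheaf.map (homOfLE (inf_le_left : U₁ ⊓ U₂ ≤ U₁)).op l))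
          (c.mapPresheaf.naturality (homOfLE ((inf_le_right : W ⊓ V ≤ V).trans hVle)).op)
        dsimp at hnat
        rw [← ha] at hnat
        rw [show L.presheaf.map (homOfLE (inf_le_right.trans (hVle.trans inf_le_left)) : W ⊓ V ⟶ U₁).op l =
          L.presheaf.map (homOfLE ((inf_le_right : W ⊓ V ≤ V).trans hVle)).op
            (L.presheaf.map (homOfLE (inf_le_left : U₁ ⊓ U₂ ≤ U₁)).op l) by
          rw [← ConcreteCategory.comp_apply, ← L.presheaf.map_comp]; rfl]
        rw [hnat, Scheme.Modules.map_smul, ← hv, ← ConcreteCategory.comp_apply, ← M.presheaf.map_comp,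
          smul_smul, mul_assoc, Units.inv_mul, mul_one]
        rfl
      have hzy : y ∈ W ⊓ V := ⟨hyW, hy⟩
      rw [← M.presheaf.germ_res_apply (homOfLE (inf_le_left : W ⊓ V ≤ W)) y hzy s, ← hpre]
      refine (TopCat.Presheaf.stalkFunctor_map_germ_apply (W ⊓ V) y hzy
        ((Scheme.Modules.toPresheaf X).map (cokernel.π c)) _).trans ?_
      refine (congrArg ((cokernel c).presheaf.germ (W ⊓ V) y hzy) ?_).trans (map_zero _)
      exact congr(($(cokernel.condition c)).app (W ⊓ V) _)
    exact ⟨fun p q => (hzero p).trans (hzero q).symm⟩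
  refine (CurveCohLib.isZero_of_subsingleton_stalks fun y => ?_).of_iso
    ((Scheme.Modules.restrictFunctorIsoPullback V.ι).app (cokernel c)).symm
  exact @Equiv.subsingleton _ _ ((Scheme.Modules.restrictStalkNatIso V.ι y).app (cokernel c)).addCommGroupIsoToAddEquiv.toEquiv
    (hstalk y.1 y.2)

/-- Differentials of a smooth curve are invertible. -/
theorem isInvertible {k : Type u} [Field k] {X : Scheme.{u}} (f : X ⟶ Spec (CommRingCat.of k))
    [IsIntegral X] [Smooth f] (hd : topologicalKrullDim X = 1)
    (Ω : X.Modules) (d : OmegaSh.Der f Ω) (hΩ : OmegaSh.IsUniversal d) : PicF.IsInvertible Ω := by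
  refine CurveDuality.isInvertible_of_rank_one fun x => ?_
  obtain ⟨U, n, hxU, he, hn⟩ := S5019.result f Ω d hΩ x
  rw [fibreDimAt_eq, hd] at hn
  obtain rfl : n = 1 := by exact_mod_cast hn.symm
  exact ⟨U, hxU, he⟩

/-- Dichotomy for the differential of a map of smooth curves: let k be a field, X and Y integral schemes
each smooth, separated and quasi-compact over Spec k and of dimension one, and φ : X → Y a morphism
over k. Let Ω_Y and Ω_X be sheaves of differentials of Y and of X over k, given as universal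
derivations, and c : φ^*Ω_Y → Ω_X the compatible map dφ (sending the pullback of d_Y s to d_X(φ^♯
s)). Then exactly one of two things happens, stated here as a disjunction: either c is the zero map,
or c is a monomorphism of O_X-modules and its cokernel (the sheaf of relative differentials Ω_{X/Y})
restricts to zero on some nonempty open subset of X, so that it is supported at finitely many closed
points. (The published statement is for smooth curves, which are in addition geometrically
connected; integrality of X and Y is what the argument uses.) -/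
theorem result (k : Type u) [Field k] {X Y : Scheme.{u}}
    (pX : X ⟶ Spec (CommRingCat.of k)) (pY : Y ⟶ Spec (CommRingCat.of k)) (φ : X ⟶ Y) (w : φ ≫ pY = pX)
    [IsIntegral X] [Smooth pX] [IsSeparated pX] [QuasiCompact pX] (hdX : topologicalKrullDim X = 1)
    [IsIntegral Y] [Smooth pY] [IsSeparated pY] [QuasiCompact pY] (hdY : topologicalKrullDim Y = 1)
    (ΩY : Y.Modules) (dY : OmegaSh.Der pY ΩY) (hY : OmegaSh.IsUniversal dY)
    (ΩX : X.Modules) (dX : OmegaSh.Der pX ΩX) (hX : OmegaSh.IsUniversal dX)
    (c : (Scheme.Modules.pullback φ).obj ΩY ⟶ ΩX) (hc : OmegaSh.IsDiffCompat φ dY dX c) :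
    c = 0 ∨ (Mono c ∧ ∃ U : X.Opens, (U : Set X).Nonempty ∧ IsZero ((Scheme.Modules.pullback U.ι).obj (cokernel c))) := by
  rcases eq_or_ne c 0 with h | h
  · exact Or.inl h
  have hL := PicClLib.isInvertible_pullback φ (isInvertible pY hdY ΩY dY hY)
  have hM := isInvertible pX hdX ΩX dX hX
  haveI := InvEnd.mono_of_ne_zero hL hM c h
  exact Or.inr ⟨inferInstance, exists_open_isZero hL hM c h⟩

end Groth.Agent.S19535
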