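import Groth.Statements.S19538
import Groth.Agent.H26.FMod.GammaOrth

set_option autoImplicit false
open CategoryTheory CategoryTheory.Limits AlgebraicGeometry
universe u
attribute [local instance] HasDerivedCategory.standard
open FTors
open Groth.Agent

namespace Groth.Agent.S19538

/-- Let 𝔛 be a locally Noetherian formal scheme (an adic system of thickenings with locally Noetherian
levels) and assume the total right derived functor RΓ'_𝔛 of the torsion functor exists on D(O_𝔛).
Then for every E ∈ D(O_𝔛) and every F ∈ D(O_𝔛) whose cohomology sheaves are all coherent,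
precomposition with the canonical morphism RΓ'_𝔛 E ⟶ E is a bijection Hom(E, F) ⟶ Hom(RΓ'_𝔛 E, F).
(The published statement asserts that this morphism induces an isomorphism of the complexes
RHom^•(E, F) ≅ RHom^•(RΓ'_𝔛 E, F); this row asserts the induced map on degree-zero cohomology, for
every F with coherent cohomology and hence for every shift of such an F.) -/
theorem result (𝔛 : FSch.Sys.{u}) (h𝔛 : 𝔛.IsLocNoethFormal)
    [FTors.HasRgammaT 𝔛 h𝔛.1] (E F : DerivedCategory (FSch.ModF 𝔛 h𝔛.1))
    (hF : ∀ i : ℤ, FSch.IsCohF 𝔛 h𝔛.1 (SiteCmp.HMod F i)) :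
    Function.Bijective (fun φ : E ⟶ F => (FTors.RgammaTε 𝔛 h𝔛.1).app E ≫ φ) := by
  let ε := (FTors.RgammaTε 𝔛 h𝔛.1).app E
  obtain ⟨D, g, h, hT⟩ := Pretriangulated.distinguished_cocone_triangle ε
  haveI := H9Misc.DerCompExists.hasDerCompletion (𝔛.Osh h𝔛.1) (H26.FMod.defIdeal h𝔛)
  have hk : H9Misc.Kos.KosOrth (𝔛.Osh h𝔛.1) (H26.FMod.defIdeal h𝔛) D := fun V l hl n =>
    H26.FMod.GOrth.subsingleton_hom_cone (H26.FMod.stable_opI h𝔛) (H26.FMod.GOrth.isDTors_kosFree h𝔛 hl) E g h hT n
  have hD := H9Misc.Kos.lOrth_of_kosOrth (H26.FMod.isFiniteType_defIdeal h𝔛) hk F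
    (H26.FMod.CohComp.isDerComp_of_coh h𝔛 F hF)
  have h0 := (H9Misc.TelOrth.forall_subsingleton_iff _ hT F).1 hD 0
  let a := (shiftFunctorZero (DerivedCategory (FSch.ModF 𝔛 h𝔛.1)) ℤ).app F
  refine (Function.Bijective.of_comp_iff' (f := fun x => x ≫ a.inv) a.symm.homToEquiv.bijective _).1 ?_
  refine (congrArg Function.Bijective (funext fun φ => ?_)).mp (h0.comp (a.symm.homToEquiv).bijective)
  exact (Category.assoc _ _ _).symm

end Groth.Agent.S19538
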