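import Groth.Statements.S19540
import Groth.Agent.SiteBase.AbSecExact

set_option autoImplicit false
open CategoryTheory CategoryTheory.Limits Opposite
universe w v u
open CohSite

namespace Groth.Agent.S19540

/-- Let (C, J) be a site and B a class of objects of C, each weakly contractible (every epimorphism of
sheaves of sets, valued in a fixed universe, is surjective on sections over it), such that every
object V of C has a covering sieve all of whose arrows factor through some object of B. Then a
three-term complex F ⟶ G ⟶ H of abelian sheaves on (C, J) is exact if and only if for every U in B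
the sequence of section groups F(U) ⟶ G(U) ⟶ H(U) is exact. (The published statement is for sheaves
of modules over a sheaf of rings O; this row is the case of the constant sheaf of rings ℤ, i.e.
abelian sheaves, to which exactness questions for O-modules reduce. The universe set-up assumes that
abelian sheafification exists and inverts exactly the locally bijective maps, as on any small site.) -/
theorem result
    {C : Type u} [Category.{v} C] (J : GrothendieckTopology C) [HasSheafify J AddCommGrpCat.{w}]
    [J.WEqualsLocallyBijective AddCommGrpCat.{w}]
    (B : C → Prop)
    (hB : ∀ U : C, B U → ∀ (P Q : Sheaf J (Type w)) (ψ : P ⟶ Q), Epi ψ → Function.Surjective (ψ.hom.app (op U)))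
    (hcov : ∀ V : C, ∃ S : Sieve V, S ∈ J V ∧ ∀ ⦃W : C⦄ (f : W ⟶ V), S.arrows f →
      ∃ (U : C) (g : W ⟶ U) (h : U ⟶ V), B U ∧ g ≫ h = f)
    (S : ShortComplex (Sheaf J AddCommGrpCat.{w})) :
    S.Exact ↔ ∀ U : C, B U →
      (S.map (sheafToPresheaf J AddCommGrpCat.{w} ⋙ (evaluation Cᵒᵖ AddCommGrpCat.{w}).obj (op U))).Exact := by
  exact Groth.Agent.SiteBase.exact_iff_secExact S B hB hcov

end Groth.Agent.S19540
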