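import Groth.Statements.S19541
import Groth.Agent.S9566
import Groth.Agent.CurveCohLib.SubBundle
import Groth.Agent.TFCurvLib.AssTF
import Mathlib.AlgebraicGeometry.AlgClosed.Basic
import Mathlib.RingTheory.Flat.TorsionFree

set_option autoImplicit false
universe u
open CategoryTheory CategoryTheory.Limits AlgebraicGeometry TopologicalSpace
open Curves

namespace Groth.Agent.S19541

/-- Pointwise criterion for a map of smooth curves to be étale: let k be an algebraically closed field,
X and Y integral schemes each smooth, separated and quasi-compact over Spec k and of dimension one,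
φ : X → Y a morphism over k and x a closed point of X. Then φ is étale at x (the restriction of φ to
some open neighbourhood of x is étale) if and only if the induced homomorphism of stalks O_{Y,φ(x)}
→ O_{X,x} carries the maximal ideal of the discrete valuation ring O_{Y,φ(x)} to an ideal generating
the maximal ideal of O_{X,x}; equivalently a uniformiser at φ(x) pulls back to a uniformiser at x.
(The published statement is for smooth curves, which are in addition geometrically connected;
integrality is what is used. For a constant φ both sides fail.) -/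
theorem result (k : Type u) [Field k] [IsAlgClosed k] {X Y : Scheme.{u}}
    (pX : X ⟶ Spec (CommRingCat.of k)) (pY : Y ⟶ Spec (CommRingCat.of k)) (φ : X ⟶ Y) (w : φ ≫ pY = pX)
    [IsIntegral X] [Smooth pX] [IsSeparated pX] [QuasiCompact pX] (hdX : topologicalKrullDim X = 1)
    [IsIntegral Y] [Smooth pY] [IsSeparated pY] [QuasiCompact pY] (hdY : topologicalKrullDim Y = 1)
    (x : X) (hx : IsClosed ({x} : Set X)) :
    (∃ U : X.Opens, x ∈ U ∧ Etale (U.ι ≫ φ)) ↔
      Ideal.map (φ.stalkMap x).hom (IsLocalRing.maximalIdeal (Y.presheaf.stalk (φ.base x))) =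
        IsLocalRing.maximalIdeal (X.presheaf.stalk x) := by
  haveI : LocallyOfFiniteType pX := inferInstance
  haveI : LocallyOfFiniteType φ := by
    haveI : LocallyOfFiniteType (φ ≫ pY) := w ▸ (inferInstance : LocallyOfFiniteType pX)
    exact locallyOfFiniteType_of_comp φ pY
  haveI : IsLocallyNoetherian Y := LocallyOfFiniteType.isLocallyNoetherian pY
  rw [Groth.Agent.S9566.result φ x]
  refine ⟨fun h => h.2.1, fun hm => ⟨?_, hm, ?_⟩⟩
  · haveI : IsPrincipalIdealRing (Y.presheaf.stalk (φ.base x)) :=
      CurveCohLib.isPrincipalIdealRing_stalk_of_smooth pY hdY.le _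
    have hne : IsLocalRing.maximalIdeal (X.presheaf.stalk x) ≠ ⊥ := fun h => by
      have hF : IsField (X.presheaf.stalk x) := IsLocalRing.isField_iff_maximalIdeal_eq.2 h
      have he : genericPoint X = x := TFCurvLib.eq_of_specializes_of_isField hF (genericPoint_specializes x)
      have hu : ({x} : Set X) = Set.univ := by
        rw [← hx.closure_eq, ← he]
        exact genericPoint_spec X
      haveI : Subsingleton X := ⟨fun a b => by
        have ha : a ∈ ({x} : Set X) := hu ▸ Set.mem_univ a
        have hb : b ∈ ({x} : Set X) := hu ▸ Set.mem_univ b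
        rw [Set.mem_singleton_iff.1 ha, Set.mem_singleton_iff.1 hb]⟩
      have h0 := topologicalKrullDim_zero_of_discreteTopology (X := X)
      rw [hdX] at h0
      norm_num at h0
    have hinj : Function.Injective (φ.stalkMap x).hom := by
      rw [RingHom.injective_iff_ker_eq_bot]
      by_contra hk
      haveI := RingHom.ker_isPrime (φ.stalkMap x).hom
      have hmax : (RingHom.ker (φ.stalkMap x).hom).IsMaximal := IsPrime.to_maximal_ideal hk
      have : RingHom.ker (φ.stalkMap x).hom = IsLocalRing.maximalIdeal _ := IsLocalRing.eq_maximalIdeal hmax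
      refine hne (hm.symm.trans ?_)
      rw [Ideal.map_eq_bot_iff_le_ker, this]
    algebraize [(φ.stalkMap x).hom]
    haveI : Module.IsTorsionFree (Y.presheaf.stalk (φ.base x)) (X.presheaf.stalk x) :=
      Module.isTorsionFree_iff_algebraMap_injective.2 hinj
    exact (inferInstance : Module.Flat (Y.presheaf.stalk (φ.base x)) (X.presheaf.stalk x))
  · let s : Spec (CommRingCat.of k) ⟶ Y := pointOfClosedPoint pX x hx ≫ φ
    have hs : s ≫ pY = 𝟙 _ := by rw [Category.assoc, w, pointOfClosedPoint_comp]
    haveI : IsClosedImmersion (s ≫ pY) := by rw [hs]; infer_instance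
    haveI : IsClosedImmersion s := IsClosedImmersion.of_comp s pY
    have hy : IsClosed ({φ.base x} : Set Y) := by
      have hr : Set.range s = {φ.base x} := by
        haveI : Subsingleton (Spec (CommRingCat.of k)) := inferInstanceAs (Subsingleton (PrimeSpectrum k))
        refine Set.eq_singleton_iff_unique_mem.2 ⟨⟨IsLocalRing.closedPoint k, congrArg φ.base (pointOfClosedPoint_apply pX x hx _)⟩, ?_⟩
        rintro _ ⟨t, rfl⟩
        simp [s]
      rw [← hr]
      exact s.isClosedEmbedding.isClosed_range
    have hcomp : (residueFieldIsoBase pY (φ.base x) hy).inv ≫ φ.residueFieldMap x = (residueFieldIsoBase pX x hx).inv :=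
      Spec.map_injective (by
        rw [Spec.map_comp, SpecMap_residueFieldIsoBase_inv, SpecMap_residueFieldIsoBase_inv,
          Scheme.Hom.SpecMap_residueFieldMap_fromSpecResidueField_assoc, w])
    haveI hI : IsIso (φ.residueFieldMap x) := by
      haveI : IsIso ((residueFieldIsoBase pY (φ.base x) hy).inv ≫ φ.residueFieldMap x) := hcomp ▸ inferInstance
      exact IsIso.of_isIso_comp_left (residueFieldIsoBase pY (φ.base x) hy).inv _
    letI := (φ.residueFieldMap x).hom.toAlgebra
    have hb : Function.Bijective (algebraMap (Y.residueField (φ.base x)) (X.residueField x)) :=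
      ConcreteCategory.bijective_of_isIso (φ.residueFieldMap x)
    exact ⟨Module.Finite.of_surjective (Algebra.linearMap _ _) hb.2,
      Algebra.IsSeparable.of_equiv_equiv (RingEquiv.refl _) (RingEquiv.ofBijective _ hb)
        (RingHom.ext fun a => rfl)⟩

end Groth.Agent.S19541
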