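import Groth.Statements.S19546
import Mathlib

set_option autoImplicit false
universe u v w
open scoped TensorProduct
open VBCurve

namespace Groth.Agent.S19546



open TensorProduct MvPolynomial Order


variable (a b : ℕ)

/-- The Segre map on polynomial rings. -/
noncomputable def segre : MvPolynomial (Fin (a + 1) × Fin (b + 1)) ℂ →ₐ[ℂ]
    MvPolynomial (Fin (a + 1) ⊕ Fin (b + 1)) ℂ :=
  aeval fun p => X (Sum.inl p.1) * X (Sum.inr p.2)

/-- The order in which the variables are killed. -/
def rk : Fin (a + 1) ⊕ Fin (b + 1) → ℕ :=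
  Sum.elim (fun i => if (i : ℕ) = a then a + b else i) (fun j => a + j)

/-- Killing the variables of rank `< t`. -/
noncomputable def kill (t : ℕ) : MvPolynomial (Fin (a + 1) ⊕ Fin (b + 1)) ℂ →ₐ[ℂ]
    MvPolynomial (Fin (a + 1) ⊕ Fin (b + 1)) ℂ :=
  aeval fun v => if rk a b v < t then 0 else X v

/-- The primes of the Segre ring. -/
noncomputable def chainIdeal (t : ℕ) : Ideal (MvPolynomial (Fin (a + 1) × Fin (b + 1)) ℂ) :=
  RingHom.ker ((kill a b t).comp (segre a b)).toRingHom

theorem mem_chainIdeal {t : ℕ} {p} : p ∈ chainIdeal a b t ↔ kill a b t (segre a b p) = 0 := Iff.rfl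

instance (t : ℕ) : (chainIdeal a b t).IsPrime := RingHom.ker_isPrime _

theorem chainIdeal_mono {s t : ℕ} (h : s ≤ t) : chainIdeal a b s ≤ chainIdeal a b t := by
  intro p hp
  have hcomp : (kill a b t).comp (kill a b s) = kill a b t := by
    ext v
    by_cases hs : rk a b v < s
    · simp [kill, hs, lt_of_lt_of_le hs h]
    · simp [kill, hs]
  rw [mem_chainIdeal] at hp ⊢
  rw [← hcomp, AlgHom.comp_apply, hp, map_zero]

theorem chainIdeal_lt {t : ℕ} (h : t ≤ a + b) : chainIdeal a b t < chainIdeal a b (t + 1) := by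
  refine lt_of_le_of_ne (chainIdeal_mono a b t.le_succ) fun he => ?_
  obtain ⟨i, j, hij, hge⟩ : ∃ (i : Fin (a + 1)) (j : Fin (b + 1)),
      (rk a b (Sum.inl i) ≤ t ∨ rk a b (Sum.inr j) ≤ t) ∧
      t ≤ rk a b (Sum.inl i) ∧ t ≤ rk a b (Sum.inr j) := by
    by_cases ht : t < a
    · exact ⟨⟨t, by omega⟩, Fin.last b, Or.inl (by simp [rk, ne_of_lt ht]), by simp [rk, ne_of_lt ht],
        by simp [rk]; omega⟩
    · exact ⟨Fin.last a, ⟨t - a, by omega⟩, Or.inr (by simp [rk]; omega), by simp [rk]; omega,
        by simp [rk]; omega⟩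
  have hmem : (X (i, j) : MvPolynomial _ ℂ) ∈ chainIdeal a b (t + 1) := by
    rw [mem_chainIdeal]
    simp only [segre, kill, aeval_X, map_mul]
    rcases hij with h1 | h1
    · rw [if_pos (Nat.lt_succ_of_le h1), zero_mul]
    · rw [if_pos (Nat.lt_succ_of_le h1), mul_zero]
  rw [← he, mem_chainIdeal] at hmem
  simp only [segre, kill, aeval_X, map_mul, if_neg (not_lt.2 hge.1), if_neg (not_lt.2 hge.2)] at hmem
  exact mul_ne_zero (X_ne_zero _) (X_ne_zero _) hmem

/-- The Segre ring. -/
abbrev SegreRing : Type := MvPolynomial (Fin (a + 1) × Fin (b + 1)) ℂ ⧸ chainIdeal a b 0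

theorem height_top_chain :
    ((a + b + 1 : ℕ) : ℕ∞) ≤ ((chainIdeal a b (a + b + 1)).map
      (Ideal.Quotient.mk (chainIdeal a b 0))).height := by
  let π := Ideal.Quotient.mk (chainIdeal a b 0)
  have hprime : ∀ t, ((chainIdeal a b t).map π).IsPrime := fun t =>
    Ideal.map_isPrime_of_surjective Ideal.Quotient.mk_surjective
      (by rw [Ideal.mk_ker]; exact chainIdeal_mono a b t.zero_le)
  have hcm : ∀ t, ((chainIdeal a b t).map π).comap π = chainIdeal a b t := fun t => by
    rw [Ideal.comap_map_of_surjective _ Ideal.Quotient.mk_surjective, ← RingHom.ker_eq_comap_bot,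
      Ideal.mk_ker, sup_eq_left]
    exact chainIdeal_mono a b t.zero_le
  let f : Fin (a + b + 2) → PrimeSpectrum (SegreRing a b) := fun t =>
    ⟨(chainIdeal a b t).map π, hprime t⟩
  have hf : StrictMono f := Fin.strictMono_iff_lt_succ.2 fun t => by
    refine lt_of_le_of_ne (Ideal.map_mono (chainIdeal_mono a b (Nat.le_succ _))) fun he => ?_
    have := congrArg (fun P : PrimeSpectrum (SegreRing a b) => P.asIdeal.comap π) he
    simp only [f, hcm, Fin.val_castSucc, Fin.val_succ] at this
    exact (chainIdeal_lt a b (Nat.le_of_lt_succ t.2)).ne this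
  haveI := hprime (a + b + 1)
  rw [show ((chainIdeal a b (a + b + 1)).map π) = (f (Fin.last _)).asIdeal from rfl,
    PrimeSpectrum.height_eq_orderHeight]
  exact length_le_height (p := LTSeries.mk (a + b + 1) f hf) le_rfl


/-- Let A, B, C be complex vector spaces, A and B finite-dimensional, and ν : A ⊗ B → C a linear map
injective on each factor separately (b ↦ ν(a ⊗ b) is injective for every a ≠ 0 and a ↦ ν(a ⊗ b) is
injective for every b ≠ 0). Then the image of ν has dimension at least dim A + dim B - 1. (For A = 0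
the separate-injectivity hypothesis is empty and the inequality fails as soon as dim B ≥ 2, so A and
B are taken nonzero here, the case the inequality is about.) -/
theorem result
    (A : Type u) (B : Type v) (C : Type w) [AddCommGroup A] [Module ℂ A] [AddCommGroup B] [Module ℂ B]
    [AddCommGroup C] [Module ℂ C] [FiniteDimensional ℂ A] [FiniteDimensional ℂ B]
    [Nontrivial A] [Nontrivial B] (ν : A ⊗[ℂ] B →ₗ[ℂ] C)
    (hA : ∀ a : A, a ≠ 0 → Function.Injective (fun b : B => ν (a ⊗ₜ[ℂ] b)))
    (hB : ∀ b : B, b ≠ 0 → Function.Injective (fun a : A => ν (a ⊗ₜ[ℂ] b))) :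
    Module.finrank ℂ A + Module.finrank ℂ B ≤ Module.finrank ℂ (LinearMap.range ν) + 1 := by
  obtain ⟨a, ha⟩ : ∃ a, Module.finrank ℂ A = a + 1 :=
    ⟨Module.finrank ℂ A - 1, by have := Module.finrank_pos (R := ℂ) (M := A); omega⟩
  obtain ⟨b, hb⟩ : ∃ b, Module.finrank ℂ B = b + 1 :=
    ⟨Module.finrank ℂ B - 1, by have := Module.finrank_pos (R := ℂ) (M := B); omega⟩
  let bA := Module.finBasisOfFinrankEq ℂ A ha
  let bB := Module.finBasisOfFinrankEq ℂ B hb
  let V := LinearMap.range ν
  let bV := Module.finBasis ℂ V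
  let F : Fin (Module.finrank ℂ V) → MvPolynomial (Fin (a + 1) × Fin (b + 1)) ℂ := fun l =>
    ∑ p : Fin (a + 1) × Fin (b + 1),
      MvPolynomial.C (bV.repr (ν.rangeRestrict (bA p.1 ⊗ₜ[ℂ] bB p.2)) l) * MvPolynomial.X p
  let π := Ideal.Quotient.mk (chainIdeal a b 0)
  let S : Set (SegreRing a b) := Set.range fun l => π (F l)
  let M := (chainIdeal a b (a + b + 1)).map π
  -- the points of the last prime
  have htop : ∀ p, p ∈ chainIdeal a b (a + b + 1) ↔ MvPolynomial.eval 0 p = 0 := by
    intro p
    have hk : kill a b (a + b + 1) = (Algebra.ofId ℂ _).comp (MvPolynomial.aeval (0 : Fin (a + 1) ⊕ Fin (b + 1) → ℂ)) := by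
      refine MvPolynomial.algHom_ext fun v => ?_
      have : rk a b v < a + b + 1 := by
        rcases v with i | j
        · have := i.2; simp [rk]; split <;> omega
        · have := j.2; simp [rk]; omega
      simp only [kill, MvPolynomial.aeval_X, AlgHom.comp_apply, if_pos this, Pi.zero_apply, map_zero]
    have hs : (MvPolynomial.aeval (0 : Fin (a + 1) ⊕ Fin (b + 1) → ℂ)).comp (segre a b) = MvPolynomial.aeval 0 := by
      ext q; simp [segre]
    rw [mem_chainIdeal, hk, AlgHom.comp_apply, ← AlgHom.comp_apply (MvPolynomial.aeval _), hs]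
    show algebraMap ℂ _ _ = 0 ↔ _
    rw [map_eq_zero_iff _ (algebraMap ℂ _).injective]
    rfl
  haveI hM : M.IsPrime := Ideal.map_isPrime_of_surjective Ideal.Quotient.mk_surjective
    (by rw [Ideal.mk_ker]; exact chainIdeal_mono a b (Nat.zero_le _))
  have hSM : Ideal.span S ≤ M := by
    rw [Ideal.span_le]
    rintro _ ⟨l, rfl⟩
    exact Ideal.mem_map_of_mem π ((htop _).2 (by simp [F]))
  -- the kernel meets no pure tensor
  have key : ∀ q : Ideal (SegreRing a b), q.IsMaximal → Ideal.span S ≤ q → M ≤ q := by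
    intro q hq hSq
    have hq' : (q.comap π).IsMaximal := Ideal.comap_isMaximal_of_surjective π Ideal.Quotient.mk_surjective
    obtain ⟨z, hz⟩ := (MvPolynomial.isMaximal_iff_eq_vanishingIdeal_singleton).1 hq'
    have hmem : ∀ p, p ∈ q.comap π ↔ MvPolynomial.eval z p = 0 := fun p => by
      rw [hz, MvPolynomial.mem_vanishingIdeal_singleton_iff]
      rfl
    have h0 : ∀ p, segre a b p = 0 → MvPolynomial.eval z p = 0 := fun p hp => by
      refine (hmem p).1 ?_
      show π p ∈ q
      rw [Ideal.Quotient.eq_zero_iff_mem.2 ((mem_chainIdeal a b).2 (by rw [hp, map_zero]))]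
      exact q.zero_mem
    have hz0 : z = 0 := by
      by_contra hne
      obtain ⟨⟨i₀, j₀⟩, h00⟩ := Function.ne_iff.1 hne
      let α : A := ∑ i, z (i, j₀) • bA i
      let β : B := ∑ j, (z (i₀, j) / z (i₀, j₀)) • bB j
      have hrel : ∀ i j, z (i, j₀) * (z (i₀, j) / z (i₀, j₀)) = z (i, j) := fun i j => by
        have h1 := h0 (MvPolynomial.X (i, j₀) * MvPolynomial.X (i₀, j) -
          MvPolynomial.X (i, j) * MvPolynomial.X (i₀, j₀)) (by simp [segre]; ring)
        simp only [map_sub, map_mul, MvPolynomial.eval_X, sub_eq_zero] at h1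
        rw [← mul_div_assoc, h1, mul_div_cancel_right₀ _ h00]
      have hν : ν (α ⊗ₜ[ℂ] β) = 0 := by
        have hexp : ν.rangeRestrict (α ⊗ₜ[ℂ] β) =
            ∑ p : Fin (a + 1) × Fin (b + 1), z p • ν.rangeRestrict (bA p.1 ⊗ₜ[ℂ] bB p.2) := by
          simp only [α, β, TensorProduct.sum_tmul, TensorProduct.tmul_sum,
            TensorProduct.smul_tmul_smul, hrel, map_sum, map_smul, Fintype.sum_prod_type]
          try rw [Finset.sum_comm]
        have h2 : ν.rangeRestrict (α ⊗ₜ[ℂ] β) = 0 := by
          refine bV.ext_elem fun l => ?_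
          have h1 := (hmem (F l)).1 (hSq (Ideal.subset_span ⟨l, rfl⟩))
          simp only [F, map_sum, map_mul, MvPolynomial.eval_C, MvPolynomial.eval_X] at h1
          rw [hexp, map_zero, map_sum, Finsupp.zero_apply, Finsupp.finsetSum_apply, ← h1]
          exact Finset.sum_congr rfl fun p _ => by simp [mul_comm]
        exact congrArg Subtype.val h2
      have hα : α ≠ 0 := fun h => by
        have h' := congrArg (fun v => bA.repr v i₀) h
        simp [α, Finsupp.single_apply] at h'
        exact h00 h'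
      have hβ : β ≠ 0 := fun h => by
        have h' := congrArg (fun v => bB.repr v j₀) h
        simp [β, Finsupp.single_apply] at h'
        exact h00 h'
      exact hβ (hA α hα (show ν (α ⊗ₜ[ℂ] β) = ν (α ⊗ₜ[ℂ] (0 : B)) by rw [hν, TensorProduct.tmul_zero, map_zero]))
    subst hz0
    refine Ideal.map_le_iff_le_comap.2 fun p hp => (hmem p).2 ((htop p).1 hp)
  have hmin : M ∈ (Ideal.span S).minimalPrimes := by
    refine ⟨⟨hM, hSM⟩, fun P hP _ => ?_⟩
    haveI := hP.1
    calc M ≤ P.jacobson := le_sInf fun q hq => key q hq.2 (hP.2.trans hq.1)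
      _ = P := IsJacobsonRing.out' P hP.1.isRadical
  have h1 := (height_top_chain a b).trans
    (Ideal.height_le_card_of_mem_minimalPrimes_span (Set.finite_range _) hmin)
  have h2 : S.ncard ≤ Module.finrank ℂ V := by
    rw [show S = (fun l => π (F l)) '' Set.univ from Set.image_univ.symm]
    exact (Set.ncard_image_le Set.finite_univ).trans (by rw [Set.ncard_univ, Nat.card_fin])
  have h3 : a + b + 1 ≤ S.ncard := by exact_mod_cast h1
  change _ ≤ Module.finrank ℂ V + 1
  omega

end Groth.Agent.S19546
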