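import Groth.Statements.S19547
import Mathlib.RingTheory.Flat.FaithfullyFlat.Algebra
import Mathlib.RingTheory.Flat.Stability

set_option autoImplicit false
set_option backward.isDefEq.respectTransparency false
set_option backward.isDefEq.respectTransparency.types false
universe u
open TensorProduct
open Desc

namespace Groth.Agent.S19547

/-- Let A → A' be a faithfully flat homomorphism of commutative rings, M' an A'-module and φ : M' ⊗_A A'
→ A' ⊗_A M' an isomorphism of (A' ⊗_A A')-modules for the diagonal actions (x ⊗ y)(u ⊗ z) = xu ⊗ yz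
and (x ⊗ y)(z ⊗ u) = xz ⊗ yu, satisfying the cocycle condition φ_13 = φ_23 ∘ φ_12 between the three
pullbacks to A' ⊗_A A' ⊗_A A'. Here linearity over A' ⊗_A A' is stated on the generators x ⊗ 1 and 1
⊗ y, and the cocycle condition on pure tensors u ⊗ a ⊗ b: writing φ(u ⊗ a) = Σ a_i ⊗ u_i, it says Σ
a_i ⊗ φ(u_i ⊗ b) = Σ b_j ⊗ a ⊗ u'_j where φ(u ⊗ b) = Σ b_j ⊗ u'_j. Let M = {u ∈ M' : φ(u ⊗ 1) = 1 ⊗
u}, an A-submodule of M'. Then the canonical map λ : A' ⊗_A M → M', x ⊗ u ↦ xu, is an isomorphism. -/
theorem result (A A' : Type u) [CommRing A] [CommRing A']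
    [Algebra A A'] [Module.FaithfullyFlat A A'] (M' : Type u) [AddCommGroup M'] [Module A M']
    [Module A' M'] [IsScalarTower A A' M']
    (φ : M' ⊗[A] A' →ₗ[A] A' ⊗[A] M') (hφ : Function.Bijective φ)
    (h1 : ∀ (x : A') (u : M') (z : A'),
      φ ((x • u) ⊗ₜ[A] z) = LinearMap.rTensor M' (LinearMap.mulLeft A x) (φ (u ⊗ₜ[A] z)))
    (h2 : ∀ (y : A') (u : M') (z : A'),
      φ (u ⊗ₜ[A] (y * z)) = LinearMap.lTensor A' (Algebra.lsmul A A M' y) (φ (u ⊗ₜ[A] z)))
    (hcoc : ∀ (u : M') (a b : A'),
      LinearMap.lTensor A' φ (TensorProduct.assoc A A' M' A' (LinearMap.rTensor A' φ ((u ⊗ₜ[A] a) ⊗ₜ[A] b))) =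
        LinearMap.lTensor A' (TensorProduct.mk A A' M' a) (φ (u ⊗ₜ[A] b)))
    (M : Submodule A M') (hM : ∀ u : M', u ∈ M ↔ φ (u ⊗ₜ[A] (1 : A')) = (1 : A') ⊗ₜ[A] u) :
    Function.Bijective
      ((TensorProduct.lift (Algebra.lsmul A A M').toLinearMap) ∘ₗ (LinearMap.lTensor A' M.subtype)) := by
  let ψ := Algebra.lsmul A A M' (A := A')
  let μ : A' ⊗[A] M' →ₗ[A] M' := TensorProduct.lift ψ.toLinearMap
  let c : M' →ₗ[A] A' ⊗[A] M' := φ ∘ₗ (TensorProduct.mk A M' A').flip 1
  let β : M' →ₗ[A] A' ⊗[A] M' := TensorProduct.mk A A' M' 1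
  have hμ : ∀ (x : A') (v : M'), μ (x ⊗ₜ[A] v) = x • v := fun x v => by simp [μ, ψ]
  have hc : ∀ u, (c.lTensor A') (c u) = (β.lTensor A') (c u) := fun u => by
    have h := hcoc u 1 1
    have e : ∀ w : A' ⊗[A] M', LinearMap.lTensor A' φ (TensorProduct.assoc A A' M' A' (w ⊗ₜ[A] (1 : A'))) =
        c.lTensor A' w := fun w => by
      induction w using TensorProduct.induction_on with
      | zero => simp
      | tmul a v => simp [c]
      | add p q hp hq => rw [TensorProduct.add_tmul, map_add, map_add, hp, hq, map_add]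
    rw [LinearMap.rTensor_tmul, e] at h
    exact h
  have hcs : ∀ (x : A') (v : M'), c (x • v) = LinearMap.rTensor M' (LinearMap.mulLeft A x) (c v) := fun x v =>
    h1 x v 1
  have hμm : ∀ (x : A') (w : A' ⊗[A] M'), μ (LinearMap.rTensor M' (LinearMap.mulLeft A x) w) = x • μ w := by
    intro x w
    induction w using TensorProduct.induction_on with
    | zero => simp
    | tmul a v => simp [hμ, mul_smul]
    | add p q hp hq => rw [map_add, map_add, hp, hq, map_add, smul_add]
  have hid : ∀ u, μ (c u) = u := by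
    let e : M' →ₗ[A] M' := μ ∘ₗ c
    have hee : ∀ (x : A') (v : M'), e (x • v) = x • e v := fun x v => by
      show μ (c (x • v)) = x • μ (c v)
      rw [hcs, hμm]
    have h0 : ∀ u, e.lTensor A' (c u) = c u := fun u => by
      have h := congrArg (μ.lTensor A') (hc u)
      rw [← LinearMap.comp_apply, ← LinearMap.lTensor_comp, ← LinearMap.comp_apply (f := μ.lTensor A'),
        ← LinearMap.lTensor_comp] at h
      rw [show μ ∘ₗ β = LinearMap.id from LinearMap.ext fun v => by simp [β, hμ], LinearMap.lTensor_id] at h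
      simpa [e] using h
    have hall : ∀ w, e.lTensor A' (φ w) = φ w := by
      intro w
      induction w using TensorProduct.induction_on with
      | zero => simp
      | add p q hp hq => rw [map_add, map_add, hp, hq]
      | tmul u z =>
        have hz := h2 z u 1
        rw [mul_one] at hz
        rw [hz, ← LinearMap.comp_apply, ← LinearMap.lTensor_comp,
          show e ∘ₗ Algebra.lsmul A A M' z = Algebra.lsmul A A M' z ∘ₗ e from LinearMap.ext fun v => hee z v,
          LinearMap.lTensor_comp, LinearMap.comp_apply, show φ (u ⊗ₜ[A] (1 : A')) = c u from rfl, h0]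
    intro u
    refine Module.FaithfullyFlat.tensorProduct_mk_injective (A := A) (B := A') M' ?_
    obtain ⟨w, hw⟩ := hφ.2 ((1 : A') ⊗ₜ[A] u)
    have := hall w
    rw [hw] at this
    simpa [e] using this
  have hker : ∀ w, c.lTensor A' w = β.lTensor A' w → w = c (μ w) := by
    intro w hw
    let m : A' ⊗[A] (A' ⊗[A] M') →ₗ[A] A' ⊗[A] M' :=
      (LinearMap.mul' A A').rTensor M' ∘ₗ (TensorProduct.assoc A A' A' M').symm.toLinearMap
    have e1 : ∀ w, m (c.lTensor A' w) = c (μ w) := by
      intro w
      induction w using TensorProduct.induction_on with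
      | zero => simp
      | add p q hp hq => rw [map_add, map_add, hp, hq, map_add, map_add]
      | tmul a v =>
        rw [hμ, hcs, LinearMap.lTensor_tmul]
        generalize c v = w
        induction w using TensorProduct.induction_on with
        | zero => simp
        | add p q hp hq => simp only [TensorProduct.tmul_add, map_add, hp, hq]
        | tmul b v => simp [m]
    have e2 : ∀ w, m (β.lTensor A' w) = w := by
      intro w
      induction w using TensorProduct.induction_on with
      | zero => simp
      | add p q hp hq => rw [map_add, map_add, hp, hq]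
      | tmul a v => simp [m, β]
    rw [← e1, hw, e2]
  have hex : Function.Exact M.subtype (c - β) := by
    rw [LinearMap.exact_iff, Submodule.range_subtype]
    ext u
    rw [LinearMap.mem_ker, hM, LinearMap.sub_apply, sub_eq_zero]
    rfl
  have hexT := Module.Flat.lTensor_exact A' hex
  have hι : Function.Injective (M.subtype.lTensor A') :=
    Module.Flat.lTensor_preserves_injective_linearMap _ M.injective_subtype
  have hmem : ∀ z, (M.subtype.lTensor A') z = c (μ ((M.subtype.lTensor A') z)) := fun z => by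
    refine hker _ ?_
    have := hexT.apply_apply_eq_zero z
    rwa [LinearMap.lTensor_sub, LinearMap.sub_apply, sub_eq_zero] at this
  constructor
  · intro a b hab
    apply hι
    rw [hmem a, hmem b]
    exact congrArg c hab
  · intro u
    obtain ⟨z, hz⟩ := (hexT (c u)).1 (by
      rw [LinearMap.lTensor_sub, LinearMap.sub_apply, sub_eq_zero, hc])
    exact ⟨z, by show μ _ = u; rw [hz, hid]⟩

end Groth.Agent.S19547
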