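import Groth.Statements.S19552
import Groth.Agent.BassCancel.Basic

set_option autoImplicit false
universe u
open CAlg

namespace Groth.Agent.S19552

/-- Let R be a Noetherian ring of Krull dimension d and P, Q finitely generated projective R-modules of
constant rank at every prime which have the same class in the Grothendieck group, i.e. are stably
isomorphic: P ⊕ R^m ≅ Q ⊕ R^m for some m. Then there is a positive integer N with P^N ≅ Q^N. (The
two exponents in the published display are read as the same integer N; for modules of positive rank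
an isomorphism between direct powers forces equal exponents.) -/
theorem result (R : Type u) [CommRing R] [IsNoetherianRing R]
    (d n : ℕ) (hdim : ringKrullDim R = d)
    (P Q : Type u) [AddCommGroup P] [Module R P] [Module.Finite R P] [Module.Projective R P]
    [AddCommGroup Q] [Module R Q] [Module.Finite R Q] [Module.Projective R Q]
    (hrk : ∀ p : PrimeSpectrum R, Module.rankAtStalk (R := R) P p = n)
    (hrk' : ∀ p : PrimeSpectrum R, Module.rankAtStalk (R := R) Q p = n)
    (m : ℕ) (e : (P × (Fin m → R)) ≃ₗ[R] (Q × (Fin m → R))) :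
    ∃ N : ℕ, 1 ≤ N ∧ Nonempty ((Fin N → P) ≃ₗ[R] (Fin N → Q)) := by
  refine ⟨d + 1, by omega, ?_⟩
  rcases Nat.eq_zero_or_pos n with rfl | hn
  · have : Subsingleton P := Module.rankAtStalk_eq_zero_iff_subsingleton.1 (funext fun p => hrk p)
    have : Subsingleton Q := Module.rankAtStalk_eq_zero_iff_subsingleton.1 (funext fun p => hrk' p)
    exact ⟨LinearEquiv.ofSubsingleton (Fin (d + 1) → P) (Fin (d + 1) → Q)⟩
  have hr : ∀ p : PrimeSpectrum R, Module.rankAtStalk (R := R) (Fin (d + 1) → P) p = (d + 1) * n := fun p => by
    rw [Module.rankAtStalk_pi, finsum_eq_sum_of_fintype]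
    simp [hrk p]
  let s : ∀ (X : Type u) [AddCommGroup X] [Module R X],
      (Fin (d + 1) → X × (Fin m → R)) ≃ₗ[R] (Fin (d + 1) → X) × (Fin ((d + 1) * m) → R) := fun X _ _ =>
    ({ toFun := fun f => (fun i => (f i).1, fun i => (f i).2)
       invFun := fun g i => (g.1 i, g.2 i)
       map_add' := fun f g => rfl
       map_smul' := fun r f => rfl
       left_inv := fun f => rfl
       right_inv := fun g => rfl } :
      (Fin (d + 1) → X × (Fin m → R)) ≃ₗ[R] (Fin (d + 1) → X) × (Fin (d + 1) → Fin m → R)).trans
      ((LinearEquiv.refl R _).prodCongr ((LinearEquiv.curry R R (Fin (d + 1)) (Fin m)).symm.trans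
        (LinearEquiv.funCongrLeft R R finProdFinEquiv.symm)))
  have : Module.Projective R (Fin (d + 1) → P) :=
    Module.Projective.of_equiv (DFinsupp.linearEquivFunOnFintype (R := R) (M := fun _ : Fin (d + 1) => P))
  obtain ⟨f⟩ := Groth.Agent.BassCancel.cancel hdim.le (show d < (d + 1) * n by nlinarith) hr ((d + 1) * m)
    (((s Q).symm.trans (LinearEquiv.piCongrRight fun _ => e.symm)).trans (s P))
  exact ⟨f.symm⟩

end Groth.Agent.S19552
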