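import Groth.Statements.S1956
import Groth.Agent.H23.K0Rat
-- import your own Groth.Agent.* helpers here

set_option autoImplicit false
universe u
open CategoryTheory AlgebraicGeometry
open Cyc

namespace Groth.Agent.S1956

/-- For a k-cycle α = Σ n_Z [Z] on X rationally equivalent to zero, the classes of ⊕_{n_Z>0} O_Z^{n_Z}
and ⊕_{n_Z<0} O_Z^{−n_Z} agree in K_0(Coh_{≤k+1}(X)/Coh_{≤k−1}(X)); that is, Z_k(X) →
K_0(Coh_{≤k+1}/Coh_{≤k−1}) factors through CH_k(X). Here O_Z is the structure sheaf of the reduced
closure of the generic point pushed forward to X, and K_0 of the Serre quotient is modelled as in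
Cyc.K0CohQuot. Here a pair (X, δ) with Cyc.IsSetup plays the role of a scheme locally of finite type
over a fixed base with a dimension function (X locally Noetherian with universally catenary local
rings, δ a dimension function). -/
theorem result (X : Scheme.{u}) (δ : X → ℤ) (hX : Cyc.IsSetup X δ) (k : ℤ) (α : AlgebraicCycle X ℤ) (hα : α ∈ Cyc.Zk X δ k) (h0 : Cyc.RatEquivZero δ k α) : Cyc.toK0CohQuot δ (k + 1) (k - 1) (Cyc.cycleSheafPos ⇑α) = Cyc.toK0CohQuot δ (k + 1) (k - 1) (Cyc.cycleSheafNeg ⇑α) := by
  haveI := hX.1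
  exact Groth.Agent.H23.K0Rat.tK_pos_eq_neg hX.2.2 α hα h0

end Groth.Agent.S1956
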