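import Groth.Statements.S19560
import Mathlib

set_option autoImplicit false
universe u
open W4c1limliniiii

namespace Groth.Agent.S19560

open Polynomial in
/-- Let k be an algebraically closed field of characteristic p (a prime or zero) and let F, G be
polynomials spanning a base-point-free pencil V of degree d (a two-dimensional space of polynomials
of degree at most d containing one of degree d and with no common zero in k), so that V encodes a
degree-d self-map F/G of the projective line up to automorphisms of the target. Suppose the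
Wronskian W = F′G − FG′ is non-zero and vanishes at the point a to order exactly e − 1 with e ≥ 1,
and that p = 0 or e − 1 < p. Then the map is tamely ramified at a with index e: the largest order of
vanishing at a of a non-zero member of V is e, and p does not divide e. (The hypothesis W ≠ 0 makes
the order of vanishing meaningful; for W = 0 the map is inseparable.) -/
theorem result
    (k : Type u) [Field k] [IsAlgClosed k] (p : ℕ) [CharP k p]
    (d : ℕ) (F G : k[X]) (hV : W4c1limliniiii.IsPencil d (Submodule.span k {F, G}))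
    (hW : Polynomial.wronskian F G ≠ 0) (a : k) (e : ℕ)
    (he : (Polynomial.wronskian F G).rootMultiplicity a + 1 = e) (hp : p = 0 ∨ e - 1 < p) :
    W4c1limliniiii.HasRamIdx (Submodule.span k {F, G}) a e ∧ ¬ p ∣ e := by
  
  classical
  obtain ⟨hdeg, hrank, -, hbpf⟩ := hV
  set V := Submodule.span k ({F, G} : Set k[X]) with hVdef
  obtain ⟨G₁, hG₁, hG₁a⟩ := hbpf a
  -- a member vanishing at `a`
  have : FiniteDimensional k V := FiniteDimensional.of_finrank_eq_succ (n := 1) hrank
  obtain ⟨F₁, hF₁, hF₁0, hF₁a⟩ : ∃ s ∈ V, s ≠ 0 ∧ s.eval a = 0 := by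
    let ev : V →ₗ[k] k := Polynomial.leval a ∘ₗ V.subtype
    have hker : LinearMap.ker ev ≠ ⊥ := by
      intro h
      have := LinearMap.finrank_le_finrank_of_injective (LinearMap.ker_eq_bot.1 h)
      rw [hrank, Module.finrank_self] at this
      omega
    obtain ⟨⟨s, hsV⟩, hs, hs0⟩ := Submodule.exists_mem_ne_zero_of_ne_bot hker
    exact ⟨s, hsV, fun h => hs0 (Subtype.ext h), hs⟩
  obtain ⟨u, hu, hua⟩ := F₁.exists_eq_pow_rootMultiplicity_mul_and_not_dvd hF₁0 a
  set m := F₁.rootMultiplicity a with hm
  rw [dvd_iff_isRoot, IsRoot.def] at hua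
  have hm1 : 1 ≤ m := (rootMultiplicity_pos hF₁0).2 hF₁a
  obtain ⟨α, β, rfl⟩ := Submodule.mem_span_pair.1 hF₁
  obtain ⟨γ, δ, rfl⟩ := Submodule.mem_span_pair.1 hG₁
  set F₁ := α • F + β • G with hF₁def
  set G₁ := γ • F + δ • G with hG₁def
  have hWeq : wronskian F₁ G₁ = C (α * δ - β * γ) * wronskian F G := by
    simp only [F₁, G₁, wronskian, derivative_add, smul_eq_C_mul, derivative_mul, derivative_C, C_mul, C_sub]
    ring
  -- members of `V`
  have hspan : ∀ s ∈ V, ∃ x y : k, s = x • F₁ + y • G₁ := by
    have hli : LinearIndependent k ![(⟨F₁, hF₁⟩ : V), ⟨G₁, hG₁⟩] := by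
      rw [LinearIndependent.pair_iff]
      intro x y hxy
      have h1 : x • F₁ + y • G₁ = 0 := congrArg Subtype.val hxy
      have h2 := congrArg (eval a) h1
      simp only [eval_add, eval_smul, hF₁a, smul_eq_mul, mul_zero, zero_add, eval_zero, mul_eq_zero] at h2
      have hy : y = 0 := h2.resolve_right hG₁a
      rw [hy, zero_smul, add_zero, smul_eq_zero] at h1
      exact ⟨h1.resolve_right hF₁0, hy⟩
    intro s hs
    have htop := hli.span_eq_top_of_card_eq_finrank' (by rw [hrank, Fintype.card_fin])
    have := htop.ge (Submodule.mem_top (x := (⟨s, hs⟩ : V)))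
    rw [Matrix.range_cons, Matrix.range_cons, Matrix.range_empty, Set.union_empty, ← Set.insert_eq,
      Submodule.mem_span_pair] at this
    obtain ⟨x, y, h⟩ := this
    exact ⟨x, y, (congrArg Subtype.val h).symm⟩
  have hdet : α * δ - β * γ ≠ 0 := by
    intro h
    have hW1 : wronskian F₁ G₁ = 0 := by rw [hWeq, h, C_0, zero_mul]
    obtain ⟨x, y, hF⟩ := hspan F (Submodule.subset_span (Or.inl rfl))
    obtain ⟨z, w, hG⟩ := hspan G (Submodule.subset_span (Or.inr rfl))
    refine hW ?_
    rw [hF, hG]
    have : wronskian (x • F₁ + y • G₁) (z • F₁ + w • G₁) = C (x * w - y * z) * wronskian F₁ G₁ := by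
      simp only [wronskian, derivative_add, smul_eq_C_mul, derivative_mul, derivative_C, C_mul, C_sub]
      ring
    rw [this, hW1, mul_zero]
  have hW₁ : wronskian F₁ G₁ ≠ 0 := by
    rw [hWeq]; exact mul_ne_zero (fun h => hdet (C_eq_zero.1 h)) hW
  have hord : (wronskian F₁ G₁).rootMultiplicity a + 1 = e := by
    rw [hWeq, rootMultiplicity_mul (by rw [← hWeq]; exact hW₁), rootMultiplicity_C, zero_add, he]
  -- the local form of the Wronskian
  obtain ⟨n, hn⟩ : ∃ n, m = n + 1 := ⟨m - 1, by omega⟩
  let R₁ : k[X] := u * derivative G₁ - derivative u * G₁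
  have hloc : wronskian F₁ G₁ =
      (X - C a) ^ n * ((X - C a) * R₁ - C (m : k) * (u * G₁)) := by
    rw [hu, hn, wronskian, derivative_mul, derivative_X_sub_C_pow, Nat.cast_succ]
    simp only [R₁, Nat.add_sub_cancel, pow_succ]
    ring
  set Q := (X - C a) * R₁ - C (m : k) * (u * G₁) with hQ
  have hQ0 : Q ≠ 0 := fun h => hW₁ (by rw [hloc, h, mul_zero])
  have hWm : (wronskian F₁ G₁).rootMultiplicity a = Q.rootMultiplicity a + n := by
    rw [hloc, rootMultiplicity_mul (mul_ne_zero (pow_ne_zero _ (X_sub_C_ne_zero a)) hQ0),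
      rootMultiplicity_X_sub_C_pow, add_comm]
  have hQa : Q.eval a = -((m : k) * (u.eval a * G₁.eval a)) := by simp [hQ]
  have hmk : (m : k) ≠ 0 := by
    intro h0
    have hpm : p ∣ m := (CharP.cast_eq_zero_iff k p m).1 h0
    rcases hp with rfl | hp
    · rw [zero_dvd_iff] at hpm; omega
    · have := Nat.le_of_dvd (by omega) hpm
      have hroot : 0 < Q.rootMultiplicity a := (rootMultiplicity_pos hQ0).2 (by rw [IsRoot.def, hQa, h0]; simp)
      omega
  have hQm : Q.rootMultiplicity a = 0 := by
    refine rootMultiplicity_eq_zero ?_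
    rw [IsRoot.def, hQa, neg_eq_zero]
    exact mul_ne_zero hmk (mul_ne_zero hua hG₁a)
  have hme : m = e := by omega
  refine ⟨⟨⟨F₁, hF₁, hF₁0, hme.ge⟩, fun s hs hs0 => ?_⟩, ?_⟩
  · obtain ⟨x, y, rfl⟩ := hspan s hs
    rcases eq_or_ne y 0 with rfl | hy
    · rw [zero_smul, add_zero, ← hme] at *
      have hx : x ≠ 0 := fun h => hs0 (by rw [h, zero_smul])
      rw [smul_eq_C_mul, rootMultiplicity_mul (mul_ne_zero (fun h => hx (C_eq_zero.1 h)) hF₁0),
        rootMultiplicity_C, zero_add]
    · rw [rootMultiplicity_eq_zero]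
      · omega
      · rw [IsRoot.def, eval_add, eval_smul, eval_smul, hF₁a, smul_zero, zero_add, smul_eq_mul]
        exact mul_ne_zero hy hG₁a
  · rw [← hme]
    exact fun h => hmk ((CharP.cast_eq_zero_iff k p m).2 h)

end Groth.Agent.S19560
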