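import Groth.Statements.S19561
import Mathlib

set_option autoImplicit false
universe u
open W4c1limliniiii

namespace Groth.Agent.S19561

open Polynomial in
/-- Let k be an algebraically closed field and F, G polynomials over k with deg G < deg F which span a
base-point-free pencil V of degree deg F (a two-dimensional space of polynomials of degree at most
deg F with no common zero in k), encoding the self-map F/G of the projective line. Then the
ramification index of the map at the point at infinity, namely the largest value of deg F − deg s
over the non-zero members s of V (orders of vanishing at infinity of the corresponding binary forms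
of degree deg F), is deg F − deg G. -/
theorem result
    (k : Type u) [Field k] [IsAlgClosed k] (F G : k[X]) (hlt : G.natDegree < F.natDegree)
    (hV : W4c1limliniiii.IsPencil F.natDegree (Submodule.span k {F, G})) :
    W4c1limliniiii.HasRamIdxInf F.natDegree (Submodule.span k {F, G}) (F.natDegree - G.natDegree) := by
  have hG : G ≠ 0 := by
    rintro rfl
    have h2 := hV.2.1
    have : Submodule.span k ({F, (0 : k[X])} : Set k[X]) = Submodule.span k {F} := by
      rw [Submodule.span_insert, Submodule.span_zero_singleton, sup_bot_eq]
    rw [this] at h2
    have h3 := finrank_span_le_card ({F} : Set k[X]) (R := k)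
    simp at h3
    omega
  refine ⟨⟨G, Submodule.subset_span (Or.inr rfl), hG, by omega⟩, fun s hs hs0 => ?_⟩
  obtain ⟨a, b, rfl⟩ := Submodule.mem_span_pair.1 hs
  rcases eq_or_ne a 0 with rfl | ha
  · rw [zero_smul, zero_add] at hs0 ⊢
    have hb : b ≠ 0 := fun h => hs0 (by rw [h, zero_smul])
    rw [natDegree_smul G hb]
    omega
  · have h1 : (a • F + b • G).natDegree = F.natDegree := by
      rw [natDegree_add_eq_left_of_natDegree_lt, natDegree_smul F ha]
      exact (natDegree_smul_le b G).trans_lt (by rw [natDegree_smul F ha]; exact hlt)
    omega

end Groth.Agent.S19561
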