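import Groth.Statements.S19562
import Mathlib

set_option autoImplicit false
universe u
open W4c1limliniiii

namespace Groth.Agent.S19562

lemma finrank_map_add_finrank_ker_inf {k : Type u} [Field k] {V : Type u} [AddCommGroup V] [Module k V]
    [Module.Finite k V] (F : V →ₗ[k] V) (W : Submodule k V) :
    Module.finrank k ↥(W.map F) + Module.finrank k ↥(LinearMap.ker F ⊓ W) = Module.finrank k ↥W := by
  have e := LinearMap.finrank_range_add_finrank_ker (F.domRestrict W)
  have e1 : Module.finrank k ↥(LinearMap.ker F ⊓ W) = Module.finrank k ↥(LinearMap.ker (F.domRestrict W)) := by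
    rw [inf_comm, ← Submodule.finrank_map_subtype_eq W (LinearMap.ker (F.domRestrict W)),
      LinearMap.ker_domRestrict, Submodule.map_comap_subtype]
  rw [LinearMap.range_domRestrict] at e
  omega

open TensorProduct in
/-- Let k be a field, 0 < r < d, and f_i, g_i (i < n) linear maps forward and backward between
consecutive ones of n + 1 copies of k^d, forming a linked Grassmannian over Spec k whose scalar s is
zero: every composite f_i ∘ g_i and g_i ∘ f_i vanishes, rank f_i + rank g_i ≥ d, and for consecutive
indices im f_i ∩ ker f_{i+1} = 0 and im g_{i+1} ∩ ker g_i = 0. Let (V_i) be a k-valued point of the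
linked Grassmannian of rank-r sub-bundles (subspaces V_i of k ⊗ k^d with quotient of rank d − r,
with f_i(V_i) ⊆ V_{i+1} and g_i(V_{i+1}) ⊆ V_i). Then (V_i) is exact, meaning ker g_i ∩ V_{i+1} ⊆
f_i(V_i) and ker f_i ∩ V_i ⊆ g_i(V_{i+1}) for all i, if and only if dim f_i(V_i) + dim g_i(V_{i+1})
= r for all i. (The published assertion is for points with values in an arbitrary scheme and also
says that f_i(V_i) and g_i(V_{i+1}) are then sub-bundles; this row is the case of a field, where the
last clause is empty.) -/
theorem result (k : Type u) [Field k]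
    (d r n : ℕ) (hr : 0 < r) (hrd : r < d) (f g : Fin n → ((Fin d → k) →ₗ[k] (Fin d → k)))
    (hI : ∀ i, (f i).comp (g i) = 0 ∧ (g i).comp (f i) = 0)
    (hII : ∀ i, d ≤ Module.finrank k (LinearMap.range (f i)) + Module.finrank k (LinearMap.range (g i)))
    (hIII : ∀ i j : Fin n, i.val + 1 = j.val →
      LinearMap.range (f i) ⊓ LinearMap.ker (f j) = ⊥ ∧
        LinearMap.range (g j) ⊓ LinearMap.ker (g i) = ⊥)
    (V : Fin (n + 1) → Module.Grassmannian k (k ⊗[k] (Fin d → k)) (d - r))
    (hV : V ∈ W4c1limliniiii.LGPoints k d r n f g k) :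
    W4c1limliniiii.IsExact k d r n f g k V ↔
      ∀ i : Fin n,
        Module.finrank k ↥(Submodule.map ((f i).baseChange k) (V i.castSucc).toSubmodule) +
          Module.finrank k ↥(Submodule.map ((g i).baseChange k) (V i.succ).toSubmodule) = r := by
  have hfr : ∀ j, Module.finrank k ↥(V j).toSubmodule = r := by
    intro j
    have h1 := Module.rankAtStalk_eq_finrank_of_free (R := k) (M := (k ⊗[k] (Fin d → k)) ⧸ (V j).toSubmodule)
    have h2 : Module.finrank k ((k ⊗[k] (Fin d → k)) ⧸ (V j).toSubmodule) = d - r := by
      have := (V j).rankAtStalk_eq ⟨⊥, Ideal.isPrime_bot⟩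
      rw [h1] at this
      exact this
    have h3 := Submodule.finrank_quotient_add_finrank (V j).toSubmodule
    have h4 : Module.finrank k (k ⊗[k] (Fin d → k)) = d := by simp
    omega
  have split : ∀ (F : (k ⊗[k] (Fin d → k)) →ₗ[k] (k ⊗[k] (Fin d → k))) (W : Submodule k (k ⊗[k] (Fin d → k))),
      Module.finrank k ↥(W.map F) + Module.finrank k ↥(LinearMap.ker F ⊓ W) = Module.finrank k ↥W :=
    fun F W => finrank_map_add_finrank_ker_inf (V := k ⊗[k] (Fin d → k)) F W
  constructor
  · intro h i
    have h1 : LinearMap.ker ((g i).baseChange k) ⊓ (V i.succ).toSubmodule =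
        Submodule.map ((f i).baseChange k) (V i.castSucc).toSubmodule := by
      refine le_antisymm (h i).1 (le_inf ?_ (hV i).1)
      rintro _ ⟨v, hv, rfl⟩
      rw [LinearMap.mem_ker, ← LinearMap.comp_apply, ← LinearMap.baseChange_comp, (hI i).2,
        LinearMap.baseChange_zero, LinearMap.zero_apply]
    have h2 := split ((g i).baseChange k) (V i.succ).toSubmodule
    rw [h1, hfr] at h2
    omega
  · intro h i
    have hi := h i
    constructor
    · refine (Submodule.eq_of_le_of_finrank_eq (le_inf ?_ (hV i).1) ?_).ge
      · rintro _ ⟨v, hv, rfl⟩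
        rw [LinearMap.mem_ker, ← LinearMap.comp_apply, ← LinearMap.baseChange_comp, (hI i).2,
          LinearMap.baseChange_zero, LinearMap.zero_apply]
      · have h2 := split ((g i).baseChange k) (V i.succ).toSubmodule
        rw [hfr] at h2
        omega
    · refine (Submodule.eq_of_le_of_finrank_eq (le_inf ?_ (hV i).2) ?_).ge
      · rintro _ ⟨v, hv, rfl⟩
        rw [LinearMap.mem_ker, ← LinearMap.comp_apply, ← LinearMap.baseChange_comp, (hI i).1,
          LinearMap.baseChange_zero, LinearMap.zero_apply]
      · have h2 := split ((f i).baseChange k) (V i.castSucc).toSubmodule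
        rw [hfr] at h2
        omega

end Groth.Agent.S19562
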