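import Groth.Statements.S19565
import Mathlib.LinearAlgebra.RootSystem.Base
import Mathlib.LinearAlgebra.RootSystem.Irreducible

set_option autoImplicit false
set_option backward.isDefEq.respectTransparency false
set_option backward.isDefEq.respectTransparency.types false
universe u v w
open RootComb

namespace Groth.Agent.S19565

/-- Let Φ be a finite reduced crystallographic irreducible root system over a field of characteristic
zero, Δ a base of simple roots, I ⊆ Δ, and suppose the simple roots outside I are split into two
disjoint non-empty sets A and B. Then there are a simple root β ∈ A and a root δ such that δ is a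
non-negative integer combination of the simple roots of I ∪ B (a positive root whose support avoids
A), δ is not in the linear span of I (so δ is not a root of the Levi subsystem of I), and ⟨δ, β^∨⟩ <
0. (The published statement is made for the root system of a semisimple group; for a reducible
system such as A₁ × A₁ with I empty and A, B the two simple roots there is no such δ, and the
argument measures distances in a connected Dynkin diagram, so the root system is taken irreducible
here.) -/
theorem result
    {ι : Type u} [Finite ι] [DecidableEq ι] {k : Type v} [Field k] [CharZero k]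
    {M : Type w} [AddCommGroup M] [Module k M] {N : Type w} [AddCommGroup N] [Module k N]
    (P : RootPairing ι k M N) [P.IsCrystallographic] [P.IsReduced] [P.IsIrreducible] (b : P.Base)
    (I A B : Finset ι) (hcover : I ∪ A ∪ B = b.support) (hIA : Disjoint I A) (hIB : Disjoint I B)
    (hAB : Disjoint A B) (hA : A.Nonempty) (hB : B.Nonempty) :
    ∃ l ∈ A, ∃ j : ι, P.root j ∈ AddSubmonoid.closure (P.root '' ↑(I ∪ B)) ∧
      P.root j ∉ Submodule.span k (P.root '' ↑I) ∧ P.pairingIn ℤ j l < 0 := by
  classical
  let W := Submodule.span k (P.root '' ↑(I ∪ B))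
  let V := Submodule.span k (P.root '' ↑I)
  let S : Set ι := {j | P.root j ∈ W ∧ P.root j ∉ V}
  have hsupp : ∀ {i}, i ∈ I ∨ i ∈ B → i ∈ b.support := fun h => by
    rw [← hcover, Finset.mem_union, Finset.mem_union]; tauto
  have hsupA : ∀ {i}, i ∈ A → i ∈ b.support := fun h => by
    rw [← hcover, Finset.mem_union, Finset.mem_union]; tauto
  have hAmem : ∀ {l}, l ∈ A → l ∉ I ∪ B := fun {l} hl => by
    rw [Finset.mem_union]
    rintro (h | h)
    · exact Finset.disjoint_left.1 hIA h hl
    · exact Finset.disjoint_left.1 hAB hl h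
  have hnot : ∀ {s : Finset ι}, s ⊆ b.support → ∀ {l}, l ∈ b.support → l ∉ s →
      P.root l ∉ Submodule.span k (P.root '' ↑s) := fun {s} hs {l} hl hls => by
    have h1 : LinearIndepOn k P.root (insert l (↑s : Set ι)) :=
      b.linearIndepOn_root.mono (Set.insert_subset hl (by exact_mod_cast hs))
    exact ((linearIndepOn_insert (by exact_mod_cast hls)).1 h1).2
  have hBS : ∀ {i}, i ∈ B → i ∈ S := fun {i} hi =>
    ⟨Submodule.subset_span ⟨i, by simp [hi], rfl⟩,
      hnot (fun x hx => hsupp (Or.inl hx)) (hsupp (Or.inr hi)) fun h => Finset.disjoint_left.1 hIB h hi⟩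
  -- some root in `S` pairs non-trivially with a root in `A`
  obtain ⟨l, hl, j, hjS, hjl⟩ : ∃ l ∈ A, ∃ j ∈ S, P.pairing j l ≠ 0 := by
    by_contra hcon
    push Not at hcon
    let U := Submodule.span k (P.root '' S)
    have hroot : ∀ i ∈ b.support, ∀ j ∈ S, P.reflection i (P.root j) ∈ U := by
      intro i hi j hj
      rw [P.reflection_apply_root]
      have hjU : P.root j ∈ U := Submodule.subset_span ⟨j, hj, rfl⟩
      rw [← hcover, Finset.mem_union, Finset.mem_union] at hi
      rcases hi with (hi | hi) | hi
      · have e : P.root j - P.pairing j i • P.root i = P.root (P.reflectionPerm i j) := by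
          rw [← P.reflection_apply_root, P.root_reflectionPerm]
        rw [e]
        refine Submodule.subset_span ⟨_, ⟨?_, fun h => hj.2 ?_⟩, rfl⟩
        · rw [← e]
          exact W.sub_mem hj.1 (W.smul_mem _ (Submodule.subset_span ⟨i, by simp [hi], rfl⟩))
        · rw [← e] at h
          have := V.add_mem h (V.smul_mem (P.pairing j i) (Submodule.subset_span ⟨i, hi, rfl⟩))
          rwa [sub_add_cancel] at this
      · rw [hcon i hi j hj, zero_smul, sub_zero]
        exact hjU
      · exact U.sub_mem hjU (U.smul_mem _ (Submodule.subset_span ⟨i, hBS hi, rfl⟩))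
    have hinv : ∀ i, U ∈ Module.End.invtSubmodule (P.reflection i) := by
      refine (b.forall_mem_support_invtSubmodule_iff U).1 fun i hi => ?_
      rw [Module.End.mem_invtSubmodule]
      refine Submodule.span_le.2 ?_
      rintro _ ⟨j, hj, rfl⟩
      exact hroot i hi j hj
    have hne : U ≠ ⊥ := fun h => by
      obtain ⟨i, hi⟩ := hB
      have : P.root i ∈ U := Submodule.subset_span ⟨i, hBS hi, rfl⟩
      rw [h, Submodule.mem_bot] at this
      exact P.ne_zero i this
    have htop := RootPairing.IsIrreducible.eq_top_of_invtSubmodule_reflection (P := P) U hinv hne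
    obtain ⟨l, hl⟩ := hA
    have hUW : U ≤ W := Submodule.span_le.2 (by rintro _ ⟨j, hj, rfl⟩; exact hj.1)
    exact hnot (s := I ∪ B) (fun x hx => hsupp (Finset.mem_union.1 hx)) (hsupA hl) (hAmem hl)
      (hUW (htop ▸ Submodule.mem_top))
  -- make it positive
  obtain ⟨j', f, hfsupp, hf, hjS', hjl'⟩ : ∃ (j' : ι) (f : ι → ℕ), f.support ⊆ b.support ∧
      P.root j' = ∑ i ∈ b.support, f i • P.root i ∧ j' ∈ S ∧ P.pairing j' l ≠ 0 := by
    obtain ⟨f, hf1, hf2 | hf2⟩ := b.exists_root_eq_sum_nat_or_neg j
    · exact ⟨j, f, hf1, hf2, hjS, hjl⟩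
    · have e : P.root (P.reflectionPerm j j) = -P.root j := by
        rw [P.root_reflectionPerm, P.reflection_apply_self]
      refine ⟨P.reflectionPerm j j, f, hf1, by rw [e, hf2, neg_neg],
        ⟨by rw [e]; exact W.neg_mem hjS.1, by rw [e]; exact fun h => hjS.2 (by simpa using V.neg_mem h)⟩, ?_⟩
      rw [← P.root_coroot'_eq_pairing, e, map_neg, P.root_coroot'_eq_pairing]
      exact neg_ne_zero.2 hjl
  have hfA : ∀ i ∈ b.support, f i ≠ 0 → i ∈ I ∪ B := by
    intro i hi hfi
    by_contra hni
    have hmem : P.root j' ∈ W := hjS'.1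
    rw [hf, ← Finset.add_sum_erase _ _ hi] at hmem
    have hrest : ∑ x ∈ b.support.erase i, f x • P.root x ∈ Submodule.span k (P.root '' ↑(b.support.erase i)) :=
      Submodule.sum_mem _ fun x hx => nsmul_mem (Submodule.subset_span (Set.mem_image_of_mem P.root (Finset.mem_coe.2 hx))) _
    have hWle : W ≤ Submodule.span k (P.root '' ↑(b.support.erase i)) := by
      refine Submodule.span_mono (Set.image_mono fun x hx => ?_)
      simp only [Finset.coe_erase, Set.mem_diff, Set.mem_singleton_iff]
      exact ⟨hsupp (Finset.mem_union.1 hx), fun h => hni (h ▸ hx)⟩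
    have h1 : f i • P.root i ∈ Submodule.span k (P.root '' ↑(b.support.erase i)) := by
      have := Submodule.sub_mem _ (hWle hmem) hrest
      rwa [add_sub_cancel_right] at this
    refine hnot (Finset.erase_subset i b.support) hi (Finset.notMem_erase i _) ?_
    rw [← Nat.cast_smul_eq_nsmul k] at h1
    exact (Submodule.smul_mem_iff _ (Nat.cast_ne_zero.2 hfi)).1 h1
  refine ⟨l, hl, j', ?_, hjS'.2, ?_⟩
  · rw [hf]
    refine AddSubmonoid.sum_mem _ fun i hi => ?_
    by_cases hfi : f i = 0
    · simp [hfi]
    · exact nsmul_mem (AddSubmonoid.subset_closure (Set.mem_image_of_mem P.root (Finset.mem_coe.2 (hfA i hi hfi)))) _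
  · have hsum : P.pairingIn ℤ j' l = ∑ i ∈ b.support, (f i : ℤ) * P.pairingIn ℤ i l := by
      apply (algebraMap ℤ k).injective_int
      rw [map_sum, P.algebraMap_pairingIn, ← P.root_coroot'_eq_pairing, hf, map_sum]
      refine Finset.sum_congr rfl fun i _ => ?_
      rw [map_nsmul, P.root_coroot'_eq_pairing, map_mul, P.algebraMap_pairingIn, map_natCast, nsmul_eq_mul]
    refine lt_of_le_of_ne ?_ ?_
    · rw [hsum]
      refine Finset.sum_nonpos fun i hi => ?_
      by_cases hfi : f i = 0
      · simp [hfi]
      · exact mul_nonpos_of_nonneg_of_nonpos (Int.natCast_nonneg _)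
          (b.pairingIn_le_zero_of_ne (fun h => hAmem hl (h ▸ hfA i hi hfi)) hi (hsupA hl))
    · intro h0
      exact hjl' (by rw [← P.algebraMap_pairingIn ℤ, h0, map_zero])

end Groth.Agent.S19565
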