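import Groth.Statements.S19569
import Mathlib

set_option autoImplicit false
universe u
open CAlg

namespace Groth.Agent.S19569

open TensorProduct in
/-- Let A be the colimit of a directed system of rings (A_i), given by compatible ring maps A_i → A
which are jointly surjective and such that an element of some A_i mapping to zero in A already maps
to zero in some later A_j, and let B be an étale A-algebra. Then for some index i there is an étale
A_i-algebra B_i such that B is isomorphic, as an A-algebra, to the base change A ⊗_{A_i} B_i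
(existence of an isomorphism). (Stated for a system indexed by a directed preordered set.) -/
theorem result {ι : Type u} [Preorder ι] [IsDirected ι (· ≤ ·)] [Nonempty ι]
    (G : ι → Type u) [∀ i, CommRing (G i)] (f : ∀ i j, i ≤ j → (G i →+* G j))
    (A : Type u) [CommRing A] (g : ∀ i, G i →+* A) (hg : ∀ i j (h : i ≤ j), (g j).comp (f i j h) = g i)
    (hsurj : ∀ a : A, ∃ i, ∃ x : G i, g i x = a)
    (hker : ∀ i (x : G i), g i x = 0 → ∃ j, ∃ h : i ≤ j, f i j h x = 0)
    (B : Type u) [CommRing B] [Algebra A B] [Algebra.Etale A B] :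
    ∃ (i : ι) (Bi : Type u) (_ : CommRing Bi) (_ : Algebra (G i) Bi), Algebra.Etale (G i) Bi ∧
      letI : Algebra (G i) A := (g i).toAlgebra
      Nonempty (B ≃ₐ[A] A ⊗[G i] Bi) := by
  classical
  obtain ⟨A₀, B₀, _, _, hfg, het, ⟨eB⟩⟩ := Algebra.Etale.exists_subalgebra_fg (R := ℤ) (A := A) (B := B)
  obtain ⟨σ, hσ⟩ := hfg
  let π : MvPolynomial σ ℤ →ₐ[ℤ] A := MvPolynomial.aeval fun s : σ => (s : A)
  have hrange : π.range = A₀ := by
    rw [← hσ, ← Algebra.adjoin_range_eq_range_aeval]
    congr 1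
    exact Subtype.range_coe
  choose i x hx using fun s : σ => hsurj (s : A)
  obtain ⟨i₀, hi₀⟩ := Finite.exists_le i
  let ψ : MvPolynomial σ ℤ →+* G i₀ :=
    MvPolynomial.eval₂Hom (Int.castRingHom _) fun s => f (i s) i₀ (hi₀ s) (x s)
  have hψ : (g i₀).comp ψ = π.toRingHom := MvPolynomial.ringHom_ext
    (fun n => RingHom.congr_fun (RingHom.ext_int (((g i₀).comp ψ).comp MvPolynomial.C) (π.toRingHom.comp MvPolynomial.C)) n)
    (fun s => by
      rw [RingHom.comp_apply]
      show g i₀ (MvPolynomial.eval₂Hom _ _ (MvPolynomial.X s)) = π (MvPolynomial.X s)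
      rw [MvPolynomial.eval₂Hom_X', MvPolynomial.aeval_X]
      exact (RingHom.congr_fun (hg _ _ (hi₀ s)) (x s)).trans (hx s))
  obtain ⟨τ, hτ⟩ := (IsNoetherian.noetherian (RingHom.ker π.toRingHom) : (RingHom.ker π.toRingHom).FG)
  -- a later index where the relations die
  obtain ⟨k, ψ', hψ', hψ'0⟩ : ∃ (k : ι) (ψ' : MvPolynomial σ ℤ →+* G k),
      (g k).comp ψ' = π.toRingHom ∧ ∀ t : τ, ψ' t = 0 := by
    have hstep : ∀ T : Finset τ, ∃ (k : ι) (ψ' : MvPolynomial σ ℤ →+* G k),
        (g k).comp ψ' = π.toRingHom ∧ ∀ t ∈ T, ψ' t = 0 := by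
      intro T
      induction T using Finset.induction with
      | empty => exact ⟨i₀, ψ, hψ, by simp⟩
      | insert t T ht ih =>
        obtain ⟨k, ψ', h1, h2⟩ := ih
        obtain ⟨k', hkk', hk'⟩ := hker k (ψ' t) (by
          rw [← RingHom.comp_apply, h1]
          exact hτ.le (Submodule.subset_span t.2))
        refine ⟨k', (f k k' hkk').comp ψ', by rw [← RingHom.comp_assoc, hg, h1], fun t' ht' => ?_⟩
        rcases Finset.mem_insert.1 ht' with rfl | ht'
        · exact hk'
        · rw [RingHom.comp_apply, h2 t' ht', map_zero]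
    obtain ⟨k, ψ', h1, h2⟩ := hstep Finset.univ
    exact ⟨k, ψ', h1, fun t => h2 t (Finset.mem_univ t)⟩
  have hkill : RingHom.ker π.toRingHom ≤ RingHom.ker ψ' := by
    rw [← hτ]
    exact Ideal.span_le.2 fun t ht => hψ'0 ⟨t, ht⟩
  let e₀ : (MvPolynomial σ ℤ ⧸ RingHom.ker π) ≃+* π.range :=
    (Ideal.quotientKerAlgEquivOfSurjective π.rangeRestrict_surjective).toRingEquiv |>.trans (RingEquiv.refl _) |>
      fun e => (Ideal.quotEquivOfEq (by rw [AlgHom.ker_rangeRestrict])).trans e
  let θ₀ : π.range →+* G k := (Ideal.Quotient.lift (RingHom.ker π) ψ' fun a ha => hkill ha).comp e₀.symm.toRingHom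
  let θ : A₀ →+* G k := θ₀.comp (Subalgebra.equivOfEq _ _ hrange.symm).toAlgHom.toRingHom
  letI : Algebra A₀ (G k) := θ.toAlgebra
  letI : Algebra (G k) A := (g k).toAlgebra
  haveI : IsScalarTower A₀ (G k) A := IsScalarTower.of_algebraMap_eq fun a => by
    obtain ⟨⟨_, p, rfl⟩, rfl⟩ : ∃ b, Subalgebra.equivOfEq _ _ hrange b = a :=
      ⟨(Subalgebra.equivOfEq _ _ hrange).symm a, AlgEquiv.apply_symm_apply _ _⟩
    have e1 : e₀.symm ⟨π p, p, rfl⟩ = Ideal.Quotient.mk _ p := by
      rw [RingEquiv.symm_apply_eq]; rfl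
    show π p = g k (θ₀ ⟨π p, p, rfl⟩)
    rw [RingHom.comp_apply, RingEquiv.toRingHom_eq_coe, RingEquiv.coe_toRingHom, e1]
    exact (RingHom.congr_fun hψ' p).symm
  exact ⟨k, G k ⊗[A₀] B₀, inferInstance, inferInstance, inferInstance,
    ⟨eB.trans (Algebra.TensorProduct.cancelBaseChange A₀ (G k) A A B₀).symm⟩⟩

end Groth.Agent.S19569
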