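import Groth.Statements.S6827
import Groth.Agent.SmoothingLib.LiftSmooth
-- import your own Groth.Agent.* helpers here

set_option autoImplicit false
universe u
open Smoothing

namespace Groth.Agent.S6827

/-- Let R → R₀ be a surjective ring map with kernel I (so R₀ = R/I) and A₀ a smooth R₀-algebra. Then
there is a smooth R-algebra A with A/IA isomorphic to A₀ as an R/I-algebra. -/
theorem result {R A₀ : Type u} [CommRing R] (I : Ideal R) [CommRing A₀]
    [Algebra (R ⧸ I) A₀] [Algebra.Smooth (R ⧸ I) A₀] :
    ∃ (A : Type u) (_ : CommRing A) (_ : Algebra R A), Algebra.Smooth R A ∧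
      Nonempty ((A ⧸ I.map (algebraMap R A)) ≃ₐ[R ⧸ I] A₀) := by
    exact Groth.Agent.SmoothingLib.exists_smooth_lift I

end Groth.Agent.S6827
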