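import Groth.Statements.S19570
import Mathlib
import Groth.Agent.S6827
import Groth.Agent.S9436
import Groth.Agent.S17976
import Groth.Agent.GeomReg.Basic
import Groth.Agent.FlatLoc6.GeomProp

set_option autoImplicit false
universe u
open scoped TensorProduct
open EGA4

namespace Groth.Agent.S19570

/-- An algebra surjecting onto `A₀` with kernel `IR` is a lift of `A₀`. -/
theorem exists_quotient_equiv (V : Type u) [CommRing V] (k : Type u) [CommRing k] [Algebra V k]
    (hk : Function.Surjective (algebraMap V k)) (R : Type u) [CommRing R] [Algebra V R]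
    (A₀ : Type u) [CommRing A₀] [Algebra k A₀] [Algebra V A₀] [IsScalarTower V k A₀]
    (f : R →ₐ[V] A₀) (hf : Function.Surjective f)
    (hker : RingHom.ker f.toRingHom = (RingHom.ker (algebraMap V k)).map (algebraMap V R)) :
    ∃ e : k ⊗[V] R ≃ₐ[k] A₀, ∀ (c : k) (a : R), e (c ⊗ₜ a) = c • f a := by
  let F : k ⊗[V] R →ₐ[k] A₀ := Algebra.TensorProduct.lift (Algebra.ofId k A₀) f fun _ _ => Commute.all _ _
  have hF : ∀ (c : k) (a : R), F (c ⊗ₜ a) = c • f a := fun c a => by
    simp [F, Algebra.smul_def]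
  have hone : ∀ x : k ⊗[V] R, ∃ a : R, x = 1 ⊗ₜ a := by
    intro x
    induction x using TensorProduct.induction_on with
    | zero => exact ⟨0, (TensorProduct.tmul_zero _ _).symm⟩
    | tmul c a =>
      obtain ⟨v, rfl⟩ := hk c
      exact ⟨v • a, by rw [← TensorProduct.smul_tmul, Algebra.algebraMap_eq_smul_one]⟩
    | add x y hx hy =>
      obtain ⟨a, rfl⟩ := hx
      obtain ⟨b, rfl⟩ := hy
      exact ⟨a + b, (TensorProduct.tmul_add _ _ _).symm⟩
  have hbij : Function.Bijective F := by
    refine ⟨(injective_iff_map_eq_zero F).2 fun x hx => ?_, fun y => ?_⟩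
    · obtain ⟨a, rfl⟩ := hone x
      rw [hF, one_smul] at hx
      have h1 : (RingHom.ker (algebraMap V k)).map (algebraMap V R) ≤
          RingHom.ker (Algebra.TensorProduct.includeRight : R →ₐ[V] k ⊗[V] R).toRingHom := by
        rw [Ideal.map_le_iff_le_comap]
        intro v hv
        show (1 : k) ⊗ₜ[V] (algebraMap V R v) = 0
        rw [Algebra.algebraMap_eq_smul_one, ← TensorProduct.smul_tmul, ← Algebra.algebraMap_eq_smul_one,
          RingHom.mem_ker.1 hv, TensorProduct.zero_tmul]
      exact h1 (hker ▸ (show a ∈ RingHom.ker f.toRingHom from hx))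
    · obtain ⟨a, rfl⟩ := hf y
      exact ⟨1 ⊗ₜ a, by rw [hF, one_smul]⟩
  exact ⟨AlgEquiv.ofBijective F hbij, hF⟩

/-- Let V be a complete discrete valuation ring of characteristic zero, with maximal ideal 𝔪 and residue
field k, let A₀ be a smooth k-algebra and B₀ a finite étale A₀-algebra. Then A₀ lifts to a smooth
V-algebra A (an isomorphism k ⊗_V A ≅ A₀ of k-algebras), and the finite étale cover lifts over it:
there is a finite A-algebra B which is a normal ring, with an isomorphism k ⊗_V B ≅ B₀ compatible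
with the one for A and with the algebra maps, such that the localization A_T → B_T at T = 1 + 𝔪A is
étale. The published corollary also claims, for the lift it produces, a finite étale lift after
inverting a suitable element and further properties of formal completions of projective closures;
the statement here asserts only that B is finite over A and normal and that A_T → B_T is étale. -/
theorem result
    (V : Type u) [CommRing V] [IsDomain V] [IsDiscreteValuationRing V] [CharZero V]
    [IsAdicComplete (IsLocalRing.maximalIdeal V) V]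
    (A₀ : Type u) [CommRing A₀] [Algebra (IsLocalRing.ResidueField V) A₀]
    [Algebra.Smooth (IsLocalRing.ResidueField V) A₀]
    (B₀ : Type u) [CommRing B₀] [Algebra A₀ B₀] [Algebra (IsLocalRing.ResidueField V) B₀]
    [IsScalarTower (IsLocalRing.ResidueField V) A₀ B₀] [Module.Finite A₀ B₀] [Algebra.Etale A₀ B₀] :
    ∃ (A : Type u) (_ : CommRing A) (_ : Algebra V A) (_ : Algebra.Smooth V A)
      (e : (IsLocalRing.ResidueField V) ⊗[V] A ≃ₐ[IsLocalRing.ResidueField V] A₀)
      (B : Type u) (_ : CommRing B) (_ : Algebra A B) (_ : Algebra V B) (_ : IsScalarTower V A B)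
      (e' : (IsLocalRing.ResidueField V) ⊗[V] B ≃ₐ[IsLocalRing.ResidueField V] B₀),
      Module.Finite A B ∧ EGA4.IsNormalRing B ∧
      (∀ x : (IsLocalRing.ResidueField V) ⊗[V] A,
        e' (Algebra.TensorProduct.map (AlgHom.id (IsLocalRing.ResidueField V) (IsLocalRing.ResidueField V))
          (IsScalarTower.toAlgHom V A B) x) = algebraMap A₀ B₀ (e x)) ∧
      Algebra.Etale (Localization (MonoidHom.mker (Ideal.Quotient.mk ((IsLocalRing.maximalIdeal V).map (algebraMap V A)))))
        (Localization (Algebra.algebraMapSubmonoid B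
          (MonoidHom.mker (Ideal.Quotient.mk ((IsLocalRing.maximalIdeal V).map (algebraMap V A)))))) := by
  classical
  -- a smooth lift and an etale algebra over it
  letI iA0 : Algebra (V ⧸ IsLocalRing.maximalIdeal V) A₀ :=
    (inferInstance : Algebra (IsLocalRing.ResidueField V) A₀)
  haveI : Algebra.Smooth (V ⧸ IsLocalRing.maximalIdeal V) A₀ :=
    (inferInstance : Algebra.Smooth (IsLocalRing.ResidueField V) A₀)
  obtain ⟨A₁, _, _, hA₁, ⟨e₁⟩⟩ := S6827.result (R := V) (IsLocalRing.maximalIdeal V) (A₀ := A₀)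
  set I₁ : Ideal A₁ := (IsLocalRing.maximalIdeal V).map (algebraMap V A₁) with hI₁
  letI : Algebra (A₁ ⧸ I₁) B₀ := ((algebraMap A₀ B₀).comp e₁.toRingEquiv.toRingHom).toAlgebra
  have hB0fin : (algebraMap (A₁ ⧸ I₁) B₀).Finite :=
    (RingHom.finite_algebraMap.2 inferInstance : (algebraMap A₀ B₀).Finite).comp
      (RingHom.Finite.of_surjective _ e₁.toRingEquiv.surjective)
  haveI : Module.Finite (A₁ ⧸ I₁) B₀ := RingHom.finite_algebraMap.1 hB0fin
  haveI : Algebra.Etale (A₁ ⧸ I₁) B₀ := by
    rw [← RingHom.etale_algebraMap]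
    exact RingHom.Etale.respectsIso.2 _ e₁.toRingEquiv (RingHom.etale_algebraMap.2 inferInstance)
  obtain ⟨B₁, _, _, hB₁, ⟨ε⟩⟩ := S9436.result A₁ I₁ B₀
  -- `B₁ → B₀`
  let ψ : B₁ →ₐ[A₁] (A₁ ⧸ I₁) ⊗[A₁] B₁ := Algebra.TensorProduct.includeRight
  let gB : B₁ →+* B₀ := (ε.toRingEquiv.toRingHom).comp ψ.toRingHom
  have hgBalg : ∀ a : A₁, gB (algebraMap A₁ B₁ a) = algebraMap (A₁ ⧸ I₁) B₀ (Ideal.Quotient.mk I₁ a) := by
    intro a
    show ε (ψ (algebraMap A₁ B₁ a)) = _
    rw [AlgHom.commutes, IsScalarTower.algebraMap_apply A₁ (A₁ ⧸ I₁) ((A₁ ⧸ I₁) ⊗[A₁] B₁), AlgEquiv.commutes]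
    rfl
  have hψsurj : Function.Surjective ψ :=
    Algebra.TensorProduct.includeRight_surjective _ Ideal.Quotient.mk_surjective
  have hgB : Function.Surjective gB := ε.surjective.comp hψsurj
  have hgBker : RingHom.ker gB = I₁.map (algebraMap A₁ B₁) := by
    refine le_antisymm (fun b hb => ?_) (Ideal.map_le_iff_le_comap.2 fun a ha => ?_)
    · have h1 : ψ b = 0 := ε.injective (by simpa [gB] using hb)
      exact (Ideal.Quotient.eq_zero_iff_mem).1 (by
        have h2 := congrArg (Algebra.TensorProduct.lift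
          (Ideal.Quotient.liftₐ I₁ ((Ideal.Quotient.mkₐ A₁ (I₁.map (algebraMap A₁ B₁))).comp (Algebra.ofId A₁ B₁))
            (fun a ha => Ideal.Quotient.eq_zero_iff_mem.2 (Ideal.mem_map_of_mem _ ha)))
          (Ideal.Quotient.mkₐ A₁ (I₁.map (algebraMap A₁ B₁))) (fun _ _ => Commute.all _ _)) h1
        simpa [ψ] using h2)
    · rw [Ideal.mem_comap, RingHom.mem_ker, hgBalg, Ideal.Quotient.eq_zero_iff_mem.2 ha, map_zero]
  have hfinB : Module.Finite A₁ (B₁ ⧸ I₁.map (algebraMap A₁ B₁)) := by
    rw [← RingHom.finite_algebraMap]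
    have hη : Function.Bijective (RingHom.quotientKerEquivOfSurjective hgB) := RingEquiv.bijective _
    let η : (B₁ ⧸ I₁.map (algebraMap A₁ B₁)) ≃+* B₀ :=
      (Ideal.quotEquivOfEq hgBker.symm).trans (RingHom.quotientKerEquivOfSurjective hgB)
    have h1 : (algebraMap A₁ (B₁ ⧸ I₁.map (algebraMap A₁ B₁))) =
        η.symm.toRingHom.comp ((algebraMap (A₁ ⧸ I₁) B₀).comp (Ideal.Quotient.mk I₁)) := by
      refine RingHom.ext fun a => ?_
      simp only [RingHom.comp_apply, RingEquiv.toRingHom_eq_coe, RingEquiv.coe_toRingHom]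
      rw [RingEquiv.eq_symm_apply, ← hgBalg]
      rfl
    rw [h1]
    exact (RingHom.Finite.of_surjective _ η.symm.surjective).comp
      (hB0fin.comp (RingHom.Finite.of_surjective _ Ideal.Quotient.mk_surjective))
  obtain ⟨A, _, _, hAet, C, _, _, _, _, _, _, hAsurj, hAker, hCet, hCfin, hCsurj, hCker⟩ :=
    S17976.result A₁ I₁ B₁ hfinB
  letI : Algebra V A := ((algebraMap A₁ A).comp (algebraMap V A₁)).toAlgebra
  haveI : IsScalarTower V A₁ A := IsScalarTower.of_algebraMap_eq' rfl
  haveI : Algebra.Smooth V A := Algebra.Smooth.comp V A₁ A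
  letI : Algebra V C := ((algebraMap A C).comp (algebraMap V A)).toAlgebra
  haveI : IsScalarTower V A C := IsScalarTower.of_algebraMap_eq' rfl
  haveI : Algebra.Etale A₁ C := Algebra.Etale.comp A₁ B₁ C
  haveI : Algebra.Etale A C := Algebra.Etale.of_restrictScalars A₁ A C
  haveI : Algebra.Smooth V C := Algebra.Smooth.comp V A C
  haveI : IsRegularRing C := GeomReg.isRegularRing_of_smooth V C
  letI : Algebra V A₀ := ((algebraMap (IsLocalRing.ResidueField V) A₀).comp (algebraMap V _)).toAlgebra
  haveI : IsScalarTower V (IsLocalRing.ResidueField V) A₀ := IsScalarTower.of_algebraMap_eq' rfl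
  letI : Algebra V B₀ := ((algebraMap (IsLocalRing.ResidueField V) B₀).comp (algebraMap V _)).toAlgebra
  haveI : IsScalarTower V (IsLocalRing.ResidueField V) B₀ := IsScalarTower.of_algebraMap_eq' rfl
  have hres : Function.Surjective (algebraMap V (IsLocalRing.ResidueField V)) := Ideal.Quotient.mk_surjective
  have hkerres : RingHom.ker (algebraMap V (IsLocalRing.ResidueField V)) = IsLocalRing.maximalIdeal V :=
    Ideal.mk_ker
  have hJA : (IsLocalRing.maximalIdeal V).map (algebraMap V A) = I₁.map (algebraMap A₁ A) := by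
    rw [hI₁, Ideal.map_map]; rfl
  have hJC : (IsLocalRing.maximalIdeal V).map (algebraMap V C) = I₁.map (algebraMap A₁ C) := by
    rw [hI₁, Ideal.map_map]
    congr 1
    refine RingHom.ext fun v => ?_
    exact (IsScalarTower.algebraMap_apply A₁ A C _).symm
  -- `A → A₀`
  let qA := (Ideal.Quotient.mk (I₁.map (algebraMap A₁ A))).comp (algebraMap A₁ A)
  let θA : (A₁ ⧸ I₁) ≃+* (A ⧸ I₁.map (algebraMap A₁ A)) :=
    (Ideal.quotEquivOfEq hAker.symm).trans (RingHom.quotientKerEquivOfSurjective hAsurj)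
  have hθA : ∀ a, θA (Ideal.Quotient.mk I₁ a) = Ideal.Quotient.mk _ (algebraMap A₁ A a) := fun a => rfl
  let fA : A →+* A₀ := e₁.toRingEquiv.toRingHom.comp (θA.symm.toRingHom.comp (Ideal.Quotient.mk _))
  have hfA : ∀ a₁, fA (algebraMap A₁ A a₁) = e₁ (Ideal.Quotient.mk I₁ a₁) := fun a₁ => by
    show e₁ (θA.symm _) = _
    rw [← hθA, RingEquiv.symm_apply_apply]
  -- `C → B₀`
  let θC : (B₁ ⧸ I₁.map (algebraMap A₁ B₁)) ≃+* (C ⧸ I₁.map (algebraMap A₁ C)) :=
    (Ideal.quotEquivOfEq hCker.symm).trans (RingHom.quotientKerEquivOfSurjective hCsurj)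
  have hθC : ∀ b, θC (Ideal.Quotient.mk _ b) = Ideal.Quotient.mk _ (algebraMap B₁ C b) := fun b => rfl
  let gB' : (B₁ ⧸ I₁.map (algebraMap A₁ B₁)) ≃+* B₀ :=
    (Ideal.quotEquivOfEq hgBker.symm).trans (RingHom.quotientKerEquivOfSurjective hgB)
  have hgB' : ∀ b, gB' (Ideal.Quotient.mk _ b) = gB b := fun b => rfl
  let fC : C →+* B₀ := gB'.toRingHom.comp (θC.symm.toRingHom.comp (Ideal.Quotient.mk _))
  have hfC : ∀ b, fC (algebraMap B₁ C b) = gB b := fun b => by
    show gB' (θC.symm _) = _
    rw [← hθC, RingEquiv.symm_apply_apply, hgB']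
  have he₁ : ∀ v : V, e₁ (Ideal.Quotient.mk I₁ (algebraMap V A₁ v)) = algebraMap V A₀ v :=
    fun v => e₁.commutes (Ideal.Quotient.mk _ v)
  have hfAV : ∀ v, fA (algebraMap V A v) = algebraMap V A₀ v := fun v => by
    rw [IsScalarTower.algebraMap_apply V A₁ A, hfA, he₁]
  have hfAC : ∀ a : A, fC (algebraMap A C a) = algebraMap A₀ B₀ (fA a) := by
    intro a
    obtain ⟨a₁, ha₁⟩ := hAsurj (Ideal.Quotient.mk _ a)
    have h2 : a - algebraMap A₁ A a₁ ∈ I₁.map (algebraMap A₁ A) := Ideal.Quotient.eq.1 ha₁.symm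
    have h3 : fA a = fA (algebraMap A₁ A a₁) := by
      simp only [fA, RingHom.comp_apply]
      rw [Ideal.Quotient.eq.2 h2]
    have h4 : algebraMap A C a - algebraMap A₁ C a₁ ∈ I₁.map (algebraMap A₁ C) := by
      have := Ideal.mem_map_of_mem (algebraMap A C) h2
      rwa [Ideal.map_map, ← IsScalarTower.algebraMap_eq, map_sub, ← IsScalarTower.algebraMap_apply] at this
    have h5 : fC (algebraMap A C a) = fC (algebraMap A₁ C a₁) := by
      simp only [fC, RingHom.comp_apply]
      rw [Ideal.Quotient.eq.2 h4]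
    rw [h3, h5, hfA, IsScalarTower.algebraMap_apply A₁ B₁ C, hfC, hgBalg]
    rfl
  have hfCV : ∀ v, fC (algebraMap V C v) = algebraMap V B₀ v := fun v => by
    rw [IsScalarTower.algebraMap_apply V A C, hfAC, hfAV]
    exact (IsScalarTower.algebraMap_apply (IsLocalRing.ResidueField V) A₀ B₀ _).symm
  let fA' : A →ₐ[V] A₀ := { fA with commutes' := hfAV }
  let fC' : C →ₐ[V] B₀ := { fC with commutes' := hfCV }
  obtain ⟨e, he⟩ := exists_quotient_equiv V (IsLocalRing.ResidueField V) hres A A₀ fA'
    (e₁.surjective.comp (θA.symm.surjective.comp Ideal.Quotient.mk_surjective)) (by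
      ext a
      rw [RingHom.mem_ker, hkerres, hJA]
      show e₁ (θA.symm (Ideal.Quotient.mk _ a)) = 0 ↔ _
      rw [map_eq_zero_iff _ e₁.injective, map_eq_zero_iff _ θA.symm.injective, Ideal.Quotient.eq_zero_iff_mem])
  obtain ⟨e', he'⟩ := exists_quotient_equiv V (IsLocalRing.ResidueField V) hres C B₀ fC'
    (gB'.surjective.comp (θC.symm.surjective.comp Ideal.Quotient.mk_surjective)) (by
      ext a
      rw [RingHom.mem_ker, hkerres, hJC]
      show gB' (θC.symm (Ideal.Quotient.mk _ a)) = 0 ↔ _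
      rw [map_eq_zero_iff _ gB'.injective, map_eq_zero_iff _ θC.symm.injective, Ideal.Quotient.eq_zero_iff_mem])
  refine ⟨A, inferInstance, inferInstance, inferInstance, e, C, inferInstance, inferInstance, inferInstance,
    inferInstance, e', hCfin, FlatLoc6.isNormalRing_of_isRegularRing C, fun x => ?_, ?_⟩
  · induction x using TensorProduct.induction_on with
    | zero => simp
    | add x y hx hy => simp [map_add, hx, hy]
    | tmul c a =>
      rw [Algebra.TensorProduct.map_tmul, he, he']
      show c • fC (algebraMap A C a) = algebraMap A₀ B₀ (c • fA a)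
      rw [hfAC, Algebra.smul_def, Algebra.smul_def, map_mul, ← IsScalarTower.algebraMap_apply]
  · set T := MonoidHom.mker (Ideal.Quotient.mk ((IsLocalRing.maximalIdeal V).map (algebraMap V A)))
    haveI : Algebra.IsPushout A (Localization T) C (Localization (Algebra.algebraMapSubmonoid C T)) :=
      (Algebra.isPushout_of_isLocalization T (Localization T) C
        (Localization (Algebra.algebraMapSubmonoid C T))).symm
    exact Algebra.Etale.of_equiv
      (Algebra.IsPushout.equiv A (Localization T) C (Localization (Algebra.algebraMapSubmonoid C T)))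

end Groth.Agent.S19570
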