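import Groth.Statements.S19573
import Groth.Agent.ExtCoker.Basic

set_option autoImplicit false
universe u
open LocInt

namespace Groth.Agent.S19573

/-- The first sentence of the lemma together with the description of the closed subscheme Z given in its
proof, in the local model. Let R be a commutative ring, n ≥ 1, a ∈ R^n, and F = R^n / R·a the
cokernel of R → R^n, 1 ↦ a (the zeroth homology of the two-term complex R → R^n). Then the
annihilator ideal of the top exterior power ⋀^n F is the ideal generated by the coordinates a_1, …,
a_n of a, and at every prime p of R off the closed set V(a_1, …, a_n) the module F is free of rank n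
− 1 after localization at p. (The published statement is for a complex on a scheme which is locally
quasi-isomorphic to such a two-term complex L → E with L invertible and E locally free of rank n,
and says that H^0 restricted to the complement of the closed subscheme cut out by the annihilator of
its n-th exterior power is locally free of rank n − 1; this row is the local model.) -/
theorem result (R : Type u) [CommRing R]
    (n : ℕ) (hn : 1 ≤ n) (a : Fin n → R) :
    (⋀[R]^n ((Fin n → R) ⧸ Submodule.span R {a})).annihilator = Ideal.span (Set.range a) ∧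
    ∀ p : PrimeSpectrum R, ¬ Ideal.span (Set.range a) ≤ p.asIdeal →
      p ∈ Module.freeLocus R ((Fin n → R) ⧸ Submodule.span R {a}) ∧
      Module.rankAtStalk ((Fin n → R) ⧸ Submodule.span R {a}) p = n - 1 := by
  classical
  refine ⟨?_, fun p hp => ?_⟩
  · rw [ExtCoker.annihilator_extPower_coker (P := Fin n → R) n (fun p => ?_) a (Submodule.span R {a}).mkQ
      (Submodule.mkQ_surjective _) (Submodule.ker_mkQ _)]
    · refine le_antisymm (Ideal.span_le.2 ?_) (Ideal.span_le.2 ?_)
      · rintro _ ⟨φ, rfl⟩
        change φ a ∈ _
        have h : φ a = ∑ i, a i * φ (Pi.single i 1) := by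
          conv_lhs => rw [pi_eq_sum_univ' a]
          simp [map_sum]
        rw [h]
        exact Ideal.sum_mem _ fun i _ => Ideal.mul_mem_right _ _ (Ideal.subset_span ⟨i, rfl⟩)
      · rintro _ ⟨i, rfl⟩
        exact Ideal.subset_span ⟨LinearMap.proj i, rfl⟩
    · haveI : Nontrivial R := ⟨0, 1, fun h => p.isPrime.ne_top ((Ideal.eq_top_iff_one _).2 (h ▸ zero_mem _))⟩
      rw [Module.rankAtStalk_eq_finrank_of_free, Pi.natCast_apply, Module.finrank_fin_fun, Nat.cast_id]
  · obtain ⟨j, hj⟩ : ∃ j, a j ∉ p.asIdeal := by
      by_contra h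
      simp only [not_exists, not_not] at h
      exact hp (Ideal.span_le.2 fun _ ⟨i, hi⟩ => hi ▸ h i)
    let O := Localization.AtPrime p.asIdeal
    let ι := algebraMap R O
    have hu : IsUnit (ι (a j)) := IsLocalization.map_units O (⟨a j, hj⟩ : p.asIdeal.primeCompl)
    let g₀ : (Fin n → R) →ₗ[R] ({k : Fin n // k ≠ j} → O) := LinearMap.pi fun k =>
      (Algebra.linearMap R O) ∘ₗ LinearMap.proj k.1 -
        LinearMap.mulRight R (ι (a k.1) * ↑hu.unit⁻¹) ∘ₗ (Algebra.linearMap R O) ∘ₗ LinearMap.proj j
    have hg₀ : ∀ v k, g₀ v k = ι (v k.1) - ι (v j) * (ι (a k.1) * ↑hu.unit⁻¹) := fun v k => rfl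
    let g : ((Fin n → R) ⧸ Submodule.span R {a}) →ₗ[R] ({k : Fin n // k ≠ j} → O) :=
      (Submodule.span R {a}).liftQ g₀ (by
        rw [Submodule.span_singleton_le_iff_mem, LinearMap.mem_ker]
        funext k
        rw [hg₀, Pi.zero_apply, sub_eq_zero, mul_left_comm, hu.mul_val_inv, mul_one])
    haveI : IsLocalizedModule p.asIdeal.primeCompl g := by
      refine ⟨fun s => ?_, fun y => ?_, fun {x y} h => ?_⟩
      · have hs : IsUnit (ι s) := IsLocalization.map_units O s
        rw [Module.End.isUnit_iff]
        refine ⟨fun x y h => funext fun k => ?_, fun y => ⟨fun k => ↑hs.unit⁻¹ * y k, funext fun k => ?_⟩⟩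
        · have := congrFun h k
          simp only [Module.algebraMap_end_apply, Pi.smul_apply, Algebra.smul_def] at this
          exact hs.mul_left_cancel this
        · simp only [Module.algebraMap_end_apply, Pi.smul_apply, Algebra.smul_def]
          rw [← mul_assoc, hs.mul_val_inv, one_mul]
      · obtain ⟨s, hs⟩ := IsLocalization.exist_integer_multiples_of_finite p.asIdeal.primeCompl y
        choose u hu' using hs
        refine ⟨(Submodule.Quotient.mk fun k => if h : k ≠ j then u ⟨k, h⟩ else 0, s), funext fun k => ?_⟩
        simp only [g, Submodule.liftQ_apply, hg₀, dif_pos k.2, dif_neg (not_not_intro rfl), map_zero, zero_mul,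
          sub_zero, Pi.smul_apply]
        exact (hu' k).symm
      · obtain ⟨v, rfl⟩ := Submodule.Quotient.mk_surjective _ x
        obtain ⟨w, rfl⟩ := Submodule.Quotient.mk_surjective _ y
        have h' : ∀ k : {k : Fin n // k ≠ j}, ι (a j * (v k.1 - w k.1)) = ι ((v j - w j) * a k.1) := by
          intro k
          have := congrFun h k
          simp only [g, Submodule.liftQ_apply, hg₀] at this
          simp only [map_mul, map_sub]
          calc ι (a j) * (ι (v k.1) - ι (w k.1))
              = ι (a j) * ((ι (v j) - ι (w j)) * (ι (a k.1) * ↑hu.unit⁻¹)) := by rw [← sub_eq_zero]; linear_combination ι (a j) * this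
            _ = (ι (v j) - ι (w j)) * ι (a k.1) * (ι (a j) * ↑hu.unit⁻¹) := by ring
            _ = _ := by rw [hu.mul_val_inv, mul_one]
        choose c hc using fun k => IsLocalization.exists_of_eq (M := p.asIdeal.primeCompl) (h' k)
        refine ⟨(∏ k, c k) * ⟨a j, hj⟩, ?_⟩
        rw [← sub_eq_zero, ← smul_sub, ← Submodule.Quotient.mk_sub, Submonoid.smul_def, ← Submodule.Quotient.mk_smul,
          Submodule.Quotient.mk_eq_zero, Submodule.mem_span_singleton]
        refine ⟨↑(∏ k, c k) * (v j - w j), funext fun k => ?_⟩
        simp only [Pi.smul_apply, Pi.sub_apply, smul_eq_mul, Submonoid.coe_mul]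
        by_cases hk : k = j
        · subst hk; ring
        · rw [← Finset.prod_erase_mul _ _ (Finset.mem_univ (⟨k, hk⟩ : {k : Fin n // k ≠ j})), Submonoid.coe_mul]
          linear_combination (-((∏ x ∈ Finset.univ.erase (⟨k, hk⟩ : {k : Fin n // k ≠ j}), c x : p.asIdeal.primeCompl) : R)) * hc ⟨k, hk⟩
    let e := IsLocalizedModule.iso p.asIdeal.primeCompl g
    let e' := e.extendScalarsOfIsLocalization p.asIdeal.primeCompl O
    haveI hfree : Module.Free O (LocalizedModule p.asIdeal.primeCompl ((Fin n → R) ⧸ Submodule.span R {a})) :=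
      Module.Free.of_equiv' inferInstance e'.symm
    refine ⟨(Module.mem_freeLocus).2 hfree, ?_⟩
    change Module.finrank O (LocalizedModule p.asIdeal.primeCompl _) = n - 1
    rw [e'.finrank_eq, Module.finrank_pi, Fintype.card_subtype_compl, Fintype.card_fin, Fintype.card_subtype_eq]


end Groth.Agent.S19573
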