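import Groth.Statements.S19574
import Mathlib

set_option autoImplicit false
universe u
open CategoryTheory MonoidalCategory
open Lie3Mod

namespace Groth.Agent.S19574

/-- Let R be a commutative ring and d ≥ 1. Let K be a chain complex of R-modules concentrated in degrees
0, …, d + 1, written … → 0 → P_{d+1} → P_d → … → P_1 → M with M = K_0, which is exact (so 0 →
P_{d+1} → … → P_1 → M → 0 is an exact sequence), such that P_1, …, P_d are flat R-modules and such
that for every ideal I of R the complex obtained by applying (R/I) ⊗_R − termwise is again exact.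
Then M is a flat R-module. (No flatness is assumed for P_{d+1}. The published lemma adds that for R
Noetherian it suffices to test prime ideals I; that refinement is not part of this statement.) -/
theorem result (R : Type u) [CommRing R]
    (d : ℕ) (hd : 1 ≤ d) (K : ChainComplex (ModuleCat.{u} R) ℕ)
    (hzero : ∀ i : ℕ, d + 1 < i → Limits.IsZero (K.X i))
    (hflat : ∀ i : ℕ, 1 ≤ i → i ≤ d → Module.Flat R (K.X i))
    (hK : K.Acyclic)
    (hbc : ∀ I : Ideal R,
      (((tensorLeft (ModuleCat.of R (R ⧸ I))).mapHomologicalComplex (ComplexShape.down ℕ)).obj K).Acyclic) :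
    Module.Flat R (K.X 0) := by
  have hex : ∀ (L : ChainComplex (ModuleCat.{u} R) ℕ), L.Acyclic → ∀ n (x : L.X (n + 1)),
      (L.d (n + 1) n).hom x = 0 → ∃ y, (L.d (n + 2) (n + 1)).hom y = x := by
    intro L hL n x hx
    have h := hL (n + 1)
    rw [HomologicalComplex.exactAt_iff' L (n + 2) (n + 1) n (by simp) (by simp), ShortComplex.moduleCat_exact_iff] at h
    exact h x hx
  have hsurj : Function.Surjective (K.d 1 0).hom := fun x => by
    have h := hK 0
    rw [HomologicalComplex.exactAt_iff' K 1 0 0 (by simp) (by simp), ShortComplex.moduleCat_exact_iff] at h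
    exact h x (by
      show (K.d 0 0).hom x = 0
      rw [K.shape 0 0 (by simp)]
      rfl)
  haveI : Module.Flat R (K.X 1) := hflat 1 le_rfl hd
  have hdd : ∀ (i j k : ℕ) (x : K.X i), (K.d j k).hom ((K.d i j).hom x) = 0 := fun i j k x => by
    have h : (K.d i j ≫ K.d j k).hom x = 0 := by rw [K.d_comp_d]; rfl
    exact h
  rw [Module.Flat.iff_lTensor_injective']
  intro I
  rw [injective_iff_map_eq_zero]
  intro x hx
  have hx' : TensorProduct.rid R (K.X 0) (I.subtype.lTensor (K.X 0) x) = 0 := by rw [hx, map_zero]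
  obtain ⟨y, rfl⟩ := LinearMap.rTensor_surjective I hsurj x
  have hnat : ∀ (i j : ℕ) (w : TensorProduct R (K.X i) I),
      TensorProduct.rid R (K.X j) (I.subtype.lTensor (K.X j) ((K.d i j).hom.rTensor I w)) =
        (K.d i j).hom (TensorProduct.rid R (K.X i) (I.subtype.lTensor (K.X i) w)) := by
    intro i j w
    induction w using TensorProduct.induction_on with
    | zero => simp
    | tmul m r => simp
    | add a b ha hb => simp only [map_add, ha, hb]
  rw [hnat] at hx'
  obtain ⟨z, hz⟩ := hex K hK 0 _ hx'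
  set y' := TensorProduct.rid R (K.X 1) (I.subtype.lTensor (K.X 1) y) with hy'
  have hy'I : ∀ (i : ℕ) (w : TensorProduct R (K.X i) I),
      TensorProduct.rid R (K.X i) (I.subtype.lTensor (K.X i) w) ∈ I • (⊤ : Submodule R (K.X i)) := by
    intro i w
    induction w using TensorProduct.induction_on with
    | zero => simp
    | tmul m r => simp; exact Submodule.smul_mem_smul r.2 Submodule.mem_top
    | add a b ha hb => simp only [map_add]; exact add_mem ha hb
  have hzero : ∀ (i : ℕ) (m : K.X i), m ∈ I • (⊤ : Submodule R (K.X i)) →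
      (Ideal.Quotient.mk I 1) ⊗ₜ[R] m = 0 := by
    intro i m hm
    refine Submodule.smul_induction_on hm (fun r hr q _ => ?_) (fun a b ha hb => by rw [TensorProduct.tmul_add, ha, hb, add_zero])
    rw [TensorProduct.tmul_smul, TensorProduct.smul_tmul', show r • (Ideal.Quotient.mk I 1) = Ideal.Quotient.mk I (r * 1) from rfl,
      mul_one, Ideal.Quotient.eq_zero_iff_mem.mpr hr, TensorProduct.zero_tmul]
  obtain ⟨w, hw⟩ := hex _ (hbc I) 1 ((Ideal.Quotient.mk I 1) ⊗ₜ[R] z) (by
    show (K.d 2 1).hom.lTensor (R ⧸ I) ((Ideal.Quotient.mk I 1) ⊗ₜ[R] z) = 0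
    rw [LinearMap.lTensor_tmul]
    exact hzero 1 _ (by rw [hz]; exact hy'I 1 y))
  obtain ⟨w', hw'⟩ : ∃ w' : K.X 3, (Ideal.Quotient.mk I 1) ⊗ₜ[R] w' = w := by
    clear hw
    induction w using TensorProduct.induction_on with
    | zero => exact ⟨0, TensorProduct.tmul_zero _ _⟩
    | tmul r m =>
      obtain ⟨r, rfl⟩ := Ideal.Quotient.mk_surjective r
      exact ⟨r • m, by rw [TensorProduct.tmul_smul, TensorProduct.smul_tmul']; congr 1; exact congrArg _ (mul_one r)⟩
    | add a b ha hb =>
      obtain ⟨a', rfl⟩ := ha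
      obtain ⟨b', rfl⟩ := hb
      exact ⟨a' + b', TensorProduct.tmul_add _ _ _⟩
  have hmem : z - (K.d 3 2).hom w' ∈ I • (⊤ : Submodule R (K.X 2)) := by
    have h1 : (Ideal.Quotient.mk I 1) ⊗ₜ[R] (z - (K.d 3 2).hom w') = 0 := by
      rw [TensorProduct.tmul_sub, sub_eq_zero, ← hw, ← hw']
      exact (LinearMap.lTensor_tmul _ _ _ _).symm
    have h2 := congrArg (TensorProduct.quotTensorEquivQuotSMul (K.X 2) I) h1
    rw [map_zero] at h2
    have e := TensorProduct.quotTensorEquivQuotSMul_mk_tmul (M := K.X 2) I 1 (z - (K.d 3 2).hom w')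
    rw [one_smul] at e
    exact (Submodule.Quotient.mk_eq_zero _).mp (e.symm.trans h2)
  obtain ⟨u, hu⟩ : ∃ u, TensorProduct.rid R (K.X 2) (I.subtype.lTensor (K.X 2) u) = z - (K.d 3 2).hom w' := by
    refine Submodule.smul_induction_on hmem (fun r hr q _ => ⟨q ⊗ₜ ⟨r, hr⟩, by simp⟩) ?_
    rintro a b ⟨u, rfl⟩ ⟨u', rfl⟩
    exact ⟨u + u', by simp only [map_add]⟩
  have key : y = (K.d 2 1).hom.rTensor I u := by
    apply Module.Flat.iff_lTensor_injective'.mp inferInstance I
    apply (TensorProduct.rid R (K.X 1)).injective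
    rw [hnat, hu, map_sub, hdd, sub_zero, hz]
  rw [key, ← LinearMap.rTensor_comp_apply, show (K.d 1 0).hom.comp (K.d 2 1).hom = 0 from LinearMap.ext (hdd 2 1 0)]
  simp

end Groth.Agent.S19574
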