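import Groth.Statements.S19575
import Groth.Agent.EtaPtLib.Loc


set_option autoImplicit false
universe u
open EtaPt

namespace Groth.Agent.S19575

open Groth.Agent.EtaPtLib

/-- Let η be the field-endofunctor datum of the pointwise construction, A a commutative ring with
finitely many minimal prime ideals and φ : A → B a ring map inducing a surjection on prime spectra.
If the canonical map A → (B/A)_η (the corestriction of φ onto the subring of B of elements whose
image in ∏_q F(k(q)) comes from M_η(A)) is bijective, then for every f ∈ A the canonical map A_f →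
(B_f/A_f)_η attached to the localized map A_f → B_{φ(f)} is bijective as well. -/
theorem result (η : EtaPt.FieldEndo.{u}) {A B : Type u} [CommRing A] [CommRing B]
    (hA : (minimalPrimes A).Finite) (φ : A →+* B) (hs : Function.Surjective (PrimeSpectrum.comap φ))
    (h : Function.Bijective (η.qRel φ)) (f : A) :
    Function.Bijective (η.qRel (Localization.awayMap φ f)) := by
  rw [qRel_bijective_iff] at h ⊢
  obtain ⟨hi, hsur⟩ := h
  let Bf := Localization.Away (φ f)
  have hcomm : (Localization.awayMap φ f).comp (algebraMap A (Localization.Away f)) =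
      (algebraMap B Bf).comp φ := IsLocalization.map_comp _
  refine ⟨?_, fun y hy => ?_⟩
  · rw [injective_iff_map_eq_zero]
    intro a ha
    obtain ⟨a, ⟨_, m, rfl⟩, rfl⟩ := IsLocalization.exists_mk'_eq (Submonoid.powers f) a
    rw [IsLocalization.mk'_eq_zero_iff]
    have h0 : algebraMap B Bf (φ a) = 0 := by
      rw [← RingHom.comp_apply, ← hcomm, RingHom.comp_apply,
        ← IsLocalization.mk'_spec (Localization.Away f) a (⟨_, m, rfl⟩ : Submonoid.powers f), map_mul, ha,
        zero_mul]
    obtain ⟨⟨_, n, rfl⟩, hn⟩ := (IsLocalization.map_eq_zero_iff (Submonoid.powers (φ f)) Bf (φ a)).mp h0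
    exact ⟨⟨_, n, rfl⟩, hi (by rw [map_mul, map_pow, map_zero]; exact hn)⟩
  · obtain ⟨x, hx, n, hn⟩ := (rel_away hA φ f).2 y hy
    obtain ⟨a, rfl⟩ := hsur x hx
    refine ⟨IsLocalization.mk' _ a (⟨_, n, rfl⟩ : Submonoid.powers f), ?_⟩
    have hu : IsUnit (algebraMap B Bf (φ f) ^ n) := (IsLocalization.Away.algebraMap_isUnit (φ f)).pow n
    apply hu.mul_left_injective
    change _ * algebraMap B Bf (φ f) ^ n = y * algebraMap B Bf (φ f) ^ n
    rw [hn, ← map_pow, ← map_pow φ, ← RingHom.comp_apply (algebraMap B Bf) φ, ← RingHom.comp_apply (algebraMap B Bf) φ a,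
      ← hcomm, RingHom.comp_apply, RingHom.comp_apply, ← map_mul, IsLocalization.mk'_spec]

end Groth.Agent.S19575
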