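import Groth.Statements.S19576
import Groth.Agent.EtaPtLib.Loc


set_option autoImplicit false
universe u
open EtaPt

namespace Groth.Agent.S19576

open Groth.Agent.EtaPtLib

/-- Let η be the field-endofunctor datum of the pointwise construction, A a commutative ring with
finitely many minimal prime ideals and φ : A → B a ring map inducing a surjection on prime spectra.
If finitely many elements f_1, …, f_n of A generate the unit ideal and, for each i, the canonical
map A_{f_i} → (B_{f_i}/A_{f_i})_η attached to the localized map A_{f_i} → B_{φ(f_i)} is bijective,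
then the canonical map A → (B/A)_η is bijective. -/
theorem result (η : EtaPt.FieldEndo.{u}) {A B : Type u} [CommRing A] [CommRing B]
    (hA : (minimalPrimes A).Finite) (φ : A →+* B) (hs : Function.Surjective (PrimeSpectrum.comap φ))
    (s : Finset A) (hspan : Ideal.span (s : Set A) = ⊤)
    (h : ∀ f ∈ s, Function.Bijective (η.qRel (Localization.awayMap φ f))) :
    Function.Bijective (η.qRel φ) := by
  rw [qRel_bijective_iff]
  refine ⟨(injective_iff_map_eq_zero φ).mpr fun a ha => ?_, fun b hb => ?_⟩
  · let I : Ideal A := LinearMap.ker (LinearMap.toSpanSingleton A A a)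
    have : I.radical = ⊤ := by
      rw [eq_top_iff, ← hspan, Ideal.span_le]
      intro f hf
      obtain ⟨hi, -⟩ := (qRel_bijective_iff η _).mp (h f hf)
      have h0 : algebraMap A (Localization.Away f) a = 0 := hi (by
        rw [Localization.awayMap, IsLocalization.Away.map, IsLocalization.map_eq, ha, map_zero, map_zero])
      obtain ⟨⟨_, n, rfl⟩, hn⟩ := (IsLocalization.map_eq_zero_iff (Submonoid.powers f) _ a).mp h0
      exact ⟨n, LinearMap.mem_ker.mpr ((LinearMap.toSpanSingleton_apply A A a _).trans hn)⟩
    rw [Ideal.radical_eq_top, Ideal.eq_top_iff_one, LinearMap.mem_ker, LinearMap.toSpanSingleton_apply, one_smul] at this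
    exact this
  · let I : Ideal A :=
      { carrier := {c | φ c * b ∈ φ.range}
        add_mem' := fun {c d} hc hd => by
          change φ (c + d) * b ∈ φ.range
          rw [map_add, add_mul]; exact add_mem hc hd
        zero_mem' := by change φ 0 * b ∈ φ.range; rw [map_zero, zero_mul]; exact zero_mem _
        smul_mem' := fun c d hd => by
          change φ (c * d) * b ∈ φ.range
          rw [map_mul, mul_assoc]; exact mul_mem ⟨c, rfl⟩ hd }
    have : I.radical = ⊤ := by
      rw [eq_top_iff, ← hspan, Ideal.span_le]
      intro f hf
      obtain ⟨-, hsur⟩ := (qRel_bijective_iff η _).mp (h f hf)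
      obtain ⟨a', ha'⟩ := hsur _ ((rel_away hA φ f).1 ⟨b, hb, rfl⟩)
      obtain ⟨a, ⟨_, n, rfl⟩, rfl⟩ := IsLocalization.exists_mk'_eq (Submonoid.powers f) a'
      rw [Localization.awayMap, IsLocalization.Away.map, IsLocalization.map_mk',
        IsLocalization.mk'_eq_iff_eq_mul, ← map_mul] at ha'
      obtain ⟨⟨_, m, rfl⟩, hm⟩ := (IsLocalization.eq_iff_exists (Submonoid.powers (φ f)) _).mp ha'
      refine ⟨m + n, a * f ^ m, ?_⟩
      simp only [map_mul, map_pow, pow_add] at hm ⊢
      linear_combination hm
    rw [Ideal.radical_eq_top, Ideal.eq_top_iff_one] at this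
    change φ 1 * b ∈ φ.range at this
    rw [map_one, one_mul] at this
    exact this

end Groth.Agent.S19576
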