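import Groth.Statements.S19577
import Groth.Agent.EtaPtLib.Rel


set_option autoImplicit false
universe u
open EtaPt

namespace Groth.Agent.S19577

open Groth.Agent.EtaPtLib

/-- Let f : A → B be a homomorphism of commutative rings, each with only finitely many minimal primes.
Then M_η(f) : M_η(A) → M_η(B) is integral exactly when f is integral, and Spec M_η(f) is surjective
exactly when Spec f is. Here η is the field-endofunctor datum of the pointwise construction, M_η(A)
⊆ ∏_p F(k(p)) the subring attached to A with q_A : A → M_η(A), and M_η(f) : M_η(A) → M_η(B) the ring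
map induced by N_η(f), pinned here as the ring map g compatible with N_η(f) under the two subring
inclusions. -/
theorem result (η : EtaPt.FieldEndo.{u}) {A B : Type u} [CommRing A] [CommRing B]
    (hA : (minimalPrimes A).Finite) (hB : (minimalPrimes B).Finite) (f : A →+* B)
    (g : η.M A →+* η.M B) (hg : ∀ x : η.M A, ((g x : η.M B) : η.N B) = η.Nmap f (x : η.N A)) :
    (f.IsIntegral ↔ g.IsIntegral) ∧
      (Function.Surjective (PrimeSpectrum.comap f) ↔ Function.Surjective (PrimeSpectrum.comap g)) := by
  have hsq : g.comp (η.q A) = (η.q B).comp f :=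
    RingHom.ext fun a => Subtype.ext ((hg _).trans (η.Nmap_t_apply f a))
  refine ⟨⟨fun hf => ?_, fun hgi b => ?_⟩, ?_⟩
  · have h1 : ((η.q B).comp f).IsIntegral := RingHom.IsIntegral.trans _ _ hf (isIntegral_q η hB)
    rw [← hsq] at h1
    exact RingHom.IsIntegral.tower_top (η.q A) g h1
  · have h1 : (g.comp (η.q A)).IsIntegral := RingHom.IsIntegral.trans _ _ (isIntegral_q η hA) hgi
    rw [hsq] at h1
    obtain ⟨p, hp, hp0⟩ := h1 (η.q B b)
    rw [← Polynomial.hom_eval₂, q_eq_zero_iff] at hp0
    obtain ⟨n, hn⟩ := hp0
    exact ⟨p ^ n, hp.pow n, by rw [Polynomial.eval₂_pow, hn]⟩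
  · have hc : PrimeSpectrum.comap (η.q A) ∘ PrimeSpectrum.comap g =
        PrimeSpectrum.comap f ∘ PrimeSpectrum.comap (η.q B) := by
      rw [← PrimeSpectrum.comap_comp, hsq, PrimeSpectrum.comap_comp]
    constructor
    · intro hs
      have : Function.Surjective (PrimeSpectrum.comap (η.q A) ∘ PrimeSpectrum.comap g) := by
        rw [hc]; exact hs.comp (comap_q_bijective hB).2
      exact this.of_comp_left (comap_q_bijective hA).1
    · intro hs
      have : Function.Surjective (PrimeSpectrum.comap f ∘ PrimeSpectrum.comap (η.q B)) := by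
        rw [← hc]; exact (comap_q_bijective hA).2.comp hs
      exact this.of_comp

end Groth.Agent.S19577
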