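import Groth.Statements.S19579
import Groth.Agent.S1490
import Groth.Agent.Lib.AVSchemeLam

set_option autoImplicit false
set_option backward.isDefEq.respectTransparency false
set_option backward.isDefEq.respectTransparency.types false
set_option linter.style.haveILetI false
set_option linter.unusedSectionVars false
set_option maxHeartbeats 400000
universe u
open CategoryTheory CategoryTheory.Limits MonoidalCategory CartesianMonoidalCategory MonObj AlgebraicGeometry
open AbVar

namespace Groth.Agent.S19579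

/-- The implication from triviality of the Mumford bundle on one fibre to its triviality relative to the
base, with the identification of the descended bundle. Let X be an abelian variety over a field k
(proper, geometrically integral k-group scheme with multiplication m and unit e), T a connected
locally Noetherian k-scheme and L an invertible module on X ×_k T. On X ×_k X ×_k T let m_T, p_13,
p_23 be the maps to X ×_k T induced by m and by the two projections X × X → X, π the projection to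
T, and e_T : T → X ×_k T the unit section. If there is a point t of T over whose fibre X × X × Spec
k(t) the modules m_T^*L and p_13^*L ⊗ p_23^*L become isomorphic (equivalently the Mumford bundle
Λ(L) = m_T^*L ⊗ p_13^*L⁻¹ ⊗ p_23^*L⁻¹ is trivial on one fibre), then m_T^*L ⊗ π^*(e_T^*L) and
p_13^*L ⊗ p_23^*L are isomorphic on all of X × X × T, i.e. Λ(L) ≅ π^*N with N = e_T^*L⁻¹ (existence
of an isomorphism). -/
theorem result (k : Type u) [Field k]
    (X T : Over (Spec (CommRingCat.of k)))
    [GrpObj X] [IsProper X.hom] [GeometricallyIntegral X.hom]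
    [IsLocallyNoetherian T.left] [ConnectedSpace ↥T.left]
    (L : (X ⊗ T).left.Modules) (hL : PicF.IsInvertible L)
    (t : ↥T.left)
    (ht : Nonempty
      ((Scheme.Modules.pullback (pullback.fst (snd (X ⊗ X) T).left
          (T.left.fromSpecResidueField t))).obj
          ((Scheme.Modules.pullback (μ[X] ▷ T).left).obj L) ≅
       (Scheme.Modules.pullback (pullback.fst (snd (X ⊗ X) T).left
          (T.left.fromSpecResidueField t))).obj
          (CohB1.tensorMod ((Scheme.Modules.pullback (fst X X ▷ T).left).obj L)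
            ((Scheme.Modules.pullback (snd X X ▷ T).left).obj L)))) :
    Nonempty
      (CohB1.tensorMod ((Scheme.Modules.pullback (μ[X] ▷ T).left).obj L)
          ((Scheme.Modules.pullback (snd (X ⊗ X) T).left).obj
            ((Scheme.Modules.pullback (CartesianMonoidalCategory.lift (toUnit T ≫ η[X]) (𝟙 T)).left).obj L)) ≅
        CohB1.tensorMod ((Scheme.Modules.pullback (fst X X ▷ T).left).obj L)
          ((Scheme.Modules.pullback (snd X X ▷ T).left).obj L)) := by
  haveI : Flat X.hom := inferInstance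
  haveI : LocallyOfFinitePresentation X.hom :=
    AlgStLib.locallyOfFinitePresentation_of_isLocallyNoetherian X.hom inferInstance
  letI := H23.PicMul.clMonoid
  let ε : T ⟶ X ⊗ T := lift (toUnit T ≫ η[X]) (𝟙 T)
  let m : (X ⊗ X) ⊗ T ⟶ X ⊗ T := μ[X] ▷ T
  let p := fst X X ▷ T
  let q := snd X X ▷ T
  let b := snd (X ⊗ X) T ≫ ε
  let l : PicF.Cl (X ⊗ T).left := PicF.cl L
  have hl : PicF.IsInvertibleCl l := ⟨L, rfl, hL⟩
  open AVSchemeLam in
  obtain ⟨D, hDi, hlD⟩ := exists_inv hl
  let c : PicF.Cl ((X ⊗ X) ⊗ T).left :=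
    (AVSchemeLam.P m l * AVSchemeLam.P b l) * (AVSchemeLam.P p D * AVSchemeLam.P q D)
  have hP : ∀ {U : Over (Spec (CommRingCat.of k))} (g : U ⟶ X ⊗ T), AVSchemeLam.P g l * AVSchemeLam.P g D = 1 :=
    fun g => by rw [← map_mul, hlD, map_one]
  have hci : PicF.IsInvertibleCl c := H23.PicMul.isInvertibleCl_mul
    (H23.PicMul.isInvertibleCl_mul (PicClLib.isInvertibleCl_pullCl _ hl) (PicClLib.isInvertibleCl_pullCl _ hl))
    (H23.PicMul.isInvertibleCl_mul (PicClLib.isInvertibleCl_pullCl _ hDi) (PicClLib.isInvertibleCl_pullCl _ hDi))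
  obtain ⟨C, hC, hCi⟩ := hci
  have hε : ∀ U : Over (Spec (CommRingCat.of k)), ∀ v : U ⟶ T, lift (1 : U ⟶ X) v = v ≫ ε := fun U v => by
    simp only [ε, comp_lift, Category.comp_id, comp_toUnit_assoc, Hom.one_def]
  have ax1 : AVSchemeLam.P (lift (1 : X ⟶ X) (𝟙 X) ▷ T) c = 1 := by
    have h1 : (lift (1 : X ⟶ X) (𝟙 X) ▷ T) ≫ m = 𝟙 _ := by
      rw [← comp_whiskerRight, show lift (1 : X ⟶ X) (𝟙 X) ≫ μ[X] = 𝟙 X by rw [← Hom.mul_def, _root_.one_mul],
        id_whiskerRight]
    have h2 : (lift (1 : X ⟶ X) (𝟙 X) ▷ T) ≫ q = 𝟙 _ := by rw [← comp_whiskerRight, lift_snd, id_whiskerRight]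
    have h3 : (lift (1 : X ⟶ X) (𝟙 X) ▷ T) ≫ p = snd X T ≫ ε := by
      rw [← comp_whiskerRight, lift_fst, ← hε]
      apply CartesianMonoidalCategory.hom_ext <;> simp [MonObj.comp_one]
    have h4 : (lift (1 : X ⟶ X) (𝟙 X) ▷ T) ≫ b = snd X T ≫ ε := by simp [b]
    simp only [c, map_mul, AVSchemeLam.P_P, h1, h2, h3, h4]
    rw [mul_comm (AVSchemeLam.P (snd X T ≫ ε) D), _root_.mul_mul_mul_comm, hP, hP,
      _root_.one_mul]
  have ax2 : AVSchemeLam.P (lift (𝟙 X) (1 : X ⟶ X) ▷ T) c = 1 := by
    have h1 : (lift (𝟙 X) (1 : X ⟶ X) ▷ T) ≫ m = 𝟙 _ := by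
      rw [← comp_whiskerRight, show lift (𝟙 X) (1 : X ⟶ X) ≫ μ[X] = 𝟙 X by rw [← Hom.mul_def, _root_.mul_one],
        id_whiskerRight]
    have h2 : (lift (𝟙 X) (1 : X ⟶ X) ▷ T) ≫ p = 𝟙 _ := by rw [← comp_whiskerRight, lift_fst, id_whiskerRight]
    have h3 : (lift (𝟙 X) (1 : X ⟶ X) ▷ T) ≫ q = snd X T ≫ ε := by
      rw [← comp_whiskerRight, lift_snd, ← hε]
      apply CartesianMonoidalCategory.hom_ext <;> simp [MonObj.comp_one]
    have h4 : (lift (𝟙 X) (1 : X ⟶ X) ▷ T) ≫ b = snd X T ≫ ε := by simp [b]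
    simp only [c, map_mul, AVSchemeLam.P_P, h1, h2, h3, h4]
    rw [_root_.mul_mul_mul_comm, hP, hP, _root_.one_mul]
  let πt := pullback.fst (snd (X ⊗ X) T).left (T.left.fromSpecResidueField t)
  have hbt : PicF.pullCl πt (AVSchemeLam.P b l) = 1 := by
    show PicF.pullCl πt (PicF.pullCl b.left l) = 1
    rw [PicClLib.pullCl_comp, show πt ≫ b.left =
      pullback.snd (snd (X ⊗ X) T).left (T.left.fromSpecResidueField t) ≫ (T.left.fromSpecResidueField t ≫ ε.left) by
        rw [Over.comp_left, ← Category.assoc, pullback.condition, Category.assoc], ← PicClLib.pullCl_comp]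
    haveI : Subsingleton (Spec (T.left.residueField t)) := inferInstanceAs (Subsingleton (PrimeSpectrum _))
    haveI : Nonempty (Spec (T.left.residueField t)) := inferInstanceAs (Nonempty (PrimeSpectrum _))
    rw [show PicF.pullCl (T.left.fromSpecResidueField t ≫ ε.left) l = 1 from
      H23.KLBasic.trivial_of_subsingleton (PicClLib.isInvertible_pullback _ hL)]
    exact H23.PicMul.pullCl_one _
  have hct : PicF.pullCl πt c = 1 := by
    have e : PicF.pullCl πt (AVSchemeLam.P m l) =
        PicF.pullCl πt (AVSchemeLam.P p l * AVSchemeLam.P q l) := (PicGrp.cl_eq_cl_iff _ _).2 ht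
    show H23.PicMul.pullHom πt c = 1
    simp only [c, map_mul]
    rw [show H23.PicMul.pullHom πt (AVSchemeLam.P m l) = _ from e, show H23.PicMul.pullHom πt (AVSchemeLam.P b l) = 1 from hbt]
    show H23.PicMul.pullHom πt (AVSchemeLam.P p l * AVSchemeLam.P q l) * 1 * _ = 1
    rw [_root_.mul_one]
    refine (congrArg _ (map_mul (H23.PicMul.pullHom πt) _ _).symm).trans
      ((map_mul (H23.PicMul.pullHom πt) _ _).symm.trans ((congrArg _ ?_).trans (map_one _)))
    exact (_root_.mul_mul_mul_comm _ _ _ _).trans (by rw [hP, hP, _root_.one_mul])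
  have hC1 : PicF.cl C = (1 : PicF.Cl ((X ⊗ X) ⊗ T).left) := by
    refine (PicGrp.cl_eq_cl_iff _ _).2 ?_
    refine S1490.result X.hom X.hom T.hom η[X].left (Over.w η[X]) η[X].left (Over.w η[X]) C hCi ?_ ?_ ⟨t, ?_⟩
    · refine (PicGrp.cl_eq_cl_iff _ _).1 ?_
      show PicF.pullCl _ (PicF.cl C) = 1
      rw [hC]
      refine (congrArg (PicF.pullCl · c) (?_ : _ = pullback.map _ _ _ _ (𝟙 X.left) (𝟙 T.left) (𝟙 _) ?_ ?_ ≫
        (lift (1 : X ⟶ X) (𝟙 X) ▷ T).left)).trans ?_
      · simp
      · simp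
      · apply pullback.hom_ext
        · simp [Over.whiskerRight_left, Hom.one_def]
        · simp [Over.whiskerRight_left]
      · rw [← PicClLib.pullCl_comp, show PicF.pullCl (lift (1 : X ⟶ X) (𝟙 X) ▷ T).left c = 1 from ax1]
        exact H23.PicMul.pullCl_one _
    · refine (PicGrp.cl_eq_cl_iff _ _).1 ?_
      show PicF.pullCl _ (PicF.cl C) = 1
      rw [hC]
      refine (congrArg (PicF.pullCl · c) (?_ : _ = pullback.map _ _ _ _ (𝟙 X.left) (𝟙 T.left) (𝟙 _) ?_ ?_ ≫
        (lift (𝟙 X) (1 : X ⟶ X) ▷ T).left)).trans ?_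
      · simp [← Category.assoc]
      · simp
      · apply pullback.hom_ext
        · simp [Over.whiskerRight_left, Hom.one_def]
        · simp [Over.whiskerRight_left]
      · rw [← PicClLib.pullCl_comp, show PicF.pullCl (lift (𝟙 X) (1 : X ⟶ X) ▷ T).left c = 1 from ax2]
        exact H23.PicMul.pullCl_one _
    · refine (PicGrp.cl_eq_cl_iff _ _).1 ?_
      show PicF.pullCl πt (PicF.cl C) = 1
      rw [hC]
      exact hct
  refine (PicGrp.cl_eq_cl_iff _ _).1 ?_
  show AVSchemeLam.P m l * AVSchemeLam.P (snd (X ⊗ X) T) (AVSchemeLam.P ε l) =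
    AVSchemeLam.P p l * AVSchemeLam.P q l
  rw [AVSchemeLam.P_P]
  calc AVSchemeLam.P m l * AVSchemeLam.P b l
      = AVSchemeLam.P m l * AVSchemeLam.P b l * ((AVSchemeLam.P p l * AVSchemeLam.P p D) * (AVSchemeLam.P q l * AVSchemeLam.P q D)) := by
        rw [hP, hP, _root_.one_mul, _root_.mul_one]
    _ = c * (AVSchemeLam.P p l * AVSchemeLam.P q l) := by
        rw [_root_.mul_mul_mul_comm (AVSchemeLam.P p l), mul_comm (AVSchemeLam.P p l * AVSchemeLam.P q l),
          ← _root_.mul_assoc]
    _ = _ := by rw [← hC, hC1, _root_.one_mul]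

end Groth.Agent.S19579
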