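import Groth.Statements.S19581
import Groth.Agent.Lib.AVDeg

set_option autoImplicit false
set_option backward.isDefEq.respectTransparency false
set_option backward.isDefEq.respectTransparency.types false
set_option linter.style.haveILetI false
set_option linter.unusedSectionVars false
set_option maxHeartbeats 400000
universe u
open CategoryTheory CategoryTheory.Limits MonoidalCategory CartesianMonoidalCategory MonObj GrpObj AlgebraicGeometry
open AbDual

namespace Groth.Agent.S19581

set_option backward.isDefEq.respectTransparency false

/-- Let X and Y be abelian varieties over a field k (proper, smooth, geometrically connected commutative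
k-group schemes) with dual abelian varieties X^t, Y^t presented through φ_X, φ_Y for the fppf
topology, and let f : X → Y be an isogeny, i.e. a surjective homomorphism with finite kernel; let
the kernel be Spec A for a finite-dimensional commutative and cocommutative Hopf algebra A, embedded
in X by a homomorphism i whose square against the unit section of Y is cartesian. Let f^t : Y^t →
X^t be the transpose homomorphism and let Spec B, for a finite-dimensional commutative Hopf algebra
B, be its kernel through a homomorphism j. Then B is isomorphic, as a bialgebra over k, to the dual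
Hopf algebra Hom_k(A, k) of A; that is, Ker(f^t) is isomorphic to the Cartier dual of Ker(f). (The
published statement gives a canonical isomorphism; only the existence of an isomorphism is stated
here. That f^t is again an isogeny is a separate statement.) -/
theorem result (k : Type u) [Field k]
    (X Y Xt Yt : Over (Spec (CommRingCat.of k))) [GrpObj X] [IsCommMonObj X] [GrpObj Y] [IsCommMonObj Y]
    [GrpObj Xt] [IsCommMonObj Xt] [GrpObj Yt] [IsCommMonObj Yt]
    [IsProper X.hom] [Smooth X.hom] [GeometricallyConnected X.hom] [IsProper Y.hom] [Smooth Y.hom] [GeometricallyConnected Y.hom]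
    [IsProper Xt.hom] [Smooth Xt.hom] [GeometricallyConnected Xt.hom] [IsProper Yt.hom] [Smooth Yt.hom] [GeometricallyConnected Yt.hom]
    (φX : ∀ T : Over (Spec (CommRingCat.of k)), PicF.Cl (PicF.XT X.hom T) → (T ⟶ Xt))
    (φY : ∀ T : Over (Spec (CommRingCat.of k)), PicF.Cl (PicF.XT Y.hom T) → (T ⟶ Yt))
    (hX : AbDual.IsDualAV Scheme.fppfPrecoverage X Xt φX) (hY : AbDual.IsDualAV Scheme.fppfPrecoverage Y Yt φY)
    (f : X ⟶ Y) [IsMonHom f] [Surjective f.left]
    (A : Type u) [CommRing A] [HopfAlgebra k A] [Coalgebra.IsCocomm k A] [FiniteDimensional k A]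
    (i : CoactBr.sp k A ⟶ X) [IsMonHom i] (hA : AlgGrp.IsKernel i f)
    (ft : Yt ⟶ Xt) [IsMonHom ft] (hft : AbDual.IsTranspose f φX φY ft)
    (B : Type u) [CommRing B] [HopfAlgebra k B] [FiniteDimensional k B]
    (j : CoactBr.sp k B ⟶ Yt) [IsMonHom j] (hB : AlgGrp.IsKernel j ft) :
    Nonempty (B ≃ₐc[k] CartDual.D k A) := by
  haveI := AVDual.geometricallyIntegral_of_smooth X
  haveI := AVDual.geometricallyIntegral_of_smooth Y
  haveI := AVDual.geometricallyIntegral_of_smooth Yt
  haveI : IsIntegral Y.left := GeometricallyIntegral.isIntegral_of_subsingleton Y.hom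
  haveI : IsReduced Y.left := inferInstance
  haveI : IsLocallyNoetherian Y.left := LocallyOfFiniteType.isLocallyNoetherian Y.hom
  haveI : IsMonHom f := ‹IsMonHom f›
  have hqc : QuasiCompact f.left := by
    haveI : QuasiCompact (f.left ≫ Y.hom) := by rw [Over.w f]; infer_instance
    exact QuasiCompact.of_comp f.left Y.hom
  have hsq : IsPullback i.left (CoactBr.sp k A).hom f.left η[Y].left := hA.map (Over.forget _)
  haveI : IsArtinianRing A := IsArtinianRing.of_finite k A
  haveI : DiscreteTopology ↥(CoactBr.sp k A).left := inferInstanceAs (DiscreteTopology (PrimeSpectrum A))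
  have hd : DiscreteTopology ↥(Limits.pullback f.left η[Y].left) :=
    hsq.isoPullback.hom.homeomorph.discreteTopology
  haveI : IsFinite f.left := GrpSchLib.HomFinite.isFinite_of_discrete_ker f hd
  haveI : Flat f.left := GrpSchLib.flat_of_surjective_hom f
  let y₀ : Y.left := η[Y].left (IsLocalRing.closedPoint k)
  have hc : ∀ y, Scheme.Hom.finrank f.left y = Scheme.Hom.finrank f.left y₀ := fun y =>
    f.left.isLocallyConstant_finrank.apply_eq_of_preconnectedSpace _ _
  obtain ⟨hfin, hfl, -, hdeg⟩ := AVDeg.degree_eq hX hY hft hc
  haveI := hfin; haveI := hfl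
  refine (AVKerPair.transpose_kernel hX hY hft hB hA).2 (le_of_eq ?_)
  rw [AVDeg.finrank_eq_of_kernel hA hc, AVDeg.finrank_eq_of_kernel hB hdeg]

end Groth.Agent.S19581
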