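import Groth.Statements.S19582
import Groth.Agent.H28.UnivEquidim
-- import your own Groth.Agent.* helpers here

set_option autoImplicit false
set_option backward.isDefEq.respectTransparency false
set_option backward.isDefEq.respectTransparency.types false
universe u
open Cyc

namespace Groth.Agent.S19582

open CategoryTheory CategoryTheory.Limits AlgebraicGeometry in
/-- Let S be a separated Noetherian scheme, p : X → S separated of finite type, z a point of X lying
over a generic point of an irreducible component of S whose closure in its fibre p⁻¹(p z) has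
dimension r, and ι : Z → X a closed immersion from a reduced scheme with image the closure of z. Let
R be a discrete valuation ring with fraction field K and x : Spec R → S a morphism sending the
generic point of Spec R to a generic point of an irreducible component of S, and let q : φ → Spec R
be the flat closure φ = φ_x(Z) of Z along x, i.e. the scheme-theoretic image of Z ×_S Spec K in Z
×_S Spec R, with its projection to Spec R. Then q is universally equidimensional of dimension r: for
every scheme S' and every S' → Spec R, the base change φ ×_R S' → S' has local fibre dimension r at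
every point (the dimension at w of the fibre through w is r) and every irreducible component of φ
×_R S' dominates an irreducible component of S'. -/
theorem result {X S Z : Scheme.{u}} [IsNoetherian S] [S.IsSeparated] [X.IsSeparated]
    (p : X ⟶ S) [LocallyOfFiniteType p] [QuasiCompact p] (z : X) (hz : closure {p.base z} ∈ irreducibleComponents ↥S)
    (r : ℕ) (hr : topologicalKrullDim ↥(closure ({p.asFiber z} : Set ↥(p.fiber (p.base z)))) = r)
    (ι : Z ⟶ X) [IsClosedImmersion ι] [IsReduced Z] (hZ : Set.range ι.base = closure {z})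
    (R : Type u) [CommRing R] [IsDomain R] [IsDiscreteValuationRing R] (x : Spec (CommRingCat.of R) ⟶ S)
    (hx : closure {x.base ⟨⊥, Ideal.isPrime_bot⟩} ∈ irreducibleComponents ↥S)
    (q : (pullback.map (ι ≫ p) (Spec.map (CommRingCat.ofHom (algebraMap R (FractionRing R))) ≫ x) (ι ≫ p) x (𝟙 Z) (Spec.map (CommRingCat.ofHom (algebraMap R (FractionRing R)))) (𝟙 S) ((Category.comp_id _).trans (Category.id_comp _).symm) (Category.comp_id _)).ker.subscheme ⟶ Spec (CommRingCat.of R))
    (hq : q = (pullback.map (ι ≫ p) (Spec.map (CommRingCat.ofHom (algebraMap R (FractionRing R))) ≫ x) (ι ≫ p) x (𝟙 Z) (Spec.map (CommRingCat.ofHom (algebraMap R (FractionRing R)))) (𝟙 S) ((Category.comp_id _).trans (Category.id_comp _).symm) (Category.comp_id _)).ker.subschemeι ≫ pullback.snd (ι ≫ p) x)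
    (S' : Scheme.{u}) (g : S' ⟶ Spec (CommRingCat.of R)) :
    (∀ w : ↥(pullback q g), FlatMor.fibreDimAt (pullback.snd q g) w = r) ∧
      ∀ C ∈ irreducibleComponents ↥(pullback q g),
        closure ((pullback.snd q g).base '' C) ∈ irreducibleComponents ↥S' := by
  subst hq
  set η := H28.FlatCl.genI R
  set W := ι ≫ p with hW
  set v := pullback.map W (η ≫ x) W x (𝟙 Z) η (𝟙 S) ((Category.comp_id _).trans (Category.id_comp _).symm)
    (Category.comp_id _) with hv
  have vfst : v ≫ pullback.fst W x = pullback.fst W (η ≫ x) := by simp [hv]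
  have vsnd : v ≫ pullback.snd W x = pullback.snd W (η ≫ x) ≫ η := by simp [hv]
  have hvP : IsPullback v (pullback.snd W (η ≫ x)) (pullback.snd W x) η := by
    refine IsPullback.of_right ?_ vsnd (IsPullback.of_hasPullback W x)
    rw [vfst]
    exact IsPullback.of_hasPullback W (η ≫ x)
  haveI := H28.UnivEquidim.isOpenImmersion_genI (R := R)
  haveI : IsAffineHom η := inferInstance
  haveI : IsOpenImmersion v := MorphismProperty.of_isPullback (P := @IsOpenImmersion) hvP.flip inferInstance
  haveI : IsAffineHom v := MorphismProperty.of_isPullback (P := @IsAffineHom) hvP.flip inferInstance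
  haveI : Flat (v.imageι ≫ pullback.snd W x) :=
    H28.UnivEquidim.flat_image v (pullback.snd W x) (pullback.snd W (η ≫ x)) vsnd
  haveI : LocallyOfFinitePresentation (v.imageι ≫ pullback.snd W x) :=
    H28.UnivEquidim.locallyOfFinitePresentation_of_noetherian _
  refine H28.UnivEquidim.univ_equidim (v.imageι ≫ pullback.snd W x) r (fun ξ hξ => ?_) g
  obtain ⟨z₀, -, hgen, hrd⟩ := H28.UnivEquidim.exists_generic p z r hr ι hZ
  have hq0 : (v.imageι ≫ pullback.snd W x) ξ = (⟨⊥, Ideal.isPrime_bot⟩ : PrimeSpectrum R) :=
    (H28.UnivEquidim.isMaxPt_apply (v.imageι ≫ pullback.snd W x) hξ _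
      ((PrimeSpectrum.le_iff_specializes (⟨⊥, Ideal.isPrime_bot⟩ : PrimeSpectrum R) _).1 bot_le)).symm
  obtain ⟨ζ, hζ⟩ : v.imageι ξ ∈ Set.range v := by
    obtain ⟨t⟩ := (inferInstance : Nonempty (Spec (CommRingCat.of (FractionRing R))))
    obtain ⟨d, -, hd⟩ := Scheme.Pullback.exists_preimage_pullback (f := η) (g := pullback.snd W x) t
      (v.imageι ξ) ((H28.FlatCl.genI_apply t).trans hq0.symm)
    refine ⟨hvP.flip.isoPullback.inv d, ?_⟩
    rw [← Scheme.Hom.comp_apply, IsPullback.isoPullback_inv_snd]
    exact hd
  obtain rfl : v.toImage ζ = ξ := v.imageι.isEmbedding.injective (by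
    rw [← Scheme.Hom.comp_apply, Scheme.Hom.toImage_imageι]; exact hζ)
  haveI : IsPreimmersion v.toImage := by
    haveI : IsPreimmersion (v.toImage ≫ v.imageι) := by rw [Scheme.Hom.toImage_imageι]; infer_instance
    exact IsPreimmersion.of_comp v.toImage v.imageι
  haveI : LocallyOfFiniteType v.toImage := by
    haveI : LocallyOfFiniteType (v.toImage ≫ v.imageι) := by rw [Scheme.Hom.toImage_imageι]; infer_instance
    exact locallyOfFiniteType_of_comp v.toImage v.imageι
  have hζmax : H28.UnivEquidim.IsMaxPt ζ := fun w hw =>
    v.toImage.isEmbedding.injective (hξ _ (hw.map v.toImage.continuous))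
  have hcomp : v.toImage ≫ v.imageι ≫ pullback.snd W x = pullback.snd W (η ≫ x) ≫ η := by
    rw [Scheme.Hom.toImage_imageι_assoc, vsnd]
  have e1 := FibDim.rd_comp v.toImage (v.imageι ≫ pullback.snd W x) ζ
  have e2 := FibDim.rd_comp (pullback.snd W (η ≫ x)) η ζ
  rw [H28.UnivEquidim.rd_preimmersion v.toImage, add_zero] at e1
  rw [H28.UnivEquidim.rd_preimmersion η, zero_add] at e2
  rw [← e1]
  refine Eq.trans ?_ (e2.trans ((H28.UnivEquidim.rd_eq_of_isPullback (IsPullback.of_hasPullback W (η ≫ x))
    hgen hζmax fun s hs => ?_).trans hrd))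
  · congr 1
  · rw [Scheme.Hom.comp_apply, H28.FlatCl.genI_apply] at hs ⊢
    exact FDescent.maximal_of_closure_mem_irreducibleComponents hx hs

end Groth.Agent.S19582
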