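import Groth.Statements.S19583
import Groth.Agent.H28.FlatCl
-- import your own Groth.Agent.* helpers here

set_option autoImplicit false
set_option backward.isDefEq.respectTransparency false
set_option backward.isDefEq.respectTransparency.types false
universe u
open Cyc

namespace Groth.Agent.S19583

open CategoryTheory CategoryTheory.Limits AlgebraicGeometry in
/-- Let S be a separated Noetherian scheme, p : X → S a morphism from a separated scheme X (no
finiteness condition), ι : Z → X a closed immersion, and b : S' → S a blowing up of S in a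
quasi-coherent ideal with support S₀ such that (1) b restricts to a bijection between the generic
points of the irreducible components of S' and of S and (2) the strict transform Z~ of Z — the
closed subscheme of Z ×_S S' whose ideal consists, on each affine open, of the functions annihilated
by a power of the pulled-back centre — is flat over S'. Let R be a discrete valuation ring with
fraction field K and f : Spec R → S a morphism sending the generic point of Spec R into S ∖ S₀. Then
f factors uniquely through b, and for the factorisation f' : Spec R → S' the flat closure φ_f(Z) ⊆ Z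
×_S Spec R (the scheme-theoretic image of Z ×_S Spec K) coincides with Spec R ×_{S'} Z~: its ideal
sheaf equals the inverse image of the ideal of Z~ under the map Z ×_S Spec R → Z ×_S S' induced by
f'. -/
theorem result {X S Z S' : Scheme.{u}} [IsNoetherian S] [S.IsSeparated] [X.IsSeparated]
    (p : X ⟶ S) (ι : Z ⟶ X) [IsClosedImmersion ι]
    (𝓘 : S.IdealSheafData) (b : S' ⟶ S) (hb : BlowUp.IsBlowUp b 𝓘)
    (hgen : Set.BijOn b.base {s' : ↥S' | closure {s'} ∈ irreducibleComponents ↥S'} {s : ↥S | closure {s} ∈ irreducibleComponents ↥S})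
    (𝒥 : (pullback (ι ≫ p) b).IdealSheafData)
    (h𝒥 : ∀ (V : (pullback (ι ≫ p) b).affineOpens) (a : Γ(pullback (ι ≫ p) b, V.1)), a ∈ 𝒥.ideal V ↔
      BlowUp.KilledByPowerNear ((𝓘.comap (ι ≫ p)).comap (pullback.fst (ι ≫ p) b)) (Coh.structureModule (pullback (ι ≫ p) b)) V a)
    [Flat (𝒥.subschemeι ≫ pullback.snd (ι ≫ p) b)]
    (R : Type u) [CommRing R] [IsDomain R] [IsDiscreteValuationRing R] (f : Spec (CommRingCat.of R) ⟶ S)
    (hf : f.base ⟨⊥, Ideal.isPrime_bot⟩ ∉ (𝓘.support : Set ↥S)) :
    (∃! f' : Spec (CommRingCat.of R) ⟶ S', f' ≫ b = f) ∧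
      ∀ (f' : Spec (CommRingCat.of R) ⟶ S') (hf' : f' ≫ b = f),
        (pullback.map (ι ≫ p) (Spec.map (CommRingCat.ofHom (algebraMap R (FractionRing R))) ≫ f) (ι ≫ p) f (𝟙 Z) (Spec.map (CommRingCat.ofHom (algebraMap R (FractionRing R)))) (𝟙 S) ((Category.comp_id _).trans (Category.id_comp _).symm) (Category.comp_id _)).ker = 𝒥.comap (pullback.map (ι ≫ p) f (ι ≫ p) b (𝟙 Z) f' (𝟙 S) ((Category.comp_id _).trans (Category.id_comp _).symm) ((Category.comp_id f).trans hf'.symm)) := by
  obtain ⟨hfac, huniq⟩ := hb
  refine ⟨huniq _ f (H28.FlatCl.isEffCartier_comap hf), fun f' hf' => ?_⟩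
  generalize ι ≫ p = W at *
  set η := H28.FlatCl.genI R
  set j := pullback.map W (η ≫ f) W f (𝟙 Z) η (𝟙 S) ((Category.comp_id _).trans (Category.id_comp _).symm)
    (Category.comp_id _) with hj
  set m := pullback.map W f W b (𝟙 Z) f' (𝟙 S) ((Category.comp_id _).trans (Category.id_comp _).symm)
    ((Category.comp_id f).trans hf'.symm) with hm
  have jfst : j ≫ pullback.fst W f = pullback.fst W (η ≫ f) := by simp [hj]
  have jsnd : j ≫ pullback.snd W f = pullback.snd W (η ≫ f) ≫ η := by simp [hj]
  have mfst : m ≫ pullback.fst W b = pullback.fst W f := by simp [hm]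
  have msnd : m ≫ pullback.snd W b = pullback.snd W f ≫ f' := by simp [hm]
  refine le_antisymm ?_ ?_
  · have hmP : IsPullback m (pullback.snd W f) (pullback.snd W b) f' := by
      refine IsPullback.of_right ?_ msnd (IsPullback.of_hasPullback W b)
      rw [mfst, hf']
      exact IsPullback.of_hasPullback W f
    haveI hfl : Flat ((𝒥.comap m).subschemeι ≫ pullback.snd W f) := by
      rw [← Scheme.IdealSheafData.comapIso_hom_fst, Category.assoc]
      haveI : Flat (pullback.fst m 𝒥.subschemeι ≫ pullback.snd W f) :=
        MorphismProperty.of_isPullback (P := @Flat)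
          ((IsPullback.of_hasPullback m 𝒥.subschemeι).flip.paste_vert hmP) inferInstance
      infer_instance
    let q := (𝒥.comap m).subschemeι ≫ pullback.snd W f
    let l : pullback q η ⟶ pullback W (η ≫ f) :=
      pullback.lift (pullback.fst q η ≫ (𝒥.comap m).subschemeι ≫ pullback.fst W f) (pullback.snd q η) (by
        rw [← pullback.condition_assoc, Category.assoc, Category.assoc, pullback.condition]
        rfl)
    have hl : l ≫ j = pullback.fst q η ≫ (𝒥.comap m).subschemeι := by
      apply pullback.hom_ext
      · rw [Category.assoc, jfst, pullback.lift_fst, Category.assoc]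
      · rw [Category.assoc, jsnd, pullback.lift_snd_assoc, ← pullback.condition, Category.assoc]
    calc j.ker ≤ (l ≫ j).ker := Scheme.Hom.le_ker_comp _ _
      _ = (𝒥.comap m).subschemeι.ker := by
        rw [hl, Scheme.Hom.ker_comp, (pullback.fst q η).ker_eq_bot, Scheme.IdealSheafData.map_bot]
      _ = 𝒥.comap m := Scheme.IdealSheafData.ker_subschemeι _
  · rw [← Scheme.IdealSheafData.le_map_iff_comap_le, ← Scheme.Hom.ker_comp]
    refine H28.FlatCl.le_ker_of_killed _ 𝒥 (j ≫ m) ?_ fun V a ha => (h𝒥 V a).1 ha
    rw [← Scheme.IdealSheafData.comap_comp, ← Scheme.IdealSheafData.comap_comp]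
    have e : ((j ≫ m) ≫ pullback.fst W b) ≫ W = pullback.snd W (η ≫ f) ≫ η ≫ f := by
      rw [Category.assoc j m, mfst, jfst, pullback.condition]
    rw [e, Scheme.IdealSheafData.comap_comp, H28.FlatCl.comap_genI_eq_top hf, Scheme.IdealSheafData.comap_top]

end Groth.Agent.S19583
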