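import Groth.Statements.S19584
import Groth.Agent.H28.UnivEquidim
import Groth.Agent.S1682
-- import your own Groth.Agent.* helpers here

set_option autoImplicit false
set_option backward.isDefEq.respectTransparency false
set_option backward.isDefEq.respectTransparency.types false
universe u
open Cyc

namespace Groth.Agent.S19584

open CategoryTheory CategoryTheory.Limits AlgebraicGeometry in
/-- Let S be a separated Noetherian scheme, p : X → S separated of finite type, z a point of X lying
over a generic point of an irreducible component of S whose closure in its fibre p⁻¹(p z) has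
dimension r, and ι : Z → X a closed immersion from a reduced scheme with image the closure of z. Let
b : S′ → S be a blowing up (S′ Noetherian) such that the strict transform Z~ of Z — the closed
subscheme of Z ×_S S′ whose ideal consists, on each affine open, of the functions annihilated by a
power of the pulled-back centre — is flat over S′. Then Z~ → S′ is universally equidimensional of
dimension r: after any base change S″ → S′ every point of Z~ ×_{S′} S″ has local fibre dimension r
and every irreducible component of Z~ ×_{S′} S″ dominates an irreducible component of S″. (The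
published lemma takes a blow-up of the reduced scheme S_red; this statement takes a blow-up of S
itself, to which the printed argument applies unchanged.) -/
theorem result {X S Z S' : Scheme.{u}} [IsNoetherian S] [S.IsSeparated] [X.IsSeparated]
    (p : X ⟶ S) [LocallyOfFiniteType p] [QuasiCompact p] (z : X) (hz : closure {p.base z} ∈ irreducibleComponents ↥S)
    (r : ℕ) (hr : topologicalKrullDim ↥(closure ({p.asFiber z} : Set ↥(p.fiber (p.base z)))) = r)
    (ι : Z ⟶ X) [IsClosedImmersion ι] [IsReduced Z] (hZ : Set.range ι.base = closure {z})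
    [IsNoetherian S'] (𝓘 : S.IdealSheafData) (b : S' ⟶ S) (hb : BlowUp.IsBlowUp b 𝓘)
    (𝒥 : (pullback (ι ≫ p) b).IdealSheafData)
    (h𝒥 : ∀ (V : (pullback (ι ≫ p) b).affineOpens) (a : Γ(pullback (ι ≫ p) b, V.1)), a ∈ 𝒥.ideal V ↔
      BlowUp.KilledByPowerNear ((𝓘.comap (ι ≫ p)).comap (pullback.fst (ι ≫ p) b)) (Coh.structureModule (pullback (ι ≫ p) b)) V a)
    [Flat (𝒥.subschemeι ≫ pullback.snd (ι ≫ p) b)]
    (S'' : Scheme.{u}) (g : S'' ⟶ S') :
    (∀ w : ↥(pullback (𝒥.subschemeι ≫ pullback.snd (ι ≫ p) b) g),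
        FlatMor.fibreDimAt (pullback.snd (𝒥.subschemeι ≫ pullback.snd (ι ≫ p) b) g) w = r) ∧
      ∀ C ∈ irreducibleComponents ↥(pullback (𝒥.subschemeι ≫ pullback.snd (ι ≫ p) b) g),
        closure ((pullback.snd (𝒥.subschemeι ≫ pullback.snd (ι ≫ p) b) g).base '' C) ∈ irreducibleComponents ↥S'' := by
  haveI : LocallyOfFinitePresentation (𝒥.subschemeι ≫ pullback.snd (ι ≫ p) b) :=
    H28.UnivEquidim.locallyOfFinitePresentation_of_noetherian _
  refine H28.UnivEquidim.univ_equidim (𝒥.subschemeι ≫ pullback.snd (ι ≫ p) b) r (fun ξ hξ => ?_) g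
  obtain ⟨z₀, hz₀, hgen, hrd⟩ := H28.UnivEquidim.exists_generic p z r hr ι hZ
  haveI : IsLocallyNoetherian (pullback (ι ≫ p) b) := LocallyOfFiniteType.isLocallyNoetherian (pullback.snd (ι ≫ p) b)
  set E := (𝓘.comap (ι ≫ p)).comap (pullback.fst (ι ≫ p) b) with hE
  have hJ : ∀ (V : (pullback (ι ≫ p) b).affineOpens) (a : Γ(pullback (ι ≫ p) b, V.1)), a ∈ 𝒥.ideal V ↔
      ∃ n : ℕ, ∀ c ∈ (E ^ n).ideal V, c * a = 0 := fun V a => h𝒥 V a
  have hy : (ι ≫ p) (pullback.fst (ι ≫ p) b (𝒥.subschemeι ξ)) ∈ 𝓘.support.compl := by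
    intro hc
    refine H28.UnivEquidim.not_mem_support_of_isMaxPt E 𝒥 hJ ξ hξ ?_
    rw [hE, Scheme.IdealSheafData.support_comap, Scheme.IdealSheafData.support_comap]
    exact hc
  haveI := S1682.result 𝓘 b hb
  obtain ⟨y', hy', hfy'⟩ := H28.UnivEquidim.exists_lift_of_iso (ι ≫ p) b 𝓘.support.compl hy
    (hgen (pullback.fst (ι ≫ p) b (𝒥.subschemeι ξ)))
  have hy'E : y' ∉ (E.support : Set ↥(pullback (ι ≫ p) b)) := by
    intro hc
    rw [hE, Scheme.IdealSheafData.support_comap, Scheme.IdealSheafData.support_comap] at hc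
    exact hy ((hy'.map (pullback.fst (ι ≫ p) b ≫ (ι ≫ p)).continuous).mem_closed 𝓘.support.isClosed hc)
  have hmax : H28.UnivEquidim.IsMaxPt (𝒥.subschemeι ξ) := by
    intro w hw
    have hwE : w ∉ (E.support : Set ↥(pullback (ι ≫ p) b)) := fun hc =>
      H28.UnivEquidim.not_mem_support_of_isMaxPt E 𝒥 hJ ξ hξ (hw.mem_closed E.support.isClosed hc)
    obtain ⟨ξ', rfl⟩ : w ∈ Set.range 𝒥.subschemeι := by
      rw [Scheme.IdealSheafData.range_subschemeι]
      exact H28.UnivEquidim.mem_support_of_not_mem E 𝒥 hJ hwE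
    rw [hξ ξ' (𝒥.subschemeι.isEmbedding.isInducing.specializes_iff.1 hw)]
  rw [FibDim.rd_comp, H28.UnivEquidim.rd_preimmersion 𝒥.subschemeι, add_zero,
    FibDim.rd_baseChange_eq_of_minimal (IsPullback.of_hasPullback (ι ≫ p) b) _ fun w hw _ _ => hmax w hw,
    ← hmax y' hy', hfy', hrd]

end Groth.Agent.S19584
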