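import Groth.Statements.S19586
import Groth.Agent.S14477

set_option autoImplicit false
universe u
open KaehlerDifferential
open LocInt

namespace Groth.Agent.S19586
open scoped TensorProduct

set_option maxHeartbeats 1000000 in
lemma smooth_iff_exists (A B R : Type u) [CommRing A] [CommRing B] [CommRing R]
    [Algebra A B] [Algebra B R] [Algebra A R] [IsScalarTower A B R] [Algebra.Smooth A B]
    (g : B) (hg : IsSMulRegular B g) (hsurj : Function.Surjective (algebraMap B R))
    (hker : RingHom.ker (algebraMap B R) = Ideal.span {g}) (p : Ideal R) [p.IsPrime]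
    (q : Ideal B) [q.IsPrime] (hq : q = p.comap (algebraMap B R))
    (Bq Rp : Type u) [CommRing Bq] [CommRing Rp] [Algebra B Bq] [IsLocalization.AtPrime Bq q]
    [Algebra R Rp] [IsLocalization.AtPrime Rp p] [Algebra A Bq] [IsScalarTower A B Bq]
    [Algebra A Rp] [IsScalarTower A R Rp] [Algebra Bq Rp] [IsScalarTower A Bq Rp]
    (hcomm : ∀ b, algebraMap Bq Rp (algebraMap B Bq b) = algebraMap R Rp (algebraMap B R b)) :
    Algebra.FormallySmooth A Rp ↔ ∃ φ : Ω[B⁄A] →ₗ[B] B, algebraMap B R (φ (KaehlerDifferential.D A B g)) ∉ p := by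
  classical
  haveI := IsLocalization.AtPrime.isLocalRing Bq q
  haveI : Algebra.FormallyEtale B Bq := Algebra.FormallyEtale.of_isLocalization q.primeCompl
  haveI : Algebra.FormallySmooth A Bq := Algebra.FormallySmooth.comp A B Bq
  haveI := KaehlerDifferential.isLocalizedModule_map A B Bq q.primeCompl
  let ι := algebraMap B Bq
  have hmem : ∀ b, algebraMap B R b ∈ p ↔ b ∈ q := fun b => by rw [hq]; rfl
  have hsurjP : Function.Surjective (algebraMap Bq Rp) := by
    intro x
    obtain ⟨r, s, rfl⟩ := IsLocalization.exists_mk'_eq p.primeCompl x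
    obtain ⟨b, rfl⟩ := hsurj r
    obtain ⟨c, hc⟩ := hsurj s
    have hc' : c ∈ q.primeCompl := fun h => s.2 (hc ▸ (hmem c).2 h)
    refine ⟨IsLocalization.mk' Bq b ⟨c, hc'⟩, ?_⟩
    rw [eq_comm, IsLocalization.mk'_eq_iff_eq_mul, ← hc, ← hcomm, ← hcomm, ← map_mul, IsLocalization.mk'_spec]
  have hkerP : RingHom.ker (algebraMap Bq Rp) = Ideal.span {ι g} := by
    refine le_antisymm (fun x hx => ?_) ?_
    · obtain ⟨b, s, rfl⟩ := IsLocalization.exists_mk'_eq q.primeCompl x
      have h0 : algebraMap R Rp (algebraMap B R b) = 0 := by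
        rw [← hcomm, ← IsLocalization.mk'_spec Bq b s, map_mul, RingHom.mem_ker.1 hx, zero_mul]
      obtain ⟨t, ht⟩ := (IsLocalization.map_eq_zero_iff p.primeCompl Rp _).1 h0
      obtain ⟨t', ht'⟩ := hsurj t
      have ht'q : t' ∈ q.primeCompl := fun h => t.2 (ht' ▸ (hmem t').2 h)
      obtain ⟨c, hc⟩ : ∃ c, c * g = t' * b := Ideal.mem_span_singleton'.1 (hker ▸ (by
        rw [RingHom.mem_ker, map_mul, ht', ht] : t' * b ∈ RingHom.ker (algebraMap B R)))
      rw [Ideal.mem_span_singleton']
      refine ⟨IsLocalization.mk' Bq c (⟨t', ht'q⟩ * s), ?_⟩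
      rw [mul_comm, IsLocalization.mul_mk'_eq_mk'_of_mul, mul_comm g, hc]
      rw [IsLocalization.mk'_eq_iff_eq, Submonoid.coe_mul]
      congr 1
      ring
    · rw [Ideal.span_le, Set.singleton_subset_iff, SetLike.mem_coe, RingHom.mem_ker, hcomm,
        show algebraMap B R g = 0 by rw [← RingHom.mem_ker, hker]; exact Ideal.mem_span_singleton_self g, map_zero]
  let I := RingHom.ker (algebraMap Bq Rp)
  have hgI : ι g ∈ I := by rw [show I = _ from hkerP]; exact Ideal.mem_span_singleton_self _
  let cg : I.Cotangent := Ideal.toCotangent I ⟨ι g, hgI⟩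
  have hgen : ∀ z : I.Cotangent, ∃ a : Bq, a • cg = z := by
    intro z
    obtain ⟨⟨x, hx⟩, rfl⟩ := Ideal.toCotangent_surjective I z
    obtain ⟨a, rfl⟩ : ∃ a, a * ι g = x := Ideal.mem_span_singleton'.1 (hkerP ▸ hx)
    exact ⟨a, (map_smul (Ideal.toCotangent I) a ⟨ι g, hgI⟩).symm⟩
  let δ := KaehlerDifferential.kerCotangentToTensor A Bq Rp
  have hδ : δ cg = (1 : Rp) ⊗ₜ[Bq] KaehlerDifferential.D A Bq (ι g) :=
    KaehlerDifferential.kerCotangentToTensor_toCotangent A Bq Rp _
  have hD : KaehlerDifferential.D A Bq (ι g) = KaehlerDifferential.map A A B Bq (KaehlerDifferential.D A B g) :=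
    (KaehlerDifferential.map_D A A B Bq g).symm
  rw [Algebra.FormallySmooth.iff_split_injection hsurjP]
  constructor
  · rintro ⟨l, hl⟩
    by_contra hall
    simp only [not_exists, not_not] at hall
    obtain ⟨N, π, hπ⟩ := Module.Finite.exists_fin' B (Ω[B⁄A])
    obtain ⟨σ, hσ⟩ := Module.projective_lifting_property π LinearMap.id hπ
    have hdec : KaehlerDifferential.D A Bq (ι g) ∈
        IsLocalRing.maximalIdeal Bq • (⊤ : Submodule Bq (Ω[Bq⁄A])) := by
      rw [hD, ← LinearMap.id_apply (R := B) (KaehlerDifferential.D A B g), ← hσ, LinearMap.comp_apply,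
        pi_eq_sum_univ' (σ (KaehlerDifferential.D A B g)), map_sum, map_sum]
      refine Submodule.sum_mem _ fun k _ => ?_
      rw [map_smul, map_smul, ← algebraMap_smul Bq (σ (KaehlerDifferential.D A B g) k) (KaehlerDifferential.map A A B Bq (π (Pi.single k 1)))]
      refine Submodule.smul_mem_smul ?_ Submodule.mem_top
      rw [IsLocalization.AtPrime.to_map_mem_maximal_iff Bq q]
      exact (hmem _).1 (hall (LinearMap.proj k ∘ₗ σ))
    have hcg : cg ∈ IsLocalRing.maximalIdeal Bq • (⊤ : Submodule Bq I.Cotangent) := by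
      have h1 : cg = (l ∘ₗ (TensorProduct.mk Bq Rp (Ω[Bq⁄A]) 1)) (KaehlerDifferential.D A Bq (ι g)) := by
        rw [LinearMap.comp_apply, TensorProduct.mk_apply, ← hδ]
        exact (LinearMap.congr_fun hl cg).symm
      rw [h1]
      have h2 := Submodule.mem_map_of_mem (f := l ∘ₗ (TensorProduct.mk Bq Rp (Ω[Bq⁄A]) 1)) hdec
      rw [Submodule.map_smul''] at h2
      exact Submodule.smul_mono le_rfl le_top h2
    have hspan : (⊤ : Submodule Bq I.Cotangent) ≤ IsLocalRing.maximalIdeal Bq • (⊤ : Submodule Bq I.Cotangent) := by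
      intro z _
      obtain ⟨a, rfl⟩ := hgen z
      exact Submodule.smul_mem _ _ hcg
    have hfg : (⊤ : Submodule Bq I.Cotangent).FG := ⟨{cg}, by
      rw [Finset.coe_singleton, eq_top_iff]
      exact fun z _ => Submodule.mem_span_singleton.2 (hgen z)⟩
    have hz : cg = 0 := (Submodule.mem_bot Bq).1 (Submodule.eq_bot_of_le_smul_of_le_jacobson_bot _ _ hfg hspan
      (IsLocalRing.maximalIdeal_le_jacobson _) ▸ (Submodule.mem_top : cg ∈ _))
    rw [Ideal.toCotangent_eq_zero] at hz
    replace hz : ι g ∈ Ideal.span {ι g} ^ 2 := by rw [← hkerP]; exact hz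
    rw [pow_two, Ideal.span_singleton_mul_span_singleton, Ideal.mem_span_singleton'] at hz
    obtain ⟨c, hc⟩ := hz
    have hgm : ι g ∈ IsLocalRing.maximalIdeal Bq := by
      rw [IsLocalization.AtPrime.to_map_mem_maximal_iff Bq q, ← hmem,
        show algebraMap B R g = 0 by rw [← RingHom.mem_ker, hker]; exact Ideal.mem_span_singleton_self g]
      exact zero_mem p
    have hu : IsUnit (1 - c * ι g) := IsLocalRing.isUnit_one_sub_self_of_mem_nonunits _
      (by exact (IsLocalRing.mem_maximalIdeal _).1 (Ideal.mul_mem_left _ c hgm))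
    have h0 : ι g = 0 := hu.mul_left_eq_zero.1 (by
      change c * (ι g * ι g) = ι g at hc
      linear_combination -hc)
    obtain ⟨s, hs⟩ := (IsLocalization.map_eq_zero_iff q.primeCompl Bq g).1 h0
    have : (s : B) = 0 := hg (by simp only [smul_eq_mul, mul_zero]; rw [mul_comm]; exact hs)
    exact s.2 (this ▸ zero_mem q)
  · rintro ⟨φ, hφ⟩
    have hu : IsUnit (ι (φ (KaehlerDifferential.D A B g))) :=
      IsLocalization.map_units Bq (⟨_, fun h => hφ ((hmem _).2 h)⟩ : q.primeCompl)
    let φ₀ : Ω[Bq⁄A] →ₗ[B] Bq := IsLocalizedModule.lift q.primeCompl (KaehlerDifferential.map A A B Bq)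
      (Algebra.linearMap B Bq ∘ₗ φ) (fun s => by
        rw [Module.End.isUnit_iff]
        have hs : IsUnit (ι s) := IsLocalization.map_units Bq s
        refine ⟨fun x y h => hs.mul_left_cancel ?_, fun y => ⟨↑hs.unit⁻¹ * y, ?_⟩⟩
        · simpa [Module.algebraMap_end_apply, Algebra.smul_def] using h
        · rw [Module.algebraMap_end_apply, Algebra.smul_def, ← mul_assoc, hs.mul_val_inv, one_mul])
    let φ' : Ω[Bq⁄A] →ₗ[Bq] Bq := φ₀.extendScalarsOfIsLocalization q.primeCompl Bq
    have hφ' : φ' (KaehlerDifferential.D A Bq (ι g)) = ι (φ (KaehlerDifferential.D A B g)) := by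
      rw [hD]
      change φ₀ _ = _
      exact IsLocalizedModule.lift_apply _ _ _ _ _
    let c : I.Cotangent := (↑hu.unit⁻¹ : Bq) • cg
    let θ : Rp →ₗ[Bq] I.Cotangent :=
      (LinearMap.ker (Algebra.linearMap Bq Rp)).liftQ (LinearMap.toSpanSingleton Bq I.Cotangent c) (fun x hx => by
        rw [LinearMap.mem_ker, LinearMap.toSpanSingleton_apply]
        obtain ⟨y, hy⟩ := Ideal.toCotangent_surjective I c
        rw [← hy, ← map_smul, Ideal.toCotangent_eq_zero, pow_two]
        exact Ideal.mul_mem_mul (RingHom.mem_ker.2 hx) y.2) ∘ₗ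
        ((Algebra.linearMap Bq Rp).quotKerEquivOfSurjective hsurjP).symm.toLinearMap
    have hθ : ∀ x, θ (algebraMap Bq Rp x) = x • c := fun x => by
      have : ((Algebra.linearMap Bq Rp).quotKerEquivOfSurjective hsurjP).symm (algebraMap Bq Rp x) =
          Submodule.Quotient.mk x := (LinearEquiv.symm_apply_eq _).2 rfl
      simp only [θ, LinearMap.comp_apply, LinearEquiv.coe_coe, this]
      rfl
    refine ⟨θ ∘ₗ (TensorProduct.rid Bq Rp).toLinearMap ∘ₗ TensorProduct.map LinearMap.id φ', LinearMap.ext fun z => ?_⟩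
    obtain ⟨a, rfl⟩ := hgen z
    rw [map_smul, LinearMap.id_apply, LinearMap.comp_apply]
    congr 1
    change θ (TensorProduct.rid Bq Rp (TensorProduct.map LinearMap.id φ' (δ cg))) = cg
    rw [hδ, TensorProduct.map_tmul, TensorProduct.rid_tmul, LinearMap.id_apply, hφ', Algebra.smul_def, mul_one, hθ,
      smul_smul, hu.mul_val_inv, one_smul]


/-- Let A → B be a smooth ring map with Ω_{B/A} of rank n at every prime of B, g ∈ B a nonzerodivisor
and R = B/gB, so that Spec R is a hypersurface of virtual relative dimension n − 1 over Spec A. Let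
J ⊆ R be the annihilator of the n-th exterior power of Ω_{R/A} and Z = V(J) ⊆ Spec R. Then the
underlying set of Z is exactly the set of primes at which R is not smooth over A: for a prime p of
R, J ⊆ p if and only if the localization R_p is not formally smooth over A. -/
theorem result (A B R : Type u) [CommRing A] [CommRing B] [CommRing R]
    [Algebra A B] [Algebra B R] [Algebra A R] [IsScalarTower A B R] [Algebra.Smooth A B] (n : ℕ)
    (hn : ∀ p : PrimeSpectrum B, Module.rankAtStalk (Ω[B⁄A]) p = n)
    (g : B) (hg : IsSMulRegular B g) (hsurj : Function.Surjective (algebraMap B R))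
    (hker : RingHom.ker (algebraMap B R) = Ideal.span {g}) (p : PrimeSpectrum R) :
    (⋀[R]^n (Ω[R⁄A])).annihilator ≤ p.asIdeal ↔ p ∉ Algebra.smoothLocus A R := by
  classical
  rw [S14477.result A B R n hn g hg hsurj hker]
  let q := p.asIdeal.comap (algebraMap B R)
  letI : Algebra (Localization.AtPrime q) (Localization.AtPrime p.asIdeal) :=
    (Localization.localRingHom q p.asIdeal (algebraMap B R) rfl).toAlgebra
  have hcomm : ∀ b, algebraMap (Localization.AtPrime q) (Localization.AtPrime p.asIdeal)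
      (algebraMap B (Localization.AtPrime q) b) = algebraMap R (Localization.AtPrime p.asIdeal) (algebraMap B R b) :=
    Localization.localRingHom_to_map q p.asIdeal _ rfl
  haveI : IsScalarTower A (Localization.AtPrime q) (Localization.AtPrime p.asIdeal) :=
    IsScalarTower.of_algebraMap_eq fun a => by
      rw [IsScalarTower.algebraMap_apply A B (Localization.AtPrime q), hcomm, ← IsScalarTower.algebraMap_apply A B R,
        ← IsScalarTower.algebraMap_apply A R (Localization.AtPrime p.asIdeal)]
  have key := smooth_iff_exists A B R g hg hsurj hker p.asIdeal q rfl (Localization.AtPrime q)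
    (Localization.AtPrime p.asIdeal) hcomm
  change _ ↔ ¬ Algebra.FormallySmooth A (Localization.AtPrime p.asIdeal)
  rw [key, not_exists, Ideal.span_le]
  simp only [not_not, Set.range_subset_iff, SetLike.mem_coe]


end Groth.Agent.S19586
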