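import Groth.Statements.S1959
import Mathlib

set_option autoImplicit false
universe u
open Polynomial
open EtAlg

namespace Groth.Agent.S1959

/-- Let I be an ideal of a ring A, A -> B an integral ring map and b an element of B whose image in B/IB
is idempotent. Then there are d ≥ 1 and a monic polynomial f over A with f(b) = 0 whose reduction
modulo I is x^d (x - 1)^d. -/
theorem result (A B : Type u) [CommRing A] [CommRing B] [Algebra A B]
    [Algebra.IsIntegral A B] (I : Ideal A) (b : B)
    (hb : IsIdempotentElem (Ideal.Quotient.mk (I.map (algebraMap A B)) b)) :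
    ∃ (f : A[X]) (d : ℕ), f.Monic ∧ 1 ≤ d ∧ aeval b f = 0 ∧
      f.map (Ideal.Quotient.mk I) = X ^ d * (X - 1) ^ d := by
  have hb' : b ^ 2 - b ∈ I.map (algebraMap A B) := by
    have h := hb.eq
    rw [← map_mul, Ideal.Quotient.eq] at h
    simpa [pow_two] using h
  obtain ⟨g, hg, hg0, hgI⟩ := Polynomial.exists_monic_aeval_eq_zero_forall_mem_of_mem_map hb'
  rcases subsingleton_or_nontrivial A with hA | hA
  · exact ⟨0, 1, Subsingleton.elim _ _, le_rfl, by simp, Subsingleton.elim _ _⟩
  have hgmap : g.map (Ideal.Quotient.mk I) = X ^ g.natDegree := by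
    ext i
    rw [coeff_map, coeff_X_pow]
    split
    · next h => subst h; rw [hg.coeff_natDegree, map_one]
    · next h => exact Ideal.Quotient.eq_zero_iff_mem.mpr (hgI i h)
  have hq : (X ^ 2 - X : A[X]).natDegree ≠ 0 := by
    have : (X ^ 2 - X : A[X]).natDegree = 2 := by compute_degree!
    lia
  have hqm : (X ^ 2 - X : A[X]).Monic := by monicity!
  refine ⟨(g * X).comp (X ^ 2 - X), g.natDegree + 1, (hg.mul monic_X).comp hqm hq,
    Nat.succ_le_succ (Nat.zero_le _), ?_, ?_⟩
  · simp [aeval_comp, hg0]
  · rw [map_comp, Polynomial.map_mul, map_X, hgmap, ← pow_succ]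
    simp only [Polynomial.map_sub, Polynomial.map_pow, map_X, X_pow_comp]
    rw [← mul_pow]
    congr 1
    ring

end Groth.Agent.S1959
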