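import Groth.Statements.S19590
import Mathlib.Data.Matrix.Basic
import Mathlib.Data.ZMod.Basic
import Mathlib.Algebra.Field.ZMod
import Mathlib.GroupTheory.OrderOfElement
import Mathlib.LinearAlgebra.Matrix.GeneralLinearGroup.Defs
import Mathlib.Tactic.NoncommRing

set_option autoImplicit false
open BddFin

namespace Groth.Agent.S19590

/-- For every n, the orders of the finite subgroups of GL_n(ℤ) are bounded: there is B such that every
finite subgroup of GL_n(ℤ) has at most B elements. -/
theorem result (n : ℕ) :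
    ∃ B : ℕ, ∀ H : Subgroup (Matrix.GeneralLinearGroup (Fin n) ℤ), Finite H → Nat.card H ≤ B := by
  classical
  let π : Matrix (Fin n) (Fin n) ℤ →+* Matrix (Fin n) (Fin n) (ZMod 3) := (Int.castRingHom (ZMod 3)).mapMatrix
  have hdvd : ∀ A : Matrix (Fin n) (Fin n) ℤ, π A = 0 → ∃ B, A = (3 : ℤ) • B := fun A hA => by
    have h : ∀ i j, (3 : ℤ) ∣ A i j := fun i j =>
      (ZMod.intCast_zmod_eq_zero_iff_dvd (A i j) 3).1 (congrFun (congrFun hA i) j)
    choose B hB using h
    exact ⟨B, Matrix.ext fun i j => hB i j⟩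
  have hsmul : ∀ A : Matrix (Fin n) (Fin n) ℤ, π ((3 : ℤ) • A) = 0 := fun A => by
    rw [map_zsmul]
    ext i j
    show (3 : ℤ) • _ = (0 : ZMod 3)
    rw [zsmul_eq_mul, show ((3 : ℤ) : ZMod 3) = 0 from by decide, zero_mul]
  have hprime : ∀ (M : Matrix (Fin n) (Fin n) ℤ) (l : ℕ), l.Prime → π M = 1 → M ^ l = 1 → M = 1 := by
    intro M l hl hM hMl
    have key : ∀ a : ℕ, 1 ≤ a → ∃ N, M = 1 + (3 : ℤ) ^ a • N := by
      intro a ha
      induction a, ha using Nat.le_induction with
      | base =>
        obtain ⟨B, hB⟩ := hdvd (M - 1) (by rw [map_sub, hM, map_one, sub_self])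
        exact ⟨B, by rw [pow_one, ← hB, add_sub_cancel]⟩
      | succ a ha ih =>
        obtain ⟨N, hN⟩ := ih
        suffices hN0 : π N = 0 by
          obtain ⟨B, rfl⟩ := hdvd N hN0
          exact ⟨B, by rw [hN, smul_smul, ← pow_succ]⟩
        by_cases hl3 : l = 3
        · subst hl3
          obtain ⟨b, rfl⟩ : ∃ b, a = b + 1 := ⟨a - 1, by omega⟩
          have h : (3 : ℤ) ^ (b + 2) • (N + (3 : ℤ) • ((3 : ℤ) ^ b • (N * N) +
              ((3 : ℤ) ^ b * (3 : ℤ) ^ b) • (N * N * N))) = 0 := by
            have e : (1 + (3 : ℤ) ^ (b + 1) • N) ^ 3 = 1 + (3 : ℤ) • ((3 : ℤ) ^ (b + 1) • N) +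
                (3 : ℤ) • (((3 : ℤ) ^ (b + 1) • N) * ((3 : ℤ) ^ (b + 1) • N)) +
                ((3 : ℤ) ^ (b + 1) • N) * ((3 : ℤ) ^ (b + 1) • N) * ((3 : ℤ) ^ (b + 1) • N) := by
              generalize (3 : ℤ) ^ (b + 1) • N = Y
              noncomm_ring
            rw [← hN, hMl, smul_mul_smul_comm, smul_mul_smul_comm, smul_smul, smul_smul, add_assoc, add_assoc,
              left_eq_add, ← add_assoc] at e
            rw [← e]
            simp only [smul_add, smul_smul, add_assoc]
            congr 2 <;> first | ring_nf | (congr 1; ring_nf)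
          have h' := (smul_eq_zero.1 h).resolve_left (pow_ne_zero _ (by norm_num))
          have h'' := congrArg π h'
          rwa [map_add, hsmul, add_zero, map_zero] at h''
        · have h : (∑ i ∈ Finset.range l, M ^ i) * N = 0 := by
            have h1 : (∑ i ∈ Finset.range l, M ^ i) * (M - 1) = 0 := by rw [geom_sum_mul, hMl, sub_self]
            rw [hN, add_sub_cancel_left, mul_smul_comm, ← hN] at h1
            exact (smul_eq_zero.1 h1).resolve_left (pow_ne_zero _ (by norm_num))
          have h' := congrArg π h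
          rw [map_mul, map_sum, Finset.sum_congr rfl (fun i _ => by rw [map_pow, hM, one_pow]),
            Finset.sum_const, Finset.card_range, map_zero, smul_mul_assoc, one_mul] at h'
          refine Matrix.ext fun i j => ?_
          haveI : Fact (Nat.Prime 3) := ⟨Nat.prime_three⟩
          have hij := congrFun (congrFun h' i) j
          rw [Matrix.smul_apply, Matrix.zero_apply, nsmul_eq_mul, mul_eq_zero] at hij
          refine hij.resolve_left fun h0 => ?_
          rw [ZMod.natCast_eq_zero_iff, Nat.prime_dvd_prime_iff_eq Nat.prime_three hl] at h0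
          exact hl3 h0.symm
    refine Matrix.ext fun i j => sub_eq_zero.1 ?_
    obtain ⟨N, hN⟩ := key ((M i j - (1 : Matrix (Fin n) (Fin n) ℤ) i j).natAbs + 1) (by omega)
    refine Int.eq_zero_of_abs_lt_dvd (m := (3 : ℤ) ^ ((M i j - (1 : Matrix (Fin n) (Fin n) ℤ) i j).natAbs + 1)) ⟨N i j, ?_⟩ ?_
    · conv_lhs => rw [hN, Matrix.add_apply, add_sub_cancel_left, Matrix.smul_apply, smul_eq_mul]
    · rw [Int.abs_eq_natAbs]
      exact_mod_cast (Nat.lt_pow_self (by norm_num : 1 < 3)).trans
        (Nat.pow_lt_pow_right (by norm_num) (Nat.lt_succ_self _))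
  have hfinord : ∀ (d : ℕ) (M : Matrix (Fin n) (Fin n) ℤ), 0 < d → π M = 1 → M ^ d = 1 → M = 1 := by
    intro d
    induction d using Nat.strong_induction_on with
    | h d ih =>
      intro M hd hM hMd
      by_cases hd1 : d = 1
      · rwa [hd1, pow_one] at hMd
      obtain ⟨l, hl, e, rfl⟩ := Nat.exists_prime_and_dvd hd1
      refine hprime M l hl hM (ih e ?_ (M ^ l) (Nat.pos_of_mul_pos_left hd) (by rw [map_pow, hM, one_pow]) (by rw [← pow_mul, hMd]))
      exact lt_mul_of_one_lt_left (Nat.pos_of_mul_pos_left hd) hl.one_lt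
  refine ⟨Nat.card (Matrix (Fin n) (Fin n) (ZMod 3)), fun H hH => ?_⟩
  haveI := hH
  refine Nat.card_le_card_of_injective (fun h : H => π h.1.1) fun a b hab => ?_
  have h1 : π (a * b⁻¹ : H).1.1 = 1 := by
    rw [Subgroup.coe_mul, Units.val_mul, map_mul, show π a.1.1 = π b.1.1 from hab, ← map_mul, ← Units.val_mul,
      ← Subgroup.coe_mul, mul_inv_cancel, Subgroup.coe_one, Units.val_one, map_one]
  have h2 := hfinord (orderOf (a * b⁻¹)) _ (isOfFinOrder_of_finite _).orderOf_pos h1
    (by rw [← Units.val_pow_eq_pow_val, ← Subgroup.coe_pow, pow_orderOf_eq_one, Subgroup.coe_one, Units.val_one])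
  exact mul_inv_eq_one.1 (Subtype.ext (Units.ext h2))

end Groth.Agent.S19590
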