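import Groth.Statements.S19591
import Mathlib.FieldTheory.Perfect
import Mathlib.LinearAlgebra.Dual.Lemmas
import Mathlib.Algebra.CharP.Two

set_option autoImplicit false
universe u v
open BddFin

namespace Groth.Agent.S19591

/-- Let K be a perfect field of characteristic 2, V a finite-dimensional K-vector space with dim V > 2
and q a quadratic form on V whose polar bilinear form is non-degenerate. Then q represents zero
non-trivially. (Non-degeneracy of the polar form, which is alternating in characteristic 2, forces
dim V to be even, as the published lemma notes.) -/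
theorem result
    (K : Type u) [Field K] [CharP K 2] [PerfectField K]
    (V : Type v) [AddCommGroup V] [Module K V] [FiniteDimensional K V]
    (hV : 2 < Module.finrank K V) (q : QuadraticForm K V)
    (hq : (QuadraticMap.polarBilin q).Nondegenerate) :
    ∃ v : V, v ≠ 0 ∧ q v = 0 := by
  classical
  haveI : Fact (Nat.Prime 2) := ⟨Nat.prime_two⟩
  haveI : PerfectRing K 2 := PerfectField.toPerfectRing 2
  haveI : Nontrivial V := Module.nontrivial_of_finrank_pos (R := K) (by omega)
  obtain ⟨v, hv⟩ := exists_ne (0 : V)
  by_cases hqv : q v = 0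
  · exact ⟨v, hv, hqv⟩
  have hker : Module.finrank K V ≤ Module.finrank K (LinearMap.ker (QuadraticMap.polarBilin q v)) + 1 := by
    have h := LinearMap.finrank_range_add_finrank_ker (QuadraticMap.polarBilin q v)
    have h1 := Submodule.finrank_le (LinearMap.range (QuadraticMap.polarBilin q v))
    rw [Module.finrank_self] at h1
    omega
  obtain ⟨w, hw, hwv⟩ : ∃ w, QuadraticMap.polarBilin q v w = 0 ∧ w ∉ Submodule.span K {v} := by
    by_contra hc
    push Not at hc
    have hle : LinearMap.ker (QuadraticMap.polarBilin q v) ≤ Submodule.span K {v} :=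
      fun w hw => hc w (LinearMap.mem_ker.1 hw)
    have := Submodule.finrank_mono hle
    rw [finrank_span_singleton hv] at this
    omega
  by_cases hqw : q w = 0
  · exact ⟨w, fun h => hwv (h ▸ zero_mem _), hqw⟩
  obtain ⟨t, ht⟩ := surjective_frobenius K 2 (q v / q w)
  rw [frobenius_def] at ht
  refine ⟨v + t • w, fun h => ?_, ?_⟩
  · have ht0 : t ≠ 0 := by
      rintro rfl
      rw [zero_smul, add_zero] at h
      exact hv h
    refine hwv (Submodule.mem_span_singleton.2 ⟨-t⁻¹, ?_⟩)
    rw [eq_neg_of_add_eq_zero_left h, smul_neg, neg_smul, neg_neg, smul_smul, inv_mul_cancel₀ ht0, one_smul]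
  · rw [QuadraticMap.map_add (f := q), QuadraticMap.map_smul, QuadraticMap.polar_smul_right,
      show QuadraticMap.polar q v w = 0 from hw, smul_zero, add_zero, smul_eq_mul, ← pow_two t, ht,
      div_mul_cancel₀ _ hqw, CharTwo.add_self_eq_zero]

end Groth.Agent.S19591
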