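import Groth.Statements.S19593
import Groth.Agent.S9707
import Groth.Agent.DecShLib.Sect
import Groth.Agent.VAmpleX.Segre

set_option autoImplicit false
universe u
open CategoryTheory AlgebraicGeometry
open PicF

namespace Groth.Agent.S19593
theorem S12468_inv {Y S : Scheme.{u}} (f : Y ⟶ S) [QuasiCompact f] (A : Y.Modules) (hA : RelProj.IsRelVeryAmple f A) : PicF.IsInvertible A := by
  obtain ⟨E, hE, 𝒮, j, hj, P, p, chart, hP, O1, lam, hO1, g, hg, hgp, ⟨e⟩⟩ := hA
  have hr := Groth.Agent.S5722.result f E hE 𝒮 j hj P p chart hP O1 lam hO1 g hgp g.isEmbedding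
  exact H23.PicMul.isInvertible_of_iso e.symm (AmpleX.isInvertible_of_isRelAmple hr)

/-- Let k be an infinite field, Y a scheme proper over k with a relatively very ample O_Y-module A (the
pullback of O(1) along an immersion of Y into the Proj of a symmetric algebra over k), and y_1, …,
y_m finitely many points of Y. Then some global section of A generates A at every y_i. (The
published statement takes Y projective over k and A a very ample line bundle; here Y is proper over
k and A very ample relative to Y → Spec k, which makes Y projective.) -/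
theorem result
    (k : Type u) [Field k] [Infinite k] (Y : Scheme.{u}) (f : Y ⟶ Spec (CommRingCat.of k)) [IsProper f]
    (A : Y.Modules) (hA : RelProj.IsRelVeryAmple f A)
    (ι : Type) [Finite ι] (y : ι → ↥Y) :
    ∃ s : Coh.structureModule Y ⟶ A, ∀ i : ι, y i ∈ CohB1.genLocus A s := by
  letI : Y.Over (Spec (CommRingCat.of k)) := ⟨f⟩
  haveI : IsAffine (Spec (CommRingCat.of k)) := inferInstance
  have hinv := S12468_inv f A hA
  obtain ⟨n, i, hi, hc, ⟨e⟩⟩ := Groth.Agent.S9707.result f A hinv hA
  let Z := ULift.{u} ℤ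
  let r₀ : Y ⟶ CohB1.ProjSpace n Z := i ≫ Limits.pullback.fst (CohB1.ProjSpace.toSpec n Z) (specULiftZIsTerminal.from _)
  let τ₀ : (Scheme.Modules.pullback r₀).obj (Twist.twistProjSpace n Z 1) ≅ A :=
    ((Scheme.Modules.pullbackComp i (Limits.pullback.fst (CohB1.ProjSpace.toSpec n Z) (specULiftZIsTerminal.from _))).app _).symm ≪≫ e.symm
  let x : ULift.{u} (Fin (n + 1)) → Γ(A, ⊤) := fun a => τ₀.hom.app ⊤ (ProjUP.pullSec r₀ _ (ProjUP.coord n Z a.down))
  obtain ⟨s, hs⟩ := DecShLib.exists_avoid_section k hinv (fun a => InvX.ofSect (x a))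
    (fun p => by
      obtain ⟨a, ha⟩ := ProjUPX.cov_X (r₀.base p)
      exact ⟨⟨a⟩, (AmpleEmbed.preimage_chart r₀ τ₀ a rfl).le ha⟩)
    (S := Set.range y) (Set.finite_range y)
  exact ⟨s, fun j => hs _ ⟨j, rfl⟩⟩

end Groth.Agent.S19593
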