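import Groth.Statements.S19595
import Groth.Agent.ArLefLib.PS
-- import your own Groth.Agent.* helpers here

set_option autoImplicit false
universe u
open ArLef

namespace Groth.Agent.S19595

/-- In the case of a smooth point lying on the divisorial part of the fixed locus with multiplicity i
strictly between 0 and j, let B be a discrete valuation ring with uniformizer π and residue field k,
B[[t]] the complete local ring of a semi-stable arithmetic surface over B at a point x where the
closed fibre is smooth, and σ a ring automorphism of B[[t]] with σ(π) = π + γ π^j (γ a unit of B, j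
≥ 1) and σ(b) - b ∈ π^j B[[t]] for all b ∈ B (σ lies over an automorphism τ of B with v(τ(π) - π) =
j). Suppose σ(t) - t = π^i f with 0 < i < j and π not dividing f, so that the fixed-point ideal I of
σ is (π^j, π^i f) and its divisorial part near x is the closed fibre with multiplicity i. Then the
residual fixed-point scheme, with ideal (I : π^i), has length (j - i) m at x, where m is the length
of k[[t]]/(f mod π) (the order at x of the derivation induced by σ on the closed fibre). -/
theorem result (B : Type u) [CommRing B] [IsDomain B] [IsDiscreteValuationRing B] (π : B) (hπ : Irreducible π)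
    (j i : ℕ) (hi : 0 < i) (hij : i < j) (γ : B) (hγ : IsUnit γ)
    (σ : PowerSeries B ≃+* PowerSeries B)
    (hσB : ∀ b : B, σ (algebraMap B (PowerSeries B) b) - algebraMap B (PowerSeries B) b ∈
      Ideal.span ({algebraMap B (PowerSeries B) (π ^ j)} : Set (PowerSeries B)))
    (hσπ : σ (algebraMap B (PowerSeries B) π) = algebraMap B (PowerSeries B) (π + γ * π ^ j))
    (f : PowerSeries B) (hf : σ PowerSeries.X - PowerSeries.X = algebraMap B (PowerSeries B) (π ^ i) * f)
    (hfπ : ¬ (algebraMap B (PowerSeries B) π ∣ f)) :
    Module.length (PowerSeries B) (PowerSeries B ⧸ (ArLef.fixIdeal σ).colon ({algebraMap B (PowerSeries B) (π ^ i)} : Set (PowerSeries B))) =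
      ((j - i : ℕ) : ℕ∞) * Module.length (PowerSeries (IsLocalRing.ResidueField B)) (PowerSeries (IsLocalRing.ResidueField B) ⧸
        Ideal.span ({PowerSeries.map (IsLocalRing.residue B) f} : Set (PowerSeries (IsLocalRing.ResidueField B)))) := by
    set P : PowerSeries B := PowerSeries.C π
    have hC : algebraMap B (PowerSeries B) π = P := PowerSeries.C_eq_algebraMap.symm
    rw [map_pow, hC] at hf ⊢
    have hP0 : P ≠ 0 := (map_ne_zero_iff _ PowerSeries.C_injective).2 hπ.ne_zero
    have hf0 : PowerSeries.map (IsLocalRing.residue B) f ≠ 0 := fun h =>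
      hfπ (hC ▸ Ideal.mem_span_singleton.1 ((ArLefLib.ker_map_residue hπ f).1 h))
    rw [← ArLefLib.length_quot_f_pow hπ f hf0 (j - i)]
    have hj : P ^ j = P ^ i * P ^ (j - i) := by rw [← pow_add]; congr 1; omega
    have hfix : ArLef.fixIdeal σ = Ideal.span {P ^ i * f} ⊔ Ideal.span {P ^ j} := by
      refine le_antisymm (ArLefLib.powerSeries_fixIdeal_le σ.toRingHom (fun b => ?_) ?_) (sup_le ?_ ?_)
      · refine Submodule.mem_sup_right ?_
        rw [← hC, ← map_pow]
        exact hσB b
      · exact Submodule.mem_sup_left (Ideal.subset_span hf)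
      · rw [Ideal.span_singleton_le_iff_mem, ← hf]; exact ArLefLib.sub_mem_fixIdeal σ _
      · rw [Ideal.span_singleton_le_iff_mem]
        have h := ArLefLib.sub_mem_fixIdeal σ (algebraMap B (PowerSeries B) π)
        rw [hσπ, ← map_sub, add_sub_cancel_left, map_mul, map_pow, hC] at h
        exact (Ideal.unit_mul_mem_iff_mem _ (hγ.map _)).1 h
    suffices he : (ArLef.fixIdeal σ).colon ({P ^ i} : Set (PowerSeries B)) =
        Ideal.span {f} ⊔ Ideal.span {P ^ (j - i)} by rw [he]
    ext x
    rw [Submodule.mem_colon_singleton, smul_eq_mul, hfix]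
    simp only [Submodule.mem_sup, Ideal.mem_span_singleton']
    constructor
    · rintro ⟨_, ⟨c, rfl⟩, _, ⟨d, rfl⟩, h⟩
      refine ⟨c * f, ⟨c, rfl⟩, d * P ^ (j - i), ⟨d, rfl⟩, mul_right_cancel₀ (pow_ne_zero i hP0) ?_⟩
      linear_combination h - d * hj
    · rintro ⟨_, ⟨c, rfl⟩, _, ⟨d, rfl⟩, rfl⟩
      exact ⟨_, ⟨c, rfl⟩, _, ⟨d, rfl⟩, by linear_combination d * hj⟩

end Groth.Agent.S19595
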