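import Groth.Statements.S19596
import Groth.Agent.ArLefLib.Apps
-- import your own Groth.Agent.* helpers here

set_option autoImplicit false
universe u
open ArLef ArLef.NodeAlg

namespace Groth.Agent.S19596

/-- In the cases where σ fixes the two branches through the point, these lie on different components,
and the second branch lies in the divisorial part of the fixed locus with multiplicity i₂ strictly
between 0 and j while the first has multiplicity i₁ ≤ i₂, let B be a discrete valuation ring with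
uniformizer π, N = B[[t, e]]/(te - π) the complete local ring of a semi-stable arithmetic surface
over B at a singular point x of the closed fibre, and σ a ring automorphism of N with σ(π) = π + γ
π^j (γ a unit of B, j ≥ 1) and σ(c) - c ∈ π^j N for all c ∈ B. Suppose σ(t) = α t and σ(e) = β e
with units α, β, and α - 1 = t^{i₁} e^{i₂} a, β - 1 = t^{i₁} e^{i₂} b with i₁ ≤ i₂, 0 < i₂ < j, e
not dividing a and t not dividing b. Then, I being the fixed-point ideal of σ, whose divisorial part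
near x is t^{i₁} e^{i₂}, the residual fixed-point scheme with ideal (I : t^{i₁} e^{i₂}) has length 1
+ (j - i₁)·Leng N/(t, b) + (j - i₂)·Leng N/(e, a) at x; here Leng N/(t, b) + i₂ + 1 and Leng N/(e,
a) + i₁ + 1 are the orders at x of the derivations σ induces on the two components (the fixed-point
multiplicities when the component is outside the divisorial part). -/
theorem result (B : Type u) [CommRing B] [IsDomain B] [IsDiscreteValuationRing B] (π : B) (hπ : Irreducible π)
    (j i₁ i₂ : ℕ) (h12 : i₁ ≤ i₂) (h2 : 0 < i₂) (h2j : i₂ < j) (γ : B) (hγ : IsUnit γ)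
    (σ : ArLef.NodeAlg B π ≃+* ArLef.NodeAlg B π)
    (hσB : ∀ c : B, σ (algebraMap B (ArLef.NodeAlg B π) c) - algebraMap B (ArLef.NodeAlg B π) c ∈
      Ideal.span ({algebraMap B (ArLef.NodeAlg B π) (π ^ j)} : Set (ArLef.NodeAlg B π)))
    (hσπ : σ (algebraMap B (ArLef.NodeAlg B π) π) = algebraMap B (ArLef.NodeAlg B π) (π + γ * π ^ j))
    (α β : (ArLef.NodeAlg B π)ˣ) (ht : σ (ArLef.NodeAlg.t π) = (α : ArLef.NodeAlg B π) * ArLef.NodeAlg.t π) (he : σ (ArLef.NodeAlg.e π) = (β : ArLef.NodeAlg B π) * ArLef.NodeAlg.e π)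
    (a b : ArLef.NodeAlg B π) (ha : (α : ArLef.NodeAlg B π) - 1 = ArLef.NodeAlg.t π ^ i₁ * ArLef.NodeAlg.e π ^ i₂ * a) (hb : (β : ArLef.NodeAlg B π) - 1 = ArLef.NodeAlg.t π ^ i₁ * ArLef.NodeAlg.e π ^ i₂ * b)
    (hea : ¬ (ArLef.NodeAlg.e π ∣ a)) (htb : ¬ (ArLef.NodeAlg.t π ∣ b)) :
    Module.length (ArLef.NodeAlg B π) (ArLef.NodeAlg B π ⧸ (ArLef.fixIdeal σ).colon ({ArLef.NodeAlg.t π ^ i₁ * ArLef.NodeAlg.e π ^ i₂} : Set (ArLef.NodeAlg B π))) =
      1 + ((j - i₁ : ℕ) : ℕ∞) * Module.length (ArLef.NodeAlg B π) (ArLef.NodeAlg B π ⧸ Ideal.span ({ArLef.NodeAlg.t π, b} : Set (ArLef.NodeAlg B π))) +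
        ((j - i₂ : ℕ) : ℕ∞) * Module.length (ArLef.NodeAlg B π) (ArLef.NodeAlg B π ⧸ Ideal.span ({ArLef.NodeAlg.e π, a} : Set (ArLef.NodeAlg B π))) := by
    have hmx := ArLefLib.Node.hmax hπ
    haveI := ArLefLib.Node.isDomain hmx hπ.ne_zero
    set t := ArLef.NodeAlg.t π
    set e := ArLef.NodeAlg.e π
    set P := t ^ i₁ * e ^ i₂ with hP
    have hP0 : P ≠ 0 := mul_ne_zero (pow_ne_zero _ (ArLefLib.Node.t_ne_zero hmx)) (pow_ne_zero _ (ArLefLib.Node.e_ne_zero hmx))
    have hj : 1 ≤ j := by omega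
    have htj : t ^ j = t ^ i₁ * t ^ (j - i₁) := by rw [← pow_add]; congr 1; omega
    have hej : e ^ j = e ^ i₂ * e ^ (j - i₂) := by rw [← pow_add]; congr 1; omega
    have htj1 : t ^ (j - 1) = t ^ i₁ * t ^ (j - i₁ - 1) := by rw [← pow_add]; congr 1; omega
    have hej1 : e ^ (j - 1) = e ^ i₂ * e ^ (j - i₂ - 1) := by rw [← pow_add]; congr 1; omega
    have hab := ArLefLib.Node.alpha_mul_beta' (ArLefLib.Node.pi_ne_zero hπ) hj σ hσπ (α := (α : ArLef.NodeAlg B π))
      (β := (β : ArLef.NodeAlg B π)) (by rw [ht, he, ← ArLefLib.Node.t_mul_e]; ring)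
    have rel : (β : ArLef.NodeAlg B π) * a + b = algebraMap B _ γ * (t ^ (j - i₁ - 1) * e ^ (j - i₂ - 1)) := by
      apply mul_left_cancel₀ hP0
      rw [htj1, hej1] at hab
      linear_combination hab - (β : ArLef.NodeAlg B π) * ha - hb
    suffices hc : (ArLef.fixIdeal σ).colon ({P} : Set (ArLef.NodeAlg B π)) =
        Ideal.span {t ^ (j - i₁) * e ^ (j - i₂), a * t, b * e} by
      rw [hc, ArLefLib.Node.length_stab hmx hπ.ne_zero _ _ a b β.isUnit (j - i₁) (j - i₂) (by omega) (by omega) rel htb hea]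
    rw [ArLefLib.Node.fixIdeal_stab_eq hπ hj hγ σ hσB hσπ ht he]
    ext x
    rw [Submodule.mem_colon_singleton, smul_eq_mul, ArLefLib.Node.mem_span3, ArLefLib.Node.mem_span3]
    constructor
    · rintro ⟨u, v, w, h⟩
      refine ⟨u, v, w, mul_right_cancel₀ hP0 ?_⟩
      rw [ha, hb, htj, hej] at h
      linear_combination h
    · rintro ⟨u, v, w, rfl⟩
      exact ⟨u, v, w, by rw [ha, hb, htj, hej, hP]; ring⟩

end Groth.Agent.S19596
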