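import Groth.Statements.S19597
import Groth.Agent.ArLefLib.Apps
-- import your own Groth.Agent.* helpers here

set_option autoImplicit false
universe u
open ArLef ArLef.NodeAlg

namespace Groth.Agent.S19597

/-- In the cases where σ fixes the two branches through the point, these lie on different components,
the second lies in the divisorial part of the fixed locus with the maximal multiplicity j and the
first with multiplicity i₁ < j, let B be a discrete valuation ring with uniformizer π, N = B[[t,
e]]/(te - π) the complete local ring of a semi-stable arithmetic surface over B at a singular point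
x of the closed fibre, and σ a ring automorphism of N with σ(π) = π + γ π^j (γ a unit of B, j ≥ 1)
and σ(c) - c ∈ π^j N for all c ∈ B. Suppose σ(t) = α t and σ(e) = β e with units α, β, that α - 1 =
t^{i₁} e^j a and β - 1 = t^{i₁} e^{j-1} b with i₁ < j and t not dividing b. Then, I being the
fixed-point ideal of σ, whose divisorial part near x is t^{i₁} e^j, the length l of the residual
fixed-point scheme with ideal (I : t^{i₁} e^j) satisfies l + (j - 1 - i₁) = (j - i₁)·Leng N/(t, b);
for i₁ = 0, Leng N/(t, b) + j is the fixed-point multiplicity s₁ of σ at x on the first component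
and l = j (s₁ - j - 1) + 1. -/
theorem result (B : Type u) [CommRing B] [IsDomain B] [IsDiscreteValuationRing B] (π : B) (hπ : Irreducible π)
    (j i₁ : ℕ) (h1 : i₁ < j) (γ : B) (hγ : IsUnit γ)
    (σ : ArLef.NodeAlg B π ≃+* ArLef.NodeAlg B π)
    (hσB : ∀ c : B, σ (algebraMap B (ArLef.NodeAlg B π) c) - algebraMap B (ArLef.NodeAlg B π) c ∈
      Ideal.span ({algebraMap B (ArLef.NodeAlg B π) (π ^ j)} : Set (ArLef.NodeAlg B π)))
    (hσπ : σ (algebraMap B (ArLef.NodeAlg B π) π) = algebraMap B (ArLef.NodeAlg B π) (π + γ * π ^ j))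
    (α β : (ArLef.NodeAlg B π)ˣ) (ht : σ (ArLef.NodeAlg.t π) = (α : ArLef.NodeAlg B π) * ArLef.NodeAlg.t π) (he : σ (ArLef.NodeAlg.e π) = (β : ArLef.NodeAlg B π) * ArLef.NodeAlg.e π)
    (a b : ArLef.NodeAlg B π) (ha : (α : ArLef.NodeAlg B π) - 1 = ArLef.NodeAlg.t π ^ i₁ * ArLef.NodeAlg.e π ^ j * a) (hb : (β : ArLef.NodeAlg B π) - 1 = ArLef.NodeAlg.t π ^ i₁ * ArLef.NodeAlg.e π ^ (j - 1) * b)
    (htb : ¬ (ArLef.NodeAlg.t π ∣ b)) :
    Module.length (ArLef.NodeAlg B π) (ArLef.NodeAlg B π ⧸ (ArLef.fixIdeal σ).colon ({ArLef.NodeAlg.t π ^ i₁ * ArLef.NodeAlg.e π ^ j} : Set (ArLef.NodeAlg B π))) + ((j - 1 - i₁ : ℕ) : ℕ∞) =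
      ((j - i₁ : ℕ) : ℕ∞) * Module.length (ArLef.NodeAlg B π) (ArLef.NodeAlg B π ⧸ Ideal.span ({ArLef.NodeAlg.t π, b} : Set (ArLef.NodeAlg B π))) := by
    have hmx := ArLefLib.Node.hmax hπ
    haveI := ArLefLib.Node.isDomain hmx hπ.ne_zero
    haveI := ArLefLib.Node.isLocalRing hmx
    set t := ArLef.NodeAlg.t π
    set e := ArLef.NodeAlg.e π
    have hpt : Prime t := ArLefLib.Node.prime_t hmx (ArLefLib.Node.t_ne_zero hmx)
    have hpe : Prime e := ArLefLib.Node.prime_e hmx (ArLefLib.Node.e_ne_zero hmx)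
    set P := t ^ i₁ * e ^ j with hP
    have hP0 : P ≠ 0 := mul_ne_zero (pow_ne_zero _ hpt.ne_zero) (pow_ne_zero _ hpe.ne_zero)
    obtain ⟨m, rfl⟩ : ∃ m, j = i₁ + (m + 1) := ⟨j - i₁ - 1, by omega⟩
    have hab := ArLefLib.Node.alpha_mul_beta' (ArLefLib.Node.pi_ne_zero hπ) (by omega) σ hσπ
      (α := (α : ArLef.NodeAlg B π)) (β := (β : ArLef.NodeAlg B π)) (by rw [ht, he, ← ArLefLib.Node.t_mul_e]; ring)
    rw [show i₁ + (m + 1) - 1 = i₁ + m by omega] at hb hab
    change _ = algebraMap B _ γ * (t ^ (i₁ + m) * e ^ (i₁ + m)) at hab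
    rw [show i₁ + (m + 1) - 1 - i₁ = m by omega, show i₁ + (m + 1) - i₁ = m + 1 by omega]
    have hej : e ^ (i₁ + (m + 1)) = e ^ (i₁ + m) * e := by rw [← pow_succ]; congr 1
    have rel : (β : ArLef.NodeAlg B π) * e * a + b = algebraMap B _ γ * t ^ m := by
      apply mul_left_cancel₀ (mul_ne_zero (pow_ne_zero i₁ hpt.ne_zero) (pow_ne_zero (i₁ + m) hpe.ne_zero))
      rw [hP, hej] at ha
      linear_combination (norm := (rw [pow_add t i₁ m]; ring_nf)) hab - (β : ArLef.NodeAlg B π) * ha - hb
    set J := Ideal.span {b} ⊔ Ideal.span {t ^ (m + 1)}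
    have hJ : ∀ x, x ∈ J ↔ ∃ v u, v * b + u * t ^ (m + 1) = x := fun x => by
      change x ∈ Ideal.span {b} ⊔ Ideal.span {t ^ (m + 1)} ↔ _
      rw [← Ideal.span_union, Set.singleton_union, Ideal.mem_span_pair]
    suffices hc : (ArLef.fixIdeal σ).colon ({P} : Set (ArLef.NodeAlg B π)) = J ⊔ Ideal.span {a * t} by
      have hlen := ArLefLib.length_quot_eq_add (I := J) (K := Ideal.span {e} ⊔ Ideal.span {t ^ m}) (a * t)
        (J := J ⊔ Ideal.span {a * t}) rfl ?_
      · rw [ArLefLib.length_quot_pow (ArLefLib.Node.regular_mod hpt htb),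
          ArLefLib.length_quot_pow (ArLefLib.Node.regular_mod hpt (ArLefLib.Node.not_t_dvd_e hmx)),
          ← Ideal.span_union, Set.singleton_union, ← Ideal.span_union, Set.singleton_union, Set.pair_comm e,
          ← ArLefLib.Node.maximalIdeal_eq hmx,
          ArLefLib.length_quot_maximal (IsLocalRing.maximalIdeal (ArLef.NodeAlg B π)), mul_one, Set.pair_comm b] at hlen
        rw [hc, hlen, add_comm]
      intro x
      constructor
      · intro hx
        obtain ⟨_, hy, _, hz, rfl⟩ := Submodule.mem_sup.1 hx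
        obtain ⟨c, rfl⟩ := Ideal.mem_span_singleton'.1 hy
        obtain ⟨d, rfl⟩ := Ideal.mem_span_singleton'.1 hz
        obtain ⟨β', hβ'⟩ := β.isUnit.exists_left_inv
        exact (hJ _).2 ⟨-c * β' * t, c * β' * algebraMap B _ γ + d * a,
          by linear_combination (norm := (rw [pow_succ]; ring_nf)) c * e * a * t * hβ' - c * β' * t * rel⟩
      · intro hx
        have main : ∀ k, k ≤ m → x ∈ Ideal.span {e} ⊔ Ideal.span {t ^ k} := by
          intro k
          induction k with
          | zero => intro _; rw [pow_zero, Ideal.span_singleton_one, sup_top_eq]; trivial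
          | succ k ih =>
            intro hk
            obtain ⟨_, hy, _, hz, hyz⟩ := Submodule.mem_sup.1 (ih (by omega))
            obtain ⟨c, rfl⟩ := Ideal.mem_span_singleton'.1 hy
            obtain ⟨d, rfl⟩ := Ideal.mem_span_singleton'.1 hz
            subst hyz
            obtain ⟨v, u, huv⟩ := (hJ _).1 hx
            obtain ⟨q, rfl⟩ : ∃ q, m = k + 1 + q := ⟨m - (k + 1), by omega⟩
            have hd : ¬ IsUnit d := by
              intro hdu
              obtain ⟨β', hβ'⟩ := β.isUnit.exists_left_inv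
              obtain ⟨g, hg⟩ : t ^ (k + 1) ∣ v + c * β' * t := by
                refine ArLefLib.Node.pow_dvd_of_dvd_mul hpt (Or.inr htb) ⟨d * a - u * t ^ (q + 1) + c * β' * algebraMap B _ γ * t ^ (q + 1), ?_⟩
                linear_combination (norm := (simp only [pow_add, pow_one]; ring_nf)) huv - c * e * a * t * hβ' + c * β' * t * rel
              have key : d * a = b * g + t ^ (q + 1) * (u - c * β' * algebraMap B _ γ) := by
                apply mul_left_cancel₀ (pow_ne_zero (k + 1) hpt.ne_zero)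
                linear_combination (norm := (simp only [pow_add, pow_one]; ring_nf)) -huv + c * e * a * t * hβ' - c * β' * t * rel + b * hg
              have hu : IsUnit (d + g * β * e) := by
                refine (ArLefLib.Node.isUnit_iff hmx 0).2 ?_
                have := (ArLefLib.Node.isUnit_iff hmx 0).1 hdu
                simpa [e] using this
              have hta : t ∣ a := by
                refine (IsUnit.dvd_mul_left hu).1 ⟨g * algebraMap B _ γ * t ^ (k + q) + t ^ q * (u - c * β' * algebraMap B _ γ), ?_⟩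
                linear_combination (norm := (simp only [pow_add, pow_one]; ring_nf)) key + g * rel
              refine htb ?_
              rw [show b = algebraMap B _ γ * t ^ (k + 1 + q) - (β : ArLef.NodeAlg B π) * e * a by linear_combination rel]
              exact dvd_sub (dvd_mul_of_dvd_right (dvd_pow_self t (by omega)) _) (dvd_mul_of_dvd_right hta _)
            rw [← mem_nonunits_iff, ← IsLocalRing.mem_maximalIdeal, ArLefLib.Node.maximalIdeal_eq hmx,
              Ideal.mem_span_pair] at hd
            obtain ⟨d₁, d₂, rfl⟩ := hd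
            exact Submodule.mem_sup.2 ⟨(c + d₂ * t ^ k) * e, Ideal.mem_span_singleton'.2 ⟨_, rfl⟩,
              d₁ * t ^ (k + 1), Ideal.mem_span_singleton'.2 ⟨_, rfl⟩, by rw [pow_succ]; ring⟩
        exact main m le_rfl
    rw [ArLefLib.Node.fixIdeal_stab_eq hπ (by omega) hγ σ hσB hσπ ht he]
    change (Ideal.span {t ^ (i₁ + (m + 1)) * e ^ (i₁ + (m + 1)), ((α : ArLef.NodeAlg B π) - 1) * t, ((β : ArLef.NodeAlg B π) - 1) * e}).colon ({P} : Set (ArLef.NodeAlg B π)) = _
    ext x
    rw [Submodule.mem_colon_singleton, smul_eq_mul, ArLefLib.Node.mem_span3, Submodule.mem_sup]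
    rw [hP, hej] at ha
    constructor
    · rintro ⟨u, v, w, h⟩
      refine ⟨w * b + u * t ^ (m + 1), (hJ _).2 ⟨w, u, rfl⟩, v * (a * t), Ideal.mem_span_singleton'.2 ⟨v, rfl⟩,
        mul_right_cancel₀ hP0 ?_⟩
      rw [ha, hb, hej, hP, hej] at h
      rw [hP, hej]
      linear_combination (norm := (simp only [pow_add, pow_one]; ring_nf)) h
    · rintro ⟨y, hy, z, hz, rfl⟩
      obtain ⟨w, u, rfl⟩ := (hJ y).1 hy
      obtain ⟨v, rfl⟩ := Ideal.mem_span_singleton'.1 hz
      refine ⟨u, v, w, ?_⟩
      rw [ha, hb, hP, hej]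
      simp only [pow_add, pow_one]
      ring

end Groth.Agent.S19597
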