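import Groth.Statements.S19598
import Groth.Agent.MultTypeQI.ClosedSubgroup
-- import your own Groth.Agent.* helpers here

set_option autoImplicit false
open CategoryTheory MonoidalCategory CartesianMonoidalCategory MonObj GrpObj AlgebraicGeometry
universe u
open SGA3x

namespace Groth.Agent.S19598

/-- Let H' be a group scheme of multiplicative type (of finite type) over a scheme S, and H a closed
subgroup scheme of H' which is flat and locally of finite presentation over S. Then H is of
multiplicative type (of finite type). Multiplicative type is taken in the fpqc-local sense on both
sides. -/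
theorem result {S : Scheme.{u}} (H H' : Over S) [GrpObj H] [GrpObj H']
    (hH' : SGA3x.IsMultTypeFT H') (i : H ⟶ H') [IsMonHom i] (hi : IsClosedImmersion i.left)
    (hHfl : Flat H.hom) (hHfp : LocallyOfFinitePresentation H.hom) :
    SGA3x.IsMultTypeFT H := by
  exact Groth.Agent.MultTypeQI.isMultTypeFT_of_closedSubgroup hH' i hi hHfl hHfp

end Groth.Agent.S19598
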