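import Groth.Statements.S19599
import Groth.Agent.TransLib.Universal
import Groth.Agent.TransLib.MultEssFree
import Groth.Agent.S12442

set_option autoImplicit false
open CategoryTheory CategoryTheory.Limits MonoidalCategory CartesianMonoidalCategory MonObj GrpObj AlgebraicGeometry
universe u
open SGA3x

namespace Groth.Agent.S19599

/-- Let G be an affine group scheme of finite presentation over a scheme S and H ⊆ G a closed subgroup
scheme of finite presentation over S which is of multiplicative type (of finite type). Then the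
centralizer of H in G (points of G commuting with every point of H after any base change) is
representable by a closed subscheme of G. Here G is not assumed smooth, and smoothness of the
centralizer is not asserted. -/
theorem result {S : Scheme.{u}} (G H : Over S) [GrpObj G] [GrpObj H]
    (hGa : IsAffineHom G.hom) (hGfp : LocallyOfFinitePresentation G.hom)
    (i : H ⟶ G) [IsMonHom i] (hi : IsClosedImmersion i.left) (hHfp : LocallyOfFinitePresentation H.hom)
    (hH : SGA3x.IsMultTypeFT H) :
    ∃ (C : Over S) (c : C ⟶ G), IsClosedImmersion c.left ∧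
      ∀ (X : Over S) (g : X ⟶ G), (∃ z : X ⟶ C, z ≫ c = g) ↔
        ∀ (X' : Over S) (x : X' ⟶ X) (a : X' ⟶ H), (x ≫ g) * (a ≫ i) = (a ≫ i) * (x ≫ g) := by
  haveI : IsSeparated G.hom := inferInstance
  obtain ⟨-, hHe⟩ := TransLib.multTypeFT_essFree hH
  haveI : IsClosedImmersion (lift (𝟙 G) (𝟙 G)).left := by
    have e : (lift (𝟙 G) (𝟙 G)).left = pullback.diagonal G.hom := by
      apply pullback.hom_ext
      · exact (congrArg CommaMorphism.left (lift_fst (𝟙 G) (𝟙 G))).trans (pullback.diagonal_fst G.hom).symm
      · exact (congrArg CommaMorphism.left (lift_snd (𝟙 G) (𝟙 G))).trans (pullback.diagonal_snd G.hom).symm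
    rw [e]
    infer_instance
  obtain ⟨C, c, hc, -, hC⟩ := TransLib.exists_closed_universal_essFree (X := G) hHe
    (lift (snd H G * (fst H G ≫ i)) ((fst H G ≫ i) * snd H G)) (lift (𝟙 G) (𝟙 G))
  refine ⟨C, c, hc, fun X g => (hC g).trans ⟨fun ⟨l, hl⟩ X' x a => ?_, fun h => ?_⟩⟩
  · have h1 := congrArg (fun m => lift a x ≫ m ≫ fst G G) hl
    have h2 := congrArg (fun m => lift a x ≫ m ≫ snd G G) hl
    simp [MonObj.comp_mul, lift_whiskerLeft_assoc] at h1 h2
    rw [← h1, ← h2]
  · have h' := h (H ⊗ X) (snd H X) (fst H X)
    refine ⟨(H ◁ g) ≫ (snd H G * (fst H G ≫ i)), ?_⟩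
    apply CartesianMonoidalCategory.hom_ext
    · simp
    · simp [MonObj.comp_mul, h']

end Groth.Agent.S19599
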