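import Groth.Statements.S19603
import Groth.Agent.ComodLib.Orbits
import Groth.Agent.ComodLib.LinearAction
-- import your own Groth.Agent.* helpers here

set_option autoImplicit false
universe u
open GIT

namespace Groth.Agent.S19603

/-- For the whole projective space U = P(V), let k be an algebraically closed field of arbitrary
characteristic and G = Spec A a linearly reductive affine algebraic group acting linearly on affine
ι-space, and let v be a vector. Then some invariant homogeneous polynomial of positive degree is
non-zero at v (the point of v is semistable) if and only if the origin is not in the closure of the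
orbit of v. -/
theorem result (k : Type u) [Field k] [IsAlgClosed k]
    (A : Type u) [CommRing A] [HopfAlgebra k A] [Algebra.FiniteType k A] (hG : HopfRep.IsLinearlyReductive k A)
    (ι : Type u) [Fintype ι] [HopfRep.Comod k A (MvPolynomial ι k)] [GLin.IsCoactAlg k A (MvPolynomial ι k)]
    (hlin : GLin.IsLinear k A ι) (v : ι → k) :
    GLin.IsSemistableVec k A v ↔
      ¬ GLin.InOrbitClosure k A (GLin.vecPt k ι v) (GLin.vecPt k ι (fun _ => (0 : k))) := by
  obtain ⟨α, hα, h1⟩ := Groth.Agent.ComodLib.exists_integral_of_isLinearlyReductive hG
  constructor
  · intro hss hin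
    refine hss fun F hF d hd hhom => ?_
    have h := Groth.Agent.ComodLib.eq_of_closures_meet_invariant hin hF
    rw [GLin.vecPt, GLin.vecPt, MvPolynomial.aeval_eq_eval, MvPolynomial.aeval_eq_eval] at h
    refine h.symm.trans ?_
    show MvPolynomial.eval (fun _ => (0 : k)) F = 0
    rw [MvPolynomial.eval_zero', MvPolynomial.constantCoeff_eq]
    exact hhom.coeff_eq_zero (by simp; omega)
  · intro hnot hnull
    refine hnot ?_
    obtain ⟨z, hz₁, hz₂⟩ := Groth.Agent.ComodLib.exists_closures_meet hα h1
      (GLin.vecPt k ι v) (GLin.vecPt k ι fun _ => (0 : k)) fun F hF => by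
      show MvPolynomial.aeval v F = MvPolynomial.aeval (fun _ => (0 : k)) F
      conv_lhs => rw [← MvPolynomial.sum_homogeneousComponent F, map_sum]
      rw [Finset.sum_eq_single 0]
      · simp [MvPolynomial.constantCoeff_eq]
      · intro d _ hd
        rw [MvPolynomial.aeval_eq_eval]
        exact hnull _ (Groth.Agent.ComodLib.homogeneousComponent_mem_invariants hlin hF d) d (Nat.pos_of_ne_zero hd)
          (MvPolynomial.homogeneousComponent_isHomogeneous d F)
      · simp
    have hzero : z = GLin.vecPt k ι fun _ => (0 : k) := by
      refine MvPolynomial.algHom_ext fun i => ?_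
      have : z (MvPolynomial.X i) = 0 := hz₂ (by
        obtain ⟨m, hm⟩ := hlin i
        rw [RingHom.mem_ker, Groth.Agent.ComodLib.orbitHom_apply, hm]
        simp [GLin.vecPt])
      rw [this]
      simp [GLin.vecPt]
    exact hzero ▸ hz₁

end Groth.Agent.S19603
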