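import Groth.Statements.S19609
import Mathlib.Tactic.LinearCombination
-- import your own Groth.Agent.* helpers here

set_option autoImplicit false
universe u
open CartMod

namespace Groth.Agent.S19609

/-- Let p be a prime and u : A → B a ring homomorphism between commutative rings which are complete and
separated for the p-adic topology and have no p-torsion (flat over the p-adic base). If u induces a
bijection A/pA → B/pB (injectivity: u a ∈ pB forces a ∈ pA; surjectivity: every b ∈ B is congruent
to some u a modulo pB), then u is bijective. (The published statement is for a morphism of flat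
p-adic formal schemes over the Witt vectors of a perfect field: if its special fibre is an
isomorphism, so is the morphism; this row is its affine, ring-level case.) -/
theorem result (p : ℕ) [Fact p.Prime]
    {A B : Type u} [CommRing A] [CommRing B]
    [IsAdicComplete (Ideal.span {(p : A)}) A] [IsAdicComplete (Ideal.span {(p : B)}) B]
    (hA : IsSMulRegular A (p : A)) (hB : IsSMulRegular B (p : B)) (u : A →+* B)
    (hinj : ∀ a : A, u a ∈ Ideal.span {(p : B)} → a ∈ Ideal.span {(p : A)})
    (hsurj : ∀ b : B, ∃ a : A, b - u a ∈ Ideal.span {(p : B)}) :
    Function.Bijective u := by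
  have hBn : ∀ n : ℕ, IsSMulRegular B ((p : B) ^ n) := fun n => hB.pow n
  constructor
  · rw [injective_iff_map_eq_zero]
    intro a ha
    refine IsHausdorff.haus (inferInstance : IsHausdorff (Ideal.span {(p : A)}) A) a fun n => ?_
    rw [SModEq.zero, smul_eq_mul, Ideal.mul_top, Ideal.span_singleton_pow, Ideal.mem_span_singleton']
    induction n with
    | zero => exact ⟨a, by simp⟩
    | succ n ih =>
      obtain ⟨c, hc⟩ := ih
      have huc : u c = 0 := by
        apply hBn n
        have := ha
        rw [← hc, map_mul, map_pow, map_natCast] at this
        simpa [mul_comm] using this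
      obtain ⟨d, hd⟩ := Ideal.mem_span_singleton'.1 (hinj c (huc ▸ zero_mem _))
      exact ⟨d, by rw [← hc, ← hd]; ring⟩
  · intro b
    choose f hf using hsurj
    choose g hg using fun b => Ideal.mem_span_singleton'.1 (hf b)
    -- `r n` is the remainder at stage `n`, `s n` the partial sum
    let r : ℕ → B := fun n => g^[n] b
    let s : ℕ → A := fun n => ∑ i ∈ Finset.range n, (p : A) ^ i * f (r i)
    have hr : ∀ n, b - u (s n) = (p : B) ^ n * r n := by
      intro n
      induction n with
      | zero => simp [s, r]
      | succ n ih =>
        have h1 : r (n + 1) = g (r n) := Function.iterate_succ_apply' _ _ _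
        simp only [s, Finset.sum_range_succ, map_add, map_mul, map_pow, map_natCast] at ih ⊢
        rw [h1]
        linear_combination ih - (p : B) ^ n * hg (r n)
    obtain ⟨L, hL⟩ := IsPrecomplete.prec (inferInstance : IsPrecomplete (Ideal.span {(p : A)}) A) (f := s)
      (fun {m n} hmn => by
        rw [SModEq.sub_mem, smul_eq_mul, Ideal.mul_top, Ideal.span_singleton_pow, Ideal.mem_span_singleton']
        obtain ⟨d, rfl⟩ := Nat.exists_eq_add_of_le hmn
        refine ⟨-∑ i ∈ Finset.range d, (p : A) ^ i * f (r (m + i)), ?_⟩
        simp only [s, Finset.sum_range_add, pow_add, mul_assoc, ← Finset.mul_sum]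
        ring)
    refine ⟨L, ?_⟩
    rw [eq_comm, ← sub_eq_zero]
    refine IsHausdorff.haus (inferInstance : IsHausdorff (Ideal.span {(p : B)}) B) _ fun n => ?_
    rw [SModEq.zero, smul_eq_mul, Ideal.mul_top, Ideal.span_singleton_pow, Ideal.mem_span_singleton']
    have := hL n
    rw [SModEq.sub_mem, smul_eq_mul, Ideal.mul_top, Ideal.span_singleton_pow, Ideal.mem_span_singleton'] at this
    obtain ⟨c, hc⟩ := this
    have hc' := congrArg u hc
    simp only [map_mul, map_pow, map_natCast, map_sub] at hc'
    exact ⟨r n + u c, by linear_combination hc' - hr n⟩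

end Groth.Agent.S19609
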