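import Groth.Statements.S19610
import Mathlib.Tactic.LinearCombination
import Groth.Agent.LocalCrit.Flatness
import Mathlib.LinearAlgebra.TensorProduct.Tower
-- import your own Groth.Agent.* helpers here

set_option autoImplicit false
universe u
open scoped TensorProduct
open CartMod

namespace Groth.Agent.S19610

/-- Let p be a prime and B a commutative algebra over the commutative ring A, both complete and
separated for the p-adic topology and both without p-torsion (flat over the p-adic base). If B/pB is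
flat over A/pA, then B/p^nB is flat over A/p^nA for every n ≥ 1 (the quotients are written as base
changes (A/p^n) ⊗_A B). (The published statement is for a morphism of flat p-adic formal schemes
over the Witt vectors of a perfect field: if its special fibre is flat, so are the induced morphisms
of schemes modulo every power of p; this row is its affine, ring-level case.) -/
theorem result (p : ℕ) [Fact p.Prime]
    {A B : Type u} [CommRing A] [CommRing B] [Algebra A B]
    [IsAdicComplete (Ideal.span {(p : A)}) A] [IsAdicComplete (Ideal.span {(p : B)}) B]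
    (hA : IsSMulRegular A (p : A)) (hB : IsSMulRegular B (p : B))
    (h : Module.Flat (A ⧸ Ideal.span {(p : A)}) ((A ⧸ Ideal.span {(p : A)}) ⊗[A] B))
    (n : ℕ) (hn : 1 ≤ n) :
    Module.Flat (A ⧸ (Ideal.span {(p : A)} ^ n)) ((A ⧸ (Ideal.span {(p : A)} ^ n)) ⊗[A] B) := by
  obtain ⟨m, rfl⟩ : ∃ m, n = m + 1 := ⟨n - 1, by omega⟩
  set Q := Ideal.span {(p : A)} ^ (m + 1) with hQ
  have hQ' : Q = Ideal.span {(p : A) ^ (m + 1)} := Ideal.span_singleton_pow _ _
  let I : Ideal (A ⧸ Q) := Ideal.span {(p : A ⧸ Q)}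
  let R' := (A ⧸ Q) ⧸ I
  have hker : ∀ a ∈ Ideal.span {(p : A)}, algebraMap A R' a = 0 := by
    intro a ha
    obtain ⟨c, rfl⟩ := Ideal.mem_span_singleton'.1 ha
    rw [IsScalarTower.algebraMap_apply A (A ⧸ Q) R', Ideal.Quotient.algebraMap_eq,
      Ideal.Quotient.algebraMap_eq, Ideal.Quotient.eq_zero_iff_mem, map_mul, map_natCast]
    exact Ideal.mul_mem_left _ _ (Ideal.mem_span_singleton_self _)
  letI : Algebra (A ⧸ Ideal.span {(p : A)}) R' := (Ideal.Quotient.lift _ (algebraMap A R') hker).toAlgebra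
  haveI : IsScalarTower A (A ⧸ Ideal.span {(p : A)}) R' := IsScalarTower.of_algebraMap_eq fun a => rfl
  haveI : Module.Flat R' (R' ⊗[A ⧸ Q] ((A ⧸ Q) ⊗[A] B)) :=
    Module.Flat.of_linearEquiv
      ((TensorProduct.AlgebraTensorModule.cancelBaseChange A (A ⧸ Q) R' R' B).trans
        (TensorProduct.AlgebraTensorModule.cancelBaseChange A (A ⧸ Ideal.span {(p : A)}) R' R' B).symm)
  refine LocalCrit.flat_of_isNilpotent I ((A ⧸ Q) ⊗[A] B) ⟨m + 1, ?_⟩ ?_
    (LocalCrit.keepsInjective_of_flat I _)
  · rw [Ideal.span_singleton_pow, Ideal.zero_eq_bot, Ideal.span_singleton_eq_bot,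
      show (p : A ⧸ Q) ^ (m + 1) = Ideal.Quotient.mk Q ((p : A) ^ (m + 1)) from by simp,
      Ideal.Quotient.eq_zero_iff_mem, hQ']
    exact Ideal.mem_span_singleton_self _
  · have hp : (p : A ⧸ Q) ∈ I := Ideal.mem_span_singleton_self _
    rw [injective_iff_map_eq_zero]
    intro t ht
    obtain ⟨z, rfl⟩ : ∃ z, t = (⟨(p : A ⧸ Q), hp⟩ : I) ⊗ₜ[A ⧸ Q] z := by
      clear ht
      induction t with
      | zero => exact ⟨0, (TensorProduct.tmul_zero _ _).symm⟩
      | tmul i z =>
        obtain ⟨c, hc⟩ := Ideal.mem_span_singleton'.1 i.2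
        refine ⟨c • z, ?_⟩
        rw [← TensorProduct.smul_tmul]
        congr 1
        exact Subtype.ext (by simp [hc])
      | add x y hx hy =>
        obtain ⟨a, rfl⟩ := hx; obtain ⟨b, rfl⟩ := hy
        exact ⟨a + b, (TensorProduct.tmul_add _ _ _).symm⟩
    obtain ⟨b, rfl⟩ : ∃ b, z = (1 : A ⧸ Q) ⊗ₜ[A] b := by
      obtain ⟨b, hb⟩ := Submodule.mkQ_surjective _ (TensorProduct.quotTensorEquivQuotSMul B Q z)
      refine ⟨b, (TensorProduct.quotTensorEquivQuotSMul B Q).injective ?_⟩
      rw [← map_one (Ideal.Quotient.mk Q), TensorProduct.quotTensorEquivQuotSMul_mk_tmul, one_smul]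
      exact hb.symm
    rw [LinearMap.rTensor_tmul] at ht
    have h1 : (1 : A ⧸ Q) ⊗ₜ[A] ((p : A) • b) = 0 := by
      have h2 := congrArg (TensorProduct.lid (A ⧸ Q) _) ht
      rw [TensorProduct.lid_tmul, map_zero] at h2
      rw [← TensorProduct.smul_tmul, ← h2, Submodule.subtype_apply, TensorProduct.smul_tmul',
        Algebra.smul_def, mul_one, smul_eq_mul, mul_one, map_natCast]
    have hmem := congrArg (TensorProduct.quotTensorEquivQuotSMul B Q) h1
    rw [map_zero, ← map_one (Ideal.Quotient.mk Q), TensorProduct.quotTensorEquivQuotSMul_mk_tmul,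
      one_smul, Submodule.Quotient.mk_eq_zero, hQ', Submodule.ideal_span_singleton_smul,
      ← SetLike.mem_coe, Submodule.coe_pointwise_smul] at hmem
    obtain ⟨c, -, hc⟩ := hmem
    have hb : b = (p : A) ^ m • c := by
      apply hB
      simp only [Algebra.smul_def, map_mul, map_natCast, map_pow, pow_succ'] at hc ⊢
      linear_combination -hc
    rw [hb, ← TensorProduct.smul_tmul, Algebra.smul_def, mul_one,
      show (algebraMap A (A ⧸ Q)) ((p : A) ^ m) ⊗ₜ[A] c =
        (algebraMap A (A ⧸ Q)) ((p : A) ^ m) • ((1 : A ⧸ Q) ⊗ₜ[A] c) from by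
        rw [TensorProduct.smul_tmul', smul_eq_mul, mul_one],
      ← TensorProduct.smul_tmul]
    refine Eq.trans (congrArg (fun i : I => i ⊗ₜ[A ⧸ Q] ((1 : A ⧸ Q) ⊗ₜ[A] c)) (?_ : _ = (0 : I)))
      (TensorProduct.zero_tmul _ _)
    refine Subtype.ext ?_
    change (algebraMap A (A ⧸ Q)) ((p : A) ^ m) * (p : A ⧸ Q) = 0
    rw [← map_natCast (algebraMap A (A ⧸ Q)), ← map_mul, Ideal.Quotient.algebraMap_eq,
      Ideal.Quotient.eq_zero_iff_mem, hQ', pow_succ]
    exact Ideal.mem_span_singleton_self _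

end Groth.Agent.S19610
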