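import Groth.Statements.S19611
import Mathlib.AlgebraicGeometry.IdealSheaf.Subscheme
import Mathlib.AlgebraicGeometry.Morphisms.Flat
-- import your own Groth.Agent.* helpers here

set_option autoImplicit false
universe u
open CategoryTheory AlgebraicGeometry
open CartMod

namespace Groth.Agent.S19611

/-- For a prime p and a scheme Y of characteristic p, write Y♭ for the scheme-theoretic image of the
absolute Frobenius F_Y : Y → Y, i.e. the closed subscheme of Y defined by the sections of O_Y whose
p-th power vanishes, and Y → Y♭ for the canonical morphism through which F_Y factors. Then Y → Y♭ is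
an epimorphism of schemes: two morphisms g₁, g₂ from Y♭ to a scheme Z with equal composites Y → Y♭ →
Z are equal. (The published statement is for k-morphisms g₁, g₂ from Y♭ to a k-scheme Z over a
perfect field k of characteristic p, compared after Frobenius twist through Y → (Y♭)'; this row asks
right-cancellation against morphisms to every scheme Z, which is equivalent to it for k-morphisms.) -/
theorem result (p : ℕ) [Fact p.Prime] (Y : Scheme.{u}) [FrobSch.IsCharP Y p] :
    Epi (FrobSch.frob Y p).toImage := by
  haveI : QuasiCompact (FrobSch.frob Y p) := ⟨fun U hU hcU => by rwa [show (FrobSch.frob Y p) ⁻¹' U = U from rfl]⟩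
  apply CategoryTheory.Functor.epi_of_epi_map (Scheme.forgetToLocallyRingedSpace)
  apply CategoryTheory.Functor.epi_of_epi_map (LocallyRingedSpace.forgetToSheafedSpace)
  apply SheafedSpace.epi_of_base_surjective_of_stalk_mono
  · intro z
    refine ⟨(FrobSch.frob Y p).imageι z, (FrobSch.frob Y p).imageι.isEmbedding.injective ?_⟩
    show (FrobSch.frob Y p).imageι ((FrobSch.frob Y p).toImage ((FrobSch.frob Y p).imageι z)) = _
    rw [← Scheme.Hom.comp_apply, Scheme.Hom.toImage_imageι]
    rfl
  · intro x
    apply ConcreteCategory.mono_of_injective
    have hind : Topology.IsInducing (FrobSch.frob Y p).toImage.base :=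
      Topology.IsInducing.of_comp (FrobSch.frob Y p).toImage.continuous (FrobSch.frob Y p).imageι.continuous (by
        have e : ((FrobSch.frob Y p).imageι.base ∘ (FrobSch.frob Y p).toImage.base : Y → Y) = id := by
          funext z
          show (FrobSch.frob Y p).imageι ((FrobSch.frob Y p).toImage z) = z
          rw [← Scheme.Hom.comp_apply, Scheme.Hom.toImage_imageι]
          rfl
        rw [e]
        exact Topology.IsInducing.id)
    haveI := TopCat.Presheaf.stalkPushforward.stalkPushforward_iso_of_isInducing (C := CommRingCat.{u}) (f := (FrobSch.frob Y p).toImage.base) hind Y.presheaf x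
    exact (((ConcreteCategory.isIso_iff_bijective _).1 this).1).comp ((FrobSch.frob Y p).stalkFunctor_toImage_injective _)

end Groth.Agent.S19611
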