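import Groth.Statements.S19612
import Mathlib.RingTheory.Flat.Stability
import Mathlib.RingTheory.Flat.TorsionFree
import Mathlib.RingTheory.WittVector.DiscreteValuationRing
import Mathlib.LinearAlgebra.TensorProduct.Quotient
-- import your own Groth.Agent.* helpers here

set_option autoImplicit false
universe u
open scoped TensorProduct
open CartMod

namespace Groth.Agent.S19612

/-- Let k be a perfect field of characteristic p, W = W(k) the ring of Witt vectors of k, and A a
commutative W-algebra which is complete and separated for the p-adic topology (an adic W-algebra).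
Then flatness of A over W is equivalent to flatness of A/p^nA = (W/p^nW) ⊗_W A over W/p^nW for every
n ≥ 1. -/
theorem result (p : ℕ) [Fact p.Prime] (k : Type u) [Field k]
    [CharP k p] [PerfectRing k p] (A : Type u) [CommRing A] [Algebra (WittVector p k) A]
    [IsAdicComplete (Ideal.span {(p : WittVector p k)}) A] :
    Module.Flat (WittVector p k) A ↔
      ∀ n : ℕ, 1 ≤ n →
        Module.Flat (WittVector p k ⧸ (Ideal.span {(p : WittVector p k)} ^ n))
          ((WittVector p k ⧸ (Ideal.span {(p : WittVector p k)} ^ n)) ⊗[WittVector p k] A) := by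
  constructor
  · intro h n _
    infer_instance
  · intro h
    have hirr : Irreducible (p : WittVector p k) := WittVector.irreducible p
    have hreg : ∀ a : A, (p : WittVector p k) • a = 0 → a = 0 := by
      intro a ha
      refine IsHausdorff.haus (inferInstance : IsHausdorff (Ideal.span {(p : WittVector p k)}) A) a fun m => ?_
      rw [SModEq.zero]
      set I := Ideal.span {(p : WittVector p k)} ^ (m + 1) with hI
      haveI := h (m + 1) (by omega)
      let π := fun x : WittVector p k => Ideal.Quotient.mk I x
      let f₁ : (WittVector p k ⧸ I) →ₗ[WittVector p k ⧸ I] (WittVector p k ⧸ I) := LinearMap.lsmul _ _ (π ((p : WittVector p k) ^ m))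
      let f₂ : (WittVector p k ⧸ I) →ₗ[WittVector p k ⧸ I] (WittVector p k ⧸ I) := LinearMap.lsmul _ _ (π p)
      have hI' : I = Ideal.span {(p : WittVector p k) ^ (m + 1)} := Ideal.span_singleton_pow _ _
      have hex : Function.Exact f₁ f₂ := by
        intro x
        obtain ⟨x, rfl⟩ := Ideal.Quotient.mk_surjective x
        simp only [f₂, π, LinearMap.lsmul_apply, smul_eq_mul, ← map_mul, Ideal.Quotient.eq_zero_iff_mem,
          hI', Ideal.mem_span_singleton, pow_succ', mul_dvd_mul_iff_left hirr.ne_zero]
        constructor
        · rintro ⟨c, rfl⟩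
          exact ⟨Ideal.Quotient.mk I c, by simp [f₁, π]⟩
        · rintro ⟨c, hc⟩
          obtain ⟨c, rfl⟩ := Ideal.Quotient.mk_surjective c
          simp only [f₁, π, LinearMap.lsmul_apply, smul_eq_mul, ← map_mul, Ideal.Quotient.eq, hI',
            Ideal.mem_span_singleton] at hc
          have h1 : (p : WittVector p k) ^ m ∣ (p : WittVector p k) ^ m * c - x :=
            (pow_dvd_pow _ m.le_succ).trans hc
          have := dvd_sub (dvd_mul_right ((p : WittVector p k) ^ m) c) h1
          simpa using this
      let x : (WittVector p k ⧸ I) ⊗[WittVector p k] A := 1 ⊗ₜ a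
      have hx : π p • x = 0 := by
        change Ideal.Quotient.mk I p • ((1 : WittVector p k ⧸ I) ⊗ₜ[WittVector p k] a) = 0
        rw [TensorProduct.smul_tmul', smul_eq_mul, mul_one,
          show (Ideal.Quotient.mk I (p : WittVector p k)) = (p : WittVector p k) • (1 : WittVector p k ⧸ I) from by
            rw [Algebra.smul_def, mul_one]; rfl,
          TensorProduct.smul_tmul, ha, TensorProduct.tmul_zero]
      obtain ⟨z, hz⟩ := ((Module.Flat.lTensor_exact ((WittVector p k ⧸ I) ⊗[WittVector p k] A) hex)
        (x ⊗ₜ[WittVector p k ⧸ I] (1 : WittVector p k ⧸ I))).1 (by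
        rw [LinearMap.lTensor_tmul]
        change x ⊗ₜ[WittVector p k ⧸ I] (π p • (1 : WittVector p k ⧸ I)) = 0
        rw [← TensorProduct.smul_tmul, hx, TensorProduct.zero_tmul])
      obtain ⟨y, rfl⟩ := (TensorProduct.rid _ _).symm.surjective z
      have hxy : π ((p : WittVector p k) ^ m) • y = x := by
        have := congrArg (TensorProduct.rid (WittVector p k ⧸ I) _) hz
        rw [TensorProduct.rid_symm_apply, LinearMap.lTensor_tmul, TensorProduct.rid_tmul,
          TensorProduct.rid_tmul, one_smul] at this
        simpa [f₁] using this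
      obtain ⟨b, hb⟩ : ∃ b, (1 : WittVector p k ⧸ I) ⊗ₜ[WittVector p k] b = y := by
        obtain ⟨b, hb⟩ := Submodule.mkQ_surjective _ (TensorProduct.quotTensorEquivQuotSMul A I y)
        refine ⟨b, (TensorProduct.quotTensorEquivQuotSMul A I).injective ?_⟩
        rw [← map_one (Ideal.Quotient.mk I), TensorProduct.quotTensorEquivQuotSMul_mk_tmul, one_smul]
        exact hb
      have hab : (1 : WittVector p k ⧸ I) ⊗ₜ[WittVector p k] (((p : WittVector p k) ^ m) • b - a) = 0 := by
        rw [TensorProduct.tmul_sub, sub_eq_zero]
        change _ = x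
        rw [← hxy, ← hb, ← TensorProduct.smul_tmul, TensorProduct.smul_tmul', Algebra.smul_def, mul_one,
          smul_eq_mul, mul_one]
        rfl
      have hmem := congrArg (TensorProduct.quotTensorEquivQuotSMul A I) hab
      rw [map_zero, ← map_one (Ideal.Quotient.mk I), TensorProduct.quotTensorEquivQuotSMul_mk_tmul,
        one_smul, Submodule.Quotient.mk_eq_zero] at hmem
      have hle : I • (⊤ : Submodule (WittVector p k) A) ≤ Ideal.span {(p : WittVector p k)} ^ m • ⊤ :=
        Submodule.smul_mono (Ideal.pow_le_pow_right m.le_succ) le_rfl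
      have hb' : ((p : WittVector p k) ^ m) • b ∈ Ideal.span {(p : WittVector p k)} ^ m • (⊤ : Submodule (WittVector p k) A) :=
        Submodule.smul_mem_smul (Ideal.pow_mem_pow (Ideal.mem_span_singleton_self _) m) Submodule.mem_top
      simpa using sub_mem hb' (hle hmem)
    haveI : Module.IsTorsionFree (WittVector p k) A := ⟨fun c hc x y hxy => by
      obtain ⟨e, v, rfl⟩ := IsDiscreteValuationRing.eq_unit_mul_pow_irreducible hc.ne_zero hirr
      have hj : ∀ j : ℕ, ∀ a : A, ((p : WittVector p k) ^ j) • a = 0 → a = 0 := by
        intro j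
        induction j with
        | zero => intro a ha; simpa using ha
        | succ j ih => intro a ha; rw [pow_succ', mul_smul] at ha; exact ih a (hreg _ ha)
      have h0 : ((v : WittVector p k) * (p : WittVector p k) ^ e) • (x - y) = 0 := by
        simp only [smul_sub]; exact sub_eq_zero.2 hxy
      exact sub_eq_zero.1 (hj _ _ (by rwa [mul_smul, v.isUnit.smul_eq_zero] at h0))⟩
    infer_instance

end Groth.Agent.S19612
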