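import Groth.Statements.S19616
import Groth.Agent.Dilat.PAdic

set_option autoImplicit false
universe u
open CartMod

namespace Groth.Agent.S19616

/-- Let p be a prime, A a commutative ring which is complete and separated for the p-adic topology and
has no p-torsion, and a_1, …, a_n elements of A (so that (p, a_1, …, a_n) is an open ideal
containing p). Then there is a commutative A-algebra D, complete and separated for the p-adic
topology and without p-torsion, in which each a_i is divisible by p, with the following universal
property: for every A-algebra B which is p-adically complete and separated, has no p-torsion, and in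
which each a_i is divisible by p, there is exactly one A-algebra homomorphism D → B; moreover this
homomorphism is surjective whenever A → B is. (D is the coordinate ring of the dilatation of Spf A
with respect to p along the closed subscheme defined by (p, a_1, …, a_n). The published statement is
for flat p-adic formal schemes locally of finite type over the Witt vectors of a perfect field; this
row is its affine, ring-level case without a finiteness hypothesis.) -/
theorem result (p : ℕ) [Fact p.Prime]
    (A : Type u) [CommRing A] [IsAdicComplete (Ideal.span {(p : A)}) A]
    (hA : IsSMulRegular A (p : A)) {n : ℕ} (a : Fin n → A) :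
    ∃ (D : Type u) (_ : CommRing D) (_ : Algebra A D),
      IsAdicComplete (Ideal.span {(p : D)}) D ∧ IsSMulRegular D (p : D) ∧
      (∀ i, algebraMap A D (a i) ∈ Ideal.span {(p : D)}) ∧
      ∀ (B : Type u) [CommRing B] [Algebra A B] [IsAdicComplete (Ideal.span {(p : B)}) B],
        IsSMulRegular B (p : B) → (∀ i, algebraMap A B (a i) ∈ Ideal.span {(p : B)}) →
          Nonempty (D →ₐ[A] B) ∧ Subsingleton (D →ₐ[A] B) ∧
            (Function.Surjective (algebraMap A B) → ∀ f : D →ₐ[A] B, Function.Surjective f) := by
  refine ⟨Groth.Agent.Dilat.Cpl A a p, inferInstance, inferInstance, Groth.Agent.Dilat.cpl_complete A a p,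
    Groth.Agent.Dilat.cpl_regular A a p, fun i => ?_, fun B _ _ _ hB hB' =>
    ⟨Groth.Agent.Dilat.cpl_lift A a p B hB hB', ⟨Groth.Agent.Dilat.cpl_ext A a p B hB⟩, fun hs f b => ?_⟩⟩
  · rw [IsScalarTower.algebraMap_apply A (Groth.Agent.Dilat.Alg A (p : A) a) (Groth.Agent.Dilat.Cpl A a p),
      Groth.Agent.Dilat.alg_div, map_mul, map_natCast, map_natCast]
    exact Ideal.mul_mem_right _ _ (Ideal.mem_span_singleton_self _)
  · obtain ⟨c, rfl⟩ := hs b
    exact ⟨algebraMap A _ c, f.commutes c⟩

end Groth.Agent.S19616
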