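import Groth.Statements.S19618
import Mathlib
-- import your own Groth.Agent.* helpers here

set_option autoImplicit false
universe u
open CategoryTheory CategoryTheory.Limits AlgebraicGeometry Opposite TopologicalSpace
open BlowUp

namespace Groth.Agent.S19618

/-- Let X be a locally Noetherian scheme, Y an effective Cartier divisor on X (a quasi-coherent ideal
sheaf which, near every point, is generated on some affine open by one nonzerodivisor; Y is its
support) and Z a closed integral subscheme (a closed immersion i from an integral scheme with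
generic point ξ). If Y and Z intersect properly — every point ζ of Y ∩ Z which is maximal under
generization inside Y ∩ Z satisfies dim O_{X,ζ} = codim(Y,X) + codim(Z,X), where codim(Y,X) is the
infimum over y ∈ Y of dim O_{X,y} and codim(Z,X) = dim O_{X,i(ξ)} — then Z is not contained in Y. -/
theorem result {X Z : Scheme.{u}}
    [IsLocallyNoetherian X] (𝓘 : X.IdealSheafData) (hY : BlowUp.IsEffCartierIdeal 𝓘)
    (i : Z ⟶ X) [IsClosedImmersion i] [IsIntegral Z]
    (hprop : ∀ ζ : ↥X, ζ ∈ (𝓘.support : Set ↥X) ∩ Set.range i.base →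
        (∀ ζ' : ↥X, ζ' ∈ (𝓘.support : Set ↥X) ∩ Set.range i.base → ζ' ⤳ ζ → ζ' = ζ) →
        ringKrullDim ↑(X.presheaf.stalk ζ) =
          (⨅ y : (𝓘.support : Set ↥X), ringKrullDim ↑(X.presheaf.stalk y.1)) +
            ringKrullDim ↑(X.presheaf.stalk (i (genericPoint ↥Z)))) :
    ¬ Set.range i.base ⊆ (𝓘.support : Set ↥X) := by
  intro hsub
  let η := genericPoint ↥Z
  let ζ : X := i η
  have hmem : ζ ∈ (𝓘.support : Set ↥X) ∩ Set.range i.base := ⟨hsub ⟨η, rfl⟩, ⟨η, rfl⟩⟩
  have hd := hprop ζ hmem (fun ζ' hζ' hs => by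
    obtain ⟨-, z, rfl⟩ := hζ'
    exact (hs.antisymm ((genericPoint_specializes z).map i.continuous)).eq)
  have h1 : (1 : WithBot ℕ∞) ≤ ⨅ y : (𝓘.support : Set ↥X), ringKrullDim ↑(X.presheaf.stalk y.1) := by
    refine le_iInf fun y => ?_
    obtain ⟨U, hyU, f, hf, hI⟩ := hY y.1
    letI := X.presheaf.algebra_section_stalk ⟨y.1, hyU⟩
    haveI := U.2.isLocalization_stalk ⟨y.1, hyU⟩
    set g : X.presheaf.stalk y.1 := algebraMap Γ(X, U.1) (X.presheaf.stalk y.1) f with hg
    have hgn : g ∈ nonZeroDivisors (X.presheaf.stalk y.1) :=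
      IsLocalization.map_nonZeroDivisors_le (U.2.primeIdealOf ⟨y.1, hyU⟩).asIdeal.primeCompl _
        (Submonoid.mem_map.2 ⟨f, hf, rfl⟩)
    have hgu : g ∈ IsLocalRing.maximalIdeal (X.presheaf.stalk y.1) := by
      rw [IsLocalRing.mem_maximalIdeal, mem_nonunits_iff]
      intro hu
      have hy : y.1 ∈ X.basicOpen f := (X.mem_basicOpen f y.1 hyU).2 hu
      have := y.2
      rw [SetLike.mem_coe, 𝓘.mem_support_iff_of_mem hyU, hI, Scheme.zeroLocus_span,
        Scheme.zeroLocus_singleton] at this
      exact this hy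
    by_contra hlt
    haveI : Ring.KrullDimLE 0 (X.presheaf.stalk y.1) := by
      rw [Ring.krullDimLE_iff]
      have h2 : ringKrullDim (X.presheaf.stalk y.1) ≠ ⊥ := ringKrullDim_ne_bot
      generalize ringKrullDim (X.presheaf.stalk y.1) = d at hlt h2 ⊢
      induction d using WithBot.recBotCoe with
      | bot => exact absurd rfl h2
      | coe d =>
        have : d < 1 := WithBot.coe_lt_coe.1 (not_le.1 hlt)
        simp [ENat.lt_one_iff_eq_zero.1 this]
    obtain ⟨n, hn⟩ := Ring.KrullDimLE.isNilpotent_iff_mem_maximalIdeal.2 hgu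
    exact zero_ne_one (α := X.presheaf.stalk y.1) ((nonZeroDivisors _).pow_mem hgn n |> fun h =>
      ((mem_nonZeroDivisors_iff.1 h).1 1 (by rw [hn, zero_mul])).symm)
  have hfin : ringKrullDim ↑(X.presheaf.stalk ζ) ≠ ⊤ := ringKrullDim_ne_top
  have hbot : ringKrullDim ↑(X.presheaf.stalk ζ) ≠ ⊥ := ringKrullDim_ne_bot
  have h3 : (1 : WithBot ℕ∞) + ringKrullDim ↑(X.presheaf.stalk ζ) ≤ ringKrullDim ↑(X.presheaf.stalk ζ) := by
    conv_rhs => rw [hd]
    exact add_le_add h1 le_rfl
  generalize ringKrullDim ↑(X.presheaf.stalk ζ) = d at hfin hbot h3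
  induction d using WithBot.recBotCoe with
  | bot => exact hbot rfl
  | coe d =>
    induction d using ENat.recTopCoe with
    | top => exact hfin rfl
    | coe k =>
      have : (1 + k : ℕ) ≤ k := by exact_mod_cast h3
      omega

end Groth.Agent.S19618
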