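import Groth.Statements.S19620
import Groth.Agent.KFlatLib.Scheme.SupportPush
import Groth.Agent.KFlatLib.Scheme.RpushRestrict
import Groth.Agent.KFlatLib.Scheme.ProjLocFree
import Groth.Agent.KFlatLib.Scheme.CohD
import Groth.Prelude.Def_DerSch
-- import your own Groth.Agent.* helpers here

set_option autoImplicit false
set_option linter.style.haveILetI false
universe u
open CategoryTheory CategoryTheory.Limits AlgebraicGeometry
attribute [local instance] HasDerivedCategory.standard
open DCoh
set_option backward.isDefEq.respectTransparency false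

namespace Groth.Agent.S19620

/-- Let f : X → Y be a proper morphism of schemes, with Rf_* the total right derived functor of f_* on
the unbounded derived categories of modules (assumed to exist), let Z ⊆ X be a closed subset and E
an object of D(O_X) whose cohomology sheaves are all supported in Z (every stalk at a point outside
Z is trivial). Then the cohomology sheaves of Rf_*E are supported in the closed subset f(Z) of Y.
(The published statement, made in a setting where all schemes are separated and of finite type over
a regular base, takes f proper and perfect and concludes that Rf_* carries perfect complexes acyclic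
outside Z to perfect complexes acyclic outside f(Z); the perfectness of Rf_*E is a separate result,
and the support inclusion, which is what the published proof establishes, holds for every proper f
and every E and is stated in that generality.) -/
theorem result {X Y : Scheme.{u}} (f : X ⟶ Y) [IsProper f]
    [DCoh.HasRpush f] (Z : Set ↥X) (hZ : IsClosed Z) (E : DCoh.D X)
    (hE : ∀ i : ℤ, CohB1.support (DCoh.HD E i) ⊆ Z) (i : ℤ) :
    CohB1.support (DCoh.HD ((DCoh.Rpush f).obj E) i) ⊆ f.base '' Z := by
  let V : Y.Opens := ⟨(f.base '' Z)ᶜ, (f.isClosedMap _ hZ).isOpen_compl⟩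
  haveI := Groth.Agent.KFlatLib.hasRpush_scheme (f ∣_ V)
  obtain ⟨e⟩ := Groth.Agent.KFlatLib.nonempty_rpush_restrictD_iso f V
  have h0 : IsZero ((DCoh.restrictD (f ⁻¹ᵁ V).ι).obj E) :=
    Groth.Agent.KFlatLib.isZero_restrictD_of_support (f ⁻¹ᵁ V) E Z hE
      fun x hx hxZ => hx ⟨x, hxZ, rfl⟩
  haveI : (DCoh.Rpush (f ∣_ V)).Additive :=
    (Groth.Agent.KFlatLib.exists_rightDerived_triangle (Scheme.Modules.pushforward (f ∣_ V)) _
      (Pretriangulated.contractible_distinguished ((DCoh.restrictD (f ⁻¹ᵁ V).ι).obj E))).1
  have h1 : IsZero ((DCoh.restrictD V.ι).obj ((DCoh.Rpush f).obj E)) :=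
    ((DCoh.Rpush (f ∣_ V)).map_isZero h0).of_iso (e.app E)
  intro y hy
  by_contra hyV
  apply hy
  have hz : IsZero ((Scheme.Modules.restrictFunctor V.ι).obj (DCoh.HD ((DCoh.Rpush f).obj E) i)) :=
    ((DerivedCategory.homologyFunctor _ i).map_isZero h1).of_iso
      (Groth.Agent.KFlatLib.restrictHDIso V.ι _ i).symm
  have hs : Subsingleton (((Scheme.Modules.restrictFunctor V.ι).obj
      (DCoh.HD ((DCoh.Rpush f).obj E) i)).presheaf.stalk ⟨y, hyV⟩) :=
    ModuleCat.subsingleton_of_isZero ((DerSch.stalkFunctor (V : Scheme.{u}) ⟨y, hyV⟩).map_isZero hz)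
  exact @Equiv.subsingleton _ _
    ((Scheme.Modules.restrictStalkNatIso V.ι ⟨y, hyV⟩).app _).addCommGroupIsoToAddEquiv.symm.toEquiv hs

end Groth.Agent.S19620
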