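import Groth.Statements.S19621
import Groth.Agent.IndCofLib.Divisible
import Groth.Agent.S14497

set_option autoImplicit false
set_option backward.isDefEq.respectTransparency false
set_option backward.isDefEq.respectTransparency.types false
universe v
open IndCof

namespace Groth.Agent.S19621

open CategoryTheory CategoryTheory.Limits in
/-- Let C be a small abelian category all of whose objects are Artinian and killed by some positive
integer, and A an ind-object of C of cofinite type (A[n] is isomorphic to an object of C for every n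
≥ 1). Then the following are equivalent: (i) the inverse system of copies of A indexed by the
positive integers ordered by divisibility, with transition map from the m-th to the n-th copy
multiplication by m/n, is Mittag-Leffler (for every n the images of these maps in the n-th copy are
eventually constant): A is divisibly ML; (ii) A has a divisible sub-object B' (multiplication by
every positive integer is an epimorphism of B') such that A/B' is isomorphic to an object of C;
(iii) multiplication by p on A is an epimorphism for all but finitely many primes p. (The published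
statement phrases (ii) as: A modulo its divisible part lies in C, and (iii) as: the p-primary part
of A is divisible for almost all p; the divisible part is the largest divisible sub-object, and
multiplication by p on A is an epimorphism exactly when it is one on the p-primary part, the other
primary parts being uniquely p-divisible.) -/
theorem result {C : Type v} [SmallCategory C] [Abelian C]
    (hart : ∀ X : C, IsArtinianObject X)
    (htor : ∀ X : C, ∃ n : ℕ, 0 < n ∧ n • 𝟙 X = 0)
    (A : Ind C) (hA : ∀ n : ℕ, 0 < n → (Ind.yoneda (C := C)).essImage (kernel (n • 𝟙 A))) :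
    ((∀ n : ℕ, 0 < n → ∃ m : ℕ, 0 < m ∧ n ∣ m ∧ ∀ m' : ℕ, 0 < m' → m ∣ m' →
        imageSubobject ((m' / n) • 𝟙 A) = imageSubobject ((m / n) • 𝟙 A)) ↔
      ∃ B' : Subobject A, (∀ k : ℕ, 0 < k → Epi (k • 𝟙 (B' : Ind C))) ∧
        (Ind.yoneda (C := C)).essImage (cokernel B'.arrow)) ∧
    ((∃ B' : Subobject A, (∀ k : ℕ, 0 < k → Epi (k • 𝟙 (B' : Ind C))) ∧
        (Ind.yoneda (C := C)).essImage (cokernel B'.arrow)) ↔
      {p : ℕ | p.Prime ∧ ¬ Epi (p • 𝟙 A)}.Finite) := by
  open Groth.Agent.IndCofLib CategoryTheory CategoryTheory.Limits in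
  have key : ∀ B' : Subobject A, (∀ k : ℕ, 0 < k → Epi (k • 𝟙 (B' : Ind C))) →
      ∀ M : ℕ, M • 𝟙 (cokernel B'.arrow) = 0 → ∃ g : A ⟶ (B' : Ind C), g ≫ B'.arrow = M • 𝟙 A := fun B' _ M hM => by
    refine ⟨Abelian.monoLift B'.arrow (M • 𝟙 A) ?_, Abelian.monoLift_comp _ _ _⟩
    rw [Preadditive.nsmul_comp, Category.id_comp, ← Category.comp_id (cokernel.π _), ← Preadditive.comp_nsmul, hM,
      comp_zero]
  have kill : ∀ Q : Ind C, Small Q → ∃ M : ℕ, 0 < M ∧ M • 𝟙 Q = 0 := fun Q hQ => by
    obtain ⟨X, ⟨e⟩⟩ := hQ
    obtain ⟨M, hM, hMX⟩ := htor X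
    refine ⟨M, hM, ?_⟩
    rw [← e.inv_hom_id, ← Category.id_comp e.hom, ← Ind.yoneda.map_id X, ← Preadditive.comp_nsmul,
      ← Preadditive.nsmul_comp, ← y.map_nsmul, hMX, y.map_zero, zero_comp, comp_zero]
  refine ⟨⟨fun h => ?_, fun ⟨B', hdiv, hsmall⟩ => ?_⟩, ⟨fun ⟨B', hdiv, hsmall⟩ => ?_, fun hfin => ?_⟩⟩
  · obtain ⟨B', hdiv, M, hM, hMz⟩ := (Groth.Agent.S14497.result A).1.1 h
    refine ⟨B', hdiv, ?_⟩
    obtain ⟨g, hg⟩ := key B' hdiv M hMz
    have := hdiv M hM
    have hBM : B' = imageSubobject (M • 𝟙 A) :=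
      le_antisymm (le_image_nsmul B' M) (imageSubobject_le _ g hg)
    rw [hBM]
    exact small_of_iso ((cokernelEpiComp (factorThruImageSubobject _) (imageSubobject (M • 𝟙 A)).arrow).symm ≪≫
      cokernelIsoOfEq (imageSubobject_arrow_comp _)).symm
        (small_cokernel_nsmul hart htor fun k => hA _ (pow_pos hM k))
  · obtain ⟨M, hM, hMz⟩ := kill _ hsmall
    exact (Groth.Agent.S14497.result A).1.2 ⟨B', hdiv, M, hM, hMz⟩
  · obtain ⟨M, hM, hMz⟩ := kill _ hsmall
    obtain ⟨g, hg⟩ := key B' hdiv M hMz
    refine (Finset.finite_toSet (Finset.range (M + 1))).subset fun p hp => ?_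
    simp only [Set.mem_setOf_eq] at hp
    simp only [Finset.coe_range, Set.mem_Iio]
    by_contra hlt
    apply hp.2
    have hndvd : ¬ p ∣ M := fun h => hlt (lt_of_le_of_lt (Nat.le_of_dvd hM h) (Nat.lt_succ_self M))
    obtain ⟨u, v, huv⟩ : IsCoprime (M : ℤ) (p : ℤ) :=
      Nat.isCoprime_iff_coprime.2 ((hp.1.coprime_iff_not_dvd.2 hndvd).symm)
    refine epi_of_elements _ fun X a => ?_
    have := hdiv p hp.1.pos
    obtain ⟨X', π, hπ, w, hw⟩ := exists_lift (p • 𝟙 (B' : Ind C)) (a ≫ g)
    refine ⟨X', π, hπ, u • (w ≫ B'.arrow) + v • (y.map π ≫ a), ?_⟩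
    have hw' := congrArg (· ≫ B'.arrow) hw
    simp only [Category.assoc, hg, Preadditive.comp_nsmul, Preadditive.nsmul_comp, Category.comp_id,
      Category.id_comp] at hw'
    rw [Preadditive.comp_nsmul, Category.comp_id, smul_add, smul_comm p u, hw', smul_comm p v, ← natCast_zsmul,
      ← natCast_zsmul (y.map π ≫ a), smul_smul, smul_smul, ← add_smul, huv, one_smul]
  · exact exists_divisible_of_finite hart htor hA hfin

end Groth.Agent.S19621
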