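import Groth.Statements.S19622
import Groth.Agent.IndCofLib.Divisible

set_option autoImplicit false
set_option backward.isDefEq.respectTransparency false
set_option backward.isDefEq.respectTransparency.types false
universe v
open IndCof

namespace Groth.Agent.S19622

open CategoryTheory CategoryTheory.Limits in
/-- Let C be a small abelian category all of whose objects are Artinian and killed by some positive
integer, and A an ind-object of C of cofinite type (A[n] is isomorphic to an object of C for every n
≥ 1). Then A has a largest divisible sub-object D — multiplication by every positive integer is an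
epimorphism of D, and D contains every sub-object of A with this property — and both D and A/D are
of cofinite type, so that 0 → D → A → A/D → 0 is an exact sequence of ind-objects of cofinite type.
(The published statement also describes A/D as the largest quotient of A all of whose primary parts
lie in C; that clause is not included here.) -/
theorem result {C : Type v} [SmallCategory C] [Abelian C]
    (hart : ∀ X : C, IsArtinianObject X)
    (htor : ∀ X : C, ∃ n : ℕ, 0 < n ∧ n • 𝟙 X = 0)
    (A : Ind C) (hA : ∀ n : ℕ, 0 < n → (Ind.yoneda (C := C)).essImage (kernel (n • 𝟙 A))) :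
    ∃ D : Subobject A, (∀ k : ℕ, 0 < k → Epi (k • 𝟙 (D : Ind C))) ∧
      (∀ D' : Subobject A, (∀ k : ℕ, 0 < k → Epi (k • 𝟙 (D' : Ind C))) → D' ≤ D) ∧
      (∀ n : ℕ, 0 < n → (Ind.yoneda (C := C)).essImage (kernel (n • 𝟙 (D : Ind C)))) ∧
      (∀ n : ℕ, 0 < n → (Ind.yoneda (C := C)).essImage (kernel (n • 𝟙 (cokernel D.arrow)))) := by
  open Groth.Agent.IndCofLib in
  refine ⟨divPart A, epi_nsmul_divPart A, fun D' hD' => le_divPart hD',
    fun n hn => small_tors_divPart hart htor hA hn, fun n hn => ?_⟩
  exact Groth.Agent.IndCofLib.small_tors_cokernel hart htor (n := n)
    (fun k => Groth.Agent.IndCofLib.small_tors_divPart hart htor hA (pow_pos hn k))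
    (fun k => hA _ (pow_pos hn k)) _

end Groth.Agent.S19622
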