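import Groth.Statements.S19625
import Groth.Agent.Lib.CurveOnSurf
import Groth.Agent.PnCoh.Chow.Proper
import Groth.Agent.GrpSchLib.SmoothRegular

set_option autoImplicit false
set_option backward.isDefEq.respectTransparency false
set_option backward.isDefEq.respectTransparency.types false
set_option linter.style.haveILetI false
set_option linter.unusedSectionVars false
set_option maxHeartbeats 400000
universe u
open CategoryTheory CategoryTheory.Limits AlgebraicGeometry
open Surf

namespace Groth.Agent.S19625

open Groth.Agent.H23
set_option maxHeartbeats 1500000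

/-- Let k be a field and S an integral surface (dimension two) which is smooth over k and projective (a
closed immersion into some P^n_k over k). Let i : C → S be the closed immersion of an integral curve
(dimension one) all of whose local rings are regular, with ideal sheaf I ⊆ O_S, and let N =
Hom(i^*I, O_C) be the normal sheaf of C in S, the dual of the conormal sheaf i^*I (the sheaf Hom,
assumed to exist as the right adjoint of tensoring with i^*I). Then the self-intersection number
C·C, namely the intersection number of O_S(C) with itself computed as the alternating sum χ(O_S) −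
2χ(I) + χ(I ⊗ I) with the inverse I = O_S(−C) of O_S(C) (packaged as FGA.intNum), equals the degree
of N on C, the degree of a module M on C being χ(M) − χ(O_C). -/
theorem result (k : Type u) [Field k] (S : Scheme.{u}) [S.Over (Spec (CommRingCat.of k))]
    [IsIntegral S] (hdim : topologicalKrullDim S = 2) [Smooth (S ↘ (Spec (CommRingCat.of k)))]
    (hproj : ∃ (n : ℕ) (ι : S ⟶ CohB1.ProjSpace n k), IsClosedImmersion ι ∧ ι ≫ CohB1.ProjSpace.toSpec n k = (S ↘ (Spec (CommRingCat.of k))))
    (C : Scheme.{u}) (i : C ⟶ S) [IsClosedImmersion i] [IsIntegral C] (hC : topologicalKrullDim C = 1)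
    (hCreg : ∀ c : C, IsRegularLocalRing (C.presheaf.stalk c))
    [DCoh.HasSheafHom (Omega.conormal i)] :
    letI : C.Over (Spec (CommRingCat.of k)) := ⟨i ≫ (S ↘ (Spec (CommRingCat.of k)))⟩
    FGA.intNum k S 2 ![ClSub.idealMod i.ker, ClSub.idealMod i.ker] (Coh.structureModule S) =
      Curv2.deg k C ((DCoh.sheafHom (Omega.conormal i)).obj (Coh.structureModule C)) 1 := by
  letI := PicMul.clMonoid (X := S)
  letI := PicMul.clMonoid (X := C)
  letI : C.Over (Spec (CommRingCat.of k)) := ⟨i ≫ (S ↘ (Spec (CommRingCat.of k)))⟩
  obtain ⟨N, ι, hi, hι⟩ := hproj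
  haveI := hi
  haveI := PnCoh.Chow.isProper_toSpec N k
  haveI : IsProper (S ↘ Spec (CommRingCat.of k)) := hι ▸ inferInstance
  haveI : IsProper (C ↘ Spec (CommRingCat.of k)) :=
    show IsProper (i ≫ (S ↘ Spec (CommRingCat.of k))) from inferInstance
  have hreg : ∀ x : S, IsRegularLocalRing (S.presheaf.stalk x) := fun x =>
    GrpSchLib.isRegularLocalRing_stalk_of_smooth (S ↘ Spec (CommRingCat.of k)) x
  have hI := CurveOnSurf.isInvertible_ideal (S ↘ Spec (CommRingCat.of k)) hdim hreg i hC
  have hd : topologicalKrullDim S ≤ 2 := hdim.le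
  have hN : PicF.IsInvertible (Omega.conormal i) := PicClLib.isInvertible_pullback i hI
  obtain ⟨hD, hDN⟩ := CurveOnSurf.dual_of_sheafHom hN
  rw [SurfPairing.intNum_eq_pair k hd hI hI, CurveOnSurf.pair_ideal (k := k) i hI hI]
  obtain ⟨e⟩ := PicMul.cl_eq_iff.1 (((PicMul.cl_tensor _ _).trans hDN).trans PicMul.one_def)
  have h := CurveRR.deg_tensor k hC hD hN
  have h0 : Curv2.deg k C (Coh.structureModule C) 1 = 0 := by
    unfold Curv2.deg
    push_cast
    ring
  have he := CurveRR.deg_congr k (L := (DCoh.tensorBi.obj ((DCoh.sheafHom (Omega.conormal i)).obj (Coh.structureModule C))).obj (Omega.conormal i)) e 1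
  rw [show Curv2.deg k C (Omega.conormal i) 1 = Curv2.deg k C ((Scheme.Modules.pullback i).obj (ClSub.idealMod i.ker)) 1 from rfl] at h
  linarith

end Groth.Agent.S19625
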