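import Groth.Statements.S19626
import Groth.Agent.BigSiteLib.FlasquePush
-- import your own Groth.Agent.* helpers here

set_option autoImplicit false
universe u
open CategoryTheory CategoryTheory.Limits AlgebraicGeometry Opposite
open EtCore

namespace Groth.Agent.S19626

/-- Let f : X → Y be a morphism of schemes and F an abelian sheaf on the small étale site of X which is
flasque in the sense of étale cohomology: H^q(W, F|_W) = 0 for every étale X-scheme W and every q >
0, where F|_W is the pullback of F along the structure morphism of W. Then the direct image f_*F is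
flasque on Y in the same sense: H^q(W', (f_*F)|_{W'}) = 0 for every étale Y-scheme W' and every q >
0. -/
theorem result {X Y : Scheme.{u}} (f : X ⟶ Y)
    (F : EtCoh.Ab X)
    (hF : ∀ (W : X.Etale) (q : ℕ), 0 < q → Subsingleton (EtCoh.H W.left ((EtCoh.pull W.hom).obj F) q))
    (W' : Y.Etale) (q : ℕ) (hq : 0 < q) :
    Subsingleton (EtCoh.H W'.left ((EtCoh.pull W'.hom).obj ((EtCoh.push f).obj F)) q) := by
  exact Groth.Agent.BigSiteLib.flabby_push f hF W' q hq

end Groth.Agent.S19626
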