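import Groth.Statements.S19628
import Groth.Agent.Synt29.ExtBC
import Groth.Agent.Synt29.DRGen

set_option autoImplicit false
universe u
open DeRham

namespace Groth.Agent.S19628

open scoped TensorProduct in
/-- Kernels and images commute with extension of the base field. -/
theorem span_ker_range {k K N N₁ M M₁ : Type*} [Field k] [Field K] [Algebra k K] [AddCommGroup N]
    [Module k N] [AddCommGroup N₁] [Module k N₁] [AddCommGroup M] [Module K M] [AddCommGroup M₁] [Module K M₁]
    (d : N →ₗ[k] N₁) (d' : M →ₗ[K] M₁) (ψ : N →+ M) (ψ₁ : N₁ →+ M₁) (hcomm : ∀ x, ψ₁ (d x) = d' (ψ x))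
    (Φ : K ⊗[k] N →+ M) (hΦ : Function.Bijective Φ) (hΦt : ∀ c x, Φ (c ⊗ₜ x) = c • ψ x)
    (Φ₁ : K ⊗[k] N₁ →+ M₁) (hΦ₁ : Function.Bijective Φ₁) (hΦt₁ : ∀ c x, Φ₁ (c ⊗ₜ x) = c • ψ₁ x) :
    Submodule.span K (ψ '' (LinearMap.ker d : Set N)) = LinearMap.ker d' ∧
      Submodule.span K (ψ₁ '' (LinearMap.range d : Set N₁)) = LinearMap.range d' := by
  have hd : ∀ z, d' (Φ z) = Φ₁ (d.lTensor K z) := by
    intro z
    induction z using TensorProduct.induction_on with
    | zero => simp
    | add x y hx hy => simp only [map_add, hx, hy]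
    | tmul c x => rw [LinearMap.lTensor_tmul, hΦt, hΦt₁, map_smul, hcomm]
  refine ⟨le_antisymm ?_ ?_, le_antisymm ?_ ?_⟩
  · rw [Submodule.span_le]
    rintro _ ⟨x, hx, rfl⟩
    rw [SetLike.mem_coe, LinearMap.mem_ker] at hx ⊢
    rw [← hcomm, hx, map_zero]
  · intro y hy
    obtain ⟨z, rfl⟩ := hΦ.2 y
    rw [LinearMap.mem_ker, hd, ← map_zero Φ₁] at hy
    obtain ⟨w, rfl⟩ := (Module.Flat.lTensor_exact K (LinearMap.exact_subtype_ker_map d) z).1 (hΦ₁.1 hy)
    clear hy
    induction w using TensorProduct.induction_on with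
    | zero => simp
    | add u v hu hv => rw [map_add, map_add]; exact add_mem hu hv
    | tmul c x =>
      rw [LinearMap.lTensor_tmul, hΦt]
      exact Submodule.smul_mem _ _ (Submodule.subset_span ⟨x, x.2, rfl⟩)
  · rw [Submodule.span_le]
    rintro _ ⟨_, ⟨x, rfl⟩, rfl⟩
    exact ⟨ψ x, (hcomm x).symm⟩
  · rintro _ ⟨y, rfl⟩
    obtain ⟨z, rfl⟩ := hΦ.2 y
    rw [hd]
    clear hd
    induction z using TensorProduct.induction_on with
    | zero => simp
    | add u v hu hv => rw [map_add, map_add]; exact add_mem hu hv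
    | tmul c x =>
      rw [LinearMap.lTensor_tmul, hΦt₁]
      exact Submodule.smul_mem _ _ (Submodule.subset_span ⟨d x, ⟨x, rfl⟩, rfl⟩)

open exteriorPower in
/-- In the affine case, at ring level, let k ⊆ K be an extension of fields of characteristic zero, A a
smooth k-algebra and A' = K ⊗_k A (a pushout square of commutative rings with the scalar-tower
conventions). Let d be the de Rham differential of A over k, d' that of A' over K, and ψ the map of
de Rham complexes induced by A → A', assumed compatible with d and d'. Then for every p the K-span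
of ψ(closed p-forms of A/k) is the module of closed p-forms of A'/K, and the K-span of ψ(exact
p-forms of A/k) is the module of exact p-forms of A'/K. Together with the degreewise base-change
bijection for exterior powers of differentials, this says that the natural map H^p_dR(A/k) ⊗_k K →
H^p_dR(A'/K) is an isomorphism. (The source states the isomorphism H^i_dR(X) ⊗_k K ≅ H^i_dR(X_K) for
a smooth variety X, induced by a quasi-isomorphism of complexes; this row is the case of an affine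
X, phrased through closed and exact forms.) -/
theorem result
    (k K : Type u) [Field k] [Field K] [CharZero k] [Algebra k K]
    (A A' : Type u) [CommRing A] [CommRing A'] [Algebra k A] [Algebra.Smooth k A]
    [Algebra A A'] [Algebra k A'] [IsScalarTower k A A'] [Algebra K A'] [IsScalarTower k K A']
    [Algebra.IsPushout k K A A']
    (d : ∀ p : ℕ, ↥(⋀[A]^p (Ω[A⁄k])) →ₗ[k] ↥(⋀[A]^(p + 1) (Ω[A⁄k])))
    (hd : DeRham.IsDiff (KaehlerDifferential.D k A) d)
    (d' : ∀ p : ℕ, ↥(⋀[A']^p (Ω[A'⁄K])) →ₗ[K] ↥(⋀[A']^(p + 1) (Ω[A'⁄K])))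
    (hd' : DeRham.IsDiff (KaehlerDifferential.D K A') d')
    (ψ : ∀ p : ℕ, ↥(⋀[A]^p (Ω[A⁄k])) →+ ↥(⋀[A']^p (Ω[A'⁄K])))
    (hψ : DeRham.IsCxMap (KaehlerDifferential.D k A) (KaehlerDifferential.D K A') (algebraMap A A') ψ)
    (hcomm : ∀ (p : ℕ) (x : ↥(⋀[A]^p (Ω[A⁄k]))), ψ (p + 1) (d p x) = d' p (ψ p x))
    (p : ℕ) :
    Submodule.span K (ψ p '' (DeRham.cocycles d p : Set ↥(⋀[A]^p (Ω[A⁄k])))) = DeRham.cocycles d' p ∧
      Submodule.span K (ψ p '' (DeRham.coboundaries d p : Set ↥(⋀[A]^p (Ω[A⁄k])))) =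
        DeRham.coboundaries d' p := by
  
  classical
  open scoped TensorProduct in
  have key : ∀ q, ∃ Φ : K ⊗[k] ↥(⋀[A]^q (Ω[A⁄k])) →+ ↥(⋀[A']^q (Ω[A'⁄K])),
      Function.Bijective Φ ∧ ∀ c x, Φ (c ⊗ₜ x) = c • ψ q x := by
    intro q
    let E := KaehlerDifferential.tensorKaehlerEquiv k K A A'
    have hE : ∀ b, E (1 ⊗ₜ KaehlerDifferential.D k A b) = KaehlerDifferential.D K A' (algebraMap A A' b) := fun b => by
      simp [E]
    let F := (exteriorPower.map q E.toLinearMap).comp (Groth.Agent.Synt29.ExtBC.fwd A A' (Ω[A⁄k]) q)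
    have hF : Function.Bijective F := by
      refine (Function.Bijective.comp ?_ (Groth.Agent.Synt29.ExtBC.bijective_fwd q) :
        Function.Bijective (exteriorPower.map q E.toLinearMap ∘ Groth.Agent.Synt29.ExtBC.fwd A A' (Ω[A⁄k]) q))
      refine Function.bijective_iff_has_inverse.2 ⟨exteriorPower.map q E.symm.toLinearMap, fun z => ?_, fun z => ?_⟩ <;>
        · rw [← LinearMap.comp_apply, ← exteriorPower.map_comp]
          simp [exteriorPower.map_id]
    let F1 : ↥(⋀[A]^q (Ω[A⁄k])) →+ ↥(⋀[A']^q (Ω[A'⁄K])) :=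
      F.toAddMonoidHom.comp (AddMonoidHom.mk' (fun x => (1 : A') ⊗ₜ[A] x) (fun x y => TensorProduct.tmul_add _ _ _))
    have hF1 : F1 = ψ q := Groth.Agent.Synt29.DRGen.addMonoidHom_ext _ (KaehlerDifferential.span_range_derivation k A)
      fun b₀ b => by
        rw [hψ q b₀ b]
        show F ((1 : A') ⊗ₜ[A] (b₀ • exteriorPower.ιMulti A q fun i => KaehlerDifferential.D k A (b i))) = _
        rw [TensorProduct.tmul_smul, ← algebraMap_smul A' b₀, map_smul, LinearMap.comp_apply,
          Groth.Agent.Synt29.ExtBC.fwd_tmul, one_smul, exteriorPower.map_apply_ιMulti]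
        simp only [Function.comp_def, LinearEquiv.coe_coe, hE]
        rfl
    let Cc := Algebra.IsPushout.cancelBaseChange k K A A' ↥(⋀[A]^q (Ω[A⁄k]))
    have hC : ∀ c x, Cc.symm (c ⊗ₜ x) = algebraMap K A' c ⊗ₜ x := fun c x => by
      rw [LinearEquiv.symm_apply_eq, show algebraMap K A' c ⊗ₜ[A] x = c • ((1 : A') ⊗ₜ[A] x) by
        rw [TensorProduct.smul_tmul', Algebra.smul_def, mul_one], map_smul, Algebra.IsPushout.cancelBaseChange_tmul,
        TensorProduct.smul_tmul', smul_eq_mul, mul_one]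
    refine ⟨F.toAddMonoidHom.comp Cc.symm.toLinearMap.toAddMonoidHom, hF.comp Cc.symm.bijective, fun c x => ?_⟩
    show F (Cc.symm (c ⊗ₜ x)) = _
    rw [hC, show algebraMap K A' c ⊗ₜ[A] x = algebraMap K A' c • ((1 : A') ⊗ₜ[A] x) by
      rw [TensorProduct.smul_tmul', smul_eq_mul, mul_one], map_smul, ← hF1, algebraMap_smul]
    rfl
  choose Φ hΦ hΦt using key
  refine ⟨(span_ker_range (d p) (d' p) (ψ p) (ψ (p + 1)) (hcomm p) (Φ p) (hΦ p) (hΦt p) (Φ (p + 1)) (hΦ _) (hΦt _)).1, ?_⟩
  cases p with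
  | zero => simp [DeRham.coboundaries]
  | succ p =>
    exact (span_ker_range (d p) (d' p) (ψ p) (ψ (p + 1)) (hcomm p) (Φ p) (hΦ p) (hΦt p) (Φ (p + 1)) (hΦ _) (hΦt _)).2


end Groth.Agent.S19628
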