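import Groth.Statements.S19629
import Mathlib

set_option autoImplicit false
universe u
open DeRham

namespace Groth.Agent.S19629

/-- Top forms on a coordinate plane are multiples of the coordinate volume form. -/
theorem exists_top {k A : Type u} [CommRing k] [CommRing A] [Algebra k A] {d : ℕ} (t : Fin d → A)
    (ht : Submodule.span A (Set.range fun i => KaehlerDifferential.D k A (t i)) = ⊤) (𝔞 : Ideal A) (S : Finset (Fin d))
    (hS : ∀ i ∈ S, t i ∈ 𝔞) (m : ℕ) (hm : S.card + m = d) (g : ↥(⋀[A ⧸ 𝔞]^m (Ω[(A ⧸ 𝔞)⁄k]))) :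
    ∃ (a : A) (v : Fin m → Fin d), (∀ i, i ∉ S → i ∈ Set.range v) ∧
      g = DeRham.gen (KaehlerDifferential.D k (A ⧸ 𝔞)) m (Ideal.Quotient.mk 𝔞 a) fun j => Ideal.Quotient.mk 𝔞 (t (v j)) := by
  classical
  have hc : Sᶜ.card = m := by rw [Finset.card_compl, Fintype.card_fin]; omega
  let v : Fin m → Fin d := Sᶜ.orderEmbOfFin hc
  have hv : ∀ i, i ∉ S → i ∈ Set.range v := fun i hi => by
    rw [Finset.range_orderEmbOfFin]
    simpa using hi
  let B := A ⧸ 𝔞
  let δ := KaehlerDifferential.D k B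
  let W : Set Ω[B⁄k] := Set.range fun j => δ (Ideal.Quotient.mk 𝔞 (t (v j)))
  have hspan : Submodule.span B W = ⊤ := by
    rw [eq_top_iff, ← KaehlerDifferential.span_range_derivation k B, Submodule.span_le]
    rintro _ ⟨y, rfl⟩
    obtain ⟨f, rfl⟩ := Ideal.Quotient.mk_surjective y
    have hmap : ∀ w : Ω[A⁄k], KaehlerDifferential.map k k A B w ∈ Submodule.span B W := by
      intro w
      have hw : w ∈ Submodule.span A (Set.range fun i => KaehlerDifferential.D k A (t i)) := ht ▸ Submodule.mem_top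
      induction hw using Submodule.span_induction with
      | mem x hx =>
        obtain ⟨i, rfl⟩ := hx
        rw [KaehlerDifferential.map_D]
        by_cases hi : i ∈ S
        · rw [show algebraMap A B (t i) = 0 from Ideal.Quotient.eq_zero_iff_mem.2 (hS i hi), map_zero]
          exact zero_mem _
        · obtain ⟨j, rfl⟩ := hv i hi
          exact Submodule.subset_span ⟨j, rfl⟩
      | zero => rw [map_zero]; exact zero_mem _
      | add a b _ _ ha hb => rw [map_add]; exact add_mem ha hb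
      | smul c a _ ha =>
        rw [map_smul, ← algebraMap_smul B c]
        exact Submodule.smul_mem _ _ ha
    have := hmap (KaehlerDifferential.D k A f)
    rwa [KaehlerDifferential.map_D] at this
  let w := exteriorPower.ιMulti B m fun j => δ (Ideal.Quotient.mk 𝔞 (t (v j)))
  have hg : g ∈ Submodule.span B {w} := by
    have hz : g ∈ Submodule.span B (exteriorPower.ιMulti B m '' {u | Set.range u ⊆ W}) := by
      rw [exteriorPower.ιMulti_span_of_span B m (Ω[B⁄k]) hspan]
      trivial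
    refine Submodule.span_le.2 ?_ hz
    rintro _ ⟨u, hu, rfl⟩
    choose σ hσ using fun j => hu (Set.mem_range_self j)
    have hu' : u = (fun j => δ (Ideal.Quotient.mk 𝔞 (t (v j)))) ∘ σ := funext fun j => (hσ j).symm
    by_cases hinj : Function.Injective σ
    · rw [hu', SetLike.mem_coe, show σ = Equiv.ofBijective σ (Finite.injective_iff_bijective.1 hinj) from rfl,
        AlternatingMap.map_perm]
      exact Submodule.smul_of_tower_mem _ _ (Submodule.subset_span rfl)
    · rw [Function.not_injective_iff] at hinj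
      obtain ⟨i, j, hij, hne⟩ := hinj
      rw [AlternatingMap.map_eq_zero_of_eq _ _ (show u i = u j by rw [hu', Function.comp_apply, Function.comp_apply, hij]) hne]
      exact zero_mem _
  obtain ⟨c, hc'⟩ := Submodule.mem_span_singleton.1 hg
  obtain ⟨a, rfl⟩ := Ideal.Quotient.mk_surjective c
  exact ⟨a, v, hv, hc'.symm⟩

open exteriorPower in
/-- In the chart case reached in its proof, let k be a field of characteristic zero and A a smooth
k-algebra carrying functions t_1, …, t_d whose differentials form a basis of Ω_{A/k} (a global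
system of étale coordinates on X = Spec A), and let D_1, …, D_n be the coordinate hyperplanes
t_{e(1)} = 0, …, t_{e(n)} = 0 for an injection e, so that D = D_1 ∪ ⋯ ∪ D_n is a simple normal
crossings divisor. For I ⊆ {1, …, n} write A_I = A/(t_{e(i)} : i ∈ I) for the coordinate ring of D_I
= ⋂_{i ∈ I} D_i, and let ψ_{I,J} (I ⊆ J) be the maps of de Rham complexes induced by the surjections
A_I → A_J. Then whenever s + 1 + m = d, the Čech differential ∏_{|I| = s} Ω^m_{A_I/k} → ∏_{|J| =
s+1} Ω^m_{A_J/k}, (ω_I) ↦ (Σ_{j ∈ J} ± ψ_{J∖j,J}(ω_{J∖j}))_J with the usual alternating signs, is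
surjective; for s = 0 this is the surjectivity of Ω^{d-1}(X) → ⊕_i Ω^{d-1}(D_i). (The source states
the surjectivity for a smooth affine variety X of dimension d with a simple normal crossings divisor
and reduces to this chart case étale-locally; here A_∅ is A/0 rather than A.) -/
theorem result
    (k : Type u) [Field k] [CharZero k] (A : Type u) [CommRing A] [Algebra k A] [Algebra.Smooth k A]
    (d n : ℕ) (t : Fin d → A) (e : Fin n ↪ Fin d)
    (b : Module.Basis (Fin d) A (Ω[A⁄k])) (hb : ∀ i, b i = KaehlerDifferential.D k A (t i))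
    (ψ : ∀ (I J : Finset (Fin n)) (p : ℕ), ↥(⋀[(A ⧸ (⨆ i ∈ I, Ideal.span {t (e i)} : Ideal A))]^p (Ω[(A ⧸ (⨆ i ∈ I, Ideal.span {t (e i)} : Ideal A))⁄k])) →+ ↥(⋀[(A ⧸ (⨆ i ∈ J, Ideal.span {t (e i)} : Ideal A))]^p (Ω[(A ⧸ (⨆ i ∈ J, Ideal.span {t (e i)} : Ideal A))⁄k])))
    (hψ : ∀ (I J : Finset (Fin n)) (h : I ⊆ J),
      DeRham.IsCxMap (KaehlerDifferential.D k (A ⧸ (⨆ i ∈ I, Ideal.span {t (e i)} : Ideal A))) (KaehlerDifferential.D k (A ⧸ (⨆ i ∈ J, Ideal.span {t (e i)} : Ideal A)))
        (Ideal.Quotient.factor (biSup_mono h)) (ψ I J))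
    (s m : ℕ) (hs : s + 1 + m = d)
    (g : ∀ J : Finset (Fin n), ↥(⋀[(A ⧸ (⨆ i ∈ J, Ideal.span {t (e i)} : Ideal A))]^m (Ω[(A ⧸ (⨆ i ∈ J, Ideal.span {t (e i)} : Ideal A))⁄k]))) :
    ∃ ω : ∀ I : Finset (Fin n), ↥(⋀[(A ⧸ (⨆ i ∈ I, Ideal.span {t (e i)} : Ideal A))]^m (Ω[(A ⧸ (⨆ i ∈ I, Ideal.span {t (e i)} : Ideal A))⁄k])),
      ∀ J : Finset (Fin n), J.card = s + 1 →
        (∑ j ∈ J.attach,
          ((-1 : ℤ) ^ (J.filter (fun i => i < j.1)).card) •
            ψ (J.erase j.1) J m (ω (J.erase j.1))) = g J := by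
  
  classical
  let 𝔞 : Finset (Fin n) → Ideal A := fun I => ⨆ i ∈ I, Ideal.span {t (e i)}
  have h𝔞 : ∀ (I : Finset (Fin n)) (i : Fin n), i ∈ I → t (e i) ∈ 𝔞 I := fun I i hi =>
    Ideal.mem_iSup_of_mem i (Ideal.mem_iSup_of_mem hi (Ideal.mem_span_singleton_self _))
  have ht : Submodule.span A (Set.range fun i => KaehlerDifferential.D k A (t i)) = ⊤ := by
    rw [← funext hb]
    exact b.span_eq
  have htop : ∀ J : Finset (Fin n), ∃ (a : A) (v : Fin m → Fin d), J.card = s + 1 →
      (∀ i, i ∉ J.map e → i ∈ Set.range v) ∧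
        g J = DeRham.gen (KaehlerDifferential.D k _) m (Ideal.Quotient.mk (𝔞 J) a) fun j => Ideal.Quotient.mk (𝔞 J) (t (v j)) := by
    intro J
    by_cases hJ : J.card = s + 1
    · obtain ⟨a, v, hv, hg⟩ := exists_top t ht (𝔞 J) (J.map e) (fun i hi => by
        obtain ⟨j, hj, rfl⟩ := Finset.mem_map.1 hi
        exact h𝔞 J j hj) m (by rw [Finset.card_map, hJ]; omega) (g J)
      exact ⟨a, v, fun _ => ⟨hv, hg⟩⟩
    · by_cases hd : m = 0
      · exact ⟨0, fun j => (Fin.elim0 (hd ▸ j)), fun h => absurd h hJ⟩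
      · exact ⟨0, fun _ => ⟨0, by omega⟩, fun h => absurd h hJ⟩
  choose a v hav using htop
  let x : ∀ (I : Finset (Fin n)) (l : Fin n), ↥(⋀[A ⧸ 𝔞 I]^m (Ω[(A ⧸ 𝔞 I)⁄k])) := fun I l =>
    DeRham.gen (KaehlerDifferential.D k _) m (Ideal.Quotient.mk (𝔞 I) (a (insert l I)))
      fun j => Ideal.Quotient.mk (𝔞 I) (t (v (insert l I) j))
  refine ⟨fun I => ∑ l ∈ Finset.univ.filter (fun l => ∀ i ∈ I, l < i), x I l, fun J hJ => ?_⟩
  have hne : J.Nonempty := Finset.card_pos.1 (by omega)
  let j₀ := J.min' hne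
  have hterm : ∀ (j : Fin n) (_ : j ∈ J) (l : Fin n), (∀ i ∈ J.erase j, l < i) →
      ψ (J.erase j) J m (x (J.erase j) l) = if l = j then g J else 0 := by
    intro j hj l hl
    refine (hψ (J.erase j) J (Finset.erase_subset j J) m _ _).trans ?_
    show DeRham.gen _ _ (Ideal.Quotient.mk (𝔞 J) _) (fun i => Ideal.Quotient.mk (𝔞 J) _) = _
    have hl' : l ∉ J.erase j := fun h => lt_irrefl l (hl l h)
    by_cases hlj : l = j
    · subst hlj
      rw [if_pos rfl, Finset.insert_erase hj]
      exact ((hav J hJ).2).symm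
    · rw [if_neg hlj]
      have hcard : (insert l (J.erase j)).card = s + 1 := by
        rw [Finset.card_insert_of_notMem hl', Finset.card_erase_of_mem hj]; omega
      obtain ⟨c, hc⟩ := (hav _ hcard).1 (e j) (by simp [Ne.symm hlj])
      rw [DeRham.gen, AlternatingMap.map_coord_zero (m := fun i => _) _ c (by
        rw [hc, show Ideal.Quotient.mk (𝔞 J) (t (e j)) = 0 from Ideal.Quotient.eq_zero_iff_mem.2 (h𝔞 J j hj), map_zero]),
        smul_zero]
  calc _ = ∑ j ∈ J.attach, (if j.1 = j₀ then g J else 0) := by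
        refine Finset.sum_congr rfl fun j _ => ?_
        rw [map_sum, Finset.sum_congr rfl fun l hl => hterm j.1 j.2 l (Finset.mem_filter.1 hl).2, Finset.sum_ite_eq']
        by_cases hj : j.1 = j₀
        · rw [if_pos hj, if_pos (Finset.mem_filter.2 ⟨Finset.mem_univ _, fun i hi => lt_of_le_of_ne
              (hj ▸ J.min'_le i (Finset.mem_of_mem_erase hi)) (Finset.ne_of_mem_erase hi).symm⟩),
            Finset.filter_false_of_mem fun i hi => not_lt.2 (hj ▸ J.min'_le i hi)]
          simp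
        · rw [if_neg hj, if_neg fun h => hj (le_antisymm
              (le_of_not_gt fun hlt => lt_asymm hlt (((Finset.mem_filter.1 h).2 : ∀ i ∈ J.erase j.1, j.1 < i) j₀
                (Finset.mem_erase.2 ⟨Ne.symm hj, J.min'_mem hne⟩)))
              (J.min'_le _ j.2)), smul_zero]
    _ = g J := by
        rw [Finset.sum_attach J (fun j => if j = j₀ then g J else 0), Finset.sum_ite_eq', if_pos (J.min'_mem hne)]


end Groth.Agent.S19629
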