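import Groth.Statements.S19630
import Groth.Agent.Synt29.DRGen
import Mathlib

set_option autoImplicit false
universe u
open DeRham

namespace Groth.Agent.S19630

open exteriorPower in
/-- In the affine case, at ring level, let k ⊆ K be a finite extension of fields of characteristic zero
and B a smooth K-algebra, so that Y = Spec B is a smooth affine variety over K which may also be
regarded over k. Let ψ be the map of de Rham complexes from Ω•_{B/k} to Ω•_{B/K} induced by the
identity of B. Then ψ is bijective in every degree: the de Rham complex of Y over k and over K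
coincide, and hence the natural map H^i_dR(Y/k) → H^i_dR(Y/K) is an isomorphism. (The source states
the isomorphism on de Rham cohomology for any smooth variety Y over K, through the equality of the
two de Rham complexes; this row is that equality for affine Y.) -/
theorem result
    (k K : Type u) [Field k] [Field K] [CharZero k] [Algebra k K] [Module.Finite k K]
    (B : Type u) [CommRing B] [Algebra K B] [Algebra k B] [IsScalarTower k K B] [Algebra.Smooth K B]
    (ψ : ∀ p : ℕ, ↥(⋀[B]^p (Ω[B⁄k])) →+ ↥(⋀[B]^p (Ω[B⁄K])))
    (hψ : DeRham.IsCxMap (KaehlerDifferential.D k B) (KaehlerDifferential.D K B) (RingHom.id B) ψ)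
    (p : ℕ) :
    Function.Bijective (ψ p) := by
  
  have : Algebra.IsSeparable k K := inferInstance
  have : Algebra.FormallyUnramified k K := (Algebra.FormallyUnramified.iff_isSeparable k K).2 inferInstance
  let f : Ω[B⁄k] →ₗ[B] Ω[B⁄K] := KaehlerDifferential.map k K B B
  have hsub : Subsingleton (Ω[K⁄k]) := Algebra.FormallyUnramified.subsingleton_kaehlerDifferential
  have hex := KaehlerDifferential.exact_mapBaseChange_map k K B
  have hinj : Function.Injective f := by
    rw [← LinearMap.ker_eq_bot, eq_bot_iff]
    intro x hx
    obtain ⟨y, rfl⟩ := (hex x).1 hx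
    have : y = 0 := by
      induction y using TensorProduct.induction_on with
      | zero => rfl
      | tmul b m => rw [Subsingleton.elim m 0, TensorProduct.tmul_zero]
      | add a b ha hb =>
        rw [ha (LinearMap.mem_ker.2 ((hex _).2 ⟨a, rfl⟩)), hb (LinearMap.mem_ker.2 ((hex _).2 ⟨b, rfl⟩)), add_zero]
    rw [this, map_zero]
    exact Submodule.zero_mem _
  let e : Ω[B⁄k] ≃ₗ[B] Ω[B⁄K] := LinearEquiv.ofBijective f ⟨hinj, KaehlerDifferential.map_surjective k K B⟩
  have hψ' : ψ p = (exteriorPower.map p e.toLinearMap).toAddMonoidHom := by
    refine Groth.Agent.Synt29.DRGen.addMonoidHom_ext _ (KaehlerDifferential.span_range_derivation k B) ?_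
    intro b₀ b
    rw [hψ p b₀ b]
    simp only [DeRham.gen, LinearMap.toAddMonoidHom_coe, map_smul, exteriorPower.map_apply_ιMulti,
      RingHom.id_apply]
    congr 2
    funext i
    exact (KaehlerDifferential.map_D k K B B (b i)).symm
  rw [hψ']
  refine ⟨exteriorPower.map_injective e.symm.toLinearMap (by simp), exteriorPower.map_surjective e.surjective⟩

end Groth.Agent.S19630
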