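import Groth.Statements.S19631
import Groth.Agent.HyperLib.CechNerve

set_option autoImplicit false
set_option backward.isDefEq.respectTransparency false
set_option backward.isDefEq.respectTransparency.types false
universe u
open Hyper

namespace Groth.Agent.S19631

open CategoryTheory CategoryTheory.Limits AlgebraicGeometry in
/-- Let f : X → Y be a morphism of schemes and X_• = cosk_0^Y(X) its Čech nerve, the simplicial scheme
over Y with X_p = X ×_Y ⋯ ×_Y X (p + 1 factors), face maps the projections forgetting one factor and
degeneracies induced by diagonals. Then X_•, as a simplicial object of the category of schemes over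
Y, is n-coskeletal for every n, i.e. the adjunction morphisms X_• → cosk_n sk_n X_• (coskeleta
relative to Y) are isomorphisms. In the source this is phrased as: for a class S of covering maps of
varieties containing the identities, X_• → Y is an S-hypercover whenever X → Y lies in S, the
adjunction maps X_p → (cosk_{p-1} sk_{p-1} X_•)_p being isomorphisms for p ≥ 1 and X_0 → Y being f.
(Stated for arbitrary schemes; the source has varieties over a field.) -/
theorem result (X Y : Scheme.{u}) (f : X ⟶ Y) (n : ℕ) :
    SimplicialObject.IsCoskeletal (cechNerveTerminalFrom (Over.mk f)) n := by
  exact Groth.Agent.HyperLib.isCoskeletal_cechNerveTerminalFrom _ n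

end Groth.Agent.S19631
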