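import Groth.Statements.S19632
import Mathlib

set_option autoImplicit false
universe u
open DeRham

namespace Groth.Agent.S19632

/-- Let k be a field of characteristic zero and G_m = Spec k[t, t⁻¹] the multiplicative group. The
kernel of the differential d : k[t, t⁻¹] → Ω¹ of the de Rham complex of G_m consists of the
constants: for a Laurent polynomial f, df = 0 if and only if f lies in the image of k. Equivalently
H^0_dR(G_m/k) = k. (Characteristic zero is used: in characteristic p the element t^p is closed.) -/
theorem result (k : Type u) [Field k] [CharZero k]
    (f : LaurentPolynomial k) :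
    KaehlerDifferential.D k (LaurentPolynomial k) f = 0 ↔ f ∈ Set.range (algebraMap k (LaurentPolynomial k)) := by
  constructor
  · intro h
    let L : LaurentPolynomial k →ₗ[k] LaurentPolynomial k :=
      (AddMonoidAlgebra.basis ℤ k).constr k fun i => (i : k) • LaurentPolynomial.T i
    have hT : ∀ i : ℤ, L (LaurentPolynomial.T i) = (i : k) • LaurentPolynomial.T i := fun i => by
      have e : (AddMonoidAlgebra.basis ℤ k) i = (LaurentPolynomial.T i : LaurentPolynomial k) := by
        simp [LaurentPolynomial.T, -LaurentPolynomial.single_eq_C_mul_T]
      rw [← e, Module.Basis.constr_basis, e]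
    have hs : ∀ (i : ℤ) (a : k), (AddMonoidAlgebra.single i a : LaurentPolynomial k) =
        a • LaurentPolynomial.T i := fun i a => by simp [LaurentPolynomial.T, -LaurentPolynomial.single_eq_C_mul_T]
    let D : Derivation k (LaurentPolynomial k) (LaurentPolynomial k) := Derivation.mk' L fun a b => by
      induction a using LaurentPolynomial.induction_on' with
      | add p q hp hq => simp only [add_mul, map_add, hp, hq, smul_eq_mul]; ring
      | C_mul_T n r =>
        induction b using LaurentPolynomial.induction_on' with
        | add p q hp hq => simp only [mul_add, map_add, hp, hq, smul_eq_mul, add_mul]; ring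
        | C_mul_T m s =>
          rw [← LaurentPolynomial.single_eq_C_mul_T, ← LaurentPolynomial.single_eq_C_mul_T, hs, hs,
            smul_mul_smul_comm, ← LaurentPolynomial.T_add, map_smul, map_smul, map_smul, hT, hT, hT]
          simp only [smul_eq_mul, smul_mul_assoc, mul_smul_comm, smul_smul, ← LaurentPolynomial.T_add,
            add_comm m n, ← add_smul]
          congr 1
          push_cast
          ring
    have h0 : L f = 0 := by
      have := congrArg D.liftKaehlerDifferential h
      rw [map_zero, Derivation.liftKaehlerDifferential_comp_D] at this
      exact this
    have hc : ∀ (g : LaurentPolynomial k) (i : ℤ), (L g).coeff i = (i : k) * g.coeff i := by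
      intro g i
      induction g using LaurentPolynomial.induction_on' with
      | add p q hp hq => simp [map_add, hp, hq, mul_add]
      | C_mul_T n r =>
        rw [← LaurentPolynomial.single_eq_C_mul_T, hs, map_smul, hT]
        rcases eq_or_ne n i with rfl | hni
        · simp [mul_comm]
        · simp [hni]
    refine ⟨f.coeff 0, LaurentPolynomial.ext fun i => ?_⟩
    rw [← LaurentPolynomial.C_eq_algebraMap, LaurentPolynomial.C_apply]
    split_ifs with hi
    · rw [hi]
    · have := hc f i
      rw [h0] at this
      have hf : (i : k) * f.coeff i = 0 := by simpa using this.symm
      exact ((mul_eq_zero.1 hf).resolve_left (by exact_mod_cast hi)).symm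
  · rintro ⟨r, rfl⟩
    exact Derivation.map_algebraMap _ r

end Groth.Agent.S19632
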