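import Groth.Statements.S19633
import Groth.Agent.Synt29.DRGen
import Mathlib

set_option autoImplicit false
universe u
open DeRham

namespace Groth.Agent.S19633

open exteriorPower in
/-- Let k be a field of characteristic zero, G_m = Spec k[t, t⁻¹], and d the de Rham differential of
k[t, t⁻¹] over k. Then: every 1-form is closed; the exact 1-forms and the k-line spanned by t⁻¹ dt
are complementary subspaces of the 1-forms, and t⁻¹ dt is not exact — so H^1_dR(G_m/k) is
one-dimensional, generated by the class of dt/t (the isomorphism with k being the residue); and for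
every i ≥ 2 the closed i-forms are exact, so H^i_dR(G_m/k) = 0 for i > 1. (Characteristic zero is
used in the computation of the exact forms.) -/
theorem result (k : Type u) [Field k] [CharZero k]
    (d : ∀ p : ℕ, ↥(⋀[LaurentPolynomial k]^p (Ω[LaurentPolynomial k⁄k])) →ₗ[k] ↥(⋀[LaurentPolynomial k]^(p + 1) (Ω[LaurentPolynomial k⁄k])))
    (hd : DeRham.IsDiff (KaehlerDifferential.D k (LaurentPolynomial k)) d) :
    DeRham.cocycles d 1 = ⊤ ∧
    IsCompl (DeRham.coboundaries d 1)
      (Submodule.span k {DeRham.gen (KaehlerDifferential.D k (LaurentPolynomial k)) 1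
        (LaurentPolynomial.T (-1)) (fun _ => LaurentPolynomial.T 1)}) ∧
    DeRham.gen (KaehlerDifferential.D k (LaurentPolynomial k)) 1
        (LaurentPolynomial.T (-1)) (fun _ => LaurentPolynomial.T 1) ∉ DeRham.coboundaries d 1 ∧
    ∀ i : ℕ, DeRham.cocycles d (i + 2) ≤ DeRham.coboundaries d (i + 2) := by
  
  classical
  let A := LaurentPolynomial k
  let δ := KaehlerDifferential.D k (LaurentPolynomial k)
  let W : (ℤ → k) → (LaurentPolynomial k →ₗ[k] LaurentPolynomial k) := fun w =>
    (AddMonoidAlgebra.basis ℤ k).constr k fun i => w i • LaurentPolynomial.T i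
  have hs : ∀ (i : ℤ) (a : k), (AddMonoidAlgebra.single i a : LaurentPolynomial k) =
      a • LaurentPolynomial.T i := fun i a => by simp [LaurentPolynomial.T, -LaurentPolynomial.single_eq_C_mul_T]
  have hWT : ∀ (w : ℤ → k) (i : ℤ), W w (LaurentPolynomial.T i) = w i • LaurentPolynomial.T i := fun w i => by
    have e : (AddMonoidAlgebra.basis ℤ k) i = (LaurentPolynomial.T i : LaurentPolynomial k) := by
      simp [LaurentPolynomial.T, -LaurentPolynomial.single_eq_C_mul_T]
    rw [← e, Module.Basis.constr_basis, e]
  have hW : ∀ (w : ℤ → k) (g : LaurentPolynomial k) (i : ℤ), (W w g).coeff i = w i * g.coeff i := by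
    intro w g i
    induction g using LaurentPolynomial.induction_on' with
    | add p q hp hq => simp [map_add, hp, hq, mul_add]
    | C_mul_T n r =>
      rw [← LaurentPolynomial.single_eq_C_mul_T, hs, map_smul, hWT]
      rcases eq_or_ne n i with rfl | hni
      · simp [mul_comm]
      · simp [hni]
  let L := W fun i => (i : k)
  have hT : ∀ i : ℤ, L (LaurentPolynomial.T i) = (i : k) • LaurentPolynomial.T i := hWT _
  let E : Derivation k (LaurentPolynomial k) (LaurentPolynomial k) := Derivation.mk' L fun a b => by
    induction a using LaurentPolynomial.induction_on' with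
    | add p q hp hq => simp only [add_mul, map_add, hp, hq, smul_eq_mul]; ring
    | C_mul_T n r =>
      induction b using LaurentPolynomial.induction_on' with
      | add p q hp hq => simp only [mul_add, map_add, hp, hq, smul_eq_mul, add_mul]; ring
      | C_mul_T m s =>
        rw [← LaurentPolynomial.single_eq_C_mul_T, ← LaurentPolynomial.single_eq_C_mul_T, hs, hs,
          smul_mul_smul_comm, ← LaurentPolynomial.T_add, map_smul, map_smul, map_smul, hT, hT, hT]
        simp only [smul_eq_mul, smul_mul_assoc, mul_smul_comm, smul_smul, ← LaurentPolynomial.T_add,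
          add_comm m n, ← add_smul]
        congr 1
        push_cast
        ring
  let φ := E.liftKaehlerDifferential
  have hφ : ∀ f, φ (δ f) = L f := fun f => Derivation.liftKaehlerDifferential_comp_D E f
  let ω : Ω[LaurentPolynomial k⁄k] := (LaurentPolynomial.T (-1) : LaurentPolynomial k) • δ (LaurentPolynomial.T 1)
  have hφω : φ ω = 1 := by
    rw [map_smul, hφ, hT, smul_eq_mul, Int.cast_one, one_smul, ← LaurentPolynomial.T_add]
    simp
  have h1 : δ (LaurentPolynomial.T 1) = (LaurentPolynomial.T 1 : LaurentPolynomial k) • ω := by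
    rw [smul_smul, ← LaurentPolynomial.T_add]
    simp
  have hω' : φ ((LaurentPolynomial.T (-1) : LaurentPolynomial k) • δ (LaurentPolynomial.T 1)) = 1 := hφω
  clear_value ω
  have hTn : ∀ n : ℤ, δ (LaurentPolynomial.T n) = ((n : k) • (LaurentPolynomial.T n : LaurentPolynomial k)) • ω := by
    have hnat : ∀ n : ℕ, δ (LaurentPolynomial.T n) =
        (((n : ℤ) : k) • (LaurentPolynomial.T n : LaurentPolynomial k)) • ω := by
      intro n
      induction n with
      | zero => simp
      | succ n ih =>
        rw [Nat.cast_succ, LaurentPolynomial.T_add, Derivation.leibniz, ih, h1, smul_smul, smul_smul, ← add_smul]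
        congr 1
        push_cast
        rw [mul_smul_comm, add_smul, one_smul, mul_comm (LaurentPolynomial.T 1 : LaurentPolynomial k),
          ← LaurentPolynomial.T_add, add_comm]
    intro n
    obtain ⟨m, rfl | rfl⟩ := n.eq_nat_or_neg
    · exact hnat m
    · have h0 : δ ((LaurentPolynomial.T (m : ℤ) : LaurentPolynomial k) * LaurentPolynomial.T (-(m : ℤ))) = 0 := by
        rw [← LaurentPolynomial.T_add]; simp
      rw [Derivation.leibniz, hnat, smul_smul, add_eq_zero_iff_eq_neg] at h0
      have h2 := congrArg (fun z => (LaurentPolynomial.T (-(m : ℤ)) : LaurentPolynomial k) • z) h0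
      simp only [smul_smul, smul_neg, ← LaurentPolynomial.T_add, neg_add_cancel, LaurentPolynomial.T_zero,
        one_smul] at h2
      rw [h2, ← neg_smul]
      congr 1
      rw [Int.cast_neg, neg_smul, mul_smul_comm, mul_smul_comm, ← LaurentPolynomial.T_add,
        ← LaurentPolynomial.T_add, neg_add_cancel, add_zero]
  have hδ : ∀ f, δ f = L f • ω := by
    intro f
    induction f using LaurentPolynomial.induction_on' with
    | add p q hp hq => rw [map_add, map_add, hp, hq, add_smul]
    | C_mul_T n r =>
      rw [← LaurentPolynomial.single_eq_C_mul_T, hs, δ.map_smul, map_smul, hT, hTn]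
      exact (IsScalarTower.smul_assoc _ _ _).symm
  have hgenω : ∀ m, m = φ m • ω := by
    intro m
    induction (KaehlerDifferential.span_range_derivation k (LaurentPolynomial k)).ge
      (Submodule.mem_top (x := m)) using Submodule.span_induction with
    | mem _ h =>
      obtain ⟨f, rfl⟩ := h
      change δ f = φ (δ f) • ω
      rw [hφ, hδ]
    | zero => simp
    | add x y _ _ hx hy => rw [map_add, add_smul, ← hx, ← hy]
    | smul a x _ hx => rw [map_smul, smul_eq_mul, mul_smul, ← hx]
  have hzero : ∀ (n : ℕ) (x : ↥(⋀[LaurentPolynomial k]^(n + 2) (Ω[LaurentPolynomial k⁄k]))), x = 0 := by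
    intro n x
    have hx : x ∈ Submodule.span (LaurentPolynomial k)
        (Set.range (exteriorPower.ιMulti (LaurentPolynomial k) (n + 2))) := by
      rw [exteriorPower.ιMulti_span]; trivial
    induction hx using Submodule.span_induction with
    | mem _ h =>
      obtain ⟨v, rfl⟩ := h
      rw [show v = fun i => φ (v i) • ω from funext fun i => hgenω _, ← AlternatingMap.coe_multilinearMap,
        MultilinearMap.map_smul_univ, AlternatingMap.coe_multilinearMap,
        AlternatingMap.map_eq_zero_of_eq _ _ (i := (0 : Fin (n + 2))) (j := 1) rfl (by simp), smul_zero]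
    | zero => rfl
    | add x y _ _ hx hy => rw [hx, hy, add_zero]
    | smul a x _ hx => rw [hx, smul_zero]
  let e : ↥(⋀[LaurentPolynomial k]^1 (Ω[LaurentPolynomial k⁄k])) →ₗ[k] LaurentPolynomial k :=
    (φ ∘ₗ (exteriorPower.oneEquiv (LaurentPolynomial k) (Ω[LaurentPolynomial k⁄k])).toLinearMap).restrictScalars k
  have heinj : Function.Injective e := by
    intro x y h
    refine (exteriorPower.oneEquiv (LaurentPolynomial k) (Ω[LaurentPolynomial k⁄k])).injective ?_
    rw [hgenω (exteriorPower.oneEquiv _ _ x), hgenω (exteriorPower.oneEquiv _ _ y)]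
    exact congrArg (· • ω) h
  set g₁ := DeRham.gen (KaehlerDifferential.D k (LaurentPolynomial k)) 1
        (LaurentPolynomial.T (-1)) (fun _ => LaurentPolynomial.T 1) with hg₁
  have heg : e g₁ = 1 := by
    simp only [e, g₁, LinearMap.restrictScalars_apply, LinearMap.comp_apply, DeRham.gen, LinearEquiv.coe_coe,
      map_smul, exteriorPower.oneEquiv_ιMulti]
    rw [← map_smul]
    exact hω'
  have hdgen : ∀ (a : LaurentPolynomial k) (b : Fin 0 → LaurentPolynomial k),
      e (d 0 (DeRham.gen (KaehlerDifferential.D k (LaurentPolynomial k)) 0 a b)) = L a := by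
    intro a b
    rw [hd.1]
    refine Eq.trans ?_ (hφ a)
    exact congrArg φ (exteriorPower.oneEquiv_ιMulti (R := LaurentPolynomial k)
      (M := Ω[LaurentPolynomial k⁄k]) (Fin.cons (δ a) fun i => δ (b i)))
  have hed : ∀ y, ∃ f, e (d 0 y) = L f := by
    refine Groth.Agent.Synt29.DRGen.gen_induction (KaehlerDifferential.D k (LaurentPolynomial k))
      (KaehlerDifferential.span_range_derivation _ _) ⟨0, by simp⟩ ?_ ?_
    · rintro x y ⟨f, hf⟩ ⟨g, hg⟩
      exact ⟨f + g, by rw [map_add, map_add, map_add, hf, hg]⟩
    · intro a b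
      exact ⟨a, hdgen a b⟩
  have hnot : ∀ c : k, c • g₁ ∈ DeRham.coboundaries d 1 → c = 0 := by
    rintro c ⟨y, hy⟩
    obtain ⟨f, hf⟩ := hed y
    have := congrArg e hy
    rw [hf, map_smul, heg] at this
    have h0 := hW (fun i => (i : k)) f 0
    rw [show W (fun i => (i : k)) f = L f from rfl, this] at h0
    simpa [← LaurentPolynomial.T_zero] using h0
  refine ⟨?_, ⟨Submodule.disjoint_def.2 ?_, codisjoint_iff.2 (eq_top_iff.2 fun x _ => ?_)⟩, ?_, ?_⟩
  · exact eq_top_iff.2 fun x _ => hzero 0 (d 1 x)
  · intro x hx hx'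
    obtain ⟨c, rfl⟩ := Submodule.mem_span_singleton.1 hx'
    rw [hnot c hx, zero_smul]
  · let f := W (fun i => (i : k)⁻¹) (e x)
    refine Submodule.mem_sup.2 ⟨d 0 (DeRham.gen (KaehlerDifferential.D k (LaurentPolynomial k)) 0 f Fin.elim0),
      ⟨_, rfl⟩, ((e x).coeff 0) • g₁, Submodule.smul_mem _ _ (Submodule.mem_span_singleton_self _), heinj ?_⟩
    have hd0 := hdgen f Fin.elim0
    rw [map_add, map_smul, heg, hd0]
    refine LaurentPolynomial.ext fun i => ?_
    have h1 : (L f).coeff i = (i : k) * ((i : k)⁻¹ * (e x).coeff i) :=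
      (hW _ f i).trans (congrArg _ (hW _ (e x) i))
    rcases eq_or_ne i 0 with rfl | hi
    · simp [h1, ← LaurentPolynomial.T_zero]
    · simp [h1, ← LaurentPolynomial.T_zero, hi, Ne.symm hi]
  · intro h
    exact one_ne_zero (hnot 1 (by rw [one_smul]; exact h))
  · intro i x _
    rw [hzero i x]
    exact Submodule.zero_mem _

end Groth.Agent.S19633
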