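import Groth.Statements.S19634
import Mathlib

set_option autoImplicit false
universe u
open DeRham

namespace Groth.Agent.S19634

/-- Let k be a field of characteristic zero and A = k[X, Y]/(XY), the coordinate ring of two affine
lines crossing in a point. In the naive de Rham complex A → Ω¹_{A/k} the kernel of d consists of the
constants: dP = 0 if and only if P is in the image of k. -/
theorem result (k : Type u) [Field k] [CharZero k]
    (P : MvPolynomial (Fin 2) k ⧸ Ideal.span {(MvPolynomial.X 0 * MvPolynomial.X 1 : MvPolynomial (Fin 2) k)}) :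
    KaehlerDifferential.D k (MvPolynomial (Fin 2) k ⧸ Ideal.span {(MvPolynomial.X 0 * MvPolynomial.X 1 : MvPolynomial (Fin 2) k)}) P = 0 ↔
      P ∈ Set.range (algebraMap k (MvPolynomial (Fin 2) k ⧸ Ideal.span {(MvPolynomial.X 0 * MvPolynomial.X 1 : MvPolynomial (Fin 2) k)})) := by
  
  classical
  revert P
  set J : Ideal (MvPolynomial (Fin 2) k) :=
    Ideal.span {(MvPolynomial.X 0 * MvPolynomial.X 1 : MvPolynomial (Fin 2) k)} with hJ
  intro P
  constructor
  swap
  · rintro ⟨c, rfl⟩
    exact Derivation.map_algebraMap _ c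
  intro hP
  have key : ∀ v : Fin 2 → Polynomial k, v 0 * v 1 = 0 →
      ∃ (φ : (MvPolynomial (Fin 2) k ⧸ J) →ₐ[k] Polynomial k) (c : k),
        (∀ Q, φ (Ideal.Quotient.mk J Q) = MvPolynomial.aeval v Q) ∧ φ P = Polynomial.C c := by
    intro v hv
    have hle : ∀ Q ∈ J, MvPolynomial.aeval v Q = 0 := by
      intro Q hQ
      obtain ⟨R, rfl⟩ := Ideal.mem_span_singleton'.mp hQ
      simp [hv]
    let φ := Ideal.Quotient.liftₐ J (MvPolynomial.aeval v) hle
    refine ⟨φ, (φ P).coeff 0, fun Q => rfl, ?_⟩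
    let alg : Algebra (MvPolynomial (Fin 2) k ⧸ J) (Polynomial k) := φ.toRingHom.toAlgebra
    have htow : @IsScalarTower k (MvPolynomial (Fin 2) k ⧸ J) (Polynomial k) _ alg.toSMul _ :=
      @IsScalarTower.of_algebraMap_eq k _ _ _ _ _ _ alg _ (fun c => (φ.commutes c).symm)
    let D : Derivation k (MvPolynomial (Fin 2) k ⧸ J) (Polynomial k) :=
      Derivation.compAlgebraMap (MvPolynomial (Fin 2) k ⧸ J) Polynomial.derivative'
    have h0 : D P = 0 := by
      rw [← Derivation.liftKaehlerDifferential_comp_D D P, hP, map_zero]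
    refine Polynomial.eq_C_of_natDegree_eq_zero ?_
    exact Polynomial.derivative_eq_zero.mp h0
  obtain ⟨Q, rfl⟩ := Ideal.Quotient.mk_surjective P
  obtain ⟨φ₁, c₁, h1, h1P⟩ := key ![Polynomial.X, 0] (by simp)
  obtain ⟨φ₂, c₂, h2, h2P⟩ := key ![0, Polynomial.X] (by simp)
  rw [h1] at h1P
  rw [h2] at h2P
  have hc : c₁ = c₂ := by
    have e1 := congrArg (Polynomial.eval 0) h1P
    have e2 := congrArg (Polynomial.eval 0) h2P
    rw [Polynomial.eval_C, MvPolynomial.aeval_def, ← Polynomial.coe_evalRingHom,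
      MvPolynomial.eval₂_comp_left] at e1 e2
    rw [← e1, ← e2]
    congr 1
    funext i
    fin_cases i <;> simp
  refine ⟨c₁, ?_⟩
  set R := Q - MvPolynomial.C c₁ with hR
  have hR1 : MvPolynomial.aeval ![Polynomial.X, (0 : Polynomial k)] R = 0 := by
    rw [hR, map_sub, h1P, MvPolynomial.aeval_C]; simp
  have hR2 : MvPolynomial.aeval ![(0 : Polynomial k), Polynomial.X] R = 0 := by
    rw [hR, map_sub, h2P, MvPolynomial.aeval_C, hc]; simp
  -- vanishing on a line gives divisibility by its equation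
  have hdiv : ∀ (v : Fin 2 → Polynomial k) (w : Polynomial k →ₐ[k] MvPolynomial (Fin 2) k)
      (i : Fin 2), (∀ j, (MvPolynomial.X i : MvPolynomial (Fin 2) k) ∣
        MvPolynomial.X j - w (v j)) →
      ∀ T, MvPolynomial.aeval v T = 0 → (MvPolynomial.X i : MvPolynomial (Fin 2) k) ∣ T := by
    intro v w i hj T hT
    have heq : (Ideal.Quotient.mkₐ k (Ideal.span {(MvPolynomial.X i : MvPolynomial (Fin 2) k)})) =
        ((Ideal.Quotient.mkₐ k _).comp (w.comp (MvPolynomial.aeval v))) := by
      refine MvPolynomial.algHom_ext fun j => ?_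
      simp only [Ideal.Quotient.mkₐ_eq_mk, AlgHom.comp_apply, MvPolynomial.aeval_X]
      rw [Ideal.Quotient.eq, Ideal.mem_span_singleton]
      exact hj j
    have h := AlgHom.congr_fun heq T
    rw [AlgHom.comp_apply, AlgHom.comp_apply, hT, map_zero, map_zero, Ideal.Quotient.mkₐ_eq_mk,
      Ideal.Quotient.eq_zero_iff_mem, Ideal.mem_span_singleton] at h
    exact h
  obtain ⟨S, hS⟩ := hdiv ![(0 : Polynomial k), Polynomial.X]
    (Polynomial.aeval (MvPolynomial.X 1)) 0 (fun j => by fin_cases j <;> simp) R hR2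
  rw [hS, map_mul, MvPolynomial.aeval_X] at hR1
  obtain ⟨U, hU⟩ := hdiv ![Polynomial.X, (0 : Polynomial k)]
    (Polynomial.aeval (MvPolynomial.X 0)) 1 (fun j => by fin_cases j <;> simp) S
    ((mul_eq_zero.mp hR1).resolve_left (by simp))
  show Ideal.Quotient.mk J (MvPolynomial.C c₁) = Ideal.Quotient.mk J Q
  refine (Ideal.Quotient.eq.mpr ?_).symm
  rw [← hR, hS, hU, hJ]
  exact Ideal.mem_span_singleton'.mpr ⟨U, by ring⟩

end Groth.Agent.S19634
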