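import Groth.Statements.S19635
import Mathlib

set_option autoImplicit false
universe u
open DeRham

namespace Groth.Agent.S19635

/-- Let k be a field of characteristic zero and A = k[X, Y]/(XY), the coordinate ring of two affine
lines crossing in a point. The differential d : A → Ω¹_{A/k} of the naive de Rham complex is not
surjective, so the naive H^1 of this singular curve does not vanish although one expects trivial
cohomology; this is the example motivating the h-topology definition. -/
theorem result (k : Type u) [Field k] [CharZero k] :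
    ¬ Function.Surjective (KaehlerDifferential.D k (MvPolynomial (Fin 2) k ⧸ Ideal.span {(MvPolynomial.X 0 * MvPolynomial.X 1 : MvPolynomial (Fin 2) k)})) := by
  intro hsurj
  let P := MvPolynomial (Fin 2) k
  let q : Fin 2 → P → k := fun i p => MvPolynomial.constantCoeff (MvPolynomial.pderiv i p)
  let c : P → k := fun p => MvPolynomial.constantCoeff p
  have hq : ∀ i (p r : P), q i (p * r) = c p * q i r + c r * q i p := fun i p r => by
    simp only [q, c, Derivation.leibniz, smul_eq_mul, map_add, map_mul]
  let act : P →+* Module.End k (k × k × k) :=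
    { toFun := fun p =>
        { toFun := fun v => (c p * v.1, c p * v.2.1, c p * v.2.2 + q 0 p * v.2.1 - q 1 p * v.1)
          map_add' := fun v w => by ext <;> simp <;> ring
          map_smul' := fun a v => by ext <;> simp <;> ring }
      map_one' := by
        refine LinearMap.ext fun v => ?_
        simp [q, c]
      map_mul' := fun p r => by
        refine LinearMap.ext fun v => ?_
        simp only [LinearMap.coe_mk, AddHom.coe_mk, Module.End.mul_apply, hq]
        simp only [c, map_mul]
        ext <;> simp <;> ring
      map_zero' := by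
        refine LinearMap.ext fun v => ?_
        simp [q, c]
      map_add' := fun p r => by
        refine LinearMap.ext fun v => ?_
        simp only [q, c, map_add, LinearMap.coe_mk, AddHom.coe_mk, LinearMap.add_apply]
        ext <;> simp <;> ring }
  let I : Ideal P := Ideal.span {MvPolynomial.X 0 * MvPolynomial.X 1}
  have hI : ∀ p ∈ I, c p = 0 ∧ q 0 p = 0 ∧ q 1 p = 0 := by
    intro p hp
    obtain ⟨r, rfl⟩ := Ideal.mem_span_singleton'.1 hp
    simp [hq, q, c, MvPolynomial.pderiv_X]
  let actA : (P ⧸ I) →+* Module.End k (k × k × k) := Ideal.Quotient.lift I act fun p hp => by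
    obtain ⟨h1, h2, h3⟩ := hI p hp
    refine LinearMap.ext fun v => ?_
    simp [act, h1, h2, h3]
  let _ : Module (P ⧸ I) (k × k × k) := Module.compHom _ actA
  have hsmul : ∀ (p : P) (v : k × k × k), Ideal.Quotient.mk I p • v = act p v := fun p v => rfl
  have : IsScalarTower k (P ⧸ I) (k × k × k) := IsScalarTower.of_algebraMap_smul (R := k) (A := P ⧸ I) (M := k × k × k) fun a v => by
    rw [← Ideal.Quotient.mk_algebraMap, hsmul]
    simp [act, q, c, P, MvPolynomial.algebraMap_eq, Prod.smul_def]
  let L : (P ⧸ I) →ₗ[k] k × k × k := (Submodule.restrictScalars k I).liftQ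
      { toFun := fun p => (q 0 p, q 1 p, 0)
        map_add' := fun p r => by simp [q]
        map_smul' := fun a p => by simp [q] }
      (fun p hp => by simp [(hI p hp).2.1, (hI p hp).2.2]) ∘ₗ
    (Submodule.Quotient.restrictScalarsEquiv k I).symm.toLinearMap
  have hL : ∀ p : P, L (Ideal.Quotient.mk I p) = (q 0 p, q 1 p, 0) := fun p => rfl
  let D : Derivation k (P ⧸ I) (k × k × k) := Derivation.mk' L fun a b => by
    obtain ⟨a, rfl⟩ := Ideal.Quotient.mk_surjective a
    obtain ⟨b, rfl⟩ := Ideal.Quotient.mk_surjective b
    rw [← map_mul, hL, hL, hL, hsmul, hsmul]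
    simp only [act, RingHom.coe_mk, MonoidHom.coe_mk, OneHom.coe_mk, LinearMap.coe_mk, AddHom.coe_mk, hq]
    ext <;> simp <;> ring
  obtain ⟨g, hg⟩ := hsurj (Ideal.Quotient.mk I (MvPolynomial.X 0) •
    KaehlerDifferential.D k (P ⧸ I) (Ideal.Quotient.mk I (MvPolynomial.X 1)))
  have := congrArg D.liftKaehlerDifferential hg
  rw [map_smul, Derivation.liftKaehlerDifferential_comp_D, Derivation.liftKaehlerDifferential_comp_D] at this
  obtain ⟨g, rfl⟩ := Ideal.Quotient.mk_surjective g
  have h3 : ((q 0 g, q 1 g, (0 : k)) : k × k × k).2.2 = (act (MvPolynomial.X 0) (q 0 (MvPolynomial.X 1), q 1 (MvPolynomial.X 1), 0)).2.2 :=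
    congrArg (fun v : k × k × k => v.2.2) this
  simp [act, q, c, P, MvPolynomial.pderiv_X] at h3

end Groth.Agent.S19635
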