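import Groth.Statements.S19636
import Groth.Agent.S19629

set_option autoImplicit false
universe u
open DeRham

namespace Groth.Agent.S19636

set_option maxHeartbeats 1600000 in
open exteriorPower in
/-- In the chart case, let k be a field of characteristic zero, A a smooth k-algebra with functions t_1,
…, t_d whose differentials form a basis of Ω_{A/k}, D_1, …, D_n the coordinate hyperplanes t_{e(1)}
= 0, …, t_{e(n)} = 0 for an injection e (a simple normal crossings divisor D on X = Spec A), A_I =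
A/(t_{e(i)} : i ∈ I) the coordinate ring of D_I = ⋂_{i∈I} D_i, ψ_{I,J} the maps of de Rham complexes
induced by A_I → A_J, and d_I the de Rham differential of A_I over k. Consider the double complex
with component Ω^q(A_I/k) in bidegree (I, q), horizontal Čech differential (alternating sum of the
ψ_{J∖j,J}) and vertical differential (−1)^{|I|} d_I; its total complex computes the relative de Rham
cohomology of (X, D). Then every cochain ω of total degree d agrees, on all components with I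
nonempty, with the total differential of some cochain η of degree d − 1; that is, modulo
coboundaries ω is concentrated on the component Ω^d(A_∅/k) = Ω^d(X), so every class in H^d_dR(X, D)
is represented by a d-form on X. (The source states this for a smooth affine variety of dimension d
with a simple normal crossings divisor; the chart case with global coordinates is the one its proof
treats, and the double-complex description of H^d_dR(X, D) is taken as the setting.) -/
theorem result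
    (k : Type u) [Field k] [CharZero k] (A : Type u) [CommRing A] [Algebra k A] [Algebra.Smooth k A]
    (d n : ℕ) (t : Fin d → A) (e : Fin n ↪ Fin d)
    (b : Module.Basis (Fin d) A (Ω[A⁄k])) (hb : ∀ i, b i = KaehlerDifferential.D k A (t i))
    (ψ : ∀ (I J : Finset (Fin n)) (p : ℕ), ↥(⋀[(A ⧸ (⨆ i ∈ I, Ideal.span {t (e i)} : Ideal A))]^p (Ω[(A ⧸ (⨆ i ∈ I, Ideal.span {t (e i)} : Ideal A))⁄k])) →+ ↥(⋀[(A ⧸ (⨆ i ∈ J, Ideal.span {t (e i)} : Ideal A))]^p (Ω[(A ⧸ (⨆ i ∈ J, Ideal.span {t (e i)} : Ideal A))⁄k])))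
    (hψ : ∀ (I J : Finset (Fin n)) (h : I ⊆ J),
      DeRham.IsCxMap (KaehlerDifferential.D k (A ⧸ (⨆ i ∈ I, Ideal.span {t (e i)} : Ideal A))) (KaehlerDifferential.D k (A ⧸ (⨆ i ∈ J, Ideal.span {t (e i)} : Ideal A)))
        (Ideal.Quotient.factor (biSup_mono h)) (ψ I J))
    (dq : ∀ (I : Finset (Fin n)) (p : ℕ), ↥(⋀[(A ⧸ (⨆ i ∈ I, Ideal.span {t (e i)} : Ideal A))]^p (Ω[(A ⧸ (⨆ i ∈ I, Ideal.span {t (e i)} : Ideal A))⁄k])) →ₗ[k] ↥(⋀[(A ⧸ (⨆ i ∈ I, Ideal.span {t (e i)} : Ideal A))]^(p + 1) (Ω[(A ⧸ (⨆ i ∈ I, Ideal.span {t (e i)} : Ideal A))⁄k])))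
    (hdq : ∀ I : Finset (Fin n), DeRham.IsDiff (KaehlerDifferential.D k (A ⧸ (⨆ i ∈ I, Ideal.span {t (e i)} : Ideal A))) (dq I))
    (ω : ∀ (J : Finset (Fin n)) (q : ℕ), ↥(⋀[(A ⧸ (⨆ i ∈ J, Ideal.span {t (e i)} : Ideal A))]^q (Ω[(A ⧸ (⨆ i ∈ J, Ideal.span {t (e i)} : Ideal A))⁄k]))) :
    ∃ η : ∀ (I : Finset (Fin n)) (q : ℕ), ↥(⋀[(A ⧸ (⨆ i ∈ I, Ideal.span {t (e i)} : Ideal A))]^q (Ω[(A ⧸ (⨆ i ∈ I, Ideal.span {t (e i)} : Ideal A))⁄k])),
      (∀ (J : Finset (Fin n)) (q : ℕ), J.Nonempty → J.card + (q + 1) = d →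
        ω J (q + 1) =
          (∑ j ∈ J.attach, ((-1 : ℤ) ^ (J.filter (fun i => i < j.1)).card) • ψ (J.erase j.1) J (q + 1) (η (J.erase j.1) (q + 1))) +
            ((-1 : ℤ) ^ J.card) • dq J q (η J q)) ∧
      (∀ J : Finset (Fin n), J.Nonempty → J.card = d →
        ω J 0 = ∑ j ∈ J.attach, ((-1 : ℤ) ^ (J.filter (fun i => i < j.1)).card) • ψ (J.erase j.1) J 0 (η (J.erase j.1) 0)) := by
  
  classical
  have hcard : ∀ J : Finset (Fin n), J.card ≤ d := fun J =>
    (Finset.card_le_univ J).trans (by simpa using Fintype.card_le_of_injective e e.injective)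
  suffices key : ∀ r s, r + s = d → ∃ η : ∀ (I : Finset (Fin n)) (q : ℕ), ↥(⋀[(A ⧸ (⨆ i ∈ I, Ideal.span {t (e i)} : Ideal A))]^q (Ω[(A ⧸ (⨆ i ∈ I, Ideal.span {t (e i)} : Ideal A))⁄k])),
      (∀ (J : Finset (Fin n)) (q : ℕ), s < J.card → J.card + (q + 1) = d →
        ω J (q + 1) =
          (∑ j ∈ J.attach, ((-1 : ℤ) ^ (J.filter (fun i => i < j.1)).card) • ψ (J.erase j.1) J (q + 1) (η (J.erase j.1) (q + 1))) +
            ((-1 : ℤ) ^ J.card) • dq J q (η J q)) ∧
      (∀ J : Finset (Fin n), s < J.card → J.card = d →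
        ω J 0 = ∑ j ∈ J.attach, ((-1 : ℤ) ^ (J.filter (fun i => i < j.1)).card) • ψ (J.erase j.1) J 0 (η (J.erase j.1) 0)) by
    obtain ⟨η, h1, h2⟩ := key d 0 (add_zero d)
    exact ⟨η, fun J q hJ h => h1 J q (Finset.card_pos.2 hJ) h, fun J hJ h => h2 J (Finset.card_pos.2 hJ) h⟩
  intro r
  induction r with
  | zero =>
    intro s hs
    refine ⟨fun _ _ => 0, fun J q h1 h2 => absurd (hcard J) (by omega), fun J h1 h2 => absurd (hcard J) (by omega)⟩
  | succ r ih =>
    intro s hs
    obtain ⟨η, hη1, hη2⟩ := ih (s + 1) (by omega)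
    obtain ⟨m, hm⟩ : ∃ m, s + 1 + m = d := ⟨r, by omega⟩
    -- the targets for the layer `s + 1`
    let g : ∀ J : Finset (Fin n), ↥(⋀[(A ⧸ (⨆ i ∈ J, Ideal.span {t (e i)} : Ideal A))]^m (Ω[(A ⧸ (⨆ i ∈ J, Ideal.span {t (e i)} : Ideal A))⁄k])) :=
      fun J => match m with
        | 0 => ω J 0
        | q + 1 => ω J (q + 1) - ((-1 : ℤ) ^ J.card) • dq J q (η J q)
    obtain ⟨w, hw⟩ := Groth.Agent.S19629.result k A d n t e b hb ψ hψ s m hm g
    let η' : ∀ (I : Finset (Fin n)) (q : ℕ), ↥(⋀[(A ⧸ (⨆ i ∈ I, Ideal.span {t (e i)} : Ideal A))]^q (Ω[(A ⧸ (⨆ i ∈ I, Ideal.span {t (e i)} : Ideal A))⁄k])) :=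
      fun I q => if hI : I.card = s ∧ q = m then hI.2 ▸ w I else η I q
    have hold : ∀ (I : Finset (Fin n)) q, I.card ≠ s → η' I q = η I q := fun I q hI => dif_neg fun h => hI h.1
    have hnew : ∀ I : Finset (Fin n), I.card = s → η' I m = w I := fun I hI => by
      show dite _ _ _ = _
      rw [dif_pos ⟨hI, rfl⟩]
    have herase : ∀ (J : Finset (Fin n)) (j : {x // x ∈ J}), (J.erase j.1).card = J.card - 1 :=
      fun J j => Finset.card_erase_of_mem j.2
    refine ⟨η', fun J q hJ hd => ?_, fun J hJ hd => ?_⟩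
    · rcases eq_or_ne J.card (s + 1) with hc | hc
      · obtain rfl : m = q + 1 := by omega
        rw [hold J q (by omega), Finset.sum_congr rfl fun j _ => by rw [hnew _ (by rw [herase]; omega)], hw J hc]
        simp [g]
      · rw [hold J q (by omega), Finset.sum_congr rfl fun j _ => by rw [hold _ _ (by rw [herase]; omega)]]
        exact hη1 J q (by omega) hd
    · rcases eq_or_ne J.card (s + 1) with hc | hc
      · obtain rfl : m = 0 := by omega
        rw [Finset.sum_congr rfl fun j _ => by rw [hnew _ (by rw [herase]; omega)], hw J hc]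
      · rw [Finset.sum_congr rfl fun j _ => by rw [hold _ _ (by rw [herase]; omega)]]
        exact hη2 J (by omega) hd


end Groth.Agent.S19636
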