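import Groth.Statements.S1964
import Groth.Agent.Hensel.IntegralStrict
-- import your own Groth.Agent.* helpers here

set_option autoImplicit false
universe u
open EtAlg

namespace Groth.Agent.S1964

/-- A domain B integral over a henselian local ring A is itself henselian local, and the structure map A
-> B is local; if the residue field of A is separably closed, so is that of B, and the residue field
extension is purely inseparable. -/
theorem result (A B : Type u) [CommRing A] [HenselianLocalRing A] [CommRing B]
    [IsDomain B] [Algebra A B] [Algebra.IsIntegral A B] :
    ∃ _ : HenselianLocalRing B, IsLocalHom (algebraMap A B) ∧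
      (IsSepClosed (IsLocalRing.ResidueField A) →
        IsSepClosed (IsLocalRing.ResidueField B) ∧
        ∀ _ : IsLocalHom (algebraMap A B),
          letI := (IsLocalRing.ResidueField.map (algebraMap A B)).toAlgebra
          IsPurelyInseparable (IsLocalRing.ResidueField A) (IsLocalRing.ResidueField B)) := by
  have := Groth.Agent.Hensel.isLocalRing_of_isIntegral_domain A B
  have hloc := Groth.Agent.Hensel.isLocalHom_of_isIntegral_local A B
  refine ⟨Groth.Agent.Hensel.henselianLocalRing_of_isIntegral_local A B, hloc, fun hsep => ?_⟩
  exact ⟨(Groth.Agent.Hensel.residueField_of_isIntegral A B).1,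
    fun _ => (Groth.Agent.Hensel.residueField_of_isIntegral A B).2⟩

end Groth.Agent.S1964
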