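import Groth.Statements.S19642
import Groth.Agent.GerbLib.SectionBG.MonoBG

set_option backward.isDefEq.respectTransparency false
set_option backward.isDefEq.respectTransparency.types false

set_option autoImplicit false
universe u
open CategoryTheory AlgebraicGeometry MonoidalCategory
open AlgSt

namespace Groth.Agent.S19642

/-- In the case of a point over the base itself with affine fppf stabilizer, let `S` be a scheme, `𝒳` an
algebraic stack over `(Sch/S)` for the fppf topology, `x : (Sch/S) ⟶ 𝒳` a functor over `(Sch/S)` (an
`S`-point of `𝒳`), and `G` a group scheme over `S` which is affine, flat and locally of finite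
presentation over `S` and represents the automorphism presheaf of `x` (group isomorphisms `G(T) ≅
Aut_T(x_T)` natural in the scheme `T` over `S`; `G` is the stabilizer of `x`). Then there is a
functor `ι : BG ⟶ 𝒳` over `(Sch/S)`, where `BG` is the classifying stack of fppf `G`-torsors that
are schemes, which is a monomorphism (representable by algebraic spaces and a monomorphism after
every base change to a scheme) and whose composite with the canonical `S ⟶ BG` (the trivial torsor)
is isomorphic, as a functor over `(Sch/S)`, to `x`. (The source states this for a point with values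
in any scheme `T` over `S`, with target `𝒳 ×_S T`, and for the stabilizer any fppf group algebraic
space; its proof reduces to `T = S`, the case stated here, with the stabilizer an affine group
scheme, the case in which the classifying stack of scheme torsors is the whole classifying stack.) -/
theorem result
    (S : Scheme.{u}) (𝒳 : AlgSt.Cat S) (h𝒳 : AlgSt.IsAlgStack Scheme.fppfPrecoverage 𝒳)
    (x : FibCat.overCat (Over.mk (𝟙 S)) ⥤ᵇ 𝒳)
    (G : Over S) [GrpObj G] [IsAffineHom G.hom] [Flat G.hom] [LocallyOfFinitePresentation G.hom]
    (r : Gerb.AutRep x (Gerb.ptsGrp (Over.mk (𝟙 S)) G)) :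
    ∃ ι : AlgSt.BG Scheme.fppfPrecoverage G ⥤ᵇ 𝒳,
      AlgSt.IsMono ι ∧
      Nonempty (BasedFunctor.comp (AlgSt.quotMap Scheme.fppfPrecoverage G (AlgSt.trivAction G)) ι ≅
        BasedFunctor.comp (AlgSt.toOverCat (Over.mk (𝟙 S))) x) := by
  exact Groth.Agent.GerbLib.SectionBG.exists_isMono_BG h𝒳 x r

end Groth.Agent.S19642
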