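import Groth.Statements.S19646
import Groth.Agent.H28.AttrImage
-- import your own Groth.Agent.* helpers here

set_option autoImplicit false
universe u
open CategoryTheory MonoidalCategory CartesianMonoidalCategory AlgebraicGeometry Opposite
open Magnet

namespace Groth.Agent.S19646

/-- Let S be a quasi-compact scheme, M a finitely generated abelian group and X an S-scheme separated
and locally of finite presentation over S (so of finite presentation, given the atlas below) with an
action of the diagonalizable group scheme D(M)_S, admitting an S-affine strongly-FPR atlas g : U →
X: U is affine over S with a D(M)_S-action, g is equivariant, étale and surjective, and for every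
subgroup Z of M the square of fixed-point subfunctors for the actions restricted along D(M/Z)_S →
D(M)_S, with top U^{D(M/Z)} → X^{D(M/Z)} and bottom U → X, is cartesian. Call a submonoid (magnet) N
of M pure when every submonoid L whose attractor X^L has the same image in X as X^N (on T-points,
for every S-scheme T) contains N. Then the set of pure magnets is finite. (The published statement
carries no quasi-compactness assumption on the base. Over the disjoint union S of countably many
copies of Spec ℚ indexed by n ≥ 1, let the multiplicative group act on the affine line over the n-th
copy with weight n: this X is affine and of finite presentation over S and is its own S-affine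
strongly-FPR atlas, yet the submonoids dℕ of ℤ, d ≥ 1, are pairwise distinct pure magnets; the
finite set of generating degrees used in the published argument exists only over a quasi-compact
base, so S is taken quasi-compact here. The source allows X an algebraic space and any abelian group
M; here X is a scheme and M is finitely generated, as in the results on FPR atlases on which the
argument rests.) -/
theorem result (S : Scheme.{u}) [CompactSpace S] (M : Type)
    [AddCommGroup M] [AddGroup.FG M] {X : Over S} [IsSeparated X.hom] [LocallyOfFinitePresentation X.hom]
    (a : Magnet.MonAct (Magnet.AMonS S M) X) (U : Over S) [IsAffineHom U.hom]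
    (aU : Magnet.MonAct (Magnet.AMonS S M) U) (g : U ⟶ X) (hg : Magnet.MonAct.IsEquivariant aU a g)
    [Etale g.left] [Surjective g.left]
    (hgZ : ∀ Z : AddSubgroup M, Magnet.MonAct.IsEquivariant
      (aU.restrict (Magnet.AMonS.map S (QuotientAddGroup.mk' Z)))
      (a.restrict (Magnet.AMonS.map S (QuotientAddGroup.mk' Z))) g)
    (hfpr : ∀ Z : AddSubgroup M, IsPullback (Magnet.MonAct.fixedPsh.map g (hgZ Z))
      (Magnet.MonAct.fixedPshι (aU.restrict (Magnet.AMonS.map S (QuotientAddGroup.mk' Z))))
      (Magnet.MonAct.fixedPshι (a.restrict (Magnet.AMonS.map S (QuotientAddGroup.mk' Z)))) (yoneda.map g)) :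
    Set.Finite {N : AddSubmonoid M | ∀ L : AddSubmonoid M,
      (∀ T : Over S, Set.range (fun φ => (Magnet.attrToX a N).app (op T) φ) =
        Set.range (fun φ => (Magnet.attrToX a L).app (op T) φ)) → N ≤ L} := by
  haveI : LocallyOfFiniteType U.hom := by rw [← Over.w g]; infer_instance
  refine (H28.MagnetAff.finite_pure aU).subset fun N hN L hL => hN L fun T => ?_
  refine Set.Subset.antisymm (fun x hx => ?_) (fun x hx => ?_)
  · exact H28.AttrImage.inAttr_of_atlas a aU g hg hgZ hfpr N L (fun T u hu => (hL T).le hu) x hx
  · exact H28.AttrImage.inAttr_of_atlas a aU g hg hgZ hfpr L N (fun T u hu => (hL T).ge hu) x hx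

end Groth.Agent.S19646
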