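import Groth.Statements.S19647
import Groth.Agent.H28.MagnetPure
-- import your own Groth.Agent.* helpers here

set_option autoImplicit false
universe u
open CategoryTheory MonoidalCategory CartesianMonoidalCategory AlgebraicGeometry Opposite
open Magnet

namespace Groth.Agent.S19647

/-- Let S be a quasi-compact scheme, M a commutative monoid and X an S-scheme affine and of finite
presentation over S with an action of the diagonalizable monoid scheme A(M)_S. Call a submonoid
(magnet) N of M pure when every submonoid L whose attractor X^L has the same image in X as X^N (on
T-points, for every S-scheme T) contains N. Then the set of pure magnets is finite. (The published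
statement carries no quasi-compactness assumption on the base. Over the disjoint union S of
countably many copies of Spec ℚ indexed by n ≥ 1, let the multiplicative group act on the affine
line over the n-th copy with weight n: this X is affine and of finite presentation over S, yet the
submonoids dℕ of ℤ, d ≥ 1, are pairwise distinct pure magnets; the finite set of generating degrees
used in the published argument exists only over a quasi-compact base, so S is taken quasi-compact
here. The source allows X an algebraic space; here X is a scheme.) -/
theorem result (S : Scheme.{u}) [CompactSpace S] (M : Type) [AddCommMonoid M]
    {X : Over S} [IsAffineHom X.hom] [LocallyOfFinitePresentation X.hom]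
    (a : Magnet.MonAct (Magnet.AMonS S M) X) :
    Set.Finite {N : AddSubmonoid M | ∀ L : AddSubmonoid M,
      (∀ T : Over S, Set.range (fun φ => (Magnet.attrToX a N).app (op T) φ) =
        Set.range (fun φ => (Magnet.attrToX a L).app (op T) φ)) → N ≤ L} := by
  exact Groth.Agent.H28.MagnetAff.finite_pure a

end Groth.Agent.S19647
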