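import Groth.Statements.S19649
import Mathlib.RingTheory.MvPolynomial.Ideal
import Mathlib.LinearAlgebra.Matrix.NonsingularInverse
import Mathlib.Algebra.Module.Projective
-- import your own Groth.Agent.* helpers here

set_option autoImplicit false
universe u v
open Instab

namespace Groth.Agent.S19649

open MvPolynomial DirectSum

section aux

variable {R : Type u} [CommRing R] {n : ℕ}
  {P : Type v} [AddCommGroup P] [Module (MvPolynomial (Fin n) R) P] [Module R P]
  [IsScalarTower R (MvPolynomial (Fin n) R) P]
  (ℳ : (Fin n → ℤ) → Submodule R P) [DirectSum.Decomposition ℳ]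
  [SetLike.GradedSMul (MvPolynomial.weightedHomogeneousSubmodule R (fun i : Fin n => (Pi.single i 1 : Fin n → ℤ))) ℳ]

theorem C_smul_eq (a : R) (q : P) : (C a : MvPolynomial (Fin n) R) • q = a • q := by
  rw [← MvPolynomial.algebraMap_eq, algebraMap_smul]

theorem weight_eq (u : Fin n →₀ ℕ) :
    Finsupp.weight (fun i : Fin n => (Pi.single i 1 : Fin n → ℤ)) u = fun i => (u i : ℤ) := by
  funext j
  rw [Finsupp.weight_apply, Finsupp.sum_fintype _ _ (by simp), Finset.sum_apply]
  simp [Pi.single_apply]

theorem monomial_smul_mem (u : Fin n →₀ ℕ) (a : R) {g : P} {d : Fin n → ℤ} (hg : g ∈ ℳ d) :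
    monomial u a • g ∈ ℳ ((fun i => (u i : ℤ)) + d) :=
  SetLike.GradedSMul.smul_mem
    (show monomial u a ∈ weightedHomogeneousSubmodule R (fun i : Fin n => (Pi.single i 1 : Fin n → ℤ)) (fun i => (u i : ℤ))
      from isWeightedHomogeneous_monomial _ u a (weight_eq u)) hg

/-- The component of degree `e`. -/
def proj (e : Fin n → ℤ) : P →+ P :=
  AddMonoidHom.mk' (fun q => ((decompose ℳ q e : ℳ e) : P)) fun a b => by simp [decompose_add]

theorem proj_mem (e : Fin n → ℤ) (q : P) : proj ℳ e q ∈ ℳ e := (decompose ℳ q e).2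

theorem proj_same {e : Fin n → ℤ} {q : P} (h : q ∈ ℳ e) : proj ℳ e q = q := decompose_of_mem_same ℳ h

theorem proj_smul {g : P} {d : Fin n → ℤ} (hg : g ∈ ℳ d) (e : Fin n → ℤ) (c : MvPolynomial (Fin n) R) :
    proj ℳ e (c • g) = ∑ u ∈ c.support, if (fun i => (u i : ℤ)) + d = e then monomial u (c.coeff u) • g else 0 := by
  conv_lhs => rw [c.as_sum, Finset.sum_smul, map_sum]
  refine Finset.sum_congr rfl fun u _ => ?_
  split_ifs with h
  · exact proj_same ℳ (h ▸ monomial_smul_mem ℳ u _ hg)
  · exact decompose_of_mem_ne ℳ (monomial_smul_mem ℳ u _ hg) h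

theorem exists_homogeneous_span [Module.Finite (MvPolynomial (Fin n) R) P] :
    ∃ G : Finset P, (∀ g ∈ G, ∃ d, g ∈ ℳ d) ∧ Submodule.span (MvPolynomial (Fin n) R) (G : Set P) = ⊤ := by
  classical
  obtain ⟨s, hs⟩ := Module.Finite.fg_top (R := MvPolynomial (Fin n) R) (M := P)
  refine ⟨s.biUnion fun x => (decompose ℳ x).support.image fun i => proj ℳ i x, fun g hg => ?_, ?_⟩
  · simp only [Finset.mem_biUnion, Finset.mem_image] at hg
    obtain ⟨x, -, i, -, rfl⟩ := hg
    exact ⟨i, proj_mem ℳ i x⟩
  · rw [eq_top_iff, ← hs, Submodule.span_le]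
    intro x hx
    rw [← sum_support_decompose ℳ x]
    exact Submodule.sum_mem _ fun i hi => Submodule.subset_span (Finset.mem_coe.2
      (Finset.mem_biUnion.2 ⟨x, hx, Finset.mem_image.2 ⟨i, hi, rfl⟩⟩))

/-- A finite family of homogeneous generators which becomes an `R ⧸ p`-independent family modulo the variables. -/
theorem exists_family [Module.Finite (MvPolynomial (Fin n) R) P] (p : PrimeSpectrum R) :
    ∃ (r : R) (_ : r ∉ p.asIdeal) (m : ℕ) (d : Fin m → (Fin n → ℤ)) (f : Fin m → P),
      (∀ i, f i ∈ ℳ (d i)) ∧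
      (∀ q : P, (C r : MvPolynomial (Fin n) R) • q ∈
        Submodule.span (MvPolynomial (Fin n) R) (Set.range f) ⊔ idealOfVars (Fin n) R • ⊤) ∧
      (∀ a : Fin m → R, (∑ i, (C (a i) : MvPolynomial (Fin n) R) • f i) ∈
        idealOfVars (Fin n) R • (⊤ : Submodule (MvPolynomial (Fin n) R) P) → ∀ i, a i ∈ p.asIdeal) := by
  classical
  obtain ⟨G, hG, hspan⟩ := exists_homogeneous_span (n := n) ℳ
  let W : Finset P → Submodule (MvPolynomial (Fin n) R) P := fun S =>
    Submodule.span (MvPolynomial (Fin n) R) (S : Set P) ⊔ idealOfVars (Fin n) R • ⊤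
  let Q : Finset P → Prop := fun S =>
    S ⊆ G ∧ ∃ r : R, r ∉ p.asIdeal ∧ ∀ q : P, (C r : MvPolynomial (Fin n) R) • q ∈ W S
  obtain ⟨S, ⟨⟨hSG, r, hr, hW⟩, hmin⟩⟩ := exists_minimalFor_of_wellFoundedLT Q Finset.card
    ⟨G, subset_rfl, 1, p.isPrime.one_notMem, fun q => by
      simp only [W, hspan, top_sup_eq, Submodule.mem_top]⟩
  let f : Fin S.card → P := fun i => (S.equivFin.symm i : P)
  have hf : ∀ i, f i ∈ S := fun i => (S.equivFin.symm i).2
  have hinj : Function.Injective f := Subtype.val_injective.comp S.equivFin.symm.injective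
  have hrange : Set.range f = (S : Set P) := by
    ext x
    exact ⟨fun ⟨i, hi⟩ => hi ▸ hf i, fun hx => ⟨S.equivFin ⟨x, hx⟩, by simp [f]⟩⟩
  choose d hd using fun i => hG (f i) (hSG (hf i))
  refine ⟨r, hr, S.card, d, f, hd, fun q => hrange ▸ hW q, fun a ha j => ?_⟩
  by_contra haj
  have hQ : Q (S.erase (f j)) := by
    refine ⟨(Finset.erase_subset _ _).trans hSG, a j * r, fun h => (p.isPrime.mem_or_mem h).elim haj hr, fun q => ?_⟩
    have key : W S ≤ (W (S.erase (f j))).comap (LinearMap.lsmul (MvPolynomial (Fin n) R) P (C (a j))) := by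
      refine sup_le (Submodule.span_le.2 fun g hg => ?_) (fun z hz => ?_)
      · show (C (a j) : MvPolynomial (Fin n) R) • g ∈ W _
        by_cases hgj : g = f j
        · subst hgj
          rw [show (C (a j) : MvPolynomial (Fin n) R) • f j = (∑ i, (C (a i) : MvPolynomial (Fin n) R) • f i) -
            ∑ i ∈ Finset.univ.erase j, (C (a i) : MvPolynomial (Fin n) R) • f i by
              rw [← Finset.add_sum_erase _ _ (Finset.mem_univ j)]; simp]
          refine Submodule.sub_mem _ (Submodule.mem_sup_right ha) (Submodule.mem_sup_left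
            (Submodule.sum_mem _ fun i hi => Submodule.smul_mem _ _ (Submodule.subset_span ?_)))
          exact Finset.mem_coe.2 (Finset.mem_erase.2 ⟨fun h => (Finset.mem_erase.1 hi).1 (hinj h), hf i⟩)
        · exact Submodule.smul_mem _ _ (Submodule.mem_sup_left
            (Submodule.subset_span (Finset.mem_coe.2 (Finset.mem_erase.2 ⟨hgj, hg⟩))))
      · exact Submodule.mem_sup_right (Submodule.smul_mem _ _ hz)
    rw [C_mul, mul_smul]
    exact key (hW q)
  have h1 := Finset.card_erase_lt_of_mem (hf j)
  have h2 := hmin hQ h1.le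
  omega

/-- Homogeneous Nakayama: generation modulo the variables gives generation. -/
theorem exists_pow_smul_mem_span [Module.Finite (MvPolynomial (Fin n) R) P] {r : R} {m : ℕ}
    {d : Fin m → (Fin n → ℤ)} {f : Fin m → P} (hd : ∀ i, f i ∈ ℳ (d i))
    (h : ∀ q : P, (C r : MvPolynomial (Fin n) R) • q ∈
      Submodule.span (MvPolynomial (Fin n) R) (Set.range f) ⊔ idealOfVars (Fin n) R • ⊤) :
    ∃ K : ℕ, ∀ q : P, (C (r ^ K) : MvPolynomial (Fin n) R) • q ∈
      Submodule.span (MvPolynomial (Fin n) R) (Set.range f) := by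
  classical
  set I := idealOfVars (Fin n) R
  set F := Submodule.span (MvPolynomial (Fin n) R) (Set.range f)
  have hk : ∀ k : ℕ, ∀ q : P, (C (r ^ k) : MvPolynomial (Fin n) R) • q ∈ F ⊔ I ^ k • ⊤ := by
    intro k
    induction k with
    | zero => intro q; simp
    | succ k ih =>
      intro q
      have key : F ⊔ I ^ k • ⊤ ≤
          (F ⊔ I ^ (k + 1) • ⊤).comap (LinearMap.lsmul (MvPolynomial (Fin n) R) P (C r)) := by
        refine sup_le (fun y hy => Submodule.mem_sup_left (Submodule.smul_mem _ _ hy))
          (Submodule.smul_le.2 fun a ha x _ => ?_)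
        show (C r : MvPolynomial (Fin n) R) • a • x ∈ F ⊔ I ^ (k + 1) • (⊤ : Submodule (MvPolynomial (Fin n) R) P)
        rw [smul_comm]
        obtain ⟨y, hy, z, hz, hyz⟩ := Submodule.mem_sup.1 (h x)
        rw [← hyz, smul_add, pow_succ, Submodule.mul_smul]
        exact Submodule.add_mem_sup (Submodule.smul_mem _ _ hy) (Submodule.smul_mem_smul ha hz)
      rw [pow_succ' r, C_mul, mul_smul]
      exact key (ih q)
  obtain ⟨G, hG, hspan⟩ := exists_homogeneous_span (n := n) ℳ
  choose! dg hdg using hG
  let K : ℕ := 1 + G.sup fun g => G.sup fun g' => ∑ i, (dg g i - dg g' i).natAbs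
  refine ⟨K, fun q => ?_⟩
  have key : (⊤ : Submodule (MvPolynomial (Fin n) R) P) ≤
      F.comap (LinearMap.lsmul (MvPolynomial (Fin n) R) P (C (r ^ K))) := by
    rw [← hspan, Submodule.span_le]
    intro g hg
    show (C (r ^ K) : MvPolynomial (Fin n) R) • g ∈ F
    obtain ⟨y, hy, z, hz, hyz⟩ := Submodule.mem_sup.1 (hk K g)
    have hy' : proj ℳ (dg g) y ∈ F := by
      obtain ⟨c, rfl⟩ := (Submodule.mem_span_range_iff_exists_fun _).1 hy
      rw [map_sum]
      refine Submodule.sum_mem _ fun i _ => ?_
      rw [proj_smul ℳ (hd i)]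
      refine Submodule.sum_mem _ fun u _ => ?_
      split_ifs
      · exact Submodule.smul_mem _ _ (Submodule.subset_span ⟨i, rfl⟩)
      · exact Submodule.zero_mem _
    have hz' : proj ℳ (dg g) z = 0 := by
      refine Submodule.smul_induction_on hz (fun a ha x hxt => ?_) fun x y hx hy => by rw [map_add, hx, hy, add_zero]
      have hx : x ∈ Submodule.span (MvPolynomial (Fin n) R) (G : Set P) := hspan.ge trivial
      clear hxt
      revert a
      induction hx using Submodule.span_induction with
      | mem g' hg' =>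
        intro a ha
        rw [proj_smul ℳ (hdg g' hg')]
        refine Finset.sum_eq_zero fun u hu => if_neg fun he => ?_
        have h1 : K ≤ Finsupp.degree u := (mem_pow_idealOfVars_iff K a).1 ha u hu
        have h2 : Finsupp.degree u = ∑ i, (dg g i - dg g' i).natAbs := by
          rw [Finsupp.degree_eq_sum]
          refine Finset.sum_congr rfl fun i _ => ?_
          have := congrFun he i
          simp only [Pi.add_apply] at this
          omega
        have h3 : ∑ i, (dg g i - dg g' i).natAbs ≤ K - 1 := by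
          have e1 := Finset.le_sup (f := fun g => G.sup fun g' => ∑ i, (dg g i - dg g' i).natAbs) hg
          have e2 := Finset.le_sup (f := fun g' => ∑ i, (dg g i - dg g' i).natAbs) hg'
          simp only [K] at *
          omega
        simp only [K] at *
        omega
      | zero => intro a _; simp
      | add x y _ _ hx hy => intro a ha; rw [smul_add, map_add, hx a ha, hy a ha, add_zero]
      | smul c x _ hx => intro a ha; rw [smul_smul]; exact hx _ (Ideal.mul_mem_right _ _ ha)
    have e := congrArg (proj ℳ (dg g)) hyz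
    rw [map_add, hz', add_zero, C_smul_eq, proj_same ℳ (Submodule.smul_mem _ _ (hdg g hg)), ← C_smul_eq (n := n)] at e
    exact e ▸ hy'
  exact key Submodule.mem_top

end aux

end Groth.Agent.S19649

namespace Groth.Agent.S19649

open MvPolynomial DirectSum in
/-- The case of a point, in graded-module form over an affine base. Let R be a commutative ring, n a
natural number, A = R[x_1, …, x_n] the polynomial ring graded by ℤ^n with x_i of degree the i-th
basis vector (the weight grading of the standard action of the n-dimensional split torus on affine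
n-space), and P a finitely generated projective A-module carrying a compatible ℤ^n-grading (an
equivariant vector bundle on affine n-space over Spec R). Then P is graded-free Zariski-locally on
Spec R: for every prime p of R there are r ∉ p and finitely many homogeneous elements f_1, …, f_m of
P such that, after inverting r, the f_i form an A-basis of P — every element of P multiplied by a
power of r is an A-linear combination of the f_i, and the coefficients of every A-linear relation
among the f_i are killed by a power of r. (This is the case of a point of the source's description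
of filtered points of quotient stacks by the general linear group, whose argument the source gives
in full: an equivariant vector bundle on affine n-space over a base is, locally on the base, the
standard one attached to a cocharacter; the general case, an identification of mapping stacks, is
not stated here.) -/
theorem result
    {R : Type u} [CommRing R] (n : ℕ)
    {P : Type v} [AddCommGroup P] [Module (MvPolynomial (Fin n) R) P] [Module R P]
    [IsScalarTower R (MvPolynomial (Fin n) R) P]
    (ℳ : (Fin n → ℤ) → Submodule R P) [DirectSum.Decomposition ℳ]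
    [SetLike.GradedSMul (MvPolynomial.weightedHomogeneousSubmodule R (fun i : Fin n => (Pi.single i 1 : Fin n → ℤ))) ℳ]
    [Module.Finite (MvPolynomial (Fin n) R) P] [Module.Projective (MvPolynomial (Fin n) R) P]
    (p : PrimeSpectrum R) :
    ∃ r : R, r ∉ p.asIdeal ∧ ∃ (m : ℕ) (d : Fin m → (Fin n → ℤ)) (f : Fin m → P), (∀ i, f i ∈ ℳ (d i)) ∧
      (∀ q : P, ∃ (N : ℕ) (c : Fin m → MvPolynomial (Fin n) R), (MvPolynomial.C r : MvPolynomial (Fin n) R) ^ N • q = ∑ i, c i • f i) ∧
      (∀ c : Fin m → MvPolynomial (Fin n) R, ∑ i, c i • f i = 0 →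
        ∃ N : ℕ, ∀ i, (MvPolynomial.C r : MvPolynomial (Fin n) R) ^ N * c i = 0) := by
  classical
  obtain ⟨r₁, hr₁, m, d, f, hd, hgen, hind⟩ := exists_family (n := n) ℳ p
  obtain ⟨K, hK⟩ := exists_pow_smul_mem_span ℳ hd hgen
  let φ : (Fin m → MvPolynomial (Fin n) R) →ₗ[MvPolynomial (Fin n) R] P :=
    Fintype.linearCombination (MvPolynomial (Fin n) R) f
  have hφ : ∀ c, φ c = ∑ i, c i • f i := fun c => Fintype.linearCombination_apply _ _ _
  have hrange : ∀ q, (C (r₁ ^ K) : MvPolynomial (Fin n) R) • q ∈ LinearMap.range φ := fun q => by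
    rw [Fintype.range_linearCombination]; exact hK q
  obtain ⟨s, hs⟩ := Module.projective_lifting_property φ.rangeRestrict
    ((LinearMap.lsmul (MvPolynomial (Fin n) R) P (C (r₁ ^ K))).codRestrict _ hrange) φ.surjective_rangeRestrict
  have hs' : ∀ q, φ (s q) = (C (r₁ ^ K) : MvPolynomial (Fin n) R) • q := fun q =>
    congrArg Subtype.val (LinearMap.congr_fun hs q)
  let v : Fin m → Fin m → MvPolynomial (Fin n) R := fun i =>
    (C (r₁ ^ K) : MvPolynomial (Fin n) R) • Pi.single i 1 - s (f i)
  have hv : ∀ i, φ (v i) = 0 := fun i => by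
    rw [map_sub, map_smul, hs', Fintype.linearCombination_apply_single, one_smul, sub_self]
  have hI : ∀ c : MvPolynomial (Fin n) R, c ∈ idealOfVars (Fin n) R ↔ constantCoeff c = 0 := by
    intro c
    rw [← pow_one (idealOfVars (Fin n) R), mem_pow_idealOfVars_iff', constantCoeff_eq]
    refine ⟨fun h => h 0 (by simp), fun h x hx => ?_⟩
    rwa [(Finsupp.degree_eq_zero_iff x).1 (by omega)]
  have hvp : ∀ i j, constantCoeff (v i j) ∈ p.asIdeal := by
    intro i
    refine hind _ ?_
    have e : (∑ j, (C (constantCoeff (v i j)) : MvPolynomial (Fin n) R) • f j) =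
        ∑ j, ((C (constantCoeff (v i j)) : MvPolynomial (Fin n) R) - v i j) • f j := by
      simp only [sub_smul, Finset.sum_sub_distrib, ← hφ, hv, sub_zero]
    rw [e]
    exact Submodule.sum_mem _ fun j _ => Submodule.smul_mem_smul ((hI _).2 (by simp)) Submodule.mem_top
  let T : Matrix (Fin m) (Fin m) R := fun i j => constantCoeff (s (f i) j)
  have hT : (Ideal.Quotient.mk p.asIdeal).mapMatrix T = (Ideal.Quotient.mk p.asIdeal r₁) ^ K • (1 : Matrix (Fin m) (Fin m) _) := by
    ext i j
    have h := Ideal.Quotient.eq_zero_iff_mem.2 (hvp i j)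
    simp only [v, Pi.sub_apply, Pi.smul_apply, smul_eq_mul, map_sub, map_mul, constantCoeff_C, map_pow] at h
    rw [RingHom.mapMatrix_apply, Matrix.map_apply, Matrix.smul_apply, smul_eq_mul]
    rw [sub_eq_zero] at h
    rw [← h]
    rcases eq_or_ne i j with rfl | hij
    · simp [T]
    · simp [T, hij]
  have hD : T.det ∉ p.asIdeal := by
    rw [← Ideal.Quotient.eq_zero_iff_mem, RingHom.map_det, hT, Matrix.det_smul, Matrix.det_one, mul_one]
    exact pow_ne_zero _ (pow_ne_zero _ (mt Ideal.Quotient.eq_zero_iff_mem.1 hr₁))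
  have hc0 : ∀ c, φ c = 0 → ∀ i, (C T.det : MvPolynomial (Fin n) R) * c i ∈ idealOfVars (Fin n) R := by
    intro c hc i
    have h : Matrix.vecMul (fun k => constantCoeff (c k)) T = 0 := by
      funext j
      have h0 : s (∑ k, c k • f k) = 0 := by rw [← hφ, hc, map_zero]
      have := congrArg constantCoeff (congrFun h0 j)
      simpa [Matrix.vecMul, dotProduct, map_sum, T] using this
    have h' := congrFun (congrArg (fun w => Matrix.vecMul w T.adjugate) h) i
    simp only [Matrix.vecMul_vecMul, Matrix.mul_adjugate, Matrix.vecMul_smul, Matrix.vecMul_one,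
      Matrix.zero_vecMul] at h'
    rw [hI]
    simpa using h'
  have hpow : ∀ k : ℕ, ∀ c, φ c = 0 → ∀ i,
      (C (r₁ ^ K * T.det) : MvPolynomial (Fin n) R) ^ k * c i ∈ idealOfVars (Fin n) R ^ k := by
    intro k
    induction k with
    | zero => intro c _ i; simp
    | succ k ih =>
      intro c hc j
      have h0 : s (∑ i, c i • f i) = 0 := by rw [← hφ, hc, map_zero]
      have e : (C (r₁ ^ K) : MvPolynomial (Fin n) R) * c j = ∑ i, c i * v i j := by
        have hz : (∑ i, c i * s (f i) j) = 0 := by simpa using congrFun h0 j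
        simp only [v, Pi.sub_apply, Pi.smul_apply, smul_eq_mul, mul_sub, Finset.sum_sub_distrib, hz, sub_zero,
          Pi.single_apply, mul_ite, mul_one, mul_zero, Finset.sum_ite_eq, Finset.mem_univ, if_true]
        exact mul_comm _ _
      rw [pow_succ', pow_succ',
        show (C (r₁ ^ K * T.det) : MvPolynomial (Fin n) R) * C (r₁ ^ K * T.det) ^ k * c j =
          C T.det * C (r₁ ^ K * T.det) ^ k * (C (r₁ ^ K) * c j) by rw [C_mul]; ring, e, Finset.mul_sum]
      refine Submodule.sum_mem _ fun i _ => ?_
      rw [show C T.det * C (r₁ ^ K * T.det) ^ k * (c i * v i j) =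
        (C T.det * c i) * (C (r₁ ^ K * T.det) ^ k * v i j) by ring]
      exact Ideal.mul_mem_mul (hc0 c hc i) (ih (v i) (hv i) j)
  refine ⟨r₁ ^ K * T.det, fun h => (p.isPrime.mem_or_mem h).elim (fun h' => hr₁ (p.isPrime.mem_of_pow_mem _ h')) hD,
    m, d, f, hd, fun q => ?_, fun c hc => ?_⟩
  · obtain ⟨c, hc⟩ := (Submodule.mem_span_range_iff_exists_fun _).1 (hK q)
    refine ⟨1, fun i => C T.det * c i, ?_⟩
    rw [pow_one, mul_comm, C_mul, mul_smul, ← hc, Finset.smul_sum]
    simp only [mul_smul]
  · refine ⟨(Finset.univ.sup fun i => (c i).totalDegree) + 1, fun i => ?_⟩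
    set k := (Finset.univ.sup fun i => (c i).totalDegree) + 1 with hkdef
    have hle : (c i).totalDegree < k := by
      have := Finset.le_sup (f := fun i => (c i).totalDegree) (Finset.mem_univ i)
      omega
    have hmem := (mem_pow_idealOfVars_iff' k _).1 (hpow k c ((hφ c).trans hc) i)
    ext u
    rw [coeff_zero]
    by_cases hu : Finsupp.degree u < k
    · exact hmem u hu
    · rw [← C_pow, coeff_C_mul, coeff_eq_zero_of_totalDegree_lt (by
        rw [Finsupp.degree_apply] at hu
        omega), mul_zero]

end Groth.Agent.S19649
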