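import Groth.Statements.S1965
import Mathlib
-- import your own Groth.Agent.* helpers here

set_option autoImplicit false
universe u
open Polynomial
open EtAlg

namespace Groth.Agent.S1965

open Polynomial in
theorem exists_small_root {A : Type u} [CommRing A] [IsLocalRing A]
    [IsAdicComplete (IsLocalRing.maximalIdeal A) A] (q u : A) (hu : IsUnit u) (G : A[X]) (c : ℕ) (hc : 1 ≤ c)
    (hq : q ∈ IsLocalRing.maximalIdeal A ^ c) :
    ∃ z ∈ IsLocalRing.maximalIdeal A ^ c, q + u * z + z ^ 2 * G.eval z = 0 := by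
  set m := IsLocalRing.maximalIdeal A
  obtain ⟨v, hv⟩ := hu.exists_left_inv
  let h : A → A := fun z => q + u * z + z ^ 2 * G.eval z
  let t : ℕ → A := fun j => Nat.rec 0 (fun _ x => x - v * h x) j
  have hts : ∀ j, t (j + 1) = t j - v * h (t j) := fun j => rfl
  have key : ∀ j, t j ∈ m ^ c ∧ h (t j) ∈ m ^ (c + j) := by
    intro j
    induction j with
    | zero => exact ⟨zero_mem _, by simpa [h, t] using hq⟩
    | succ j ih =>
      obtain ⟨h1, h2⟩ := ih
      have hx : t (j + 1) ∈ m ^ c := by
        rw [hts]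
        exact sub_mem h1 (Ideal.mul_mem_left _ _ (Ideal.pow_le_pow_right (Nat.le_add_right c j) h2))
      refine ⟨hx, ?_⟩
      obtain ⟨w, hw⟩ := Polynomial.sub_dvd_eval_sub (t (j + 1)) (t j) G
      have e : h (t (j + 1)) = (t (j + 1) - t j) *
          (t (j + 1) ^ 2 * w + (t (j + 1) + t j) * G.eval (t j)) := by
        simp only [h]
        rw [hts] at hw ⊢
        linear_combination (t j - v * h (t j)) ^ 2 * hw - h (t j) * hv
      rw [e]
      have hm : ∀ {x : A}, x ∈ m ^ c → x ∈ m := fun hx => Ideal.pow_le_self (by omega) hx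
      have hb : t (j + 1) ^ 2 * w + (t (j + 1) + t j) * G.eval (t j) ∈ m :=
        add_mem (Ideal.mul_mem_right _ _ (Ideal.pow_mem_of_mem m (hm hx) 2 (by omega)))
          (Ideal.mul_mem_right _ _ (add_mem (hm hx) (hm h1)))
      rw [← add_assoc, pow_succ m (c + j)]
      refine Ideal.mul_mem_mul ?_ hb
      rw [hts, sub_sub_cancel_left]
      exact neg_mem (Ideal.mul_mem_left _ _ h2)
  obtain ⟨z, hz⟩ := IsPrecomplete.prec (inferInstance : IsPrecomplete m A) (f := t) (fun {a b} hab => by
    induction b, hab using Nat.le_induction with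
    | base => rfl
    | succ b hab ih =>
      refine ih.trans ?_
      rw [SModEq.sub_mem, hts, sub_sub_cancel, smul_eq_mul, Ideal.mul_top]
      exact Ideal.mul_mem_left _ _ (Ideal.pow_le_pow_right (by omega) (key b).2))
  have hd : ∀ n, t n - z ∈ m ^ n := fun n => by
    have := hz n
    rwa [SModEq.sub_mem, smul_eq_mul, Ideal.mul_top] at this
  refine ⟨z, ?_, IsHausdorff.haus (inferInstance : IsHausdorff m A) _ (fun n => ?_)⟩
  · rw [← sub_sub_cancel (t c) z]
    exact sub_mem (key c).1 (hd c)
  · rw [SModEq.sub_mem, sub_zero, smul_eq_mul, Ideal.mul_top]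
    have e1 : (C q + C u * X + X ^ 2 * G).eval (t n) - (C q + C u * X + X ^ 2 * G).eval z ∈ m ^ n :=
      Ideal.mem_of_dvd _ (Polynomial.sub_dvd_eval_sub _ _ _) (hd n)
    simp only [eval_add, eval_C, eval_mul, eval_X, eval_pow] at e1
    simpa [h] using sub_mem (Ideal.pow_le_pow_right (Nat.le_add_left n c) (key n).2) e1

/-- Let A be a complete Noetherian local domain of Krull dimension 1 with maximal ideal m, P a
polynomial over A and α a root of P which is not a root of the derivative P'. Then for every c there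
is an n such that for every polynomial Q all of whose coefficients lie in m^n, the polynomial P + Q
has a root β with β - α in m^c. -/
theorem result (A : Type u) [CommRing A] [IsDomain A] [IsLocalRing A] [IsNoetherianRing A]
    [IsAdicComplete (IsLocalRing.maximalIdeal A) A] (hdim : ringKrullDim A = 1) (P : A[X]) (α : A)
    (hα : P.eval α = 0) (hα' : (derivative P).eval α ≠ 0) (c : ℕ) :
    ∃ n : ℕ, ∀ Q : A[X], (∀ i, Q.coeff i ∈ IsLocalRing.maximalIdeal A ^ n) →
      ∃ β : A, (P + Q).eval β = 0 ∧ β - α ∈ IsLocalRing.maximalIdeal A ^ c := by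
  classical
  set m := IsLocalRing.maximalIdeal A with hm
  set d := (derivative P).eval α
  have : Ring.DimensionLEOne A := by
    have : Ring.KrullDimLE 1 A := Ring.krullDimLE_iff.2 (by rw [hdim]; simp)
    exact ⟨fun {p} hp hprime => (Ring.krullDimLE_one_iff_of_noZeroDivisors.1 this) p hp hprime⟩
  have hd2 : Ideal.span {d ^ 2} ≠ ⊥ := by simp [hα']
  obtain ⟨k, hk⟩ : ∃ k, m ^ k ≤ Ideal.span {d ^ 2} := by
    apply Ideal.exists_pow_le_of_le_radical_of_fg _ (IsNoetherian.noetherian _)
    rw [Ideal.radical_eq_sInf]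
    refine le_sInf fun p ⟨hp, hprime⟩ => ?_
    have hpmax := hprime.isMaximal (fun h => hd2 (le_bot_iff.1 (h ▸ hp)))
    exact (IsLocalRing.eq_maximalIdeal hpmax).ge
  refine ⟨k + (c + 1), fun Q hQ => ?_⟩
  set R := P + Q with hR
  have hQe : ∀ x, Q.eval x ∈ m ^ (k + (c + 1)) := fun x => by
    rw [eval_eq_sum, sum_def]
    exact sum_mem fun i _ => Ideal.mul_mem_right _ _ (hQ i)
  have hQd : (derivative Q).eval α ∈ m ^ (k + (c + 1)) := by
    rw [eval_eq_sum, sum_def]
    refine sum_mem fun i _ => Ideal.mul_mem_right _ _ ?_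
    rw [coeff_derivative]
    exact Ideal.mul_mem_right _ _ (hQ _)
  have split : ∀ x ∈ m ^ (k + (c + 1)), ∃ y ∈ m ^ (c + 1), x = d ^ 2 * y := by
    intro x hx
    rw [pow_add] at hx
    obtain ⟨y, hy, e⟩ := Ideal.mem_span_singleton_mul.1 (Ideal.mul_mono_left hk hx)
    exact ⟨y, hy, e.symm⟩
  obtain ⟨q, hqm, hq⟩ := split _ (hQe α)
  obtain ⟨q', hq'm, hq'⟩ := split _ hQd
  have hu : IsUnit (1 + d * q') := by
    have : d * q' ∈ IsLocalRing.maximalIdeal A :=
      Ideal.mul_mem_left _ _ (Ideal.pow_le_self (by omega) hq'm)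
    by_contra h
    exact (IsLocalRing.maximalIdeal.isMaximal A).ne_top
      ((Ideal.eq_top_iff_one _).2 (by simpa using sub_mem ((IsLocalRing.mem_maximalIdeal _).2 h) this))
  set T := taylor α R
  obtain ⟨z, hzm, hz⟩ := exists_small_root q _ hu (T.divX.divX.comp (C d * X)) (c + 1) (by omega) hqm
  refine ⟨α + d * z, ?_, ?_⟩
  · have e0 : T.coeff 0 = d ^ 2 * q := by
      rw [taylor_coeff_zero, hR, eval_add, hα, zero_add, hq]
    have e1 : T.coeff 1 = d * (1 + d * q') := by
      rw [taylor_coeff_one, hR, derivative_add, eval_add, hq']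
      ring
    have e2 : T.eval (d * z) =
        (d * z) * ((d * z) * T.divX.divX.eval (d * z) + T.coeff 1) + T.coeff 0 := by
      conv_lhs => rw [← X_mul_divX_add T, ← X_mul_divX_add T.divX]
      rw [show T.coeff 1 = T.divX.coeff 0 by rw [coeff_divX]]
      simp only [eval_add, eval_mul, eval_X, eval_C]
    rw [taylor_eval] at e2
    rw [add_comm α, e2, e0, e1]
    simp only [eval_comp, eval_mul, eval_C, eval_X] at hz
    linear_combination d ^ 2 * hz
  · rw [add_sub_cancel_left]
    exact Ideal.mul_mem_left _ _ (Ideal.pow_le_pow_right (Nat.le_succ c) hzm)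

end Groth.Agent.S1965
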