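import Groth.Statements.S19652
import Groth.Agent.H23.BilinInv

set_option autoImplicit false
universe u v
open AbVar

namespace Groth.Agent.S19652

open Polynomial in
/-- Stated for an arbitrary invariant nondegenerate bilinear form, as the argument there allows. Let k
be a field, V a finite-dimensional k-vector space with a nondegenerate bilinear form B and M a
linear automorphism of V with B(Mx, My) = B(x, y) for all x, y. If Q is a polynomial associated to
its own reciprocal polynomial (its coefficient list reversed), then B restricted to the generalized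
kernel of Q(M), the union of the kernels of the powers Q(M)^n, is nondegenerate. (The published
statement takes M symplectic and Q a self-reciprocal divisor of the characteristic polynomial;
divisibility plays no role and is not assumed.) -/
theorem result
    {k : Type u} [Field k] {V : Type v} [AddCommGroup V] [Module k V] [FiniteDimensional k V]
    (B : LinearMap.BilinForm k V) (hB : B.Nondegenerate) (M : V ≃ₗ[k] V)
    (hM : ∀ x y : V, B (M x) (M y) = B x y)
    (Q : k[X]) (hQ : Associated Q Q.reverse) :
    (B.restrict (⨆ n : ℕ, LinearMap.ker (Polynomial.aeval (M : V →ₗ[k] V) Q ^ n))).Nondegenerate := by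
  let g : Module.End k V := Polynomial.aeval (M : V →ₗ[k] V) Q
  obtain ⟨c, hc⟩ := hQ.symm
  obtain ⟨N, hN⟩ := Filter.eventually_atTop.mp g.eventually_isCompl_ker_pow_range_pow
  obtain ⟨N', hN'⟩ := Filter.eventually_atTop.mp g.eventually_iSup_ker_pow_eq
  let n := max N N'
  have hcompl := hN n (le_max_left _ _)
  have hK : (⨆ m : ℕ, LinearMap.ker (g ^ m)) = LinearMap.ker (g ^ n) := hN' n (le_max_right _ _)
  have orth : ∀ (B' : LinearMap.BilinForm k V), (∀ x y, B' (M x) (M y) = B' x y) →
      ∀ x ∈ LinearMap.ker (g ^ n), ∀ y ∈ LinearMap.range (g ^ n), B' x y = 0 := by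
    rintro B' hB' x hx _ ⟨z, rfl⟩
    have h1 : Polynomial.aeval (M : V →ₗ[k] V) (Q ^ n) x = 0 := by rw [map_pow]; exact hx
    have h2 : (g ^ n) z = Polynomial.aeval (M : V →ₗ[k] V) (Q ^ n).reverse
        (Polynomial.aeval (M : V →ₗ[k] V) ((c : k[X]) ^ n) z) := by
      rw [Groth.Agent.H23.BilinInv.reverse_pow, ← Module.End.mul_apply, ← map_mul, ← mul_pow, hc, map_pow]
    rw [h2]
    exact Groth.Agent.H23.BilinInv.orth_range B' _ hB' _ x _ h1
  have sep : ∀ (B' : LinearMap.BilinForm k V), (∀ x y, B' (M x) (M y) = B' x y) →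
      (∀ x, (∀ y, B' x y = 0) → x = 0) → ∀ x ∈ LinearMap.ker (g ^ n),
        (∀ y ∈ LinearMap.ker (g ^ n), B' x y = 0) → x = 0 := by
    intro B' hB' hnd x hx h
    refine hnd x fun v => ?_
    obtain ⟨a, ha, b, hb, rfl⟩ := Submodule.mem_sup.mp (hcompl.sup_eq_top.symm ▸ Submodule.mem_top (x := v))
    rw [map_add, h a ha, orth B' hB' x hx b hb, add_zero]
  change (B.restrict (⨆ m : ℕ, LinearMap.ker (g ^ m))).Nondegenerate
  rw [hK]
  refine ⟨fun x h => Subtype.ext ?_, fun x h => Subtype.ext ?_⟩
  · exact sep B hM (fun a ha => hB.1 a ha) x.1 x.2 fun y hy => h ⟨y, hy⟩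
  · exact sep B.flip (fun a b => hM b a) (fun a ha => hB.2 a ha) x.1 x.2 fun y hy => h ⟨y, hy⟩


end Groth.Agent.S19652
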