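import Groth.Statements.S19653
import Groth.Agent.ProperAt5.KeyDvr
import Groth.Agent.S3415
import Groth.Agent.Stein5.OneComp
-- import your own Groth.Agent.* helpers here

set_option autoImplicit false
universe u
open AlgebraicGeometry CategoryTheory CategoryTheory.Limits
open EGA43

namespace Groth.Agent.S19653

set_option backward.isDefEq.respectTransparency false
set_option backward.isDefEq.respectTransparency.types false

/-- Let R be a discrete valuation ring and f : X → Spec R a flat, separated morphism of finite type
whose closed fibre is nonempty and proper over the residue field and whose generic fibre is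
geometrically connected. Then f is proper, and its closed fibre is geometrically connected too. (The
published statement does not require the closed fibre to be nonempty; the affine line over the
fraction field, viewed over R, has empty closed fibre and satisfies the other hypotheses without
being proper, and the published proof uses a point of the closed fibre, so nonemptiness is assumed
here.) -/
theorem result
    (R : Type u) [CommRing R] [IsDomain R] [IsDiscreteValuationRing R]
    (X : Scheme.{u}) (f : X ⟶ Spec (CommRingCat.of R))
    [Flat f] [IsSeparated f] [LocallyOfFiniteType f] [QuasiCompact f]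
    [IsProper (f.fiberToSpecResidueField (IsLocalRing.closedPoint R))]
    [Nonempty ↥(f.fiber (IsLocalRing.closedPoint R))]
    [GeometricallyConnected (f.fiberToSpecResidueField (genericPoint ↥(Spec (CommRingCat.of R))))] :
    IsProper f ∧ GeometricallyConnected (f.fiberToSpecResidueField (IsLocalRing.closedPoint R)) := by
  obtain ⟨x₀, hx₀⟩ : ∃ x₀ : X, f x₀ = (IsLocalRing.closedPoint R : PrimeSpectrum R) := by
    obtain ⟨w⟩ := ‹Nonempty ↥(f.fiber (IsLocalRing.closedPoint R))›
    exact ⟨f.fiberι _ w, (f.range_fiberι _).le ⟨w, rfl⟩⟩
  obtain ⟨x, hx, hxf⟩ := (Flat.generalizingMap f) (show ProperAt5.gen R ⤳ f x₀ from ProperAt5.gen_specializes R _)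
  have hgen : genericPoint ↥(Spec (CommRingCat.of R)) = ProperAt5.gen R := (ProperAt5.gen_eq_genericPoint R).symm
  have hη : GeometricallyConnected (f.fiberToSpecResidueField (ProperAt5.gen R)) := hgen ▸ ‹_›
  haveI : IsProper f := ProperAt5.isProper_dvr f ‹_› hη
    ⟨x, x₀, hx, hx₀, fun h => ProperAt5.gen_ne_closedPoint (hxf.symm.trans h)⟩
  refine ⟨inferInstance, ?_⟩
  haveI : LocallyOfFinitePresentation f := inferInstance
  haveI : UniversallyOpen f := inferInstance
  obtain ⟨V, hV, hle⟩ := S3415.result f (IsLocalRing.closedPoint R) fun z _ Y' g' z' _ => by
    haveI : UniversallyOpen (Limits.pullback.snd f g') := MorphismProperty.pullback_snd (P := @UniversallyOpen) _ _ inferInstance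
    exact fun U hU => (Limits.pullback.snd f g').isOpenMap.image_mem_nhds hU
  have h1 := hle _ ((ProperAt5.gen_specializes R (IsLocalRing.closedPoint R)).pure_le_nhds hV)
  rw [Stein5.one_of_geometricallyConnected f (ProperAt5.gen R)] at h1
  exact Stein5.geometricallyConnected_fibre_of_one f _ (le_antisymm h1 (Stein5.one_le_of_nonempty f _ ⟨x₀, hx₀⟩))

end Groth.Agent.S19653
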