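import Groth.Statements.S19655
import Groth.Agent.WeilExt.Dedekind
import Groth.Agent.NeronBasic.Basic

set_option autoImplicit false
universe u
open CategoryTheory CategoryTheory.Limits MonoidalCategory CartesianMonoidalCategory AlgebraicGeometry
open Neron

namespace Groth.Agent.S19655

/-- Let R be a Dedekind domain with fraction field K, A an abelian variety over K (a proper smooth
geometrically connected K-group scheme) and N a Néron model of A over Spec R. Then for every smooth
R-scheme Y, every K-morphism to A defined on a dense open subscheme of the generic fibre of Y is the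
restriction of exactly one R-morphism Y → N: K-rational maps from smooth R-schemes to A extend
uniquely to the Néron model. (The text works over a connected Dedekind scheme; the affine case is
stated.) -/
theorem result
    (R : Type u) [CommRing R] [IsDedekindDomain R]
    (N : Over (Spec (CommRingCat.of R))) (A : Over (Spec (CommRingCat.of (FractionRing R))))
    (e : (Neron.genericFibre R).obj N ≅ A) (hN : Neron.IsNeronModelOf R N A e)
    [GrpObj A] [IsProper A.hom] [Smooth A.hom] [GeometricallyConnected A.hom]
    (Y : Over (Spec (CommRingCat.of R))) [Smooth Y.hom]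
    (W : ((Neron.genericFibre R).obj Y).left.Opens) (hW : Dense (W : Set ↥((Neron.genericFibre R).obj Y).left))
    (g : (W : Scheme.{u}) ⟶ A.left) (hg : g ≫ A.hom = W.ι ≫ ((Neron.genericFibre R).obj Y).hom) :
    ∃! h : Y ⟶ N, W.ι ≫ ((Neron.genericFibre R).map h ≫ e.hom).left = g := by
  have hreg := Groth.Agent.WeilExt.isRegularLocalRing_stalk_spec (R := FractionRing R)
  let X := (Neron.genericFibre R).obj Y
  haveI : Smooth X.hom := inferInstanceAs (Smooth (Limits.pullback.snd Y.hom (Neron.genPt R)))
  obtain ⟨V, hWV, g₁, hg₁, hg₁W, hV⟩ :=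
    Groth.Agent.WeilExt.exists_extension_codimTwo hreg (X := X) (Y := A) W hW g hg
  obtain ⟨k, ⟨hk, hkV⟩, -⟩ := Groth.Agent.WeilExt.existsUnique_extension hreg (X := X) (G := A) V hV
    (Groth.Agent.WeilExt.exists_fibre_generization_of_coheight X.hom V hV) g₁ hg₁
  have hkW : W.ι ≫ k = g := by
    rw [← Scheme.homOfLE_ι X.left hWV, Category.assoc, hkV, hg₁W]
  obtain ⟨h, hh⟩ := (hN.2.2.2.2 Y ‹_›).2 (Over.homMk k hk)
  refine ⟨h, (congrArg (fun m => W.ι ≫ Over.Hom.left m) hh).trans hkW, fun h' hh' => ?_⟩
  haveI := Groth.Agent.WeilExt.isReduced_smooth hreg X.hom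
  haveI : IsDominant W.ι := ⟨by rw [DenseRange, Scheme.Opens.range_ι]; exact hW⟩
  have e1 : ((Neron.genericFibre R).map h' ≫ e.hom).left = k := by
    refine ext_of_isDominant_of_isSeparated A.hom ?_ W.ι (hh'.trans hkW.symm)
    rw [Over.w]; exact hk.symm
  exact (hN.2.2.2.2 Y ‹_›).1 ((Over.OverMorphism.ext e1 : _ = Over.homMk k hk).trans hh.symm)

end Groth.Agent.S19655
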