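import Groth.Statements.S19656
import Groth.Agent.ProperAt5.BaseDvr
import Groth.Agent.ProperAt5.Gen
-- import your own Groth.Agent.* helpers here

set_option autoImplicit false
universe u
open AlgebraicGeometry CategoryTheory CategoryTheory.Limits Topology
open EGA43

namespace Groth.Agent.S19656

set_option backward.isDefEq.respectTransparency false
set_option backward.isDefEq.respectTransparency.types false

/-- Let S be a locally Noetherian scheme and f : X → S a flat, separated morphism of finite type whose
fibres over the maximal points of S (points without proper generization), when nonempty, are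
geometrically connected. If the fibre of f over a point s is nonempty and proper over the residue
field, then f is proper over an open neighbourhood of s. (The text allows an arbitrary base with f
of finite presentation, reducing to the Noetherian case by a limit argument it does not carry out;
the base is taken locally Noetherian here. As in the discrete-valuation-ring case, the fibre over s
must be nonempty: the affine line over the fraction field of a discrete valuation ring has empty,
hence proper, closed fibre and is not proper near the closed point.) -/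
theorem result
    {X S : Scheme.{u}} [IsLocallyNoetherian S] (f : X ⟶ S)
    [Flat f] [IsSeparated f] [LocallyOfFiniteType f] [QuasiCompact f]
    (hgen : ∀ η : S, (∀ η' : S, η' ⤳ η → η' = η) → Nonempty ↥(f.fiber η) →
      GeometricallyConnected (f.fiberToSpecResidueField η))
    (s : S) [Nonempty ↥(f.fiber s)] (hs : IsProper (f.fiberToSpecResidueField s)) :
    ∃ U : S.Opens, s ∈ U ∧ IsProper (f ∣_ U) := by
  refine ProperAt5.exists_isProper_restrict_gen f s fun ξ hξ A _ _ _ g hg σ hσξ hσ => ?_
  have hgη : g (ProperAt5.gen A) = f ξ := by
    rw [← hσξ (⟨⊥, Ideal.isPrime_bot⟩ : PrimeSpectrum (FractionRing A)), ← Scheme.Hom.comp_apply, hσ,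
      Scheme.Hom.comp_apply]
    congr 1
    refine PrimeSpectrum.ext ?_
    show (⊥ : Ideal A) = Ideal.comap (algebraMap A (FractionRing A)) ⊥
    rw [← RingHom.ker_eq_comap_bot, (RingHom.injective_iff_ker_eq_bot _).1 (IsFractionRing.injective A (FractionRing A))]
  have hmax : ∀ η' : S, η' ⤳ f ξ → η' = f ξ := fun η' h => by
    obtain ⟨z, hz, hzf⟩ := (Flat.generalizingMap f) h
    rw [← hzf, hξ z hz]
  obtain ⟨w, hw⟩ : ξ ∈ Set.range (f.fiberι (f ξ)) := by rw [f.range_fiberι]; rfl
  have hη := ProperAt5.geometricallyConnected_fibre_pullback f g _ hgη (hgen _ hmax ⟨w⟩)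
  have hcl := ProperAt5.isProper_fibre_pullback f g _ hg hs
  obtain ⟨x', hx'⟩ : ∃ x' : X, f x' = s := by
    obtain ⟨v⟩ := ‹Nonempty ↥(f.fiber s)›
    exact ⟨f.fiberι _ v, (f.range_fiberι _).le ⟨v, rfl⟩⟩
  obtain ⟨x₀, -, hx₀⟩ := Scheme.Pullback.exists_preimage_pullback (f := f) (g := g) x'
    (IsLocalRing.closedPoint A : PrimeSpectrum A) (hx'.trans hg.symm)
  obtain ⟨x, hx, hxf⟩ := (Flat.generalizingMap (Limits.pullback.snd f g))
    (show ProperAt5.gen A ⤳ Limits.pullback.snd f g x₀ from ProperAt5.gen_specializes A _)
  haveI : IsProper (Limits.pullback.snd f g) := ProperAt5.isProper_dvr (Limits.pullback.snd f g) hcl hη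
    ⟨x, x₀, hx, hx₀, fun h => ProperAt5.gen_ne_closedPoint (hxf.symm.trans h)⟩
  exact ProperAt5.exists_section_of_isProper f g σ hσ

end Groth.Agent.S19656
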