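import Groth.Statements.S19657
import Groth.Agent.S19656
import Groth.Agent.S3415
import Groth.Agent.Stein5.OneComp
import Mathlib
-- import your own Groth.Agent.* helpers here

set_option autoImplicit false
universe u
open AlgebraicGeometry CategoryTheory CategoryTheory.Limits Topology
open EGA43

namespace Groth.Agent.S19657

set_option backward.isDefEq.respectTransparency false
set_option backward.isDefEq.respectTransparency.types false

/-- The implication from the weakest fibrewise condition to the global one. Let S be a locally
Noetherian scheme and f : X → S a surjective, flat, separated morphism, locally of finite
presentation and quasi-compact, whose fibres are all smooth and proper over the residue fields and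
whose fibres over the maximal points of S (points without proper generization) are geometrically
connected. Then f is proper and smooth with geometrically connected fibres. (The text states the
criterion over an arbitrary base, appealing to a limit argument it does not carry out, and without
the words separated and surjective, which its proof uses through the properness criterion it invokes
and which are both needed: an abelian variety over the fraction field of a discrete valuation ring,
viewed over the ring, is flat of finite presentation with smooth proper fibres, the closed one
empty, and is not proper; and two copies of the projective line over a discrete valuation ring glued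
along their generic fibres form a flat, surjective, finitely presented scheme over the ring with
smooth proper fibres and geometrically connected generic fibre which is neither separated nor
proper.) -/
theorem result
    {X S : Scheme.{u}} [IsLocallyNoetherian S] (f : X ⟶ S)
    [Surjective f] [Flat f] [IsSeparated f] [LocallyOfFinitePresentation f] [QuasiCompact f]
    (hsm : ∀ s : S, Smooth (f.fiberToSpecResidueField s))
    (hpr : ∀ s : S, IsProper (f.fiberToSpecResidueField s))
    (hgen : ∀ η : S, (∀ η' : S, η' ⤳ η → η' = η) → GeometricallyConnected (f.fiberToSpecResidueField η)) :
    IsProper f ∧ Smooth f ∧ GeometricallyConnected f := by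
  haveI hne : ∀ s : S, Nonempty ↥(f.fiber s) := fun s => by
    obtain ⟨x, hx⟩ := f.surjective s
    obtain ⟨w, -⟩ : x ∈ Set.range (f.fiberι s) := by rw [f.range_fiberι]; exact hx
    exact ⟨w⟩
  have hU := fun s => S19656.result f (fun η hη _ => hgen η hη) s (hpr s)
  choose U hsU hprop using hU
  haveI : IsProper f := (IsZariskiLocalAtTarget.iff_of_iSup_eq_top (P := @IsProper) U
    (top_le_iff.1 fun s _ => TopologicalSpace.Opens.mem_iSup.2 ⟨s, hsU s⟩)).2 hprop
  refine ⟨inferInstance, Smooth.of_smooth_fiberToSpecResidueField f hsm,
    (GeometricallyConnected.iff_geometricallyConnected_fiber f).2 fun s => ?_⟩
  haveI : UniversallyOpen f := inferInstance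
  obtain ⟨η, hηC, hηm⟩ := FDescent.exists_maximal_of_mem_irreducibleComponents
    (irreducibleComponent_mem_irreducibleComponents s)
  have hηs : η ⤳ s := specializes_iff_mem_closure.2 (hηC.le mem_irreducibleComponent)
  obtain ⟨V, hV, hle⟩ := S3415.result f s fun z _ Y' g' z' _ => by
    haveI : UniversallyOpen (Limits.pullback.snd f g') := MorphismProperty.pullback_snd (P := @UniversallyOpen) _ _ inferInstance
    exact fun U hU => (Limits.pullback.snd f g').isOpenMap.image_mem_nhds hU
  have h1 := hle η (hηs.pure_le_nhds hV)
  haveI := hgen η hηm
  rw [Stein5.one_of_geometricallyConnected f η] at h1
  exact Stein5.geometricallyConnected_fibre_of_one f _ (le_antisymm h1 (Stein5.one_le_of_nonempty f _ (f.surjective s)))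

end Groth.Agent.S19657
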