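import Groth.Statements.S19658
import Groth.Agent.NTors.EtalePow
import Groth.Agent.NTors.Sections

set_option autoImplicit false
universe u
open CategoryTheory CategoryTheory.Limits MonoidalCategory CartesianMonoidalCategory AlgebraicGeometry
open Neron

namespace Groth.Agent.S19658
open scoped MonObj

/-- The first display of the lemma, in the generality its argument gives. Let R be a henselian local
ring with residue field k, G a commutative group scheme over Spec R that is smooth, separated and
quasi-compact, and N a natural number which is a unit in R. Then every k-valued point of G killed by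
N lifts to exactly one R-valued point of G killed by N; that is, reduction G(R)[N] → G(k)[N] is a
bijection on N-torsion. (The text applies this to the Néron model of an abelian variety over a
henselian discrete valuation ring, where G(R) = A(K).) -/
theorem result
    (R : Type u) [CommRing R] [HenselianLocalRing R]
    (G : Over (Spec (CommRingCat.of R))) [GrpObj G] [IsCommMonObj G]
    [Smooth G.hom] [IsSeparated G.hom] [QuasiCompact G.hom]
    (N : ℕ) (hN : IsUnit (N : R))
    (τ : Over.mk (Spec.map (CommRingCat.ofHom (IsLocalRing.residue R))) ⟶ G)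
    (hτ : τ ∈ AbDual.torsPts G N (Over.mk (Spec.map (CommRingCat.ofHom (IsLocalRing.residue R))))) :
    ∃! σ : Over.mk (𝟙 (Spec (CommRingCat.of R))) ⟶ G,
      σ ∈ AbDual.torsPts G N (Over.mk (𝟙 (Spec (CommRingCat.of R)))) ∧
        Over.homMk (Spec.map (CommRingCat.ofHom (IsLocalRing.residue R))) (Category.comp_id _) ≫ σ = τ := by
  let S := Spec (CommRingCat.of R)
  have hres : ∀ s : S, (N : S.residueField s) ≠ 0 := fun s => by
    have h : IsUnit (N : Γ(S, ⊤)) := by
      simpa using hN.map (Scheme.ΓSpecIso (CommRingCat.of R)).inv.hom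
    simpa using (h.map (S.evaluation ⊤ s trivial).hom).ne_zero
  haveI := Groth.Agent.NTors.etale_powMap (G := G) N hres
  let e : 𝟙_ (Over S) ⟶ G := η
  let f := ((𝟙 G : G ⟶ G) ^ N).left
  let p : Limits.pullback f e.left ⟶ S := Limits.pullback.snd f e.left
  haveI : Etale p := inferInstanceAs (Etale (Limits.pullback.snd f e.left))
  have hcond : ∀ {T : Over S} (x : T ⟶ G),
      x ^ N = 1 ↔ x.left ≫ f = T.hom ≫ e.left := by
    intro T x
    have h1 : x ≫ (𝟙 G : G ⟶ G) ^ N = x ^ N := by rw [MonObj.comp_pow, Category.comp_id]
    have h2 : ((1 : T ⟶ G)).left = T.hom ≫ e.left := rfl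
    constructor
    · intro h
      rw [← h2, ← h, ← h1]
      rfl
    · intro h
      rw [← h1]
      exact Over.OverMorphism.ext (h.trans h2.symm)
  let z : Spec (CommRingCat.of (IsLocalRing.ResidueField R)) ⟶ Limits.pullback f e.left :=
    Limits.pullback.lift τ.left (Spec.map (CommRingCat.ofHom (IsLocalRing.residue R))) ((hcond τ).1 hτ)
  obtain ⟨s, ⟨hs, hs'⟩, huniq⟩ := Groth.Agent.NTors.existsUnique_section R p z (Limits.pullback.lift_snd _ _ _)
  have he : e.left ≫ G.hom = 𝟙 S := Over.w e
  have hsf : (s ≫ Limits.pullback.fst f e.left) ≫ f = e.left := by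
    rw [Category.assoc, Limits.pullback.condition, ← Category.assoc]
    exact (congrArg (· ≫ e.left) hs).trans (Category.id_comp _)
  let σ : Over.mk (𝟙 S) ⟶ G := Over.homMk (s ≫ Limits.pullback.fst f e.left) (by
    show (s ≫ Limits.pullback.fst f e.left) ≫ G.hom = 𝟙 _
    have hf : f ≫ G.hom = G.hom := Over.w _
    rw [← hf, ← Category.assoc, hsf, he])
  refine ⟨σ, ⟨(hcond σ).2 (hsf.trans (Category.id_comp _).symm), ?_⟩, fun σ' ⟨hσ't, hσ'τ⟩ => ?_⟩
  · apply Over.OverMorphism.ext
    show Spec.map (CommRingCat.ofHom (IsLocalRing.residue R)) ≫ s ≫ Limits.pullback.fst f e.left = _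
    exact ((Category.assoc _ _ _).symm.trans (congrArg (· ≫ Limits.pullback.fst f e.left) hs')).trans
      (Limits.pullback.lift_fst _ _ _)
  · let s' : S ⟶ Limits.pullback f e.left := Limits.pullback.lift σ'.left (𝟙 S) ((hcond σ').1 hσ't)
    have hs'' : s' = s := by
      refine huniq s' ⟨Limits.pullback.lift_snd _ _ _, ?_⟩
      apply Limits.pullback.hom_ext
      · exact ((Category.assoc _ _ _).trans (congrArg (_ ≫ ·) (Limits.pullback.lift_fst _ _ _))).trans
          ((congrArg CommaMorphism.left hσ'τ).trans (Limits.pullback.lift_fst _ _ _).symm)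
      · exact ((Category.assoc _ _ _).trans (congrArg (_ ≫ ·) (Limits.pullback.lift_snd _ _ _))).trans
          ((Category.comp_id _).trans (Limits.pullback.lift_snd _ _ _).symm)
    apply Over.OverMorphism.ext
    show σ'.left = s ≫ Limits.pullback.fst f e.left
    rw [← hs'']
    exact (Limits.pullback.lift_fst _ _ _).symm

end Groth.Agent.S19658
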