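import Groth.Statements.S19659
import Groth.Agent.S7800
import Groth.Agent.S12442
import Groth.Agent.H23.RigidAb

set_option autoImplicit false
set_option backward.isDefEq.respectTransparency false
set_option backward.isDefEq.respectTransparency.types false
set_option linter.style.haveILetI false
set_option linter.unusedSectionVars false
set_option maxHeartbeats 400000
universe u
open CategoryTheory CategoryTheory.Limits MonoidalCategory CartesianMonoidalCategory MonObj GrpObj AlgebraicGeometry
open AbSch

namespace Groth.Agent.S19659


open CategoryTheory.Limits

/-- Let S be a scheme, A and B abelian schemes over S (proper smooth S-group schemes with geometrically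
connected fibres) and f : A → B a homomorphism. Then f is flat exactly when it is surjective. -/
theorem result
    {S : Scheme.{u}} (A B : Over S) [GrpObj A] [IsProper A.hom] [Smooth A.hom] [GeometricallyConnected A.hom]
    [GrpObj B] [IsProper B.hom] [Smooth B.hom] [GeometricallyConnected B.hom]
    (f : A ⟶ B) [IsMonHom f] :
    Flat f.left ↔ Surjective f.left := by
  constructor
  · intro hf
    haveI := hf
    haveI : LocallyOfFinitePresentation (f.left ≫ B.hom) := by rw [Over.w]; infer_instance
    haveI : LocallyOfFinitePresentation f.left := S12442.locallyOfFinitePresentation_of_comp f.left B.hom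
    haveI : IsProper (f.left ≫ B.hom) := by rw [Over.w]; infer_instance
    haveI : IsProper f.left := IsProper.of_comp f.left B.hom
    refine ⟨fun b => ?_⟩
    have hopen : IsOpen (Set.range f.left) := f.left.isOpenMap.isOpen_range
    have hclosed : IsClosed (Set.range f.left) := f.left.isClosedMap.isClosed_range
    have hunit : B.hom ⁻¹' {B.hom b} ⊆ Set.range f.left := by
      refine (H23.RigidAb.isPreconnected_preimage B.hom (B.hom b)).subset_isClopen ⟨hclosed, hopen⟩
        ⟨η[B].left (B.hom b), ?_, ⟨η[A].left (B.hom b), ?_⟩⟩
      · show B.hom (η[B].left (B.hom b)) = B.hom b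
        rw [← Scheme.Hom.comp_apply, Over.w η[B]]
        rfl
      · rw [← Scheme.Hom.comp_apply, ← Over.comp_left, IsMonHom.one_hom]
    exact hunit rfl
  · intro hf
    haveI := hf
    haveI : GeometricallyReduced B.hom := H23.RigidGamma.geometricallyReduced_of_smooth B.hom
    exact (S7800.result A B f).1

end Groth.Agent.S19659
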