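import Groth.Statements.S1966
import Mathlib

set_option autoImplicit false
universe u
open Polynomial
open EtAlg

namespace Groth.Agent.S1966

/-- Towers indexed by the natural numbers: let (A_k) be rings with surjective transition maps A_{k+1} ->
A_k whose kernels consist of nilpotent elements, and let A be a ring with compatible projections p_k
: A -> A_k identifying A with the set of compatible sequences (p is jointly injective and every
compatible sequence comes from an element of A). Then for every k the pair (A, ker p_k) is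
henselian. -/
theorem result (A : Type u) [CommRing A] (As : ℕ → Type u) [∀ k, CommRing (As k)]
    (t : ∀ k, As (k + 1) →+* As k) (ht : ∀ k, Function.Surjective (t k))
    (hnil : ∀ k (x : As (k + 1)), t k x = 0 → IsNilpotent x)
    (p : ∀ k, A →+* As k) (hp : ∀ k, (t k).comp (p (k + 1)) = p k)
    (hinj : ∀ a b : A, (∀ k, p k a = p k b) → a = b)
    (hsurj : ∀ x : ∀ k, As k, (∀ k, t k (x (k + 1)) = x k) → ∃ a : A, ∀ k, p k a = x k) (k : ℕ) :
    HenselianRing A (RingHom.ker (p k)) := by
  have htp : ∀ n x, t n (p (n + 1) x) = p n x := fun n x => congr($(hp n) x)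
  have hnilp : ∀ x, IsNilpotent (p k x) → ∀ n, IsNilpotent (p n x) := by
    intro x hx n
    obtain hn | hn := le_total n k
    · induction hn using Nat.decreasingInduction with
      | self => exact hx
      | of_succ m _ ih => rw [← htp m x]; exact ih.map (t m)
    · induction n, hn using Nat.le_induction with
      | base => exact hx
      | succ m _ ih =>
        obtain ⟨e, he⟩ := ih
        have h0 : t m (p (m + 1) x ^ e) = 0 := by rw [map_pow, htp, he]
        exact (hnil m _ h0).of_pow
  have hunit : ∀ x, IsUnit (Ideal.Quotient.mk (RingHom.ker (p k)) x) → ∀ n, IsUnit (p n x) := by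
    intro x hx n
    obtain ⟨y, hy⟩ := hx.exists_right_inv
    obtain ⟨y, rfl⟩ := Ideal.Quotient.mk_surjective y
    rw [← map_mul, ← map_one (Ideal.Quotient.mk _), Ideal.Quotient.eq, RingHom.mem_ker] at hy
    have h := IsNilpotent.isUnit_add_one (hnilp (x * y - 1) (by rw [hy]; exact .zero) n)
    rw [← map_one (p n), ← map_add, sub_add_cancel, map_mul] at h
    exact isUnit_of_mul_isUnit_left h
  have lift : ∀ x, (∀ n, IsUnit (p n x)) → IsUnit x := by
    intro x hx
    obtain ⟨y, hy⟩ := hsurj (fun n => ↑(hx n).unit⁻¹) fun n => by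
      refine (IsUnit.mul_right_inj (hx n)).mp ?_
      rw [(hx n).mul_val_inv]
      have h := congr(t n $((hx (n + 1)).mul_val_inv))
      rwa [map_mul, map_one, htp] at h
    exact IsUnit.of_mul_eq_one y (hinj _ _ fun n => by rw [map_mul, map_one, hy, IsUnit.mul_val_inv])
  refine ⟨fun x hx => Ideal.mem_jacobson_bot.mpr fun y => lift _ fun n => ?_, fun f hf a₀ h₀ h₀' => ?_⟩
  · rw [map_add, map_one]
    exact IsNilpotent.isUnit_add_one (hnilp _ (by rw [map_mul, RingHom.mem_ker.mp hx, zero_mul]; exact .zero) n)
  · have ev : ∀ (g : A[X]) n (x : A), aeval (p n x) (g.map (p n)) = p n (g.eval x) := fun g n x => by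
      rw [coe_aeval_eq_eval, eval_map, eval₂_hom]
    have H : ∀ n, ∃! r, IsNilpotent (p n a₀ - r) ∧ aeval r (f.map (p n)) = 0 := fun n =>
      existsUnique_nilpotent_sub_and_aeval_eq_zero
        (by rw [ev]; exact hnilp _ (by rw [RingHom.mem_ker.mp h₀]; exact .zero) n)
        (by rw [derivative_map, ev]; exact hunit _ h₀' n)
    choose r hr huniq using H
    obtain ⟨a, ha⟩ := hsurj r fun n => huniq n _ ⟨by
        simpa [map_sub, htp] using (hr (n + 1)).1.map (t n), by
        have h := congr(t n $((hr (n + 1)).2))
        rw [map_zero, coe_aeval_eq_eval, ← eval₂_hom, ← eval_map, Polynomial.map_map, hp] at h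
        rwa [coe_aeval_eq_eval]⟩
    refine ⟨a, hinj _ _ fun n => ?_, ?_⟩
    · rw [map_zero, ← ev, ha]; exact (hr n).2
    · rw [RingHom.mem_ker, map_sub, ha, sub_eq_zero]
      refine (huniq k _ ⟨by simp, ?_⟩).symm
      rw [ev, RingHom.mem_ker.mp h₀]

end Groth.Agent.S1966
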