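import Groth.Statements.S19660
import Groth.Agent.H23.BilinInv

set_option autoImplicit false
universe u v
open AbVar

namespace Groth.Agent.S19660

/-- The text applies this to the Frobenius acting on the points of prime order of a principally
polarised abelian variety over a finite field with q elements and to their Weil pairing. Let k be a
field, V a finite-dimensional k-vector space with a nondegenerate bilinear form B, q a nonzero
element of k and M a linear automorphism of V with B(Mx, My) = q·B(x, y) for all x, y. Write V₁ and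
V_q for the generalized eigenspaces of M at 1 and at q. Then every vector of V₁ that is B-orthogonal
to all of V_q is zero, every vector of V_q that is B-orthogonal (on the right) to all of V₁ is zero,
and when q ≠ 1 the form B vanishes identically on V₁ × V₁ and on V_q × V_q. (The text asserts this
as the evident adaptation, to a form scaled by q, of the orthogonality and nondegeneracy facts for
generalized kernels of an automorphism preserving a form; the abstract statement is recorded here,
the application to the Weil pairing needing that pairing's formalism.) -/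
theorem result
    {k : Type u} [Field k] {V : Type v} [AddCommGroup V] [Module k V] [FiniteDimensional k V]
    (B : LinearMap.BilinForm k V) (hB : B.Nondegenerate) (q : k) (hq : q ≠ 0)
    (M : V ≃ₗ[k] V) (hM : ∀ x y : V, B (M x) (M y) = q * B x y) :
    (∀ x ∈ Module.End.maxGenEigenspace (M : Module.End k V) 1,
        (∀ y ∈ Module.End.maxGenEigenspace (M : Module.End k V) q, B x y = 0) → x = 0) ∧
      (∀ y ∈ Module.End.maxGenEigenspace (M : Module.End k V) q,
        (∀ x ∈ Module.End.maxGenEigenspace (M : Module.End k V) 1, B x y = 0) → y = 0) ∧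
      (q ≠ 1 → ∀ x ∈ Module.End.maxGenEigenspace (M : Module.End k V) 1,
        ∀ x' ∈ Module.End.maxGenEigenspace (M : Module.End k V) 1, B x x' = 0) ∧
      (q ≠ 1 → ∀ y ∈ Module.End.maxGenEigenspace (M : Module.End k V) q,
        ∀ y' ∈ Module.End.maxGenEigenspace (M : Module.End k V) q, B y y' = 0) := by
  let f : Module.End k V := (M : Module.End k V)
  have hMf : ∀ x y, B (f x) (f y) = q * B x y := hM
  have hMf' : ∀ x y, B.flip (f x) (f y) = q * B.flip x y := fun x y => hM y x
  obtain ⟨N, hN⟩ := Filter.eventually_atTop.mp (f - q • 1).eventually_isCompl_ker_pow_range_pow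
  obtain ⟨N', hN'⟩ := Filter.eventually_atTop.mp (f - (1 : k) • 1).eventually_isCompl_ker_pow_range_pow
  have mem : ∀ (a : k) (x : V), x ∈ f.maxGenEigenspace a ↔ ∃ n : ℕ, ((f - a • 1) ^ n) x = 0 := fun a x =>
    Module.End.mem_maxGenEigenspace _ _ _
  have swap : ∀ (n : ℕ) (y z : V), ((f - q • 1) ^ n) y = 0 → B (((f - (1 : k) • 1) ^ n) z) y = 0 := by
    intro n
    induction n with
    | zero => intro y z hy; simp at hy; simp [hy]
    | succ n ih =>
      intro y z hy
      set w := ((f - (1 : k) • 1) ^ n) z with hw
      have hy1 : ((f - q • 1) ^ n) ((f - q • 1) y) = 0 := by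
        rw [← Module.End.mul_apply, ← pow_succ]; exact hy
      have hfw : f w = ((f - (1 : k) • 1) ^ n) (f z) := by
        have hc : Commute (f - (1 : k) • 1) f := by
          rw [one_smul]; exact (Commute.refl f).sub_left (Commute.one_left f)
        rw [hw, ← Module.End.mul_apply, ← Module.End.mul_apply, (hc.pow_left n).eq]
      have h0 := ih _ (f z) hy1
      rw [← hfw] at h0
      rw [pow_succ', Module.End.mul_apply, ← hw]
      simp only [LinearMap.sub_apply, LinearMap.smul_apply, Module.End.one_apply, one_smul, map_sub,
        map_smul, smul_eq_mul] at h0 ⊢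
      rw [hMf] at h0
      have h1 : q * (B (f w) y - B w y) = 0 := by linear_combination -h0
      exact (mul_eq_zero.mp h1).resolve_left hq
  refine ⟨?_, ?_, ?_, ?_⟩
  · intro x hx h
    obtain ⟨n, hn⟩ := (mem 1 x).mp hx
    refine hB.1 x fun v => ?_
    obtain ⟨a, ha, b, ⟨z, rfl⟩, rfl⟩ := Submodule.mem_sup.mp
      ((hN (max N n) (le_max_left _ _)).sup_eq_top.symm ▸ Submodule.mem_top (x := v))
    rw [map_add, h a ((mem q a).mpr ⟨_, ha⟩),
      Groth.Agent.H23.BilinInv.orth_genEigen_range B f q hMf _ x z
        (Module.End.pow_map_zero_of_le (le_max_right _ _) hn), add_zero]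
  · intro y hy h
    obtain ⟨n, hn⟩ := (mem q y).mp hy
    refine hB.2 y fun v => ?_
    obtain ⟨a, ha, b, ⟨z, rfl⟩, rfl⟩ := Submodule.mem_sup.mp
      ((hN' (max N' n) (le_max_left _ _)).sup_eq_top.symm ▸ Submodule.mem_top (x := v))
    rw [map_add, LinearMap.add_apply, h a ((mem 1 a).mpr ⟨_, ha⟩),
      swap _ y z (Module.End.pow_map_zero_of_le (le_max_right _ _) hn), add_zero]
  · intro h1 x hx x' hx'
    obtain ⟨n, hn⟩ := (mem 1 x).mp hx
    obtain ⟨n', hn'⟩ := (mem 1 x').mp hx'
    exact Groth.Agent.H23.BilinInv.orth_genEigen B f q hMf 1 1 (by rw [one_mul]; exact h1.symm) n n' x x' hn hn'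
  · intro h1 y hy y' hy'
    obtain ⟨n, hn⟩ := (mem q y).mp hy
    obtain ⟨n', hn'⟩ := (mem q y').mp hy'
    refine Groth.Agent.H23.BilinInv.orth_genEigen B f q hMf q q (fun e => h1 ?_) n n' y y' hn hn'
    exact mul_left_cancel₀ hq (e.trans (mul_one q).symm)


end Groth.Agent.S19660
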