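import Groth.Statements.S19661
import Groth.Agent.H23.ModZero
import Groth.Agent.H23.GrassFlag

set_option autoImplicit false
universe u
open CategoryTheory CategoryTheory.Limits AlgebraicGeometry
open Grass

namespace Groth.Agent.S19661

/-- Let `X` be a scheme, `E₁`, `E₂` quasi-coherent `O_X`-modules, `v : E₁ ⟶ E₂` an epimorphism and `e ≥
0`. Let `(G₁, π₁, Q₁, q₁)` be a Grassmannian of rank-`e` locally free quotients of `E₁` over `X` (a
representing scheme with its universal quotient `q₁ : π₁^* E₁ ⟶ Q₁`) and `(G₂, π₂, Q₂, q₂)` one of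
`E₂`. Then the morphism `G₂ ⟶ G₁` over `X` classifying the rank-`e` quotient `π₂^* E₁ ⟶ π₂^* E₂ ⟶
Q₂` of `E₁` (every quotient of `E₂` is a quotient of `E₁`) is a closed immersion. (The base is an
arbitrary scheme and the modules are only assumed quasi-coherent; the form over an affine base with
the Grassmannians given by their points in affine schemes is a separate statement.) -/
theorem result (X G₁ G₂ : Scheme.{u}) (π₁ : G₁ ⟶ X) (π₂ : G₂ ⟶ X)
    (E₁ E₂ : X.Modules) (hE₁ : Coh.IsQCoh E₁) (hE₂ : Coh.IsQCoh E₂) (v : E₁ ⟶ E₂) [Epi v] (e : ℕ)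
    (Q₁ : G₁.Modules) (q₁ : (Scheme.Modules.pullback π₁).obj E₁ ⟶ Q₁) (hG₁ : Grass.IsGrass π₁ E₁ e Q₁ q₁)
    (Q₂ : G₂.Modules) (q₂ : (Scheme.Modules.pullback π₂).obj E₂ ⟶ Q₂) (hG₂ : Grass.IsGrass π₂ E₂ e Q₂ q₂) :
    IsClosedImmersion (hG₁.mapOfEpi hG₂ v) := by
  classical
  haveI := hG₁.epi
  haveI := hG₂.epi
  let φ := (Scheme.Modules.pullback π₁).map (kernel.ι v) ≫ q₁
  obtain ⟨Z, ι, hι, hφ, huniv⟩ := Groth.Agent.H23.ModZero.exists_zeroScheme φ
    (Groth.Agent.QCoh.isQCoh_pullback π₁ (Groth.Agent.QCoh.isQCoh_kernel hE₁ hE₂ v)) hG₁.rank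
  let f := hG₁.mapOfEpi hG₂ v
  have hf : f ≫ π₁ = π₂ := hG₁.mapOfEpi_comp hG₂ v
  obtain ⟨ef, hef⟩ : ∃ ef : (Scheme.Modules.pullback f).obj Q₁ ≅ Q₂,
      Grass.quotBC hf q₁ ≫ ef.hom = (Scheme.Modules.pullback π₂).map v ≫ q₂ :=
    ⟨_, hG₁.quotBC_liftIso π₂ Q₂ hG₂.rank ((Scheme.Modules.pullback π₂).map v ≫ q₂)
      (haveI := Grass.epi_pullback_map π₂ v; epi_comp _ _)⟩
  -- the universal quotient restricted along a map, and kernels
  have hbc : ∀ {T : Scheme.{u}} (a : T ⟶ G₁) (g : T ⟶ X) (ha : a ≫ π₁ = g),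
      (Scheme.Modules.pullback g).map (kernel.ι v) ≫ Grass.quotBC ha q₁ =
        (Scheme.Modules.pullbackCongr ha).inv.app _ ≫ (Scheme.Modules.pullbackComp a π₁).inv.app _ ≫
          (Scheme.Modules.pullback a).map φ := by
    intro T a g ha
    subst ha
    simp [Grass.quotBC, φ, Scheme.Modules.pullbackCongr]
  have hf0 : (Scheme.Modules.pullback f).map φ = 0 := by
    have h1 : (Scheme.Modules.pullback π₂).map (kernel.ι v) ≫ Grass.quotBC hf q₁ = 0 := by
      rw [← cancel_mono ef.hom, Category.assoc, hef, ← Functor.map_comp_assoc, kernel.condition,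
        Functor.map_zero, zero_comp, zero_comp]
    rw [hbc f π₂ hf] at h1
    rwa [← cancel_epi ((Scheme.Modules.pullbackComp f π₁).inv.app _), comp_zero,
      ← cancel_epi ((Scheme.Modules.pullbackCongr hf).inv.app _), comp_zero]
  obtain ⟨f0, hf0'⟩ := huniv f hf0
  -- the inverse map
  let gZ := ι ≫ π₁
  have hcok : IsColimit ((CokernelCofork.ofπ v (kernel.condition v)).map (Scheme.Modules.pullback gZ)) := by
    haveI : PreservesColimitsOfSize.{0, 0} (Scheme.Modules.pullback gZ) :=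
      (Scheme.Modules.pullbackPushforwardAdjunction gZ).leftAdjoint_preservesColimits
    exact CokernelCofork.mapIsColimit _ (Abelian.epiIsCokernelOfKernel _ (kernelIsKernel v)) _
  have hkill : (Scheme.Modules.pullback gZ).map (kernel.ι v) ≫ Grass.quotBC (rfl : ι ≫ π₁ = gZ) q₁ = 0 := by
    rw [hbc ι gZ rfl, hφ, comp_zero, comp_zero]
  obtain ⟨s, hs⟩ := CokernelCofork.IsColimit.desc' hcok _ hkill
  replace hs : (Scheme.Modules.pullback gZ).map v ≫ s = Grass.quotBC (rfl : ι ≫ π₁ = gZ) q₁ := hs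
  have hse : Epi s := by
    haveI := Groth.Agent.H23.GrassFlag.epi_quotBC (rfl : ι ≫ π₁ = gZ) q₁
    haveI : Epi ((Scheme.Modules.pullback gZ).map v ≫ s) := by rw [hs]; infer_instance
    exact epi_of_epi ((Scheme.Modules.pullback gZ).map v) s
  have hLZ := Groth.Agent.H23.GrassFlag.rank_pullback ι hG₁.rank
  let g := hG₂.lift gZ _ hLZ s hse
  have hg : g ≫ π₂ = gZ := hG₂.lift_comp gZ _ hLZ s hse
  obtain ⟨eg, heg⟩ : ∃ eg : (Scheme.Modules.pullback g).obj Q₂ ≅ (Scheme.Modules.pullback ι).obj Q₁,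
      Grass.quotBC hg q₂ ≫ eg.hom = s := ⟨_, hG₂.quotBC_liftIso gZ _ hLZ s hse⟩
  -- base change of `v ≫ q₂`
  have hvq : ∀ {T : Scheme.{u}} (a : T ⟶ G₂) (g' : T ⟶ X) (ha : a ≫ π₂ = g'),
      Grass.quotBC ha ((Scheme.Modules.pullback π₂).map v ≫ q₂) =
        (Scheme.Modules.pullback g').map v ≫ Grass.quotBC ha q₂ := by
    intro T a g' ha
    subst ha
    simp [Grass.quotBC, Scheme.Modules.pullbackCongr]
  -- the classified quotient of a composite with `f`
  have hcomp : ∀ {T : Scheme.{u}} (a : T ⟶ G₂) (g' : T ⟶ X) (ha : a ≫ π₂ = g'),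
      ∃ (h : (a ≫ f) ≫ π₁ = g') (e : (Scheme.Modules.pullback (a ≫ f)).obj Q₁ ≅ (Scheme.Modules.pullback a).obj Q₂),
        Grass.quotBC h q₁ ≫ e.hom = (Scheme.Modules.pullback g').map v ≫ Grass.quotBC ha q₂ := by
    intro T a g' ha
    have h : (a ≫ f) ≫ π₁ = g' := by rw [Category.assoc, hf, ha]
    refine ⟨h, (Scheme.Modules.pullbackComp a f).symm.app Q₁ ≪≫ (Scheme.Modules.pullback a).mapIso ef, ?_⟩
    rw [← hvq a g' ha, ← hef, ← Groth.Agent.H23.GrassFlag.quotBC_quotBC hf (rfl : a ≫ f = a ≫ f) h ha q₁ ef.hom]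
    simp [Grass.quotBC, Scheme.Modules.pullbackCongr]
  have hgf : g ≫ f = ι := by
    obtain ⟨h, e, he⟩ := hcomp g gZ hg
    refine (hG₁.lift_unique gZ _ hLZ (Grass.quotBC (rfl : ι ≫ π₁ = gZ) q₁)
      (Groth.Agent.H23.GrassFlag.epi_quotBC (rfl : ι ≫ π₁ = gZ) q₁) (g ≫ f) h (e ≪≫ eg) ?_).trans
      (hG₁.lift_unique gZ _ hLZ (Grass.quotBC (rfl : ι ≫ π₁ = gZ) q₁)
        (Groth.Agent.H23.GrassFlag.epi_quotBC (rfl : ι ≫ π₁ = gZ) q₁) ι rfl (Iso.refl _) (Category.comp_id _)).symm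
    rw [Iso.trans_hom, ← Category.assoc, he, Category.assoc, heg, hs]
  have hfg : f0 ≫ g = 𝟙 G₂ := by
    have ha : (f0 ≫ g) ≫ π₂ = π₂ := by rw [Category.assoc, hg, ← Category.assoc, hf0', hf]
    have haf : (f0 ≫ g) ≫ f = f := by rw [Category.assoc, hgf, hf0']
    obtain ⟨h, e, he⟩ := hcomp (f0 ≫ g) π₂ ha
    obtain ⟨h₁, e₁, he₁⟩ := hcomp (𝟙 G₂) π₂ (Category.id_comp _)
    have key : ∀ (a b : G₂ ⟶ G₁) (_ : a = b) (h : a ≫ π₁ = π₂) (h' : b ≫ π₁ = π₂),
        ∃ t : (Scheme.Modules.pullback a).obj Q₁ ≅ (Scheme.Modules.pullback b).obj Q₁,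
          Grass.quotBC h q₁ ≫ t.hom = Grass.quotBC h' q₁ := by
      rintro a _ rfl h h'
      exact ⟨Iso.refl _, Category.comp_id _⟩
    obtain ⟨t, ht⟩ := key _ _ (haf.trans (Category.id_comp f).symm) h h₁
    haveI := Grass.epi_pullback_map π₂ v
    have hL := Groth.Agent.H23.GrassFlag.rank_pullback (𝟙 G₂) hG₂.rank
    have hepi := Groth.Agent.H23.GrassFlag.epi_quotBC (Category.id_comp π₂) q₂
    refine (hG₂.lift_unique π₂ _ hL (Grass.quotBC (Category.id_comp π₂) q₂) hepi (f0 ≫ g) ha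
      (e.symm ≪≫ t ≪≫ e₁) ?_).trans
      (hG₂.lift_unique π₂ _ hL (Grass.quotBC (Category.id_comp π₂) q₂) hepi (𝟙 G₂) (Category.id_comp _) (Iso.refl _)
        (Category.comp_id _)).symm
    rw [← cancel_epi ((Scheme.Modules.pullback π₂).map v), ← Category.assoc, ← he, Iso.trans_hom, Iso.trans_hom,
      Iso.symm_hom, Category.assoc, Iso.hom_inv_id_assoc, ← Category.assoc, ht, he₁]
  haveI : IsIso f0 := ⟨g, hfg, by
    haveI : Mono ι := inferInstance
    rw [← cancel_mono ι, Category.assoc, hf0', hgf, Category.id_comp]⟩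
  show IsClosedImmersion f
  rw [← hf0']
  infer_instance

end Groth.Agent.S19661
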