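import Groth.Statements.S19666
import Groth.Agent.H23.GrassExist.FlagGeom
-- import your own Groth.Agent.* helpers here

set_option autoImplicit false
universe u
open CategoryTheory CategoryTheory.Limits AlgebraicGeometry
open Grass

namespace Groth.Agent.S19666

/-- For a chain of quotients and an initial segment of it, let `X` be a scheme, `E` a finite locally
free `O_X`-module of rank `N`, `n : Fin m → ℕ` strictly decreasing with `1 ≤ n i < N` for all `i`,
and `k ≤ m`. Let `(F, π, Q, q)` be the partial flag scheme of `E` of type `n` (universal nested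
locally free quotients of ranks `n i`, index `0` the largest) and `(F₀, π₀, Q₀, q₀)` the partial
flag scheme of the truncated type `(n 0, …, n (k-1))`. Then the morphism `F ⟶ F₀` over `X`
classifying the first `k` universal quotients of `F` is smooth of relative dimension `Σ_{i ≥ k} n(i)
(n(i-1) - n(i))`, where `n(-1) := N`, proper and surjective. (The source takes the base of finite
type over a field; the base is an arbitrary scheme here. The published statement also says the
morphism is projective; this row asserts only that it is proper. The case `k = 0`, where `F₀ = X`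
and the morphism is `π` itself, is the assertion that `π : F ⟶ X` is smooth of relative dimension
`Σ_i n(i) (n(i-1) - n(i))`, proper and surjective.) -/
theorem result (X F F₀ : Scheme.{u})
    (π : F ⟶ X) (π₀ : F₀ ⟶ X) (E : X.Modules)
    (N : ℕ) (hE : FlatMod.IsFinLocFreeOfRank N E) (m : ℕ) (n : Fin m → ℕ) (hn : StrictAnti n)
    (h1 : ∀ i, 1 ≤ n i) (hN : ∀ i, n i < N) (k : ℕ) (hk : k ≤ m)
    (Q : Fin m → F.Modules) (q : ∀ i, (Scheme.Modules.pullback π).obj E ⟶ Q i) (hF : Grass.IsFlag π E n Q q)
    (Q₀ : Fin k → F₀.Modules) (q₀ : ∀ i, (Scheme.Modules.pullback π₀).obj E ⟶ Q₀ i)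
    (hF₀ : Grass.IsFlag π₀ E (fun i => n (Fin.castLE hk i)) Q₀ q₀) :
    SmoothOfRelativeDimension
        (∑ i : Fin m, if k ≤ (i : ℕ) then n i * ((Fin.cons N n : Fin (m + 1) → ℕ) (Fin.castSucc i) - n i) else 0)
        (hF₀.lift π (fun i => Q (Fin.castLE hk i)) (fun i => hF.rank (Fin.castLE hk i)) (fun i => q (Fin.castLE hk i))
        (fun i => hF.epi (Fin.castLE hk i))
        (fun i j hij => hF.nested (Fin.castLE hk i) (Fin.castLE hk j) ((Fin.castLE_le_castLE_iff hk).mpr hij))) ∧
      IsProper (hF₀.lift π (fun i => Q (Fin.castLE hk i)) (fun i => hF.rank (Fin.castLE hk i)) (fun i => q (Fin.castLE hk i))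
        (fun i => hF.epi (Fin.castLE hk i))
        (fun i j hij => hF.nested (Fin.castLE hk i) (Fin.castLE hk j) ((Fin.castLE_le_castLE_iff hk).mpr hij))) ∧
      Surjective (hF₀.lift π (fun i => Q (Fin.castLE hk i)) (fun i => hF.rank (Fin.castLE hk i)) (fun i => q (Fin.castLE hk i))
        (fun i => hF.epi (Fin.castLE hk i))
        (fun i j hij => hF.nested (Fin.castLE hk i) (Fin.castLE hk j) ((Fin.castLE_le_castLE_iff hk).mpr hij))) := by
  obtain ⟨a, ha, e, he, hsm, hpr, hsu, -⟩ := Groth.Agent.H23.GrassExist.FlagGeom.lift_props hE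
    (Groth.Agent.H23.GrassExist.FlagGeom.ranks_le hn hN) hk hF hF₀
  have h : a = hF₀.lift π (fun i => Q (Fin.castLE hk i)) (fun i => hF.rank (Fin.castLE hk i)) (fun i => q (Fin.castLE hk i))
      (fun i => hF.epi (Fin.castLE hk i))
      (fun i j hij => hF.nested (Fin.castLE hk i) (Fin.castLE hk j) ((Fin.castLE_le_castLE_iff hk).mpr hij)) :=
    hF₀.lift_unique π _ _ _ _ _ a ha e he
  subst h
  exact ⟨hsm, hpr, hsu⟩

end Groth.Agent.S19666
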