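import Groth.Statements.S19668
import Groth.Agent.S11483
import Groth.Agent.Lib.CurveEnd

set_option autoImplicit false
universe u
open CategoryTheory CategoryTheory.Limits AlgebraicGeometry
open Curves

namespace Groth.Agent.S19668

theorem exists_root_sub_not_isUnit {k A : Type*} [Field k] [IsAlgClosed k] [Ring A] [Algebra k A] [Nontrivial A]
    (f : A) (p : Polynomial k) (hp : p.Monic) (hpf : Polynomial.aeval f p = 0) :
    ∃ a : k, ¬ IsUnit (f - algebraMap k A a) := by
  by_contra h
  push Not at h
  have hspl : p = (p.roots.map fun a => Polynomial.X - Polynomial.C a).prod :=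
    (IsAlgClosed.splits p).eq_prod_roots_of_monic hp
  have key : ∀ s : Multiset k, IsUnit (Polynomial.aeval f (s.map fun a => Polynomial.X - Polynomial.C a).prod) := by
    intro s
    induction s using Multiset.induction_on with
    | empty => simp
    | cons a s ih =>
      rw [Multiset.map_cons, Multiset.prod_cons, map_mul]
      refine IsUnit.mul ?_ ih
      simpa using h a
  have := key p.roots
  rw [← hspl, hpf] at this
  exact not_isUnit_zero this



/-- Stable bundles are simple. Let X be a nonsingular projective curve over an algebraically closed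
field k (smooth, proper, integral, of dimension one) and E a locally free sheaf of rank r on X which
is stable: every locally free subsheaf G of rank s with 0 < s < r has deg G · r < deg E · s (degrees
computed as χ − rank·χ(O_X)). Then every endomorphism φ of E is a scalar multiple of the identity, φ
= a · 𝟙_E for some a ∈ k, where k acts on Hom_{O_X}(E, E) through the structure morphism X → Spec k
(a acts as composition with multiplication by a on E). -/
theorem result (k : Type u) [Field k] [IsAlgClosed k] (X : Scheme.{u})
    [X.Over (Spec (CommRingCat.of k))] (hX : Curve.IsSmoothProperCurve k X (X ↘ Spec (CommRingCat.of k))) (r : ℕ)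
    (E : X.Modules) (hE : FlatMod.IsFinLocFreeOfRank r E)
    (hst : ∀ (G : X.Modules) (s : ℕ) (ι : G ⟶ E), Mono ι → FlatMod.IsFinLocFreeOfRank s G → 0 < s → s < r →
      Curv2.deg k X G s * (r : ℤ) < Curv2.deg k X E r * (s : ℤ))
    (φ : E ⟶ E) : ∃ a : k, φ = a • 𝟙 E := by
  have hX' := hX
  obtain ⟨hp, hs, hi, hdim⟩ := hX
  haveI := hp; haveI := hs; haveI := hi
  by_cases h1 : (𝟙 E : E ⟶ E) = 0
  · exact ⟨0, by rw [zero_smul, ← Category.comp_id φ, h1, comp_zero]⟩
  haveI : Nontrivial (End E) := ⟨⟨1, 0, h1⟩⟩
  letI := CurveEnd.kAlgebra (k := k) E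
  obtain ⟨p, hpm, hpf⟩ := CurveEnd.exists_aeval_eq_zero (k := k) E r hE φ
  obtain ⟨a, ha⟩ := exists_root_sub_not_isUnit (k := k) (A := End E) φ p hpm hpf
  refine ⟨a, ?_⟩
  let c : E ⟶ E := algebraMap k (End E) a
  have hsm : c = a • 𝟙 E := by
    rw [KLin.smul_id]
    rfl
  by_contra hne
  apply ha
  rw [isUnit_iff_isIso]
  exact S11483.result k X hX' r E hE hst (φ - c) fun h0 => hne ((sub_eq_zero.1 h0).trans hsm)

end Groth.Agent.S19668
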