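import Groth.Statements.S1967
import Groth.Agent.WEtLib.Normal
-- import your own Groth.Agent.* helpers here

set_option autoImplicit false
universe u
open TensorProduct
open EtAlg

namespace Groth.Agent.S1967

/-- If A is an integrally closed domain with fraction field K and B is weakly etale over A, then every
element of B ⊗_A K that is integral over B (via b ↦ b ⊗ 1) already comes from B. -/
theorem result (A : Type u) [CommRing A] [IsDomain A] [IsIntegrallyClosed A]
    (K : Type u) [Field K] [Algebra A K] [IsFractionRing A K] (B : Type u) [CommRing B] [Algebra A B]
    [Algebra.WeaklyEtale A B] :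
    IsIntegrallyClosedIn B (B ⊗[A] K) := WEtLib.isIntegrallyClosedIn_tensor K B

end Groth.Agent.S1967
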