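import Groth.Statements.S19673
import Groth.Agent.Synt29.SerreMain

set_option autoImplicit false
set_option linter.style.haveILetI false
set_option backward.isDefEq.respectTransparency false
set_option backward.isDefEq.respectTransparency.types false
set_option maxHeartbeats 1000000
universe u
open CategoryTheory CategoryTheory.Limits AlgebraicGeometry
open AdjLin

namespace Groth.Agent.S19673

/-- Let k be an algebraically closed field of characteristic zero and X a smooth projective surface over
k (irreducible, proper, smooth of dimension 2, with an ample invertible module); let M be an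
invertible O_X-module and Z ⊆ X a finite set of closed points, viewed as a reduced finite subscheme
with ideal sheaf I_Z (the vanishing ideal of the closed set Z), regarded as an O_X-module. Then the
following are equivalent: (a) there is a short exact sequence 0 → M → F → I_Z → 0 of O_X-modules
with F finite locally free (an extension class of I_Z by M whose middle term is a vector bundle; in
the source the extensions are of L ⊗ I_Z by O_X, here tensored with M = L⁻¹); (b) for every proper
subset Z' of Z, the empty one included, with vanishing ideal I_{Z'} ⊇ I_Z and φ : I_Z → I_{Z'} the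
inclusion (the map commuting with the two inclusions into O_X), the map Ext¹(I_{Z'}, M) → Ext¹(I_Z,
M) given by precomposition with φ is not surjective. Ext groups are taken in the category of all
O_X-modules (the Ext instance is the stated hypothesis; it holds). -/
theorem result (k : Type u) [Field k]
    [IsAlgClosed k] [CharZero k]
    (X : Scheme.{u}) [X.Over (Spec (CommRingCat.of k))] [IsProper (X ↘ (Spec (CommRingCat.of k)))]
    [Smooth (X ↘ (Spec (CommRingCat.of k)))] [IrreducibleSpace X] (hdim : topologicalKrullDim X = 2)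
    (H : X.Modules) (hH : CohB1.IsAmple H)
    (M : X.Modules) (hM : PicF.IsInvertible M)
    (Z : Finset X) (hZc : IsClosed ((Z : Set X))) (hZ : ∀ z ∈ Z, IsClosed ({z} : Set X))
    [HasExt.{u} X.Modules] :
    (∃ (F : X.Modules) (a : M ⟶ F)
        (b : F ⟶ ClSub.idealMod (Scheme.IdealSheafData.vanishingIdeal ⟨(Z : Set X), hZc⟩)) (w : a ≫ b = 0),
        (ShortComplex.mk a b w).ShortExact ∧ FlatMod.IsFinLocFree F) ↔
      ∀ (Z' : Finset X) (hZ'c : IsClosed ((Z' : Set X))), Z' ⊂ Z →
        ∀ φ : ClSub.idealMod (Scheme.IdealSheafData.vanishingIdeal ⟨(Z : Set X), hZc⟩) ⟶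
            ClSub.idealMod (Scheme.IdealSheafData.vanishingIdeal ⟨(Z' : Set X), hZ'c⟩),
          φ ≫ ClSub.idealModι (Scheme.IdealSheafData.vanishingIdeal ⟨(Z' : Set X), hZ'c⟩) =
              ClSub.idealModι (Scheme.IdealSheafData.vanishingIdeal ⟨(Z : Set X), hZc⟩) →
            ¬ Function.Surjective ((Abelian.Ext.mk₀ φ).precomp M (zero_add 1)) := by
  classical
  open Groth.Agent Groth.Agent.Synt29 Groth.Agent.Synt29.SerreMain in
  haveI : IsNoetherian X := CurveCohLib.isNoetherian_of_proper (k := k)
  haveI : IsIntegral X := CurveCohLib.isIntegral_of_smooth_connected (X ↘ Spec (CommRingCat.of k))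
  have hMl := H23.PullPush.isFinLocFree_of_isInvertible hM
  have hO : PicF.IsInvertible (Coh.structureModule X) := InvX.isInvertible_structureModule
  let I := Scheme.IdealSheafData.vanishingIdeal ⟨(Z : Set X), hZc⟩
  have hsupp : (I.support : Set X) = Z := Scheme.IdealSheafData.coe_support_vanishingIdeal ..
  haveI : Mono (ClSub.idealModι I) := inferInstanceAs (Mono (kernel.ι _))
  have hI := NormalLib.isCoh_idealMod I
  refine ⟨fun ⟨F, a, b, w, hS, hF⟩ Z' hZ'c hsub φ hφ => ?_, fun h => ?_⟩
  · haveI : Mono (ClSub.idealModι (Scheme.IdealSheafData.vanishingIdeal ⟨(Z' : Set X), hZ'c⟩)) :=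
      inferInstanceAs (Mono (kernel.ι _))
    haveI : Mono φ := mono_of_mono_fac hφ
    obtain ⟨z, hz, hz'⟩ := Finset.exists_of_ssubset hsub
    refine SerreCore.not_surjective_of_lf (k := k) hdim hMl (H23.PullPush.isFinLocFree_of_isInvertible hO)
      (NormalLib.isCoh_idealMod _) φ hφ (fun hiso => hz' ?_) (fun x hx => ?_) ⟨F, a, b, w, hS, hF⟩
    · haveI := hiso
      have he := H23.StalkIdeal.ext_sI (I := Scheme.IdealSheafData.vanishingIdeal ⟨(Z' : Set X), hZ'c⟩) (J := I) fun y => by
        refine le_antisymm ?_ ?_ <;> refine (SerreIdeal.smul_top_le_iff hO).1 ?_ <;>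
          rw [← SerreIdeal.isTwist_idealModι _ y, ← SerreIdeal.isTwist_idealModι _ y]
        · exact SerreIdeal.range_le_of_comp ((IsIso.inv_comp_eq φ).2 hφ.symm) y
        · exact SerreIdeal.range_le_of_comp hφ y
      have h' : (Z' : Set X) = Z := by
        have := congrArg (fun J : X.IdealSheafData => (J.support : Set X)) he
        rwa [Scheme.IdealSheafData.coe_support_vanishingIdeal, hsupp] at this
      rw [← Finset.mem_coe, h']
      exact hz
    · by_contra hxc
      refine hx (not_not.1 fun hns => ?_)
      have hxZ : x ∉ Z := fun h => hxc (hZ x h)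
      refine SurfRankOne.notMem_support_cokernel φ (fun n' => ?_) hns
      have h1 : ((DerSch.stalkFunctor X x).map (ClSub.idealModι
          (Scheme.IdealSheafData.vanishingIdeal ⟨(Z' : Set X), hZ'c⟩))).hom n' ∈
          LinearMap.range ((DerSch.stalkFunctor X x).map (ClSub.idealModι I)).hom := by
        rw [SerreIdeal.isTwist_idealModι I x, sI_vanishing_notMem hZc hxZ, Submodule.top_smul]
        trivial
      obtain ⟨n, hn⟩ := h1
      refine ⟨n, CurveCohLib.stalk_injective (ClSub.idealModι _) x ?_⟩
      rw [← hn, ← hφ, Functor.map_comp]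
      rfl
  · refine (SerreCore.existsLF_iff (k := k) hdim hO hI (hsupp.symm ▸ Z.finite_toSet)
      (SerreIdeal.isTwist_idealModι I) (fun z hz => ⟨1, SerreSocle.isSocleGen_vanishing Z hZc hZ (hsupp ▸ hz :)⟩)
      hMl).2 fun I' hI' j hj hsur => ?_
    obtain ⟨z, hz, rfl⟩ := (covBy_vanishing_iff Z hZc hZ).1 hI'
    let I' := Scheme.IdealSheafData.vanishingIdeal ⟨((Z.erase z : Finset X) : Set X), isClosed_erase Z hZ z⟩
    haveI : Mono (ClSub.idealModι I') := inferInstanceAs (Mono (kernel.ι _))
    obtain ⟨φ, hφ⟩ := (SerreIdeal.le_iff_factor hO (SerreIdeal.isTwist_idealModι I)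
      (SerreIdeal.isTwist_idealModι I')).1 hI'.1.le
    obtain ⟨-, hmono, htw⟩ := SerreCore.tw_facts (k := k) hO I'
    haveI := hmono
    obtain ⟨g, hg⟩ := (SerreIdeal.le_iff_factor hO (SerreIdeal.isTwist_idealModι I') htw).1 le_rfl
    have hjg : j = φ ≫ g := by rw [← cancel_mono (SerreCore.twι (Coh.structureModule X) I'), hj, Category.assoc, hg, hφ]
    refine h (Z.erase z) _ (Finset.erase_ssubset hz) φ hφ fun x => ?_
    obtain ⟨y, hy⟩ := hsur x
    refine ⟨(Abelian.Ext.mk₀ g).comp y (zero_add 1), ?_⟩
    show (Abelian.Ext.mk₀ φ).comp ((Abelian.Ext.mk₀ g).comp y (zero_add 1)) (zero_add 1) = x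
    rw [Abelian.Ext.mk₀_comp_mk₀_assoc, ← hjg]
    exact hy

end Groth.Agent.S19673
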