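import Groth.Statements.S19679
import Groth.Agent.BalLib.Descent
-- import your own Groth.Agent.* helpers here

set_option autoImplicit false
universe u
open CategoryTheory MonoidalCategory CartesianMonoidalCategory MonObj AlgebraicGeometry
open ChGrp

namespace Groth.Agent.S19679

/-- Let k be an algebraically closed field of characteristic zero, G and H affine group schemes of
finite type over k (algebraic groups) with i : H → G a homomorphism which is a closed immersion, and
Z a reduced affine k-scheme of finite type (an affine variety) with an action of H. Let Y, with its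
G-action and j : G × Z → Y, be the balanced product G ×^H Z for the fppf topology: j is
G-equivariant for left translation on the first factor, it is a torsor for the twisted H-action
h·(g, z) = (g i(h)⁻¹, h·z), and it has sections fppf-locally on Y. If π_Z : Z → P is a categorical
quotient of Z by H and π_Y : Y → Q a categorical quotient of Y by G, then the projection G × Z → Z
induces an isomorphism Q ≅ P, inverse to the morphism induced by the H-invariant map z ↦ π_Y(j(e,
z)): there are mutually inverse φ : P → Q and χ : Q → P with π_Z followed by φ equal to z ↦ π_Y(j(e,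
z)) and j followed by π_Y and χ equal to the projection followed by π_Z (so Y//G ≅ Z//H). (The
source assumes G and H reductive and defines G ×^H Z as the quotient (G × Z)//H, a principal
H-bundle; here the quotients are part of the data, the balanced product is taken in its torsor form,
and reductivity is not needed.) -/
theorem result
    (k : Type u) [Field k] [IsAlgClosed k] [CharZero k]
    (G H Z Y P Q : Over (Spec (CommRingCat.of k))) [GrpObj G] [GrpObj H]
    [IsAffine G.left] [LocallyOfFiniteType G.hom] [IsAffine H.left] [LocallyOfFiniteType H.hom]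
    (i : H ⟶ G) [IsMonHom i] [IsClosedImmersion i.left]
    [IsAffine Z.left] [LocallyOfFiniteType Z.hom] [IsReduced Z.left]
    (aZ : AlgGrp.Action H Z) (aY : AlgGrp.Action G Y) (j : G ⊗ Z ⟶ Y)
    (hY : ChGrp.IsBalProd Scheme.fppfPrecoverage i aZ aY j)
    (πZ : Z ⟶ P) (hP : GIT.IsCatQuot aZ πZ) (πY : Y ⟶ Q) (hQ : GIT.IsCatQuot aY πY) :
    ∃ (φ : P ⟶ Q) (χ : Q ⟶ P), φ ≫ χ = 𝟙 P ∧ χ ≫ φ = 𝟙 Q ∧
      πZ ≫ φ = lift (toUnit Z ≫ η[G]) (𝟙 Z) ≫ j ≫ πY ∧ j ≫ πY ≫ χ = snd G Z ≫ πZ := by
  obtain ⟨heq, hpb, hloc⟩ := hY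
  have hj := BalLib.hasLocSec_of_isLocallyTrivialFor j hloc
  let e : Z ⟶ Y := lift (toUnit Z ≫ η[G]) (𝟙 Z) ≫ j
  have hequiv : ∀ (T : Over (Spec (CommRingCat.of k))) (g g' : T ⟶ G) (z : T ⟶ Z),
      lift (g * g') z ≫ j = lift g (lift g' z ≫ j) ≫ aY.act := by
    intro T g g' z
    have h := congrArg (lift g (lift g' z) ≫ ·) heq
    simp only [← Category.assoc, lift_whiskerLeft] at h
    rw [AlgGrp.Action.lift_prod_act, AlgGrp.Action.lift_trivial_act] at h
    rw [← h]
    congr 2
  have he : ∀ (T : Over (Spec (CommRingCat.of k))) (z : T ⟶ Z), z ≫ e = lift (1 : T ⟶ G) z ≫ j := by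
    intro T z
    simp only [e, comp_lift_assoc, Category.comp_id]
    rw [← Category.assoc, toUnit_unique (z ≫ toUnit Z) (toUnit T), ← Hom.one_def]
  have heq' : e = lift (toUnit Z ≫ η[G]) (𝟙 Z) ≫ j := rfl
  clear_value e
  have htwist : ∀ (T : Over (Spec (CommRingCat.of k))) (h : T ⟶ H) (g : T ⟶ G) (z : T ⟶ Z),
      lift (g * (h ≫ i)⁻¹) (lift h z ≫ aZ.act) ≫ j = lift g z ≫ j := by
    intro T h g z
    have h' := congrArg (lift h (lift g z) ≫ ·) hpb.w
    simp only [← Category.assoc, lift_snd] at h'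
    rwa [ChGrp.lift_twist_act] at h'
  have hπY : ∀ (T : Over (Spec (CommRingCat.of k))) (g : T ⟶ G) (y : T ⟶ Y),
      (lift g y ≫ aY.act) ≫ πY = y ≫ πY := by
    intro T g y
    rw [Category.assoc, hQ.1, ← Category.assoc, lift_snd]
  have hinvZ : GIT.IsInvariant aZ (e ≫ πY) := by
    apply AlgGrp.Action.hom_ext_lift₂
    intro T h z
    rw [← Category.assoc, ← Category.assoc, ← Category.assoc, ← Category.assoc, lift_snd, he, he,
      show lift (1 : T ⟶ G) (lift h z ≫ aZ.act) ≫ j = lift (h ≫ i) z ≫ j by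
        rw [← htwist T h (h ≫ i) z, mul_inv_cancel],
      show lift (h ≫ i) z ≫ j = lift (h ≫ i) (lift (1 : T ⟶ G) z ≫ j) ≫ aY.act by
        rw [← hequiv, _root_.mul_one],
      hπY]
  obtain ⟨φ, hφ, -⟩ := hP.2 Q (e ≫ πY) hinvZ
  obtain ⟨χ₀, hχ₀, -⟩ := hj.existsUnique_desc (snd G Z ≫ πZ) (fun T a b hab => by
    let c := hpb.lift a b hab
    have h1 : c ≫ (ChGrp.twist i aZ).act = a := hpb.lift_fst a b hab
    have h2 : c ≫ snd H (G ⊗ Z) = b := hpb.lift_snd a b hab
    rw [← h1, ← h2]
    have hc : c = lift (c ≫ fst H (G ⊗ Z)) (lift (c ≫ snd H (G ⊗ Z) ≫ fst G Z) (c ≫ snd H (G ⊗ Z) ≫ snd G Z)) := by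
      ext <;> simp
    rw [hc, ChGrp.lift_twist_act, lift_snd]
    simp only [lift_snd_assoc]
    rw [Category.assoc, hP.1, lift_snd_assoc])
  have hinvY : GIT.IsInvariant aY χ₀ := by
    refine (hj.whiskerLeft G).hom_ext (AlgGrp.Action.hom_ext_lift₂ fun T g u => ?_)
    have hu : u = lift (u ≫ fst G Z) (u ≫ snd G Z) := by ext <;> simp
    rw [← Category.assoc, ← Category.assoc, lift_whiskerLeft, ← Category.assoc, ← Category.assoc,
      lift_whiskerLeft, lift_snd, hu, ← hequiv, Category.assoc, hχ₀, Category.assoc, hχ₀,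
      ← Category.assoc, lift_snd, ← Category.assoc, lift_snd]
  obtain ⟨χ, hχ, -⟩ := hQ.2 P χ₀ hinvY
  have hjχ : j ≫ πY ≫ χ = snd G Z ≫ πZ := by rw [hχ, hχ₀]
  refine ⟨φ, χ, ?_, ?_, by rw [hφ, heq', Category.assoc], hjχ⟩
  · obtain ⟨m, -, huniq⟩ := hP.2 P πZ hP.1
    refine (huniq (φ ≫ χ) ?_).trans (huniq (𝟙 P) (Category.comp_id _)).symm
    show πZ ≫ φ ≫ χ = πZ
    rw [← Category.assoc, hφ]
    simp only [heq', Category.assoc]
    rw [hjχ, ← Category.assoc, lift_snd, Category.id_comp]
  · obtain ⟨m, -, huniq⟩ := hQ.2 Q πY hQ.1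
    refine (huniq (χ ≫ φ) ?_).trans (huniq (𝟙 Q) (Category.comp_id _)).symm
    show πY ≫ χ ≫ φ = πY
    refine hj.hom_ext (AlgGrp.Action.hom_ext_lift₂ fun T g z => ?_)
    rw [← Category.assoc πY, ← Category.assoc j, hjχ]
    simp only [Category.assoc]
    rw [hφ, ← Category.assoc (lift g z) (snd G Z), lift_snd, ← Category.assoc z, he,
      show lift g z ≫ j ≫ πY = (lift g (lift (1 : T ⟶ G) z ≫ j) ≫ aY.act) ≫ πY by
        rw [← hequiv, _root_.mul_one, Category.assoc],
      hπY]

end Groth.Agent.S19679
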