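import Groth.Statements.S1968
import Groth.Agent.WEtLib.Domain
import Mathlib.Algebra.Group.Pi.Units

set_option autoImplicit false
universe u
open EtAlg

namespace Groth.Agent.S1968

/-- Let (A_j) be a family of valuation rings with fraction fields K_j. Then every ideal of the product
ring Π A_j is a flat Π A_j-module (that is, Π A_j has weak dimension at most 1), and Π K_j is the
localization of Π A_j at its non-zero-divisors. -/
theorem result {J : Type u} (A : J → Type u) [∀ j, CommRing (A j)] [∀ j, IsDomain (A j)]
    [∀ j, ValuationRing (A j)] (K : J → Type u) [∀ j, Field (K j)] [∀ j, Algebra (A j) (K j)]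
    [∀ j, IsFractionRing (A j) (K j)] :
    (∀ I : Ideal (∀ j, A j), Module.Flat (∀ j, A j) I) ∧
      IsLocalization (nonZeroDivisors (∀ j, A j)) (∀ j, K j) := by
  classical
  refine ⟨fun I => Groth.Agent.WEtLib.GCDSplit.flat_submodule (Groth.Agent.WEtLib.gcdSplit_pi A) I, ?_⟩
  have hnz : ∀ y : nonZeroDivisors (∀ j, A j), ∀ j, (y : ∀ j, A j) j ≠ 0 := fun y j h => by
    have h1 : Pi.single j (1 : A j) * (y : ∀ j, A j) = 0 := funext fun i => by
      by_cases hi : i = j
      · subst hi; simp [h]
      · simp [hi]
    have h2 := congrFun ((mem_nonZeroDivisors_iff_right.mp y.2) _ h1) j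
    simp at h2
  constructor
  refine ⟨fun y => ?_, fun z => ?_, fun {a b} h => ?_⟩
  · rw [Pi.isUnit_iff]
    exact fun j => ((map_ne_zero_iff _ (IsFractionRing.injective (A j) (K j))).mpr (hnz y j)).isUnit
  · choose x hx using fun j => IsLocalization.surj (nonZeroDivisors (A j)) (z j)
    refine ⟨⟨fun j => (x j).1, ⟨fun j => ((x j).2 : A j), mem_nonZeroDivisors_iff_right.mpr fun w hw => funext fun j =>
      (mem_nonZeroDivisors_iff_right.mp (x j).2.2) _ (congrFun hw j)⟩⟩, funext hx⟩
  · refine ⟨1, ?_⟩
    rw [OneMemClass.coe_one, one_mul, one_mul]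
    exact funext fun j => IsFractionRing.injective (A j) (K j) (congrFun h j)


end Groth.Agent.S1968
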