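import Groth.Statements.S19683
import Groth.Agent.BiextLib.Divisible

set_option autoImplicit false
universe u
open CategoryTheory CategoryTheory.Limits MonoidalCategory CartesianMonoidalCategory MonObj AlgebraicGeometry
open AbSch

namespace Groth.Agent.S19683

/-- Let S be a scheme, P, Q and G commutative S-group schemes with P and Q divisible (multiplication by
every non-zero integer is an epimorphism of their sheaves of points on the big fppf site), and n, m
non-zero integers. Then the pull-back map on isomorphism classes of biextensions of (P, Q) by G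
along (n, m) : P × Q → P × Q has trivial kernel: if B is a biextension of (P, Q) by G on the big
fppf site of all S-schemes, B' a biextension of (P, Q) by G with a morphism of biextensions B' → B
lying over multiplication by n on P, multiplication by m on Q and the identity of G (so that B' is
the inverse image of B by (n, m)), and B' is trivial, then B is trivial. -/
theorem result {S : Scheme.{u}} (P Q G : Over S)
    [GrpObj P] [IsCommMonObj P] [GrpObj Q] [IsCommMonObj Q] [GrpObj G] [IsCommMonObj G]
    (hP : ∀ k : ℤ, k ≠ 0 → Epi (k • 𝟙 (CGrpSh.pts Scheme.fppfPrecoverage P)))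
    (hQ : ∀ k : ℤ, k ≠ 0 → Epi (k • 𝟙 (CGrpSh.pts Scheme.fppfPrecoverage Q)))
    (n m : ℤ) (hn : n ≠ 0) (hm : m ≠ 0)
    (B B' : Biext (QuotSh.J Scheme.fppfPrecoverage S) (CGrpSh.pts Scheme.fppfPrecoverage P) (CGrpSh.pts Scheme.fppfPrecoverage Q) (CGrpSh.pts Scheme.fppfPrecoverage G))
    (φ : Biext.HomOver (QuotSh.J Scheme.fppfPrecoverage S) (n • 𝟙 (CGrpSh.pts Scheme.fppfPrecoverage P)) (m • 𝟙 (CGrpSh.pts Scheme.fppfPrecoverage Q)) (𝟙 (CGrpSh.pts Scheme.fppfPrecoverage G)) B' B)
    (hB' : Biext.IsTrivial (QuotSh.J Scheme.fppfPrecoverage S) B') :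
    Biext.IsTrivial (QuotSh.J Scheme.fppfPrecoverage S) B := by
  exact Groth.Agent.BiextLib.isTrivial_of_divisible (hP n hn) (hP m hm) (hQ n hn) (hQ m hm) φ hB'

end Groth.Agent.S19683
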