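import Groth.Statements.S1969
import Mathlib
-- import your own Groth.Agent.* helpers here

set_option autoImplicit false
universe u
open EtAlg

namespace Groth.Agent.S1969

/-- For a commutative ring A these are equivalent — all ideals are flat A-modules; all finitely
generated ideals are flat; flatness passes to submodules of flat modules; each localization at a
prime is a valuation ring (in particular a domain). Condition (1), weak dimension at most one, is
not stated. -/
theorem result (A : Type u) [CommRing A] :
    List.TFAE [∀ I : Ideal A, Module.Flat A I,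
      ∀ I : Ideal A, I.FG → Module.Flat A I,
      ∀ (M : Type u) [AddCommGroup M] [Module A M], Module.Flat A M → ∀ N : Submodule A M, Module.Flat A N,
      ∀ (p : Ideal A) [p.IsPrime], ∃ _ : IsDomain (Localization.AtPrime p), ValuationRing (Localization.AtPrime p)] := by
  have key : ∀ (R : Type u) [CommRing R] [IsLocalRing R], (∀ J : Ideal R, J.FG → Module.Flat R J) →
      ∃ _ : IsDomain R, ValuationRing R := by
    intro R _ _ h
    have hg : ∀ J : Ideal R, J.FG → J ≠ ⊥ →
        ∃ g : R, J = Ideal.span {g} ∧ ∀ x : R, x * g = 0 → x = 0 := by
      intro J hJ hne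
      haveI := h J hJ
      haveI : Module.Finite R J := Module.Finite.iff_fg.2 hJ
      haveI := Module.free_of_flat_of_isLocalRing (R := R) (P := J)
      let b := Module.Free.chooseBasis R J
      haveI : Nontrivial J := Submodule.nontrivial_iff_ne_bot.2 hne
      haveI : Subsingleton (Module.Free.ChooseBasisIndex R J) := ⟨fun i j => by
        by_contra hij
        have h1 : ((b j : J) : R) • b i = ((b i : J) : R) • b j := Subtype.ext (mul_comm _ _)
        have h2 := congrArg (fun z => b.repr z i) h1
        simp [Ne.symm hij] at h2
        exact b.ne_zero j h2⟩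
      obtain ⟨i⟩ := b.index_nonempty
      refine ⟨(b i : R), le_antisymm (fun x hx => ?_) ((Ideal.span_singleton_le_iff_mem _).2 (b i).2), fun x hx => ?_⟩
      · refine Ideal.mem_span_singleton'.2 ⟨b.repr ⟨x, hx⟩ i, ?_⟩
        have h1 := b.sum_repr ⟨x, hx⟩
        rw [Fintype.sum_subsingleton _ i] at h1
        exact congrArg Subtype.val h1
      · have h1 := congrArg (fun z => b.repr z i) (show x • b i = (0 : J) from Subtype.ext hx)
        simpa using h1
    haveI : NoZeroDivisors R := ⟨fun {a c} hac => by
      by_contra hh
      push Not at hh
      obtain ⟨g, hg1, hg2⟩ := hg (Ideal.span {a}) (Submodule.fg_span_singleton a)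
        (by simpa [Ideal.span_singleton_eq_bot] using hh.1)
      obtain ⟨v, hv⟩ := Ideal.mem_span_singleton'.1 (hg1.symm ▸ Ideal.mem_span_singleton_self g : g ∈ Ideal.span {a})
      exact hh.2 (hg2 c (by rw [← hv, mul_left_comm, mul_comm c a, hac, mul_zero]))⟩
    haveI : IsDomain R := NoZeroDivisors.to_isDomain R
    haveI : IsBezout R := ⟨fun J hJ => by
      by_cases hne : J = ⊥
      · subst hne; exact ⟨0, by simp⟩
      · obtain ⟨g, rfl, -⟩ := hg J hJ hne
        exact ⟨g, rfl⟩⟩
    exact ⟨inferInstance, ValuationRing.iff_local_bezout_domain.2 ⟨inferInstance, inferInstance⟩⟩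
  tfae_have 1 → 2 := fun h I _ => h I
  tfae_have 3 → 1 := fun h I => h A inferInstance I
  tfae_have 2 → 4 := by
    intro h p _
    refine key (Localization.AtPrime p) fun J hJ => ?_
    classical
    obtain ⟨T, hT⟩ := hJ
    choose z hz using fun t : Localization.AtPrime p => IsLocalization.surj p.primeCompl t
    let I : Ideal A := Ideal.span (T.image fun t => (z t).1 : Set A)
    have hI : I.map (algebraMap A (Localization.AtPrime p)) = J := by
      rw [← hT, Ideal.map_span, Finset.coe_image, ← Set.image_comp]
      apply le_antisymm <;> refine Ideal.span_le.2 ?_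
      · rintro _ ⟨t, ht, rfl⟩
        show algebraMap _ _ (z t).1 ∈ _
        rw [← hz t]
        exact Ideal.mul_mem_right _ _ (Ideal.subset_span ht)
      · intro t ht
        refine (Ideal.mul_unit_mem_iff_mem _ (IsLocalization.map_units _ (z t).2)).1 ?_
        rw [hz t]
        exact Ideal.subset_span ⟨t, ht, rfl⟩
    haveI := h I ⟨_, rfl⟩
    subst hI
    exact Module.Flat.of_isLocalizedModule (Localization.AtPrime p) p.primeCompl
      (Algebra.idealMap (S := Localization.AtPrime p) I)
  tfae_have 4 → 3 := by
    intro h M _ _ hM N
    refine Module.flat_of_localized_maximal _ fun P _ => ?_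
    obtain ⟨_, hv⟩ := h P
    haveI := hv
    haveI : Module.Flat (Localization.AtPrime P) (LocalizedModule P.primeCompl M) :=
      Module.Flat.of_isLocalizedModule (Localization.AtPrime P) P.primeCompl (LocalizedModule.mkLinearMap _ M)
    let j : LocalizedModule P.primeCompl N →ₗ[Localization.AtPrime P] LocalizedModule P.primeCompl M :=
      LocalizedModule.map P.primeCompl N.subtype
    have hj : Function.Injective j := LocalizedModule.map_injective _ _ N.subtype_injective
    haveI : Module.IsTorsionFree (Localization.AtPrime P) (LocalizedModule P.primeCompl N) :=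
      hj.moduleIsTorsionFree j fun r x => map_smul j r x
    haveI : Module.Flat (Localization.AtPrime P) (LocalizedModule P.primeCompl N) := by
      rw [Module.Flat.flat_iff_torsion_eq_bot_of_isBezout, ← Submodule.isTorsionFree_iff_torsion_eq_bot]
      infer_instance
    exact (Module.flat_iff_of_isLocalization (Localization.AtPrime P) P.primeCompl _).1 inferInstance
  tfae_finish

end Groth.Agent.S1969
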