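import Groth.Statements.S19691
import Groth.Agent.H9Misc.MotiveTz

set_option autoImplicit false
universe u
open CategoryTheory CategoryTheory.Limits MonoidalCategory CartesianMonoidalCategory MonObj AlgebraicGeometry
open OneMot

namespace Groth.Agent.S19691

/-- Let k be an algebraically closed field of characteristic zero, M and N 1-motives over k, and f a
morphism of 1-motives from M to N. If for every integer m ≥ 1 the homomorphism induced by f on the
torsion realizations of level m, computed on k-points, is bijective, then f is an isomorphism: its
components on the lattices and on the semi-abelian group schemes are isomorphisms. (The source
states this for the realization in the inverse limit over all m; bijectivity at every finite level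
implies bijectivity on the limit. In positive characteristic the statement fails, the Frobenius of
the multiplicative group being bijective on all these realizations.) -/
theorem result (k : Type u) [Field k] [IsAlgClosed k] [CharZero k]
    (M N : OneMot.Motive (Spec (CommRingCat.of k))) (f : OneMot.Motive.Hom M N)
    (h : ∀ m : ℕ, 1 ≤ m → Function.Bijective (OneMot.tzMap m (Over.mk (𝟙 (Spec (CommRingCat.of k)))) f)) :
    f.IsIso := by
  exact H9Misc.MotiveTz.hom_isIso f h

end Groth.Agent.S19691
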