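import Groth.Statements.S19695
import Groth.Agent.H23.DblAlg
-- import your own Groth.Agent.* helpers here

set_option autoImplicit false
universe u
open CategoryTheory CategoryTheory.Limits AlgebraicGeometry Opposite
open FinCov

namespace Groth.Agent.S19695

/-- Let X be a scheme, A a quasi-coherent O_X-algebra which is locally free of rank d as an O_X-module,
and τ : A → O_X its trace (the O_X-linear map which over every affine open where A is finite free is
the trace of the regular representation). Then the structure map O_X → A followed by τ equals
multiplication by d on O_X. -/
theorem result {X : Scheme.{u}} (A : RelSpec.QCAlg X) (d : ℕ)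
    (hA : FlatMod.IsFinLocFreeOfRank d A.toModule)
    (τ : A.toModule ⟶ Coh.structureModule X) (hτ : FinCov.IsTrace A τ) :
    FinCov.strMod A ≫ τ = d • 𝟙 (Coh.structureModule X) := by
  
  exact Groth.Agent.H23.DblAlg.strMod_comp_trace hA hτ

end Groth.Agent.S19695
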