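import Groth.Statements.S19697
import Groth.Agent.H23.DblBuild
-- import your own Groth.Agent.* helpers here

set_option autoImplicit false
universe u
open CategoryTheory CategoryTheory.Limits AlgebraicGeometry Opposite
open FinCov

namespace Groth.Agent.S19697

/-- Let X be a scheme, L an invertible O_X-module and m : L ⊗ L → O_X a homomorphism of O_X-modules.
Then there are a quasi-coherent O_X-algebra A and an O_X-linear map j : L → A presenting A as the
algebra O_X ⊕ L with product (s, l)·(s', l') = (ss' + m(l ⊗ l'), sl' + s'l): over every open subset
U of X, every section of A is uniquely of the form s·1 + j(l) with s a function and l a section of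
L, and j(l)·j(l') = m(l ⊗ l')·1. (The classification of double covers is stated for schemes on which
2 is invertible; this construction does not use that assumption, so it is not made here.) -/
theorem result {X : Scheme.{u}} (L : X.Modules) (hL : PicF.IsInvertible L)
    (m : CohB1.tensorMod L L ⟶ Coh.structureModule X) :
    ∃ (A : RelSpec.QCAlg X) (j : L ⟶ A.toModule), FinCov.IsDblAlg L m A j := by
  
  exact Groth.Agent.H23.DblBuild.exists_dblAlg hL m

end Groth.Agent.S19697
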