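import Groth.Statements.S19698
import Groth.Agent.H23.DblAlg
-- import your own Groth.Agent.* helpers here

set_option autoImplicit false
universe u
open CategoryTheory CategoryTheory.Limits AlgebraicGeometry Opposite
open FinCov

namespace Groth.Agent.S19698

/-- Let X be a scheme, L an invertible O_X-module, m : L ⊗ L → O_X a homomorphism of O_X-modules, and
(A, j : L → A) a quasi-coherent O_X-algebra presented as O_X ⊕ L with product given by m (over every
open, every section of A is uniquely s·1 + j(l), and j(l)·j(l') = m(l ⊗ l')·1). Then A is locally
free of rank 2 as an O_X-module. (The classification of double covers is stated for schemes on which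
2 is invertible; this assertion does not use that assumption, so it is not made here.) -/
theorem result {X : Scheme.{u}} (L : X.Modules) (hL : PicF.IsInvertible L)
    (m : CohB1.tensorMod L L ⟶ Coh.structureModule X) (A : RelSpec.QCAlg X) (j : L ⟶ A.toModule)
    (h : FinCov.IsDblAlg L m A j) : FlatMod.IsFinLocFreeOfRank 2 A.toModule := by
  
  exact Groth.Agent.H23.DblAlg.isFinLocFreeOfRank_two h hL

end Groth.Agent.S19698
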