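import Groth.Statements.S19701
import Groth.Agent.S7810
import Groth.Agent.H23.CoverPush
import Groth.Agent.CurveCohLib.SmoothCurve
import Groth.Agent.CurveCohLib.Proper
import Groth.Agent.Lib.CurveRR
import Groth.Agent.PnCoh.PushNat
import Groth.Agent.InvX.Frame

set_option autoImplicit false
set_option backward.isDefEq.respectTransparency false
set_option backward.isDefEq.respectTransparency.types false
set_option maxHeartbeats 1000000
universe u
open CategoryTheory CategoryTheory.Limits AlgebraicGeometry Opposite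
open Curves

namespace Groth.Agent.S19701

open Opposite

/-- The trace of a double cover is surjective when two is invertible. -/
theorem epi_trace {X Y : Scheme.{u}} (h : X ⟶ Y) (hc : H23.CoverPush.Crit h 2)
    (h2 : ∀ U : Y.Opens, IsUnit (2 : Γ(Y, U)))
    (τ : (Scheme.Modules.pushforward h).obj (Coh.structureModule X) ⟶ Coh.structureModule Y)
    (hτ : FinCov.IsTraceHom h τ) : Epi τ := by
  refine Preadditive.epi_of_cancel_zero _ fun {G} g hg => ?_
  refine Scheme.Modules.hom_ext _ _ fun W => ?_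
  ext (a : Γ(Y, W))
  show g.app W a = 0
  refine QCoh.eq_zero_of_locally W _ fun y hy => ?_
  obtain ⟨U, hU, hyU, ⟨l⟩⟩ := hc y
  letI := H23.CoverPush.alg h U
  haveI : Nontrivial Γ(Y, U) := (Y.presheaf.germ U y hyU).hom.domain_nontrivial
  haveI : Module.Free Γ(Y, U) Γ(X, h ⁻¹ᵁ U) := Module.Free.of_equiv l.symm
  haveI : Module.Finite Γ(Y, U) Γ(X, h ⁻¹ᵁ U) := Module.Finite.equiv l.symm
  obtain ⟨v, hv⟩ := (h2 U).exists_left_inv
  have ht : τ.app U (algebraMap Γ(Y, U) Γ(X, h ⁻¹ᵁ U) v) = (1 : Γ(Y, U)) := by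
    refine (hτ U hU inferInstance inferInstance _).trans ?_
    rw [Algebra.trace_algebraMap, l.finrank_eq, Module.finrank_finsupp_self, Fintype.card_ulift, Fintype.card_fin,
      nsmul_eq_mul, Nat.cast_ofNat, mul_comm]
    exact hv
  refine ⟨W ⊓ U, homOfLE inf_le_left, ⟨hy, hyU⟩, ?_⟩
  refine ((AModX.app_res g (inf_le_left : W ⊓ U ≤ W) a).symm).trans ?_
  rw [InvX.app_eq_smul g]
  have h1 : g.app U (1 : Γ(Y, U)) = 0 := by
    rw [← ht]
    exact congrArg (fun φ => Scheme.Modules.Hom.app φ U (algebraMap Γ(Y, U) Γ(X, h ⁻¹ᵁ U) v)) hg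
  have h2' : AModX.res G (le_top : W ⊓ U ≤ ⊤) (InvX.one g) = 0 := by
    rw [InvX.one, ← AModX.app_res g (le_top : W ⊓ U ≤ ⊤)]
    refine Eq.trans ?_ ((AModX.app_res g (inf_le_right : W ⊓ U ≤ U) (1 : Γ(Y, U))).trans
      ((congrArg _ h1).trans (map_zero _)))
    exact congrArg (g.app (W ⊓ U)) ((map_one (Y.presheaf.map _).hom).trans (map_one (Y.presheaf.map _).hom).symm)
  rw [h2', smul_zero]

/-- Let k be an algebraically closed field of characteristic different from 2 and X a hyperelliptic
curve of genus g over k: X → Spec k is smooth and proper, X is connected of dimension one with g =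
dim_k H¹(X, O_X) ≥ 2, and h : X → P¹_k is a k-morphism which is a double cover (finite, flat,
locally of finite presentation, of rank 2 at every point). Let τ : h_*O_X → O_{P¹} be the trace of h
(the O-linear map which over every affine open of P¹_k where h_*O_X is finite free is the trace of
the regular representation). Then the kernel of τ — an invertible sheaf on P¹_k — has degree −g − 1,
the degree of a rank-one sheaf E on P¹_k being χ(E) − χ(O). (On P¹_k this says that ker τ is
isomorphic to O(−g − 1); only the degree is asserted here.) -/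
theorem result (k : Type u) [Field k] [IsAlgClosed k]
    (h2 : (2 : k) ≠ 0) {X : Scheme.{u}} (p : X ⟶ Spec (CommRingCat.of k)) [IsProper p] [Smooth p]
    [ConnectedSpace ↥X] (hX : topologicalKrullDim ↥X = 1) (hg : 2 ≤ @Curv2.genus k _ X ⟨p⟩)
    (h : X ⟶ CohB1.ProjSpace 1 k) (hh : h ≫ CohB1.ProjSpace.toSpec 1 k = p)
    [IsFinite h] [Flat h] [LocallyOfFinitePresentation h]
    (hr : ∀ y : ↥(CohB1.ProjSpace 1 k), h.finrank y = 2)
    (τ : (Scheme.Modules.pushforward h).obj (Coh.structureModule X) ⟶ Coh.structureModule (CohB1.ProjSpace 1 k))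
    (hτ : FinCov.IsTraceHom h τ) :
    @Curv2.deg k _ (CohB1.ProjSpace 1 k) ⟨CohB1.ProjSpace.toSpec 1 k⟩ (kernel τ) 1 =
      -((@Curv2.genus k _ X ⟨p⟩ : ℤ) + 1) := by
  letI : X.Over (Spec (CommRingCat.of k)) := ⟨p⟩
  let P := CohB1.ProjSpace 1 k
  letI : P.Over (Spec (CommRingCat.of k)) := ⟨CohB1.ProjSpace.toSpec 1 k⟩
  haveI : IsIntegral P := H23.PnChart.isIntegral_projSpace 1 k
  haveI : IsProper (P ↘ Spec (CommRingCat.of k)) := PnCoh.Chow.isProper_toSpec 1 k
  haveI : IsProper (X ↘ Spec (CommRingCat.of k)) := ‹IsProper p›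
  haveI : Smooth (X ↘ Spec (CommRingCat.of k)) := ‹Smooth p›
  haveI := CurveCohLib.isNoetherian_of_proper (k := k) (X := P)
  haveI := CurveCohLib.isNoetherian_of_proper (k := k) (X := X)
  haveI : IsIntegral X := CurveCohLib.isIntegral_of_smooth_connected p
  have hcov : FinCov.IsCover h 2 := ⟨⟨inferInstance, inferInstance, inferInstance⟩, hr⟩
  have hcrit := H23.CoverPush.crit_of_isFinLocFreeOfRank_push h (H23.CoverPush.isFinLocFreeOfRank_push_of_isCover h hcov)
  have h2U : ∀ U : P.Opens, IsUnit (2 : Γ(P, U)) := fun U => by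
    have := (isUnit_iff_ne_zero.2 h2).map ((Coh.resTop P (op U)).comp (Coh.toGlobal (P ↘ Spec (CommRingCat.of k))))
    rwa [map_ofNat] at this
  haveI := epi_trace h hcrit h2U τ hτ
  have hO : Coh.IsCoh (Coh.structureModule P) := QCoh.isCoh_structureModule'
  have hP : Coh.IsCoh ((Scheme.Modules.pushforward h).obj (Coh.structureModule X)) :=
    QCoh.isCoh_pushforward_finite h QCoh.isCoh_structureModule'
  have hS : (ShortComplex.mk (kernel.ι τ) τ (kernel.condition τ)).ShortExact :=
    .mk' (ShortComplex.exact_of_f_is_kernel _ (kernelIsKernel τ)) inferInstance inferInstance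
  have hK : Coh.IsCoh (kernel τ) := QCoh.isCoh_of_mono (kernel.ι τ) hP (QCoh.isQCoh_kernel hP.1 hO.1 τ)
  have hadd := CurveCohLib.euler_additive (k := k) hS hK hP hO
  have hpush : Curv2.euler k P ((Scheme.Modules.pushforward h).obj (Coh.structureModule X)) =
      Curv2.euler k X (Coh.structureModule X) := by
    refine (finsum_congr fun n => ?_).symm
    obtain ⟨l⟩ := PnCoh.exists_linearEquiv_push k h hh (M := Coh.structureModule X) QCoh.isCoh_structureModule'.1 n
    rw [l.finrank_eq]
  obtain ⟨hP0, hPg⟩ := S7810.projLine_facts k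
  have hdP : topologicalKrullDim ↥P = 1 := by simpa using S10829.result k 1
  have hχP : Curv2.euler k P (Coh.structureModule P) = 1 := by
    rw [CurveRR.euler_eq_h0_sub_h1 k hdP.le hO.1, hP0]
    rw [show Module.finrank k (Coh.HH P (Coh.structureModule P) 1) = 0 from hPg]
    norm_num
  have hX0 := CurveCohLib.finrank_h0_eq_one k X
  have hχX : Curv2.euler k X (Coh.structureModule X) = 1 - (Curv2.genus k X : ℤ) := by
    rw [CurveRR.euler_eq_h0_sub_h1 k hX.le QCoh.isCoh_structureModule'.1, hX0]
    rfl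
  unfold Curv2.deg
  rw [hpush, hχP, hχX] at hadd
  rw [hχP]
  push_cast
  linarith

end Groth.Agent.S19701
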