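import Groth.Statements.S19704
import Groth.Agent.AGF20Lib.AntiAffineParts
import Groth.Agent.GrpSchLib.AntiAffineBC
import Groth.Agent.GrpSchLib.HomSplitLocal
import Groth.Agent.SolvGrp.Fibre
import Groth.Agent.NQF.Main
import Groth.Agent.S18071
-- import your own Groth.Agent.* helpers here

set_option autoImplicit false
set_option backward.isDefEq.respectTransparency false
set_option backward.isDefEq.respectTransparency.types false
set_option synthInstance.maxHeartbeats 400000
set_option linter.style.haveILetI false
set_option backward.isDefEq.respectTransparency.types false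
set_option maxHeartbeats 1000000
universe u
open CategoryTheory MonoidalCategory CartesianMonoidalCategory MonObj GrpObj AlgebraicGeometry CategoryTheory.Limits
open AlgGrp

open CategoryTheory.Limits
open scoped CategoryTheory.Obj

namespace Groth.Agent.S19704

/-- Let k be a field of characteristic 0 and G a connected commutative algebraic group over k whose
largest connected affine algebraic subgroup G_aff = N is the direct product T × U of a torus T and a
connected unipotent (vector) group U: homomorphisms t : T → N and u : U → N with multiplication T ×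
U → N an isomorphism. Let q_s : G → G_s = G/U and q_u : G → G_u = G/T be flat surjective
homomorphisms of k-group schemes of finite type with kernels U and T. Then O(G) = k (G is
anti-affine) exactly when both quotients G_s = G/U and G_u = G/T have only constant global
functions, O(G_s) = k and O(G_u) = k. Here k is any field of characteristic 0, not necessarily
algebraically closed. -/
theorem result (k : Type u) [Field k] [CharZero k]
    (G : Over (Spec (CommRingCat.of k))) [GrpObj G] [Smooth G.hom] [QuasiCompact G.hom] [ConnectedSpace ↥G.left] [IsCommMonObj G]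
    (N : Over (Spec (CommRingCat.of k))) [GrpObj N] (i : N ⟶ G) [IsMonHom i] [IsClosedImmersion i.left]
    [Smooth N.hom] [ConnectedSpace ↥N.left] [IsAffine N.left] (hN : AlgGrp.IsNormalHom i)
    (hNmax : ∀ (N' : Over (Spec (CommRingCat.of k))) [GrpObj N'] (i' : N' ⟶ G) [IsMonHom i'] [IsClosedImmersion i'.left]
      [Smooth N'.hom] [ConnectedSpace ↥N'.left] [IsAffine N'.left], AlgGrp.IsNormalHom i' → ∃ f : N' ⟶ N, f ≫ i = i')
    (T U : Over (Spec (CommRingCat.of k))) [GrpObj T] [GrpObj U] (t : T ⟶ N) (u : U ⟶ N) [IsMonHom t] [IsMonHom u]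
    (hT : Red.IsTorus T)
    [Smooth U.hom] [ConnectedSpace ↥U.left] [IsAffine U.left] (hU : Red.HasNoSubtorus k U)
    (hTU : IsIso ((t ⊗ₘ u) ≫ μ[N]))
    (Gs Gu : Over (Spec (CommRingCat.of k))) [GrpObj Gs] [GrpObj Gu] [LocallyOfFiniteType Gs.hom] [QuasiCompact Gs.hom]
    [LocallyOfFiniteType Gu.hom] [QuasiCompact Gu.hom]
    (qs : G ⟶ Gs) [IsMonHom qs] [Surjective qs.left] [Flat qs.left] (hs : AlgGrp.IsKernel (u ≫ i) qs)
    (qu : G ⟶ Gu) [IsMonHom qu] [Surjective qu.left] [Flat qu.left] (hu : AlgGrp.IsKernel (t ≫ i) qu) :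
    Function.Bijective ((Scheme.ΓSpecIso (CommRingCat.of k)).inv ≫ G.hom.appTop).hom ↔
      Function.Bijective ((Scheme.ΓSpecIso (CommRingCat.of k)).inv ≫ Gs.hom.appTop).hom ∧
      Function.Bijective ((Scheme.ΓSpecIso (CommRingCat.of k)).inv ≫ Gu.hom.appTop).hom := by
  let φ := algebraMap k (AlgebraicClosure k)
  let σ := Spec.map (CommRingCat.ofHom φ)
  let F := Over.pullback σ
  haveI := GrpSchLib.AntiAffine.isSeparated_grp G
  haveI := GrpSchLib.AntiAffine.isSeparated_grp Gs
  haveI := GrpSchLib.AntiAffine.isSeparated_grp Gu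
  haveI : Smooth (F.obj G).hom := inferInstanceAs (Smooth (pullback.snd G.hom σ))
  haveI : QuasiCompact (F.obj G).hom := inferInstanceAs (QuasiCompact (pullback.snd G.hom σ))
  haveI : Smooth (F.obj N).hom := inferInstanceAs (Smooth (pullback.snd N.hom σ))
  haveI : IsAffine (F.obj N).left := inferInstanceAs (IsAffine (pullback N.hom σ))
  haveI : Smooth (F.obj U).hom := inferInstanceAs (Smooth (pullback.snd U.hom σ))
  haveI : IsAffine (F.obj U).left := inferInstanceAs (IsAffine (pullback U.hom σ))
  haveI : LocallyOfFiniteType (F.obj Gs).hom := inferInstanceAs (LocallyOfFiniteType (pullback.snd Gs.hom σ))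
  haveI : QuasiCompact (F.obj Gs).hom := inferInstanceAs (QuasiCompact (pullback.snd Gs.hom σ))
  haveI : LocallyOfFiniteType (F.obj Gu).hom := inferInstanceAs (LocallyOfFiniteType (pullback.snd Gu.hom σ))
  haveI : QuasiCompact (F.obj Gu).hom := inferInstanceAs (QuasiCompact (pullback.snd Gu.hom σ))
  haveI : ConnectedSpace (F.obj G).left := GrpSchLib.AntiAffine.connectedSpace_bc G φ
  haveI : ConnectedSpace (F.obj U).left := GrpSchLib.AntiAffine.connectedSpace_bc U φ
  haveI : IsClosedImmersion (F.map i).left :=
    MorphismProperty.of_isPullback (P := @IsClosedImmersion) (GrpSchLib.HomSplitLocal.isPullback_map i σ) inferInstance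
  haveI : Surjective (F.map qs).left :=
    MorphismProperty.of_isPullback (P := @Surjective) (GrpSchLib.HomSplitLocal.isPullback_map qs σ) inferInstance
  haveI : Flat (F.map qs).left :=
    MorphismProperty.of_isPullback (P := @Flat) (GrpSchLib.HomSplitLocal.isPullback_map qs σ) inferInstance
  haveI : Surjective (F.map qu).left :=
    MorphismProperty.of_isPullback (P := @Surjective) (GrpSchLib.HomSplitLocal.isPullback_map qu σ) inferInstance
  haveI : Flat (F.map qu).left :=
    MorphismProperty.of_isPullback (P := @Flat) (GrpSchLib.HomSplitLocal.isPullback_map qu σ) inferInstance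
  haveI : IsCommMonObj (F.obj G) := inferInstance
  haveI : QuasiCompact U.hom := inferInstance
  have hs' : AlgGrp.IsKernel (F.map u ≫ F.map i) (F.map qs) := by
    rw [← Functor.map_comp]; exact NQF.isKernel_bc' σ hs
  have hu' : AlgGrp.IsKernel (F.map t ≫ F.map i) (F.map qu) := by
    rw [← Functor.map_comp]; exact NQF.isKernel_bc' σ hu
  have key := AGF20Lib.AntiAffineParts.iff_parts (AlgebraicClosure k) (F.obj G) (F.obj N) (F.map i) (F.obj T)
    (F.obj U) (F.map t) (F.map u) (SolvGrp.isTorus_bc σ hT) ((S18071.result k U).mp hU) (F.obj Gs) (F.obj Gu)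
    (F.map qs) hs' (F.map qu) hu'
  have hb : ∀ (H : Over (Spec (CommRingCat.of k))) [QuasiCompact H.hom] [QuasiSeparated H.hom],
      Function.Bijective ((Scheme.ΓSpecIso (CommRingCat.of k)).inv ≫ H.hom.appTop).hom ↔
        Function.Bijective ((Scheme.ΓSpecIso (CommRingCat.of (AlgebraicClosure k))).inv ≫ (F.obj H).hom.appTop).hom := by
    intro H _ _
    rw [AGFLib.AntPart.bij_appTop_iff, AGFLib.AntPart.bij_appTop_iff]
    exact GrpSchLib.AntiAffine.bijective_appTop_iff_snd H.hom φ
  rw [hb G, hb Gs, hb Gu]
  exact key

end Groth.Agent.S19704
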