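import Groth.Statements.S19710
import Groth.Agent.FFLib.Monomial
import Groth.Agent.FFLib.Chain

set_option autoImplicit false
open FunFld Groth.Agent.FFLib WithZero

namespace Groth.Agent.S19710

/-- Let `k` be an algebraically closed field of characteristic zero. A `g^r_d` on a function field `K/k`
of one variable is a divisor `D` of degree `d` with a subspace `V ⊆ L(D)` of dimension `r + 1`;
`V(-nP) = V ∩ L(D - nP)`, and the `i`-th vanishing order `m_i(V, P)` (`m_0 < ⋯ < m_r`) equals `m`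
exactly when `dim V(-mP) = r + 1 - i` and `dim V(-(m+1)P) = r - i`. Let `K_Y` have genus `0` and
carry a `g^r_d` `(D_Y, V_Y)` with at least a cusp at a place `Q_Y` (`dim V_Y(-2Q_Y) ≥ r`); let
`(D_Z, V_Z)` be a `g^r_d` on a second function field `K_Z`, compatible with `(D_Y, V_Y)` at a node
formed by a place `P ≠ Q_Y` of `K_Y` and a place `Q` of `K_Z` (`dim V_Y(-nP) + dim V_Z(-(d+1-n)Q) =
r + 1` for `0 ≤ n ≤ d + 1`), and let `P'` be a place of `K_Y` different from `P` and from `Q_Y`.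
Then `m_i(V_Y, P') < m_i(V_Z, Q)` for all but at most one index: the set of `i ≤ r` for which the
`i`-th vanishing order of `V_Y` at `P'` equals the `i`-th vanishing order of `V_Z` at `Q` has at
most one element. (In the source `Q_Y` is the point where the rational component `Y` meets a chain
of curves ending in a curve of positive genus, which forces the cusp condition assumed here; the
source works over the complex numbers.) -/
theorem result
    (k : Type*) [Field k] [IsAlgClosed k] [CharZero k]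
    (KY : Type*) [Field KY] [Algebra k KY] (hKY : FunFld.IsFunctionField k KY) (hg0 : FunFld.genus k KY = 0)
    (KZ : Type*) [Field KZ] [Algebra k KZ] (hKZ : FunFld.IsFunctionField k KZ)
    (d r : ℕ) (DY : FunFld.Divisor k KY) (hDY : DY.deg = d) (DZ : FunFld.Divisor k KZ) (hDZ : DZ.deg = d)
    (VY : Submodule k KY) (hVY : VY ≤ FunFld.L DY) (hVYr : Module.finrank k ↥VY = r + 1)
    (VZ : Submodule k KZ) (hVZ : VZ ≤ FunFld.L DZ) (hVZr : Module.finrank k ↥VZ = r + 1)
    (QY : FunFld.Place k KY) (hcusp : r ≤ Module.finrank k ↥(VY ⊓ FunFld.L (DY - Finsupp.single QY ((2 : ℤ)))))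
    (P : FunFld.Place k KY) (hP : P ≠ QY) (Q : FunFld.Place k KZ)
    (hcomp : ∀ n : ℕ, n ≤ d + 1 →
      Module.finrank k ↥(VY ⊓ FunFld.L (DY - Finsupp.single P ((n : ℤ)))) + Module.finrank k ↥(VZ ⊓ FunFld.L (DZ - Finsupp.single Q ((d : ℤ) + 1 - n))) = r + 1)
    (P' : FunFld.Place k KY) (hP'P : P' ≠ P) (hP'Q : P' ≠ QY) :
    {i : ℕ | i ≤ r ∧ ∃ m : ℕ,
        Module.finrank k ↥(VY ⊓ FunFld.L (DY - Finsupp.single P' ((m : ℤ)))) = r + 1 - i ∧
        Module.finrank k ↥(VY ⊓ FunFld.L (DY - Finsupp.single P' ((m : ℤ) + 1))) = r - i ∧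
        Module.finrank k ↥(VZ ⊓ FunFld.L (DZ - Finsupp.single Q ((m : ℤ)))) = r + 1 - i ∧
        Module.finrank k ↥(VZ ⊓ FunFld.L (DZ - Finsupp.single Q ((m : ℤ) + 1))) = r - i}.Subsingleton := by
  have hY := IsSeries.mk' hKY hDY hVY hVYr
  have hZ := IsSeries.mk' hKZ hDZ hVZ hVZr
  have hc : r ≤ vdim DY VY QY 2 := by simpa [vdim] using hcusp
  rintro i ⟨hi, m, h1, -, -, h4⟩ j ⟨hj, m', h1', -, -, h4'⟩
  have key : ∀ (i m : ℕ), i ≤ r → vdim DY VY P' m = r + 1 - i → vdim DZ VZ Q (m + 1) = r - i →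
      m ≤ d ∧ ∃ f ∈ VY, f ≠ 0 ∧
        FunFld.div k f + DY = Finsupp.single P' (m : ℤ) + Finsupp.single P ((d - m : ℕ) : ℤ) := by
    intro i m hi h1 h2
    have hm : m ≤ d := by
      by_contra hlt
      have := hY.vdim_eq_zero P' (not_le.mp hlt)
      omega
    have hn : vdim DY VY P (d - m) + vdim DZ VZ Q (m + 1) = r + 1 := vdim_node hcomp (by omega)
    have hi' := hY.vdim_add_le' P' P hP'P m (d - m)
    exact ⟨hm, hY.exists_exact P' P hm (by omega)⟩
  obtain ⟨hm, f, hf, hf0, hfd⟩ := key i m hi h1 (by simpa [vdim] using h4)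
  obtain ⟨hm', g, hg, hg0', hgd⟩ := key j m' hj h1' (by simpa [vdim] using h4')
  have hsupp : ∀ (f : KY) (m n : ℤ), FunFld.div k f + DY = Finsupp.single P' m + Finsupp.single P n →
      ∀ R : FunFld.Place k KY, R ≠ P' → R ≠ P → (FunFld.div k f + DY) R = 0 := by
    intro f m n e R hR hR'
    rw [e]
    simp [hR.symm, hR'.symm]
  obtain ⟨c, hcg⟩ := hY.eq_smul_of_supported hg0 hc hP'Q hP hf hg hf0 hg0'
    (hsupp f _ _ hfd) (hsupp g _ _ hgd)
  have hdiv : FunFld.div k g = FunFld.div k f := by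
    have hc0 : c ≠ 0 := fun e => hg0' (by rw [hcg, e, zero_smul])
    ext R
    rw [div_apply hKY.1, div_apply hKY.1, hcg, Algebra.smul_def,
      ord_mul R (by simpa using hc0) hf0, ord_algebraMap, zero_add]
  have hmm := congrArg (fun E : FunFld.Divisor k KY => E P') (hfd.symm.trans (hdiv ▸ hgd))
  simp [hP'P.symm] at hmm
  subst hmm
  omega

end Groth.Agent.S19710
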