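import Groth.Statements.S19711
import Mathlib.Tactic
import Mathlib.Algebra.Module.FinitePresentation
import Mathlib.Algebra.Module.LocalizedModule.Submodule

set_option autoImplicit false
universe u
open CategoryTheory
open Coh

namespace Groth.Agent.S19711

/-- Let A be a Noetherian integral domain and F an A-linear additive functor from A-modules to A-modules
with F(A) a finitely generated A-module. Call such a functor generically injective when there is a
dense open subset U of Spec A such that for every point u of U whose residue field κ(u) is a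
finitely generated A-algebra the comparison map F(A) ⊗_A κ(u) → F(κ(u)) is injective; since F is
A-linear this injectivity says: every m in F(A) whose image under F(A → κ(u)) vanishes satisfies s·m
∈ u·F(A) for some s outside u. If F is generically injective then so is every A-linear additive
subfunctor K ⊆ F (a natural transformation K → F with injective components). (The published
statement is over a reduced Noetherian affine scheme, for additive functors on quasi-coherent
sheaves with values in abelian groups and the induced A-action, assumes F weakly bounded (F(A/p)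
finitely generated for every prime ideal p) and also records that K is again weakly bounded; only
the finite generation of F(A), which its argument uses, is assumed here, and the integral case with
A-linear functors stated here is the one its argument by generic flatness treats.) -/
theorem result {A : Type u} [CommRing A] [IsNoetherianRing A] [IsDomain A]
    (F K : ModuleCat.{u} A ⥤ ModuleCat.{u} A) [F.Additive] [F.Linear A] [K.Additive] [K.Linear A]
    (ι : K ⟶ F) (hι : ∀ X : ModuleCat.{u} A, Function.Injective (ι.app X).hom)
    (hfin : Module.Finite A (F.obj (ModuleCat.of A A)))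
    (hGI : ∃ U : Set (PrimeSpectrum A), IsOpen U ∧ Dense U ∧ ∀ u ∈ U, Algebra.FiniteType A u.asIdeal.ResidueField →
        ∀ m : F.obj (ModuleCat.of A A),
          (F.map (ModuleCat.ofHom (Algebra.linearMap A u.asIdeal.ResidueField))).hom m = 0 →
            ∃ s ∉ u.asIdeal, s • m ∈ u.asIdeal • (⊤ : Submodule A (F.obj (ModuleCat.of A A)))) :
    ∃ U : Set (PrimeSpectrum A), IsOpen U ∧ Dense U ∧ ∀ u ∈ U, Algebra.FiniteType A u.asIdeal.ResidueField →
        ∀ m : K.obj (ModuleCat.of A A),
          (K.map (ModuleCat.ofHom (Algebra.linearMap A u.asIdeal.ResidueField))).hom m = 0 →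
            ∃ s ∉ u.asIdeal, s • m ∈ u.asIdeal • (⊤ : Submodule A (K.obj (ModuleCat.of A A))) := by
  obtain ⟨U, hUo, hUd, hU⟩ := hGI
  let j : K.obj (ModuleCat.of A A) →ₗ[A] F.obj (ModuleCat.of A A) := (ι.app _).hom
  have hj : Function.Injective j := hι _
  have : Module.Finite A (K.obj (ModuleCat.of A A)) := Module.Finite.of_injective j hj
  obtain ⟨g, f, hf, hg⟩ : ∃ (g : F.obj (ModuleCat.of A A) →ₗ[A] K.obj (ModuleCat.of A A)) (f : A),
      f ≠ 0 ∧ ∀ x, g (j x) = f • x := by
    let L := FractionRing A
    let S := nonZeroDivisors A
    let lK := LocalizedModule.mkLinearMap S (K.obj (ModuleCat.of A A))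
    let lF := LocalizedModule.mkLinearMap S (F.obj (ModuleCat.of A A))
    let jL : LocalizedModule S (K.obj (ModuleCat.of A A)) →ₗ[L] LocalizedModule S (F.obj (ModuleCat.of A A)) :=
      LocalizedModule.map S j
    obtain ⟨r, hr⟩ := jL.exists_leftInverse_of_injective
      (LinearMap.ker_eq_bot.2 (LocalizedModule.map_injective S j hj))
    have : Module.FinitePresentation A (F.obj (ModuleCat.of A A)) := Module.finitePresentation_of_finite A _
    obtain ⟨g, s, hs⟩ := Module.FinitePresentation.exists_lift_of_isLocalizedModule S lK
      ((r.restrictScalars A).comp lF)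
    have e : lK.comp (g.comp j) = lK.comp ((s : A) • LinearMap.id) := LinearMap.ext fun x => by
      have h1 := LinearMap.congr_fun hs (j x)
      have h2 : r (jL (lK x)) = lK x := LinearMap.congr_fun hr (lK x)
      rw [LinearMap.comp_apply, LinearMap.comp_apply]
      refine h1.trans ?_
      show (s : A) • r (lF (j x)) = lK ((s : A) • x)
      rw [map_smul]
      refine congrArg _ (Eq.trans ?_ h2)
      refine congrArg r ?_
      show lF (j x) = LocalizedModule.map S j (LocalizedModule.mk x 1)
      rw [LocalizedModule.map_mk]; rfl
    obtain ⟨c, hc⟩ := Module.Finite.exists_smul_of_comp_eq_of_isLocalizedModule S lK _ _ e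
    refine ⟨(c : A) • g, c * s, mul_ne_zero (nonZeroDivisors.coe_ne_zero c) (nonZeroDivisors.coe_ne_zero s),
      fun x => ?_⟩
    rw [mul_smul]
    exact LinearMap.congr_fun hc x
  refine ⟨U ∩ (PrimeSpectrum.basicOpen f : Set (PrimeSpectrum A)), hUo.inter (PrimeSpectrum.basicOpen f).2,
    hUd.inter_of_isOpen_right ?_ (PrimeSpectrum.basicOpen f).2, ?_⟩
  · refine IsOpen.dense (PrimeSpectrum.basicOpen f).2 ⟨⟨⊥, Ideal.bot_prime⟩, ?_⟩
    exact fun h => hf (Ideal.mem_bot.1 h)
  rintro u ⟨huU, hfu⟩ hu m hm
  have hnat : (F.map (ModuleCat.ofHom (Algebra.linearMap A u.asIdeal.ResidueField))).hom (j m) = 0 := by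
    have := (congr($(ι.naturality (ModuleCat.ofHom (Algebra.linearMap A u.asIdeal.ResidueField))).hom m))
    refine this.symm.trans ?_
    show (ι.app _).hom ((K.map _).hom m) = 0
    rw [hm, map_zero]
  obtain ⟨s, hs, hsm⟩ := hU u huU hu (j m) hnat
  refine ⟨s * f, fun h => (u.isPrime.mem_or_mem h).elim hs hfu, ?_⟩
  rw [mul_smul, ← hg, ← map_smul]
  have : Submodule.map g (u.asIdeal • (⊤ : Submodule A (F.obj (ModuleCat.of A A)))) ≤ u.asIdeal • ⊤ := by
    rw [Submodule.map_smul'']; exact Submodule.smul_mono le_rfl le_top
  exact this (Submodule.mem_map_of_mem hsm)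

end Groth.Agent.S19711
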