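import Groth.Statements.S19713
import Groth.Agent.StModLib.TwPush
import Mathlib.AlgebraicGeometry.Morphisms.Finite

set_option autoImplicit false
set_option backward.isDefEq.respectTransparency false
set_option backward.isDefEq.respectTransparency.types false
universe u
open TwSh

namespace Groth.Agent.S19713

open CategoryTheory AlgebraicGeometry in
/-- Let X be a non-empty Noetherian scheme and 𝒳 → X an fppf gerbe banded by the multiplicative group.
Then there is a non-zero coherent twisted sheaf on 𝒳, that is, a quasi-coherent twisted module of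
finite type which is not a zero object. (Non-emptiness of X is tacit in the published statement:
over the empty scheme every module on the gerbe is zero.) -/
theorem result (S : Scheme.{u}) (X : Over S) [IsNoetherian X.left] [Nonempty X.left] (𝒳 : AlgSt.Cat S) (h𝒳 : AlgSt.IsAlgStack Scheme.fppfPrecoverage 𝒳) (π : 𝒳 ⥤ᵇ AlgSt.ofSch X) (ι : TwSh.BandHom 𝒳 (TwSh.GmPsh S)) (hπ : TwSh.IsBandedGerbe (QuotSh.J Scheme.fppfPrecoverage S) π ι) : ∃ F : StMod.QCoh 𝒳, TwSh.IsTwisted F.obj ι (𝟙 (TwSh.GmPsh S)) 1 ∧ F.obj.IsFinType ∧ ¬ Limits.IsZero F := by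
  have hp := h𝒳.isStack.1
  have hp' := StModLib.hp_ofSch (X := X)
  obtain ⟨x, -, hx⟩ := (isClosed_univ (X := X.left)).exists_closed_singleton Set.univ_nonempty
  haveI : IsClosedImmersion (X.left.fromSpecResidueField x) := isClosed_singleton_iff_isClosedImmersion.1 hx
  let q₀ : Over.mk (X.left.fromSpecResidueField x ≫ X.hom) ⟶ X := Over.homMk (X.left.fromSpecResidueField x)
  let η₀ : (AlgSt.ofSch X).obj := ⟨_, ⟨q₀⟩⟩
  obtain ⟨κ, k, g, hg⟩ := StModLib.isDense_of_locSurjObj π hπ.1.1 η₀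
  obtain ⟨i, v₀, -⟩ := hg.surj (IsLocalRing.closedPoint (X.left.residueField x))
  let f : StMod.sch (AlgSt.ofSch X) (π.obj (k i)) ⟶ Spec (X.left.residueField x) :=
    StMod.bmap (AlgSt.ofSch X) (g i)
  haveI : LocallyOfFinitePresentation f := hg.lfp i
  haveI := LocallyOfFiniteType.jacobsonSpace f
  obtain ⟨v, -, hv⟩ := nonempty_inter_closedPoints ⟨v₀, Set.mem_univ _⟩
    (isOpen_univ (X := StMod.sch (AlgSt.ofSch X) (π.obj (k i)))).isLocallyClosed
  let q₁ := (StMod.sch (AlgSt.ofSch X) (π.obj (k i))).fromSpecResidueField v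
  haveI : IsClosedImmersion q₁ := isClosed_singleton_iff_isClosedImmersion.1 hv
  haveI : IsFinite (q₁ ≫ f) := isFinite_iff_locallyOfFiniteType_of_jacobsonSpace.2 inferInstance
  obtain ⟨x₀, e, φ, hφ⟩ := StModLib.exists_lift_bmap hp (x := k i) (q₁ ≫ eqToHom (StMod.sch_obj_eq π (k i)))
  haveI : IsAffine (StMod.sch 𝒳 x₀) := IsAffine.of_isIso e.hom
  haveI : Nonempty (⊤ : (StMod.sch 𝒳 x₀).Opens) :=
    ⟨⟨e.inv (IsLocalRing.closedPoint ((StMod.sch (AlgSt.ofSch X) (π.obj (k i))).residueField v)), trivial⟩⟩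
  haveI : Nontrivial Γ(StMod.sch 𝒳 x₀, ⊤) := Scheme.component_nontrivial _ _
  haveI : IsFinite (StMod.bmap (AlgSt.ofSch X) (StModLib.toTop (π.obj x₀))) := by
    have h1 : StMod.bmap (AlgSt.ofSch X) (StModLib.toTop (π.obj x₀)) =
        (eqToHom (StMod.sch_obj_eq π x₀) ≫ e.hom) ≫ (q₁ ≫ f) ≫ X.left.fromSpecResidueField x := by
      rw [StModLib.hom_to_top_ext (StModLib.toTop (π.obj x₀)) (π.map φ ≫ g i ≫ StModLib.toTop η₀),
        StMod.bmap_comp, StMod.bmap_comp, StModLib.bmap_map, hφ]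
      simp only [Category.assoc, eqToHom_trans_assoc, eqToHom_refl, Category.id_comp]
      rfl
    rw [h1]
    infer_instance
  exact StModLib.exists_twisted_push (x₀ := x₀) (𝟙 (GmPsh S)) hπ hp

end Groth.Agent.S19713
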