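import Groth.Statements.S19714
import Groth.Agent.StModLib.GerbePull

set_option autoImplicit false
set_option backward.isDefEq.respectTransparency false
set_option backward.isDefEq.respectTransparency.types false
universe u
open TwSh

namespace Groth.Agent.S19714

open CategoryTheory AlgebraicGeometry in
/-- First assertion: let π : 𝒳 → 𝒴 be an fppf A-gerbe of algebraic stacks, for a presheaf of groups A on
schemes over S acting through the inertia of 𝒳, and let χ be any character of A. Inverse image along
π is an equivalence from quasi-coherent modules on 𝒴 onto the 0-fold twisted quasi-coherent modules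
on 𝒳 (those on which A acts trivially through the inertia): the inverse-image functor is full and
faithful, and every 0-fold twisted quasi-coherent module on 𝒳 is isomorphic to an inverse image.
(The published statement is for all modules on a gerbe over a locally ringed site and names direct
image as the quasi-inverse; this row is its quasi-coherent form over algebraic stacks and asserts
existence of the isomorphism only. That inverse images are 0-fold twisted holds by construction and
is not asserted.) -/
theorem result (S : Scheme.{u}) (𝒳 𝒴 : AlgSt.Cat S) (h𝒳 : AlgSt.IsAlgStack Scheme.fppfPrecoverage 𝒳) (h𝒴 : AlgSt.IsAlgStack Scheme.fppfPrecoverage 𝒴) (A : (Over S)ᵒᵖ ⥤ GrpCat.{u}) (χ : A ⟶ TwSh.GmPsh S) (π : 𝒳 ⥤ᵇ 𝒴) (ι : TwSh.BandHom 𝒳 A) (hπ : TwSh.IsBandedGerbe (QuotSh.J Scheme.fppfPrecoverage S) π ι) : ((StMod.comapQ π).Full ∧ (StMod.comapQ π).Faithful) ∧ ∀ F : StMod.QCoh 𝒳, TwSh.IsTwisted F.obj ι χ 0 → ∃ G : StMod.QCoh 𝒴, Nonempty (F ≅ (StMod.comapQ π).obj G) := by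
  have hp := h𝒳.isStack.1
  have hp' := h𝒴.isStack.1
  refine ⟨⟨StModLib.comapQ_full π hπ.1 hp hp', StModLib.comapQ_faithful π hπ.1.1 hp'⟩, fun F hF => ?_⟩
  obtain ⟨G, θ, hb, hl, hn⟩ := StModLib.exists_qcoh_of_dense hp' (StModLib.isDense_of_locSurjObj π hπ.1.1)
    (StModLib.isStable_obj π hp hp') (StModLib.descSys π hπ hp hp' hF)
    (StModLib.isSheaf_descSys π hπ hp hp' hF) (StModLib.hasBC_descSys π hπ hp hp' hF)
  refine ⟨G, ?_⟩
  refine Nonempty.map (fun i => (ObjectProperty.isoMk _ i).symm) (StModLib.nonempty_iso_sys hp ((StMod.comapQ π).obj G).property.1 F.property.1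
    (fun x => (θ x).comp (StModLib.cmp π G.obj x).toAddMonoidHom) (fun x r s => ?_) (fun {x' x} φ s => ?_)
    (fun x => (hb x).comp (StModLib.cmp π G.obj x).bijective))
  · show θ x (StModLib.cmp π G.obj x (r • s)) = r • (show Γ(F.obj.obj x, ⊤) from θ x (StModLib.cmp π G.obj x s))
    refine (congrArg (θ x) (StModLib.cmp_smul π G.obj x r s)).trans ((hl x _ _).trans ?_)
    exact congrArg (fun c : Γ(StMod.sch 𝒳 x, ⊤) => c • (show Γ(F.obj.obj x, ⊤) from θ x (StModLib.cmp π G.obj x s)))
      (StModLib.appTop_eqToHom_symm (StMod.sch_obj_eq π x).symm r)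
  · show F.obj.mapTop φ (θ x (StModLib.cmp π G.obj x s)) =
      θ x' (StModLib.cmp π G.obj x' ((StMod.Mod.comap π G.obj).mapTop φ s))
    rw [StModLib.cmp_mapTop, hn]
    exact (StModLib.descRes_map π hπ hp hp' hF φ _).symm

end Groth.Agent.S19714
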