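import Groth.Statements.S19715
import Groth.Agent.StModLib.PullFaithful
import Mathlib.AlgebraicGeometry.PullbackCarrier
import Mathlib.AlgebraicGeometry.Morphisms.Flat

set_option autoImplicit false
set_option backward.isDefEq.respectTransparency false
set_option backward.isDefEq.respectTransparency.types false

open CategoryTheory CategoryTheory.Functor CategoryTheory.Limits AlgebraicGeometry Opposite

universe u

namespace Groth.Agent.S19715

open Groth.Agent

variable {S : Scheme.{u}} {𝒳 : AlgSt.Cat S}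

/-- Two endomorphisms compatible with the comparison map induce compatible endomorphisms of the inverse image. -/
theorem pullback_map_comp_adj (F : StMod.Mod 𝒳) {ξ' ξ : 𝒳.obj} (φ : ξ' ⟶ ξ)
    (u : F.obj ξ ⟶ F.obj ξ) (u' : F.obj ξ' ⟶ F.obj ξ')
    (h : u ≫ F.map φ rfl = F.map φ rfl ≫ (Scheme.Modules.pushforward (StMod.bmap 𝒳 φ)).map u') :
    (Scheme.Modules.pullback (StMod.bmap 𝒳 φ)).map u ≫
        ((Scheme.Modules.pullbackPushforwardAdjunction (StMod.bmap 𝒳 φ)).homEquiv _ _).symm (F.map φ rfl) =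
      ((Scheme.Modules.pullbackPushforwardAdjunction (StMod.bmap 𝒳 φ)).homEquiv _ _).symm (F.map φ rfl) ≫ u' := by
  rw [← Adjunction.homEquiv_naturality_left_symm, ← Adjunction.homEquiv_naturality_right_symm, h]

theorem scalarEnd_comp_map (F : StMod.Mod 𝒳) {ξ' ξ : 𝒳.obj} (φ : ξ' ⟶ ξ) (r : Γ(StMod.sch 𝒳 ξ, ⊤)) :
    TwSh.scalarEnd (F.obj ξ) r ≫ F.map φ rfl =
      F.map φ rfl ≫ (Scheme.Modules.pushforward (StMod.bmap 𝒳 φ)).map
        (TwSh.scalarEnd (F.obj ξ') ((StMod.bmap 𝒳 φ).appTop r)) := by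
  apply Scheme.Modules.hom_ext
  intro U
  ext s
  simp only [Scheme.Modules.Hom.comp_app]
  show (F.map φ rfl).app U (TwSh.resTop _ U r • s) =
    TwSh.resTop _ (StMod.bmap 𝒳 φ ⁻¹ᵁ U) ((StMod.bmap 𝒳 φ).appTop r) • (show Γ(F.obj ξ', StMod.bmap 𝒳 φ ⁻¹ᵁ U) from (F.map φ rfl).app U s)
  rw [Scheme.Modules.Hom.app_smul]
  refine congrArg (fun t : Γ(StMod.sch 𝒳 ξ', StMod.bmap 𝒳 φ ⁻¹ᵁ U) =>
    t • (show Γ(F.obj ξ', StMod.bmap 𝒳 φ ⁻¹ᵁ U) from (F.map φ rfl).app U s)) ?_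
  exact congr($((StMod.bmap 𝒳 φ).naturality (homOfLE le_top).op) r)

variable {A : (Over S)ᵒᵖ ⥤ GrpCat.{u}} (ι : TwSh.BandHom 𝒳 A)

theorem inert_comp_map (F : StMod.Mod 𝒳) {ξ' ξ : 𝒳.obj} (φ : ξ' ⟶ ξ) (a : A.obj (op (𝒳.p.obj ξ))) :
    TwSh.inert F ξ (ι.hom ξ a) ≫ F.map φ rfl =
      F.map φ rfl ≫ (Scheme.Modules.pushforward (StMod.bmap 𝒳 φ)).map
        (TwSh.inert F ξ' (ι.hom ξ' (A.map (𝒳.p.map φ).op a))) := by
  apply Scheme.Modules.hom_ext
  intro U
  ext s
  simp only [Scheme.Modules.Hom.comp_app]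
  set β := ι.hom ξ' (A.map (𝒳.p.map φ).op a)
  set α := ι.hom ξ a
  show (F.map φ rfl).app U ((TwSh.inert F ξ α).app U s) =
    (TwSh.inert F ξ' β).app (StMod.bmap 𝒳 φ ⁻¹ᵁ U) ((F.map φ rfl).app U s)
  rw [TwSh.inert_app_apply, TwSh.inert_app_apply]
  have k₁ := congrArg (fun f => (ConcreteCategory.hom f) s)
    (StMod.Mod.map_comp_app F φ α.hom.1 (h := StMod.bmap 𝒳 φ) rfl (TwSh.bmap_autO ξ α) U)
  have k₂ := congrArg (fun f => (ConcreteCategory.hom f) s)
    (StMod.Mod.map_comp_app F β.hom.1 φ (TwSh.bmap_autO ξ' β) (g := StMod.bmap 𝒳 φ) rfl U)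
  have nat : β.hom.1 ≫ φ = φ ≫ α.hom.1 := ι.natural φ a
  have e₁ : StMod.bmap 𝒳 (φ ≫ α.hom.1) = StMod.bmap 𝒳 φ ≫ 𝟙 _ := by
    rw [StMod.bmap_comp, TwSh.bmap_autO]
  have e₂ : StMod.bmap 𝒳 (β.hom.1 ≫ φ) = StMod.bmap 𝒳 φ ≫ 𝟙 _ := by rw [nat, e₁]
  have t := TwSh.map_app_heq F (β.hom.1 ≫ φ) e₂ (g' := 𝟙 _ ≫ StMod.bmap 𝒳 φ)
    (by rw [StMod.bmap_comp, TwSh.bmap_autO]) U s
  have t' : HEq ((F.map (φ ≫ α.hom.1) e₁).app U s) ((F.map (β.hom.1 ≫ φ) e₂).app U s) := by
    rw [F.map_congr nat e₂]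
  exact k₁.symm.trans ((eq_of_heq (t'.trans t)).trans k₂)

open CategoryTheory AlgebraicGeometry in
/-- Being twisted is local on the base. Let 𝒳 → X be an fppf A-gerbe over a scheme X, χ a character of
A, d an integer and F a quasi-coherent module on 𝒳. If {T_i → X} is a family of flat morphisms
locally of finite presentation whose images cover X, and for every i the restriction of F to the
gerbe restricted over T_i is d-fold χ-twisted for the restricted action, then F is d-fold χ-twisted.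
(The published statement is an equivalence, for arbitrary modules on an A-gerbe over a locally
ringed site and a covering of it; the converse implication holds by construction and is not
asserted, and this row is the quasi-coherent form over the big fppf site of a scheme.) -/
theorem result (S : Scheme.{u}) (X : Over S) (𝒳 : AlgSt.Cat S) (h𝒳 : AlgSt.IsAlgStack Scheme.fppfPrecoverage 𝒳) (A : (Over S)ᵒᵖ ⥤ GrpCat.{u}) (χ : A ⟶ TwSh.GmPsh S) (d : ℤ) (π : 𝒳 ⥤ᵇ AlgSt.ofSch X) (ι : TwSh.BandHom 𝒳 A) (hπ : TwSh.IsBandedGerbe (QuotSh.J Scheme.fppfPrecoverage S) π ι) (I : Type u) (η : I → (AlgSt.ofSch X).obj) (hfl : ∀ i, Flat (η i).sec.down.left) (hfp : ∀ i, LocallyOfFinitePresentation (η i).sec.down.left) (hcov : ∀ x : X.left, ∃ i, x ∈ Set.range (η i).sec.down.left.base) (F : StMod.QCoh 𝒳) (h : ∀ i, TwSh.IsTwisted (StMod.Mod.comap (StMod.fibFst π (η i)) F.obj) (TwSh.BandHom.fib π (η i) ι (TwSh.IsBandedGerbe.map_hom_eq_id π hπ)) χ d)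 : TwSh.IsTwisted F.obj ι χ d := by
  refine (TwSh.isTwisted_iff_inert_eq _ _ _ _).2 fun ξ a => ?_
  let T : Over S := (π.obj ξ).base
  let s : T ⟶ X := (π.obj ξ).sec.down
  have hT : T = 𝒳.p.obj ξ := π.w_obj ξ
  let P : I → Over S := fun i => pullback s (η i).sec.down
  let f : ∀ i, P i ⟶ 𝒳.p.obj ξ := fun i => pullback.fst s (η i).sec.down ≫ eqToHom hT
  have hfl' : ∀ i, Flat (f i).left := fun i => by
    have sq := ((IsPullback.of_hasPullback s (η i).sec.down).map (Over.forget S)).flip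
    have h₁ : Flat (pullback.fst s (η i).sec.down).left := MorphismProperty.of_isPullback sq (hfl i)
    rw [Over.comp_left]
    haveI := h₁
    haveI : IsIso (eqToHom hT).left := inferInstanceAs (IsIso ((Over.forget S).map (eqToHom hT)))
    infer_instance
  have hsurj : ∀ y : (𝒳.p.obj ξ).left, ∃ i, y ∈ Set.range (f i).left := fun y => by
    obtain ⟨i, z, hz⟩ := hcov (s.left ((eqToHom hT.symm).left y))
    have sq := (IsPullback.of_hasPullback s (η i).sec.down).map (Over.forget S)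
    obtain ⟨w, hw, -⟩ := Scheme.Pullback.exists_preimage_pullback _ _ hz.symm
    refine ⟨i, sq.isoPullback.inv w, ?_⟩
    have e₁ : (pullback.fst s (η i).sec.down).left (sq.isoPullback.inv w) = (eqToHom hT.symm).left y :=
      (congr($(sq.isoPullback_inv_fst).base w)).trans hw
    have e₂ : (eqToHom hT.symm).left ≫ (eqToHom hT).left = 𝟙 _ := by
      rw [← Over.comp_left, eqToHom_trans, eqToHom_refl, Over.id_left]
    show (eqToHom hT).left ((pullback.fst s (η i).sec.down).left (sq.isoPullback.inv w)) = y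
    exact (congrArg (eqToHom hT).left e₁).trans congr($(e₂).base y)
  choose ξ' φ hφ using fun i => h𝒳.isStack.1.exists_lift (f i)
  have key : ∀ i, ∃ e : StMod.sch 𝒳 (ξ' i) ≅ (P i).left, StMod.bmap 𝒳 (φ i) = e.hom ≫ (f i).left := fun i => by
    have hd : 𝒳.p.obj (ξ' i) = P i := IsHomLift.domain_eq 𝒳.p (f i) (φ i)
    haveI := hφ i
    refine ⟨(Over.forget S).mapIso (eqToIso hd), ?_⟩
    show (𝒳.p.map (φ i)).left = _
    rw [IsHomLift.fac' 𝒳.p (f i) (φ i)]
    simp [StMod.sch]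
  choose e he using key
  refine StModLib.eq_of_pullback_map_eq (fun i => StMod.bmap 𝒳 (φ i)) (fun i => ?_) (fun y => ?_) _ _ fun i => ?_
  · rw [he i]
    haveI := hfl' i
    infer_instance
  · obtain ⟨i, w, hw⟩ := hsurj y
    refine ⟨i, (e i).inv w, ?_⟩
    rw [he i, Scheme.Hom.comp_apply]
    refine Eq.trans (congrArg (f i).left ?_) hw
    rw [← Scheme.Hom.comp_apply, Iso.inv_hom_id]
    rfl
  haveI := F.property.1 (φ i) (g := StMod.bmap 𝒳 (φ i)) rfl
  rw [← cancel_mono (((Scheme.Modules.pullbackPushforwardAdjunction (StMod.bmap 𝒳 (φ i))).homEquiv _ _).symm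
      (F.obj.map (φ i) rfl)), pullback_map_comp_adj F.obj (φ i) _ _ (inert_comp_map ι F.obj (φ i) a),
    pullback_map_comp_adj F.obj (φ i) _ _ (scalarEnd_comp_map F.obj (φ i) _)]
  congr 1
  -- an object of the restricted gerbe
  have hd : 𝒳.p.obj (ξ' i) = P i := IsHomLift.domain_eq 𝒳.p (f i) (φ i)
  have hm : (π.map (φ i)).hom = eqToHom (π.w_obj (ξ' i)) ≫ 𝒳.p.map (φ i) ≫ eqToHom (π.w_obj ξ).symm :=
    Functor.congr_hom π.w (φ i)
  let c : π.obj (ξ' i) ⟶ η i := ⟨eqToHom ((π.w_obj (ξ' i)).trans hd) ≫ pullback.snd s (η i).sec.down, by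
    have h₁ := congrArg ULift.down (π.map (φ i)).map_sec
    apply ULift.ext
    refine Eq.trans ?_ h₁
    show (eqToHom _ ≫ pullback.snd s (η i).sec.down) ≫ (η i).sec.down = (π.map (φ i)).hom ≫ s
    haveI := hφ i
    rw [hm, IsHomLift.fac' 𝒳.p (f i) (φ i), Category.assoc, ← pullback.condition]
    simp [f, T]⟩
  have ht := (TwSh.isTwisted_iff_inert_eq _ _ _ _).1 (h i) (CostructuredArrow.mk c) (A.map (𝒳.p.map (φ i)).op a)
  erw [TwSh.inert_comap_fibFst] at ht
  refine ht.trans (congrArg _ ?_)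
  have hu : TwSh.charUnit χ (ξ' i) (A.map (𝒳.p.map (φ i)).op a) =
      Units.map (StMod.bmap 𝒳 (φ i)).appTop.hom.toMonoidHom (TwSh.charUnit χ ξ a) :=
    congr($(χ.naturality (𝒳.p.map (φ i)).op) a)
  · show ((TwSh.charUnit χ (ξ' i) (A.map (𝒳.p.map (φ i)).op a) ^ d)⁻¹).val = _
    rw [hu, ← map_zpow, ← _root_.map_inv]
    rfl
  exact TwSh.IsBandedGerbe.map_hom_eq_id π hπ (ξ' i) _

end Groth.Agent.S19715
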