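import Groth.Statements.S19717
import Groth.Agent.StModLib.FinDescent
import Groth.Agent.AlgStLib.FppfSite

set_option autoImplicit false
set_option backward.isDefEq.respectTransparency false
set_option backward.isDefEq.respectTransparency.types false

open CategoryTheory CategoryTheory.Functor CategoryTheory.Limits AlgebraicGeometry Opposite

universe u

namespace Groth.Agent.S19717

open Groth.Agent

theorem castMod_iff (P : ∀ {T : Scheme.{u}}, T.Modules → Prop) {X T : Scheme.{u}} (h : X = T) (M : X.Modules) :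
    P (StMod.castMod h M) ↔ P M := by
  subst h; rfl

variable {S : Scheme.{u}} {𝒳 𝒴 : AlgSt.Cat S}

/-- A gerbe gives fppf local preimages of every object with their pullback identification. -/
theorem exists_family {π : 𝒳 ⥤ᵇ 𝒴} (hπ : Gerb.LocSurjObj (QuotSh.J Scheme.fppfPrecoverage S) π)
    (G : StMod.QCoh 𝒴) (η : 𝒴.obj) :
    ∃ (ι : Type u) (x : ι → 𝒳.obj) (f : ∀ i, StMod.sch 𝒴 (π.obj (x i)) ⟶ StMod.sch 𝒴 η),
      Presieve.ofArrows (fun i => StMod.sch 𝒴 (π.obj (x i))) f ∈ Scheme.fpqcPrecoverage (StMod.sch 𝒴 η) ∧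
      ∀ i, Nonempty ((Scheme.Modules.pullback (f i)).obj (G.obj.obj η) ≅ G.obj.obj (π.obj (x i))) := by
  obtain ⟨R, hR, hR'⟩ := hπ η
  obtain ⟨ι, V, v, hfl, hfp, hs, hv⟩ := AlgStLib.exists_fppf_of_mem_J hR
  choose x g hg using fun i => hR' (v i) (hv i)
  have key : ∀ i, ∃ e : StMod.sch 𝒴 (π.obj (x i)) ≅ (V i).left,
      StMod.bmap 𝒴 (g i) = e.hom ≫ (v i).left := fun i => by
    have hd : 𝒴.p.obj (π.obj (x i)) = V i := IsHomLift.domain_eq 𝒴.p (v i) (g i)
    haveI := hg i
    have hfac := IsHomLift.fac' 𝒴.p (v i) (g i)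
    refine ⟨(Over.forget S).mapIso (eqToIso hd), ?_⟩
    show (𝒴.p.map (g i)).left = _
    rw [hfac]
    simp [StMod.sch]
  choose e he using key
  refine ⟨ι, x, fun i => StMod.bmap 𝒴 (g i), StModLib.mem_fpqcPrecoverage _ (fun i => ?_) (fun i => ?_) fun t => ?_,
    fun i => ?_⟩
  · rw [he i]
    haveI := hfl i
    infer_instance
  · rw [he i]
    haveI := hfp i
    infer_instance
  · obtain ⟨i, s, hs⟩ := hs t
    refine ⟨i, (e i).inv s, ?_⟩
    rw [he i, Scheme.Hom.comp_apply]
    refine Eq.trans (congrArg (v i).left ?_) hs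
    rw [← Scheme.Hom.comp_apply, Iso.inv_hom_id]
    rfl
  · haveI := G.property.1 (g i) (g := StMod.bmap 𝒴 (g i)) rfl
    exact ⟨asIso (((Scheme.Modules.pullbackPushforwardAdjunction (StMod.bmap 𝒴 (g i))).homEquiv _ _).symm
      (G.obj.map (g i) rfl))⟩

open CategoryTheory AlgebraicGeometry in
/-- Second assertion: let π : 𝒳 → 𝒴 be an fppf A-gerbe of algebraic stacks, for a presheaf of groups A
on schemes over S acting through the inertia of 𝒳, and let G be a quasi-coherent module on 𝒴. Then G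
is of finite type if and only if its inverse image along π is; likewise for finite presentation, and
for being locally free of finite type. (The published statement is for all modules on a gerbe over a
locally ringed site and for any property preserved by pullback along morphisms of sites, naming also
quasi-coherence, flatness and local freeness; this row is its quasi-coherent form for the three
properties named, local freeness being taken together with finite type.) -/
theorem result (S : Scheme.{u}) (𝒳 𝒴 : AlgSt.Cat S) (h𝒳 : AlgSt.IsAlgStack Scheme.fppfPrecoverage 𝒳) (h𝒴 : AlgSt.IsAlgStack Scheme.fppfPrecoverage 𝒴) (A : (Over S)ᵒᵖ ⥤ GrpCat.{u}) (π : 𝒳 ⥤ᵇ 𝒴) (ι : TwSh.BandHom 𝒳 A) (hπ : TwSh.IsBandedGerbe (QuotSh.J Scheme.fppfPrecoverage S) π ι) (G : StMod.QCoh 𝒴) : (G.obj.IsFinType ↔ ((StMod.comapQ π).obj G).obj.IsFinType) ∧ (G.obj.IsFinPres ↔ ((StMod.comapQ π).obj G).obj.IsFinPres) ∧ ((G.obj.IsLocFree ∧ G.obj.IsFinType) ↔ (((StMod.comapQ π).obj G).obj.IsLocFree ∧ ((StMod.comapQ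 π).obj G).obj.IsFinType)) := by
  have hloc := hπ.1.1
  have hF : ∀ {T : Scheme.{u}} {M N : T.Modules}, (M ≅ N) → Coh.IsQCoh M → Coh.IsQCoh N :=
    fun e h => (QCoh.isQCoh_iff_iso e).1 h
  refine ⟨⟨fun h x => ?_, fun h η => ?_⟩, ⟨fun h x => ?_, fun h η => ?_⟩, ⟨fun h => ?_, fun h => ?_⟩⟩
  · exact (castMod_iff (fun M => CohB1.IsFT M) _ _).2 (h (π.obj x))
  · obtain ⟨ι', x, f, hf, e⟩ := exists_family hloc G η
    refine FTDescent.isFT_of_fpqc_family f hf (G.property.2 η) fun i => ?_
    exact KFlatLib.isFT_of_iso' (e i).some.symm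
      ((castMod_iff (fun M => CohB1.IsFT M) (StMod.sch_obj_eq π (x i)) _).1 (h (x i)))
  · exact (castMod_iff (fun M => CohB1.IsFP M) _ _).2 (h (π.obj x))
  · obtain ⟨ι', x, f, hf, e⟩ := exists_family hloc G η
    refine StModLib.isFP_of_fpqc_family f hf (G.property.2 η) fun i => ?_
    exact StModLib.isFP_of_iso (e i).some.symm
      ((castMod_iff (fun M => CohB1.IsFP M) (StMod.sch_obj_eq π (x i)) _).1 (h (x i)))
  · have key : ∀ x : 𝒳.obj, FlatMod.IsFinLocFree (StMod.castMod (StMod.sch_obj_eq π x) (G.obj.obj (π.obj x))) :=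
      fun x => (castMod_iff (fun M => FlatMod.IsFinLocFree M) _ _).2
        (StModLib.isFinLocFree_iff_isLocallyFree.2 ⟨h.1 (π.obj x), h.2 (π.obj x)⟩)
    exact ⟨fun x => (StModLib.isFinLocFree_iff_isLocallyFree.1 (key x)).1,
      fun x => (StModLib.isFinLocFree_iff_isLocallyFree.1 (key x)).2⟩
  · have key : ∀ η : 𝒴.obj, FlatMod.IsFinLocFree (G.obj.obj η) := fun η => by
      obtain ⟨ι', x, f, hf, e⟩ := exists_family hloc G η
      refine StModLib.isFinLocFree_of_fpqc_family f hf (G.property.2 η) fun i => ?_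
      exact H23.PullPush.isFinLocFree_of_iso (e i).some.symm
        ((castMod_iff (fun M => FlatMod.IsFinLocFree M) (StMod.sch_obj_eq π (x i)) _).1
          (StModLib.isFinLocFree_iff_isLocallyFree.2 ⟨h.1 (x i), h.2 (x i)⟩))
    exact ⟨fun η => (StModLib.isFinLocFree_iff_isLocallyFree.1 (key η)).1,
      fun η => (StModLib.isFinLocFree_iff_isLocallyFree.1 (key η)).2⟩

end Groth.Agent.S19717
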