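import Groth.Statements.S19724
import Groth.Agent.TautSec.Lower

set_option autoImplicit false
universe u
open CategoryTheory CategoryTheory.Limits AlgebraicGeometry
open TautSh

namespace Groth.Agent.S19724

/-- Let `k` be an algebraically closed field of characteristic zero, `X` an integral scheme smooth and
proper over `k` of dimension one, `n` a natural number, `L` an O_X-module locally free of rank one
which is `(2n+1)`-very ample, `(H, Z)` and `(H', Z')` universal pairs for the Hilbert functors of `n
+ 1` and of `n` points of `X` over `k`, `(PE, πE, OE, qE)` and `(PE', πE', OE', qE')` projective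
bundles of the tautological bundles `L^[n+1]` over `H` and `L^[n]` over `H'`, `(P, π, O1, qP)` a
projective bundle of `H^0(X, L)` over `k`, and `h : PE ⟶ P`, `h' : PE' ⟶ P` the morphisms over `k`
classifying the secant quotients (the image of `h` is the variety of `(n+1)`-secant `n`-planes, that
of `h'` the variety of `n`-secant `(n-1)`-planes). If two `k`-points `a, b` of `PE` have the same
image under `h`, and this image is not the image under `h'` of a `k`-point of `PE'`, then `a = b`.
(The published statement asserts that `h` is an isomorphism onto its image away from the preimage of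
the lower secant variety; the source argues bijectivity on points and takes the immersion property
from the literature, so only injectivity on `k`-points off the lower secant variety is stated.) -/
theorem result (k : Type u) [Field k] [IsAlgClosed k] [CharZero k] (X : Scheme.{u}) [X.Over (Spec (CommRingCat.of k))] [AlgebraicGeometry.IsIntegral X] [Smooth (X ↘ Spec (CommRingCat.of k))] [IsProper (X ↘ Spec (CommRingCat.of k))] (hdim : topologicalKrullDim X = 1) (n : ℕ) (L : X.Modules) (hL : FlatMod.IsFinLocFreeOfRank 1 L) (hva : TautSh.IsKVeryAmple k X L (2 * n + 1)) (H : Over (Spec (CommRingCat.of k))) (Z : HilbD.Obj (X ↘ Spec (CommRingCat.of k)) (n + 1) H) (hU : HilbD.IsUniversal (X ↘ Spec (CommRingCat.of k)) (n + 1) H Z) (H' : Over (Spec (CommRingCat.of k))) (Z' : HilbD.Obj (X ↘ Spec (CommRingCat.of k)) n H') (hU' : HilbD.IsUniversal (X ↘ Spec (CommRingCat.of k)) n H' Z') {PE : Scheme.{u}} (πE : PE ⟶ H.left) (OE : PE.Modules) (qE : (Scheme.Modules.pullback πE).obj (TautSh.taut (X ↘ Spec (CommRingCat.of k)) H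 Z.1 L) ⟶ OE) (hPE : KRR.IsProjBundle πE (TautSh.taut (X ↘ Spec (CommRingCat.of k)) H Z.1 L) OE qE) {PE' : Scheme.{u}} (πE' : PE' ⟶ H'.left) (OE' : PE'.Modules) (qE' : (Scheme.Modules.pullback πE').obj (TautSh.taut (X ↘ Spec (CommRingCat.of k)) H' Z'.1 L) ⟶ OE') (hPE' : KRR.IsProjBundle πE' (TautSh.taut (X ↘ Spec (CommRingCat.of k)) H' Z'.1 L) OE' qE') {P : Scheme.{u}} (π : P ⟶ Spec (CommRingCat.of k)) (O1 : P.Modules) (qP : (Scheme.Modules.pullback π).obj ((Scheme.Modules.pushforward (X ↘ Spec (CommRingCat.of k))).obj L) ⟶ O1) (hP : KRR.IsProjBundle π ((Scheme.Modules.pushforward (X ↘ Spec (CommRingCat.of k))).obj L) O1 qP) (h : PE ⟶ P) (hh : TautSh.IsMapOfQuot π ((Scheme.Modules.pushforward (X ↘ Spec (CommRingCat.of k))).obj L) O1 qP (πE ≫ H.hom) OE (TautSh.secantQuot (X ↘ Spec (CommRingCat.of k)) H Z.1 L πE OE qE) h) (h' : PE' ⟶ P) (hh' : TautSh.IsMapOfQuot π ((Scheme.Modules.pushforward (X ↘ Spec (CommRingCat.of k))).obj L) O1 qP (πE' ≫ H'.hom) OE' (TautSh.secantQuot (X ↘ Spec (CommRingCat.of k)) H' Z'.1 L πE'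 OE' qE') h') (a b : Spec (CommRingCat.of k) ⟶ PE) (ha : a ≫ πE ≫ H.hom = 𝟙 _) (hb : b ≫ πE ≫ H.hom = 𝟙 _) (hab : a ≫ h = b ≫ h) (hlow : ∀ c : Spec (CommRingCat.of k) ⟶ PE', c ≫ πE' ≫ H'.hom = 𝟙 _ → c ≫ h' ≠ a ≫ h) : a = b := by
  have hLq := TautSec.isQCoh_line hL
  haveI : Infinite X := by
    by_contra hfin
    haveI : Finite X := not_infinite_iff_finite.1 hfin
    haveI : JacobsonSpace X := LocallyOfFiniteType.jacobsonSpace (X ↘ Spec (CommRingCat.of k))
    have : topologicalKrullDim X ≤ 0 := by
      haveI : DiscreteTopology X := inferInstance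
      exact topologicalKrullDim_zero_of_discreteTopology X
    rw [hdim] at this
    exact absurd this (by decide)
  rcases TautSec.eq_or_lower Z π O1 qP πE OE qE h hh hLq hPE n rfl hU
    (fun W hW => TautSec.surjective_pullTop_of_le hLq (2 * n + 2) hva W hW) a b ha hb hab with
    he | ⟨E, μE, hE, hμE, hv⟩
  · exact he
  obtain ⟨c, hc, hcv⟩ := TautSec.exists_lower Z' π O1 qP πE' OE' qE' h' hh' hLq hPE' hU' E μE hμE hE
  refine absurd ?_ (hlow c hc)
  refine TautSec.eq_of_van π O1 qP hLq hP ?_ ?_ fun σ => ?_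
  · rw [CategoryTheory.Category.assoc, hh'.choose, hc]
  · rw [CategoryTheory.Category.assoc, hh.choose, ha]
  · rw [← hcv, hv]

end Groth.Agent.S19724
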