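import Groth.Statements.S19731
import Groth.Agent.Lib.SurfNefCone

set_option autoImplicit false
set_option backward.isDefEq.respectTransparency false
set_option backward.isDefEq.respectTransparency.types false
set_option linter.style.haveILetI false
set_option linter.unusedSectionVars false
set_option maxHeartbeats 400000
universe u
open CategoryTheory CategoryTheory.Limits AlgebraicGeometry TopologicalSpace
open Surf

namespace Groth.Agent.S19731

open Groth.Agent.H23
open Topology
attribute [local instance] PicMul.clMonoid

/-- Let k be an algebraically closed field of characteristic zero and X a smooth projective surface over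
k (integral, proper and smooth over k, of dimension 2, with an ample invertible module); the notes
work over the complex numbers. Fix a group law on the Picard set of X, and let B be the intersection
form on N¹(X)_ℝ = ℝ ⊗ (Pic X modulo numerical equivalence), the real bilinear form whose value on
the classes of invertible modules L, M is (L·M) = χ(O_X) − χ(L) − χ(M) + χ(L ⊗ M); assume N¹(X)_ℝ is
finite-dimensional. If x ∈ N¹(X)_ℝ is nef (B(x, [C]) ≥ 0 for every integral curve C ⊆ X with
invertible ideal module) and y lies in the ample cone A(X) (the convex cone spanned by the classes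
of ample invertible modules), then x + y ∈ A(X). (The published statement is for a nef real divisor
and an ample real divisor; a real divisor is ample exactly when its class lies in A(X), so the
statement is one about classes.) -/
theorem result (k : Type u) [Field k] [IsAlgClosed k] [CharZero k]
    (X : Scheme.{u}) [X.Over (Spec (CommRingCat.of k))] [IsProper (X ↘ (Spec (CommRingCat.of k)))]
    [Smooth (X ↘ (Spec (CommRingCat.of k)))] [AlgebraicGeometry.IsIntegral X] (hdim : topologicalKrullDim X = 2)
    (hproj : ∃ H : X.Modules, CohB1.IsAmple H) [PicGrp.Law X] [Module.Finite ℝ (NumR.N1R k X)]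
    (B : NumR.N1R k X →ₗ[ℝ] NumR.N1R k X →ₗ[ℝ] ℝ) (hB : NumR.IsIntForm₂ k X B)
    (x y : NumR.N1R k X) (hx : x ∈ NumR.nefCone₂ k X B) (hy : y ∈ (NumR.ampleCone k X : Set (NumR.N1R k X))) :
    x + y ∈ (NumR.ampleCone k X : Set (NumR.N1R k X)) := by
  obtain ⟨H, hH⟩ := hproj
  have hyP := SurfNefCone.ampleCone_subset_posCone hdim hB hH hy
  have hxy : 0 ≤ B x y := by
    let C : ConvexCone ℝ (NumR.N1R k X) :=
      { carrier := {z | 0 ≤ B x z}
        smul_mem' := fun c hc z hz => by
          show 0 ≤ B x (c • z)
          rw [map_smul, smul_eq_mul]
          exact mul_nonneg hc.le hz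
        add_mem' := fun a ha b hb => by
          show 0 ≤ B x (a + b)
          rw [map_add]
          exact add_nonneg ha hb }
    refine ConvexCone.hull_min (C := C) ?_ hy
    rintro _ ⟨L, hL, hA, rfl⟩
    exact SurfNefCone.nef_ample hdim hB hx hA
  refine SurfNefCone.mem_ampleCone hdim hB ?_ fun I a b c => ?_
  · have h1 := SurfNefCone.self_nonneg hdim hB hx
    simp only [map_add, LinearMap.add_apply, SurfCone.form_comm hdim hB y x]
    linarith [hyP.1]
  · rw [map_add, LinearMap.add_apply]
    have h1 := hx I a b c
    have h2 := SurfNefCone.ample_deg_pos hdim hB hy I a b c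
    linarith

end Groth.Agent.S19731
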