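import Groth.Statements.S19733
import Groth.Agent.Lib.SurfNefCone
import Mathlib.LinearAlgebra.Basis.VectorSpace

set_option autoImplicit false
set_option backward.isDefEq.respectTransparency false
set_option backward.isDefEq.respectTransparency.types false
set_option linter.style.haveILetI false
set_option linter.unusedSectionVars false
set_option maxHeartbeats 400000
universe u
open CategoryTheory CategoryTheory.Limits AlgebraicGeometry TopologicalSpace
open Surf

namespace Groth.Agent.S19733

open Groth.Agent.H23
attribute [local instance] PicMul.clMonoid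

/-- Let k be an algebraically closed field of characteristic zero and X a smooth projective surface over
k (integral, proper and smooth over k, of dimension 2, with an ample invertible module); the notes
work over the complex numbers. Fix a group law on the Picard set of X, and let B be the intersection
form on N¹(X)_ℝ = ℝ ⊗ (Pic X modulo numerical equivalence), the real bilinear form whose value on
the classes of invertible modules L, M is (L·M) = χ(O_X) − χ(L) − χ(M) + χ(L ⊗ M). Real divisors are
finite real combinations of integral curves on X (quasi-coherent ideals with integral closed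
subscheme of one-dimensional support and invertible ideal module); such a real divisor is ample when
it is a combination with positive real coefficients of integral divisors E_i whose Picard classes
[O_X(E_i)] are classes of ample invertible modules, and numerically trivial when its class pairs to
zero under B with the class of every integral divisor. If D is an ample real divisor and D′ is a
real divisor with D′ − D numerically trivial, then D′ is ample. -/
theorem result (k : Type u) [Field k] [IsAlgClosed k] [CharZero k]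
    (X : Scheme.{u}) [X.Over (Spec (CommRingCat.of k))] [IsProper (X ↘ (Spec (CommRingCat.of k)))]
    [Smooth (X ↘ (Spec (CommRingCat.of k)))] [AlgebraicGeometry.IsIntegral X] (hdim : topologicalKrullDim X = 2)
    (hproj : ∃ H : X.Modules, CohB1.IsAmple H) [PicGrp.Law X]
    (B : NumR.N1R k X →ₗ[ℝ] NumR.N1R k X →ₗ[ℝ] ℝ) (hB : NumR.IsIntForm₂ k X B)
    (D D' : NumR.CDivR X) (hD : NumR.IsAmpleRDiv X D) (h : NumR.IsNumTrivialRDiv k X B (D' - D)) :
    NumR.IsAmpleRDiv X D' := by
  classical
  have hcurveCl : ∀ C : NumR.Curve X, NumR.divClR k X (NumR.CDiv.toR X (Finsupp.single C 1)) =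
      NumR.curveCl k X C.1 C.2.2.2 := fun C => by
    simp [NumR.CDiv.toR, NumR.divClR]
  have hmod : ∀ E : NumR.CDiv X, ∃ (M : X.Modules) (hM : PicF.IsInvertible M),
      Additive.ofMul (PicGrp.cls M hM) = NumR.divCl X E ∧
        NumR.divClR k X (NumR.CDiv.toR X E) = NumR.clR k X M hM := fun E => by
    obtain ⟨M, hM, e⟩ := PicGrp.exists_eq_cls (Additive.toMul (NumR.divCl X E))
    have e' : Additive.ofMul (PicGrp.cls M hM) = NumR.divCl X E := by rw [← e]; rfl
    refine ⟨M, hM, e', ?_⟩
    rw [NumR.divClR_toR, ← e']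
    rfl
  let Amp : NumR.CDiv X → Prop := fun E => ∃ (L : X.Modules) (hL : PicF.IsInvertible L),
    CohB1.IsAmple L ∧ Additive.ofMul (PicGrp.cls L hL) = NumR.divCl X E
  let Null : NumR.CDiv X → Prop := fun G => ∀ F : NumR.CDiv X,
    B (NumR.divClR k X (NumR.CDiv.toR X G)) (NumR.divClR k X (NumR.CDiv.toR X F)) = 0
  have hshift : ∀ E G : NumR.CDiv X, Amp E → Null G → Amp (E + G) := by
    rintro E G ⟨L, hL, hA, hLE⟩ hG
    obtain ⟨M, hM, hME, hMR⟩ := hmod (E + G)
    have hLR : NumR.divClR k X (NumR.CDiv.toR X E) = NumR.clR k X L hL := by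
      rw [NumR.divClR_toR, ← hLE]
      rfl
    rw [map_add, map_add, hLR] at hMR
    refine ⟨M, hM, Nakai.isAmple_of_surface k hdim hM ?_ fun Z hZ hZd => ?_, hME⟩
    · have h1 : (0 : ℝ) < B (NumR.clR k X M hM) (NumR.clR k X M hM) := by
        have h2 := SurfCone.form_self_pos hdim hB hA
        have h3 := hG E
        rw [hLR] at h3
        have h4 := hG G
        rw [← hMR]
        simp only [map_add, LinearMap.add_apply, SurfCone.form_comm hdim hB (NumR.clR k X L hL) (NumR.divClR k X (NumR.CDiv.toR X G)), h3, h4, add_zero]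
        exact h2
      rw [SurfCone.form_eq hdim hB hM hM] at h1
      exact_mod_cast h1
    · haveI := hZ
      have hI := SurfNefCone.invertible_ideal (k := k) hdim hZ hZd
      have h1 := hG (Finsupp.single ⟨Z, hZ, hZd, hI⟩ 1)
      rw [hcurveCl] at h1
      have h2 : B (NumR.clR k X M hM) (NumR.curveCl k X Z hI) = B (NumR.clR k X L hL) (NumR.curveCl k X Z hI) := by
        rw [← hMR, map_add, LinearMap.add_apply, h1, add_zero]
      rw [SurfNefCone.form_curve hdim hB hM Z hI, SurfNefCone.form_curve hdim hB hL Z hI, neg_inj, Int.cast_inj] at h2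
      have h3 := SurfNegDef.pair_curve_ample_neg (k := k) hdim (SurfHodge.regular k) hZd hA
      have h4 := CurveOnSurf.pair_ideal (k := k) Z.subschemeι hM (by rw [Scheme.IdealSheafData.ker_subschemeι]; exact hI)
      rw [Scheme.IdealSheafData.ker_subschemeι, h2] at h4
      linarith
  have hNz : ∀ (G : NumR.CDiv X) (z : ℤ), Null G → Null (z • G) := fun G z hG F => by
    rw [map_zsmul, map_zsmul, map_zsmul, LinearMap.smul_apply, hG F, smul_zero]
  have hadd : ∀ (D : NumR.CDivR X) (G : NumR.CDiv X) (r : ℝ), NumR.IsAmpleRDiv X D → Null G →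
      NumR.IsAmpleRDiv X (D + r • NumR.CDiv.toR X G) := by
    rintro D G r ⟨n, E, t, hn, ht, hE, rfl⟩ hG
    obtain ⟨m, rfl⟩ : ∃ m, n = m + 1 := ⟨n - 1, by omega⟩
    obtain ⟨p, hp⟩ := exists_nat_gt (|r| / t 0)
    have hp0 : (0 : ℝ) < p := (div_nonneg (abs_nonneg r) (ht 0).le).trans_lt hp
    have hrp : |r / p| < t 0 := by
      rw [abs_div, abs_of_pos hp0, div_lt_iff₀ hp0]
      rw [div_lt_iff₀ (ht 0)] at hp
      linarith
    obtain ⟨hr1, hr2⟩ := abs_lt.1 hrp
    refine ⟨m + 2, Fin.cons (E 0 + (p : ℤ) • G) (Fin.cons (E 0 + (-(p : ℤ)) • G) fun i => E i.succ),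
      Fin.cons ((t 0 + r / p) / 2) (Fin.cons ((t 0 - r / p) / 2) fun i => t i.succ), by omega, ?_, ?_, ?_⟩
    · refine Fin.cases ?_ (Fin.cases ?_ fun i => ?_)
      · simp only [Fin.cons_zero]; linarith
      · simp only [Fin.cons_succ, Fin.cons_zero]; linarith
      · simp only [Fin.cons_succ]; exact ht _
    · refine Fin.cases ?_ (Fin.cases ?_ fun i => ?_)
      · simp only [Fin.cons_zero]; exact hshift _ _ (hE 0) (hNz G _ hG)
      · simp only [Fin.cons_succ, Fin.cons_zero]; exact hshift _ _ (hE 0) (hNz G _ hG)
      · simp only [Fin.cons_succ]; exact hE _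
    · simp only [Fin.sum_univ_succ, Fin.cons_zero, Fin.cons_succ, map_add, map_zsmul]
      simp only [← Int.cast_smul_eq_zsmul ℝ, Int.cast_neg, Int.cast_natCast, smul_add, smul_smul]
      match_scalars <;> field_simp <;> ring
  -- split the numerically trivial real divisor over a rational basis of `ℝ`
  let b := Module.Basis.ofVectorSpace ℚ ℝ
  let R := D' - D
  let M : Finset _ := R.support.biUnion fun C => (b.repr (R C)).support
  have hq : ∀ m, ∃ (N : ℤ) (G : NumR.CDiv X), N ≠ 0 ∧ (∀ C, (G C : ℚ) = (N : ℚ) * b.repr (R C) m) ∧ Null G := by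
    intro m
    obtain ⟨⟨N, hN⟩, hr⟩ := IsLocalization.exist_integer_multiples (nonZeroDivisors ℤ) R.support fun C => b.repr (R C) m
    have hN0 : N ≠ 0 := nonZeroDivisors.ne_zero hN
    have hr' : ∀ C, ∃ a : ℤ, (a : ℚ) = (N : ℚ) * b.repr (R C) m := fun C => by
      by_cases hC : C ∈ R.support
      · obtain ⟨a, ha⟩ := hr C hC
        refine ⟨a, ?_⟩
        simp only [algebraMap_int_eq, eq_intCast, zsmul_eq_mul] at ha
        exact ha
      · exact ⟨0, by simp [Finsupp.notMem_support_iff.1 hC]⟩
    choose a ha using hr'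
    let G : NumR.CDiv X := Finsupp.onFinset R.support a fun C hC => by
      by_contra hC'
      apply hC
      have := ha C
      rw [Finsupp.notMem_support_iff.1 hC'] at this
      simpa using this
    refine ⟨N, G, hN0, ha, fun F => ?_⟩
    -- integrality of the pairings
    obtain ⟨MF, hMF, -, hMFR⟩ := hmod F
    let z : NumR.Curve X → ℤ := fun C => -SurfPairing.pair k (PicF.cl (ClSub.idealMod C.1)) (PicF.cl MF)
    have hz : ∀ C, B (NumR.curveCl k X C.1 C.2.2.2) (NumR.clR k X MF hMF) = (z C : ℝ) := fun C => by
      rw [SurfCone.form_comm hdim hB, SurfNefCone.form_curve hdim hB hMF C.1 C.2.2.2]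
      simp [z]
    have hlin : ∀ (S : Finset (NumR.Curve X)) (f : NumR.CDivR X), f.support ⊆ S →
        B (NumR.divClR k X f) (NumR.clR k X MF hMF) = ∑ C ∈ S, f C * (z C : ℝ) := fun S f hf => by
      rw [NumR.divClR, Finsupp.linearCombination_apply, Finsupp.sum_of_support_subset f hf _ (by simp),
        map_sum, LinearMap.sum_apply]
      exact Finset.sum_congr rfl fun C _ => by rw [map_smul, LinearMap.smul_apply, smul_eq_mul, hz]
    have h0 : ∑ C ∈ R.support, R C * (z C : ℝ) = 0 := by
      rw [← hlin R.support R subset_rfl, ← hMFR]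
      exact h F
    have h1 : ∑ C ∈ R.support, b.repr (R C) m * (z C : ℚ) = 0 := by
      have h2 := congrArg (fun y : ℝ => b.repr y m) h0
      simp only [map_zero, Finsupp.coe_zero, Pi.zero_apply, map_sum, Finsupp.finsetSum_apply] at h2
      rw [← h2]
      refine Finset.sum_congr rfl fun C _ => ?_
      rw [show R C * (z C : ℝ) = z C • R C from by rw [zsmul_eq_mul, mul_comm], map_zsmul, Finsupp.smul_apply, zsmul_eq_mul, mul_comm]
    rw [hMFR, hlin R.support (NumR.CDiv.toR X G) (fun C hC => by
      rw [Finsupp.mem_support_iff] at hC ⊢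
      intro h0
      apply hC
      have := ha C
      rw [h0] at this
      simp at this
      simp [NumR.CDiv.toR, G, this])]
    have h3 : ((∑ C ∈ R.support, (N : ℚ) * b.repr (R C) m * (z C : ℚ) : ℚ) : ℝ) = 0 := by
      simp only [mul_assoc, ← Finset.mul_sum, h1]
      simp
    rw [← h3, Rat.cast_sum]
    refine Finset.sum_congr rfl fun C _ => ?_
    rw [← ha C]
    simp [NumR.CDiv.toR, G]
  choose N G hN hGC hG using hq
  have hR : R = ∑ m ∈ M, (b m / (N m : ℝ)) • NumR.CDiv.toR X (G m) := by
    ext C
    rw [Finsupp.finsetSum_apply]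
    have h1 : ∀ m, ((b m / (N m : ℝ)) • NumR.CDiv.toR X (G m)) C = b.repr (R C) m • b m := fun m => by
      have h2 : ((G m C : ℤ) : ℝ) = (N m : ℝ) * (b.repr (R C) m : ℝ) := by exact_mod_cast congrArg (Rat.cast : ℚ → ℝ) (hGC m C)
      have h4 : (N m : ℝ) ≠ 0 := Int.cast_ne_zero.2 (hN m)
      rw [Finsupp.smul_apply, Rat.smul_def, smul_eq_mul, show (NumR.CDiv.toR X (G m)) C = ((G m C : ℤ) : ℝ) by simp [NumR.CDiv.toR], h2]
      field_simp
    simp only [h1]
    by_cases hC : C ∈ R.support
    · conv_lhs => rw [← b.linearCombination_repr (R C)]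
      rw [Finsupp.linearCombination_apply]
      exact Finsupp.sum_of_support_subset _ (fun m hm => Finset.mem_biUnion.2 ⟨C, hC, hm⟩) _ (by simp)
    · simp [Finsupp.notMem_support_iff.1 hC]
  have hfin : ∀ S : Finset _, NumR.IsAmpleRDiv X (D + ∑ m ∈ S, (b m / (N m : ℝ)) • NumR.CDiv.toR X (G m)) := by
    intro S
    induction S using Finset.induction_on with
    | empty => simpa using hD
    | insert m S hm ih =>
      rw [Finset.sum_insert hm, add_comm _ (∑ x ∈ S, _), ← add_assoc]
      exact hadd _ _ _ ih (hG m)
  have := hfin M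
  rwa [← hR, add_sub_cancel] at this

end Groth.Agent.S19733
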