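import Groth.Statements.S19734
import Groth.Agent.Lib.SurfNefCone

set_option autoImplicit false
set_option backward.isDefEq.respectTransparency false
set_option backward.isDefEq.respectTransparency.types false
set_option linter.style.haveILetI false
set_option linter.unusedSectionVars false
set_option maxHeartbeats 400000
universe u
open CategoryTheory CategoryTheory.Limits AlgebraicGeometry TopologicalSpace
open Surf

namespace Groth.Agent.S19734

open Groth.Agent.H23
open Topology
attribute [local instance] PicMul.clMonoid

/-- Let k be an algebraically closed field of characteristic zero and X a smooth projective surface over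
k (integral, proper and smooth over k, of dimension 2, with an ample invertible module); the notes
work over the complex numbers. Fix a group law on the Picard set of X, and let B be the intersection
form on N¹(X)_ℝ = ℝ ⊗ (Pic X modulo numerical equivalence), the real bilinear form whose value on
the classes of invertible modules L, M is (L·M) = χ(O_X) − χ(L) − χ(M) + χ(L ⊗ M); assume N¹(X)_ℝ is
finite-dimensional. Let A(X) be the ample cone (generated by the classes of ample invertible
modules), H an ample invertible module and C₊ = {x : B(x, x) > 0, B(x, [H]) > 0} the positive cone,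
which contains A(X). Then the closure of A(X) in N¹(X)_ℝ is {x : B(x, x) ≥ 0 and B(x, [C]) ≥ 0 for
every integral curve C ⊆ X}, and the closure of A(X) inside C₊, that is the closure intersected with
C₊, is {x : B(x, x) > 0 and B(x, [C]) ≥ 0 for every integral curve C}; here C runs over
quasi-coherent ideals with integral closed subscheme of one-dimensional support and invertible ideal
module, and [C] is minus the class of the ideal. -/
theorem result (k : Type u) [Field k] [IsAlgClosed k] [CharZero k]
    (X : Scheme.{u}) [X.Over (Spec (CommRingCat.of k))] [IsProper (X ↘ (Spec (CommRingCat.of k)))]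
    [Smooth (X ↘ (Spec (CommRingCat.of k)))] [AlgebraicGeometry.IsIntegral X] (hdim : topologicalKrullDim X = 2)
    (hproj : ∃ H : X.Modules, CohB1.IsAmple H) [PicGrp.Law X] [Module.Finite ℝ (NumR.N1R k X)]
    (B : NumR.N1R k X →ₗ[ℝ] NumR.N1R k X →ₗ[ℝ] ℝ) (hB : NumR.IsIntForm₂ k X B) (H : X.Modules) (hH : CohB1.IsAmple H) :
    closure (NumR.ampleCone k X : Set (NumR.N1R k X)) = {x | 0 ≤ B x x ∧ x ∈ NumR.nefCone₂ k X B} ∧
      closure (NumR.ampleCone k X : Set (NumR.N1R k X)) ∩ NumR.posCone k X B H hH.1 =
        {x | 0 < B x x ∧ x ∈ NumR.nefCone₂ k X B} := by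
  set h := NumR.clR k X H hH.1
  have hb : ∀ v : NumR.N1R k X, Continuous fun x : NumR.N1R k X => B x v := fun v =>
    IsModuleTopology.continuous_of_linearMap (B.flip v)
  have hq : Continuous fun x : NumR.N1R k X => B x x := by
    let b := Module.finBasis ℝ (NumR.N1R k X)
    have hco : ∀ i, Continuous fun x : NumR.N1R k X => b.repr x i := fun i =>
      IsModuleTopology.continuous_of_linearMap (b.coord i)
    have heq : (fun x : NumR.N1R k X => B x x) = fun x => ∑ i, b.repr x i * B x (b i) := by
      funext x
      conv_lhs => arg 2; rw [← b.sum_repr x]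
      simp only [map_sum, map_smul, smul_eq_mul]
    rw [heq]
    exact continuous_finsetSum _ fun i _ => (hco i).mul (hb _)
  have key : closure (NumR.ampleCone k X : Set (NumR.N1R k X)) = {x | 0 ≤ B x x ∧ x ∈ NumR.nefCone₂ k X B} := by
    refine Set.Subset.antisymm (closure_minimal (fun z hz => ?_) ?_) (fun x hx => ?_)
    · exact ⟨(SurfNefCone.ampleCone_subset_posCone hdim hB hH hz).1.le,
        fun I a b c => (SurfNefCone.ample_deg_pos hdim hB hz I a b c).le⟩
    · have hnef : IsClosed (NumR.nefCone₂ k X B) := by
        simp only [NumR.nefCone₂, Set.ofPred_forall]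
        exact isClosed_iInter fun I => isClosed_iInter fun _ => isClosed_iInter fun _ => isClosed_iInter fun hI =>
          isClosed_le continuous_const (hb _)
      exact (isClosed_le continuous_const hq).inter hnef
    · have hcont : Continuous fun t : ℝ => x + t • h := by fun_prop
      have h0 : Filter.Tendsto (fun t : ℝ => x + t • h) (𝓝[>] (0 : ℝ)) (𝓝 x) := by
        simpa using (hcont.tendsto 0).mono_left nhdsWithin_le_nhds
      refine mem_closure_of_tendsto h0 (eventually_nhdsWithin_of_forall fun t ht => ?_)
      have ht' : (0 : ℝ) < t := ht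
      refine SurfNefCone.mem_ampleCone hdim hB ?_ fun I a b c => ?_
      · have h1 := SurfNefCone.nef_ample hdim hB hx.2 hH
        have h2 := SurfCone.form_self_pos hdim hB hH
        simp only [map_add, map_smul, LinearMap.add_apply, LinearMap.smul_apply, smul_eq_mul, SurfCone.form_comm hdim hB h x]
        nlinarith [mul_pos (mul_pos ht' ht') h2, mul_nonneg ht'.le h1, hx.1]
      · rw [map_add, LinearMap.add_apply, map_smul, LinearMap.smul_apply, smul_eq_mul]
        have h1 := SurfNefCone.ample_deg_pos hdim hB (SurfNefCone.mem_cone hH.1 hH) I a b c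
        nlinarith [mul_pos ht' h1, hx.2 I a b c]
  refine ⟨key, ?_⟩
  rw [key]
  ext x
  exact ⟨fun ⟨⟨_, hn⟩, hp⟩ => ⟨hp.1, hn⟩, fun ⟨hp, hn⟩ => ⟨⟨hp.le, hn⟩, hp,
    (SurfNefCone.nef_ample hdim hB hn hH).lt_of_ne' (SurfCone.ne_zero_pair hdim hB hH hp)⟩⟩

end Groth.Agent.S19734
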