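import Groth.Statements.S19735
import Groth.Agent.SurfRows.OrthClass
import Groth.Agent.Lib.SurfNefCone

set_option autoImplicit false
set_option backward.isDefEq.respectTransparency false
set_option backward.isDefEq.respectTransparency.types false
set_option linter.style.haveILetI false
set_option linter.unusedSectionVars false
set_option maxHeartbeats 800000
universe u
open CategoryTheory CategoryTheory.Limits AlgebraicGeometry TopologicalSpace
open Surf

namespace Groth.Agent.S19735

open Groth.Agent.H23
attribute [local instance] PicMul.clMonoid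

/-- Let k be an algebraically closed field of characteristic zero and X a smooth projective surface over
k (integral, proper and smooth over k, of dimension 2, with an ample invertible module); the notes
work over the complex numbers. Fix a group law on the Picard set of X, and let B be the intersection
form on N¹(X)_ℝ = ℝ ⊗ (Pic X modulo numerical equivalence), the real bilinear form whose value on
the classes of invertible modules L, M is (L·M) = χ(O_X) − χ(L) − χ(M) + χ(L ⊗ M); assume N¹(X)_ℝ is
finite-dimensional. Let H be an ample invertible module, C₊ = {x : B(x, x) > 0, B(x, [H]) > 0} the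
positive cone and Ā(X) the closure of the ample cone taken inside C₊ (the closure in N¹(X)_ℝ of the
cone spanned by ample classes, intersected with C₊). Let C_1, …, C_r be pairwise distinct integral
curves on X (quasi-coherent ideals I_i with integral closed subscheme of one-dimensional support and
invertible ideal module) with walls W^{C_i} = {x : B(x, [C_i]) = 0}. Then Ā(X) ∩ W^{C_1} ∩ ⋯ ∩
W^{C_r} is non-empty if and only if the curves C_i generate a negative definite sublattice: Σ_{i,j}
a_i a_j (I_i·I_j) < 0 for every nonzero integer vector a, where (I_i·I_j) = χ(O_X) − χ(I_i) − χ(I_j)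
+ χ(I_i ⊗ I_j). (The published statement adds that, when non-empty, this intersection is open in
W^{C_1} ∩ ⋯ ∩ W^{C_r}; that is not correct as published: on the plane blown up in two points, with
C_1 one exceptional curve, the class of a line lies in Ā(X) ∩ W^{C_1} but adding a small positive
multiple of the other exceptional curve leaves Ā(X) while staying in W^{C_1}. What the argument
there yields is a non-empty open subset of the intersection of the walls contained in Ā(X), and that
clause is not restated.) -/
theorem result (k : Type u) [Field k] [IsAlgClosed k] [CharZero k]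
    (X : Scheme.{u}) [X.Over (Spec (CommRingCat.of k))] [IsProper (X ↘ (Spec (CommRingCat.of k)))]
    [Smooth (X ↘ (Spec (CommRingCat.of k)))] [AlgebraicGeometry.IsIntegral X] (hdim : topologicalKrullDim X = 2)
    (hproj : ∃ H : X.Modules, CohB1.IsAmple H) [PicGrp.Law X] [Module.Finite ℝ (NumR.N1R k X)]
    (B : NumR.N1R k X →ₗ[ℝ] NumR.N1R k X →ₗ[ℝ] ℝ) (hB : NumR.IsIntForm₂ k X B) (H : X.Modules) (hH : CohB1.IsAmple H)
    (r : ℕ) (C : Fin r → X.IdealSheafData) (hC : Function.Injective C)
    (hCi : ∀ i, AlgebraicGeometry.IsIntegral (C i).subscheme) (hCd : ∀ i, topologicalKrullDim ((C i).support : Set X) = 1)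
    (hCinv : ∀ i, PicF.IsInvertible (ClSub.idealMod (C i))) :
    (∃ x : NumR.N1R k X, x ∈ closure (NumR.ampleCone k X : Set (NumR.N1R k X)) ∧ x ∈ NumR.posCone k X B H hH.1 ∧
        ∀ i, x ∈ NumR.wall k X B (C i) (hCinv i)) ↔
      (∀ a : Fin r → ℤ, a ≠ 0 →
      ∑ i, ∑ j, a i * a j * FGA.intNum k X 2 ![(ClSub.idealMod (C i)), (ClSub.idealMod (C j))] (Coh.structureModule X) < 0) := by
  classical
  have hpC : ∀ i j, B (NumR.curveCl k X (C i) (hCinv i)) (NumR.curveCl k X (C j) (hCinv j)) =
      (SurfPairing.pair k (PicF.cl (ClSub.idealMod (C i))) (PicF.cl (ClSub.idealMod (C j))) : ℝ) := fun i j => by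
    simp only [NumR.curveCl, map_neg, LinearMap.neg_apply, neg_neg]
    exact SurfCone.form_eq hdim hB (hCinv i) (hCinv j)
  set h := NumR.clR k X H hH.1
  constructor
  · rintro ⟨x, -, ⟨hxx, hxh⟩, hw⟩ a ha
    simp only [SurfPairing.intNum_eq_pair k hdim.le (hCinv _) (hCinv _)]
    let v : (Fin r → ℤ) → NumR.N1R k X := fun b => ∑ i, (b i : ℝ) • NumR.curveCl k X (C i) (hCinv i)
    have hv : ∀ b b', B (v b) (v b') = ((∑ i, ∑ j, b i * b' j *
        SurfPairing.pair k (PicF.cl (ClSub.idealMod (C i))) (PicF.cl (ClSub.idealMod (C j))) : ℤ) : ℝ) := by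
      intro b b'
      simp only [v, map_sum, map_smul, LinearMap.sum_apply, LinearMap.smul_apply, smul_eq_mul, hpC, Int.cast_sum,
        Int.cast_mul, Finset.mul_sum]
      rw [Finset.sum_comm]
      exact Finset.sum_congr rfl fun i _ => Finset.sum_congr rfl fun j _ => by ring
    have horth : ∀ b, B x (v b) = 0 := fun b => by
      simp only [v, map_sum, map_smul]
      exact Finset.sum_eq_zero fun i _ => by
        rw [show B x (NumR.curveCl k X (C i) (hCinv i)) = 0 from hw i, smul_zero]
    have hle := (SurfCone.hodge_of_pos hdim hB hH hxx (horth a)).1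
    rw [hv] at hle
    refine lt_of_le_of_ne (by exact_mod_cast hle) fun h0 => ha ?_
    have hva : v a = 0 := (SurfCone.hodge_of_pos hdim hB hH hxx (horth a)).2 (by rw [hv, h0, Int.cast_zero])
    set p : Fin r → ℤ := fun i => max (a i) 0
    set q : Fin r → ℤ := fun i => max (-a i) 0
    have hpq : v p = v q := by
      rw [← sub_eq_zero, ← hva]
      simp only [v, ← Finset.sum_sub_distrib, ← sub_smul]
      refine Finset.sum_congr rfl fun i _ => ?_
      rw [← Int.cast_sub]
      congr 2
      simp only [p, q]
      omega
    have hpp : 0 ≤ B (v p) (v p) := by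
      have e : B (v p) (v p) = B (v p) (v q) := by rw [← hpq]
      rw [e, hv]
      refine Int.cast_nonneg (Finset.sum_nonneg fun i _ => Finset.sum_nonneg fun j _ => ?_)
      by_cases hij : i = j
      · subst hij
        have : p i * q i = 0 := by
          simp only [p, q]
          rcases le_total (a i) 0 with h' | h'
          · rw [max_eq_right h', zero_mul]
          · rw [max_eq_right (a := -a i) (by omega), mul_zero]
        rw [this, zero_mul]
      · exact mul_nonneg (mul_nonneg (le_max_right _ _) (le_max_right _ _))
          (SurfRows.pair_curves_nonneg k hdim (hCi i) (hCd i) (hCi j) (hCd j) fun e' => hij (hC e'))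
    obtain ⟨hp1, hp2⟩ := SurfCone.hodge_of_pos hdim hB hH hxx (horth p)
    have hp0 : v p = 0 := hp2 (le_antisymm hp1 hpp)
    have hzero : ∀ b : Fin r → ℤ, (∀ i, 0 ≤ b i) → v b = 0 → b = 0 := by
      intro b hb hb0
      have hpos : ∀ i, 0 < B h (NumR.curveCl k X (C i) (hCinv i)) := fun i =>
        SurfNefCone.ample_deg_pos hdim hB (SurfNefCone.mem_cone hH.1 hH) (C i) (hCi i) (hCd i) (hCinv i)
      have h1 : ∑ i, (b i : ℝ) * B h (NumR.curveCl k X (C i) (hCinv i)) = 0 := by
        have h2 : B h (v b) = 0 := by rw [hb0, map_zero]
        simpa only [v, map_sum, map_smul, smul_eq_mul] using h2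
      funext i
      have h3 := (Finset.sum_eq_zero_iff_of_nonneg fun i _ => mul_nonneg (Int.cast_nonneg (hb i)) (hpos i).le).1 h1 i
        (Finset.mem_univ i)
      rcases mul_eq_zero.1 h3 with h4 | h4
      · exact_mod_cast h4
      · exact absurd h4 (hpos i).ne'
    have hp' := hzero p (fun i => le_max_right _ _) hp0
    have hq' := hzero q (fun i => le_max_right _ _) (hpq.symm.trans hp0)
    funext i
    have h1 := congr_fun hp' i
    have h2 := congr_fun hq' i
    simp only [p, q, Pi.zero_apply] at h1 h2 ⊢
    omega
  · intro hneg
    obtain ⟨L, hL, hnef, hLL, hLH, hiff⟩ := SurfRows.exists_orth_class k hdim C hC hCi hCd (fun a ha => by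
      have h := hneg a ha
      simp only [SurfPairing.intNum_eq_pair k hdim.le (hCinv _) (hCinv _)] at h
      exact h) hH
    set x := NumR.clR k X L hL
    have hxx : 0 < B x x := by rw [SurfCone.form_eq hdim hB hL hL]; exact_mod_cast hLL
    have hxh : 0 < B x h := by rw [SurfCone.form_eq hdim hB hL hH.1]; exact_mod_cast hLH
    refine ⟨x, ?_, ⟨hxx, hxh⟩, fun i => ?_⟩
    · have hmem : ∀ t : ℝ, 0 < t → x + t • h ∈ (NumR.ampleCone k X : Set (NumR.N1R k X)) := by
        intro t ht
        refine SurfNefCone.mem_ampleCone hdim hB ?_ fun I hI hId hIi => ?_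
        · simp only [map_add, map_smul, LinearMap.add_apply, LinearMap.smul_apply, smul_eq_mul,
            SurfCone.form_comm hdim hB h x]
          have := SurfCone.form_self_pos hdim hB hH
          nlinarith [mul_pos ht hxh, mul_pos (mul_pos ht ht) this]
        · simp only [map_add, map_smul, LinearMap.add_apply, LinearMap.smul_apply, smul_eq_mul]
          have h1 : 0 < B h (NumR.curveCl k X I hIi) :=
            SurfNefCone.ample_deg_pos hdim hB (SurfNefCone.mem_cone hH.1 hH) I hI hId hIi
          have h2 : 0 ≤ B x (NumR.curveCl k X I hIi) := by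
            rw [SurfNefCone.form_curve hdim hB hL I hIi, neg_nonneg]
            exact_mod_cast hnef I hI hId
          nlinarith [mul_pos ht h1]
      have hc : Filter.Tendsto (fun t : ℝ => x + t • h) (nhdsWithin 0 (Set.Ioi 0)) (nhds x) := by
        have hc' : Continuous fun t : ℝ => x + t • h := by fun_prop
        simpa using (hc'.tendsto 0).mono_left nhdsWithin_le_nhds
      exact mem_closure_of_tendsto hc (Filter.eventually_of_mem self_mem_nhdsWithin fun t ht => hmem t ht)
    · show B x (NumR.curveCl k X (C i) (hCinv i)) = 0
      rw [SurfNefCone.form_curve hdim hB hL (C i) (hCinv i), (hiff (C i) (hCi i) (hCd i)).2 ⟨i, rfl⟩]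
      simp

end Groth.Agent.S19735
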