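import Groth.Statements.S19736
import Groth.Agent.Lib.SurfCone

set_option autoImplicit false
set_option backward.isDefEq.respectTransparency false
set_option backward.isDefEq.respectTransparency.types false
set_option linter.style.haveILetI false
set_option linter.unusedSectionVars false
set_option maxHeartbeats 400000
universe u
open CategoryTheory CategoryTheory.Limits AlgebraicGeometry TopologicalSpace
open Surf

namespace Groth.Agent.S19736

open Groth.Agent.H23
set_option maxHeartbeats 800000

/-- Let k be an algebraically closed field of characteristic zero and X a smooth projective surface over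
k (integral, proper and smooth over k, of dimension 2, with an ample invertible module); the notes
work over the complex numbers. Fix a group law on the Picard set of X, and let B be the intersection
form on N¹(X)_ℝ = ℝ ⊗ (Pic X modulo numerical equivalence), the real bilinear form whose value on
the classes of invertible modules L, M is (L·M) = χ(O_X) − χ(L) − χ(M) + χ(L ⊗ M); assume N¹(X)_ℝ is
finite-dimensional, of dimension the Picard number ρ. If C_1, …, C_r are pairwise distinct integral
curves on X (quasi-coherent ideals I_i with integral closed subscheme of one-dimensional support and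
invertible ideal module) spanning a negative definite sublattice, Σ_{i,j} a_i a_j (I_i·I_j) < 0 for
every nonzero integer vector a with (I_i·I_j) = χ(O_X) − χ(I_i) − χ(I_j) + χ(I_i ⊗ I_j), then r ≤ ρ
− 1. (The published corollary adds that the walls of curves of negative self-intersection form a
locally finite family along the closure of the ample cone in the positive cone; no argument is given
for that clause and it is not restated.) -/
theorem result (k : Type u) [Field k] [IsAlgClosed k] [CharZero k]
    (X : Scheme.{u}) [X.Over (Spec (CommRingCat.of k))] [IsProper (X ↘ (Spec (CommRingCat.of k)))]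
    [Smooth (X ↘ (Spec (CommRingCat.of k)))] [AlgebraicGeometry.IsIntegral X] (hdim : topologicalKrullDim X = 2)
    (hproj : ∃ H : X.Modules, CohB1.IsAmple H) [PicGrp.Law X] [Module.Finite ℝ (NumR.N1R k X)]
    (B : NumR.N1R k X →ₗ[ℝ] NumR.N1R k X →ₗ[ℝ] ℝ) (hB : NumR.IsIntForm₂ k X B)
    (r : ℕ) (C : Fin r → X.IdealSheafData) (hC : Function.Injective C)
    (hCi : ∀ i, AlgebraicGeometry.IsIntegral (C i).subscheme) (hCd : ∀ i, topologicalKrullDim ((C i).support : Set X) = 1)
    (hCinv : ∀ i, PicF.IsInvertible (ClSub.idealMod (C i)))
    (hneg : ∀ a : Fin r → ℤ, a ≠ 0 →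
      ∑ i, ∑ j, a i * a j * FGA.intNum k X 2 ![(ClSub.idealMod (C i)), (ClSub.idealMod (C j))] (Coh.structureModule X) < 0) :
    r + 1 ≤ Module.finrank ℝ (NumR.N1R k X) := by
  obtain ⟨H, hH⟩ := hproj
  refine SurfCone.card_succ_le hdim hB hH (fun i => ClSub.idealMod (C i)) hCinv fun a ha => ?_
  refine lt_of_eq_of_lt (Finset.sum_congr rfl fun i _ => Finset.sum_congr rfl fun j _ => ?_) (hneg a ha)
  rw [SurfPairing.intNum_eq_pair k hdim.le (hCinv i) (hCinv j)]

end Groth.Agent.S19736
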