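import Groth.Statements.S19737
import Groth.Agent.SurfRows.BlowCanon
import Groth.Agent.SurfRows.NumEquiv
import Mathlib.LinearAlgebra.TensorProduct.Prod
import Mathlib.LinearAlgebra.Dimension.Constructions

set_option autoImplicit false
set_option backward.isDefEq.respectTransparency false
set_option backward.isDefEq.respectTransparency.types false
set_option linter.style.haveILetI false
set_option linter.unusedSectionVars false
set_option maxHeartbeats 800000
universe u
open CategoryTheory CategoryTheory.Limits AlgebraicGeometry TopologicalSpace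
open Surf

namespace Groth.Agent.S19737

open Groth.Agent.H23
attribute [local instance] PicMul.clMonoid

/-- With the preceding proposition: let k be an algebraically closed field of characteristic zero and X
a smooth projective surface over k (integral, proper and smooth over k, of dimension 2, with an
ample invertible module); the notes work over the complex numbers. Let x be a closed point of X and
π : X′ → X a blowing up of X in the ideal of x (characterised by its universal property), where X′
is again integral of dimension 2 with an ample invertible module and its structure morphism to Spec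
k is π followed by that of X, proper and smooth. Fix group laws on the Picard sets of X and X′ such
that pullback along π is multiplicative on classes, and let N¹(−)_ℝ = ℝ ⊗ (Pic modulo numerical
equivalence). If N¹(X)_ℝ is finite-dimensional, then N¹(X′)_ℝ is finite-dimensional and dim_ℝ
N¹(X′)_ℝ = dim_ℝ N¹(X)_ℝ + 1: the Picard number goes up by one, N¹(X′) being the direct sum of the
pullback of N¹(X) and the class of the exceptional curve. -/
theorem result (k : Type u) [Field k] [IsAlgClosed k] [CharZero k]
    (X : Scheme.{u}) [X.Over (Spec (CommRingCat.of k))] [IsProper (X ↘ (Spec (CommRingCat.of k)))]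
    [Smooth (X ↘ (Spec (CommRingCat.of k)))] [AlgebraicGeometry.IsIntegral X] (hdim : topologicalKrullDim X = 2)
    (hproj : ∃ H : X.Modules, CohB1.IsAmple H)
    (x : X) (hx : IsClosed ({x} : Set X))
    (X' : Scheme.{u}) [X'.Over (Spec (CommRingCat.of k))] (π : X' ⟶ X)
    (hover : X' ↘ (Spec (CommRingCat.of k)) = π ≫ (X ↘ (Spec (CommRingCat.of k))))
    (hπ : BlowUp.IsBlowUp π (Scheme.IdealSheafData.vanishingIdeal ⟨{x}, hx⟩))
    [AlgebraicGeometry.IsIntegral X'] (hdim' : topologicalKrullDim X' = 2) (hproj' : ∃ H' : X'.Modules, CohB1.IsAmple H')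
    [IsProper (X' ↘ (Spec (CommRingCat.of k)))] [Smooth (X' ↘ (Spec (CommRingCat.of k)))]
    [PicGrp.Law X] [PicGrp.Law X'] (hπm : PicGrp.PullMul π) [Module.Finite ℝ (NumR.N1R k X)] :
    Module.Finite ℝ (NumR.N1R k X') ∧
      Module.finrank ℝ (NumR.N1R k X') = Module.finrank ℝ (NumR.N1R k X) + 1 := by
  have hov := hover
  let I := BlowUp.exceptional π (Scheme.IdealSheafData.vanishingIdeal ⟨{x}, hx⟩)
  obtain ⟨hIi, h0, h1⟩ := SurfRows.blowPt_exc k x hx π hov hπ hdim hdim'
  obtain ⟨H, hH⟩ := hproj
  let e : NumR.N1 k X' := NumR.cl k X' (ClSub.idealMod I) hIi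
  -- pairing with powers of the exceptional class
  have hpow : ∀ {A : X'.Modules}, PicF.IsInvertible A → ∀ (j : ℕ) {B : X'.Modules}, PicF.IsInvertible B →
      SurfPairing.pair k (PicF.cl A) (PicF.cl B * PicF.cl (ClSub.idealMod I) ^ j) =
        SurfPairing.pair k (PicF.cl A) (PicF.cl B) + j * SurfPairing.pair k (PicF.cl A) (PicF.cl (ClSub.idealMod I)) := by
    intro A hA j
    induction j with
    | zero => intro B hB; simp
    | succ j ih =>
      intro B hB
      have := ih (PicMul.isInvertible_tensor hB hIi)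
      rw [PicMul.cl_tensor, SurfPairing.pair_mul k hdim'.le hA hB hIi] at this
      rw [pow_succ', ← mul_assoc, this]
      push_cast
      ring
  have horth : ∀ (L : X.Modules), PicF.IsInvertible L →
      (∀ N : X.Modules, PicF.IsInvertible N → SurfPairing.pair k (PicF.cl L) (PicF.cl N) = 0) →
      ∀ M : X'.Modules, PicF.IsInvertible M →
        SurfPairing.pair k (PicF.cl ((Scheme.Modules.pullback π).obj L)) (PicF.cl M) = 0 := by
    intro L hL hz M hM
    obtain ⟨N, hN, a, b, hab⟩ := SurfRows.blowPt_pic_gen k x hx π hov hπ hdim hdim' hM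
    have hπL := PicClLib.isInvertible_pullback π hL
    have hh := hpow hπL a hM
    rw [hab, hpow hπL b (PicClLib.isInvertible_pullback π hN),
      SurfRows.blowPt_pair k x hx π hov hπ hdim hdim' hH hL hN, hz N hN,
      SurfPairing.pair_comm k _ (PicF.cl (ClSub.idealMod I)),
      show SurfPairing.pair k (PicF.cl (ClSub.idealMod I)) (PicF.cl ((Scheme.Modules.pullback π).obj L)) = 0 from h0 L hL] at hh
    simpa using hh.symm
  have hle : PicGrp.subCl (Y := X) (Pic13.IsNumEquivZero k X) ≤
      (PicGrp.subCl (Y := X') (Pic13.IsNumEquivZero k X')).comap (PicGrp.pullHom π hπm) := by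
    intro c hc
    obtain ⟨L, hL, rfl⟩ := PicGrp.exists_eq_cls c
    rw [SurfRows.mem_subCl_iff hdim] at hc
    rw [Subgroup.mem_comap, PicGrp.pullHom_cls, SurfRows.mem_subCl_iff hdim']
    exact horth L hL hc
  let g0 : NumR.N1 k X →+ NumR.N1 k X' := MonoidHom.toAdditive (QuotientGroup.map _ _ (PicGrp.pullHom π hπm) hle)
  have hg0 : ∀ (L : X.Modules) (hL : PicF.IsInvertible L),
      g0 (NumR.cl k X L hL) = NumR.cl k X' ((Scheme.Modules.pullback π).obj L) (PicLoc.isInvertible_pullback π hL) :=
    fun L hL => congrArg (fun c => NumR.toN1 k X' (Additive.ofMul c)) (PicGrp.pullHom_cls π hπm L hL)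
  let g : NumR.N1 k X × ℤ →+ NumR.N1 k X' := g0.coprod (zmultiplesHom _ e)
  have hgpow : ∀ (j : ℕ), ((PicGrp.cls (ClSub.idealMod I) hIi) ^ j : PicLoc.PicSet X').1 =
      PicF.cl (ClSub.idealMod I) ^ j := fun j => by rw [PicGrp.cls_pow_val, PicMul.cl_tensorPow]
  have hsurj : Function.Surjective g := by
    intro y
    obtain ⟨M, hM, rfl⟩ := NumR.exists_eq_cl y
    obtain ⟨L, hL, a, b, hab⟩ := SurfRows.blowPt_pic_gen k x hx π hov hπ hdim hdim' hM
    refine ⟨(NumR.cl k X L hL, (b : ℤ) - a), ?_⟩
    show g0 (NumR.cl k X L hL) + ((b : ℤ) - a) • e = _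
    rw [hg0, sub_smul, natCast_zsmul, natCast_zsmul, ← add_sub_assoc, sub_eq_iff_eq_add]
    simp only [e, NumR.cl, ← map_nsmul, ← map_add]
    congr 1
    apply Additive.toMul.injective
    simp only [toMul_add, toMul_nsmul, toMul_ofMul]
    apply Subtype.ext
    rw [PicGrp.mul_val, PicGrp.mul_val, hgpow, hgpow, PicGrp.cls_val, PicGrp.cls_val]
    exact hab.symm
  have hinj : Function.Injective g := by
    rw [injective_iff_map_eq_zero]
    rintro ⟨y, n⟩ hy
    obtain ⟨L, hL, rfl⟩ := NumR.exists_eq_cl y
    change g0 (NumR.cl k X L hL) + n • e = 0 at hy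
    rw [hg0] at hy
    simp only [e, NumR.cl, ← map_zsmul, ← map_add] at hy
    have hmem := (QuotientGroup.eq_one_iff _).1 hy
    rw [SurfRows.mem_subCl_iff hdim'] at hmem
    have hπL := PicClLib.isInvertible_pullback π hL
    have hval : ∀ M : X'.Modules, PicF.IsInvertible M →
        SurfPairing.pair k (PicF.cl M) (PicF.cl ((Scheme.Modules.pullback π).obj L)) +
          n * SurfPairing.pair k (PicF.cl M) (PicF.cl (ClSub.idealMod I)) = 0 := by
      intro M hM
      have hm := hmem M hM
      rcases Int.eq_nat_or_neg n with ⟨j, rfl | rfl⟩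
      · change SurfPairing.pair k (PicGrp.cls _ (PicLoc.isInvertible_pullback π hL) * PicGrp.cls _ hIi ^ (j : ℤ) : PicLoc.PicSet X').1 _ = 0 at hm
        simp only [zpow_natCast] at hm
        rw [PicGrp.mul_val, hgpow, PicGrp.cls_val, SurfPairing.pair_comm] at hm
        rw [← hpow hM j hπL]
        exact hm
      · obtain ⟨J, hJ, e'⟩ := PicInv.exists_inverse hIi
        obtain ⟨ee⟩ := e'
        change SurfPairing.pair k (PicGrp.cls _ (PicLoc.isInvertible_pullback π hL) * PicGrp.cls _ hIi ^ (-(j : ℤ)) : PicLoc.PicSet X').1 _ = 0 at hm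
        simp only [zpow_neg, zpow_natCast] at hm
        rw [← inv_pow, PicGrp.cls_inv_eq_cls hIi hJ ⟨ee⟩, PicGrp.mul_val, PicGrp.cls_pow_val, PicGrp.cls_val,
          SurfPairing.pair_comm] at hm
        have hc : PicF.cl (ClSub.idealMod I) * PicF.cl J = 1 := by
          rw [← PicMul.cl_tensor, PicMul.one_def]
          exact PicMul.cl_eq_iff.2 ⟨ee⟩
        have hh := hpow hM j (PicMul.isInvertible_tensor hπL (PicMul.isInvertible_tensorPow hJ j))
        rw [PicMul.cl_tensor, PicMul.cl_tensorPow, mul_assoc, ← mul_pow, mul_comm (PicF.cl J), hc, one_pow, mul_one] at hh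
        have hm' : SurfPairing.pair k (PicF.cl M) (PicF.cl ((Scheme.Modules.pullback π).obj L) * PicF.cl J ^ j) = 0 := by
          rw [← PicMul.cl_tensorPow]
          exact hm
        rw [hm'] at hh
        push_cast
        linarith
    have hn : n = 0 := by
      have := hval _ hIi
      rw [show SurfPairing.pair k (PicF.cl (ClSub.idealMod I)) (PicF.cl (ClSub.idealMod I)) = -1 from h1,
        show SurfPairing.pair k (PicF.cl (ClSub.idealMod I)) (PicF.cl ((Scheme.Modules.pullback π).obj L)) = 0 from h0 L hL] at this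
      omega
    subst hn
    refine Prod.ext ?_ rfl
    refine NumR.cl_eq_zero hL ((SurfRows.numEquiv_iff hdim hL).2 fun N hN => ?_)
    have := hval _ (PicClLib.isInvertible_pullback π hN)
    rw [zero_mul, add_zero, SurfPairing.pair_comm, SurfRows.blowPt_pair k x hx π hov hπ hdim hdim' hH hL hN] at this
    exact this
  let E : (NumR.N1 k X × ℤ) ≃ₗ[ℤ] NumR.N1 k X' := (AddEquiv.ofBijective g ⟨hinj, hsurj⟩).toIntLinearEquiv
  let F : NumR.N1R k X' ≃ₗ[ℝ] NumR.N1R k X × ℝ :=
    (TensorProduct.AlgebraTensorModule.congr (LinearEquiv.refl ℝ ℝ) E.symm) ≪≫ₗ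
      (TensorProduct.prodRight ℤ ℝ ℝ (NumR.N1 k X) ℤ) ≪≫ₗ
      (LinearEquiv.prodCongr (LinearEquiv.refl ℝ _) (TensorProduct.AlgebraTensorModule.rid ℤ ℝ ℝ))
  haveI : Module.Finite ℝ (NumR.N1R k X × ℝ) := inferInstance
  refine ⟨Module.Finite.equiv F.symm, ?_⟩
  rw [F.finrank_eq, Module.finrank_prod, Module.finrank_self]

end Groth.Agent.S19737
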