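import Groth.Statements.S19738
import Groth.Agent.PsefCpt.Func
import Groth.Agent.PsefCpt.Lattice
-- import your own Groth.Agent.* helpers here

set_option autoImplicit false
universe u
open CategoryTheory CategoryTheory.Limits AlgebraicGeometry
open Variety
open Groth.Agent

namespace Groth.Agent.S19738

/-- Let X be a normal, geometrically integral scheme, proper over a field k and admitting an ample
invertible module (a normal geometrically integral projective variety over k). Fix a group law on
the Picard set of X and let N¹(X)_ℝ = ℝ ⊗ (Pic X modulo numerical equivalence) with its topology as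
a real vector space, assumed finite-dimensional (the Néron–Severi group is taken finitely generated
in the text). Let Psef(X) ⊆ N¹(X)_ℝ be the pseudo-effective cone, the closure of the convex cone
spanned by the classes of invertible modules having a nonzero global section. Then Psef(X) has a
compact basis: for every δ ∈ Psef(X) the set {δ′ ∈ Psef(X) : δ − δ′ ∈ Psef(X)} is compact. -/
theorem result (k : Type u) [Field k] (X : Scheme.{u})
    [X.Over (Spec (CommRingCat.of k))] [AlgebraicGeometry.IsIntegral X] [GeometricallyIntegral (X ↘ Spec (CommRingCat.of k))]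
    [IsProper (X ↘ Spec (CommRingCat.of k))] (hnorm : Pi1.IsNormalScheme X) (hproj : ∃ A : X.Modules, CohB1.IsAmple A)
    [PicGrp.Law X] [Module.Finite ℝ (NumR.N1R k X)]
    (δ : NumR.N1R k X) (hδ : δ ∈ NumR.psefCone k X) :
    IsCompact {δ' : NumR.N1R k X | δ' ∈ NumR.psefCone k X ∧ δ - δ' ∈ NumR.psefCone k X} := by
  obtain ⟨H, hH⟩ := hproj
  have hdeg := VarDim.topologicalKrullDim_eq_deg_genericPoint (X ↘ Spec (CommRingCat.of k))
  cases hd : VarDim.deg (X ↘ Spec (CommRingCat.of k)) (genericPoint X) with
  | zero =>
    rw [hd] at hdeg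
    refine Groth.Agent.PsefCpt.isCompact_interval (ι := PEmpty.{1}) (fun i => i.elim) (fun i => i.elim)
      (fun i => i.elim) (fun L hL _ C ι hι hC hCd => ?_) δ
    have h := ι.isClosedEmbedding.isInducing.topologicalKrullDim_le
    rw [hdeg, hCd] at h
    exact absurd h (by simp)
  | succ r =>
    rw [hd] at hdeg
    refine Groth.Agent.PsefCpt.isCompact_interval
      (ι := {M : Fin r → X.Modules // ∀ i, CohB1.IsAmple (M i)})
      (fun M => Groth.Agent.PsefCpt.numR k hdeg.le fun i => (M.2 i).1)
      (fun M L hL => ⟨_, Groth.Agent.PsefCpt.numR_clR k hdeg.le _ hL⟩)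
      (fun M L hL hs => ?_) (fun L hL h => ?_) δ
    · rw [Groth.Agent.PsefCpt.numR_clR]
      exact_mod_cast Groth.Agent.PsefCpt.num_nonneg k hdeg M.2 hL hs
    · refine Groth.Agent.PsefCpt.numTriv_of_num_eq_zero k hdeg hH hL fun M hM => ?_
      have h1 := h ⟨M, hM⟩
      rw [Groth.Agent.PsefCpt.numR_clR] at h1
      exact_mod_cast h1

end Groth.Agent.S19738
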