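import Groth.Agent.BigConeLib.Basic
import Groth.Statements.S19739
-- import your own Groth.Agent.* helpers here

set_option autoImplicit false
open CategoryTheory CategoryTheory.Limits AlgebraicGeometry
open PosLin

namespace Groth.Agent.S19739

/-- Let X be a projective variety over the complex numbers (an integral scheme, proper over ℂ, with an
ample invertible module), fix a group law on its Picard set and let N¹(X)_ℝ = ℝ ⊗ (Pic X modulo
numerical equivalence). Call an invertible module L big when every ample invertible module A admits
a monomorphism A → L^⊗m for some m > 0 (the form of bigness of an integral divisor used in the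
text's proofs), and let Big(X), Amp(X), Eff(X) ⊆ N¹(X)_ℝ be the convex cones generated by the
classes of big, of ample, and of invertible modules with a nonzero global section respectively
(positive real combinations; the class of O_X lies in Eff(X)). Then a class x lies in Big(X) if and
only if x = a + e with a ∈ Amp(X) and e ∈ Eff(X): a real divisor class is big exactly when it is the
class of an ample plus an effective real divisor. -/
theorem result (X : Scheme.{0}) [X.Over (Spec (CommRingCat.of ℂ))]
    [AlgebraicGeometry.IsIntegral X] [IsProper (X ↘ Spec (CommRingCat.of ℂ))] (H : X.Modules) (hH : CohB1.IsAmple H)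
    [PicGrp.Law X] (x : NumR.N1R ℂ X) :
    x ∈ (NumR.coneOf ℂ X (fun L : X.Modules => ∀ A : X.Modules, CohB1.IsAmple A → ∃ (m : ℕ) (φ : A ⟶ CohB1.tensorPow L m), 0 < m ∧ Mono φ) : Set (NumR.N1R ℂ X)) ↔
      ∃ a ∈ (NumR.ampleCone ℂ X : Set (NumR.N1R ℂ X)), x - a ∈ (NumR.effCone ℂ X : Set (NumR.N1R ℂ X)) :=
  BigConeLib.mem_big_iff hH

end Groth.Agent.S19739
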