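import Groth.Agent.BigConeLib.Basic
import Groth.Statements.S19740
-- import your own Groth.Agent.* helpers here

set_option autoImplicit false
open CategoryTheory CategoryTheory.Limits AlgebraicGeometry
open PosLin

namespace Groth.Agent.S19740

/-- Let X be a projective variety over the complex numbers (an integral scheme, proper over ℂ, with an
ample invertible module), fix a group law on its Picard set and let N¹(X)_ℝ = ℝ ⊗ (Pic X modulo
numerical equivalence) with its topology as a finite-dimensional real vector space
(finite-dimensionality is assumed here). Call an invertible module L big when every ample invertible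
module A admits a monomorphism A → L^⊗m for some m > 0, let Big(X) ⊆ N¹(X)_ℝ be the convex cone
spanned by the classes of big invertible modules and Psef(X) the pseudo-effective cone, the closure
of the cone spanned by the classes of invertible modules with a nonzero global section. Then Big(X)
is the interior of Psef(X), and Psef(X) is the closure of Big(X). -/
theorem result (X : Scheme.{0}) [X.Over (Spec (CommRingCat.of ℂ))]
    [AlgebraicGeometry.IsIntegral X] [IsProper (X ↘ Spec (CommRingCat.of ℂ))] (H : X.Modules) (hH : CohB1.IsAmple H)
    [PicGrp.Law X] [Module.Finite ℝ (NumR.N1R ℂ X)] :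
    (NumR.coneOf ℂ X (fun L : X.Modules => ∀ A : X.Modules, CohB1.IsAmple A → ∃ (m : ℕ) (φ : A ⟶ CohB1.tensorPow L m), 0 < m ∧ Mono φ) : Set (NumR.N1R ℂ X)) = interior (NumR.psefCone ℂ X) ∧
      NumR.psefCone ℂ X = closure (NumR.coneOf ℂ X (fun L : X.Modules => ∀ A : X.Modules, CohB1.IsAmple A → ∃ (m : ℕ) (φ : A ⟶ CohB1.tensorPow L m), 0 < m ∧ Mono φ) : Set (NumR.N1R ℂ X)) :=
  BigConeLib.big_eq_interior hH

end Groth.Agent.S19740
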