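import Groth.Statements.S19741
import Mathlib.RingTheory.AlgebraicIndependent.TranscendenceBasis
import Mathlib.RingTheory.Algebraic.Integral
import Mathlib.FieldTheory.IntermediateField.Adjoin.Basic

set_option autoImplicit false
set_option backward.isDefEq.respectTransparency false
set_option backward.isDefEq.respectTransparency.types false
universe w u
open EssDim

namespace Groth.Agent.S19741

open CategoryTheory AlgebraicGeometry in
/-- For a field extension `K` of `k` and a presheaf of sets `P` on schemes over `k`, restrict `P` to
schemes over `K` by viewing a scheme over `Spec K` as a scheme over `Spec k`; then the essential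
dimension over `K` of the restricted presheaf is at most the essential dimension of `P` over `k`.
(The source states this for an algebraic stack over `k` and its base change to `K`, through the
presheaf of isomorphism classes of objects, whose restriction to schemes over `K` is the presheaf of
classes of the base-changed stack; the inequality is stated here for an arbitrary presheaf, which is
what the argument with composita of fields of definition gives.) -/
theorem result (k : Type u) [Field k] (K : Type u) [Field K] [Algebra k K]
    (P : (Over (Spec (CommRingCat.of k)))ᵒᵖ ⥤ Type w) :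
    EssDim.ed (k := K) ((Over.map (Spec.map (CommRingCat.ofHom (algebraMap k K)))).op ⋙ P) ≤ EssDim.ed P := by
  refine iSup_le fun L => iSup_le fun fL => iSup_le fun aL => iSup_le fun ξ => ?_
  letI := fL
  letI := aL
  letI : Algebra k L := ((algebraMap K L).comp (algebraMap k K)).toAlgebra
  haveI : IsScalarTower k K L := IsScalarTower.of_algebraMap_eq fun _ => rfl
  let g := Spec.map (CommRingCat.ofHom (algebraMap k K))
  have hcomp : ∀ (F : Type u) [Field F] [Algebra K F] [Algebra k F] [IsScalarTower k K F],
      Spec.map (CommRingCat.ofHom (algebraMap K F)) ≫ g = Spec.map (CommRingCat.ofHom (algebraMap k F)) :=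
    fun F _ _ _ _ => by
      rw [← Spec.map_comp, ← CommRingCat.ofHom_comp, ← IsScalarTower.algebraMap_eq]
  let e : SGA7.pt (K := k) L ≅ (Over.map g).obj (SGA7.pt (K := K) L) :=
    Over.isoMk (Iso.refl _) ((Category.id_comp _).trans (hcomp L))
  let η : EssDim.FPt P L := P.map e.hom.op ξ
  refine le_trans ?_ (EssDim.edAt_le_ed η)
  refine WithBot.coe_le_coe.2 (le_iInf fun E => ?_)
  obtain ⟨E, η₀, hη⟩ := E
  let E' : IntermediateField K L := IntermediateField.adjoin K (E : Set L)
  let i : E →ₐ[k] E' :=
    { toFun := fun a => ⟨a.1, IntermediateField.subset_adjoin K _ a.2⟩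
      map_one' := rfl
      map_mul' := fun _ _ => rfl
      map_zero' := rfl
      map_add' := fun _ _ => rfl
      commutes' := fun r => Subtype.ext (IsScalarTower.algebraMap_apply k K L r) }
  let m : (Over.map g).obj (SGA7.pt (K := K) E') ⟶ SGA7.pt (K := k) E :=
    Over.homMk (Spec.map (CommRingCat.ofHom (i : E →+* E'))) (by
      show Spec.map _ ≫ Spec.map _ = Spec.map _ ≫ Spec.map _
      rw [← Spec.map_comp, ← Spec.map_comp, ← CommRingCat.ofHom_comp, ← CommRingCat.ofHom_comp]
      congr 2)
  have hdesc : EssDim.Descends ((Over.map g).op ⋙ P) ξ E' := by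
    refine ⟨P.map m.op η₀, ?_⟩
    have hsq : (Over.map g).map (EssDim.resPt E'.val) ≫ m = e.inv ≫ EssDim.resPt E.val := by
      apply Over.OverMorphism.ext
      show Spec.map _ ≫ Spec.map _ = 𝟙 _ ≫ Spec.map _
      rw [Category.id_comp, ← Spec.map_comp, ← CommRingCat.ofHom_comp]
      rfl
    show P.map ((Over.map g).map (EssDim.resPt E'.val)).op (P.map m.op η₀) = ξ
    rw [← Functor.map_comp_apply, ← op_comp, hsq, op_comp, Functor.map_comp_apply,
      show P.map (EssDim.resPt E.val).op η₀ = η from hη]
    show P.map e.inv.op (P.map e.hom.op ξ) = ξ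
    rw [← Functor.map_comp_apply, ← op_comp, e.inv_hom_id, op_id, P.map_id]
    rfl
  refine (EssDim.edAt_le_of_descends hdesc).trans (OrderHomClass.mono Cardinal.toENat ?_)
  obtain ⟨s, hs⟩ := exists_isTranscendenceBasis k E
  have halg := hs.isAlgebraic
  rw [Subtype.range_coe] at halg
  let s' : Set E' := i '' s
  haveI : Algebra.IsAlgebraic (Algebra.adjoin K s') E' := by
    let B := Algebra.adjoin K s'
    have hmem : ∀ c : E, c ∈ Algebra.adjoin k s → i c ∈ B := fun c hc => by
      have : c ∈ (B.restrictScalars k).comap i := by
        refine Algebra.adjoin_le ?_ hc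
        intro a ha
        exact Algebra.subset_adjoin ⟨a, ha, rfl⟩
      exact this
    let f : Algebra.adjoin k s →+* B := ((i : E →+* E').comp (Algebra.adjoin k s).val.toRingHom).codRestrict B
      fun c => hmem c.1 c.2
    have hf : Function.Injective f := fun a b hab =>
      Subtype.ext ((i : E →+* E').injective (congrArg Subtype.val hab))
    have hE : ∀ a : E, IsAlgebraic B (i a) := fun a =>
      (halg.isAlgebraic a).ringHom_of_comp_eq f (i : E →+* E') hf rfl
    refine ⟨fun z => ?_⟩
    suffices ∀ (x : L) (hx : x ∈ E'), IsAlgebraic B (⟨x, hx⟩ : E') from this z.1 z.2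
    intro x hx
    induction hx using IntermediateField.adjoin_induction with
    | mem x hx => exact hE ⟨x, hx⟩
    | algebraMap c =>
      exact isAlgebraic_algebraMap (R := B) (algebraMap K B c)
    | add x y hx hy h₁ h₂ => exact h₁.add h₂
    | inv x hx h₁ => exact (IsAlgebraic.inv_iff.2 h₁ : IsAlgebraic B (⟨x, hx⟩ : E')⁻¹)
    | mul x y hx hy h₁ h₂ => exact h₁.mul h₂
  refine (Algebra.IsAlgebraic.trdeg_le_cardinalMk K s').trans (Cardinal.mk_image_le.trans ?_)
  exact hs.1.cardinalMk_le_trdeg

end Groth.Agent.S19741
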