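import Groth.Statements.S19742
import Groth.Agent.EssDimLib.PointBound
import Groth.Agent.AlgStLib.Yoneda
import Groth.Agent.AlgStLib.OfSp

set_option autoImplicit false
set_option backward.isDefEq.respectTransparency false
set_option backward.isDefEq.respectTransparency.types false
universe u
open EssDim

namespace Groth.Agent.S19742

open CategoryTheory AlgebraicGeometry in
open CategoryTheory in
/-- In a category fibred in groupoids every lift is strongly cartesian. -/
theorem isStronglyCartesian_of_lift {C : Type*} [Category C] {X : Type*} [Category X] {p : X ⥤ C}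
    (hp : FibCat.IsFibGrpd p) {R S : C} {a b : X} (f : R ⟶ S) (φ : a ⟶ b) [p.IsHomLift f φ] :
    p.IsStronglyCartesian f φ := by
  subst_hom_lift p f φ
  exact hp.isStronglyCartesian φ

open CategoryTheory AlgebraicGeometry in

/-- Let `𝒳` and `𝒴` be algebraic stacks over a field `k` and `F : 𝒳 ⟶ 𝒴` a morphism over `(Sch/k)` which
is representable by algebraic spaces, quasi-separated, locally of finite type and of fibre dimension
at most `d`: for every scheme `U` over `k` and every `(Sch/U) ⟶ 𝒴` the 2-fibre product with `𝒳` is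
an algebraic space whose morphism to `U` is quasi-separated, locally of finite type and of relative
dimension at most `d` (local dimension of the fibre at most `d` at every point). Then for a field
`L` over `k` and an object `x` of `𝒳` over `Spec L`, the essential dimension of `x` is at most the
essential dimension of its image `F(x)` plus `d`. (Quasi-separatedness of `F` is an added
hypothesis: the published statement asks only representable, locally of finite type and of fibre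
dimension at most `d`, in a framework where representable morphisms of algebraic stacks are
quasi-separated; the argument uses residue fields of points of the algebraic space `Spec K ×_𝒴 𝒳`,
which are available when that space is quasi-separated.) -/
theorem result (k : Type u) [Field k]
    (𝒳 𝒴 : AlgSt.Cat (Spec (CommRingCat.of k)))
    (h𝒳 : AlgSt.IsAlgStack Scheme.fppfPrecoverage 𝒳) (h𝒴 : AlgSt.IsAlgStack Scheme.fppfPrecoverage 𝒴)
    [FibCat.IsFibGrpd 𝒳.p] [FibCat.IsFibGrpd 𝒴.p]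
    (F : 𝒳 ⥤ᵇ 𝒴) (d : ℕ)
    (hF : AlgSt.RepByAlgSpWith
      (AlgSp.LocP @LocallyOfFiniteType ⊓ AlgSp.IsQuasiSeparatedMor ⊓ fun _ _ g => CurvSt.RelDimLE d g) F)
    (L : Type u) [Field L] [Algebra k L] (x : StkCnt.pts 𝒳 L) :
    EssDim.edStAt 𝒳 x ≤ EssDim.edStAt 𝒴 ⟨F.obj x.1, (F.w_obj x.1).trans x.2⟩ + d := by
  classical
  let S := Spec (CommRingCat.of k)
  let y : StkCnt.pts 𝒴 L := ⟨F.obj x.1, (F.w_obj x.1).trans x.2⟩
  have hne : Nonempty {E : IntermediateField k L //
      EssDim.Descends (Gerb.isoClPsh 𝒴) (Quot.mk (Gerb.IsoRel 𝒴 (SGA7.pt (K := k) L)) y) E} :=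
    ⟨⟨⊤, EssDim.descends_top _⟩⟩
  obtain ⟨⟨K, hK⟩, hKmin⟩ := ciInf_mem fun E : {E : IntermediateField k L //
      EssDim.Descends (Gerb.isoClPsh 𝒴) (Quot.mk (Gerb.IsoRel 𝒴 (SGA7.pt (K := k) L)) y) E} =>
        Cardinal.toENat (Algebra.trdeg k E.1)
  show EssDim.edStAt 𝒳 x ≤ EssDim.edStAt 𝒴 y + d
  rw [show EssDim.edStAt 𝒴 y = Cardinal.toENat (Algebra.trdeg k K) from hKmin.symm]
  obtain ⟨y₀, φ, hφ⟩ := (EssDim.descends_isoCl_iff 𝒴 y K).1 hK
  obtain ⟨G, ey, hey⟩ := Groth.Agent.AlgStLib.exists_overCat_obj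
    (inferInstanceAs (FibCat.IsFibGrpd 𝒴.p)) (U := SGA7.pt (K := k) K) y₀.1 y₀.2
  obtain ⟨A, e, he, ⟨hft, hqs⟩, hdim⟩ := hF (SGA7.pt (K := k) K) G
  let V : Over (SGA7.pt (K := k) K) := Over.mk (EssDim.resPt K.val)
  have : 𝒴.p.IsHomLift V.hom φ := hφ
  obtain ⟨i, hi, -⟩ := Groth.Agent.AlgStLib.exists_point_of_hom
    (inferInstanceAs (FibCat.IsFibGrpd 𝒴.p)) G ey hey V φ
  let z₀ : (FibCat.fp G F).obj := ⟨⟨V, x.1, i⟩, hi⟩
  obtain ⟨inve, -, ⟨η⟩⟩ := he
  let π := AlgSt.spMapOfOver (BasedFunctor.comp e (FibCat.fpFst G F))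
  let w := inve.obj z₀
  have hw : w.base = SGA7.pt (K := k) L := inve.w_obj z₀
  let s : A.obj.obj.obj (Opposite.op (SGA7.pt (K := k) L)) := A.obj.obj.map (eqToHom hw.symm).op w.sec
  let q : AlgSp.FieldPt A.obj := ⟨L, (SGA7.pt (K := k) L).hom, s⟩
  let mw : (⟨SGA7.pt (K := k) L, s⟩ : (AlgSt.ofSp A.obj).obj) ⟶ w := ⟨eqToHom hw.symm, rfl⟩
  let j := η.hom.toNatTrans.app z₀
  have hj : (FibCat.fp G F).p.IsHomLift (𝟙 (SGA7.pt (K := k) L)) j :=
    BasedNatTrans.isHomLift η.hom rfl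
  have hπs : π.hom.app (Opposite.op (SGA7.pt (K := k) L)) s = ⟨EssDim.resPt K.val⟩ := by
    rw [AlgSt.spMapOfOver_app]
    refine congrArg ULift.up ?_
    let b : (BasedFunctor.comp e (FibCat.fpFst G F)).obj ⟨SGA7.pt (K := k) L, s⟩ ⟶ V :=
      (BasedFunctor.comp e (FibCat.fpFst G F)).map mw ≫ j.hom.fst
    have hb : (FibCat.overCat (SGA7.pt (K := k) K)).p.IsHomLift (𝟙 (SGA7.pt (K := k) L)) b := by
      have h1 : (FibCat.overCat (SGA7.pt (K := k) K)).p.IsHomLift (eqToHom hw.symm)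
          ((BasedFunctor.comp e (FibCat.fpFst G F)).map mw) := by
        have : (AlgSt.ofSp A.obj).p.IsHomLift (eqToHom hw.symm) mw :=
          IsHomLift.map (AlgSt.ofSp A.obj).p mw
        exact (BasedFunctor.comp e (FibCat.fpFst G F)).preserves_isHomLift (eqToHom hw.symm) mw
      have h2 : (FibCat.overCat (SGA7.pt (K := k) K)).p.IsHomLift (𝟙 (SGA7.pt (K := k) L)) j.hom.fst :=
        (FibCat.fpFst G F).preserves_isHomLift _ j
      exact IsHomLift.of_fac' _ _ _
        ((BasedFunctor.comp e (FibCat.fpFst G F)).w_obj _) rfl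
        (by
          rw [Functor.map_comp, @IsHomLift.fac' _ _ _ _ _ _ _ _ _ _ _ h1,
            @IsHomLift.fac' _ _ _ _ _ _ _ _ _ _ _ h2]
          simp)
    have hbl := @IsHomLift.fac' _ _ _ _ _ _ _ _ _ _ _ hb
    have hover := Over.w b
    have hbl' : b.left = eqToHom ((BasedFunctor.comp e (FibCat.fpFst G F)).w_obj _) := by
      refine (show b.left = _ from hbl).trans ?_
      simp
    rw [hbl'] at hover
    exact (congrArg (eqToHom _ ≫ ·) hover.symm).trans (by simp [V])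
  have hA : AlgSp.IsQuasiSeparatedSp A.obj := by
    haveI : IsAffine (SGA7.pt (K := k) K).left := inferInstanceAs (IsAffine (Spec (CommRingCat.of K)))
    exact Groth.Agent.AlgSpVal.isQuasiSeparatedSp_of_toAffine π hqs
  obtain ⟨p, hp, hpm, hpq⟩ :=
    Groth.Agent.AlgSpDec.isDecent_of_isQuasiSeparatedSp A.property hA (AlgSp.Points.mk q)
  obtain ⟨c, hc, -⟩ := Groth.Agent.AlgSpPts.existsUnique_factor p.toHom hpq.rep q.toHom (by
    rw [← Groth.Agent.AlgSpLib.mk_eq_ofPt, ← Groth.Agent.AlgSpLib.mk_eq_ofPt]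
    exact hp)
  have hcs : A.obj.obj.map c.op p.val = s := by
    have := congrArg (AlgSp.J S).uliftYonedaEquiv hc
    rw [GrothendieckTopology.uliftYonedaEquiv_comp, GrothendieckTopology.uliftYonedaEquiv_uliftYoneda_map,
      AlgSp.FieldPt.uliftYonedaEquiv_toHom] at this
    exact (AlgSp.FieldPt.toHom_app p c).symm.trans this
  let ψ : p.pt ⟶ SGA7.pt (K := k) K := (π.hom.app (Opposite.op p.pt) p.val).down
  have hψ : p.toHom ≫ π = (AlgSp.yon S).map ψ := by
    apply (AlgSp.J S).uliftYonedaEquiv.injective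
    rw [GrothendieckTopology.uliftYonedaEquiv_comp, AlgSp.FieldPt.uliftYonedaEquiv_toHom,
      GrothendieckTopology.uliftYonedaEquiv_uliftYoneda_map]
    rfl
  have hcψ : c ≫ ψ = EssDim.resPt K.val := by
    have := NatTrans.naturality_apply π.hom c.op p.val
    rw [hcs] at this
    exact (congrArg ULift.down (hπs.symm.trans this)).symm
  let m : (⟨SGA7.pt (K := k) L, s⟩ : (AlgSt.ofSp A.obj).obj) ⟶ ⟨p.pt, p.val⟩ := ⟨c, hcs⟩
  let P₂ := BasedFunctor.comp e (FibCat.fpSnd G F)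
  let x₁ : 𝒳.obj := P₂.obj ⟨p.pt, p.val⟩
  have hx₁ : 𝒳.p.obj x₁ = p.pt := P₂.w_obj _
  let j' := η.inv.toNatTrans.app z₀
  have hj' : (FibCat.fp G F).p.IsHomLift (𝟙 (SGA7.pt (K := k) L)) j' :=
    BasedNatTrans.isHomLift η.inv rfl
  let mw' : w ⟶ (⟨SGA7.pt (K := k) L, s⟩ : (AlgSt.ofSp A.obj).obj) := ⟨eqToHom hw, by
    show A.obj.obj.map (eqToHom hw).op s = w.sec
    simp only [s]
    rw [← Functor.map_comp_apply, ← op_comp, eqToHom_trans, eqToHom_refl, op_id,
      CategoryTheory.Functor.map_id]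
    rfl⟩
  let Φ : x.1 ⟶ x₁ := (FibCat.fpSnd G F).map j' ≫ P₂.map mw' ≫ P₂.map m
  have hΦ : 𝒳.p.IsHomLift c Φ := by
    have h1 : 𝒳.p.IsHomLift (𝟙 (SGA7.pt (K := k) L)) ((FibCat.fpSnd G F).map j') :=
      (FibCat.fpSnd G F).preserves_isHomLift _ j'
    have h2 : 𝒳.p.IsHomLift (eqToHom hw) (P₂.map mw') := by
      have : (AlgSt.ofSp A.obj).p.IsHomLift (eqToHom hw) mw' := IsHomLift.map (AlgSt.ofSp A.obj).p mw'
      exact P₂.preserves_isHomLift (eqToHom hw) mw'
    have h3 : 𝒳.p.IsHomLift c (P₂.map m) := by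
      have : (AlgSt.ofSp A.obj).p.IsHomLift c m := IsHomLift.map (AlgSt.ofSp A.obj).p m
      exact P₂.preserves_isHomLift c m
    refine IsHomLift.of_fac' 𝒳.p c Φ x.2 hx₁ ?_
    rw [Functor.map_comp, Functor.map_comp, @IsHomLift.fac' _ _ _ _ 𝒳.p _ _ _ _ _ _ h1,
      @IsHomLift.fac' _ _ _ _ 𝒳.p _ _ _ _ _ _ h2, @IsHomLift.fac' _ _ _ _ 𝒳.p _ _ _ _ _ _ h3]
    simp
  letI : Algebra k p.K := (Spec.preimage p.str).hom.toAlgebra
  have hstr : Spec.map (CommRingCat.ofHom (algebraMap k p.K)) = p.str := Spec.map_preimage p.str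
  let γ : p.K →+* L := (Spec.preimage c.left).hom
  have hγc : Spec.map (CommRingCat.ofHom γ) = c.left := Spec.map_preimage c.left
  let γa : p.K →ₐ[k] L :=
    { γ with
      commutes' := fun r => by
        have : γ.comp (algebraMap k p.K) = algebraMap k L := by
          refine congrArg CommRingCat.Hom.hom (Spec.map_injective
            (a₁ := CommRingCat.ofHom (γ.comp (algebraMap k p.K))) (a₂ := CommRingCat.ofHom (algebraMap k L)) ?_)
          rw [CommRingCat.ofHom_comp, Spec.map_comp, hγc, hstr]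
          exact Over.w c
        exact RingHom.congr_fun this r }
  let τ : K →+* p.K := (Spec.preimage ψ.left).hom
  have hτ : Spec.map (CommRingCat.ofHom τ) = ψ.left := Spec.map_preimage ψ.left
  have hγτ : γ.comp τ = (K.val : K →+* L) := by
    refine congrArg CommRingCat.Hom.hom (Spec.map_injective
      (a₁ := CommRingCat.ofHom (γ.comp τ)) (a₂ := CommRingCat.ofHom (K.val : K →+* L)) ?_)
    rw [CommRingCat.ofHom_comp, Spec.map_comp, hγc, hτ, ← Over.comp_left, hcψ]
    rfl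
  have htr : (letI := τ.toAlgebra; Algebra.trdeg K p.K) ≤ (d : Cardinal) :=
    Groth.Agent.EssDimLib.trdeg_point_le π hft hdim p hpq.rep ψ hψ τ hτ
  let K' : IntermediateField k L := γa.fieldRange
  let eK : p.K ≃ₐ[k] K' := AlgEquiv.ofInjectiveField γa
  let m' : SGA7.pt (K := k) K' ⟶ p.pt := Over.homMk (Spec.map (CommRingCat.ofHom (eK : p.K →+* K'))) (by
    show Spec.map _ ≫ p.str = Spec.map _
    rw [← hstr, ← Spec.map_comp, ← CommRingCat.ofHom_comp]
    congr 2
    exact eK.toAlgHom.comp_algebraMap)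
  have hm' : EssDim.resPt K'.val ≫ m' = c := by
    apply Over.OverMorphism.ext
    show Spec.map _ ≫ Spec.map _ = c.left
    rw [← Spec.map_comp, ← CommRingCat.ofHom_comp, ← hγc]
    rfl
  have hdesc : EssDim.Descends (Gerb.isoClPsh 𝒳) (Quot.mk (Gerb.IsoRel 𝒳 (SGA7.pt (K := k) L)) x) K' := by
    refine (EssDim.descends_isoCl_iff 𝒳 x K').2 ?_
    have hl := Gerb.pullHom_isHomLift 𝒳 x₁ (m' ≫ eqToHom hx₁.symm)
    have hl' : 𝒳.p.IsHomLift m' (Gerb.pullHom 𝒳 x₁ (m' ≫ eqToHom hx₁.symm)) :=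
      (IsHomLift.lift_comp_eqToHom_iff 𝒳.p m' _ hx₁.symm).mp hl
    haveI : 𝒳.p.IsStronglyCartesian m' (Gerb.pullHom 𝒳 x₁ (m' ≫ eqToHom hx₁.symm)) :=
      isStronglyCartesian_of_lift (inferInstanceAs (FibCat.IsFibGrpd 𝒳.p)) _ _
    exact ⟨⟨_, Gerb.pull_over 𝒳 x₁ _⟩,
      Functor.IsStronglyCartesian.map 𝒳.p m' (Gerb.pullHom 𝒳 x₁ (m' ≫ eqToHom hx₁.symm)) hm'.symm Φ,
      Functor.IsStronglyCartesian.map_isHomLift 𝒳.p m' _ hm'.symm Φ⟩
  refine (EssDim.edAt_le_of_descends hdesc).trans ?_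
  have hle : Algebra.trdeg k K' ≤ Algebra.trdeg k K + (d : Cardinal) := by
    rw [← eK.trdeg_eq]
    letI := τ.toAlgebra
    haveI : IsScalarTower k K p.K := IsScalarTower.of_algebraMap_eq fun r => by
      refine γ.injective ((γa.commutes r).trans ?_)
      exact (RingHom.congr_fun hγτ (algebraMap k K r)).symm
    rw [← trdeg_add_eq k K (A := p.K)]
    exact add_le_add le_rfl htr
  exact (OrderHomClass.mono Cardinal.toENat hle).trans (by rw [map_add, map_natCast])

end Groth.Agent.S19742
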