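import Groth.Statements.S19748
import Groth.Agent.GrLib8.SegreRing
-- import your own Groth.Agent.* helpers here

set_option autoImplicit false
universe u
open scoped TensorProduct
open GrSegre

namespace Groth.Agent.S19748

/-- Let R and S be graded rings defined over a field k with Segre product T = R # S, M a graded R-module
and N a graded S-module. Suppose that multiplication by some homogeneous element f ∈ R_d of positive
degree d is bijective on M and multiplication by some homogeneous g ∈ S_e of positive degree e is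
bijective on N. Then multiplication by some homogeneous element of T of positive degree is bijective
on M # N. Here a graded ring defined over k is a commutative k-algebra of finite type, graded in
nonnegative degrees by k-subspaces with degree-zero part k·1; the Segre product T = R # S = ⊕_n R_n
⊗_k S_n is presented abstractly as a graded k-algebra T with an injective k-algebra homomorphism ψ :
T → R ⊗_k S carrying T_n onto the k-span of the elementary tensors a ⊗ b with a ∈ R_n, b ∈ S_n; the
Segre product M # N = ⊕_n M_n ⊗_k N_n of a graded R-module M and a graded S-module N is presented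
abstractly as a graded T-module P with an injective k-linear map φ : P → M ⊗_k N carrying P_n onto
the k-span of the tensors x ⊗ y with x ∈ M_n, y ∈ N_n and turning the action of t ∈ T into that of
ψ(t) (acting factorwise on M ⊗_k N). -/
theorem result (k : Type u) [Field k] (R : Type u) [CommRing R] [Algebra k R] (𝒜 : ℤ → Submodule k R) [GradedAlgebra 𝒜] (hposR : ∀ n : ℤ, n < 0 → 𝒜 n = ⊥) (h0R : 𝒜 0 = Submodule.span k {(1 : R)}) [Algebra.FiniteType k R] (S : Type u) [CommRing S] [Algebra k S] (ℬ : ℤ → Submodule k S) [GradedAlgebra ℬ] (hposS : ∀ n : ℤ, n < 0 → ℬ n = ⊥) (h0S : ℬ 0 = Submodule.span k {(1 : S)}) [Algebra.FiniteType k S] (T : Type u) [CommRing T] [Algebra k T] (𝒯 : ℤ → Submodule k T) [GradedAlgebra 𝒯] (ψ : T →ₐ[k] TensorProduct k R S) (hT : GrSeg.IsSegreRing 𝒜 ℬ 𝒯 ψ) (M : Type u) [AddCommGroup M] [Module R M] [Module k M] [IsScalarTower k R M] (ℳ : ℤ → AddSubgroup M) [DirectSum.Decomposition ℳ] [SetLike.GradedSMul 𝒜 ℳ] (N : Type u) [AddCommGroup N] [Module S N] [Module k N] [IsScalarTower k S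 N] (𝒩 : ℤ → AddSubgroup N) [DirectSum.Decomposition 𝒩] [SetLike.GradedSMul ℬ 𝒩] (P : Type u) [AddCommGroup P] [Module T P] [Module k P] [IsScalarTower k T P] (𝒬 : ℤ → AddSubgroup P) [DirectSum.Decomposition 𝒬] (φ : P →ₗ[k] TensorProduct k M N) (hP : GrSeg.IsSegreMod ψ ℳ 𝒩 𝒬 φ) (d : ℕ) (hd : 0 < d) (f : R) (hf : f ∈ 𝒜 (d : ℤ)) (hfM : Function.Bijective (fun x : M => f • x)) (e : ℕ) (he : 0 < e) (g : S) (hg : g ∈ ℬ (e : ℤ)) (hgN : Function.Bijective (fun y : N => g • y)) : ∃ (c : ℤ) (t : T), 0 < c ∧ t ∈ 𝒯 c ∧ Function.Bijective (fun p : P => t • p) := by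
  classical
  have hc : ((d : ℤ) * (e : ℤ)) > 0 := by positivity
  have hF : f ^ e ∈ 𝒜 ((d : ℤ) * e) := by
    have h := SetLike.pow_mem_graded e hf
    rwa [nsmul_eq_mul, mul_comm] at h
  have hG : g ^ d ∈ ℬ ((d : ℤ) * e) := by
    have h := SetLike.pow_mem_graded d hg
    rwa [nsmul_eq_mul] at h
  have hiterM : ∀ j, Function.Bijective (fun y : M => f ^ j • y) := fun j => by
    induction j with
    | zero => simp only [pow_zero, one_smul]; exact Function.bijective_id
    | succ j ih =>
      have h1 : (fun x : M => f ^ (j + 1) • x) = (fun x : M => f • x) ∘ (fun x : M => f ^ j • x) := funext fun x => by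
        rw [Function.comp_apply, smul_smul, ← pow_succ']
      rw [h1]; exact hfM.comp ih
  have hFM := hiterM e
  have hiter : ∀ j, Function.Bijective (fun y : N => g ^ j • y) := fun j => by
    induction j with
    | zero => simp only [pow_zero, one_smul]; exact Function.bijective_id
    | succ j ih =>
      have h1 : (fun x : N => g ^ (j + 1) • x) = (fun x : N => g • x) ∘ (fun x : N => g ^ j • x) := funext fun x => by
        rw [Function.comp_apply, smul_smul, ← pow_succ']
      rw [h1]; exact hgN.comp ih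
  obtain ⟨t, ht, hψt⟩ := (hT.2 ((d : ℤ) * e)).ge
    (Submodule.subset_span ⟨_, hF, _, hG, rfl⟩ : (f ^ e) ⊗ₜ[k] (g ^ d) ∈ GrSeg.segrePiece k 𝒜 ℬ ((d : ℤ) * e))
  let a : M →ₗ[k] M := Algebra.lsmul k k M (f ^ e)
  let b : N →ₗ[k] N := Algebra.lsmul k k N (g ^ d)
  have hab : ∀ z, GrSeg.act k R S M N (ψ t) z = TensorProduct.map a b z := fun z => by
    rw [show ψ t = (f ^ e) ⊗ₜ[k] (g ^ d) from hψt]
    induction z using TensorProduct.induction_on with
    | zero => simp
    | add x y hx hy => rw [map_add, map_add, hx, hy]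
    | tmul x y => rw [GrSeg.act_tmul, TensorProduct.map_tmul]; rfl
  refine ⟨(d : ℤ) * e, t, hc, ht, fun p q hpq => hP.injective ?_, fun p => ?_⟩
  · have h := congrArg φ hpq
    simp only [hP.map_smul, hab] at h
    let ea := LinearEquiv.ofBijective a hFM
    let eb := LinearEquiv.ofBijective b (hiter d)
    exact (TensorProduct.congr ea eb).injective h
  · show ∃ q, t • q = p
    induction p using DirectSum.Decomposition.inductionOn 𝒬 with
    | zero => exact ⟨0, smul_zero t⟩
    | add x y hx hy =>
      obtain ⟨qx, hqx⟩ := hx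
      obtain ⟨qy, hqy⟩ := hy
      exact ⟨qx + qy, by rw [smul_add, hqx, hqy]⟩
    | homogeneous p =>
      rename_i n
      suffices key : ∀ v ∈ GrSeg.segrePiece k ℳ 𝒩 n, ∃ q, φ (t • q) = v by
        obtain ⟨q, hq⟩ := key (φ (p : P)) (SetLike.mem_coe.1 ((hP.image_piece n).le ⟨p, p.2, rfl⟩))
        exact ⟨q, hP.injective hq⟩
      intro v hv
      induction hv using Submodule.span_induction with
      | mem w hw =>
        obtain ⟨x, hx, y, hy, rfl⟩ := hw
        obtain ⟨x', hx'⟩ := hFM.2 x
        obtain ⟨y', hy'⟩ := (hiter d).2 y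
        simp only at hx' hy'
        obtain ⟨q, -, hq⟩ := (hP.image_piece (n - (d : ℤ) * e)).ge (Submodule.subset_span
          ⟨_, SetLike.coe_mem (DirectSum.decompose ℳ x' (n - (d : ℤ) * e)), _,
            SetLike.coe_mem (DirectSum.decompose 𝒩 y' (n - (d : ℤ) * e)), rfl⟩)
        refine ⟨q, ?_⟩
        rw [hP.map_smul, hab, hq, TensorProduct.map_tmul]
        show (f ^ e • ((DirectSum.decompose ℳ x' (n - (d : ℤ) * e) : ℳ _) : M)) ⊗ₜ[k] (g ^ d • ((DirectSum.decompose 𝒩 y' (n - (d : ℤ) * e) : 𝒩 _) : N)) = _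
        rw [← GrLib8.decompose_smul_of_mem_left 𝒜 ℳ hF, ← GrLib8.decompose_smul_of_mem_left ℬ 𝒩 hG,
          hx', hy', DirectSum.decompose_of_mem_same ℳ hx, DirectSum.decompose_of_mem_same 𝒩 hy]
      | zero => exact ⟨0, by rw [smul_zero, map_zero]⟩
      | add x y _ _ hx hy =>
        obtain ⟨qx, hqx⟩ := hx
        obtain ⟨qy, hqy⟩ := hy
        exact ⟨qx + qy, by rw [smul_add, map_add, hqx, hqy]⟩
      | smul c x _ hx =>
        obtain ⟨qx, hqx⟩ := hx
        exact ⟨c • qx, by rw [← hqx, hP.map_smul, hP.map_smul, map_smul, map_smul]⟩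

end Groth.Agent.S19748
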