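import Groth.Statements.S19750
import Groth.Agent.GrLib8.StdMul
import Mathlib.RingTheory.Flat.Basic
import Mathlib.LinearAlgebra.FreeModule.Basic
import Mathlib.LinearAlgebra.Basis.VectorSpace
-- import your own Groth.Agent.* helpers here

set_option autoImplicit false
universe u
open scoped TensorProduct
open GrSegre

namespace Groth.Agent.S19750

/-- Let R and S be graded rings defined over a field k, both generated over k by their degree-one parts
and of positive Krull dimension, T = R # S with irrelevant ideal T_+, and let a ≥ b be integers.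
Then the number of generators ν_T(R(a) # S(b)) = dim_k (R(a) # S(b)) / T_+ (R(a) # S(b)) equals
dim_k R_{a−b}. Here a graded ring defined over k is a commutative k-algebra of finite type, graded
in nonnegative degrees by k-subspaces with degree-zero part k·1; the Segre product T = R # S = ⊕_n
R_n ⊗_k S_n is presented abstractly as a graded k-algebra T with an injective k-algebra homomorphism
ψ : T → R ⊗_k S carrying T_n onto the k-span of the elementary tensors a ⊗ b with a ∈ R_n, b ∈ S_n;
the Segre product R(a) # S(b) = ⊕_n R_{n+a} ⊗_k S_{n+b} of the shifted modules is presented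
abstractly as a graded T-module P with an injective k-linear map φ : P → R ⊗_k S carrying P_n onto
the k-span of the tensors x ⊗ y with x ∈ R_{n+a}, y ∈ S_{n+b} and turning the action of t ∈ T into
that of ψ(t); T_+ is the ideal spanned by the T_n with n > 0. -/
theorem result (k : Type u) [Field k] (R : Type u) [CommRing R] [Algebra k R] (𝒜 : ℤ → Submodule k R) [GradedAlgebra 𝒜] (hposR : ∀ n : ℤ, n < 0 → 𝒜 n = ⊥) (h0R : 𝒜 0 = Submodule.span k {(1 : R)}) [Algebra.FiniteType k R] (S : Type u) [CommRing S] [Algebra k S] (ℬ : ℤ → Submodule k S) [GradedAlgebra ℬ] (hposS : ∀ n : ℤ, n < 0 → ℬ n = ⊥) (h0S : ℬ 0 = Submodule.span k {(1 : S)}) [Algebra.FiniteType k S] (T : Type u) [CommRing T] [Algebra k T] (𝒯 : ℤ → Submodule k T) [GradedAlgebra 𝒯] (ψ : T →ₐ[k] TensorProduct k R S) (hT : GrSeg.IsSegreRing 𝒜 ℬ 𝒯 ψ) (hstdR : Ideal.span (⋃ n ∈ Set.Ioi (0 : ℤ), (𝒜 n : Set R)) = Ideal.span ((𝒜 1 : Submodule k R) : Set R)) (hstdS : Ideal.span (⋃ n ∈ Set.Ioi (0 : ℤ), (ℬ n : Set S)) = Ideal.span ((ℬ 1 : Submodule k S) : Set S))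 (hr1 : 1 ≤ ringKrullDim R) (hs1 : 1 ≤ ringKrullDim S) (mT : HomogeneousIdeal 𝒯) (hmT : mT.toIdeal = Ideal.span (⋃ n ∈ Set.Ioi (0 : ℤ), (𝒯 n : Set T))) (a b : ℤ) (hab : b ≤ a) (P : Type u) [AddCommGroup P] [Module T P] [Module k P] [IsScalarTower k T P] (𝒬 : ℤ → AddSubgroup P) [DirectSum.Decomposition 𝒬] (φ : P →ₗ[k] TensorProduct k R S) (hP : GrSeg.IsSegreMod ψ (fun n : ℤ => 𝒜 (n + a)) (fun n : ℤ => ℬ (n + b)) 𝒬 φ) : Module.finrank k (P ⧸ (mT.toIdeal • (⊤ : Submodule T P))) = Module.finrank k (𝒜 (a - b)) := by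
  classical
  haveI : Nontrivial R := by
    by_contra h
    rw [not_nontrivial_iff_subsingleton] at h
    rw [ringKrullDim_eq_bot_of_subsingleton] at hr1
    simp at hr1
  haveI : Nontrivial S := by
    by_contra h
    rw [not_nontrivial_iff_subsingleton] at h
    rw [ringKrullDim_eq_bot_of_subsingleton] at hs1
    simp at hs1
  set I := mT.toIdeal • (⊤ : Submodule T P) with hI
  let g : P →ₗ[k] R ⊗[k] S :=
    (TensorProduct.map (GradedAlgebra.proj 𝒜 (a - b)) (GradedAlgebra.proj ℬ 0)) ∘ₗ φ
  -- membership in the pieces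
  have hmem : ∀ n, ∀ p ∈ 𝒬 n, φ p ∈ GrSeg.segrePiece k (fun n : ℤ => 𝒜 (n + a)) (fun n : ℤ => ℬ (n + b)) n := by
    intro n p hp
    have h := Set.mem_image_of_mem φ hp
    rw [hP.image_piece n] at h
    exact h
  have hpr : ∀ n, ∀ z ∈ GrSeg.segrePiece k (fun n : ℤ => 𝒜 (n + a)) (fun n : ℤ => ℬ (n + b)) n,
      TensorProduct.map (GradedAlgebra.proj 𝒜 (a - b)) (GradedAlgebra.proj ℬ 0) z = if n = -b then z else 0 := by
    intro n z hz
    induction hz using Submodule.span_induction with
    | mem w hw =>
      obtain ⟨x, hx, y, hy, rfl⟩ := hw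
      rw [TensorProduct.map_tmul, GradedAlgebra.proj_apply, GradedAlgebra.proj_apply]
      by_cases h : n = -b
      · subst h
        rw [if_pos rfl]
        have hx' : x ∈ 𝒜 (a - b) := by
          rw [sub_eq_add_neg, add_comm]; exact hx
        have hy' : y ∈ ℬ 0 := by
          rw [← neg_add_cancel b]; exact hy
        rw [DirectSum.decompose_of_mem_same 𝒜 hx', DirectSum.decompose_of_mem_same ℬ hy']
      · rw [if_neg h, DirectSum.decompose_of_mem_ne ℬ hy (by omega), TensorProduct.tmul_zero]
    | zero => simp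
    | add x y _ _ hx hy => rw [map_add, hx, hy]; split_ifs <;> simp
    | smul c x _ hx => rw [map_smul, hx]; split_ifs <;> simp
  have hlow : ∀ n, n < -b → ∀ p ∈ 𝒬 n, p = 0 := by
    intro n hn p hp
    refine hP.injective ?_
    rw [map_zero]
    refine (Submodule.mem_bot k).1 (Submodule.span_le.2 ?_ (hmem n p hp))
    rintro _ ⟨x, hx, y, hy, rfl⟩
    have hy0 : y = 0 := (Submodule.mem_bot k).1 (hposS (n + b) (by omega) ▸ hy)
    simp [hy0]
  have hgval : ∀ n, ∀ p ∈ 𝒬 n, g p = if n = -b then φ p else 0 := fun n p hp => hpr n _ (hmem n p hp)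
  -- positive degree elements act into the kernel
  have hker : ∀ m, 0 < m → ∀ t ∈ 𝒯 m, ∀ p, g (t • p) = 0 := by
    intro m hm t ht p
    induction p using DirectSum.Decomposition.inductionOn 𝒬 with
    | zero => simp
    | add x y hx hy => rw [smul_add, map_add, hx, hy, add_zero]
    | @homogeneous n p =>
      obtain ⟨p, hp⟩ := p
      show g (t • p) = 0
      by_cases hn : n < -b
      · rw [hlow n hn p hp, smul_zero, map_zero]
      show TensorProduct.map _ _ (φ (t • p)) = 0
      rw [hP.map_smul]
      have hv : ψ t ∈ GrSeg.segrePiece k 𝒜 ℬ m := hT.2 m ▸ Submodule.mem_map_of_mem ht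
      have hz := hmem n p hp
      generalize φ p = z at hz
      generalize ψ t = v at hv
      induction hv using Submodule.span_induction with
      | mem w hw =>
        obtain ⟨r, hr, s, hs, rfl⟩ := hw
        induction hz using Submodule.span_induction with
        | mem w hw =>
          obtain ⟨x, hx, y, hy, rfl⟩ := hw
          rw [GrSeg.act_tmul, TensorProduct.map_tmul, GradedAlgebra.proj_apply, GradedAlgebra.proj_apply,
            smul_eq_mul s y, DirectSum.decompose_of_mem_ne ℬ (SetLike.mul_mem_graded hs hy) (by omega),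
            TensorProduct.tmul_zero]
        | zero => simp
        | add x y _ _ hx hy => rw [map_add, map_add, hx, hy, add_zero]
        | smul c x _ hx => rw [map_smul, map_smul, hx, smul_zero]
      | zero => simp
      | add x y _ _ hx hy => rw [map_add, LinearMap.add_apply, map_add, hx, hy, add_zero]
      | smul c x _ hx => rw [map_smul, LinearMap.smul_apply, map_smul, hx, smul_zero]
  have hle : ∀ p ∈ I, g p = 0 := by
    intro p hp
    induction hp using Submodule.smul_induction_on' with
    | smul t ht x _ =>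
      rw [hmT] at ht
      induction ht using Submodule.span_induction generalizing x with
      | mem w hw =>
        obtain ⟨m, hm, hw⟩ := Set.mem_iUnion₂.1 hw
        exact hker m hm w hw x
      | zero => simp
      | add u v _ _ hu hv => rw [add_smul, map_add, hu x trivial, hv x trivial, add_zero]
      | smul c u _ hu => rw [smul_eq_mul, mul_comm, mul_smul]; exact hu _ trivial
    | add x _ y _ hx hy => rw [map_add, hx, hy, add_zero]
  -- pieces above the lowest are in I
  have hhigh : ∀ n, -b < n → ∀ p ∈ 𝒬 n, p ∈ I := by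
    intro n hn p hp
    let J : Submodule k (R ⊗[k] S) := (I.restrictScalars k).map φ
    suffices h : φ p ∈ J by
      obtain ⟨q, hq, he⟩ := h
      rwa [← hP.injective he]
    refine Submodule.span_le.2 ?_ (hmem n p hp)
    rintro _ ⟨x, hx, y, hy, rfl⟩
    have hx1 := GrLib8.StdMul.succ_le 𝒜 hstdR (n + a - 1) (by omega) (x := x) (by rw [sub_add_cancel]; exact hx)
    have hy1 := GrLib8.StdMul.succ_le ℬ hstdS (n + b - 1) (by omega) (x := y) (by rw [sub_add_cancel]; exact hy)
    clear hx hy
    induction hx1 using AddSubgroup.closure_induction generalizing y with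
    | mem w hw =>
      obtain ⟨u, hu, v, hv, rfl⟩ := hw
      induction hy1 using AddSubgroup.closure_induction with
      | mem w' hw' =>
        obtain ⟨u', hu', v', hv', rfl⟩ := hw'
        obtain ⟨t, ht, het⟩ : v ⊗ₜ[k] v' ∈ (𝒯 1).map ψ.toLinearMap :=
          (hT.2 1).symm ▸ Submodule.subset_span ⟨v, hv, v', hv', rfl⟩
        have hz : u ⊗ₜ[k] u' ∈ GrSeg.segrePiece k (fun n : ℤ => 𝒜 (n + a)) (fun n : ℤ => ℬ (n + b)) (n - 1) :=
          Submodule.subset_span ⟨u, by show u ∈ 𝒜 (n - 1 + a); rwa [sub_add_eq_add_sub], u',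
            by show u' ∈ ℬ (n - 1 + b); rwa [sub_add_eq_add_sub], rfl⟩
        rw [← SetLike.mem_coe, ← hP.image_piece (n - 1)] at hz
        obtain ⟨q, -, heq⟩ := hz
        refine ⟨t • q, Submodule.smul_mem_smul ?_ Submodule.mem_top, ?_⟩
        · rw [hmT]
          exact Ideal.subset_span (Set.mem_biUnion (x := (1 : ℤ)) (show (0 : ℤ) < 1 by omega) ht)
        · rw [hP.map_smul, heq, show ψ t = v ⊗ₜ[k] v' from het, GrSeg.act_tmul, smul_eq_mul, smul_eq_mul,
            mul_comm v, mul_comm v']
      | zero => rw [TensorProduct.tmul_zero]; exact zero_mem J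
      | add x y _ _ hx hy => rw [TensorProduct.tmul_add]; exact add_mem hx hy
      | neg x _ hx => rw [TensorProduct.tmul_neg]; exact neg_mem hx
    | zero => rw [TensorProduct.zero_tmul]; exact zero_mem J
    | add x x' _ _ hx hx' => rw [TensorProduct.add_tmul]; exact add_mem (hx y hy1) (hx' y hy1)
    | neg x _ hx => rw [TensorProduct.neg_tmul]; exact neg_mem (hx y hy1)
  have hsub : ∀ p, p - (DirectSum.decompose 𝒬 p (-b) : P) ∈ I ∧ g p = φ (DirectSum.decompose 𝒬 p (-b) : P) := by
    intro p
    induction p using DirectSum.Decomposition.inductionOn 𝒬 with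
    | zero => simp
    | add x y hx hy =>
      refine ⟨?_, ?_⟩
      · rw [DirectSum.decompose_add, DirectSum.add_apply, AddMemClass.coe_add, add_sub_add_comm]
        exact add_mem hx.1 hy.1
      · rw [DirectSum.decompose_add, DirectSum.add_apply, AddMemClass.coe_add, map_add, map_add, hx.2, hy.2]
    | @homogeneous n p =>
      obtain ⟨p, hp⟩ := p
      show p - _ ∈ I ∧ g p = φ (DirectSum.decompose 𝒬 p (-b) : P)
      rw [hgval n p hp]
      by_cases h : n = -b
      · subst h
        rw [if_pos rfl, DirectSum.decompose_of_mem_same 𝒬 hp, sub_self]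
        exact ⟨zero_mem _, rfl⟩
      · rw [if_neg h, DirectSum.decompose_of_mem_ne 𝒬 hp h, map_zero, sub_zero]
        refine ⟨?_, rfl⟩
        rcases lt_or_gt_of_ne h with h' | h'
        · rw [hlow n h' p hp]; exact zero_mem _
        · exact hhigh n h' p hp
  have hkerI : LinearMap.ker g = I.restrictScalars k := by
    ext p
    refine ⟨fun h => ?_, fun h => hle p h⟩
    have h0 : (DirectSum.decompose 𝒬 p (-b) : P) = 0 :=
      hP.injective ((hsub p).2.symm.trans ((LinearMap.mem_ker.1 h).trans (map_zero φ).symm))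
    have h1 := (hsub p).1
    rwa [h0, sub_zero] at h1
  have hrange : LinearMap.range g = (𝒜 (a - b)).map (Algebra.TensorProduct.includeLeft (R := k) (S := k) (A := R) (B := S)).toLinearMap := by
    apply le_antisymm
    · rintro _ ⟨p, rfl⟩
      rw [(hsub p).2]
      refine Submodule.span_le.2 ?_ (hmem (-b) _ (SetLike.coe_mem _))
      rintro _ ⟨x, hx, y, hy, rfl⟩
      have hy' : y ∈ Submodule.span k {(1 : S)} := by
        rw [← h0S]
        show y ∈ ℬ 0
        rw [← neg_add_cancel b]
        exact hy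
      obtain ⟨c, rfl⟩ := Submodule.mem_span_singleton.1 hy'
      refine ⟨c • x, Submodule.smul_mem _ c ?_, ?_⟩
      · rw [sub_eq_add_neg, add_comm]
        exact hx
      · show (c • x) ⊗ₜ[k] (1 : S) = x ⊗ₜ[k] (c • (1 : S))
        exact TensorProduct.smul_tmul c x 1
    · rintro _ ⟨x, hx, rfl⟩
      have hz : x ⊗ₜ[k] (1 : S) ∈ GrSeg.segrePiece k (fun n : ℤ => 𝒜 (n + a)) (fun n : ℤ => ℬ (n + b)) (-b) := by
        refine Submodule.subset_span ⟨x, ?_, 1, ?_, rfl⟩
        · show x ∈ 𝒜 (-b + a)
          rw [neg_add_eq_sub]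
          exact hx
        · show (1 : S) ∈ ℬ (-b + b)
          rw [neg_add_cancel]
          exact SetLike.one_mem_graded ℬ
      rw [← SetLike.mem_coe, ← hP.image_piece (-b)] at hz
      obtain ⟨q, hq, heq⟩ := hz
      refine ⟨q, ?_⟩
      rw [hgval _ q hq, if_pos rfl, heq]
      rfl
  rw [← (Submodule.Quotient.restrictScalarsEquiv k I).finrank_eq, ← hkerI, g.quotKerEquivRange.finrank_eq, hrange]
  exact (Submodule.equivMapOfInjective _ (Algebra.TensorProduct.includeLeft_injective (R := k) (S := k) (A := R) (B := S)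
    (algebraMap k S).injective) _).finrank_eq.symm

end Groth.Agent.S19750
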