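import Groth.Statements.S19751
import Groth.Agent.GrLib8.GDualLattice
-- import your own Groth.Agent.* helpers here

set_option autoImplicit false
universe u
open GrDual

namespace Groth.Agent.S19751

/-- Let R be a graded ring defined over a field k with m = R_+, let F and M be finitely generated graded
R-modules and f : F → M a surjective homomorphism of graded R-modules, with dual f^* : M^* → F^* on
graded k-duals. Then f is minimal, that is Ker f ⊆ m F, if and only if f^* is essential: an
injective homomorphism of graded modules such that every nonzero graded submodule of F^* meets its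
image. Here a graded ring defined over k is a commutative k-algebra of finite type, graded in
nonnegative degrees by k-subspaces with degree-zero part k·1, and R_+ is the ideal spanned by the
R_n with n > 0; the graded k-dual M^* = ⊕_n Hom_k(M_{−n}, k) of a graded R-module M (with r ∈ R
acting by (r f)(x) = f(r x)) is presented abstractly as a graded R-module D with a k-bilinear
pairing β : D × M → k compatible with the R-actions, under which D_n pairs to zero with M_m for m ≠
−n and is identified with the full dual space of M_{−n}; f^* is presented as the R-linear map g :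
M^* → F^* with β_F(g d, x) = β_M(d, f x). -/
theorem result (k : Type u) [Field k] (R : Type u) [CommRing R] [Algebra k R] (𝒜 : ℤ → Submodule k R) [GradedAlgebra 𝒜] (hposR : ∀ n : ℤ, n < 0 → 𝒜 n = ⊥) (h0R : 𝒜 0 = Submodule.span k {(1 : R)}) [Algebra.FiniteType k R] (mR : HomogeneousIdeal 𝒜) (hmR : mR.toIdeal = Ideal.span (⋃ n ∈ Set.Ioi (0 : ℤ), (𝒜 n : Set R))) (F : Type u) [AddCommGroup F] [Module R F] [Module k F] [IsScalarTower k R F] (ℱ : ℤ → AddSubgroup F) [DirectSum.Decomposition ℱ] [SetLike.GradedSMul 𝒜 ℱ] [Module.Finite R F] (M : Type u) [AddCommGroup M] [Module R M] [Module k M] [IsScalarTower k R M] (ℳ : ℤ → AddSubgroup M) [DirectSum.Decomposition ℳ] [SetLike.GradedSMul 𝒜 ℳ] [Module.Finite R M] (f : F →ₗ[R] M) (hf : Function.Surjective f) (hfgr : GrLC.IsGrHom ℱ ℳ f) (DM : Type u) [AddCommGroup DM] [Module R DM] [Module k DM] [IsScalarTower k R DM] (𝒟M : ℤ → AddSubgroup DM) [DirectSum.Decomposition 𝒟M] [SetLike.GradedSMul 𝒜 𝒟M] (βM : DM →ₗ[k] M →ₗ[k] k) (hDM : GrSeg.IsGDual R ℳ 𝒟M βM) (DF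 : Type u) [AddCommGroup DF] [Module R DF] [Module k DF] [IsScalarTower k R DF] (𝒟F : ℤ → AddSubgroup DF) [DirectSum.Decomposition 𝒟F] [SetLike.GradedSMul 𝒜 𝒟F] (βF : DF →ₗ[k] F →ₗ[k] k) (hDF : GrSeg.IsGDual R ℱ 𝒟F βF) (g : DM →ₗ[R] DF) (hg : GrSeg.IsGDualMap βM βF f g) : LinearMap.ker f ≤ mR.toIdeal • (⊤ : Submodule R F) ↔ GrLC.IsStarEss 𝒟M 𝒟F g := by
  classical
  have hpos' : ∀ n < 0, ∀ r ∈ 𝒜 n, r = 0 := fun n hn r hr => (Submodule.mem_bot k).1 ((hposR n hn).le hr)
  let W : Submodule R F := mR.toIdeal • ⊤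
  let K : Submodule R F := LinearMap.ker f
  have hWhom : W.IsHomogeneous ℱ := by
    intro n x hx
    refine Submodule.smul_induction_on (p := fun x => (DirectSum.decompose ℱ x n : F) ∈ W) hx (fun r hr m _ => ?_)
      (fun a b ha hb => ?_)
    · rw [← DirectSum.sum_support_decompose 𝒜 r, Finset.sum_smul, DirectSum.decompose_sum,
        show (((∑ i ∈ (DirectSum.decompose 𝒜 r).support, DirectSum.decompose ℱ ((DirectSum.decompose 𝒜 r i : R) • m)) n : ℱ n) : F) =
          ∑ i ∈ (DirectSum.decompose 𝒜 r).support, (DirectSum.decompose ℱ ((DirectSum.decompose 𝒜 r i : R) • m) n : F) from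
        map_sum ((AddSubgroup.subtype (ℱ n)).comp (DFinsupp.evalAddMonoidHom (β := fun i => ℱ i) n)) _ _]
      refine Submodule.sum_mem _ fun i _ => ?_
      rw [GrLib8.decompose_smul_of_mem_left 𝒜 ℱ (SetLike.coe_mem _)]
      exact Submodule.smul_mem_smul (mR.isHomogeneous i hr) Submodule.mem_top
    · rw [DirectSum.decompose_add, DirectSum.add_apply, AddMemClass.coe_add]; exact add_mem ha hb
  have hKhom : K.IsHomogeneous ℱ := GrLib8.isHomogeneous_ker_deg (GrLib8.isGrHomDeg_zero_iff.2 hfgr)
  have hinj : Function.Injective g := (injective_iff_map_eq_zero _).2 fun d hd => GrLib8.eq_zero_of_pair hDM fun x => by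
    obtain ⟨y, rfl⟩ := hf x
    rw [← hg d y, hd, map_zero, LinearMap.zero_apply]
  have hgr : GrLC.IsGrHom 𝒟M 𝒟F g := by
    intro n d hd
    rw [← DirectSum.sum_support_decompose 𝒟F (g d)]
    refine AddSubgroup.sum_mem _ fun j _ => ?_
    rcases eq_or_ne j n with rfl | hne
    · exact SetLike.coe_mem _
    · rw [hDF.eq_zero j _ (SetLike.coe_mem _) fun x hx => ?_]
      · exact zero_mem _
      · have := GrLib8.pair_left hDF (g d) hx
        rw [neg_neg] at this
        rw [← this, hg]
        exact hDM.vanish n d hd (-j) (fun h => hne (neg_inj.1 h)) _ (hfgr _ x hx)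
  have hrange : ∀ (n : ℤ) (e : DF), e ∈ 𝒟F n → (∀ x ∈ K, x ∈ ℱ (-n) → βF e x = 0) → e ∈ LinearMap.range g := by
    intro n e he hK
    obtain ⟨s, hs⟩ := (f.restrictScalars k).exists_rightInverse_of_surjective (LinearMap.range_eq_top.2 hf)
    let φ : M →ₗ[k] k := βF e ∘ₗ s
    obtain ⟨d, hd, hdφ⟩ := hDM.exists_eq n φ
    refine ⟨d, sub_eq_zero.1 (hDF.eq_zero n _ (sub_mem (hgr n d hd) he) fun x hx => ?_)⟩
    rw [map_sub, LinearMap.sub_apply, hg, hdφ (f x) (hfgr _ x hx)]
    show βF e (s (f x)) - βF e x = 0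
    rw [← map_sub, GrLib8.pair_right hDF he]
    refine hK _ (hKhom (-n) ?_) (SetLike.coe_mem _)
    show f (s (f x) - x) = 0
    rw [map_sub, show f (s (f x)) = f x from LinearMap.congr_fun hs (f x), sub_self]
  refine ⟨fun hKW => ⟨hinj, hgr, fun P hP hP0 => ?_⟩, fun hess z hz => ?_⟩
  · obtain ⟨top, htop⟩ := GrLib8.eventually_zero_of_finite 𝒜 hDF hposR
    have key : ∀ (j : ℕ) (n : ℤ), top + 1 - n ≤ j → ∀ e ∈ P, e ∈ 𝒟F n → e ≠ 0 → P ⊓ LinearMap.range g ≠ ⊥ := by
      intro j
      induction j with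
      | zero => exact fun n hn e _ he hne => absurd (htop n (by omega) e he) hne
      | succ j ih =>
        intro n hn e heP he hne
        by_cases hall : ∀ (i : ℤ), 0 < i → ∀ r ∈ 𝒜 i, r • e = 0
        · have hker : ∀ x ∈ W, βF e x = 0 := by
            intro x hx
            refine Submodule.smul_induction_on (p := fun x => βF e x = 0) hx (fun r hr y _ => ?_)
              (fun a b ha hb => by rw [map_add, ha, hb, add_zero])
            rw [hmR] at hr
            rw [← hDF.map_smul, show r • e = 0 from ?_, map_zero, LinearMap.zero_apply]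
            induction hr using Submodule.span_induction with
            | mem r hr =>
              obtain ⟨i, hi, hri⟩ := Set.mem_iUnion₂.1 hr
              exact hall i hi r hri
            | zero => rw [zero_smul]
            | add a b _ _ ha hb => rw [add_smul, ha, hb, add_zero]
            | smul c a _ ha => rw [smul_eq_mul, mul_smul, ha, smul_zero]
          intro hbot
          exact hne ((Submodule.eq_bot_iff _).1 hbot e ⟨heP, hrange n e he fun x hx _ => hker x (hKW hx)⟩)
        · push Not at hall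
          obtain ⟨i, hi, r, hr, hre⟩ := hall
          have hmem : r • e ∈ 𝒟F (i + n) := SetLike.GradedSMul.smul_mem (B := 𝒟F) hr he
          exact ih (i + n) (by omega) _ (P.smul_mem r heP) hmem hre
    obtain ⟨e, heP, hne⟩ := Submodule.exists_mem_ne_zero_of_ne_bot hP0
    obtain ⟨n, hn⟩ : ∃ n, (DirectSum.decompose 𝒟F e n : DF) ≠ 0 := by
      by_contra hall
      push Not at hall
      exact hne ((DirectSum.sum_support_decompose 𝒟F e).symm.trans (Finset.sum_eq_zero fun n _ => hall n))
    exact key (top + 1 - n).toNat n (Int.self_le_toNat _) _ (hP n heP) (SetLike.coe_mem _) hn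
  · rw [← DirectSum.sum_support_decompose ℱ z]
    refine Submodule.sum_mem _ fun n _ => ?_
    by_contra hzW
    have hzK : (DirectSum.decompose ℱ z n : F) ∈ K := hKhom n hz
    obtain ⟨e, he, hez, heW⟩ := GrLib8.exists_pair_ne 𝒜 hDF (W.restrictScalars k) (SetLike.coe_mem (DirectSum.decompose ℱ z n)) hzW
    have hkill : ∀ x ∈ W, βF e x = 0 := fun x hx => by
      rw [GrLib8.pair_right hDF he, neg_neg]
      exact heW _ (hWhom n hx) (SetLike.coe_mem _)
    have hkillR : ∀ r ∈ mR.toIdeal, r • e = 0 := fun r hr => GrLib8.eq_zero_of_pair hDF fun x => by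
      rw [hDF.map_smul]; exact hkill _ (Submodule.smul_mem_smul hr Submodule.mem_top)
    have hscal : ∀ r : R, ∃ c : k, r • e = c • e := fun r => by
      obtain ⟨c, hc⟩ := GrLib8.eq_algebraMap_of_mem_zero 𝒜 h0R (DirectSum.decompose 𝒜 r 0).2
      refine ⟨c, ?_⟩
      rw [← algebraMap_smul R c e, ← hc]
      conv_lhs => rw [← DirectSum.sum_support_decompose 𝒜 r, Finset.sum_smul]
      refine Finset.sum_eq_single 0 (fun i _ hi => ?_) fun h => ?_
      · rcases lt_or_gt_of_ne hi with h | h
        · rw [hpos' i h _ (SetLike.coe_mem _), zero_smul]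
        · exact hkillR _ (hmR ▸ Ideal.subset_span (Set.mem_iUnion₂.2 ⟨i, h, SetLike.coe_mem _⟩))
      · rw [DFinsupp.notMem_support_iff.1 h, ZeroMemClass.coe_zero, zero_smul]
    have hP : (R ∙ e).IsHomogeneous 𝒟F := fun j y hy => by
      obtain ⟨r, rfl⟩ := Submodule.mem_span_singleton.1 hy
      obtain ⟨c, hc⟩ := hscal r
      rcases eq_or_ne (-n) j with rfl | hne
      · rw [DirectSum.decompose_of_mem_same 𝒟F]
        · exact Submodule.smul_mem _ r (Submodule.mem_span_singleton_self e)
        · rw [hc]; exact (GrLib8.pieceK 𝒜 𝒟F (-n)).smul_mem c he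
      · rw [DirectSum.decompose_of_mem_ne 𝒟F (i := -n) ?_ hne]
        · exact zero_mem _
        · rw [hc]; exact (GrLib8.pieceK 𝒜 𝒟F (-n)).smul_mem c he
    have he0 : e ≠ 0 := fun h => hez (by rw [h, map_zero, LinearMap.zero_apply])
    obtain ⟨y, ⟨hy1, hy2⟩, hy0⟩ := Submodule.exists_mem_ne_zero_of_ne_bot
      (hess.essential _ hP (Submodule.span_singleton_eq_bot.not.2 he0))
    obtain ⟨r, rfl⟩ := Submodule.mem_span_singleton.1 hy1
    obtain ⟨c, hc⟩ := hscal r
    obtain ⟨d, hd⟩ := hy2
    have h1 : βF (g d) (DirectSum.decompose ℱ z n : F) = 0 := by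
      rw [hg, LinearMap.mem_ker.1 hzK, map_zero]
    rw [hd, hc, map_smul, LinearMap.smul_apply, smul_eq_mul, mul_eq_zero] at h1
    exact hy0 (by rw [hc, h1.resolve_right hez, zero_smul])

end Groth.Agent.S19751
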