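import Groth.Statements.S19752
import Groth.Agent.GrLib8.GDualInj
import Groth.Agent.GrLib8.MinCover
-- import your own Groth.Agent.* helpers here

set_option autoImplicit false
universe u
open GrDual

namespace Groth.Agent.S19752

/-- Let R = ⊕_{n ≥ 0} R_n be a Noetherian graded ring with R_0 = k a field, m = R_+ and k = R/m. Then
the graded k-dual R^* = ⊕_n Hom_k(R_{−n}, k) is the injective envelope of R/m in the category of
graded R-modules: for every injective homomorphism of graded R-modules e : R/m → R^*, the module R^*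
is an injective object of the graded category and every nonzero graded submodule of R^* meets the
image of e. Here a graded ring defined over k is a commutative k-algebra of finite type, graded in
nonnegative degrees by k-subspaces with degree-zero part k·1, and R_+ is the ideal spanned by the
R_n with n > 0 (a Noetherian such ring is the same as one of finite type over k); the graded k-dual
M^* = ⊕_n Hom_k(M_{−n}, k) of a graded R-module M (with r ∈ R acting by (r f)(x) = f(r x)) is
presented abstractly as a graded R-module D with a k-bilinear pairing β : D × M → k compatible with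
the R-actions, under which D_n pairs to zero with M_m for m ≠ −n and is identified with the full
dual space of M_{−n}. -/
theorem result (k : Type u) [Field k] (R : Type u) [CommRing R] [Algebra k R] (𝒜 : ℤ → Submodule k R) [GradedAlgebra 𝒜] (hposR : ∀ n : ℤ, n < 0 → 𝒜 n = ⊥) (h0R : 𝒜 0 = Submodule.span k {(1 : R)}) [Algebra.FiniteType k R] (mR : HomogeneousIdeal 𝒜) (hmR : mR.toIdeal = Ideal.span (⋃ n ∈ Set.Ioi (0 : ℤ), (𝒜 n : Set R))) (D : Type u) [AddCommGroup D] [Module R D] [Module k D] [IsScalarTower k R D] (𝒟 : ℤ → AddSubgroup D) [DirectSum.Decomposition 𝒟] [SetLike.GradedSMul 𝒜 𝒟] (β : D →ₗ[k] R →ₗ[k] k) (hD : GrSeg.IsGDual R 𝒜 𝒟 β) (e : (R ⧸ mR.toIdeal) →ₗ[R] D) (he : Function.Injective e) (hegr : GrLC.IsGrHom (GrLC.quotGr 𝒜 mR) 𝒟 e) : GrLC.IsStarInjHull 𝒜 (GrLC.quotGr 𝒜 mR) 𝒟 e := by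
  classical
  haveI : IsNoetherianRing R := Algebra.FiniteType.isNoetherianRing k R
  refine { injective := he, grHom := hegr, essential := fun P hP hP0 => ?_, starInj := GrLib8.isStarInj_dual 𝒜 hD }
  let e1 : D := e (Submodule.Quotient.mk (1 : R))
  have he1d : e1 ∈ 𝒟 0 := hegr 0 _ ⟨1, SetLike.one_mem_graded 𝒜, rfl⟩
  have hpair0 : ∀ d ∈ 𝒟 0, β d 1 = 0 → d = 0 := fun d hd h1 => hD.eq_zero 0 d hd fun x hx => by
    rw [neg_zero] at hx
    obtain ⟨c, rfl⟩ := GrLib8.eq_algebraMap_of_mem_zero 𝒜 h0R hx
    rw [Algebra.algebraMap_eq_smul_one, map_smul, h1, smul_zero]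
  have he10 : β e1 1 ≠ 0 := fun h => by
    have h1 : (Submodule.Quotient.mk (1 : R) : R ⧸ mR.toIdeal) = 0 := he ((hpair0 e1 he1d h).trans (map_zero e).symm)
    have hirr : (GrSyz.irrel 𝒜).toIdeal = Ideal.span (⋃ n ∈ Set.Ioi (0 : ℤ), (𝒜 n : Set R)) := by
      show Ideal.span _ = _
      congr 1
      ext r
      simp [and_comm]
    rw [Submodule.Quotient.mk_eq_zero, hmR, ← hirr,
      GrLib8.mem_irrel_iff 𝒜 (fun n hn r hr => (Submodule.mem_bot k).1 ((hposR n hn).le hr)),
      DirectSum.decompose_of_mem_same 𝒜 (SetLike.one_mem_graded 𝒜)] at h1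
    haveI : Subsingleton R := subsingleton_of_zero_eq_one h1.symm
    haveI : Subsingleton D := Module.subsingleton R D
    exact hP0 (Subsingleton.elim _ _)
  obtain ⟨top, htop⟩ := GrLib8.eventually_zero_of_finite 𝒜 (GrLib8.toAdd 𝒜 hD) hposR
  have key : ∀ (j : ℕ) (n : ℤ), top + 1 - n ≤ j → ∀ d ∈ P, d ∈ 𝒟 n → d ≠ 0 → P ⊓ LinearMap.range e ≠ ⊥ := by
    intro j
    induction j with
    | zero => exact fun n hn d _ hd hne => absurd (htop n (by omega) d hd) hne
    | succ j ih =>
      intro n hn d hdP hd hne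
      by_cases hall : ∀ (i : ℤ), 0 < i → ∀ r ∈ 𝒜 i, r • d = 0
      · have hn0 : n = 0 := by
          by_contra hn0
          refine hne (hD.eq_zero n d hd fun r hr => ?_)
          rcases lt_or_gt_of_ne hn0 with h | h
          · rw [← mul_one r, ← smul_eq_mul, ← hD.map_smul, hall (-n) (by omega) r hr, map_zero, LinearMap.zero_apply]
          · rw [(Submodule.mem_bot k).1 ((hposR (-n) (by omega)).le hr), map_zero]
        subst hn0
        intro hbot
        let c : k := β d 1 / β e1 1
        have hdc : d = algebraMap k R c • e1 := by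
          rw [algebraMap_smul]
          refine sub_eq_zero.1 (hpair0 _ (sub_mem hd ((GrLib8.pieceK 𝒜 𝒟 0).smul_mem c he1d)) ?_)
          rw [map_sub, LinearMap.sub_apply, map_smul, LinearMap.smul_apply, smul_eq_mul, div_mul_cancel₀ _ he10, sub_self]
        exact hne ((Submodule.eq_bot_iff _).1 hbot d ⟨hdP, _, (map_smul e _ _).trans hdc.symm⟩)
      · push Not at hall
        obtain ⟨i, hi, r, hr, hrd⟩ := hall
        exact ih (i + n) (by omega) _ (P.smul_mem r hdP) (SetLike.GradedSMul.smul_mem (B := 𝒟) hr hd) hrd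
  obtain ⟨d, hdP, hne⟩ := Submodule.exists_mem_ne_zero_of_ne_bot hP0
  obtain ⟨n, hn⟩ : ∃ n, (DirectSum.decompose 𝒟 d n : D) ≠ 0 := by
    by_contra hall
    push Not at hall
    exact hne ((DirectSum.sum_support_decompose 𝒟 d).symm.trans (Finset.sum_eq_zero fun n _ => hall n))
  exact key (top + 1 - n).toNat n (Int.self_le_toNat _) _ (hP n hdP) (SetLike.coe_mem _) hn

end Groth.Agent.S19752
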