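import Groth.Statements.S19753
import Groth.Agent.GrLib8.SegDimRows
-- import your own Groth.Agent.* helpers here

set_option autoImplicit false
universe u
open scoped TensorProduct
open GrSegre

namespace Groth.Agent.S19753

/-- Let R and S be graded rings defined over a field k, both generated over k by their degree-one parts
and of positive Krull dimension, T = R # S, and let M and N be finitely generated graded modules
over R and S respectively, neither of them Artinian. Then dim (M # N) = dim M + dim N − 1,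
dimensions being Krull dimensions of supports. Here a graded ring defined over k is a commutative
k-algebra of finite type, graded in nonnegative degrees by k-subspaces with degree-zero part k·1;
the Segre product T = R # S = ⊕_n R_n ⊗_k S_n is presented abstractly as a graded k-algebra T with
an injective k-algebra homomorphism ψ : T → R ⊗_k S carrying T_n onto the k-span of the elementary
tensors a ⊗ b with a ∈ R_n, b ∈ S_n; the Segre product M # N = ⊕_n M_n ⊗_k N_n of a graded R-module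
M and a graded S-module N is presented abstractly as a graded T-module P with an injective k-linear
map φ : P → M ⊗_k N carrying P_n onto the k-span of the tensors x ⊗ y with x ∈ M_n, y ∈ N_n and
turning the action of t ∈ T into that of ψ(t) (acting factorwise on M ⊗_k N). -/
theorem result (k : Type u) [Field k] (R : Type u) [CommRing R] [Algebra k R] (𝒜 : ℤ → Submodule k R) [GradedAlgebra 𝒜] (hposR : ∀ n : ℤ, n < 0 → 𝒜 n = ⊥) (h0R : 𝒜 0 = Submodule.span k {(1 : R)}) [Algebra.FiniteType k R] (S : Type u) [CommRing S] [Algebra k S] (ℬ : ℤ → Submodule k S) [GradedAlgebra ℬ] (hposS : ∀ n : ℤ, n < 0 → ℬ n = ⊥) (h0S : ℬ 0 = Submodule.span k {(1 : S)}) [Algebra.FiniteType k S] (T : Type u) [CommRing T] [Algebra k T] (𝒯 : ℤ → Submodule k T) [GradedAlgebra 𝒯] (ψ : T →ₐ[k] TensorProduct k R S) (hT : GrSeg.IsSegreRing 𝒜 ℬ 𝒯 ψ) (hstdR : Ideal.span (⋃ n ∈ Set.Ioi (0 : ℤ), (𝒜 n : Set R)) = Ideal.span ((𝒜 1 : Submodule k R) : Set R)) (hstdS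 : Ideal.span (⋃ n ∈ Set.Ioi (0 : ℤ), (ℬ n : Set S)) = Ideal.span ((ℬ 1 : Submodule k S) : Set S)) (hr1 : 1 ≤ ringKrullDim R) (hs1 : 1 ≤ ringKrullDim S) (M : Type u) [AddCommGroup M] [Module R M] [Module k M] [IsScalarTower k R M] (ℳ : ℤ → AddSubgroup M) [DirectSum.Decomposition ℳ] [SetLike.GradedSMul 𝒜 ℳ] [Module.Finite R M] (N : Type u) [AddCommGroup N] [Module S N] [Module k N] [IsScalarTower k S N] (𝒩 : ℤ → AddSubgroup N) [DirectSum.Decomposition 𝒩] [SetLike.GradedSMul ℬ 𝒩] [Module.Finite S N] (P : Type u) [AddCommGroup P] [Module T P] [Module k P] [IsScalarTower k T P] (𝒬 : ℤ → AddSubgroup P) [DirectSum.Decomposition 𝒬] (φ : P →ₗ[k] TensorProduct k M N) (hP : GrSeg.IsSegreMod ψ ℳ 𝒩 𝒬 φ) (dM dN : ℕ) (hdM : Module.supportDim R M = dM) (hdN : Module.supportDim S N = dN) (hMA : ¬ IsArtinian R M) (hNA : ¬ IsArtinian S N) : Module.supportDim T P = ((dM + dN - 1 : ℕ) : WithBot ℕ∞) := by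
  classical
  haveI : IsNoetherianRing R := Algebra.FiniteType.isNoetherianRing k R
  haveI : IsNoetherianRing S := Algebra.FiniteType.isNoetherianRing k S
  haveI := GrLib8.Seg.isNoetherian_segre 𝒜 ℬ ℳ 𝒩 𝒯 𝒬 hT.2 hP
  haveI : Module.Finite T P := Module.Finite.of_fg_top (IsNoetherian.noetherian ⊤)
  have hdM1 := GrLib8.SegDim.one_le_of_not_isArtinian hdM hMA
  have hdN1 := GrLib8.SegDim.one_le_of_not_isArtinian hdN hNA
  obtain ⟨D₁, hD₁, hR⟩ := GrLib8.SegDim.exists_mod_params 𝒜 hposR h0R ℳ dM hdM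
  obtain ⟨D₂, hD₂, hS⟩ := GrLib8.SegDim.exists_mod_params ℬ hposS h0S 𝒩 dN hdN
  obtain ⟨f, hf, hfinj, hffin⟩ := hR (D₁ * D₂) (Nat.mul_pos hD₁ hD₂) (dvd_mul_right _ _)
  obtain ⟨g, hg, hginj, hgfin⟩ := hS (D₁ * D₂) (Nat.mul_pos hD₁ hD₂) (dvd_mul_left _ _)
  obtain ⟨a, x, hx, hxf⟩ := GrLib8.SegDim.exists_free_elem 𝒜 ℳ f (GrLib8.SegDim.faithful f hfinj)
  obtain ⟨b, y, hy, hyf⟩ := GrLib8.SegDim.exists_free_elem ℬ 𝒩 g (GrLib8.SegDim.faithful g hginj)
  have hsR : (GrSyz.irrel 𝒜).toIdeal ≤ Ideal.span ((𝒜 1 : Submodule k R) : Set R) := by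
    rw [← hstdR]
    refine Ideal.span_le.2 ?_
    rintro r ⟨n, hn, hr⟩
    exact Ideal.subset_span (Set.mem_iUnion₂.2 ⟨n, hn, hr⟩)
  have hsS : (GrSyz.irrel ℬ).toIdeal ≤ Ideal.span ((ℬ 1 : Submodule k S) : Set S) := by
    rw [← hstdS]
    refine Ideal.span_le.2 ?_
    rintro r ⟨n, hn, hr⟩
    exact Ideal.subset_span (Set.mem_iUnion₂.2 ⟨n, hn, hr⟩)
  obtain ⟨x', hx', hxf'⟩ := GrLib8.SegDim.exists_free_succ 𝒜 ℳ (Nat.mul_pos hD₁ hD₂) hdM1 f hf hsR hx hxf (max a b - a).toNat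
  obtain ⟨y', hy', hyf'⟩ := GrLib8.SegDim.exists_free_succ ℬ 𝒩 (Nat.mul_pos hD₁ hD₂) hdN1 g hg hsS hy hyf (max a b - b).toNat
  rw [Int.toNat_of_nonneg (by omega), add_sub_cancel] at hx' hy'
  exact GrLib8.SegDim.supportDim_eq 𝒜 ℬ 𝒯 ℳ 𝒩 𝒬 f g (Nat.mul_pos hD₁ hD₂) hf hg hfinj hginj hffin hgfin hT hP
    hdM1 hdN1 hx' hy' hxf' hyf'

end Groth.Agent.S19753
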