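import Groth.Statements.S19760
import Groth.Agent.GrLib8.GDualInj
-- import your own Groth.Agent.* helpers here

set_option autoImplicit false
universe u
open GrDual

namespace Groth.Agent.S19760

/-- Let R = ⊕_{n ≥ 0} R_n be a Noetherian graded ring with R_0 = k a field and R^* = ⊕_n Hom_k(R_{−n},
k) its graded k-dual. A graded R-module M is Artinian exactly when, for some t and some integer
shifts n_1, …, n_t, it embeds as a graded module into the direct sum of the shifted duals R^*(n_1),
…, R^*(n_t), that is, when there is an injective R-linear map M → (R^*)^t whose i-th component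
carries M_g into R^*_{g+n_i} for every g. Here a graded ring defined over k is a commutative
k-algebra of finite type, graded in nonnegative degrees by k-subspaces with degree-zero part k·1,
and R_+ is the ideal spanned by the R_n with n > 0 (a Noetherian such ring is the same as one of
finite type over k); the graded k-dual M^* = ⊕_n Hom_k(M_{−n}, k) of a graded R-module M (with r ∈ R
acting by (r f)(x) = f(r x)) is presented abstractly as a graded R-module D with a k-bilinear
pairing β : D × M → k compatible with the R-actions, under which D_n pairs to zero with M_m for m ≠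
−n and is identified with the full dual space of M_{−n}. -/
theorem result (k : Type u) [Field k] (R : Type u) [CommRing R] [Algebra k R] (𝒜 : ℤ → Submodule k R) [GradedAlgebra 𝒜] (hposR : ∀ n : ℤ, n < 0 → 𝒜 n = ⊥) (h0R : 𝒜 0 = Submodule.span k {(1 : R)}) [Algebra.FiniteType k R] (D : Type u) [AddCommGroup D] [Module R D] [Module k D] [IsScalarTower k R D] (𝒟 : ℤ → AddSubgroup D) [DirectSum.Decomposition 𝒟] [SetLike.GradedSMul 𝒜 𝒟] (β : D →ₗ[k] R →ₗ[k] k) (hD : GrSeg.IsGDual R 𝒜 𝒟 β) (M : Type u) [AddCommGroup M] [Module R M] [Module k M] [IsScalarTower k R M] (ℳ : ℤ → AddSubgroup M) [DirectSum.Decomposition ℳ] [SetLike.GradedSMul 𝒜 ℳ] : IsArtinian R M ↔ ∃ (t : ℕ) (sh : Fin t → ℤ) (f : M →ₗ[R] (Fin t → D)), Function.Injective f ∧ ∀ (i : Fin t) (g : ℤ) (x : M), x ∈ ℳ g → f x i ∈ 𝒟 (g + sh i) := by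
  classical
  constructor
  · intro hM
    haveI := hM
    haveI : IsNoetherianRing R := Algebra.FiniteType.isNoetherianRing k R
    let Idx := (M →ₗ[k] k) × ℤ
    have hfam : ∀ p : Idx, ∃ f : M →ₗ[R] D, (∀ (g : ℤ) (x : M), x ∈ ℳ g → f x ∈ 𝒟 (g + p.2)) ∧
        ∀ (x : M) (r : R), β (f x) r = p.1 (DirectSum.decompose ℳ (r • x) (-p.2) : M) :=
      fun p => GrLib8.exists_toD 𝒜 hD p.1 p.2
    choose F hFdeg hFβ using hfam
    obtain ⟨_, ⟨T, rfl⟩, hmin⟩ := (wellFounded_lt (α := Submodule R M)).has_min
      (Set.range fun T : Finset Idx => T.inf fun p => LinearMap.ker (F p)) ⟨_, ∅, rfl⟩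
    let e := T.equivFin
    refine ⟨T.card, fun i => (e.symm i).1.2, LinearMap.pi fun i => F (e.symm i).1,
      (injective_iff_map_eq_zero _).2 fun x hx => ?_, fun i g x hx => hFdeg _ g x hx⟩
    by_contra hx0
    obtain ⟨n, hn⟩ : ∃ n, (DirectSum.decompose ℳ x n : M) ≠ 0 := by
      by_contra hall
      push Not at hall
      exact hx0 ((DirectSum.sum_support_decompose ℳ x).symm.trans (Finset.sum_eq_zero fun n _ => hall n))
    obtain ⟨ξ, hξ, -⟩ := (⊥ : Submodule k M).exists_le_ker_of_notMem (v := (DirectSum.decompose ℳ x n : M)) (by simpa using hn)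
    let p : Idx := (ξ, -n)
    have hxT : x ∈ T.inf fun q => LinearMap.ker (F q) := (Submodule.mem_finsetInf).2 fun q hq =>
      LinearMap.mem_ker.2 (by simpa using congrFun hx (e ⟨q, hq⟩))
    refine hmin _ ⟨insert p T, rfl⟩ (lt_of_le_not_ge (Finset.inf_mono (Finset.subset_insert p T)) fun hle => ?_)
    have h1 : F p x = 0 := (Submodule.mem_finsetInf).1 (hle hxT) p (Finset.mem_insert_self p T)
    have h2 := hFβ p x 1
    rw [h1, one_smul, map_zero, LinearMap.zero_apply, neg_neg] at h2
    exact hξ h2.symm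
  · rintro ⟨t, sh, f, hf, -⟩
    haveI := GrLib8.isArtinian_of_finite 𝒜 (GrLib8.toAdd 𝒜 hD) hposR h0R
    exact isArtinian_of_injective f hf

end Groth.Agent.S19760
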