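import Groth.Statements.S19762
import Groth.Agent.GrLib8.GDualLattice
-- import your own Groth.Agent.* helpers here

set_option autoImplicit false
universe u
open GrDual

namespace Groth.Agent.S19762

/-- Let R = ⊕_{n ≥ 0} R_n be a Noetherian graded ring with R_0 = k a field. The graded k-dual is an
equivalence between Noetherian graded R-modules and the opposite category of Artinian graded
R-modules; on morphisms: for finitely generated graded R-modules F and M, every homomorphism of
graded R-modules g : M^* → F^* is f^* for a unique homomorphism of graded R-modules f : F → M. Here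
a graded ring defined over k is a commutative k-algebra of finite type, graded in nonnegative
degrees by k-subspaces with degree-zero part k·1, and R_+ is the ideal spanned by the R_n with n > 0
(a Noetherian such ring is the same as one of finite type over k); the graded k-dual M^* = ⊕_n
Hom_k(M_{−n}, k) of a graded R-module M (with r ∈ R acting by (r f)(x) = f(r x)) is presented
abstractly as a graded R-module D with a k-bilinear pairing β : D × M → k compatible with the
R-actions, under which D_n pairs to zero with M_m for m ≠ −n and is identified with the full dual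
space of M_{−n}; f^* = g means β_F(g d, x) = β_M(d, f x) for all d and x. -/
theorem result (k : Type u) [Field k] (R : Type u) [CommRing R] [Algebra k R] (𝒜 : ℤ → Submodule k R) [GradedAlgebra 𝒜] (hposR : ∀ n : ℤ, n < 0 → 𝒜 n = ⊥) (h0R : 𝒜 0 = Submodule.span k {(1 : R)}) [Algebra.FiniteType k R] (F : Type u) [AddCommGroup F] [Module R F] [Module k F] [IsScalarTower k R F] (ℱ : ℤ → AddSubgroup F) [DirectSum.Decomposition ℱ] [SetLike.GradedSMul 𝒜 ℱ] [Module.Finite R F] (M : Type u) [AddCommGroup M] [Module R M] [Module k M] [IsScalarTower k R M] (ℳ : ℤ → AddSubgroup M) [DirectSum.Decomposition ℳ] [SetLike.GradedSMul 𝒜 ℳ] [Module.Finite R M] (DM : Type u) [AddCommGroup DM] [Module R DM] [Module k DM] [IsScalarTower k R DM] (𝒟M : ℤ → AddSubgroup DM) [DirectSum.Decomposition 𝒟M] [SetLike.GradedSMul 𝒜 𝒟M] (βM : DM →ₗ[k] M →ₗ[k] k) (hDM : GrSeg.IsGDual R ℳ 𝒟M βM) (DF : Type u) [AddCommGroup DF] [Module R DF] [Module k DF] [IsScalarTower k R DF] (𝒟F : ℤ → AddSubgroup DF) [DirectSum.Decomposition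 𝒟F] [SetLike.GradedSMul 𝒜 𝒟F] (βF : DF →ₗ[k] F →ₗ[k] k) (hDF : GrSeg.IsGDual R ℱ 𝒟F βF) (g : DM →ₗ[R] DF) (hg : GrLC.IsGrHom 𝒟M 𝒟F g) : ∃! f : F →ₗ[R] M, GrLC.IsGrHom ℱ ℳ f ∧ GrSeg.IsGDualMap βM βF f g := by
  classical
  let Φ : M →ₗ[k] Module.Dual k DM := βM.flip
  have hinj : Function.Injective Φ := (injective_iff_map_eq_zero _).2 fun x hx =>
    GrLib8.eq_zero_of_pair_right 𝒜 hDM fun d => LinearMap.congr_fun hx d
  let ξ : F →ₗ[k] Module.Dual k DM := (βF ∘ₗ g.restrictScalars k).flip
  have hhom : ∀ (j : ℤ), ∀ x ∈ ℱ j, ∃ y ∈ ℳ j, Φ y = ξ x := by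
    intro j x hx
    haveI := GrLib8.finite_pieceK 𝒜 ℳ hposR h0R (- -j)
    obtain ⟨y, hy, hyd⟩ := GrLib8.exists_of_functional 𝒜 hDM (-j) (ξ x)
    rw [neg_neg] at hy
    refine ⟨y, hy, LinearMap.ext fun d => ?_⟩
    show βM d y = βF (g d) x
    have h2 : βF (g d) x = βF (g (DirectSum.decompose 𝒟M d (-j) : DM)) x := by
      rw [GrLib8.pair_left hDF (g d) hx]
      exact congrArg (fun e => βF e x) (GrLib8.map_decompose_deg g (GrLib8.isGrHomDeg_zero_iff.2 hg) d (-j) |>.trans
        (by rw [add_zero])).symm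
    rw [GrLib8.pair_left hDM d hy, h2]
    exact hyd _ (SetLike.coe_mem _)
  have hall : ∀ x : F, ∃ y : M, Φ y = ξ x := fun x => by
    refine DirectSum.Decomposition.inductionOn ℱ ⟨0, by rw [map_zero, map_zero]⟩ (fun {i} z => ?_) (fun a b ha hb => ?_) x
    · obtain ⟨y, -, hy⟩ := hhom i z z.2
      exact ⟨y, hy⟩
    · obtain ⟨ya, hya⟩ := ha
      obtain ⟨yb, hyb⟩ := hb
      exact ⟨ya + yb, by rw [map_add, map_add, hya, hyb]⟩
  choose f hf using hall
  have hfadd : ∀ a b, f (a + b) = f a + f b := fun a b => hinj (by rw [map_add, hf, hf, hf, map_add])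
  have hfsmul : ∀ (r : R) (x : F), f (r • x) = r • f x := fun r x => hinj <| LinearMap.ext fun d => by
    rw [hf]
    show βF (g d) (r • x) = βM d (r • f x)
    rw [← hDF.map_smul, ← map_smul, ← hDM.map_smul]
    exact (LinearMap.congr_fun (hf x) (r • d)).symm
  refine ⟨⟨⟨f, hfadd⟩, hfsmul⟩, ⟨fun j x hx => ?_, fun d x => (LinearMap.congr_fun (hf x) d).symm⟩, fun f' hf' => ?_⟩
  · obtain ⟨y, hy, hyx⟩ := hhom j x hx
    show f x ∈ ℳ j
    rwa [hinj ((hf x).trans hyx.symm)]
  · exact LinearMap.ext fun x => hinj (LinearMap.ext fun d => ((hf'.2 d x).symm).trans (LinearMap.congr_fun (hf x) d).symm)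

end Groth.Agent.S19762
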