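import Groth.Statements.S19769
import Groth.Agent.H23.KLBasic
-- import your own Groth.Agent.* helpers here

set_option autoImplicit false
universe u
open CategoryTheory MonoidalCategory CartesianMonoidalCategory MonObj GrpObj AlgebraicGeometry
open AbVar

namespace Groth.Agent.S19769

/-- Let X be an abelian variety over a field k (a proper, geometrically integral k-group scheme), L an
invertible O_X-module, and i : K → X a closed immersion exhibiting K as K(L) (the maximal closed
subscheme over which the Mumford bundle m^*L ⊗ p_1^*L⁻¹ ⊗ p_2^*L⁻¹, restricted to X ×_k K, is the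
inverse image of an invertible module on K, with its universal property). Then K is a subgroup
scheme of X: for every k-scheme T, the set of T-valued points of X that factor through i is closed
under the group law of X(T), contains the unit, and is closed under inversion. -/
theorem result (k : Type u) [Field k] (X : Over (Spec (CommRingCat.of k)))
    [GrpObj X] [IsProper X.hom] [GeometricallyIntegral X.hom] (L : X.left.Modules) (hL : PicF.IsInvertible L)
    (K : Over (Spec (CommRingCat.of k))) (i : K ⟶ X) (hK : ThetaGrp.IsKL X L i)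
    (T : Over (Spec (CommRingCat.of k))) :
    (∀ y₁ y₂ : T ⟶ K, ∃ y : T ⟶ K, y ≫ i = (y₁ ≫ i) * (y₂ ≫ i)) ∧
      (∃ y : T ⟶ K, y ≫ i = 1) ∧
      (∀ y₁ : T ⟶ K, ∃ y : T ⟶ K, y ≫ i = (y₁ ≫ i)⁻¹) := by
  open Groth.Agent.H23 in
  open scoped Groth.Agent.H23.PicMul in
  · refine ⟨fun y₁ y₂ => ?_, ?_, fun y₁ => ?_⟩
    · obtain ⟨c, hc, h⟩ := (KLBasic.mumford_iff hL _).1 ((hK.univ T (y₁ ≫ i)).2 ⟨y₁, rfl⟩)
      obtain ⟨d, hd, h'⟩ := (KLBasic.mumford_iff hL _).1 ((hK.univ T (y₂ ≫ i)).2 ⟨y₂, rfl⟩)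
      exact (hK.univ T _).1 ((KLBasic.mumford_iff hL _).2
        ⟨c * d, PicMul.isInvertibleCl_mul hc hd, KLBasic.eq_mul h h'⟩)
    · exact (hK.univ T _).1 ((KLBasic.mumford_iff hL _).2
        ⟨1, ⟨_, rfl, PicLoc.isInvertible_structureModule _⟩, KLBasic.eq_one T⟩)
    · obtain ⟨c, hc, h⟩ := (KLBasic.mumford_iff hL _).1 ((hK.univ T (y₁ ≫ i)).2 ⟨y₁, rfl⟩)
      obtain ⟨d, hd⟩ := PicMul.exists_inv ⟨c, hc⟩
      exact (hK.univ T _).1 ((KLBasic.mumford_iff hL _).2
        ⟨d.1, d.2, KLBasic.eq_inv h ((mul_comm _ _).trans hd)⟩)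

end Groth.Agent.S19769
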