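import Groth.Statements.S19770
import Groth.Agent.H23.KLBasic
-- import your own Groth.Agent.* helpers here

set_option autoImplicit false
universe u
open CategoryTheory MonoidalCategory CartesianMonoidalCategory MonObj GrpObj AlgebraicGeometry
open AbVar

namespace Groth.Agent.S19770

/-- Let X be an abelian variety over a field k (a proper, geometrically integral k-group scheme), L an
invertible O_X-module, i : K → X a closed immersion exhibiting K as K(L) (the maximal closed
subscheme over which the Mumford bundle m^*L ⊗ p_1^*L⁻¹ ⊗ p_2^*L⁻¹, restricted to X ×_k K, is the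
inverse image of an invertible module on K, with its universal property), and B a k-group scheme
with a homomorphism j : B → X that factors through i. Write M = j^*L. Then M ⊗ [-1]^*M ≅ O_B, where
[-1] : B → B is the inversion (existence of an isomorphism). (The published statement assumes k
algebraically closed and takes for B the reduced identity component of K(L), an abelian subvariety;
the argument — restrict the Mumford bundle to B × B and pull back along (1, -1) — applies to any
group scheme over k mapping homomorphically into K(L).) -/
theorem result (k : Type u) [Field k] (X : Over (Spec (CommRingCat.of k)))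
    [GrpObj X] [IsProper X.hom] [GeometricallyIntegral X.hom] (L : X.left.Modules) (hL : PicF.IsInvertible L)
    (K : Over (Spec (CommRingCat.of k))) (i : K ⟶ X) (hK : ThetaGrp.IsKL X L i)
    (B : Over (Spec (CommRingCat.of k))) [GrpObj B] (j : B ⟶ X) [IsMonHom j] (hj : ∃ y : B ⟶ K, y ≫ i = j) :
    Nonempty (CohB1.tensorMod ((Scheme.Modules.pullback j.left).obj L)
        ((Scheme.Modules.pullback ((𝟙 B)⁻¹ ≫ j).left).obj L) ≅ Coh.structureModule B.left) := by
  open Groth.Agent.H23 in
  open scoped Groth.Agent.H23.PicMul in
  · haveI : Subsingleton (Spec (CommRingCat.of k)) := inferInstanceAs (Subsingleton (PrimeSpectrum k))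
    haveI : Nonempty (Spec (CommRingCat.of k)) := inferInstanceAs (Nonempty (PrimeSpectrum k))
    obtain ⟨y, hy⟩ := hj
    have h := (KLBasic.iff_eq_pull hL j).1 ((hK.univ B j).2 ⟨y, hy⟩)
    have h' := congrArg (PicF.pullCl (lift ((𝟙 B)⁻¹ ≫ j) (𝟙 B)).left) h
    rw [PicMul.pullCl_mul, Groth.Agent.PicClLib.pullCl_comp, Groth.Agent.PicClLib.pullCl_comp,
      Groth.Agent.PicClLib.pullCl_comp, ← Over.comp_left, ← Over.comp_left, ← Over.comp_left, lift_fst, lift_snd,
      Over.id_left, Groth.Agent.PicClLib.pullCl_id] at h'
    have e : lift ((𝟙 B)⁻¹ ≫ j) (𝟙 B) ≫ ThetaGrp.transl X j ≫ fst X B = 1 := by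
      rw [ThetaGrp.transl_fst, MonObj.comp_mul, lift_fst, lift_snd_assoc, Category.id_comp, GrpObj.inv_comp,
        Category.id_comp, inv_mul_cancel]
    rw [e, KLBasic.pull_one hL] at h'
    refine (PicGrp.cl_eq_cl_iff _ _).1 ?_
    rw [PicMul.cl_tensor, ← PicMul.one_def]
    exact (mul_comm _ _).trans h'.symm

end Groth.Agent.S19770
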