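import Groth.Statements.S19771
import Groth.Agent.AmpleX.RelAffine
import Groth.Agent.Lib.AVDualIsog
import Groth.Agent.Lib.AVDualBC
import Groth.Agent.Lib.NefPull
import Groth.Agent.AmpleX.BaseChange
import Groth.Agent.S12002

set_option autoImplicit false
set_option backward.isDefEq.respectTransparency false
set_option backward.isDefEq.respectTransparency.types false
set_option linter.style.haveILetI false
set_option linter.unusedSectionVars false
set_option maxHeartbeats 400000
universe u
open CategoryTheory MonoidalCategory CartesianMonoidalCategory MonObj GrpObj AlgebraicGeometry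
open AbSch

namespace Groth.Agent.S19771

/-- Let S be a scheme, A an abelian scheme over S (an S-group scheme whose structure morphism is proper
and smooth with geometrically connected fibres), L an O_A-module that is ample relative to A → S
(the structure morphism is quasi-compact and L restricted to the preimage of every affine open of S
is ample; in particular L is invertible), and i : K → A a closed immersion of S-schemes exhibiting K
as K(L): the maximal closed subscheme over which the Mumford bundle m^*L ⊗ p_1^*L⁻¹ ⊗ p_2^*L⁻¹ on A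
×_S A, restricted to A ×_S K, is the inverse image of an invertible module on K, with its universal
property for S-morphisms T → A. Then K is finite over S. -/
theorem result {S : Scheme.{u}} (A : Over S)
    [GrpObj A] [IsProper A.hom] [Smooth A.hom] [GeometricallyConnected A.hom] (L : A.left.Modules)
    (hL : RelAmple.IsRelAmple A.hom L)
    (K : Over S) (i : K ⟶ A) (hK : ThetaGrp.IsKL A L i) :
    IsFinite K.hom := by
  haveI := hK.closed
  haveI hKp : IsProper K.hom := by rw [← Over.w i]; infer_instance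
  refine Groth.Agent.AVDualIsog.isFinite_of_points K.hom fun Ω _ _ σ => ?_
  letI := fun (Y : Scheme.{u}) => Groth.Agent.H23.PicMul.clMonoid (X := Y)
  haveI := Groth.Agent.AbDualBase.geometricallyIntegral_fibre σ A
  let G := Over.pullback σ
  haveI : IsProper (G.obj A).hom := inferInstanceAs (IsProper (Limits.pullback.snd A.hom σ))
  let Lσ : (G.obj A).left.Modules := (Scheme.Modules.pullback (Limits.pullback.fst A.hom σ)).obj L
  have hamp : CohB1.IsAmple Lσ := by
    have h := (Groth.Agent.AmpleX.isRelAmple_baseChange A.hom σ hL).2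
      ⟨⊤, isAffineOpen_top (Spec (CommRingCat.of Ω))⟩
    let u := (Limits.pullback.snd A.hom σ ⁻¹ᵁ (⊤ : (Spec (CommRingCat.of Ω)).Opens)).ι
    haveI : IsIso u := by
      show IsIso (⊤ : (Limits.pullback A.hom σ).Opens).ι
      rw [← Scheme.topIso_hom]
      infer_instance
    haveI : CompactSpace (G.obj A).left := QuasiCompact.compactSpace_of_compactSpace (G.obj A).hom
    refine Groth.Agent.AmpleX.isAmple_of_iso ?_ (Groth.Agent.AmpleVan.FiniteSurj.isAmple_pullback_of_isAffineHom (inv u) h)
    exact (Scheme.Modules.pullback (inv u)).mapIso ((Scheme.Modules.restrictFunctorIsoPullback u).app Lσ) ≪≫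
      (Scheme.Modules.pullbackComp (inv u) u).app Lσ ≪≫
      eqToIso (congrArg (fun m => (Scheme.Modules.pullback m).obj Lσ) (IsIso.inv_hom_id u)) ≪≫
      (Scheme.Modules.pullbackId _).app Lσ
  haveI : Finite {a : 𝟙_ (Over (Spec (CommRingCat.of Ω))) ⟶ G.obj A //
      Nonempty ((Scheme.Modules.pullback ((𝟙 (G.obj A) * (toUnit (G.obj A) ≫ a))).left).obj Lσ ≅ Lσ)} :=
    (S12002.result Ω (G.obj A) Lσ hamp).to_subtype
  let pt : {q : Spec (CommRingCat.of Ω) ⟶ K.left // q ≫ K.hom = σ} → (Over.mk σ ⟶ K) := fun q =>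
    Over.homMk q.1 q.2
  have hfix : ∀ x : Over.mk σ ⟶ K, Nonempty ((Scheme.Modules.pullback
      ((𝟙 (G.obj A) * (toUnit (G.obj A) ≫ Groth.Agent.AVDualIsog.toFibre σ (x ≫ i)))).left).obj Lσ ≅ Lσ) := by
    intro x
    obtain ⟨M, hM, ⟨e⟩⟩ := (hK.univ _ (x ≫ i)).2 ⟨x, rfl⟩
    haveI : Subsingleton ↥(Spec (CommRingCat.of Ω)) := inferInstanceAs (Subsingleton (PrimeSpectrum Ω))
    haveI : Nonempty ↥(Spec (CommRingCat.of Ω)) := inferInstanceAs (Nonempty (PrimeSpectrum Ω))
    have hM1 : PicF.cl M = (1 : PicF.Cl (Over.mk σ).left) := by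
      obtain ⟨t⟩ := Groth.Agent.NefPull.triv_of_subsingleton (Z := Spec (CommRingCat.of Ω)) hM
      exact (PicGrp.cl_eq_cl_iff _ _).2 ⟨t⟩
    have hp : PicF.pullCl (snd A (Over.mk σ) ≫ x ≫ i).left (PicF.cl L) = 1 := by
      rw [Over.comp_left, ← PicClLib.pullCl_comp]
      obtain ⟨t⟩ := Groth.Agent.NefPull.triv_of_subsingleton (Z := Spec (CommRingCat.of Ω))
        (PicClLib.isInvertible_pullback (x ≫ i).left (Groth.Agent.AmpleX.isInvertible_of_isRelAmple hL))
      rw [show PicF.pullCl (x ≫ i).left (PicF.cl L) = 1 from (PicGrp.cl_eq_cl_iff _ _).2 ⟨t⟩]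
      exact Groth.Agent.H23.PicMul.pullCl_one _
    have e' := (PicGrp.cl_eq_cl_iff _ _).2 ⟨e⟩
    rw [Groth.Agent.H23.PicMul.cl_tensor, Groth.Agent.H23.PicMul.cl_tensor] at e'
    change PicF.pullCl _ (PicF.cl M) * PicF.pullCl _ (PicF.cl L) * PicF.pullCl _ (PicF.cl L) =
      PicF.pullCl _ (PicF.cl L) at e'
    rw [hM1, hp, Groth.Agent.H23.PicMul.pullCl_one, _root_.one_mul, _root_.mul_one] at e'
    let U := G.obj A
    let d : Groth.Agent.AVDualBC.dn σ U ⟶ A ⊗ Over.mk σ :=
      Over.homMk (𝟙 _) ((Category.id_comp _).trans Limits.pullback.condition)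
    have h1 : Groth.Agent.AVDualBC.up (f := σ) (d ≫ fst A (Over.mk σ)) = 𝟙 U := by
      refine Over.OverMorphism.ext (Limits.pullback.hom_ext ?_ ?_)
      · rw [Groth.Agent.AVDualBC.up_fst]
        simp [d, U, G, Over.pullback]
      · exact (Over.w (Groth.Agent.AVDualBC.up (f := σ) (d ≫ fst A (Over.mk σ)))).trans (Over.w (𝟙 U)).symm
    have h2 : Groth.Agent.AVDualBC.up (f := σ) (d ≫ snd A (Over.mk σ) ≫ x ≫ i) =
        toUnit U ≫ Groth.Agent.AVDualIsog.toFibre σ (x ≫ i) := by
      refine Over.OverMorphism.ext (Limits.pullback.hom_ext ?_ ?_)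
      · rw [Groth.Agent.AVDualBC.up_fst]
        simp [d, U, G, Over.pullback, Groth.Agent.AVDualIsog.toFibre]
      · exact (Over.w (Groth.Agent.AVDualBC.up (f := σ) (d ≫ snd A (Over.mk σ) ≫ x ≫ i))).trans
          (Over.w (toUnit U ≫ Groth.Agent.AVDualIsog.toFibre σ (x ≫ i))).symm
    have hmu : (A ◁ (x ≫ i)) ≫ μ[A] = fst A (Over.mk σ) * (snd A (Over.mk σ) ≫ x ≫ i) := by
      rw [Hom.mul_def]
      congr 1
    have h3 : ((A ◁ (x ≫ i)) ≫ μ[A]).left =
        (𝟙 U * (toUnit U ≫ Groth.Agent.AVDualIsog.toFibre σ (x ≫ i))).left ≫ Limits.pullback.fst A.hom σ := by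
      rw [← h1, ← h2, ← Groth.Agent.AVDualBC.up_mul, ← MonObj.comp_mul, Groth.Agent.AVDualBC.up_fst, hmu]
      exact (Category.id_comp _).symm
    refine (PicGrp.cl_eq_cl_iff _ _).1 ?_
    show PicF.pullCl _ (PicF.pullCl _ (PicF.cl L)) = PicF.pullCl _ (PicF.cl L)
    rw [PicClLib.pullCl_comp, ← h3]
    exact e'.symm
  exact Finite.of_injective (fun q => (⟨Groth.Agent.AVDualIsog.toFibre σ (pt q ≫ i), hfix _⟩ :
    {a : 𝟙_ (Over (Spec (CommRingCat.of Ω))) ⟶ G.obj A //
      Nonempty ((Scheme.Modules.pullback ((𝟙 (G.obj A) * (toUnit (G.obj A) ≫ a))).left).obj Lσ ≅ Lσ)}))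
    fun q r h => by
      haveI : Mono i.left := inferInstance
      have := congrArg CommaMorphism.left (Groth.Agent.AVDualIsog.toFibre_injective σ (congrArg Subtype.val h))
      exact Subtype.ext ((cancel_mono i.left).1 this)

end Groth.Agent.S19771
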