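import Groth.Statements.S19774
import Groth.Agent.Lib.AVPoincareD
import Groth.Agent.Lib.DerivedBC
import Groth.Agent.Lib.DerivedNat
import Groth.Agent.Lib.AVDualStructClosed
import Groth.Agent.KFlatLib.Scheme.TriNatShift

set_option autoImplicit false
set_option backward.isDefEq.respectTransparency false
set_option backward.isDefEq.respectTransparency.types false
set_option linter.style.haveILetI false
set_option linter.unusedSectionVars false
set_option maxHeartbeats 400000
universe u
open CategoryTheory CategoryTheory.Limits MonoidalCategory CartesianMonoidalCategory MonObj GrpObj AlgebraicGeometry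
attribute [local instance] HasDerivedCategory.standard
open AbVar

namespace Groth.Agent.S19774

set_option maxHeartbeats 1600000
open Groth.Agent.H23 Groth.Agent.AVPair
open Groth.Agent.Lib
open scoped Groth.Agent.H23.PicMul
open CategoryTheory.Limits
open Groth.Agent.AVCube Groth.Agent.AVKLExist

namespace Aux

variable {k : Type u} [Field k] {A : Over (Spec (CommRingCat.of k))} [GrpObj A] [IsProper A.hom]
  [GeometricallyIntegral A.hom] {L : A.left.Modules} (hL : PicF.IsInvertible L)

theorem pc_inv_val {L' : A.left.Modules} (hLL : (PicF.cl L : PicF.Cl A.left) * PicF.cl L' = 1)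
    {T : Over (Spec (CommRingCat.of k))} (f : T ⟶ A) :
    (((pc hL f)⁻¹ : (PicF.Cl T.left)ˣ) : PicF.Cl T.left) = pl f (PicF.cl L' : PicF.Cl A.left) := by
  refine Units.inv_eq_of_mul_eq_one_right ?_
  show pl f (PicF.cl L) * _ = _
  rw [← map_mul, hLL, map_one]

theorem mum_one (T : Over (Spec (CommRingCat.of k))) : mum hL (1 : T ⟶ A) = 1 :=
  mul_left_cancel (a := mum hL (1 : T ⟶ A)) (by rw [← AVDualExist.mum_mul, _root_.mul_one, _root_.mul_one])

theorem class_eq {L' : A.left.Modules} (hLL : (PicF.cl L : PicF.Cl A.left) * PicF.cl L' = 1) :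
    pl (fst A A) (PicF.cl L : PicF.Cl A.left) * pl (fst A A * (snd A A)⁻¹) (PicF.cl L' : PicF.Cl A.left) =
      (mum hL (𝟙 A) : PicF.Cl (A ⊗ A).left) * pl (snd A A)⁻¹ (PicF.cl L' : PicF.Cl A.left) := by
  rw [← pc_inv_val hL hLL, ← pc_inv_val hL hLL,
    show pl (fst A A) (PicF.cl L : PicF.Cl A.left) = (pc hL (fst A A) : PicF.Cl (A ⊗ A).left) from rfl,
    ← Units.val_mul, ← Units.val_mul]
  refine congrArg Units.val ?_
  have h : mum hL (𝟙 A) * mum hL (𝟙 A)⁻¹ = 1 := by rw [← AVDualExist.mum_mul, mul_inv_cancel, mum_one]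
  rw [eq_inv_of_mul_eq_one_left h, mum, GrpObj.comp_inv, Category.comp_id]
  simp [mul_comm, mul_left_comm, mul_assoc]

theorem isInvertibleCl_mum {T : Over (Spec (CommRingCat.of k))} (z : T ⟶ A) :
    PicF.IsInvertibleCl (mum hL z : PicF.Cl (A ⊗ T).left) := by
  obtain ⟨D1, hD1, e1⟩ := inv_pc hL (fst A T)
  obtain ⟨D2, hD2, e2⟩ := inv_pc hL (snd A T ≫ z)
  rw [mum, Units.val_mul, Units.val_mul, ← e1, ← e2]
  exact PicMul.isInvertibleCl_mul (PicMul.isInvertibleCl_mul
    (PicClLib.isInvertibleCl_pullCl _ ⟨L, rfl, hL⟩) ⟨D1, rfl, hD1⟩) ⟨D2, rfl, hD2⟩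

theorem mum_right : pl (lift (𝟙 A) (1 : A ⟶ A)) (mum hL (𝟙 A) : PicF.Cl (A ⊗ A).left) = 1 := by
  refine congrArg Units.val (show Units.map (PicMul.pullHom (lift (𝟙 A) (1 : A ⟶ A)).left :
    PicF.Cl (A ⊗ A).left →* PicF.Cl A.left) (mum hL (𝟙 A)) = 1 from ?_)
  simp only [mum, map_mul, map_inv, pull_pc, MonObj.comp_mul, lift_fst, Category.comp_id, lift_snd,
    _root_.mul_one, AVCube.pc_one, inv_one, mul_inv_cancel]

theorem triv_iff {T : Over (Spec (CommRingCat.of k))} (z : T ⟶ A) :
    ThetaGrp.IsMumfordTriv A L z ↔ mum hL z = 1 := by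
  refine ⟨AVDualExist.mum_eq_one hL, fun h => (mumford_iff_mum hL z).2
    ⟨Coh.structureModule T.left, PicLoc.isInvertible_structureModule _, ?_⟩⟩
  rw [h]
  exact PicMul.pullCl_one _

/-- The shear. -/
noncomputable def shear (A : Over (Spec (CommRingCat.of k))) [GrpObj A] : A ⊗ A ≅ A ⊗ A where
  hom := lift (fst A A) (fst A A * snd A A)
  inv := lift (fst A A) ((fst A A)⁻¹ * snd A A)
  hom_inv_id := by
    apply CartesianMonoidalCategory.hom_ext
    · simp
    · rw [Category.assoc, lift_snd, MonObj.comp_mul, GrpObj.comp_inv, lift_fst, lift_snd, inv_mul_cancel_left,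
        Category.id_comp]
  inv_hom_id := by
    apply CartesianMonoidalCategory.hom_ext
    · simp
    · rw [Category.assoc, lift_snd, MonObj.comp_mul, lift_fst, lift_snd, mul_inv_cancel_left, Category.id_comp]

end Aux

/-- Let k be an algebraically closed field, A an abelian variety over k (a proper smooth k-group scheme
with geometrically connected fibres) of dimension g, with group law m : A × A → A, projections p_1,
p_2 and inversion [-1]; let L be an invertible O_A-module with an inverse L' (L ⊗ L' ≅ O_A), and i :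
K → A a closed immersion exhibiting K as K(L) (the maximal closed subscheme over which the Mumford
bundle m^*L ⊗ p_1^*L⁻¹ ⊗ p_2^*L⁻¹, restricted to A ×_k K, is the inverse image of an invertible
module on K, with its universal property). Assume L non-degenerate: K is finite over k. Then the
convolution L ∗ [-1]^*L⁻¹ = Rm_*(p_1^*L ⊗ p_2^*[-1]^*L') is isomorphic, in D(O_A), to
Ri_*(L|_K)[-g], the direct image of the restriction of L to K placed in degree g (existence of an
isomorphism; the derived direct images along m and i are assumed to exist). (The published lemma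
allows any line bundle L; for L the structure sheaf and g ≥ 1 the left side is O_A ⊗ RΓ(A, O_A),
with non-zero cohomology in degree 0, while the right side is O_A[-g], so the two are not
isomorphic; the printed argument identifies an inverse image of the skyscraper at the origin of the
dual with the structure sheaf of the kernel of φ_L, which is correct when φ_L is flat, that is for L
non-degenerate — the case stated here and the one used afterwards.) -/
theorem result (k : Type u) [Field k] [IsAlgClosed k]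
    (A : Over (Spec (CommRingCat.of k))) [GrpObj A] [IsProper A.hom] [Smooth A.hom] [GeometricallyConnected A.hom]
    (g : ℕ) (hg : topologicalKrullDim ↥A.left = g)
    (L : A.left.Modules) (hL : PicF.IsInvertible L) (L' : A.left.Modules)
    (hL' : Nonempty (CohB1.tensorMod L L' ≅ Coh.structureModule A.left))
    (K : Over (Spec (CommRingCat.of k))) (i : K ⟶ A) (hK : ThetaGrp.IsKL A L i) [IsFinite K.hom]
    [DCoh.HasRpush μ[A].left] [DCoh.HasRpush i.left] :
    Nonempty ((DCoh.Rpush μ[A].left).obj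
        (DCoh.inD (A ⊗ A).left (CohB1.tensorMod ((Scheme.Modules.pullback (fst A A).left).obj L)
          ((Scheme.Modules.pullback (snd A A ≫ (𝟙 A)⁻¹).left).obj L'))) ≅
      (shiftFunctor (DCoh.D A.left) (-(g : ℤ))).obj
        ((DCoh.Rpush i.left).obj (DCoh.inD K.left ((Scheme.Modules.pullback i.left).obj L)))) := by
  haveI := AVDual.geometricallyIntegral_of_smooth A
  haveI : IsCommMonObj A := isCommMonObj_of_isProper_of_geometricallyIntegral _
  obtain ⟨eL⟩ := hL'
  have hLL : (PicF.cl L : PicF.Cl A.left) * PicF.cl L' = 1 := (PicGrp.cl_eq_cl_iff (CohB1.tensorMod L L') _).2 ⟨eL⟩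
  have hL'i : PicF.IsInvertible L' := by
    obtain ⟨D, hD, ⟨eD⟩⟩ := PicInv.exists_inverse hL
    have hLD : (PicF.cl L : PicF.Cl A.left) * PicF.cl D = 1 := (PicGrp.cl_eq_cl_iff (CohB1.tensorMod L D) _).2 ⟨eD⟩
    have hx : (PicF.cl L' : PicF.Cl A.left) = PicF.cl D := by
      rw [← _root_.one_mul (PicF.cl L' : PicF.Cl A.left), ← hLD, _root_.mul_right_comm, hLL, _root_.one_mul]
    obtain ⟨i⟩ := (PicGrp.cl_eq_cl_iff L' D).1 hx
    exact PicMul.isInvertible_of_iso i.symm hD
  -- the classifying map of the Mumford class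
  obtain ⟨M, hamp⟩ := AVProj.exists_isAmple (X := A)
  obtain ⟨Q, grp, q, -, R, hQp, hQgi, hQsm, -, -, -, hdim, hR, hq, hsep⟩ := AVDualExist.exists_dual hamp.1 hamp
  letI := grp
  haveI := hQp; haveI := hQgi; haveI := hQsm
  have hgQ : topologicalKrullDim ↥Q.left = g := hdim.trans hg
  have hpz : AVDual.PZ A A (mum hL (𝟙 A) : PicF.Cl (A ⊗ A).left) :=
    AVDual.pz_of_slice η[A] (Aux.isInvertibleCl_mum hL _) (by rw [← Hom.one_def]; exact Aux.mum_right hL)
  obtain ⟨f, hf, -⟩ := AVDualStruct.existsUnique_classify hg hgQ hR hsep hamp.1 hamp hq hpz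
    (congrArg Units.val (AVDualExist.mum_left hL (𝟙 A)))
  have hfmum : ∀ {T : Over (Spec (CommRingCat.of k))} (z : T ⟶ A),
      pl (A ◁ (z ≫ f)) (PicF.cl R) = (mum hL z : PicF.Cl (A ⊗ T).left) := fun {T} z => by
    rw [MonoidalCategory.whiskerLeft_comp, ← pl_pl, hf]
    have h := congrArg Units.val (map_mum hL z (𝟙 A))
    rw [Category.comp_id] at h
    exact h
  have hker : ∀ {T : Over (Spec (CommRingCat.of k))} (z : T ⟶ A), z ≫ f = 1 ↔ ∃ y : T ⟶ K, y ≫ i = z := fun {T} z => by
    rw [← hK.univ, Aux.triv_iff hL]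
    refine ⟨fun h => Units.ext ?_, fun h => hsep.sep _ (by rw [hfmum, h]; rfl)⟩
    rw [← hfmum, h, show A ◁ (1 : T ⟶ Q) = fst A T ≫ lift (𝟙 A) (1 : A ⟶ Q) by
      rw [comp_lift, Category.comp_id, MonObj.comp_one]
      apply CartesianMonoidalCategory.hom_ext <;> simp, ← pl_pl, hsep.right, map_one]
    rfl
  have hone : η[A] ≫ f = 1 := hsep.sep _ (by rw [hfmum, MonObj.one_eq_one, Aux.mum_one]; rfl)
  haveI : IsMonHom f := GrpSchLib.RigidHom.isMonHom_of_one _ hone
  haveI := hK.closed
  haveI : Mono i := Over.mono_of_mono_left i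
  have hif : i ≫ f = 1 := (hker i).2 ⟨𝟙 K, Category.id_comp i⟩
  have hkO : IsPullback i (toUnit K) f η[Q] := by
    choose y hy using fun s : PullbackCone f η[Q] => (hker s.fst).1 (by
      rw [s.condition, Hom.one_def, toUnit_unique s.snd (toUnit _)])
    exact IsPullback.of_isLimit (PullbackCone.IsLimit.mk (by rw [hif, Hom.one_def]; congr 1) y hy
      (fun s => toUnit_unique _ _) (fun s m h1 _ => by rw [← cancel_mono i, h1, hy]))
  have hk : IsPullback i.left K.hom f.left η[Q].left := hkO.map (Over.forget _)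
  haveI : IsIntegral A.left := GeometricallyIntegral.isIntegral_of_subsingleton A.hom
  haveI : IsIntegral Q.left := GeometricallyIntegral.isIntegral_of_subsingleton Q.hom
  haveI : IsLocallyNoetherian A.left := LocallyOfFiniteType.isLocallyNoetherian A.hom
  haveI : IsLocallyNoetherian Q.left := LocallyOfFiniteType.isLocallyNoetherian Q.hom
  haveI : IsProper f.left := by
    haveI : IsProper (f.left ≫ Q.hom) := by rw [Over.w f]; infer_instance
    exact IsProper.of_comp f.left Q.hom
  haveI : LocallyQuasiFinite f.left := by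
    refine GrpSchLib.HomFinite.locallyQuasiFinite_of_finite_preimage f
      ((((K.hom.finite_preimage_singleton (IsLocalRing.closedPoint k)).image i.left)).subset fun x hx => ?_)
    obtain ⟨w, hw, -⟩ := Scheme.exists_preimage_of_isPullback hk x (IsLocalRing.closedPoint k) hx
    exact ⟨w, @Subsingleton.elim _ (inferInstanceAs (Subsingleton (PrimeSpectrum k))) _ _, hw⟩
  haveI : IsFinite f.left := IsFinite.of_isProper_of_locallyQuasiFinite f.left
  haveI : Surjective f.left := Isogeny.surjective_of_isFinite A.hom Q.hom f.left (Over.w f) (hg.trans hgQ.symm)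
  haveI : Flat f.left := GrpSchLib.flat_of_surjective_hom f
  haveI : Flat K.hom := MorphismProperty.of_isPullback (P := @Flat) hk inferInstance
  -- morphisms of schemes
  let gO : A ⊗ A ⟶ A ⊗ Q := A ◁ f
  let gL : pullback A.hom A.hom ⟶ pullback A.hom Q.hom := gO.left
  let sL : pullback A.hom A.hom ⟶ pullback A.hom A.hom := (Aux.shear A).hom.left
  let sL' : pullback A.hom A.hom ⟶ pullback A.hom A.hom := (Aux.shear A).inv.left
  let s2 := pullback.snd A.hom A.hom
  let p2 := pullback.snd A.hom Q.hom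
  let fL : A.left ⟶ Q.left := f.left
  let iL : K.left ⟶ A.left := i.left
  let mL : pullback A.hom A.hom ⟶ A.left := μ[A].left
  let G : (pullback A.hom A.hom).Modules := CohB1.tensorMod ((Scheme.Modules.pullback (fst A A).left).obj L)
    ((Scheme.Modules.pullback (snd A A ≫ (𝟙 A)⁻¹).left).obj L')
  let N : A.left.Modules := (Scheme.Modules.pullback ((𝟙 A)⁻¹).left).obj L'
  have hN : PicF.IsInvertible N := PicClLib.isInvertible_pullback _ hL'i
  let N' : (pullback A.hom A.hom).Modules := (Scheme.Modules.pullback s2).obj N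
  let P' : (pullback A.hom A.hom).Modules := (Scheme.Modules.pullback gL).obj R
  have hP' : PicF.IsInvertible P' := PicClLib.isInvertible_pullback _ hR
  obtain ⟨eG⟩ : Nonempty ((Scheme.Modules.pullback sL').obj G ≅ CohB1.tensorMod P' N') := by
    refine (PicGrp.cl_eq_cl_iff _ _).1 ?_
    show pl (Aux.shear A).inv (pl (fst A A) (PicF.cl L : PicF.Cl A.left) *
        pl (snd A A ≫ (𝟙 A)⁻¹) (PicF.cl L' : PicF.Cl A.left)) =
      pl gO (PicF.cl R : PicF.Cl (A ⊗ Q).left) * pl (snd A A) (pl (𝟙 A)⁻¹ (PicF.cl L' : PicF.Cl A.left))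
    rw [hf, map_mul, pl_pl, pl_pl, pl_pl, GrpObj.comp_inv, Category.comp_id,
      show (Aux.shear A).inv ≫ fst A A = fst A A from lift_fst _ _,
      GrpObj.comp_inv, show (Aux.shear A).inv ≫ snd A A = (fst A A)⁻¹ * snd A A from lift_snd _ _,
      _root_.mul_inv, _root_.inv_inv]
    exact Aux.class_eq hL hLL
  have hsi : sL ≫ sL' = 𝟙 _ := by
    show (Aux.shear A).hom.left ≫ (Aux.shear A).inv.left = _
    rw [← Over.comp_left, Iso.hom_inv_id]; rfl
  have hsi' : sL' ≫ sL = 𝟙 _ := by
    show (Aux.shear A).inv.left ≫ (Aux.shear A).hom.left = _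
    rw [← Over.comp_left, Iso.inv_hom_id]; rfl
  haveI : IsIso sL' := ⟨sL, hsi', hsi⟩
  haveI : DCoh.HasRpush mL := inferInstanceAs (DCoh.HasRpush μ[A].left)
  haveI : DCoh.HasRpush iL := inferInstanceAs (DCoh.HasRpush i.left)
  haveI := KFlatLib.hasRpush_scheme sL
  haveI := KFlatLib.hasLpull sL'
  haveI := KFlatLib.hasRpush_scheme s2
  haveI := KFlatLib.hasRpush_scheme p2
  haveI := KFlatLib.hasLpull fL
  haveI := KFlatLib.hasLpull gL
  haveI := KFlatLib.hasLTensorMod N
  haveI := KFlatLib.hasLTensorMod N'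
  haveI : Flat p2 := MorphismProperty.pullback_snd (P := @Flat) _ _ inferInstance
  have hg2 : IsPullback gL s2 p2 fL := AVRiemannRoch.isPullback_whisker f
  haveI : Flat gL := MorphismProperty.of_isPullback (P := @Flat) hg2.flip inferInstance
  obtain ⟨r⟩ := DerivedNat.nonempty_rpush_iso_lpull_inv sL sL' hsi hsi'
  obtain ⟨c⟩ := DerivedNat.nonempty_rpush_comp' sL s2 mL (by
    show (Aux.shear A).hom.left ≫ (snd A A).left = μ[A].left
    rw [← Over.comp_left, show (Aux.shear A).hom ≫ snd A A = fst A A * snd A A from lift_snd _ _, Hom.mul_def,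
      lift_fst_snd, Category.id_comp])
  obtain ⟨l₁⟩ := KFlatLib.nonempty_lpull_inD_of_flat sL' G
  obtain ⟨j₁⟩ : Nonempty ((DCoh.LTensorMod N').obj (DCoh.inD _ P') ≅ DCoh.inD _ (CohB1.tensorMod P' N')) := by
    haveI := KFlatLib.hasLTensorCx ((HomologicalComplex.single (pullback A.hom A.hom).Modules (ComplexShape.up ℤ) 0).obj N')
    obtain ⟨a⟩ := KFlatLib.nonempty_ltensorMod_ltensorCx N' (DCoh.inD _ P')
    obtain ⟨b⟩ := KFlatLib.nonempty_ltensor_inD (DerivedNat.isFlat_of_invertible hP') N'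
    exact ⟨a ≪≫ b⟩
  obtain ⟨p⟩ := DerivedNat.nonempty_projection s2 hN (N' := N') (Iso.refl _)
  obtain ⟨bc⟩ := DerivedBC.nonempty_baseChange_of_flat hg2
  obtain ⟨l₂⟩ := KFlatLib.nonempty_lpull_inD_of_flat gL R
  haveI := KFlatLib.hasRpush_scheme η[Q].left
  obtain ⟨sky⟩ := AVPoincareD.nonempty_rpush_snd_of_sep (A := A) (B := Q) hR hsep hg hgQ
  obtain ⟨sl⟩ := KExact.ShriekFormula.nonempty_lpull_shift fL (-(g : ℤ))
  let pt : Scheme.{u} := (𝟙_ (Over (Spec (CommRingCat.of k)))).left
  let eQ : pt ⟶ Q.left := η[Q].left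
  haveI : IsClosedImmersion eQ := by
    haveI : IsClosedImmersion (eQ ≫ Q.hom) := by
      rw [Over.w η[Q]]; exact inferInstanceAs (IsClosedImmersion (𝟙 _))
    exact IsClosedImmersion.of_comp eQ Q.hom
  let kL : K.left ⟶ pt := K.hom
  haveI : Flat kL := inferInstanceAs (Flat K.hom)
  haveI := KFlatLib.hasLpull kL
  haveI : IsClosedImmersion iL := hK.closed
  obtain ⟨bk⟩ := DerivedBC.nonempty_baseChange_of_flat_right (f := eQ) (g := fL) (f' := iL) (g' := kL) hk.flip
  obtain ⟨u₁⟩ := KFlatLib.nonempty_lpull_inD_of_flat kL (Coh.structureModule pt)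
  obtain ⟨u₂⟩ := PicClLib.nonempty_pullback_structureModule kL
  obtain ⟨sT⟩ := KFlatLib.TriNat.PresTri.nonempty_shift (KFlatLib.TriNat.presTri_ltensorMod N)
    ((DCoh.Rpush iL).obj (DCoh.inD K.left (Coh.structureModule K.left))) (-(g : ℤ))
  let NK : K.left.Modules := (Scheme.Modules.pullback iL).obj N
  haveI := KFlatLib.hasLTensorMod NK
  obtain ⟨p'⟩ := DerivedNat.nonempty_projection iL hN (N' := NK) (Iso.refl _)
  obtain ⟨j₂⟩ : Nonempty ((DCoh.LTensorMod NK).obj (DCoh.inD _ (Coh.structureModule K.left)) ≅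
      DCoh.inD _ (CohB1.tensorMod (Coh.structureModule K.left) NK)) := by
    haveI := KFlatLib.hasLTensorCx ((HomologicalComplex.single K.left.Modules (ComplexShape.up ℤ) 0).obj NK)
    obtain ⟨a⟩ := KFlatLib.nonempty_ltensorMod_ltensorCx NK (DCoh.inD _ (Coh.structureModule K.left))
    obtain ⟨b⟩ := KFlatLib.nonempty_ltensor_inD (DerivedNat.isFlat_of_invertible (PicLoc.isInvertible_structureModule _)) NK
    exact ⟨a ≪≫ b⟩
  obtain ⟨eK⟩ : Nonempty (CohB1.tensorMod (Coh.structureModule K.left) NK ≅ (Scheme.Modules.pullback i.left).obj L) := by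
    refine (PicGrp.cl_eq_cl_iff _ _).1 ?_
    show (1 : PicF.Cl K.left) * pl i (pl (𝟙 A)⁻¹ (PicF.cl L' : PicF.Cl A.left)) = pl i (PicF.cl L : PicF.Cl A.left)
    rw [_root_.one_mul, pl_pl, GrpObj.comp_inv, Category.comp_id, ← Aux.pc_inv_val hL hLL]
    have h0 : mum hL i = 1 := (Aux.triv_iff hL i).1 ((hK.univ _ i).2 ⟨𝟙 K, Category.id_comp i⟩)
    have h1 := congrArg (Units.map (PicMul.pullHom (lift i⁻¹ (𝟙 K)).left :
      PicF.Cl (A ⊗ K).left →* PicF.Cl K.left)) h0
    simp only [mum, map_mul, map_inv, map_one, pull_pc, MonObj.comp_mul, lift_fst, lift_snd_assoc, Category.id_comp,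
      inv_mul_cancel, AVCube.pc_one, _root_.one_mul, mul_inv_eq_one] at h1
    exact congrArg Units.val h1
  have hpt : DCoh.IsQCohD (DCoh.inD pt (Coh.structureModule pt)) :=
    KFlatLib.isQCohD_inD_of_isQCoh QCoh.isQCoh_structureModule
  have hRq : DCoh.IsQCohD (DCoh.inD _ R) :=
    KFlatLib.isQCohD_inD_of_isQCoh (ProjUPX.isQCoh_of_isInvertible hR)
  exact ⟨(c.app _).symm ≪≫ (DCoh.Rpush s2).mapIso (r.app _ ≪≫ l₁ ≪≫
      (DerivedCategory.singleFunctor _ 0).mapIso eG ≪≫ j₁.symm) ≪≫ p.app _ ≪≫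
    (DCoh.LTensorMod N).mapIso ((DCoh.Rpush s2).mapIso l₂.symm ≪≫ (bc.app ⟨_, hRq⟩).symm ≪≫
      (DCoh.Lpull fL).mapIso sky ≪≫ sl.app _ ≪≫
      (shiftFunctor (DCoh.D A.left) (-(g : ℤ))).mapIso (bk.app ⟨_, hpt⟩ ≪≫
        (DCoh.Rpush iL).mapIso (u₁ ≪≫ (DerivedCategory.singleFunctor _ 0).mapIso u₂))) ≪≫ sT ≪≫
    (shiftFunctor (DCoh.D A.left) (-(g : ℤ))).mapIso ((p'.app _).symm ≪≫
      (DCoh.Rpush iL).mapIso (j₂ ≪≫ (DerivedCategory.singleFunctor _ 0).mapIso eK))⟩

end Groth.Agent.S19774
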