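import Groth.Statements.S19775
import Groth.Agent.Lib.AVPicZero

set_option autoImplicit false
set_option backward.isDefEq.respectTransparency false
set_option backward.isDefEq.respectTransparency.types false
set_option maxHeartbeats 400000
universe u
open CategoryTheory MonoidalCategory CartesianMonoidalCategory MonObj GrpObj AlgebraicGeometry
open AbVar

namespace Groth.Agent.S19775


set_option linter.style.haveILetI false
set_option linter.unusedSectionVars false
open Groth.Agent.H23 Groth.Agent.AVPair Groth.Agent.AVDual
open scoped Groth.Agent.H23.PicMul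

/-- Let X be an abelian variety over a field k (a proper, geometrically integral k-group scheme), (X^t,
φ) a given dual abelian variety of X for the fppf topology (φ sends classes of modules on X ×_k T
algebraically trivial on the geometric fibres to T-valued points of X^t), L an invertible
O_X-module, and λ : X → X^t the homomorphism φ_L attached to L through φ (the X-valued point of X^t
that φ assigns to the class of an invertible module N on X ×_k X with N ⊗ p_1^*L ⊗ p_2^*L ≅ m^*L, a
Mumford module of L). Let i : K → X be a closed immersion exhibiting K as K(L) (the maximal closed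
subscheme over which the Mumford bundle, restricted to X ×_k K, is the inverse image of an
invertible module on K, with its universal property). Then K(L) is the kernel of φ_L: the square
with sides i, K → Spec k, λ and the unit Spec k → X^t is cartesian. (The published statement makes
this assertion for L ample, together with φ_L being an isogeny and the dimension count for the dual;
the kernel identification is the translation description of the points of K(L) read through the
Picard functor and holds for every invertible L, as stated here; the isogeny and dimension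
assertions are not part of this row.) -/
theorem result (k : Type u) [Field k] (X Xt : Over (Spec (CommRingCat.of k)))
    [GrpObj X] [IsProper X.hom] [GeometricallyIntegral X.hom]
    [GrpObj Xt] [IsProper Xt.hom] [GeometricallyIntegral Xt.hom]
    (φ : ∀ T : Over (Spec (CommRingCat.of k)), PicF.Cl (PicF.XT X.hom T) → (T ⟶ Xt))
    (hφ : AbDual.IsDualAV Scheme.fppfPrecoverage X Xt φ)
    (L : X.left.Modules) (hL : PicF.IsInvertible L) (lam : X ⟶ Xt) (hlam : AgPol.IsLambda X Xt φ L lam)
    (K : Over (Spec (CommRingCat.of k))) (i : K ⟶ X) (hK : ThetaGrp.IsKL X L i) :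
    AlgGrp.IsKernel i lam := by
  haveI : IsIntegral X.left := GeometricallyIntegral.isIntegral_of_subsingleton X.hom
  obtain ⟨N, hN, hNL, hlamN⟩ := hlam
  haveI : IsClosedImmersion i.left := hK.closed
  let n : PicF.Cl (X ⊗ X).left := PicF.cl N
  let l : PicF.Cl X.left := PicF.cl L
  have hl : PicF.IsInvertibleCl l := ⟨L, rfl, hL⟩
  have hrel : n * pl (fst X X) l * pl (snd X X) l = pl μ[X] l := (PicGrp.cl_eq_cl_iff _ _).2 hNL
  have hslice : pl (lift (𝟙 X) (toUnit X ≫ η[X])) n = 1 := by
    have h := congrArg (pl (lift (𝟙 X) (toUnit X ≫ η[X]))) hrel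
    rw [show toUnit X ≫ η[X] = (1 : X ⟶ X) from rfl] at h ⊢
    simp only [map_mul, pl_pl, lift_fst, lift_snd, pl_id] at h
    rw [← Hom.mul_def, _root_.mul_one, show pl (1 : X ⟶ X) l = 1 from pl_const hl η, _root_.mul_one, pl_id] at h
    exact (PicMul.isUnit_of_isInvertibleCl hl).mul_right_cancel (h.trans (_root_.one_mul l).symm)
  have hnz : PZ X X n := pz_of_slice η[X] ⟨N, rfl, hN⟩ hslice
  have key : ∀ {T : Over (Spec (CommRingCat.of k))} (x : T ⟶ X),
      x ≫ lam = 1 ↔ ∃ y : T ⟶ K, y ≫ i = x := by
    intro T x
    have hpt : ∀ {T : Over (Spec (CommRingCat.of k))} (x : T ⟶ X),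
        pl (X ◁ x) n * pl (fst X T) l * pl (snd X T ≫ x) l = pl ((X ◁ x) ≫ μ[X]) l := by
      intro T x
      have h := congrArg (pl (X ◁ x)) hrel
      simpa only [map_mul, pl_pl, whiskerLeft_fst, whiskerLeft_snd] using h
    rw [← hlamN, ← phi_pl hφ x hnz]
    constructor
    · intro hx
      obtain ⟨R, hR, hloc⟩ := hφ.relPic.locallyInjective T _ 1 (pz_pl x hnz) (pz_one X T)
        (hx.trans (phi_one hφ T).symm)
      refine exists_lift_of_locally i x hR fun U v hv => ?_
      let w := AbDual.ovrHom T v
      obtain ⟨y, hy⟩ := (hK.univ _ (w ≫ x)).1 ⟨Coh.structureModule _, PicLoc.isInvertible_structureModule _,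
        (PicGrp.cl_eq_cl_iff _ _).1 (by
          show pl (snd X (AbDual.ovr T v)) 1 * pl (fst X (AbDual.ovr T v)) l *
            pl (snd X (AbDual.ovr T v) ≫ w ≫ x) l = pl ((X ◁ (w ≫ x)) ≫ μ[X]) l
          rw [map_one, ← hpt (w ≫ x)]
          refine congrArg (· * _ * _) ?_
          have h : pl (X ◁ w) (pl (X ◁ x) n) = pl (X ◁ w) 1 := hloc v hv
          rw [pl_pl, map_one, ← MonoidalCategory.whiskerLeft_comp] at h
          exact h.symm)⟩
      exact ⟨y.left, congrArg CommaMorphism.left hy⟩
    · intro hy
      obtain ⟨M, hM, hMi⟩ := (hK.univ T x).2 hy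
      have h := (PicGrp.cl_eq_cl_iff _ _).2 hMi
      change pl (snd X T) (PicF.cl M) * pl (fst X T) l * pl (snd X T ≫ x) l = pl ((X ◁ x) ≫ μ[X]) l at h
      rw [← hpt x, _root_.mul_assoc, _root_.mul_assoc] at h
      have he := ((PicMul.isUnit_of_isInvertibleCl (PicMul.isInvertibleCl_mul (isInv_pl _ hl) (isInv_pl _ hl)))).mul_right_cancel h
      show φ T (pl (X ◁ x) n) = 1
      rw [← he, ← _root_.one_mul (pl (snd X T) (PicF.cl M)), phi_twist hφ ⟨M, rfl, hM⟩ (pz_one X T), phi_one hφ]
  refine IsPullback.of_isLimit' ⟨?_⟩ ?_
  · exact ((key i).2 ⟨𝟙 K, Category.id_comp i⟩).trans (Hom.one_def)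
  · haveI : Mono i := (Over.forget _).mono_of_mono_map (show Mono i.left from inferInstance)
    have hex : ∀ s : Limits.PullbackCone lam η[Xt], ∃ y : s.pt ⟶ K, y ≫ i = s.fst := fun s =>
      (key s.fst).1 (by rw [s.condition, Hom.one_def, toUnit_unique s.snd (toUnit _)])
    exact Limits.PullbackCone.IsLimit.mk _ (fun s => (hex s).choose) (fun s => (hex s).choose_spec)
      (fun s => toUnit_unique _ _) (fun s m hm _ => (cancel_mono i).1 (hm.trans (hex s).choose_spec.symm))

end Groth.Agent.S19775
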