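import Groth.Statements.S1978
import Groth.Agent.WEtMax7.BaseChange
-- import your own Groth.Agent.* helpers here

set_option autoImplicit false
universe u
open TensorProduct
open EtAlg

namespace Groth.Agent.S1978

/-- Let L/K be a field extension and A a K-algebra. Then the largest weakly etale L-subalgebra of L ⊗_K
A is the L-subalgebra generated by the image of the largest weakly etale K-subalgebra of A. -/
theorem result (K L : Type u) [Field K] [Field L] [Algebra K L] (A : Type u) [CommRing A] [Algebra K A] :
    EtAlgD.maxWeaklyEtale L (L ⊗[K] A) =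
      Algebra.adjoin L ((Algebra.TensorProduct.includeRight : A →ₐ[K] L ⊗[K] A) '' (EtAlgD.maxWeaklyEtale K A : Set A)) := by
  refine (WEtMax7.max_baseChange (A := A) L).trans (le_antisymm (WEtMax7.extMax_le_iff.2 fun a ha =>
    Algebra.subset_adjoin ⟨a, ha, rfl⟩) (Algebra.adjoin_le ?_))
  rintro _ ⟨a, ha, rfl⟩
  exact WEtMax7.tmul_mem_extMax 1 ha

end Groth.Agent.S1978
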