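import Groth.Statements.S19781
import Groth.Agent.ZarPair7.Main
-- import your own Groth.Agent.* helpers here

set_option autoImplicit false
universe u
open CategoryTheory AlgebraicGeometry
open Coherent

namespace Groth.Agent.S19781

/-- Let A → A' be a homomorphism of Noetherian rings and J ⊂ A an ideal such that J and JA' lie in the
Jacobson radicals of A and A' (Zariski pairs) and A/J^n → A'/J^nA' is bijective for all n, and let U
⊂ Spec A be an open containing Spec A ∖ V(J), with g : U_{A'} → U the base change of Spec A' → Spec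
A. Then two finite locally free O_U-modules of rank n whose pullbacks along g are isomorphic are
isomorphic: H¹(U, GL_n) → H¹(U_{A'}, GL_n) is injective. -/
theorem result (A A' : Type u) [CommRing A] [CommRing A']
    [IsNoetherianRing A] [IsNoetherianRing A'] (φ : A →+* A') (J : Ideal A)
    (hJ : J ≤ (⊥ : Ideal A).jacobson) (hJ' : J.map φ ≤ (⊥ : Ideal A').jacobson)
    (hq : ∀ n : ℕ, Function.Bijective (Ideal.quotientMap (Ideal.map φ (J ^ n)) φ Ideal.le_comap_map))
    (U : (Spec (CommRingCat.of A)).Opens)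
    (hU : ∀ p : PrimeSpectrum A, ¬ J ≤ p.asIdeal → p ∈ U)
    (n : ℕ) (E₁ E₂ : (U : Scheme.{u}).Modules)
    (h₁ : FlatMod.IsFinLocFreeOfRank n E₁) (h₂ : FlatMod.IsFinLocFreeOfRank n E₂)
    (hiso : Nonempty ((Scheme.Modules.pullback ((Spec.map (CommRingCat.ofHom φ)) ∣_ U)).obj E₁ ≅ (Scheme.Modules.pullback ((Spec.map (CommRingCat.ofHom φ)) ∣_ U)).obj E₂)) :
    Nonempty (E₁ ≅ E₂) := by
  have hc : ∀ {E : (U : Scheme.{u}).Modules}, FlatMod.IsFinLocFreeOfRank n E → Coh.IsCoh E := fun {E} h =>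
    have h' : FlatMod.IsFinLocFree E := fun x => let ⟨V, hx, he⟩ := h x; ⟨V, n, hx, he⟩
    ⟨Groth.Agent.QCoh.isQCoh_of_isFinLocFree h',
      Groth.Agent.QCoh.isFT_of_isFP (Groth.Agent.QCoh.isFP_of_isFinLocFree h')⟩
  exact Groth.Agent.ZarPair7.nonempty_iso_of_pullback_iso φ J hJ hJ' hq U hU E₁ E₂ (hc h₁) (hc h₂) hiso

end Groth.Agent.S19781
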