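import Groth.Statements.S19786
import Groth.Agent.HMTransLib.Translate
-- import your own Groth.Agent.* helpers here

set_option autoImplicit false
universe u
open CategoryTheory MonoidalCategory CartesianMonoidalCategory MonObj AlgebraicGeometry Opposite
open GIT

namespace Groth.Agent.S19786

/-- Let k be an algebraically closed field, G an algebraic group over k (a smooth group scheme of finite
type over k) acting by σ on a scheme X proper over k, L a G-linearised line bundle on X in
total-space form, x a k-point of X, λ : 𝔾_m → G a one-parameter subgroup and α a k-point of G; let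
λ' be the conjugate one-parameter subgroup u ↦ α⁻¹·λ(u)·α. Then μ^L(σ(α, x), λ) = μ^L(x, λ'): the
numerical function (the limit of the orbit as u → 0 exists and 𝔾_m acts on the fibre of L over it
with exponent m) takes the same values at the translated point α·x with λ and at x with λ'. -/
theorem result (k : Type u) [Field k] [IsAlgClosed k]
    (G X : Over (Spec (CommRingCat.of k))) [GrpObj G] [Smooth G.hom] [QuasiCompact G.hom] [IsProper X.hom]
    (a : AlgGrp.Action G X) (B : GLinSh.LinBun G a) (x : 𝟙_ (Over (Spec (CommRingCat.of k))) ⟶ X)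
    (l : Red.Gm (Spec (CommRingCat.of k)) ⟶ G) [IsMonHom l] (g₀ : 𝟙_ (Over (Spec (CommRingCat.of k))) ⟶ G)
    (l' : Red.Gm (Spec (CommRingCat.of k)) ⟶ G) [IsMonHom l'] (hl' : l' = (toUnit _ ≫ g₀)⁻¹ * l * (toUnit _ ≫ g₀))
    (m : ℤ) : HMNum.IsMu B l (lift g₀ x ≫ a.act) m ↔ HMNum.IsMu B l' x m := by
  exact Groth.Agent.HMTransLib.isMu_transl_iff B g₀ (l := l') (l' := l) (by rw [hl']; group)

end Groth.Agent.S19786
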