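import Groth.Statements.S19788
import Groth.Agent.HMTorus.Main

set_option autoImplicit false
universe u
open CategoryTheory MonoidalCategory CartesianMonoidalCategory MonObj AlgebraicGeometry Opposite
open GIT

namespace Groth.Agent.S19788

/-- Let k be an algebraically closed field, G a connected reductive algebraic group over k, i : T → G a
maximal torus of G, X a scheme proper over k on which G acts by σ, and L an ample G-linearised line
bundle on X in total-space form (a line bundle V(L) → X with a linear atlas and a fibrewise-linear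
lifting of σ; ample meaning that X is covered by affine opens X_f with f a section of a positive
power of L). Then there are finitely many maps ℓ_1, …, ℓ_n from the one-parameter subgroups of T to
ℚ, additive for the pointwise product of one-parameter subgroups (so: linear functionals on Hom(𝔾_m,
T) ⊗ ℝ that are rational on Hom(𝔾_m, T) ⊗ ℚ), with the following property: for every k-point x of X
there is a subset I of the indices (non-empty, since μ^L(x, ·) takes a value at every one-parameter
subgroup when X is proper) such that, for every one-parameter subgroup λ of T, μ^L(x, i∘λ) =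
max{ℓ_j(λ) : j ∈ I} — the numerical function of x at the one-parameter subgroup i∘λ of G (the limit
of λ(u)·x as u → 0 exists and 𝔾_m acts on the fibre of L over it with exponent m) takes the value m
exactly when m is the largest of the numbers ℓ_j(λ), j ∈ I. (The published statement is for any
reductive G; this row takes G connected.) -/
theorem result (k : Type u) [Field k] [IsAlgClosed k]
    (G X T : Over (Spec (CommRingCat.of k))) [GrpObj G] [GrpObj T] (hG : Red.IsReductive G)
    (i : T ⟶ G) [IsMonHom i] (hi : Red.IsMaximalTorus i) [IsProper X.hom]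
    (a : AlgGrp.Action G X) (B : GLinSh.LinBun G a) (hB : HMNum.AmpleCover B) :
    ∃ (n : ℕ) (ℓ : Fin n → (Red.Gm (Spec (CommRingCat.of k)) ⟶ T) → ℚ),
      (∀ (j : Fin n) (l₁ l₂ : Red.Gm (Spec (CommRingCat.of k)) ⟶ T) [IsMonHom l₁] [IsMonHom l₂],
          ℓ j (l₁ * l₂) = ℓ j l₁ + ℓ j l₂) ∧
      ∀ (x : 𝟙_ (Over (Spec (CommRingCat.of k))) ⟶ X), ∃ I : Finset (Fin n),
        ∀ (l : Red.Gm (Spec (CommRingCat.of k)) ⟶ T) [IsMonHom l] (m : ℤ),
          HMNum.IsMu B (l ≫ i) x m ↔ ∃ j ∈ I, (m : ℚ) = ℓ j l ∧ ∀ j' ∈ I, ℓ j' l ≤ ℓ j l := by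
  obtain ⟨-, -, hT, -⟩ := hi
  obtain ⟨r, e, he⟩ := Groth.Agent.HMTorus.exists_split k T hT
  haveI := he
  obtain ⟨J, hJ, ch, N, h⟩ := Groth.Agent.HMTorus.isMu_iff_max e B i hB
  haveI := hJ
  classical
  let eJ := Fintype.equivFin J
  let E : (Red.Gm (Spec (CommRingCat.of k)) ⟶ T) → (Fin r → ℤ) → ℤ := fun l =>
    if h : ∃ ε, Groth.Agent.HMTorus.IsExp e l ε then h.choose else 0
  have hE : ∀ l ε, Groth.Agent.HMTorus.IsExp e l ε → E l = ε := fun l ε hε => by
    have hh : ∃ ε, Groth.Agent.HMTorus.IsExp e l ε := ⟨ε, hε⟩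
    simp only [E, dif_pos hh]
    exact Groth.Agent.HMTorus.isExp_unique e hh.choose_spec hε
  refine ⟨Fintype.card J, fun j l => -(E l (ch (eJ.symm j)) : ℚ) / (N (eJ.symm j) : ℚ), fun j l₁ l₂ _ _ => ?_, fun x => ?_⟩
  · obtain ⟨ε₁, h₁⟩ := Groth.Agent.HMTorus.exists_isExp e l₁
    obtain ⟨ε₂, h₂⟩ := Groth.Agent.HMTorus.exists_isExp e l₂
    simp only [hE _ _ h₁, hE _ _ h₂, hE _ _ (Groth.Agent.HMTorus.isExp_mul e h₁ h₂)]
    push_cast
    ring
  · obtain ⟨I, hI⟩ := h x
    refine ⟨I.map eJ.toEmbedding, fun l _ m => ?_⟩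
    obtain ⟨ε, hε⟩ := Groth.Agent.HMTorus.exists_isExp e l
    rw [hI l ε hε m]
    simp [hE _ _ hε]
    exact ⟨fun ⟨j, hj, hm, hmax⟩ => ⟨eJ j, by simpa using hj, by simpa using hm, fun j' hj' => by simpa using hmax _ hj'⟩,
      fun ⟨j, hj, hm, hmax⟩ => ⟨eJ.symm j, hj, hm, fun j' hj' => by simpa using hmax (eJ j') (by simpa using hj')⟩⟩

end Groth.Agent.S19788
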