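import Groth.Statements.S19789
import Groth.Agent.HMTorus.Main

set_option autoImplicit false
universe u
open CategoryTheory MonoidalCategory CartesianMonoidalCategory MonObj AlgebraicGeometry Opposite
open GIT

namespace Groth.Agent.S19789

/-- Let k be an algebraically closed field, G a connected reductive algebraic group over k, i : T → G a
maximal torus of G, X a scheme proper over k on which G acts, L an ample G-linearised line bundle on
X in total-space form, x a k-point of X, and λ₁, λ₂ one-parameter subgroups of T with pointwise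
product λ₁λ₂ (a one-parameter subgroup of T, which is commutative). Then μ^L(x, i∘(λ₁λ₂)) ≤ μ^L(x,
i∘λ₁) + μ^L(x, i∘λ₂): whenever the numerical function (the limit of the orbit as u → 0 exists and
𝔾_m acts on the fibre of L over it with the stated exponent) takes the values m₁ at i∘λ₁, m₂ at i∘λ₂
and m at i∘(λ₁λ₂), one has m ≤ m₁ + m₂. (The published statement is for any reductive G; this row
takes G connected.) -/
theorem result (k : Type u) [Field k] [IsAlgClosed k]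
    (G X T : Over (Spec (CommRingCat.of k))) [GrpObj G] [GrpObj T] (hG : Red.IsReductive G)
    (i : T ⟶ G) [IsMonHom i] (hi : Red.IsMaximalTorus i) [IsProper X.hom]
    (a : AlgGrp.Action G X) (B : GLinSh.LinBun G a) (hB : HMNum.AmpleCover B)
    (x : 𝟙_ (Over (Spec (CommRingCat.of k))) ⟶ X)
    (l₁ l₂ : Red.Gm (Spec (CommRingCat.of k)) ⟶ T) [IsMonHom l₁] [IsMonHom l₂] [IsMonHom ((l₁ * l₂) ≫ i)]
    (m₁ m₂ m : ℤ) (h₁ : HMNum.IsMu B (l₁ ≫ i) x m₁) (h₂ : HMNum.IsMu B (l₂ ≫ i) x m₂)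
    (h : HMNum.IsMu B ((l₁ * l₂) ≫ i) x m) : m ≤ m₁ + m₂ := by
  obtain ⟨-, -, hT, -⟩ := hi
  obtain ⟨r, e, he⟩ := Groth.Agent.HMTorus.exists_split k T hT
  haveI := he
  obtain ⟨J, hJ, ch, N, h'⟩ := Groth.Agent.HMTorus.isMu_iff_max e B i hB
  obtain ⟨I, hI⟩ := h' x
  obtain ⟨ε₁, e₁⟩ := Groth.Agent.HMTorus.exists_isExp e l₁
  obtain ⟨ε₂, e₂⟩ := Groth.Agent.HMTorus.exists_isExp e l₂
  obtain ⟨j₁, -, hm₁, hmax₁⟩ := (hI l₁ ε₁ e₁ m₁).1 h₁
  obtain ⟨j₂, -, hm₂, hmax₂⟩ := (hI l₂ ε₂ e₂ m₂).1 h₂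
  obtain ⟨j, hj, hm, -⟩ := (hI (l₁ * l₂) _ (Groth.Agent.HMTorus.isExp_mul e e₁ e₂) m).1 h
  have h1 := hmax₁ j hj
  have h2 := hmax₂ j hj
  rw [← hm₁] at h1
  rw [← hm₂] at h2
  have : (m : ℚ) ≤ m₁ + m₂ := by
    rw [hm]
    push_cast
    rw [neg_add, add_div]
    linarith
  exact_mod_cast this

end Groth.Agent.S19789
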