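import Groth.Statements.S1982
import Groth.Agent.GrpSchLib.Reduced
import Groth.Agent.EtRam7.Abhyankar
-- import your own Groth.Agent.* helpers here

set_option autoImplicit false
universe u
open EtAlg

namespace Groth.Agent.S1982

/-- Suppose A -> B makes the discrete valuation ring B an extension of the discrete valuation ring A,
write K ⊂ L for their fraction fields and e for the ramification index; assume the residue
characteristic of A is zero, or it is p with p not dividing e and the residue field extension of A
-> B separable (in the general sense, i.e. geometrically reduced; it need not be algebraic). Let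
K₁/K be a finite extension. Then for every compositum M of L and K₁ and every valuation subring W of
M dominating B such that e divides the ramification index of A -> W ∩ K₁, the extension W ∩ K₁ -> W
is weakly unramified with separable (geometrically reduced) residue field extension. -/
theorem result (A B K L : Type u) [CommRing A] [IsDomain A] [IsDiscreteValuationRing A]
    [CommRing B] [IsDomain B] [IsDiscreteValuationRing B] [Algebra A B] [IsLocalHom (algebraMap A B)]
    (hinj : Function.Injective (algebraMap A B))
    [Field K] [Field L] [Algebra A K] [IsFractionRing A K] [Algebra B L] [IsFractionRing B L]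
    [Algebra K L] [Algebra A L] [IsScalarTower A K L] [IsScalarTower A B L]
    (htame : CharZero (IsLocalRing.ResidueField A) ∨
      ∃ p : ℕ, p.Prime ∧ CharP (IsLocalRing.ResidueField A) p ∧
        ¬ p ∣ Ideal.ramificationIdx' (IsLocalRing.maximalIdeal A) (IsLocalRing.maximalIdeal B) ∧
        Algebra.IsGeometricallyReduced (IsLocalRing.ResidueField A) (IsLocalRing.ResidueField B))
    (K₁ : Type u) [Field K₁] [Algebra K K₁] [FiniteDimensional K K₁] :
    EtRam.ForallLocalExt B K L K₁ (fun M _ W f =>
      ∀ hA : ∀ a : A, (algebraMap K K₁) (algebraMap A K a) ∈ W.comap f,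
        letI : Algebra A (W.comap f) := (RingHom.codRestrict ((algebraMap K K₁).comp (algebraMap A K)) (W.comap f) hA).toAlgebra
        letI : Algebra (W.comap f) W := (EtRam.inclOfComap W f).toAlgebra
        Ideal.ramificationIdx' (IsLocalRing.maximalIdeal A) (IsLocalRing.maximalIdeal B) ∣
          Ideal.ramificationIdx' (IsLocalRing.maximalIdeal A) (IsLocalRing.maximalIdeal (W.comap f)) →
        EtRam.IsWeaklyUnramified (W.comap f) W ∧
          @Algebra.IsGeometricallyReduced (IsLocalRing.ResidueField (W.comap f)) (IsLocalRing.ResidueField W) _ _
            (IsLocalRing.ResidueField.map (EtRam.inclOfComap W f)).toAlgebra) := by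
  haveI hgr : Algebra.IsGeometricallyReduced (IsLocalRing.ResidueField A) (IsLocalRing.ResidueField B) := by
    rcases htame with h | ⟨p, hp, hc, hd, hg⟩
    · exact Groth.Agent.GrpSchLib.isGeometricallyReduced_of_isReduced _ _
    · exact hg
  refine Groth.Agent.EtRam7.abhyankar A B K L hinj ?_ K₁
  refine isUnit_iff_ne_zero.2 fun h0 => ?_
  rcases htame with h | ⟨p, hp, hc, hd, hg⟩
  · obtain ⟨π, hπ⟩ := IsDiscreteValuationRing.exists_irreducible A
    obtain ⟨σ, hσ⟩ := IsDiscreteValuationRing.exists_irreducible B
    obtain ⟨u, -, he⟩ := Groth.Agent.DVR7.exists_eq_unit_mul_pow hinj hπ hσ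
    exact he.ne' (Nat.cast_eq_zero.1 h0)
  · exact hd ((CharP.cast_eq_zero_iff _ p _).1 h0)

end Groth.Agent.S1982
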