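import Groth.Statements.S1979
import Groth.Agent.EtRam7.EppGen.Solution
import Groth.Agent.S1982
-- import your own Groth.Agent.* helpers here

set_option autoImplicit false
universe u
open EtAlg

namespace Groth.Agent.S1979

/-- Let A -> B be an extension of discrete valuation rings (both DVRs, the map injective and local) with
fraction fields K ⊂ L. Assume that if the residue field of A has characteristic p > 0 then every
element of the residue field of B admitting p^n-th roots for all n is separable algebraic over the
residue field of A. Then there is a finite extension K₁ of K which is a weak solution for A -> B: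
for every compositum M of L and K₁ and every valuation subring W of M dominating B, the extension W
∩ K₁ -> W is weakly unramified. -/
theorem result (A B K L : Type u) [CommRing A] [IsDomain A] [IsDiscreteValuationRing A]
    [CommRing B] [IsDomain B] [IsDiscreteValuationRing B] [Algebra A B] [IsLocalHom (algebraMap A B)]
    (hinj : Function.Injective (algebraMap A B))
    [Field K] [Field L] [Algebra A K] [IsFractionRing A K] [Algebra B L] [IsFractionRing B L]
    [Algebra K L] [Algebra A L] [IsScalarTower A K L] [IsScalarTower A B L]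
    (hres : ∀ p : ℕ, p.Prime → CharP (IsLocalRing.ResidueField A) p →
      ∀ x : IsLocalRing.ResidueField B, (∀ n : ℕ, ∃ y : IsLocalRing.ResidueField B, y ^ (p ^ n) = x) →
        IsSeparable (IsLocalRing.ResidueField A) x) :
    ∃ (K₁ : Type u) (_ : Field K₁) (_ : Algebra K K₁) (_ : FiniteDimensional K K₁), EtRam.IsWeakSolution B K L K₁ := by
  classical
  rcases CharP.exists' (IsLocalRing.ResidueField A) with h0 | ⟨p, hp, hc⟩
  swap
  · haveI := hp; haveI := hc
    exact EtRam7.EppGen.exists_weakSolution p hinj (hres p hp.out hc)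
  obtain ⟨π, hπ⟩ := IsDiscreteValuationRing.exists_irreducible A
  obtain ⟨σ, hσ⟩ := IsDiscreteValuationRing.exists_irreducible B
  obtain ⟨u, -, he⟩ := DVR7.exists_eq_unit_mul_pow hinj hπ hσ
  set e := Ideal.ramificationIdx' (IsLocalRing.maximalIdeal A) (IsLocalRing.maximalIdeal B) with hedef
  let Ω := AlgebraicClosure K
  obtain ⟨z, hz⟩ := IsAlgClosed.exists_pow_nat_eq (algebraMap K Ω (algebraMap A K π)) he
  let K₁ := IntermediateField.adjoin K ({z} : Set Ω)
  haveI hfin : FiniteDimensional K K₁ :=
    IntermediateField.adjoin.finiteDimensional (Algebra.IsIntegral.isIntegral z)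
  refine ⟨K₁, inferInstance, inferInstance, hfin, ?_⟩
  intro M _ _ _ _ _ _ hgen W hW
  let f : K₁ →+* M := algebraMap K₁ M
  have hcomp : ∀ a : A, f (algebraMap K K₁ (algebraMap A K a)) = algebraMap L M (algebraMap B L (algebraMap A B a)) :=
    fun a => by
      show algebraMap K₁ M (algebraMap K K₁ (algebraMap A K a)) = _
      rw [← IsScalarTower.algebraMap_apply K K₁ M, IsScalarTower.algebraMap_apply K L M,
        ← IsScalarTower.algebraMap_apply A K L, IsScalarTower.algebraMap_apply A B L]
  have hA : ∀ a : A, algebraMap K K₁ (algebraMap A K a) ∈ W.comap f := fun a => by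
    show f _ ∈ W
    rw [hcomp]; exact hW.1 _
  refine (S1982.result A B K L hinj (Or.inl h0) K₁ M hgen W hW hA ?_).1
  let V := W.comap f
  have hdom : EtRam.Dominates A ((algebraMap K K₁).comp (algebraMap A K)) V := by
    refine ⟨hA, fun a ha => ?_⟩
    rw [EtRam7.valuation_lt_one_comap]
    show W.valuation (f (algebraMap K K₁ (algebraMap A K a))) < 1
    rw [hcomp]
    exact hW.2 _ (map_nonunit (algebraMap A B) a ha)
  haveI := EtRam7.isDiscreteValuationRing_of_dominates_finite (A := A) (K := K) V hdom
  letI : Algebra A V := (RingHom.codRestrict ((algebraMap K K₁).comp (algebraMap A K)) V hA).toAlgebra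
  haveI : IsLocalHom (algebraMap A V) := EtRam7.isLocalHom_of_dominates _ V hdom
  have hinjV : Function.Injective (algebraMap A V) := fun a b hab =>
    IsFractionRing.injective A K ((algebraMap K K₁).injective (congrArg Subtype.val hab))
  obtain ⟨τ, hτ⟩ := IsDiscreteValuationRing.exists_irreducible V
  obtain ⟨v, hv, hv0⟩ := DVR7.exists_eq_unit_mul_pow hinjV hπ hτ
  let z₁ : K₁ := ⟨z, IntermediateField.mem_adjoin_simple_self K z⟩
  have hz₁ : z₁ ^ e = algebraMap K K₁ (algebraMap A K π) := Subtype.ext hz
  have hzV : z₁ ∈ V := by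
    rw [← ValuationSubring.valuation_le_one_iff, ← pow_le_one_iff he.ne', ← map_pow, hz₁,
      ValuationSubring.valuation_le_one_iff]
    exact hA π
  have hzne : (⟨z₁, hzV⟩ : V) ≠ 0 := fun h => by
    have h1 : z₁ = 0 := congrArg Subtype.val h
    rw [h1, zero_pow he.ne'] at hz₁
    exact hπ.ne_zero (IsFractionRing.injective A K ((algebraMap K K₁).injective (by rw [← hz₁, map_zero, map_zero])))
  obtain ⟨m, w, hw⟩ := IsDiscreteValuationRing.eq_unit_mul_pow_irreducible hzne hτ
  have hpow : (⟨z₁, hzV⟩ : V) ^ e = algebraMap A V π := Subtype.ext hz₁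
  rw [hw, hv, mul_pow, ← pow_mul, ← Units.val_pow_eq_pow_val] at hpow
  have := IsDiscreteValuationRing.unit_mul_pow_congr_pow hτ hτ _ _ _ _ hpow
  rw [← hedef]
  show e ∣ Ideal.ramificationIdx' (IsLocalRing.maximalIdeal A) (IsLocalRing.maximalIdeal V)
  exact ⟨m, by rw [← this, mul_comm]⟩


end Groth.Agent.S1979
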