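import Groth.Statements.S19793
import Groth.Agent.TorusQI.GreatestSplit
-- import your own Groth.Agent.* helpers here

set_option autoImplicit false
open CategoryTheory MonoidalCategory CartesianMonoidalCategory MonObj GrpObj AlgebraicGeometry
universe u
open SGA3x

namespace Groth.Agent.S19793

/-- Let S be an arbitrary scheme, G an S-group of finite multiplicative type and E ⟶ G a maximal locally
split subtorus (a subgroup monomorphism from an S-group Zariski-locally isomorphic to split tori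
D(ℤ^r), such that any factorisation of E ⟶ G through another locally split subtorus E' ⟶ G is an
isomorphism E ≅ E'). Then every locally split subtorus E' ⟶ G factors through E; hence a maximal
locally split subtorus, when it exists, is unique. -/
theorem result {S : Scheme.{u}} {G : Over S} [GrpObj G]
    (hG : SGA3x.IsMultTypeFT G) {E : Over S} [GrpObj E] (j : E ⟶ G) [IsMonHom j] [Mono j]
    (hE : ∀ s : ↥S, ∃ U : S.Opens, s ∈ U ∧ ∃ r : ℕ, Red.IsSplitTorusWith (Fin r → ℤ) (Red.bc U.ι E))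
    (hmax : ∀ (E' : Over S) [GrpObj E'] (j' : E' ⟶ G) [IsMonHom j'] [Mono j'] (g : E ⟶ E'),
      (∀ s : ↥S, ∃ U : S.Opens, s ∈ U ∧ ∃ r : ℕ, Red.IsSplitTorusWith (Fin r → ℤ) (Red.bc U.ι E')) →
      g ≫ j' = j → IsIso g)
    (E' : Over S) [GrpObj E'] (j' : E' ⟶ G) [IsMonHom j'] [Mono j']
    (hE' : ∀ s : ↥S, ∃ U : S.Opens, s ∈ U ∧ ∃ r : ℕ, Red.IsSplitTorusWith (Fin r → ℤ) (Red.bc U.ι E')) :
    ∃ g' : E' ⟶ E, g' ≫ j = j' := by
  obtain ⟨E₃, i₃, j₃, g₁, g₂, a, b, c, -, d, e⟩ := Groth.Agent.TorusQI.exists_locSplit_ge hG j j' hE hE'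
  haveI := a
  haveI := b
  haveI := hmax E₃ j₃ g₁ c d
  exact ⟨g₂ ≫ inv g₁, by rw [Category.assoc, ← d, IsIso.inv_hom_id_assoc, e]⟩

end Groth.Agent.S19793
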