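import Groth.Statements.S19794
import Groth.Agent.TorusQI.HomExtend
import Groth.Agent.TorusQI.GreatestSplit
import Groth.Agent.H23.FinCondSch
-- import your own Groth.Agent.* helpers here

set_option autoImplicit false
open CategoryTheory MonoidalCategory CartesianMonoidalCategory MonObj GrpObj AlgebraicGeometry
universe u
open SGA3x

namespace Groth.Agent.S19794

/-- Let S be a connected, normal, locally Noetherian scheme, T an S-torus and T₀ ⟶ T its unique maximal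
split subtorus, i.e. a split subtorus through which every split subtorus of T factors. Then the
formation of T₀ commutes with Zariski localisation: for every open U ⊆ S, the restriction T₀|_U ⟶
T|_U is the greatest split subtorus of T|_U, that is, every split subtorus T' ⟶ T|_U with T' ≅
D_U(ℤ^{r'}) factors through T₀|_U. -/
theorem result {S : Scheme.{u}} [ConnectedSpace ↥S]
    [IsLocallyNoetherian S] (hnorm : ∀ x : ↥S, IsDomain (S.presheaf.stalk x) ∧ IsIntegrallyClosed (S.presheaf.stalk x))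
    {T T₀ : Over S} [GrpObj T] [GrpObj T₀] (hT : Red.IsTorus T) (j₀ : T₀ ⟶ T) [IsMonHom j₀] [Mono j₀] (r₀ : ℕ)
    (hT₀ : Red.IsSplitTorusWith (Fin r₀ → ℤ) T₀)
    (hmax : ∀ (T' : Over S) [GrpObj T'] (j' : T' ⟶ T) [IsMonHom j'] [Mono j'] (r' : ℕ),
      Red.IsSplitTorusWith (Fin r' → ℤ) T' → ∃ g : T' ⟶ T₀, g ≫ j₀ = j')
    (U : S.Opens) (T' : Over (U : Scheme.{u})) [GrpObj T'] (j' : T' ⟶ Red.bc U.ι T) [IsMonHom j'] [Mono j']
    (r' : ℕ) (hT' : Red.IsSplitTorusWith (Fin r' → ℤ) T') :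
    ∃ g : T' ⟶ Red.bc U.ι T₀, g ≫ (Over.pullback U.ι).map j₀ = j' := by
  haveI : IsIntegral S := Groth.Agent.H23.FinCondSch.isIntegral_iff.2 ⟨inferInstance, fun x => (hnorm x).1⟩
  rcases isEmpty_or_nonempty ↥(U : Scheme.{u}) with hU | hU
  · haveI : IsEmpty ↥T'.left := Function.isEmpty T'.hom.base
    exact ⟨Over.homMk (isInitialOfIsEmpty.to _) (isInitialOfIsEmpty.hom_ext _ _),
      Over.OverMorphism.ext (isInitialOfIsEmpty.hom_ext _ _)⟩
  obtain ⟨⟨y, hy⟩⟩ := hU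
  obtain ⟨e⟩ := hT'
  obtain ⟨e'⟩ := Groth.Agent.GrpSchLib.MultTypeBC.bc_DS U.ι (Fin r' → ℤ)
  let E := e ≪≫ e'.symm
  let b : Red.bc U.ι (Red.DS S (Fin r' → ℤ)) ⟶ T' := E.inv.hom.hom
  haveI : IsMonHom b := E.inv.hom.isMonHom_hom
  have hD : Red.IsSplitTorusWith (Fin r' → ℤ) (Red.DS S (Fin r' → ℤ)) := ⟨Iso.refl _⟩
  have hTm := Groth.Agent.TorusQI.isMultTypeFT_of_isTorus hT
  obtain ⟨lam, ⟨hlm, hlam⟩, -⟩ := Groth.Agent.TorusQI.existsUnique_hom_extend_open hnorm
    (Groth.Agent.TorusQI.isMultTypeFT_of_isTorus (Groth.Agent.TorusQI.isTorus_of_locSplit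
      (Groth.Agent.TorusQI.isLocSplit_of_split hD))) hTm U hy (b ≫ j')
  haveI := hlm
  obtain ⟨Q, _, j, q, _, _, -, -, hsplit, hqj⟩ :=
    Groth.Agent.TorusQI.exists_torus_image hTm (Groth.Agent.TorusQI.isLocSplit_of_split hD) lam
  obtain ⟨n, hn⟩ := hsplit r' inferInstance hD
  obtain ⟨g, hg⟩ := hmax Q j n hn
  refine ⟨E.hom.hom.hom ≫ (Over.pullback U.ι).map (q ≫ g), ?_⟩
  rw [Category.assoc, ← Functor.map_comp, Category.assoc, hg, hqj, hlam, ← Category.assoc]
  exact (congrArg (· ≫ j') (congrArg (fun k : Grp.mk T' ⟶ Grp.mk T' => k.hom.hom) E.hom_inv_id)).trans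
    (Category.id_comp _)

end Groth.Agent.S19794
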