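import Groth.Statements.S19795
import Groth.Agent.TorusQI.HomExtend
import Groth.Agent.TorusQI.GreatestSplit
-- import your own Groth.Agent.* helpers here

set_option autoImplicit false
open CategoryTheory MonoidalCategory CartesianMonoidalCategory MonObj GrpObj AlgebraicGeometry
universe u
open SGA3x

namespace Groth.Agent.S19795

/-- Let S be an integral, normal, locally Noetherian scheme with function field K, f : Spec K ⟶ S the
inclusion of the generic point, and T an S-torus. Then X_*(T)(S) = X_*(T)(K): every homomorphism of
K-groups (𝔾_{m,S}) ×_S Spec K ⟶ T ×_S Spec K is the base change along f of exactly one homomorphism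
of S-groups 𝔾_{m,S} ⟶ T. (The published statement assumes S connected, normal and locally
Noetherian, which makes S integral.) -/
theorem result {S : Scheme.{u}} [IsIntegral S]
    [IsLocallyNoetherian S] (hnorm : ∀ x : ↥S, IsDomain (S.presheaf.stalk x) ∧ IsIntegrallyClosed (S.presheaf.stalk x))
    {T : Over S} [GrpObj T] (hT : Red.IsTorus T)
    (lamK : Red.bc (S.fromSpecStalk (genericPoint S)) (Red.Gm S) ⟶ Red.bc (S.fromSpecStalk (genericPoint S)) T)
    [IsMonHom lamK] :
    ∃! lam : Red.Gm S ⟶ T, IsMonHom lam ∧ (Over.pullback (S.fromSpecStalk (genericPoint S))).map lam = lamK := by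
  haveI : IsMonHom lamK := inferInstance
  exact Groth.Agent.TorusQI.existsUnique_hom_extend hnorm (Groth.Agent.TorusQI.isMultTypeFT_of_isTorus
    (Groth.Agent.TorusQI.isTorus_of_locSplit
      (Groth.Agent.TorusQI.isLocSplit_of_split (r := 1) Groth.Agent.TorusQI.split_Gm)))
    (Groth.Agent.TorusQI.isMultTypeFT_of_isTorus hT) lamK

end Groth.Agent.S19795
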