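import Groth.Statements.S19796
import Groth.Agent.CliffCover.Basic

set_option autoImplicit false
universe u
open CategoryTheory CategoryTheory.Limits AlgebraicGeometry Opposite
open Curves

namespace Groth.Agent.S19796
set_option backward.isDefEq.respectTransparency false
set_option backward.isDefEq.respectTransparency.types false


/-- Let X be a smooth projective curve over an algebraically closed field k of characteristic 0
(integral, proper over k, of dimension one, all local rings regular) and ψ : X ⟶ P^r_k a k-morphism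
which is non-degenerate (every nonzero global section of O(1) pulls back to a nonzero section of
ψ^*O(1)), with deg ψ^*O(1) = 2r + c for some 0 ≤ c ≤ r - 2; equivalently ψ is the map of a
base-point-free linear system of dimension r and degree 2r + c. Suppose ψ is not birational onto its
image, in the following form: ψ = π ≫ η ≫ j where π : X ⟶ Γ is a k-morphism, finite and flat of
constant rank a ≥ 2, onto a smooth projective curve Γ over k, j : Y ⟶ P^r_k is an integral closed
subscheme and η : Γ ⟶ Y restricts to an isomorphism over a nonempty open subset of Y. Then a = 2 and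
the genus γ of Γ satisfies 2γ ≤ c. Degrees are χ(·) - χ(O_X). -/
theorem result (k : Type u) [Field k] [IsAlgClosed k] [CharZero k] (X : Scheme.{u}) [X.Over (Spec (CommRingCat.of k))]
    [IsIntegral X] [IsProper (X ↘ (Spec (CommRingCat.of k)))] (hdim : topologicalKrullDim X = 1)
    (hreg : ∀ x : X, IsRegularLocalRing (X.presheaf.stalk x))
    (r c : ℕ) (hc : c + 2 ≤ r)
    (Γ : Scheme.{u}) [Γ.Over (Spec (CommRingCat.of k))] [IsIntegral Γ] [IsProper (Γ ↘ (Spec (CommRingCat.of k)))]
    (hdimΓ : topologicalKrullDim Γ = 1) (hregΓ : ∀ y : Γ, IsRegularLocalRing (Γ.presheaf.stalk y))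
    (π : X ⟶ Γ) (hπ : π ≫ (Γ ↘ Spec (CommRingCat.of k)) = X ↘ Spec (CommRingCat.of k))
    [IsFinite π] [Flat π] (a : ℕ) (ha2 : 2 ≤ a) (ha : ∀ y : Γ, Scheme.Hom.finrank π y = a)
    (Y : Scheme.{u}) [IsIntegral Y] (j : Y ⟶ CohB1.ProjSpace r k) [IsClosedImmersion j] (η : Γ ⟶ Y)
    (hη : η ≫ j ≫ CohB1.ProjSpace.toSpec r k = Γ ↘ Spec (CommRingCat.of k))
    (hbir : ∃ U : Y.Opens, (U : Set Y).Nonempty ∧ IsIso (η ∣_ U))
    (hnd : ∀ s : LinSer.Sect (CohB1.ProjSpace r k) (Twist.twistProjSpace r k 1), s ≠ 0 → OmegaSh.pullSect (π ≫ η ≫ j) (Twist.twistProjSpace r k 1) ⊤ s ≠ 0)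
    (hdeg : Curv2.deg k X ((Scheme.Modules.pullback (π ≫ η ≫ j)).obj (Twist.twistProjSpace r k 1)) 1 = 2 * r + c) :
    a = 2 ∧ 2 * Curv2.genus k Γ ≤ (c : ℤ) := by
  obtain ⟨m, hm, hcl⟩ := Groth.Agent.CliffCover.exists_deg k hdim hdimΓ π hπ ha (η ≫ j)
    (by rw [Category.assoc]; exact hη) (by simpa using hnd)
  rw [hdeg] at hm
  have hmr : (r : ℤ) ≤ m := by rcases hcl with h | h <;> omega
  have ha3 : a = 2 := by
    by_contra hne
    have : (3 : ℤ) * m ≤ a * m := mul_le_mul_of_nonneg_right (by exact_mod_cast (show 3 ≤ a by omega)) (by omega)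
    omega
  subst ha3
  refine ⟨rfl, ?_⟩
  rcases hcl with h | h <;> omega


end Groth.Agent.S19796
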