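import Groth.Statements.S19799
import Mathlib.RingTheory.Artinian.Ring
import Mathlib.FieldTheory.IsAlgClosed.Basic
import Mathlib.LinearAlgebra.TensorProduct.RightExactness
import Mathlib.RingTheory.TensorProduct.Pi
import Mathlib.RingTheory.Flat.Basic

set_option autoImplicit false
universe u v w
open scoped TensorProduct
open CAlg

namespace Groth.Agent.S19799
/-- A finite algebra over an algebraically closed field maps onto functions on its points, with
kernel the nilradical. -/
theorem exists_points {k : Type u} [Field k] [IsAlgClosed k] (A : Type v) [CommRing A] [Algebra k A] [Module.Finite k A] :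
    ∃ ρ : A →ₐ[k] (MaximalSpectrum A → k), RingHom.ker ρ = nilradical A := by
  haveI : IsArtinianRing A := IsArtinianRing.of_finite k A
  have hb : ∀ m : MaximalSpectrum A, Function.Bijective (Algebra.ofId k (A ⧸ m.asIdeal)) := fun m => by
    haveI := m.isMaximal
    haveI : IsDomain (A ⧸ m.asIdeal) := Ideal.Quotient.isDomain _
    exact IsAlgClosed.algebraMap_bijective_of_isIntegral
  let ρ : A →ₐ[k] (MaximalSpectrum A → k) :=
    Pi.algHom _ _ fun m => (AlgEquiv.ofBijective _ (hb m)).symm.toAlgHom.comp (Ideal.Quotient.mkₐ k m.asIdeal)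
  refine ⟨ρ, Ideal.ext fun a => ?_⟩
  rw [RingHom.mem_ker, nilradical_eq_sInf, Ideal.mem_sInf]
  simp only [ρ, funext_iff, Pi.algHom_apply, Pi.zero_apply, AlgHom.comp_apply, Ideal.Quotient.mkₐ_eq_mk]
  constructor
  · intro h P (hP : P.IsPrime)
    have := h ⟨P, IsArtinianRing.isMaximal_of_isPrime P⟩
    simpa [Ideal.Quotient.eq_zero_iff_mem] using this
  · intro h m
    simp [Ideal.Quotient.eq_zero_iff_mem.2 (h (I := m.asIdeal) m.isMaximal.isPrime)]

/-- Let k be an algebraically closed field and A, B commutative k-algebras, each finite-dimensional as a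
k-vector space. Then reduction commutes with tensor products: the kernel of the canonical surjection
A ⊗_k B ⟶ (A/nilradical A) ⊗_k (B/nilradical B) equals the nilradical of A ⊗_k B, so that this
surjection induces an isomorphism (A ⊗_k B)_red ≅ A_red ⊗_k B_red and in particular A_red ⊗_k B_red
is reduced. -/
theorem result (k : Type u) [Field k]
    [IsAlgClosed k] (A : Type v) [CommRing A] [Algebra k A] [Module.Finite k A]
    (B : Type w) [CommRing B] [Algebra k B] [Module.Finite k B] :
    RingHom.ker (Algebra.TensorProduct.map (Ideal.Quotient.mkₐ k (nilradical A))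
      (Ideal.Quotient.mkₐ k (nilradical B))).toRingHom = nilradical (A ⊗[k] B) := by
  refine le_antisymm ?_ ?_
  · rw [show RingHom.ker (Algebra.TensorProduct.map (Ideal.Quotient.mkₐ k (nilradical A))
      (Ideal.Quotient.mkₐ k (nilradical B))).toRingHom = _ from Algebra.TensorProduct.map_ker
        (Ideal.Quotient.mkₐ k (nilradical A)) (Ideal.Quotient.mkₐ k (nilradical B)) Ideal.Quotient.mk_surjective Ideal.Quotient.mk_surjective]
    refine sup_le ?_ ?_ <;> rw [Ideal.map_le_iff_le_comap] <;> intro x hx <;>
      rw [Ideal.mem_comap, mem_nilradical] <;> refine IsNilpotent.map (mem_nilradical.1 ?_) _ <;>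
      simpa [RingHom.mem_ker, Ideal.Quotient.eq_zero_iff_mem] using hx
  · intro x hx
    obtain ⟨ρA, hA⟩ := exists_points (k := k) A
    obtain ⟨ρB, hB⟩ := exists_points (k := k) B
    haveI : IsArtinianRing A := IsArtinianRing.of_finite k A
    haveI : IsArtinianRing B := IsArtinianRing.of_finite k B
    let A' := A ⧸ nilradical A
    let B' := B ⧸ nilradical B
    let iA : A' →ₐ[k] (MaximalSpectrum A → k) := Ideal.Quotient.liftₐ _ ρA fun a ha => RingHom.mem_ker.1 (hA ▸ ha)
    let iB : B' →ₐ[k] (MaximalSpectrum B → k) := Ideal.Quotient.liftₐ _ ρB fun a ha => RingHom.mem_ker.1 (hB ▸ ha)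
    have hiA : Function.Injective iA := by
      rw [injective_iff_map_eq_zero]
      intro a ha
      obtain ⟨a, rfl⟩ := Ideal.Quotient.mk_surjective a
      exact Ideal.Quotient.eq_zero_iff_mem.2 (hA ▸ RingHom.mem_ker.2 ha)
    have hiB : Function.Injective iB := by
      rw [injective_iff_map_eq_zero]
      intro a ha
      obtain ⟨a, rfl⟩ := Ideal.Quotient.mk_surjective a
      exact Ideal.Quotient.eq_zero_iff_mem.2 (hB ▸ RingHom.mem_ker.2 ha)
    classical
    haveI := Fintype.ofFinite (MaximalSpectrum B)
    let e := Algebra.TensorProduct.piScalarRight k k (MaximalSpectrum A → k) (MaximalSpectrum B)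
    have hinj : Function.Injective (TensorProduct.map iA.toLinearMap iB.toLinearMap) :=
      TensorProduct.map_injective_of_flat_flat _ _ hiA hiB
    haveI : IsReduced (A' ⊗[k] B') := isReduced_of_injective
      (e.toAlgHom.comp (Algebra.TensorProduct.map iA iB)) (e.injective.comp hinj)
    rw [RingHom.mem_ker]
    exact ((mem_nilradical.1 hx).map _).eq_zero

end Groth.Agent.S19799
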