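import Groth.Statements.S19801
import Groth.Agent.Nakai.Big

set_option autoImplicit false
set_option backward.isDefEq.respectTransparency false
set_option backward.isDefEq.respectTransparency.types false
set_option maxHeartbeats 1000000
universe u
open CategoryTheory CategoryTheory.Limits AlgebraicGeometry Asymptotics
open Variety
open Groth.Agent.H23 Groth.Agent.H23.TrivBasic Groth.Agent.H23.PicMul Groth.Agent.NefBig Groth.Agent.NefCrit

namespace Groth.Agent.S19801

attribute [local instance] PicMul.clMonoid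

/-- A polynomial of degree at most d is bounded by a multiple of the d-th power. -/
theorem eval_le_pow (R : Polynomial ℚ) {d : ℕ} (hR : R.natDegree ≤ d) {m : ℕ} (hm : 1 ≤ m) :
    R.eval (m : ℚ) ≤ (∑ i ∈ Finset.range (d + 1), |R.coeff i|) * (m : ℚ) ^ d := by
  rw [Polynomial.eval_eq_sum_range' (Nat.lt_succ_of_le hR), Finset.sum_mul]
  refine Finset.sum_le_sum fun i hi => ?_
  have h1 : (m : ℚ) ^ i ≤ (m : ℚ) ^ d :=
    pow_le_pow_right₀ (by exact_mod_cast hm) (Nat.lt_succ_iff.1 (Finset.mem_range.1 hi))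
  calc R.coeff i * (m : ℚ) ^ i ≤ |R.coeff i| * (m : ℚ) ^ i :=
        mul_le_mul_of_nonneg_right (le_abs_self _) (pow_nonneg (Nat.cast_nonneg _) _)
    _ ≤ |R.coeff i| * (m : ℚ) ^ d := mul_le_mul_of_nonneg_left h1 (abs_nonneg _)

/-- Let X be a projective variety of dimension d over a field k, i.e. a geometrically integral scheme
proper over k admitting an ample invertible module, with dim X = d; let L be an invertible
O_X-module and F a coherent O_X-module. Then dim_k H^0(X, F ⊗ L^m) = O(m^d) as m → ∞. -/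
theorem result (k : Type u) [Field k] (X : Scheme.{u})
    [X.Over (Spec (CommRingCat.of k))] [IsIntegral X] [GeometricallyIntegral (X ↘ Spec (CommRingCat.of k))]
    [IsProper (X ↘ Spec (CommRingCat.of k))] (hproj : ∃ A : X.Modules, CohB1.IsAmple A)
    (d : ℕ) (hd : topologicalKrullDim X = d) (L : X.Modules) (hL : PicF.IsInvertible L)
    (F : X.Modules) (hF : Coh.IsCoh F) :
    (fun m : ℕ => (Module.finrank k (Coh.HH X (CohB1.tensorMod F (CohB1.tensorPow L m)) 0) : ℝ)) =O[Filter.atTop]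
      (fun m : ℕ => (m : ℝ) ^ d) := by
  haveI := CurveCohLib.isNoetherian_of_proper (k := k) (X := X)
  haveI : X.IsSeparated := AmpleVan.isSeparated_of_proper (A := k)
  obtain ⟨H, hH⟩ := hproj
  have hn := deg_genericPoint_of_dim (k := k) (X := X) hd
  obtain ⟨a₀, ha₀, hgen⟩ := exists_generated k hH
  obtain ⟨n₀, hn₀, hamp⟩ := AmpleX.eventually_ample_tensor hH hL
  let A := CohB1.tensorPow H a₀
  have hA : PicF.IsInvertible A := InvX.isInvertible_tensorPow hH.1 _
  have hM : CohB1.IsAmple (G2 L A 1 n₀) := by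
    refine AmpleX.isAmple_of_iso (cl_eq_iff.1 ?_).some (hamp (a₀ * n₀) (Nat.le_mul_of_pos_left _ ha₀)).1
    rw [cl_G2, cl_tensor, cl_tensorPow, show PicF.cl A = PicF.cl H ^ a₀ from cl_tensorPow _ _, pow_one,
      ← pow_mul, mul_comm]
  have hdeg : ∀ x ∈ CohB1.support F, VarDim.deg (X ↘ Spec (CommRingCat.of k)) x ≤ d :=
    fun x _ => hn ▸ deg_le_generic x
  obtain ⟨P, -, hP⟩ := exists_hasP (k := k) hL hA hF (d + 1) fun x hx => Nat.lt_succ_of_le (hdeg x hx)
  obtain ⟨R, hR, -, hRm⟩ := exists_h0_le (k := k) hL hA (hgen a₀ le_rfl) 1 n₀ hM d hF hdeg hP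
  refine Asymptotics.IsBigO.of_bound ((∑ i ∈ Finset.range (d + 1), |R.coeff i| : ℚ) : ℝ) ?_
  filter_upwards [hRm, Filter.eventually_ge_atTop 1] with m h1 hm
  rw [Real.norm_of_nonneg (Nat.cast_nonneg _), Real.norm_of_nonneg (pow_nonneg (Nat.cast_nonneg _) _)]
  have h2 := (h1 0 (Nat.zero_le _)).trans (eval_le_pow R hR hm)
  rw [h0_congr_cl (k := k) (show PicF.cl (CohB1.tensorMod F (G2 L A (1 * m) 0)) =
      PicF.cl (CohB1.tensorMod F (CohB1.tensorPow L m)) by
    simp only [cl_tensor, cl_G2, cl_tensorPow, one_mul, pow_zero, mul_one])] at h2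
  have h3 : ((h0 k (CohB1.tensorMod F (CohB1.tensorPow L m)) : ℕ) : ℝ) ≤
      ((∑ i ∈ Finset.range (d + 1), |R.coeff i| : ℚ) : ℝ) * (m : ℝ) ^ d := by exact_mod_cast h2
  exact h3

end Groth.Agent.S19801
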