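import Groth.Statements.S19804
import Groth.Agent.AzumayaX.Basic

set_option autoImplicit false
open scoped TensorProduct
universe u v w
open Brauer

namespace Groth.Agent.S19804

/-- Let R be a commutative ring with Spec R connected, A an Azumaya R-algebra and e an idempotent
element of A. If for some nonzero commutative R-algebra R' the element 1 ⊗ e of R' ⊗_R A is 0, then
e = 0; and if 1 ⊗ e = 1 in R' ⊗_R A, then e = 1. (The published statement is for an Azumaya algebra
over a connected scheme S and base change to an arbitrary nonempty S-scheme T; this row takes S and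
T affine.) -/
theorem result {R : Type u} [CommRing R]
    [ConnectedSpace (PrimeSpectrum R)] {A : Type v} [Ring A] [Algebra R A] [IsAzumaya R A]
    (e : A) (he : IsIdempotentElem e) (R' : Type w) [CommRing R'] [Nontrivial R'] [Algebra R R'] :
    ((1 : R') ⊗ₜ[R] e = (0 : R' ⊗[R] A) → e = 0) ∧ ((1 : R') ⊗ₜ[R] e = (1 : R' ⊗[R] A) → e = 1) := by
  refine ⟨Groth.Agent.AzumayaX.idempotent_eq_zero R e he R', fun h => ?_⟩
  have h1 := Groth.Agent.AzumayaX.idempotent_eq_zero R (1 - e) he.one_sub R'
    (by rw [TensorProduct.tmul_sub, h, Algebra.TensorProduct.one_def, sub_self])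
  exact (sub_eq_zero.mp h1).symm

end Groth.Agent.S19804
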