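import Groth.Statements.S19806
import Groth.Agent.Lib.BigVol

set_option autoImplicit false
set_option backward.isDefEq.respectTransparency false
set_option backward.isDefEq.respectTransparency.types false
set_option linter.style.haveILetI false
set_option linter.unusedSectionVars false
set_option maxHeartbeats 400000
universe u
open CategoryTheory CategoryTheory.Limits AlgebraicGeometry
open scoped ENNReal
open Variety

namespace Groth.Agent.S19806

/-- Let X be a projective variety of dimension d over a field k (a geometrically integral scheme, proper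
over k, admitting an ample invertible module, with dim X = d) and L an invertible O_X-module; write
vol(L) for the upper limit of dim_k H^0(X, L^m) / m^d as m → ∞, taken in the extended non-negative
reals (the volume of L up to the factor d!). Call L big when the lower limit of dim_k H^0(X, L^m) /
m^d is positive. Then L is big if and only if vol(L) is positive. -/
theorem result (k : Type u) [Field k] (X : Scheme.{u})
    [X.Over (Spec (CommRingCat.of k))] [IsIntegral X] [GeometricallyIntegral (X ↘ Spec (CommRingCat.of k))]
    [IsProper (X ↘ Spec (CommRingCat.of k))]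
    (hproj : ∃ A : X.Modules, CohB1.IsAmple A) (d : ℕ) (hd : topologicalKrullDim X = d)
    (L : X.Modules) (hL : PicF.IsInvertible L) :
    0 < Filter.liminf (fun m : ℕ => (Module.finrank k (Coh.HH X (CohB1.tensorPow L m) 0) : ℝ≥0∞) /
        (m : ℝ≥0∞) ^ d) Filter.atTop ↔
      0 < Filter.limsup (fun m : ℕ => (Module.finrank k (Coh.HH X (CohB1.tensorPow L m) 0) : ℝ≥0∞) /
        (m : ℝ≥0∞) ^ d) Filter.atTop := by
  refine ⟨fun h => lt_of_lt_of_le h (Filter.liminf_le_limsup), fun h => ?_⟩
  obtain ⟨H, hH⟩ := hproj
  rw [AsympCoh.limsup_ennreal (AsympCoh.isOrd_pow k hd.le hL 0), ENNReal.ofReal_pos] at h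
  obtain ⟨c, hc, hev⟩ := BigVol.exists_growth k hd hH hL (BigVol.oftenGrows_of_limsup_pos zero_le_one h)
  refine lt_of_lt_of_le (ENNReal.ofReal_pos.2 (by exact_mod_cast hc : (0 : ℝ) < (c : ℝ))) ?_
  refine Filter.le_liminf_of_le (h := ?_)
  filter_upwards [hev, Filter.eventually_gt_atTop 0] with m hm hm0
  have hp : (0 : ℝ) < (m : ℝ) ^ d := pow_pos (by exact_mod_cast hm0) _
  have h1 : ((c : ℝ)) * (m : ℝ) ^ d ≤ (Module.finrank k (Coh.HH X (CohB1.tensorPow L m) 0) : ℝ) := by
    exact_mod_cast hm
  refine le_trans (ENNReal.ofReal_le_ofReal ((le_div_iff₀ hp).2 h1)) ?_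
  rw [ENNReal.ofReal_div_of_pos hp, ENNReal.ofReal_pow (Nat.cast_nonneg _), ENNReal.ofReal_natCast, ENNReal.ofReal_natCast]

end Groth.Agent.S19806
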