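import Groth.Statements.S19807
import Groth.Agent.Lib.BigVol

set_option autoImplicit false
set_option backward.isDefEq.respectTransparency false
set_option backward.isDefEq.respectTransparency.types false
set_option linter.style.haveILetI false
set_option linter.unusedSectionVars false
set_option maxHeartbeats 400000
universe u
open CategoryTheory CategoryTheory.Limits AlgebraicGeometry
open scoped ENNReal
open Variety

namespace Groth.Agent.S19807

/-- Let X be a projective variety of dimension d over a field k (a geometrically integral scheme, proper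
over k, admitting an ample invertible module, with dim X = d) and L an invertible O_X-module; write
vol(L) for the upper limit of dim_k H^0(X, L^m) / m^d as m → ∞, taken in the extended non-negative
reals (the volume of L up to the factor d!). If E is an invertible O_X-module admitting a nonzero
global section (an effective Cartier divisor), then vol(L) ≤ vol(L ⊗ E): the volume increases in
effective directions. -/
theorem result (k : Type u) [Field k] (X : Scheme.{u})
    [X.Over (Spec (CommRingCat.of k))] [IsIntegral X] [GeometricallyIntegral (X ↘ Spec (CommRingCat.of k))]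
    [IsProper (X ↘ Spec (CommRingCat.of k))]
    (hproj : ∃ A : X.Modules, CohB1.IsAmple A) (d : ℕ) (hd : topologicalKrullDim X = d)
    (L : X.Modules) (hL : PicF.IsInvertible L)
    (E : X.Modules) (hE : PicF.IsInvertible E) (s : Coh.structureModule X ⟶ E) (hs : s ≠ 0) :
    Filter.limsup (fun m : ℕ => (Module.finrank k (Coh.HH X (CohB1.tensorPow L m) 0) : ℝ≥0∞) /
        (m : ℝ≥0∞) ^ d) Filter.atTop ≤
      Filter.limsup (fun m : ℕ => (Module.finrank k (Coh.HH X (CohB1.tensorPow (CohB1.tensorMod L E) m) 0) : ℝ≥0∞) /
        (m : ℝ≥0∞) ^ d) Filter.atTop := by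
  haveI := CurveCohLib.isNoetherian_of_proper (k := k) (X := X)
  refine Filter.limsup_le_limsup (Filter.Eventually.of_forall fun m => ENNReal.div_le_div_right ?_ _)
  refine Nat.cast_le.2 ?_
  have hs1 : InvX.one s ≠ 0 := fun h => hs (AmpleX.eq_zero_of_one_eq_zero _ h)
  obtain ⟨f, hf⟩ := NefBig.mono_pow hE hs1 m
  haveI := hf
  obtain ⟨g, hg⟩ := NefBig.mono_of_mono_unit f (InvX.isInvertible_tensorPow hL m)
    (Q := CohB1.tensorPow (CohB1.tensorMod L E) m) (by
      open scoped Groth.Agent.H23.PicMul in
      rw [H23.PicMul.cl_tensorPow, H23.PicMul.cl_tensorPow, H23.PicMul.cl_tensorPow, H23.PicMul.cl_tensor,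
        _root_.mul_comm, ← mul_pow])
  haveI := hg
  exact NefBig.h0_le_of_mono (k := k) g
    (AmpleVan.isCoh_invertible (InvX.isInvertible_tensorPow (InvX.isInvertible_tensorMod hL hE) m))

end Groth.Agent.S19807
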