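import Groth.Statements.S19809
import Mathlib
import Groth.Agent.MiscAlg16.Linear
-- import your own Groth.Agent.* helpers here

set_option autoImplicit false
universe u
open RatCurv

namespace Groth.Agent.S19809

open MvPolynomial

variable {K : Type u} [Field K] [IsAlgClosed K]

/-- Over an algebraically closed field a binary cubic form has a quadratic factor. -/
private theorem exists_factor (g : MvPolynomial (Fin 2) K) (hg : g.IsHomogeneous 3) (hg0 : g ≠ 0) :
    ∃ e l : MvPolynomial (Fin 2) K, e.IsHomogeneous 2 ∧ l.IsHomogeneous 1 ∧ g = e * l ∧ e ≠ 0 := by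
  classical
  let d : ℕ → (Fin 2 →₀ ℕ) := fun i => Finsupp.single 0 i + Finsupp.single 1 (3 - i)
  let c : ℕ → K := fun i => g.coeff (d i)
  have hsum : g = C (c 0) * X 1 ^ 3 + C (c 1) * X 0 * X 1 ^ 2 + C (c 2) * X 0 ^ 2 * X 1 + C (c 3) * X 0 ^ 3 := by
    have hd : ∀ i ≤ 3, monomial (d i) (c i) = C (c i) * X 0 ^ i * X 1 ^ (3 - i) := fun i _ => by
      rw [X_pow_eq_monomial, X_pow_eq_monomial, C_mul_monomial, monomial_mul, mul_one, mul_one]
    have h1 : g = ∑ i ∈ Finset.range 4, monomial (d i) (c i) := by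
      ext m
      simp only [coeff_sum, coeff_monomial]
      have heq : ∀ i ∈ Finset.range 4, d i = m ↔ (i = m 0 ∧ m 0 + m 1 = 3) := fun i hi => by
        have hi' := Finset.mem_range.1 hi
        constructor
        · rintro rfl; simp [d]; omega
        · rintro ⟨rfl, h⟩; ext j; fin_cases j <;> simp [d] <;> omega
      by_cases hm : m 0 + m 1 = 3
      · rw [Finset.sum_eq_single (m 0) (fun i hi hne => if_neg fun h => hne ((heq i hi).1 h).1)
          (fun h => absurd (Finset.mem_range.2 (by omega)) h)]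
        have h2 : d (m 0) = m := (heq _ (Finset.mem_range.2 (by omega))).2 ⟨rfl, hm⟩
        rw [if_pos h2]
        show _ = g.coeff (d (m 0))
        rw [h2]
      · rw [Finset.sum_eq_zero fun i hi => if_neg fun h => hm ((heq i hi).1 h).2]
        refine hg.coeff_eq_zero ?_
        rwa [Finsupp.degree_eq_sum, Fin.sum_univ_two]
    refine h1.trans ?_
    simp only [Finset.sum_range_succ, Finset.sum_range_zero, zero_add]
    rw [hd 0 (by omega), hd 1 (by omega), hd 2 (by omega), hd 3 (by omega)]
    ring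
  by_cases h3 : c 3 = 0
  · refine ⟨C (c 0) * X 1 ^ 2 + C (c 1) * X 0 * X 1 + C (c 2) * X 0 ^ 2, X 1, ?_, isHomogeneous_X K 1,
      by rw [hsum, h3, map_zero]; ring, fun h => hg0 ?_⟩
    · refine ((IsHomogeneous.C_mul ((isHomogeneous_X K 1).pow 2) _).add ?_).add
        (IsHomogeneous.C_mul ((isHomogeneous_X K 0).pow 2) _)
      exact (IsHomogeneous.C_mul (isHomogeneous_X K 0) _).mul (isHomogeneous_X K 1)
    · rw [hsum, h3, map_zero, show C (c 0) * X 1 ^ 3 + C (c 1) * X 0 * X 1 ^ 2 + C (c 2) * X 0 ^ 2 * X 1 +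
        0 * X 0 ^ 3 = (C (c 0) * X 1 ^ 2 + C (c 1) * X 0 * X 1 + C (c 2) * X 0 ^ 2) * X (1 : Fin 2) by ring, h, zero_mul]
  · let f : Polynomial K := Polynomial.C (c 3) * Polynomial.X ^ 3 + Polynomial.C (c 2) * Polynomial.X ^ 2 +
      Polynomial.C (c 1) * Polynomial.X + Polynomial.C (c 0)
    obtain ⟨r, hr⟩ := IsAlgClosed.exists_root f (by
      rw [show f = Polynomial.C (c 3) * Polynomial.X ^ 3 + Polynomial.C (c 2) * Polynomial.X ^ 2 +
        Polynomial.C (c 1) * Polynomial.X + Polynomial.C (c 0) from rfl, Polynomial.degree_cubic h3]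
      decide)
    have hroot : c 3 * r ^ 3 + c 2 * r ^ 2 + c 1 * r + c 0 = 0 := by simpa [f, Polynomial.IsRoot] using hr
    have h0 : c 0 = -(c 3 * r ^ 3 + c 2 * r ^ 2 + c 1 * r) := by linear_combination hroot
    let e : MvPolynomial (Fin 2) K := C (c 3) * X 0 ^ 2 + C (c 2 + r * c 3) * X 0 * X 1 +
      C (c 1 + r * c 2 + r ^ 2 * c 3) * X 1 ^ 2
    have hmul : g = e * (X 0 - C r * X 1) := by
      rw [hsum, h0]
      simp only [e, map_add, map_mul, map_pow, map_neg]
      ring
    refine ⟨e, X 0 - C r * X 1, ?_, (isHomogeneous_X K 0).sub (IsHomogeneous.C_mul (isHomogeneous_X K 1) _),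
      hmul, fun h => hg0 (by rw [hmul, h, zero_mul])⟩
    refine ((IsHomogeneous.C_mul ((isHomogeneous_X K 0).pow 2) _).add ?_).add
      (IsHomogeneous.C_mul ((isHomogeneous_X K 1).pow 2) _)
    exact (IsHomogeneous.C_mul (isHomogeneous_X K 0) _).mul (isHomogeneous_X K 1)


/-- A smooth rational quintic curve C ⊂ P^3 has a one-parameter family of 3-secant lines. Stated, as for
the nondegenerate case, through binary forms: C is the image of P^1 under a 4-dimensional linear
series V of binary quintic forms which separates every length-2 subscheme of P^1 (for every nonzero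
quadratic form e, the forms of V together with the multiples of e span all quintic forms), so that
P^1 → P(V^*) = P^3 is a closed embedding; the linear forms on P^3 are the elements of V, a line L ⊂
P^3 is the 2-dimensional space of linear forms vanishing on it, and L ∩ C has length at least 3
exactly when that space is contained in g · K[s,t]_2 for a cubic form g. The conclusion: there are
infinitely many pairwise non-proportional nonzero cubic forms g with dim (V ∩ g · K[s,t]_2) ≥ 2,
i.e. for every finite set of cubics there is such a g proportional to none of them. (The ground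
field is algebraically closed of characteristic zero in place of the complex numbers; the third
printed assertion, on curves all of whose 3-secants are 4-secant, is not stated.) -/
theorem result (K : Type u) [Field K] [IsAlgClosed K]
    [CharZero K] (V : Submodule K (MvPolynomial (Fin 2) K))
    (hV : V ≤ MvPolynomial.homogeneousSubmodule (Fin 2) K 5) (hdim : Module.finrank K ↥V = 4)
    (hsep : ∀ e ∈ MvPolynomial.homogeneousSubmodule (Fin 2) K 2, e ≠ 0 →
      ∀ F ∈ MvPolynomial.homogeneousSubmodule (Fin 2) K 5, ∃ v ∈ V,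
        ∃ h ∈ MvPolynomial.homogeneousSubmodule (Fin 2) K 3, F = v + e * h)
    (F : Finset (MvPolynomial (Fin 2) K)) :
    ∃ g ∈ MvPolynomial.homogeneousSubmodule (Fin 2) K 3, g ≠ 0 ∧
      2 ≤ Module.finrank K ↥(V ⊓ (MvPolynomial.homogeneousSubmodule (Fin 2) K 2).map (LinearMap.mulLeft K g)) ∧
      ∀ g' ∈ F, ∀ c : K, g ≠ c • g' := by
  classical
  let W : ℕ → Submodule K (MvPolynomial (Fin 2) K) := homogeneousSubmodule (Fin 2) K
  have hW : ∀ m, Module.finrank K (W m) = m + 1 := fun m => (MiscAlg16.finrank_homogeneous_two K m).2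
  haveI : ∀ m, FiniteDimensional K (W m) := fun m => (MiscAlg16.finrank_homogeneous_two K m).1
  have hmulW : ∀ (i j : ℕ) (x : MvPolynomial (Fin 2) K), x ∈ W i → (W j).map (LinearMap.mulLeft K x) ≤ W (i + j) := by
    rintro i j x hx _ ⟨y, hy, rfl⟩
    exact (hx : IsHomogeneous x i).mul (hy : IsHomogeneous y j)
  have hdimmul : ∀ (j : ℕ) (x : MvPolynomial (Fin 2) K), x ≠ 0 →
      Module.finrank K ((W j).map (LinearMap.mulLeft K x)) = j + 1 := fun j x hx => by
    rw [← (Submodule.equivMapOfInjective (LinearMap.mulLeft K x) (mul_right_injective₀ hx) (W j)).finrank_eq, hW]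
  -- no cubic has all its quadratic multiples in `V`
  have hnone : ∀ g ∈ W 3, g ≠ 0 → ¬ (W 2).map (LinearMap.mulLeft K g) ≤ V := by
    intro g hg hg0 hle
    obtain ⟨e, l, he, hl, rfl, he0⟩ := exists_factor g hg hg0
    haveI : FiniteDimensional K V := Submodule.finiteDimensional_of_le hV
    let M := (W 3).map (LinearMap.mulLeft K e)
    have hsup : V ⊔ M = W 5 := by
      refine le_antisymm (sup_le hV (hmulW 2 3 e he)) fun F hF => ?_
      obtain ⟨v, hv, h, hh, rfl⟩ := hsep e he he0 F hF
      exact add_mem (Submodule.mem_sup_left hv) (Submodule.mem_sup_right ⟨h, hh, rfl⟩)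
    have hle2 : (W 2).map (LinearMap.mulLeft K (e * l)) ≤ V ⊓ M := by
      refine le_inf hle ?_
      rintro _ ⟨y, hy, rfl⟩
      exact ⟨l * y, hl.mul hy, (mul_assoc e l y).symm⟩
    have h1 := Submodule.finrank_sup_add_finrank_inf_eq V M
    rw [hsup, hW, hdim, hdimmul 3 e he0] at h1
    haveI : FiniteDimensional K ↥(V ⊓ M : Submodule K (MvPolynomial (Fin 2) K)) :=
      Submodule.finiteDimensional_of_le inf_le_left
    have h2 := Submodule.finrank_mono hle2
    rw [hdimmul 2 _ hg0] at h2
    omega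
  haveI : FiniteDimensional K V := Submodule.finiteDimensional_of_le hV
  -- two vectors spanning a complement of `V`
  let V' : Submodule K (W 5) := V.comap (W 5).subtype
  have hV' : Module.finrank K V' = 4 := (Submodule.comapSubtypeEquivOfLe hV).finrank_eq.trans hdim
  have hq : Module.finrank K (W 5 ⧸ V') = 2 := by
    have := Submodule.finrank_quotient_add_finrank V'
    rw [hW] at this
    omega
  let b := Module.finBasisOfFinrankEq K (W 5 ⧸ V') hq
  obtain ⟨w₁, hw₁⟩ := Submodule.Quotient.mk_surjective _ (b 0)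
  obtain ⟨w₂, hw₂⟩ := Submodule.Quotient.mk_surjective _ (b 1)
  have hindep : ∀ x y : K, (x • w₁ + y • w₂ : W 5).1 ∈ V → x = 0 ∧ y = 0 := fun x y h => by
    have h0 : (Submodule.Quotient.mk (x • w₁ + y • w₂) : W 5 ⧸ V') = 0 := (Submodule.Quotient.mk_eq_zero _).2 h
    rw [Submodule.Quotient.mk_add, Submodule.Quotient.mk_smul, Submodule.Quotient.mk_smul, hw₁, hw₂] at h0
    have := Fintype.linearIndependent_iff.1 b.linearIndependent ![x, y] (by rw [Fin.sum_univ_two]; exact h0)
    exact ⟨this 0, this 1⟩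
  let w : K → MvPolynomial (Fin 2) K := fun t => (w₁ : MvPolynomial (Fin 2) K) + t • (w₂ : MvPolynomial (Fin 2) K)
  let U : K → Submodule K (MvPolynomial (Fin 2) K) := fun t => V ⊔ K ∙ w t
  have hUW : ∀ t, U t ≤ W 5 := fun t => sup_le hV
    ((Submodule.span_singleton_le_iff_mem _ _).2 (add_mem w₁.2 (Submodule.smul_mem _ t w₂.2)))
  have hUdim : ∀ t, Module.finrank K (U t) = 5 := fun t => by
    have h1 := Submodule.finrank_sup_add_finrank_inf_eq V (K ∙ w t)
    have h2 : V ⊓ K ∙ w t = ⊥ := (Submodule.eq_bot_iff _).2 fun x hx => by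
      obtain ⟨hxV, hxw⟩ := Submodule.mem_inf.1 hx
      obtain ⟨a, rfl⟩ := Submodule.mem_span_singleton.1 hxw
      rw [smul_add, smul_smul] at hxV
      rw [(hindep a (a * t) hxV).1, zero_smul]
    have h3 : w t ≠ 0 := fun h0 => one_ne_zero (hindep 1 t (by
      show (1 : K) • (w₁ : MvPolynomial (Fin 2) K) + t • (w₂ : MvPolynomial (Fin 2) K) ∈ V
      rw [one_smul]; exact (show w t ∈ V from h0 ▸ zero_mem V))).1
    rw [h2, finrank_bot, finrank_span_singleton h3, hdim] at h1
    show Module.finrank K ↥(V ⊔ K ∙ w t) = 5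
    omega
  have hinf : ∀ t t' : K, t ≠ t' → ∀ x, x ∈ U t → x ∈ U t' → x ∈ V := by
    intro t t' hne x hx hx'
    obtain ⟨v, hv, z, hz, rfl⟩ := Submodule.mem_sup.1 hx
    obtain ⟨a, rfl⟩ := Submodule.mem_span_singleton.1 hz
    obtain ⟨v', hv', z', hz', heq⟩ := Submodule.mem_sup.1 hx'
    obtain ⟨a', rfl⟩ := Submodule.mem_span_singleton.1 hz'
    have hmem : ((a - a') • w₁ + (a * t - a' * t') • w₂ : W 5).1 ∈ V := by
      have : ((a - a') • w₁ + (a * t - a' * t') • w₂ : W 5).1 = v' - v := by
        show (a - a') • (w₁ : MvPolynomial (Fin 2) K) + (a * t - a' * t') • (w₂ : MvPolynomial (Fin 2) K) = _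
        simp only [w] at heq
        rw [sub_smul, sub_smul, mul_smul, mul_smul]
        rw [smul_add, smul_add] at heq
        linear_combination (norm := module) -heq
      rw [this]; exact sub_mem hv' hv
    obtain ⟨ha, hat⟩ := hindep _ _ hmem
    have ha' : a = a' := sub_eq_zero.1 ha
    subst ha'
    have ha0 : a = 0 := by
      rw [← mul_sub] at hat
      exact (mul_eq_zero.1 hat).resolve_right (sub_ne_zero.2 hne)
    rw [ha0, zero_smul, add_zero]; exact hv
  -- choose a parameter avoiding the given cubics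
  let bad : Set K := ⋃ g' ∈ F, {t | g' ∈ W 3 ∧ g' ≠ 0 ∧ (W 2).map (LinearMap.mulLeft K g') ≤ U t}
  have hbad : bad.Finite := F.finite_toSet.biUnion fun g' _ => by
    refine Set.Subsingleton.finite fun t ht t' ht' => ?_
    by_contra hne
    exact hnone g' ht.1 ht.2.1 fun x hx => hinf t t' hne x (ht.2.2 hx) (ht'.2.2 hx)
  obtain ⟨t, ht⟩ := hbad.exists_notMem
  obtain ⟨g, hg, hg0, hgU⟩ := MiscAlg16.exists_multiplier K 5 0 3 (by omega) (by omega) (U t) (hUW t)
    (by rw [hUdim])
  have hgQ : (W 2).map (LinearMap.mulLeft K g) ≤ U t := by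
    rintro _ ⟨y, hy, rfl⟩
    exact hgU y hy
  refine ⟨g, hg, hg0, ?_, fun g' hg' c hc => ht ?_⟩
  · haveI : FiniteDimensional K (U t) := Submodule.finiteDimensional_of_le (hUW t)
    have h1 := Submodule.finrank_sup_add_finrank_inf_eq V ((W 2).map (LinearMap.mulLeft K g))
    have h2 : Module.finrank K ↥(V ⊔ (W 2).map (LinearMap.mulLeft K g)) ≤ 5 :=
      (Submodule.finrank_mono (sup_le le_sup_left hgQ)).trans (hUdim t).le
    rw [hdim, hdimmul 2 g hg0] at h1
    show 2 ≤ Module.finrank K ↥(V ⊓ (W 2).map (LinearMap.mulLeft K g))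
    omega
  · have hc0 : c ≠ 0 := fun h => hg0 (by rw [hc, h, zero_smul])
    have hg'eq : g' = c⁻¹ • g := by rw [hc, inv_smul_smul₀ hc0]
    refine Set.mem_biUnion hg' ⟨?_, ?_, ?_⟩
    · rw [hg'eq]; exact Submodule.smul_mem _ _ hg
    · rw [hg'eq]; exact smul_ne_zero (inv_ne_zero hc0) hg0
    · rintro _ ⟨y, hy, rfl⟩
      rw [hg'eq]
      show c⁻¹ • g * y ∈ U t
      rw [smul_mul_assoc]
      exact Submodule.smul_mem _ _ (hgU y hy)

end Groth.Agent.S19809
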