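import Groth.Statements.S7151
import Mathlib
import Groth.Agent.EtRam7.SepGood
-- import your own Groth.Agent.* helpers here

set_option autoImplicit false
set_option linter.style.haveILetI false
set_option maxHeartbeats 1000000
universe u
open EtAlg

namespace Groth.Agent.S7151

open Polynomial TensorProduct
open Groth.Agent

/-- The coordinate bound for the extension by a `p`-th root. -/
def Bound (B : Type u) [CommRing B] (t : B) (M : Type u) [CommRing M] [Algebra B M] (a : M) (p : ℕ) (d : ℕ) : Prop :=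
  ∀ (hf : (X ^ p - C a : M[X]).Monic) (x : AdjoinRoot (X ^ p - C a)),
    IsIntegral B x → ∀ i, IsIntegral B (algebraMap B M (t ^ d) * (AdjoinRoot.powerBasis' hf).basis.repr x i)

theorem exists_bound {B L M : Type u} [CommRing B] [IsDomain B] [IsDiscreteValuationRing B] [Field L] [Algebra B L]
    [IsFractionRing B L] [Field M] [Algebra L M] [Algebra B M] [IsScalarTower B L M] [FiniteDimensional L M]
    (hB : CAlg.IsNagata B) {p : ℕ} [hp : Fact p.Prime] (t : B) (ht0 : t ≠ 0) (ht : ¬ IsUnit t) (a : M)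
    (hirr : ∀ m : M, m ^ p ≠ a) : ∃ d, Bound B t M a p d := by
  haveI : Fact (Irreducible (X ^ p - C a : M[X])) := ⟨X_pow_sub_C_irreducible_of_prime hp.out hirr⟩
  obtain ⟨d, hd⟩ := EtRam7.exists_coord_bound hB (L := L) (M := M)
    (AdjoinRoot.powerBasis' (monic_X_pow_sub_C a hp.out.ne_zero)).basis t ht0 ht
  exact ⟨d, fun hf x hx i => hd x hx i⟩

/-- Maps out of a purely inseparable extension of degree `p` generated by a `p`-th root. -/
theorem exists_algHom_root {K₁ K₂ N : Type u} [Field K₁] [Field K₂] [CommRing N] [Algebra K₁ K₂] [Algebra K₁ N]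
    {p : ℕ} [Fact p.Prime] [CharP K₁ p] (a : K₁) (α : K₂) (hα : α ^ p = algebraMap K₁ K₂ a)
    (hαn : α ∉ (algebraMap K₁ K₂).range) (b₂ : Module.Basis (Fin p) K₁ K₂) (hb₂ : ∀ i, b₂ i = α ^ (i : ℕ))
    (y : N) (hy : y ^ p = algebraMap K₁ N a) : ∃ g : K₂ →ₐ[K₁] N, g α = y := by
  have hp : p.Prime := Fact.out
  have hmin : minpoly K₁ α = X ^ p - C a :=
    (minpoly.eq_of_irreducible_of_monic (X_pow_sub_C_irreducible_of_prime hp fun b hb => hαn ⟨b, by
      haveI : CharP K₂ p := charP_of_injective_algebraMap (algebraMap K₁ K₂).injective p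
      apply frobenius_inj K₂ p
      rw [frobenius_def, frobenius_def, ← map_pow, hb, hα]⟩) (by simp [hα]) (monic_X_pow_sub_C _ hp.ne_zero)).symm
  have hint : IsIntegral K₁ α := ⟨X ^ p - C a, monic_X_pow_sub_C _ hp.ne_zero, by simp [hα]⟩
  have htop : Algebra.adjoin K₁ {α} = ⊤ := by
    refine top_le_iff.1 fun z _ => ?_
    rw [← b₂.sum_repr z]
    refine sum_mem fun i _ => Subalgebra.smul_mem _ ?_ _
    rw [hb₂]
    exact pow_mem (Algebra.subset_adjoin (Set.mem_singleton α)) _
  let pbK := PowerBasis.ofAdjoinEqTop hint htop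
  refine ⟨pbK.lift y (by
    rw [PowerBasis.ofAdjoinEqTop_gen, hmin]
    simp only [map_sub, map_pow, aeval_X, aeval_C, hy, sub_self]), ?_⟩
  exact (congrArg _ (PowerBasis.ofAdjoinEqTop_gen hint htop).symm).trans (pbK.lift_gen _ _)

set_option maxHeartbeats 2000000 in
theorem good_factor {A B K L K₁ K₂ K₃ : Type u} [CommRing A] [IsDomain A] [IsDiscreteValuationRing A]
    [CommRing B] [IsDomain B] [IsDiscreteValuationRing B] [Algebra A B] [IsLocalHom (algebraMap A B)]
    [Field K] [Field L] [Algebra A K] [IsFractionRing A K] [Algebra B L] [IsFractionRing B L]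
    [Algebra K L] [Algebra A L] [IsScalarTower A K L] [IsScalarTower A B L]
    [Field K₁] [Field K₂] [Field K₃] [Algebra K K₁] [Algebra K K₂] [Algebra K₁ K₂] [IsScalarTower K K₁ K₂]
    [Algebra K K₃] [Algebra K₁ K₃] [IsScalarTower K K₁ K₃] [Algebra A K₁] [IsScalarTower A K K₁]
    [FiniteDimensional K K₁] [FiniteDimensional K K₂] [Algebra.IsGeometricallyReduced K L]
    {p : ℕ} [Fact p.Prime] [CharP K p]
    (hB : CAlg.IsNagata B) (hsol : EtRam.IsSolution B K L K₂) (hinj : Function.Injective (algebraMap A B))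
    (t : B) {πA : A} (ht : t = algebraMap A B πA) (a : K₁) (α : K₂) (hα : α ^ p = algebraMap K₁ K₂ a)
    (hαn : α ∉ (algebraMap K₁ K₂).range) (haint : IsIntegral A a) (f : K₁[X]) {cK : K}
    (hfdef : f = X ^ p - C (algebraMap K K₁ cK) * X - C a) (hfmonic : f.Monic) (hfdeg : f.natDegree = p)
    (β : K₃) (hβ : aeval β f = 0) (b₂ : Module.Basis (Fin p) K₁ K₂) (hb₂ : ∀ i, b₂ i = α ^ (i : ℕ))
    (Φ₀ : K₂ →ₗ[K₁] K₃) (hΦ₀b : ∀ i, Φ₀ (b₂ i) = β ^ (i : ℕ)) (hΦ₀ : Function.Surjective Φ₀)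
    (hβgen : Algebra.adjoin K₁ {β} = ⊤)
    (d d' : ℕ) (hd : d' ≤ d) {hπA : Irreducible πA} (hcK : cK = algebraMap A K πA ^ (2 * d + 2))
    (M₃ : Type u) [Field M₃] [Algebra K M₃] [Algebra L M₃] [Algebra K₃ M₃] [IsScalarTower K L M₃]
    [IsScalarTower K K₃ M₃] [Algebra K₁ M₃] [IsScalarTower K₁ K₃ M₃] [IsScalarTower K K₁ M₃]
    (hgen : Algebra.adjoin L (Set.range (algebraMap K₃ M₃)) = ⊤) (W₃ : ValuationSubring M₃)
    (hW₃ : EtRam.Dominates B ((algebraMap L M₃).comp (algebraMap B L)) W₃)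
    (M : Type u) [Field M] [Algebra K M] [Algebra L M] [Algebra B M] [Algebra K₁ M] [IsScalarTower K L M]
    [IsScalarTower B L M] [IsScalarTower K K₁ M] [FiniteDimensional L M] [Algebra M M₃] [IsScalarTower L M M₃]
    [IsScalarTower K₁ M M₃] (hgenM : Algebra.adjoin L (Set.range (algebraMap K₁ M)) = ⊤)
    (hirrM : ∀ m : M, m ^ p ≠ algebraMap K₁ M a)
    (hbound : Bound B t M (algebraMap K₁ M a) p d') :
    EtRam7.Good W₃ (algebraMap K₃ M₃) := by
  classical
  have hp : p.Prime := Fact.out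
  set fK₁ : K₁ →+* M := algebraMap K₁ M with hfK₁def
  have hfK₁ : ∀ x, algebraMap M M₃ (fK₁ x) = algebraMap K₁ M₃ x := fun x =>
    (IsScalarTower.algebraMap_apply K₁ M M₃ x).symm
  letI : Algebra B M₃ := ((algebraMap L M₃).comp (algebraMap B L)).toAlgebra
  haveI : IsScalarTower B L M₃ := IsScalarTower.of_algebraMap_eq fun _ => rfl
  haveI : IsScalarTower B M M₃ := IsScalarTower.of_algebraMap_eq fun b => by
    rw [IsScalarTower.algebraMap_apply B L M, ← IsScalarTower.algebraMap_apply L M M₃,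
      ← IsScalarTower.algebraMap_apply B L M₃]
  set aM : M := algebraMap K₁ M a with haM
  have haM' : fK₁ a = aM := rfl
  haveI : CharP M p := charP_of_injective_algebraMap (algebraMap K M).injective p
  haveI : CharP K₁ p := charP_of_injective_algebraMap (algebraMap K K₁).injective p
  haveI hirr : Fact (Irreducible (X ^ p - C aM : M[X])) :=
    ⟨X_pow_sub_C_irreducible_of_prime hp hirrM⟩
  have hfM : (X ^ p - C aM : M[X]).Monic := monic_X_pow_sub_C _ hp.ne_zero
  let M₂ := AdjoinRoot (X ^ p - C aM : M[X])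
  haveI : CharP M₂ p := charP_of_injective_algebraMap (algebraMap M M₂).injective p
  set α₂ : M₂ := AdjoinRoot.root _ with hα₂
  have hα₂p : α₂ ^ p = algebraMap M M₂ aM := by
    have := AdjoinRoot.eval₂_root (X ^ p - C aM : M[X])
    simp only [eval₂_sub, eval₂_pow, eval₂_X, eval₂_C, sub_eq_zero] at this
    exact this
  let pb := AdjoinRoot.powerBasis' hfM
  have hdim : pb.dim = p := natDegree_X_pow_sub_C
  haveI : Module.Finite M M₂ := Module.Finite.of_basis pb.basis
  haveI : Module.Finite L M₂ := Module.Finite.trans M M₂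
  -- maps out of `K₂` and valuations
  have hK₁M₂ : ∀ x, algebraMap K₁ M₂ x = algebraMap M M₂ (fK₁ x) := IsScalarTower.algebraMap_apply K₁ M M₂
  obtain ⟨g₂, hg₂α⟩ : ∃ g : K₂ →ₐ[K₁] M₂, g α = α₂ :=
    exists_algHom_root a α hα hαn b₂ hb₂ α₂ (by rw [hK₁M₂]; exact hα₂p)
  letI : Algebra K₂ M₂ := g₂.toRingHom.toAlgebra
  haveI : IsScalarTower K K₂ M₂ := IsScalarTower.of_algebraMap_eq fun x => by
    show algebraMap K M₂ x = g₂ (algebraMap K K₂ x)
    rw [IsScalarTower.algebraMap_apply K K₁ K₂, g₂.commutes, hK₁M₂, IsScalarTower.algebraMap_apply K M M₂]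
    congr 1
    exact IsScalarTower.algebraMap_apply K K₁ M x
  have hgen₂ : Algebra.adjoin L (Set.range (algebraMap K₂ M₂)) = ⊤ := by
    set S := Algebra.adjoin L (Set.range (algebraMap K₂ M₂))
    have hM : ∀ m : M, algebraMap M M₂ m ∈ S := by
      intro m
      have hm : m ∈ Algebra.adjoin L (Set.range (algebraMap K₁ M)) := hgenM ▸ Algebra.mem_top
      induction hm using Algebra.adjoin_induction with
      | mem x hx =>
        obtain ⟨x, rfl⟩ := hx
        refine Algebra.subset_adjoin ⟨algebraMap K₁ K₂ x, ?_⟩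
        show g₂ (algebraMap K₁ K₂ x) = _
        rw [g₂.commutes, hK₁M₂]
      | algebraMap l => rw [← IsScalarTower.algebraMap_apply L M M₂]; exact S.algebraMap_mem l
      | add x x' _ _ hx hx' => rw [map_add]; exact add_mem hx hx'
      | mul x x' _ _ hx hx' => rw [map_mul]; exact mul_mem hx hx'
    refine top_le_iff.1 fun z _ => ?_
    rw [← pb.basis.sum_repr z]
    refine sum_mem fun i _ => ?_
    rw [Algebra.smul_def, PowerBasis.basis_eq_pow]
    rw [show pb.gen = algebraMap K₂ M₂ α from hg₂α.symm]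
    exact mul_mem (hM _) (pow_mem (Algebra.subset_adjoin (Set.mem_range_self α)) _)
  let W : ValuationSubring M := W₃.comap (algebraMap M M₃)
  obtain ⟨W₂, hW₂⟩ := EtRam7.exists_extension (algebraMap M M₂) W
  have hW₂' : W₂.comap (algebraMap M M₂) = W₃.comap (algebraMap M M₃) := hW₂
  have hmem₂ : ∀ m : M, algebraMap M M₂ m ∈ W₂ ↔ algebraMap M M₃ m ∈ W₃ := fun m =>
    iff_of_eq (congrArg (fun U : ValuationSubring M => m ∈ U) hW₂')
  have hWB : EtRam.Dominates B (algebraMap B M) W := by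
    refine EtRam7.dominates_comap _ (algebraMap M M₃) W₃ ?_
    rw [← IsScalarTower.algebraMap_eq B M M₃]
    exact hW₃
  have hW₂B : EtRam.Dominates B ((algebraMap L M₂).comp (algebraMap B L)) W₂ := by
    have he : ∀ b, algebraMap L M₂ (algebraMap B L b) = algebraMap M M₂ (algebraMap B M b) := fun b => by
      rw [IsScalarTower.algebraMap_apply B L M, ← IsScalarTower.algebraMap_apply L M M₂]
    refine ⟨fun b => ?_, fun b hb => ?_⟩
    · show algebraMap L M₂ (algebraMap B L b) ∈ W₂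
      rw [he]; exact (hmem₂ _).2 (hWB.1 b)
    · show W₂.valuation (algebraMap L M₂ (algebraMap B L b)) < 1
      rw [he]
      subst W
      have h1 := hWB.2 b hb
      rw [← hW₂] at h1
      have h2 : algebraMap B M b ∈ W₂.comap (algebraMap M M₂) := ((W₂.comap _).valuation_le_one_iff _).1 h1.le
      exact (W₂.valuation_lt_one_iff (EtRam.inclOfComap W₂ (algebraMap M M₂) ⟨_, h2⟩)).1
        (map_nonunit (EtRam.inclOfComap W₂ (algebraMap M M₂)) _ (((W₂.comap _).valuation_lt_one_iff ⟨_, h2⟩).2 h1))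
  haveI : IsDiscreteValuationRing W₂ := EtRam7.isDiscreteValuationRing_of_dominates_finite (A := B) (K := L) W₂ hW₂B
  haveI : IsDiscreteValuationRing (W₂.comap (algebraMap K₂ M₂)) := by
    refine EtRam7.isDiscreteValuationRing_of_dominates_finite (A := A) (K := K) _
      (EtRam7.dominates_comap _ (algebraMap K₂ M₂) W₂ ?_)
    have he : ∀ x : A, algebraMap K₂ M₂ (algebraMap K K₂ (algebraMap A K x)) =
        algebraMap L M₂ (algebraMap B L (algebraMap A B x)) := fun x => by
      rw [← IsScalarTower.algebraMap_apply A B L, IsScalarTower.algebraMap_apply A K L,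
        ← IsScalarTower.algebraMap_apply K L M₂, ← IsScalarTower.algebraMap_apply K K₂ M₂]
    refine ⟨fun x => ?_, fun x hx => ?_⟩
    · show algebraMap K₂ M₂ (algebraMap K K₂ (algebraMap A K x)) ∈ W₂
      rw [he]; exact hW₂B.1 _
    · show W₂.valuation (algebraMap K₂ M₂ (algebraMap K K₂ (algebraMap A K x))) < 1
      rw [he]; exact hW₂B.2 _ (map_nonunit (algebraMap A B) x hx)
  have hgood₂ : EtRam7.Good W₂ (algebraMap K₂ M₂) := hsol M₂ hgen₂ W₂ hW₂B
  -- the transfer map
  set β₃ : M₃ := algebraMap K₃ M₃ β with hβ₃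
  let Φ : M₂ →ₗ[M] M₃ := pb.basis.constr M fun i => β₃ ^ (i : ℕ)
  have hΦpow : ∀ k, k < p → Φ (α₂ ^ k) = β₃ ^ k := fun k hk => by
    have h1 : pb.basis ⟨k, hdim.symm ▸ hk⟩ = α₂ ^ k := pb.basis_eq_pow _
    rw [← h1]
    exact pb.basis.constr_basis M _ _
  set c₃ : M₃ := algebraMap K₁ M₃ (algebraMap K K₁ cK) with hc₃
  have hβ₃p : β₃ ^ p = c₃ * β₃ + algebraMap M M₃ aM := by
    have h1 := congrArg (algebraMap K₃ M₃) hβ
    rw [hfdef] at h1
    simp only [map_sub, map_pow, map_mul, aeval_X, aeval_C, map_zero, ← IsScalarTower.algebraMap_apply K₁ K₃ M₃] at h1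
    rw [← haM', hfK₁]
    linear_combination h1
  have h1Φ : Φ 1 = 1 := by simpa using hΦpow 0 hp.pos
  have hΦM : ∀ (m : M) (x : M₂), Φ (algebraMap M M₂ m * x) = algebraMap M M₃ m * Φ x := fun m x => by
    rw [← Algebra.smul_def, map_smul, Algebra.smul_def]
  have hsurj : Function.Surjective Φ := by
    refine EtRam7.surjective_of_adjoin (p := p) (fun i : Fin p => α₂ ^ (i : ℕ)) Φ β₃ (fun i => hΦpow i i.2)
      (f.map fK₁) (hfmonic.map _) (by rw [hfmonic.natDegree_map, hfdeg]) ?_ ?_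
    · rw [aeval_def, eval₂_map, show (algebraMap M M₃).comp fK₁ = (algebraMap K₃ M₃).comp (algebraMap K₁ K₃) from
        RingHom.ext fun x => (hfK₁ x).trans (IsScalarTower.algebraMap_apply K₁ K₃ M₃ x), hβ₃, ← hom_eval₂,
        ← aeval_def, hβ, map_zero]
    · refine top_le_iff.1 fun z _ => ?_
      have hz : z ∈ Algebra.adjoin L (Set.range (algebraMap K₃ M₃)) := hgen ▸ Algebra.mem_top
      revert z
      suffices Algebra.adjoin L (Set.range (algebraMap K₃ M₃)) ≤
          (Algebra.adjoin M {β₃}).restrictScalars L from fun z _ hz => this hz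
      refine Algebra.adjoin_le ?_
      rintro _ ⟨y, rfl⟩
      have hy : y ∈ Algebra.adjoin K₁ {β} := hβgen ▸ Algebra.mem_top
      show algebraMap K₃ M₃ y ∈ Algebra.adjoin M {β₃}
      induction hy using Algebra.adjoin_induction with
      | mem x hx => rw [Set.mem_singleton_iff.1 hx]; exact Algebra.subset_adjoin rfl
      | algebraMap x =>
        rw [← IsScalarTower.algebraMap_apply K₁ K₃ M₃, ← hfK₁]
        exact Subalgebra.algebraMap_mem _ _
      | add x x' _ _ hx hx' => rw [map_add]; exact add_mem hx hx'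
      | mul x x' _ _ hx hx' => rw [map_mul]; exact mul_mem hx hx'
  -- `β₃` and `a` are integral
  letI : Algebra A M₃ := ((algebraMap B M₃).comp (algebraMap A B)).toAlgebra
  haveI : IsScalarTower A K₁ M₃ := IsScalarTower.of_algebraMap_eq fun x => by
    show algebraMap L M₃ (algebraMap B L (algebraMap A B x)) = _
    rw [← IsScalarTower.algebraMap_apply A B L, IsScalarTower.algebraMap_apply A K L,
      ← IsScalarTower.algebraMap_apply K L M₃, IsScalarTower.algebraMap_apply A K K₁,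
      ← IsScalarTower.algebraMap_apply K K₁ M₃]
  have hA₃ : ∀ x : A, algebraMap A M₃ x ∈ W₃ := fun x => hW₃.1 _
  have ha₃ : algebraMap M M₃ aM ∈ W₃ := by
    rw [← haM', hfK₁]; exact EtRam7.mem_of_isIntegral W₃ hA₃ haint.algebraMap
  have hc₃W : c₃ ∈ W₃ := by
    rw [hc₃, hcK, ← map_pow, ← IsScalarTower.algebraMap_apply A K K₁, ← IsScalarTower.algebraMap_apply A K₁ M₃]
    exact hA₃ _
  have hβ₃W : β₃ ∈ W₃ := by
    refine EtRam7.mem_of_isIntegral W₃ (A := W₃) (fun x => x.2)
      ⟨X ^ p - (C (⟨c₃, hc₃W⟩ : W₃) * X + C ⟨_, ha₃⟩), monic_X_pow_sub ?_, ?_⟩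
    · exact lt_of_le_of_lt ((degree_add_le _ _).trans (max_le ((degree_C_mul_X_le _).trans le_rfl)
        (degree_C_le.trans (by norm_num)))) (by exact_mod_cast hp.one_lt)
    · simp only [eval₂_sub, eval₂_add, eval₂_mul, eval₂_pow, eval₂_X, eval₂_C, ValuationSubring.algebraMap_apply]
      rw [hβ₃p]; ring
  -- the scalar used for the congruences
  set πM : M := algebraMap B M t with hπM
  have hπM0 : πM ≠ 0 := by
    rw [hπM, ht, IsScalarTower.algebraMap_apply B L M, Ne, map_eq_zero, IsFractionRing.to_map_eq_zero_iff]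
    exact fun h => hπA.ne_zero (hinj (h.trans (map_zero _).symm))
  have hπ₃ : algebraMap M M₃ πM = algebraMap A M₃ πA := by
    rw [hπM, ht, ← IsScalarTower.algebraMap_apply B M M₃]; rfl
  have hπlt : W₃.valuation (algebraMap M M₃ πM) < 1 := by
    rw [hπM, ← IsScalarTower.algebraMap_apply B M M₃]
    exact hW₃.2 t (ht ▸ map_nonunit (algebraMap A B) πA hπA.1)
  have hc₃π : c₃ = algebraMap M M₃ πM ^ (2 * d + 2) := by
    rw [hπ₃, hc₃, hcK, ← map_pow, ← IsScalarTower.algebraMap_apply A K K₁, ← IsScalarTower.algebraMap_apply A K₁ M₃,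
      map_pow]
  have hpow : ∀ x : M₂, ∃ m : M, x ^ p = algebraMap M M₂ m := by
    intro x
    refine ⟨∑ i : Fin pb.dim, pb.basis.repr x i ^ p * aM ^ (i : ℕ), ?_⟩
    conv_lhs => rw [← pb.basis.sum_repr x]
    rw [sum_pow_char, map_sum]
    refine Finset.sum_congr rfl fun i _ => ?_
    rw [Algebra.smul_def, PowerBasis.basis_eq_pow, mul_pow, map_mul, map_pow, map_pow, ← hα₂p, ← pow_mul,
      ← pow_mul, mul_comm (i : ℕ) p]
    rfl
  have hcoord : ∀ x : M₂, x ∈ W₂ → ∀ i, algebraMap M M₃ (πM ^ d * pb.basis.repr x i) ∈ W₃ := by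
    intro x hx i
    obtain ⟨m, hm⟩ := hpow x
    have hmW : m ∈ W := (hmem₂ m).1 (hm ▸ pow_mem hx p)
    obtain ⟨s, hs, hsm, hsv⟩ := EtRam7.exists_integral_unit_multiple (L := L) W hWB m hmW
    have hsx : IsIntegral B (algebraMap M M₂ s * x) := by
      refine IsIntegral.of_pow hp.pos ?_
      have h0 : s ^ p * m = s ^ (p - 1) * (s * m) := by
        rw [← mul_assoc, ← pow_succ, Nat.sub_add_cancel hp.one_le]
      rw [mul_pow, hm, ← map_pow, ← map_mul, h0]
      exact ((hs.pow (p - 1)).mul hsm).algebraMap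
    have h1 := hbound hfM _ hsx i
    have h0 : pb.basis.repr (algebraMap M M₂ s * x) i = s * pb.basis.repr x i := by
      rw [← Algebra.smul_def, map_smul, Finsupp.smul_apply, smul_eq_mul]
    change IsIntegral B (algebraMap B M (t ^ d') * pb.basis.repr (algebraMap M M₂ s * x) i) at h1
    rw [h0] at h1
    have h2 : algebraMap M M₃ (algebraMap B M (t ^ d') * (s * pb.basis.repr x i)) ∈ W₃ :=
      EtRam7.mem_of_isIntegral W (A := B) hWB.1 h1
    have hsu : s⁻¹ ∈ W := (W.valuation_le_one_iff _).1 (by rw [map_inv₀, hsv, inv_one])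
    have hs0 : s ≠ 0 := fun h => by rw [h, map_zero] at hsv; exact zero_ne_one hsv
    have h3 : algebraMap M M₃ (πM ^ (d - d') * (algebraMap B M (t ^ d') * (s * pb.basis.repr x i) * s⁻¹)) ∈ W₃ := by
      rw [map_mul, map_mul, map_pow]
      exact mul_mem (pow_mem ((W₃.valuation_le_one_iff _).1 hπlt.le) _) (mul_mem h2 hsu)
    convert h3 using 2
    rw [hπM, ← map_pow, ← map_pow]
    conv_lhs => rw [← Nat.sub_add_cancel hd, pow_add, map_mul]
    field_simp
  refine EtRam7.good_of_transfer W₂ W₃ hW₂' πM hπM0 hπlt Φ hsurj h1Φ p hp.pos hpow ?_ Φ₀ hΦ₀ ?_ hgood₂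
  · intro x y hx hy
    have hδ : ∀ i j : ℕ, i < p → j < p → ∃ w ∈ W₃, β₃ ^ i * β₃ ^ j - Φ (α₂ ^ i * α₂ ^ j) = c₃ * w := by
      intro i j hi hj
      by_cases hij : i + j < p
      · exact ⟨0, zero_mem _, by rw [← pow_add, ← pow_add, hΦpow _ hij, sub_self, mul_zero]⟩
      obtain ⟨k, hk⟩ := Nat.exists_eq_add_of_le (Nat.le_of_not_lt hij)
      refine ⟨β₃ * β₃ ^ k, mul_mem hβ₃W (pow_mem hβ₃W k), ?_⟩
      rw [← pow_add, ← pow_add, hk, pow_add α₂, pow_add β₃, hα₂p, hΦM, hΦpow k (by omega), hβ₃p]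
      ring
    have hdimlt : ∀ i : Fin pb.dim, (i : ℕ) < p := fun i => lt_of_lt_of_eq i.2 hdim
    choose w hw hwe using fun i j : Fin pb.dim => hδ i j (hdimlt i) (hdimlt j)
    refine ⟨∑ i, ∑ j, algebraMap M M₃ (πM ^ d * pb.basis.repr x i) * algebraMap M M₃ (πM ^ d * pb.basis.repr y j) * w i j,
      sum_mem fun i _ => sum_mem fun j _ => mul_mem (mul_mem (hcoord x hx i) (hcoord y hy j)) (hw i j), ?_⟩
    conv_lhs => rw [← pb.basis.sum_repr x, ← pb.basis.sum_repr y]
    rw [map_sum, map_sum, Finset.sum_mul_sum, Finset.sum_mul_sum, map_sum, ← Finset.sum_sub_distrib, Finset.mul_sum]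
    refine Finset.sum_congr rfl fun i _ => ?_
    rw [map_sum, ← Finset.sum_sub_distrib, Finset.mul_sum]
    refine Finset.sum_congr rfl fun j _ => ?_
    simp only [Algebra.smul_def, PowerBasis.basis_eq_pow]
    rw [mul_mul_mul_comm (algebraMap M M₂ _), ← map_mul (algebraMap M M₂), hΦM, hΦM, hΦM,
      show pb.gen = α₂ from rfl, hΦpow _ (hdimlt i), hΦpow _ (hdimlt j)]
    simp only [map_mul, map_pow]
    have h2 := hwe i j
    rw [hc₃π] at h2
    linear_combination algebraMap M M₃ (pb.basis.repr x i) * algebraMap M M₃ (pb.basis.repr y j) * h2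
  · intro y
    have hy := b₂.sum_repr y
    rw [← hy, map_sum, map_sum, map_sum, map_sum]
    refine Finset.sum_congr rfl fun i _ => ?_
    show Φ (g₂ _) = _
    rw [map_smul g₂, map_smul Φ₀, hΦ₀b, hb₂, map_pow, hg₂α, Algebra.smul_def, hK₁M₂, hΦM, hΦpow _ i.2,
      Algebra.smul_def, map_mul, map_pow, hfK₁, ← IsScalarTower.algebraMap_apply K₁ K₃ M₃]


/-- Let p be a prime and A → B an injective local homomorphism of discrete valuation rings whose fields
of fractions are K ⊆ L, where K has characteristic p, L is separable (geometrically reduced) over K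
and B is a Nagata ring. Let K ⊆ K₁ ⊆ K₂ be finite extensions such that K₂ is a solution for A ⊆ B
and K₂/K₁ is purely inseparable of degree p. Then some finite separable extension K₃/K₁ is also a
solution for A ⊆ B. -/
theorem result (p : ℕ) (hp : p.Prime) (A B K L : Type u)
    [CommRing A] [IsDomain A] [IsDiscreteValuationRing A] [CommRing B] [IsDomain B] [IsDiscreteValuationRing B]
    [Algebra A B] (hinj : Function.Injective (algebraMap A B)) [IsLocalHom (algebraMap A B)]
    [Field K] [Field L] [Algebra A K] [IsFractionRing A K] [Algebra B L] [IsFractionRing B L]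
    [Algebra K L] [Algebra A L] [IsScalarTower A K L] [IsScalarTower A B L] [CharP K p]
    [Algebra.IsGeometricallyReduced K L] (hB : CAlg.IsNagata B)
    (K₁ K₂ : Type u) [Field K₁] [Field K₂] [Algebra K K₁] [Algebra K K₂] [Algebra K₁ K₂] [IsScalarTower K K₁ K₂]
    [FiniteDimensional K K₁] [FiniteDimensional K₁ K₂] (hsol : EtRam.IsSolution B K L K₂)
    [IsPurelyInseparable K₁ K₂] (hdeg : Module.finrank K₁ K₂ = p) :
    ∃ (K₃ : Type u) (_ : Field K₃) (_ : Algebra K K₃) (_ : Algebra K₁ K₃) (_ : IsScalarTower K K₁ K₃),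
      FiniteDimensional K₁ K₃ ∧ Algebra.IsSeparable K₁ K₃ ∧ EtRam.IsSolution B K L K₃ := by
  classical
  haveI := Fact.mk hp
  haveI : CharP K₁ p := charP_of_injective_algebraMap (algebraMap K K₁).injective p
  haveI : CharP K₂ p := charP_of_injective_algebraMap (algebraMap K K₂).injective p
  haveI : CharP L p := charP_of_injective_algebraMap (algebraMap K L).injective p
  haveI : FiniteDimensional K K₂ := Module.Finite.trans K₁ K₂
  letI : Algebra A K₁ := ((algebraMap K K₁).comp (algebraMap A K)).toAlgebra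
  haveI : IsScalarTower A K K₁ := IsScalarTower.of_algebraMap_eq fun _ => rfl
  obtain ⟨α₀, hα₀⟩ : ∃ x : K₂, x ∉ (algebraMap K₁ K₂).range := by
    by_contra hne
    push Not at hne
    have h1 : Module.finrank K₁ K₂ = 1 := finrank_eq_one 1 one_ne_zero fun x => by
      obtain ⟨l, hl⟩ := hne x
      exact ⟨l, by rw [← hl, Algebra.smul_def, mul_one]⟩
    rw [hdeg] at h1
    exact hp.ne_one h1
  obtain ⟨a₀, ha₀⟩ : ∃ a : K₁, algebraMap K₁ K₂ a = α₀ ^ p := by
    obtain ⟨n, y, hny⟩ := IsPurelyInseparable.minpoly_eq_X_pow_sub_C K₁ p α₀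
    have hd : (minpoly K₁ α₀).natDegree ∣ p := hdeg ▸ minpoly.degree_dvd (Algebra.IsIntegral.isIntegral α₀)
    rw [hny, natDegree_X_pow_sub_C] at hd
    have hxy : α₀ ^ p ^ n = algebraMap K₁ K₂ y := by
      have h1 := minpoly.aeval K₁ α₀
      rw [hny] at h1
      simpa [sub_eq_zero] using h1
    obtain ⟨k, hk⟩ := hd
    exact ⟨y ^ k, by rw [map_pow, ← hxy, ← pow_mul, ← hk]⟩
  haveI : Algebra.IsAlgebraic A K₁ := ⟨fun x =>
    (IsFractionRing.isAlgebraic_iff A K K₁).2 (Algebra.IsAlgebraic.isAlgebraic x)⟩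
  obtain ⟨s, hs0, hs⟩ := IsAlgebraic.exists_integral_multiple (Algebra.IsAlgebraic.isAlgebraic (R := A) a₀)
  have hsK : algebraMap A K₁ s ≠ 0 := fun h => hs0 (IsFractionRing.injective A K
    ((algebraMap K K₁).injective (h.trans (by rw [map_zero, map_zero]))))
  set a : K₁ := algebraMap A K₁ s ^ p * a₀ with hadef
  set α : K₂ := algebraMap K₁ K₂ (algebraMap A K₁ s) * α₀ with hαdef
  have hα : α ^ p = algebraMap K₁ K₂ a := by rw [hαdef, hadef, mul_pow, map_mul, map_pow, ha₀]
  have hαn : α ∉ (algebraMap K₁ K₂).range := by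
    rintro ⟨c, hc⟩
    refine hα₀ ⟨(algebraMap A K₁ s)⁻¹ * c, ?_⟩
    rw [map_mul, hc, hαdef, ← mul_assoc, ← map_mul, inv_mul_cancel₀ hsK, map_one, one_mul]
  have haint : IsIntegral A a := by
    obtain ⟨p', hp'⟩ := Nat.exists_eq_succ_of_ne_zero hp.ne_zero
    rw [hadef, hp', pow_succ, mul_assoc, ← Algebra.smul_def, ← map_pow]
    exact isIntegral_algebraMap.mul hs
  obtain ⟨πA, hπA⟩ := IsDiscreteValuationRing.exists_irreducible A
  set t : B := algebraMap A B πA with ht
  have ht0 : t ≠ 0 := fun h => hπA.ne_zero (hinj (h.trans (map_zero _).symm))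
  have htu : ¬ IsUnit t := map_nonunit (algebraMap A B) πA hπA.1
  -- the finitely many factors
  haveI : Module.Finite L (L ⊗[K] K₁) := inferInstance
  haveI : IsArtinianRing (L ⊗[K] K₁) := IsArtinianRing.of_finite L _
  haveI : Fintype (MaximalSpectrum (L ⊗[K] K₁)) := Fintype.ofFinite _
  have hdP : ∀ P : MaximalSpectrum (L ⊗[K] K₁), ∃ d : ℕ,
      Bound B t ((L ⊗[K] K₁) ⧸ P.asIdeal) (Ideal.Quotient.mk P.asIdeal ((1 : L) ⊗ₜ[K] a)) p d := by
    intro P
    haveI := P.isMaximal
    letI : Field ((L ⊗[K] K₁) ⧸ P.asIdeal) := Ideal.Quotient.field P.asIdeal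
    haveI : FiniteDimensional L ((L ⊗[K] K₁) ⧸ P.asIdeal) :=
      Module.Finite.of_surjective (Ideal.Quotient.mkₐ L P.asIdeal).toLinearMap Ideal.Quotient.mk_surjective
    exact exists_bound hB (L := L) t ht0 htu _ fun m => EtRam7.not_pow_eq_mod_prime a α hα hαn _ m
  choose dP hdP using hdP
  set d := Finset.univ.sup dP with hddef
  -- the separable extension
  set cK : K := algebraMap A K πA ^ (2 * d + 2) with hcK
  have hc0 : algebraMap K K₁ cK ≠ 0 := by
    rw [Ne, map_eq_zero, hcK, pow_eq_zero_iff (by omega), IsFractionRing.to_map_eq_zero_iff]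
    exact hπA.ne_zero
  set f : K₁[X] := X ^ p - C (algebraMap K K₁ cK) * X - C a with hfdef
  have hflow : (C (algebraMap K K₁ cK) * X + C a : K₁[X]).degree < (p : WithBot ℕ) :=
    lt_of_le_of_lt ((degree_add_le _ _).trans (max_le ((degree_C_mul_X_le _).trans le_rfl)
      (degree_C_le.trans (by norm_num)))) (by exact_mod_cast hp.one_lt)
  have hfmonic : f.Monic := by
    rw [hfdef, sub_sub]; exact monic_X_pow_sub hflow
  have hfdeg : f.natDegree = p := by
    refine natDegree_eq_of_degree_eq_some ?_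
    rw [hfdef, sub_sub, degree_sub_eq_left_of_degree_lt (by rw [degree_X_pow]; exact hflow), degree_X_pow]
  have hfsep : f.Separable := by
    rw [separable_def]
    have : derivative f = C (- algebraMap K K₁ cK) := by
      simp [hfdef, derivative_X_pow, CharP.cast_eq_zero]
    rw [this]
    exact isCoprime_one_right.of_isCoprime_of_dvd_right (isUnit_C.2 (neg_ne_zero.2 hc0).isUnit).dvd
  obtain ⟨β₀, hβ₀⟩ := IsAlgClosed.exists_aeval_eq_zero (AlgebraicClosure K₁) f (by
    rw [degree_eq_natDegree hfmonic.ne_zero, hfdeg]; exact_mod_cast hp.ne_zero)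
  let K₃ := IntermediateField.adjoin K₁ {β₀}
  have hβint : IsIntegral K₁ β₀ := ⟨f, hfmonic, hβ₀⟩
  haveI : FiniteDimensional K₁ K₃ := IntermediateField.adjoin.finiteDimensional hβint
  have hsep₃ : Algebra.IsSeparable K₁ K₃ :=
    (IntermediateField.isSeparable_adjoin_simple_iff_isSeparable K₁ _).2
      (hfsep.of_dvd (minpoly.dvd K₁ β₀ hβ₀))
  set β : K₃ := IntermediateField.AdjoinSimple.gen K₁ β₀ with hβdef
  have hβ : aeval β f = 0 := by
    apply Subtype.val_injective
    rw [IntermediateField.coe_zero, ← hβ₀]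
    exact (aeval_algHom_apply K₃.val β f).symm.trans (by rfl)
  have hβgen : Algebra.adjoin K₁ {β} = ⊤ := by
    refine EtRam7.adjoin_eq_top_of_intermediate K₃ rfl (fun x hx => ?_) _ fun x hx hxS => ?_
    · rw [Set.mem_singleton_iff] at hx; subst hx; exact hβint.isAlgebraic
    · rw [Set.mem_singleton_iff] at hxS; subst hxS; exact Algebra.subset_adjoin rfl
  -- a basis of `K₂`
  have hmin : minpoly K₁ α = X ^ p - C a :=
    (minpoly.eq_of_irreducible_of_monic (X_pow_sub_C_irreducible_of_prime hp fun b hb => hαn ⟨b, by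
      apply frobenius_inj K₂ p
      rw [frobenius_def, frobenius_def, ← map_pow, hb, hα]⟩) (by simp [hα]) (monic_X_pow_sub_C _ hp.ne_zero)).symm
  have hli : LinearIndependent K₁ fun i : Fin p => α ^ (i : ℕ) := by
    have h := linearIndependent_pow (K := K₁) α
    have hnd : (minpoly K₁ α).natDegree = p := by rw [hmin, natDegree_X_pow_sub_C]
    rw [hnd] at h
    exact h
  haveI : Nonempty (Fin p) := ⟨⟨0, hp.pos⟩⟩
  let b₂ : Module.Basis (Fin p) K₁ K₂ :=
    basisOfLinearIndependentOfCardEqFinrank hli (by rw [Fintype.card_fin, hdeg])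
  have hb₂ : ∀ i, b₂ i = α ^ (i : ℕ) := fun i => by simp [b₂]
  let Φ₀ : K₂ →ₗ[K₁] K₃ := b₂.constr K₁ fun i => β ^ (i : ℕ)
  have hΦ₀ : Function.Surjective Φ₀ :=
    EtRam7.surjective_of_adjoin (fun i => b₂ i) Φ₀ β (fun i => b₂.constr_basis K₁ _ i) f hfmonic hfdeg hβ hβgen
  refine ⟨K₃, inferInstance, inferInstance, inferInstance, inferInstance, inferInstance, hsep₃, ?_⟩
  intro M₃ _ _ _ _ _ _ hgen W₃ hW₃
  letI : Algebra K₁ M₃ := ((algebraMap K₃ M₃).comp (algebraMap K₁ K₃)).toAlgebra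
  haveI : IsScalarTower K₁ K₃ M₃ := IsScalarTower.of_algebraMap_eq fun _ => rfl
  haveI : IsScalarTower K K₁ M₃ := IsScalarTower.of_algebraMap_eq fun x => by
    show algebraMap K M₃ x = algebraMap K₃ M₃ (algebraMap K₁ K₃ (algebraMap K K₁ x))
    rw [← IsScalarTower.algebraMap_apply K K₁ K₃, ← IsScalarTower.algebraMap_apply K K₃ M₃]
  let ψ : L ⊗[K] K₁ →ₐ[L] M₃ := Algebra.TensorProduct.lift (Algebra.ofId L M₃)
    (IsScalarTower.toAlgHom K K₁ M₃) fun _ _ => Commute.all _ _
  haveI : (RingHom.ker ψ).IsPrime := RingHom.ker_isPrime ψ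
  haveI hPmax : (RingHom.ker ψ).IsMaximal := IsArtinianRing.isMaximal_of_isPrime _
  set P : MaximalSpectrum (L ⊗[K] K₁) := ⟨RingHom.ker ψ, hPmax⟩ with hPdef
  let M := (L ⊗[K] K₁) ⧸ P.asIdeal
  haveI := P.isMaximal
  letI : Field M := Ideal.Quotient.field P.asIdeal
  haveI : FiniteDimensional L M :=
    Module.Finite.of_surjective (Ideal.Quotient.mkₐ L P.asIdeal).toLinearMap Ideal.Quotient.mk_surjective
  let ρ : K₁ →ₐ[K] M := ((Ideal.Quotient.mkₐ K P.asIdeal)).comp
    (Algebra.TensorProduct.includeRight : K₁ →ₐ[K] L ⊗[K] K₁)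
  letI : Algebra K₁ M := ρ.toRingHom.toAlgebra
  haveI : IsScalarTower K K₁ M := IsScalarTower.of_algebraMap_eq fun x => (ρ.commutes x).symm
  letI : Algebra M M₃ := (Ideal.Quotient.lift P.asIdeal ψ.toRingHom fun _ h => h).toAlgebra
  haveI : IsScalarTower L M M₃ := IsScalarTower.of_algebraMap_eq fun l => (ψ.commutes l).symm
  haveI : IsScalarTower K₁ M M₃ := IsScalarTower.of_algebraMap_eq fun x => by
    show algebraMap K₁ M₃ x = ψ ((1 : L) ⊗ₜ[K] x)
    simp [ψ]
  have hgenM : Algebra.adjoin L (Set.range (algebraMap K₁ M)) = ⊤ := by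
    refine top_le_iff.1 fun z _ => ?_
    obtain ⟨z, rfl⟩ := Ideal.Quotient.mk_surjective z
    induction z using TensorProduct.induction_on with
    | zero => rw [map_zero]; exact zero_mem _
    | add b c hb hc => rw [map_add]; exact add_mem (hb trivial) (hc trivial)
    | tmul l x =>
      rw [show l ⊗ₜ[K] x = algebraMap L (L ⊗[K] K₁) l * ((1 : L) ⊗ₜ[K] x) by
        simp [Algebra.TensorProduct.algebraMap_apply], map_mul]
      exact mul_mem (Subalgebra.algebraMap_mem _ l) (Algebra.subset_adjoin ⟨x, rfl⟩)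
  exact good_factor hB hsol hinj t ht a α hα hαn haint f (cK := cK) hfdef hfmonic hfdeg β hβ b₂ hb₂
    Φ₀ (fun i => b₂.constr_basis K₁ _ i) hΦ₀ hβgen d (dP P)
    (Finset.le_sup (f := dP) (Finset.mem_univ P)) (hπA := hπA) hcK M₃ hgen W₃ hW₃ M hgenM
    (fun m => EtRam7.not_pow_eq_mod_prime a α hα hαn P.asIdeal m) (hdP P)

end Groth.Agent.S7151
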