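import Groth.Statements.S1981
import Groth.Agent.S1980
import Groth.Agent.S7151
import Groth.Agent.CplFib6.GeomRedFormal
-- import your own Groth.Agent.* helpers here

set_option autoImplicit false
universe u
open EtAlg

namespace Groth.Agent.S1981

/-- Suppose A -> B makes the discrete valuation ring B an extension of the discrete valuation ring A,
write K ⊂ L for their fraction fields, and assume that B is essentially of finite type over A, A or
B is a Nagata ring, and L/K is separable (in the sense for arbitrary extensions: L is geometrically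
reduced over K, as elsewhere in this problem; L need not be algebraic over K). Then there is a
finite separable extension K₁ of K which is a solution for A -> B. -/
theorem result (A B K L : Type u) [CommRing A] [IsDomain A] [IsDiscreteValuationRing A]
    [CommRing B] [IsDomain B] [IsDiscreteValuationRing B] [Algebra A B] [IsLocalHom (algebraMap A B)]
    (hinj : Function.Injective (algebraMap A B))
    [Field K] [Field L] [Algebra A K] [IsFractionRing A K] [Algebra B L] [IsFractionRing B L]
    [Algebra K L] [Algebra A L] [IsScalarTower A K L] [IsScalarTower A B L] [Algebra.EssFiniteType A B]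
    (hN : CAlg.IsNagata A ∨ CAlg.IsNagata B) [Algebra.IsGeometricallyReduced K L] :
    ∃ (K₁ : Type u) (_ : Field K₁) (_ : Algebra K K₁) (_ : FiniteDimensional K K₁) (_ : Algebra.IsSeparable K K₁),
      EtRam.IsSolution B K L K₁ := by
  classical
  have hB : CAlg.IsNagata B := hN.elim (CplFib6.isNagata_of_essFiniteType A B) id
  obtain ⟨K₀, _, _, _, hsol₀⟩ := S1980.result A B K L hinj
  suffices h : ∀ (n : ℕ) (K₁ : Type u) [Field K₁] [Algebra K K₁] [FiniteDimensional K K₁],
      Field.finInsepDegree K K₁ = n → EtRam.IsSolution B K L K₁ →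
      ∃ (K₃ : Type u) (_ : Field K₃) (_ : Algebra K K₃) (_ : FiniteDimensional K K₃) (_ : Algebra.IsSeparable K K₃),
        EtRam.IsSolution B K L K₃ from h _ K₀ rfl hsol₀
  intro n
  induction n using Nat.strong_induction_on with
  | h n ih =>
    intro K₁ _ _ _ hn hsol
    by_cases hsep : Algebra.IsSeparable K K₁
    · exact ⟨K₁, inferInstance, inferInstance, inferInstance, hsep, hsol⟩
    obtain ⟨p, hp⟩ := CharP.exists K
    haveI := hp
    rcases CharP.char_is_prime_or_zero K p with hpp | rfl
    swap
    · haveI := CharP.charP_to_charZero K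
      exact absurd (inferInstance : Algebra.IsSeparable K K₁) hsep
    haveI : Fact p.Prime := ⟨hpp⟩
    -- a subfield of index `p` over which `K₁` is purely inseparable
    have htop : separableClosure K K₁ ≠ ⊤ := fun h => hsep ((separableClosure.eq_top_iff K K₁).1 h)
    let P : IntermediateField K K₁ → Prop := fun N => separableClosure K K₁ ≤ N ∧ N ≠ ⊤
    obtain ⟨N, ⟨hKs, hN'⟩, hmax⟩ : ∃ N, P N ∧ ∀ N', P N' → N ≤ N' → N' = N := by
      have hex : ∃ d, ∃ N, P N ∧ Module.finrank K K₁ - Module.finrank K N = d := ⟨_, _, ⟨le_rfl, htop⟩, rfl⟩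
      obtain ⟨N, hN, hNd⟩ := Nat.find_spec hex
      refine ⟨N, hN, fun N' hN' hle => (IntermediateField.eq_of_le_of_finrank_le hle ?_).symm⟩
      have h1 := Nat.find_le (h := hex) ⟨N', hN', rfl⟩
      have h2 : Module.finrank K N' ≤ Module.finrank K K₁ := Submodule.finrank_le N'.toSubalgebra.toSubmodule
      omega
    haveI : IsPurelyInseparable N K₁ := (separableClosure_le_iff K K₁ N).1 hKs
    haveI : CharP N p := (RingHom.charP_iff (algebraMap K N) (algebraMap K N).injective p).1 inferInstance
    haveI : ExpChar N p := ExpChar.prime hpp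
    obtain ⟨x, hx⟩ : ∃ x, x ∉ N := by
      by_contra h; push Not at h
      exact hN' (eq_top_iff.2 fun y _ => h y)
    obtain ⟨y, hyN, hyp⟩ : ∃ y, y ∉ N ∧ y ^ p ∈ N := by
      obtain ⟨m, z, hz⟩ := IsPurelyInseparable.pow_mem N p x
      have hex : ∃ m, x ^ p ^ m ∈ N := ⟨m, hz ▸ z.2⟩
      have hm0 : Nat.find hex ≠ 0 := fun h => hx (by have := Nat.find_spec hex; rwa [h, pow_zero, pow_one] at this)
      refine ⟨x ^ p ^ (Nat.find hex - 1), Nat.find_min hex (by omega), ?_⟩
      rw [← pow_mul, ← pow_succ, Nat.sub_add_cancel (Nat.one_le_iff_ne_zero.2 hm0)]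
      exact Nat.find_spec hex
    have htopN : (IntermediateField.adjoin N {y}).restrictScalars K = ⊤ := by
      by_contra hne
      have hle : N ≤ (IntermediateField.adjoin N {y}).restrictScalars K := fun z hz =>
        IntermediateField.algebraMap_mem (IntermediateField.adjoin N {y}) (⟨z, hz⟩ : N)
      exact hyN ((hmax _ ⟨hKs.trans hle, hne⟩ hle) ▸ IntermediateField.mem_adjoin_simple_self N y)
    have hdeg : Module.finrank N K₁ = p := by
      have hmin : minpoly N y = Polynomial.X ^ p - Polynomial.C (⟨y ^ p, hyp⟩ : N) :=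
        (minpoly.eq_of_irreducible_of_monic (X_pow_sub_C_irreducible_of_prime hpp fun b hb => hyN (by
          haveI : CharP K₁ p := charP_of_injective_algebraMap (algebraMap K K₁).injective p
          have h1 : (b : K₁) = y := frobenius_inj K₁ p (congrArg Subtype.val hb)
          exact h1 ▸ b.2)) (by simp) (Polynomial.monic_X_pow_sub_C _ hpp.ne_zero)).symm
      have h1 := IntermediateField.adjoin.finrank (Algebra.IsIntegral.isIntegral (R := N) y)
      rw [hmin, Polynomial.natDegree_X_pow_sub_C,
        (IntermediateField.restrictScalars_eq_top_iff).1 htopN, IntermediateField.finrank_top'] at h1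
      exact h1
    obtain ⟨K₃, _, _, _, _, hfin₃, hsep₃, hsol₃⟩ := S7151.result p hpp A B K L hinj hB N K₁ hsol hdeg
    haveI := hfin₃
    haveI := hsep₃
    haveI : FiniteDimensional K K₃ := Module.Finite.trans N K₃
    refine ih (Field.finInsepDegree K K₃) ?_ K₃ rfl hsol₃
    have h1 : Field.finInsepDegree K N * Field.finInsepDegree N K₁ = Field.finInsepDegree K K₁ :=
      Field.finInsepDegree_mul_finInsepDegree_of_isAlgebraic K N K₁
    have h2 : Field.finInsepDegree K N * Field.finInsepDegree N K₃ = Field.finInsepDegree K K₃ :=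
      Field.finInsepDegree_mul_finInsepDegree_of_isAlgebraic K N K₃
    rw [IsPurelyInseparable.finInsepDegree_eq N K₁, hdeg, hn] at h1
    rw [(isSeparable_iff_finInsepDegree_eq_one N K₃).1 hsep₃, mul_one] at h2
    rw [← h2, ← h1]
    obtain ⟨k, hk⟩ := finInsepDegree_eq_pow K N p
    exact lt_mul_of_one_lt_right (by rw [hk]; exact pow_pos hpp.pos k) hpp.one_lt


end Groth.Agent.S1981
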