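import Groth.Statements.S19814
import Groth.Agent.NoriLib.Induced
-- import your own Groth.Agent.* helpers here

set_option autoImplicit false
universe u
open CategoryTheory CategoryTheory.Limits MonoidalCategory CartesianMonoidalCategory MonObj GrpObj AlgebraicGeometry
open NoriFGS

namespace Groth.Agent.S19814

/-- Let X and Y be schemes over a field k with rational points x and y, each possessing a fundamental
group scheme with its universal pointed torsor, let f : X → Y be a k-morphism sending x to y, and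
let φ be the homomorphism of fundamental group schemes induced by f. Then φ is trivial if and only
if, for every finite group scheme H over k and every H-torsor U over Y (locally trivial for the fpqc
topology) pointed over y which is Nori-reduced, the pull-back of U to X is a trivial torsor, i.e. U
acquires a section over f. (The published statement quantifies over all Nori-reduced finite torsors
over Y; this row quantifies over those pointed over y, as the printed proof does: for unpointed
torsors the forward implication fails over a field that is not algebraically closed. The source's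
standing convention for that chapter assumes the base field has characteristic p > 0; the printed
proof uses no characteristic hypothesis, so the row states it for any field.) -/
theorem result
    (k : Type u) [Field k] (X Y : Scheme.{u})
    [X.Over (Spec (CommRingCat.of k))] [Y.Over (Spec (CommRingCat.of k))]
    (x : Spec (CommRingCat.of k) ⟶ X) (y : Spec (CommRingCat.of k) ⟶ Y)
    (hx : x ≫ (X ↘ Spec (CommRingCat.of k)) = 𝟙 _) (hy : y ≫ (Y ↘ Spec (CommRingCat.of k)) = 𝟙 _)
    (f : X ⟶ Y) (hf : f ≫ (Y ↘ Spec (CommRingCat.of k)) = X ↘ Spec (CommRingCat.of k)) (hfx : x ≫ f = y)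
    (πX πY : Over (Spec (CommRingCat.of k))) [GrpObj πX] [GrpObj πY] (PX : Over X) (PY : Over Y)
    (aX : AlgGrp.Action (Red.bc (X ↘ Spec (CommRingCat.of k)) πX) PX)
    (aY : AlgGrp.Action (Red.bc (Y ↘ Spec (CommRingCat.of k)) πY) PY)
    (pX : Spec (CommRingCat.of k) ⟶ PX.left) (pY : Spec (CommRingCat.of k) ⟶ PY.left)
    (hX : NoriFGS.IsFGS x πX aX pX) (hY : NoriFGS.IsFGS y πY aY pY)
    (φ : πX ⟶ πY) (hφ : NoriFGS.IsInducedHom f hf aX pX aY pY φ) :
    φ = toUnit πX ≫ η[πY] ↔
      ∀ (H : Over (Spec (CommRingCat.of k))) [GrpObj H] [IsFinite H.hom] (U : Over Y)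
        (c : AlgGrp.Action (Red.bc (Y ↘ Spec (CommRingCat.of k)) H) U) (u : Spec (CommRingCat.of k) ⟶ U.left),
        NonAbH1.IsTorsorFor Scheme.fpqcPrecoverage c → u ≫ U.hom = y →
        NoriFGS.IsNoriReduced Scheme.fpqcPrecoverage c → NonAbH1.HasSectionOver U f := by
  obtain ⟨_, g', hg', hp'⟩ := id hφ
  constructor
  · intro h1 H _ _ U c u hc hu _
    obtain ⟨ρ, _, g, hg, -⟩ := hY.2.2.2 H U c u hc hu
    obtain ⟨t, G, -, -, hG⟩ := Groth.Agent.NoriLib.exists_induced hf hfx hX.2.2.1 hφ hg hu
    have h2 : φ ≫ ρ = 1 := by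
      rw [h1, Category.assoc, IsMonHom.one_hom, Hom.one_def]
    have h3 : (Over.pullback (X ↘ Spec (CommRingCat.of k))).map (φ ≫ ρ) =
        (1 : Red.bc (X ↘ Spec (CommRingCat.of k)) πX ⟶ Red.bc (X ↘ Spec (CommRingCat.of k)) H) := by
      apply Groth.Agent.NoriLib.dn_injective
      rw [Groth.Agent.NoriLib.dn_one, h2,
        ← Category.id_comp ((Over.pullback (X ↘ Spec (CommRingCat.of k))).map (1 : πX ⟶ H)),
        Groth.Agent.NoriLib.dn_map, MonObj.comp_one]
    obtain ⟨χ, -, -⟩ := Groth.Agent.SchTorsor.existsUnique_desc hX.2.1 G (by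
      refine AlgGrp.Action.hom_ext_lift₂ fun W a z => ?_
      rw [hG.1, lift_whiskerLeft_assoc, AlgGrp.Action.lift_restrict_act, h3, MonObj.comp_one,
        AlgGrp.Action.lift_one_act, lift_snd_assoc])
    refine ⟨χ.left ≫ pullback.fst U.hom f, ?_⟩
    rw [Category.assoc, pullback.condition, ← Category.assoc]
    exact (congrArg (· ≫ f) (Over.w χ)).trans (Category.id_comp f)
  · intro h
    refine Groth.Agent.NoriLib.ext_finite_level hY.1 fun G₀ _ _ π _ => ?_
    obtain ⟨H, _, _, ρ, _, i, _, _, U, c, u, g, he, hU, hu, hg, hN⟩ :=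
      Groth.Agent.NoriLib.exists_classify hY hy π
    obtain ⟨σ₁, hσ₁⟩ := h H U c u hU hu hN
    obtain ⟨t, G, -, ht, hG⟩ := Groth.Agent.NoriLib.exists_induced hf hfx hX.2.2.1 hφ hg hu
    have hT := Groth.Agent.NoriLib.isTorsorFor_pullAct hf hU
    let b := Groth.Agent.NoriLib.pullAct hf c
    let σ : 𝟙_ (Over X) ⟶ Red.bc f U :=
      Over.homMk (pullback.lift σ₁ (𝟙 X) (hσ₁.trans (Category.id_comp f).symm)) (pullback.lift_snd _ _ _)
    let pt := Groth.Agent.NoriLib.at' x (𝟙_ (Over (Spec (CommRingCat.of k))))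
    let t' : pt ⟶ Red.bc f U := Over.homMk t (ht.trans (Category.id_comp x).symm)
    obtain ⟨g₀, hg₀⟩ := Groth.Agent.SchTorsor.exists_div hT.1 t' (toUnit pt ≫ σ)
    obtain ⟨h₀, rfl⟩ := Groth.Agent.NoriLib.exists_up hx g₀
    obtain ⟨hX₀, hhX₀⟩ := Groth.Agent.NoriLib.dn_surjective (X ↘ Spec (CommRingCat.of k)) (T := 𝟙_ (Over X))
      (toUnit _ ≫ h₀)
    let σ' : 𝟙_ (Over X) ⟶ Red.bc f U :=
      lift (hX₀ : 𝟙_ (Over X) ⟶ Red.bc (X ↘ Spec (CommRingCat.of k)) H) σ ≫ b.act
    have hpt : toUnit pt ≫ σ' = t' := by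
      rw [← hg₀]
      show toUnit pt ≫ lift _ σ ≫ _ = _
      rw [comp_lift_assoc]
      congr 2
      apply Groth.Agent.NoriLib.dn_injective
      rw [Groth.Agent.NoriLib.dn_comp, hhX₀, Groth.Agent.NoriLib.dn_up, ← Category.assoc]
      congr 1
      exact toUnit_unique _ _
    haveI : IsMonHom (toUnit πX ≫ η[H]) := inferInstance
    have hG₂ : NoriFGS.IsPtTorsorHom aX pX b t (toUnit πX ≫ η[H]) (toUnit PX ≫ σ') := by
      refine ⟨AlgGrp.Action.hom_ext_lift₂ fun W a z => ?_, ?_⟩
      · have h4 : (Over.pullback (X ↘ Spec (CommRingCat.of k))).map (toUnit πX ≫ η[H]) =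
            (1 : Red.bc (X ↘ Spec (CommRingCat.of k)) πX ⟶ Red.bc (X ↘ Spec (CommRingCat.of k)) H) := by
          apply Groth.Agent.NoriLib.dn_injective
          rw [Groth.Agent.NoriLib.dn_one, ← Hom.one_def,
            ← Category.id_comp ((Over.pullback (X ↘ Spec (CommRingCat.of k))).map (1 : πX ⟶ H)),
            Groth.Agent.NoriLib.dn_map, MonObj.comp_one]
        rw [lift_whiskerLeft_assoc, AlgGrp.Action.lift_restrict_act, h4, MonObj.comp_one, AlgGrp.Action.lift_one_act]
        simp only [← Category.assoc]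
        congr 1
        exact toUnit_unique _ _
      · let p' : pt ⟶ PX := Over.homMk pX (hX.2.2.1.trans (Category.id_comp x).symm)
        have e : p' ≫ toUnit PX ≫ σ' = t' := by rw [← Category.assoc, ← hpt]; congr 1; exact toUnit_unique _ _
        exact congrArg CommaMorphism.left e
    obtain ⟨φ₁, _, G₁, -, huniq⟩ := hX.2.2.2 H (Red.bc f U) b t hT ht
    have e1 := (huniq _ G hG).1
    have e2 := (huniq _ (toUnit PX ≫ σ') hG₂).1
    have e3 : φ ≫ ρ = (1 : πX ⟶ H) := e1.trans (e2.symm.trans (Hom.one_def).symm)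
    rw [← he, ← Category.assoc, e3, MonObj.one_comp, Category.assoc]
    rw [show η[πY] ≫ ρ ≫ i = η[G₀] by rw [← Category.assoc, IsMonHom.one_hom, IsMonHom.one_hom]]
    exact Hom.one_def

end Groth.Agent.S19814
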