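import Groth.Statements.S19815
import Groth.Agent.NoriLib.Minimal
-- import your own Groth.Agent.* helpers here

set_option autoImplicit false
universe u
open CategoryTheory CategoryTheory.Limits MonoidalCategory CartesianMonoidalCategory MonObj GrpObj AlgebraicGeometry
open NoriFGS

namespace Groth.Agent.S19815

/-- Let X and Y be schemes over a field k with rational points x and y, each possessing a fundamental
group scheme with its universal pointed torsor, let f : X → Y be a k-morphism sending x to y, and
let φ be the homomorphism of fundamental group schemes induced by f. Then φ is faithfully flat (flat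
and surjective) if and only if, for every finite group scheme H over k and every H-torsor U over Y
(locally trivial for the fpqc topology) pointed over y which is Nori-reduced, the pull-back U ×_Y X,
with the base-changed action read as an action of the base change of H to X, is a Nori-reduced
torsor over X. (The published statement quantifies over all Nori-reduced finite torsors over Y; this
row quantifies over those pointed over y, as the printed proof does. The source's standing
convention for that chapter assumes the base field has characteristic p > 0; the printed proof uses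
no characteristic hypothesis, so the row states it for any field.) -/
theorem result
    (k : Type u) [Field k] (X Y : Scheme.{u})
    [X.Over (Spec (CommRingCat.of k))] [Y.Over (Spec (CommRingCat.of k))]
    (x : Spec (CommRingCat.of k) ⟶ X) (y : Spec (CommRingCat.of k) ⟶ Y)
    (hx : x ≫ (X ↘ Spec (CommRingCat.of k)) = 𝟙 _) (hy : y ≫ (Y ↘ Spec (CommRingCat.of k)) = 𝟙 _)
    (f : X ⟶ Y) (hf : f ≫ (Y ↘ Spec (CommRingCat.of k)) = X ↘ Spec (CommRingCat.of k)) (hfx : x ≫ f = y)
    (πX πY : Over (Spec (CommRingCat.of k))) [GrpObj πX] [GrpObj πY] (PX : Over X) (PY : Over Y)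
    (aX : AlgGrp.Action (Red.bc (X ↘ Spec (CommRingCat.of k)) πX) PX)
    (aY : AlgGrp.Action (Red.bc (Y ↘ Spec (CommRingCat.of k)) πY) PY)
    (pX : Spec (CommRingCat.of k) ⟶ PX.left) (pY : Spec (CommRingCat.of k) ⟶ PY.left)
    (hX : NoriFGS.IsFGS x πX aX pX) (hY : NoriFGS.IsFGS y πY aY pY)
    (φ : πX ⟶ πY) (hφ : NoriFGS.IsInducedHom f hf aX pX aY pY φ) :
    (Flat φ.left ∧ Surjective φ.left) ↔
      ∀ (H : Over (Spec (CommRingCat.of k))) [GrpObj H] [IsFinite H.hom] (U : Over Y)
        (c : AlgGrp.Action (Red.bc (Y ↘ Spec (CommRingCat.of k)) H) U) (u : Spec (CommRingCat.of k) ⟶ U.left),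
        NonAbH1.IsTorsorFor Scheme.fpqcPrecoverage c → u ≫ U.hom = y →
        NoriFGS.IsNoriReduced Scheme.fpqcPrecoverage c →
        NoriFGS.IsNoriReduced Scheme.fpqcPrecoverage
          ((c.bc f).restrict (ActBC.bcCompIso f (Y ↘ Spec (CommRingCat.of k)) H hf).inv) := by
  obtain ⟨_, -⟩ := id hφ
  haveI := Groth.Agent.NoriLib.isAffine_proFinite hX.1
  haveI := Groth.Agent.NoriLib.isAffine_proFinite hY.1
  constructor
  · rintro ⟨hfl, hsurj⟩ H _ _ U c u hU hu hN
    haveI : QuasiCompact φ.left := inferInstance
    haveI : Epi φ.left := Flat.epi_of_flat_of_surjective φ.left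
    obtain ⟨ρ, _, g, hg, -⟩ := hY.2.2.2 H U c u hU hu
    have hρ := Groth.Agent.NoriLib.injective_of_isMinimal
      (Groth.Agent.NoriLib.isMinimal_of_isNoriReduced hy hY hU hg hN)
    obtain ⟨t, G, -, ht, hG⟩ := Groth.Agent.NoriLib.exists_induced hf hfx hX.2.2.1 hφ hg hu
    refine Groth.Agent.NoriLib.isNoriReduced_of_minimal hx hX (Groth.Agent.NoriLib.isTorsorFor_pullAct hf hU) ht hG
      (Groth.Agent.NoriLib.isMinimal_of_injective ?_)
    rw [Over.comp_left, Scheme.Hom.comp_appTop]
    exact (Groth.Agent.GrpSchLib.AntiAffine.appTop_injective_of_epi φ.left).comp hρ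
  · intro h
    refine Groth.Agent.RedImage.flat_surjective_of_injective φ ?_
    rw [RingHom.injective_iff_ker_eq_bot, RingHom.ker_eq_bot_iff_eq_zero]
    intro z hz
    obtain ⟨G₀, _, _, π, _, z₀, rfl⟩ := Groth.Agent.NoriLib.exists_finite_level hY.1 z
    obtain ⟨H, _, _, ρ, _, i, _, _, U, c, u, g, he, hU, hu, hg, hN⟩ :=
      Groth.Agent.NoriLib.exists_classify hY hy π
    obtain ⟨t, G, -, -, hG⟩ := Groth.Agent.NoriLib.exists_induced hf hfx hX.2.2.1 hφ hg hu
    have hinj := Groth.Agent.NoriLib.injective_of_isMinimal
      (Groth.Agent.NoriLib.isMinimal_of_isNoriReduced hx hX (Groth.Agent.NoriLib.isTorsorFor_pullAct hf hU) hG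
        (h H U c u hU hu hN))
    have e : ρ.left ≫ i.left = π.left := congrArg CommaMorphism.left he
    have l := ConcreteCategory.congr_hom (congrArg Scheme.Hom.appTop e) z₀
    rw [Scheme.Hom.comp_appTop] at l
    have hz' : φ.left.appTop (ρ.left.appTop (i.left.appTop z₀)) = 0 := (congrArg φ.left.appTop l).trans hz
    have h0 : i.left.appTop z₀ = 0 := by
      refine hinj ?_
      rw [Over.comp_left, Scheme.Hom.comp_appTop, map_zero]
      exact hz'
    exact l.symm.trans ((congrArg ρ.left.appTop h0).trans (map_zero ρ.left.appTop.hom))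

end Groth.Agent.S19815
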