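import Groth.Statements.S19816
import Groth.Agent.CechTorsorX.PointedHomTorsor

set_option autoImplicit false
universe u
open CategoryTheory CategoryTheory.Limits MonoidalCategory CartesianMonoidalCategory MonObj GrpObj AlgebraicGeometry
open NoriFGS

namespace Groth.Agent.S19816

/-- Let X be a quasi-compact scheme over a field k with a rational point x which possesses a fundamental
group scheme with its universal pointed torsor. Let G, G₁, G₂ be finite group schemes over k with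
homomorphisms φ₁ : G₁ → G and φ₂ : G₂ → G, and let T, T₁, T₂ be torsors over X (locally trivial for
the fpqc topology) under the base changes to X of G, G₁, G₂, each pointed by a k-point lying over x;
let f₁ : T₁ → T and f₂ : T₂ → T be morphisms of pointed torsors along φ₁ and φ₂. Let Q be the fibre
product group scheme G₁ ×_G G₂ with its projections π₁, π₂. Then the fibre product T₁ ×_T T₂ carries
an action of the base change of Q for which both projections to T₁ and T₂ are equivariant (along π₁,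
π₂) and which makes it a torsor over X, locally trivial for the fpqc topology: the category of
pointed finite torsors over X is closed under fibre products. (The published statement is an
equivalence; this row is the implication from possessing a fundamental group scheme. The source's
standing convention for that chapter assumes the base field has characteristic p > 0; the printed
proof uses no characteristic hypothesis, so the row states it for any field.) -/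
theorem result
    (k : Type u) [Field k] (X : Scheme.{u}) [X.Over (Spec (CommRingCat.of k))]
    (x : Spec (CommRingCat.of k) ⟶ X) (hx : x ≫ (X ↘ Spec (CommRingCat.of k)) = 𝟙 _)
    (πN : Over (Spec (CommRingCat.of k))) [GrpObj πN] (P : Over X)
    (a : AlgGrp.Action (Red.bc (X ↘ Spec (CommRingCat.of k)) πN) P) (p : Spec (CommRingCat.of k) ⟶ P.left)
    (hP : NoriFGS.IsFGS x πN a p) [CompactSpace X]
    (G G₁ G₂ : Over (Spec (CommRingCat.of k))) [GrpObj G] [GrpObj G₁] [GrpObj G₂]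
    [IsFinite G.hom] [IsFinite G₁.hom] [IsFinite G₂.hom]
    (φ₁ : G₁ ⟶ G) (φ₂ : G₂ ⟶ G) [IsMonHom φ₁] [IsMonHom φ₂]
    (T T₁ T₂ : Over X)
    (b : AlgGrp.Action (Red.bc (X ↘ Spec (CommRingCat.of k)) G) T)
    (b₁ : AlgGrp.Action (Red.bc (X ↘ Spec (CommRingCat.of k)) G₁) T₁)
    (b₂ : AlgGrp.Action (Red.bc (X ↘ Spec (CommRingCat.of k)) G₂) T₂)
    (hT : NonAbH1.IsTorsorFor Scheme.fpqcPrecoverage b)
    (hT₁ : NonAbH1.IsTorsorFor Scheme.fpqcPrecoverage b₁)
    (hT₂ : NonAbH1.IsTorsorFor Scheme.fpqcPrecoverage b₂)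
    (t : Spec (CommRingCat.of k) ⟶ T.left) (t₁ : Spec (CommRingCat.of k) ⟶ T₁.left) (t₂ : Spec (CommRingCat.of k) ⟶ T₂.left)
    (ht : t ≫ T.hom = x) (ht₁ : t₁ ≫ T₁.hom = x) (ht₂ : t₂ ≫ T₂.hom = x)
    (f₁ : T₁ ⟶ T) (f₂ : T₂ ⟶ T)
    (hf₁ : NoriFGS.IsPtTorsorHom b₁ t₁ b t φ₁ f₁) (hf₂ : NoriFGS.IsPtTorsorHom b₂ t₂ b t φ₂ f₂)
    (Q : Over (Spec (CommRingCat.of k))) [GrpObj Q] (π₁ : Q ⟶ G₁) (π₂ : Q ⟶ G₂) [IsMonHom π₁] [IsMonHom π₂]
    (hQ : IsPullback π₁ π₂ φ₁ φ₂) :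
    ∃ c : AlgGrp.Action (Red.bc (X ↘ Spec (CommRingCat.of k)) Q) (pullback f₁ f₂),
      AlgGrp.Action.IsEquivariant c (b₁.restrict ((Over.pullback (X ↘ Spec (CommRingCat.of k))).map π₁)) (pullback.fst f₁ f₂) ∧
      AlgGrp.Action.IsEquivariant c (b₂.restrict ((Over.pullback (X ↘ Spec (CommRingCat.of k))).map π₂)) (pullback.snd f₁ f₂) ∧
      NonAbH1.IsTorsorFor Scheme.fpqcPrecoverage c := by
  let s := X ↘ Spec (CommRingCat.of k)
  haveI : PreservesLimitsOfSize.{0, 0} (Over.pullback s) := (Over.mapPullbackAdj s).rightAdjoint_preservesLimits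
  have hQ' := hQ.map (Over.pullback s)
  obtain ⟨-, hPt, -, huniv⟩ := hP
  have comp : ∀ {G' : Over (Spec (CommRingCat.of k))} [GrpObj G'] {T' : Over X}
      (b' : AlgGrp.Action (Red.bc s G') T') (t' : Spec (CommRingCat.of k) ⟶ T'.left) (ρ : πN ⟶ G') [IsMonHom ρ]
      (φ : G' ⟶ G) [IsMonHom φ] (g : P ⟶ T') (f : T' ⟶ T),
      NoriFGS.IsPtTorsorHom a p b' t' ρ g → NoriFGS.IsPtTorsorHom b' t' b t φ f →
        NoriFGS.IsPtTorsorHom a p b t (ρ ≫ φ) (g ≫ f) := by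
    intro G' _ T' b' t' ρ _ φ _ g f hg hf
    refine ⟨?_, ?_⟩
    · have h1 := hg.1
      have h2 := hf.1
      unfold AlgGrp.Action.IsEquivariant at h1 h2 ⊢
      rw [AlgGrp.Action.restrict_act] at h1 h2 ⊢
      rw [← Category.assoc, h1, Category.assoc, Category.assoc, h2, Functor.map_comp]
      simp only [← Category.assoc]
      congr 1
      apply CartesianMonoidalCategory.hom_ext <;> simp
    · rw [Over.comp_left, ← Category.assoc, hg.2, hf.2]
  obtain ⟨ρ, _, g, -, huT⟩ := huniv G T b t hT ht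
  obtain ⟨ρ₁, _, g₁, hg₁, -⟩ := huniv G₁ T₁ b₁ t₁ hT₁ ht₁
  obtain ⟨ρ₂, _, g₂, hg₂, -⟩ := huniv G₂ T₂ b₂ t₂ hT₂ ht₂
  have e₁ := huT (ρ₁ ≫ φ₁) (g₁ ≫ f₁) (comp b₁ t₁ ρ₁ φ₁ g₁ f₁ hg₁ hf₁)
  have e₂ := huT (ρ₂ ≫ φ₂) (g₂ ≫ f₂) (comp b₂ t₂ ρ₂ φ₂ g₂ f₂ hg₂ hf₂)
  let h : P ⟶ pullback f₁ f₂ := pullback.lift g₁ g₂ (e₁.2.trans e₂.2.symm)
  obtain ⟨R, hR, hsec⟩ := hPt.2
  refine ⟨Groth.Agent.CechTorsorX.PointedHomTorsor.pbAction b b₁ b₂ _ _ _ _ hQ'.w hf₁.1 hf₂.1,
    Groth.Agent.CechTorsorX.PointedHomTorsor.isEquivariant_fst b b₁ b₂ _ _ _ _ hQ'.w hf₁.1 hf₂.1,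
    Groth.Agent.CechTorsorX.PointedHomTorsor.isEquivariant_snd b b₁ b₂ _ _ _ _ hQ'.w hf₁.1 hf₂.1,
    Groth.Agent.CechTorsorX.PointedHomTorsor.pbAction_isPseudoTorsor b b₁ b₂ _ _ _ _ hQ'.w hf₁.1 hf₂.1 hT.1 hT₁.1
      hT₂.1 hQ', R, hR, fun S' f hf => ?_⟩
  obtain ⟨σ, hσ⟩ := hsec f hf
  exact ⟨σ ≫ h.left, by rw [Category.assoc, Over.w h, hσ]⟩

end Groth.Agent.S19816
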