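import Groth.Statements.S19817
import Groth.Agent.NoriLib.Classify
-- import your own Groth.Agent.* helpers here

set_option autoImplicit false
universe u
open CategoryTheory CategoryTheory.Limits MonoidalCategory CartesianMonoidalCategory MonObj GrpObj AlgebraicGeometry
open NoriFGS

namespace Groth.Agent.S19817

/-- Let k be a field and X a scheme over k with a rational point x which possesses a fundamental group
scheme π with its universal pointed torsor. Suppose that there is a natural number M such that, for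
every finite group scheme G over k and every G-torsor over X (locally trivial for the fpqc topology)
pointed over x which is Nori-reduced, the order of G, namely the dimension over k of the coordinate
ring Γ(G, O_G) (a k-algebra through the structure morphism G → Spec k), is at most M. Then π is
finite over k. -/
theorem result
    (k : Type u) [Field k] (X : Scheme.{u}) [X.Over (Spec (CommRingCat.of k))]
    (x : Spec (CommRingCat.of k) ⟶ X) (hx : x ≫ (X ↘ Spec (CommRingCat.of k)) = 𝟙 _)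
    (πN : Over (Spec (CommRingCat.of k))) [GrpObj πN] (P : Over X)
    (a : AlgGrp.Action (Red.bc (X ↘ Spec (CommRingCat.of k)) πN) P) (p : Spec (CommRingCat.of k) ⟶ P.left)
    (hP : NoriFGS.IsFGS x πN a p) (M : ℕ)
    (hM : ∀ (G : Over (Spec (CommRingCat.of k))) [GrpObj G] [IsFinite G.hom] (T : Over X)
      (b : AlgGrp.Action (Red.bc (X ↘ Spec (CommRingCat.of k)) G) T) (t : Spec (CommRingCat.of k) ⟶ T.left),
      NonAbH1.IsTorsorFor Scheme.fpqcPrecoverage b → t ≫ T.hom = x →
      NoriFGS.IsNoriReduced Scheme.fpqcPrecoverage b →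
      @Module.finrank k (Coh.Γtop G.left) _ _ (Module.compHom (Coh.Γtop G.left) (Coh.toGlobal G.hom)) ≤ M) :
    IsFinite πN.hom := by
  classical
  haveI := Groth.Agent.NoriLib.isAffine_proFinite hP.1
  letI := Module.compHom (Coh.Γtop πN.left) (Coh.toGlobal πN.hom)
  -- the functions coming from a finite level
  have key : ∀ (G : Over (Spec (CommRingCat.of k))) [GrpObj G] [IsFinite G.hom] (φ : πN ⟶ G) [IsMonHom φ],
      letI := Module.compHom (Coh.Γtop G.left) (Coh.toGlobal G.hom)
      ∃ R : Submodule k (Coh.Γtop πN.left), Module.Finite k R ∧ Module.finrank k R ≤ M ∧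
        LinearMap.range (Groth.Agent.NoriLib.pullLin φ) ≤ R ∧
        ∃ (H : Over (Spec (CommRingCat.of k))) (_ : GrpObj H) (_ : IsFinite H.hom) (ρ : πN ⟶ H) (_ : IsMonHom ρ),
          letI := Module.compHom (Coh.Γtop H.left) (Coh.toGlobal H.hom)
          R = LinearMap.range (Groth.Agent.NoriLib.pullLin ρ) := by
    intro G _ _ φ _
    obtain ⟨H, instH, hfin, ρ, hρ, i, -, -, U, c, u, g, he, hU, hu, -, hN⟩ :=
      Groth.Agent.NoriLib.exists_classify hP hx φ
    letI := Module.compHom (Coh.Γtop G.left) (Coh.toGlobal G.hom)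
    letI := Module.compHom (Coh.Γtop H.left) (Coh.toGlobal H.hom)
    haveI := Groth.Agent.NoriLib.finite_functions H
    refine ⟨LinearMap.range (Groth.Agent.NoriLib.pullLin ρ), inferInstance,
      (LinearMap.finrank_range_le _).trans (hM H U c u hU hu hN), ?_, H, instH, hfin, ρ, hρ, rfl⟩
    rintro _ ⟨f, rfl⟩
    refine ⟨i.left.appTop f, ?_⟩
    show ρ.left.appTop (i.left.appTop f) = φ.left.appTop f
    rw [← he, Over.comp_left, Scheme.Hom.comp_appTop]
    rfl
  let good : ℕ → Prop := fun n => ∃ (G : Over (Spec (CommRingCat.of k))) (_ : GrpObj G) (_ : IsFinite G.hom)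
    (φ : πN ⟶ G) (_ : IsMonHom φ),
    letI := Module.compHom (Coh.Γtop G.left) (Coh.toGlobal G.hom)
    Module.finrank k (LinearMap.range (Groth.Agent.NoriLib.pullLin φ)) = n
  have hne : ∃ n, n ≤ M ∧ good n := by
    haveI : IsFinite (𝟙_ (Over (Spec (CommRingCat.of k)))).hom := inferInstanceAs (IsFinite (𝟙 (Spec (CommRingCat.of k))))
    obtain ⟨R, -, hR, -, H, h1, h2, ρ, h3, rfl⟩ := key (𝟙_ (Over (Spec (CommRingCat.of k)))) (toUnit πN)
    exact ⟨_, hR, H, h1, h2, ρ, h3, rfl⟩
  obtain ⟨n, hnM, hn⟩ := hne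
  obtain ⟨G₀, _, _, φ₀, _, hn₀⟩ : good (Nat.findGreatest good M) := Nat.findGreatest_spec hnM hn
  letI := Module.compHom (Coh.Γtop G₀.left) (Coh.toGlobal G₀.hom)
  haveI := Groth.Agent.NoriLib.finite_functions G₀
  suffices htop : LinearMap.range (Groth.Agent.NoriLib.pullLin φ₀) = ⊤ by
    haveI : Module.Finite k (Coh.Γtop πN.left) :=
      Module.Finite.of_surjective (Groth.Agent.NoriLib.pullLin φ₀) (LinearMap.range_eq_top.mp htop)
    have h1 : @RingHom.Finite k Γ(πN.left, ⊤) _ _ (Coh.toGlobal πN.hom) := ‹Module.Finite k (Coh.Γtop πN.left)›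
    rw [HasAffineProperty.iff_of_isAffine (P := @IsFinite)]
    exact ⟨inferInstance, RingHom.Finite.of_comp_finite h1⟩
  rw [eq_top_iff]
  rintro f -
  obtain ⟨G₁, _, _, φ₁, _, f₁, rfl⟩ := Groth.Agent.NoriLib.exists_finite_level hP.1 f
  haveI : IsFinite (G₀ ⊗ G₁).hom := inferInstanceAs (IsFinite (pullback.fst G₀.hom G₁.hom ≫ G₀.hom))
  let φ₂ : πN ⟶ G₀ ⊗ G₁ := lift φ₀ φ₁
  haveI : IsMonHom φ₂ := inferInstanceAs (IsMonHom (lift φ₀ φ₁))
  obtain ⟨R, hRfin, hRM, hle, H, hH1, hH2, ρ, hρ, rfl⟩ := key (G₀ ⊗ G₁) φ₂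
  letI := Module.compHom (Coh.Γtop H.left) (Coh.toGlobal H.hom)
  have h0 : LinearMap.range (Groth.Agent.NoriLib.pullLin φ₀) ≤ LinearMap.range (Groth.Agent.NoriLib.pullLin ρ) := by
    rintro _ ⟨a, rfl⟩
    refine hle ⟨(fst G₀ G₁).left.appTop a, ?_⟩
    show φ₂.left.appTop ((fst G₀ G₁).left.appTop a) = φ₀.left.appTop a
    rw [show φ₀ = φ₂ ≫ fst G₀ G₁ from (lift_fst _ _).symm, Over.comp_left, Scheme.Hom.comp_appTop]
    rfl
  have hmax : Module.finrank k (LinearMap.range (Groth.Agent.NoriLib.pullLin ρ)) ≤ Nat.findGreatest good M :=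
    Nat.le_findGreatest hRM ⟨H, hH1, hH2, ρ, hρ, rfl⟩
  rw [Submodule.eq_of_le_of_finrank_le h0 (hmax.trans hn₀.ge)]
  refine hle ⟨(snd G₀ G₁).left.appTop f₁, ?_⟩
  show φ₂.left.appTop ((snd G₀ G₁).left.appTop f₁) = φ₁.left.appTop f₁
  conv_rhs => rw [show φ₁ = φ₂ ≫ snd G₀ G₁ from (lift_snd _ _).symm, Over.comp_left, Scheme.Hom.comp_appTop]
  rfl

end Groth.Agent.S19817
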