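import Groth.Statements.S19818
import Groth.Agent.NoriLib.FinImage
import Mathlib.AlgebraicGeometry.AlgClosed.Basic
-- import your own Groth.Agent.* helpers here

set_option autoImplicit false
universe u
open CategoryTheory CategoryTheory.Limits MonoidalCategory CartesianMonoidalCategory MonObj GrpObj AlgebraicGeometry
open NoriFGS

namespace Groth.Agent.S19818

/-- Let k be an algebraically closed field, X a smooth, proper and integral curve over k (of dimension
one) with a rational point x, and let π be a fundamental group scheme of (X, x) with its universal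
pointed torsor P. Let G be a connected reductive group over k and F a G-torsor over X (for the base
change of G to X, locally trivial for the fppf topology). Then F is essentially finite, meaning that
it admits a reduction of structure group to a finite group scheme: there are a finite group scheme Γ
over k, a homomorphism ι : Γ → G and a Γ-torsor Q over X together with an ι-equivariant X-morphism Q
→ F (so that F is obtained from Q by extension of the structure group along ι), if and only if there
is a homomorphism ρ : π → G together with a ρ-equivariant X-morphism P → F (F is obtained from the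
universal torsor by extension of the structure group along ρ). -/
theorem result
    (k : Type u) [Field k] [IsAlgClosed k] (X : Scheme.{u}) [X.Over (Spec (CommRingCat.of k))]
    [AlgebraicGeometry.IsIntegral X] [IsProper (X ↘ Spec (CommRingCat.of k))] [Smooth (X ↘ Spec (CommRingCat.of k))]
    (hdim : topologicalKrullDim X = 1)
    (x : Spec (CommRingCat.of k) ⟶ X) (hx : x ≫ (X ↘ Spec (CommRingCat.of k)) = 𝟙 _)
    (πN : Over (Spec (CommRingCat.of k))) [GrpObj πN] (P : Over X)
    (a : AlgGrp.Action (Red.bc (X ↘ Spec (CommRingCat.of k)) πN) P) (p : Spec (CommRingCat.of k) ⟶ P.left)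
    (hP : NoriFGS.IsFGS x πN a p)
    (G : Over (Spec (CommRingCat.of k))) [GrpObj G] (hG : Red.IsReductiveOver k G)
    (F : Over X) (aF : AlgGrp.Action (Red.bc (X ↘ Spec (CommRingCat.of k)) G) F)
    (hF : NonAbH1.IsTorsorFor Scheme.fppfPrecoverage aF) :
    (∃ (Gf : Over (Spec (CommRingCat.of k))) (_ : GrpObj Gf) (_ : IsFinite Gf.hom) (i : Gf ⟶ G) (_ : IsMonHom i)
        (Q : Over X) (c : AlgGrp.Action (Red.bc (X ↘ Spec (CommRingCat.of k)) Gf) Q),
        NonAbH1.IsTorsorFor Scheme.fppfPrecoverage c ∧
          NonAbH1.IsPushforwardAlongSch ((Over.pullback (X ↘ Spec (CommRingCat.of k))).map i) c aF) ↔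
      ∃ (ρ : πN ⟶ G) (_ : IsMonHom ρ),
        NonAbH1.IsPushforwardAlongSch ((Over.pullback (X ↘ Spec (CommRingCat.of k))).map ρ) a aF := by
  let s := X ↘ Spec (CommRingCat.of k)
  constructor
  · rintro ⟨Gf, _, _, i, _, Q, c, hc, j, hj⟩
    have hc' : NonAbH1.IsTorsorFor Scheme.fpqcPrecoverage c := by
      obtain ⟨h1, R, hR, h2⟩ := hc
      exact ⟨h1, R, Scheme.fppfPrecoverage_le_fpqcPrecoverage _ hR, h2⟩
    haveI : LocallyOfFiniteType (Red.bc s Gf).hom :=
      MorphismProperty.pullback_snd Gf.hom s (inferInstanceAs (LocallyOfFiniteType Gf.hom))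
    haveI : LocallyOfFiniteType Q.hom := Groth.Agent.SchTorsor.torsor_property @LocallyOfFiniteType hc' inferInstance
    haveI : Surjective Q.hom := Groth.Agent.SchTorsor.surjective_hom hc'
    haveI : Nonempty ↥(pullback Q.hom x) :=
      ⟨((pullback.snd Q.hom x).surjective (IsLocalRing.closedPoint k)).choose⟩
    haveI : JacobsonSpace ↥(pullback Q.hom x) := LocallyOfFiniteType.jacobsonSpace (pullback.snd Q.hom x)
    obtain ⟨z, -, hz⟩ := nonempty_inter_closedPoints (X := ↥(pullback Q.hom x)) Set.univ_nonempty
      isClosed_univ.isLocallyClosed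
    let q := pointOfClosedPoint (pullback.snd Q.hom x) z hz ≫ pullback.fst Q.hom x
    have hq : q ≫ Q.hom = x := by
      show (_ ≫ pullback.fst Q.hom x) ≫ Q.hom = x
      rw [Category.assoc, pullback.condition, pointOfClosedPoint_comp_assoc]
    obtain ⟨ρ, _, g, hg, -⟩ := hP.2.2.2 Gf Q c q hc' hq
    refine ⟨ρ ≫ i, inferInstance, g ≫ j, AlgGrp.Action.hom_ext_lift₂ fun T dd v => ?_⟩
    have e1 := congrArg (lift dd v ≫ ·) hg.1
    simp only [← Category.assoc, lift_whiskerLeft, AlgGrp.Action.lift_restrict_act] at e1
    rw [← Category.assoc, ← Category.assoc, e1, Category.assoc, hj, comp_lift_assoc, lift_fst_assoc, lift_snd_assoc,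
      comp_lift_assoc, lift_fst_assoc, lift_snd_assoc, Functor.map_comp]
    simp only [Category.assoc]
  · rintro ⟨ρ, _, j, hj⟩
    haveI : IsAffine G.left := hG.1
    haveI : Smooth G.hom := hG.2.1
    obtain ⟨H, _, _, _, ρ', _, i, _, _, he⟩ := Groth.Agent.NoriLib.exists_finite_factor hP.1 ρ
    haveI := Groth.Agent.NoriLib.isAffineHom_proFinite hP.1
    haveI : IsAffineHom (Red.bc s πN).hom := MorphismProperty.pullback_snd πN.hom s ‹_›
    haveI : Flat (Red.bc s πN).hom := MorphismProperty.pullback_snd πN.hom s (inferInstanceAs (Flat πN.hom))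
    haveI : IsAffineHom (Red.bc s H).hom :=
      MorphismProperty.pullback_snd H.hom s (inferInstanceAs (IsAffineHom H.hom))
    haveI : Flat (Red.bc s H).hom := MorphismProperty.pullback_snd H.hom s (inferInstanceAs (Flat H.hom))
    haveI : LocallyOfFinitePresentation (Red.bc s H).hom :=
      MorphismProperty.pullback_snd H.hom s ‹LocallyOfFinitePresentation H.hom›
    obtain ⟨Q, c, gQ, hQ, hgQ⟩ := Groth.Agent.NoriLib.exists_push hP.2.1
      (show Red.bc s πN ⟶ Red.bc s H from (Over.pullback s).map ρ')
    haveI : IsClosedImmersion ((Over.pullback s).map i).left := by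
      have hsq : IsPullback ((Over.pullback s).map i).left (pullback.fst H.hom s) (pullback.fst G.hom s) i.left := by
        refine IsPullback.of_right ?_ (ActBC.pullback_map_left_fst s i) (IsPullback.of_hasPullback G.hom s).flip
        rw [Over.w i, show ((Over.pullback s).map i).left ≫ pullback.snd G.hom s = pullback.snd H.hom s from
          Over.w ((Over.pullback s).map i)]
        exact (IsPullback.of_hasPullback H.hom s).flip
      exact MorphismProperty.of_isPullback hsq.flip ‹_›
    have hgU : AlgGrp.Action.IsEquivariant a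
        (aF.restrict ((show Red.bc s πN ⟶ Red.bc s H from (Over.pullback s).map ρ') ≫
          (show Red.bc s H ⟶ Red.bc s G from (Over.pullback s).map i))) j := by
      refine AlgGrp.Action.hom_ext_lift₂ fun T dd z => ?_
      rw [hj, lift_whiskerLeft_assoc, AlgGrp.Action.lift_restrict_act, comp_lift_assoc, lift_fst_assoc, lift_snd_assoc,
        ← Functor.map_comp, he]
    obtain ⟨j', -, hje, -⟩ := Groth.Agent.NoriLib.exists_sub hP.2.1 hQ.1 hF.1
      (show Red.bc s H ⟶ Red.bc s G from (Over.pullback s).map i) hgQ hgU
    obtain ⟨hQ₁, hQ₂, hQ₃⟩ := Groth.Agent.NoriLib.torsor_props hQ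
    haveI : LocallyOfFinitePresentation Q.hom :=
      Groth.Agent.SchTorsor.torsor_property @LocallyOfFinitePresentation hQ inferInstance
    refine ⟨H, inferInstance, inferInstance, i, inferInstance, Q, c,
      ⟨hQ.1, _, Q.hom.singleton_mem_fppfPrecoverage, ?_⟩, j', AlgGrp.Action.hom_ext_lift₂ fun T dd z => ?_⟩
    · rintro S' f' ⟨⟩
      exact ⟨𝟙 _, Category.id_comp _⟩
    · rw [hje, lift_whiskerLeft_assoc, AlgGrp.Action.lift_restrict_act, comp_lift_assoc, lift_fst_assoc, lift_snd_assoc]

end Groth.Agent.S19818
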