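import Groth.Statements.S19819
import Groth.Agent.NoriLib.Induced
-- import your own Groth.Agent.* helpers here

set_option autoImplicit false
universe u
open CategoryTheory CategoryTheory.Limits MonoidalCategory CartesianMonoidalCategory MonObj GrpObj AlgebraicGeometry
open NoriFGS

namespace Groth.Agent.S19819

/-- Let X and Y be schemes over a field k with rational points x and y, each possessing a fundamental
group scheme with its universal pointed torsor, let f : X → Y be a k-morphism sending x to y, and
let φ be the homomorphism of fundamental group schemes induced by f. Suppose that for every finite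
group scheme G over k and every G-torsor T over X (locally trivial for the fpqc topology), pointed
over x and Nori-reduced, there are a finite group scheme H over k, an H-torsor U over Y pointed over
y and Nori-reduced, a homomorphism i : G → H which is a closed immersion and a closed immersion j :
T → U ×_Y X over X, equivariant along i for the base-changed action and sending the marked point of
T to the point of U ×_Y X lying over x and over the marked point of U (T is a pointed sub-torsor of
the pull-back of U). Then φ is a closed immersion. (The published statement is an equivalence and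
does not require the sub-torsor to pass through the marked points; the converse implication fails:
for a finite etale Galois situation with groups V ⊂ S, V the Klein four-group normal in the
symmetric group S on four letters, a subgroup of order two of V is not the intersection of V with
any normal subgroup of S, so the corresponding torsor of order two over X is not a sub-torsor of any
pull-back. The source's standing convention for that chapter assumes the base field has
characteristic p > 0; the printed proof uses no characteristic hypothesis, so the row states it for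
any field.) -/
theorem result
    (k : Type u) [Field k] (X Y : Scheme.{u})
    [X.Over (Spec (CommRingCat.of k))] [Y.Over (Spec (CommRingCat.of k))]
    (x : Spec (CommRingCat.of k) ⟶ X) (y : Spec (CommRingCat.of k) ⟶ Y)
    (hx : x ≫ (X ↘ Spec (CommRingCat.of k)) = 𝟙 _) (hy : y ≫ (Y ↘ Spec (CommRingCat.of k)) = 𝟙 _)
    (f : X ⟶ Y) (hf : f ≫ (Y ↘ Spec (CommRingCat.of k)) = X ↘ Spec (CommRingCat.of k)) (hfx : x ≫ f = y)
    (πX πY : Over (Spec (CommRingCat.of k))) [GrpObj πX] [GrpObj πY] (PX : Over X) (PY : Over Y)
    (aX : AlgGrp.Action (Red.bc (X ↘ Spec (CommRingCat.of k)) πX) PX)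
    (aY : AlgGrp.Action (Red.bc (Y ↘ Spec (CommRingCat.of k)) πY) PY)
    (pX : Spec (CommRingCat.of k) ⟶ PX.left) (pY : Spec (CommRingCat.of k) ⟶ PY.left)
    (hX : NoriFGS.IsFGS x πX aX pX) (hY : NoriFGS.IsFGS y πY aY pY)
    (φ : πX ⟶ πY) (hφ : NoriFGS.IsInducedHom f hf aX pX aY pY φ)
    (hsub : ∀ (G : Over (Spec (CommRingCat.of k))) [GrpObj G] [IsFinite G.hom] (T : Over X)
      (b : AlgGrp.Action (Red.bc (X ↘ Spec (CommRingCat.of k)) G) T) (t : Spec (CommRingCat.of k) ⟶ T.left),
      NonAbH1.IsTorsorFor Scheme.fpqcPrecoverage b → t ≫ T.hom = x →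
      NoriFGS.IsNoriReduced Scheme.fpqcPrecoverage b →
      ∃ (H : Over (Spec (CommRingCat.of k))) (_ : GrpObj H) (_ : IsFinite H.hom) (U : Over Y)
        (c : AlgGrp.Action (Red.bc (Y ↘ Spec (CommRingCat.of k)) H) U) (u : Spec (CommRingCat.of k) ⟶ U.left)
        (i : G ⟶ H) (_ : IsMonHom i) (_ : IsClosedImmersion i.left)
        (j : T ⟶ Red.bc f U) (_ : IsClosedImmersion j.left),
        NonAbH1.IsTorsorFor Scheme.fpqcPrecoverage c ∧ u ≫ U.hom = y ∧
        NoriFGS.IsNoriReduced Scheme.fpqcPrecoverage c ∧
        AlgGrp.Action.IsEquivariant b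
          (((c.bc f).restrict (ActBC.bcCompIso f (Y ↘ Spec (CommRingCat.of k)) H hf).inv).restrict
            ((Over.pullback (X ↘ Spec (CommRingCat.of k))).map i)) j ∧
        t ≫ j.left ≫ pullback.fst U.hom f = u) :
    IsClosedImmersion φ.left := by
  obtain ⟨_, -⟩ := id hφ
  haveI := Groth.Agent.NoriLib.isAffine_proFinite hX.1
  haveI := Groth.Agent.NoriLib.isAffine_proFinite hY.1
  refine IsClosedImmersion.of_surjective_of_isAffine φ.left fun z => ?_
  obtain ⟨G₀, _, _, π, _, z₀, rfl⟩ := Groth.Agent.NoriLib.exists_finite_level hX.1 z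
  obtain ⟨G, _, _, ρ, _, i, _, _, T, b, t, g, he, hT, ht, hg, hN⟩ :=
    Groth.Agent.NoriLib.exists_classify hX hx π
  obtain ⟨H, _, _, U, c, u, i', _, _, j, _, hU, hu, -, hj, hpt⟩ := hsub G T b t hT ht hN
  obtain ⟨ρY, _, gY, hgY, -⟩ := hY.2.2.2 H U c u hU hu
  obtain ⟨t', F, ht₁, ht₂, hF⟩ := Groth.Agent.NoriLib.exists_induced hf hfx hX.2.2.1 hφ hgY hu
  have htj : t ≫ j.left = t' := by
    apply pullback.hom_ext
    · rw [ht₁, Category.assoc, hpt]
    · refine Eq.trans ?_ ht₂.symm
      show (t ≫ j.left) ≫ (Red.bc f U).hom = x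
      rw [Category.assoc, Over.w j]
      exact ht
  obtain ⟨φ₁, _, G₁, -, huniq⟩ :=
    hX.2.2.2 H (Red.bc f U) _ t' (Groth.Agent.NoriLib.isTorsorFor_pullAct hf hU) ht₂
  have hj' : NoriFGS.IsPtTorsorHom b t (Groth.Agent.NoriLib.pullAct hf c) t' i' j := ⟨hj, htj⟩
  have e1 := (huniq _ F hF).1
  have e2 := (huniq (ρ ≫ i') (g ≫ j) (Groth.Agent.NoriLib.isPtTorsorHom_comp hg hj')).1
  haveI : IsAffine H.left := isAffine_of_isAffineHom H.hom
  obtain ⟨a, ha⟩ := (IsClosedImmersion.isAffine_surjective_of_isAffine i'.left).2 (i.left.appTop z₀)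
  refine ⟨ρY.left.appTop a, ?_⟩
  have e3 : φ.left ≫ ρY.left = ρ.left ≫ i'.left := congrArg CommaMorphism.left (e1.trans e2.symm)
  have e4 : ρ.left ≫ i.left = π.left := congrArg CommaMorphism.left he
  have l1 := ConcreteCategory.congr_hom (congrArg Scheme.Hom.appTop e3) a
  have l2 := ConcreteCategory.congr_hom (congrArg Scheme.Hom.appTop e4) z₀
  rw [Scheme.Hom.comp_appTop, Scheme.Hom.comp_appTop] at l1
  rw [Scheme.Hom.comp_appTop] at l2
  exact l1.trans ((congrArg ρ.left.appTop ha).trans l2)

end Groth.Agent.S19819
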