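import Groth.Statements.S1984
import Groth.Agent.EtRam7.TotRam
-- import your own Groth.Agent.* helpers here

set_option autoImplicit false
universe u
open EtAlg

namespace Groth.Agent.S1984

open TensorProduct in
/-- Let A -> B be a weakly unramified extension of discrete valuation rings with fraction fields K ⊂ L,
and K₁/K a finite separable extension which is totally ramified with respect to A. Then L ⊗_K K₁ is
a field and K₁ is a weak solution for A -> B (the valuation ring of L ⊗_K K₁ over B is weakly
unramified over that of K₁ over A). -/
theorem result (A B K L : Type u) [CommRing A] [IsDomain A] [IsDiscreteValuationRing A]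
    [CommRing B] [IsDomain B] [IsDiscreteValuationRing B] [Algebra A B] [IsLocalHom (algebraMap A B)]
    (hinj : Function.Injective (algebraMap A B))
    [Field K] [Field L] [Algebra A K] [IsFractionRing A K] [Algebra B L] [IsFractionRing B L]
    [Algebra K L] [Algebra A L] [IsScalarTower A K L] [IsScalarTower A B L]
    (hw : EtRam.IsWeaklyUnramified A B) (K₁ : Type u) [Field K₁] [Algebra K K₁] [FiniteDimensional K K₁]
    [Algebra.IsSeparable K K₁] (ht : EtRam.IsTotallyRamified A ((algebraMap K K₁).comp (algebraMap A K))) :
    IsField (L ⊗[K] K₁) ∧ EtRam.IsWeakSolution B K L K₁ := by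
  exact ⟨Groth.Agent.EtRam7.isField_tensor_of_totallyRamified hinj hw K₁ ht,
    Groth.Agent.EtRam7.isWeakSolution_of_totallyRamified A B K L hw K₁ ht⟩

end Groth.Agent.S1984
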