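import Groth.Statements.S1985
import Mathlib
import Groth.Agent.WEtLib.OverField
import Groth.Agent.N12Aux.Nagata
import Groth.Agent.NagataLib.IntClosure
-- import your own Groth.Agent.* helpers here

set_option autoImplicit false
universe u
open EtAlg
open scoped TensorProduct

namespace Groth.Agent.S1985

/-- Let A -> B be an extension of discrete valuation rings whose extension of fraction fields L/K is
separable. If B is a Nagata ring then so is A. -/
theorem result (A B K L : Type u) [CommRing A] [IsDomain A] [IsDiscreteValuationRing A]
    [CommRing B] [IsDomain B] [IsDiscreteValuationRing B] [Algebra A B] [IsLocalHom (algebraMap A B)]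
    (hinj : Function.Injective (algebraMap A B))
    [Field K] [Field L] [Algebra A K] [IsFractionRing A K] [Algebra B L] [IsFractionRing B L]
    [Algebra K L] [Algebra A L] [IsScalarTower A K L] [IsScalarTower A B L] [Algebra.IsSeparable K L] (hB : CAlg.IsNagata B) :
    CAlg.IsNagata A := by
  classical
  haveI : Module.IsTorsionFree A B := Module.isTorsionFree_iff_algebraMap_injective.2 hinj
  haveI : Module.Flat A B := inferInstance
  haveI : Module.FaithfullyFlat A B := Module.FaithfullyFlat.of_flat_of_isLocalHom
  refine ⟨inferInstance, fun p hp => ?_⟩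
  by_cases hp0 : p = ⊥
  · subst hp0
    refine N12Aux.isN2_of_ringEquiv (RingEquiv.quotientBot A).symm ?_
    intro K' _ _ _ _ hfd
    letI : Algebra K K' := ((algebraMap (FractionRing A) K').comp
      (IsLocalization.algEquiv (nonZeroDivisors A) K (FractionRing A)).toAlgHom.toRingHom).toAlgebra
    haveI : IsScalarTower A K K' := IsScalarTower.of_algebraMap_eq fun a => by
      show algebraMap A K' a = algebraMap (FractionRing A) K'
        ((IsLocalization.algEquiv (nonZeroDivisors A) K (FractionRing A)).toAlgHom (algebraMap A K a))
      rw [AlgHom.commutes, ← IsScalarTower.algebraMap_apply]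
    haveI : FiniteDimensional K K' := by
      obtain ⟨s, hs⟩ := hfd
      refine ⟨⟨s, eq_top_iff.2 fun x hx0 => ?_⟩⟩
      have hx : x ∈ Submodule.span (FractionRing A) (s : Set K') := hs ▸ Submodule.mem_top
      clear hx0
      induction hx using Submodule.span_induction with
      | mem y hy => exact Submodule.subset_span hy
      | zero => exact zero_mem _
      | add _ _ _ _ h1 h2 => exact add_mem h1 h2
      | smul c y _ hy =>
        have : c • y = ((IsLocalization.algEquiv (nonZeroDivisors A) K (FractionRing A)).symm c) • y := by
          rw [Algebra.smul_def, Algebra.smul_def]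
          show algebraMap (FractionRing A) K' c * y = algebraMap (FractionRing A) K'
            ((IsLocalization.algEquiv (nonZeroDivisors A) K (FractionRing A))
              ((IsLocalization.algEquiv (nonZeroDivisors A) K (FractionRing A)).symm c)) * y
          rw [AlgEquiv.apply_symm_apply]
        rw [this]
        exact Submodule.smul_mem _ _ hy
    let A' := integralClosure A K'
    haveI : IsReduced (L ⊗[K] K') := by
      refine ⟨fun w hw => ?_⟩
      obtain ⟨S, hS⟩ := TensorProduct.exists_finset w
      let L₀ := IntermediateField.adjoin K ((S.image Prod.fst : Finset L) : Set L)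
      haveI : FiniteDimensional K L₀ :=
        IntermediateField.finiteDimensional_adjoin fun x _ => (Algebra.IsSeparable.isSeparable K x).isIntegral
      haveI : Algebra.IsSeparable K L₀ := Algebra.isSeparable_tower_bot_of_isSeparable K L₀ L
      haveI : Algebra.FormallyUnramified K L₀ := (Algebra.FormallyUnramified.iff_isSeparable K L₀).2 inferInstance
      haveI : IsReduced (K' ⊗[K] L₀) := Algebra.FormallyUnramified.isReduced_of_field K' (K' ⊗[K] L₀)
      let j : K' ⊗[K] L₀ →ₐ[K] (L ⊗[K] K') :=
        (Algebra.TensorProduct.comm K K' L).toAlgHom.comp (Algebra.TensorProduct.map (AlgHom.id K K') L₀.val)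
      have hj : Function.Injective j := (Algebra.TensorProduct.comm K K' L).injective.comp
        (Module.Flat.lTensor_preserves_injective_linearMap (M := K') L₀.val.toLinearMap Subtype.val_injective)
      obtain ⟨v, rfl⟩ : ∃ v, j v = w := by
        refine ⟨∑ q ∈ S.attach, q.1.2 ⊗ₜ[K] (⟨q.1.1, IntermediateField.subset_adjoin K _
          (Finset.mem_coe.2 (Finset.mem_image_of_mem _ q.2))⟩ : L₀), ?_⟩
        rw [map_sum, hS, ← Finset.sum_attach S]
        exact Finset.sum_congr rfl fun q _ => rfl
      obtain ⟨n, hn⟩ := hw
      rw [IsReduced.eq_zero v ⟨n, hj ((j.toRingHom.map_pow v n).trans (hn.trans j.toRingHom.map_zero.symm))⟩]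
      exact j.toRingHom.map_zero
    obtain ⟨ϖ, hϖ⟩ := IsDiscreteValuationRing.exists_irreducible B
    haveI : Algebra.FiniteType B L := by
      refine ⟨⟨{(algebraMap B L ϖ)⁻¹}, eq_top_iff.2 fun x _ => ?_⟩⟩
      obtain ⟨a, b, hb, rfl⟩ := IsFractionRing.div_surjective (A := B) x
      obtain ⟨n, v, rfl⟩ := IsDiscreteValuationRing.eq_unit_mul_pow_irreducible (nonZeroDivisors.ne_zero hb) hϖ
      have : algebraMap B L a / algebraMap B L ((v : B) * ϖ ^ n) =
          algebraMap B L (a * (v⁻¹ : Bˣ)) * ((algebraMap B L ϖ)⁻¹) ^ n := by
        rw [map_mul, map_mul, map_pow, inv_pow, map_units_inv, div_eq_mul_inv, mul_inv, mul_assoc]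
      rw [this]
      exact mul_mem (Subalgebra.algebraMap_mem _ _) (pow_mem (Algebra.subset_adjoin (Finset.mem_coe.2 (Finset.mem_singleton_self _))) n)
    haveI : Algebra.FiniteType B (L ⊗[K] K') := Algebra.FiniteType.trans ‹Algebra.FiniteType B L› inferInstance
    haveI : Module.Finite B (integralClosure B (L ⊗[K] K')) := NagataLib.finite_integralClosure_of_reduced hB (L ⊗[K] K')
    let φ : B ⊗[A] A' →ₐ[B] (L ⊗[K] K') := Algebra.TensorProduct.lift (Algebra.ofId B (L ⊗[K] K'))
      (((Algebra.TensorProduct.includeRight : K' →ₐ[K] (L ⊗[K] K')).restrictScalars A).comp A'.val) fun _ _ => Commute.all _ _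
    haveI : Module.IsTorsionFree A K' := Module.isTorsionFree_iff_algebraMap_injective.2 (by
      rw [IsScalarTower.algebraMap_eq A (FractionRing A) K']
      exact (algebraMap (FractionRing A) K').injective.comp (IsFractionRing.injective A (FractionRing A)))
    have hφ : Function.Injective φ := by
      let e := IsLocalization.algebraTensorEquiv (nonZeroDivisors A) K L K'
      let ψ : B ⊗[A] A' →ₐ[A] L ⊗[A] K' := Algebra.TensorProduct.map (IsScalarTower.toAlgHom A B L) A'.val
      have hψ : Function.Injective ψ := by
        show Function.Injective (TensorProduct.map (IsScalarTower.toAlgHom A B L).toLinearMap A'.val.toLinearMap)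
        rw [← LinearMap.rTensor_comp_lTensor]
        exact (Module.Flat.rTensor_preserves_injective_linearMap (M := K') _ (IsFractionRing.injective B L)).comp
          (Module.Flat.lTensor_preserves_injective_linearMap (M := B) _ Subtype.val_injective)
      have he : ∀ t, φ t = e.symm (ψ t) := fun t => by
        induction t using TensorProduct.induction_on with
        | zero => simp
        | add x y hx hy => simp [hx, hy]
        | tmul b x =>
          show algebraMap B (L ⊗[K] K') b * ((1 : L) ⊗ₜ[K] (x : K')) = _
          rw [Algebra.TensorProduct.algebraMap_apply, Algebra.TensorProduct.tmul_mul_tmul, mul_one, one_mul]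
          rfl
      intro a b hab
      rw [he, he] at hab
      exact hψ (e.symm.injective hab)
    have hint : ∀ t, φ t ∈ integralClosure B (L ⊗[K] K') := fun t => by
      induction t using TensorProduct.induction_on with
      | zero => rw [map_zero]; exact zero_mem _
      | add x y hx hy => rw [map_add]; exact add_mem hx hy
      | tmul b x =>
        refine Subalgebra.mul_mem _ (Subalgebra.algebraMap_mem _ b) ?_
        exact ((x.2 : IsIntegral A (x : K')).map
          ((Algebra.TensorProduct.includeRight : K' →ₐ[K] (L ⊗[K] K')).restrictScalars A)).tower_top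
    haveI : Module.Finite B (B ⊗[A] A') := Module.Finite.of_injective
      (φ.toLinearMap.codRestrict (integralClosure B (L ⊗[K] K')).toSubmodule hint) fun a b h => hφ (congrArg Subtype.val h)
    exact Module.Finite.of_finite_tensorProduct_of_faithfullyFlat B
  · haveI : p.IsMaximal := hp.isMaximal hp0
    letI : Field (A ⧸ p) := Ideal.Quotient.field p
    intro L' _ _ _ _ hfd
    haveI : Module.Finite (A ⧸ p) (FractionRing (A ⧸ p)) := Module.Finite.of_surjective (Algebra.linearMap _ _)
      (IsFractionRing.surjective_iff_isField.2 (Field.toIsField _))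
    haveI := hfd
    haveI : Module.Finite (A ⧸ p) L' := Module.Finite.trans (FractionRing (A ⧸ p)) L'
    exact Module.Finite.of_injective (integralClosure (A ⧸ p) L').val.toLinearMap Subtype.val_injective

end Groth.Agent.S1985
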