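import Groth.Statements.S19856
import Mathlib.RingTheory.DiscreteValuationRing.Basic
import Mathlib.RingTheory.Filtration
import Mathlib.RingTheory.IntegralDomain
import Mathlib.RingTheory.LocalRing.ResidueField.Basic
import Mathlib.GroupTheory.OrderOfElement

set_option autoImplicit false
universe u v
open CAlg

namespace Groth.Agent.S19856
open IsLocalRing

/-- An element of finite order prime to the residue characteristic that is trivial on `A / m` and on
`m / m²` is trivial. -/
theorem fixed_of_tame {A : Type*} [CommRing A] [IsLocalRing A] [IsNoetherianRing A] {G : Type*} [Group G]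
    [MulSemiringAction G A] (g : G) (N : ℕ) (hN : g ^ N = 1) (hu : IsUnit (N : A))
    (h0 : ∀ a : A, g • a - a ∈ maximalIdeal A) (hg : ∀ a ∈ maximalIdeal A, g • a - a ∈ maximalIdeal A ^ 2) (a : A) :
    g • a = a := by
  let m := maximalIdeal A
  have hgm : ∀ a ∈ m, g • a ∈ m := fun a ha => by
    have := Ideal.add_mem _ (h0 a) ha
    rwa [sub_add_cancel] at this
  have hdeg : ∀ n, ∀ z ∈ m ^ n, g • z - z ∈ m ^ (n + 1) := by
    intro n
    induction n with
    | zero => intro z _; rw [zero_add, pow_one]; exact h0 z
    | succ n ih =>
      intro z hz
      rw [pow_succ] at hz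
      refine Submodule.mul_induction_on hz (fun a ha b hb => ?_) (fun u v hu hv => ?_)
      · rw [smul_mul', show (g • a) * (g • b) - a * b = (g • a - a) * (g • b) + a * (g • b - b) by ring]
        refine Ideal.add_mem _ ?_ ?_
        · rw [pow_succ]; exact Ideal.mul_mem_mul (ih a ha) (hgm b hb)
        · rw [show n + 1 + 1 = n + 2 from rfl, pow_add]; exact Ideal.mul_mem_mul ha (hg b hb)
      · rw [smul_add, add_sub_add_comm]; exact Ideal.add_mem _ hu hv
  have key : ∀ n, ∀ b : A, g • b - b ∈ m ^ n := by
    intro n
    induction n with
    | zero => intro b; rw [pow_zero, Ideal.one_eq_top]; trivial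
    | succ n ih =>
      intro b
      have hpow : ∀ j : ℕ, g ^ j • b - b - (j : A) * (g • b - b) ∈ m ^ (n + 1) := by
        intro j
        induction j with
        | zero => simp
        | succ j ihj =>
          have hd : g ^ j • b - b ∈ m ^ n := by
            have := Ideal.add_mem _ (Ideal.pow_le_pow_right n.le_succ ihj) (Ideal.mul_mem_left _ (j : A) (ih b))
            rwa [sub_add_cancel] at this
          have h1 := hdeg n _ hd
          rw [smul_sub, ← mul_smul, ← pow_succ'] at h1
          convert Ideal.add_mem _ h1 ihj using 1
          push_cast
          ring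
      have h2 := hpow N
      rw [hN, one_smul, sub_self, zero_sub, neg_mem_iff] at h2
      exact (Ideal.unit_mul_mem_iff_mem _ hu).1 h2
  have hbot : g • a - a ∈ ⨅ n, m ^ n := (Submodule.mem_iInf _).2 fun n => key n a
  rw [Ideal.iInf_pow_eq_bot_of_isLocalRing _ (maximalIdeal.isMaximal A).ne_top, Ideal.mem_bot] at hbot
  exact sub_eq_zero.1 hbot

/-- Ring-level form: let O be a discrete valuation ring and G a finite group acting faithfully on O by
ring automorphisms, such that every element of G acts trivially on the residue field of O (that is,
g • a - a lies in the maximal ideal for all a) and such that the order of G is nonzero in the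
residue field of O. Then G is cyclic. (The source states this for a finite group of order invertible
in an algebraically closed field k acting faithfully on a smooth connected k-variety and the
subgroup of elements fixing pointwise a codimension-one irreducible component of the ramification
locus, applied to the local ring at the generic point of that component; it is stated here for an
arbitrary discrete valuation ring with a faithful action. The source also shows that this subgroup
is nontrivial; that geometric part is not stated.) -/
theorem result
    (O : Type u) [CommRing O] [IsDomain O] [IsDiscreteValuationRing O]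
    (G : Type v) [Group G] [Finite G] [MulSemiringAction G O] [FaithfulSMul G O]
    (htriv : ∀ (g : G) (a : O), g • a - a ∈ IsLocalRing.maximalIdeal O)
    (hcard : ((Nat.card G : ℕ) : IsLocalRing.ResidueField O) ≠ 0) :
    IsCyclic G := by
  obtain ⟨π, hπ⟩ := IsDiscreteValuationRing.exists_irreducible O
  have hmax := hπ.maximalIdeal_eq
  have hgπ : ∀ g : G, ∃ u : O, g • π = π * u := fun g => by
    have h := Ideal.add_mem _ (htriv g π) (show π ∈ maximalIdeal O by rw [hmax]; exact Ideal.mem_span_singleton_self π)
    rw [sub_add_cancel, hmax, Ideal.mem_span_singleton] at h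
    exact h
  choose u hu using hgπ
  have hres : ∀ (g : G) (a : O), residue O (g • a) = residue O a := fun g a => by
    rw [← sub_eq_zero, ← map_sub, residue_eq_zero_iff]; exact htriv g a
  let χ : G →* ResidueField O :=
    { toFun := fun g => residue O (u g)
      map_one' := by
        have h := hu 1
        rw [one_smul] at h
        have : u 1 = 1 := mul_left_cancel₀ hπ.ne_zero (by rw [← h, mul_one])
        rw [this, map_one]
      map_mul' := fun g h => by
        have e := hu (g * h)
        rw [mul_smul, hu h, smul_mul', hu g, mul_assoc] at e
        rw [← mul_left_cancel₀ hπ.ne_zero e, map_mul, hres] }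
  have hcardO : IsUnit ((Nat.card G : ℕ) : O) := by
    rw [← residue_ne_zero_iff_isUnit, map_natCast]; exact hcard
  have hinj : Function.Injective χ := by
    rw [injective_iff_map_eq_one]
    intro g hg
    refine eq_of_smul_eq_smul fun a : O => ?_
    rw [one_smul]
    refine fixed_of_tame g (Nat.card G) pow_card_eq_one' hcardO (htriv g) (fun b hb => ?_) a
    rw [hmax, Ideal.mem_span_singleton'] at hb
    obtain ⟨c, rfl⟩ := hb
    rw [smul_mul', hu, show (g • c) * (π * u g) - c * π = π * ((g • c - c) * u g + c * (u g - 1)) by ring, sq]
    refine Ideal.mul_mem_mul (hmax ▸ Ideal.mem_span_singleton_self π) (Ideal.add_mem _ (Ideal.mul_mem_right _ _ (htriv g c)) (Ideal.mul_mem_left _ _ ?_))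
    rw [← residue_eq_zero_iff, map_sub, map_one, sub_eq_zero]
    exact hg
  exact isCyclic_of_subgroup_isDomain χ hinj

end Groth.Agent.S19856
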