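import Groth.Statements.S1986
import Mathlib
import Groth.Agent.EtRam7.Reflect
import Groth.Agent.S7151
-- import your own Groth.Agent.* helpers here

set_option autoImplicit false
set_option linter.style.haveILetI false
universe u
open EtAlg

namespace Groth.Agent.S1986

/-- Let A -> B be an extension of discrete valuation rings with separable extension of fraction fields
L/K and B a Nagata ring. If some finite extension of K is a solution for A -> B, then some finite
separable extension of K is a solution as well. -/
theorem result (A B K L : Type u) [CommRing A] [IsDomain A] [IsDiscreteValuationRing A]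
    [CommRing B] [IsDomain B] [IsDiscreteValuationRing B] [Algebra A B] [IsLocalHom (algebraMap A B)]
    (hinj : Function.Injective (algebraMap A B))
    [Field K] [Field L] [Algebra A K] [IsFractionRing A K] [Algebra B L] [IsFractionRing B L]
    [Algebra K L] [Algebra A L] [IsScalarTower A K L] [IsScalarTower A B L] [Algebra.IsSeparable K L] (hB : CAlg.IsNagata B)
    (K₂ : Type u) [Field K₂] [Algebra K K₂] [FiniteDimensional K K₂] (h₂ : EtRam.IsSolution B K L K₂) :
    ∃ (K₃ : Type u) (_ : Field K₃) (_ : Algebra K K₃) (_ : FiniteDimensional K K₃) (_ : Algebra.IsSeparable K K₃),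
      EtRam.IsSolution B K L K₃ := by
  classical
  haveI : Algebra.IsGeometricallyReduced K L := Groth.Agent.EtRam7.isGeometricallyReduced_of_isSeparable K L
  obtain ⟨p, hpK⟩ := CharP.exists K
  rcases CharP.char_is_prime_or_zero K p with hp | hp
  swap
  · subst hp
    haveI : CharZero K := CharP.charP_to_charZero K
    exact ⟨K₂, inferInstance, inferInstance, inferInstance, inferInstance, h₂⟩
  haveI := Fact.mk hp
  suffices h : ∀ (n : ℕ) (E : Type u) [Field E] [Algebra K E] [FiniteDimensional K E],
      Field.finInsepDegree K E = n → EtRam.IsSolution B K L E →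
      ∃ (K₃ : Type u) (_ : Field K₃) (_ : Algebra K K₃) (_ : FiniteDimensional K K₃) (_ : Algebra.IsSeparable K K₃),
        EtRam.IsSolution B K L K₃ from h _ K₂ rfl h₂
  intro n
  induction n using Nat.strong_induction_on with
  | _ n ih =>
    intro E _ _ _ hn hE
    by_cases hsep : Algebra.IsSeparable K E
    · exact ⟨E, inferInstance, inferInstance, inferInstance, hsep, hE⟩
    have hS : separableClosure K E ≠ ⊤ := fun h => hsep ((separableClosure.eq_top_iff K E).1 h)
    -- a maximal proper intermediate field containing the separable closure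
    obtain ⟨K₁, ⟨hSK, hK₁⟩, hmax⟩ := (InvImage.wf (fun F : IntermediateField K E => Module.finrank K E - Module.finrank K F) wellFounded_lt).has_min
      {F | separableClosure K E ≤ F ∧ F ≠ ⊤} ⟨_, le_refl _, hS⟩
    haveI : IsPurelyInseparable K₁ E := by
      haveI : IsPurelyInseparable (separableClosure K E) E := inferInstance
      letI : Algebra (separableClosure K E) K₁ := (IntermediateField.inclusion hSK).toRingHom.toAlgebra
      haveI : IsScalarTower (separableClosure K E) K₁ E := IsScalarTower.of_algebraMap_eq fun _ => rfl
      exact IsPurelyInseparable.tower_top (separableClosure K E) K₁ E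
    haveI : CharP K₁ p := charP_of_injective_algebraMap (algebraMap K K₁).injective p
    obtain ⟨x, hx⟩ : ∃ x : E, x ∉ K₁ := by
      by_contra h
      push Not at h
      exact hK₁ (eq_top_iff.2 fun z _ => h z)
    obtain ⟨m, hm⟩ := IsPurelyInseparable.pow_mem K₁ p x
    have hex : ∃ y : E, y ∉ K₁ ∧ y ^ p ∈ K₁ := by
      induction m generalizing x with
      | zero =>
        obtain ⟨c, hc⟩ := hm
        rw [pow_zero, pow_one] at hc
        exact absurd (hc ▸ c.2) hx
      | succ m ihm =>
        by_cases hxp : x ^ p ∈ K₁
        · exact ⟨x, hx, hxp⟩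
        · exact ihm (x ^ p) hxp (by rwa [← pow_mul, ← pow_succ'])
    obtain ⟨y, hy, hyp⟩ := hex
    have hintK₁ : IsIntegral K₁ y := Algebra.IsIntegral.isIntegral y
    have htop : IntermediateField.adjoin K₁ {y} = ⊤ := by
      have h1 : K₁ < (IntermediateField.adjoin K₁ {y}).restrictScalars K := by
        refine lt_of_le_of_ne (fun z hz => (IntermediateField.adjoin K₁ {y}).algebraMap_mem ⟨z, hz⟩) fun h => hy ?_
        rw [h]
        exact IntermediateField.mem_adjoin_simple_self K₁ y
      by_contra hne
      refine hmax _ ⟨hSK.trans h1.le, fun h => hne ?_⟩ (show _ - _ < _ - _ from ?_)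
      swap
      · have h3 : Module.finrank K K₁ < Module.finrank K ((IntermediateField.adjoin K₁ {y}).restrictScalars K) :=
          not_le.1 fun h4 => h1.ne (IntermediateField.eq_of_le_of_finrank_le h1.le h4)
        have h4 := ((IntermediateField.adjoin K₁ {y}).restrictScalars K).toSubalgebra.toSubmodule.finrank_le
        exact Nat.sub_lt_sub_left (lt_of_lt_of_le h3 h4) h3
      exact eq_top_iff.2 fun z _ => (h.symm ▸ IntermediateField.mem_top :
        z ∈ (IntermediateField.adjoin K₁ {y}).restrictScalars K)
    have hdeg : Module.finrank K₁ E = p := by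
      rw [← IntermediateField.finrank_top', ← htop, IntermediateField.adjoin.finrank hintK₁,
        ← minpoly.eq_of_irreducible_of_monic (X_pow_sub_C_irreducible_of_prime hp (a := (⟨y ^ p, hyp⟩ : K₁)) fun b hb => hy (by
          haveI : CharP E p := charP_of_injective_algebraMap (algebraMap K E).injective p
          have h2 : (b : E) = y := by
            apply frobenius_inj E p
            rw [frobenius_def, frobenius_def]
            exact congrArg Subtype.val hb
          exact h2 ▸ b.2)) (by
          rw [map_sub, map_pow, Polynomial.aeval_X, Polynomial.aeval_C]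
          exact sub_self _)
          (Polynomial.monic_X_pow_sub_C _ hp.ne_zero), Polynomial.natDegree_X_pow_sub_C]
    obtain ⟨K₃, _, _, _, _, hfin, hsep₃, hK₃⟩ :=
      S7151.result p hp A B K L hinj hB K₁ E hE hdeg
    haveI : FiniteDimensional K K₃ := Module.Finite.trans K₁ K₃
    refine ih _ ?_ K₃ rfl hK₃
    rw [← hn, ← Field.finInsepDegree_mul_finInsepDegree_of_isAlgebraic K K₁ K₃,
      ← Field.finInsepDegree_mul_finInsepDegree_of_isAlgebraic K K₁ E, Algebra.IsSeparable.finInsepDegree_eq K₁ K₃,
      IsPurelyInseparable.finInsepDegree_eq K₁ E, hdeg, mul_one]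
    refine lt_mul_of_one_lt_right ?_ hp.one_lt
    show 0 < Module.finrank (separableClosure K K₁) K₁
    exact Module.finrank_pos

end Groth.Agent.S1986
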