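import Groth.Statements.S19860
import Groth.Agent.FlatG.RelStrata

set_option autoImplicit false
universe u
open CategoryTheory CategoryTheory.Limits AlgebraicGeometry
open Variety

namespace Groth.Agent.S19860
open Groth.Agent


/-- Let A be a Noetherian local integral domain, f : X ⟶ Spec A a proper morphism, L an invertible
O_X-module ample relative to f and F a coherent O_X-module. Then F is flat over Spec A if and only
if the Hilbert polynomials of F on the generic fibre and on the closed fibre coincide: for every n ≥
0 the Euler characteristic, over the fraction field, of the pullback of F ⊗ L^{⊗n} to the fibre over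
the generic point equals the Euler characteristic, over the residue field, of its pullback to the
fibre over the closed point. (The source works with k-schemes of finite type over an algebraically
closed field of characteristic zero, A a local integral k-algebra and f projective with a relatively
very ample O(1); the argument uses only that A is a Noetherian local domain and that some power of L
is relatively very ample, so it is stated here for proper f with an f-ample L and no base field.) -/
theorem result
    (A : Type u) [CommRing A] [IsDomain A] [IsNoetherianRing A] [IsLocalRing A]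
    (X : Scheme.{u}) (f : X ⟶ Spec (CommRingCat.of A)) [IsProper f]
    (L : X.Modules) (hL : RelAmple.IsRelAmple f L) (F : X.Modules) (hF : Coh.IsCoh F) :
    FlatMod.IsFlatOver f F ↔
      ∀ n : ℕ,
        @Curv2.euler ((Spec (CommRingCat.of A)).residueField (⊥ : PrimeSpectrum A)) _ (f.fiber (⊥ : PrimeSpectrum A))
          ⟨f.fiberToSpecResidueField (⊥ : PrimeSpectrum A)⟩
          ((Scheme.Modules.pullback (f.fiberι (⊥ : PrimeSpectrum A))).obj (CohB1.tensorMod F (CohB1.tensorPow L n))) =
        @Curv2.euler ((Spec (CommRingCat.of A)).residueField (IsLocalRing.closedPoint A)) _ (f.fiber (IsLocalRing.closedPoint A))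
          ⟨f.fiberToSpecResidueField (IsLocalRing.closedPoint A)⟩
          ((Scheme.Modules.pullback (f.fiberι (IsLocalRing.closedPoint A))).obj (CohB1.tensorMod F (CohB1.tensorPow L n))) := by
  haveI : LocallyOfFinitePresentation f := LocallyOfFinitePresentation.iff_locallyOfFiniteType.2 inferInstance
  haveI : IsLocallyNoetherian X := LocallyOfFiniteType.isLocallyNoetherian f
  have hLi := AmpleX.isInvertible_of_isRelAmple hL
  have hfp : CohB1.IsFP F := QCoh.isCoh_iff_isFP.1 hF
  let S := Spec (CommRingCat.of A)
  let c : S := IsLocalRing.closedPoint A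
  let η : S := (⊥ : PrimeSpectrum A)
  let hil := FlatG.hilRel f L F hLi hfp
  have hsq : IsPullback (𝟙 X) f f (𝟙 S) := IsPullback.of_horiz_isIso ⟨(Category.id_comp f).trans (Category.comp_id f).symm⟩
  have hiff : FlatMod.IsFlatOver f F ↔ FlatG.FlatC f F (𝟙 S) := by
    rw [← FlatG.flatC_id_iff f F hsq hF.1]
    exact ⟨LimModLib.isFlatOver_of_iso f ((Scheme.Modules.pullbackId X).app F).symm,
      LimModLib.isFlatOver_of_iso f ((Scheme.Modules.pullbackId X).app F)⟩
  have hloc := fun U : S.affineOpens => FlatG.localStrata_rel f L F hLi hfp hL U.2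
  have hgen : ∀ s : S, η ⤳ s ∧ s ⤳ c := fun s =>
    ⟨(PrimeSpectrum.le_iff_specializes η s).1 bot_le,
      (PrimeSpectrum.le_iff_specializes s c).1 (IsLocalRing.le_maximalIdeal s.2.ne_top)⟩
  have heq : hil η = hil c ↔ ∀ n : ℕ, FlatG.chiFib f L F η n = FlatG.chiFib f L F c n := by
    refine (FlatG.hilRel_eq_iff f L F hLi hfp η _).trans (forall_congr' fun n => ?_)
    rw [← FlatG.hilRel_spec f L F hLi hfp c n, Int.cast_inj]
  rw [hiff]
  refine Iff.trans ⟨fun h => ?_, fun h => ?_⟩ heq
  · have h1 := FlatG.isLocallyConstant_hil hF.1 (iSup_affineOpens_eq_top S) hloc (𝟙 S) h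
    obtain ⟨U, hU, hcU, hc⟩ := (IsLocallyConstant.iff_exists_open _).1 h1 c
    exact hc η ((hgen c).1.mem_open hU hcU)
  · refine FlatG.flatC_id_of_locallyConstant f L F hLi hfp hL (IsLocallyConstant.of_constant _ ?_)
    suffices hall : ∀ s, hil s = hil c from fun s t => (hall s).trans (hall t).symm
    intro s
    have h1 : FlatG.EvLE (hil c) (hil s) := by
      have hmem : η ∈ {t | FlatG.EvLE (hil c) (hil t)} := by
        show FlatG.EvLE (hil c) (hil η)
        rw [h]
        exact FlatG.evLE_refl _
      exact (hgen s).1.mem_closed (FlatG.isClosed_evLE (f := f) (F := F) (iSup_affineOpens_eq_top S) hloc _) hmem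
    have h2 : FlatG.EvLE (hil s) (hil c) :=
      (hgen s).2.mem_closed (FlatG.isClosed_evLE (f := f) (F := F) (iSup_affineOpens_eq_top S) hloc _)
        (FlatG.evLE_refl (hil s) : s ∈ {t | FlatG.EvLE (hil s) (hil t)})
    obtain ⟨N, hN⟩ := FlatG.evLE_iff.1 h1
    obtain ⟨M, hM⟩ := FlatG.evLE_iff.1 h2
    exact HilbPoly.poly_ext (max N M) fun n hn => le_antisymm (hM n (le_trans (le_max_right N M) hn)) (hN n (le_trans (le_max_left N M) hn))

end Groth.Agent.S19860
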