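import Groth.Statements.S19863
import Groth.Agent.FormCat.OnePlus
import Groth.Agent.FlatLoc6.BaseChangeEss
import Groth.Agent.FlatLoc6.RegCM

set_option autoImplicit false
universe u
open EGA4

namespace Groth.Agent.S19863

/-- Let A be a Noetherian ring, J a proper ideal of A, Â the J-adic completion and A_T the localization
of A at T = 1 + J. If the canonical map A → Â is a regular homomorphism (flat, with Noetherian
geometrically regular fibres), then A_T is a regular ring if and only if Â is a regular ring
(Noetherian, with regular local rings at all primes). (The cases of the henselization of the pair
and of the weak completion are not stated here.) -/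
theorem result
    (A : Type u) [CommRing A] [IsNoetherianRing A] (J : Ideal A) (hJ : J ≠ ⊤)
    (hf : CAlg.IsRegularHom A (AdicCompletion J A))
    (T : Submonoid A) (hT : T = MonoidHom.mker (Ideal.Quotient.mk J)) :
    IsRegularRing (Localization T) ↔ IsRegularRing (AdicCompletion J A) := by
    obtain ⟨_, _, hff, ⟨e⟩⟩ := FormCat.exists_onePlus A J hJ T hT
    haveI := hff
    haveI : IsNoetherianRing (AdicCompletion J A) := FormalFib6.isNoetherianRing_adicCompletion A J
    haveI : IsNoetherianRing (Localization T) := IsLocalization.isNoetherianRing T _ inferInstance
    haveI : Algebra.EssFiniteType A (Localization T) := Algebra.EssFiniteType.of_isLocalization _ T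
    have hr := FormalFib6.isRegularHom_of_algEquiv e
      (FlatLoc6.isRegularHom_baseChange_ess A (AdicCompletion J A) (Localization T) hf)
    constructor
    · intro h
      haveI := h
      exact FlatLoc6.regular_of_flat_of_fibres (Localization T) (AdicCompletion J A)
        fun p _ => FlatLoc6.isRegularRing_of_geometricallyRegular (hr.2 p).2
    · intro h
      haveI := h
      exact S9406.result (Localization T) (AdicCompletion J A)

end Groth.Agent.S19863
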