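import Groth.Statements.S19868
import Groth.Agent.PLieLib.Rank3
-- import your own Groth.Agent.* helpers here

set_option autoImplicit false
universe u v
open PLie

namespace Groth.Agent.S19868

set_option maxHeartbeats 4000000

open DualNumber in
/-- Let K be a field of prime characteristic p, K[ε] the ring of dual numbers (taken with its
characteristic-p structure) and a, …, i ∈ K. Let L be a Lie algebra over K[ε], free as a module with
basis x = bs 0, y = bs 1, z = bs 2 and brackets [x,y] = aε x + bε y + cε z, [x,z] = dε x + eε y + fε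
z, [y,z] = (1 + gε) x + hε y + iε z, a first-order deformation of the Heisenberg algebra (the Jacobi
identity forces b + f = 0). Then L carries a p-mapping over K[ε] if and only if b = c = e = 0 when p
= 2; for odd p there is no condition. (The published statement is about the singularity of the point
h_3 in the restrictable locus of the rank-one-centre stratum of the moduli scheme of based
three-dimensional Lie algebras over the prime field; this row states the restrictability criterion
for the first-order deformations of h_3 asserted in its proof, over any field of characteristic p in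
place of the prime field.) -/
theorem result (K : Type u) [Field K] (p : ℕ) [Fact p.Prime] [CharP K p]
    [CharP (DualNumber K) p] (a b c d e f g h i : K)
    (L : Type v) [LieRing L] [LieAlgebra (DualNumber K) L] (bs : Module.Basis (Fin 3) (DualNumber K) L)
    (hxy : ⁅bs 0, bs 1⁆ = (a • ε : DualNumber K) • bs 0 + (b • ε : DualNumber K) • bs 1 + (c • ε : DualNumber K) • bs 2)
    (hxz : ⁅bs 0, bs 2⁆ = (d • ε : DualNumber K) • bs 0 + (e • ε : DualNumber K) • bs 1 + (f • ε : DualNumber K) • bs 2)
    (hyz : ⁅bs 1, bs 2⁆ = (1 + g • ε : DualNumber K) • bs 0 + (h • ε : DualNumber K) • bs 1 + (i • ε : DualNumber K) • bs 2) :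
    Nonempty (PLie.PMap (DualNumber K) p L) ↔ (p = 2 → b = 0 ∧ c = 0 ∧ e = 0) := by
  classical
  have hp : p.Prime := Fact.out
  let M := Groth.Agent.PLieLib.mk2 (K := K)
  let A : Fin 3 → DualNumber K := ![M 0 a, M 0 b, M 0 c]
  let B : Fin 3 → DualNumber K := ![M 0 d, M 0 e, M 0 f]
  let C : Fin 3 → DualNumber K := ![M 1 g, M 0 h, M 0 i]
  have sm : ∀ u : K, (u • ε : DualNumber K) = M 0 u := fun u => by
    apply Groth.Agent.PLieLib.dual_ext <;> simp [M]
  have hA : ⁅bs 0, bs 1⁆ = Groth.Agent.PLieLib.el bs A := by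
    rw [hxy, Groth.Agent.PLieLib.el, sm a, sm b, sm c]; rfl
  have hB : ⁅bs 0, bs 2⁆ = Groth.Agent.PLieLib.el bs B := by
    rw [hxz, Groth.Agent.PLieLib.el, sm d, sm e, sm f]; rfl
  have hC : ⁅bs 1, bs 2⁆ = Groth.Agent.PLieLib.el bs C := by
    have e1 : (1 + g • ε : DualNumber K) = M 1 g := by
      apply Groth.Agent.PLieLib.dual_ext <;> simp [M]
    rw [hyz, Groth.Agent.PLieLib.el, e1, sm h, sm i]; rfl
  let s : Fin 3 → Fin 3 → DualNumber K := fun m => Pi.single m 1
  rw [Groth.Agent.PLieLib.nonempty_pmap_iff_coords bs p hA hB hC]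
  have hfb : f + b = 0 := by
    have h1 := congrArg TrivSqZeroExt.snd (congrFun
      (Groth.Agent.PLieLib.jacobi_coords bs hA hB hC (s 0) (s 1) (s 2)) 0)
    simp [s, A, B, C, M, Groth.Agent.PLieLib.br] at h1
    linear_combination -h1
  have hz0 : ∀ (U : Fin 3 → DualNumber K) (n : ℕ), (Groth.Agent.PLieLib.br A B C U)^[n] 0 = 0 := fun U n =>
    Function.iterate_fixed (funext fun l => by simp [Groth.Agent.PLieLib.br]) n
  have hbig : ∀ (U : Fin 3 → DualNumber K) (k : ℕ), k ≤ p →
      (∀ j, (Groth.Agent.PLieLib.br A B C U)^[k] (s j) = 0) → ∃ W, ∀ j,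
      (Groth.Agent.PLieLib.br A B C U)^[p] (Pi.single j 1) = Groth.Agent.PLieLib.br A B C W (Pi.single j 1) :=
    fun U k hk h0 => ⟨0, fun j => by
      obtain ⟨r, rfl⟩ := Nat.exists_eq_add_of_le hk
      rw [add_comm k r, Function.iterate_add_apply]
      refine (congrArg _ (h0 j)).trans ((hz0 U r).trans ?_)
      funext l; simp [Groth.Agent.PLieLib.br]⟩
  constructor
  · intro hall h2
    subst h2
    obtain ⟨V, hV⟩ := hall 1
    obtain ⟨W, hW⟩ := hall 2
    have a1 := congrArg TrivSqZeroExt.snd (congrFun (hV 0) 0)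
    have a2 := congrArg TrivSqZeroExt.fst (congrFun (hV 1) 0)
    have a3 := congrArg TrivSqZeroExt.fst (congrFun (hV 2) 0)
    have a4 := congrArg TrivSqZeroExt.snd (congrFun (hV 1) 1)
    have a5 := congrArg TrivSqZeroExt.snd (congrFun (hV 2) 2)
    have a6 := congrArg TrivSqZeroExt.snd (congrFun (hV 2) 1)
    have c1 := congrArg TrivSqZeroExt.snd (congrFun (hW 0) 0)
    have c2 := congrArg TrivSqZeroExt.fst (congrFun (hW 1) 0)
    have c3 := congrArg TrivSqZeroExt.fst (congrFun (hW 2) 0)
    simp [A, B, C, M, Groth.Agent.PLieLib.br, Function.iterate_succ_apply'] at a1 a2 a3 a4 a5 a6 c1 c2 c3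
    refine ⟨?_, ?_, ?_⟩ <;> grind
  · intro hcond m
    fin_cases m
    · refine hbig _ 2 hp.two_le fun j => ?_
      show Groth.Agent.PLieLib.br A B C _ (Groth.Agent.PLieLib.br A B C _ _) = _
      fin_cases j <;> (funext l; fin_cases l) <;> apply Groth.Agent.PLieLib.dual_ext <;>
        simp [s, A, B, C, M, Groth.Agent.PLieLib.br]
    all_goals
      rcases (show p = 2 ∨ p = 3 ∨ 4 ≤ p by have := hp.two_le; omega) with h2 | h3 | h4
    · subst h2
      obtain ⟨hb, hc, he⟩ := hcond rfl
      have hf : f = 0 := by linear_combination hfb - hb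
      refine ⟨![M 0 0, M 0 (i - a), M 0 0], fun j => ?_⟩
      show Groth.Agent.PLieLib.br A B C _ (Groth.Agent.PLieLib.br A B C _ _) = _
      fin_cases j <;> (funext l; fin_cases l) <;> apply Groth.Agent.PLieLib.dual_ext <;>
        simp [A, B, C, M, Groth.Agent.PLieLib.br, hb, hc, he, hf] <;> ring
    · subst h3
      refine ⟨![M 0 0, M 0 (-c), M 0 0], fun j => ?_⟩
      show Groth.Agent.PLieLib.br A B C _ (Groth.Agent.PLieLib.br A B C _ (Groth.Agent.PLieLib.br A B C _ _)) = _
      fin_cases j <;> (funext l; fin_cases l) <;> apply Groth.Agent.PLieLib.dual_ext <;>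
        simp [A, B, C, M, Groth.Agent.PLieLib.br] <;> ring
    · refine hbig _ 4 h4 fun j => ?_
      show Groth.Agent.PLieLib.br A B C _ (Groth.Agent.PLieLib.br A B C _ (Groth.Agent.PLieLib.br A B C _
        (Groth.Agent.PLieLib.br A B C _ _))) = _
      fin_cases j <;> (funext l; fin_cases l) <;> apply Groth.Agent.PLieLib.dual_ext <;>
        simp [s, A, B, C, M, Groth.Agent.PLieLib.br] <;> ring
    · subst h2
      obtain ⟨hb, hc, he⟩ := hcond rfl
      have hf : f = 0 := by linear_combination hfb - hb
      refine ⟨![M 0 0, M 0 0, M 0 (-(d + h))], fun j => ?_⟩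
      show Groth.Agent.PLieLib.br A B C _ (Groth.Agent.PLieLib.br A B C _ _) = _
      fin_cases j <;> (funext l; fin_cases l) <;> apply Groth.Agent.PLieLib.dual_ext <;>
        simp [A, B, C, M, Groth.Agent.PLieLib.br, hb, hc, he, hf] <;> ring
    · subst h3
      refine ⟨![M 0 0, M 0 0, M 0 e], fun j => ?_⟩
      show Groth.Agent.PLieLib.br A B C _ (Groth.Agent.PLieLib.br A B C _ (Groth.Agent.PLieLib.br A B C _ _)) = _
      fin_cases j <;> (funext l; fin_cases l) <;> apply Groth.Agent.PLieLib.dual_ext <;>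
        simp [A, B, C, M, Groth.Agent.PLieLib.br] <;> ring
    · refine hbig _ 4 h4 fun j => ?_
      show Groth.Agent.PLieLib.br A B C _ (Groth.Agent.PLieLib.br A B C _ (Groth.Agent.PLieLib.br A B C _
        (Groth.Agent.PLieLib.br A B C _ _))) = _
      fin_cases j <;> (funext l; fin_cases l) <;> apply Groth.Agent.PLieLib.dual_ext <;>
        simp [s, A, B, C, M, Groth.Agent.PLieLib.br] <;> ring

end Groth.Agent.S19868
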