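import Groth.Statements.S1987
import Mathlib
-- import your own Groth.Agent.* helpers here

set_option autoImplicit false
universe u
open Polynomial
open EtAlg

namespace Groth.Agent.S1987

theorem totallyRamified_of_uniformizer {A : Type u} [CommRing A] [IsLocalRing A] (π : A)
    (hπ : IsLocalRing.maximalIdeal A = Ideal.span {π}) {B : Type u} [CommRing B] [IsDomain B]
    [IsDiscreteValuationRing B] [Algebra A B] (r : B) (hr : IsLocalRing.maximalIdeal B = Ideal.span {r})
    (n : ℕ) (hn : n ≠ 0) (hrn : r ^ n = algebraMap A B π) [Algebra.IsIntegral A B]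
    (hsplit : ∀ b : B, ∃ a : A, ∃ b' : B, b = algebraMap A B a + r * b')
    (K₁ : Type u) [Field K₁] [Algebra B K₁] [IsFractionRing B K₁] :
    EtRam.IsTotallyRamified A ((algebraMap B K₁).comp (algebraMap A B)) := by
  set g := (algebraMap B K₁).comp (algebraMap A B)
  have hrπ : algebraMap B K₁ r ^ n = g π := by
    rw [← map_pow, hrn]; rfl
  have hr0 : algebraMap B K₁ r ≠ 0 := by
    rw [Ne, IsFractionRing.to_map_eq_zero_iff]
    intro h
    exact IsDiscreteValuationRing.not_a_field B (by rw [hr, h]; simp)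
  have inj := IsFractionRing.injective B K₁
  let V₀ : ValuationSubring K₁ :=
    ⟨(algebraMap B K₁).range, fun x => by
      rcases ValuationRing.isInteger_or_isInteger B x with ⟨b, hb⟩ | ⟨b, hb⟩
      · exact Or.inl ⟨b, hb⟩
      · exact Or.inr ⟨b, hb⟩⟩
  have hmem : ∀ x, x ∈ V₀ ↔ ∃ b, algebraMap B K₁ b = x := fun x => Iff.rfl
  -- everything dominating `A` is `V₀`
  have huniq : ∀ V : ValuationSubring K₁, EtRam.Dominates A g V →
      V.valuation (algebraMap B K₁ r) < 1 ∧ V = V₀ := by
    intro V hV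
    have hπV := hV.2 π (hπ ▸ Ideal.mem_span_singleton_self π)
    have hrV : V.valuation (algebraMap B K₁ r) < 1 := by
      by_contra hlt
      rw [not_lt] at hlt
      apply absurd hπV
      rw [not_lt, ← hrπ, map_pow]
      exact one_le_pow₀ hlt
    have hB : ∀ b, algebraMap B K₁ b ∈ V := by
      intro b
      obtain ⟨P, hP, hPb⟩ := Algebra.IsIntegral.isIntegral (R := A) b
      let g' : A →+* V := g.codRestrict V hV.1
      have : IsIntegral V (algebraMap B K₁ b) := by
        refine ⟨P.map g', hP.map g', ?_⟩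
        rw [eval₂_map]
        have : (algebraMap V K₁).comp g' = (algebraMap B K₁).comp (algebraMap A B) := RingHom.ext fun _ => rfl
        rw [this, ← hom_eval₂, hPb, map_zero]
      obtain ⟨v, hv⟩ := IsIntegrallyClosed.isIntegral_iff.1 this
      rw [← hv]; exact v.2
    refine ⟨hrV, ?_⟩
    ext x
    refine ⟨fun hx => ?_, fun ⟨b, hb⟩ => hb ▸ hB b⟩
    rcases ValuationRing.isInteger_or_isInteger B x with ⟨b, hb⟩ | ⟨b, hb⟩
    · exact ⟨b, hb⟩
    rcases eq_or_ne x 0 with rfl | hx0
    · exact zero_mem V₀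
    by_cases hu : IsUnit b
    · obtain ⟨u, rfl⟩ := hu
      refine ⟨↑u⁻¹, ?_⟩
      rw [map_units_inv, hb, inv_inv]
    · exfalso
      have hbm : b ∈ Ideal.span {r} := hr ▸ (IsLocalRing.mem_maximalIdeal b).2 hu
      obtain ⟨c, rfl⟩ := Ideal.mem_span_singleton.1 hbm
      have h1 : algebraMap B K₁ r * (algebraMap B K₁ c * x) = 1 := by
        rw [← mul_assoc, ← map_mul, hb, inv_mul_cancel₀ hx0]
      have h2 := congrArg V.valuation h1
      rw [map_mul, map_one] at h2
      have h3 : V.valuation (algebraMap B K₁ c * x) ≤ 1 :=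
        (V.valuation_le_one_iff _).2 (mul_mem (hB c) hx)
      exact absurd h2 (ne_of_lt (mul_lt_one_of_lt_of_le hrV h3))
  refine ⟨⟨V₀, fun a => ⟨algebraMap A B a, rfl⟩, fun a ha => ?_⟩, fun V V' h h' =>
    (huniq V h).2.trans (huniq V' h').2.symm, fun V hV x => ?_⟩
  · rw [hπ, Ideal.mem_span_singleton] at ha
    obtain ⟨c, rfl⟩ := ha
    have hrlt : V₀.valuation (algebraMap B K₁ r) < 1 := by
      let r' : V₀ := ⟨_, r, rfl⟩
      refine (V₀.valuation_lt_one_iff r').1 ((IsLocalRing.mem_maximalIdeal _).2 fun hu => ?_)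
      obtain ⟨⟨y, b, rfl⟩, hy⟩ := hu.exists_left_inv
      have : algebraMap B K₁ (b * r) = algebraMap B K₁ 1 := by
        rw [map_mul, map_one]; exact congrArg Subtype.val hy
      exact (IsLocalRing.mem_maximalIdeal r).1 (hr ▸ Ideal.mem_span_singleton_self r)
        (IsUnit.of_mul_eq_one_right _ (inj this))
    rw [map_mul, map_mul, ← hrπ, map_pow]
    exact mul_lt_one_of_lt_of_le (pow_lt_one₀ zero_le hrlt hn)
      ((V₀.valuation_le_one_iff _).2 ⟨algebraMap A B c, rfl⟩)
  · obtain ⟨hrV, e⟩ := huniq V hV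
    obtain ⟨⟨v, hv⟩, rfl⟩ := IsLocalRing.residue_surjective x
    obtain ⟨b, rfl⟩ := (hmem v).1 (e ▸ hv)
    obtain ⟨a, b', rfl⟩ := hsplit b
    refine ⟨a, ?_⟩
    have hmemV : ∀ c, algebraMap B K₁ c ∈ V := fun c => by
      rw [e]; exact ⟨c, rfl⟩
    symm
    rw [← sub_eq_zero, ← map_sub, IsLocalRing.residue_eq_zero_iff, V.valuation_lt_one_iff]
    have : ((⟨_, hv⟩ - RingHom.codRestrict g V hV.1 a : V) : K₁) = algebraMap B K₁ r * algebraMap B K₁ b' := by
      push_cast
      simp [g, RingHom.codRestrict]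
    rw [this, map_mul]
    exact mul_lt_one_of_lt_of_le hrV ((V.valuation_le_one_iff _).2 (hmemV b'))

/-- Let A be a discrete valuation ring with uniformizer π and n ≥ 2, and let A' = A[x]/(x^n - π). Then
x^n - π is irreducible over A, A' is an integrally closed discrete valuation ring (so it is the
integral closure of A in its fraction field K₁ = K(π^{1/n}), of degree n over K), the maximal ideal
of A generates the n-th power of the maximal ideal of A' (ramification index n), and K₁ is totally
ramified with respect to A. -/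
theorem result (A : Type u) [CommRing A] [IsDomain A] [IsDiscreteValuationRing A] (π : A)
    (hπ : Irreducible π) (n : ℕ) (hn : 2 ≤ n) :
    Irreducible (X ^ n - C π : A[X]) ∧
    ∃ (_ : IsDomain (AdjoinRoot (X ^ n - C π : A[X]))) (_ : IsDiscreteValuationRing (AdjoinRoot (X ^ n - C π : A[X]))),
      IsIntegrallyClosed (AdjoinRoot (X ^ n - C π : A[X])) ∧
      (IsLocalRing.maximalIdeal A).map (algebraMap A (AdjoinRoot (X ^ n - C π : A[X]))) = IsLocalRing.maximalIdeal (AdjoinRoot (X ^ n - C π : A[X])) ^ n ∧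
      ∀ (K₁ : Type u) [Field K₁] [Algebra (AdjoinRoot (X ^ n - C π : A[X])) K₁] [IsFractionRing (AdjoinRoot (X ^ n - C π : A[X])) K₁],
        EtRam.IsTotallyRamified A ((algebraMap (AdjoinRoot (X ^ n - C π : A[X])) K₁).comp (algebraMap A (AdjoinRoot (X ^ n - C π : A[X])))) := by
  classical
  set f := (X ^ n - C π : A[X]) with hf
  set B := AdjoinRoot f
  set m := IsLocalRing.maximalIdeal A with hm
  have hmπ : m = Ideal.span {π} := hπ.maximalIdeal_eq
  have hn0 : n ≠ 0 := by omega
  have hmonic : f.Monic := monic_X_pow_sub_C π hn0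
  have hdeg : f.natDegree = n := natDegree_X_pow_sub_C
  have hπm : π ∈ m := hmπ ▸ Ideal.mem_span_singleton_self π
  have heis : f.IsEisensteinAt m := by
    refine hmonic.isEisensteinAt_of_mem_of_notMem (Ideal.IsPrime.ne_top inferInstance) (fun {i} hi => ?_) ?_
    · rw [hf, coeff_sub, coeff_X_pow, if_neg (by omega), zero_sub, coeff_C]
      split
      · exact neg_mem hπm
      · simp
    · rw [hf, coeff_sub, coeff_X_pow, if_neg (by omega), zero_sub, coeff_C_zero, neg_mem_iff, hmπ,
        Ideal.span_singleton_pow, Ideal.mem_span_singleton]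
      intro ⟨c, hc⟩
      have h1 : π * (π * c) = π * 1 := by rw [mul_one, ← mul_assoc, ← sq]; exact hc.symm
      exact hπ.not_isUnit (IsUnit.of_mul_eq_one _ (mul_left_cancel₀ hπ.ne_zero h1))
  have hirr : Irreducible f := heis.irreducible inferInstance hmonic.isPrimitive (by omega)
  have : IsDomain B := AdjoinRoot.isDomain_of_prime hirr.prime
  have : Module.Finite A B := hmonic.finite_adjoinRoot
  have : IsNoetherianRing B := IsNoetherianRing.of_finite A B
  set r := AdjoinRoot.root f with hr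
  have hrn : r ^ n = algebraMap A B π := by
    have := AdjoinRoot.eval₂_root f
    simp only [hf, eval₂_sub, eval₂_pow, eval₂_X, eval₂_C, sub_eq_zero] at this
    exact this
  have hinj : Function.Injective (algebraMap A B) :=
    AdjoinRoot.of.injective_of_degree_ne_zero (by rw [degree_X_pow_sub_C (by omega)]; exact_mod_cast hn0)
  have hsplit : ∀ b : B, ∃ a : A, ∃ b' : B, b = algebraMap A B a + r * b' := by
    intro b
    obtain ⟨P, rfl⟩ := AdjoinRoot.mk_surjective b
    refine ⟨P.coeff 0, AdjoinRoot.mk f P.divX, ?_⟩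
    conv_lhs => rw [← X_mul_divX_add P, map_add, map_mul, AdjoinRoot.mk_X, AdjoinRoot.mk_C]
    rw [add_comm]; rfl
  have hint : Algebra.IsIntegral A B := Algebra.IsIntegral.of_finite A B
  have hmax : ∀ M : Ideal B, M.IsMaximal → M = Ideal.span {r} := by
    intro M hM
    have hc : (M.comap (algebraMap A B)).IsMaximal := Ideal.isMaximal_comap_of_isIntegral_of_isMaximal M
    have hcm : M.comap (algebraMap A B) = m := IsLocalRing.eq_maximalIdeal hc
    have hrM : r ∈ M := hM.isPrime.mem_of_pow_mem n (by rw [hrn, ← Ideal.mem_comap, hcm]; exact hπm)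
    refine le_antisymm (fun b hb => ?_) ((Ideal.span_singleton_le_iff_mem _).2 hrM)
    obtain ⟨a, b', rfl⟩ := hsplit b
    have ha : a ∈ m := hcm ▸ Ideal.mem_comap.2 ((Ideal.add_mem_iff_left M (Ideal.mul_mem_right _ _ hrM)).1 hb)
    rw [hmπ, Ideal.mem_span_singleton] at ha
    obtain ⟨c, rfl⟩ := ha
    refine add_mem ?_ (Ideal.mul_mem_right _ _ (Ideal.mem_span_singleton_self r))
    rw [map_mul, ← hrn, Ideal.mem_span_singleton]
    exact Dvd.dvd.mul_right (dvd_pow_self r hn0) _
  have : IsLocalRing B := by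
    obtain ⟨M, hM⟩ := Ideal.exists_maximal B
    exact IsLocalRing.of_unique_max_ideal ⟨M, hM, fun M' hM' => (hmax M' hM').trans (hmax M hM).symm⟩
  have hmaxB : IsLocalRing.maximalIdeal B = Ideal.span {r} := hmax _ inferInstance
  have hnf : ¬ IsField B := by
    rw [IsLocalRing.isField_iff_maximalIdeal_eq, hmaxB, Ideal.span_singleton_eq_bot]
    intro h
    rw [h, zero_pow hn0] at hrn
    exact hπ.ne_zero (hinj (by rw [← hrn, map_zero]))
  have hdvr : IsDiscreteValuationRing B :=
    (((IsDiscreteValuationRing.TFAE B hnf).out 4 0 :) : (IsLocalRing.maximalIdeal B).IsPrincipal ↔ IsDiscreteValuationRing B).1 ⟨⟨r, hmaxB⟩⟩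
  refine ⟨hirr, inferInstance, hdvr, inferInstance, ?_, fun K₁ _ _ _ => ?_⟩
  · rw [hmaxB, hmπ, Ideal.map_span, Set.image_singleton, ← hrn, Ideal.span_singleton_pow]
  · exact totallyRamified_of_uniformizer π hmπ r hmaxB n hn0 hrn hsplit K₁

end Groth.Agent.S1987
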