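import Groth.Statements.S19877
import Groth.Agent.Torelli18.Main

set_option autoImplicit false
set_option backward.isDefEq.respectTransparency false
set_option backward.isDefEq.respectTransparency.types false
set_option linter.style.haveILetI false
set_option maxHeartbeats 1000000
set_option synthInstance.maxHeartbeats 400000
universe u
open CategoryTheory CategoryTheory.Limits AlgebraicGeometry MonoidalCategory CartesianMonoidalCategory MonObj
open JacVar

namespace Groth.Agent.S19877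

/-- Let k be an algebraically closed field, C and C' smooth proper connected curves of the same genus g
≥ 2 over k with k-points P and P', (J, ψ) and (J', ψ') their Jacobians (commutative group schemes
over k, coarse moduli schemes on all k-schemes for degree-0 line bundles modulo twisting from the
base, group law induced by tensor product), j and j' the Abel maps with base points P and P', and β
: J ≅ J' an isomorphism of group schemes over k. Fix a sign s ∈ {1, −1}. If isomorphisms α₁, α₂ : C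
≅ C' over k and k-points c₁, c₂ of J' satisfy j' ∘ α_i = (β ∘ j)^s · c_i for i = 1, 2 (group of
morphisms C ⟶ J'), then α₁ = α₂ and c₁ = c₂. This holds whether or not C is hyperelliptic; for C not
hyperelliptic the sign is determined as well, which is a separate statement. (The published
statement takes β an isomorphism of the canonically polarized Jacobians; this row allows any
isomorphism of group schemes β.) -/
theorem result (k : Type u) [Field k] [IsAlgClosed k]
    (C : Scheme.{u}) [C.Over (Spec (CommRingCat.of k))]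
    [IsProper (C ↘ Spec (CommRingCat.of k))] [Smooth (C ↘ Spec (CommRingCat.of k))] [GeometricallyConnected (C ↘ Spec (CommRingCat.of k))]
    (hdim : topologicalKrullDim ↥C = 1)
    (C' : Scheme.{u}) [C'.Over (Spec (CommRingCat.of k))]
    [IsProper (C' ↘ Spec (CommRingCat.of k))] [Smooth (C' ↘ Spec (CommRingCat.of k))] [GeometricallyConnected (C' ↘ Spec (CommRingCat.of k))]
    (hdim' : topologicalKrullDim ↥C' = 1)
    (g : ℕ) (hg : Curv2.genus k C = g) (hg' : Curv2.genus k C' = g) (hg2 : 2 ≤ g)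
    (σ : Spec (CommRingCat.of k) ⟶ C) (hσ : σ ≫ (C ↘ Spec (CommRingCat.of k)) = 𝟙 _) (σ' : Spec (CommRingCat.of k) ⟶ C') (hσ' : σ' ≫ (C' ↘ Spec (CommRingCat.of k)) = 𝟙 _)
    (J : Over (Spec (CommRingCat.of k))) [GrpObj J] [IsCommMonObj J]
    (ψ : (ModFun.PicDeg (C ↘ Spec (CommRingCat.of k)) 0).Hom ⊤ J) (hJ : Jac.IsJacobian (C ↘ Spec (CommRingCat.of k)) ⊤ J ψ)
    (J' : Over (Spec (CommRingCat.of k))) [GrpObj J'] [IsCommMonObj J']
    (ψ' : (ModFun.PicDeg (C' ↘ Spec (CommRingCat.of k)) 0).Hom ⊤ J') (hJ' : Jac.IsJacobian (C' ↘ Spec (CommRingCat.of k)) ⊤ J' ψ')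
    (j : Over.mk (C ↘ Spec (CommRingCat.of k)) ⟶ J) (hj : Jac.IsAbelJacobiAt (C ↘ Spec (CommRingCat.of k)) σ ψ j)
    (j' : Over.mk (C' ↘ Spec (CommRingCat.of k)) ⟶ J') (hj' : Jac.IsAbelJacobiAt (C' ↘ Spec (CommRingCat.of k)) σ' ψ' j')
    (β : J ≅ J') [IsMonHom β.hom]
    (α₁ α₂ : C ≅ C') (hα₁ : α₁.hom ≫ (C' ↘ Spec (CommRingCat.of k)) = (C ↘ Spec (CommRingCat.of k))) (hα₂ : α₂.hom ≫ (C' ↘ Spec (CommRingCat.of k)) = (C ↘ Spec (CommRingCat.of k)))
    (c₁ c₂ : 𝟙_ (Over (Spec (CommRingCat.of k))) ⟶ J') (s : ℤ) (hs : s = 1 ∨ s = -1)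
    (h₁ : Over.homMk α₁.hom hα₁ ≫ j' = (j ≫ β.hom) ^ s * (toUnit (Over.mk (C ↘ Spec (CommRingCat.of k))) ≫ c₁))
    (h₂ : Over.homMk α₂.hom hα₂ ≫ j' = (j ≫ β.hom) ^ s * (toUnit (Over.mk (C ↘ Spec (CommRingCat.of k))) ≫ c₂)) :
    α₁ = α₂ ∧ c₁ = c₂ := by
  let f := C ↘ Spec (CommRingCat.of k)
  let f' := C' ↘ Spec (CommRingCat.of k)
  haveI : SmoothOfRelativeDimension 1 f :=
    Groth.Agent.PicTangent.JacDeg.smoothOfRelativeDimension_one _ (Groth.Agent.EllLaw.fibre_dim_of_field _ hdim)
  haveI : SmoothOfRelativeDimension 1 f' :=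
    Groth.Agent.PicTangent.JacDeg.smoothOfRelativeDimension_one _ (Groth.Agent.EllLaw.fibre_dim_of_field _ hdim')
  haveI : IsIntegral C := by
    haveI := Groth.Agent.PicTangent.JacDeg.geometricallyIntegral f
    exact GeometricallyIntegral.isIntegral_of_subsingleton f
  haveI : IsIntegral C' := by
    haveI := Groth.Agent.PicTangent.JacDeg.geometricallyIntegral f'
    exact GeometricallyIntegral.isIntegral_of_subsingleton f'
  let A₁ : Over.mk f ⟶ Over.mk f' := Over.homMk α₁.hom hα₁
  let A₂ : Over.mk f ⟶ Over.mk f' := Over.homMk α₂.hom hα₂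
  have i₁ : Function.Injective (show C ⟶ C' from A₁.left) := α₁.hom.homeomorph.injective
  have i₂ : Function.Injective (show C ⟶ C' from A₂.left) := α₂.hom.homeomorph.injective
  have hA : A₁ = A₂ := by
    refine Groth.Agent.Torelli18.eq_of_translate f f' σ' hσ' hJ' hj' hdim hdim' (by
      show 2 ≤ Curv2.genus k C'
      omega) A₁ A₂ i₁ i₂ fun x y hx hy => ?_
    rw [Groth.Agent.Torelli18.eval_rel (j ≫ β.hom) A₁ j' s c₁ h₁ x hx,
      Groth.Agent.Torelli18.eval_rel (j ≫ β.hom) A₂ j' s c₂ h₂ y hy,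
      Groth.Agent.Torelli18.eval_rel (j ≫ β.hom) A₁ j' s c₁ h₁ y hy,
      Groth.Agent.Torelli18.eval_rel (j ≫ β.hom) A₂ j' s c₂ h₂ x hx]
    ac_rfl
  have hα : α₁ = α₂ := Iso.ext (congrArg (fun a : Over.mk f ⟶ Over.mk f' => a.left) hA)
  subst hα
  have hc : c₁ = c₂ := by
    let p : 𝟙_ (Over (Spec (CommRingCat.of k))) ⟶ Over.mk f := Over.homMk σ hσ
    have h := mul_left_cancel (h₁.symm.trans h₂)
    have h' := congrArg (p ≫ ·) h
    have hp : ∀ c : 𝟙_ (Over (Spec (CommRingCat.of k))) ⟶ J', p ≫ toUnit (Over.mk f) ≫ c = c := fun c => by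
      rw [← Category.assoc, toUnit_unique (p ≫ toUnit (Over.mk f)) (𝟙 _), Category.id_comp]
    exact (hp c₁).symm.trans (h'.trans (hp c₂))
  exact ⟨rfl, hc⟩

end Groth.Agent.S19877
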