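import Groth.Statements.S19878
import Groth.Agent.FComplLib.IdealComap
import Mathlib

set_option autoImplicit false
universe u
open LVCorr

namespace Groth.Agent.S19878

open AlgebraicGeometry CategoryTheory CategoryTheory.Limits in
/-- Let k be a field, C a k-scheme of finite type, X a k-scheme and c = (c₁, c₂) : C → X ×_k X a
correspondence; let Fix(c) = C ×_{X ×_k X} X be its scheme of fixed points (pullback along the
diagonal), with projections i : Fix(c) → C and δ : Fix(c) → X. Let Z ⊂ X be the closed subscheme of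
a quasi-coherent ideal I and suppose c is contracting near Z in a neighbourhood of the fixed points:
there is an open W ⊆ C containing the image of Fix(c) such that on W the inverse image ideal of I
under c₁ is contained in the inverse image ideal of I under c₂ (c stabilizes Z on W) and some power
(I·O_W via c₁)^k₀ is contained in (I·O_W via c₂)^(k₀+1). Then every connected open subset β of
Fix(c) whose image under δ meets Z is contained, as a set, in δ⁻¹(Z). (The source works with
separated schemes of finite type over an algebraically closed field; this row assumes only that C is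
of finite type over a field k.) -/
theorem result {C X Fx : Scheme.{u}} (k : Type u) [Field k]
    (pC : C ⟶ Spec (CommRingCat.of k)) [LocallyOfFiniteType pC] [QuasiCompact pC]
    (pX : X ⟶ Spec (CommRingCat.of k)) (c₁ c₂ : C ⟶ X) (hc : c₁ ≫ pX = c₂ ≫ pX)
    (i : Fx ⟶ C) (δ : Fx ⟶ X) (hF : IsPullback i δ (pullback.lift c₁ c₂ hc) (pullback.diagonal pX))
    (I : X.IdealSheafData) (W : C.Opens) (hW : Set.range i.base ⊆ (W : Set C))
    (hle : I.comap (W.ι ≫ c₁) ≤ I.comap (W.ι ≫ c₂))
    (k₀ : ℕ) (hpow : I.comap (W.ι ≫ c₁) ^ k₀ ≤ I.comap (W.ι ≫ c₂) ^ (k₀ + 1))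
    (β : Fx.Opens) (hβ : _root_.IsConnected (β : Set Fx))
    (hβZ : (δ.base '' (β : Set Fx) ∩ (I.support : Set X)).Nonempty) :
    (β : Set Fx) ⊆ δ.base ⁻¹' (I.support : Set X) := by
  have h₁ : i ≫ c₁ = δ := by
    have := congrArg (fun m => m ≫ pullback.fst pX pX) hF.w
    simpa only [Category.assoc, pullback.lift_fst, pullback.diagonal_fst, Category.comp_id] using this
  have h₂ : i ≫ c₂ = δ := by
    have := congrArg (fun m => m ≫ pullback.snd pX pX) hF.w
    simpa only [Category.assoc, pullback.lift_snd, pullback.diagonal_snd, Category.comp_id] using this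
  have hiW : Set.range i ⊆ Set.range W.ι := by rw [Scheme.Opens.range_ι]; exact hW
  let i' : Fx ⟶ W := IsOpenImmersion.lift W.ι i hiW
  have e₁ : i' ≫ W.ι ≫ c₁ = δ := by rw [IsOpenImmersion.lift_fac_assoc, h₁]
  have e₂ : i' ≫ W.ι ≫ c₂ = δ := by rw [IsOpenImmersion.lift_fac_assoc, h₂]
  have key : I.comap δ ^ k₀ ≤ I.comap δ ^ (k₀ + 1) := by
    have h := Scheme.IdealSheafData.comap_mono i' hpow
    simp only [Groth.Agent.FComplLib.comap_pow, ← Scheme.IdealSheafData.comap_comp, e₁, e₂] at h
    exact h
  haveI : IsNoetherianRing k := inferInstance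
  haveI : IsLocallyNoetherian C := LocallyOfFiniteType.isLocallyNoetherian pC
  haveI : IsImmersion i := MorphismProperty.of_isPullback hF.flip (inferInstance : IsImmersion (pullback.diagonal pX))
  haveI : IsLocallyNoetherian Fx := LocallyOfFiniteType.isLocallyNoetherian i
  have hopen : IsOpen ((I.comap δ).support : Set Fx) := by
    rw [isOpen_iff_forall_mem_open]
    intro z hz
    obtain ⟨U, hU, hzU, -⟩ := exists_isAffineOpen_mem_and_subset (x := z) (U := ⊤) trivial
    haveI : IsNoetherianRing Γ(Fx, U) := IsLocallyNoetherian.component_noetherian ⟨U, hU⟩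
    set a := (I.comap δ).ideal ⟨U, hU⟩ with ha
    have hk : a ^ k₀ ≤ a • (a ^ k₀ : Ideal Γ(Fx, U)) := by
      have h := key ⟨U, hU⟩
      simp only [Scheme.IdealSheafData.ideal_pow, Pi.pow_apply, ← ha] at h
      rw [smul_eq_mul, ← pow_succ']
      exact h
    obtain ⟨r, hr, hr0⟩ := Submodule.exists_sub_one_mem_and_smul_eq_zero_of_fg_of_le_smul a _
      (IsNoetherian.noetherian _) hk
    have hz' := (Scheme.IdealSheafData.mem_support_iff_of_mem (U := ⟨U, hU⟩) hzU).1 hz
    refine ⟨Fx.basicOpen r, fun y hy => ?_, (Fx.basicOpen r).isOpen, ?_⟩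
    · have hyU : y ∈ U := Fx.basicOpen_le r hy
      rw [SetLike.mem_coe, Scheme.IdealSheafData.mem_support_iff_of_mem (U := ⟨U, hU⟩) hyU,
        Scheme.mem_zeroLocus_iff]
      intro g hg hgy
      have h0 : r * g ^ k₀ = 0 := hr0 _ (Ideal.pow_mem_pow hg k₀)
      have h1 : y ∈ Fx.basicOpen (r * g ^ k₀) := by
        rw [Scheme.basicOpen_mul]
        refine ⟨hy, ?_⟩
        rcases Nat.eq_zero_or_pos k₀ with rfl | hpos
        · rw [pow_zero, Scheme.basicOpen_of_isUnit _ isUnit_one]; exact hyU
        · rw [Scheme.basicOpen_pow _ _ hpos]; exact hgy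
      rw [h0, Scheme.basicOpen_zero] at h1
      exact h1
    · rw [Scheme.mem_zeroLocus_iff] at hz'
      have hnot : z ∉ Fx.basicOpen (r - 1) := hz' _ hr
      rw [SetLike.mem_coe]
      rw [Scheme.mem_basicOpen _ _ _ hzU] at hnot ⊢
      rcases IsLocalRing.isUnit_or_isUnit_one_sub_self ((Fx.presheaf.germ U z hzU).hom r) with h | h
      · exact h
      · refine absurd ?_ hnot
        rw [map_sub, map_one, ← neg_sub]
        exact h.neg
  have hclopen : IsClopen ((I.comap δ).support : Set Fx) := ⟨(I.comap δ).support.isClosed, hopen⟩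
  obtain ⟨_, ⟨b, hb, rfl⟩, hbI⟩ := hβZ
  have hsub := hβ.isPreconnected.subset_isClopen hclopen ⟨b, hb, by rw [Scheme.IdealSheafData.support_comap]; exact hbI⟩
  intro y hy
  have := hsub hy
  rwa [Scheme.IdealSheafData.support_comap] at this

end Groth.Agent.S19878
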