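import Groth.Statements.S19879
import Groth.Agent.FrobCorr5.Main
-- import your own Groth.Agent.* helpers here

set_option autoImplicit false
universe u
open LVCorr

namespace Groth.Agent.S19879

open AlgebraicGeometry CategoryTheory CategoryTheory.Limits in
/-- Let k₀ be a finite field with p^e elements, K an algebraic closure of k₀, C₀ a scheme of finite type
over k₀, C = C₀ ×_{k₀} Spec K with its projections, and Fr : C → C the n-th power of the geometric
Frobenius (over K, compatible with the (e·n)-th power of the absolute p-Frobenius of C₀). Let X be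
locally of finite type over K and c₁, c₂ : C → X morphisms over K with c₂ locally quasi-finite, and
let d < p^(e n) be such that for every closed point x of X, with J_x the inverse image under c₂ of
the ideal sheaf of the reduced point x, one has (√J_x)^d ⊂ J_x (so p^(e n) exceeds the ramification
degree of c₂). Then the scheme of fixed points of the twisted correspondence (c₁ ∘ Fr, c₂), namely
the pullback of (c₁ ∘ Fr, c₂) : C → X ×_K X along the diagonal of X, has finite and discrete
underlying topological space. (In the source X, c₁ and c₂ are also defined over k₀ and all schemes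
are separated; neither is needed here.) -/
theorem result {C C₀ X Fx : Scheme.{u}}
    (p : ℕ) [Fact p.Prime] (k₀ : Type u) [Field k₀] [Fintype k₀] [CharP k₀ p] (e : ℕ)
    (hq : Fintype.card k₀ = p ^ e) (K : Type u) [Field K] [Algebra k₀ K] [IsAlgClosure k₀ K]
    (f₀ : C₀ ⟶ Spec (CommRingCat.of k₀)) [LocallyOfFiniteType f₀] [QuasiCompact f₀] [FrobSch.IsCharP C₀ p]
    (πC₀ : C ⟶ C₀) (πK : C ⟶ Spec (CommRingCat.of K))
    (hC : IsPullback πC₀ πK f₀ (Spec.map (CommRingCat.ofHom (algebraMap k₀ K))))
    (n : ℕ) (Fr : C ⟶ C)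
    (hFr₀ : Fr ≫ πC₀ = πC₀ ≫ End.asHom (End.of (FrobSch.frob C₀ p) ^ (e * n)))
    (hFrK : Fr ≫ πK = πK)
    (pX : X ⟶ Spec (CommRingCat.of K)) [LocallyOfFiniteType pX]
    (c₁ c₂ : C ⟶ X) (hc₁ : c₁ ≫ pX = πK) (hc₂ : c₂ ≫ pX = πK)
    [LocallyQuasiFinite c₂] [LocallyOfFiniteType c₂]
    (hcomm : (Fr ≫ c₁) ≫ pX = c₂ ≫ pX) (d : ℕ) (hn : d < p ^ (e * n))
    (hd : ∀ (x : X) (hx : IsClosed ({x} : Set X)),
      ((Scheme.IdealSheafData.vanishingIdeal ⟨{x}, hx⟩).comap c₂).radical ^ d ≤
        (Scheme.IdealSheafData.vanishingIdeal ⟨{x}, hx⟩).comap c₂)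
    (i : Fx ⟶ C) (δ : Fx ⟶ X) (hF : IsPullback i δ (pullback.lift (Fr ≫ c₁) c₂ hcomm) (pullback.diagonal pX)) :
    Finite Fx ∧ DiscreteTopology Fx := by
  haveI : LocallyOfFiniteType πK := MorphismProperty.of_isPullback (P := @LocallyOfFiniteType) hC inferInstance
  haveI : QuasiCompact πK := MorphismProperty.of_isPullback (P := @QuasiCompact) hC inferInstance
  haveI := IsAlgClosure.isAlgClosed (R := k₀) (K := K)
  haveI : IsLocallyNoetherian C := LocallyOfFiniteType.isLocallyNoetherian πK
  haveI : CompactSpace C := QuasiCompact.compactSpace_of_compactSpace πK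
  haveI : AlgebraicGeometry.IsNoetherian C := {}
  haveI : IsImmersion i := MorphismProperty.of_isPullback (P := @IsImmersion) hF.flip inferInstance
  haveI : IsLocallyNoetherian Fx := LocallyOfFiniteType.isLocallyNoetherian (i ≫ πK)
  haveI : JacobsonSpace C := LocallyOfFiniteType.jacobsonSpace πK
  haveI : JacobsonSpace Fx := LocallyOfFiniteType.jacobsonSpace (i ≫ πK)
  have h₁ : i ≫ Fr ≫ c₁ = δ := by
    have := congrArg (· ≫ pullback.fst pX pX) hF.w
    simpa only [Category.assoc, pullback.lift_fst, pullback.diagonal_fst, Category.comp_id] using this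
  have h₂ : i ≫ c₂ = δ := by
    have := congrArg (· ≫ pullback.snd pX pX) hF.w
    simpa only [Category.assoc, pullback.lift_snd, pullback.diagonal_snd, Category.comp_id] using this
  have hclosed : ∀ z : Fx, IsClosed ({z} : Set Fx) → ∀ z', z' ⤳ z → z' = z := by
    intro z hz
    have hiz : IsClosed ({i z} : Set C) := by
      refine isClosed_singleton_of_isLocallyClosed_singleton ?_
      simpa using hz.isLocallyClosed.image i.isEmbedding.isInducing i.isLocallyClosed_range
    have hδ : IsClosed ({δ z} : Set X) := by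
      have := (pointEquivClosedPoint pX ⟨pointOfClosedPoint (i ≫ πK) z hz ≫ δ, by
        rw [Category.assoc, ← h₂, Category.assoc, hc₂, pointOfClosedPoint_comp]⟩).2
      have e := pointOfClosedPoint_apply (i ≫ πK) z hz (IsLocalRing.closedPoint K)
      rw [mem_closedPoints_iff] at this
      rw [← e]
      exact this
    exact Groth.Agent.FrobCorr5.eq_of_specializes_fixed p f₀ πC₀ πK hC (e * n) Fr hFr₀ hFrK c₁ c₂ i δ h₁ h₂ d hn hiz hδ (hd _ hδ)
  haveI : T1Space Fx := ⟨fun y => by
    obtain ⟨z, hz, hzc⟩ := nonempty_inter_closedPoints (Z := closure {y}) ⟨y, subset_closure rfl⟩ isClosed_closure.isLocallyClosed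
    obtain rfl := hclosed z hzc y (specializes_iff_mem_closure.2 hz)
    exact hzc⟩
  haveI : TopologicalSpace.NoetherianSpace Fx := i.isEmbedding.isInducing.noetherianSpace
  haveI : Finite Fx := by
    have hfin : (irreducibleComponents ↥Fx).Finite := TopologicalSpace.NoetherianSpace.finite_irreducibleComponents
    refine Set.finite_univ_iff.1 ((hfin.sUnion fun Z hZ => ?_).subset fun z _ =>
      ⟨_, irreducibleComponent_mem_irreducibleComponents z, mem_irreducibleComponent⟩)
    obtain ⟨η, hη⟩ : ∃ η, IsGenericPoint η Z :=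
      ⟨_, hZ.1.isGenericPoint_genericPoint (isClosed_of_mem_irreducibleComponents _ hZ)⟩
    rw [← hη.def, closure_singleton]
    exact Set.finite_singleton η
  exact ⟨inferInstance, inferInstance⟩

end Groth.Agent.S19879
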