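import Groth.Statements.S1988
import Mathlib
import Groth.Agent.EtRam7.Down
-- import your own Groth.Agent.* helpers here

set_option autoImplicit false
universe u
open EtAlg
open scoped TensorProduct

namespace Groth.Agent.S1988

/-- Let A -> B -> C be extensions of discrete valuation rings (local injective maps) with fraction
fields K ⊂ L ⊂ M₀ and K₁/K a finite extension. (The solution predicates mention only B, C and the
fields: in them the bottom ring is recovered as B ∩ K, which the hypotheses on A force to be A.) If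
K₁ is a weak solution (resp. a solution) for A -> C then it is a weak solution (resp. a solution)
for A -> B. -/
theorem result (A B C K L M₀ K₁ : Type u) [CommRing A] [IsDomain A] [IsDiscreteValuationRing A]
    [CommRing B] [IsDomain B] [IsDiscreteValuationRing B] [Algebra A B] [IsLocalHom (algebraMap A B)]
    (hinjA : Function.Injective (algebraMap A B))
    [CommRing C] [IsDomain C] [IsDiscreteValuationRing C] [Algebra B C] [IsLocalHom (algebraMap B C)]
    (hinj : Function.Injective (algebraMap B C))
    [Field K] [Field L] [Field M₀] [Field K₁] [Algebra K L] [Algebra K M₀] [Algebra L M₀] [IsScalarTower K L M₀]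
    [Algebra K K₁] [FiniteDimensional K K₁] [Algebra A K] [IsFractionRing A K]
    [Algebra B L] [IsFractionRing B L] [Algebra A L] [IsScalarTower A K L] [IsScalarTower A B L]
    [Algebra C M₀] [IsFractionRing C M₀] [Algebra B M₀]
    [IsScalarTower B C M₀] [IsScalarTower B L M₀] :
    (EtRam.IsWeakSolution C K M₀ K₁ → EtRam.IsWeakSolution B K L K₁) ∧
    (EtRam.IsSolution C K M₀ K₁ → EtRam.IsSolution B K L K₁) := by
  classical
  suffices key : ∀ (M : Type u) [Field M] [Algebra K M] [Algebra L M] [Algebra K₁ M] [IsScalarTower K L M]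
      [IsScalarTower K K₁ M], Algebra.adjoin L (Set.range (algebraMap K₁ M)) = ⊤ →
      ∀ W : ValuationSubring M, EtRam.Dominates B ((algebraMap L M).comp (algebraMap B L)) W →
      ∃ (M' : Type u) (_ : Field M') (_ : Algebra K M') (_ : Algebra M₀ M') (_ : Algebra K₁ M')
        (_ : IsScalarTower K M₀ M') (_ : IsScalarTower K K₁ M') (g : M →+* M') (W' : ValuationSubring M'),
        Algebra.adjoin M₀ (Set.range (algebraMap K₁ M')) = ⊤ ∧
        EtRam.Dominates C ((algebraMap M₀ M').comp (algebraMap C M₀)) W' ∧ W'.comap g = W ∧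
        algebraMap K₁ M' = g.comp (algebraMap K₁ M) by
    constructor
    · intro h M _ _ _ _ _ _ hgen W hW
      obtain ⟨M', _, _, _, _, _, _, g, W', hgen', hW', rfl, he⟩ := key M hgen W hW
      have h' := h M' hgen' W' hW'
      rw [he] at h'
      exact EtRam7.isWeaklyUnramified_comap (algebraMap K₁ M) g W' h'
    · intro h M _ _ _ _ _ _ hgen W hW
      obtain ⟨M', _, _, _, _, _, _, g, W', hgen', hW', rfl, he⟩ := key M hgen W hW
      have h' := h M' hgen' W' hW'
      rw [he] at h'
      exact ⟨EtRam7.isWeaklyUnramified_comap (algebraMap K₁ M) g W' h'.1,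
        EtRam7.isGeometricallyReduced_comap (algebraMap K₁ M) g W' h'.2⟩
  intro M _ _ _ _ _ _ hgen W hW
  letI : Algebra B W := (((algebraMap L M).comp (algebraMap B L)).codRestrict W hW.1).toAlgebra
  have hBW : Function.Injective (algebraMap B W) := fun a b e =>
    IsFractionRing.injective B L ((algebraMap L M).injective (congrArg Subtype.val e))
  haveI : IsLocalHom (algebraMap B W) := ⟨fun b hb => by
    by_contra hn
    have h1 : W.valuation ((algebraMap B W b : W) : M) < 1 := hW.2 b hn
    rw [← ValuationSubring.valuation_lt_one_iff] at h1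
    exact h1 hb⟩
  haveI : Module.IsTorsionFree B W := Module.isTorsionFree_iff_algebraMap_injective.2 hBW
  haveI : Module.IsTorsionFree B C := Module.isTorsionFree_iff_algebraMap_injective.2 hinj
  let kB := IsLocalRing.ResidueField B
  haveI : Nontrivial (IsLocalRing.ResidueField W ⊗[kB] IsLocalRing.ResidueField C) := inferInstance
  obtain ⟨𝔪, h𝔪⟩ := Ideal.exists_maximal (IsLocalRing.ResidueField W ⊗[kB] IsLocalRing.ResidueField C)
  haveI := h𝔪
  let ψ : W ⊗[B] C →ₐ[B] IsLocalRing.ResidueField W ⊗[kB] IsLocalRing.ResidueField C :=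
    Algebra.TensorProduct.lift
      (((Algebra.TensorProduct.includeLeft : IsLocalRing.ResidueField W →ₐ[kB] _).restrictScalars B).comp
        (IsScalarTower.toAlgHom B W _))
      (((Algebra.TensorProduct.includeRight : IsLocalRing.ResidueField C →ₐ[kB] _).restrictScalars B).comp
        (IsScalarTower.toAlgHom B C _)) fun _ _ => Commute.all _ _
  let P : Ideal (W ⊗[B] C) := 𝔪.comap ψ
  have hPl : ∀ w ∈ IsLocalRing.maximalIdeal W, w ⊗ₜ[B] (1 : C) ∈ P := fun w hw => by
    show ψ _ ∈ 𝔪
    rw [Algebra.TensorProduct.lift_tmul, map_one, mul_one]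
    show (IsLocalRing.residue W w) ⊗ₜ[kB] (1 : IsLocalRing.ResidueField C) ∈ 𝔪
    rw [(IsLocalRing.residue_eq_zero_iff w).2 hw, TensorProduct.zero_tmul]
    exact zero_mem _
  have hPr : ∀ c ∈ IsLocalRing.maximalIdeal C, (1 : W) ⊗ₜ[B] c ∈ P := fun c hc => by
    show ψ _ ∈ 𝔪
    rw [Algebra.TensorProduct.lift_tmul, map_one, one_mul]
    show (1 : IsLocalRing.ResidueField W) ⊗ₜ[kB] (IsLocalRing.residue C c) ∈ 𝔪
    rw [(IsLocalRing.residue_eq_zero_iff c).2 hc, TensorProduct.tmul_zero]
    exact zero_mem _
  haveI : P.IsPrime := Ideal.IsPrime.comap _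
  obtain ⟨Q, hQ, hQP⟩ := Ideal.exists_minimalPrimes_le (bot_le : (⊥ : Ideal (W ⊗[B] C)) ≤ P)
  have hdis := Ideal.disjoint_nonZeroDivisors_of_mem_minimalPrimes hQ
  have hwnz : ∀ w : W, w ≠ 0 → w ⊗ₜ[B] (1 : C) ∈ nonZeroDivisors (W ⊗[B] C) := fun w hw => by
    rw [mem_nonZeroDivisors_iff_right]
    have hi : Function.Injective (LinearMap.rTensor C (LinearMap.mulLeft B w)) :=
      Module.Flat.rTensor_preserves_injective_linearMap _ fun a b e => mul_left_cancel₀ hw e
    have : ∀ t, LinearMap.rTensor C (LinearMap.mulLeft B w) t = w ⊗ₜ[B] (1 : C) * t := fun t => by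
      induction t using TensorProduct.induction_on with
      | zero => simp
      | add x y hx hy => rw [map_add, hx, hy, mul_add]
      | tmul a c => simp
    intro a e
    exact hi (by rw [this, map_zero, mul_comm]; exact e)
  have hcnz : ∀ c : C, c ≠ 0 → (1 : W) ⊗ₜ[B] c ∈ nonZeroDivisors (W ⊗[B] C) := fun c hc => by
    rw [mem_nonZeroDivisors_iff_right]
    have hi : Function.Injective (LinearMap.lTensor W (LinearMap.mulLeft B c)) :=
      Module.Flat.lTensor_preserves_injective_linearMap _ fun a b e => mul_left_cancel₀ hc e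
    have : ∀ t, LinearMap.lTensor W (LinearMap.mulLeft B c) t = (1 : W) ⊗ₜ[B] c * t := fun t => by
      induction t using TensorProduct.induction_on with
      | zero => simp
      | add x y hx hy => rw [map_add, hx, hy, mul_add]
      | tmul a d => simp
    intro a e
    exact hi (by rw [this, map_zero, mul_comm]; exact e)
  haveI : Q.IsPrime := hQ.1.1
  let D := (W ⊗[B] C) ⧸ Q
  let M' := FractionRing D
  let q : W ⊗[B] C →+* M' := ((IsScalarTower.toAlgHom B D M').comp (Ideal.Quotient.mkₐ B Q)).toRingHom
  have hq : ∀ t, t ∈ nonZeroDivisors (W ⊗[B] C) → q t ≠ 0 := fun t ht e => by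
    have h1 : Ideal.Quotient.mk Q t = 0 := IsFractionRing.injective D M' (e.trans (map_zero _).symm)
    exact Set.disjoint_left.1 hdis (Ideal.Quotient.eq_zero_iff_mem.1 h1) ht
  let g : M →+* M' := IsFractionRing.lift (A := W) (g := q.comp Algebra.TensorProduct.includeLeftRingHom)
    ((injective_iff_map_eq_zero _).2 fun w hw => by
      by_contra hw0; exact hq _ (hwnz w hw0) hw)
  let h₀ : M₀ →+* M' := IsFractionRing.lift (A := C)
    (g := q.comp (Algebra.TensorProduct.includeRight : C →ₐ[B] W ⊗[B] C).toRingHom)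
    ((injective_iff_map_eq_zero _).2 fun c hc => by
      by_contra hc0; exact hq _ (hcnz c hc0) hc)
  have hg : ∀ w : W, g (w : M) = q (w ⊗ₜ[B] 1) := fun w => IsFractionRing.lift_algebraMap _ w
  have hh : ∀ c : C, h₀ (algebraMap C M₀ c) = q (1 ⊗ₜ[B] c) := fun c => IsFractionRing.lift_algebraMap _ c
  have hL : g.comp (algebraMap L M) = h₀.comp (algebraMap L M₀) := by
    refine IsLocalization.ringHom_ext (nonZeroDivisors B) (RingHom.ext fun b => ?_)
    show g ((algebraMap B W b : W) : M) = h₀ (algebraMap L M₀ (algebraMap B L b))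
    rw [hg, ← IsScalarTower.algebraMap_apply B L M₀, IsScalarTower.algebraMap_apply B C M₀, hh]
    congr 1
    rw [Algebra.algebraMap_eq_smul_one, Algebra.algebraMap_eq_smul_one, TensorProduct.smul_tmul]
  letI : Algebra M₀ M' := h₀.toAlgebra
  letI : Algebra K M' := (g.comp (algebraMap K M)).toAlgebra
  letI : Algebra K₁ M' := (g.comp (algebraMap K₁ M)).toAlgebra
  haveI : IsScalarTower K M₀ M' := IsScalarTower.of_algebraMap_eq fun k => by
    show g (algebraMap K M k) = h₀ (algebraMap K M₀ k)
    rw [IsScalarTower.algebraMap_apply K L M, IsScalarTower.algebraMap_apply K L M₀]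
    exact RingHom.congr_fun hL _
  haveI : IsScalarTower K K₁ M' := IsScalarTower.of_algebraMap_eq fun k => by
    show g (algebraMap K M k) = g (algebraMap K₁ M (algebraMap K K₁ k))
    rw [← IsScalarTower.algebraMap_apply]
  obtain ⟨W', hW'le, hW'P⟩ := Ideal.image_subset_nonunits_valuationSubring
    (A := q.range) (P.map q.rangeRestrict) (by
      intro e
      have hk : RingHom.ker q.rangeRestrict ≤ P := fun t ht => by
        have h0 : q t = 0 := congrArg Subtype.val (RingHom.mem_ker.1 ht)
        have h1 : Ideal.Quotient.mk Q t = 0 := IsFractionRing.injective D M' (h0.trans (map_zero _).symm)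
        exact hQP (Ideal.Quotient.eq_zero_iff_mem.1 h1)
      have := congrArg (Ideal.comap q.rangeRestrict) e
      rw [Ideal.comap_map_of_surjective _ q.rangeRestrict_surjective, Ideal.comap_top,
        ← RingHom.ker_eq_comap_bot, sup_eq_left.2 hk] at this
      exact Ideal.IsPrime.ne_top ‹_› this)
  have hmem : ∀ t, q t ∈ W' := fun t => hW'le ⟨t, rfl⟩
  have hlt : ∀ t ∈ P, q t ∈ W'.nonunits := fun t ht => hW'P ⟨_, Ideal.mem_map_of_mem _ ht, rfl⟩
  refine ⟨M', inferInstance, inferInstance, inferInstance, inferInstance, inferInstance, inferInstance, g, W',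
    ?_, ⟨fun c => by rw [RingHom.comp_apply, RingHom.algebraMap_toAlgebra, hh]; exact hmem _,
      fun c hc => by rw [RingHom.comp_apply, RingHom.algebraMap_toAlgebra, hh]; exact hlt _ (hPr c hc)⟩, ?_, rfl⟩
  · -- generation
    let S := Algebra.adjoin M₀ (Set.range (algebraMap K₁ M'))
    haveI : Algebra.IsIntegral M₀ S := Algebra.IsIntegral.adjoin (fun x ⟨k, hk⟩ => hk ▸
      (((Algebra.IsIntegral.isIntegral (R := K) k).map (IsScalarTower.toAlgHom K K₁ M')).tower_top (A := M₀)))
    have hSf : IsField S := isField_of_isIntegral_of_isField' (Field.toIsField M₀)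
    have hgS : ∀ x : M, g x ∈ S := fun x => by
      have hx : x ∈ Algebra.adjoin L (Set.range (algebraMap K₁ M)) := hgen ▸ Algebra.mem_top
      induction hx using Algebra.adjoin_induction with
      | mem y hy => obtain ⟨k, rfl⟩ := hy; exact Algebra.subset_adjoin ⟨k, rfl⟩
      | algebraMap l =>
        rw [show g (algebraMap L M l) = algebraMap M₀ M' (algebraMap L M₀ l) from RingHom.congr_fun hL l]
        exact Subalgebra.algebraMap_mem _ _
      | add _ _ _ _ h1 h2 => rw [map_add]; exact add_mem h1 h2
      | mul _ _ _ _ h1 h2 => rw [map_mul]; exact mul_mem h1 h2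
    have hqS : ∀ t, q t ∈ S := fun t => by
      induction t using TensorProduct.induction_on with
      | zero => rw [map_zero]; exact zero_mem _
      | add x y hx hy => rw [map_add]; exact add_mem hx hy
      | tmul w c =>
        rw [show w ⊗ₜ[B] c = (w ⊗ₜ[B] (1 : C)) * ((1 : W) ⊗ₜ[B] c) by simp, map_mul, ← hg, ← hh]
        exact mul_mem (hgS _) (Subalgebra.algebraMap_mem S (algebraMap C M₀ c))
    refine eq_top_iff.2 fun x _ => ?_
    obtain ⟨a, b, hb, rfl⟩ := IsFractionRing.div_surjective (A := D) x
    obtain ⟨a, rfl⟩ := Ideal.Quotient.mk_surjective a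
    obtain ⟨b, rfl⟩ := Ideal.Quotient.mk_surjective b
    have hb0 : (⟨q b, hqS b⟩ : S) ≠ 0 := fun e => nonZeroDivisors.ne_zero hb
      (IsFractionRing.injective D M' ((congrArg Subtype.val e).trans (map_zero _).symm))
    obtain ⟨i, hi⟩ := hSf.mul_inv_cancel hb0
    show q a / q b ∈ S
    rw [div_eq_mul_inv, inv_eq_of_mul_eq_one_right (congrArg Subtype.val hi : q b * (i : M') = 1)]
    exact mul_mem (hqS a) i.2
  · ext x
    refine ⟨fun hx => ?_, fun hx => ?_⟩
    · by_contra hn
      have hx' : x⁻¹ ∈ W := (W.mem_or_inv_mem x).resolve_left hn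
      have hm : (⟨x⁻¹, hx'⟩ : W) ∈ IsLocalRing.maximalIdeal W := fun hu => by
        obtain ⟨y, hy⟩ := hu.exists_right_inv
        exact hn ((inv_inv x ▸ inv_eq_of_mul_eq_one_right (congrArg Subtype.val hy : x⁻¹ * (y : M) = 1)) ▸ y.2)
      have h1 := hlt _ (hPl _ hm)
      rw [← hg] at h1
      obtain h1 | h1 := (ValuationSubring.mem_nonunits_iff_or W').1 h1
      · rw [map_eq_zero] at h1
        exact hn ((inv_eq_zero.1 h1) ▸ zero_mem W)
      · exact h1 (by rw [map_inv₀, inv_inv]; exact hx)
    · show g x ∈ W'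
      rw [show g x = _ from hg ⟨x, hx⟩]
      exact hmem _

end Groth.Agent.S1988
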