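import Groth.Statements.S19880
import Groth.Agent.GenusOneSS.Rational
import Groth.Agent.NLft.DensePts
import Groth.Agent.QCoh.ProperOver
import Groth.Agent.Lib.CurveCanonical
import Groth.Agent.S1536
import Groth.Agent.GrpSchLib.SmoothReduced
-- import your own Groth.Agent.* helpers here

set_option autoImplicit false
set_option linter.style.haveILetI false
set_option backward.isDefEq.respectTransparency false
set_option backward.isDefEq.respectTransparency.types false
set_option synthInstance.maxHeartbeats 100000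
set_option maxHeartbeats 1600000
universe u
open CategoryTheory CategoryTheory.Limits AlgebraicGeometry
open JacVar

namespace Groth.Agent.S19880

open Groth.Agent.CurveBundle Groth.Agent.CurveSlope Groth.Agent.CurveStable Groth.Agent.CurvePoint
open TopologicalSpace Opposite
open Groth.Agent.PnCoh.Finite (mapLin)

theorem vanishing_le_ker {X Y : Scheme.{u}} (f : X ⟶ Y) [IsReduced X] (C : Closeds Y) (hC : Set.range f ⊆ C) :
    Scheme.IdealSheafData.vanishingIdeal C ≤ f.ker := by
  refine Scheme.IdealSheafData.le_ofIdeals_iff.mpr fun U s hs => ?_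
  rw [Scheme.IdealSheafData.vanishingIdeal_ideal, PrimeSpectrum.mem_vanishingIdeal] at hs
  show f.app U s = 0
  rw [← basicOpen_eq_bot_iff, ← le_bot_iff]
  intro x hx
  rw [← Scheme.preimage_basicOpen] at hx
  have hxU : f x ∈ U.1 := Y.basicOpen_le s hx
  obtain ⟨p, hp⟩ : f x ∈ Set.range U.2.fromSpec := by rw [U.2.range_fromSpec]; exact hxU
  have hpb : p ∈ U.2.fromSpec ⁻¹ᵁ Y.basicOpen s := by
    show U.2.fromSpec p ∈ Y.basicOpen s
    rw [hp]; exact hx
  rw [U.2.fromSpec_preimage_basicOpen] at hpb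
  exact absurd (hs p (by show U.2.fromSpec p ∈ (C : Set Y); rw [hp]; exact hC ⟨x, rfl⟩))
    ((PrimeSpectrum.mem_basicOpen s p).1 hpb)

section
variable (k : Type u) [Field k] {X : Scheme.{u}} [X.Over (Spec (CommRingCat.of k))]
  [IsIntegral X] [IsProper (X ↘ Spec (CommRingCat.of k))] [Smooth (X ↘ Spec (CommRingCat.of k))]

theorem ker_eq_ptIdeal (σ : Spec (CommRingCat.of k) ⟶ X) (hσ : σ ≫ (X ↘ Spec (CommRingCat.of k)) = 𝟙 _) :
    ∃ (p : X) (hp : IsClosed ({p} : Set X)), σ.ker = ptIdeal p hp ∧
      σ (IsLocalRing.closedPoint k) = p ∧ Curv2.euler k X (ClSub.quotMod (ptIdeal p hp)) = 1 := by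
  haveI : IsClosedImmersion (σ ≫ (X ↘ Spec (CommRingCat.of k))) := by rw [hσ]; infer_instance
  haveI : IsClosedImmersion σ := IsClosedImmersion.of_comp σ (X ↘ Spec (CommRingCat.of k))
  have hp : IsClosed ({σ (IsLocalRing.closedPoint k)} : Set X) := by
    rw [← Set.image_singleton]
    exact σ.isClosedEmbedding.isClosedMap _ (IsLocalRing.isClosed_singleton_closedPoint k)
  have hpt : ∀ t, σ t = σ (IsLocalRing.closedPoint k) := fun t => by
    haveI : Subsingleton (Spec (CommRingCat.of k)) := inferInstanceAs (Subsingleton (PrimeSpectrum k))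
    rw [Subsingleton.elim t (IsLocalRing.closedPoint k)]
  have hrange : Set.range σ = {σ (IsLocalRing.closedPoint k)} := Set.eq_singleton_iff_unique_mem.2
    ⟨⟨_, rfl⟩, fun _ ⟨t, ht⟩ => ht ▸ hpt t⟩
  exact ⟨_, hp, le_antisymm (QCoh.ker_le_vanishingIdeal σ ⟨_, hp⟩ hrange.ge)
    (vanishing_le_ker σ ⟨_, hp⟩ hrange.le), rfl,
    CurveTwistBC.euler_quot_pt _ hp (CurveTwistBC.sub_mem_of_section σ hσ)⟩

variable [IsSepClosed k] (hdim : topologicalKrullDim X = 1)
include hdim

/-- A rational point dropping the space of sections by exactly one. -/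
theorem exists_drop {L : X.Modules} (hL : PicF.IsInvertible L) {n : ℕ}
    (hn : Module.finrank k (Coh.HH X L 0) = n + 1) :
    ∃ σ : Spec (CommRingCat.of k) ⟶ X, σ ≫ (X ↘ Spec (CommRingCat.of k)) = 𝟙 _ ∧
      PicF.IsInvertible (CohB1.tensorMod L (ClSub.idealMod σ.ker)) ∧
      Module.finrank k (Coh.HH X (CohB1.tensorMod L (ClSub.idealMod σ.ker)) 0) = n := by
  haveI := CurveCohLib.isNoetherian_of_proper (k := k) (X := X)
  obtain ⟨s, hs⟩ := CurveRR.exists_hom_ne_zero k (P := L) (by omega)
  obtain ⟨z, hz⟩ := CurveTwistBC.exists_mem_genLocus_of_ne_zero hL hs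
  haveI : IsSepClosed (IsLocalRing.ResidueField k) :=
    IsSepClosed.of_exists_root _ fun p hp hs hd => by
      let e : k ≃+* IsLocalRing.ResidueField k := RingEquiv.ofBijective (IsLocalRing.residue k)
        ⟨(IsLocalRing.residue k).injective, IsLocalRing.residue_surjective⟩
      obtain ⟨x, hx⟩ := IsSepClosed.exists_root (p.map e.symm.toRingHom)
        (by rw [Polynomial.degree_map]; exact (Polynomial.degree_pos_of_irreducible hs).ne') hd.map
      refine ⟨e x, ?_⟩
      rw [Polynomial.IsRoot, Polynomial.eval_map] at hx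
      apply e.symm.injective
      rw [map_zero, ← hx]
      exact (Polynomial.hom_eval₂ p (RingHom.id _) e.symm.toRingHom (e x)).trans (by simp)
  obtain ⟨σ, hσ, hσz⟩ := NLft.exists_section_mem k (X ↘ Spec (CommRingCat.of k)) (CohB1.genLocus L s) hz
    (Subsingleton.elim (α := PrimeSpectrum k) _ _)
  refine ⟨σ, hσ, ?_⟩
  obtain ⟨p, hp, hker, hpt, he⟩ := ker_eq_ptIdeal k σ hσ
  rw [hker]
  have hI := isInvertible_ptMod p hp k hdim
  refine ⟨H23.PicMul.isInvertible_tensor hL hI, ?_⟩
  have hL1 := InvEnd.isFinLocFreeOfRank_one hL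
  have hLf := isFinLocFree_of_rank hL1
  let Q := (DCoh.tensorBi.obj L).obj (ClSub.quotMod (ptIdeal p hp))
  have hQc : Coh.IsCoh Q := CurveTensor.isCoh_tensor hLf (isCoh_quot p hp k)
  have hQs : ∀ x ∈ CohB1.support Q, IsClosed ({x} : Set X) := fun x hx =>
    closed_support p hp x (CurveTensor.support_tensor_subset hx)
  have hQe : Curv2.euler k X Q = 1 := by
    rw [CurveTensor.euler_tensor_torsion k hL1 (isCoh_quot p hp k) (closed_support p hp), he]
    rfl
  have hQ0 : Module.finrank k (Coh.HH X Q 0) = 1 := by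
    have h0 := CurveCohLib.euler_eq_finrank_zero (k := k) hQc hQs
    rw [hQe] at h0
    exact_mod_cast h0.symm
  let u : (DCoh.tensorBi.obj L).obj (Coh.structureModule X) ≅ L := KFlatLib.tensorUnitIso L
  have hS := shortExact_of_iso_mid _ _ _ (CurveTensor.shortExact_tensor hLf _ _ _ (shortExact_pt p hp)) u
  let A := (DCoh.tensorBi.obj L).obj (ptMod p hp)
  show Module.finrank k (Coh.HH X A 0) = n
  haveI := CurveCohLib.finite_HH (k := k) (coh_of_free k hLf) 0
  have hle : Module.finrank k (Coh.HH X L 0) ≤ Module.finrank k (Coh.HH X A 0) + 1 :=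
    (CurveDuality.finrank_h0_mid_le k hS (coh_of_free k hLf) hQc).trans (by rw [← hQ0])
  have hinj := CurveCohLib.mapLin_f_zero_injective k hS
  have h1 : Module.finrank k (Coh.HH X A 0) ≤ Module.finrank k (Coh.HH X L 0) :=
    LinearMap.finrank_le_finrank_of_injective hinj
  rcases h1.lt_or_eq with hlt | heq
  · omega
  exfalso
  let q : L ⟶ Q := u.inv ≫ (DCoh.tensorBi.obj L).map (ClSub.toSubscheme (ptIdeal p hp))
  haveI : Epi q := hS.epi_g
  have hsq : s ≫ q = 0 := by
    haveI : Module.Finite k (Coh.HH X A 0) :=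
      CurveCohLib.finite_HH (k := k) (coh_of_free k (isFinLocFree_of_rank
        (InvEnd.isFinLocFreeOfRank_one (H23.PicMul.isInvertible_tensor hL hI)))) 0
    let f : A ⟶ L := (DCoh.tensorBi.obj L).map (ClSub.idealModι (ptIdeal p hp)) ≫ u.hom
    have hinjf : Function.Injective (mapLin k f 0) := hinj
    obtain ⟨a, ha⟩ := ((LinearMap.injective_iff_surjective_of_finrank_eq_finrank heq).1 hinjf)
      (RegEpi.evalOneLin k L s)
    have hz : mapLin k q 0 (mapLin k f 0 a) = 0 := CurveCohLib.mapLin_comp_eq_zero (S := ShortComplex.mk f q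
      (by simp only [f, q, Category.assoc, Iso.hom_inv_id_assoc, ← Functor.map_comp]
          rw [show ClSub.idealModι (ptIdeal p hp) ≫ ClSub.toSubscheme (ptIdeal p hp) = 0 from kernel.condition _,
            Functor.map_zero])) k 0 a
    rw [ha] at hz
    apply (RegEpi.evalOneLin_bijective k Q).1
    rw [map_zero]
    show Canon.HHlin k (s ≫ q) 0 (RegEpi.oneClass X) = 0
    rw [← PnDual.HHlin_comp]
    exact hz
  obtain ⟨U, hxU, hfr⟩ := InvX.mem_genLocus (hpt ▸ hσz : p ∈ CohB1.genLocus L s)
  have hone : q.app U (AModX.res L (le_top : U ≤ ⊤) (InvX.one s)) = 0 := by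
    rw [AModX.app_res]
    have : q.app ⊤ (InvX.one s) = InvX.one (s ≫ q) := rfl
    rw [this, hsq]
    show AModX.res Q (le_top : U ≤ ⊤) 0 = 0
    exact map_zero _
  have hres : ∀ (V : X.Opens) (hV : V ≤ U) (y : Γ(L, V)), q.app V y = 0 := fun V hV y => by
    obtain ⟨c, hc⟩ := hfr.exists_coord hV y
    rw [hc, Scheme.Modules.Hom.app_smul, AModX.app_res, hone]
    show c • AModX.res Q hV 0 = 0
    rw [show AModX.res Q hV 0 = 0 from map_zero _, smul_zero]
  haveI : Subsingleton (Q.presheaf.stalk p) := by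
    haveI : Epi ((DerSch.stalkFunctor X p).map q) := inferInstance
    refine subsingleton_of_forall_eq 0 fun v => ?_
    obtain ⟨w, rfl⟩ := (ModuleCat.epi_iff_surjective _).1 ‹Epi ((DerSch.stalkFunctor X p).map q)› v
    obtain ⟨W, hW, a, rfl⟩ := L.presheaf.exists_germ_eq (x := p) w
    rw [← L.presheaf.germ_res_apply (homOfLE (inf_le_left : W ⊓ U ≤ W)) p ⟨hW, hxU⟩ a]
    refine (DerSch.stalkFunctor_map_germ p q (W ⊓ U) ⟨hW, hxU⟩ _).trans ?_
    rw [hres _ inf_le_right]
    exact map_zero _
  have hQz : IsZero Q := KFlatLib.isZero_of_stalk Q fun x => by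
    by_cases hx : x = p
    · subst hx
      haveI : Subsingleton ((DerSch.stalkFunctor X x).obj Q) := ‹Subsingleton (Q.presheaf.stalk x)›
      exact ModuleCat.isZero_of_subsingleton _
    · haveI : Subsingleton (Q.presheaf.stalk x) := by
        by_contra hne
        exact CurveTensor.support_tensor_subset hne (subsingleton_stalk_of_ne p hp hx)
      haveI : Subsingleton ((DerSch.stalkFunctor X x).obj Q) := ‹Subsingleton (Q.presheaf.stalk x)›
      exact ModuleCat.isZero_of_subsingleton _
  rw [euler_eq_zero_of_isZero k hQz] at hQe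
  exact zero_ne_one hQe

/-- Twist down to a single section. -/
theorem exists_points : ∀ (n : ℕ) (L : X.Modules), PicF.IsInvertible L →
    Module.finrank k (Coh.HH X L 0) = n + 1 →
    ∃ σ : Fin n → (Spec (CommRingCat.of k) ⟶ X), (∀ t, σ t ≫ (X ↘ Spec (CommRingCat.of k)) = 𝟙 _) ∧
      Module.finrank k (Coh.HH X (CohB1.tensorMod L (FGA.tensorList (List.ofFn fun t : Fin n =>
        ClSub.idealMod (σ t).ker))) 0) = 1 := by
  intro n
  induction n with
  | zero =>
    intro L hL hn
    refine ⟨Fin.elim0, fun t => t.elim0, ?_⟩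
    rw [List.ofFn_zero]
    exact (CurveCohLib.hhEquiv (k := k) (KFlatLib.tensorUnitIso L) 0).finrank_eq.trans hn
  | succ n ih =>
    intro L hL hn
    obtain ⟨σ₁, h₁, hL', hn'⟩ := exists_drop k hdim hL hn
    obtain ⟨σ, hσ, he⟩ := ih _ hL' hn'
    refine ⟨Fin.cons σ₁ σ, fun t => Fin.cases h₁ hσ t, ?_⟩
    rw [List.ofFn_succ]
    exact ((CurveCohLib.hhEquiv (k := k) (H23.PicMul.assoc L (ClSub.idealMod σ₁.ker)
      (FGA.tensorList (List.ofFn fun t : Fin n => ClSub.idealMod (σ t).ker))).some 0).finrank_eq).symm.trans he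

end

/-- Let k be a separably closed field, C a smooth proper geometrically connected curve of genus g > 0
over k with a k-rational point, and r > 2g an integer. Then for every effective divisor D of degree
r on C there is an (r − g)-tuple γ = (P_1, …, P_{r−g}) of k-rational points of C with h⁰(D − P_1 − ⋯
− P_{r−g}) = 1; since every invertible module L of degree r > 2g − 2 is of the form O(D) with D
effective, this is stated as: for every invertible module L of degree r on C there are k-rational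
points P_1, …, P_{r−g} with h⁰(C, L ⊗ I_{P_1} ⊗ ⋯ ⊗ I_{P_{r−g}}) = 1. (In the source this is the
statement that the symmetric power C^(r) is the union of the open pieces C^γ.) -/
theorem result (k : Type u) [Field k] [IsSepClosed k]
    (C : Scheme.{u}) [C.Over (Spec (CommRingCat.of k))]
    [IsProper (C ↘ Spec (CommRingCat.of k))] [Smooth (C ↘ Spec (CommRingCat.of k))] [GeometricallyConnected (C ↘ Spec (CommRingCat.of k))]
    (hdim : topologicalKrullDim ↥C = 1)
    (g : ℕ) (hg : Curv2.genus k C = g) (hg0 : 0 < g)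
    (σ₀ : Spec (CommRingCat.of k) ⟶ C) (hσ₀ : σ₀ ≫ (C ↘ Spec (CommRingCat.of k)) = 𝟙 _)
    (r : ℕ) (hr : 2 * g < r)
    (L : C.Modules) (hL : PicF.IsInvertible L) (hLdeg : Curv2.deg k C L 1 = (r : ℤ)) :
    ∃ σ : Fin (r - g) → (Spec (CommRingCat.of k) ⟶ C), (∀ t, σ t ≫ (C ↘ Spec (CommRingCat.of k)) = 𝟙 _) ∧
      Module.finrank k (Coh.HH C (CohB1.tensorMod L (FGA.tensorList (List.ofFn fun t : Fin (r - g) =>
        ClSub.idealMod (σ t).ker))) 0) = 1 := by
  haveI := CurveStable.isIntegral_of_geometricallyConnected k (X := C)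
  haveI := CurveCohLib.isNoetherian_of_proper (k := k) (X := C)
  haveI := Groth.Agent.GrpSchLib.geometricallyReduced_of_smooth (C ↘ Spec (CommRingCat.of k))
  have hone : Module.finrank k (Coh.HH C (Coh.structureModule C) 0) = 1 := Groth.Agent.S1536.result k C
  obtain ⟨ω, μ, hω⟩ := CurveDuality.exists_isDualizing k hdim
  obtain ⟨-, -, hd⟩ := CurveDuality.canonical_invariants k hone hω hdim
  have hLc := coh_of_free k (isFinLocFree_of_rank (InvEnd.isFinLocFreeOfRank_one hL))
  haveI : Subsingleton (Coh.HH C L 1) := by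
    refine (CurveDuality.subsingleton_HH_one_iff k hω hdim
      (isFinLocFree_of_rank (InvEnd.isFinLocFreeOfRank_one hL))).2 fun φ => ?_
    by_contra hφ
    have := (CurveDeg.deg_le_and_isIso k hdim.le hL hω.inv φ hφ).1
    omega
  have h := hLdeg
  unfold Curv2.deg at h
  rw [CurveRR.euler_eq_h0_sub_h1 k hdim.le hLc.1, CurveRR.euler_eq_h0_sub_h1 k hdim.le
    (QCoh.isCoh_structureModule' (X := C)).1, Module.finrank_zero_of_subsingleton (R := k) (M := Coh.HH C L 1), hone,
    show Module.finrank k (Coh.HH C (Coh.structureModule C) 1) = g from hg] at h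
  exact exists_points k hdim (r - g) L hL (by omega)

end Groth.Agent.S19880
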