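import Groth.Statements.S19881
import Groth.Agent.GrLib8.LinAvoid
import Groth.Agent.GrLib8.PolyChar
-- import your own Groth.Agent.* helpers here

set_option autoImplicit false
universe u
open GrLC

namespace Groth.Agent.S19881

/-- Let R = ⊕_{n ≥ 0} R_n be a (Noetherian) positively ℤ-graded ring which is standard graded
(irrelevant ideal generated by R_1), with R_0 Artinian, *local with unique homogeneous maximal ideal
m, Cohen–Macaulay of Krull dimension d, and with infinite residue field R/m. If the a-invariant of R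
equals −d, i.e. the end (largest nonzero degree) of the graded local cohomology module H^d_m(R),
computed from any *injective resolution of R in the graded category, is −d, then R is a polynomial
ring over R_0 in d variables of degree one: there is an R_0-algebra isomorphism R_0[T_1, …, T_d] ≅ R
mapping every variable into R_1. (The published statement asserts the equivalence of a(R) = −d with
R ≅ R_0[T_1, …, T_d] without the residue-field hypothesis; its argument treats the case of an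
infinite residue field, which is the case stated here, and only the forward implication is stated.) -/
theorem result (R : Type u) [CommRing R]
    [LocCoh.IsCohenMacaulayRing R] (𝒜 : ℤ → AddSubgroup R) [GradedRing 𝒜]
    (hpos : ∀ n : ℤ, n < 0 → 𝒜 n = ⊥)
    (hstd : Ideal.span (⋃ n ∈ Set.Ioi (0 : ℤ), (𝒜 n : Set R)) = Ideal.span ((𝒜 1 : AddSubgroup R) : Set R))
    [IsArtinianRing (GrLC.deg0 𝒜)] (m : HomogeneousIdeal 𝒜) (hm : GrLC.IsStarLocal 𝒜 m)
    (hinf : Infinite (R ⧸ m.toIdeal)) (d : ℕ) (hd : ringKrullDim R = d) (I : GrLC.StarInjRes 𝒜 𝒜)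
    (ha : GrLC.endDeg (I.Hgr m d) = (((-(d : ℤ) : ℤ) : WithTop ℤ) : WithBot (WithTop ℤ))) :
    ∃ e : MvPolynomial (Fin d) (GrLC.deg0 𝒜) ≃ₐ[GrLC.deg0 𝒜] R, ∀ t : Fin d, e (MvPolynomial.X t) ∈ 𝒜 1 := by
  classical
  have hp := GrLib8.nonneg_of_bot hpos
  -- deg0 is local with maximal ideal m0
  let m0 : Ideal (GrLC.deg0 𝒜) := m.toIdeal.comap (GrLC.deg0 𝒜).subtype
  haveI hmax := GrLib8.isMaximal_of_isStarLocal hpos hm
  have hunit : ∀ x : GrLC.deg0 𝒜, x ∉ m0 → IsUnit x := by
    intro x hx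
    by_contra hnu
    let J : HomogeneousIdeal 𝒜 := ⟨Ideal.span {(x : R)}, Ideal.homogeneous_span 𝒜 _ fun y hy => ⟨0, (Set.mem_singleton_iff.1 hy) ▸ x.2⟩⟩
    have hJ : J ≠ ⊤ := by
      intro htop
      have h1 : (1 : R) ∈ Ideal.span {(x : R)} := by
        show (1 : R) ∈ J.toIdeal
        rw [htop]; trivial
      obtain ⟨y, hy⟩ := Ideal.mem_span_singleton'.1 h1
      have h := congrArg (fun z => (DirectSum.decompose 𝒜 z 0 : R)) hy
      simp only [DirectSum.decompose_of_mem_same 𝒜 (SetLike.one_mem_graded 𝒜)] at h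
      have hd := DirectSum.coe_decompose_mul_add_of_right_mem 𝒜 (a := y) (i := (0 : ℤ)) (show (x : R) ∈ 𝒜 0 from x.2)
      rw [zero_add] at hd
      rw [hd] at h
      exact hnu (IsUnit.of_mul_eq_one ⟨_, (DirectSum.decompose 𝒜 y 0).2⟩ (Subtype.ext (by
        show (x : R) * _ = 1
        rw [mul_comm]; exact h)))
    exact hx (show (x : R) ∈ m.toIdeal from GrLib8.le_of_isStarLocal hm hJ (Ideal.subset_span rfl))
  have hm0 : m0 ≠ ⊤ := fun h => hmax.ne_top ((Ideal.eq_top_iff_one _).2 ((Ideal.eq_top_iff_one m0).1 h : (1 : R) ∈ m.toIdeal))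
  haveI : Nontrivial (GrLC.deg0 𝒜) := by
    refine ⟨0, 1, fun h => hm0 ((Ideal.eq_top_iff_one m0).2 ?_)⟩
    rw [← h]; exact zero_mem _
  haveI : IsLocalRing (GrLC.deg0 𝒜) := IsLocalRing.of_isUnit_or_isUnit_one_sub_self fun x => by
    by_cases hx : x ∈ m0
    · refine Or.inr (hunit _ fun h => hm0 ((Ideal.eq_top_iff_one m0).2 ?_))
      have := add_mem h hx
      rwa [sub_add_cancel] at this
    · exact Or.inl (hunit x hx)
  have hmm : IsLocalRing.maximalIdeal (GrLC.deg0 𝒜) = m0 := by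
    refine le_antisymm (fun x hx => by_contra fun h => hx (hunit x h)) (IsLocalRing.le_maximalIdeal hm0)
  -- the residue field
  have hdec : ∀ r : R, r - (DirectSum.decompose 𝒜 r 0 : R) ∈ (GrSyz.irrel 𝒜).toIdeal := fun r => by
    rw [GrLib8.mem_irrel_iff 𝒜 hp, DirectSum.decompose_sub, DirectSum.sub_apply, AddSubgroupClass.coe_sub,
      DirectSum.decompose_of_mem_same 𝒜 (DirectSum.decompose 𝒜 r 0).2, sub_self]
  obtain ⟨q, hq⟩ := GrLib8.exists_pow_le_irrel hpos hm
  have hirrm : (GrSyz.irrel 𝒜).toIdeal ≤ m.toIdeal := GrLib8.irrel_le_of_isStarLocal hpos hm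
  have hres : Infinite (IsLocalRing.ResidueField (GrLC.deg0 𝒜)) := by
    haveI := hinf
    let ψ : IsLocalRing.ResidueField (GrLC.deg0 𝒜) → R ⧸ m.toIdeal :=
      Ideal.Quotient.lift _ ((Ideal.Quotient.mk m.toIdeal).comp (GrLC.deg0 𝒜).subtype) (fun x hx => by
        rw [hmm] at hx
        exact Ideal.Quotient.eq_zero_iff_mem.2 hx)
    refine Infinite.of_surjective ψ fun z => ?_
    obtain ⟨r, rfl⟩ := Ideal.Quotient.mk_surjective z
    refine ⟨Ideal.Quotient.mk _ ⟨_, (DirectSum.decompose 𝒜 r 0).2⟩, ?_⟩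
    show Ideal.Quotient.mk m.toIdeal (DirectSum.decompose 𝒜 r 0 : R) = Ideal.Quotient.mk m.toIdeal r
    exact (Ideal.Quotient.eq.2 (hirrm (hdec r))).symm
  have hstd' : (GrSyz.irrel 𝒜).toIdeal = Ideal.span ((𝒜 1 : AddSubgroup R) : Set R) :=
    GrLib8.irrel_toIdeal_eq.trans hstd
  -- the regular sequence
  let X := GrLib8.gmodPieces 𝒜 𝒜
  haveI : Module.Finite R X.carrier := inferInstanceAs (Module.Finite R R)
  have hvan : ∀ i, i ≠ d → ∀ g, GrLib8.HVan m X i g := fun i hi g =>
    (GrLib8.hVan_of_pieces_res I).2 (GrLib8.Hcomp_eq_bot_of_ne hpos hm hd hi I g)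
  obtain ⟨l, hlen, hl, hreg, htors⟩ := GrLib8.exists_regular_list_one hpos hm hres hstd' hirrm hq d X
    (fun i hi g => hvan i (by omega) g)
    ((show Module.supportDim R X.carrier = ringKrullDim R from Module.supportDim_self_eq_ringKrullDim R).trans hd).le
  let J : Ideal R := Ideal.ofList (l.map Prod.fst)
  have hJ : ∀ z : R, z ∈ Ideal.ofList (l.map Prod.fst) • (⊤ : Submodule R R) ↔ z ∈ J := fun z => by
    rw [smul_eq_mul, Ideal.mul_top]
  have hJirr : J ≤ (GrSyz.irrel 𝒜).toIdeal := Ideal.span_le.2 fun y hy => by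
    obtain ⟨p, hp', rfl⟩ := List.mem_map.1 hy
    exact GrLib8.mem_irrel_of_pos 𝒜 one_pos (hl p hp').1
  obtain ⟨k₀, hk₀⟩ := htors (1 : R)
  obtain ⟨D, hD⟩ := GrLib8.exists_deg_bound 𝒜 hp
  obtain ⟨c, ⟨z, hz, hzJ⟩, hc⟩ := Int.exists_greatest_of_bdd (P := fun g => ∃ z ∈ 𝒜 g, z ∉ J)
    ⟨((k₀ * D : ℕ) : ℤ), fun g ⟨z, hz, hzJ⟩ => by
      by_contra hg
      refine hzJ ((hJ z).1 ?_)
      have := hk₀ z (Ideal.pow_right_mono hirrm k₀ (hD k₀ g (by omega) z hz))
      have h2 : z * 1 ∈ Ideal.ofList (l.map Prod.fst) • (⊤ : Submodule R R) := this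
      rwa [mul_one] at h2⟩
    ⟨0, 1, SetLike.one_mem_graded 𝒜, fun h => hmax.ne_top ((Ideal.eq_top_iff_one _).2 (hirrm (hJirr h)))⟩
  obtain ⟨-, h2, h3⟩ := GrLib8.hVan_regular_top (a := m) l X
    (fun p hp' => ⟨by rw [(hl p hp').2.1]; exact (hl p hp').1, by rw [(hl p hp').2.1]; exact zero_le_one, (hl p hp').2.2⟩)
    hreg htors c (fun g hg y hy => (hJ y).2 (by_contra fun h => absurd (hc g ⟨y, hy, h⟩) (by omega)))
    ⟨z, hz, fun h => hzJ ((hJ z).1 h)⟩
  rw [hlen] at h2 h3
  have hsum : (l.map Prod.snd).sum = (d : ℤ) := by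
    rw [List.sum_eq_card_nsmul _ (1 : ℤ) (fun x hx => by
      obtain ⟨p, hp', rfl⟩ := List.mem_map.1 hx
      exact (hl p hp').2.1), List.length_map, hlen]
    simp
  have hcr := (GrLib8.PolyChar.endDeg_eq_iff I h2 h3 _).1 ha
  have hc0 : c = 0 := by omega
  subst hc0
  -- the algebra map
  let f : Fin d → R := fun i => (l.map Prod.fst)[(i : ℕ)]'(by rw [List.length_map, hlen]; exact i.2)
  have hf1 : ∀ i, f i ∈ 𝒜 1 := fun i => by
    simp only [f, List.getElem_map]
    exact (hl _ (List.getElem_mem _)).1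
  have hrange : Set.range f = {r | r ∈ l.map Prod.fst} := by
    ext y
    constructor
    · rintro ⟨i, rfl⟩; exact List.getElem_mem _
    · intro hy
      obtain ⟨j, hj, rfl⟩ := List.getElem_of_mem hy
      exact ⟨⟨j, by rw [List.length_map, hlen] at hj; exact hj⟩, rfl⟩
  have hspanJ : Ideal.span (Set.range f) = J := by
    rw [hrange]
  let φ : MvPolynomial (Fin d) (GrLC.deg0 𝒜) →ₐ[GrLC.deg0 𝒜] R := MvPolynomial.aeval f
  have hinj : Function.Injective φ := by
    refine (injective_iff_map_eq_zero _).2 fun P hP => GrLib8.eq_zero_of_aeval_mem d ⊥ f ?_ ?_ P ?_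
    · intro i r hr
      rw [bot_sup_eq] at hr ⊢
      have himg : Ideal.span (f '' {j | j < i}) = Ideal.ofList ((l.map Prod.fst).take i) := by
        refine congrArg Ideal.span (Set.ext fun y => ?_)
        constructor
        · rintro ⟨j, hj, rfl⟩
          exact List.mem_take_iff_getElem.2 ⟨(j : ℕ), lt_min hj (by rw [List.length_map, hlen]; exact j.2), rfl⟩
        · intro hy
          obtain ⟨j, hj, rfl⟩ := List.mem_take_iff_getElem.1 hy
          have hji : j < (i : ℕ) := lt_of_lt_of_le hj (min_le_left _ _)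
          exact ⟨⟨j, hji.trans i.2⟩, hji, rfl⟩
      rw [himg] at hr ⊢
      have hreg' : RingTheory.Sequence.IsWeaklyRegular R (l.map Prod.fst) := hreg
      have hr' := hreg'.regular_mod_prev (i : ℕ) (by rw [List.length_map, hlen]; exact i.2)
      have hT : Ideal.ofList ((l.map Prod.fst).take i) • (⊤ : Submodule R R) = Ideal.ofList ((l.map Prod.fst).take i) := by
        rw [smul_eq_mul, Ideal.mul_top]
      have h0 : f i • (Submodule.Quotient.mk r :
          R ⧸ (Ideal.ofList ((l.map Prod.fst).take i) • (⊤ : Submodule R R))) = 0 := by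
        refine (Submodule.Quotient.mk_smul _ (f i) r).symm.trans ((Submodule.Quotient.mk_eq_zero _).2 ?_)
        rw [hT]
        exact hr
      have h1 := (Submodule.Quotient.mk_eq_zero _).1 (hr'.right_eq_zero_of_smul h0)
      rw [hT] at h1
      exact h1
    · intro a ha'
      rw [bot_sup_eq, hspanJ] at ha'
      refine Subtype.ext ?_
      have := (GrLib8.mem_irrel_iff 𝒜 hp).1 (hJirr ha')
      rwa [show (algebraMap (GrLC.deg0 𝒜) R a) = (a : R) from rfl, DirectSum.decompose_of_mem_same 𝒜 a.2] at this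
    · exact (Submodule.mem_bot R).2 hP
  have hall : ∀ (n : ℕ) (y : R), y ∈ 𝒜 (n : ℤ) → ∃ P, φ P = y := by
    intro n
    induction n with
    | zero => exact fun y hy => ⟨MvPolynomial.C ⟨y, by exact_mod_cast hy⟩, MvPolynomial.aeval_C f _⟩
    | succ n ih =>
      intro y hy
      have hyJ : y ∈ Ideal.span (Set.range f) := by
        rw [hspanJ]
        by_contra hnot
        have := hc _ ⟨y, hy, hnot⟩
        omega
      obtain ⟨a, rfl⟩ := Ideal.mem_span_range_iff_exists_fun.1 hyJ
      have hsplit : ∑ i, a i * f i = ∑ i, (DirectSum.decompose 𝒜 (a i) (n : ℤ) : R) * f i := by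
        conv_lhs => rw [← DirectSum.decompose_of_mem_same 𝒜 hy]
        rw [DirectSum.decompose_sum, DFinsupp.finsetSum_apply, AddSubmonoidClass.coe_finsetSum]
        refine Finset.sum_congr rfl fun i _ => ?_
        have hd' := DirectSum.coe_decompose_mul_add_of_right_mem 𝒜 (a := a i) (i := (n : ℤ)) (hf1 i)
        rw [show ((n + 1 : ℕ) : ℤ) = (n : ℤ) + 1 by push_cast; ring]
        exact hd'
      choose P hP using fun i => ih _ (DirectSum.decompose 𝒜 (a i) (n : ℤ)).2
      refine ⟨∑ i, P i * MvPolynomial.X i, ?_⟩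
      rw [hsplit, map_sum]
      refine Finset.sum_congr rfl fun i _ => ?_
      rw [map_mul, hP i]
      exact congrArg _ (MvPolynomial.aeval_X f i)
  have hsur : Function.Surjective φ := by
    intro y
    rw [← DirectSum.sum_support_decompose 𝒜 y]
    have : ∀ g : ℤ, ∃ P, φ P = (DirectSum.decompose 𝒜 y g : R) := fun g => by
      rcases lt_or_ge g 0 with hg | hg
      · exact ⟨0, by rw [map_zero, hp g hg _ (SetLike.coe_mem _)]⟩
      · obtain ⟨n, rfl⟩ := Int.eq_ofNat_of_zero_le hg
        exact hall n _ (SetLike.coe_mem _)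
    choose P hP using this
    exact ⟨∑ g ∈ (DirectSum.decompose 𝒜 y).support, P g, by simp only [map_sum, hP]⟩
  exact ⟨AlgEquiv.ofBijective φ ⟨hinj, hsur⟩, fun t => by
    show φ (MvPolynomial.X t) ∈ 𝒜 1
    rw [show φ (MvPolynomial.X t) = f t from MvPolynomial.aeval_X f t]
    exact hf1 t⟩

end Groth.Agent.S19881
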