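import Groth.Statements.S19886
import Groth.Agent.GaLin11.GaLin
import Groth.Agent.S18414
import Groth.Agent.QCoh.DevissageP
import Groth.Agent.Snapper.DimVanish

set_option autoImplicit false
universe u
open CategoryTheory CategoryTheory.Limits AlgebraicGeometry
open EtCoh

namespace Groth.Agent.S19886

/-- Let k be a separably closed field of characteristic p > 0 and X a scheme proper over k of dimension
d. Then the étale cohomology groups H^q(X_et, Z/p) with constant coefficients vanish for all q > d.
(The same vanishing for X separated of finite type over an algebraically closed field is a separate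
statement; here the field is only separably closed and X is proper.) -/
theorem result (k : Type u) [Field k] [IsSepClosed k]
    (p : ℕ) [Fact p.Prime] [CharP k p]
    (X : Scheme.{u}) (f : X ⟶ Spec (CommRingCat.of k)) [IsProper f]
    (d : ℕ) (hd : topologicalKrullDim X = d) (q : ℕ) (hq : d + 1 ≤ q) :
    Subsingleton (EtCoh.H X (EtCoh.const X (ZMod p)) q) := by
  obtain ⟨m, rfl⟩ : ∃ m, q = m + 1 := ⟨q - 1, by omega⟩
  haveI : IsLocallyNoetherian X := LocallyOfFiniteType.isLocallyNoetherian f
  haveI : CompactSpace X := QuasiCompact.compactSpace_of_compactSpace f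
  haveI : AlgebraicGeometry.IsNoetherian X := ⟨⟩
  haveI : X.IsSeparated := ⟨by rw [← terminal.comp_from f]; infer_instance⟩
  have h0 : (p : Γ(X, ⊤)) = 0 := by
    have h : Coh.toGlobal f (p : k) = 0 := by rw [CharP.cast_eq_zero k p, map_zero]
    exact (map_natCast (Coh.toGlobal f) p).symm.trans h
  haveI := EtLC12.EtZarCompare.zarCont X
  have hGa : Subsingleton (EtCoh.H X (EtCoh.Ga X) (m + 1)) := by
    obtain ⟨e, -⟩ := GaLin11.exists_H_Ga_addEquiv X (m + 1)
    haveI := Snapper.subsingleton_HH_of_dim_le (X := X) hd.le
      (QCoh.isCoh_structureModule' (X := X)).1 (i := m + 1) (by omega)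
    exact e.toEquiv.subsingleton
  have hs := S18414.result p f h0 m
  have hS := EtLC12.ArtinSchreier.shortExact_kernel (X := X) p h0
  suffices h : Subsingleton (EtCoh.H X (kernel (EtLC12.ArtinSchreier.as p h0)) (m + 1)) from
    @Equiv.subsingleton _ _ ((Sheaf.functorH _ (m + 1)).mapIso
      (asIso (EtLC12.ArtinSchreier.constToKer (X := X) p h0))).addCommGroupIsoToAddEquiv.toEquiv h
  refine subsingleton_of_forall_eq 0 fun x => ?_
  obtain ⟨y, rfl⟩ := Abelian.Ext.covariant_sequence_exact₁ _ hS x (hGa.elim _ _) (rfl : m + 1 = m + 1)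
  obtain ⟨y', rfl⟩ := hs y
  exact SiteBase.Edge.postcomp_extClass_zero _ hS m y'


end Groth.Agent.S19886
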