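import Groth.Statements.S19889
import Groth.Agent.GrpSchLib.HomClosedRange
import Groth.Agent.GrpSchLib.FieldComp
import Mathlib.AlgebraicGeometry.AlgClosed.Basic
import Mathlib.Topology.NoetherianSpace
import Mathlib.AlgebraicGeometry.Noetherian


set_option autoImplicit false
universe u
open CategoryTheory CategoryTheory.Limits MonoidalCategory CartesianMonoidalCategory MonObj GrpObj AlgebraicGeometry
open GrpSch

namespace Groth.Agent.S19889

/-- Let k be an algebraically closed field, G a commutative group scheme locally of finite type over k,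
and i : G⁰ → G its identity component (a homomorphism that is an open immersion onto the connected
component of the unit point). Then the natural map from the torsion subgroup of G(k) to the torsion
subgroup of G(k)/G⁰(k) is surjective: if g is a k-point of G and gⁿ lies in G⁰(k) for some n ≥ 1,
then there is a k-point t of G of finite order such that t⁻¹ g lies in G⁰(k). -/
theorem result (k : Type u) [Field k] [IsAlgClosed k]
    {G G0 : Over (Spec (CommRingCat.of k))} [GrpObj G] [IsCommMonObj G] [GrpObj G0]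
    [LocallyOfFiniteType G.hom] (i : G0 ⟶ G) [IsMonHom i] (hi : AutSch.IsIdComp i)
    (g : 𝟙_ (Over (Spec (CommRingCat.of k))) ⟶ G) (n : ℕ) (hn : 0 < n)
    (hg : g ^ n ∈ AutSch.ptsRange i) :
    ∃ t : 𝟙_ (Over (Spec (CommRingCat.of k))) ⟶ G, IsOfFinOrder t ∧ t⁻¹ * g ∈ AutSch.ptsRange i := by
  classical
  let pt := IsLocalRing.closedPoint k
  obtain ⟨-, hio, hrange⟩ := hi
  haveI := hio
  haveI : LocallyOfFiniteType G0.hom := by rw [← Over.w i]; infer_instance
  obtain ⟨c, hc, hce⟩ := GrpSchLib.exists_isMaxPt ((η[G] : 𝟙_ _ ⟶ G).left pt)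
  have hcomp : Set.range i.left = closure {c} := by
    rw [show Set.range i.left = SGA3x.neutralSet G from hrange, ← GrpSchLib.connectedComponent_one hc hce]
    ext y
    simp only [SGA3x.neutralSet, Set.mem_iUnion]
    have hsub : ∀ p : ↥((𝟙_ (Over (Spec (CommRingCat.of k)))).left), p = pt := fun p =>
      Subsingleton.elim (α := PrimeSpectrum k) _ _
    have huniv : ∀ p : ↥((𝟙_ (Over (Spec (CommRingCat.of k)))).left),
        G.hom.base ⁻¹' {(𝟙_ (Over (Spec (CommRingCat.of k)))).hom.base p} = Set.univ := fun p =>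
      Set.eq_univ_of_forall fun z => Subsingleton.elim (α := PrimeSpectrum k) _ _
    constructor
    · rintro ⟨p, hp⟩
      rw [huniv, connectedComponentIn_univ, hsub p] at hp
      exact hp
    · intro hp
      refine ⟨pt, ?_⟩
      rw [huniv, connectedComponentIn_univ]
      exact hp
  haveI : CompactSpace G0.left := by
    refine ⟨i.left.isOpenEmbedding.isInducing.isCompact_iff.mpr ?_⟩
    rw [Set.image_univ, hcomp]
    exact GrpSchLib.isCompact_closure_one hc hce
  haveI : IsLocallyNoetherian G0.left := LocallyOfFiniteType.isLocallyNoetherian G0.hom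
  haveI : IsNoetherian G0.left := ⟨⟩
  let f : ℕ → (G0 ⟶ G) := fun j => i ^ (n ^ j)
  have hf : ∀ j (T : Over (Spec (CommRingCat.of k))) (x : T ⟶ G0), x ≫ f j = (x ≫ i) ^ (n ^ j) := fun j T x =>
    MonObj.comp_pow i (n ^ j) x
  have hfm : ∀ j, IsMonHom (f j) := fun j => by
    let F : ((fst G0 G0 : G0 ⊗ G0 ⟶ G0) ≫ f j) * (snd G0 G0 ≫ f j) = (fst G0 G0 * snd G0 G0) ≫ f j := by
      rw [hf, hf, hf, MonObj.mul_comp, _root_.mul_pow]
    refine ⟨?_, ?_⟩
    · rw [hf, IsMonHom.one_hom, MonObj.one_eq_one, one_pow]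
    · have h2 : μ[G0] = fst G0 G0 * snd G0 G0 := by rw [Hom.mul_def, lift_fst_snd, Category.id_comp]
      rw [h2, ← F, Hom.mul_def, ← lift_map, lift_fst_snd, Category.id_comp]
  have hqc : ∀ j, QuasiCompact (f j).left := fun j => by
    haveI : QuasiCompact ((f j).left ≫ G.hom) := by
      rw [Over.w (f j)]; exact (quasiCompact_iff_compactSpace G0.hom).2 inferInstance
    exact QuasiCompact.of_comp (f j).left G.hom
  have hclosed : ∀ j, IsClosed (Set.range (f j).left) := fun j => by
    haveI := hfm j; haveI := hqc j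
    exact GrpSchLib.HomClosedRange.isClosed_range (f j)
  have hdec : ∀ j, Set.range (f (j + 1)).left ⊆ Set.range (f j).left := by
    intro j
    have : (𝟙 G0 ^ n) ≫ f j = f (j + 1) := by
      rw [hf]
      show ((𝟙 G0 ^ n) ≫ i) ^ (n ^ j) = i ^ (n ^ (j + 1))
      rw [MonObj.pow_comp, Category.id_comp, ← pow_mul, pow_succ, Nat.mul_comm]
    rw [← this]
    rintro _ ⟨x, rfl⟩
    exact ⟨(𝟙 G0 ^ n : G0 ⟶ G0).left x, rfl⟩
  let I : ℕ → TopologicalSpace.Closeds G0.left := fun j =>
    ⟨i.left ⁻¹' Set.range (f j).left, (hclosed j).preimage i.left.continuous⟩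
  have hanti : Antitone I := antitone_nat_of_succ_le fun j z hz => hdec j hz
  obtain ⟨_, ⟨N, rfl⟩, hmin⟩ := (wellFounded_lt (α := TopologicalSpace.Closeds G0.left)).has_min (Set.range I) ⟨_, 0, rfl⟩
  have hN : ∀ m, N ≤ m → I N = I m := fun m hm =>
    (eq_of_le_of_not_lt (hanti hm) (hmin _ ⟨m, rfl⟩)).symm
  obtain ⟨h0, hh0⟩ := hg
  change h0 ≫ i = g ^ n at hh0
  let a : 𝟙_ (Over (Spec (CommRingCat.of k))) ⟶ G := h0 ≫ f N
  have hmem : a.left pt ∈ Set.range (f (N + 1)).left := by
    have hy : (h0 ^ (n ^ N)).left pt ∈ I N := ⟨h0.left pt, by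
      show (h0 ≫ f N).left pt = ((h0 ^ (n ^ N)) ≫ i).left pt
      rw [hf, MonObj.pow_comp]⟩
    rw [hN (N + 1) (Nat.le_succ N)] at hy
    show (h0 ≫ f N).left pt ∈ _
    rw [hf, ← MonObj.pow_comp]
    exact hy
  have hcl : IsClosed ({a.left pt} : Set G.left) :=
    ((pointEquivClosedPoint G.hom) ⟨a.left, Over.w a⟩).2
  haveI : JacobsonSpace G0.left := LocallyOfFiniteType.jacobsonSpace G0.hom
  obtain ⟨y₀, hy₀⟩ := hmem
  obtain ⟨y, hy, hyc⟩ := (hcl.preimage (f (N + 1)).left.continuous).exists_closed_singleton ⟨y₀, hy₀⟩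
  let x : 𝟙_ (Over (Spec (CommRingCat.of k))) ⟶ G0 :=
    Over.homMk ((pointEquivClosedPoint G0.hom).symm ⟨y, hyc⟩).1 ((pointEquivClosedPoint G0.hom).symm ⟨y, hyc⟩).2
  have hx : x.left pt = y :=
    congrArg Subtype.val ((pointEquivClosedPoint G0.hom).apply_symm_apply ⟨y, hyc⟩)
  have heq : x ≫ f (N + 1) = a := by
    refine Over.OverMorphism.ext (ext_of_apply_closedPoint_eq G.hom (Over.w _) (Over.w _) ?_)
    show (f (N + 1)).left (x.left pt) = a.left pt
    rw [hx]
    exact hy
  refine ⟨g * (x ≫ i)⁻¹, isOfFinOrder_iff_pow_eq_one.2 ⟨n ^ (N + 1), pow_pos hn _, ?_⟩, x, ?_⟩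
  · have h1 : (x ≫ i) ^ (n ^ (N + 1)) = g ^ (n ^ (N + 1)) := by
      rw [← hf, heq, show a = h0 ≫ f N from rfl, hf, hh0, ← pow_mul, pow_succ, Nat.mul_comm]
    rw [_root_.mul_pow, inv_pow, h1, mul_inv_cancel]
  · show x ≫ i = _
    rw [_root_.mul_inv_rev, _root_.inv_inv, _root_.mul_assoc, inv_mul_cancel, _root_.mul_one]

end Groth.Agent.S19889
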