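import Groth.Statements.S19890
import Groth.Agent.CAlgDescent.Principal

set_option autoImplicit false
universe u
open CAlg

namespace Groth.Agent.S19890

/-- Let R → R' be a faithfully flat ring map between Noetherian integrally closed local domains. Then
unique factorization descends along this map: when R' is a UFD, so is R. (The first assertion of the
lemma, descent of principality for an ideal whose extension to R' is principal, is a separate
statement.) -/
theorem result
    (R R' : Type u) [CommRing R] [CommRing R'] [IsDomain R] [IsDomain R']
    [IsNoetherianRing R] [IsNoetherianRing R'] [IsLocalRing R] [IsLocalRing R']
    [IsIntegrallyClosed R] [IsIntegrallyClosed R']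
    [Algebra R R'] [Module.FaithfullyFlat R R'] [UniqueFactorizationMonoid R'] :
    UniqueFactorizationMonoid R := by
  exact Groth.Agent.CAlgDescent.ufd_of_faithfullyFlat (S := R')

end Groth.Agent.S19890
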