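import Groth.Statements.S19892
import Groth.Agent.MorLib.DenseValuative

set_option autoImplicit false
universe u
open CategoryTheory AlgebraicGeometry
open ValCrit

namespace Groth.Agent.S19892

/-- Let h : Z → Y and f : Y → X be morphisms of quasi-compact quasi-separated schemes, with h dominant
and f locally of finite type. Then f is proper if and only if the following refined valuative
criterion holds: for every point z of Z, every valuation ring R of the residue field κ(z) and every
morphism φ : Spec R → X whose restriction to Spec κ(z) is the canonical morphism Spec κ(z) → Z → Y →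
X, there is exactly one morphism Spec R → Y lying over φ and restricting to Spec κ(z) → Z → Y on the
generic point. (The published statement does not require h to be dominant; its proof uses that every
point of Y generalises to a point of h(Z), and for Z empty the criterion holds whatever f is, so
dominance of h is assumed here.) -/
theorem result {X Y Z : Scheme.{u}} (h : Z ⟶ Y) (f : Y ⟶ X)
    [CompactSpace ↥Z] [QuasiSeparatedSpace ↥Z] [CompactSpace ↥Y] [QuasiSeparatedSpace ↥Y]
    [CompactSpace ↥X] [QuasiSeparatedSpace ↥X] (hd : DenseRange h.base)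
    [LocallyOfFiniteType f] :
    IsProper f ↔
      ∀ (z : ↥Z) (R : ValuationSubring ↑(Z.residueField z)) (φ : Spec (CommRingCat.of ↥R) ⟶ X),
        Spec.map (CommRingCat.ofHom R.subtype) ≫ φ = Z.fromSpecResidueField z ≫ h ≫ f →
        ∃! φ' : Spec (CommRingCat.of ↥R) ⟶ Y,
          Spec.map (CommRingCat.ofHom R.subtype) ≫ φ' = Z.fromSpecResidueField z ≫ h ∧ φ' ≫ f = φ := by
    constructor
    · intro _ z R φ hφ
      let sq : ValuativeCommSq f :=
        { R := R, K := Z.residueField z, i₁ := Z.fromSpecResidueField z ≫ h, i₂ := φ
          commSq := ⟨(Category.assoc _ _ _).trans hφ.symm⟩ }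
      have hv : ValuativeCriterion f := (IsProper.eq_valuativeCriterion ▸ (inferInstance : IsProper f)).1.1.1
      obtain ⟨hu⟩ := hv sq
      refine ⟨hu.default.l, ⟨hu.default.fac_left, hu.default.fac_right⟩, fun ψ hψ => ?_⟩
      exact congrArg CommSq.LiftStruct.l (hu.uniq ⟨ψ, hψ.1, hψ.2⟩)
    · intro H
      have hU : Groth.Agent.MorLib.DenseValuative.UniqueLifts f h := fun z R l₁ l₂ e h1 h2 => by
        obtain ⟨l, -, huniq⟩ := H z R (l₁ ≫ f) (by rw [reassoc_of% h1])
        exact (huniq l₁ ⟨h1, rfl⟩).trans (huniq l₂ ⟨h2, e.symm⟩).symm
      have hE : Groth.Agent.MorLib.DenseValuative.HasLifts f h := fun z R φ hφ => by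
        obtain ⟨l, ⟨h1, h2⟩, -⟩ := H z R φ hφ
        exact ⟨l, h2, h1⟩
      have hs := Groth.Agent.MorLib.DenseValuative.isSeparated_of_uniqueLifts f h hd hU
      exact IsProper.of_valuativeCriterion f (ValuativeCriterion.iff.2
        ⟨Groth.Agent.MorLib.DenseValuative.existence_of_dense f h hd hE hU, IsSeparated.valuativeCriterion f⟩)

end Groth.Agent.S19892
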