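import Groth.Statements.S19895
import Groth.Agent.VerlindeLib.Stair

set_option autoImplicit false
open Complex
open VerlindeComb

namespace Groth.Agent.S19895

/-- Fix integers r ≥ 2 and k ≥ 1, and two partitions λ, λ' with k ≥ λ_1 ≥ ⋯ ≥ λ_{r-1} ≥ λ_r = 0 and k ≥
λ'_1 ≥ ⋯ ≥ λ'_{r-1} ≥ λ'_r = 0 such that λ is not equivalent to the dual partition λ'* = (k − λ'_r,
…, k − λ'_1), two integer vectors being equivalent when their difference is a constant vector (a, …,
a). For an integer vector v with r + k > v_1 > ⋯ > v_{r-1} > v_r = 0 put z(v)_j = exp(2πi v_j / (r +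
k)), let S_μ(v) = det(z(v)_j^{μ_i + r − i}) / det(z(v)_j^{r − i}) be the Schur value and P(v) =
∏_{i<j} (2 sin(π (v_i − v_j)/(r + k)))². Then the sum over all such v of exp(−2πi (|λ| + |λ'|) (v_1
+ ⋯ + v_r) / (r (r + k))) · S_λ(v) · S_{λ'}(v) · P(v) vanishes; that is, the genus-zero Verlinde
number of rank r, degree 0 and level k with two parabolic points of types λ, λ' is zero. (Only the
vanishing case is stated; the complementary case, where the number equals 1, is not part of this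
statement. The source allows r = 1, where the non-equivalence hypothesis cannot hold.) Indices are
0-based below: lam i stands for λ_{i+1}. -/
theorem result (r k : ℕ) (hr : 2 ≤ r)
    (hk : 1 ≤ k) (lam lam' : Fin r → ℕ) (hlam : Antitone lam) (hlamk : ∀ i, lam i ≤ k)
    (hlam0 : ∀ i : Fin r, (i : ℕ) = r - 1 → lam i = 0)
    (hlam' : Antitone lam') (hlam'k : ∀ i, lam' i ≤ k) (hlam'0 : ∀ i : Fin r, (i : ℕ) = r - 1 → lam' i = 0)
    (hne : ¬ ∃ a : ℤ, ∀ i, (lam i : ℤ) - ((k - lam' (Fin.rev i) : ℕ) : ℤ) = a)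
    (z : (Fin r → ℕ) → Fin r → ℂ)
    (hz : ∀ v j, z v j = Complex.exp (2 * Real.pi * Complex.I * (v j : ℂ) / ((r : ℂ) + k)))
    (S : (Fin r → ℕ) → (Fin r → ℕ) → ℂ)
    (hS : ∀ μ v, S μ v = (Matrix.of fun i j : Fin r => z v j ^ (μ i + (r - 1 - (i : ℕ)))).det /
        (Matrix.of fun i j : Fin r => z v j ^ (r - 1 - (i : ℕ))).det)
    (P : (Fin r → ℕ) → ℝ)
    (hP : ∀ v, P v = ∏ p ∈ (Finset.univ : Finset (Fin r × Fin r)).filter (fun p => p.1 < p.2),
        ((2 : ℝ) * Real.sin (Real.pi * ((v p.1 : ℝ) - (v p.2 : ℝ)) / ((r : ℝ) + k))) ^ 2) :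
    (∑ v ∈ (Finset.univ : Finset (Fin r → Fin (r + k))).filter
        (fun v : Fin r → Fin (r + k) => StrictAnti v ∧ ∀ i : Fin r, (i : ℕ) = r - 1 → (v i : ℕ) = 0),
      Complex.exp (-(2 * Real.pi * Complex.I * (((∑ i, lam i) + (∑ i, lam' i) : ℕ) : ℂ) *
          ((∑ j, (v j : ℕ) : ℕ) : ℂ) / ((r : ℂ) * ((r : ℂ) + k)))) *
        S lam (fun j => (v j : ℕ)) * S lam' (fun j => (v j : ℕ)) * (P (fun j => (v j : ℕ)) : ℂ)) = 0 := by
  classical
  haveI : NeZero (r + k) := ⟨by omega⟩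
  let x : Fin r → ℤ := fun i => (lam i : ℤ) + ((r - 1 - (i : ℕ) : ℕ) : ℤ)
  let y : Fin r → ℤ := fun i => ((r - 1 - (i : ℕ) : ℕ) : ℤ) - (lam' i.rev : ℤ)
  have hd : ∑ i, x i - ∑ i, y i = (((∑ i, lam i) + (∑ i, lam' i) : ℕ) : ℤ) := by
    simp only [x, y, Finset.sum_add_distrib, Finset.sum_sub_distrib]
    rw [show ∑ i : Fin r, ((lam' i.rev : ℕ) : ℤ) = ∑ i : Fin r, ((lam' i : ℕ) : ℤ) from
      Equiv.sum_comp (Fin.revPerm : Equiv.Perm (Fin r)) (fun i => ((lam' i : ℕ) : ℤ))]
    push_cast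
    ring
  rw [Finset.sum_congr rfl (g := fun u => Groth.Agent.VerlindeLib.twPair x y
    (Groth.Agent.VerlindeLib.toZ u)) ?_]
  · refine Groth.Agent.VerlindeLib.sum_pts_twPair_eq_zero (by omega) x y ?_ ?_ ?_ ?_ ?_
    · intro i j h
      have := hlam h.le
      have : (i : ℕ) < j := h
      have := j.isLt
      simp only [x]
      omega
    · intro i j h
      have := hlam' (Fin.rev_le_rev.mpr h.le)
      have : (i : ℕ) < j := h
      have := j.isLt
      simp only [y]
      omega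
    · intro i j
      have := hlamk i
      have := i.isLt
      simp only [x]
      omega
    · intro i j
      have := hlam'k j.rev
      have := i.isLt
      simp only [y]
      omega
    · rintro ⟨a, ha⟩
      refine hne ⟨a - k, fun i => ?_⟩
      have := ha i
      have := hlam'k i.rev
      simp only [x, y] at *
      omega
  intro u hu
  simp only [Finset.mem_filter, Finset.mem_univ, true_and] at hu
  set U := Groth.Agent.VerlindeLib.toZ u with hU
  have hUinj : Function.Injective U := Groth.Agent.VerlindeLib.toZ_injective hu.1.injective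
  have hzU : ∀ j, z (fun j => (u j : ℕ)) j = ZMod.stdAddChar (U j) := fun j => by
    rw [hz, Groth.Agent.VerlindeLib.exp_eq_stdAddChar]
    rfl
  have hDne := Groth.Agent.VerlindeLib.alt_stair_ne_zero hUinj
  have hD : (Matrix.of fun i j : Fin r => z (fun j => (u j : ℕ)) j ^ (r - 1 - (i : ℕ))).det =
      Groth.Agent.VerlindeLib.alt (Groth.Agent.VerlindeLib.stair r (r + k)) U :=
    Groth.Agent.VerlindeLib.det_pow_eq_alt (fun i => r - 1 - (i : ℕ)) U _ hzU
  have hP' : (P (fun j => (u j : ℕ)) : ℂ) =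
      Groth.Agent.VerlindeLib.pair (Groth.Agent.VerlindeLib.stair r (r + k))
        (Groth.Agent.VerlindeLib.stair r (r + k)) U := by
    rw [hP, Groth.Agent.VerlindeLib.prod_sin_sq_eq (N := r + k) (fun j => (u j : ℕ)) _
      (by push_cast; ring)]
    rfl
  have h1 : (fun i => (x i : ZMod (r + k))) =
      fun i => ((lam i + (r - 1 - (i : ℕ)) : ℕ) : ZMod (r + k)) := by
    funext i
    simp only [x]
    push_cast
    ring
  have h2 : (fun i => -(y i : ZMod (r + k))) =
      (fun i => ((lam' i + (r - 1 - (i : ℕ)) : ℕ) : ZMod (r + k)) + -((r - 1 : ℕ) : ZMod (r + k))) ∘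
        (Fin.revPerm : Equiv.Perm (Fin r)) := by
    funext i
    simp only [y, Function.comp_apply, Fin.revPerm_apply, Fin.val_rev]
    have := i.isLt
    rw [show r - 1 - (r - ((i : ℕ) + 1)) = (i : ℕ) by omega,
      show (r - 1 : ℕ) = (r - 1 - (i : ℕ)) + (i : ℕ) by omega]
    push_cast
    rw [Nat.add_sub_cancel]
    ring
  rw [hS, hS, hD, hP', Groth.Agent.VerlindeLib.det_pow_eq_alt _ U _ hzU,
    Groth.Agent.VerlindeLib.det_pow_eq_alt _ U _ hzU,
    Groth.Agent.VerlindeLib.twPair, Groth.Agent.VerlindeLib.pair,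
    Groth.Agent.VerlindeLib.pair, h1, h2, Groth.Agent.VerlindeLib.alt_neg_stair,
    Groth.Agent.VerlindeLib.alt_perm_left, Groth.Agent.VerlindeLib.alt_add_left, hd]
  have hexp : Complex.exp (-(2 * Real.pi * Complex.I * (((∑ i, lam i) + (∑ i, lam' i) : ℕ) : ℂ) *
      ((∑ j, (u j : ℕ) : ℕ) : ℂ) / ((r : ℂ) * ((r : ℂ) + k)))) =
      Groth.Agent.VerlindeLib.tw (r + k) r (((∑ i, lam i) + (∑ i, lam' i) : ℕ) : ℤ)
        (Groth.Agent.VerlindeLib.size U) := by
    simp only [Groth.Agent.VerlindeLib.tw, Groth.Agent.VerlindeLib.size, hU,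
      Groth.Agent.VerlindeLib.toZ_val]
    push_cast
    rfl
  rw [hexp]
  field_simp

end Groth.Agent.S19895
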