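import Groth.Statements.S19900
import Groth.Agent.AlgStLib.SepDescend

set_option autoImplicit false
universe u
open CategoryTheory AlgebraicGeometry
open AlgSt

namespace Groth.Agent.S19900

/-- Let f : 𝒳 → 𝒴 and g : 𝒴 → 𝒵 be morphisms of algebraic stacks with composite h : 𝒳 → 𝒵. If f is flat,
surjective, universally injective and locally of finite presentation, the diagonal of f is
universally closed and h is separated, then g is separated. (The published statement does not ask
the diagonal of f to be universally closed, and without it the statement fails: over the affine line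
T over a field let G be the constant group scheme with two elements, H the etale group scheme
obtained from G by gluing its two sections over the complement of the origin, and f the morphism
from the classifying stack of G to that of H induced by the quotient map; then f is flat,
surjective, universally injective and locally of finite presentation, the classifying stack of G is
separated over T since G is finite, and that of H is not since H is not separated. The published
argument uses that the diagonal of f is universally closed.) -/
theorem result
    (S : Scheme.{u}) (𝒳 : AlgSt.Cat S) (𝒴 : AlgSt.Cat S) (𝒵 : AlgSt.Cat S)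
    (h𝒳 : AlgSt.IsAlgStack Scheme.fppfPrecoverage 𝒳)
    (h𝒴 : AlgSt.IsAlgStack Scheme.fppfPrecoverage 𝒴)
    (h𝒵 : AlgSt.IsAlgStack Scheme.fppfPrecoverage 𝒵)
    (f : 𝒳 ⥤ᵇ 𝒴) (g : 𝒴 ⥤ᵇ 𝒵)
    (hf₁ : AlgSt.IsSurjective f) (hf₂ : AlgSt.LocQ (AlgSp.LocP @Flat) f)
    (hf₃ : AlgSt.LocQ (AlgSp.LocP @LocallyOfFinitePresentation) f)
    (hf₄ : AlgSt.IsUnivInjective Scheme.fppfPrecoverage f)
    (hf₅ : AlgSt.RepByAlgSpWith AlgSp.IsUnivClosedMor (FibCat.diag f))
    (hh : AlgSt.IsSeparatedMor (BasedFunctor.comp f g)) :
    AlgSt.IsSeparatedMor g :=
  Groth.Agent.AlgStLib.isSeparatedMor_descends h𝒳 h𝒴 h𝒵 hf₁ hf₂ hf₃ hf₄ hf₅ hh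

end Groth.Agent.S19900
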