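import Groth.Statements.S19901
import Groth.Agent.AlgStLci.Cancel

set_option backward.isDefEq.respectTransparency false
set_option backward.isDefEq.respectTransparency.types false
-- import your own Groth.Agent.* helpers here

set_option autoImplicit false
universe u
open CategoryTheory AlgebraicGeometry
open AlgSt

namespace Groth.Agent.S19901

/-- Let f : 𝒳 → 𝒴, q : 𝒴 → 𝒵 and p : 𝒳 → 𝒵 be morphisms of algebraic stacks forming a 2-commutative
triangle (a 2-isomorphism between q ∘ f and p is given). If q is smooth and p is a local complete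
intersection morphism (Koszul), then f is a local complete intersection morphism. Smooth and local
complete intersection morphisms of algebraic stacks are read on one square of smooth scheme charts. -/
theorem result
    (S : Scheme.{u}) (𝒳 : AlgSt.Cat S) (𝒴 : AlgSt.Cat S) (𝒵 : AlgSt.Cat S)
    (h𝒳 : AlgSt.IsAlgStack Scheme.fppfPrecoverage 𝒳)
    (h𝒴 : AlgSt.IsAlgStack Scheme.fppfPrecoverage 𝒴)
    (h𝒵 : AlgSt.IsAlgStack Scheme.fppfPrecoverage 𝒵)
    (f : 𝒳 ⥤ᵇ 𝒴) (q : 𝒴 ⥤ᵇ 𝒵) (p : 𝒳 ⥤ᵇ 𝒵) (e : BasedFunctor.comp f q ≅ p)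
    (hq : AlgSt.LocQ (AlgSp.LocP @Smooth) q) (hp : AlgSt.LocQ AlgSp.IsLCIMor p) :
    AlgSt.LocQ AlgSp.IsLCIMor f :=  Groth.Agent.AlgStLci.locQ_lci_of_comp h𝒳 h𝒴 h𝒵 e hq hp
end Groth.Agent.S19901
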