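import Groth.Statements.S19904
import Groth.Agent.ArtFunLib.FunPullback
-- import your own Groth.Agent.* helpers here

set_option autoImplicit false
universe u v
open CategoryTheory
open ArtFun

namespace Groth.Agent.S19904

/-- For functors F, G, G' on Artinian local Λ-algebras with residue field k and morphisms φ : F → G, ψ :
G' → G: if φ is smooth then the base change F ×_G G' → G' (second projection of the fibre product of
functors) is smooth. -/
theorem result {Λ : Type u} {k : Type u} [CommRing Λ] [Field k] [Algebra Λ k]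
    [IsNoetherianRing Λ] [Module.Finite Λ k]
    {F G G' : ArtFun.Art Λ k ⥤ Type v} (φ : F ⟶ G) (ψ : G' ⟶ G) (hφ : ArtFun.IsSmooth φ) :
    ArtFun.IsSmooth (Limits.pullback.snd φ ψ) := by
  intro B A μ hμ
  rintro ⟨⟨z, y⟩, hzy⟩
  have hc := ArtFunLib.pullback_condition_apply φ ψ z
  obtain ⟨w, hw⟩ := hφ μ hμ ⟨((Limits.pullback.fst φ ψ).app A z, ψ.app B y), by
    rw [hc]
    exact (congrArg (ψ.app A) hzy).trans (NatTrans.naturality_apply ψ μ y)⟩
  have hw1 : F.map μ w = (Limits.pullback.fst φ ψ).app A z := congrArg (fun t => t.1.1) hw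
  have hw2 : φ.app B w = ψ.app B y := congrArg (fun t => t.1.2) hw
  obtain ⟨v, hv1, hv2⟩ := ArtFunLib.pullback_exists φ ψ w y hw2
  refine ⟨v, Subtype.ext (Prod.ext (ArtFunLib.pullback_ext φ ψ ?_ ?_) hv2)⟩
  · exact (NatTrans.naturality_apply (Limits.pullback.fst φ ψ) μ v).trans
      ((congrArg (F.map μ) hv1).trans hw1)
  · exact (NatTrans.naturality_apply (Limits.pullback.snd φ ψ) μ v).trans
      ((congrArg (G'.map μ) hv2).trans hzy.symm)

end Groth.Agent.S19904
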