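import Groth.Statements.S19906
import Groth.Agent.H23.GraphComp
import Groth.Agent.H23.ProdEmbed
import Groth.Agent.S1582
-- import your own Groth.Agent.* helpers here

set_option autoImplicit false
set_option linter.style.haveILetI false
set_option backward.isDefEq.respectTransparency.types false
universe u
open CategoryTheory CategoryTheory.Limits AlgebraicGeometry
attribute [local instance] HasDerivedCategory.standard
open IntMult

open Groth.Agent.H23 Groth.Agent.H23.ChowMul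

namespace Groth.Agent.S19906

/-- Let f : X → Y and g : Y → Z be morphisms of nonsingular projective varieties over an algebraically
closed field and define the pullback on Chow groups through graphs, f^*β = pr_{X,*}(Γ_f · pr_Y^*β)
with Γ_f ⊂ X × Y and · the intersection product of X × Y, and likewise g^* through Γ_g ⊂ Y × Z and
(g ∘ f)^* through Γ_{g∘f} ⊂ X × Z. Then (g ∘ f)^*α = f^*(g^*α) for α ∈ CH_k(Z). Here X, Y, Z and the
three products are nonsingular varieties over the algebraically closed field K (smooth, separated,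
quasi-compact, integral) embedded as closed subschemes of projective spaces over K, with dimension
functions the transcendence degree (Cyc.IsSetup, Cyc.DeltaCompat to Spec K with value 0) and
dimensions dX, dY, dZ and their sums pinned at the generic points; the products on the Chow groups
of X × Y, Y × Z, X × Z are any mulXY, mulYZ, mulXZ with ChowOps.IsChowMul; each graph cycle is the
prime cycle of the image of the generic point under the graph morphism; pr^* is the coefficientwise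
flat pullback, pr_* the proper pushforward of a representing cycle, and the two sides are compared
up to rational equivalence on X as (k + dX - dZ)-cycles. -/
theorem result (K : Type u) [Field K] [IsAlgClosed K] (X : Scheme.{u}) (fX : X ⟶ Spec (CommRingCat.of K)) [Smooth fX] [IsSeparated fX] [QuasiCompact fX] [IsIntegral X] (δX : X → ℤ) (hX : Cyc.IsSetup X δX) (hδX : Cyc.DeltaCompat fX δX (fun _ ↦ 0)) (dX : ℕ) (hdX : δX (genericPoint X) = dX) (NX : ℕ) (ιX : X ⟶ CohB1.ProjSpace NX K) [IsClosedImmersion ιX] (hιX : ιX ≫ CohB1.ProjSpace.toSpec NX K = fX) (Y : Scheme.{u}) (fY : Y ⟶ Spec (CommRingCat.of K)) [Smooth fY] [IsSeparated fY] [QuasiCompact fY] [IsIntegral Y] (δY : Y → ℤ) (hY : Cyc.IsSetup Y δY) (hδY : Cyc.DeltaCompat fY δY (fun _ ↦ 0)) (dY : ℕ) (hdY : δY (genericPoint Y) = dY) (NY : ℕ) (ιY : Y ⟶ CohB1.ProjSpace NY K) [IsClosedImmersion ιY] (hιY : ιY ≫ CohB1.ProjSpace.toSpec NY K = fY) (Z : Scheme.{u})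 (fZ : Z ⟶ Spec (CommRingCat.of K)) [Smooth fZ] [IsSeparated fZ] [QuasiCompact fZ] [IsIntegral Z] (δZ : Z → ℤ) (hZ : Cyc.IsSetup Z δZ) (hδZ : Cyc.DeltaCompat fZ δZ (fun _ ↦ 0)) (dZ : ℕ) (hdZ : δZ (genericPoint Z) = dZ) (NZ : ℕ) (ιZ : Z ⟶ CohB1.ProjSpace NZ K) [IsClosedImmersion ιZ] (hιZ : ιZ ≫ CohB1.ProjSpace.toSpec NZ K = fZ) (f : X ⟶ Y) (hf : f ≫ fY = fX) (g : Y ⟶ Z) (hg : g ≫ fZ = fY) [IsIntegral (pullback fX fY)] (δXY : ↥(pullback fX fY) → ℤ) (hXY : Cyc.IsSetup (pullback fX fY) δXY) (hδXY : Cyc.DeltaCompat (pullback.fst fX fY ≫ fX) δXY (fun _ ↦ 0)) (hdXY : δXY (genericPoint ↥(pullback fX fY)) = (dX : ℤ) + (dY : ℤ)) (NXY : ℕ) (ιXY : (pullback fX fY) ⟶ CohB1.ProjSpace NXY K) [IsClosedImmersion ιXY] (hιXY : ιXY ≫ CohB1.ProjSpace.toSpec NXY K = pullback.fst fX fY ≫ fX) (mulXY : (r s : ℤ) → ChowOps.CH (pullback fX fY) δXY r → ChowOps.CH (pullback fX fY) δXY s → ChowOps.CH (pullback fX fY) δXY (r + s -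 ((dX : ℤ) + (dY : ℤ)))) (hmulXY : ChowOps.IsChowMul (pullback fX fY) δXY ((dX : ℤ) + (dY : ℤ)) mulXY) [IsIntegral (pullback fY fZ)] (δYZ : ↥(pullback fY fZ) → ℤ) (hYZ : Cyc.IsSetup (pullback fY fZ) δYZ) (hδYZ : Cyc.DeltaCompat (pullback.fst fY fZ ≫ fY) δYZ (fun _ ↦ 0)) (hdYZ : δYZ (genericPoint ↥(pullback fY fZ)) = (dY : ℤ) + (dZ : ℤ)) (NYZ : ℕ) (ιYZ : (pullback fY fZ) ⟶ CohB1.ProjSpace NYZ K) [IsClosedImmersion ιYZ] (hιYZ : ιYZ ≫ CohB1.ProjSpace.toSpec NYZ K = pullback.fst fY fZ ≫ fY) (mulYZ : (r s : ℤ) → ChowOps.CH (pullback fY fZ) δYZ r → ChowOps.CH (pullback fY fZ) δYZ s → ChowOps.CH (pullback fY fZ) δYZ (r + s - ((dY : ℤ) + (dZ : ℤ)))) (hmulYZ : ChowOps.IsChowMul (pullback fY fZ) δYZ ((dY : ℤ) + (dZ : ℤ)) mulYZ) [IsIntegral (pullback fX fZ)] (δXZ : ↥(pullback fX fZ) → ℤ) (hXZ : Cyc.IsSetup (pullback fX fZ) δXZ) (hδXZ : Cyc.DeltaCompat (pullback.fst fX fZ ≫ fX) δXZ (fun _ ↦ 0)) (hdXZ : δXZ (genericPoint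 ↥(pullback fX fZ)) = (dX : ℤ) + (dZ : ℤ)) (NXZ : ℕ) (ιXZ : (pullback fX fZ) ⟶ CohB1.ProjSpace NXZ K) [IsClosedImmersion ιXZ] (hιXZ : ιXZ ≫ CohB1.ProjSpace.toSpec NXZ K = pullback.fst fX fZ ≫ fX) (mulXZ : (r s : ℤ) → ChowOps.CH (pullback fX fZ) δXZ r → ChowOps.CH (pullback fX fZ) δXZ s → ChowOps.CH (pullback fX fZ) δXZ (r + s - ((dX : ℤ) + (dZ : ℤ)))) (hmulXZ : ChowOps.IsChowMul (pullback fX fZ) δXZ ((dX : ℤ) + (dZ : ℤ)) mulXZ) (γXY : AlgebraicCycle (pullback fX fY) ℤ) (hγXY : ⇑γXY = Set.indicator {(pullback.lift (𝟙 X) f (Eq.trans (Category.id_comp fX) hf.symm)) (genericPoint X)} 1) (hγXYk : γXY ∈ Cyc.Zk (pullback fX fY) δXY (dX : ℤ)) (γYZ : AlgebraicCycle (pullback fY fZ) ℤ) (hγYZ : ⇑γYZ = Set.indicator {(pullback.lift (𝟙 Y) g (Eq.trans (Category.id_comp fY) hg.symm)) (genericPoint Y)} 1) (hγYZk : γYZ ∈ Cyc.Zk (pullback fY fZ) δYZ (dY : ℤ)) (γXZ : AlgebraicCycle (pullback fX fZ) ℤ) (hγXZ : ⇑γXZ = Set.indicator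 {(pullback.lift (𝟙 X) (f ≫ g) (Eq.trans (Category.id_comp fX) (Eq.symm (Eq.trans (Category.assoc f g fZ) (Eq.trans (congrArg (CategoryStruct.comp f) hg) hf))))) (genericPoint X)} 1) (hγXZk : γXZ ∈ Cyc.Zk (pullback fX fZ) δXZ (dX : ℤ)) (k : ℤ) (α : AlgebraicCycle Z ℤ) (hα : α ∈ Cyc.Zk Z δZ k) (αYZ : AlgebraicCycle (pullback fY fZ) ℤ) (hαYZ : ⇑αYZ = Cyc.pullFun (pullback.snd fY fZ) δYZ δZ (dY : ℤ) ⇑α) (hαYZk : αYZ ∈ Cyc.Zk (pullback fY fZ) δYZ (k + dY)) (ζ₁ : AlgebraicCycle (pullback fY fZ) ℤ) (hζ₁k : ζ₁ ∈ Cyc.Zk (pullback fY fZ) δYZ ((dY : ℤ) + (k + dY) - ((dY : ℤ) + (dZ : ℤ)))) (hζ₁ : ChowOps.cl ζ₁ hζ₁k = mulYZ (dY : ℤ) (k + dY) (ChowOps.cl γYZ hγYZk) (ChowOps.cl αYZ hαYZk)) (β : AlgebraicCycle Y ℤ) (hβ : β = AlgebraicCycle.map (pullback.fst fY fZ) δYZ δY ζ₁) (βXY : AlgebraicCycle (pullback fX fY) ℤ) (hβXY : ⇑βXY = Cyc.pullFun (pullback.snd fX fY) δXY δY (dX : ℤ) ⇑β) (hβXYk : βXY ∈ Cyc.Zk (pullback fX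 fY) δXY (((dY : ℤ) + (k + dY) - ((dY : ℤ) + (dZ : ℤ))) + dX)) (ζ₂ : AlgebraicCycle (pullback fX fY) ℤ) (hζ₂k : ζ₂ ∈ Cyc.Zk (pullback fX fY) δXY ((dX : ℤ) + (((dY : ℤ) + (k + dY) - ((dY : ℤ) + (dZ : ℤ))) + dX) - ((dX : ℤ) + (dY : ℤ)))) (hζ₂ : ChowOps.cl ζ₂ hζ₂k = mulXY (dX : ℤ) (((dY : ℤ) + (k + dY) - ((dY : ℤ) + (dZ : ℤ))) + dX) (ChowOps.cl γXY hγXYk) (ChowOps.cl βXY hβXYk)) (αXZ : AlgebraicCycle (pullback fX fZ) ℤ) (hαXZ : ⇑αXZ = Cyc.pullFun (pullback.snd fX fZ) δXZ δZ (dX : ℤ) ⇑α) (hαXZk : αXZ ∈ Cyc.Zk (pullback fX fZ) δXZ (k + dX)) (ζ₃ : AlgebraicCycle (pullback fX fZ) ℤ) (hζ₃k : ζ₃ ∈ Cyc.Zk (pullback fX fZ) δXZ ((dX : ℤ) + (k + dX) - ((dX : ℤ) + (dZ : ℤ)))) (hζ₃ : ChowOps.cl ζ₃ hζ₃k = mulXZ (dX : ℤ) (k + dX) (ChowOps.cl γXZ hγXZk) (ChowOps.cl αXZ hαXZk)) : Cyc.RatEquiv δX (k + dX - dZ) (AlgebraicCycle.map (pullback.fst fX fZ) δXZ δX ζ₃) (AlgebraicCycle.map (pullback.fst fX fY) δXY δX ζ₂) := by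
  haveI := hX.1
  haveI := hY.1
  haveI := hXY.1
  haveI := hYZ.1
  haveI := hXZ.1
  haveI : IsProper fY := GraphSetup.isProper_of_embedding ιY hιY
  haveI : IsProper fZ := GraphSetup.isProper_of_embedding ιZ hιZ
  haveI : Flat fX := AlgStLib.OnePt.flat_of_field fX
  haveI : Flat fY := AlgStLib.OnePt.flat_of_field fY
  haveI : Flat fZ := AlgStLib.OnePt.flat_of_field fZ
  have hfg : (f ≫ g) ≫ fZ = fX := by rw [Category.assoc, hg, hf]
  haveI hcf := GraphSetup.isClosedImmersion_graph fX fY hf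
  haveI hcg := GraphSetup.isClosedImmersion_graph fY fZ hg
  haveI hch := GraphSetup.isClosedImmersion_graph fX fZ hfg
  set γf := pullback.lift (𝟙 X) f (Eq.trans (Category.id_comp fX) hf.symm)
  set γg := pullback.lift (𝟙 Y) g (Eq.trans (Category.id_comp fY) hg.symm)
  set γh := pullback.lift (𝟙 X) (f ≫ g) (Eq.trans (Category.id_comp fX) hfg.symm)
  -- the triple product
  let W3 := pullback fX (pullback.fst fY fZ ≫ fY)
  let g3 : W3 ⟶ Spec (CommRingCat.of K) := pullback.fst fX (pullback.fst fY fZ ≫ fY) ≫ fX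
  let π23 : W3 ⟶ pullback fY fZ := pullback.snd fX (pullback.fst fY fZ ≫ fY)
  let π12 : W3 ⟶ pullback fX fY := pullback.lift (pullback.fst fX (pullback.fst fY fZ ≫ fY))
    (π23 ≫ pullback.fst fY fZ) (by rw [Category.assoc]; exact pullback.condition)
  let π13 : W3 ⟶ pullback fX fZ := pullback.lift (pullback.fst fX (pullback.fst fY fZ ≫ fY))
    (π23 ≫ pullback.snd fY fZ) (by rw [Category.assoc, ← pullback.condition]; exact pullback.condition)
  let t : pullback fX fY ⟶ W3 := pullback.lift (pullback.fst fX fY) (pullback.snd fX fY ≫ γg) (by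
    rw [pullback.condition, Category.assoc]
    simp only [γg, pullback.lift_fst_assoc, Category.id_comp])
  have sq12 : IsPullback π23 π12 (pullback.fst fY fZ) (pullback.snd fX fY) := by
    refine (IsPullback.of_right (h₁₂ := pullback.fst fX fY) ?_ ?_ (IsPullback.of_hasPullback fX fY).flip.flip).flip
    · rw [show π12 ≫ pullback.fst fX fY = pullback.fst fX (pullback.fst fY fZ ≫ fY) from pullback.lift_fst _ _ _]
      exact IsPullback.of_hasPullback _ _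
    · exact pullback.lift_snd _ _ _
  have sq13 : IsPullback π23 π13 (pullback.snd fY fZ) (pullback.snd fX fZ) := by
    refine (IsPullback.of_right (h₁₂ := pullback.fst fX fZ) ?_ ?_ (IsPullback.of_hasPullback fX fZ)).flip
    · rw [show π13 ≫ pullback.fst fX fZ = pullback.fst fX (pullback.fst fY fZ ≫ fY) from pullback.lift_fst _ _ _,
        ← pullback.condition]
      exact IsPullback.of_hasPullback _ _
    · exact pullback.lift_snd _ _ _
  have htsq : IsPullback t (pullback.snd fX fY) π23 γg := by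
    refine (IsPullback.of_right (h₁₂ := pullback.fst fX (pullback.fst fY fZ ≫ fY)) ?_ ?_
      (IsPullback.of_hasPullback fX (pullback.fst fY fZ ≫ fY)))
    · rw [show t ≫ pullback.fst fX (pullback.fst fY fZ ≫ fY) = pullback.fst fX fY from pullback.lift_fst _ _ _,
        show γg ≫ pullback.fst fY fZ ≫ fY = fY by simp only [γg, pullback.lift_fst_assoc, Category.id_comp]]
      exact IsPullback.of_hasPullback fX fY
    · exact pullback.lift_snd _ _ _
  haveI : IsClosedImmersion t := MorphismProperty.of_isPullback (P := @IsClosedImmersion) htsq.flip hcg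
  haveI : IsProper π12 := MorphismProperty.of_isPullback (P := @IsProper) sq12 inferInstance
  haveI : Flat π12 := MorphismProperty.of_isPullback (P := @Flat) sq12 inferInstance
  haveI : IsProper π13 := MorphismProperty.of_isPullback (P := @IsProper) sq13 inferInstance
  haveI : Flat π13 := MorphismProperty.of_isPullback (P := @Flat) sq13 inferInstance
  haveI : IsIntegral W3 := S1582.result K X (pullback fY fZ) fX (pullback.fst fY fZ ≫ fY)
  haveI : Smooth g3 := inferInstanceAs (Smooth (pullback.fst fX (pullback.fst fY fZ ≫ fY) ≫ fX))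
  haveI : IsSeparated g3 := inferInstanceAs (IsSeparated (pullback.fst fX (pullback.fst fY fZ ≫ fY) ≫ fX))
  haveI : QuasiCompact g3 := inferInstanceAs (QuasiCompact (pullback.fst fX (pullback.fst fY fZ ≫ fY) ≫ fX))
  let δ3 : W3 → ℤ := fun w => (FibDim.rd g3 w : ℤ)
  have hδ3 : Cyc.DeltaCompat g3 δ3 (fun _ => 0) := by
    have h := CycLib.deltaCompat_rd g3
    exact h
  have h3 : Cyc.IsSetup W3 δ3 := SetupLFT.isSetup g3 (CycLib.isSetup_spec_field K) hδ3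
  haveI := h3.1
  haveI : Flat (pullback.fst fY fZ ≫ fY) := inferInstance
  have hd3 : δ3 (genericPoint W3) = (dX : ℤ) + ((dY : ℤ) + dZ) := by
    rw [CrossProd.delta_generic (pullback.fst fX (pullback.fst fY fZ ≫ fY)) π23 fX (pullback.fst fY fZ ≫ fY)
      (IsPullback.of_hasPullback _ _) hδX hδYZ hδ3, hdX, hdYZ]
  obtain ⟨N3, ι3, hι3, hι3c⟩ := ProdEmbed.exists_embedding ιX hιX ιYZ hιYZ
  haveI := hι3
  have M3 := ChowMul.moving g3 h3 hδ3 hd3 ι3 hι3c
  have MXY := ChowMul.moving (pullback.fst fX fY ≫ fX) hXY hδXY hdXY ιXY hιXY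
  have MYZ := ChowMul.moving (pullback.fst fY fZ ≫ fY) hYZ hδYZ hdYZ ιYZ hιYZ
  have MXZ := ChowMul.moving (pullback.fst fX fZ ≫ fX) hXZ hδXZ hdXZ ιXZ hιXZ
  -- structure maps and dimensions
  have e12 : π12 ≫ pullback.fst fX fY ≫ fX = g3 := by
    rw [← Category.assoc]; exact congrArg (· ≫ fX) (pullback.lift_fst _ _ _)
  have e13 : π13 ≫ pullback.fst fX fZ ≫ fX = g3 := by
    rw [← Category.assoc]; exact congrArg (· ≫ fX) (pullback.lift_fst _ _ _)
  have e23 : π23 ≫ pullback.fst fY fZ ≫ fY = g3 := pullback.condition.symm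
  have c12 := GraphComp.compat_of_str π12 _ g3 e12 hδ3 hδXY
  have c13 := GraphComp.compat_of_str π13 _ g3 e13 hδ3 hδXZ
  have c23 := GraphComp.compat_of_str π23 _ g3 e23 hδ3 hδYZ
  have cY1 := GraphSetup.compat_fst fY fZ hδY hδYZ
  have cX2 := GraphSetup.compat_snd fX fY hδY hδXY
  have cZY := GraphSetup.compat_snd fY fZ hδZ hδYZ
  have cZX := GraphSetup.compat_snd fX fZ hδZ hδXZ
  have cX1 := GraphSetup.compat_fst fX fY hδX hδXY
  have cX3 := GraphSetup.compat_fst fX fZ hδX hδXZ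
  have r2 := GraphSetup.hasRelDim_snd fX fY hδX hdX
  have rZY := GraphSetup.hasRelDim_snd fY fZ hδY hdY
  have rZX := GraphSetup.hasRelDim_snd fX fZ hδX hdX
  have r12 : Cyc.HasRelDim π12 dZ := FibDim.hasRelDim_baseChange sq12 (GraphSetup.hasRelDim_fst fY fZ hδZ hdZ)
  have r13 : Cyc.HasRelDim π13 dY := FibDim.hasRelDim_baseChange sq13 rZY
  have r23 : Cyc.HasRelDim π23 dX := GraphSetup.hasRelDim_snd fX (pullback.fst fY fZ ≫ fY) hδX hdX
  have s23 := FlatShift.hasShift_of_hasRelDim π23 r23 c23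
  have s12 := FlatShift.hasShift_of_hasRelDim π12 r12 c12
  have s2 := FlatShift.hasShift_of_hasRelDim (pullback.snd fX fY) r2 cX2
  have t1 : t ≫ pullback.fst fX (pullback.fst fY fZ ≫ fY) = pullback.fst fX fY := pullback.lift_fst _ _ _
  have t2 : t ≫ π23 = pullback.snd fX fY ≫ γg := pullback.lift_snd _ _ _
  have p1 : π12 ≫ pullback.fst fX fY = pullback.fst fX (pullback.fst fY fZ ≫ fY) := pullback.lift_fst _ _ _
  have p2 : π12 ≫ pullback.snd fX fY = π23 ≫ pullback.fst fY fZ := pullback.lift_snd _ _ _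
  have q1 : π13 ≫ pullback.fst fX fZ = pullback.fst fX (pullback.fst fY fZ ≫ fY) := pullback.lift_fst _ _ _
  have q2 : π13 ≫ pullback.snd fX fZ = π23 ≫ pullback.snd fY fZ := pullback.lift_snd _ _ _
  have ht12 : t ≫ π12 = 𝟙 (pullback fX fY) := by
    apply pullback.hom_ext
    · rw [Category.assoc, p1, t1, Category.id_comp]
    · rw [Category.assoc, p2, ← Category.assoc, t2, Category.assoc, pullback.lift_fst, Category.comp_id,
        Category.id_comp]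
  have htg : t ≫ g3 = pullback.fst fX fY ≫ fX := by rw [← e12, ← Category.assoc, ht12, Category.id_comp]
  have hδt : δXY = fun x => δ3 (t x) := GraphFlat.delta_graph t (pullback.fst fX fY ≫ fX) g3 htg hδXY hδ3
  have hδgY := GraphSetup.delta_graph fY fZ hδY hδZ hδYZ hg
  have hδfX := GraphSetup.delta_graph fX fY hδX hδY hδXY hf
  have hδhX := GraphSetup.delta_graph fX fZ hδX hδZ hδXZ hfg
  -- the cycles on the triple product
  have hG : Cyc.pullFun π23 δ3 δYZ dX ⇑γYZ = Set.indicator {t (genericPoint ↥(pullback fX fY))} 1 := by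
    rw [hγYZ]
    exact GraphComp.pullFun_section π23 π12 (pullback.fst fY fZ) (pullback.snd fX fY) t γg sq12 htsq ht12
      (pullback.lift_fst _ _ _) h3.2.2 hXY.2.2 s23 s2 c12 cY1 hδt hδgY (by rw [hdXY, hdY]; ring)
  set G := FlatClass.pullCycle s23 h3.2.2 γYZ
  set A := FlatClass.pullCycle s23 h3.2.2 αYZ
  set U := FlatClass.pullCycle s23 h3.2.2 ζ₁
  set F := FlatClass.pullCycle s12 h3.2.2 γXY
  have hGk : G ∈ Cyc.Zk W3 δ3 ((dY : ℤ) + dX) := FlatClass.pullCycle_mem s23 h3.2.2 hγYZk rfl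
  have hAk : A ∈ Cyc.Zk W3 δ3 (k + dY + dX) := FlatClass.pullCycle_mem s23 h3.2.2 hαYZk rfl
  have hUk : U ∈ Cyc.Zk W3 δ3 ((dY : ℤ) + (k + dY) - ((dY : ℤ) + dZ) + dX) := FlatClass.pullCycle_mem s23 h3.2.2 hζ₁k rfl
  have hFk : F ∈ Cyc.Zk W3 δ3 ((dX : ℤ) + dZ) := FlatClass.pullCycle_mem s12 h3.2.2 hγXYk rfl
  have hGA : ChowMul.Prod δ3 ((dX : ℤ) + ((dY : ℤ) + dZ)) ((dY : ℤ) + dX) (k + dY + dX) G A U :=
    GraphChow.prod_pull g3 (pullback.fst fY fZ ≫ fY) π23 e23 hδ3 hδYZ c23 hd3 hdYZ (e := dX) (by ring) r23 M3 MYZ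
      rfl rfl rfl (ChowMul.of_mul MYZ hmulYZ hζ₁)
  -- the graph of the pair
  set T := AlgebraicCycle.map t δXY δ3 γXY with hTdef
  have hGF : ChowMul.Prod δ3 ((dX : ℤ) + ((dY : ℤ) + dZ)) ((dY : ℤ) + dX) ((dX : ℤ) + dZ) G F T := by
    haveI : Flat (t ≫ π12) := ht12 ▸ inferInstance
    obtain ⟨hp, he⟩ := GraphFlatGen.interProd_graph (e := (dZ : ℤ)) t π12 (pullback.fst fX fY ≫ fX)
      (pullback.fst fX fY ≫ fX) g3 htg hXY.2.2 hXY.2.2 h3.2.2 hδXY hδXY hδ3 hdXY hdXY (by rw [hd3]; ring)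
      (CycleClassK.lfPts_cycle γXY) (fun y hy => hγXYk y hy) γXY (by rw [ht12, sub_self, GraphChow.pullFun_id])
    rw [show (dX : ℤ) + dY + dZ = (dX : ℤ) + ((dY : ℤ) + dZ) by ring] at hp he
    refine ChowMul.of_proper hGk hFk ?_ ?_
    · show IntMult.IntersectProperly _ _ (Cyc.pullFun π23 δ3 δYZ dX ⇑γYZ) (Cyc.pullFun π12 δ3 δXY dZ ⇑γXY)
      rw [hG]; exact hp
    · show _ = IntMult.interProd _ _ (Cyc.pullFun π23 δ3 δYZ dX ⇑γYZ) (Cyc.pullFun π12 δ3 δXY dZ ⇑γXY)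
      rw [hG]; exact he
  have hTk : T ∈ Cyc.Zk W3 δ3 (dX : ℤ) := Bivar.cycMap_mem_Zk t δXY δ3 dX hγXYk
  have hTk' : T ∈ Cyc.Zk W3 δ3 ((dX : ℤ) + dZ + ((dY : ℤ) + dX) - ((dX : ℤ) + ((dY : ℤ) + dZ))) := by
    rwa [show (dX : ℤ) + dZ + ((dY : ℤ) + dX) - ((dX : ℤ) + ((dY : ℤ) + dZ)) = dX by ring]
  obtain ⟨z, hzk, hz⟩ := ChowMul.exists_prod M3 hTk' hAk
  have hUk' : U ∈ Cyc.Zk W3 δ3 ((dY : ℤ) + dX + (k + dY + dX) - ((dX : ℤ) + ((dY : ℤ) + dZ))) := by
    rwa [show (dY : ℤ) + dX + (k + dY + dX) - ((dX : ℤ) + ((dY : ℤ) + dZ)) =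
      (dY : ℤ) + (k + dY) - ((dY : ℤ) + dZ) + dX by ring]
  obtain ⟨y, hyk, hy⟩ := ChowMul.exists_prod M3 hFk hUk'
  have eyz := ChowMul.prod_assoc M3 hFk hGk hAk (ChowMul.prod_symm hGF) hz hGA hy
  -- the pull-back of the pull-back
  have hy' := ChowMul.prod_symm hy
  rw [show (dY : ℤ) + dX + (k + dY + dX) - ((dX : ℤ) + ((dY : ℤ) + dZ)) =
    (dY : ℤ) + (k + dY) - ((dY : ℤ) + dZ) + dX by ring] at hy'
  have h2 := GraphChow.prod_push g3 (pullback.fst fX fY ≫ fX) π12 e12 hδ3 hδXY c12 hd3 hdXY (e := dZ) (by ring) r12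
    M3 MXY hUk hγXYk (P := F) rfl hy'
  have hbc := FlatShift.map_pullFun_baseChange sq12 s2 hXY.2.2 cY1 c12 ζ₁ U rfl
  rw [← hβ, ← hβXY] at hbc
  rw [← DFunLike.coe_injective hbc] at h2
  have eζ₂ := ChowMul.unique MXY (ChowMul.prod_symm (ChowMul.of_mul MXY hmulXY hζ₂)) h2
  -- the pull-back along the composite
  rw [show (dX : ℤ) + dZ + ((dY : ℤ) + dX) - ((dX : ℤ) + ((dY : ℤ) + dZ)) = dX by ring,
    show k + (dY : ℤ) + dX = k + dX + dY by ring] at hz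
  have hA13 : ⇑A = Cyc.pullFun π13 δ3 δXZ dY ⇑αXZ := by
    show Cyc.pullFun π23 δ3 δYZ dX ⇑αYZ = _
    rw [hαYZ, hαXZ, CycLib.pullFun_comp π23 (pullback.snd fY fZ) c23 cZY r23 rZY,
      CycLib.pullFun_comp π13 (pullback.snd fX fZ) c13 cZX r13 rZX, add_comm (dX : ℤ)]
    rw [sq13.w]
  have h3' := GraphChow.prod_push g3 (pullback.fst fX fZ ≫ fX) π13 e13 hδ3 hδXZ c13 hd3 hdXZ (e := dY) (by ring) r13
    M3 MXZ hTk hαXZk (P := A) hA13 hz
  have hT13 : AlgebraicCycle.map π13 δ3 δXZ T = γXZ := by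
    let E : AlgebraicCycle X ℤ := MoveLemma.ofFinite _ (MoveLemma.finite_indicator (genericPoint X))
    have ef : γXY = AlgebraicCycle.map γf δX δXY E :=
      DFunLike.coe_injective (hγXY.trans (GraphComp.map_closed_indicator γf hδfX E rfl).symm)
    have eh : γXZ = AlgebraicCycle.map γh δX δXZ E :=
      DFunLike.coe_injective (hγXZ.trans (GraphComp.map_closed_indicator γh hδhX E rfl).symm)
    rw [hTdef, ef, eh, CycLib.map_map t π13 (hδt ▸ GysinLib.deltaCompat_closedImmersion t δ3) c13]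
    have ctp : Cyc.DeltaCompat (t ≫ π13) δXY δXZ :=
      GraphComp.compat_of_str (t ≫ π13) _ _ (by rw [Category.assoc, e13, htg]) hδXY hδXZ
    rw [CycLib.map_map γf (t ≫ π13) (hδfX ▸ GysinLib.deltaCompat_closedImmersion γf δXY) ctp]
    have e : γf ≫ t ≫ π13 = γh := by
      apply pullback.hom_ext
      · rw [Category.assoc, Category.assoc, q1, t1, pullback.lift_fst, pullback.lift_fst]
      · rw [Category.assoc, Category.assoc, q2, ← Category.assoc t, t2, Category.assoc, pullback.lift_snd,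
          ← Category.assoc, pullback.lift_snd, pullback.lift_snd]
    simp only [e]
  rw [hT13] at h3'
  have eζ₃ := ChowMul.unique MXZ (ChowMul.of_mul MXZ hmulXZ hζ₃) h3'
  -- push to the source
  have hmap : ∀ w : AlgebraicCycle W3 ℤ, AlgebraicCycle.map (pullback.fst fX fZ) δXZ δX
      (AlgebraicCycle.map π13 δ3 δXZ w) =
      AlgebraicCycle.map (pullback.fst fX fY) δXY δX (AlgebraicCycle.map π12 δ3 δXY w) := fun w => by
    rw [CycLib.map_map _ _ c13 cX3, CycLib.map_map _ _ c12 cX1]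
    simp only [π12, π13, pullback.lift_fst]
  have k0 : (dX : ℤ) + dZ + ((dY : ℤ) + dX + (k + dY + dX) - ((dX : ℤ) + ((dY : ℤ) + dZ))) -
      ((dX : ℤ) + ((dY : ℤ) + dZ)) = k + dX - dZ := by ring
  have k1 : (dX : ℤ) + (k + dX) - ((dX : ℤ) + dZ) = k + dX - dZ := by ring
  have k2 : (dY : ℤ) + (k + dY) - ((dY : ℤ) + dZ) + dX + (dX : ℤ) - ((dX : ℤ) + dY) = k + dX - dZ := by ring
  rw [k0] at eyz
  rw [k1] at eζ₃
  rw [k2] at eζ₂
  have hd := hX.2.2
  have p3 := GraphChow.push_congr (pullback.fst fX fZ) hXZ hX cX3 eζ₃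
  rw [hmap] at p3
  have p2 := GraphChow.push_congr (pullback.fst fX fY) hXY hX cX1
    (ChowMul.trans hXY.2.2 eζ₂ (ChowMul.symm hXY.2.2 (GraphChow.push_congr π12 h3 hXY c12 eyz)))
  exact ChowMul.trans hd p3 (ChowMul.symm hd p2)

end Groth.Agent.S19906
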