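import Groth.Statements.S19908
import Groth.Agent.AlgStLib.LargestOpenBC

set_option autoImplicit false
open CategoryTheory AlgebraicGeometry
universe u
open AlgSt

namespace Groth.Agent.S19908

/-- Let `P`, `Q`, `R` be properties of morphisms of algebraic spaces over `S`, each stable under base
change and fppf local on the base, such that smooth morphisms have `R`, every morphism `f : X ⟶ Y`
of algebraic spaces with `Q` admits a largest open subspace `W ⊂ X` on which `f` has `P`, and for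
such `f` and every `g : Y' ⟶ Y` with `R` the inverse image of `W` in `X ×_Y Y'` is the largest open
subspace on which the base change of `f` has `P`. Let `f : 𝒳 ⟶ 𝒴` be a 1-morphism of algebraic
stacks over `S`, representable by algebraic spaces, with `Q`, and let `𝒳' ⊂ 𝒳` be the largest open
substack on which `f` has `P` (given by its object predicate `Q₀`). Then for every 1-morphism `z : 𝒵
⟶ 𝒴` of algebraic stacks representable by algebraic spaces with `R`, the inverse image of `𝒳'` in `𝒵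
×_𝒴 𝒳` (the objects whose second component satisfies `Q₀`) is the largest open substack of `𝒵 ×_𝒴 𝒳`
on which the base change `𝒵 ×_𝒴 𝒳 ⟶ 𝒵` has `P`. (Stability under base change is asked for every
pullback square of fppf sheaves whose four corners are algebraic spaces; part (A), the existence of
`𝒳'`, is a separate statement and enters here as the hypotheses on `Q₀`.) -/
theorem result {S : Scheme.{u}} {𝒳 𝒴 𝒵 : AlgSt.Cat S}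
    (h𝒳 : AlgSt.IsAlgStack Scheme.fppfPrecoverage 𝒳) (h𝒴 : AlgSt.IsAlgStack Scheme.fppfPrecoverage 𝒴)
    (h𝒵 : AlgSt.IsAlgStack Scheme.fppfPrecoverage 𝒵)
    (P Q R : MorphismProperty (AlgSp.Sp S))
    (hPb : ∀ ⦃X₁ Y₁ X₂ Y₂ : AlgSp.Sp S⦄, AlgSp.IsAlgSpace X₁ → AlgSp.IsAlgSpace Y₁ → AlgSp.IsAlgSpace X₂ →
      AlgSp.IsAlgSpace Y₂ → ∀ (a : X₁ ⟶ Y₁) (b : Y₂ ⟶ Y₁) (a' : X₂ ⟶ Y₂) (b' : X₂ ⟶ X₁),
      IsPullback b' a' a b → P a → P a')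
    (hQb : ∀ ⦃X₁ Y₁ X₂ Y₂ : AlgSp.Sp S⦄, AlgSp.IsAlgSpace X₁ → AlgSp.IsAlgSpace Y₁ → AlgSp.IsAlgSpace X₂ →
      AlgSp.IsAlgSpace Y₂ → ∀ (a : X₁ ⟶ Y₁) (b : Y₂ ⟶ Y₁) (a' : X₂ ⟶ Y₂) (b' : X₂ ⟶ X₁),
      IsPullback b' a' a b → Q a → Q a')
    (hRb : ∀ ⦃X₁ Y₁ X₂ Y₂ : AlgSp.Sp S⦄, AlgSp.IsAlgSpace X₁ → AlgSp.IsAlgSpace Y₁ → AlgSp.IsAlgSpace X₂ →
      AlgSp.IsAlgSpace Y₂ → ∀ (a : X₁ ⟶ Y₁) (b : Y₂ ⟶ Y₁) (a' : X₂ ⟶ Y₂) (b' : X₂ ⟶ X₁),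
      IsPullback b' a' a b → R a → R a')
    (hP : AlgSp.IsLocalOnBase AlgSp.IsFppfCover P) (hQ : AlgSp.IsLocalOnBase AlgSp.IsFppfCover Q)
    (hR : AlgSp.IsLocalOnBase AlgSp.IsFppfCover R)
    (h₂ : ∀ (X Y : AlgSp.Space S) (g : X ⟶ Y), AlgSp.LocP @Smooth g.hom → R g.hom)
    (h₃ : ∀ (X Y : AlgSp.Space S) (f : X ⟶ Y), Q f.hom →
      ∃ (W : AlgSp.Space S) (w : W ⟶ X), (AlgSp.RepWith @IsOpenImmersion w.hom ∧ P (w ≫ f).hom ∧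
          ∀ (W₁ : AlgSp.Space S) (w₁ : W₁ ⟶ X), AlgSp.RepWith @IsOpenImmersion w₁.hom → P (w₁ ≫ f).hom →
            ∃ k : W₁ ⟶ W, k ≫ w = w₁))
    (h₄ : ∀ (X Y X' Y' : AlgSp.Space S) (f : X ⟶ Y) (g : Y' ⟶ Y) (f' : X' ⟶ Y') (g' : X' ⟶ X),
      IsPullback g'.hom f'.hom f.hom g.hom → Q f.hom → R g.hom →
      ∀ (W : AlgSp.Space S) (w : W ⟶ X), (AlgSp.RepWith @IsOpenImmersion w.hom ∧ P (w ≫ f).hom ∧
          ∀ (W₁ : AlgSp.Space S) (w₁ : W₁ ⟶ X), AlgSp.RepWith @IsOpenImmersion w₁.hom → P (w₁ ≫ f).hom →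
            ∃ k : W₁ ⟶ W, k ≫ w = w₁) →
        ∀ (W' : AlgSp.Space S) (w' : W' ⟶ X') (k : W' ⟶ W), IsPullback k.hom w'.hom w.hom g'.hom →
          (AlgSp.RepWith @IsOpenImmersion w'.hom ∧ P (w' ≫ f').hom ∧
          ∀ (W₁ : AlgSp.Space S) (w₁ : W₁ ⟶ X'), AlgSp.RepWith @IsOpenImmersion w₁.hom → P (w₁ ≫ f').hom →
            ∃ k : W₁ ⟶ W', k ≫ w' = w₁))
    (f : 𝒳 ⥤ᵇ 𝒴) (hf : AlgSt.RepByAlgSpWith Q f)
    (Q₀ : 𝒳.obj → Prop) (hQ₀ : AlgSt.IsOpenSubstack 𝒳 Q₀ Scheme.fppfPrecoverage)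
    (hQ₀P : AlgSt.RepByAlgSpWith P (BasedFunctor.comp (AlgSt.subIncl 𝒳 Q₀) f))
    (hQ₀max : ∀ Q₁ : 𝒳.obj → Prop, AlgSt.IsOpenSubstack 𝒳 Q₁ Scheme.fppfPrecoverage →
      AlgSt.RepByAlgSpWith P (BasedFunctor.comp (AlgSt.subIncl 𝒳 Q₁) f) → ∀ y, Q₁ y → Q₀ y)
    (z : 𝒵 ⥤ᵇ 𝒴) (hz : AlgSt.RepByAlgSpWith R z) :
    AlgSt.IsOpenSubstack (FibCat.fp z f) (fun b ↦ Q₀ b.obj.snd) Scheme.fppfPrecoverage ∧
      AlgSt.RepByAlgSpWith P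
        (BasedFunctor.comp (AlgSt.subIncl (FibCat.fp z f) fun b ↦ Q₀ b.obj.snd) (FibCat.fpFst z f)) ∧
        ∀ Q₁ : (FibCat.fp z f).obj → Prop, AlgSt.IsOpenSubstack (FibCat.fp z f) Q₁ Scheme.fppfPrecoverage →
          AlgSt.RepByAlgSpWith P (BasedFunctor.comp (AlgSt.subIncl (FibCat.fp z f) Q₁) (FibCat.fpFst z f)) →
            ∀ b, Q₁ b → Q₀ b.obj.snd := by
  exact AlgStLib.largest_openSubstack_baseChange hPb hQb hP h₂ h₃ h₄ hf h𝒳 h𝒴 h𝒵 hQ₀ hQ₀P hQ₀max z hz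

end Groth.Agent.S19908
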