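import Groth.Statements.S19910
import Groth.Agent.H26.Brnch.Geom

set_option autoImplicit false
universe u
open CategoryTheory CategoryTheory.Limits AlgebraicGeometry
open Models
open CategoryTheory AlgebraicGeometry

namespace Groth.Agent.S19910

/-- Let R be a complete discrete valuation ring with algebraically closed residue field, W and Z
integral normal schemes which are flat, of finite type and of dimension 2 over Spec R, and ψ : W ->
Z a finite surjective R-morphism. Let z be a closed point of Z in the special fibre, w a point of W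
with ψ(w) = z, Δ an irreducible component of the special fibre of Z containing z, and E the union of
the irreducible components of the special fibre of W which contain w and whose image under ψ is Δ.
For a curve C over the residue field and a closed point c, write m(C, c) for the number of points
over c in the normalization of the reduction of C, that is, the number of branches of C at c. Then
m(E, w) ≥ m(Δ, z). Here Δ and E are given arbitrary closed-subscheme structures D and E' (the
numbers of branches depend only on the underlying reduced schemes). (The published statement asks W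
and Z only to be normal; they are taken integral as well here.) -/
theorem result
    (R : Type u) [CommRing R] [IsDomain R] [IsDiscreteValuationRing R]
    [IsAdicComplete (IsLocalRing.maximalIdeal R) R] (hk : IsAlgClosed (IsLocalRing.ResidueField R))
    (W Z : Over (Spec (CommRingCat.of R))) [IsIntegral W.left] [IsIntegral Z.left]
    (hWn : Pi1.IsNormalScheme W.left) (hZn : Pi1.IsNormalScheme Z.left)
    [Flat W.hom] [LocallyOfFiniteType W.hom] [QuasiCompact W.hom]
    [Flat Z.hom] [LocallyOfFiniteType Z.hom] [QuasiCompact Z.hom]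
    (hdW : topologicalKrullDim W.left = 2) (hdZ : topologicalKrullDim Z.left = 2)
    (ψ : W ⟶ Z) [IsFinite ψ.left] [Surjective ψ.left]
    (z : Z.left) (hzc : IsClosed ({z} : Set Z.left)) (hz : z ∈ Models.specialFibreSet R Z)
    (w : W.left) (hw : ψ.left.base w = z)
    (Δ : Set Z.left) (hΔ : Δ ∈ Models.fibreComponents R Z) (hzΔ : z ∈ Δ)
    (D : Scheme.{u}) (ιD : D ⟶ Z.left) [IsClosedImmersion ιD] (hD : Set.range ιD.base = Δ)
    (d : D) (hd : ιD.base d = z)
    (E' : Scheme.{u}) (ιE : E' ⟶ W.left) [IsClosedImmersion ιE]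
    (hE : Set.range ιE.base = ⋃₀ {Γ | Γ ∈ Models.fibreComponents R W ∧ w ∈ Γ ∧ ψ.left.base '' Γ = Δ})
    (e : E') (he : ιE.base e = w) :
    Brnch.numBranchesAt D d ≤ Brnch.numBranchesAt E' e := by
  haveI : Surjective ψ.left := inferInstance
  subst hw
  obtain ⟨I, hIloc, hDn, hI⟩ := H26.Brn.exists_ideal ιD d (ψ.left.base w) hd
  obtain ⟨K, hKloc, hEn, hK⟩ := H26.Brn.exists_ideal ιE e w he
  haveI := hIloc
  haveI := hKloc
  haveI := (hZn (ψ.left.base w)).2
  rw [hDn, hEn]
  have hpt : ∀ Q : PrimeSpectrum (W.left.presheaf.stalk w),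
      ψ.left.base (W.left.fromSpecStalk w Q) =
        Z.left.fromSpecStalk (ψ.left.base w) (PrimeSpectrum.comap (ψ.left.stalkMap w).hom Q) := fun Q =>
    (congr($(Scheme.SpecMap_stalkMap_fromSpecStalk ψ.left (x := w)) Q)).symm
  have hfib : ∀ x : W.left, x ∈ Models.specialFibreSet R W ↔ ψ.left.base x ∈ Models.specialFibreSet R Z := fun x => by
    show W.hom.base x = _ ↔ Z.hom.base (ψ.left.base x) = _
    rw [← congr($(Over.w ψ) x)]
    rfl
  have hΔc : IsClosed Δ := hD ▸ ιD.isClosedEmbedding.isClosed_range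
  obtain ⟨hΔirr, hΔs⟩ := hΔ.1
  obtain ⟨δ, hδ⟩ := QuasiSober.sober hΔirr hΔc
  refine H26.Brn.branches_le_stalk ψ.left w I K (fun Q hQ hKQ => ?_) (fun Q hQ hmin => ?_)
  · refine (hI (PrimeSpectrum.comap (ψ.left.stalkMap w).hom ⟨Q, hQ⟩)).2 ?_
    rw [← hpt, hD]
    obtain ⟨Γ, ⟨-, -, hΓ⟩, hmem⟩ := hE ▸ (hK ⟨Q, hQ⟩).1 hKQ
    exact hΓ ▸ Set.mem_image_of_mem _ hmem
  · refine (hK ⟨Q, hQ⟩).2 ?_
    rw [hE]
    set γ := W.left.fromSpecStalk w ⟨Q, hQ⟩ with hγdef
    let q : PrimeSpectrum (Z.left.presheaf.stalk (ψ.left.base w)) := PrimeSpectrum.comap (ψ.left.stalkMap w).hom ⟨Q, hQ⟩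
    have hγw : γ ⤳ w := by
      have h : γ ∈ Set.range (W.left.fromSpecStalk w) := ⟨_, rfl⟩
      rw [Scheme.range_fromSpecStalk] at h
      exact h
    have hψγ : ψ.left.base γ ∈ Δ := hD ▸ (hpt _).symm ▸ (hI q).1 hmin.1.2
    have hψγδ : ψ.left.base γ = δ := by
      obtain ⟨q0, hq0⟩ : δ ∈ Set.range (Z.left.fromSpecStalk (ψ.left.base w)) := by
        rw [Scheme.range_fromSpecStalk]
        exact hδ.specializes hzΔ
      have hsp0 : q0 ⤳ (q : Spec (Z.left.presheaf.stalk (ψ.left.base w))) := by
        rw [← (Z.left.fromSpecStalk (ψ.left.base w)).isEmbedding.isInducing.specializes_iff, hq0]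
        exact (hpt _) ▸ hδ.specializes hψγ
      have hle : q0.asIdeal ≤ q.asIdeal := (PrimeSpectrum.le_iff_specializes (q0 : PrimeSpectrum _) q).2 hsp0
      have hge : q.asIdeal ≤ q0.asIdeal :=
        hmin.2 ⟨q0.isPrime, (hI q0).2 (hD ▸ hq0 ▸ hδ.mem)⟩ hle
      have : q0 = q := PrimeSpectrum.ext (le_antisymm hle hge)
      rw [hpt, ← hq0, this]
    refine ⟨closure {γ}, ⟨⟨⟨isIrreducible_singleton.closure, ?_⟩, fun T hT hle => ?_⟩, hγw.mem_closure, ?_⟩, subset_closure rfl⟩
    · refine (Models.isClosed_specialFibreSet R W).closure_subset_iff.2 (Set.singleton_subset_iff.2 ?_)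
      exact (hfib γ).2 (hΔs hψγ)
    · obtain ⟨γ', hγ'⟩ := QuasiSober.sober hT.1.closure isClosed_closure
      have hγ's : γ' ∈ Models.specialFibreSet R W :=
        (Models.isClosed_specialFibreSet R W).closure_subset_iff.2 hT.2 hγ'.mem
      have hsp : γ' ⤳ γ := hγ'.specializes (subset_closure (hle (subset_closure rfl)))
      have hsp' : ψ.left.base γ' ⤳ δ := hψγδ ▸ hsp.map ψ.left.continuous
      have hsub : Δ ⊆ closure {ψ.left.base γ'} := by
        rw [← hδ.def]
        exact isClosed_closure.closure_subset_iff.2 (Set.singleton_subset_iff.2 hsp'.mem_closure)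
      have hbig : closure {ψ.left.base γ'} ⊆ Δ := hΔ.2 ⟨isIrreducible_singleton.closure,
        (Models.isClosed_specialFibreSet R Z).closure_subset_iff.2 (Set.singleton_subset_iff.2 ((hfib γ').1 hγ's))⟩ hsub
      have heq : ψ.left.base γ' = δ := ((hδ.specializes (hbig (subset_closure rfl))).antisymm hsp').symm.eq
      have hdisc := (ψ.left.isDiscrete_preimage (s := ({δ} : Set Z.left)) Set.subsingleton_singleton.isDiscrete).to_subtype
      have : (⟨γ', heq⟩ : (ψ.left.base ⁻¹' {δ} : Set W.left)) = ⟨γ, hψγδ⟩ :=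
        ((subtype_specializes_iff (x := (⟨γ', heq⟩ : (ψ.left.base ⁻¹' {δ} : Set W.left))) (y := ⟨γ, hψγδ⟩)).2 hsp).eq
      have he' : γ' = γ := Subtype.ext_iff.1 this
      exact subset_closure.trans (he' ▸ hγ'.def.ge)
    · rw [← (ψ.left.isClosedMap.closure_image_eq_of_continuous ψ.left.continuous _), Set.image_singleton, hψγδ, hδ.def]

end Groth.Agent.S19910
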