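import Groth.Statements.S19912
import Groth.Agent.RegLoc6.Basic
-- import your own Groth.Agent.* helpers here

set_option autoImplicit false
universe u
open CategoryTheory CategoryTheory.Limits AlgebraicGeometry
open Models

namespace Groth.Agent.S19912

/-- Let R be a discrete valuation ring with fraction field K and YR a scheme over Spec R. Let V be a
discrete valuation ring which is an R-algebra in such a way that the maximal ideal of R generates
the maximal ideal of V (ramification index one), and let σ : Spec V -> YR be a morphism over Spec R
sending the closed point of Spec V to y. If the local ring of YR at y is regular, then the local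
ring at y of the special fibre of YR, namely O_{YR,y}/𝔪_R O_{YR,y}, is regular. (The published
statement takes YR a normal projective flat model of a smooth projective geometrically connected
curve Y over K and phrases the hypothesis through a point Q of Y rational over an extension L of K
unramified over K with y in the closure of Q: by the valuative criterion such a point yields a
morphism as above from the spectrum of the localization of the integral closure of R in L at a
maximal ideal over y, which is the form used here.) -/
theorem result
    (R : Type u) [CommRing R] [IsDomain R] [IsDiscreteValuationRing R]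
    (YR : Over (Spec (CommRingCat.of R)))
    (V : Type u) [CommRing V] [IsDomain V] [IsDiscreteValuationRing V] [Algebra R V]
    (hV : Ideal.map (algebraMap R V) (IsLocalRing.maximalIdeal R) = IsLocalRing.maximalIdeal V)
    (σ : Spec (CommRingCat.of V) ⟶ YR.left)
    (hσ : σ ≫ YR.hom = Spec.map (CommRingCat.ofHom (algebraMap R V)))
    (y : YR.left) (hy : σ.base (IsLocalRing.closedPoint V) = y)
    (hreg : IsRegularLocalRing (YR.left.presheaf.stalk y)) :
    IsRegularLocalRing (YR.left.presheaf.stalk y ⧸
      Ideal.map (Models.stalkHom R YR y) (IsLocalRing.maximalIdeal R)) := by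
    subst hy
    obtain ⟨ϖ, hϖ⟩ := IsDiscreteValuationRing.exists_irreducible R
    let e := Scheme.stalkClosedPointTo (R := CommRingCat.of V) σ
    have he : e.hom (Models.stalkHom R YR _ ϖ) = algebraMap R V ϖ := by
      have h0 : e.hom (Models.stalkHom R YR _ ϖ) =
          (σ.appTop ≫ (Scheme.ΓSpecIso (CommRingCat.of V)).hom).hom (Coh.toGlobal YR.hom ϖ) := by
        have h1 := ConcreteCategory.congr_hom (Scheme.germ_stalkClosedPointTo (R := CommRingCat.of V) σ ⊤ trivial)
          (Coh.toGlobal YR.hom ϖ)
        refine h1.trans ?_
        simp
      have h2 : (YR.hom.appTop ≫ σ.appTop) ≫ (Scheme.ΓSpecIso (CommRingCat.of V)).hom =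
          (Scheme.ΓSpecIso (CommRingCat.of R)).hom ≫ CommRingCat.ofHom (algebraMap R V) := by
        rw [← Scheme.Hom.comp_appTop, hσ, Scheme.ΓSpecIso_naturality]
      rw [h0]
      refine (ConcreteCategory.congr_hom h2 ((Scheme.ΓSpecIso (CommRingCat.of R)).inv.hom ϖ)).trans ?_
      exact congrArg (algebraMap R V) ((Scheme.ΓSpecIso (CommRingCat.of R)).inv_hom_id_apply ϖ)
    have hspan : IsLocalRing.maximalIdeal V = Ideal.span {algebraMap R V ϖ} := by
      rw [← hV, hϖ.maximalIdeal_eq, Ideal.map_span, Set.image_singleton]
    have h0 : algebraMap R V ϖ ≠ 0 := fun h => IsDiscreteValuationRing.not_a_field V (by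
      rw [hspan, h, Ideal.span_singleton_eq_bot])
    have hm : Models.stalkHom R YR (σ.base (IsLocalRing.closedPoint V)) ϖ ∈ IsLocalRing.maximalIdeal _ := fun hu => by
      have h1 := hu.map e.hom
      rw [he] at h1
      exact (IsLocalRing.maximalIdeal.isMaximal V).ne_top (hspan ▸ Ideal.span_singleton_eq_top.2 h1)
    have hm2 : Models.stalkHom R YR (σ.base (IsLocalRing.closedPoint V)) ϖ ∉ IsLocalRing.maximalIdeal _ ^ 2 := by
      intro h
      have h1 := Ideal.mem_map_of_mem e.hom h
      rw [Ideal.map_pow, he] at h1
      have hle : (IsLocalRing.maximalIdeal _).map e.hom ≤ IsLocalRing.maximalIdeal V :=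
        Ideal.map_le_iff_le_comap.2 fun a ha hu => ha (hu.of_map e.hom a)
      have h3 := Ideal.pow_right_mono hle 2 h1
      rw [hspan, Ideal.span_singleton_pow, Ideal.mem_span_singleton] at h3
      obtain ⟨c, hc⟩ := h3
      have hu : IsUnit (algebraMap R V ϖ) := IsUnit.of_mul_eq_one c (mul_left_cancel₀ h0 (by
        rw [← mul_assoc, ← pow_two, mul_one]; exact hc.symm))
      exact (IsLocalRing.maximalIdeal.isMaximal V).ne_top (hspan ▸ Ideal.span_singleton_eq_top.2 hu)
    rw [hϖ.maximalIdeal_eq, Ideal.map_span, Set.image_singleton]
    exact (RegLoc6.isRegularLocalRing_quot_and hm hm2).1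

end Groth.Agent.S19912
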