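import Groth.Statements.S19913
import Groth.Agent.SolvGrp.UnipTorus
import Groth.Agent.SolvGrp.CentralIsogeny
import Groth.Agent.SolvGrp.TorusSepClosed
import Groth.Agent.SolvGrp.BC
-- import your own Groth.Agent.* helpers here

set_option autoImplicit false
universe u
open CategoryTheory MonoidalCategory CartesianMonoidalCategory MonObj GrpObj AlgebraicGeometry
open AGF

namespace Groth.Agent.S19913

set_option backward.isDefEq.respectTransparency false
set_option backward.isDefEq.respectTransparency.types false

open SolvGrp GrpSchLib GrpSchLib.Kunneth AGFLib AGFLib.Gen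

/-- Let p be a prime, k a field of characteristic p, G a reductive k-group scheme (affine, smooth,
connected reductive geometric fibre), z : Z ⟶ G its scheme-theoretic centre, and u : U ⟶ G a closed
subgroup scheme which is affine, smooth and connected and whose geometric fibre contains no
non-trivial subtorus (a smooth connected unipotent k-subgroup). Then Z ∩ U = 1 scheme-theoretically:
for every k-scheme X and all X-valued points a of Z and b of U with the same image in G(X), that
image is the identity. (The published assertion allows any smooth unipotent k-subgroup U; it is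
stated here for connected U. The consequence that U maps by a closed immersion into the quotient of
G by Z is not restated.) -/
theorem result (p : ℕ) [Fact p.Prime]
    (k : Type u) [Field k] [CharP k p]
    (G : Over (Spec (CommRingCat.of k))) [GrpObj G] (hG : Red.IsReductive G)
    (Z : Over (Spec (CommRingCat.of k))) [GrpObj Z] (z : Z ⟶ G) (hz : Red.IsCentre z)
    (U : Over (Spec (CommRingCat.of k))) [GrpObj U] [IsAffine U.left] [Smooth U.hom] [ConnectedSpace ↥U.left]
    (hU : ∀ s : ↥(Spec (CommRingCat.of k)),
      Red.HasNoSubtorus (AlgebraicClosure ((Spec (CommRingCat.of k)).residueField s)) (Red.geomFibre s U))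
    (u : U ⟶ G) [IsMonHom u] (hu : IsClosedImmersion u.left)
    (X : Over (Spec (CommRingCat.of k))) (a : X ⟶ Z) (b : X ⟶ U) (hab : a ≫ z = b ≫ u) :
    b ≫ u = 1 := by
  classical
  let s₀ := AGFLib.GeomBC.pt k
  obtain ⟨φ, hφ⟩ := Spec.map_surjective (Red.geomPt s₀)
  let F := Over.pullback (Red.geomPt s₀)
  haveI : F.IsRightAdjoint := (Over.mapPullbackAdj (Red.geomPt s₀)).isRightAdjoint
  haveI := hz.1
  haveI := hu
  have hK := hG.2.2 s₀
  haveI := hK.1
  haveI := hK.2.1
  haveI := hK.2.2.1
  haveI : IsReduced (Red.geomFibre s₀ G).left := isReduced_of_smooth_field (Red.geomFibre s₀ G).hom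
  haveI : IsAffine (Red.geomFibre s₀ U).left := inferInstanceAs (IsAffine (Limits.pullback U.hom (Red.geomPt s₀)))
  haveI : Smooth (Red.geomFibre s₀ U).hom := inferInstanceAs (Smooth (Limits.pullback.snd U.hom (Red.geomPt s₀)))
  haveI : ConnectedSpace (Red.geomFibre s₀ U).left := by
    have h1 := AntiAffine.connectedSpace_bc U φ.hom
    rw [CommRingCat.ofHom_hom, hφ] at h1
    exact h1
  obtain ⟨T, _, iT, hT⟩ := exists_maxTorus_closed (Red.geomFibre s₀ G)
  haveI := hT.1
  have hzK := isCentralizerOf_bc (Red.geomPt s₀) (𝟙 G) z hz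
  have hc := (hzK.2.2 _ (F.map a ≫ F.map z)).mp ⟨F.map a, rfl⟩
  obtain ⟨t, ht⟩ := ((selfCent_of_isMaxTorus hK iT hT).2.2 _ (F.map a ≫ F.map z)).mpr fun X' x h => by
    have := hc X' x (h ≫ iT)
    rwa [F.map_id, Category.comp_id] at this
  have h1 : F.map (b ≫ u) = 1 := by
    rw [F.map_comp]
    exact eq_one_of_torus_unip iT (F.map u) hT.2.2.1 (fun y => isUnipPt_of_hasNoSubtorus (hU s₀) y) t (F.map b)
      (by rw [ht, ← F.map_comp, ← F.map_comp, hab])
  exact geomPt_map_injective s₀ (h1.trans F.map_one.symm)

end Groth.Agent.S19913
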