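import Groth.Statements.S19918
import Groth.Agent.H26.VertApply

set_option autoImplicit false
universe u
open CategoryTheory CategoryTheory.Limits AlgebraicGeometry
open Models

namespace Groth.Agent.S19918

open scoped Groth.Agent.H23.PicMul

/-- Kernel of Pic(X)[n] → Pic(C)[n]: let R be a discrete valuation ring with fraction field K, C a
smooth proper curve over K with H^0(C, O_C) = K, X a regular proper model of C with generic-fibre
inclusion g : C → X, Γ_1, …, Γ_n the irreducible components of the closed fibre with multiplicities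
m_1, …, m_n, d = gcd(m_1, …, m_n), and L_i invertible O_X-modules with L_i ⊗ I(Γ_i) ≅ O_X (that is,
L_i = O_X(Γ_i)). Let h ≥ 1 and put e = gcd(h, d). If M is an invertible O_X-module with M^{⊗h} ≅ O_X
whose pullback to C is trivial, then there is exactly one natural number k < e with M ≅ L_1^{k
m_1/e} ⊗ ⋯ ⊗ L_n^{k m_n/e} = O_X(k·(1/e)·X_s). In other words the kernel of Pic(X)[h] → Pic(C)[h] is
cyclic of order gcd(h, d), generated by the class of O_X((1/e)·X_s). -/
theorem result (R : Type u) [CommRing R] [IsDomain R] [IsDiscreteValuationRing R]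
    (C X : Scheme.{u}) (f : C ⟶ Spec (CommRingCat.of (FractionRing R))) (p : X ⟶ Spec (CommRingCat.of R))
    (hC : Curve.IsSmoothProperCurve (FractionRing R) C f) (hH0 : IsIso f.appTop)
    (hX : Models.IsRegularProperModel R X p C f)
    {n : ℕ} (Γ : Fin n → ArSurf.VertComp R (Over.mk p)) (hΓ : Models.IsComponentList R (Over.mk p) Γ)
    (g : C ⟶ X) (hg : IsPullback g f p (Spec.map (CommRingCat.ofHom (algebraMap R (FractionRing R)))))
    (L : Fin n → X.Modules) (hL : ∀ i, ClSub.IsInverseOf (L i) (ClSub.idealMod (Γ i).ι.ker))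
    (h : ℕ) (hh : 0 < h)
    (M : X.Modules) (hM : PicF.IsInvertible M)
    (htors : Nonempty (CohB1.tensorPow M h ≅ Coh.structureModule X))
    (htriv : Nonempty ((Scheme.Modules.pullback g).obj M ≅ Coh.structureModule C)) :
    ∃! k : ℕ, k < Nat.gcd h (Models.multGcd R (Over.mk p) Γ) ∧
      Nonempty (M ≅ FGA.multiTwist L (fun i => k * (Models.mult R (Over.mk p) (Γ i) / Nat.gcd h (Models.multGcd R (Over.mk p) Γ)))) := by
  classical
  let D := Groth.Agent.H26.VertModel.mkData hX hΓ L hL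
  have hconn := Groth.Agent.H26.VertModel.isConnected hC hH0 hX
  have happ : Function.Bijective (Over.mk p).hom.appTop := Groth.Agent.H26.VertModel.bijective_appTop hH0 hX
  obtain ⟨T, hMT, -⟩ := Groth.Agent.H26.VertClass.pow_gcd_eq_one D hconn hg hM htriv
    (Groth.Agent.H26.VertClass.inter_eq_zero_of_tors D hM hh htors)
  obtain ⟨i₀⟩ := Groth.Agent.H26.VertClass.nonempty_index hΓ hconn
  set d := Models.multGcd R (Over.mk p) Γ with hd
  let m : Fin n → ℕ := fun i => Models.mult R (Over.mk p) (Γ i)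
  have hd0 : 0 < d := Groth.Agent.H26.VertClass.multGcd_pos D hconn
  set g0 := Nat.gcd h d with hg0
  have hg0pos : 0 < g0 := Nat.gcd_pos_of_pos_right h hd0
  have hdm : ∀ i, d ∣ m i := fun i => Finset.gcd_dvd (Finset.mem_univ i)
  obtain ⟨d', hd'⟩ := Nat.gcd_dvd_right h d
  obtain ⟨h', hh'⟩ := Nat.gcd_dvd_left h d
  rw [← hg0] at hd' hh'
  have hdiv : ∀ i, m i / g0 = d' * (m i / d) := fun i => by
    obtain ⟨q, hq⟩ := hdm i
    have e1 : m i / d = q := by rw [hq, Nat.mul_div_cancel_left _ hd0]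
    have e2 : m i = g0 * (d' * q) := by rw [hq, hd', mul_assoc]
    rw [e1, e2, Nat.mul_div_cancel_left _ hg0pos]
  -- the torsion condition
  have h1 : D.P (fun i => (h : ℤ) * (T * ((m i / d : ℕ) : ℤ))) = 1 := by
    refine Units.ext ?_
    rw [D.P_smul, zpow_natCast, Units.val_pow_eq_pow_val, ← hMT, ← Groth.Agent.H23.PicMul.cl_tensorPow, Units.val_one]
    exact Groth.Agent.H23.PicMul.cl_eq_iff.2 htors
  obtain ⟨c, hc⟩ := (D.P_eq_one_iff happ _).1 h1
  obtain ⟨q₀, hq₀⟩ := hdm i₀
  have hhT : (h : ℤ) * T = c * (d : ℤ) := by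
    have e := hc i₀
    rw [show D.m i₀ = (m i₀ : ℤ) from rfl, hq₀, Nat.mul_div_cancel_left _ hd0] at e
    push_cast at e
    have hq0 : (q₀ : ℤ) ≠ 0 := by
      have := D.m_pos i₀
      rw [show D.m i₀ = (m i₀ : ℤ) from rfl, hq₀] at this
      push_cast at this
      exact fun h0 => by rw [h0, mul_zero] at this; exact lt_irrefl _ this
    exact mul_right_cancel₀ hq0 (by linear_combination e)
  obtain ⟨k0, hk0⟩ : (d' : ℤ) ∣ T := by
    have hcop : IsCoprime (d' : ℤ) (h' : ℤ) := by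
      rw [Int.isCoprime_iff_nat_coprime]
      simp only [Int.natAbs_natCast]
      have := Nat.coprime_div_gcd_div_gcd (m := h) (n := d) (Nat.gcd_pos_of_pos_right h hd0)
      rw [← hg0, hh', hd', Nat.mul_div_cancel_left _ hg0pos, Nat.mul_div_cancel_left _ hg0pos] at this
      exact this.symm
    refine hcop.dvd_of_dvd_mul_left ⟨c, mul_left_cancel₀ (Int.natCast_ne_zero.2 hg0pos.ne') ?_⟩
    have e : (h : ℤ) = (g0 : ℤ) * h' := by exact_mod_cast hh'
    have e2 : (d : ℤ) = (g0 : ℤ) * d' := by exact_mod_cast hd'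
    linear_combination hhT - T * e + c * e2
  have hP : ∀ k : ℕ, PicF.cl (FGA.multiTwist L (fun i => k * (m i / g0))) =
      (Units.val (D.P fun i => (k : ℤ) * ((m i / g0 : ℕ) : ℤ))) := fun k => by
    rw [← show _ = PicF.cl (FGA.multiTwist L (fun i => k * (m i / g0))) from D.P_natCast _]
    refine congrArg (fun z => Units.val (D.P z)) (funext fun i => ?_)
    push_cast
    ring
  have hM0 : PicF.cl M = (Units.val (D.P fun i => k0 * ((m i / g0 : ℕ) : ℤ))) := by
    refine hMT.trans (congrArg (fun z => Units.val (D.P z)) (funext fun i => ?_))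
    show T * ((m i / d : ℕ) : ℤ) = k0 * ((m i / g0 : ℕ) : ℤ)
    rw [hdiv i, Nat.cast_mul, hk0]
    ring
  have hkey : ∀ z z' : ℤ, D.P (fun i => z * ((m i / g0 : ℕ) : ℤ)) = D.P (fun i => z' * ((m i / g0 : ℕ) : ℤ)) ↔
      (g0 : ℤ) ∣ z - z' := fun z z' => by
    have hmi : ∀ i, D.m i = (g0 : ℤ) * ((m i / g0 : ℕ) : ℤ) := fun i => by
      show (m i : ℤ) = _
      exact_mod_cast (Nat.mul_div_cancel' ((Nat.gcd_dvd_right h d).trans (hdm i))).symm
    rw [← mul_inv_eq_one, ← D.P_neg, ← D.P_add, D.P_eq_one_iff happ]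
    constructor
    · rintro ⟨e, he⟩
      refine ⟨e, ?_⟩
      have e1 := he i₀
      simp only [Pi.add_apply, Pi.neg_apply, hmi i₀] at e1
      have hne : ((m i₀ / g0 : ℕ) : ℤ) ≠ 0 := fun h0 => by
        have := D.m_pos i₀
        rw [hmi i₀, h0, mul_zero] at this
        exact lt_irrefl _ this
      exact mul_right_cancel₀ hne (by linear_combination e1)
    · rintro ⟨e, he⟩
      refine ⟨e, fun i => ?_⟩
      simp only [Pi.add_apply, Pi.neg_apply, hmi i]
      linear_combination ((m i / g0 : ℕ) : ℤ) * he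
  refine ⟨(k0 % (g0 : ℤ)).toNat, ⟨?_, ?_⟩, fun k hk => ?_⟩
  · have := Int.emod_lt_of_pos k0 (Int.natCast_pos.2 hg0pos)
    show (k0 % (g0 : ℤ)).toNat < g0
    omega
  · refine Groth.Agent.H23.PicMul.cl_eq_iff.1 ?_
    rw [hM0]
    refine Eq.trans ?_ (hP _).symm
    rw [Units.val_inj, hkey, Int.toNat_of_nonneg (Int.emod_nonneg _ (Int.natCast_ne_zero.2 hg0pos.ne'))]
    exact ⟨k0 / (g0 : ℤ), by rw [Int.emod_def]; ring⟩
  · obtain ⟨hk1, hk2⟩ := hk
    have e := (Groth.Agent.H23.PicMul.cl_eq_iff.2 hk2).symm.trans hM0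
    rw [show PicF.cl (FGA.multiTwist L (fun i => k * (Models.mult R (Over.mk p) (Γ i) /
      Nat.gcd h (Models.multGcd R (Over.mk p) Γ)))) = _ from hP k, Units.val_inj, hkey] at e
    have hlt : k < g0 := hk1
    have h1 := Int.emod_emod_of_dvd k0 (dvd_refl (g0 : ℤ))
    have h2 : (k : ℤ) % (g0 : ℤ) = k0 % (g0 : ℤ) := Int.emod_eq_emod_iff_emod_sub_eq_zero.2 (Int.emod_eq_zero_of_dvd e)
    rw [Int.emod_eq_of_lt (Int.natCast_nonneg k) (by exact_mod_cast hlt)] at h2
    rw [← h2, Int.toNat_natCast]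

end Groth.Agent.S19918
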