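import Groth.Statements.S1992
import Groth.Agent.Hensel.IntegralStrict
-- import your own Groth.Agent.* helpers here

set_option autoImplicit false
universe u
open Polynomial
open EtAlg

namespace Groth.Agent.S1992

/-- Let A be an absolutely integrally closed ring, i.e. every monic polynomial over A is a product of
linear factors X - a. Then for every prime p of A the localization A_p is a strictly henselian local
ring (henselian with separably closed residue field). -/
theorem result (A : Type u) [CommRing A]
    (hA : ∀ f : A[X], f.Monic → ∃ s : Multiset A, f = (s.map fun a => X - C a).prod)
    (p : Ideal A) [p.IsPrime] :
    EtCoh.IsStrictlyHenselianLocalRing (Localization.AtPrime p) := by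
  exact Groth.Agent.Hensel.strictlyHenselian_localization_of_split hA p

end Groth.Agent.S1992
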