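import Groth.Statements.S19923
import Groth.Agent.Lib.AVDual

set_option autoImplicit false
set_option backward.isDefEq.respectTransparency false
set_option backward.isDefEq.respectTransparency.types false
set_option maxHeartbeats 400000
universe u
open CategoryTheory CategoryTheory.Limits MonoidalCategory CartesianMonoidalCategory MonObj GrpObj AlgebraicGeometry
open AbVar

namespace Groth.Agent.S19923


set_option linter.style.haveILetI false
set_option linter.unusedSectionVars false
open Groth.Agent.H23 Groth.Agent.AVPair Groth.Agent.AVDual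
open scoped Groth.Agent.H23.PicMul

/-- Let A be an abelian variety over a field k (a proper, geometrically integral commutative k-group
scheme; k arbitrary), given with a dual (Â, φ_A) and a dual (Â̂, φ_Â) of Â — each represents the
fppf-sheafified functor of invertible classes algebraically equivalent to zero on geometric fibres,
with φ multiplicative — and with a Poincaré class ξ on A ×_k Â whose transpose ξ' on Â ×_k A lies in
Pic⁰ on the fibres over A; put ι_A = φ_Â(ξ') : A → Â̂ (the double-duality morphism). Let L be an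
invertible O_A-module with an inverse L⁻¹, and let Λ be a module on A ×_k A isomorphic to m^*L ⊗
p₁^*L⁻¹ ⊗ p₂^*L⁻¹ (m the group law, p₁, p₂ the projections) whose class lies in Pic⁰ on the fibres
over the second factor, so that φ_L := φ_A(Λ) : A → Â is the homomorphism a ↦ t_a^*L ⊗ L⁻¹. If φ̂_L
: Â̂ → Â is a transpose of φ_L (φ_A of the pull-back of a Pic⁰ class c along (φ_L)_T equals φ_Â(c)
followed by φ̂_L), then φ_L = ι_A followed by φ̂_L: the homomorphism φ_L is symmetric. -/
theorem result (K : Type u) [Field K]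
    (A At Att : Over (Spec (CommRingCat.of K)))
    [GrpObj A] [IsCommMonObj A] [IsProper A.hom] [GeometricallyIntegral A.hom]
    [GrpObj At] [IsCommMonObj At] [IsProper At.hom] [GeometricallyIntegral At.hom]
    [GrpObj Att] [IsCommMonObj Att] [IsProper Att.hom] [GeometricallyIntegral Att.hom]
    (φA : ∀ T : Over (Spec (CommRingCat.of K)), PicF.Cl (PicF.XT A.hom T) → (T ⟶ At))
    (hAt : AbDual.IsDualAV Scheme.fppfPrecoverage A At φA)
    (φAt : ∀ T : Over (Spec (CommRingCat.of K)), PicF.Cl (PicF.XT At.hom T) → (T ⟶ Att))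
    (hAtt : AbDual.IsDualAV Scheme.fppfPrecoverage At Att φAt)
    (ξ : PicF.Cl (PicF.XT A.hom At)) (hξ : AbDual.IsPoincareCl A At φA ξ)
    (hξ' : AbDual.IsPicZeroCl At.hom A (PicF.pullCl (pullbackSymmetry At.hom A.hom).hom ξ))
    (L Linv : A.left.Modules) (hL : PicF.IsInvertible L)
    (hLinv : Nonempty (CohB1.tensorMod L Linv ≅ Coh.structureModule A.left))
    (Λ : (PicF.XT A.hom A).Modules)
    (hΛ : Nonempty (Λ ≅ CohB1.tensorMod (CohB1.tensorMod ((Scheme.Modules.pullback (μ[A]).left).obj L)
      ((Scheme.Modules.pullback (fst A A).left).obj Linv)) ((Scheme.Modules.pullback (snd A A).left).obj Linv)))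
    (hΛ0 : AbDual.IsPicZeroCl A.hom A (PicF.cl Λ))
    (tl : Att ⟶ At) [IsMonHom tl]
    (htl : AbDual.IsTranspose (φA A (PicF.cl Λ)) φA φAt tl) :
    φA A (PicF.cl Λ) = φAt A (PicF.pullCl (pullbackSymmetry At.hom A.hom).hom ξ) ≫ tl := by
  haveI : IsIntegral A.left := GeometricallyIntegral.isIntegral_of_subsingleton A.hom
  let c : PicF.Cl (A ⊗ At).left := ξ
  let lam : PicF.Cl (A ⊗ A).left := PicF.cl Λ
  have hlam : lam = pl (fst A A * snd A A) (PicF.cl L) * pl (fst A A) (PicF.cl Linv) * pl (snd A A) (PicF.cl Linv) :=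
    by rw [show fst A A * snd A A = μ[A] by rw [Hom.mul_def, lift_fst_snd, Category.id_comp]]; exact (PicGrp.cl_eq_cl_iff _ _).2 hΛ
  have hLL : PicF.cl L * PicF.cl Linv = 1 := (PicGrp.cl_eq_cl_iff _ _).2 hLinv
  obtain ⟨D, hD, hLD⟩ := exists_inv (⟨L, rfl, hL⟩ : PicF.IsInvertibleCl (PicF.cl L))
  have hLi : PicF.IsInvertibleCl (PicF.cl Linv) := by
    rw [left_inv_eq_right_inv (a := PicF.cl L) ((mul_comm _ _).trans hLL) hLD]
    exact hD
  obtain ⟨h1, -⟩ := poincare_axes hAt hξ
  let f := φA A lam
  have hE : pl (A ◁ f) c = lam := by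
    refine eq_of_phi hAt (pz_pl f hξ.1) hΛ0 ?_ 1 ?_
    · rw [phi_pl hAt f hξ.1]
      show f ≫ φA At ξ = f
      rw [hξ.2.1, Category.comp_id]
    · rw [pl_pl, show lift (1 : A ⟶ A) (𝟙 A) ≫ (A ◁ f) = f ≫ lift (1 : At ⟶ A) (𝟙 At) by
        rw [lift_whiskerLeft, comp_lift, MonObj.comp_one, Category.comp_id, Category.id_comp], ← pl_pl, h1, map_one,
        hlam]
      simp only [map_mul, pl_pl, MonObj.comp_mul, lift_fst, lift_snd, _root_.one_mul]
      rw [show pl (1 : A ⟶ A) (PicF.cl Linv) = 1 from pl_const hLi η, pl_id, pl_id, _root_.mul_one, hLL]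
  have hs : pl (lift (snd A A) (fst A A)) lam = lam := by
    rw [hlam]
    simp only [map_mul, pl_pl, MonObj.comp_mul, lift_fst, lift_snd]
    rw [mul_comm (snd A A) (fst A A), mul_right_comm]
  have hT := htl A _ hξ'
  rw [swap_eq] at hT ⊢
  refine Eq.trans ?_ hT
  refine congrArg (φA A) ?_
  show lam = pl (f ▷ A) (pl (lift (snd At A) (fst At A)) c)
  rw [pl_pl]
  conv_lhs => rw [← hs, ← hE, pl_pl]
  congr 2
  exact CartesianMonoidalCategory.hom_ext _ _ (by simp) (by simp)

end Groth.Agent.S19923
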