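import Groth.Statements.S19924
import Groth.Agent.H26.VertApply

set_option autoImplicit false
universe u
open CategoryTheory CategoryTheory.Limits AlgebraicGeometry
open Models

namespace Groth.Agent.S19924

open scoped Groth.Agent.H23.PicMul

/-- Let R be a discrete valuation ring with fraction field K, C a smooth proper curve over K with H^0(C,
O_C) = K, X a regular proper model of C with generic-fibre inclusion g : C → X, Γ_1, …, Γ_n the
irreducible components of the closed fibre with multiplicities m_1, …, m_n, and L_i invertible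
O_X-modules with L_i ⊗ I(Γ_i) ≅ O_X. Let h ≥ 1, let N be an invertible O_C-module with N^{⊗h} ≅ O_C,
let M be an invertible O_X-module whose pullback to C is N, and let a, b be exponent vectors with
M^{⊗h} ⊗ L_1^{a_1} ⊗ ⋯ ⊗ L_n^{a_n} ≅ L_1^{b_1} ⊗ ⋯ ⊗ L_n^{b_n}, i.e. M^{⊗h} ≅ O_X(Σ (b_i − a_i)
Γ_i). Then N is the pullback of some invertible O_X-module M' with M'^{⊗h} ≅ O_X if and only if
there are integers c_1, …, c_n and e with b_i − a_i = h c_i + e m_i for all i: the class of Σ (b_i −
a_i) Γ_i modulo h ℤ^n + ℤ·(m_1, …, m_n) is the obstruction to lifting the h-torsion class N to an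
h-torsion class on X. -/
theorem result (R : Type u) [CommRing R] [IsDomain R] [IsDiscreteValuationRing R]
    (C X : Scheme.{u}) (f : C ⟶ Spec (CommRingCat.of (FractionRing R))) (p : X ⟶ Spec (CommRingCat.of R))
    (hC : Curve.IsSmoothProperCurve (FractionRing R) C f) (hH0 : IsIso f.appTop)
    (hX : Models.IsRegularProperModel R X p C f)
    {n : ℕ} (Γ : Fin n → ArSurf.VertComp R (Over.mk p)) (hΓ : Models.IsComponentList R (Over.mk p) Γ)
    (g : C ⟶ X) (hg : IsPullback g f p (Spec.map (CommRingCat.ofHom (algebraMap R (FractionRing R)))))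
    (L : Fin n → X.Modules) (hL : ∀ i, ClSub.IsInverseOf (L i) (ClSub.idealMod (Γ i).ι.ker))
    (h : ℕ) (hh : 0 < h)
    (N : C.Modules) (hN : PicF.IsInvertible N) (hNt : Nonempty (CohB1.tensorPow N h ≅ Coh.structureModule C))
    (M : X.Modules) (hM : PicF.IsInvertible M) (hMN : Nonempty ((Scheme.Modules.pullback g).obj M ≅ N))
    (a b : Fin n → ℕ)
    (hab : Nonempty (CohB1.tensorMod (CohB1.tensorPow M h) (FGA.multiTwist L a) ≅ FGA.multiTwist L b)) :
    (∃ M' : X.Modules, PicF.IsInvertible M' ∧ Nonempty (CohB1.tensorPow M' h ≅ Coh.structureModule X) ∧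
        Nonempty ((Scheme.Modules.pullback g).obj M' ≅ N)) ↔
      ∃ (c : Fin n → ℤ) (e : ℤ), ∀ i, ((b i : ℤ) - (a i : ℤ)) = (h : ℤ) * c i + e * (Models.mult R (Over.mk p) (Γ i) : ℤ) := by
  let D := Groth.Agent.H26.VertModel.mkData hX hΓ L hL
  have happ : Function.Bijective (Over.mk p).hom.appTop := Groth.Agent.H26.VertModel.bijective_appTop hH0 hX
  have hu : IsUnit (PicF.cl M) := Groth.Agent.H23.PicMul.isUnit_cl hM
  obtain ⟨uM, huM⟩ : ∃ uM : (PicF.Cl (Over.mk p).left)ˣ, (uM : PicF.Cl (Over.mk p).left) = PicF.cl M := hu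
  have hMh : uM ^ h * D.P (fun i => (a i : ℤ)) = D.P (fun i => (b i : ℤ)) := by
    refine Units.ext ?_
    rw [Units.val_mul, Units.val_pow_eq_pow_val, huM, ← Groth.Agent.H23.PicMul.cl_tensorPow,
      show (Units.val (D.P fun i => (a i : ℤ))) = PicF.cl (FGA.multiTwist L a) from D.P_natCast a,
      show (Units.val (D.P fun i => (b i : ℤ))) = PicF.cl (FGA.multiTwist L b) from D.P_natCast b,
      ← Groth.Agent.H23.PicMul.cl_tensor]
    exact Groth.Agent.H23.PicMul.cl_eq_iff.2 hab
  have hMh' : uM ^ h = D.P (fun i => (b i : ℤ) - (a i : ℤ)) := by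
    rw [show (fun i => (b i : ℤ) - (a i : ℤ)) = (fun i => (b i : ℤ)) + -(fun i => (a i : ℤ)) from
      funext fun i => sub_eq_add_neg _ _, D.P_add, D.P_neg, ← hMh, mul_inv_cancel_right]
  constructor
  · rintro ⟨M', hM', htors, hM'N⟩
    obtain ⟨I', hI', hI'e⟩ := Groth.Agent.H23.PicInv.exists_inverse hM
    have hone : PicF.cl M * PicF.cl I' = 1 := by
      rw [← Groth.Agent.H23.PicMul.cl_tensor]
      exact Groth.Agent.H23.PicMul.cl_eq_iff.2 hI'e
    have hMI := Groth.Agent.H23.PicMul.isInvertible_tensor hM' hI'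
    obtain ⟨x, hx⟩ := D.exists_P_of_trivial hg hMI (Groth.Agent.H23.PicMul.cl_eq_iff.1 (by
      show Groth.Agent.H23.PicMul.pullHom g (PicF.cl (CohB1.tensorMod M' I')) = 1
      rw [Groth.Agent.H23.PicMul.cl_tensor, map_mul,
        show Groth.Agent.H23.PicMul.pullHom g (PicF.cl M') = Groth.Agent.H23.PicMul.pullHom g (PicF.cl M) from
          (Groth.Agent.H23.PicMul.cl_eq_iff.2 hM'N).trans (Groth.Agent.H23.PicMul.cl_eq_iff.2 hMN).symm,
        ← map_mul, hone, map_one]))
    have hM' : PicF.cl M' = Units.val (uM * D.P fun i => (x i : ℤ)) := by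
      rw [Units.val_mul, show (Units.val (D.P fun i => (x i : ℤ))) = PicF.cl (FGA.multiTwist L x) from D.P_natCast x,
        show PicF.cl (FGA.multiTwist L x) = _ from hx.symm, Groth.Agent.H23.PicMul.cl_tensor, huM,
        mul_left_comm, hone, mul_one]
    have h1 : (uM * D.P fun i => (x i : ℤ)) ^ h = 1 := by
      refine Units.ext ?_
      rw [Units.val_pow_eq_pow_val, ← hM', ← Groth.Agent.H23.PicMul.cl_tensorPow, Units.val_one]
      exact Groth.Agent.H23.PicMul.cl_eq_iff.2 htors
    rw [mul_pow, hMh', ← zpow_natCast, ← D.P_smul, ← D.P_add, D.P_eq_one_iff happ] at h1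
    obtain ⟨e, he⟩ := h1
    refine ⟨fun i => -(x i : ℤ), e, fun i => ?_⟩
    have := he i
    simp only [Pi.add_apply] at this
    show (b i : ℤ) - (a i : ℤ) = (h : ℤ) * -(x i : ℤ) + e * D.m i
    linear_combination this
  · rintro ⟨c, e, hce⟩
    obtain ⟨N0, z, hz⟩ := D.exists_shift (fun i => - c i)
    have hinv : PicF.IsInvertible (FGA.multiTwist L z) :=
      Groth.Agent.H26.ArInter.isInvertible_multiTwist D.isInvertible z
    have hcl1 : PicF.cl (FGA.multiTwist L z) = (Units.val (D.P fun i => - c i)) := (D.P_eq_of_shift hz).symm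
    refine ⟨CohB1.tensorMod M (FGA.multiTwist L z), Groth.Agent.H23.PicMul.isInvertible_tensor hM hinv,
      Groth.Agent.H23.PicMul.cl_eq_iff.1 ?_, Groth.Agent.H23.PicMul.cl_eq_iff.1 ?_⟩
    · rw [Groth.Agent.H23.PicMul.cl_tensorPow, Groth.Agent.H23.PicMul.cl_tensor, hcl1, ← huM, ← Units.val_mul,
        ← Units.val_pow_eq_pow_val, mul_pow, hMh', ← zpow_natCast, ← D.P_smul, ← D.P_add,
        show ((fun i => (b i : ℤ) - (a i : ℤ)) + fun i => (h : ℤ) * -c i) = fun i => e * D.m i from funext fun i => by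
          simp only [Pi.add_apply]
          rw [hce i]
          show _ = e * (Models.mult R (Over.mk p) (Γ i) : ℤ)
          ring,
        D.P_mult_mul]
      rfl
    · show Groth.Agent.H23.PicMul.pullHom g (PicF.cl (CohB1.tensorMod M _)) = _
      rw [Groth.Agent.H23.PicMul.cl_tensor, hcl1, map_mul]
      refine (congrArg (_ * ·) (D.pullback_P hg _)).trans ((mul_one _).trans ?_)
      exact Groth.Agent.H23.PicMul.cl_eq_iff.2 hMN

end Groth.Agent.S19924
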