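import Groth.Statements.S19946
import Groth.Agent.Lib.ThetaLift

set_option autoImplicit false
set_option backward.isDefEq.respectTransparency false
set_option backward.isDefEq.respectTransparency.types false
set_option linter.style.haveILetI false
set_option linter.unusedSectionVars false
set_option maxHeartbeats 400000
universe u
open CategoryTheory MonoidalCategory CartesianMonoidalCategory MonObj GrpObj AlgebraicGeometry
open ThetaGrp

namespace Groth.Agent.S19946

/-- Let X be an abelian variety over a field k (a proper, geometrically integral, commutative k-group
scheme) and L an invertible O_X-module whose subscheme K(L) is all of X: the identity of X has the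
universal property of K(L), i.e. for every k-scheme Z and every Z-valued point z of X the Mumford
bundle m^*L ⊗ p_1^*L⁻¹ ⊗ p_2^*L⁻¹ restricted along X ×_k Z → X ×_k X is the inverse image of an
invertible module on Z (equivalently, the class of L lies in Pic⁰_{X/k}). Then the commutator
pairing e_L of the theta group is identically 1: for every k-scheme T, any two points (x₁, φ₁), (x₂,
φ₂) of G(L)(T) (x_i a T-valued point of X, φ_i : L_T ≅ t_{x_i}^*L_T) commute. -/
theorem result (k : Type u) [Field k]
    (A : Over (Spec (CommRingCat.of k))) [GrpObj A] [IsCommMonObj A] [IsProper A.hom] [GeometricallyIntegral A.hom]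
    (L : A.left.Modules) (hL : PicF.IsInvertible L)
    (hK : ThetaGrp.IsKL A L (𝟙 A))
    (T : Over (Spec (CommRingCat.of k))) (β₁ β₂ : ThetaGrp.thetaPts A L T) :
    β₁ * β₂ = β₂ * β₁ := by
  exact ThetaLift.commute_of_isKL_id hL hK β₁ β₂

end Groth.Agent.S19946
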