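import Groth.Statements.S19947
import Groth.Agent.Lib.ThetaLevel

set_option autoImplicit false
set_option backward.isDefEq.respectTransparency false
set_option backward.isDefEq.respectTransparency.types false
set_option linter.style.haveILetI false
set_option linter.unusedSectionVars false
set_option maxHeartbeats 400000
universe u
open CategoryTheory MonoidalCategory CartesianMonoidalCategory MonObj GrpObj AlgebraicGeometry
open ThetaGrp

namespace Groth.Agent.S19947

open Groth.Agent Groth.Agent.ThetaPts Groth.Agent.ThetaKer

/-- Let f : X → Y be a surjective homomorphism of abelian varieties over a field k (proper,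
geometrically integral, commutative k-group schemes), i : N → X its kernel (a homomorphism of
k-group schemes forming a cartesian square with the unit section of Y), L an invertible O_X-module,
and G a k-group scheme with a point u ∈ G(L)(G) representing the theta group of L (every point of
G(L)(T) is the base change of u along a unique T → G, multiplicatively). Then L descends to Y, i.e.
there is an invertible O_Y-module M with f^*M ≅ L, if and only if the inclusion i lifts to a
homomorphism of group schemes j : N → G over X: for every k-scheme T and every T-valued point n of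
N, the base change of u along j(n) lies over the translation by i(n). (The source states a bijection
between the isomorphism classes of such M and the set of such homomorphisms; this row states that
one set is non-empty exactly when the other is.) -/
theorem result (k : Type u) [Field k]
    (A : Over (Spec (CommRingCat.of k))) [GrpObj A] [IsCommMonObj A] [IsProper A.hom] [GeometricallyIntegral A.hom]
    (B : Over (Spec (CommRingCat.of k))) [GrpObj B] [IsCommMonObj B] [IsProper B.hom] [GeometricallyIntegral B.hom]
    (f : A ⟶ B) [IsMonHom f] (hf : Surjective f.left)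
    (N : Over (Spec (CommRingCat.of k))) [GrpObj N] (i : N ⟶ A) [IsMonHom i] (hN : AlgGrp.IsKernel i f)
    (L : A.left.Modules) (hL : PicF.IsInvertible L)
    (G : Over (Spec (CommRingCat.of k))) [GrpObj G] (u : ThetaGrp.thetaPts A L G)
    (hG : ThetaGrp.IsThetaGrpSch A L G u) :
    (∃ M : B.left.Modules, PicF.IsInvertible M ∧ Nonempty ((Scheme.Modules.pullback f.left).obj M ≅ L)) ↔
      ∃ j : N ⟶ G, IsMonHom j ∧
        ∀ (T : Over (Spec (CommRingCat.of k))) (n : T ⟶ N) (β : ThetaGrp.thetaPts A L T),
          ThetaGrp.IsBaseChange β (n ≫ j) u → ThetaGrp.IsOverPt β (n ≫ i) := by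
  haveI := hf
  have hmul : ∀ {T' : Over (Spec (CommRingCat.of k))} (a b : T' ⟶ G), bc (a * b) u = bc a u * bc b u := fun a b =>
    bc_eq (hG.mul _ _ _ _ _ (isBaseChange_bc a u) (isBaseChange_bc b u))
  have hinj : ∀ {T' : Over (Spec (CommRingCat.of k))} (a b : T' ⟶ G), bc a u = bc b u → a = b := fun a b h =>
    (hG.univ _ (bc a u)).unique (isBaseChange_bc a u) (h ▸ isBaseChange_bc b u)
  constructor
  · rintro ⟨M, hM, ⟨e'⟩⟩
    obtain ⟨d, ⟨hd, hdr⟩, -⟩ := existsUnique_rel f e'.symm (x := i) (β := (1 : thetaPts B M N)) (by
      rw [← Category.id_comp i, comp_kernel f hN]; exact isOverPt_one N)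
    obtain ⟨j, hj, -⟩ := hG.univ N d
    have hju : ∀ {T : Over (Spec (CommRingCat.of k))} (n : T ⟶ N), bc (n ≫ j) u = bc n d := fun n => by
      rw [← bc_bc, bc_eq hj]
    have hdm : ∀ (T : Over (Spec (CommRingCat.of k))) (m n : T ⟶ N), bc (m * n) d = bc m d * bc n d := fun T m n => by
      have hone : IsOverPt (1 : thetaPts B M T) (((m * n) ≫ i) ≫ f) := by
        rw [comp_kernel f hN]; exact isOverPt_one T
      refine (existsUnique_rel f e'.symm hone).unique ⟨isOverPt_bc _ hd, ?_⟩ ⟨?_, ?_⟩
      · have := rel_bc f e'.symm (m * n) hdr hd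
        rwa [bc_one] at this
      · have := isOverPt_mul (isOverPt_bc m hd) (isOverPt_bc n hd)
        rwa [_root_.mul_comm, ← MonObj.mul_comp] at this
      · have := rel_mul f e'.symm (rel_bc f e'.symm m hdr hd) (rel_bc f e'.symm n hdr hd)
        rwa [bc_one, bc_one, _root_.mul_one] at this
    have hjm : ∀ {T : Over (Spec (CommRingCat.of k))} (m n : T ⟶ N), (m * n) ≫ j = (m ≫ j) * (n ≫ j) := fun m n =>
      hinj _ _ (by rw [hju, hdm, hmul, hju, hju])
    refine ⟨j, ?_, fun T n β hβ => ?_⟩
    · have hone : (1 : 𝟙_ (Over (Spec (CommRingCat.of k))) ⟶ N) ≫ j = 1 := by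
        have := hjm (1 : 𝟙_ (Over (Spec (CommRingCat.of k))) ⟶ N) 1
        rw [_root_.mul_one] at this
        exact left_eq_mul.1 this
      refine ⟨?_, ?_⟩
      · rw [MonObj.one_eq_one, hone, ← MonObj.one_eq_one]
      · have h := hjm (fst N N) (snd N N)
        rw [Hom.mul_def, lift_fst_snd, Category.id_comp] at h
        rw [h, Hom.mul_def]
        congr 1
    · rw [← bc_eq hβ, hju]
      exact isOverPt_bc n hd
  · rintro ⟨j, hj, hover⟩
    have hd : IsOverPt (bc j u) i := by
      have := hover N (𝟙 N) (bc j u) (by rw [Category.id_comp]; exact isBaseChange_bc j u)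
      rwa [Category.id_comp] at this
    refine ThetaLevel.exists_descent f hN (bc j u) hd (fun T m n => ?_) hL
    rw [bc_bc, bc_bc, bc_bc, MonObj.mul_comp, hmul]

end Groth.Agent.S19947
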