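import Groth.Statements.S19951
import Groth.Agent.Lib.ThetaMaximal

set_option autoImplicit false
set_option backward.isDefEq.respectTransparency false
set_option backward.isDefEq.respectTransparency.types false
set_option linter.style.haveILetI false
set_option linter.unusedSectionVars false
set_option maxHeartbeats 400000
universe u
open CategoryTheory MonoidalCategory CartesianMonoidalCategory MonObj GrpObj AlgebraicGeometry
open ThetaGrp

namespace Groth.Agent.S19951

open Groth.Agent

/-- Let k be an algebraically closed field, X an abelian variety over k (a proper, geometrically
integral, commutative k-group scheme) and L a non-degenerate invertible O_X-module: for a closed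
immersion i_K : K → X exhibiting K as K(L) (the maximal closed subscheme of X over which the Mumford
bundle m^*L ⊗ p_1^*L⁻¹ ⊗ p_2^*L⁻¹, restricted to X ×_k K, is the inverse image of an invertible
module on K, with its universal property) the scheme K is finite over k. Let i_H : H → X be a closed
subgroup scheme (H a k-group scheme, i_H a homomorphism and a closed immersion) contained in K(L)
and totally isotropic for the commutator pairing e_L — for every k-scheme T, any two points of
G(L)(T) lying over translations by points of H commute — and maximal: every closed subgroup scheme
of K(L) that is totally isotropic and contains H is contained in H. Then H = H^⊥: a T-valued point x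
of X factors through i_H if and only if it factors through i_K and is orthogonal to H (after every
base change T' → T, every point of G(L)(T') over the translation by x commutes with every point over
a translation by a point of H); moreover H is finite over k and rank(H)² = rank(K(L)) (ranks of the
finite k-schemes H and K). (The published statement is over an arbitrary field and its argument
begins by passing to an algebraic closure; but maximality is not preserved by that passage: for an
elliptic curve E over a field k and a prime ℓ such that E[ℓ] has no k-rational subgroup scheme of
order ℓ, with L of degree ℓ so that K(L) = E[ℓ] and e_L is the Weil pairing, the trivial subgroup is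
maximal totally isotropic while its orthogonal is all of E[ℓ]. The statement is therefore given over
an algebraically closed field, where the printed argument applies.) -/
theorem result (k : Type u) [Field k] [IsAlgClosed k]
    (A : Over (Spec (CommRingCat.of k))) [GrpObj A] [IsCommMonObj A] [IsProper A.hom] [GeometricallyIntegral A.hom]
    (L : A.left.Modules) (hL : PicF.IsInvertible L)
    (K : Over (Spec (CommRingCat.of k))) (iK : K ⟶ A) (hK : ThetaGrp.IsKL A L iK) [IsFinite K.hom]
    (H : Over (Spec (CommRingCat.of k))) [GrpObj H] (iH : H ⟶ A) [IsMonHom iH] [IsClosedImmersion iH.left]
    (hHK : ∃ y : H ⟶ K, y ≫ iK = iH) (hiso : ThetaGrp.IsIsotropic L iH)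
    (hmax : ∀ (H' : Over (Spec (CommRingCat.of k))) [GrpObj H'] (iH' : H' ⟶ A) [IsMonHom iH']
      [IsClosedImmersion iH'.left], (∃ y' : H' ⟶ K, y' ≫ iK = iH') → ThetaGrp.IsIsotropic L iH' →
      (∃ z : H ⟶ H', z ≫ iH' = iH) → ∃ z' : H' ⟶ H, z' ≫ iH = iH') :
    (∀ (T : Over (Spec (CommRingCat.of k))) (x : T ⟶ A),
        ((∃ y : T ⟶ K, y ≫ iK = x) ∧ ThetaGrp.IsPerpPt L iH x) ↔ ∃ z : T ⟶ H, z ≫ iH = x) ∧
      IsFinite H.hom ∧
      ∀ s : ↥(Spec (CommRingCat.of k)), Scheme.Hom.finrank H.hom s ^ 2 = Scheme.Hom.finrank K.hom s := by
  exact ThetaMaximal.perp_eq_self hL hK hHK hiso hmax

end Groth.Agent.S19951
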