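import Groth.Statements.S19952
import Groth.Agent.Lib.ThetaRep
import Groth.Agent.Lib.ThetaLevel
import Groth.Agent.S3030
import Groth.Agent.S7795
import Groth.Agent.S7790
import Groth.Agent.GrpSchLib.AVSubgroup
import Groth.Agent.GrpSchLib.MultTypeLft
import Groth.Agent.MorLib.Thickening

set_option autoImplicit false
set_option backward.isDefEq.respectTransparency false
set_option backward.isDefEq.respectTransparency.types false
set_option linter.style.haveILetI false
set_option linter.unusedSectionVars false
set_option maxHeartbeats 400000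
universe u
open CategoryTheory MonoidalCategory CartesianMonoidalCategory MonObj GrpObj AlgebraicGeometry
open ThetaGrp

namespace Groth.Agent.S19952

open Limits TopologicalSpace
open Groth.Agent Groth.Agent.H23 Groth.Agent.ThetaPts Groth.Agent.ThetaLift Groth.Agent.ThetaScalar Groth.Agent.ThetaRep ThetaGrp

/-- Let X be an abelian variety over a field k (a proper, geometrically integral, commutative k-group
scheme), L an invertible O_X-module, and G a k-group scheme with a point u ∈ G(L)(G) representing
the theta group of L (every point of G(L)(T) is the base change of u along a unique T → G,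
multiplicatively). Let j : H → G be a level subgroup — H a k-group scheme, j a homomorphism of group
schemes and an immersion, such that a point of H whose image lies over the identity translation is
trivial — and let i_H : H → X be the morphism it lies over: for every k-scheme T and T-valued point
h of H the base change of u along j(h) lies over the translation by i_H(h). Then there are an
abelian variety Y over k (proper, geometrically integral k-group scheme), a surjective homomorphism
f : X → Y whose kernel is i_H (i_H and f form a cartesian square with the unit section of Y), and an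
invertible O_Y-module M with f^*M ≅ L. (The source states a bijection between level subgroups and
isomorphism classes of such pairs (f, M); this row is the existence of a pair for a given level
subgroup.) -/
theorem result (k : Type u) [Field k]
    (A : Over (Spec (CommRingCat.of k))) [GrpObj A] [IsCommMonObj A] [IsProper A.hom] [GeometricallyIntegral A.hom]
    (L : A.left.Modules) (hL : PicF.IsInvertible L)
    (G : Over (Spec (CommRingCat.of k))) [GrpObj G] (u : ThetaGrp.thetaPts A L G)
    (hG : ThetaGrp.IsThetaGrpSch A L G u)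
    (H : Over (Spec (CommRingCat.of k))) [GrpObj H] (j : H ⟶ G) (hj : ThetaGrp.IsLevelSubgrp u j)
    (iH : H ⟶ A)
    (hover : ∀ (T : Over (Spec (CommRingCat.of k))) (h : T ⟶ H) (β : ThetaGrp.thetaPts A L T),
      ThetaGrp.IsBaseChange β (h ≫ j) u → ThetaGrp.IsOverPt β (h ≫ iH)) :
    ∃ (B : Over (Spec (CommRingCat.of k))) (_ : GrpObj B) (f : A ⟶ B),
      IsProper B.hom ∧ GeometricallyIntegral B.hom ∧ IsMonHom f ∧ Surjective f.left ∧
      AlgGrp.IsKernel iH f ∧
      ∃ M : B.left.Modules, PicF.IsInvertible M ∧ Nonempty ((Scheme.Modules.pullback f.left).obj M ≅ L) := by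
  have hmul : ∀ {T' : Over (Spec (CommRingCat.of k))} (a b : T' ⟶ G), bc (a * b) u = bc a u * bc b u := fun a b =>
    bc_eq (hG.mul _ _ _ _ _ (isBaseChange_bc a u) (isBaseChange_bc b u))
  have hinj : ∀ {T' : Over (Spec (CommRingCat.of k))} (a b : T' ⟶ G), bc a u = bc b u → a = b := fun a b h =>
    (hG.univ _ (bc a u)).unique (isBaseChange_bc a u) (h ▸ isBaseChange_bc b u)
  obtain ⟨hjimm, hjhom, hlev⟩ := hj
  haveI := hjimm
  haveI := hjhom
  have hpt : ∀ {T : Over (Spec (CommRingCat.of k))} (h : T ⟶ H), IsOverPt (bc (h ≫ j) u) (h ≫ iH) := fun h =>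
    hover _ h _ (isBaseChange_bc _ u)
  have hd : IsOverPt (bc j u) iH := by
    have := hpt (𝟙 H)
    rwa [Category.id_comp, Category.id_comp] at this
  have hmH : ∀ {T : Over (Spec (CommRingCat.of k))} (x y : T ⟶ H), (x * y) ≫ iH = (x ≫ iH) * (y ≫ iH) := by
    intro T x y
    refine isOverPt_unique (hpt (x * y)) ?_
    rw [MonObj.mul_comp, hmul]
    have h := isOverPt_mul (hpt x) (hpt y)
    first
      | exact h
      | (rw [_root_.mul_comm (x ≫ iH)]; exact h)
  haveI : IsMonHom iH := by
    have h1 : (1 : 𝟙_ (Over (Spec (CommRingCat.of k))) ⟶ H) ≫ iH = 1 := by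
      have := hmH (1 : 𝟙_ (Over (Spec (CommRingCat.of k))) ⟶ H) 1
      rw [_root_.mul_one] at this
      exact left_eq_mul.1 this
    refine ⟨?_, ?_⟩
    · rw [MonObj.one_eq_one, h1, ← MonObj.one_eq_one]
    · have h := hmH (fst H H) (snd H H)
      rw [Hom.mul_def, lift_fst_snd, Category.id_comp] at h
      rw [h, Hom.mul_def]
      congr 1
  haveI : Mono iH := ⟨fun {T} x y hxy => by
    have h1 : (x * y⁻¹) ≫ iH = 1 := by rw [MonObj.mul_comp, GrpObj.inv_comp, hxy, mul_inv_cancel]
    exact mul_inv_eq_one.1 (hlev T (x * y⁻¹) _ (isBaseChange_bc _ u) (h1 ▸ hpt _))⟩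
  obtain ⟨K, iK, hK, hKu⟩ := AVKLExist.exists_locus hL
  haveI := hK
  obtain ⟨y, hy⟩ := (hKu _ _).1 (mumford_of_eq hL (eq_of_pt hL (isOverPt_pt u)))
  haveI : IsLocallyNoetherian A.left := LocallyOfFiniteType.isLocallyNoetherian A.hom
  haveI : CompactSpace A.left := QuasiCompact.compactSpace_of_compactSpace A.hom
  haveI : IsNoetherian A.left := ⟨⟩
  haveI : LocallyOfFiniteType K.hom := by
    rw [← Over.w iK]
    infer_instance
  haveI : IsLocallyNoetherian K.left := LocallyOfFiniteType.isLocallyNoetherian K.hom
  haveI : CompactSpace K.left := by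
    have := (NoetherianSpace.isCompact (Set.range iK.left) : IsCompact _)
    exact isCompact_univ_iff.1 ((iK.left.isEmbedding.isCompact_iff).2 (by rwa [Set.image_univ]))
  haveI : IsNoetherian K.left := ⟨⟩
  haveI : LocallyOfFiniteType (Red.Gm (Spec (CommRingCat.of k))).hom := GrpSchLib.MultTypeLft.lft_DS _ ℤ
  haveI : IsAffineHom (Red.Gm (Spec (CommRingCat.of k))).hom := by
    haveI : IsAffine (Red.diag (ULift.{u} ℤ) ℤ).left := by
      show IsAffine (Spec _)
      infer_instance
    haveI : IsAffineHom (Red.diag (ULift.{u} ℤ) ℤ).hom := isAffineHom_of_isAffine _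
    show IsAffineHom (pullback.snd _ _)
    exact MorphismProperty.pullback_snd _ _ inferInstance
  have hchart : ∀ g : G.left, ∃ W : G.left.Opens, g ∈ W ∧ LocallyOfFiniteType (W.ι ≫ G.hom) ∧ IsCompact (W : Set G.left) ∧
      ∃ V : K.left.Opens, W = y.left ⁻¹ᵁ V := by
    intro g
    obtain ⟨V, hgV, δ, hδ⟩ := exists_local hL ((hKu K iK).2 ⟨𝟙 _, Category.id_comp _⟩) (y.left g)
    refine ⟨y.left ⁻¹ᵁ V, hgV, ?_⟩
    let Z := opn K V ⊗ Red.Gm (Spec (CommRingCat.of k))
    let W := y.left ⁻¹ᵁ V
    have hr : Set.range (W.ι ≫ y.left) ⊆ Set.range V.ι := by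
      rw [Scheme.Opens.range_ι]
      rintro _ ⟨t, rfl⟩
      exact t.2
    let l : opn G W ⟶ opn K V := Over.homMk (IsOpenImmersion.lift V.ι _ hr) (by
      show IsOpenImmersion.lift V.ι _ hr ≫ V.ι ≫ K.hom = W.ι ≫ G.hom
      rw [IsOpenImmersion.lift_fac_assoc, Category.assoc, Over.w y])
    have hl : l ≫ inc V ≫ iK = inc W ≫ y ≫ iK := by
      apply Over.OverMorphism.ext
      show IsOpenImmersion.lift V.ι _ hr ≫ V.ι ≫ iK.left = W.ι ≫ y.left ≫ iK.left
      rw [IsOpenImmersion.lift_fac_assoc, Category.assoc]
    obtain ⟨d, hdd⟩ := exists_chart hL hδ (bc (inc W) u) l (by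
      rw [hl, hy]
      exact isOverPt_unique (isOverPt_bc _ (isOverPt_pt u)) (isOverPt_pt _))
    obtain ⟨c, hc, -⟩ := hG.univ Z (bc (𝟙 Z) (el hL V δ))
    have hc' : bc c u = bc (𝟙 Z) (el hL V δ) := bc_eq hc
    have hcy : c.left ≫ y.left = (fst (opn K V) (Red.Gm (Spec (CommRingCat.of k)))).left ≫ V.ι := by
      refine (cancel_mono iK.left).1 ?_
      have h1 := isOverPt_unique (isOverPt_bc c (isOverPt_pt u)) (hc' ▸ isOverPt_bc_el hL hδ (𝟙 Z))
      rw [← hy, Category.id_comp] at h1
      rw [Category.assoc, Category.assoc]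
      exact congrArg (fun φ => φ.left) h1
    have hcr : Set.range c.left ⊆ Set.range W.ι := by
      rw [Scheme.Opens.range_ι]
      rintro _ ⟨t, rfl⟩
      show (c.left ≫ y.left) t ∈ V
      rw [hcy]
      exact ((fst (opn K V) (Red.Gm (Spec (CommRingCat.of k)))).left t).2
    let c' : Z ⟶ opn G W := Over.homMk (IsOpenImmersion.lift W.ι _ hcr) (by
      show IsOpenImmersion.lift W.ι _ hcr ≫ W.ι ≫ G.hom = _
      rw [IsOpenImmersion.lift_fac_assoc, Over.w c])
    have hc'i : c' ≫ inc W = c := Over.OverMorphism.ext (IsOpenImmersion.lift_fac _ _ _)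
    have hdc : d ≫ c = inc W := hinj _ _ (by rw [← bc_bc, hc', bc_bc, Category.comp_id, hdd])
    have h1 : d ≫ c' = 𝟙 _ := by
      refine Over.OverMorphism.ext ((cancel_mono W.ι).1 ?_)
      have := congrArg (fun φ => φ.left) ((Category.assoc d c' (inc W)).trans ((congrArg (d ≫ ·) hc'i).trans hdc))
      exact this.trans (Category.id_comp _).symm
    have h2 : c' ≫ d = 𝟙 Z := by
      refine chart_injective hL hK hδ _ _ ?_
      rw [← bc_bc, hdd, bc_bc, hc'i, hc']
    let e : Z ≅ opn G W := ⟨c', d, h2, h1⟩
    haveI : IsIso c'.left := inferInstanceAs (IsIso ((Over.forget _).mapIso e).hom)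
    haveI : IsIso d.left := inferInstanceAs (IsIso ((Over.forget _).mapIso e).inv)
    haveI : LocallyOfFiniteType (opn K V).hom := by
      show LocallyOfFiniteType (V.ι ≫ K.hom)
      infer_instance
    haveI : LocallyOfFiniteType Z.hom := by
      show LocallyOfFiniteType (pullback.fst (opn K V).hom (Red.Gm (Spec (CommRingCat.of k))).hom ≫ (opn K V).hom)
      infer_instance
    haveI : QuasiCompact (opn K V).hom := by
      show QuasiCompact (V.ι ≫ K.hom)
      infer_instance
    haveI : QuasiCompact Z.hom := by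
      show QuasiCompact (pullback.fst (opn K V).hom (Red.Gm (Spec (CommRingCat.of k))).hom ≫ (opn K V).hom)
      infer_instance
    refine ⟨?_, ?_, V, rfl⟩
    · show LocallyOfFiniteType (opn G W).hom
      rw [← Over.w d]
      infer_instance
    · haveI : CompactSpace Z.left := QuasiCompact.compactSpace_of_compactSpace Z.hom
      haveI : CompactSpace (opn G W).left := Function.Surjective.compactSpace c'.left.homeomorph.continuous c'.left.homeomorph.surjective
      rw [show ((y.left ⁻¹ᵁ V : G.left.Opens) : Set G.left) = Set.range W.ι from (Scheme.Opens.range_ι W).symm]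
      haveI : CompactSpace W.toScheme := ‹CompactSpace (opn G W).left›
      exact isCompact_range W.ι.continuous
  choose W hgW hWft hWc V hV using hchart
  haveI : LocallyOfFiniteType G.hom :=
    IsZariskiLocalAtSource.of_openCover (P := @LocallyOfFiniteType)
      (G.left.openCoverOfIsOpenCover W (IsOpenCover.mk (top_le_iff.1 fun g _ => Opens.mem_iSup.2 ⟨g, hgW g⟩))) hWft
  haveI : IsLocallyNoetherian G.left := LocallyOfFiniteType.isLocallyNoetherian G.hom
  haveI : CompactSpace G.left := by
    obtain ⟨S, hS⟩ := (NoetherianSpace.isCompact (Set.range y.left)).elim_finite_subcover (fun g => (V g : Set K.left))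
      (fun g => (V g).2) (by
        rintro _ ⟨g, rfl⟩
        exact Set.mem_iUnion.2 ⟨g, show y.left g ∈ V g from (SetLike.ext_iff.1 (hV g) g).1 (hgW g)⟩)
    refine ⟨(S.finite_toSet.isCompact_biUnion fun g _ => hWc g).of_isClosed_subset isClosed_univ fun x _ => ?_⟩
    obtain ⟨g, hgS, hxg⟩ := Set.mem_iUnion₂.1 (hS ⟨x, rfl⟩)
    exact Set.mem_iUnion₂.2 ⟨g, hgS, (SetLike.ext_iff.1 (hV g) x).2 hxg⟩
  haveI : IsNoetherian G.left := ⟨⟩
  haveI : LocallyOfFiniteType H.hom := by
    rw [← Over.w j]
    infer_instance
  haveI : CompactSpace H.left := by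
    have := (NoetherianSpace.isCompact (Set.range j.left) : IsCompact _)
    exact isCompact_univ_iff.1 ((j.left.isEmbedding.isCompact_iff).2 (by rwa [Set.image_univ]))
  haveI : QuasiCompact iH.left := quasiCompact_of_compactSpace iH.left
  obtain ⟨Q, hQg, p, hp, hpf, hps, -, hker, hQs, hQf, hQsm⟩ :=
    S3030.result k H A iH (fun T g n => ⟨n, by rw [_root_.mul_comm g, mul_inv_cancel_right]⟩)
  haveI := hp; haveI := hps; haveI := hQs; haveI := hQsm (S7795.result A)
  have hpw : p.left ≫ Q.hom = A.hom := Over.w p
  haveI : QuasiCompact Q.hom := by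
    haveI : QuasiCompact (p.left ≫ Q.hom) := hpw.symm ▸ inferInstance
    exact MorLib.quasiCompact_of_comp_surjective p.left Q.hom
  haveI : IsProper Q.hom := by
    haveI : UniversallyClosed (p.left ≫ Q.hom) := hpw.symm ▸ inferInstance
    haveI := UniversallyClosed.of_comp_surjective p.left Q.hom
    exact ⟨⟩
  haveI : IsIntegral A.left := GeometricallyIntegral.isIntegral_of_subsingleton A.hom
  haveI : ConnectedSpace A.left := inferInstance
  haveI : ConnectedSpace Q.left := p.left.surjective.connectedSpace p.left.continuous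
  haveI : GeometricallyIntegral Q.hom := GrpSchLib.AVSubgroup.geometricallyIntegral_group Q
  haveI : GeometricallyConnected Q.hom := CubeAb.geometricallyConnected_of_integral Q.hom
  haveI : IsCommMonObj Q := S7790.isCommMonObj Q
  refine ⟨Q, hQg, p, inferInstance, inferInstance, hp, hps, hker, ?_⟩
  refine ThetaLevel.exists_descent p hker (bc j u) hd (fun T m n => ?_) hL
  rw [bc_bc, bc_bc, bc_bc, MonObj.mul_comp, hmul]

end Groth.Agent.S19952
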