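import Groth.Statements.S19953
import Groth.Agent.Lib.ThetaPts

set_option autoImplicit false
set_option backward.isDefEq.respectTransparency false
set_option backward.isDefEq.respectTransparency.types false
set_option linter.style.haveILetI false
set_option linter.unusedSectionVars false
set_option maxHeartbeats 400000
universe u
open CategoryTheory MonoidalCategory CartesianMonoidalCategory MonObj GrpObj AlgebraicGeometry
open ThetaGrp

namespace Groth.Agent.S19953

open Groth.Agent Groth.Agent.ThetaPts

/-- Let f : X → Y be a surjective homomorphism of abelian varieties over a field k (proper,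
geometrically integral, commutative k-group schemes), i : N → X its kernel (a homomorphism forming a
cartesian square with the unit section of Y), L an invertible O_X-module, M an invertible O_Y-module
with f^*M ≅ L, and G a k-group scheme with a point u ∈ G(L)(G) representing the theta group of L
(every point of G(L)(T) is the base change of u along a unique T → G, multiplicatively). Then there
is a level subgroup of G(L) whose image in K(L) is Ker(f): a homomorphism of group schemes j : N → G
that is an immersion, such that a point of N whose image lies over the identity translation is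
trivial, and that lies over i (for every k-scheme T and T-valued point n of N, the base change of u
along j(n) lies over the translation by i(n)). -/
theorem result (k : Type u) [Field k]
    (A : Over (Spec (CommRingCat.of k))) [GrpObj A] [IsCommMonObj A] [IsProper A.hom] [GeometricallyIntegral A.hom]
    (B : Over (Spec (CommRingCat.of k))) [GrpObj B] [IsCommMonObj B] [IsProper B.hom] [GeometricallyIntegral B.hom]
    (f : A ⟶ B) [IsMonHom f] (hf : Surjective f.left)
    (N : Over (Spec (CommRingCat.of k))) [GrpObj N] (i : N ⟶ A) [IsMonHom i] (hN : AlgGrp.IsKernel i f)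
    (L : A.left.Modules) (hL : PicF.IsInvertible L)
    (M : B.left.Modules) (hM : PicF.IsInvertible M)
    (hLM : Nonempty ((Scheme.Modules.pullback f.left).obj M ≅ L))
    (G : Over (Spec (CommRingCat.of k))) [GrpObj G] (u : ThetaGrp.thetaPts A L G)
    (hG : ThetaGrp.IsThetaGrpSch A L G u) :
    ∃ j : N ⟶ G, IsMonHom j ∧ ThetaGrp.IsLevelSubgrp u j ∧
      ∀ (T : Over (Spec (CommRingCat.of k))) (n : T ⟶ N) (β : ThetaGrp.thetaPts A L T),
        ThetaGrp.IsBaseChange β (n ≫ j) u → ThetaGrp.IsOverPt β (n ≫ i) := by
  obtain ⟨e⟩ := hLM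
  have hif : i ≫ f = 1 := by
    rw [hN.w]
    rw [Hom.one_def]
  have h1 : IsOverPt (1 : ThetaGrp.thetaPts B M N) (i ≫ f) := hif ▸ isOverPt_one N
  obtain ⟨α, ⟨hα, hαr⟩, -⟩ := existsUnique_rel f e.symm h1
  obtain ⟨j, hj, -⟩ := hG.univ N α
  have key : ∀ (T : Over (Spec (CommRingCat.of k))) (n : T ⟶ N) (β : ThetaGrp.thetaPts A L T),
      ThetaGrp.IsBaseChange β (n ≫ j) u → β = bc n α := fun T n β hβ => by
    rw [← bc_eq hj, bc_bc, bc_eq hβ]
  have hover : ∀ (T : Over (Spec (CommRingCat.of k))) (n : T ⟶ N) (β : ThetaGrp.thetaPts A L T),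
      ThetaGrp.IsBaseChange β (n ≫ j) u → ThetaGrp.IsOverPt β (n ≫ i) := fun T n β hβ =>
    key T n β hβ ▸ isOverPt_bc n hα
  haveI hmon : IsMonHom j := by
    have hmul : ∀ (T : Over (Spec (CommRingCat.of k))) (a b : T ⟶ N), (a * b) ≫ j = (a ≫ j) * (b ≫ j) := by
      intro T a b
      have hrel : ∀ c : T ⟶ N, Rel f e.symm (bc c α) (1 : ThetaGrp.thetaPts B M T) := fun c => by
        have h := rel_bc f e.symm c hαr hα
        rwa [bc_one] at h
      have heq : bc a α * bc b α = bc (a * b) α := by
        have hx : IsOverPt (bc a α * bc b α) ((a * b) ≫ i) := by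
          rw [MonObj.mul_comp, mul_comm]
          exact isOverPt_mul (isOverPt_bc a hα) (isOverPt_bc b hα)
        have hy : IsOverPt (1 : ThetaGrp.thetaPts B M T) (((a * b) ≫ i) ≫ f) := by
          rw [Category.assoc, hif, MonObj.comp_one]
          exact isOverPt_one T
        have h12 : Rel f e.symm (bc a α * bc b α) (1 : ThetaGrp.thetaPts B M T) := by
          have h := rel_mul f e.symm (hrel a) (hrel b)
          rwa [_root_.one_mul] at h
        exact (existsUnique_rel f e.symm hy).unique ⟨hx, h12⟩ ⟨isOverPt_bc _ hα, hrel _⟩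
      refine (hG.univ T (bc (a * b) α)).unique ?_ ?_
      · rw [← bc_eq hj, bc_bc]
        exact isBaseChange_bc _ _
      · rw [← heq, ← bc_eq hj, bc_bc, bc_bc]
        exact hG.mul T _ _ _ _ (isBaseChange_bc _ _) (isBaseChange_bc _ _)
    let F : (T : Over (Spec (CommRingCat.of k))) → (T ⟶ N) →* (T ⟶ G) := fun T =>
      MonoidHom.mk' (fun a => a ≫ j) (hmul T)
    refine ⟨?_, ?_⟩
    · have h := (F (𝟙_ _)).map_one
      rw [Hom.one_def, Hom.one_def, toUnit_unique (toUnit (𝟙_ (Over (Spec (CommRingCat.of k))))) (𝟙 _),
        Category.id_comp, Category.id_comp] at h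
      exact h
    · have h := hmul (N ⊗ N) (fst N N) (snd N N)
      rw [Hom.mul_def, Hom.mul_def, lift_fst_snd, Category.id_comp,
        show lift (fst N N ≫ j) (snd N N ≫ j) = j ⊗ₘ j by ext <;> simp] at h
      exact h
  refine ⟨j, hmon, ⟨?_, hmon, fun T n β hβ hβ1 => ?_⟩, hover⟩
  · have hπ : j ≫ pt u = i := isOverPt_unique (isOverPt_bc j (isOverPt_pt u)) (by rw [bc_eq hj]; exact hα)
    haveI : IsClosedImmersion (η[B]).left :=
      isClosedImmersion_of_comp_eq_id (Y := Spec (CommRingCat.of k)) B.hom η[B].left (Over.w η[B])
    haveI : IsClosedImmersion i.left :=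
      MorphismProperty.of_isPullback (P := @IsClosedImmersion) (hN.map (Over.forget _)).flip (inferInstanceAs (IsClosedImmersion (η[B]).left))
    haveI : IsImmersion (j.left ≫ (pt u).left) := by
      rw [← Over.comp_left, hπ]
      infer_instance
    exact IsImmersion.of_comp j.left (pt u).left
  · have h := isOverPt_unique (hover T n β hβ) hβ1
    haveI : Mono i := by
      haveI : IsClosedImmersion (η[B]).left :=
        isClosedImmersion_of_comp_eq_id (Y := Spec (CommRingCat.of k)) B.hom η[B].left (Over.w η[B])
      haveI : IsClosedImmersion i.left :=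
        MorphismProperty.of_isPullback (P := @IsClosedImmersion) (hN.map (Over.forget _)).flip (inferInstanceAs (IsClosedImmersion (η[B]).left))
      exact (Over.forget _).mono_of_mono_map (inferInstanceAs (Mono i.left))
    rw [← cancel_mono i, h, MonObj.one_comp]

end Groth.Agent.S19953
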