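import Groth.Statements.S19955
import Groth.Agent.Lib.ThetaLambda
import Groth.Agent.Lib.AVDegPoly
import Groth.Agent.H23.MaxAbelian

set_option autoImplicit false
set_option backward.isDefEq.respectTransparency false
set_option backward.isDefEq.respectTransparency.types false
set_option linter.style.haveILetI false
set_option linter.unusedSectionVars false
set_option maxHeartbeats 400000
universe u
open CategoryTheory MonoidalCategory CartesianMonoidalCategory MonObj GrpObj AlgebraicGeometry
open ThetaGrp

namespace Groth.Agent.S19955

open Groth.Agent Groth.Agent.ThetaPts Groth.Agent.H23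

/-- Let A be an abelian variety over a field k (a proper, geometrically integral, commutative k-group
scheme), L an invertible O_A-module, and Λ an invertible module on A ×_k A which is the Mumford
bundle of L, stated without inverses: Λ ⊗ p_1^*L ⊗ p_2^*L ≅ m^*L for the group law m and the
projections p_1, p_2. Let i : K → A be a closed subgroup scheme exhibiting K as K(L) (the maximal
closed subscheme of A over which Λ, restricted to A ×_k K, is the inverse image of an invertible
module on K, with its universal property), and let G be a k-group scheme with a point u ∈ G(Λ)(G)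
representing the theta group of Λ on the k-group scheme A ×_k A (every point of G(Λ)(T) — a T-valued
point z of A × A with an isomorphism Λ_T ≅ t_z^*Λ_T — is the base change of u along a unique T → G,
multiplicatively). Then the action of K × {e} on A × A by translations lifts to Λ compatibly with
the group law of K: there is a homomorphism of group schemes j : K → G such that for every k-scheme
T and every T-valued point y of K, the base change of u along j(y) lies over the translation by the
point (i(y), e) of A × A. (In the source L is a fixed ample invertible module and the equivariant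
structure is moreover shown to be unique once an isomorphism of the fibre of L at e with k is fixed;
the argument for existence uses only that L is invertible, and the uniqueness is not part of this
statement.) -/
theorem result (k : Type u) [Field k]
    (A : Over (Spec (CommRingCat.of k))) [GrpObj A] [IsCommMonObj A] [IsProper A.hom] [GeometricallyIntegral A.hom]
    (L : A.left.Modules) (hL : PicF.IsInvertible L)
    (Λ : (A ⊗ A).left.Modules) (hΛi : PicF.IsInvertible Λ)
    (hΛ : AgPol.IsLambdaSheaf μ[A].left (fst A A).left (snd A A).left L Λ)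
    (K : Over (Spec (CommRingCat.of k))) [GrpObj K] (iK : K ⟶ A) [IsMonHom iK] (hK : ThetaGrp.IsKL A L iK)
    (G : Over (Spec (CommRingCat.of k))) [GrpObj G] (u : ThetaGrp.thetaPts (A ⊗ A) Λ G)
    (hG : ThetaGrp.IsThetaGrpSch (A ⊗ A) Λ G u) :
    ∃ j : K ⟶ G, IsMonHom j ∧
      ∀ (T : Over (Spec (CommRingCat.of k))) (y : T ⟶ K) (β : ThetaGrp.thetaPts (A ⊗ A) Λ T),
        ThetaGrp.IsBaseChange β (y ≫ j) u → ThetaGrp.IsOverPt β (y ≫ lift iK (1 : K ⟶ A)) := by
  haveI : IsCommMonObj A := isCommMonObj_of_isProper_of_geometricallyIntegral A
  haveI : IsProper (A ⊗ A).hom := inferInstanceAs (IsProper (Limits.pullback.fst A.hom A.hom ≫ A.hom))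
  haveI : GeometricallyIntegral (A ⊗ A).hom := MaxAbelian.geometricallyIntegral_tensor A A
  haveI : IsMonHom (lift (𝟙 A) (1 : A ⟶ A)) := AVDegPoly.isMonHom_of_one _ (by
    apply CartesianMonoidalCategory.hom_ext
    · rw [Category.assoc, lift_fst, Category.comp_id, IsMonHom.one_hom (fst A A)]
    · rw [Category.assoc, lift_snd, MonObj.comp_one, IsMonHom.one_hom (snd A A), MonObj.one_eq_one])
  obtain ⟨d, hd, hdm⟩ := ThetaLambda.exists_hom_lift hL hΛi hΛ iK hK
  have hmul : ∀ {T' : Over (Spec (CommRingCat.of k))} (a b : T' ⟶ G), bc (a * b) u = bc a u * bc b u := fun a b =>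
    bc_eq (hG.mul _ _ _ _ _ (isBaseChange_bc a u) (isBaseChange_bc b u))
  have hinj : ∀ {T' : Over (Spec (CommRingCat.of k))} (a b : T' ⟶ G), bc a u = bc b u → a = b := fun a b h =>
    (hG.univ _ (bc a u)).unique (isBaseChange_bc a u) (h ▸ isBaseChange_bc b u)
  obtain ⟨j, hj, -⟩ := hG.univ K d
  have hju : ∀ {T : Over (Spec (CommRingCat.of k))} (n : T ⟶ K), bc (n ≫ j) u = bc n d := fun n => by
    rw [← bc_bc, bc_eq hj]
  have hjm : ∀ {T : Over (Spec (CommRingCat.of k))} (m n : T ⟶ K), (m * n) ≫ j = (m ≫ j) * (n ≫ j) := fun m n =>
    hinj _ _ (by rw [hju, hdm, hmul, hju, hju])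
  refine ⟨j, ⟨?_, ?_⟩, fun T y β hβ => ?_⟩
  · have h := hjm (1 : 𝟙_ (Over (Spec (CommRingCat.of k))) ⟶ K) 1
    rw [_root_.mul_one] at h
    rw [MonObj.one_eq_one, left_eq_mul.1 h, ← MonObj.one_eq_one]
  · have h := hjm (fst K K) (snd K K)
    rw [Hom.mul_def, lift_fst_snd, Category.id_comp] at h
    rw [h, Hom.mul_def]
    congr 1
  · rw [← bc_eq hβ, hju]
    exact isOverPt_bc y hd

end Groth.Agent.S19955
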