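import Groth.Statements.S19957
import Groth.Agent.GrpdSplit.Loops

set_option backward.isDefEq.respectTransparency false
set_option backward.isDefEq.respectTransparency.types false
-- import your own Groth.Agent.* helpers here

set_option autoImplicit false
universe u
open CategoryTheory CategoryTheory.Limits AlgebraicGeometry
open Grpd

namespace Groth.Agent.S19957

/-- Let (U, R, s, t, c) be a groupoid scheme over S with U affine and s, t separated, flat and locally
of finite presentation, and let u ∈ U be a point such that the set of points of the stabilizer G → U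
(the base change of j = (t, s) : R → U ×_S U along the diagonal of U) lying over u is finite and s
is quasi-finite at the image in R of each of these points. Then there exist an etale morphism U' → U
with U' affine and a point u' of U' lying over u with trivial residue field extension κ(u) = κ(u'),
such that the restriction R' of R to U' (the groupoid scheme on U' whose arrows form the base change
of j along U' ×_S U' → U ×_S U) is split over u': there is an open subscheme P ⊂ R' which is a
subgroupoid (the identity of U', the inverse of P and the composition of composable pairs of P land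
in P), with s'|_P and t'|_P finite, and containing the image in R' of every point of the stabilizer
G' → U' of R' lying over u'. -/
theorem result (S : Scheme.{u}) (G : Grpd.GroupoidScheme S) [IsAffine G.U]
    [IsSeparated G.s] [IsSeparated G.t] [Flat G.s] [Flat G.t]
    [LocallyOfFinitePresentation G.s] [LocallyOfFinitePresentation G.t]
    (u : ↥G.U) (hfin : Set.Finite {g : ↥G.stabilizer | G.stabilizerToU g = u})
    (hqf : ∀ g : ↥G.stabilizer, G.stabilizerToU g = u →
      Dual3.QuasiFiniteAt G.s ((pullback.fst G.j G.diag : G.stabilizer ⟶ G.R) g)) :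
    ∃ (G' : Grpd.GroupoidScheme S) (φ : Grpd.GroupoidScheme.Hom G' G) (u' : ↥G'.U),
      IsAffine G'.U ∧ Etale φ.fU ∧ φ.fU u' = u ∧ IsIso (φ.fU.residueFieldMap u') ∧
      IsPullback φ.fR G'.j G.j
        (pullback.map G'.pU G'.pU G.pU G.pU φ.fU φ.fU (𝟙 S)
          ((Category.comp_id _).trans φ.fU_over.symm) ((Category.comp_id _).trans φ.fU_over.symm)) ∧
      ∃ (P : Scheme.{u}) (ιP : P ⟶ G'.R), IsOpenImmersion ιP ∧
        (∃ eP : G'.U ⟶ P, eP ≫ ιP = G'.e) ∧ (∃ iP : P ⟶ P, iP ≫ ιP = ιP ≫ G'.i) ∧
        (∃ cP : pullback (ιP ≫ G'.s) (ιP ≫ G'.t) ⟶ P,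
          cP ≫ ιP = pullback.map (ιP ≫ G'.s) (ιP ≫ G'.t) G'.s G'.t ιP ιP (𝟙 G'.U)
            (Category.comp_id _) (Category.comp_id _) ≫ G'.c) ∧
        IsFinite (ιP ≫ G'.s) ∧ IsFinite (ιP ≫ G'.t) ∧
        ∀ g' : ↥G'.stabilizer, G'.stabilizerToU g' = u' →
          ∃ p : ↥P, ιP p = (pullback.fst G'.j G'.diag : G'.stabilizer ⟶ G'.R) g' :=  by
  have hst : ∀ g : G.stabilizer, G.s ((pullback.fst G.j G.diag : G.stabilizer ⟶ G.R) g) = G.stabilizerToU g ∧
      G.t ((pullback.fst G.j G.diag : G.stabilizer ⟶ G.R) g) = G.stabilizerToU g := fun g => by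
    constructor
    · show ((pullback.fst G.j G.diag) ≫ G.s) g = _
      rw [GrpdSplit.stab_fst_s]; rfl
    · show ((pullback.fst G.j G.diag) ≫ G.t) g = _
      rw [GrpdSplit.stab_fst_t]; rfl
  let Sg : Set G.R := (pullback.fst G.j G.diag : G.stabilizer ⟶ G.R) '' {g | G.stabilizerToU g = u}
  have hmem : ∀ r, r ∈ Sg ↔ r ∈ Set.range (pullback.fst G.j G.diag : G.stabilizer ⟶ G.R) ∧ G.s r = u := by
    intro r
    constructor
    · rintro ⟨g, hg, rfl⟩
      exact ⟨⟨g, rfl⟩, (hst g).1.trans hg⟩
    · rintro ⟨⟨g, rfl⟩, hg⟩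
      exact ⟨g, (hst g).1.symm.trans hg, rfl⟩
  obtain ⟨G', φ, u', h1, h2, h3, h4, h5, P, ιP, k1, k2, k3, k4, k5, k6, k7⟩ :=
    GrpdSplit.exists_split (G := G) u Sg (hfin.image _)
      (fun r hr => by
        obtain ⟨g, hg, rfl⟩ := hr
        exact ⟨(hst g).1.trans hg, (hst g).2.trans hg⟩)
      (fun r hr => by
        obtain ⟨g, hg, rfl⟩ := hr
        exact GrpdSplit.qf_of_dual3 (hqf g hg))
      ⟨G.eStab u, by
          show (G.eStab ≫ G.stabilizerToU) u = u
          rw [show G.eStab ≫ G.stabilizerToU = 𝟙 G.U from pullback.lift_snd _ _ _]; rfl,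
        by
          show (pullback.lift G.e (𝟙 G.U) _ ≫ pullback.fst G.j G.diag) u = _
          exact congrArg (fun m : G.U ⟶ G.R => m u) (pullback.lift_fst _ _ _)⟩
      (fun w hw => by
        have hw' := (hmem _).1 hw
        obtain ⟨g, hg, hge⟩ := hw
        have hw1 : G.s (pullback.fst G.s G.t w) = u := by
          rw [← Scheme.Hom.comp_apply, pullback.condition, Scheme.Hom.comp_apply, ← hge]
          exact (hst g).2.trans hg
        have hs : G.s (G.c w) = u := by
          rw [← Scheme.Hom.comp_apply, GrpdSplit.c_s', Scheme.Hom.comp_apply]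
          exact hw'.2
        rw [hmem, hmem]
        simp only [hw1, hs, and_true]
        exact GrpdSplit.stab_comp_iff w hw'.1)
  refine ⟨G', φ, u', h1, h2, h3, h4, h5, P, ιP, k1, k2, k3, k4, k5, k6, fun g' hg' => k7 _ ?_ ?_ ?_⟩
  · show ((pullback.fst G'.j G'.diag) ≫ G'.s) g' = _
    rw [GrpdSplit.stab_fst_s]; exact hg'
  · show ((pullback.fst G'.j G'.diag) ≫ G'.t) g' = _
    rw [GrpdSplit.stab_fst_t]; exact hg'
  · have hcond : (pullback.fst G'.j G'.diag ≫ φ.fR) ≫ G.s = (pullback.fst G'.j G'.diag ≫ φ.fR) ≫ G.t := by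
      rw [Category.assoc, Category.assoc, φ.comm_s, φ.comm_t, ← Category.assoc, ← Category.assoc,
        GrpdSplit.stab_fst_s, GrpdSplit.stab_fst_t]
    refine (hmem _).2 ⟨?_, ?_⟩
    · rw [← Scheme.Hom.comp_apply]
      exact GrpdSplit.mem_range_stab (pullback.fst G'.j G'.diag ≫ φ.fR) hcond g'
    · rw [← Scheme.Hom.comp_apply, φ.comm_s, Scheme.Hom.comp_apply, ← h3]
      congr 1
      show ((pullback.fst G'.j G'.diag) ≫ G'.s) g' = _
      rw [GrpdSplit.stab_fst_s]; exact hg'
end Groth.Agent.S19957
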