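import Groth.Statements.S19963
import Groth.Agent.Horrocks.Core
import Groth.Agent.Horrocks.Modules

set_option autoImplicit false
open Polynomial TensorProduct
universe u
open CAlg

namespace Groth.Agent.S19963

open Groth.Agent.Horrocks Matrix LaurentPolynomial

/-- Let A be a commutative ring and let A(t) denote the localization of the polynomial ring A[t] at the
multiplicative subset of monic polynomials, viewed as an A-algebra. If P and P' are finitely
generated projective A-modules such that A(t) ⊗_A P and A(t) ⊗_A P' are isomorphic A(t)-modules,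
then P and P' are isomorphic A-modules: non-isomorphic finite projective modules stay non-isomorphic
over A(t). (The published statement also covers base change to the ring A((t)) of Laurent power
series, and modules over A(t) itself; only the A(t) assertion for modules over A is stated.) -/
theorem result
    (A : Type u) [CommRing A] (M : Submonoid A[X]) (hM : ∀ f : A[X], f ∈ M ↔ f.Monic)
    (At : Type u) [CommRing At] [Algebra A[X] At] [IsLocalization M At]
    [Algebra A At] [IsScalarTower A A[X] At]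
    (P P' : Type u) [AddCommGroup P] [Module A P] [Module.Finite A P] [Module.Projective A P]
    [AddCommGroup P'] [Module A P'] [Module.Finite A P'] [Module.Projective A P']
    (h : Nonempty ((At ⊗[A] P) ≃ₗ[At] (At ⊗[A] P'))) :
    Nonempty (P ≃ₗ[A] P') := by
  obtain ⟨n, p, q, hP, hQ⟩ := exists_pair_retract (R := A) P P'
  refine hP.equiv hQ ?_
  obtain ⟨φ', ψ', h₁, h₂, h₃, h₄⟩ :=
    MvN.normalized ((hP.baseChange At).mvn (hQ.baseChange At) h.some) (hP.baseChange At).idem (hQ.baseChange At).idem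
  obtain ⟨κ, hκ⟩ : ∃ κ : A[X] →+* At, κ = algebraMap A[X] At := ⟨_, rfl⟩
  have hinj : Function.Injective κ := hκ ▸
    IsLocalization.injective At (fun f hf => ((hM f).1 hf).mem_nonZeroDivisors)
  obtain ⟨P₁, hP₁⟩ : ∃ P₁, P₁ = p.map (Polynomial.C : A →+* A[X]) := ⟨_, rfl⟩
  obtain ⟨Q₁, hQ₁⟩ : ∃ Q₁, Q₁ = q.map (Polynomial.C : A →+* A[X]) := ⟨_, rfl⟩
  have hAt : ∀ a : A, κ (Polynomial.C a) = algebraMap A At a := fun a => by
    rw [hκ, IsScalarTower.algebraMap_apply A A[X] At, Polynomial.algebraMap_eq]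
  have hPκ : P₁.map κ = p.map (algebraMap A At) := Matrix.ext fun i j => by rw [hP₁]; exact hAt _
  have hQκ : Q₁.map κ = q.map (algebraMap A At) := Matrix.ext fun i j => by rw [hQ₁]; exact hAt _
  rw [← hPκ] at h₁ h₃ h₄
  rw [← hQκ] at h₂ h₃ h₄
  obtain ⟨⟨f, hfM⟩, hint⟩ := IsLocalization.exist_integer_multiples_of_finite M
    (Sum.elim (fun x : Fin n × Fin n => φ' x.1 x.2) (fun x : Fin n × Fin n => ψ' x.1 x.2))
  obtain ⟨φ, hφ⟩ : ∃ φ : Matrix (Fin n) (Fin n) A[X], φ.map κ = κ f • φ' := by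
    choose φ hφ using fun x => hint (Sum.inl x)
    exact ⟨Matrix.of fun i j => φ (i, j), Matrix.ext fun i j => by
      rw [hκ, Matrix.smul_apply, smul_eq_mul, ← Algebra.smul_def]; exact hφ (i, j)⟩
  obtain ⟨ψ, hψ⟩ : ∃ ψ : Matrix (Fin n) (Fin n) A[X], ψ.map κ = κ f • ψ' := by
    choose ψ hψ using fun x => hint (Sum.inr x)
    exact ⟨Matrix.of fun i j => ψ (i, j), Matrix.ext fun i j => by
      rw [hκ, Matrix.smul_apply, smul_eq_mul, ← Algebra.smul_def]; exact hψ (i, j)⟩
  have cancel := Matrix.map_injective (m := Fin n) (n := Fin n) hinj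
  have hPP : p * p = p := hP.idem
  have hQQ : q * q = q := hQ.idem
  have hpφ : P₁ * φ * Q₁ = φ := cancel (by
    simp only [Matrix.map_mul, hφ]; rw [Matrix.mul_smul, Matrix.smul_mul, h₃])
  have hqψ : Q₁ * ψ * P₁ = ψ := cancel (by
    simp only [Matrix.map_mul, hψ]; rw [Matrix.mul_smul, Matrix.smul_mul, h₄])
  have hφψ : φ * ψ = (f * f) • P₁ := cancel (by
    dsimp only; rw [Matrix.map_mul, hφ, hψ, Matrix.smul_mul, Matrix.mul_smul, smul_smul, h₁, map_smul_matrix, map_mul])
  have hψφ : ψ * φ = (f * f) • Q₁ := cancel (by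
    dsimp only; rw [Matrix.map_mul, hφ, hψ, Matrix.smul_mul, Matrix.mul_smul, smul_smul, h₂, map_smul_matrix, map_mul])
  let D : ℕ := (f * f).natDegree +
    (∑ i, ∑ j, (φ i j).natDegree) + (∑ i, ∑ j, (ψ i j).natDegree)
  have hDφ : ∀ i j, (φ i j).natDegree ≤ D := fun i j => le_trans
    ((Finset.single_le_sum (f := fun j => (φ i j).natDegree) (fun _ _ => Nat.zero_le _) (Finset.mem_univ j)).trans
      (Finset.single_le_sum (f := fun i => ∑ j, (φ i j).natDegree) (fun _ _ => Nat.zero_le _) (Finset.mem_univ i)))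
    (by omega)
  have hDψ : ∀ i j, (ψ i j).natDegree ≤ D := fun i j => le_trans
    ((Finset.single_le_sum (f := fun j => (ψ i j).natDegree) (fun _ _ => Nat.zero_le _) (Finset.mem_univ j)).trans
      (Finset.single_le_sum (f := fun i => ∑ j, (ψ i j).natDegree) (fun _ _ => Nat.zero_le _) (Finset.mem_univ i)))
    (by omega)
  obtain ⟨m, hm⟩ : ∃ m, m = (f * f).natDegree := ⟨_, rfl⟩
  obtain ⟨c, hc⟩ : ∃ c, c + m = D + D := ⟨D + D - m, by omega⟩
  let φr : Matrix (Fin n) (Fin n) A[X] := Matrix.of fun i j => (φ i j).reflect D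
  let ψr : Matrix (Fin n) (Fin n) A[X] := Matrix.of fun i j => (ψ i j).reflect D
  have eφ : negM φr = (T (-(D : ℤ)) : A[T;T⁻¹]) • posM φ := Matrix.ext fun i j => negL_reflect D _ (hDφ i j)
  have eψ : negM ψr = (T (-(D : ℤ)) : A[T;T⁻¹]) • posM ψ := Matrix.ext fun i j => negL_reflect D _ (hDψ i j)
  have hC : ∀ M₀ : Matrix (Fin n) (Fin n) A, negM (M₀.map (Polynomial.C : A →+* A[X])) = posM (M₀.map Polynomial.C) :=
    fun M₀ => Matrix.ext fun i j => by
      show negL A (Polynomial.C (M₀ i j)) = toLaurent (Polynomial.C (M₀ i j))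
      rw [negL_C, Polynomial.toLaurent_C]
  have hff : ((f * f).reflect m).coeff 0 = 1 := by
    rw [Polynomial.coeff_reflect, Polynomial.revAt_le (Nat.zero_le _), Nat.sub_zero, hm]
    exact ((hM f).1 hfM).mul ((hM f).1 hfM)
  have eg : negL A (Polynomial.X ^ c * (f * f).reflect m) = T (-(D : ℤ)) * T (-(D : ℤ)) * toLaurent (f * f) := by
    rw [map_mul, negL_X_pow, negL_reflect m _ hm.ge, ← mul_assoc, ← LaurentPolynomial.T_add, ← LaurentPolynomial.T_add]
    congr 2
    omega
  subst hP₁ hQ₁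
  have hsm : ∀ (a : A[X]) (M₀ : Matrix (Fin n) (Fin n) A[X]), posM (a • M₀) = toLaurent a • posM M₀ :=
    fun a M₀ => map_smul_matrix _ a M₀
  refine mvn_core p q hPP hQQ φr ψr _ hff c ?_ ?_ ?_ ?_ ?_ ?_
  · refine negM_injective ?_
    rw [negM_mul, hC, eφ, Matrix.mul_smul, ← posM_mul]
    conv_lhs => rw [← hpφ, ← Matrix.mul_assoc, ← Matrix.mul_assoc, ← Matrix.map_mul, hPP, hpφ]
  · refine negM_injective ?_
    rw [negM_mul, hC, eφ, Matrix.smul_mul, ← posM_mul]
    conv_lhs => rw [← hpφ, Matrix.mul_assoc, ← Matrix.map_mul, hQQ, hpφ]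
  · refine negM_injective ?_
    rw [negM_mul, hC, eψ, Matrix.mul_smul, ← posM_mul]
    conv_lhs => rw [← hqψ, ← Matrix.mul_assoc, ← Matrix.mul_assoc, ← Matrix.map_mul, hQQ, hqψ]
  · refine negM_injective ?_
    rw [negM_mul, hC, eψ, Matrix.smul_mul, ← posM_mul]
    conv_lhs => rw [← hqψ, Matrix.mul_assoc, ← Matrix.map_mul, hPP, hqψ]
  · refine negM_injective ?_
    rw [negM_mul, eφ, eψ, Matrix.smul_mul, Matrix.mul_smul, smul_smul, ← posM_mul, hφψ, hsm, smul_smul]
    conv_rhs => rw [negM, map_smul_matrix, eg]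
    rw [← hC]
  · refine negM_injective ?_
    rw [negM_mul, eφ, eψ, Matrix.smul_mul, Matrix.mul_smul, smul_smul, ← posM_mul, hψφ, hsm, smul_smul]
    conv_rhs => rw [negM, map_smul_matrix, eg]
    rw [← hC]

end Groth.Agent.S19963
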