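import Groth.Statements.S19964
import Groth.Agent.SchClosure.Basic

set_option autoImplicit false
universe u
open CategoryTheory MonoidalCategory CartesianMonoidalCategory MonObj GrpObj AlgebraicGeometry CategoryTheory.Limits
open Neron

namespace Groth.Agent.S19964

/-- Let R be a Dedekind domain with fraction field K, G a group scheme over Spec R and i : H_K → G_K a
closed subgroup scheme of the generic fibre G_K = G ×_R K (a homomorphism which is a closed
immersion). Then there are a group scheme H over Spec R, flat over Spec R, and a homomorphism j : H
→ G which is a closed immersion, together with a morphism H_K → H presenting H_K as the generic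
fibre H ×_R K compatibly with i and the embedding G_K → G, and with trivial kernel ideal sheaf (H_K
is schematically dense in H). In words: the schematic closure in G of a closed K-subgroup of the
generic fibre is a flat closed R-subgroup scheme of G. (The source states this for group algebraic
spaces over a connected Dedekind scheme; the case of schemes over an affine base is stated.) -/
theorem result
    (R : Type u) [CommRing R] [IsDedekindDomain R]
    (G : Over (Spec (CommRingCat.of R))) [GrpObj G]
    (HK : Over (Spec (CommRingCat.of (FractionRing R)))) [GrpObj HK]
    (i : HK ⟶ Red.bc (Neron.genPt R) G) [IsMonHom i] [IsClosedImmersion i.left] :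
    ∃ (H : Over (Spec (CommRingCat.of R))) (_ : GrpObj H) (j : H ⟶ G) (φ : HK.left ⟶ H.left),
      IsMonHom j ∧ IsClosedImmersion j.left ∧ Flat H.hom ∧
      IsPullback φ HK.hom H.hom (Neron.genPt R) ∧
      φ ≫ j.left = i.left ≫ pullback.fst G.hom (Neron.genPt R) ∧
      φ.ker = ⊥ := by
  exact Groth.Agent.SchClosure.exists_closedSubgroup i

end Groth.Agent.S19964
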