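import Groth.Statements.S19967
import Mathlib

set_option autoImplicit false
universe u
open CategoryTheory CategoryTheory.Limits AlgebraicGeometry
open FlatMor

namespace Groth.Agent.S19967

/-- Let f : S' → S be a flat morphism of locally Noetherian schemes, i : C → S and i' : C' → S' closed
immersions with C and C' integral, and g : C' → C with g ≫ i = i' ≫ f. Let φ : C' → C ×_S S' be the
induced morphism and η ∈ S the image of the generic point of C. If φ becomes an isomorphism after
base change along the canonical morphism Spec O_{S,η} → S (that is, after pulling back to (C ×_S S')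
×_S Spec O_{S,η}), then φ is an isomorphism. (In the source S and S' are excellent surfaces over an
algebraically closed field, C and C' regular curves not inside the singular loci, and the
isomorphism over Spec O_{S,η} is part of the definition of a morphism of surface-curve pairs; those
extra hypotheses play no part.) -/
theorem result
    {S S' C C' : Scheme.{u}} [IsLocallyNoetherian S] [IsLocallyNoetherian S']
    (f : S' ⟶ S) [Flat f] (i : C ⟶ S) [IsClosedImmersion i] [IsIntegral C]
    (i' : C' ⟶ S') [IsClosedImmersion i'] [IsIntegral C']
    (g : C' ⟶ C) (hsq : g ≫ i = i' ≫ f)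
    (hgen : IsIso (pullback.snd (pullback.lift g i' hsq)
      (pullback.fst (pullback.fst i f ≫ i) (S.fromSpecStalk (i.base (genericPoint C)))))) :
    IsIso (pullback.lift g i' hsq) := by
  open Limits in
  haveI : IsClosedImmersion (pullback.lift g i' hsq ≫ pullback.snd i f) := by rw [pullback.lift_snd]; infer_instance
  haveI : IsClosedImmersion (pullback.lift g i' hsq) := IsClosedImmersion.of_comp (pullback.lift g i' hsq) (pullback.snd i f)
  haveI : IsLocallyNoetherian C := LocallyOfFiniteType.isLocallyNoetherian i
  let ξ := C.fromSpecStalk (genericPoint C)
  haveI : QuasiCompact ξ := inferInstance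
  haveI : IsDominant ξ := by
    refine ⟨?_⟩
    rw [DenseRange, dense_iff_closure_eq, Set.eq_univ_iff_forall]
    intro z
    have hr : genericPoint C ∈ Set.range ξ.base := by
      rw [Scheme.range_fromSpecStalk]; exact specializes_refl _
    exact (genericPoint_specializes z).mem_closed isClosed_closure (subset_closure hr)
  haveI : IsSchemeTheoreticallyDominant ξ := IsSchemeTheoreticallyDominant.of_isDominant ξ
  haveI : Flat (pullback.fst i f) := inferInstance
  haveI : IsSchemeTheoreticallyDominant (pullback.fst (pullback.fst i f) ξ) := inferInstance
  let a : pullback (pullback.fst i f) ξ ⟶ pullback (pullback.fst i f ≫ i) (S.fromSpecStalk (i.base (genericPoint C))) :=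
    pullback.lift (pullback.fst (pullback.fst i f) ξ) (pullback.snd (pullback.fst i f) ξ ≫ Spec.map (i.stalkMap (genericPoint C))) (by
      rw [Category.assoc, Scheme.SpecMap_stalkMap_fromSpecStalk, ← Category.assoc, ← Category.assoc]
      exact congrArg (· ≫ i) pullback.condition)
  have ha : a ≫ pullback.fst _ _ = pullback.fst (pullback.fst i f) ξ := pullback.lift_fst _ _ _
  haveI := hgen
  have hfac : pullback.fst (pullback.fst i f ≫ i) (S.fromSpecStalk (i.base (genericPoint C))) =
      CategoryTheory.inv (pullback.snd (pullback.lift g i' hsq) (pullback.fst (pullback.fst i f ≫ i) (S.fromSpecStalk (i.base (genericPoint C))))) ≫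
        pullback.fst _ _ ≫ pullback.lift g i' hsq := by
    rw [IsIso.eq_inv_comp]
    exact pullback.condition.symm
  rw [IsClosedImmersion.isIso_iff_ker_eq_bot, eq_bot_iff, ← (pullback.fst (pullback.fst i f) ξ).ker_eq_bot, ← ha, hfac]
  simp only [← Category.assoc]
  exact Scheme.Hom.le_ker_comp _ _

end Groth.Agent.S19967
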