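import Groth.Statements.S19968
import Groth.Agent.H23.TrivBasic
-- import your own Groth.Agent.* helpers here

set_option autoImplicit false
universe u
open CategoryTheory AlgebraicGeometry Opposite
open LinSer

namespace Groth.Agent.S19968

/-- Rational points impose at most one condition each on a complete linear system. Let k be a field, X a
scheme over k, L an invertible O_X-module, and p_1, …, p_n morphisms Spec k → X over k (k-rational
points). Suppose there are n + 1 global sections of L, given as morphisms t_0, …, t_n : O_X → L,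
whose values in Γ(X, L) are linearly independent over k. Then there is a nonzero morphism s : O_X →
L such that no p_i lands in the open X_s where s generates L; that is, s vanishes at every p_i and
the p_i lie on a common member of the complete linear system of L. (The source has X an irreducible
projective variety over the complex numbers, L base-point-free and the points closed, and phrases
this as surjectivity of the incidence correspondence onto X^n for n at most the dimension of the
linear system; only rationality of the points and the dimension count are used, and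
base-point-freeness plays no part in this item.) -/
theorem result
    (k : Type u) [Field k] (X : Scheme.{u}) [X.Over (Spec (CommRingCat.of k))]
    (L : X.Modules) (hL : PicF.IsInvertible L)
    (n : ℕ) (p : Fin n → (Spec (CommRingCat.of k) ⟶ X))
    (hp : ∀ i, p i ≫ (X ↘ Spec (CommRingCat.of k)) = 𝟙 _)
    (t : Fin (n + 1) → (Coh.structureModule X ⟶ L))
    (ht : LinSer.LinIndep k X L (fun j => (L.unitHomEquiv (t j)).val (op ⊤))) :
    ∃ s : Coh.structureModule X ⟶ L, s ≠ 0 ∧
      ∀ i, (p i) (IsLocalRing.closedPoint k) ∉ CohB1.genLocus L s := by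
  choose U hU e he using fun i => Groth.Agent.InvX.exists_frame hL ((p i) (IsLocalRing.closedPoint k))
  have hpre : ∀ i, (p i) ⁻¹ᵁ (U i) = ⊤ := fun i => top_le_iff.mp fun z _ => by
    haveI : Subsingleton ↥(Spec (CommRingCat.of k)) := inferInstanceAs (Subsingleton (PrimeSpectrum k))
    rw [Subsingleton.elim z (IsLocalRing.closedPoint k)]
    exact hU i
  choose g hg using fun i j => (he i).exists_coord le_rfl
    (Groth.Agent.AModX.res L (le_top : U i ≤ ⊤) (Groth.Agent.InvX.one (t j)))
  simp only [Groth.Agent.AModX.res_self] at hg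
  let ε : ∀ i, k →+* Γ(Spec (CommRingCat.of k), (p i) ⁻¹ᵁ (U i)) := fun i =>
    ((Spec (CommRingCat.of k)).presheaf.map (homOfLE (hpre i).le).op).hom.comp
      (Scheme.ΓSpecIso (CommRingCat.of k)).inv.hom
  have hsurj : ∀ i, Function.Surjective (ε i) := fun i y => by
    refine ⟨(Scheme.ΓSpecIso (CommRingCat.of k)).hom.hom
      ((Spec (CommRingCat.of k)).presheaf.map (homOfLE (hpre i).ge).op y), ?_⟩
    show ((Spec (CommRingCat.of k)).presheaf.map (homOfLE (hpre i).ge).op ≫ (Scheme.ΓSpecIso (CommRingCat.of k)).hom ≫
      (Scheme.ΓSpecIso (CommRingCat.of k)).inv ≫ (Spec (CommRingCat.of k)).presheaf.map (homOfLE (hpre i).le).op).hom y = y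
    rw [Iso.hom_inv_id_assoc, ← Functor.map_comp,
      Subsingleton.elim ((homOfLE (hpre i).ge).op ≫ (homOfLE (hpre i).le).op) (𝟙 _), CategoryTheory.Functor.map_id]
    rfl
  choose a ha using fun i j => hsurj i ((p i).app (U i) (g i j))
  have hε : ∀ i (c : k), (p i).app (U i) (Groth.Agent.AModX.resR (le_top : U i ≤ ⊤)
      (Coh.toGlobal (X ↘ Spec (CommRingCat.of k)) c)) = ε i c := by
    intro i c
    show (X.presheaf.map (homOfLE (le_top : U i ≤ ⊤)).op ≫ (p i).app (U i)).hom
      ((X ↘ Spec (CommRingCat.of k)).appTop.hom ((Scheme.ΓSpecIso (CommRingCat.of k)).inv.hom c)) = _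
    rw [Scheme.Hom.naturality]
    have hh := congrArg (fun φ : Spec (CommRingCat.of k) ⟶ Spec (CommRingCat.of k) =>
      φ.appTop.hom ((Scheme.ΓSpecIso (CommRingCat.of k)).inv.hom c)) (hp i)
    simp only [Scheme.Hom.id_appTop, Scheme.Hom.comp_appTop, CommRingCat.hom_comp, RingHom.comp_apply,
      CommRingCat.hom_id, RingHom.id_apply] at hh
    exact congrArg (((Spec (CommRingCat.of k)).presheaf.map (homOfLE (hpre i).le).op).hom) hh
  let Φ : (Fin (n + 1) → k) →ₗ[k] (Fin n → k) := (Matrix.of a).mulVecLin
  obtain ⟨c, hc0, hc⟩ : ∃ c, c ≠ 0 ∧ Φ c = 0 := by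
    by_contra! h
    have hinj : Function.Injective Φ := (injective_iff_map_eq_zero Φ).mpr fun c hc =>
      by_contra fun hc0 => h c hc0 hc
    have := LinearMap.finrank_le_finrank_of_injective hinj
    simp at this
  let sc : k →+* Γ(X, ⊤) := Coh.toGlobal (X ↘ Spec (CommRingCat.of k))
  let S : Γ(L, ⊤) := ∑ j, sc (c j) • Groth.Agent.InvX.one (t j)
  have hS : S ≠ 0 := fun h => hc0 (ht c (by exact h))
  refine ⟨Groth.Agent.InvX.ofSect S, fun h => hS ?_, fun i hi => ?_⟩
  · rw [← Groth.Agent.InvX.one_ofSect S, h]
    rfl
  · let G : Γ(X, U i) := ∑ j, Groth.Agent.AModX.resR (le_top : U i ≤ ⊤)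
      (Coh.toGlobal (X ↘ Spec (CommRingCat.of k)) (c j)) * g i j
    have hG : Groth.Agent.AModX.res L (le_top : U i ≤ ⊤) S = G • e i := by
      simp only [S, G, map_sum, Groth.Agent.AModX.res_smul, Finset.sum_smul, mul_smul, ← hg]
      rfl
    have h0 : (p i).app (U i) G = 0 := by
      have := congr_fun hc i
      simp only [G, sc, map_sum, map_mul]
      erw [Finset.sum_congr rfl fun x _ => congrArg (· * (p i).app (U i) (g i x)) (hε i (c x))]
      simp only [← ha, ← map_mul, ← map_sum]
      rw [show (∑ x, c x * a i x) = 0 from (Finset.sum_congr rfl fun x _ => mul_comm _ _).trans this, map_zero]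
    have h1 : (p i) (IsLocalRing.closedPoint k) ∈ X.basicOpen G := by
      rw [← Groth.Agent.H23.TrivBasic.locus_eq_basicOpen (he i) hG]
      exact ⟨hi, hU i⟩
    have h2 : IsLocalRing.closedPoint k ∈ (p i) ⁻¹ᵁ X.basicOpen G := h1
    rw [Scheme.preimage_basicOpen, h0, Scheme.basicOpen_zero] at h2
    exact h2

end Groth.Agent.S19968
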