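import Groth.Statements.S1997
import Mathlib
-- import your own Groth.Agent.* helpers here

set_option autoImplicit false
universe u
open CategoryTheory
open EtAlg

namespace Groth.Agent.S1997

/-- Let A be a ring all of whose ideals are flat (weak dimension at most one) and A -> B a flat,
injective ring map which is an epimorphism in the category of commutative rings. Then A is
integrally closed in B. -/
theorem result (A B : Type u) [CommRing A] [CommRing B] [Algebra A B]
    (hA : ∀ I : Ideal A, Module.Flat A I) [Module.Flat A B] (hinj : Function.Injective (algebraMap A B))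
    (hepi : Epi (CommRingCat.ofHom (algebraMap A B))) : IsIntegrallyClosedIn A B := by
  haveI : Algebra.IsEpi A B := by
    exact (CommRingCat.epi_iff_epi).mp hepi
  rw [isIntegrallyClosedIn_iff]
  refine ⟨hinj, fun {b} hb => ?_⟩
  let S : Subalgebra A B := Algebra.adjoin A {b}
  haveI : Module.Finite A S := Module.Finite.iff_fg.mpr hb.fg_adjoin_singleton
  let i : S →ₗ[A] B := S.val.toLinearMap
  have hi : Function.Injective i := Subtype.val_injective
  -- submodules of flat modules are flat
  haveI : Module.Flat A S := by
    rw [Module.Flat.iff_rTensor_injective']
    intro I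
    haveI := hA I
    have h1 : Function.Injective (LinearMap.lTensor I i) := Module.Flat.lTensor_preserves_injective_linearMap i hi
    have h2 : Function.Injective (LinearMap.rTensor B I.subtype) :=
      Module.Flat.rTensor_preserves_injective_linearMap _ Subtype.val_injective
    have h3 : LinearMap.lTensor A i ∘ₗ LinearMap.rTensor S I.subtype =
        LinearMap.rTensor B I.subtype ∘ₗ LinearMap.lTensor I i := by
      rw [LinearMap.lTensor_comp_rTensor, LinearMap.rTensor_comp_lTensor]
    have h4 : Function.Injective (LinearMap.lTensor A i ∘ₗ LinearMap.rTensor S I.subtype) := by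
      rw [h3]; exact h2.comp h1
    exact Function.Injective.of_comp h4
  -- `A → A[b]` is an epimorphism
  haveI : Algebra.IsEpi A S := by
    rw [Algebra.isEpi_iff_forall_one_tmul_eq]
    intro s
    have h1 : Function.Injective (LinearMap.lTensor S i) := Module.Flat.lTensor_preserves_injective_linearMap i hi
    have h2 : Function.Injective (LinearMap.rTensor B i) := Module.Flat.rTensor_preserves_injective_linearMap i hi
    apply h1
    apply h2
    simp only [LinearMap.lTensor_tmul, LinearMap.rTensor_tmul]
    exact (Algebra.isEpi_iff_forall_one_tmul_eq A B).mp inferInstance (i s)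
  have hsurj : Function.Surjective (algebraMap A S) :=
    Algebra.isEpi_iff_surjective_algebraMap_of_finite.mp inferInstance
  obtain ⟨a, ha⟩ := hsurj ⟨b, Algebra.self_mem_adjoin_singleton A b⟩
  exact ⟨a, congrArg Subtype.val ha⟩

end Groth.Agent.S1997
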