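import Groth.Statements.S19971
import Groth.Agent.AbSchMul.Basic
import Groth.Agent.H23.GeomConn
import Groth.Agent.GrpSchLib.IsogenyFibre

set_option autoImplicit false
universe u
open CategoryTheory CategoryTheory.Limits MonoidalCategory CartesianMonoidalCategory MonObj AlgebraicGeometry
open AbSch

namespace Groth.Agent.S19971

set_option synthInstance.maxHeartbeats 400000

/-- A flat surjective homomorphism locally of finite presentation is an epimorphism of fppf sheaves. -/
theorem epi_ptsMap {S : Scheme.{u}} {A B : Over S} [GrpObj A] [IsCommMonObj A] [GrpObj B] [IsCommMonObj B]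
    (π : A ⟶ B) [IsMonHom π] [Flat π.left] [Surjective π.left] [LocallyOfFinitePresentation π.left] :
    Epi (CGrpSh.ptsMap Scheme.fppfPrecoverage π) := by
  refine (Sheaf.isLocallySurjective_iff_epi' (A := AddCommGrpCat.{u + 1}) _).1 ⟨@fun T z => ?_⟩
  let y : T ⟶ B := Additive.toMul (ULift.down z)
  let q : pullback y.left π.left ⟶ T.left := pullback.fst _ _
  have hq : Sieve.generate (Presieve.singleton q) ∈ Scheme.fppfPrecoverage.toGrothendieck T.left := by
    rw [← Presieve.ofArrows_pUnit.{u, u, u + 1} q]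
    refine Precoverage.generate_mem_toGrothendieck ?_
    rw [Scheme.fppfPrecoverage, Scheme.ofArrows_mem_precoverage_iff]
    refine ⟨fun x => ?_, fun _ => ⟨inferInstance, inferInstance⟩⟩
    obtain ⟨w, hw⟩ := (inferInstance : Surjective q).surj x
    exact ⟨PUnit.unit, w, hw⟩
  refine GrothendieckTopology.superset_covering _ ?_
    (GrothendieckTopology.overEquiv_symm_mem_over _ T _ hq)
  intro W g hg
  rw [Sieve.overEquiv_symm_iff] at hg
  obtain ⟨_, h, _, ⟨⟩, e⟩ := hg
  have hw : (h ≫ pullback.snd y.left π.left) ≫ A.hom = W.hom := by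
    rw [← Over.w π, Category.assoc,
      ← reassoc_of% (pullback.condition (f := y.left) (g := π.left)), Over.w y,
      ← Over.w g, ← e, Category.assoc]
  refine ⟨ULift.up (Additive.ofMul (Over.homMk (h ≫ pullback.snd y.left π.left) hw)), ?_⟩
  refine ULift.ext _ _ (congrArg Additive.ofMul (Over.OverMorphism.ext ?_))
  show (h ≫ pullback.snd y.left π.left) ≫ π.left = g.left ≫ y.left
  rw [← e, Category.assoc, ← pullback.condition, Category.assoc]

/-- Let S be a scheme and A, B, C abelian S-schemes (commutative S-group schemes which are smooth and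
proper over S with connected fibres). Then the group of morphisms from A to the S-sheaf of
extensions of B by C is torsion-free: on the big fppf site of S, if φ is a morphism of abelian
sheaves from the sheaf of points of A to the first Ext sheaf from the sheaf of points of B with
values in the sheaf of points of C, and n · φ = 0 for some nonzero integer n, then φ = 0. -/
theorem result {S : Scheme.{u}} (A B C : Over S)
    [GrpObj A] [IsCommMonObj A] [Smooth A.hom] [IsProper A.hom]
    (hA : ∀ s : S, ConnectedSpace ↥(A.hom.fiber s))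
    [GrpObj B] [IsCommMonObj B] [Smooth B.hom] [IsProper B.hom]
    (hB : ∀ s : S, ConnectedSpace ↥(B.hom.fiber s))
    [GrpObj C] [IsCommMonObj C] [Smooth C.hom] [IsProper C.hom]
    (hC : ∀ s : S, ConnectedSpace ↥(C.hom.fiber s))
    (φ : (CGrpSh.pts Scheme.fppfPrecoverage A) ⟶ (HomSh.extSh (QuotSh.J Scheme.fppfPrecoverage S) (CGrpSh.pts Scheme.fppfPrecoverage B) 1).obj (CGrpSh.pts Scheme.fppfPrecoverage C))
    (n : ℤ) (hn : n ≠ 0) (h : n • φ = 0) : φ = 0 := by
  haveI : GeometricallyConnected A.hom := H23.GeomConn.of_grp A hA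
  haveI : GeometricallyReduced A.hom := GrpSchLib.IsogenyFibre.geometricallyReduced_of_smooth' A.hom
  haveI := AbSchMul.isMonHom_zpow A n
  haveI := AbSchMul.flat_zpow A n hn
  haveI := AbSchMul.surjective_zpow A n hn
  haveI := AbSchMul.isFinite_zpow A n hn
  haveI : LocallyOfFinitePresentation (𝟙 A ^ n : A ⟶ A).left := by
    have : LocallyOfFinitePresentation ((𝟙 A ^ n : A ⟶ A).left ≫ A.hom) := by rw [Over.w]; infer_instance
    exact S12442.locallyOfFinitePresentation_of_comp _ A.hom
  haveI := epi_ptsMap (𝟙 A ^ n : A ⟶ A)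
  have hm : CGrpSh.ptsMap Scheme.fppfPrecoverage (𝟙 A ^ n : A ⟶ A) =
      n • 𝟙 (CGrpSh.pts Scheme.fppfPrecoverage A) := by
    refine Sheaf.hom_ext (NatTrans.ext (funext fun T => AddCommGrpCat.ext fun x => ?_))
    refine Eq.trans ?_ (map_zsmul (AddMonoidHom.mk'
      (fun ψ : CGrpSh.pts Scheme.fppfPrecoverage A ⟶ CGrpSh.pts Scheme.fppfPrecoverage A => ψ.hom.app T x)
      (fun _ _ => rfl)) n (𝟙 _)).symm
    refine ULift.ext _ _ ?_
    show Additive.ofMul (x.down.toMul ≫ (𝟙 A ^ n)) = n • x.down
    rw [GrpObj.comp_zpow, Category.comp_id]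
    rfl
  rw [← cancel_epi (CGrpSh.ptsMap Scheme.fppfPrecoverage (𝟙 A ^ n : A ⟶ A)), comp_zero, hm,
    Preadditive.zsmul_comp, Category.id_comp, h]

end Groth.Agent.S19971
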