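import Groth.Statements.S19974
import Mathlib.Data.Matrix.Basic
import Mathlib.LinearAlgebra.Matrix.Notation
import Mathlib.LinearAlgebra.Finsupp.LSum
-- import your own Groth.Agent.* helpers here

set_option autoImplicit false
universe u v w x
open scoped BigOperators
open DefMod

namespace Groth.Agent.S19974

/-- Let K be a field of characteristic 0, O a commutative K-algebra with a K-linear derivation δ, and D
the ring of differential operators O[∂], presented abstractly as a K-algebra D with an algebra map ι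
: O → D and an element ∂ of D such that ∂ ι(f) = ι(f) ∂ + ι(δ f) for every f in O and such that
every element of D is in a unique way a finite sum of terms ι(f_i) ∂^i. Let E be a left D-module,
given as a K-vector space with a K-algebra map ρ : D → End_K(E), which is finite free as an
O-module. A K-derivation of D with values in the D-bimodule End_K(E) is a K-linear map s with s(PQ)
= s(P) ρ(Q) + ρ(P) s(Q); a K-derivation of O with values in End_K(E) is a K-linear map r with r(fg)
= r(f) ρ(ι g) + ρ(ι f) r(g). Then: (a) for every K-derivation s of D into End_K(E), the pair (r, v)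
= (s ∘ ι, s(∂)) satisfies the identity [r(f), ρ(∂)] + [ρ(ι f), v] + r(δ f) = 0 for all f in O; (b)
conversely, for every K-derivation r of O into End_K(E) and every v in End_K(E) satisfying that
identity for all f, there is exactly one K-derivation s of D into End_K(E) with s ∘ ι = r and s(∂) =
v. In other words s ↦ (s ∘ ι, s(∂)) maps the K-derivations of D injectively onto the pairs
satisfying the identity. -/
theorem result
    (K : Type u) [Field K] [CharZero K]
    (O : Type v) [CommRing O] [Algebra K O] (δ : Derivation K O O)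
    (D : Type w) [Ring D] [Algebra K D] (ι : O →ₐ[K] D) (d : D)
    (hd : ∀ f : O, d * ι f = ι f * d + ι (δ f))
    (hbasis : Function.Bijective (fun c : ℕ →₀ O => c.sum (fun i f => ι f * d ^ i)))
    (E : Type x) [AddCommGroup E] [Module K E] (ρ : D →ₐ[K] Module.End K E)
    (hE : ∃ (n : ℕ) (b : Fin n → E), Function.Bijective (fun c : Fin n → O => ∑ i, ρ (ι (c i)) (b i))) :
    (∀ s : D →ₗ[K] Module.End K E, (∀ P Q : D, s (P * Q) = s P * ρ Q + ρ P * s Q) →
      ∀ f : O, (s (ι f) * ρ d - ρ d * s (ι f)) + (ρ (ι f) * s d - s d * ρ (ι f)) + s (ι (δ f)) = 0) ∧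
    ∀ (r : O →ₗ[K] Module.End K E) (v : Module.End K E),
      (∀ f g : O, r (f * g) = r f * ρ (ι g) + ρ (ι f) * r g) →
      (∀ f : O, (r f * ρ d - ρ d * r f) + (ρ (ι f) * v - v * ρ (ι f)) + r (δ f) = 0) →
      ∃! s : D →ₗ[K] Module.End K E,
        (∀ P Q : D, s (P * Q) = s P * ρ Q + ρ P * s Q) ∧ s ∘ₗ ι.toLinearMap = r ∧ s d = v := by
  classical
  refine ⟨fun s hs f => ?_, fun r v hr hv => ?_⟩
  · have h := congrArg s (hd f)
    rw [map_add, hs, hs] at h
    rw [← sub_eq_zero] at h
    have h' := congrArg Neg.neg h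
    rw [neg_zero] at h'
    refine Eq.trans ?_ h'
    abel
  let i' : O →ₗ[K] Matrix (Fin 2) (Fin 2) (Module.End K E) :=
    { toFun := fun f => !![ρ (ι f), r f; 0, ρ (ι f)]
      map_add' := fun f g => by ext i j : 1; fin_cases i <;> fin_cases j <;> simp
      map_smul' := fun c f => by ext i j : 1; fin_cases i <;> fin_cases j <;> simp }
  let d' : Matrix (Fin 2) (Fin 2) (Module.End K E) := !![ρ d, v; 0, ρ d]
  have hi_mul : ∀ f g, i' (f * g) = i' f * i' g := fun f g => by
    ext i j : 1
    fin_cases i <;> fin_cases j <;> simp [i', Matrix.mul_apply, Fin.sum_univ_two, hr, add_comm]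
  have hi_d : ∀ f, d' * i' f = i' f * d' + i' (δ f) := fun f => by
    have hρ : ρ d * ρ (ι f) = ρ (ι f) * ρ d + ρ (ι (δ f)) := by rw [← map_mul, hd, map_add, map_mul]
    have h' : r f * ρ d + ρ (ι f) * v + r (δ f) - (ρ d * r f + v * ρ (ι f)) = 0 := by
      rw [← hv f]; abel
    ext i j : 1
    fin_cases i <;> fin_cases j <;> simp [i', d', Matrix.mul_apply, Fin.sum_univ_two]
    · exact hρ
    · rw [eq_comm, ← sub_eq_zero, ← h']; abel
    · exact hρ
  let σ : (ℕ →₀ O) →ₗ[K] D :=
    Finsupp.lsum K fun i => LinearMap.mulRight K (d ^ i) ∘ₗ ι.toLinearMap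
  have hσ : Function.Bijective σ := by
    convert hbasis using 1
    ext c
    simp [σ, Finsupp.sum]
  let τ : (ℕ →₀ O) →ₗ[K] Matrix (Fin 2) (Fin 2) (Module.End K E) := Finsupp.lsum K fun i => LinearMap.mulRight K (d' ^ i) ∘ₗ i'
  let Φ : D →ₗ[K] Matrix (Fin 2) (Fin 2) (Module.End K E) := τ ∘ₗ (LinearEquiv.ofBijective σ hσ).symm.toLinearMap
  have hΦ : ∀ f n, Φ (ι f * d ^ n) = i' f * d' ^ n := by
    intro f n
    have : ι f * d ^ n = σ (Finsupp.single n f) := by simp [σ]
    rw [this]
    simp only [Φ, LinearMap.coe_comp, LinearEquiv.coe_coe, Function.comp_apply,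
      LinearEquiv.ofBijective_symm_apply_apply]
    simp [τ]
  have hind : ∀ (Q : D → Prop), (∀ x y, Q x → Q y → Q (x + y)) → Q 0 →
      (∀ f n, Q (ι f * d ^ n)) → ∀ x, Q x := by
    intro Q hadd h0 hsingle x
    obtain ⟨c, rfl⟩ := hσ.2 x
    induction c using Finsupp.induction_linear with
    | zero => rwa [map_zero]
    | add a b ha hb => rw [map_add]; exact hadd _ _ ha hb
    | single n f => simpa [σ] using hsingle f n
  have hι : ∀ f x, Φ (ι f * x) = i' f * Φ x := fun f =>
    hind _ (fun x y hx hy => by simp [mul_add, hx, hy]) (by simp) fun g n => by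
      rw [← mul_assoc, ← map_mul, hΦ, hΦ, hi_mul, mul_assoc]
  have hdx : ∀ x, Φ (d * x) = d' * Φ x :=
    hind _ (fun x y hx hy => by simp [mul_add, hx, hy]) (by simp) fun g n => by
      rw [← mul_assoc, hd, add_mul, mul_assoc (ι g), ← pow_succ', map_add, hΦ, hΦ, hΦ,
        ← mul_assoc d', hi_d, add_mul, mul_assoc (i' g), ← pow_succ']
  have hmul : ∀ x y, Φ (x * y) = Φ x * Φ y := fun x y => by
    revert x
    refine hind _ (fun a b ha hb => by simp [add_mul, ha, hb]) (by simp) fun f n => ?_
    rw [mul_assoc, hι, hΦ, mul_assoc]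
    congr 1
    induction n with
    | zero => simp
    | succ n ih => rw [pow_succ', mul_assoc, hdx, ih, pow_succ', mul_assoc]
  have hdiag : ∀ x, Φ x 0 0 = ρ x ∧ Φ x 1 1 = ρ x ∧ Φ x 1 0 = 0 := by
    refine hind _ (fun a b ha hb => by simp [ha, hb]) (by simp) fun f n => ?_
    rw [hΦ]
    induction n with
    | zero => simp [i']
    | succ n ih =>
      obtain ⟨a, b, c⟩ := ih
      rw [show ι f * d ^ (n + 1) = (ι f * d ^ n) * d by rw [pow_succ, mul_assoc],
        show i' f * d' ^ (n + 1) = (i' f * d' ^ n) * d' by rw [pow_succ, mul_assoc],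
        map_mul ρ (ι f * d ^ n) d]
      generalize i' f * d' ^ n = M at a b c ⊢
      generalize ρ (ι f * d ^ n) = R at a b c ⊢
      simp [d', Matrix.mul_apply, Fin.sum_univ_two, a, b, c]
  let s : D →ₗ[K] Module.End K E :=
    { toFun := fun x => Φ x 0 1
      map_add' := fun x y => by simp
      map_smul' := fun c x => by simp }
  refine ⟨s, ⟨fun P Q => ?_, ?_, ?_⟩, ?_⟩
  · change Φ (P * Q) 0 1 = Φ P 0 1 * ρ Q + ρ P * Φ Q 0 1
    rw [hmul, Matrix.mul_apply, Fin.sum_univ_two, (hdiag P).1, (hdiag Q).2.1, add_comm]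
  · ext1 f
    change Φ (ι f) 0 1 = r f
    have := hΦ f 0
    simp only [pow_zero, mul_one] at this
    simp [this, i']
  · change Φ d 0 1 = v
    have := hΦ 1 1
    simp only [map_one, one_mul, pow_one] at this
    have h1 : r 1 = 0 := by simpa using hr 1 1
    simp [this, i', d', Matrix.mul_apply, Fin.sum_univ_two, h1]
  · rintro s' ⟨hs', hsι, hsd⟩
    have hs1 : s' 1 = 0 := by simpa using hs' 1 1
    ext1 x
    revert x
    refine hind _ (fun a b ha hb => by simp [ha, hb]) (by simp) fun f n => ?_
    have e1 : ∀ g, s' (ι g) = r g := fun g => LinearMap.congr_fun hsι g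
    change _ = Φ (ι f * d ^ n) 0 1
    have hd01 : Φ d 0 1 = v ∧ Φ d 1 1 = ρ d := by
      refine ⟨?_, (hdiag d).2.1⟩
      have := hΦ 1 1
      simp only [map_one, one_mul, pow_one] at this
      have h1 : r 1 = 0 := by simpa using hr 1 1
      rw [this]
      simp [i', d', Matrix.mul_apply, Fin.sum_univ_two, h1]
    induction n with
    | zero =>
      have h0 := hΦ f 0
      rw [pow_zero, mul_one] at h0 ⊢
      rw [pow_zero, mul_one] at h0
      rw [h0, e1]
      rfl
    | succ n ih =>
      rw [pow_succ, ← mul_assoc, hs', hsd, ih, hmul (ι f * d ^ n) d, Matrix.mul_apply, Fin.sum_univ_two,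
        (hdiag (ι f * d ^ n)).1, hd01.1, hd01.2, add_comm]

end Groth.Agent.S19974
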