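import Groth.Statements.S19975
import Groth.Agent.EtFound.LocalizedCoh
-- import your own Groth.Agent.* helpers here

set_option autoImplicit false
universe u
open CategoryTheory Opposite AlgebraicGeometry
open EtCoh

namespace Groth.Agent.S19975

/-- In the case of the small etale topos of a quasi-compact quasi-separated scheme X (X is then a
coherent object of it), let R = S⁻¹ℤ be a localization of the ring of integers at a multiplicative
subset S, and let φ : F ⟶ G be a morphism of abelian etale sheaves on X which exhibits G as F ⊗ R:
over every affine scheme U etale over X, the map on sections F(U) → G(U) is a localization of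
ℤ-modules at S. Then for every i the induced map on etale cohomology Hⁱ(X, F) → Hⁱ(X, G) is a
localization at S, i.e. the natural map Hⁱ(X, F) ⊗ R → Hⁱ(X, F ⊗ R) is invertible. (The source
states this for a coherent object of an arbitrary topos; the tensor product F ⊗ R is rendered
through its characterisation on affine etale schemes over X.) -/
theorem result (X : Scheme.{u})
    [CompactSpace X] [QuasiSeparatedSpace X] (S : Submonoid ℤ)
    (F G : EtCoh.Ab X) (φ : F ⟶ G)
    (hφ : ∀ U : X.Etale, IsAffine U.left →
      IsLocalizedModule S (φ.hom.app (op U)).hom.toIntLinearMap)
    (i : ℕ) : IsLocalizedModule S ((EtCoh.HF X i).map φ).hom.toIntLinearMap := by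
  exact EtFound.isLocalizedModule_H S φ hφ i

end Groth.Agent.S19975
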