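import Groth.Statements.S19976
import Groth.Agent.NFApprox.Codim2

set_option autoImplicit false
universe u
open NumberField

namespace Groth.Agent.S19976

open Groth.Agent

/-- Strong approximation off a place v₀ for the complement of a closed subset of codimension at least 2
in affine n-space over a number field, here in the following explicit form for a finite place v₀ and
the standard integral model. Let k be a number field with ring of integers O_k, n ≥ 1, and f_1, …,
f_m polynomials in n variables with coefficients in O_k whose common zero locus F in 𝔸ⁿ_k has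
codimension at least 2, i.e. the k-algebra k[x_1, …, x_n]/(f_1, …, f_m) has Krull dimension at most
n − 2 (dimension −∞ when F is empty). Put U = 𝔸ⁿ_k ∖ F and 𝒰 = 𝔸ⁿ_{O_k} ∖ V(f_1, …, f_m), so that
for a finite place v the O_v-points of 𝒰 are the P ∈ O_vⁿ with some f_j(P) a unit. Let S_f be a
finite set of finite places containing v₀ (the set S of the source is S_f together with all infinite
places). Suppose given, for every v ∈ S_f other than v₀, a point P_v ∈ U(k_v) with an open
neighbourhood N_v ⊆ k_vⁿ; for every infinite place w, a point P_w ∈ U(k_w) with an open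
neighbourhood N_w ⊆ k_wⁿ; for every v in a finite set T of finite places disjoint from S_f, a point
Q_v ∈ 𝒰(O_v) with an open neighbourhood W_v ⊆ k_vⁿ; and suppose 𝒰(O_v) is nonempty for every finite
place v ∉ S_f. Then there is a point P ∈ kⁿ whose coordinates are v-integral and some f_j(P) is a
v-unit at every finite place v ∉ S_f (so P ∈ 𝒰(O_S)), and whose image lies in N_v for v ∈ S_f ∖
{v₀}, in N_w for every infinite w, and in W_v for v ∈ T. (The source states strong approximation off
an arbitrary place v₀ and for every model over O_S; this row is the case of a finite v₀ and of the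
standard model, approximation at a basic open set of the restricted product.) -/
theorem result
    (k : Type u) [Field k] [NumberField k] (n : ℕ) (hn : 1 ≤ n) (m : ℕ)
    (f : Fin m → MvPolynomial (Fin n) (NumberField.RingOfIntegers k))
    (hcodim : ringKrullDim (MvPolynomial (Fin n) k ⧸ Ideal.span (Set.range fun j =>
        MvPolynomial.map (algebraMap (NumberField.RingOfIntegers k) k) (f j))) + 2 ≤ (n : WithBot ℕ∞))
    (v₀ : IsDedekindDomain.HeightOneSpectrum (NumberField.RingOfIntegers k)) (Sf : Finset (IsDedekindDomain.HeightOneSpectrum (NumberField.RingOfIntegers k))) (hv₀ : v₀ ∈ Sf)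
    (Pf : (v : IsDedekindDomain.HeightOneSpectrum (NumberField.RingOfIntegers k)) → (Fin n → v.adicCompletion k))
    (hPf : ∀ v ∈ Sf, v ≠ v₀ → ∃ j, MvPolynomial.aeval (Pf v)
      (MvPolynomial.map (algebraMap (NumberField.RingOfIntegers k) k) (f j)) ≠ 0)
    (Nf : (v : IsDedekindDomain.HeightOneSpectrum (NumberField.RingOfIntegers k)) → Set (Fin n → v.adicCompletion k))
    (hNf : ∀ v ∈ Sf, v ≠ v₀ → IsOpen (Nf v) ∧ Pf v ∈ Nf v)
    (Pi : (w : NumberField.InfinitePlace k) → (Fin n → w.Completion))
    (hPi : ∀ w, ∃ j, MvPolynomial.aeval (Pi w)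
      (MvPolynomial.map (algebraMap (NumberField.RingOfIntegers k) k) (f j)) ≠ 0)
    (Ni : (w : NumberField.InfinitePlace k) → Set (Fin n → w.Completion))
    (hNi : ∀ w, IsOpen (Ni w) ∧ Pi w ∈ Ni w)
    (T : Finset (IsDedekindDomain.HeightOneSpectrum (NumberField.RingOfIntegers k))) (hT : Disjoint T Sf)
    (Q : (v : IsDedekindDomain.HeightOneSpectrum (NumberField.RingOfIntegers k)) → (Fin n → v.adicCompletion k))
    (hQ : ∀ v ∈ T, (∀ i, Q v i ∈ v.adicCompletionIntegers k) ∧ ∃ j, Valued.v (MvPolynomial.aeval (Q v)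
      (MvPolynomial.map (algebraMap (NumberField.RingOfIntegers k) k) (f j))) = 1)
    (W : (v : IsDedekindDomain.HeightOneSpectrum (NumberField.RingOfIntegers k)) → Set (Fin n → v.adicCompletion k))
    (hW : ∀ v ∈ T, IsOpen (W v) ∧ Q v ∈ W v)
    (hne : ∀ v : IsDedekindDomain.HeightOneSpectrum (NumberField.RingOfIntegers k), v ∉ Sf → ∃ R : Fin n → v.adicCompletion k,
      (∀ i, R i ∈ v.adicCompletionIntegers k) ∧ ∃ j, Valued.v (MvPolynomial.aeval R
        (MvPolynomial.map (algebraMap (NumberField.RingOfIntegers k) k) (f j))) = 1) :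
    ∃ P : Fin n → k,
      (∀ v : IsDedekindDomain.HeightOneSpectrum (NumberField.RingOfIntegers k), v ∉ Sf → (∀ i, v.valuation k (P i) ≤ 1) ∧
        ∃ j, v.valuation k (MvPolynomial.aeval P
          (MvPolynomial.map (algebraMap (NumberField.RingOfIntegers k) k) (f j))) = 1) ∧
      (∀ v ∈ Sf, v ≠ v₀ → (fun i => algebraMap k (v.adicCompletion k) (P i)) ∈ Nf v) ∧
      (∀ w : NumberField.InfinitePlace k, (fun i => algebraMap k w.Completion (P i)) ∈ Ni w) ∧
      (∀ v ∈ T, (fun i => algebraMap k (v.adicCompletion k) (P i)) ∈ W v) := by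

  classical
  let f' : Fin m → MvPolynomial (Fin n) k := fun j =>
    MvPolynomial.map (algebraMap (NumberField.RingOfIntegers k) k) (f j)
  have hint : ∀ j d (v : IsDedekindDomain.HeightOneSpectrum (NumberField.RingOfIntegers k)),
      v.valuation k (MvPolynomial.coeff d (f' j)) ≤ 1 := fun j d v => by
    simp only [f', MvPolynomial.coeff_map]; exact v.valuation_le_one _
  let T' : Finset (IsDedekindDomain.HeightOneSpectrum (NumberField.RingOfIntegers k)) := Sf.erase v₀ ∪ T
  have hTSf : ∀ v ∈ T, v ∉ Sf := fun v hv h => Finset.disjoint_left.1 hT hv h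
  have hv₀T : v₀ ∉ T' := Finset.notMem_union.2 ⟨Finset.notMem_erase _ _, fun h => hTSf _ h hv₀⟩
  have hout : ∀ v, v ∉ T' → v ≠ v₀ → v ∉ Sf := fun v hv hv' h =>
    hv (Finset.mem_union_left _ (Finset.mem_erase.2 ⟨hv', h⟩))
  -- boxes at the finite places
  have hboxf : ∀ v : IsDedekindDomain.HeightOneSpectrum (NumberField.RingOfIntegers k),
      ∃ (c : Fin n → v.adicCompletion k) (U : Fin n → Set (v.adicCompletion k)),
        (∀ i, U i ∈ nhds (c i)) ∧ ∀ x, (∀ i, x i ∈ U i) → (v ∈ Sf → v ≠ v₀ → x ∈ Nf v) ∧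
          (v ∈ T → x ∈ W v ∧ (∀ i, x i ∈ v.adicCompletionIntegers k) ∧
            ∃ j, Valued.v (MvPolynomial.aeval x (f' j)) = 1) := by
    intro v
    obtain ⟨c, O, hO, hcO, hOU⟩ : ∃ (c : Fin n → v.adicCompletion k) (O : Set (Fin n → v.adicCompletion k)),
        IsOpen O ∧ c ∈ O ∧ ∀ x ∈ O, (v ∈ Sf → v ≠ v₀ → x ∈ Nf v) ∧
          (v ∈ T → x ∈ W v ∧ (∀ i, x i ∈ v.adicCompletionIntegers k) ∧
            ∃ j, Valued.v (MvPolynomial.aeval x (f' j)) = 1) := by
      by_cases hvS : v ∈ Sf ∧ v ≠ v₀
      · exact ⟨Pf v, Nf v, (hNf v hvS.1 hvS.2).1, (hNf v hvS.1 hvS.2).2,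
          fun x hx => ⟨fun _ _ => hx, fun h => absurd hvS.1 (hTSf v h)⟩⟩
      by_cases hvT : v ∈ T
      · obtain ⟨hQi, j, hj⟩ := hQ v hvT
        refine ⟨Q v, W v ∩ ((⋂ i, {x | x i ∈ v.adicCompletionIntegers k}) ∩
          {x | Valued.v (MvPolynomial.aeval x (f' j) - MvPolynomial.aeval (Q v) (f' j)) < WithZero.exp 0}),
          (hW v hvT).1.inter ((isOpen_iInter_of_finite fun i =>
            (Valued.isOpen_valuationSubring (v.adicCompletion k)).preimage (continuous_apply i)).inter ?_),
          ⟨(hW v hvT).2, Set.mem_iInter.2 hQi, by simp⟩, fun x hx => ⟨fun h h' => absurd ⟨h, h'⟩ hvS,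
            fun _ => ⟨hx.1, fun i => (Set.mem_iInter.1 hx.2.1 i :), j, ?_⟩⟩⟩
        · have hc : Continuous fun x : Fin n → v.adicCompletion k =>
              MvPolynomial.aeval x (f' j) - MvPolynomial.aeval (Q v) (f' j) := by
            refine Continuous.sub ?_ continuous_const
            simp only [MvPolynomial.aeval_def, MvPolynomial.eval₂_eq']
            fun_prop
          exact (NFApprox.isOpen_lt_exp v 0).preimage hc
        · rw [← hj]
          exact Valuation.map_eq_of_sub_lt _ (by rw [hj, ← WithZero.exp_zero]; exact hx.2.2)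
      · exact ⟨fun _ => 0, Set.univ, isOpen_univ, trivial,
          fun x _ => ⟨fun h h' => absurd ⟨h, h'⟩ hvS, fun h => absurd h hvT⟩⟩
    obtain ⟨I, U, hU, hsub⟩ := isOpen_pi_iff.1 hO c hcO
    refine ⟨c, fun i => if i ∈ I then U i else Set.univ, fun i => ?_, fun x hx => hOU x (hsub fun i hi => ?_)⟩
    · show (if i ∈ I then U i else Set.univ) ∈ nhds (c i)
      split_ifs with h
      · exact (hU i h).1.mem_nhds (hU i h).2
      · exact Filter.univ_mem
    · have := hx i
      simp only [Finset.mem_coe.1 hi, if_true] at this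
      exact this
  have hboxi : ∀ w : NumberField.InfinitePlace k, ∃ U : Fin n → Set w.Completion,
      (∀ i, U i ∈ nhds (Pi w i)) ∧ ∀ x, (∀ i, x i ∈ U i) → x ∈ Ni w := by
    intro w
    obtain ⟨I, U, hU, hsub⟩ := isOpen_pi_iff.1 (hNi w).1 (Pi w) (hNi w).2
    refine ⟨fun i => if i ∈ I then U i else Set.univ, fun i => ?_, fun x hx => hsub fun i hi => ?_⟩
    · show (if i ∈ I then U i else Set.univ) ∈ nhds (Pi w i)
      split_ifs with h
      · exact (hU i h).1.mem_nhds (hU i h).2
      · exact Filter.univ_mem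
    · have := hx i
      simp only [Finset.mem_coe.1 hi, if_true] at this
      exact this
  choose cf Bf hBf hNfB using hboxf
  choose Bi hBi hNiB using hboxi
  obtain ⟨P, hPf', hPi', hPout⟩ := NFApprox.exists_point f' hint hcodim v₀ T' hv₀T
    (fun v hv hv' => by
      obtain ⟨R, hR, j, hj⟩ := hne v (hout v hv hv')
      exact ⟨R, hR, j, hj⟩)
    cf Bf (fun v _ i => hBf v i) Pi Bi hBi
  refine ⟨P, fun v hv => ?_, fun v hv hv' => ?_, fun w => hNiB w _ fun i => hPi' w i, fun v hv => ?_⟩
  · have hv' : v ≠ v₀ := fun h => hv (h ▸ hv₀)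
    by_cases hvT : v ∈ T
    · obtain ⟨-, h2, j, hj⟩ := (hNfB v _ fun i => hPf' v (Finset.mem_union_right _ hvT) i).2 hvT
      refine ⟨fun i => ?_, j, ?_⟩
      · have h := (IsDedekindDomain.HeightOneSpectrum.mem_adicCompletionIntegers _ _ v).1 (h2 i)
        rwa [NFApprox.valued_algebraMap] at h
      · change Valued.v (MvPolynomial.aeval (algebraMap k (v.adicCompletion k) ∘ P) (f' j)) = 1 at hj
        rwa [MvPolynomial.aeval_algebraMap_apply, NFApprox.valued_algebraMap] at hj
    · exact hPout v (by simp [T', hv, hvT]) hv'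
  · exact (hNfB v _ fun i => hPf' v (Finset.mem_union_left _ (Finset.mem_erase.2 ⟨hv', hv⟩)) i).1 hv hv'
  · exact ((hNfB v _ fun i => hPf' v (Finset.mem_union_right _ hv) i).2 hv).1

end Groth.Agent.S19976
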