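import Groth.Statements.S19978
import Groth.Agent.Lib.ConstGrpObj
import Groth.Agent.Lib.AVGenImage
import Groth.Agent.GrpSchLib.HomClosedRange
import Groth.Agent.GrpSchLib.MultTypeBC
import Groth.Agent.Lib.AVPhiSurj
import Groth.Agent.S7795

set_option autoImplicit false
set_option backward.isDefEq.respectTransparency false
set_option backward.isDefEq.respectTransparency.types false
set_option linter.style.haveILetI false
set_option linter.unusedSectionVars false
set_option maxHeartbeats 400000
universe u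
open CategoryTheory MonoidalCategory CartesianMonoidalCategory MonObj GrpObj AlgebraicGeometry CategoryTheory.Limits
open AbVar

namespace Groth.Agent.S19978

open MonoidalCategory CartesianMonoidalCategory GrpObj

set_option maxHeartbeats 1000000

/-- The split torus of rank zero is a torus. -/
theorem isTorus_DS_zero (S : Scheme.{u}) : Red.IsTorus (Red.DS S (Fin 0 → ℤ)) :=
  ⟨S, 𝟙 S, inferInstance, inferInstance, fun V hV => ⟨V, hV.isCompact, by simp⟩,
    fun s => ⟨⊤, trivial, 0, Groth.Agent.GrpSchLib.MultTypeBC.bc_DS _ _⟩⟩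

/-- The split torus of rank zero is the base. -/
theorem isIso_DS_zero (S : Scheme.{u}) : IsIso (Red.DS S (Fin 0 → ℤ)).hom := by
  haveI : IsIso (Red.diag (ULift.{u} ℤ) (Fin 0 → ℤ)).hom := by
    change IsIso (Spec.map (CommRingCat.ofHom (algebraMap (ULift.{u} ℤ) (MonoidAlgebra (ULift.{u} ℤ) (Multiplicative (Fin 0 → ℤ))))))
    have : Function.Bijective (algebraMap (ULift.{u} ℤ) (MonoidAlgebra (ULift.{u} ℤ) (Multiplicative (Fin 0 → ℤ)))) := by
      refine ⟨fun a b h => ?_, fun x => ?_⟩
      · have h' := congrArg (MonoidAlgebra.lift (ULift.{u} ℤ) (ULift.{u} ℤ) (Multiplicative (Fin 0 → ℤ)) 1) h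
        rwa [AlgHom.commutes, AlgHom.commutes] at h'
      · induction x using MonoidAlgebra.induction_linear with
        | zero => exact ⟨0, map_zero _⟩
        | add a b ha hb =>
          obtain ⟨a', rfl⟩ := ha
          obtain ⟨b', rfl⟩ := hb
          exact ⟨a' + b', map_add _ _ _⟩
        | single m c => exact ⟨c, by rw [Subsingleton.elim m 1]; rfl⟩
    haveI : IsIso (CommRingCat.ofHom (algebraMap (ULift.{u} ℤ) (MonoidAlgebra (ULift.{u} ℤ) (Multiplicative (Fin 0 → ℤ))))) :=
      (ConcreteCategory.isIso_iff_bijective _).2 this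
    infer_instance
  exact inferInstanceAs (IsIso (Limits.pullback.snd _ _))

/-- Over an algebraically closed field k, let X be an integral separated k-scheme of finite type which
is proper over k. Call large group a commutative separated k-group scheme G locally of finite type
given with a connected open subgroup scheme G⁰ (its neutral component) which is semiabelian: G⁰ has
a closed subgroup scheme T that is a torus and is the kernel of a flat surjective homomorphism from
G⁰ onto an abelian variety (a proper smooth connected k-group scheme). Let A be a large group, with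
neutral component A⁰, and u : X → A a k-morphism which is universal for morphisms to large groups
(every k-morphism from X to a large group G is u followed by a unique homomorphism A → G), i.e. (A,
u) is the Albanese scheme of X. Then A⁰ is proper over k: the neutral component of the Albanese
scheme of a proper scheme is an abelian variety. (The published statement is for any proper reduced
scheme of finite type over a perfect field; this row states the case of an integral scheme over an
algebraically closed field.) -/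
theorem result (k : Type u) [Field k] [IsAlgClosed k]
    (X : Over (Spec (CommRingCat.of k))) [IsIntegral X.left] [IsProper X.hom]
    (A : Over (Spec (CommRingCat.of k))) [GrpObj A] [IsCommMonObj A] [IsSeparated A.hom] [LocallyOfFiniteType A.hom]
    (A0 : Over (Spec (CommRingCat.of k))) [GrpObj A0] (e₀ : A0 ⟶ A) [IsMonHom e₀] [IsOpenImmersion e₀.left]
    [ConnectedSpace ↥A0.left]
    (T₀ : Over (Spec (CommRingCat.of k))) [GrpObj T₀] (i₀ : T₀ ⟶ A0) [IsMonHom i₀] [IsClosedImmersion i₀.left]
    (hT₀ : Red.IsTorus T₀)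
    (B₀ : Over (Spec (CommRingCat.of k))) [GrpObj B₀] [IsProper B₀.hom] [Smooth B₀.hom] [ConnectedSpace ↥B₀.left]
    (q₀ : A0 ⟶ B₀) [IsMonHom q₀] [Surjective q₀.left] [Flat q₀.left] (hker₀ : AlgGrp.IsKernel i₀ q₀)
    (u : X ⟶ A)
    (huniv : ∀ (G : Over (Spec (CommRingCat.of k))) [GrpObj G] [IsCommMonObj G] [IsSeparated G.hom] [LocallyOfFiniteType G.hom]
      (G0 : Over (Spec (CommRingCat.of k))) [GrpObj G0] (e : G0 ⟶ G) [IsMonHom e] [IsOpenImmersion e.left]
      [ConnectedSpace ↥G0.left]
      (T : Over (Spec (CommRingCat.of k))) [GrpObj T] (i : T ⟶ G0) [IsMonHom i] [IsClosedImmersion i.left]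
      (_ : Red.IsTorus T)
      (B : Over (Spec (CommRingCat.of k))) [GrpObj B] [IsProper B.hom] [Smooth B.hom] [ConnectedSpace ↥B.left]
      (q : G0 ⟶ B) [IsMonHom q] [Surjective q.left] [Flat q.left] (_ : AlgGrp.IsKernel i q)
      (φ : X ⟶ G), ∃! h : A ⟶ G, IsMonHom h ∧ u ≫ h = φ) :
    IsProper A0.hom := by
  haveI : Nonempty X.left := inferInstance
  haveI : JacobsonSpace X.left := LocallyOfFiniteType.jacobsonSpace X.hom
  obtain ⟨y, hy⟩ := Groth.Agent.AVGenImage.exists_closed_point X.left
  let x₀ : 𝟙_ (Over (Spec (CommRingCat.of k))) ⟶ X :=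
    Over.homMk (pointOfClosedPoint X.hom y hy) (pointOfClosedPoint_comp _ _ _)
  let c : 𝟙_ (Over (Spec (CommRingCat.of k))) ⟶ A := x₀ ≫ u
  let u' : X ⟶ A := u * (toUnit X ≫ c)⁻¹
  have h1 : η[A] = (1 : 𝟙_ (Over (Spec (CommRingCat.of k))) ⟶ A) := by
    rw [Hom.one_def, toUnit_unique (toUnit (𝟙_ (Over (Spec (CommRingCat.of k))))) (𝟙 _), Category.id_comp]
  have hu' : x₀ ≫ u' = η[A] := by
    rw [MonObj.comp_mul, GrpObj.comp_inv, ← Category.assoc, comp_toUnit,
      toUnit_unique (toUnit (𝟙_ (Over (Spec (CommRingCat.of k))))) (𝟙 _), Category.id_comp, h1]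
    exact mul_inv_cancel _
  haveI : LocallyOfFiniteType A0.hom := by rw [← Over.w e₀]; infer_instance
  have hclopen : IsClopen (Set.range e₀.left) :=
    ⟨Groth.Agent.GrpSchLib.isClosed_range_of_isLocallyClosed e₀ e₀.left.isOpenEmbedding.isOpen_range.isLocallyClosed,
      e₀.left.isOpenEmbedding.isOpen_range⟩
  have hsub : Set.range u'.left ⊆ Set.range e₀.left := by
    have hpre := hclopen.preimage u'.left.continuous
    have hne : (u'.left ⁻¹' Set.range e₀.left).Nonempty := by
      refine ⟨x₀.left (IsLocalRing.closedPoint k), η[A0].left (IsLocalRing.closedPoint k), ?_⟩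
      exact (congrArg (fun m : 𝟙_ (Over (Spec (CommRingCat.of k))) ⟶ A => m.left (IsLocalRing.closedPoint k))
        ((IsMonHom.one_hom e₀).trans hu'.symm))
    rintro _ ⟨x, rfl⟩
    exact (hpre.eq_univ hne).symm.subset (Set.mem_univ x)
  let v : X ⟶ A0 := Over.homMk (IsOpenImmersion.lift e₀.left u'.left hsub) (by
    rw [← Over.w e₀, ← Category.assoc, IsOpenImmersion.lift_fac, Over.w])
  have hv : v ≫ e₀ = u' := Over.OverMorphism.ext (IsOpenImmersion.lift_fac _ _ _)
  haveI : Mono e₀ := Over.mono_of_mono_left e₀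
  obtain ⟨N, _, jN, v', hjN, hjNc, hNp, hNg, hv'⟩ := Groth.Agent.AVGenImage.exists_av x₀ v (by
    rw [← cancel_mono e₀, Category.assoc, hv, hu', IsMonHom.one_hom])
  haveI := hjN
  haveI := hjNc
  haveI := hNp
  haveI := hNg
  haveI : IsCommMonObj N := isCommMonObj_of_isProper_of_geometricallyIntegral _
  haveI : IsIntegral N.left := GeometricallyIntegral.isIntegral_of_subsingleton N.hom
  haveI : Smooth N.hom := Groth.Agent.S7795.result N
  let M := Multiplicative (ULift.{u} ℤ)
  let Z : Over (Spec (CommRingCat.of k)) := Groth.Agent.ConstGrpObj.cst (Spec (CommRingCat.of k)) M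
  let Φ : M →* (𝟙_ (Over (Spec (CommRingCat.of k))) ⟶ A) :=
    { toFun := fun m => c ^ (Multiplicative.toAdd m).down
      map_one' := zpow_zero c
      map_mul' := fun m n => zpow_add c _ _ }
  let E : Z ⟶ A := Groth.Agent.ConstGrpObj.ext Φ
  haveI hE : IsMonHom E := Groth.Agent.ConstGrpObj.isMonHom_ext Φ
  let G : Over (Spec (CommRingCat.of k)) := N ⊗ Z
  haveI : IsSeparated G.hom := Groth.Agent.GrpSchLib.AntiAffine.isSeparated_grp G
  haveI : LocallyOfFiniteType G.hom :=
    inferInstanceAs (LocallyOfFiniteType (pullback.fst N.hom Z.hom ≫ N.hom))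
  let ι₀ : N ⟶ G := lift (𝟙 N) (toUnit N ≫ η[Z])
  haveI : IsMonHom ι₀ := inferInstance
  haveI : IsOpenImmersion ι₀.left := by
    haveI : IsOpenImmersion η[Z].left := by
      rw [← Groth.Agent.ConstGrpObj.pt_one]; infer_instance
    have hsq : IsPullback ι₀ (toUnit N) (snd N Z) η[Z] := by
      refine IsPullback.of_isLimit' ⟨lift_snd _ _⟩ (PullbackCone.IsLimit.mk _ (fun s => s.fst ≫ fst N Z) (fun s => ?_)
        (fun s => toUnit_unique _ _) fun s m hm₁ _ => ?_)
      · refine CartesianMonoidalCategory.hom_ext _ _ ?_ ?_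
        · rw [Category.assoc, Category.assoc, lift_fst, Category.comp_id]
        · rw [Category.assoc, Category.assoc, lift_snd, s.condition, ← Category.assoc (fst N Z),
            ← Category.assoc, toUnit_unique (s.fst ≫ fst N Z ≫ toUnit N) s.snd]
      · rw [← hm₁, Category.assoc, lift_fst, Category.comp_id]
    exact MorphismProperty.of_isPullback (hsq.map (Over.forget _)).flip ‹IsOpenImmersion η[Z].left›
  let T : Over (Spec (CommRingCat.of k)) := Red.DS (Spec (CommRingCat.of k)) (Fin 0 → ℤ)
  haveI : IsIso T.hom := isIso_DS_zero _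
  haveI : IsIso (toUnit T) := by
    haveI : IsIso (toUnit T).left := by
      rw [show (toUnit T).left = T.hom from (Category.comp_id _).symm.trans (Over.w (toUnit T))]
      infer_instance
    haveI : IsIso ((Over.forget _).map (toUnit T)) := ‹IsIso (toUnit T).left›
    exact isIso_of_reflects_iso (toUnit T) (Over.forget _)
  let iT : T ⟶ N := toUnit T ≫ η[N]
  haveI : IsMonHom iT := inferInstance
  haveI : IsClosedImmersion iT.left := by
    haveI : IsClosedImmersion η[N].left := inferInstance
    haveI : IsIso (toUnit T).left := inferInstanceAs (IsIso ((Over.forget _).map (toUnit T)))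
    exact inferInstanceAs (IsClosedImmersion ((toUnit T).left ≫ η[N].left))
  have hkerN : AlgGrp.IsKernel iT (𝟙 N) := IsPullback.of_vert_isIso ⟨by rw [Category.comp_id]⟩
  let φ : X ⟶ G := lift v' (toUnit X ≫ Groth.Agent.ConstGrpObj.pt _ M (Multiplicative.ofAdd ⟨1⟩))
  obtain ⟨h, ⟨hhom, huh⟩, -⟩ := huniv G N ι₀ T iT (isTorus_DS_zero _) N (𝟙 N) hkerN φ
  let J : G ⟶ A := (fst N Z ≫ jN ≫ e₀) * (snd N Z ≫ E)
  haveI := hhom
  haveI : IsMonHom J := by
    show IsMonHom (lift (fst N Z ≫ jN ≫ e₀) (snd N Z ≫ E) ≫ μ[A])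
    infer_instance
  have huJ : u ≫ h ≫ J = u := by
    rw [← Category.assoc, huh, MonObj.comp_mul, lift_fst_assoc, lift_snd_assoc, ← Category.assoc v', hv', hv,
      Category.assoc, Groth.Agent.ConstGrpObj.pt_ext]
    show u * (toUnit X ≫ c)⁻¹ * (toUnit X ≫ c ^ (1 : ℤ)) = u
    rw [zpow_one, inv_mul_cancel_right]
  have hid : h ≫ J = 𝟙 A := (huniv A A0 e₀ T₀ i₀ hT₀ B₀ q₀ hker₀ u).unique ⟨inferInstance, huJ⟩
    ⟨inferInstance, Category.comp_id u⟩
  have hz : e₀ ≫ h ≫ snd N Z = 1 := by
    refine Groth.Agent.ConstGrpObj.hom_ext fun t => ?_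
    rw [Groth.Agent.ConstGrpObj.idx_one]
    have hlc : IsLocallyConstant (Groth.Agent.ConstGrpObj.idx (e₀ ≫ h ≫ snd N Z)) := by
      rw [← funext (Groth.Agent.ConstGrpObj.lcEquiv_apply (e₀ ≫ h ≫ snd N Z))]
      exact LocallyConstant.isLocallyConstant _
    rw [hlc.apply_eq_of_preconnectedSpace t (η[A0].left (IsLocalRing.closedPoint k)),
      ← Groth.Agent.ConstGrpObj.idx_comp, IsMonHom.one_hom, ← Groth.Agent.ConstGrpObj.pt_one,
      Groth.Agent.ConstGrpObj.idx_unit_pt]
  have hsplit : (e₀ ≫ h ≫ fst N Z) ≫ jN = 𝟙 A0 := by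
    rw [← cancel_mono e₀, Category.id_comp, Category.assoc]
    conv_rhs => rw [← Category.comp_id e₀, ← hid]
    rw [MonObj.comp_mul, MonObj.comp_mul, ← Category.assoc h (snd N Z), ← Category.assoc e₀ (h ≫ snd N Z), hz,
      MonObj.one_comp, _root_.mul_one]
    simp only [Category.assoc]
  haveI : Mono jN := Over.mono_of_mono_left jN
  haveI : IsIso jN := ⟨e₀ ≫ h ≫ fst N Z, by rw [← cancel_mono jN, Category.assoc, hsplit, Category.comp_id, Category.id_comp], hsplit⟩
  haveI : IsIso jN.left := inferInstanceAs (IsIso ((Over.forget _).map jN))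
  rw [show A0.hom = inv jN.left ≫ N.hom by rw [IsIso.eq_inv_comp, Over.w]]
  infer_instance

end Groth.Agent.S19978
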