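import Groth.Agent.ConstQuot.AffineQuot
import Groth.Agent.ConstQuot.BaseChange
import Groth.Agent.S16960

/-!
# The quotient by a finite group stays a coarse moduli space after flat affine base change
-/

set_option backward.isDefEq.respectTransparency false
set_option backward.isDefEq.respectTransparency.types false

universe u

namespace Groth.Agent.S19980

open CategoryTheory AlgebraicGeometry in
theorem result (R : Type u) [CommRing R] [IsNoetherianRing R]
    (A : Type u) [CommRing A] [Algebra R A] [Algebra.FiniteType R A]
    (G : Type u) [Group G] [Fintype G] [DecidableEq G] [MulSemiringAction G A] [SMulCommClass G R A]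
    (π : ConstAct.quotSt R A G Scheme.fppfPrecoverage ⥤ᵇ AlgSt.ofSch (ConstAct.specInv R A G))
    (hπ : BasedFunctor.comp
        (AlgSt.quotMap Scheme.fppfPrecoverage (ConstAct.GR R G) (ConstAct.gaction R A G)) π =
      AlgSt.ofSpMap ((AlgSp.yon (Spec (CommRingCat.of R))).map (ConstAct.quot R A G)))
    (Y' : Over (Spec (CommRingCat.of R))) [IsAffine Y'.left]
    (g : Y' ⟶ ConstAct.specInv R A G) [Flat g.left] :
    AlgSt.IsCoarseModuli
      (FibCat.fpFst (AlgSt.ofSpMap ((AlgSp.yon (Spec (CommRingCat.of R))).map g)) π) := by
  open Groth.Agent.ConstQuot in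
  haveI := flat_GR R G
  haveI := lfp_GR R G
  haveI : IsAffine (ConstAct.X R A).left := inferInstanceAs (IsAffine (Spec _))
  haveI : IsAffine (ConstAct.specInv R A G).left := inferInstanceAs (IsAffine (Spec _))
  haveI := isFinite_q R A G
  haveI := surjective_q R A G
  exact isCoarseModuli_fpFst (q R A G) (ConstAct.act R A G) (ConstAct.act_quot R A G)
    (fun σ τ => (ConstAct.act_mul R A G σ τ).symm) (ConstAct.act_one R A G) (appTop_q_injective R A G)
    (exists_appTop_q R A G) (fun Ω _ _ x x' h => geom_transitive R A G Ω x x' h)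
    (fun σ {T} x => ⟨_, constSec_inv_act R A G x σ⟩) π
    ((AlgStLib.spHom_congr (eqToIso hπ)).trans (AlgStLib.spHom_ofSpMap _))
    (Groth.Agent.S16960.result R A G π hπ).1.2 g

end Groth.Agent.S19980
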