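import Groth.Statements.S8309
import Groth.Agent.ProjQX.Cone
import Groth.Agent.ConeX.Pointed
import Groth.Agent.S8308
-- import your own Groth.Agent.* helpers here

set_option autoImplicit false
universe u
open CategoryTheory CategoryTheory.Limits AlgebraicGeometry Opposite TopologicalSpace
open scoped HomogeneousIdeal
noncomputable section
open EGA2

namespace Groth.Agent.S8309

open Groth.Agent.ProjQX
set_option backward.isDefEq.respectTransparency false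
set_option backward.isDefEq.respectTransparency.types false

lemma eq_of_basicOpen {A σ : Type u} [CommRing A] [SetLike σ A] [AddSubgroupClass σ A] {𝒜 : ℕ → σ}
    [GradedRing 𝒜] {a b : Proj 𝒜}
    (h : ∀ (d : ℕ) (f : A), 0 < d → f ∈ 𝒜 d → (a ∈ Proj.basicOpen 𝒜 f ↔ b ∈ Proj.basicOpen 𝒜 f)) : a = b := by
  refine (inseparable_iff_forall_isOpen.mpr fun O hO => ⟨fun ha => ?_, fun hb => ?_⟩).eq
  · obtain ⟨d, f, hd, hf, hfa, hsub⟩ := Proj16.exists_basicOpen_subset hO ha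
    exact hsub ((h d f hd hf).mp hfa)
  · obtain ⟨d, f, hd, hf, hfb, hsub⟩ := Proj16.exists_basicOpen_subset hO hb
    exact hsub ((h d f hd hf).mpr hfb)


/-- The canonical retraction of the pointed affine cone: let 𝒮 be a quasi-coherent positively graded
O_Y-algebra with 𝒮_0 = O_Y, Ŝ = 𝒮[z] (graded homomorphism ι : 𝒮 → Ŝ and a degree-one global section
z, polynomial over affine opens), C = Spec(𝒮), X = Proj(𝒮) and Ĉ = Proj(Ŝ) with their charts, E ⊆ C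
and Ê ⊆ Ĉ the pointed cones, i : C → Ĉ the canonical open immersion and p : Ê → X the canonical
retraction (the morphism which on each affine piece Spec Ŝ(U)_(ι f), f ∈ 𝒮(U) homogeneous of
positive degree, is Spec of 𝒮(U)_(f) → Ŝ(U)_(ι f) followed by the chart of X). Then the image of E
under i lies in Ê, and for the induced morphism i' : E → Ê the composite π = i' ≫ p : E → X is
affine and surjective. -/
theorem result {Y PC P : Scheme.{u}} (𝒮 𝒮h : RelProj.QCGrAlg Y) (h0 : RelCone.StrZeroBij 𝒮)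
    (ι : 𝒮.toQCAlg ⟶ 𝒮h.toQCAlg) (z : 𝒮h.presheaf.obj (op ⊤)) (hz : RelCone.IsPolyOver 𝒮 𝒮h ι z)
    (pC : PC ⟶ Y)
    (chartC : ∀ (U : Y.Opens) (hU : IsAffineOpen U), (((pC ⁻¹ᵁ U : PC.Opens) : Scheme.{u}) ≅ Proj (𝒮h.deg U hU)))
    (hPC : RelProj.IsRelProj 𝒮h pC chartC)
    (p : P ⟶ Y)
    (chart : ∀ (U : Y.Opens) (hU : IsAffineOpen U), (((p ⁻¹ᵁ U : P.Opens) : Scheme.{u}) ≅ Proj (𝒮.deg U hU)))
    (hP : RelProj.IsRelProj 𝒮 p chart)
    (i : 𝒮.toQCAlg.spec ⟶ PC) (hi : RelCone.IsConeImm 𝒮 hz pC chartC i)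
    (r : ((RelCone.pointedProjCone 𝒮 hz pC chartC : PC.Opens) : Scheme.{u}) ⟶ P)
    (hr : (∀ (U : Y.Opens) (hU : IsAffineOpen U) (d : ℕ) (hd : 0 < d) (f : 𝒮.presheaf.obj (op U)) (hf : f ∈ 𝒮.deg U hU d)
        (g : Spec (CommRingCat.of (HomogeneousLocalization.Away (𝒮h.deg U hU) ((RelProj.gradedHomAt ι hz.graded U hU) f))) ⟶
          ((RelCone.pointedProjCone 𝒮 hz pC chartC : PC.Opens) : Scheme.{u})),
        g ≫ (RelCone.pointedProjCone 𝒮 hz pC chartC).ι =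
            Proj.awayι (𝒮h.deg U hU) ((RelProj.gradedHomAt ι hz.graded U hU) f) ((RelProj.gradedHomAt ι hz.graded U hU).2 hf) hd ≫
              RelProj.emb pC chartC U hU →
          g ≫ r =
            Spec.map (CommRingCat.ofHom (HomogeneousLocalization.Away.map (RelProj.gradedHomAt ι hz.graded U hU) f)) ≫
              Proj.awayι (𝒮.deg U hU) f hf hd ≫ RelProj.emb p chart U hU)) :
    (RelCone.pointedCone 𝒮 : 𝒮.toQCAlg.spec.Opens) ≤ i ⁻¹ᵁ (RelCone.pointedProjCone 𝒮 hz pC chartC) ∧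
      ∀ i' : ((RelCone.pointedCone 𝒮 : 𝒮.toQCAlg.spec.Opens) : Scheme.{u}) ⟶ ((RelCone.pointedProjCone 𝒮 hz pC chartC : PC.Opens) : Scheme.{u}),
        i' ≫ (RelCone.pointedProjCone 𝒮 hz pC chartC).ι = (RelCone.pointedCone 𝒮).ι ≫ i →
          IsAffineHom (i' ≫ r) ∧ Function.Surjective (i' ≫ r).base := by
  have heq := pointed_eq_domQ hz pC chartC hPC
  obtain ⟨v, hv, -⟩ := existsUnique_map (u := RelProj.QGrHom.ofHom ι hz.graded) hP hPC
  have hvr : ∀ (x : PC) (hx : x ∈ RelCone.pointedProjCone 𝒮 hz pC chartC),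
      v ⟨x, heq ▸ hx⟩ = r ⟨x, hx⟩ := by
    intro x hx
    let e : ((RelCone.pointedProjCone 𝒮 hz pC chartC : PC.Opens) : Scheme.{u}) ⟶
        (RelProj.domQ (RelProj.QGrHom.ofHom ι hz.graded) pC chartC : Scheme.{u}) := PC.homOfLE heq.le
    have key : ∀ (U : Y.Opens) (hU : IsAffineOpen U) (d : ℕ) (hd : 0 < d) (f : 𝒮.presheaf.obj (op U))
        (hf : f ∈ 𝒮.deg U hU d) (χ : 𝒮.deg U hU →+*ᵍ 𝒮h.deg U hU), χ = RelProj.gradedHomAt ι hz.graded U hU →
        ((∀ g : Spec (CommRingCat.of (HomogeneousLocalization.Away (𝒮h.deg U hU) (χ f))) ⟶ _,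
          g ≫ (RelCone.pointedProjCone 𝒮 hz pC chartC).ι =
              Proj.awayι (𝒮h.deg U hU) (χ f) (χ.2 hf) hd ≫ RelProj.emb pC chartC U hU →
            g ≫ e ≫ v = Spec.map (CommRingCat.ofHom (HomogeneousLocalization.Away.map χ f)) ≫
                Proj.awayι (𝒮.deg U hU) f hf hd ≫ RelProj.emb p chart U hU) ↔
        ∀ g : Spec (CommRingCat.of (HomogeneousLocalization.Away (𝒮h.deg U hU)
            ((RelProj.gradedHomAt ι hz.graded U hU) f))) ⟶ _,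
          g ≫ (RelCone.pointedProjCone 𝒮 hz pC chartC).ι =
              Proj.awayι (𝒮h.deg U hU) ((RelProj.gradedHomAt ι hz.graded U hU) f)
                ((RelProj.gradedHomAt ι hz.graded U hU).2 hf) hd ≫ RelProj.emb pC chartC U hU →
            g ≫ e ≫ v = Spec.map (CommRingCat.ofHom (HomogeneousLocalization.Away.map
                (RelProj.gradedHomAt ι hz.graded U hU) f)) ≫
                Proj.awayι (𝒮.deg U hU) f hf hd ≫ RelProj.emb p chart U hU) := by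
      rintro U hU d hd f hf χ rfl
      exact Iff.rfl
    have h1 : e ≫ v = r := by
      refine (S8308.result 𝒮 𝒮h h0 ι z hz pC chartC hPC p chart hP).1.unique ?_ hr
      intro U hU d hd f hf
      refine (key U hU d hd f hf ((RelProj.QGrHom.ofHom ι hz.graded).gradedAt U hU U hU le_rfl) ?_).mp
        fun g hg => ?_
      · ext a
        exact gradedAt_ofHom U hU le_rfl a
      · let j : Idx (RelProj.QGrHom.ofHom ι hz.graded) := ⟨U, hU, U, hU, le_rfl, d, hd, f, hf⟩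
        have hge : g ≫ e = embDom chartC j := by
          rw [← cancel_mono (RelProj.domQ (RelProj.QGrHom.ofHom ι hz.graded) pC chartC).ι, Category.assoc,
            Scheme.homOfLE_ι, hg, embDom_ι]
          rfl
        rw [reassoc_of% hge, (isProjQMapOn_domQ_iff _ chart chartC v).mp hv j]
        rfl
    refine Eq.trans ?_ (congrArg (fun k : ((RelCone.pointedProjCone 𝒮 hz pC chartC : PC.Opens) : Scheme.{u}) ⟶ P =>
      k ⟨x, hx⟩) h1)
    show v _ = v (e ⟨x, hx⟩)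
    refine congrArg v ((RelProj.domQ _ pC chartC).ι.isOpenEmbedding.injective ?_)
    rw [← Scheme.Hom.comp_apply e, Scheme.homOfLE_ι]
    rfl
  have hover : i ≫ pC = 𝒮.toQCAlg.π := by
    refine RelSpecX.spec_hom_ext fun y => ?_
    obtain ⟨_, ⟨U, hU, rfl⟩, hyU, -⟩ := Y.isBasis_affineOpens.exists_subset_of_mem_open
      (Set.mem_univ y) isOpen_univ
    refine ⟨U, hU, hyU, ?_⟩
    rw [reassoc_of% (hi U hU), 𝒮.toQCAlg.ι_π, emb_over hPC U hU, Proj.awayι_toSpecZero_assoc,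
      ← Spec.map_comp_assoc, ← Spec.map_comp_assoc]
    congr 2
    refine CommRingCat.hom_ext (RingHom.ext fun a => ?_)
    refine (hz.awayZToBase_of_val U hU _ ((𝒮h.str.app (op U)).hom a) 0 ?_).trans ?_
    · show Localization.mk _ _ = _
      simp only [pow_zero]
      rfl
    · rw [show (𝒮h.str.app (op U)).hom a = (ι.hom.app (op U)).hom ((𝒮.str.app (op U)).hom a) by
        rw [← CommRingCat.comp_apply, ← NatTrans.comp_app, ι.comm], hz.evalOne_ι]
  have hcrit : ∀ {U : Y.Opens} (hU : IsAffineOpen U) {d : ℕ} {f : 𝒮.presheaf.obj (op U)}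
      (hf : f ∈ 𝒮.deg U hU d) (hd : 0 < d) (s : Spec (𝒮.presheaf.obj (op U))),
      Proj.awayι (𝒮h.deg U hU) (RelCone.restrictTop 𝒮h z U) (hz.deg_z U hU) one_pos
        (Spec.map (CommRingCat.ofHom (hz.awayZToBase U hU)) s) ∈
          Proj.basicOpen (𝒮h.deg U hU) ((ι.hom.app (op U)).hom f) ↔ f ∉ s.asIdeal := by
    intro U hU d f hf hd s
    show _ ∈ Proj.awayι (𝒮h.deg U hU) (RelCone.restrictTop 𝒮h z U) (hz.deg_z U hU) one_pos ⁻¹ᵁ
      Proj.basicOpen (𝒮h.deg U hU) ((ι.hom.app (op U)).hom f) ↔ _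
    rw [Proj.awayι_preimage_basicOpen (𝒜 := 𝒮h.deg U hU) (f_deg := hz.deg_z U hU) (hm := one_pos)
      (g_deg := hz.graded U hU d f hf) (hm' := hd)]
    show ¬ (hz.awayZToBase U hU _ ∈ s.asIdeal) ↔ _
    rw [hz.awayZToBase_of_val U hU _ ((ι.hom.app (op U)).hom f ^ 1) d (HomogeneousLocalization.Away.val_mk _ _ _ _ _),
      map_pow, hz.evalOne_ι, pow_one]
  have hpt : ∀ {U : Y.Opens} (hU : IsAffineOpen U) (s : Spec (𝒮.presheaf.obj (op U))),
      i (𝒮.toQCAlg.ι U hU s) = RelProj.emb pC chartC U hU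
        (Proj.awayι (𝒮h.deg U hU) (RelCone.restrictTop 𝒮h z U) (hz.deg_z U hU) one_pos
          (Spec.map (CommRingCat.ofHom (hz.awayZToBase U hU)) s)) := fun {U} hU s => by
    rw [← Scheme.Hom.comp_apply, hi U hU]
    rfl
  have hle : (RelCone.pointedCone 𝒮 : 𝒮.toQCAlg.spec.Opens) ≤ i ⁻¹ᵁ (RelCone.pointedProjCone 𝒮 hz pC chartC) := by
    intro x hx
    obtain ⟨U, hU, hxU⟩ : ∃ U, IsAffineOpen U ∧ 𝒮.toQCAlg.π x ∈ U := by
      obtain ⟨_, ⟨U, hU, rfl⟩, hyU, -⟩ := Y.isBasis_affineOpens.exists_subset_of_mem_open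
        (Set.mem_univ (𝒮.toQCAlg.π x)) isOpen_univ
      exact ⟨U, hU, hyU⟩
    obtain ⟨s, rfl⟩ := (𝒮.toQCAlg.π_preimage U hU).le hxU
    obtain ⟨a, ha, has⟩ := (ConeX.mem_vertexCompl s).mp ((ConeX.mem_pointedCone 𝒮 U hU s).mp hx)
    show i (𝒮.toQCAlg.ι U hU s) ∈ RelCone.pointedProjCone 𝒮 hz pC chartC
    rw [hpt]
    refine (mem_pointed_iff hz hPC hU _).mpr ?_
    classical
    rw [← DirectSum.sum_support_decompose (𝒮.deg U hU) a] at has
    obtain ⟨k, hk, hks⟩ : ∃ k ∈ (DirectSum.decompose (𝒮.deg U hU) a).support,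
        (DirectSum.decompose (𝒮.deg U hU) a k : 𝒮.presheaf.obj (op U)) ∉ s.asIdeal := by
      by_contra! h
      exact has (Ideal.sum_mem _ h)
    have hk0 : 0 < k := Nat.pos_of_ne_zero fun h0 => hks (by
      subst h0
      have : GradedRing.proj (𝒮.deg U hU) 0 a = 0 := ha
      rw [GradedRing.proj_apply] at this
      rw [this]
      exact zero_mem _)
    exact ⟨_, HomogeneousIdeal.mem_irrelevant_of_mem _ hk0 (SetLike.coe_mem _),
      (hcrit hU (SetLike.coe_mem _) hk0 s).mpr hks⟩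
  refine ⟨hle, fun i' hi' => ?_⟩
  have hπ : ∀ (x : ((RelCone.pointedCone 𝒮 : 𝒮.toQCAlg.spec.Opens) : Scheme.{u})),
      p ((i' ≫ r) x) = 𝒮.toQCAlg.π x.1 ∧
      ∀ {U : Y.Opens} (hU : IsAffineOpen U) (s : Spec (𝒮.presheaf.obj (op U))), 𝒮.toQCAlg.ι U hU s = x.1 →
        ∀ {d : ℕ} (_ : 0 < d) {f : 𝒮.presheaf.obj (op U)} (_ : f ∈ 𝒮.deg U hU d),
          ((i' ≫ r) x ∈ RelProj.emb p chart U hU ''ᵁ Proj.basicOpen (𝒮.deg U hU) f ↔ f ∉ s.asIdeal) := by
    intro x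
    have hx' : (i' x).1 = i x.1 := congrArg (fun k : ((RelCone.pointedCone 𝒮 : 𝒮.toQCAlg.spec.Opens) : Scheme.{u}) ⟶ PC =>
      k x) hi'
    have hxm : i x.1 ∈ RelCone.pointedProjCone 𝒮 hz pC chartC := hle x.2
    have hix : i' x = ⟨i x.1, hxm⟩ := Subtype.ext hx'
    have hrx : (i' ≫ r) x = v ⟨i x.1, heq ▸ hxm⟩ := by
      show r (i' x) = _
      rw [hix]
      exact (hvr _ hxm).symm
    rw [hrx]
    refine ⟨?_, fun {U} hU s hs {d} hd {f} hf => ?_⟩
    · refine (congrArg (fun k : (RelProj.domQ (RelProj.QGrHom.ofHom ι hz.graded) pC chartC : Scheme.{u}) ⟶ Y =>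
        k ⟨i x.1, heq ▸ hxm⟩) (comp_eq hP hPC hv)).trans ?_
      show pC (i x.1) = _
      rw [← Scheme.Hom.comp_apply, hover]
    · refine (map_mem_iff hP hPC hv (U := U) (hU := hU) (hU' := hU) le_rfl hd hf ⟨i x.1, heq ▸ hxm⟩
        ((hpt hU s).symm.trans (congrArg i hs))).trans ?_
      rw [show (RelProj.QGrHom.ofHom ι hz.graded).gradedAt U hU U hU le_rfl f = (ι.hom.app (op U)).hom f from
        gradedAt_ofHom U hU le_rfl f]
      exact hcrit hU hf hd s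
  refine ⟨isAffineHom_of_forall_exists_isAffineOpen _ fun y => ?_, fun y => ?_⟩
  · obtain ⟨_, ⟨U, hU, rfl⟩, hyU, -⟩ := Y.isBasis_affineOpens.exists_subset_of_mem_open
      (Set.mem_univ (p y)) isOpen_univ
    obtain ⟨b, rfl⟩ := (mem_opensRange_emb (chart := chart) hU).mpr hyU
    obtain ⟨d, f, hd, hf, hfb⟩ := exists_homogeneous (𝒮.deg U hU) b
    refine ⟨RelProj.emb p chart U hU ''ᵁ Proj.basicOpen (𝒮.deg U hU) f, ⟨b, hfb, rfl⟩,
      (Scheme.Hom.isAffineOpen_iff_of_isOpenImmersion _).mpr (Proj.isAffineOpen_basicOpen _ f hf hd), ?_⟩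
    let D : 𝒮.toQCAlg.spec.Opens := 𝒮.toQCAlg.ι U hU ''ᵁ PrimeSpectrum.basicOpen f
    have hDE : D ≤ RelCone.pointedCone 𝒮 := by
      rintro _ ⟨s, hs, rfl⟩
      exact (ConeX.mem_pointedCone 𝒮 U hU s).mpr ((ConeX.mem_vertexCompl s).mpr
        ⟨f, HomogeneousIdeal.mem_irrelevant_of_mem _ hd hf, hs⟩)
    have hD : IsAffineOpen D :=
      (Scheme.Hom.isAffineOpen_iff_of_isOpenImmersion _).mpr (IsAffineOpen.Spec_basicOpen f)
    have hpre : (RelCone.pointedCone 𝒮).ι ''ᵁ ((i' ≫ r) ⁻¹ᵁ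
        (RelProj.emb p chart U hU ''ᵁ Proj.basicOpen (𝒮.deg U hU) f)) = D := by
      ext x
      constructor
      · rintro ⟨x, hx, rfl⟩
        have hxU : 𝒮.toQCAlg.π x.1 ∈ U := by
          rw [← (hπ x).1]
          obtain ⟨b', -, hb'⟩ := hx
          exact (mem_opensRange_emb hU).mp ⟨b', hb'⟩
        obtain ⟨s, hs⟩ := (𝒮.toQCAlg.π_preimage U hU).le hxU
        exact ⟨s, ((hπ x).2 hU s hs hd hf).mp hx, hs⟩
      · rintro ⟨s, hs, rfl⟩
        exact ⟨⟨_, hDE ⟨s, hs, rfl⟩⟩, ((hπ ⟨_, hDE ⟨s, hs, rfl⟩⟩).2 hU s rfl hd hf).mpr hs, rfl⟩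
    exact (Scheme.Hom.isAffineOpen_iff_of_isOpenImmersion (RelCone.pointedCone 𝒮).ι).mp (hpre ▸ hD)
  · obtain ⟨_, ⟨U, hU, rfl⟩, hyU, -⟩ := Y.isBasis_affineOpens.exists_subset_of_mem_open
      (Set.mem_univ (p y)) isOpen_univ
    obtain ⟨b, rfl⟩ := (mem_opensRange_emb (chart := chart) hU).mpr hyU
    obtain ⟨d, f, hd, hf, hfb⟩ := exists_homogeneous (𝒮.deg U hU) b
    let s : Spec (𝒮.presheaf.obj (op U)) :=
      ⟨(b : ProjectiveSpectrum (𝒮.deg U hU)).asHomogeneousIdeal.toIdeal, (b : ProjectiveSpectrum (𝒮.deg U hU)).isPrime⟩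
    have hsE : 𝒮.toQCAlg.ι U hU s ∈ RelCone.pointedCone 𝒮 :=
      (ConeX.mem_pointedCone 𝒮 U hU s).mpr ((ConeX.mem_vertexCompl s).mpr
        ⟨f, HomogeneousIdeal.mem_irrelevant_of_mem _ hd hf, hfb⟩)
    refine ⟨⟨_, hsE⟩, ?_⟩
    obtain ⟨b', hb', hb''⟩ := ((hπ ⟨_, hsE⟩).2 hU s rfl hd hf).mpr hfb
    refine hb''.symm.trans (congrArg (RelProj.emb p chart U hU) (eq_of_basicOpen fun e g he hg => ?_))
    refine Iff.trans ⟨fun h => ⟨b', h, hb''⟩, ?_⟩ ((hπ ⟨_, hsE⟩).2 hU s rfl he hg)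
    rintro ⟨b₂, hb₂, e₂⟩
    rwa [(RelProj.emb p chart U hU).isOpenEmbedding.injective (e₂.trans hb''.symm)] at hb₂

end Groth.Agent.S8309
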