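import Groth.Statements.S19985
import Groth.Agent.ConeFib17.RelAff
import Groth.Agent.S8309

set_option backward.isDefEq.respectTransparency false
set_option backward.isDefEq.respectTransparency.types false
set_option linter.style.haveILetI false

set_option autoImplicit false
universe u
open CategoryTheory CategoryTheory.Limits AlgebraicGeometry Opposite TopologicalSpace
open scoped HomogeneousIdeal
noncomputable section
open EGA2

namespace Groth.Agent.S19985

/-- Let 𝒮 be a quasi-coherent positively graded O_Y-algebra with 𝒮_0 = O_Y which is generated by 𝒮_1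
(over every affine open U the ring 𝒮(U) is generated by its degree-0 and degree-1 parts), Ŝ = 𝒮[z]
(graded homomorphism ι : 𝒮 → Ŝ and a degree-one global section z, polynomial over affine opens), C =
Spec(𝒮), X = Proj(𝒮) and Ĉ = Proj(Ŝ) with their charts, E ⊆ C and Ê ⊆ Ĉ the pointed cones, i : C → Ĉ
the canonical open immersion and p : Ê → X the canonical retraction (the morphism which on each
affine piece Spec Ŝ(U)_(ι f), f ∈ 𝒮(U) homogeneous of positive degree, is Spec of 𝒮(U)_(f) → Ŝ(U)_(ι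
f) followed by the chart of X). Then p is of finite type (locally of finite type and quasi-compact)
and for every point x of X the fibre p⁻¹(x) = Ê ×_X Spec k(x) is isomorphic over k(x) to the affine
line Spec k(x)[T]; and for every factorisation i' : E → Ê of i restricted to E, the composite π = p
∘ i' : E → X is of finite type and its fibre at every x is isomorphic over k(x) to Spec k(x)[T,
T⁻¹]. -/
theorem result {Y PC P : Scheme.{u}} (𝒮 𝒮h : RelProj.QCGrAlg Y) (h0 : RelCone.StrZeroBij 𝒮)
    (hgen : 𝒮.IsGenDegOne)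
    (ι : 𝒮.toQCAlg ⟶ 𝒮h.toQCAlg) (z : 𝒮h.presheaf.obj (op ⊤)) (hz : RelCone.IsPolyOver 𝒮 𝒮h ι z)
    (pC : PC ⟶ Y)
    (chartC : ∀ (U : Y.Opens) (hU : IsAffineOpen U), (((pC ⁻¹ᵁ U : PC.Opens) : Scheme.{u}) ≅ Proj (𝒮h.deg U hU)))
    (hPC : RelProj.IsRelProj 𝒮h pC chartC)
    (p : P ⟶ Y)
    (chart : ∀ (U : Y.Opens) (hU : IsAffineOpen U), (((p ⁻¹ᵁ U : P.Opens) : Scheme.{u}) ≅ Proj (𝒮.deg U hU)))
    (hP : RelProj.IsRelProj 𝒮 p chart)
    (i : 𝒮.toQCAlg.spec ⟶ PC) (hi : RelCone.IsConeImm 𝒮 hz pC chartC i)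
    (r : ((RelCone.pointedProjCone 𝒮 hz pC chartC : PC.Opens) : Scheme.{u}) ⟶ P)
    (hr : (∀ (U : Y.Opens) (hU : IsAffineOpen U) (d : ℕ) (hd : 0 < d) (f : 𝒮.presheaf.obj (op U)) (hf : f ∈ 𝒮.deg U hU d)
        (g : Spec (CommRingCat.of (HomogeneousLocalization.Away (𝒮h.deg U hU) ((RelProj.gradedHomAt ι hz.graded U hU) f))) ⟶
          ((RelCone.pointedProjCone 𝒮 hz pC chartC : PC.Opens) : Scheme.{u})),
        g ≫ (RelCone.pointedProjCone 𝒮 hz pC chartC).ι =
            Proj.awayι (𝒮h.deg U hU) ((RelProj.gradedHomAt ι hz.graded U hU) f) ((RelProj.gradedHomAt ι hz.graded U hU).2 hf) hd ≫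
              RelProj.emb pC chartC U hU →
          g ≫ r =
            Spec.map (CommRingCat.ofHom (HomogeneousLocalization.Away.map (RelProj.gradedHomAt ι hz.graded U hU) f)) ≫
              Proj.awayι (𝒮.deg U hU) f hf hd ≫ RelProj.emb p chart U hU)) :
    (LocallyOfFiniteType r ∧ QuasiCompact r ∧
        ∀ x : ↥P, ∃ e : pullback r (P.fromSpecResidueField x) ≅ Spec (CommRingCat.of (Polynomial (P.residueField x))),
          e.hom ≫ Spec.map (CommRingCat.ofHom (algebraMap (P.residueField x) (Polynomial (P.residueField x)))) =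
            pullback.snd r (P.fromSpecResidueField x)) ∧
      ∀ i' : ((RelCone.pointedCone 𝒮 : 𝒮.toQCAlg.spec.Opens) : Scheme.{u}) ⟶
          ((RelCone.pointedProjCone 𝒮 hz pC chartC : PC.Opens) : Scheme.{u}),
        i' ≫ (RelCone.pointedProjCone 𝒮 hz pC chartC).ι = (RelCone.pointedCone 𝒮).ι ≫ i →
          LocallyOfFiniteType (i' ≫ r) ∧ QuasiCompact (i' ≫ r) ∧
        ∀ x : ↥P, ∃ e : pullback (i' ≫ r) (P.fromSpecResidueField x) ≅ Spec (CommRingCat.of (LaurentPolynomial (P.residueField x))),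
          e.hom ≫ Spec.map (CommRingCat.ofHom (algebraMap (P.residueField x) (LaurentPolynomial (P.residueField x)))) =
            pullback.snd (i' ≫ r) (P.fromSpecResidueField x) := by
  have h8 := (S8308.result 𝒮 𝒮h h0 ι z hz pC chartC hPC p chart hP).2 r hr
  haveI : IsAffineHom r := h8.1
  refine ⟨Groth.Agent.ConeFib17.of_charts r (fun K => CommRingCat.of (Polynomial K))
    (fun K => CommRingCat.ofHom (algebraMap K (Polynomial K))) fun x => ?_, fun i' hi' => ?_⟩
  · obtain ⟨U, hU, f, hf, hx⟩ := Groth.Agent.ConeFib17.exists_degOne hgen p chart x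
    obtain ⟨c, hc⟩ := Groth.Agent.ConeFib17.exists_chartHat (hz := hz) (chartC := chartC) (hU := hU) hf one_pos
    let e := RingEquiv.ofBijective _ (Groth.Agent.ConeFib17.fromPoly_bijective hf
      (RelProj.gradedHomAt ι hz.graded U hU) (hz.deg_z U hU) (hz.bij U hU))
    exact ⟨_, _, _, _, c, inferInstance, Groth.Agent.ConeFib17.isPullback_chartHat hPC hP r hr h0 hU hf one_pos hc, hx,
      Groth.Agent.ConeFib17.finiteType_of_equiv inferInstance _ e fun _ => Polynomial.eval₂_C _ _,
      fun K ρ => Groth.Agent.ConeFib17.exists_pushout_polynomial _ e (fun _ => Polynomial.eval₂_C _ _) ρ⟩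
  · haveI : IsAffineHom (i' ≫ r) :=
      ((S8309.result 𝒮 𝒮h h0 ι z hz pC chartC hPC p chart hP i hi r hr).2 i' hi').1
    refine Groth.Agent.ConeFib17.of_charts (i' ≫ r) (fun K => CommRingCat.of (LaurentPolynomial K))
      (fun K => CommRingCat.ofHom (algebraMap K (LaurentPolynomial K))) fun x => ?_
    obtain ⟨U, hU, f, hf, hx⟩ := Groth.Agent.ConeFib17.exists_degOne hgen p chart x
    obtain ⟨c, hc⟩ := Groth.Agent.ConeFib17.exists_isPullback_chartAff hPC hP r hr hi i' hi' h0 hU hf one_pos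
    let e := RingEquiv.ofBijective _ (Groth.Agent.ConeFib17.fromLaurent_bijective hf)
    exact ⟨_, _, _, _, c, inferInstance, hc, hx,
      Groth.Agent.ConeFib17.finiteType_of_equiv inferInstance _ e fun _ => LaurentPolynomial.eval₂_C _ _ _,
      fun K ρ => Groth.Agent.ConeFib17.exists_pushout_laurent _ e (fun _ => LaurentPolynomial.eval₂_C _ _ _) ρ⟩

end Groth.Agent.S19985
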