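import Groth.Statements.S19986
import Groth.Agent.DepthAlong6.FibreScheme

set_option autoImplicit false
universe u
open CategoryTheory CategoryTheory.Limits AlgebraicGeometry TopologicalSpace Topology
open CInt

namespace Groth.Agent.S19986

/-- Let f : X ⟶ S be locally of finite presentation, Y a closed subset of X which is locally
constructible in X, and F a finitely presented quasi-coherent O_X-module flat over S. Then the
function on Y sending y to the depth of the fibre module F_{f(y)} along Y ∩ X_{f(y)} at y (with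
values in ℕ ∪ {∞}) is locally constructible on the topological space Y: every point of Y has an open
neighbourhood V in Y on which the function takes only finitely many values and on which every level
set is a constructible subset of V (a member of the Boolean algebra generated by the retrocompact
open subsets of V). -/
theorem result {X S : Scheme.{u}} (f : X ⟶ S)
    [LocallyOfFinitePresentation f] (Y : Closeds ↥X) (hY : IsLocallyConstructible (Y : Set ↥X))
    (F : X.Modules) (hqc : Coh.IsQCoh F) (hfp : CohB1.IsFP F) (hfl : FlatMod.IsFlatOver f F)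
    (y₀ : ↥(Y : Set ↥X)) :
    ∃ V : Opens ↥(Y : Set ↥X), y₀ ∈ V ∧
      ((fun y : ↥(Y : Set ↥X) => CInt.fiberDepthAlong f F (Y : Set ↥X) y.1) '' (V : Set ↥(Y : Set ↥X))).Finite ∧
      ∀ t : ℕ∞, IsConstructible
        {v : ↥V | CInt.fiberDepthAlong f F (Y : Set ↥X) v.1.1 = t} := by
    classical
    obtain ⟨W, hW, hfW, -⟩ := exists_isAffineOpen_mem_and_subset (U := (⊤ : S.Opens)) (x := f y₀.1) trivial
    obtain ⟨U, hU, hyU, hle⟩ := exists_isAffineOpen_mem_and_subset (U := f ⁻¹ᵁ W) (x := y₀.1) hfW
    obtain ⟨N, hN⟩ := DepthAlong6.fiberDepthAlong_eq_top f F Y hW hle hfp hU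
    let d : ↥X → ℕ∞ := fun x => CInt.fiberDepthAlong f F (Y : Set ↥X) x
    let V : Opens ↥(Y : Set ↥X) := ⟨Subtype.val ⁻¹' (U : Set ↥X), U.isOpen.preimage continuous_subtype_val⟩
    have hbound : ∀ x, x ∈ U → d x = ⊤ ∨ ∃ k : ℕ, k ≤ N ∧ d x = k := by
      intro x hx
      by_cases h : ((N + 1 : ℕ) : ℕ∞) ≤ d x
      · exact Or.inl (hN x hx h)
      · obtain ⟨k, hk⟩ := ENat.ne_top_iff_exists.1 (ne_top_of_lt (not_le.1 h))
        refine Or.inr ⟨k, ?_, hk.symm⟩
        rw [← hk] at h
        have : ¬ N + 1 ≤ k := fun h' => h (by exact_mod_cast h')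
        omega
    refine ⟨V, hyU, ?_, fun t => ?_⟩
    · refine (((Set.finite_Iic N).image (fun k : ℕ => (k : ℕ∞))).insert ⊤).subset ?_
      rintro _ ⟨y, hy, rfl⟩
      rcases hbound y.1 hy with h | ⟨k, hk, h⟩
      · exact Or.inl h
      · exact Or.inr ⟨k, hk, h.symm⟩
    -- the trace of `Y` is a closed subset with quasi-compact complement
    obtain ⟨m, s, hs⟩ := DepthAlong6.exists_fg_trace Y hY hU
    let e : ↥V → PrimeSpectrum Γ(X, U) := fun v => hU.primeIdealOf ⟨v.1.1, v.2⟩
    have he : Topology.IsClosedEmbedding e := by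
      have h1 : Topology.IsClosedEmbedding (fun v : ↥V => (⟨v.1.1, v.2⟩ : ↥U)) := by
        refine ⟨⟨Topology.IsInducing.codRestrict
          (Topology.IsInducing.subtypeVal.comp Topology.IsInducing.subtypeVal) (fun v : ↥V => v.2), ?_⟩, ?_⟩
        · intro a b h
          exact Subtype.ext (Subtype.ext (congrArg (fun x : ↥U => x.1) h))
        · have : Set.range (fun v : ↥V => (⟨v.1.1, v.2⟩ : ↥U)) = (Subtype.val : ↥U → ↥X) ⁻¹' (Y : Set ↥X) := by
            ext u
            exact ⟨fun ⟨v, hv⟩ => hv ▸ v.1.2, fun hu => ⟨⟨⟨u.1, hu⟩, u.2⟩, rfl⟩⟩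
          rw [this]
          exact Y.isClosed.preimage continuous_subtype_val
      exact hU.isoSpec.hom.homeomorph.isClosedEmbedding.comp h1
    have hrange : Set.range e = PrimeSpectrum.zeroLocus (Set.range s) := by
      ext q
      have hq : hU.fromSpec q ∈ U := (Set.ext_iff.1 hU.range_fromSpec _).1 (Set.mem_range_self q)
      have heq : hU.primeIdealOf ⟨hU.fromSpec q, hq⟩ = q :=
        hU.fromSpec.isOpenEmbedding.injective (hU.fromSpec_primeIdealOf ⟨_, hq⟩)
      constructor
      · rintro ⟨v, rfl⟩
        exact (hs v.1.1 v.2).1 v.1.2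
      · intro h
        have := (hs _ hq).2 (by rw [heq]; exact h)
        exact ⟨⟨⟨_, this⟩, hq⟩, heq⟩
    have hcomp : IsCompact (Set.range e)ᶜ := by
      rw [hrange, ← PrimeSpectrum.zeroLocus_span]
      exact (PrimeSpectrum.isCompact_isOpen_iff_ideal.2
        ⟨_, Submodule.fg_span (Set.finite_range s), rfl⟩).1
    have hge : ∀ n : ℕ, IsConstructible {v : ↥V | (n : ℕ∞) ≤ d v.1.1} := by
      intro n
      obtain ⟨T, hT, hiff⟩ := DepthAlong6.isConstructible_chart f F Y hW hle hfp hY hU n
      convert hT.preimage_of_isClosedEmbedding he hcomp using 1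
      ext v
      exact hiff v.1.1 v.2
    induction t using ENat.recTopCoe with
    | top =>
      convert hge (N + 1) using 1
      ext v
      exact ⟨fun h => le_top.trans_eq h.symm, fun h => hN _ v.2 h⟩
    | coe n =>
      convert (hge n).sdiff (hge (n + 1)) using 1
      ext v
      exact Codepth5.enat_eq_iff (d v.1.1) n

end Groth.Agent.S19986
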