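import Groth.Statements.S1999
import Groth.Agent.Inertia7.Tame
import Groth.Agent.Inertia7.Card

set_option autoImplicit false
universe u
open scoped Pointwise
open EtAlg

open scoped Pointwise

namespace Groth.Agent.S1999

/-- Parts (2)–(5) in the case of part (6): let A be a discrete valuation ring with fraction field K, L/K
a finite Galois extension with group G, B the integral closure of A in L, m a maximal ideal of B
whose residue field is separable over that of A, and e the ramification index of m over A. Let D be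
the decomposition group (stabilizer of m), I the inertia group (elements acting trivially on B/m)
and P the wild inertia group, here the elements of D acting trivially on B/m² (the description valid
in the separable residue field case). Then P ≤ I, P is normal in D, P is a p-group if the residue
characteristic is p > 0 and trivial if it is 0, and I/P is cyclic of order the prime-to-p part of e
and isomorphic to a subgroup of the e-th roots of unity of B/m — more precisely to the full group of
e-th roots of unity of B/m. -/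
theorem result (A K L B : Type u) [CommRing A] [IsDomain A] [IsDiscreteValuationRing A]
    [CommRing B] [IsDomain B] [Field K] [Field L] [Algebra A K] [Algebra B L] [IsFractionRing A K] [IsFractionRing B L]
    [Algebra A B] [Algebra K L] [Algebra A L] [IsScalarTower A K L] [IsScalarTower A B L] [IsIntegralClosure B A L]
    [FiniteDimensional K L] [IsGalois K L] (m : Ideal B) [m.IsMaximal]
    [Algebra.IsSeparable (A ⧸ m.comap (algebraMap A B)) (B ⧸ m)] :
    let := IsIntegralClosure.MulSemiringAction A K L B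
    let D : Subgroup (L ≃ₐ[K] L) := MulAction.stabilizer (L ≃ₐ[K] L) m
    let I : Subgroup (L ≃ₐ[K] L) := m.inertia (L ≃ₐ[K] L)
    let P : Subgroup (L ≃ₐ[K] L) := D ⊓ (m ^ 2).inertia (L ≃ₐ[K] L)
    let e : ℕ := Ideal.ramificationIdx' (IsLocalRing.maximalIdeal A) m
    P ≤ I ∧ I ≤ D ∧ (P.subgroupOf D).Normal ∧
    (∀ p : ℕ, p.Prime → CharP (A ⧸ m.comap (algebraMap A B)) p → IsPGroup p P) ∧
    (CharZero (A ⧸ m.comap (algebraMap A B)) → P = ⊥) ∧
    (∀ [(P.subgroupOf I).Normal],
      IsCyclic (I ⧸ P.subgroupOf I) ∧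
      (∀ p : ℕ, p.Prime → CharP (A ⧸ m.comap (algebraMap A B)) p → Nat.card (I ⧸ P.subgroupOf I) = e / p ^ e.factorization p) ∧
      (CharZero (A ⧸ m.comap (algebraMap A B)) → Nat.card (I ⧸ P.subgroupOf I) = e) ∧
      Nonempty (I ⧸ P.subgroupOf I ≃* ↥(rootsOfUnity e (B ⧸ m)))) := by
  intro inst D I P e
  have : IsDedekindDomain B := IsIntegralClosure.isDedekindDomain A K L B
  have : Module.Finite A B := IsIntegralClosure.finite A K L B
  have hT : Module.IsTorsionFree A B := Module.isTorsionFree_iff_algebraMap_injective.2 fun x y h => by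
    have h' := congrArg (algebraMap B L) h
    rw [← IsScalarTower.algebraMap_apply, ← IsScalarTower.algebraMap_apply, IsScalarTower.algebraMap_apply A K L,
      IsScalarTower.algebraMap_apply A K L] at h'
    exact IsFractionRing.injective A K ((algebraMap K L).injective h')
  have : Module.Flat A B := inferInstance
  have : IsGaloisGroup (L ≃ₐ[K] L) A B := IsGaloisGroup.of_isFractionRing (L ≃ₐ[K] L) A B K L
  have : Algebra.IsIntegral A B := Algebra.IsIntegral.of_finite A B
  have : (m.comap (algebraMap A B)).IsMaximal := Ideal.isMaximal_comap_of_isIntegral_of_isMaximal m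
  have : m.LiesOver (m.comap (algebraMap A B)) := ⟨rfl⟩
  have : FaithfulSMul (L ≃ₐ[K] L) B := IsGaloisGroup.faithful A
  have hmax : m.comap (algebraMap A B) = IsLocalRing.maximalIdeal A := IsLocalRing.eq_maximalIdeal inferInstance
  have hA : IsLocalRing.maximalIdeal A ≠ ⊥ := IsDiscreteValuationRing.not_a_field A
  have hm0 : m ≠ ⊥ := by
    intro h
    apply hA
    rw [← hmax, h]
    exact (RingHom.injective_iff_ker_eq_bot _).1 (FaithfulSMul.algebraMap_injective A B)
  have hlt : m ^ 2 < m := by simpa using Ideal.pow_succ_lt_pow hm0 1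
  obtain ⟨ϖ, hϖ, hϖ'⟩ := SetLike.exists_of_lt hlt
  have hm : m ≤ Ideal.span {ϖ} ⊔ m ^ 2 := by
    have := Ideal.eq_prime_pow_of_succ_lt_of_le (i := 1) hm0 (I := Ideal.span {ϖ} ⊔ m ^ 2)
      (by
        refine lt_of_le_not_ge le_sup_right fun h => hϖ' ?_
        exact h (Ideal.mem_sup_left (Ideal.mem_span_singleton_self ϖ)))
      (by simpa using sup_le ((Ideal.span_singleton_le_iff_mem m).2 hϖ) hlt.le)
    rw [this, pow_one]
  have hbot : (⨅ n, m ^ n) = ⊥ := Ideal.iInf_pow_eq_bot_of_isDomain m (inferInstance : m.IsMaximal).ne_top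
  have hPeq : P = (m ^ 2).inertia (L ≃ₐ[K] L) :=
    le_antisymm (inf_le_right : D ⊓ (m ^ 2).inertia (L ≃ₐ[K] L) ≤ _)
      (show _ ≤ D ⊓ (m ^ 2).inertia (L ≃ₐ[K] L) from le_inf
        ((Inertia7.inertia_sq_le (G := L ≃ₐ[K] L)).trans (Ideal.inertia_le_stabilizer (M := L ≃ₐ[K] L) m)) le_rfl)
  have hPI : P ≤ I := hPeq ▸ Inertia7.inertia_sq_le
  have he : Nat.card I = e := by
    have : m.LiesOver (IsLocalRing.maximalIdeal A) := ⟨hmax.symm⟩
    rw [show e = Ideal.ramificationIdx m A from Ideal.ramificationIdx'_eq_ramificationIdx _ m hA]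
    exact Inertia7.card_inertia_eq (m.comap (algebraMap A B)) m
  have hcast : ∀ k : ℕ, (k : B) ∈ m ↔ (k : A ⧸ m.comap (algebraMap A B)) = 0 := fun k => by
    rw [← map_natCast (Ideal.Quotient.mk (m.comap (algebraMap A B))), Ideal.Quotient.eq_zero_iff_mem,
      Ideal.mem_comap, map_natCast]
  have hker : ∀ _ : (P.subgroupOf I).Normal, (Inertia7.chi hϖ hm hϖ').ker = P.subgroupOf I := fun _ => by
    rw [Inertia7.ker_chi hϖ hm hϖ' A (m.comap (algebraMap A B)), hPeq]
  have hPp : ∀ p : ℕ, p.Prime → CharP (A ⧸ m.comap (algebraMap A B)) p → IsPGroup p P := fun p hp hc =>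
    Inertia7.isPGroup_wild hbot ((hcast p).2 (CharP.cast_eq_zero _ p)) P hPeq.le
  have hP0 : CharZero (A ⧸ m.comap (algebraMap A B)) → P = ⊥ := fun hc => by
    rw [hPeq]
    exact Inertia7.wild_eq_bot hbot fun k hk h => hk (Nat.cast_eq_zero.1 ((hcast k).1 h))
  refine ⟨hPI, Ideal.inertia_le_stabilizer m, Inertia7.normal_subgroupOf_stabilizer, hPp, hP0, ?_⟩
  intro hN
  let : Field (B ⧸ m) := Ideal.Quotient.field m
  have hcyc := Inertia7.isCyclic_quotient (P.subgroupOf I) (Inertia7.chi hϖ hm hϖ') (hker hN)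
  have hPsub : ∀ p : ℕ, p.Prime → CharP (A ⧸ m.comap (algebraMap A B)) p → IsPGroup p (P.subgroupOf I) :=
    fun p hp hc => (hPp p hp hc).of_equiv (Subgroup.subgroupOfEquivOfLe hPI).symm
  have hcharp : ∀ p : ℕ, p.Prime → CharP (A ⧸ m.comap (algebraMap A B)) p →
      Nat.card (I ⧸ P.subgroupOf I) = e / p ^ e.factorization p ∧
        Nonempty (I ⧸ P.subgroupOf I ≃* ↥(rootsOfUnity e (B ⧸ m))) := fun p hp hc => by
    have : Fact p.Prime := ⟨hp⟩
    have : CharP (B ⧸ m) p := by
      refine (CharP.charP_iff_prime_eq_zero hp).2 ?_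
      rw [← map_natCast (Ideal.Quotient.mk m), Ideal.Quotient.eq_zero_iff_mem, hcast]
      exact CharP.cast_eq_zero _ p
    rw [← he]
    exact Inertia7.quotient_structure_charP (P.subgroupOf I) (Inertia7.chi hϖ hm hϖ') (hker hN) p (hPsub p hp hc)
  have hchar0 : CharZero (A ⧸ m.comap (algebraMap A B)) →
      Nat.card (I ⧸ P.subgroupOf I) = e ∧ Nonempty (I ⧸ P.subgroupOf I ≃* ↥(rootsOfUnity e (B ⧸ m))) := fun hc => by
    rw [← he]
    refine Inertia7.quotient_structure_bot (P.subgroupOf I) (Inertia7.chi hϖ hm hϖ') (hker hN) ?_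
    rw [Subgroup.subgroupOf_eq_bot]
    rw [hP0 hc]
    exact disjoint_bot_left
  refine ⟨hcyc, fun p hp hc => (hcharp p hp hc).1, fun hc => (hchar0 hc).1, ?_⟩
  obtain ⟨q, hq⟩ := CharP.exists (A ⧸ m.comap (algebraMap A B))
  rcases CharP.char_is_prime_or_zero (A ⧸ m.comap (algebraMap A B)) q with hp | rfl
  · exact (hcharp q hp hq).2
  · exact (hchar0 (CharP.charP_to_charZero _)).2

end Groth.Agent.S1999
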