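import Groth.Statements.S20003
import Groth.Agent.KExact.TorsionFreeDual
import Groth.Agent.KExact.PerfectTensorShriek
import Groth.Agent.KExact.PhiShift
import Groth.Agent.LC.GorHull
-- import your own Groth.Agent.* helpers here

set_option autoImplicit false
set_option linter.style.haveILetI false
set_option backward.isDefEq.respectTransparency false
set_option backward.isDefEq.respectTransparency.types false

universe u
open CategoryTheory CategoryTheory.Limits AlgebraicGeometry
attribute [local instance] HasDerivedCategory.standard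
open FMK

attribute [-instance] CategoryTheory.catToReflQuiver Int.instConditionallyCompleteLinearOrder

namespace Groth.Agent.S20003

open Groth.Agent Groth.Agent.KFlatLib Groth.Agent.H9Misc


/-- Let k be an algebraically closed field, X and Y proper schemes over k with structure morphisms a and
b, X with Cohen–Macaulay local rings and equidimensional of dimension d, Y with Gorenstein local
rings. Let Ra_* on D_QCoh have the right adjoint a^× (given as data with its adjunction), O an
object of D_QCoh(Spec k) isomorphic to the structure sheaf in degree 0, and ω_X = H^{−d}(a^×O) the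
dualizing module of X; write RΔ(F) = RHom(F, ω_X). Let P be a cochain complex of modules on X ×_k Y
defining a perfect object and P' a cochain complex representing its derived dual RHom(P, O_{X×Y});
for a kernel K write Φ_K = Rpr_{Y,*}(Lpr_X^*(−) ⊗^L K) and R^iΦ_K = H^i ∘ Φ_K, the derived functors
involved being assumed to exist. Let F be a cochain complex of O_X-modules defining a perfect object
which is GV with respect to P: R^iΦ_P F = 0 for i < 0 and, for i ≥ 0, the local ring of Y at every
point of the support of R^iΦ_P F has dimension ≥ i. Suppose that Φ_{P'}(RΔ F)[d] is isomorphic in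
D(O_Y) to a coherent O_Y-module G placed in degree 0 whose stalks are torsion-free
(non-zero-divisors of O_{Y,y} act injectively on G_y for every y). Then F is M-regular with respect
to P: for every i > 0, the local ring of Y at every point of the support of R^iΦ_P F has dimension ≥
i + 1. (The published statement asserts the equivalence of M-regularity with this torsion-freeness
and with an injectivity condition on a natural map; this row is the implication from
torsion-freeness, and takes the sheaf G as given rather than deducing that the transform is a sheaf.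
The published statement takes X and Y projective over k; this row takes them proper, the
first-syzygy step being local on Y.) -/
theorem result (k : Type u) [Field k] [IsAlgClosed k]
    (X Y : Scheme.{u}) (a : X ⟶ Spec (CommRingCat.of k)) (b : Y ⟶ Spec (CommRingCat.of k)) [IsProper a] [IsProper b]
    (hXcm : ∀ x : ↥X, LocCoh.IsCohenMacaulayLocalRing ↑(X.presheaf.stalk x))
    (hYg : ∀ y : ↥Y, LocCoh.IsGorensteinLocalRing ↑(Y.presheaf.stalk y))
    (d : ℕ) (hd : topologicalKrullDim ↥X = (d : WithBot ℕ∞))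
    (hXeq : ∀ Z ∈ irreducibleComponents ↥X, topologicalKrullDim ↥Z = (d : WithBot ℕ∞))
    [DCoh.HasRpush a] (ha : DCoh.RpushPreservesQCoh a)
    (adx : DCoh.DQCoh (Spec (CommRingCat.of k)) ⥤ DCoh.DQCoh X) (adj : DCoh.RpushQ a ha ⊣ adx)
    (O : DCoh.DQCoh (Spec (CommRingCat.of k)))
    (hO : Nonempty (O.obj ≅ DCoh.inD (Spec (CommRingCat.of k)) (Coh.structureModule (Spec (CommRingCat.of k)))))
    (P : CochainComplex (pullback a b).Modules ℤ) (hP : DCoh.IsPerfect (DCoh.toD (pullback a b) P))
    [DCoh.HasLpull (pullback.fst a b)] [DCoh.HasLTensorCx P] [DCoh.HasRSheafHom P] [DCoh.HasRpush (pullback.snd a b)]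
    (P' : CochainComplex (pullback a b).Modules ℤ) [DCoh.HasLTensorCx P']
    (hP' : Nonempty (DCoh.toD (pullback a b) P' ≅
      (DCoh.RSheafHom P).obj (DCoh.inD (pullback a b) (Coh.structureModule (pullback a b)))))
    (F : CochainComplex X.Modules ℤ) (hF : DCoh.IsPerfect (DCoh.toD X F)) [DCoh.HasLTensorCx F] [DCoh.HasRSheafHom F]
    (hGVneg : ∀ i : ℤ, i < 0 → IsZero (DCoh.HD ((FMK.phi a b P).obj (DCoh.toD X F)) i))
    (hGV : ∀ (i : ℕ) (y : ↥Y), y ∈ CohB1.support (DCoh.HD ((FMK.phi a b P).obj (DCoh.toD X F)) (i : ℤ)) →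
      ((i : ℕ) : WithBot ℕ∞) ≤ ringKrullDim ↑(Y.presheaf.stalk y))
    (G : Y.Modules) (hGc : Coh.IsCoh G)
    (hG : Nonempty (DCoh.inD Y G ≅ (shiftFunctor (DCoh.D Y) (d : ℤ)).obj ((FMK.phi a b P').obj
      ((DCoh.RSheafHom F).obj (DCoh.inD X (DCoh.HD (adx.obj O).obj (-(d : ℤ))))))))
    (htf : ∀ (y : ↥Y) (r : ↑(Y.presheaf.stalk y)), r ∈ nonZeroDivisors ↑(Y.presheaf.stalk y) →
      ∀ m : ↑(G.presheaf.stalk y), r • m = 0 → m = 0)
    (i : ℕ) (hi : 0 < i) (y : ↥Y)
    (hy : y ∈ CohB1.support (DCoh.HD ((FMK.phi a b P).obj (DCoh.toD X F)) (i : ℤ))) :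
    ((i + 1 : ℕ) : WithBot ℕ∞) ≤ ringKrullDim ↑(Y.presheaf.stalk y) := by
  obtain ⟨eO⟩ := hO
  obtain ⟨eP'⟩ := hP'
  obtain ⟨eG⟩ := hG
  haveI : IsNoetherian Y := KExact.BCNat.isNoetherian_of_ft b
  let Z := pullback a b
  obtain ⟨K, ⟨eK⟩⟩ : ∃ K : CochainComplex Y.Modules ℤ, Nonempty (DCoh.toD Y K ≅
      (FMK.phi a b P).obj (DCoh.toD X F)) := ⟨_, ⟨DerivedCategory.Q.objObjPreimageIso _⟩⟩
  haveI := hasLTensorCx K
  haveI := KExact.PerfShriek.hasRSheafHom K
  obtain ⟨E, ⟨eE⟩⟩ : ∃ E : CochainComplex Z.Modules ℤ, Nonempty (DCoh.toD Z E ≅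
      (DCoh.Lpull (pullback.fst a b)).obj (DCoh.toD X F)) := ⟨_, ⟨DerivedCategory.Q.objObjPreimageIso _⟩⟩
  have hE : DCoh.IsPerfect (DCoh.toD Z E) := isPerfect_congr eE.symm (isPerfect_lpull _ hF)
  have hK : DCoh.IsPerfect (DCoh.toD Y K) := isPerfect_congr eK.symm
    ((isPerfect_iff _).2 (TorBC.locSP_rpush_properFlat (pullback.snd a b) ((isPerfect_iff _).1
      (isPerfect_congr ((DCoh.LTensorCx P).mapIso eE) (isPerfect_ltensor' P hP hE)))))
  obtain ⟨e⟩ := KExact.KernelDual.nonempty_dual_phi_field k X Y a b hXcm d hXeq ha adx adj O eO P hP P' eP' F hF K eK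
  obtain ⟨s⟩ := KExact.PhiShift.nonempty_phi_shift a b P' (d : ℤ)
  let eDK : (DCoh.RSheafHom K).obj (DCoh.inD Y (Coh.structureModule Y)) ≅ DCoh.inD Y G := e ≪≫ s.app _ ≪≫ eG.symm
  let C := (CochainComplex.singleFunctor Y.Modules 0).obj G
  haveI := hasLTensorCx C
  haveI := KExact.PerfShriek.hasRSheafHom C
  let eC : DCoh.toD Y C ≅ DCoh.inD Y G := ((DerivedCategory.singleFunctorIsoCompQ Y.Modules 0).app G).symm
  let eD : DCoh.toD Y C ≅ (DCoh.RSheafHom K).obj (DCoh.inD Y (Coh.structureModule Y)) := eC ≪≫ eDK.symm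
  have hC : DCoh.IsPerfect (DCoh.toD Y C) := isPerfect_congr eD.symm (isPerfect_RSheafHom_structure K hK)
  obtain ⟨eB⟩ := KExact.PerfShriek.nonempty_bidual K hK C eD
  let eH : DCoh.HD ((FMK.phi a b P).obj (DCoh.toD X F)) (i : ℤ) ≅
      DCoh.HD ((DCoh.RSheafHom C).obj (DCoh.inD Y (Coh.structureModule Y))) (i : ℤ) :=
    (DerivedCategory.homologyFunctor _ (i : ℤ)).mapIso (eK.symm ≪≫ eB)
  haveI := hYg y
  haveI : IsNoetherianRing (Y.presheaf.stalk y) := inferInstance
  have hCM := LC.isCohenMacaulayLocalRing_of_gorenstein (R := Y.presheaf.stalk y)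
  obtain ⟨δ, hδ⟩ := LC.exists_depth_eq_nat (R := Y.presheaf.stalk y) (Y.presheaf.stalk y)
  have hdim : ringKrullDim (Y.presheaf.stalk y) = (δ : ℕ) := by
    rw [← Module.supportDim_self_eq_ringKrullDim, hCM.supportDim_eq_depth, hδ]
    rfl
  rw [hdim]
  refine WithBot.coe_le_coe.2 (Nat.cast_le.2 ?_)
  by_contra hlt
  refine hy ((CategoryTheory.Iso.addCommGroupIsoToAddEquiv ((TopCat.Presheaf.stalkFunctor AddCommGrpCat.{u} y).mapIso
    ((Scheme.Modules.toPresheaf Y).mapIso eH))).toEquiv.subsingleton_congr.2 ?_)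
  rcases Nat.lt_or_ge δ i with h | h
  · refine KExact.DualAmpAt.subsingleton_stalk_hd_dual C hC y δ hδ 0 (fun j hj => ?_) _ (by omega)
    exact ModuleCat.subsingleton_of_isZero ((DerSch.stalkFunctor Y y).map_isZero
      ((DerivedCategory.isZero_of_isGE ((DerivedCategory.singleFunctor Y.Modules 0).obj G) 0 j hj).of_iso
        ((DerivedCategory.homologyFunctor _ j).mapIso eC)))
  · haveI : Module.Finite (Y.presheaf.stalk y) (G.presheaf.stalk y) := QCoh.finite_stalk_of_isFT hGc.1 hGc.2 y
    exact KExact.TorsionFreeDual.subsingleton_stalk_dual hGc C eC hC y δ hδ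
      (KExact.TorsionFreeDual.one_le_depth_of_torsionFree δ hδ (by omega) fun r hr m hm => htf y r hr m hm)
      _ (by omega)
end Groth.Agent.S20003
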