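import Groth.Statements.S20004
import Groth.Agent.S15800

set_option autoImplicit false
universe u v w
open WildQuot

namespace Groth.Agent.S20004

/-- Let `A` be a complete regular local ring of Krull dimension at least `2` and prime characteristic
`p`; let `k` be a field with `k → A` mapping onto the residue field, such that `k` has no Galois
extension of degree `p`; let `G` be a group of order `p` acting on `A` by `k`-algebra automorphisms,
ramified precisely at the origin (for every non-maximal prime `P`, the inertia subgroup of `P` is
trivial). Let `R` be a `k`-algebra with an injective structure map `R → A` whose image is fixed by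
`G` (so `R ⊆ A^G`), with `A` finite over `R`. Galois extensions of fraction fields are expressed
through automorphism counts: since `A` and `A^G` are normal domains finite over `R`,
`Frac(A^G)/Frac(R)` is Galois exactly when `p` times the number of `k`-algebra automorphisms of
`A^G` fixing the image of `R` equals the rank `[Frac A : Frac R]` of `A` over `R`, and
`Frac(A)/Frac(R)` is Galois exactly when the number of `R`-algebra automorphisms of `A` equals that
rank. The row: the first equality implies the second. (The published statement assumes `R ⊆ A^G`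
finite with `Frac(A^G)/Frac(R)` Galois and concludes that `Frac(A)/Frac(R)` is Galois; here `R` is
taken to contain `k`, as the norm subrings of the source do.) -/
theorem result
    (p : ℕ) [Fact p.Prime] (A : Type u) [CommRing A] [IsRegularLocalRing A] [CharP A p]
    [IsAdicComplete (IsLocalRing.maximalIdeal A) A] (hdim : 2 ≤ ringKrullDim A)
    (k : Type v) [Field k] [Algebra k A]
    (hk : Function.Surjective (IsLocalRing.residue A ∘ algebraMap k A))
    (hkp : ∀ (L : Type v) [Field L] [Algebra k L], IsGalois k L → Module.finrank k L ≠ p)
    (G : Type w) [Group G] [Finite G] [MulSemiringAction G A] (hcard : Nat.card G = p)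
    [SMulCommClass G k A]
    (hram : ∀ P : Ideal A, P.IsPrime → P ≠ IsLocalRing.maximalIdeal A → P.inertia G = ⊥)
    (R : Type v) [CommRing R] [Algebra k R] [Algebra R A] [IsScalarTower k R A] [Module.Finite R A]
    (hRinj : Function.Injective (algebraMap R A))
    (hRG : ∀ (σ : G) (r : R), σ • algebraMap R A r = algebraMap R A r)
    (hgal : p * Nat.card {φ : FixedPoints.subalgebra k A G ≃ₐ[k] FixedPoints.subalgebra k A G //
        ∀ b : FixedPoints.subalgebra k A G, (b : A) ∈ Set.range (algebraMap R A) → (φ b : A) = b} =
      Module.finrank R A) :
    Nat.card (A ≃ₐ[R] A) = Module.finrank R A := by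
  classical
  have : IsDomain A := RegLoc6.isDomain_of_isRegularLocalRing A
  have : IsDomain R := hRinj.isDomain (algebraMap R A)
  have : FaithfulSMul R A := (faithfulSMul_iff_algebraMap_injective R A).mpr hRinj
  have : FaithfulSMul G A := by
    refine ⟨fun {g g'} e => ?_⟩
    have h1 : g'⁻¹ * g ∈ (⊥ : Ideal A).inertia G := fun a => by
      have h2 := e a
      simp [mul_smul, h2]
    rw [hram ⊥ Ideal.isPrime_bot (fun h => by
      have hF : IsField A := IsLocalRing.isField_iff_maximalIdeal_eq.mpr h.symm
      rw [ringKrullDim_eq_zero_of_isField hF] at hdim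
      norm_num at hdim), Subgroup.mem_bot] at h1
    exact (inv_mul_eq_one.mp h1).symm
  let S := {φ : FixedPoints.subalgebra k A G ≃ₐ[k] FixedPoints.subalgebra k A G //
    ∀ b : FixedPoints.subalgebra k A G, (b : A) ∈ Set.range (algebraMap R A) → (φ b : A) = b}
  choose ψ hψ using fun φ : S =>
    S15800.result p A hdim k hk hkp G hcard hram φ.1
  have hfix : ∀ (g : G) (φ : S) (r : R), g • ψ φ (algebraMap R A r) = algebraMap R A r :=
    fun g φ r => by
    let b : FixedPoints.subalgebra k A G := ⟨algebraMap R A r, fun g => hRG g r⟩
    rw [show ψ φ (algebraMap R A r) = _ from hψ φ b, φ.2 b ⟨r, rfl⟩]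
    exact hRG g r
  let F : G × S → (A ≃ₐ[R] A) := fun x =>
    { (ψ x.2).toRingEquiv.trans (MulSemiringAction.toRingEquiv G A x.1) with
      commutes' := fun r => hfix x.1 x.2 r }
  have hF : Function.Injective F := fun x y e => by
    have h1 : ∀ a, x.1 • ψ x.2 a = y.1 • ψ y.2 a := fun a => DFunLike.congr_fun e a
    have h2 : x.2 = y.2 := Subtype.ext (AlgEquiv.ext fun b => Subtype.ext (by
      have := h1 b
      rwa [hψ, hψ, (x.2.1 b).2 x.1, (y.2.1 b).2 y.1] at this))
    refine Prod.ext (FaithfulSMul.eq_of_smul_eq_smul (α := A) fun a => ?_) h2
    have := h1 ((ψ x.2).symm a)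
    rwa [← h2, AlgEquiv.apply_symm_apply] at this
  let K := FractionRing R
  let L := FractionRing A
  let := FractionRing.liftAlgebra R L
  have hrank : Module.finrank K L = Module.finrank R A := IsFractionRing.finrank_eq R K A L
  have : Module.Finite K L := Module.Finite.of_isLocalization R A (nonZeroDivisors R)
  have hT : Function.Injective (IsFractionRing.fieldEquivOfAlgEquivHom (A := R) (B := A) K L) :=
    IsFractionRing.fieldEquivOfAlgEquivHom_injective R A K L
  have hle : Nat.card (A ≃ₐ[R] A) ≤ Module.finrank R A := by
    rw [← hrank]
    exact (Nat.card_le_card_of_injective _ (AlgEquiv.coe_toAlgHom_injective.comp hT)).trans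
      (card_algHom_le_finrank K L L)
  have : Finite (A ≃ₐ[R] A) := Finite.of_injective _ (AlgEquiv.coe_toAlgHom_injective.comp hT)
  refine le_antisymm hle ?_
  rw [← hgal, ← hcard, ← Nat.card_prod]
  exact Nat.card_le_card_of_injective F hF
end Groth.Agent.S20004
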