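import Groth.Statements.S20007
import Groth.Agent.CechTorsorX.GLH90
-- import your own Groth.Agent.* helpers here

set_option autoImplicit false
universe u
open CategoryTheory MonoidalCategory CartesianMonoidalCategory MonObj AlgebraicGeometry
open GIT

open CategoryTheory MonoidalCategory CartesianMonoidalCategory

namespace Groth.Agent.S20007

/-- The general linear group is special. Over an algebraically closed field k of characteristic zero,
let n be a natural number and let the group scheme GL_{n,k} (the general linear group over Spec k)
act on a k-scheme X; let φ : X → Y be a GL_{n,k}-torsor over the k-scheme Y: the square formed by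
the action, the second projection GL_{n,k} ×_k X → X and φ twice is cartesian, and φ acquires
sections on the members of some fpqc covering family of Y. Then φ is locally trivial: it acquires
sections on the members of some Zariski open covering of Y. (The statement holds over any base; the
ground field is the standing one of the text.) -/
theorem result
    (k : Type u) [Field k] [IsAlgClosed k] [CharZero k] (n : ℕ)
    (X Y : Over (Spec (CommRingCat.of k)))
    (a : AlgGrp.Action (FrB.GLn n (Spec (CommRingCat.of k))) X) (φ : X ⟶ Y)
    (hcart : IsPullback a.act (snd (FrB.GLn n (Spec (CommRingCat.of k))) X) φ φ)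
    (hloc : NonAbH1.IsLocallyTrivialFor Scheme.fpqcPrecoverage (Over.mk φ.left : Over Y.left)) :
    NonAbH1.IsLocallyTrivialFor Scheme.zariskiPrecoverage (Over.mk φ.left : Over Y.left) := by
  refine Groth.Agent.CechTorsorX.ZariskiTriv.isLocallyTrivial Groth.Agent.CechTorsorX.GLH90.localH90_gl a φ
    hcart.w (fun T x y hxy => ⟨hcart.lift x y hxy ≫ fst _ _, ?_⟩) (fun T g h y e => ?_) hloc
  · rw [show lift (hcart.lift x y hxy ≫ fst _ _) y = hcart.lift x y hxy from
      CartesianMonoidalCategory.hom_ext _ _ (lift_fst _ _) ((lift_snd _ _).trans (hcart.lift_snd x y hxy).symm)]
    exact hcart.lift_fst x y hxy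
  · have h1 : lift g y = lift h y := hcart.hom_ext e ((lift_snd _ _).trans (lift_snd _ _).symm)
    simpa using congrArg (· ≫ fst _ _) h1

end Groth.Agent.S20007
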