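import Groth.Statements.S20008
import Groth.Agent.BalLib.Push
import Groth.Agent.EtFound.Descent
import Groth.Agent.GrpSchLib.Cartier
import Groth.Agent.GrpSchLib.HomFlat
import Groth.Prelude.Def_AlgSt5
-- import your own Groth.Agent.* helpers here

set_option autoImplicit false
universe u
open CategoryTheory MonoidalCategory CartesianMonoidalCategory MonObj AlgebraicGeometry
open GIT GrpObj

namespace Groth.Agent.S20008

/-- A member of a Zariski covering is an open immersion, and they cover. -/
theorem zariski_mem {Y : Scheme.{u}} {R : Presieve Y} (hR : R ∈ Scheme.zariskiPrecoverage Y) :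
    (∀ y : Y, ∃ (U : Scheme.{u}) (g : U ⟶ Y), R g ∧ y ∈ Set.range g) ∧
      ∀ ⦃U : Scheme.{u}⦄ (g : U ⟶ Y), R g → IsOpenImmersion g := by
  obtain ⟨J, U, g, rfl⟩ := Presieve.exists_eq_ofArrows R
  rw [Scheme.ofArrows_mem_precoverage_iff] at hR
  refine ⟨fun y => ?_, ?_⟩
  · obtain ⟨i, hi⟩ := hR.1 y
    exact ⟨U i, g i, ⟨i⟩, hi⟩
  · rintro V h ⟨i⟩
    exact hR.2 i

/-- Composites of Zariski locally trivial morphisms. -/
theorem locallyTrivial_comp {A B Y : Scheme.{u}} (f : A ⟶ B) (g : B ⟶ Y)
    (hf : NonAbH1.IsLocallyTrivialFor Scheme.zariskiPrecoverage (Over.mk f : Over B))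
    (hg : NonAbH1.IsLocallyTrivialFor Scheme.zariskiPrecoverage (Over.mk g : Over Y)) :
    NonAbH1.IsLocallyTrivialFor Scheme.zariskiPrecoverage (Over.mk (f ≫ g) : Over Y) := by
  obtain ⟨Rf, hRf, hsf⟩ := hf
  obtain ⟨Rg, hRg, hsg⟩ := hg
  have key : ∀ y : Y, ∃ (U : Scheme.{u}) (j : U ⟶ Y), IsOpenImmersion j ∧ y ∈ Set.range j ∧
      ∃ s : U ⟶ A, s ≫ f ≫ g = j := by
    intro y
    obtain ⟨W, w, hw, z, rfl⟩ := (zariski_mem hRg).1 y
    obtain ⟨t, ht⟩ := hsg w hw
    obtain ⟨V, v, hv, p, hp⟩ := (zariski_mem hRf).1 (t z)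
    obtain ⟨s, hs⟩ := hsf v hv
    haveI := (zariski_mem hRf).2 v hv
    haveI := (zariski_mem hRg).2 w hw
    obtain ⟨q, hq, -⟩ := Scheme.Pullback.exists_preimage_pullback (f := t) (g := v) z p hp.symm
    have hs' : s ≫ f = v := hs
    have ht' : t ≫ g = w := ht
    refine ⟨Limits.pullback t v, Limits.pullback.fst t v ≫ w, inferInstance,
      ⟨q, by rw [Scheme.Hom.comp_apply, hq]⟩, Limits.pullback.snd t v ≫ s, ?_⟩
    rw [Category.assoc, ← Category.assoc s, hs', ← Category.assoc, ← Limits.pullback.condition, Category.assoc, ht']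
  choose U j hj hmem s hs using key
  refine ⟨Presieve.ofArrows U j, ?_, ?_⟩
  · rw [Scheme.ofArrows_mem_precoverage_iff]
    exact ⟨fun y => ⟨y, hmem y⟩, hj⟩
  · rintro V h ⟨y⟩
    exact ⟨s y, hs y⟩

end Groth.Agent.S20008

namespace Groth.Agent.S20008

/-- An extension of special groups is special. Over an algebraically closed field k of characteristic
zero, let G be an affine group scheme of finite type over k with a closed normal subgroup scheme N,
the kernel of a surjective homomorphism q : G → Q onto an affine group scheme Q of finite type over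
k (the factor group G/N). Call an affine group scheme H of finite type over k special when for every
action of H on a k-scheme X and every morphism ψ : X → Y of k-schemes which is an H-torsor over Y —
the square formed by the action, the second projection H ×_k X → X and ψ twice is cartesian, and ψ
acquires sections on the members of some fpqc covering family of Y — the morphism ψ acquires
sections on the members of some Zariski open covering of Y. If N and Q are special, then G is
special. -/
theorem result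
    (k : Type u) [Field k] [IsAlgClosed k] [CharZero k]
    (G N Q : Over (Spec (CommRingCat.of k))) [GrpObj G] [GrpObj N] [GrpObj Q]
    [IsAffine G.left] [LocallyOfFiniteType G.hom]
    (iN : N ⟶ G) [IsMonHom iN] [IsClosedImmersion iN.left] (hnorm : AlgGrp.IsNormalHom iN)
    (q : G ⟶ Q) [IsMonHom q] [Surjective q.left] [IsAffine Q.left] [LocallyOfFiniteType Q.hom]
    (hker : AlgGrp.IsKernel iN q)
    (hN : ∀ (X Y : Over (Spec (CommRingCat.of k))) (b : AlgGrp.Action N X) (ψ : X ⟶ Y),
      IsPullback b.act (snd N X) ψ ψ →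
      NonAbH1.IsLocallyTrivialFor Scheme.fpqcPrecoverage (Over.mk ψ.left : Over Y.left) →
      NonAbH1.IsLocallyTrivialFor Scheme.zariskiPrecoverage (Over.mk ψ.left : Over Y.left))
    (hQ : ∀ (X Y : Over (Spec (CommRingCat.of k))) (b : AlgGrp.Action Q X) (ψ : X ⟶ Y),
      IsPullback b.act (snd Q X) ψ ψ →
      NonAbH1.IsLocallyTrivialFor Scheme.fpqcPrecoverage (Over.mk ψ.left : Over Y.left) →
      NonAbH1.IsLocallyTrivialFor Scheme.zariskiPrecoverage (Over.mk ψ.left : Over Y.left))
    (X Y : Over (Spec (CommRingCat.of k))) (a : AlgGrp.Action G X) (φ : X ⟶ Y)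
    (hcart : IsPullback a.act (snd G X) φ φ)
    (hloc : NonAbH1.IsLocallyTrivialFor Scheme.fpqcPrecoverage (Over.mk φ.left : Over Y.left)) :
    NonAbH1.IsLocallyTrivialFor Scheme.zariskiPrecoverage (Over.mk φ.left : Over Y.left) := by
  haveI : Surjective G.hom := ⟨fun x => ⟨(η[G]).left x, by
    show ((η[G]).left ≫ G.hom) x = x
    rw [Over.w η[G]]; rfl⟩⟩
  haveI : IsAffineHom G.hom := isAffineHom_of_isAffine G.hom
  haveI : IsAffineHom Q.hom := isAffineHom_of_isAffine Q.hom
  haveI := EtFound.fpqc_isAffineHom.{u}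
  haveI : LocallyOfFinitePresentation G.hom :=
    LocallyOfFinitePresentation.iff_locallyOfFiniteType.mpr inferInstance
  haveI : Flat φ.left := Groth.Agent.BalLib.torsor_property hcart @Flat hloc inferInstance
  haveI : Surjective φ.left := Groth.Agent.BalLib.torsor_property hcart @Surjective hloc inferInstance
  haveI : IsAffineHom φ.left := Groth.Agent.BalLib.torsor_property hcart @IsAffineHom hloc inferInstance
  haveI : LocallyOfFinitePresentation φ.left :=
    Groth.Agent.BalLib.torsor_property hcart @LocallyOfFinitePresentation hloc inferInstance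
  have hπ : Groth.Agent.BalLib.HasLocSec φ :=
    Groth.Agent.BalLib.hasLocSec_of_isLocallyTrivialFor φ
      ⟨Presieve.singleton φ.left, φ.left.singleton_mem_fppfPrecoverage, fun S' f hf => by
        cases hf
        exact ⟨𝟙 _, Category.id_comp _⟩⟩
  obtain ⟨X', qx, r, aX', hw, sq, hcartQ, hinv, hfib⟩ := Groth.Agent.BalLib.exists_push q hcart hπ
  let ψ : X ⟶ X' := lift (𝟙 X) (1 : X ⟶ Q) ≫ qx
  have hψ : ∀ (W : Over (Spec (CommRingCat.of k))) (x : W ⟶ X), x ≫ ψ = lift x (1 : W ⟶ Q) ≫ qx := by
    intro W x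
    rw [comp_lift_assoc, Category.comp_id, MonObj.comp_one]
  have hψr : ψ ≫ r = φ := by
    rw [Category.assoc, hw, lift_fst_assoc, Category.id_comp]
  have hrloc : NonAbH1.IsLocallyTrivialFor Scheme.fpqcPrecoverage (Over.mk r.left : Over Y.left) := by
    refine ⟨Presieve.singleton φ.left, φ.left.singleton_mem_fpqcPrecoverage, fun S' f hf => ?_⟩
    cases hf
    exact ⟨ψ.left, congrArg CommaMorphism.left hψr⟩
  have hZr := hQ X' Y aX' r hcartQ hrloc
  have hker1 : iN ≫ q = (1 : N ⟶ Q) := by rw [hker.w, Hom.one_def]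
  haveI : Mono iN := Over.mono_of_mono_left iN
  have hcartN : IsPullback (a.restrict iN).act (snd N X) ψ ψ := by
    refine Groth.Agent.BalLib.isPullback_of_points ?_ fun W x x' h => ?_
    · refine AlgGrp.Action.hom_ext_lift₂ fun W n x => ?_
      rw [← Category.assoc, AlgGrp.Action.lift_restrict_act, hψ, lift_snd_assoc, hψ, ← hinv W (n ≫ iN) x 1,
        Category.assoc n, hker1, MonObj.comp_one, inv_one, _root_.mul_one]
    · rw [hψ, hψ] at h
      obtain ⟨g, hx, hg⟩ := hfib W x x' 1 1 h
      have hg1 : g ≫ q = toUnit W ≫ η[Q] := by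
        rw [_root_.one_mul, eq_comm, inv_eq_one] at hg
        rw [hg, Hom.one_def]
      refine ⟨lift (hker.lift g (toUnit W) hg1) x', ⟨?_, lift_snd _ _⟩, ?_⟩
      · rw [AlgGrp.Action.lift_restrict_act, hker.lift_fst, hx]
      · rintro p ⟨hp1, hp2⟩
        obtain ⟨n, rfl⟩ : ∃ n : W ⟶ N, p = lift n x' :=
          ⟨p ≫ fst N X, by rw [← hp2]; exact Groth.Agent.BalLib.lift_fst_snd_self p⟩
        rw [AlgGrp.Action.lift_restrict_act, hx] at hp1
        have hn : n = hker.lift g (toUnit W) hg1 := by
          rw [← cancel_mono iN, hker.lift_fst]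
          exact Groth.Agent.BalLib.act_left_inj hcart hp1
        rw [hn]
  haveI : IsReduced Q.left := Groth.Agent.GrpSchLib.isReduced_of_isAlgClosed Q
  haveI : IsAffineHom q.left := isAffineHom_of_isAffine q.left
  haveI : Flat q.left := Groth.Agent.GrpSchLib.flat_of_surjective_hom q
  haveI : IsIso (ι[Q]).left := inferInstanceAs (IsIso ((Over.forget _).map ι[Q]))
  let m : G ⟶ Q := q ≫ ι[Q]
  haveI : Flat m.left := inferInstanceAs (Flat (q.left ≫ (ι[Q]).left))
  haveI : Surjective m.left := inferInstanceAs (Surjective (q.left ≫ (ι[Q]).left))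
  haveI : QuasiCompact m.left := inferInstanceAs (QuasiCompact (q.left ≫ (ι[Q]).left))
  have sqm : IsPullback (X ◁ m).left (snd X G).left (snd X Q).left m.left :=
    (AlgSt.isPullback_whiskerLeft (G := X) m).map (Over.forget _)
  have sqx : IsPullback qx.left (fst X Q).left r.left φ.left := sq.map (Over.forget _)
  haveI : Flat (X ◁ m).left := MorphismProperty.of_isPullback (P := @Flat) sqm.flip ‹_›
  haveI : Surjective (X ◁ m).left := MorphismProperty.of_isPullback (P := @Surjective) sqm.flip ‹_›
  haveI : QuasiCompact (X ◁ m).left := MorphismProperty.of_isPullback (P := @QuasiCompact) sqm.flip ‹_›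
  haveI : Flat qx.left := MorphismProperty.of_isPullback (P := @Flat) sqx.flip ‹_›
  haveI : Surjective qx.left := MorphismProperty.of_isPullback (P := @Surjective) sqx.flip ‹_›
  haveI : QuasiCompact qx.left := MorphismProperty.of_isPullback (P := @QuasiCompact) sqx.flip inferInstance
  have hψloc : NonAbH1.IsLocallyTrivialFor Scheme.fpqcPrecoverage (Over.mk ψ.left : Over X'.left) := by
    refine ⟨Presieve.singleton ((X ◁ m).left ≫ qx.left), ((X ◁ m).left ≫ qx.left).singleton_mem_fpqcPrecoverage,
      fun S' f hf => ?_⟩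
    cases hf
    refine ⟨(lift (snd X G)⁻¹ (fst X G) ≫ a.act).left, ?_⟩
    show (lift (snd X G)⁻¹ (fst X G) ≫ a.act).left ≫ ψ.left = (X ◁ m).left ≫ qx.left
    rw [← Over.comp_left, ← Over.comp_left]
    refine congrArg CommaMorphism.left ?_
    rw [hψ, show X ◁ m = lift (fst X G) (snd X G ≫ q)⁻¹ by
      rw [Hom.inv_def]; ext <;> simp [m]]
    have e := hinv (X ⊗ G) (snd X G)⁻¹ (fst X G) ((snd X G ≫ q)⁻¹)
    rw [show ((snd X G)⁻¹ ≫ q : X ⊗ G ⟶ Q) = (snd X G ≫ q)⁻¹ by
      rw [GrpObj.inv_comp], mul_inv_cancel] at e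
    exact e
  have hZψ := hN X X' (a.restrict iN) ψ hcartN hψloc
  have := locallyTrivial_comp ψ.left r.left hZψ hZr
  rwa [← Over.comp_left, hψr] at this

end Groth.Agent.S20008
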