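import Groth.Statements.S2001
import Groth.Agent.EtGlue7.Basic
-- import your own Groth.Agent.* helpers here

set_option autoImplicit false
universe u
open TensorProduct
open EtAlg

namespace Groth.Agent.S2001

/-- Let (R -> R', f) be a glueing pair and M, N R-modules glueable for it. Given an R'-linear map φ' :
R' ⊗_R M -> R' ⊗_R N and an R-linear map φ₁ : M_f -> N_f which induce the same map into (R' ⊗_R N)_f
on elements of M, there is a unique R-linear map ψ : M -> N whose base change to R' is φ' and whose
localization is φ₁. -/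
theorem result (R R' : Type u) [CommRing R] [CommRing R'] [Algebra R R'] (f : R)
    (hRR : EtGlue.IsGlueingPair R R' f) (M N : Type u) [AddCommGroup M] [Module R M] [AddCommGroup N] [Module R N]
    (hM : EtGlue.IsGlueable R R' f M) (hN : EtGlue.IsGlueable R R' f N)
    (φ' : R' ⊗[R] M →ₗ[R'] R' ⊗[R] N)
    (φ₁ : LocalizedModule (Submonoid.powers f) M →ₗ[R] LocalizedModule (Submonoid.powers f) N)
    (hc : ∀ m : M, EtGlue.locOfTensor R R' f N (φ' ((1 : R') ⊗ₜ[R] m)) =
      EtGlue.tensorOfLoc R R' f N (φ₁ (LocalizedModule.mkLinearMap (Submonoid.powers f) M m))) :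
    ∃! ψ : M →ₗ[R] N, ψ.baseChange R' = φ' ∧
      IsLocalizedModule.map (Submonoid.powers f) (LocalizedModule.mkLinearMap (Submonoid.powers f) M)
        (LocalizedModule.mkLinearMap (Submonoid.powers f) N) ψ = φ₁ := by
  exact Groth.Agent.EtGlue7.existsUnique_glue_hom hRR.1 M N hN φ' φ₁ hc

end Groth.Agent.S2001
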