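import Groth.Statements.S20010
import Mathlib.AlgebraicGeometry.AffineTransitionLimit


set_option autoImplicit false
universe u
open CategoryTheory CategoryTheory.Limits AlgebraicGeometry TopologicalSpace
open ModPair

namespace Groth.Agent.S20010

/-- Let (X_i) be a cofiltered system of schemes with affine transition morphisms such that X_{i₀} is
quasi-compact and quasi-separated for some index i₀, let X be its limit, and let {U_a ⟶ X} be a
family of quasi-compact open immersions (open immersions of finite presentation) which is jointly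
surjective (a covering family for the Zariski class). Then the covering descends: for some index i
there is a finite jointly surjective family {V_j ⟶ X_i}_{j < n} of quasi-compact open immersions
such that every V_j ×_{X_i} X is one of the U_a, i.e. for each j some U_{a_j} ⟶ X is the base change
of V_j ⟶ X_i along X ⟶ X_i. -/
theorem result {I : Type u} [SmallCategory I] [IsCofiltered I]
    (D : I ⥤ Scheme.{u}) (c : Cone D) (hc : IsLimit c)
    [∀ (i j : I) (t : i ⟶ j), IsAffineHom (D.map t)] (i₀ : I) [CompactSpace (D.obj i₀)]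
    [QuasiSeparatedSpace (D.obj i₀)] {ι : Type u} (U : ι → Scheme.{u}) (u : ∀ a, U a ⟶ c.pt)
    [∀ a, IsOpenImmersion (u a)] [∀ a, QuasiCompact (u a)] (hcov : ∀ x : c.pt, ∃ (a : ι) (y : U a), (u a).base y = x) :
    ∃ (i : I) (n : ℕ) (V : Fin n → Scheme.{u}) (v : ∀ j, V j ⟶ D.obj i) (a : Fin n → ι)
      (e : ∀ j, U (a j) ⟶ V j),
      (∀ j, IsOpenImmersion (v j) ∧ QuasiCompact (v j)) ∧
      (∀ x : D.obj i, ∃ (j : Fin n) (y : V j), (v j).base y = x) ∧
      ∀ j, IsPullback (e j) (u (a j)) (v j) (c.π.app i) := by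
  classical
  -- restrict the diagram to the cofinal category over i₀
  let D' : Over i₀ ⥤ Scheme.{u} := CategoryTheory.Over.forget i₀ ⋙ D
  let c' : Cone D' := c.whisker (CategoryTheory.Over.forget i₀)
  have hc' : IsLimit c' := (Functor.Initial.isLimitWhiskerEquiv (CategoryTheory.Over.forget i₀) c).symm hc
  haveI hmap : ∀ {a b : I} (t : a ⟶ b), IsAffineHom (D.map t) := fun t => inferInstance
  haveI haff : ∀ {p q : Over i₀} (f : p ⟶ q), IsAffineHom (D'.map f) := fun {p q} f =>
    (inferInstance : IsAffineHom (D.map f.left))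
  haveI hcpt : ∀ p : Over i₀, CompactSpace (D'.obj p) := fun p =>
    let q : p.left ⟶ i₀ := p.hom
    haveI : IsAffineHom (D.map q) := hmap q
    have h : CompactSpace (D.obj p.left) := QuasiCompact.compactSpace_of_compactSpace (D.map q)
    h
  haveI hqs : ∀ p : Over i₀, QuasiSeparatedSpace (D'.obj p) := fun p =>
    let q : p.left ⟶ i₀ := p.hom
    haveI : IsAffineHom (D.map q) := hmap q
    have h : QuasiSeparatedSpace (D.obj p.left) := quasiSeparatedSpace_of_quasiSeparated (D.map q)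
    h
  haveI : CompactSpace c.pt := Scheme.compactSpace_of_isLimit D' c' hc'
  let W : ι → c.pt.Opens := fun a => (u a).opensRange
  obtain ⟨s, hs⟩ := isCompact_univ.elim_finite_subcover (fun a => (W a : Set c.pt)) (fun a => (W a).isOpen)
    (fun x _ => by
      obtain ⟨a, y, rfl⟩ := hcov x
      exact Set.mem_iUnion.2 ⟨a, ⟨y, rfl⟩⟩)
  have hW : ∀ a, IsCompact (W a : Set c.pt) := fun a => by
    haveI : CompactSpace (U a) := QuasiCompact.compactSpace_of_compactSpace (u a)
    exact isCompact_range (u a).continuous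
  choose p V hV hVU using fun a : s => exists_preimage_eq D' c' hc' (W a.1) (hW a.1)
  obtain ⟨i, fi⟩ := IsCofiltered.inf_objs_exists (Finset.univ.image p)
  replace fi : ∀ a, i ⟶ p a := fun a => (fi (by simp)).some
  have htop : c'.π.app i ⁻¹ᵁ (⨆ a, D'.map (fi a) ⁻¹ᵁ V a) = ⊤ := by
    refine top_le_iff.1 fun x _ => ?_
    obtain ⟨a, ha, hx⟩ := Set.mem_iUnion₂.1 (hs (Set.mem_univ x))
    rw [Scheme.Hom.preimage_iSup]
    refine TopologicalSpace.Opens.mem_iSup.2 ⟨⟨a, ha⟩, ?_⟩
    rw [← Scheme.Hom.comp_preimage, c'.w, hVU]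
    exact hx
  obtain ⟨j, fj, hj⟩ := exists_map_eq_top D' c' hc' _ htop
  let Vj : s → (D'.obj j).Opens := fun a => D'.map (fj ≫ fi a) ⁻¹ᵁ V a
  let e : Fin s.card ≃ s := s.equivFin.symm
  have hpre : ∀ a : s, c'.π.app j ⁻¹ᵁ Vj a = (u a.1).opensRange := fun a => by
    rw [← Scheme.Hom.comp_preimage, c'.w]
    exact hVU a
  have hlift : ∀ a : s, Set.range (u a.1 ≫ c'.π.app j).base ⊆ Set.range (Vj a).ι.base := by
    rintro a _ ⟨y, rfl⟩
    rw [Scheme.Opens.range_ι]
    show u a.1 y ∈ c'.π.app j ⁻¹ᵁ Vj a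
    rw [hpre a]
    exact ⟨y, rfl⟩
  have hoi : ∀ a : s, IsOpenImmersion (Vj a).ι := fun a => inferInstance
  refine ⟨j.left, s.card, fun m => (Vj (e m) : Scheme.{u}), fun m => (Vj (e m)).ι, fun m => (e m).1,
    fun m => IsOpenImmersion.lift (Vj (e m)).ι (u (e m).1 ≫ c'.π.app j) (hlift (e m)), fun m => ⟨?_, ?_⟩,
    fun x => ?_, fun m => ?_⟩
  · exact hoi (e m)
  · refine ⟨fun O hO hOc => ?_⟩
    suffices h : ∀ O' : Set (D'.obj j), IsOpen O' → IsCompact O' → IsCompact ((Vj (e m)).ι.base ⁻¹' O') from h O hO hOc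
    intro O hO hOc
    have hVc : IsCompact (Vj (e m) : Set (D'.obj j)) :=
      QuasiCompact.isCompact_preimage (f := D'.map (fj ≫ fi (e m))) _ (V (e m)).isOpen (hV (e m))
    rw [(Vj (e m)).ι.isOpenEmbedding.isInducing.isCompact_iff, Set.image_preimage_eq_inter_range, Scheme.Opens.range_ι]
    exact QuasiSeparatedSpace.inter_isCompact O _ hO hOc (Vj (e m)).isOpen hVc
  · have hx : x ∈ D'.map fj ⁻¹ᵁ (⨆ a, D'.map (fi a) ⁻¹ᵁ V a) := by rw [hj]; trivial
    rw [Scheme.Hom.preimage_iSup] at hx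
    obtain ⟨a, ha⟩ := TopologicalSpace.Opens.mem_iSup.1 hx
    refine ⟨e.symm a, ⟨x, ?_⟩, rfl⟩
    rw [Equiv.apply_symm_apply]
    show x ∈ D'.map (fj ≫ fi a) ⁻¹ᵁ V a
    rw [D'.map_comp, Scheme.Hom.comp_preimage]
    exact ha
  · refine @IsOpenImmersion.isPullback _ _ _ _ _ _ _ _ (inferInstance) (hoi (e m)) (@IsOpenImmersion.lift_fac _ _ _ _ _ (hoi (e m)) _).symm ?_
    refine Eq.trans ?_ (hpre (e m))
    exact congrArg (fun O => c'.π.app j ⁻¹ᵁ O) (Scheme.Opens.opensRange_ι (Vj (e m)))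

end Groth.Agent.S20010
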