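import Groth.Statements.S20012
import Groth.Agent.Approx.FP
import Groth.Agent.ModDesc.Divisor
-- import your own Groth.Agent.* helpers here

set_option autoImplicit false
universe u
open CategoryTheory CategoryTheory.Limits AlgebraicGeometry TopologicalSpace
open ModPair

namespace Groth.Agent.S20012

/-- Let (S, I_S) be a modulus pair — a scheme with the quasi-coherent ideal sheaf of an effective
Cartier divisor — with S quasi-compact and quasi-separated, and let (X, I_X) be a modulus pair with
an ambient morphism f : X ⟶ S (modulus condition I_X ≤ I_S.comap f) which is quasi-compact and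
separated. Then (X, I_X) is a limit of finite-type S-pairs along affine, minimal,
scheme-theoretically dominant transitions: there are a cofiltered system D of S-schemes with limit X
(as an S-scheme) and quasi-coherent ideal sheaves J_i of effective Cartier divisors on its members
such that every X_i ⟶ S is separated and of finite type and satisfies the modulus condition J_i ≥
I_S pulled back, every transition morphism is affine, minimal (J_i is the pull-back of J_j) and
scheme-theoretically dominant, and I_X is the pull-back of J_i along the projection for every i.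
(The full faithfulness half of the published statement is the hom formula for such systems and is
not part of this row.) -/
theorem result
    {X S : Scheme.{u}} [CompactSpace S] [QuasiSeparatedSpace S]
    (IS : S.IdealSheafData) (hS : BlowUp.IsEffCartierIdeal IS)
    (IX : X.IdealSheafData) (hX : BlowUp.IsEffCartierIdeal IX)
    (f : X ⟶ S) [QuasiCompact f] [IsSeparated f] (hf : ModPair.IsAmbient IX IS f) :
    ∃ (I : Type u) (_ : SmallCategory I) (_ : IsCofiltered I) (D : I ⥤ Over S) (c : Cone D)
      (_ : IsLimit c) (e : c.pt ≅ Over.mk f) (J : ∀ i, (D.obj i).left.IdealSheafData),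
      (∀ i, BlowUp.IsEffCartierIdeal (J i)) ∧
      (∀ i, LocallyOfFiniteType (D.obj i).hom ∧ QuasiCompact (D.obj i).hom ∧ IsSeparated (D.obj i).hom) ∧
      (∀ i, ModPair.IsAmbient (J i) IS (D.obj i).hom) ∧
      (∀ (i j : I) (t : i ⟶ j), IsAffineHom (D.map t).left ∧ ModPair.IsMinimal (J i) (J j) (D.map t).left ∧
          IsSchemeTheoreticallyDominant (D.map t).left) ∧
      (∀ i, IX = (J i).comap (e.inv.left ≫ (c.π.app i).left)) := by
  classical
  haveI : CompactSpace X := QuasiCompact.compactSpace_of_compactSpace f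
  haveI : QuasiSeparatedSpace X := quasiSeparatedSpace_of_quasiSeparated f
  obtain ⟨σ⟩ := Groth.Agent.Approx.nonempty_setup f
  obtain ⟨p, hp⟩ := σ.eventually_separated
  haveI := hp p le_rfl
  -- the system of subalgebras over an approximation
  let g : X ⟶ σ.Y p := σ.yProj p
  let P := Groth.Agent.Approx.Idx g
  let D₀ : Pᵒᵖ ⥤ Scheme.{u} := Groth.Agent.Approx.system g ⋙ CategoryTheory.Over.forget _
  let c₀ : Cone D₀ := (CategoryTheory.Over.forget _).mapCone (Groth.Agent.Approx.cone g)
  obtain ⟨hcone⟩ := Groth.Agent.Approx.nonempty_isLimit g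
  haveI : IsConnected Pᵒᵖ := IsCofiltered.isConnected _
  have hc₀ : IsLimit c₀ := isLimitOfPreserves _ hcone
  haveI : ∀ {a b : Pᵒᵖ} (t : a ⟶ b), IsAffineHom (D₀.map t) := fun t =>
    Groth.Agent.Approx.isAffineHom_map g t
  haveI : ∀ a, CompactSpace (D₀.obj a) := fun a =>
    (QuasiCompact.compactSpace_of_compactSpace (Groth.Agent.Approx.alg g a.unop).π :
      CompactSpace (Groth.Agent.Approx.alg g a.unop).spec)
  haveI : ∀ a, QuasiSeparatedSpace (D₀.obj a) := fun a =>
    (quasiSeparatedSpace_of_quasiSeparated (Groth.Agent.Approx.alg g a.unop).π :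
      QuasiSeparatedSpace (Groth.Agent.Approx.alg g a.unop).spec)
  have hdom : ∀ a, IsSchemeTheoreticallyDominant (c₀.π.app a) := fun a =>
    Groth.Agent.Approx.isSchemeTheoreticallyDominant_proj g a.unop
  -- the modulus at a stage
  obtain ⟨i₀, J₀, hJ₀X, hJ₀⟩ := Groth.Agent.ModDesc.exists_descend_effCartier hc₀ hdom IX hX
  have hJfg : Groth.Agent.MorLib.IdealFG.IsFG J₀ := fun U =>
    Groth.Agent.MorLib.IdealFG.fg_of_cover _ U fun x _ => by
      have h := hJ₀ (𝟙 i₀)
      rw [D₀.map_id, Scheme.IdealSheafData.comap_id] at h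
      obtain ⟨V, hx, a, -, ha'⟩ := h x
      exact ⟨V, hx, ha'.symm ▸ Submodule.fg_span_singleton a⟩
  let t₀ : ∀ a : Pᵒᵖ, D₀.obj a ⟶ S := fun a => (Groth.Agent.Approx.alg g a.unop).π ≫ σ.yS p
  have ht₀ : ∀ a, c₀.π.app a ≫ t₀ a = f := fun a => by
    show Groth.Agent.Approx.proj g a.unop ≫ (Groth.Agent.Approx.alg g a.unop).π ≫ σ.yS p = f
    rw [← Category.assoc, Groth.Agent.Approx.proj_π]
    exact σ.yProj_snd p
  have htw : ∀ {a b : Pᵒᵖ} (u : a ⟶ b), D₀.map u ≫ t₀ b = t₀ a := fun {a b} u => by
    show Groth.Agent.Approx.trans g u.unop.le ≫ (Groth.Agent.Approx.alg g b.unop).π ≫ σ.yS p = _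
    rw [← Category.assoc, Groth.Agent.Approx.trans_π]
    rfl
  have hle : J₀.comap (c₀.π.app i₀) ≤ (IS.comap (t₀ i₀)).comap (c₀.π.app i₀) := by
    rw [hJ₀X, ← Scheme.IdealSheafData.comap_comp, ht₀]
    exact hf
  obtain ⟨i₁, u₁, hu₁⟩ := Groth.Agent.ModDesc.exists_comap_le hc₀ J₀ _ hJfg hle
  -- pass to the stages above
  let T := Groth.Agent.Approx.Tail i₁.unop
  let F : Tᵒᵖ ⥤ Pᵒᵖ := (Groth.Agent.Approx.tailVal_mono i₁.unop).functor.op
  haveI : (Groth.Agent.Approx.tailVal_mono i₁.unop).functor.Final := Groth.Agent.Approx.tail_final _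
  haveI : IsConnected Tᵒᵖ := IsCofiltered.isConnected _
  let D : Tᵒᵖ ⥤ CategoryTheory.Over S := F ⋙ Groth.Agent.Approx.system g ⋙ CategoryTheory.Over.map (σ.yS p)
  let c : Cone D :=
    { pt := CategoryTheory.Over.mk f
      π :=
        { app := fun a => CategoryTheory.Over.homMk (c₀.π.app (F.obj a)) (ht₀ _)
          naturality := fun a b u => by
            refine CategoryTheory.Over.OverMorphism.ext ?_
            exact (c₀.π.naturality (F.map u)) } }
  have hc' : IsLimit ((CategoryTheory.Over.forget S).mapCone c) := by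
    refine ((Functor.Initial.isLimitWhiskerEquiv F c₀).symm hc₀).ofIsoLimit (Cone.ext (Iso.refl _) fun a => ?_)
    exact (Category.id_comp _).symm
  have hc : IsLimit c := isLimitOfReflects (CategoryTheory.Over.forget S) hc'
  let toi : ∀ a : Tᵒᵖ, F.obj a ⟶ i₀ := fun a => (homOfLE a.unop.2).op ≫ u₁
  let J : ∀ a : Tᵒᵖ, (D.obj a).left.IdealSheafData := fun a => J₀.comap (D₀.map (toi a))
  refine ⟨Tᵒᵖ, inferInstance, inferInstance, D, c, hc, Iso.refl _, J, fun a => hJ₀ (toi a), fun a => ?_,
    fun a => ?_, fun a b u => ?_, fun a => ?_⟩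
  · haveI : IsAffineHom (Groth.Agent.Approx.alg g (F.obj a).unop).π :=
      Groth.Agent.Approx.isAffineHom_system g (F.obj a)
    haveI := Groth.Agent.Approx.locallyOfFiniteType_π g (F.obj a).unop
    haveI : LocallyOfFiniteType (σ.yS p) := inferInstance
    show LocallyOfFiniteType (t₀ (F.obj a)) ∧ QuasiCompact (t₀ (F.obj a)) ∧ IsSeparated (t₀ (F.obj a))
    exact ⟨MorphismProperty.comp_mem @LocallyOfFiniteType _ _
        (Groth.Agent.Approx.locallyOfFiniteType_π g (F.obj a).unop) inferInstance,
      MorphismProperty.comp_mem @QuasiCompact _ _ inferInstance inferInstance,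
      MorphismProperty.comp_mem @IsSeparated _ _ (@IsSeparated.of_isAffineHom _ _ _ (Groth.Agent.Approx.isAffineHom_system g (F.obj a))) inferInstance⟩
  · show J₀.comap (D₀.map (toi a)) ≤ IS.comap (t₀ (F.obj a))
    let v : F.obj a ⟶ i₁ := (homOfLE a.unop.2).op
    show J₀.comap (D₀.map (v ≫ u₁)) ≤ _
    rw [D₀.map_comp, Scheme.IdealSheafData.comap_comp]
    refine (Scheme.IdealSheafData.comap_mono _ hu₁).trans_eq ?_
    dsimp only
    rw [← Scheme.IdealSheafData.comap_comp, ← Scheme.IdealSheafData.comap_comp, ← D₀.map_comp]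
    exact congrArg IS.comap (htw _)
  · refine ⟨inferInstanceAs (IsAffineHom (D₀.map (F.map u))), ?_, ?_⟩
    · show J₀.comap (D₀.map (toi a)) = (J₀.comap (D₀.map (toi b))).comap (D₀.map (F.map u))
      rw [← Scheme.IdealSheafData.comap_comp, ← D₀.map_comp, Subsingleton.elim (toi a) (F.map u ≫ toi b)]
    · show IsSchemeTheoreticallyDominant (D₀.map (F.map u))
      haveI := hdom (F.obj a)
      haveI := hdom (F.obj b)
      refine ⟨le_bot_iff.1 ?_⟩
      calc (D₀.map (F.map u)).ker ≤ (c₀.π.app (F.obj a) ≫ D₀.map (F.map u)).ker :=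
            Scheme.Hom.le_ker_comp _ _
        _ = ⊥ := by rw [c₀.w]; exact (c₀.π.app (F.obj b)).ker_eq_bot
  · show IX = (J₀.comap (D₀.map (toi a))).comap (𝟙 X ≫ c₀.π.app (F.obj a))
    erw [Category.id_comp, ← Scheme.IdealSheafData.comap_comp, c₀.w, hJ₀X]

end Groth.Agent.S20012
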