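import Groth.Statements.S20014
import Groth.Agent.S9821
import Groth.Agent.S2102
import Groth.Agent.H23.GeomConnGamma
import Groth.Agent.CurveEmbed.Equiv
-- import your own Groth.Agent.* helpers here

set_option autoImplicit false
universe u
open CategoryTheory CategoryTheory.Limits AlgebraicGeometry
open RatSing

namespace Groth.Agent.S20014

/-- Let k be a field, X an integral k-scheme which is separated and of finite type over k, and f : X̃ →
X a proper morphism of k-schemes which is birational — an isomorphism over some nonempty open subset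
of X — and for which O_X → f_*O_X̃ is an isomorphism (Γ(V, O_X) → Γ(f⁻¹V, O_X̃) bijective for every
open V of X). If X̃ is normal (every local ring an integrally closed domain), then X is normal. (In
the text this is the last clause of a lemma whose other hypotheses — X̃ Cohen–Macaulay, vanishing of
the higher direct images of O_X̃ and of the dualizing sheaf — and whose standing assumption that k
is perfect of positive characteristic play no role in this clause; they are omitted here.) -/
theorem result (k : Type u) [Field k]
    (X Xt : Scheme.{u}) [X.Over (Spec (CommRingCat.of k))] [Xt.Over (Spec (CommRingCat.of k))]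
    [IsIntegral X] [IsSeparated (X ↘ Spec (CommRingCat.of k))]
    [LocallyOfFiniteType (X ↘ Spec (CommRingCat.of k))] [QuasiCompact (X ↘ Spec (CommRingCat.of k))]
    (f : Xt ⟶ X) (hf : f ≫ (X ↘ Spec (CommRingCat.of k)) = Xt ↘ Spec (CommRingCat.of k)) [IsProper f]
    (U : X.Opens) (hU : (U : Set X).Nonempty) (hbir : IsIso (f ∣_ U))
    (hfib : ∀ V : X.Opens, IsIso (f.app V))
    (hXt : Pi1.IsNormalScheme Xt) : Pi1.IsNormalScheme X := by
  rw [Groth.Agent.S9821.result X |>.eq]
  intro V _ hV
  let W : Scheme.{u} := (f ⁻¹ᵁ V : Xt.Opens)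
  let e : Γ(X, V) ≃+* Γ(W, ⊤) :=
    (asIso (f.app V) ≪≫ (f ⁻¹ᵁ V).topIso.symm).commRingCatIsoToRingEquiv
  haveI : IsLocallyNoetherian X := LocallyOfFiniteType.isLocallyNoetherian (X ↘ Spec (CommRingCat.of k))
  haveI : IsNoetherian W := by
    haveI : IsNoetherianRing Γ(X, V) := IsLocallyNoetherian.component_noetherian ⟨V, hV⟩
    haveI : IsAffine (V : Scheme.{u}) := hV
    haveI : IsLocallyNoetherian W := LocallyOfFiniteType.isLocallyNoetherian (f ∣_ V)
    haveI : CompactSpace W := by
      have : QuasiCompact (f ∣_ V) := inferInstance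
      exact (QuasiCompact.compactSpace_of_compactSpace (f ∣_ V) :)
    exact {}
  haveI : IsDomain Γ(W, ⊤) := MulEquiv.isDomain Γ(X, V) e.symm.toMulEquiv
  haveI : ConnectedSpace W := Groth.Agent.H23.GeomConnGamma.connectedSpace_of_idem fun a ha =>
    IsIdempotentElem.iff_eq_zero_or_one.1 ha
  have hW : Pi1.IsNormalScheme W := fun w => by
    have h := hXt ((f ⁻¹ᵁ V).ι w)
    haveI := h.1
    haveI := h.2
    let e' := (asIso ((f ⁻¹ᵁ V).ι.stalkMap w)).commRingCatIsoToRingEquiv
    exact ⟨MulEquiv.isDomain _ e'.symm.toMulEquiv, IsIntegrallyClosed.of_equiv e'⟩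
  haveI : AlgebraicGeometry.IsIntegral W := Groth.Agent.CurveEmbed.isIntegral_of_normal_connected hW
  haveI := Groth.Agent.S2102.result W hW
  exact IsIntegrallyClosed.of_equiv e.symm

end Groth.Agent.S20014
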