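import Groth.Statements.S20015
import Groth.Agent.LC.LiaisonLink

set_option autoImplicit false
universe u
open Liaison

namespace Groth.Agent.S20015

/-- Let K be a field, R = K[x_0, …, x_n] graded by degree, c ≥ 2, 𝔠 ⊂ R a homogeneous ideal of height c
such that R/𝔠 is a Gorenstein ring, and I, J ⊂ R homogeneous ideals directly linked by 𝔠, that is 𝔠
: I = J and 𝔠 : J = I. Then R/I is a Cohen–Macaulay ring if and only if R/J is a Cohen–Macaulay
ring: of two directly linked subschemes of projective space one is arithmetically Cohen–Macaulay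
exactly when the other is. (A Gorenstein ideal of the notes, one whose quotient is Cohen–Macaulay
with last graded Betti number 1, is rendered as: the quotient ring is Gorenstein; the statement is
given at the level of homogeneous ideals, as the notes define linkage.) -/
theorem result (K : Type u) [Field K] (n c : ℕ) (hc : 2 ≤ c)
    (𝔠 I J : Ideal (MvPolynomial (Fin (n + 1)) K))
    (h𝔠 : 𝔠.IsHomogeneous (GrSyz.stdGr K (Fin (n + 1)))) (hI : I.IsHomogeneous (GrSyz.stdGr K (Fin (n + 1))))
    (hJ : J.IsHomogeneous (GrSyz.stdGr K (Fin (n + 1))))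
    [LocCoh.IsGorensteinRing (MvPolynomial (Fin (n + 1)) K ⧸ 𝔠)] (h𝔠c : 𝔠.height = c)
    (hIJ : 𝔠.colon (I : Set (MvPolynomial (Fin (n + 1)) K)) = J) (hJI : 𝔠.colon (J : Set (MvPolynomial (Fin (n + 1)) K)) = I) :
    LocCoh.IsCohenMacaulayRing (MvPolynomial (Fin (n + 1)) K ⧸ I) ↔ LocCoh.IsCohenMacaulayRing (MvPolynomial (Fin (n + 1)) K ⧸ J) := by
  exact ⟨Groth.Agent.LC.Liaison.isCMRing_iff_of_colon hIJ hJI, Groth.Agent.LC.Liaison.isCMRing_iff_of_colon hJI hIJ⟩

end Groth.Agent.S20015
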