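import Groth.Statements.S20016
import Groth.Agent.ModPairLib.Dense
import Groth.Agent.IntClosureEt13.Alg

set_option autoImplicit false
universe u
open CategoryTheory AlgebraicGeometry TopologicalSpace Opposite
open ModPair

namespace Groth.Agent.S20016

set_option linter.style.haveILetI false
set_option maxHeartbeats 800000

open scoped TensorProduct in
/-- Integral closedness in a localization passes to smooth algebras. -/
theorem mem_range_of_smooth {R S : Type u} [CommRing R] [CommRing S] [Algebra R S] [Algebra.Smooth R S] (f : R)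
    {B : Type u} [CommRing B] [Algebra R B] [IsLocalization.Away f B] {C : Type u} [CommRing C] [Algebra S C]
    [IsLocalization.Away (algebraMap R S f) C] (h : ∀ b : B, IsIntegral R b → b ∈ Set.range (algebraMap R B)) {y : C}
    (hy : IsIntegral S y) : y ∈ Set.range (algebraMap S C) := by
  letI : Algebra R C := ((algebraMap S C).comp (algebraMap R S)).toAlgebra
  haveI : IsScalarTower R S C := IsScalarTower.of_algebraMap_eq fun _ => rfl
  let ψ : B →ₐ[R] C := IsLocalization.liftAlgHom (M := Submonoid.powers f) (f := Algebra.ofId R C) (by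
    rintro ⟨_, n, rfl⟩
    simp only [Algebra.ofId_apply, map_pow]
    refine IsUnit.pow _ ?_
    rw [IsScalarTower.algebraMap_apply R S C]
    exact IsLocalization.Away.algebraMap_isUnit _)
  let Ψ : S ⊗[R] B →ₐ[S] C :=
    Algebra.TensorProduct.lift (Algebra.ofId S C) ψ fun _ _ => Commute.all _ _
  have hΨ : Function.Bijective Ψ := by
    haveI : IsLocalization.Away (algebraMap R S f) (S ⊗[R] B) := inferInstance
    have e : Ψ = (IsLocalization.algEquiv (Submonoid.powers (algebraMap R S f)) (S ⊗[R] B) C).toAlgHom :=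
      AlgHom.coe_ringHom_injective (IsLocalization.ringHom_ext (Submonoid.powers (algebraMap R S f)) (by
        ext x
        exact (Ψ.commutes x).trans
          ((IsLocalization.algEquiv (Submonoid.powers (algebraMap R S f)) (S ⊗[R] B) C).commutes x).symm))
    rw [e]
    exact AlgEquiv.bijective _
  obtain ⟨z, rfl⟩ := IntClosureEt13.exists_preimage_of_isIntegral Ψ hΨ hy
  clear hy
  induction z using TensorProduct.induction_on with
  | zero => exact ⟨0, by simp⟩
  | add a b ha hb =>
    obtain ⟨a', ha'⟩ := ha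
    obtain ⟨b', hb'⟩ := hb
    exact ⟨a' + b', by rw [map_add, map_add, map_add, ha', hb']⟩
  | tmul a b =>
    obtain ⟨r, hr⟩ := h b.1 b.2
    refine ⟨a * algebraMap R S r, ?_⟩
    simp only [Algebra.TensorProduct.map_tmul, AlgHom.coe_id, id_eq, Subalgebra.coe_val, Ψ,
      Algebra.TensorProduct.lift_tmul, Algebra.ofId_apply, map_mul]
    rw [← hr, ψ.commutes, ← IsScalarTower.algebraMap_apply R S C]

theorem res_res (Y : Scheme.{u}) {A B C : Y.Opens} (h : B ≤ A) (h' : C ≤ B) (x : Γ(Y, A)) :
    Y.presheaf.map (homOfLE h').op (Y.presheaf.map (homOfLE h).op x) = Y.presheaf.map (homOfLE (h'.trans h)).op x := by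
  rw [← ConcreteCategory.comp_apply, ← Functor.map_comp]
  rfl

/-- Sections are determined on the trace of a scheme theoretically dense open. -/
theorem eq_of_res_eq {Y : Scheme.{u}} (G : Y.Opens) [IsSchemeTheoreticallyDominant G.ι] [QuasiCompact G.ι]
    {W W' : Y.Opens} (h : W' ≤ W) (hW' : W ⊓ G ≤ W') {a b : Γ(Y, W)}
    (e : Y.presheaf.map (homOfLE h).op a = Y.presheaf.map (homOfLE h).op b) : a = b := by
  refine G.ι.app_injective W ?_
  have e' := congrArg (Y.presheaf.map (homOfLE (show G.ι ''ᵁ G.ι ⁻¹ᵁ W ≤ W' from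
    le_trans (by rw [G.ι.image_preimage_eq_opensRange_inf, Scheme.Opens.opensRange_ι, inf_comm]) hW')).op) e
  rw [res_res, res_res] at e'
  simp only [Scheme.Opens.ι_app]
  exact e'


/-- Let (X, I_X) be a modulus pair — a scheme X with the quasi-coherent ideal sheaf I_X of an effective
Cartier divisor — with interior X° (the open complement of the support of I_X), and suppose O_X is
integrally closed in O_{X°}: for every affine open U of X, every section of O_X over U ∩ X° which is
integral over Γ(U, O_X) along the restriction map is the restriction of a section over U. Let g : Y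
⟶ X be an étale morphism and Y° = g⁻¹(X°). Then O_Y is integrally closed in O_{Y°}: for every affine
open V of Y, every section of O_Y over V ∩ Y° which is integral over Γ(V, O_Y) along the restriction
map is the restriction of a section over V. (The text does not spell out the phrase integrally
closed for sheaves; it is rendered here affine-locally through restriction maps.) -/
theorem result {X Y : Scheme.{u}}
    (IX : X.IdealSheafData) (hX : BlowUp.IsEffCartierIdeal IX)
    (hint : ∀ U ∈ X.affineOpens, ∀ s : Γ(X, U ⊓ ModPair.interior IX),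
      (X.presheaf.map (homOfLE (inf_le_left : U ⊓ ModPair.interior IX ≤ U)).op).hom.IsIntegralElem s →
        s ∈ Set.range (X.presheaf.map (homOfLE (inf_le_left : U ⊓ ModPair.interior IX ≤ U)).op).hom)
    (g : Y ⟶ X) [Etale g] :
    ∀ V ∈ Y.affineOpens, ∀ t : Γ(Y, V ⊓ g ⁻¹ᵁ ModPair.interior IX),
      (Y.presheaf.map (homOfLE (inf_le_left : V ⊓ g ⁻¹ᵁ ModPair.interior IX ≤ V)).op).hom.IsIntegralElem t →
        t ∈ Set.range (Y.presheaf.map (homOfLE (inf_le_left : V ⊓ g ⁻¹ᵁ ModPair.interior IX ≤ V)).op).hom := by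
  intro V hV t ht
  let G : Y.Opens := g ⁻¹ᵁ ModPair.interior IX
  haveI := ModPairLib.isAffineHom_interior (ModPairLib.isLocPrincipal_of_isEffCartier hX)
  haveI := ModPairLib.isSchemeTheoreticallyDominant_interior hX
  haveI : IsSchemeTheoreticallyDominant G.ι :=
    IsSchemeTheoreticallyDominant.of_isPullback (isPullback_morphismRestrict g (ModPair.interior IX))
  haveI : IsAffineHom G.ι := by
    show IsAffineHom (g ⁻¹ᵁ ModPair.interior IX).ι
    rw [ModPairLib.preimage_interior]
    exact ModPairLib.isAffineHom_interior ((ModPairLib.isLocPrincipal_of_isEffCartier hX).comap g)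
  -- local solutions
  have key : ∀ y : V, ∃ (W : Y.Opens) (hW : W ≤ V) (b : Γ(Y, W)), y.1 ∈ W ∧
      Y.presheaf.map (homOfLE (inf_le_left : W ⊓ G ≤ W)).op b =
        Y.presheaf.map (homOfLE (inf_le_inf_right G hW)).op t := by
    intro y
    obtain ⟨U, hxU, f, -, hf⟩ := hX (g y.1)
    have hUf := ModPairLib.interior_inter_eq_basicOpen hf
    obtain ⟨r, hr, hyr⟩ := hV.exists_basicOpen_le (V := g ⁻¹ᵁ U.1) ⟨y.1, hxU⟩ y.2
    have hWV : Y.basicOpen r ≤ V := Y.basicOpen_le r
    have hW := hV.basicOpen r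
    let φ := g.appLE U.1 (Y.basicOpen r) hr
    have hD : Y.basicOpen (φ f) = Y.basicOpen r ⊓ G := by
      rw [Scheme.basicOpen_appLE, ← hUf, Scheme.Hom.preimage_inf, ← inf_assoc, inf_eq_left.2 hr]
    letI : Algebra Γ(X, U.1) Γ(Y, Y.basicOpen r) := φ.hom.toAlgebra
    haveI : Algebra.Etale Γ(X, U.1) Γ(Y, Y.basicOpen r) :=
      HasRingHomProperty.appLE @Etale g inferInstance U ⟨_, hW⟩ hr
    haveI := U.2.isLocalization_basicOpen f
    haveI : IsLocalization.Away (algebraMap Γ(X, U.1) Γ(Y, Y.basicOpen r) f) Γ(Y, Y.basicOpen (φ f)) :=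
      hW.isLocalization_basicOpen (φ f)
    have hB : ∀ (O : X.Opens) (hO : O ≤ U.1), O = U.1 ⊓ ModPair.interior IX → ∀ s : Γ(X, O),
        (X.presheaf.map (homOfLE hO).op).hom.IsIntegralElem s →
          s ∈ Set.range (X.presheaf.map (homOfLE hO).op).hom := by
      rintro O hO rfl
      exact hint U.1 U.2
    let t' : Γ(Y, Y.basicOpen (φ f)) :=
      Y.presheaf.map (homOfLE (hD.le.trans (inf_le_inf_right G hWV))).op t
    have ht' : IsIntegral Γ(Y, Y.basicOpen r) t' := by
      obtain ⟨p, hp, hpt⟩ := ht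
      refine ⟨p.map (Y.presheaf.map (homOfLE hWV).op).hom, hp.map _, ?_⟩
      have h1 := congrArg (Y.presheaf.map (homOfLE (hD.le.trans (inf_le_inf_right G hWV))).op).hom hpt
      rw [map_zero, Polynomial.hom_eval₂] at h1
      rw [Polynomial.eval₂_map]
      refine Eq.trans ?_ h1
      refine congrArg (fun F => Polynomial.eval₂ F t' p) ?_
      ext a
      exact (res_res Y hWV (Y.basicOpen_le (φ f)) a).trans (res_res Y inf_le_left _ a).symm
    obtain ⟨b, hb⟩ := mem_range_of_smooth f (B := Γ(X, X.basicOpen f))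
      (fun s hs => hB _ (X.basicOpen_le f) hUf.symm s hs) ht'
    refine ⟨Y.basicOpen r, hWV, b, hyr, ?_⟩
    have h2 := congrArg (Y.presheaf.map (homOfLE hD.ge).op) hb
    rw [show algebraMap Γ(Y, Y.basicOpen r) Γ(Y, Y.basicOpen (φ f)) b =
      Y.presheaf.map (homOfLE (Y.basicOpen_le (φ f))).op b from rfl, res_res, res_res] at h2
    exact h2
  choose W hWV b hyW hb using key
  have hcompat : TopCat.Presheaf.IsCompatible Y.presheaf W b := by
    intro y z
    refine eq_of_res_eq G (inf_le_left : (W y ⊓ W z) ⊓ G ≤ W y ⊓ W z) le_rfl ?_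
    have h1 := congrArg (Y.presheaf.map (homOfLE (inf_le_inf_right G (inf_le_left : W y ⊓ W z ≤ W y))).op) (hb y)
    have h2 := congrArg (Y.presheaf.map (homOfLE (inf_le_inf_right G (inf_le_right : W y ⊓ W z ≤ W z))).op) (hb z)
    rw [res_res, res_res] at h1 h2
    exact (res_res Y _ _ _).trans (h1.trans (h2.symm.trans (res_res Y _ _ _).symm))
  obtain ⟨s, hs, -⟩ := TopCat.Sheaf.existsUnique_gluing' Y.sheaf W V (fun y => homOfLE (hWV y))
    (fun x hx => Opens.mem_iSup.2 ⟨⟨x, hx⟩, hyW _⟩) b hcompat
  refine ⟨s, ?_⟩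
  refine Y.IsSheaf.section_ext fun x hx => ?_
  refine ⟨W ⟨x, hx.1⟩ ⊓ G, inf_le_inf_right G (hWV _), ⟨hyW _, hx.2⟩, ?_⟩
  have h3 := congrArg (Y.presheaf.map (homOfLE (inf_le_left : W ⟨x, hx.1⟩ ⊓ G ≤ W ⟨x, hx.1⟩)).op) (hs ⟨x, hx.1⟩)
  exact (res_res Y _ _ _).trans ((res_res Y _ _ _).symm.trans (h3.trans (hb _)))

end Groth.Agent.S20016
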