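import Groth.Statements.S20017
import Groth.Agent.CechTorsorX.GenExt
import Groth.Agent.CechTorsorX.H1One
-- import your own Groth.Agent.* helpers here

set_option autoImplicit false
universe u
open CategoryTheory AlgebraicGeometry
open NonAbH1

open CategoryTheory CategoryTheory.Limits MonoidalCategory CartesianMonoidalCategory

namespace Groth.Agent.S20017

/-- Let X be a normal integral scheme (integral, with every local ring integrally closed), G a group
scheme over X whose structure morphism is finite and flat, and U ⊆ X a dense open subscheme. Then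
the restriction map H¹(X, G) → H¹(U, G|_U) on classes of fppf G-torsors — X-schemes with a G-action
which are pseudo-torsors and acquire sections on the members of some fppf covering family, up to
equivariant isomorphism — given by base change along the open immersion U → X, is injective. (G is
not assumed commutative; injectivity is that of a map of pointed sets.) -/
theorem result
    (X : Scheme.{u}) [AlgebraicGeometry.IsIntegral X] (hX : Pi1.IsNormalScheme X)
    (G : Over X) [GrpObj G] [IsFinite G.hom] [Flat G.hom]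
    (U : X.Opens) (hU : Dense (U : Set X)) :
    Function.Injective (NonAbH1.H1Sch.bcMap U.ι G Scheme.fppfPrecoverage) := by
  intro c c'
  induction c using Quot.ind with | _ P => ?_
  induction c' using Quot.ind with | _ Q => ?_
  intro h
  obtain ⟨e⟩ := (Groth.Agent.CechTorsorX.H1One.cl_eq_iff (P.bc U.ι) (Q.bc U.ι)).1 h
  have toFpqc : ∀ {Y : Over X} {b : AlgGrp.Action G Y}, NonAbH1.IsTorsorFor Scheme.fppfPrecoverage b →
      NonAbH1.IsTorsorFor Scheme.fpqcPrecoverage b :=
    fun h => ⟨h.1, h.2.imp fun R hR => ⟨Scheme.fppfPrecoverage_le_fpqcPrecoverage _ hR.1, hR.2⟩⟩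
  have hP := toFpqc P.isTorsor
  have hQ := toFpqc Q.isTorsor
  haveI : MorphismProperty.DescendsAlong @IsFinite (@Surjective ⊓ @Flat ⊓ @QuasiCompact : MorphismProperty Scheme.{u}) :=
    Groth.Agent.EtFound.fpqc_isFinite
  haveI : IsFinite P.X.hom := Groth.Agent.SchTorsor.torsor_property @IsFinite hP inferInstance
  haveI : IsFinite Q.X.hom := Groth.Agent.SchTorsor.torsor_property @IsFinite hQ inferInstance
  haveI : Flat P.X.hom := Groth.Agent.SchTorsor.torsor_property @Flat hP inferInstance
  haveI : Flat Q.X.hom := Groth.Agent.SchTorsor.torsor_property @Flat hQ inferInstance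
  haveI := Groth.Agent.SchTorsor.surjective_hom hP
  haveI := Groth.Agent.SchTorsor.surjective_hom hQ
  have hη : genericPoint X ∈ U := by
    obtain ⟨x, hx⟩ := hU.nonempty
    exact ((genericPoint_spec X).mem_open_set_iff U.isOpen).mpr ⟨x, trivial, hx⟩
  let ηU := U.fromSpecStalkOfMem (genericPoint X) hη
  have hd : ηU ≫ U.ι = X.fromSpecStalk (genericPoint X) := Scheme.Opens.fromSpecStalkOfMem_ι _ _ _
  let cG := ActBC.bcCompIso ηU U.ι G hd
  let cP := ActBC.bcCompIso ηU U.ι P.X hd
  let cQ := ActBC.bcCompIso ηU U.ι Q.X hd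
  let m : Red.bc ηU (Red.bc U.ι P.X) ⟶ Red.bc ηU (Red.bc U.ι Q.X) := (Over.pullback ηU).map e.iso.hom
  let eK := cP.inv ≫ m ≫ cQ.hom
  have he : (P.act.bc (X.fromSpecStalk (genericPoint X))).act ≫ eK =
      (Red.bc (X.fromSpecStalk (genericPoint X)) G ◁ eK) ≫ (Q.act.bc (X.fromSpecStalk (genericPoint X))).act := by
    have hP' := (ActBC.equivIsoBcComp ηU U.ι hd P.act).comm
    have hQ' := (ActBC.equivIsoBcComp ηU U.ι hd Q.act).comm
    have hm : ((P.act.bc U.ι).bc ηU).act ≫ m = (Red.bc ηU (Red.bc U.ι G) ◁ m) ≫ ((Q.act.bc U.ι).bc ηU).act :=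
      AlgGrp.Action.isEquivariant_bc ηU (a := (P.bc U.ι).act) (b := (Q.bc U.ι).act) e.comm
    rw [AlgGrp.Action.restrict_act] at hP' hQ'
    change _ ≫ cP.hom = (_ ◁ cP.hom) ≫ (cG.hom ▷ _) ≫ _ at hP'
    change _ ≫ cQ.hom = (_ ◁ cQ.hom) ≫ (cG.hom ▷ _) ≫ _ at hQ'
    rw [← cancel_epi (cG.hom ▷ _), ← cancel_epi (_ ◁ cP.hom)]
    rw [← reassoc_of% hP']
    simp only [eK, Iso.hom_inv_id_assoc]
    rw [reassoc_of% hm]
    refine (congrArg (_ ≫ ·) hQ').trans ?_
    simp [whisker_exchange_assoc]
  obtain ⟨f, hf⟩ := Groth.Agent.CechTorsorX.GenExt.exists_hom hX P.act Q.act hP.1 hQ.1 eK he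
  haveI : IsIso f := Groth.Agent.SchTorsor.isIso_of_equivariant hP hQ.1 f hf
  exact Quot.sound ⟨⟨asIso f, hf⟩⟩

end Groth.Agent.S20017
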