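import Groth.Statements.S20018
import Mathlib

set_option autoImplicit false
open CAlg

namespace Groth.Agent.S20018

open PowerSeries in
/-- Product expansion of big Witt vectors: let R be a commutative ring and x ∈ 1 + tR[[t]] a formal
power series with constant term 1. Then x can be written uniquely as an infinite product ∏_{i ≥ 1}
(1 - α_i t^i) with α_i ∈ R. The infinite product is expressed through its truncations: there is a
unique sequence α : ℕ → R (α i standing for the coefficient attached to t^{i+1}) such that for every
N the series x and the finite product ∏_{i=0}^{N} (1 - α_i t^{i+1}) agree modulo t^{N+2}. -/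
theorem result
    (R : Type*) [CommRing R] (x : PowerSeries R) (hx : PowerSeries.constantCoeff x = 1) :
    ∃! α : ℕ → R, ∀ N : ℕ,
      PowerSeries.trunc (N + 2) x =
        PowerSeries.trunc (N + 2) (∏ i ∈ Finset.range (N + 1),
          (1 - PowerSeries.C (α i) * PowerSeries.X ^ (i + 1) : PowerSeries R)) := by
  classical
  let P : ℕ → PowerSeries R := Nat.rec 1 fun N Q =>
    Q * (1 - PowerSeries.C (PowerSeries.coeff (N + 1) Q - PowerSeries.coeff (N + 1) x) * PowerSeries.X ^ (N + 1))
  let α : ℕ → R := fun N => PowerSeries.coeff (N + 1) (P N) - PowerSeries.coeff (N + 1) x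
  have hP : ∀ N, P N = ∏ i ∈ Finset.range N, (1 - PowerSeries.C (α i) * PowerSeries.X ^ (i + 1) : PowerSeries R) := by
    intro N
    induction N with
    | zero => simp [P]
    | succ N ih => rw [Finset.prod_range_succ, ← ih]
  have hstep : ∀ (Q : PowerSeries R) (a : R) (N j : ℕ), PowerSeries.coeff j (Q * (1 - PowerSeries.C a * PowerSeries.X ^ (N + 1))) =
      PowerSeries.coeff j Q - if N + 1 ≤ j then a * PowerSeries.coeff (j - (N + 1)) Q else 0 := by
    intro Q a N j
    rw [mul_sub, mul_one, map_sub, mul_left_comm, PowerSeries.coeff_C_mul, PowerSeries.coeff_mul_X_pow']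
    split_ifs <;> simp
  have hc0 : ∀ N, PowerSeries.coeff 0 (P N) = 1 := by
    intro N
    induction N with
    | zero => simp [P]
    | succ N ih => exact (hstep (P N) _ N 0).trans (by rw [if_neg (by omega), sub_zero, ih])
  have hagree : ∀ N j, j ≤ N → PowerSeries.coeff j (P N) = PowerSeries.coeff j x := by
    intro N
    induction N with
    | zero =>
      intro j hj
      obtain rfl : j = 0 := by omega
      rw [hc0, PowerSeries.coeff_zero_eq_constantCoeff, hx]
    | succ N ih =>
      intro j hj
      refine (hstep _ _ _ _).trans ?_
      rcases Nat.lt_or_ge j (N + 1) with h | h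
      · rw [if_neg (by omega), sub_zero, ih j (by omega)]
      · obtain rfl : j = N + 1 := by omega
        rw [if_pos le_rfl, Nat.sub_self, hc0, mul_one, sub_sub_cancel]
  refine ⟨α, fun N => ?_, fun β hβ => ?_⟩
  · refine Polynomial.ext fun j => ?_
    rw [PowerSeries.coeff_trunc, PowerSeries.coeff_trunc]
    split_ifs with h
    · rw [← hP, hagree (N + 1) j (by omega)]
    · rfl
  · funext N
    induction N using Nat.strong_induction_on with
    | _ N ih =>
      have h1 : PowerSeries.coeff (N + 1) x = PowerSeries.coeff (N + 1)
          ((∏ i ∈ Finset.range (N + 1), (1 - PowerSeries.C (β i) * PowerSeries.X ^ (i + 1)) : PowerSeries R)) := by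
        have := congrArg (fun p => Polynomial.coeff p (N + 1)) (hβ N)
        simpa [PowerSeries.coeff_trunc] using this
      rw [Finset.prod_range_succ, Finset.prod_congr rfl (fun i hi => by rw [ih i (Finset.mem_range.1 hi)]), ← hP,
        hstep, if_pos le_rfl, Nat.sub_self, hc0, mul_one] at h1
      show β N = PowerSeries.coeff (N + 1) (P N) - PowerSeries.coeff (N + 1) x
      rw [h1, sub_sub_cancel]

end Groth.Agent.S20018
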