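import Groth.Statements.S20019
import Groth.Agent.ComodLib.CharFinite
import Mathlib.Analysis.Complex.Polynomial.Basic
-- import your own Groth.Agent.* helpers here

set_option autoImplicit false
open scoped TensorProduct
open HopfRep

namespace Groth.Agent.S20019

/-- Let A → B be a surjective homomorphism of finitely generated commutative Hopf algebras over the
complex numbers, that is a closed embedding H ↪ G of complex linear algebraic groups with G = Spec A
and H = Spec B. For a comodule structure on the coordinate space ℂ^d with coaction e_i ↦ Σ_j e_j ⊗
a_ji, its character is Σ_i a_ii. Then R(H) is a finite R(G)-module, with the complexified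
representation rings realised inside the coordinate rings by characters: there are finitely many
characters f_1, …, f_r of H-comodule structures such that every ℂ-linear combination of characters
of H-comodule structures on coordinate spaces is of the form Σ_j s_j f_j with each s_j in the
ℂ-subalgebra of B generated by the images of the characters of G-comodule structures on coordinate
spaces. (The representation rings of the published statement are rendered through characters; over
the complex numbers the characters of pairwise non-isomorphic simple comodules are linearly
independent, so the span of characters is the complexified representation ring.) -/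
theorem result
    (A B : Type) [CommRing A] [HopfAlgebra ℂ A] [Algebra.FiniteType ℂ A]
    [CommRing B] [HopfAlgebra ℂ B] [Algebra.FiniteType ℂ B]
    (π : A →ₐc[ℂ] B) (hπ : Function.Surjective π) :
    ∃ F : Finset B,
      (↑F : Set B) ⊆ Set.range (fun p : (Σ d : ℕ, HopfRep.Comod ℂ B (Fin d → ℂ)) =>
          ∑ i : Fin p.1, TensorProduct.lid ℂ B (LinearMap.rTensor B (LinearMap.proj i)
            (@HopfRep.Comod.coact ℂ B _ _ _ _ (Fin p.1 → ℂ) _ _ p.2 (Pi.single i 1)))) ∧
      (↑(Submodule.span ℂ (Set.range (fun p : (Σ d : ℕ, HopfRep.Comod ℂ B (Fin d → ℂ)) =>
          ∑ i : Fin p.1, TensorProduct.lid ℂ B (LinearMap.rTensor B (LinearMap.proj i)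
            (@HopfRep.Comod.coact ℂ B _ _ _ _ (Fin p.1 → ℂ) _ _ p.2 (Pi.single i 1)))))) : Set B) ⊆
        ↑(Submodule.span (Algebra.adjoin ℂ (π '' Set.range (fun p : (Σ d : ℕ, HopfRep.Comod ℂ A (Fin d → ℂ)) =>
          ∑ i : Fin p.1, TensorProduct.lid ℂ A (LinearMap.rTensor A (LinearMap.proj i)
            (@HopfRep.Comod.coact ℂ A _ _ _ _ (Fin p.1 → ℂ) _ _ p.2 (Pi.single i 1))))))
          (↑F : Set B)) := Groth.Agent.ComodLib.span_charSet_fg π hπ

end Groth.Agent.S20019
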