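import Groth.Statements.S20022
import Groth.Agent.GrLib8.Basic
-- import your own Groth.Agent.* helpers here

set_option autoImplicit false
universe u
open GrLC

namespace Groth.Agent.S20022

/-- Let R be a commutative ℤ-graded ring whose degree-zero subring R_0 is a field k and which is the
Laurent polynomial ring k[T, T⁻¹] on a homogeneous invertible element T of positive degree d, in the
following intrinsic sense: T is a unit lying in R_d, and every nonzero homogeneous element of degree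
n equals a·T^j for some a ∈ R_0 and some integer j with j·d = n (so R_n = 0 unless d divides n, and
R_{jd} = k·T^j). Then every graded R-module M is free in the graded sense: M has an R-basis
consisting of homogeneous elements. (The other case of condition (2), R = k concentrated in degree
zero, is not included.) -/
theorem result (R : Type u) [CommRing R]
    (𝒜 : ℤ → AddSubgroup R) [GradedRing 𝒜] (h0 : IsField (GrLC.deg0 𝒜))
    (d : ℤ) (hd : 0 < d) (T : Rˣ) (hT : (T : R) ∈ 𝒜 d)
    (hA : ∀ (n : ℤ) (x : R), x ∈ 𝒜 n → x ≠ 0 →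
      ∃ j : ℤ, ∃ a ∈ 𝒜 0, j * d = n ∧ x = a * ((T ^ j : Rˣ) : R))
    (M : Type u) [AddCommGroup M] [Module R M] (ℳ : ℤ → AddSubgroup M)
    [DirectSum.Decomposition ℳ] [SetLike.GradedSMul 𝒜 ℳ] :
    ∃ (κ : Type u) (b : Module.Basis κ R M), ∀ i : κ, SetLike.IsHomogeneousElem ℳ (b i) := by
  open Groth.Agent.GrLib8 in
  classical
  let K := GrLC.deg0 𝒜
  letI : Field K := h0.toField
  have hTinv : ((T⁻¹ : Rˣ) : R) ∈ 𝒜 (-d) := by
    have h1 := decompose_smul_of_mem_left 𝒜 𝒜 hT ((T⁻¹ : Rˣ) : R) 0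
    rw [smul_eq_mul, T.mul_inv, DirectSum.decompose_of_mem_same 𝒜 SetLike.GradedOne.one_mem, zero_sub,
      smul_eq_mul] at h1
    have h2 : ((T⁻¹ : Rˣ) : R) = (DirectSum.decompose 𝒜 ((T⁻¹ : Rˣ) : R) (-d) : R) := by
      calc ((T⁻¹ : Rˣ) : R) = ((T⁻¹ : Rˣ) : R) * 1 := (mul_one _).symm
        _ = ((T⁻¹ : Rˣ) : R) * ((T : R) * (DirectSum.decompose 𝒜 ((T⁻¹ : Rˣ) : R) (-d) : R)) := congrArg _ h1
        _ = _ := by rw [← mul_assoc, T.inv_mul, one_mul]
    rw [h2]
    exact SetLike.coe_mem _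
  have hTpow : ∀ j : ℤ, ((T ^ j : Rˣ) : R) ∈ 𝒜 (j * d) := by
    intro j
    induction j with
    | zero => simpa using (SetLike.GradedOne.one_mem : (1 : R) ∈ 𝒜 0)
    | succ i ih =>
      rw [zpow_add_one, Units.val_mul, add_mul, one_mul]
      exact SetLike.GradedMul.mul_mem ih hT
    | pred i ih =>
      rw [zpow_sub_one, Units.val_mul, sub_mul, one_mul, sub_eq_add_neg]
      exact SetLike.GradedMul.mul_mem ih hTinv
  let B : ∀ r : Fin d.toNat, Module.Basis (Module.Basis.ofVectorSpaceIndex K (GrLC.comp 𝒜 ℳ (r.1 : ℤ))) K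
      (GrLC.comp 𝒜 ℳ (r.1 : ℤ)) := fun r => Module.Basis.ofVectorSpace K _
  let κ := Σ r : Fin d.toNat, Module.Basis.ofVectorSpaceIndex K (GrLC.comp 𝒜 ℳ (r.1 : ℤ))
  let b : κ → M := fun i => ((B i.1 i.2 : GrLC.comp 𝒜 ℳ (i.1.1 : ℤ)) : M)
  have hb : ∀ i, b i ∈ ℳ (i.1.1 : ℤ) := fun i => (B i.1 i.2).2
  have hli : LinearIndependent R b := by
    rw [linearIndependent_iff']
    intro s g hg
    rintro ⟨r0, k0⟩ hi
    rw [← DirectSum.sum_support_decompose 𝒜 (g ⟨r0, k0⟩)]
    refine Finset.sum_eq_zero fun m _ => ?_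
    by_contra hne
    obtain ⟨j, a, -, hjm, -⟩ := hA m _ (SetLike.coe_mem _) hne
    subst hjm
    have hsum : ∑ i ∈ s, (DirectSum.decompose 𝒜 (g i) (j * d + r0.1 - i.1.1) : R) • b i = 0 := by
      have h := congrArg (fun x => (DirectSum.decompose ℳ x (j * d + r0.1) : M)) hg
      simp only [DirectSum.decompose_zero, DirectSum.zero_apply, ZeroMemClass.coe_zero] at h
      rw [DirectSum.decompose_sum] at h
      rw [← h]
      refine Eq.symm ?_
      refine (map_sum ((AddSubgroup.subtype (ℳ (j * d + r0.1))).comp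
        (DFinsupp.evalAddMonoidHom (β := fun i => ℳ i) (j * d + r0.1))) _ s).trans ?_
      exact Finset.sum_congr rfl fun i _ => decompose_smul_of_mem 𝒜 ℳ (hb i) (g i) _
    have hother : ∀ i ∈ s, i.1 ≠ r0 → (DirectSum.decompose 𝒜 (g i) (j * d + r0.1 - i.1.1) : R) • b i = 0 := by
      intro i _ hir
      rw [show (DirectSum.decompose 𝒜 (g i) (j * d + r0.1 - i.1.1) : R) = 0 from ?_, zero_smul]
      by_contra h
      obtain ⟨j', -, -, hj', -⟩ := hA _ _ (SetLike.coe_mem _) h
      have hz : (j' - j) * d = (r0.1 : ℤ) - i.1.1 := by rw [sub_mul, hj']; ring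
      have hlt1 : (r0.1 : ℤ) < d := by omega
      have hlt2 : (i.1.1 : ℤ) < d := by omega
      have : j' - j = 0 := by
        rcases lt_trichotomy (j' - j) 0 with hh | hh | hh
        · exfalso; nlinarith
        · exact hh
        · exfalso; nlinarith
      rw [this, zero_mul] at hz
      exact hir (Fin.ext (by omega))
    have hj : ∀ k, ∃ a : K, (DirectSum.decompose 𝒜 (g ⟨r0, k⟩) (j * d) : R) = (a : R) * ((T ^ j : Rˣ) : R) := by
      intro k
      by_cases h : (DirectSum.decompose 𝒜 (g ⟨r0, k⟩) (j * d) : R) = 0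
      · exact ⟨0, by rw [h]; simp⟩
      · obtain ⟨j', a', ha', hj', heq⟩ := hA _ _ (SetLike.coe_mem _) h
        obtain rfl : j' = j := mul_right_cancel₀ hd.ne' hj'
        exact ⟨⟨a', ha'⟩, heq⟩
    choose α hα using hj
    let s0 := s.preimage (Sigma.mk r0) (sigma_mk_injective.injOn)
    have h1 : ((T ^ j : Rˣ) : R) • (((∑ k ∈ s0, α k • B r0 k : GrLC.comp 𝒜 ℳ (r0.1 : ℤ))) : M) = 0 := by
      rw [← hsum, AddSubmonoidClass.coe_finsetSum, Finset.smul_sum,
        ← Finset.sum_preimage (Sigma.mk r0) s (sigma_mk_injective.injOn)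
          (fun i : κ => (DirectSum.decompose 𝒜 (g i) (j * d + r0.1 - i.1.1) : R) • b i) (fun i his hni =>
            hother i his fun h => hni ⟨h ▸ i.2, by subst h; rfl⟩)]
      refine Finset.sum_congr rfl fun k _ => ?_
      rw [show j * d + (r0.1 : ℤ) - (r0.1 : ℤ) = j * d by ring, hα k, mul_comm, mul_smul]
      rfl
    have h2 : (∑ k ∈ s0, α k • B r0 k : GrLC.comp 𝒜 ℳ (r0.1 : ℤ)) = 0 :=
      Subtype.ext ((Units.isUnit (T ^ j)).smul_eq_zero.1 h1)
    have h3 := linearIndependent_iff'.1 (B r0).linearIndependent s0 α h2 k0 (Finset.mem_preimage.2 hi)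
    exact hne (by rw [hα k0, h3]; simp)
  have hsp : ⊤ ≤ Submodule.span R (Set.range b) := by
    intro x _
    rw [← DirectSum.sum_support_decompose ℳ x]
    refine Submodule.sum_mem _ fun n _ => ?_
    let r : Fin d.toNat := ⟨(n % d).toNat, by
      have := Int.emod_lt_of_pos n hd; have := Int.emod_nonneg n hd.ne'; omega⟩
    have hr : (r.1 : ℤ) = n % d := Int.toNat_of_nonneg (Int.emod_nonneg n hd.ne')
    let y : M := ((T ^ (-(n / d)) : Rˣ) : R) • (DirectSum.decompose ℳ x n : M)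
    have hy : y ∈ ℳ (r.1 : ℤ) := by
      have h := SetLike.GradedSMul.smul_mem (hTpow (-(n / d))) (SetLike.coe_mem (DirectSum.decompose ℳ x n))
      rwa [show -(n / d) * d +ᵥ n = (r.1 : ℤ) by rw [vadd_eq_add, hr, Int.emod_def]; ring] at h
    have hyspan : y ∈ Submodule.span R (Set.range b) := by
      have hy' : y = ((((B r).repr ⟨y, hy⟩).sum fun k a => a • B r k : GrLC.comp 𝒜 ℳ (r.1 : ℤ)) : M) := by
        rw [← Finsupp.linearCombination_apply, (B r).linearCombination_repr]
      rw [hy', Finsupp.sum, AddSubmonoidClass.coe_finsetSum]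
      exact Submodule.sum_mem _ fun k _ => Submodule.smul_mem _ _ (Submodule.subset_span ⟨⟨r, k⟩, rfl⟩)
    have : (DirectSum.decompose ℳ x n : M) = ((T ^ (n / d) : Rˣ) : R) • y := by
      simp only [y, smul_smul, ← Units.val_mul, ← zpow_add, add_neg_cancel, zpow_zero, Units.val_one, one_smul]
    rw [this]
    exact Submodule.smul_mem _ _ hyspan
  exact ⟨κ, Module.Basis.mk hli hsp, fun i => ⟨(i.1.1 : ℤ), by rw [Module.Basis.mk_apply]; exact hb i⟩⟩

end Groth.Agent.S20022
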