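import Groth.Statements.S20025
import Mathlib.LinearAlgebra.Matrix.NonsingularInverse
import Mathlib.Algebra.MvPolynomial.PDeriv
import Mathlib.Data.Fintype.Perm
import Mathlib.Tactic.LinearCombination
-- import your own Groth.Agent.* helpers here

set_option autoImplicit false
universe u
open InvQ

namespace Groth.Agent.S20025

open MvPolynomial in
theorem subst_subst {k : Type u} [Field k] (M N : Matrix (Fin 2) (Fin 2) k) (p : MvPolynomial (Fin 2) k) :
    W4c6intromoduli.subst N (W4c6intromoduli.subst M p) = W4c6intromoduli.subst (M * N) p := by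
  rw [← AlgHom.comp_apply]
  refine AlgHom.congr_fun (MvPolynomial.algHom_ext fun i => ?_) p
  simp [W4c6intromoduli.subst, Fin.sum_univ_two, Matrix.mul_apply]
  ring

open MvPolynomial in
theorem subst_one {k : Type u} [Field k] (p : MvPolynomial (Fin 2) k) :
    W4c6intromoduli.subst 1 p = p := by
  conv_rhs => rw [← AlgHom.id_apply (R := k) p]
  refine AlgHom.congr_fun (MvPolynomial.algHom_ext fun i => ?_) p
  fin_cases i <;> simp [W4c6intromoduli.subst, Fin.sum_univ_two]

open MvPolynomial in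
theorem not_square {k : Type u} [Field k] (c : k) (Q : MvPolynomial (Fin 2) k) :
    (X 0 ^ 2 * X 1 * (X 0 - X 1) : MvPolynomial (Fin 2) k) ≠ C c * Q ^ 2 := by
  intro h
  have h0 := congrArg (eval ![(1 : k), 0]) h
  simp at h0
  have h1 := congrArg (fun P => eval ![(1 : k), 0] (pderiv 1 P)) h
  simp [pderiv_X, Derivation.leibniz] at h1
  rcases h0 with h0 | h0 <;> rw [h0] at h1 <;> simp at h1

theorem exists_perm : ∀ i j : Fin 4, i ≠ j → ∃ σ : Equiv.Perm (Fin 4), σ 0 = i ∧ σ 1 = j := by decide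

theorem exists_coords {k : Type u} [Field k] {a b a' b' : k} (h : a' * b - a * b' ≠ 0) (x y : k) :
    ∃ s t : k, x = s * a + t * a' ∧ y = s * b + t * b' :=
  ⟨(a' * y - b' * x) / (a' * b - a * b'), (b * x - a * y) / (a' * b - a * b'),
    by rw [div_mul_eq_mul_div, div_mul_eq_mul_div, ← add_div, eq_div_iff h]; ring,
    by rw [div_mul_eq_mul_div, div_mul_eq_mul_div, ← add_div, eq_div_iff h]; ring⟩

theorem exists_scale {k : Type u} [Field k] {a b a' b' : k} (ha : a ≠ 0 ∨ b ≠ 0) (ha' : a' ≠ 0 ∨ b' ≠ 0)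
    (h : a' * b - a * b' = 0) : ∃ r : k, r ≠ 0 ∧ a' = r * a ∧ b' = r * b := by
  rcases eq_or_ne a 0 with rfl | hna
  · have hb : b ≠ 0 := ha.resolve_left (not_not.2 rfl)
    have ha'0 : a' = 0 := by simpa [hb] using h
    subst ha'0
    have hb' : b' ≠ 0 := ha'.resolve_left (not_not.2 rfl)
    exact ⟨b' / b, div_ne_zero hb' hb, by simp, by field_simp⟩
  · have hb' : b' = a' / a * b := by field_simp; linear_combination -h
    refine ⟨a' / a, ?_, by field_simp, hb'⟩
    intro h0
    rw [h0, zero_mul] at hb'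
    rcases ha' with h1 | h1
    · exact div_ne_zero h1 hna h0
    · exact h1 hb'

/-- For the special fibre of the invariant map, over a field in which 2 and 3 are nonzero, consider a
split binary quartic f = ∏_i (μ_i X₀ − λ_i X₁) given by four root points (λ_i, μ_i) ≠ (0, 0), with a
double zero (vanishing discriminant ∏_{i<j} (λ_j μ_i − λ_i μ_j)²) and no triple zero (no three root
points pairwise proportional); these are the forms of the fibre over the special point P³/Q² = 6 of
the invariant map. Then exactly one of the two alternatives holds: f is a nonzero constant times the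
form X₀² X₁ (X₀ − X₁) after an invertible linear substitution of the variables, or f is a nonzero
constant times X₀² X₁² after such a substitution. So this fibre consists of exactly two classes
under substitutions and scalars (one double zero and two simple zeros; two double zeros). (The
dimensions of the two orbits and which of them is open or closed in the fibre are not part of this
row; stated for split forms over any such field.) -/
theorem result (k : Type u) [Field k]
    (h2 : (2 : k) ≠ 0) (h3 : (3 : k) ≠ 0) (la mu : Fin 4 → k)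
    (hne : ∀ i, la i ≠ 0 ∨ mu i ≠ 0) (hd : W4c6intromoduli.disc la mu = 0)
    (h3z : ∀ i j l : Fin 4, i ≠ j → j ≠ l → i ≠ l →
      ¬ (la i * mu j = la j * mu i ∧ la j * mu l = la l * mu j)) :
    Xor
      (∃ (M : Matrix (Fin 2) (Fin 2) k) (c : k), IsUnit M.det ∧ c ≠ 0 ∧
        W4c6intromoduli.binForm la mu =
          MvPolynomial.C c * W4c6intromoduli.subst M
            (MvPolynomial.X 0 ^ 2 * MvPolynomial.X 1 * (MvPolynomial.X 0 - MvPolynomial.X 1)))
      (∃ (M : Matrix (Fin 2) (Fin 2) k) (c : k), IsUnit M.det ∧ c ≠ 0 ∧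
        W4c6intromoduli.binForm la mu =
          MvPolynomial.C c * W4c6intromoduli.subst M
            (MvPolynomial.X 0 ^ 2 * MvPolynomial.X 1 ^ 2)) := by
  classical
  have hexcl : ∀ (M N : Matrix (Fin 2) (Fin 2) k) (c d : k), IsUnit M.det → c ≠ 0 →
      MvPolynomial.C c * W4c6intromoduli.subst M
        (MvPolynomial.X 0 ^ 2 * MvPolynomial.X 1 * (MvPolynomial.X 0 - MvPolynomial.X 1)) ≠
      MvPolynomial.C d * W4c6intromoduli.subst N (MvPolynomial.X 0 ^ 2 * MvPolynomial.X 1 ^ 2) := by
    intro M N c d hM hc h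
    refine not_square (c⁻¹ * d) (W4c6intromoduli.subst M⁻¹ (W4c6intromoduli.subst N (MvPolynomial.X 0 * MvPolynomial.X 1))) ?_
    have h' := congrArg (W4c6intromoduli.subst M⁻¹) h
    rw [map_mul (W4c6intromoduli.subst M⁻¹), map_mul (W4c6intromoduli.subst M⁻¹), subst_subst, Matrix.mul_nonsing_inv _ hM,
      subst_one] at h'
    simp only [show ∀ (P : Matrix (Fin 2) (Fin 2) k) (a : k), W4c6intromoduli.subst P (MvPolynomial.C a) = MvPolynomial.C a from
      fun P a => AlgHom.commutes _ a] at h'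
    rw [MvPolynomial.C_mul, mul_assoc, ← map_pow, ← map_pow, mul_pow]
    refine mul_left_cancel₀ ((map_ne_zero_iff _ (MvPolynomial.C_injective (Fin 2) k)).2 hc) ?_
    have hcc : (MvPolynomial.C c * MvPolynomial.C c⁻¹ : MvPolynomial (Fin 2) k) = 1 := by
      rw [← MvPolynomial.C_mul, mul_inv_cancel₀ hc, MvPolynomial.C_1]
    linear_combination h' - (MvPolynomial.C d * W4c6intromoduli.subst M⁻¹ (W4c6intromoduli.subst N
      (MvPolynomial.X 0 ^ 2 * MvPolynomial.X 1 ^ 2))) * hcc
  obtain ⟨⟨i, j⟩, hij, hzero⟩ : ∃ p : Fin 4 × Fin 4, p.1 < p.2 ∧ la p.2 * mu p.1 - la p.1 * mu p.2 = 0 := by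
    rw [W4c6intromoduli.disc, Finset.prod_eq_zero_iff] at hd
    obtain ⟨p, hp, hp0⟩ := hd
    exact ⟨p, (Finset.mem_filter.1 hp).2, pow_eq_zero_iff two_ne_zero |>.1 hp0⟩
  obtain ⟨σ, hσ0, hσ1⟩ := exists_perm i j hij.ne
  obtain ⟨r, hr, hla, hmu⟩ := exists_scale (hne i) (hne j) hzero
  have hform : W4c6intromoduli.binForm la mu = MvPolynomial.C r *
      ((MvPolynomial.C (mu i) * MvPolynomial.X 0 - MvPolynomial.C (la i) * MvPolynomial.X 1) ^ 2 *
      (MvPolynomial.C (mu (σ 2)) * MvPolynomial.X 0 - MvPolynomial.C (la (σ 2)) * MvPolynomial.X 1) *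
      (MvPolynomial.C (mu (σ 3)) * MvPolynomial.X 0 - MvPolynomial.C (la (σ 3)) * MvPolynomial.X 1)) := by
    rw [W4c6intromoduli.binForm, ← Equiv.prod_comp σ, Fin.prod_univ_four, hσ0, hσ1, hla, hmu, MvPolynomial.C_mul,
      MvPolynomial.C_mul]
    ring
  have hind : ∀ l : Fin 4, l ≠ i → l ≠ j → la l * mu i - la i * mu l ≠ 0 := by
    intro l hli hlj h0
    refine h3z j i l hij.ne' (Ne.symm hli) (Ne.symm hlj) ⟨?_, ?_⟩
    · linear_combination hzero
    · linear_combination -h0
  have h2i : σ 2 ≠ i := fun e => absurd (σ.injective (e.trans hσ0.symm)) (by decide)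
  have h2j : σ 2 ≠ j := fun e => absurd (σ.injective (e.trans hσ1.symm)) (by decide)
  have h3i : σ 3 ≠ i := fun e => absurd (σ.injective (e.trans hσ0.symm)) (by decide)
  have h3j : σ 3 ≠ j := fun e => absurd (σ.injective (e.trans hσ1.symm)) (by decide)
  have hsub : ∀ (p q p' q' : k) (l : Fin 2), W4c6intromoduli.subst !![p, q; p', q'] (MvPolynomial.X l) =
      ![MvPolynomial.C p * MvPolynomial.X 0 + MvPolynomial.C q * MvPolynomial.X 1,
        MvPolynomial.C p' * MvPolynomial.X 0 + MvPolynomial.C q' * MvPolynomial.X 1] l := fun p q p' q' l => by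
    fin_cases l <;> simp [W4c6intromoduli.subst, Fin.sum_univ_two]
  by_cases hkl : la (σ 3) * mu (σ 2) - la (σ 2) * mu (σ 3) = 0
  · obtain ⟨r', hr', hla', hmu'⟩ := exists_scale (hne (σ 2)) (hne (σ 3)) hkl
    refine Or.inr ⟨⟨!![mu i, -la i; mu (σ 2), -la (σ 2)], r * r', ?_, mul_ne_zero hr hr', ?_⟩, ?_⟩
    · rw [Matrix.det_fin_two_of, isUnit_iff_ne_zero]
      intro h0
      exact hind _ h2i h2j (by linear_combination -h0)
    · rw [hform, hla', hmu']
      simp only [map_mul, map_pow, hsub, Matrix.cons_val_zero, Matrix.cons_val_one, MvPolynomial.C_mul, map_neg]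
      ring
    · rintro ⟨M, c, hM, hc, e⟩
      refine hexcl M !![mu i, -la i; mu (σ 2), -la (σ 2)] c (r * r') hM hc ?_
      rw [← e, hform, hla', hmu']
      simp only [map_mul, map_pow, hsub, Matrix.cons_val_zero, Matrix.cons_val_one, MvPolynomial.C_mul, map_neg]
      ring
  · obtain ⟨s, t, hs, ht⟩ := exists_coords (hind _ h2i h2j) (la (σ 3)) (mu (σ 3))
    have ht0 : t ≠ 0 := by
      rintro rfl
      exact hind _ h3i h3j (by rw [hs, ht]; ring)
    have hs0 : s ≠ 0 := by
      rintro rfl
      exact hkl (by rw [hs, ht]; ring)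
    have hA : W4c6intromoduli.binForm la mu = MvPolynomial.C (-r / (s ^ 2 * t)) *
        W4c6intromoduli.subst !![s * mu i, -(s * la i); -(t * mu (σ 2)), t * la (σ 2)]
          (MvPolynomial.X 0 ^ 2 * MvPolynomial.X 1 * (MvPolynomial.X 0 - MvPolynomial.X 1)) := by
      have hc : MvPolynomial.C (-r / (s ^ 2 * t)) * (MvPolynomial.C s ^ 2 * MvPolynomial.C t) =
          (-MvPolynomial.C r : MvPolynomial (Fin 2) k) := by
        rw [← map_pow, ← MvPolynomial.C_mul, ← MvPolynomial.C_mul, div_mul_cancel₀ _ (mul_ne_zero (pow_ne_zero 2 hs0) ht0), map_neg]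
      rw [hform, map_mul, map_mul, map_pow, map_sub, hsub, hsub, hs, ht]
      simp only [Matrix.cons_val_zero, Matrix.cons_val_one, MvPolynomial.C_mul, MvPolynomial.C_add, map_neg]
      linear_combination (MvPolynomial.C (mu i) * MvPolynomial.X 0 - MvPolynomial.C (la i) * MvPolynomial.X 1) ^ 2 *
        (MvPolynomial.C (mu (σ 2)) * MvPolynomial.X 0 - MvPolynomial.C (la (σ 2)) * MvPolynomial.X 1) *
        (MvPolynomial.C s * (MvPolynomial.C (mu i) * MvPolynomial.X 0 - MvPolynomial.C (la i) * MvPolynomial.X 1) +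
         MvPolynomial.C t * (MvPolynomial.C (mu (σ 2)) * MvPolynomial.X 0 - MvPolynomial.C (la (σ 2)) * MvPolynomial.X 1)) * hc
    have hdet : IsUnit (!![s * mu i, -(s * la i); -(t * mu (σ 2)), t * la (σ 2)] : Matrix (Fin 2) (Fin 2) k).det := by
      rw [Matrix.det_fin_two_of, isUnit_iff_ne_zero]
      intro h0
      refine hind _ h2i h2j ?_
      refine (mul_eq_zero.1 (show s * t * (la (σ 2) * mu i - la i * mu (σ 2)) = 0 by linear_combination h0)).resolve_left
        (mul_ne_zero hs0 ht0)
    have hcne : -r / (s ^ 2 * t) ≠ 0 := div_ne_zero (neg_ne_zero.2 hr) (mul_ne_zero (pow_ne_zero 2 hs0) ht0)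
    refine Or.inl ⟨⟨_, _, hdet, hcne, hA⟩, ?_⟩
    rintro ⟨N, d, -, -, e⟩
    exact hexcl _ N _ d hdet hcne (hA.symm.trans e)

end Groth.Agent.S20025
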