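import Groth.Statements.S20027
import Groth.Agent.GrLib8.GrCMField
import Groth.Agent.GrLib8.SegPolyShift
import Groth.Agent.GrLib8.PolyChar
import Groth.Agent.GrLib8.VeroGorRows
import Groth.Agent.GrLib8.HilbertFn
import Groth.Agent.LC.GorRing
-- import your own Groth.Agent.* helpers here

set_option autoImplicit false
universe u
open GrLC

namespace Groth.Agent.S20027

/-- Let k be a field, s ≥ 1, d ≥ 1, and R = k[X_1, …, X_s] graded with every variable in degree 1.
Present the Veronese subring R^(d) = ⊕_j R_{jd} as a commutative ring R' with an injective ring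
homomorphism φ : R' → R whose image is the set of polynomials whose homogeneous components in all
degrees not divisible by d are zero, and let m' be the maximal ideal of R' that is the preimage of
the ideal of polynomials with zero constant term (the irrelevant ideal of R^(d)). Let n be the least
integer such that n ≥ s and d divides n. Then the type of R^(d), namely the Bass number μ_s(m', R')
= dim over the residue field of Ext^s over the local ring R'_{m'} from its residue field to R'_{m'}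
(here s = dim R'), equals the binomial coefficient (n − 1 choose s − 1). -/
theorem result (k : Type u) [Field k] (s d : ℕ) (hs : 1 ≤ s)
    (hd : 1 ≤ d) (R' : Type u) [CommRing R'] (φ : R' →+* MvPolynomial (Fin s) k)
    (hφ : Function.Injective φ)
    (hrange : ∀ p : MvPolynomial (Fin s) k, p ∈ φ.range ↔
      ∀ j : ℕ, ¬ d ∣ j → MvPolynomial.homogeneousComponent j p = 0)
    (m' : Ideal R') [m'.IsMaximal]
    (hm' : m' = Ideal.comap φ (RingHom.ker (MvPolynomial.constantCoeff : MvPolynomial (Fin s) k →+* k)))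
    (n : ℕ) (hsn : s ≤ n) (hdn : d ∣ n) (hmin : ∀ n' : ℕ, s ≤ n' → d ∣ n' → n ≤ n') :
    GrLC.bassNum m' R' s = (Nat.choose (n - 1) (s - 1) : ℕ∞) := by
  classical
  let S := MvPolynomial (Fin s) k
  let 𝒜 : ℤ → AddSubgroup S := GrLib8.addPieces (GrSyz.stdGr k (Fin s))
  haveI : IsRegularRing S := inferInstance
  haveI : LocCoh.IsGorensteinRing S := LC.gorensteinRing_of_isRegularRing S
  haveI : LocCoh.IsCohenMacaulayRing S := LC.Liaison.isCohenMacaulayRing_of_gorenstein S
  have hneg : ∀ g : ℤ, g < 0 → GrSyz.stdGr k (Fin s) g = ⊥ := GrLib8.Seg.stdGr_neg k s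
  have h0s := GrLib8.Seg.stdGr_zero_eq k s
  have hpos : ∀ g : ℤ, g < 0 → 𝒜 g = ⊥ := GrLib8.addPieces_eq_bot _ hneg
  have hp := GrLib8.nonneg_of_bot hpos
  have h0 : IsField (GrLC.deg0 𝒜) := GrLib8.isField_deg0_add _ h0s
  let m := GrSyz.irrel 𝒜
  have hm : GrLC.IsStarLocal 𝒜 m := GrLib8.isStarLocal_irrel_add _ hneg h0s
  have hmsp : m.toIdeal = Ideal.span (⋃ g ∈ Set.Ioi (0 : ℤ), (𝒜 g : Set S)) := GrLib8.irrel_toIdeal_eq
  have hstd : Ideal.span (⋃ g ∈ Set.Ioi (0 : ℤ), (𝒜 g : Set S)) = Ideal.span ((𝒜 1 : AddSubgroup S) : Set S) := by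
    rw [← hmsp]
    refine le_antisymm (GrLib8.irrel_le_span_one k s) (Ideal.span_le.2 fun y hy => ?_)
    exact GrLib8.mem_irrel_of_pos 𝒜 one_pos hy
  have hdim : ringKrullDim S = (s : ℕ) := by
    show ringKrullDim (MvPolynomial (Fin s) k) = _
    rw [MvPolynomial.ringKrullDim_of_isNoetherianRing, ringKrullDim_eq_zero_of_field, zero_add, Nat.card_fin]
  -- deg0 is k
  letI := h0.toField
  let ι' : k →+* GrLC.deg0 𝒜 :=
    (algebraMap k S).codRestrict (GrLC.deg0 𝒜) fun c => SetLike.algebraMap_mem_graded (GrSyz.stdGr k (Fin s)) c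
  have hι : Function.Bijective ι' := ⟨ι'.injective, fun z => by
    obtain ⟨c, hc⟩ := GrLib8.eq_algebraMap_of_mem_zero (GrSyz.stdGr k (Fin s)) h0s z.2
    exact ⟨c, Subtype.ext hc.symm⟩⟩
  let I := GrLib8.starRes (𝒜 := 𝒜) 𝒜
  have ha := GrLib8.PolyChar.endDeg_of_equiv hpos h0 hstd hm hmsp s hdim I
    ⟨MvPolynomial.mapEquiv (Fin s) (RingEquiv.ofBijective ι' hι)⟩
  -- homogeneous components
  have hcomp : ∀ (j : ℕ) (p : S), MvPolynomial.homogeneousComponent j p = (DirectSum.decompose 𝒜 p (j : ℤ) : S) := by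
    intro j p
    conv_lhs => rw [← DirectSum.sum_support_decompose 𝒜 p]
    rw [map_sum, Finset.sum_eq_single (j : ℤ)]
    · refine (MvPolynomial.homogeneousComponent_of_mem (n := j) ?_).trans (if_pos rfl)
      rw [← GrLib8.stdGr_natCast]
      exact (DirectSum.decompose 𝒜 p (j : ℤ)).2
    · intro g _ hg
      rcases lt_or_ge g 0 with h | h
      · rw [hp g h _ (SetLike.coe_mem _), map_zero]
      · obtain ⟨i, rfl⟩ := Int.eq_ofNat_of_zero_le h
        refine (MvPolynomial.homogeneousComponent_of_mem (n := i) ?_).trans (if_neg fun h => hg (by rw [h]))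
        rw [← GrLib8.stdGr_natCast]
        exact (DirectSum.decompose 𝒜 p (i : ℤ)).2
    · intro h
      rw [DFinsupp.notMem_support_iff.1 h]
      simp
  -- the grading of the Veronese ring
  let 𝒜' : ℤ → AddSubgroup R' := fun j => (𝒜 (j * d)).comap (φ : R' →+ S)
  haveI : SetLike.GradedMonoid 𝒜' :=
    { one_mem := by
        show φ 1 ∈ 𝒜 (0 * (d : ℤ))
        rw [zero_mul, map_one]
        exact SetLike.one_mem_graded 𝒜
      mul_mem := fun i j a b ha hb => by
        show φ (a * b) ∈ 𝒜 ((i + j) * (d : ℤ))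
        rw [add_mul, map_mul]
        exact SetLike.mul_mem_graded ha hb }
  have hd0 : (d : ℤ) ≠ 0 := by omega
  have hmem : ∀ (j : ℤ) (p : S), p ∈ 𝒜 (j * d) → p ∈ φ.range := by
    intro j p hpj
    refine (hrange p).2 fun i hi => ?_
    rw [hcomp, DirectSum.decompose_of_mem_ne 𝒜 hpj]
    intro h
    exact hi (Int.natCast_dvd_natCast.1 ⟨j, by rw [← h, mul_comm]⟩)
  have hdeg : ∀ j : ℤ, (𝒜' j).map (φ : R' →+ S) = 𝒜 (j * d) := fun j => by
    refine le_antisymm ?_ fun p hpj => ?_
    · rintro _ ⟨x, hx, rfl⟩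
      exact hx
    · obtain ⟨x, rfl⟩ := hmem j p hpj
      exact ⟨x, hpj, rfl⟩
  have hzero : ∀ (x : R') (g : ℤ), ¬ (d : ℤ) ∣ g → (DirectSum.decompose 𝒜 (φ x) g : S) = 0 := by
    intro x g hg
    rcases lt_or_ge g 0 with h | h
    · exact hp g h _ (SetLike.coe_mem _)
    · obtain ⟨i, rfl⟩ := Int.eq_ofNat_of_zero_le h
      rw [← hcomp]
      exact (hrange (φ x)).1 ⟨x, rfl⟩ i fun h => hg (Int.natCast_dvd_natCast.2 h)
  have hint : DirectSum.IsInternal 𝒜' := by
    constructor
    · intro u v huv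
      have key : ∀ (w : DirectSum ℤ fun j => 𝒜' j) (j : ℤ),
          (DirectSum.decompose 𝒜 (φ (DirectSum.coeAddMonoidHom 𝒜' w)) (j * d) : S) = φ (w j) := by
        intro w j
        induction w using DirectSum.induction_on with
        | zero => simp
        | of i x =>
          rw [DirectSum.coeAddMonoidHom_of]
          have hx : φ (x : R') ∈ 𝒜 (i * d) := x.2
          rcases eq_or_ne i j with rfl | hij
          · rw [DirectSum.decompose_of_mem_same 𝒜 hx, DirectSum.of_eq_same]
          · rw [DirectSum.decompose_of_mem_ne 𝒜 hx (fun h => hij (mul_right_cancel₀ hd0 h)),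
              DirectSum.of_eq_of_ne _ _ _ (Ne.symm hij)]
            simp
        | add w₁ w₂ h₁ h₂ => simp [map_add, DirectSum.decompose_add, h₁, h₂]
      refine DFinsupp.ext fun j => Subtype.ext (hφ ?_)
      rw [← key u j, ← key v j, huv]
    · intro x
      choose y hy using fun j : ℤ => hmem j (DirectSum.decompose 𝒜 (φ x) (j * d) : S) (SetLike.coe_mem _)
      have hy' : ∀ j, y j ∈ 𝒜' j := fun j => show φ (y j) ∈ 𝒜 (j * d) from (hy j).symm ▸ SetLike.coe_mem _
      refine ⟨∑ g ∈ (DirectSum.decompose 𝒜 (φ x)).support, DirectSum.of _ (g / d) ⟨y (g / d), hy' _⟩, hφ ?_⟩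
      rw [map_sum, map_sum]
      conv_rhs => rw [← DirectSum.sum_support_decompose 𝒜 (φ x)]
      refine Finset.sum_congr rfl fun g hg => ?_
      rw [DirectSum.coeAddMonoidHom_of, hy]
      have hdg : (d : ℤ) ∣ g := by
        by_contra h
        exact (DFinsupp.mem_support_iff.1 hg) (Subtype.ext (hzero x g h))
      rw [Int.ediv_mul_cancel hdg]
  letI : DirectSum.Decomposition 𝒜' := hint.chooseDecomposition
  letI : GradedRing 𝒜' := { }
  let m'' := GrSyz.irrel 𝒜'
  have hm'' : m''.toIdeal = m' := by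
    rw [hm']
    have hcc : ∀ p : S, MvPolynomial.constantCoeff p = 0 ↔ (DirectSum.decompose 𝒜 p (0 : ℤ) : S) = 0 := by
      intro p
      have h := hcomp 0 p
      rw [MvPolynomial.homogeneousComponent_zero, Nat.cast_zero] at h
      rw [← h, MvPolynomial.constantCoeff_eq]
      exact (map_eq_zero_iff _ (MvPolynomial.C_injective (Fin s) k)).symm
    refine le_antisymm (Ideal.span_le.2 ?_) fun x hx => ?_
    · rintro x ⟨j, hj, hx⟩
      show MvPolynomial.constantCoeff (φ x) = 0
      rw [hcc, DirectSum.decompose_of_mem_ne 𝒜 (show φ x ∈ 𝒜 (j * d) from hx) (mul_ne_zero hj.ne' hd0)]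
    · have hx0 : (DirectSum.decompose 𝒜 (φ x) (0 : ℤ) : S) = 0 := (hcc _).1 hx
      rw [← DirectSum.sum_support_decompose 𝒜' x]
      refine Ideal.sum_mem _ fun j _ => ?_
      rcases lt_trichotomy j 0 with hj | rfl | hj
      · have : φ (DirectSum.decompose 𝒜' x j : R') = 0 :=
          hp _ (mul_neg_of_neg_of_pos hj (by omega)) _ (SetLike.coe_mem (DirectSum.decompose 𝒜' x j))
        rw [(map_eq_zero_iff φ hφ).1 this]; exact zero_mem _
      · have : φ (DirectSum.decompose 𝒜' x (0 : ℤ) : R') = 0 := by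
          refine Eq.trans ?_ hx0
          conv_rhs => rw [← DirectSum.sum_support_decompose 𝒜' x, map_sum, DirectSum.decompose_sum,
            DFinsupp.finsetSum_apply, AddSubmonoidClass.coe_finsetSum]
          rw [Finset.sum_eq_single (0 : ℤ)]
          · exact (DirectSum.decompose_of_mem_same 𝒜
              (show φ (DirectSum.decompose 𝒜' x (0 : ℤ) : R') ∈ 𝒜 0 by
                have := (DirectSum.decompose 𝒜' x (0 : ℤ)).2
                simpa [𝒜'] using this)).symm
          · intro i _ hi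
            exact DirectSum.decompose_of_mem_ne 𝒜 (show φ (DirectSum.decompose 𝒜' x i : R') ∈ 𝒜 (i * d) from
              (DirectSum.decompose 𝒜' x i).2) (mul_ne_zero hi hd0)
          · intro h
            rw [DFinsupp.notMem_support_iff.1 h]
            simp
        rw [(map_eq_zero_iff φ hφ).1 this]; exact zero_mem _
      · exact GrLib8.mem_irrel_of_pos 𝒜' hj (SetLike.coe_mem _)
  subst hm''
  have hnd : n < s + d := by
    by_contra hc
    have hdn' : d ∣ n - d := Nat.dvd_sub hdn dvd_rfl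
    have := hmin (n - d) (by omega) hdn'
    omega
  rw [GrLib8.VeroGor.bassNum_eq hpos h0 hm hmsp hdim I _ ha (q := d) (by omega) φ hφ hdeg hstd m'' GrLib8.irrel_toIdeal_eq
    ((n : ℤ) - s) (by omega) (by omega) (by
      obtain ⟨c, rfl⟩ := hdn
      exact ⟨-(c : ℤ), by push_cast; ring⟩)]
  congr 1
  let j : GrSyz.stdGr k (Fin s) ((n : ℤ) - s) ≃+ GrLC.comp 𝒜 𝒜 ((n : ℤ) - s) :=
    { toFun := fun v => ⟨v.1, v.2⟩
      invFun := fun v => ⟨v.1, v.2⟩
      left_inv := fun _ => rfl
      right_inv := fun _ => rfl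
      map_add' := fun _ _ => rfl }
  have hrk := congrArg Cardinal.toNat (rank_eq_of_equiv_equiv ι' j hι fun c v => Subtype.ext (Algebra.smul_def c (v : S)))
  change Module.finrank k _ = Module.finrank (GrLC.deg0 𝒜) _ at hrk
  rw [← hrk]
  obtain ⟨r, rfl⟩ : ∃ r, s = r + 1 := ⟨s - 1, by omega⟩
  rw [(GrLib8.stdGr_piece (k := k) r _).2, if_pos (by omega), show r + ((n : ℤ) - ((r + 1 : ℕ) : ℤ)).toNat = n - 1 by omega, Nat.add_sub_cancel]

end Groth.Agent.S20027
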