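import Groth.Statements.S20028
import Groth.Agent.CurveGor.Num

set_option autoImplicit false
universe u
open CategoryTheory CategoryTheory.Limits AlgebraicGeometry
attribute [local instance] HasDerivedCategory.standard
open Curves

namespace Groth.Agent.S20028
set_option backward.isDefEq.respectTransparency false
set_option backward.isDefEq.respectTransparency.types false
set_option synthInstance.maxHeartbeats 200000
set_option maxHeartbeats 2000000
attribute [local instance] HasDerivedCategory.standard
open Groth.Agent.CurveGor in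


/-- Let k be an algebraically closed field and X a connected reduced Gorenstein curve over k of genus g
≥ 2: X is proper over k, reduced, connected, of dimension one, and its dualizing module ω_X (the
degree −1 cohomology sheaf of f^! O for the structure morphism f, for any choice of the data Rf_* on
D_QCoh with its right adjoint) is invertible; g = dim_k H^1(X, O_X). A connected subcurve Z of X is
a reduced connected closed subscheme of dimension one, deg_Z of a module means the degree of its
pullback to Z, and k_Z is the length of the scheme-theoretic intersection of Z with the reduced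
closed subscheme supported on the closure of X ∖ Z. Let L be an invertible module of degree d which
is balanced (for every connected subcurve Z, |deg_Z L − (d/(2g−2)) deg_Z ω_X| ≤ k_Z/2, written
cleared of denominators), ample, and of degree d ≥ g − 1. Then X is G-quasistable and L has degree 1
on every exceptional subcurve: deg_Z ω_X ≥ 0 for every connected subcurve Z, and every connected
subcurve Z with deg_Z ω_X = 0 is irreducible and has deg_Z L = 1. The published statement is made
for pre-wp-stable curves (nodes, cusps and tacnodes with a line) and concludes that X is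
quasi-wp-stable and L properly balanced; this row states the numerical conclusion its argument
yields for any connected reduced Gorenstein curve, and only the bound d ≥ g − 1 is needed (compare
the equivalence for d > 3(g − 1)). -/
theorem result (k : Type u) [Field k] [IsAlgClosed k] (X : Scheme.{u}) [X.Over (Spec (CommRingCat.of k))]
    [IsProper (X ↘ (Spec (CommRingCat.of k)))] [AlgebraicGeometry.IsReduced X] [ConnectedSpace X] (hdim : topologicalKrullDim X = 1)
    [DCoh.HasRpush (X ↘ (Spec (CommRingCat.of k)))] (h : DCoh.RpushPreservesQCoh (X ↘ (Spec (CommRingCat.of k)))) [DCoh.HasShriek (X ↘ (Spec (CommRingCat.of k))) h]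
    (OY : DCoh.DQCoh (Spec (CommRingCat.of k)))
    (hOY : Nonempty (OY.obj ≅ DCoh.inD (Spec (CommRingCat.of k)) (Coh.structureModule (Spec (CommRingCat.of k)))))
    (hGor : PicF.IsInvertible (DCoh.dualizingMod (X ↘ (Spec (CommRingCat.of k))) h OY 1)) (hg : 2 ≤ Curv2.genus k X)
    (L : X.Modules) (hL : PicF.IsInvertible L)
    (hbal : ∀ J : X.IdealSheafData, AlgebraicGeometry.IsReduced J.subscheme → ConnectedSpace J.subscheme →
      topologicalKrullDim J.subscheme = 1 →
      |2 * (2 * (Curv2.genus k X : ℤ) - 2) * @Curv2.deg k _ J.subscheme ⟨J.subschemeι ≫ (X ↘ (Spec (CommRingCat.of k)))⟩ ((Scheme.Modules.pullback J.subschemeι).obj L) 1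
          - 2 * Curv2.deg k X L 1 * @Curv2.deg k _ J.subscheme ⟨J.subschemeι ≫ (X ↘ (Spec (CommRingCat.of k)))⟩ ((Scheme.Modules.pullback J.subschemeι).obj (DCoh.dualizingMod (X ↘ (Spec (CommRingCat.of k))) h OY 1)) 1|
        ≤ (2 * (Curv2.genus k X : ℤ) - 2) * (Module.finrank k (Coh.HH X (ClSub.quotMod (J ⊔ (Scheme.IdealSheafData.vanishingIdeal ⟨closure ((J.support : Set X)ᶜ), isClosed_closure⟩))) 0) : ℤ))
    (hd : (Curv2.genus k X : ℤ) - 1 ≤ Curv2.deg k X L 1) (hamp : CohB1.IsAmple L) :
      ((∀ J : X.IdealSheafData, AlgebraicGeometry.IsReduced J.subscheme → ConnectedSpace J.subscheme →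
      topologicalKrullDim J.subscheme = 1 →
        0 ≤ @Curv2.deg k _ J.subscheme ⟨J.subschemeι ≫ (X ↘ (Spec (CommRingCat.of k)))⟩ ((Scheme.Modules.pullback J.subschemeι).obj (DCoh.dualizingMod (X ↘ (Spec (CommRingCat.of k))) h OY 1)) 1) ∧
      (∀ J : X.IdealSheafData, AlgebraicGeometry.IsReduced J.subscheme → ConnectedSpace J.subscheme →
      topologicalKrullDim J.subscheme = 1 →
        @Curv2.deg k _ J.subscheme ⟨J.subschemeι ≫ (X ↘ (Spec (CommRingCat.of k)))⟩ ((Scheme.Modules.pullback J.subschemeι).obj (DCoh.dualizingMod (X ↘ (Spec (CommRingCat.of k))) h OY 1)) 1 = 0 → IrreducibleSpace J.subscheme) ∧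
      (∀ J : X.IdealSheafData, AlgebraicGeometry.IsReduced J.subscheme → ConnectedSpace J.subscheme →
      topologicalKrullDim J.subscheme = 1 →
        @Curv2.deg k _ J.subscheme ⟨J.subschemeι ≫ (X ↘ (Spec (CommRingCat.of k)))⟩ ((Scheme.Modules.pullback J.subschemeι).obj (DCoh.dualizingMod (X ↘ (Spec (CommRingCat.of k))) h OY 1)) 1 = 0 → @Curv2.deg k _ J.subscheme ⟨J.subschemeι ≫ (X ↘ (Spec (CommRingCat.of k)))⟩ ((Scheme.Modules.pullback J.subschemeι).obj L) 1 = 1)) := by
  classical
  haveI := Groth.Agent.CurveCohLib.isNoetherian_of_proper (k := k) (X := X)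
  obtain ⟨t, ht, -⟩ := Groth.Agent.CurveDual.exists_dual hdim.le h OY hOY
  have hgen := notClosed_of_generic (k := k) hdim
  generalize DCoh.dualizingMod (X ↘ (Spec (CommRingCat.of k))) h OY 1 = ω at t ht hGor hbal ⊢
  have hB := balanced_of_statement (k := k) hdim.le hgen L ω _ _ hbal
  have hg' : (2 : ℤ) ≤ (Curv2.genus k X : ℤ) := by exact_mod_cast hg
  have key : ∀ (Y : Set X) (hY : IsClosed Y), IsCompUnion Y → _root_.IsConnected Y →
      |2 * (2 * (Curv2.genus k X : ℤ) - 2) * Groth.Agent.TFOneX.degOn k L 1 Y hY -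
          2 * Curv2.deg k X L 1 * Groth.Agent.TFOneX.degOn k ω 1 Y hY| ≤ (2 * (Curv2.genus k X : ℤ) - 2) * kY k Y hY ∧
      ((Groth.Agent.TFOneX.degOn k L 1 Y hY = Curv2.deg k X L 1 ∧
          Groth.Agent.TFOneX.degOn k ω 1 Y hY = 2 * (Curv2.genus k X : ℤ) - 2 ∧
          (genusY k Y hY : ℤ) = Curv2.genus k X) ∨
        (1 ≤ kY k Y hY ∧ Groth.Agent.TFOneX.degOn k ω 1 Y hY = 2 * (genusY k Y hY : ℤ) - 2 + kY k Y hY)) :=
    fun Y hY hc hconn => ⟨hB Y hY hc hconn,
      (numeric hdim.le hgen ht hGor hL hY hc hconn).imp (fun h => h.2) id⟩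
  have main : ∀ (Y : Set X) (hY : IsClosed Y), IsCompUnion Y → _root_.IsConnected Y →
      0 ≤ Groth.Agent.TFOneX.degOn k ω 1 Y hY ∧ (Groth.Agent.TFOneX.degOn k ω 1 Y hY = 0 →
        (genericPoints (X : Type u) ∩ Y).ncard = 1 ∧ Groth.Agent.TFOneX.degOn k L 1 Y hY = 1) := by
    intro Y hY hc hconn
    obtain ⟨hb, hcase⟩ := key Y hY hc hconn
    have hgY : (0 : ℤ) ≤ (genusY k Y hY : ℤ) := Int.natCast_nonneg _
    obtain ⟨x, hx⟩ := hconn.nonempty
    obtain ⟨η, hη, hηY, -⟩ := hc x hx
    have hn := (Set.ncard_pos (finite_genericPoints.inter_of_left Y)).2 ⟨η, hη, hηY⟩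
    have he := card_le_degOn (k := k) hdim.le hgen hamp _ Y hY hc rfl
    generalize (genericPoints (X : Type u) ∩ Y).ncard = n at *
    generalize Groth.Agent.TFOneX.degOn k L 1 Y hY = e at *
    generalize Groth.Agent.TFOneX.degOn k ω 1 Y hY = w at *
    generalize kY k Y hY = κ at *
    generalize (genusY k Y hY : ℤ) = gY at *
    generalize Curv2.deg k X L 1 = d at *
    rcases hcase with ⟨h1, h2, h3⟩ | ⟨hk, hw⟩
    · omega
    have h5 := (abs_le.1 hb).2
    refine ⟨?_, fun hw0 => ?_⟩
    · by_contra hneg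
      obtain ⟨rfl, rfl, rfl⟩ : gY = 0 ∧ κ = 1 ∧ w = -1 := by omega
      nlinarith
    · subst hw0
      have : e ≤ 1 := by nlinarith
      omega
  refine ⟨?_, ?_, ?_⟩
  · intro J hJ1 hJ2 hJ3
    obtain ⟨Y, hY, rfl, hc, hconn⟩ := exists_of_subcurve (k := k) hdim J hJ3
    exact (main Y hY hc hconn).1
  · intro J hJ1 hJ2 hJ3 hw0
    obtain ⟨Y, hY, rfl, hc, hconn⟩ := exists_of_subcurve (k := k) hdim J hJ3
    obtain ⟨η, hη⟩ := Set.ncard_eq_one.1 ((main Y hY hc hconn).2 hw0).1
    have hηY : η ∈ Y := (hη.ge rfl).2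
    obtain rfl : Y = closure ({η} : Set X) := by
      refine Set.Subset.antisymm (fun x hx => ?_) (hY.closure_subset_iff.2 (Set.singleton_subset_iff.2 hηY))
      obtain ⟨ξ, hξ, hξY, hsp⟩ := hc x hx
      obtain rfl : ξ = η := hη.le ⟨hξ, hξY⟩
      exact specializes_iff_mem_closure.1 hsp
    haveI := isIntegral_closure (k := k) η
    infer_instance
  · intro J hJ1 hJ2 hJ3 hw0
    obtain ⟨Y, hY, rfl, hc, hconn⟩ := exists_of_subcurve (k := k) hdim J hJ3
    exact ((main Y hY hc hconn).2 hw0).2


end Groth.Agent.S20028
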