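import Groth.Statements.S2003
import Groth.Agent.EtGlue7.Flat
-- import your own Groth.Agent.* helpers here

set_option autoImplicit false
universe u
open TensorProduct
open EtAlg

namespace Groth.Agent.S2003

/-- Let (R -> R', f) be a glueing pair and M any R-module. Then M is finite projective over R exactly
when both of its base changes are: R' ⊗_R M over R', and M_f over R_f. -/
theorem result (R R' : Type u) [CommRing R] [CommRing R'] [Algebra R R'] (f : R)
    (hRR : EtGlue.IsGlueingPair R R' f) (M : Type u) [AddCommGroup M] [Module R M] :
    (Module.Finite R M ∧ Module.Projective R M) ↔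
      (Module.Finite R' (R' ⊗[R] M) ∧ Module.Projective R' (R' ⊗[R] M)) ∧
      (Module.Finite (Localization.Away f) (LocalizedModule (Submonoid.powers f) M) ∧
        Module.Projective (Localization.Away f) (LocalizedModule (Submonoid.powers f) M)) := by
  exact Groth.Agent.EtGlue7.finite_projective_iff_glueingPair M hRR

end Groth.Agent.S2003
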