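import Groth.Statements.S2008
import Groth.Agent.EtGlue7.FlatTorsion
-- import your own Groth.Agent.* helpers here

set_option autoImplicit false
universe u
open TensorProduct
open EtAlg

namespace Groth.Agent.S2008

/-- For a ring map R -> S and an ideal I of R the following are equivalent: (1) S is flat over R and
S/IS is faithfully flat over R/I; (2) S is flat over R and Spec(S/IS) -> Spec(R/I) is surjective;
(3) S is flat over R and S ⊗_R M is nonzero for every nonzero R-module M killed by I; (4) S is flat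
over R and S ⊗_R M is nonzero for every nonzero I-power torsion R-module M. (Faithfulness of base
change on these subcategories is stated as detection of nonzero objects, which is equivalent for an
exact functor.) -/
theorem result (R S : Type u) [CommRing R] [CommRing S] [Algebra R S] (I : Ideal R) :
    List.TFAE [
      Module.Flat R S ∧ Module.FaithfullyFlat (R ⧸ I) (S ⧸ I.map (algebraMap R S)),
      Module.Flat R S ∧ Function.Surjective (PrimeSpectrum.comap (Ideal.quotientMap (I.map (algebraMap R S)) (algebraMap R S) Ideal.le_comap_map)),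
      Module.Flat R S ∧ ∀ (M : Type u) [AddCommGroup M] [Module R M], (∀ (a : R) (m : M), a ∈ I → a • m = 0) →
        Nontrivial M → Nontrivial (S ⊗[R] M),
      Module.Flat R S ∧ ∀ (M : Type u) [AddCommGroup M] [Module R M], (∀ m : M, ∃ n : ℕ, ∀ a ∈ I ^ n, a • m = 0) →
        Nontrivial M → Nontrivial (S ⊗[R] M)] := by
  let : Algebra (R ⧸ I) (S ⧸ I.map (algebraMap R S)) := Ideal.Quotient.algebraQuotientMapQuotient
  tfae_have 1 → 2 := fun ⟨hf, hff⟩ => ⟨hf, fun p => PrimeSpectrum.comap_surjective_of_faithfullyFlat p⟩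
  tfae_have 2 → 1 := fun ⟨hf, h⟩ => by
    have : Module.Flat (R ⧸ I) (S ⧸ I.map (algebraMap R S)) := Module.Flat.of_linearEquiv
      (Algebra.TensorProduct.quotIdealMapEquivQuotTensor S I).toLinearEquiv
    exact ⟨hf, Module.FaithfullyFlat.of_comap_surjective h⟩
  tfae_have 4 → 3 := fun ⟨hf, h⟩ => ⟨hf, fun M _ _ hM hN => h M (fun m => ⟨1, fun a ha => hM a m (pow_one I ▸ ha)⟩) hN⟩
  tfae_have 2 → 4 := fun ⟨hf, h⟩ => by
    refine ⟨hf, fun M _ _ hM hN => ?_⟩
    obtain ⟨m, hm⟩ := exists_ne (0 : M)
    let J := LinearMap.ker (LinearMap.toSpanSingleton R M m)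
    have hJ : J ≠ ⊤ := fun e => hm (by
      have h1 : (1 : R) ∈ J := e ▸ Submodule.mem_top
      simpa [J] using h1)
    obtain ⟨P, hP, hle⟩ := Ideal.exists_le_maximal J hJ
    have := hP.isPrime
    have hI : I ≤ P := by
      obtain ⟨n, hn⟩ := hM m
      exact hP.isPrime.le_of_pow_le (n := n) ((show I ^ n ≤ J from fun a ha => hn a ha).trans hle)
    obtain ⟨Q, hQ⟩ := h ⟨P.map (Ideal.Quotient.mk I),
      Ideal.map_isPrime_of_surjective Ideal.Quotient.mk_surjective (Ideal.mk_ker.trans_le hI)⟩
    have hQP : (Q.asIdeal.comap (Ideal.Quotient.mk _)).comap (algebraMap R S) = P := by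
      have := congrArg (fun x : PrimeSpectrum (R ⧸ I) => x.asIdeal.comap (Ideal.Quotient.mk I)) hQ
      simp only [PrimeSpectrum.comap_asIdeal, Ideal.comap_comap] at this ⊢
      rw [Ideal.quotientMap_comp_mk] at this
      rw [this, Ideal.comap_map_of_surjective _ Ideal.Quotient.mk_surjective, ← RingHom.ker_eq_comap_bot, Ideal.mk_ker,
        sup_eq_left.mpr hI]
    have hne : Nontrivial (S ⧸ P.map (algebraMap R S)) :=
      Ideal.Quotient.nontrivial_iff.mpr fun e => Q.isPrime.comap (Ideal.Quotient.mk _) |>.ne_top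
        (top_le_iff.mp (e ▸ Ideal.map_le_iff_le_comap.mpr hQP.ge))
    have : Nontrivial (S ⊗[R] (R ⧸ P)) :=
      (Algebra.TensorProduct.quotIdealMapEquivTensorQuot S P).symm.toEquiv.nontrivial
    let φ : R ⧸ J →ₗ[R] M := J.liftQ (LinearMap.toSpanSingleton R M m) le_rfl
    have hφ : Function.Injective φ := LinearMap.ker_eq_bot.mp (Submodule.ker_liftQ_eq_bot' _ _ rfl)
    have : Nontrivial (S ⊗[R] (R ⧸ J)) :=
      (LinearMap.lTensor_surjective S (Submodule.factor_surjective (show J ≤ P from hle))).nontrivial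
    exact (Module.Flat.lTensor_preserves_injective_linearMap (M := S) φ hφ).nontrivial
  tfae_have 3 → 2 := fun ⟨hf, h⟩ => by
    refine ⟨hf, fun p => ?_⟩
    let p' : PrimeSpectrum R := PrimeSpectrum.comap (Ideal.Quotient.mk I) p
    have hIp : I ≤ p'.asIdeal := fun a ha => by
      show Ideal.Quotient.mk I a ∈ p.asIdeal
      rw [Ideal.Quotient.eq_zero_iff_mem.mpr ha]; exact zero_mem _
    have := h p'.asIdeal.ResidueField (fun a x ha => by
      rw [Algebra.smul_def, Ideal.algebraMap_residueField_eq_zero.mpr (hIp ha), zero_mul]) inferInstance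
    have : Nontrivial (p'.asIdeal.ResidueField ⊗[R] S) := (TensorProduct.comm R _ S).toEquiv.nontrivial
    obtain ⟨q, hq⟩ := (PrimeSpectrum.nontrivial_iff_mem_rangeComap p').mp this
    have hIq : I.map (algebraMap R S) ≤ q.asIdeal := Ideal.map_le_iff_le_comap.mpr (hIp.trans (le_of_eq (by rw [← hq]; rfl)))
    refine ⟨⟨q.asIdeal.map (Ideal.Quotient.mk _),
      Ideal.map_isPrime_of_surjective Ideal.Quotient.mk_surjective (Ideal.mk_ker.trans_le hIq)⟩, ?_⟩
    apply PrimeSpectrum.comap_injective_of_surjective (Ideal.Quotient.mk I) Ideal.Quotient.mk_surjective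
    show _ = p'
    rw [← hq]
    apply PrimeSpectrum.ext
    simp only [PrimeSpectrum.comap_asIdeal, Ideal.comap_comap, Ideal.quotientMap_comp_mk]
    rw [← Ideal.comap_comap, Ideal.comap_map_of_surjective _ Ideal.Quotient.mk_surjective, ← RingHom.ker_eq_comap_bot,
      Ideal.mk_ker, sup_eq_left.mpr hIq]
  tfae_finish

end Groth.Agent.S2008
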