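import Groth.Statements.S2009
import Groth.Agent.EtGlue7.FlatTorsion
-- import your own Groth.Agent.* helpers here

set_option autoImplicit false
universe u
open TensorProduct
open EtAlg

namespace Groth.Agent.S2009

/-- Let R -> S be flat with S/IS faithfully flat over R/I. Then the natural map M -> S ⊗_R M is
bijective for every I-power torsion R-module M if and only if R/I -> S/IS is bijective. -/
theorem result (R S : Type u) [CommRing R] [CommRing S] [Algebra R S] (I : Ideal R)
    [Module.Flat R S] [Module.FaithfullyFlat (R ⧸ I) (S ⧸ I.map (algebraMap R S))] :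
    (∀ (M : Type u) [AddCommGroup M] [Module R M], (∀ m : M, ∃ n : ℕ, ∀ a ∈ I ^ n, a • m = 0) →
      Function.Bijective (TensorProduct.mk R S M 1)) ↔
    Function.Bijective (Ideal.quotientMap (I.map (algebraMap R S)) (algebraMap R S) Ideal.le_comap_map) := by
  refine ⟨fun h => ?_, fun hq M _ _ hM => Groth.Agent.EtGlue7.Formal.bijective_mk hq M hM⟩
  have hb := h (R ⧸ I) (fun c => ⟨1, fun a ha => by
    obtain ⟨c, rfl⟩ := Ideal.Quotient.mk_surjective c
    rw [Algebra.smul_def, Ideal.Quotient.algebraMap_eq, ← map_mul, Ideal.Quotient.eq_zero_iff_mem]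
    exact I.mul_mem_right c (pow_one I ▸ ha)⟩)
  have e : ⇑(Ideal.quotientMap (I.map (algebraMap R S)) (algebraMap R S) Ideal.le_comap_map) =
      (Algebra.TensorProduct.quotIdealMapEquivTensorQuot S I).symm ∘ TensorProduct.mk R S (R ⧸ I) 1 := funext fun c => by
    obtain ⟨a, rfl⟩ := Ideal.Quotient.mk_surjective c
    show Ideal.Quotient.mk _ (algebraMap R S a) = (Algebra.TensorProduct.quotIdealMapEquivTensorQuot S I).symm ((1 : S) ⊗ₜ[R] Ideal.Quotient.mk I a)
    rw [Algebra.TensorProduct.quotIdealMapEquivTensorQuot_symm_tmul, ← Algebra.algebraMap_eq_smul_one]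
    rfl
  rw [e]
  exact (Algebra.TensorProduct.quotIdealMapEquivTensorQuot S I).symm.bijective.comp hb

end Groth.Agent.S2009
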