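import Groth.Statements.S2011
import Mathlib

set_option autoImplicit false
universe u
open EtAlg

namespace Groth.Agent.S2011

theorem no_chain_domain {D : Type u} [CommRing D] [IsDomain D] [IsNoetherianRing D] {c : D}
    (hc : c ≠ 0) (hall : ∀ q : Ideal D, q.IsPrime → q ≠ ⊥ → c ∈ q) {q m : Ideal D} [q.IsPrime]
    [m.IsPrime] (hq : ⊥ < q) (hm : q < m) : False := by
  classical
  have two : ∀ {a b : Ideal D} [a.IsPrime] [b.IsPrime], ⊥ < a → a < b → b.height ≤ 1 → False := by
    intro a b _ _ ha hab hb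
    have h1 := Ideal.height_add_one_le_of_lt_of_isPrime ha
    have h2 := Ideal.height_add_one_le_of_lt_of_isPrime hab
    rw [Ideal.height_bot, zero_add] at h1
    have : (1 + 1 : ℕ∞) ≤ 1 := le_trans (by gcongr) (h2.trans hb)
    exact absurd this (by decide)
  let S := (Ideal.finite_minimalPrimes_of_isNoetherianRing D (Ideal.span {c})).toFinset
  have hS : ∀ {P}, P ∈ S ↔ P ∈ (Ideal.span {c}).minimalPrimes := fun {P} => by simp [S]
  by_cases hcov : (m : Set D) ⊆ ⋃ i ∈ (↑S : Set (Ideal D)), (i : Set D)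
  · obtain ⟨P, hP, hle⟩ := (Ideal.subset_union_prime (f := id) ⊥ ⊥
      fun i hi _ _ => (hS.mp hi).isPrime).mp hcov
    have hPm := (hS.mp hP)
    have : P.IsPrime := hPm.isPrime
    exact two (b := P) hq (hm.trans_le hle) (Ideal.height_le_one_of_isPrincipal_of_mem_minimalPrimes _ _ hPm)
  · obtain ⟨x, hxm, hx⟩ := Set.not_subset.mp hcov
    simp only [Set.mem_iUnion, not_exists] at hx
    obtain ⟨P', hP', hle⟩ := Ideal.exists_minimalPrimes_le
      (show Ideal.span {x} ≤ m from (Ideal.span_singleton_le_iff_mem _).mpr hxm)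
    have := hP'.isPrime
    have hxP' : x ∈ P' := hP'.le (Ideal.mem_span_singleton_self x)
    have hP'0 : P' ≠ ⊥ := by
      intro h
      obtain ⟨P, hP, -⟩ := Ideal.exists_minimalPrimes_le
        (show Ideal.span {c} ≤ m from (Ideal.span_singleton_le_iff_mem _).mpr
          (hall m inferInstance (hq.trans hm).ne'))
      rw [h, Ideal.mem_bot] at hxP'
      exact hx P (Finset.mem_coe.mpr (hS.mpr hP)) (hxP' ▸ P.zero_mem)
    obtain ⟨P, hP, hPle⟩ := Ideal.exists_minimalPrimes_le
      (show Ideal.span {c} ≤ P' from (Ideal.span_singleton_le_iff_mem _).mpr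
        (hall P' inferInstance hP'0))
    have := hP.isPrime
    have hcP : c ∈ P := hP.le (Ideal.mem_span_singleton_self c)
    refine two (bot_lt_iff_ne_bot.mpr fun h => hc (by simpa [h] using hcP))
      (lt_of_le_of_ne hPle fun h => hx P (Finset.mem_coe.mpr (hS.mpr hP)) (h ▸ hxP'))
      (Ideal.height_le_one_of_isPrincipal_of_mem_minimalPrimes _ _ hP')

theorem no_chain {A : Type u} [CommRing A] [IsNoetherianRing A] (p : Ideal A) [p.IsPrime] {c : A}
    (hc : c ∉ p) (hall : ∀ q : Ideal A, q.IsPrime → p < q → c ∈ q) {q m : Ideal A} [hq : q.IsPrime]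
    [hm : m.IsMaximal] (h₁ : p < q) (h₂ : q < m) : False := by
  let π := Ideal.Quotient.mk p
  have hπ : Function.Surjective π := Ideal.Quotient.mk_surjective
  have hk : RingHom.ker π = p := Ideal.mk_ker
  have hcm : ∀ {r : Ideal A}, p ≤ r → (r.map π).comap π = r := fun {r} h => by
    rw [Ideal.comap_map_of_surjective' _ hπ, hk, sup_eq_left.mpr h]
  have : (q.map π).IsPrime := Ideal.map_isPrime_of_surjective hπ (hk.trans_le h₁.le)
  have : (m.map π).IsPrime := Ideal.map_isPrime_of_surjective hπ (hk.trans_le (h₁.le.trans h₂.le))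
  refine no_chain_domain (c := π c) (by rwa [Ne, Ideal.Quotient.eq_zero_iff_mem]) (fun r hr hr0 => ?_)
    (q := q.map π) (m := m.map π) ?_ ?_
  · refine hall (r.comap π) (hr.comap _) (lt_of_le_of_ne ?_ fun h => hr0 ?_)
    · exact hk.symm.trans_le (Ideal.ker_le_comap _)
    · rw [← Ideal.map_comap_of_surjective _ hπ r, ← h, Ideal.map_quotient_self]
  · refine bot_lt_iff_ne_bot.mpr fun h => h₁.not_ge ?_
    rwa [Ideal.map_eq_bot_iff_le_ker, hk] at h
  · refine lt_of_le_of_ne (Ideal.map_mono h₂.le) fun h => h₂.ne ?_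
    rw [← hcm h₁.le, h, hcm (h₁.le.trans h₂.le)]

/-- Let A be a Noetherian ring and I an ideal contained in the Jacobson radical of A (a Zariski pair).
Then for every f in I the localization A_f is a Jacobson ring. -/
theorem result (A : Type u) [CommRing A] [IsNoetherianRing A] (I : Ideal A)
    (hI : I ≤ (⊥ : Ideal A).jacobson) (f : A) (hf : f ∈ I) : IsJacobsonRing (Localization.Away f) := by
  have hIf : f ∈ Ideal.jacobson (⊥ : Ideal A) := hI hf
  rw [isJacobsonRing_iff_prime_eq]
  intro P hP
  refine le_antisymm (fun g hg => ?_) Ideal.le_jacobson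
  by_contra hgP
  obtain ⟨⟨a, _, n, rfl⟩, hga⟩ := IsLocalization.surj (Submonoid.powers f) g
  have hfu : IsUnit (algebraMap A (Localization.Away f) f) := IsLocalization.Away.algebraMap_isUnit f
  have hfP : f ∉ P.comap (algebraMap A (Localization.Away f)) := fun h =>
    hP.ne_top (P.eq_top_of_isUnit_mem h hfu)
  have hPc := hP.comap (algebraMap A (Localization.Away f))
  have haP : f * a ∉ P.comap (algebraMap A (Localization.Away f)) := fun h => by
    refine (hPc.mem_or_mem h).elim hfP fun ha => hgP ?_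
    rw [Ideal.mem_comap, ← hga] at ha
    exact (hP.mem_or_mem ha).resolve_right fun h' =>
      hP.ne_top (P.eq_top_of_isUnit_mem h' (by simpa using hfu.pow n))
  let L := Localization.Away (f * a)
  have hne : (P.comap (algebraMap A (Localization.Away f))).map (algebraMap A L) ≠ ⊤ := by
    intro h
    obtain ⟨x, hx, hxP⟩ := Set.not_disjoint_iff.mp
      (fun hd => (IsLocalization.map_algebraMap_ne_top_iff_disjoint (Submonoid.powers (f * a)) L _).mpr hd h)
    obtain ⟨k, rfl⟩ := hx
    exact haP (hPc.mem_of_pow_mem _ hxP)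
  obtain ⟨M, hM, hle⟩ := Ideal.exists_le_maximal _ hne
  have hfaM : f * a ∉ M.comap (algebraMap A L) := fun h =>
    hM.ne_top (M.eq_top_of_isUnit_mem h (IsLocalization.Away.algebraMap_isUnit _))
  set p := M.comap (algebraMap A L) with hp
  have : p.IsPrime := hM.isPrime.comap _
  have hfp : f ∉ p := fun h => hfaM (p.mul_mem_right _ h)
  have hPp : P.comap (algebraMap A (Localization.Away f)) ≤ p := Ideal.map_le_iff_le_comap.mp hle
  have hup : ∀ q : Ideal A, q.IsPrime → p < q → f * a ∈ q := by
    intro q hq hlt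
    by_contra hfq
    have hd : Disjoint (Submonoid.powers (f * a) : Set A) q := Set.disjoint_left.mpr fun x hx hxq => by
      obtain ⟨k, rfl⟩ := hx
      exact hfq (hq.mem_of_pow_mem _ hxq)
    have h₁ : M ≤ q.map (algebraMap A L) := by
      rw [← IsLocalization.map_under (Submonoid.powers (f * a)) L M]
      exact Ideal.map_mono hlt.le
    have h₂ := hM.eq_of_le (IsLocalization.isPrime_of_isPrime_disjoint (Submonoid.powers (f * a)) L q hq hd).ne_top h₁
    exact hlt.ne (by rw [hp, h₂]; exact IsLocalization.under_map_of_isPrime_disjoint (Submonoid.powers (f * a)) L hq hd)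
  have hne' : p.map (algebraMap A (Localization.Away f)) ≠ ⊤ := by
    intro h
    obtain ⟨x, hx, hxp⟩ := Set.not_disjoint_iff.mp
      (fun hd => (IsLocalization.map_algebraMap_ne_top_iff_disjoint (Submonoid.powers f) (Localization.Away f) _).mpr hd h)
    obtain ⟨k, rfl⟩ := hx
    exact hfp (‹p.IsPrime›.mem_of_pow_mem _ hxp)
  obtain ⟨M', hM', hle'⟩ := Ideal.exists_le_maximal _ hne'
  have hq := hM'.isPrime.comap (algebraMap A (Localization.Away f))
  have hfq : f ∉ M'.comap (algebraMap A (Localization.Away f)) := fun h =>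
    hM'.ne_top (M'.eq_top_of_isUnit_mem h hfu)
  have hpq : M'.comap (algebraMap A (Localization.Away f)) = p := by
    by_contra hne''
    obtain ⟨m, hm, hqm⟩ := Ideal.exists_le_maximal _ hq.ne_top
    have hfm : f ∈ m := by
      rw [Ideal.jacobson] at hIf
      exact Submodule.mem_sInf.mp hIf m ⟨bot_le, hm⟩
    have hlt := lt_of_le_of_ne (Ideal.map_le_iff_le_comap.mp hle') (Ne.symm hne'')
    exact no_chain p hfaM hup hlt (lt_of_le_of_ne hqm fun h => hfq (h ▸ hfm))
  have hsub : P ≤ M' := by
    rw [← IsLocalization.map_under (Submonoid.powers f) (Localization.Away f) P]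
    exact (Ideal.map_mono hPp).trans hle'
  have hgM : g ∈ M' := Submodule.mem_sInf.mp hg M' ⟨hsub, hM'⟩
  have : algebraMap A (Localization.Away f) a ∈ M' := hga ▸ M'.mul_mem_right _ hgM
  exact hfaM (p.mul_mem_left f (hpq ▸ this))

end Groth.Agent.S2011
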