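import Groth.Statements.S2012
import Mathlib

set_option autoImplicit false
universe u
open EtAlg

namespace Groth.Agent.S2012

/-- Let A be a ring and I an ideal contained in its Jacobson radical. Let B be an A-algebra which is
flat, integral and of finite presentation over A and such that A/I -> B/IB is bijective. Then A -> B
is bijective. -/
theorem result (A B : Type u) [CommRing A] [CommRing B] [Algebra A B]
    (I : Ideal A) (hI : I ≤ (⊥ : Ideal A).jacobson) [Module.Flat A B] [Algebra.IsIntegral A B] [Algebra.FinitePresentation A B]
    (hq : Function.Bijective (Ideal.quotientMap (I.map (algebraMap A B)) (algebraMap A B) Ideal.le_comap_map)) :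
    Function.Bijective (algebraMap A B) := by
  have : Module.Finite A B := Algebra.IsIntegral.finite
  have : Module.FinitePresentation A B := Module.FinitePresentation.of_finite_of_finitePresentation A B
  have : Module.Projective A B := Module.Flat.projective_of_finitePresentation
  have hsurj : Function.Surjective (algebraMap A B) := by
    have hle : (⊤ : Submodule A B) ≤ LinearMap.range (Algebra.linearMap A B) ⊔ I • ⊤ := by
      intro b _
      obtain ⟨x, hx⟩ := hq.2 (Ideal.Quotient.mk _ b)
      obtain ⟨a, rfl⟩ := Ideal.Quotient.mk_surjective x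
      rw [Ideal.quotientMap_mk, Ideal.Quotient.eq, ← Submodule.restrictScalars_mem A,
        ← Ideal.smul_top_eq_map] at hx
      exact Submodule.mem_sup.mpr ⟨algebraMap A B a, ⟨a, rfl⟩, _, neg_mem hx, by ring⟩
    intro b
    exact Submodule.le_of_le_smul_of_le_jacobson_bot Module.Finite.fg_top hI hle (Submodule.mem_top (x := b))
  obtain ⟨s, hs⟩ := Module.projective_lifting_property (Algebra.linearMap A B) LinearMap.id hsurj
  have hker : ∀ a, algebraMap A B a = 0 → a ∈ I := fun a ha => by
    rw [← Ideal.Quotient.eq_zero_iff_mem]
    exact hq.1 (by rw [Ideal.quotientMap_mk, ha, map_zero, map_zero])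
  set e := 1 - s 1 with he
  have hs1 : algebraMap A B (s 1) = 1 := congr($hs 1)
  have hmul : ∀ a, algebraMap A B a = 0 → a * e = a := fun a ha => by
    have h : a * s 1 = 0 := by
      rw [← smul_eq_mul, ← map_smul, Algebra.smul_def, ha, zero_mul, map_zero]
    linear_combination -h
  have he0 : algebraMap A B e = 0 := by rw [he, map_sub, map_one, hs1, sub_self]
  have hu : IsUnit (e * (-1) + 1) := Ideal.mem_jacobson_bot.mp (hI (hker e he0)) (-1)
  have he' : e = 0 := hu.mul_left_eq_zero.mp (by linear_combination -(hmul e he0))
  refine ⟨(injective_iff_map_eq_zero _).mpr fun a ha => ?_, hsurj⟩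
  rw [← hmul a ha, he', mul_zero]

end Groth.Agent.S2012
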