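import Groth.Statements.S2014
import Mathlib

set_option autoImplicit false
universe u
open EtAlg

namespace Groth.Agent.S2014

theorem finiteLength_cokernel {R : Type u} [CommRing R] [IsNoetherianRing R] [IsLocalRing R]
    (hdim : ringKrullDim R = 1) [Finite (minimalPrimes R)]
    (φ : R →ₗ[R] ((i : minimalPrimes R) → R ⧸ i.1))
    (hφ : φ = LinearMap.pi fun i => Submodule.mkQ i.1) :
    IsFiniteLength R (((i : minimalPrimes R) → R ⧸ i.1) ⧸ LinearMap.range φ) := by
  classical
  let := Fintype.ofFinite (minimalPrimes R)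
  have he : ∀ i : minimalPrimes R, ∃ e, e ∉ i.1 ∧ ∀ j, j ≠ i → e ∈ j.1 := by
    intro i
    have : ∀ j : {j // j ≠ i}, ∃ a, a ∈ (j.1).1 ∧ a ∉ i.1 := fun j => by
      refine SetLike.not_le_iff_exists.mp fun hle => j.2 (Subtype.ext ?_)
      exact le_antisymm hle (i.2.2 j.1.2.1 hle)
    choose a ha₁ ha₂ using this
    refine ⟨∏ j, a j, fun h => ?_, fun j hj => ?_⟩
    · obtain ⟨j, _, hj⟩ := (i.2.isPrime.prod_mem_iff).mp h
      exact ha₂ j hj
    · exact Ideal.mem_of_dvd _ (Finset.dvd_prod_of_mem a (Finset.mem_univ (⟨j, hj⟩ : {j // j ≠ i}))) (ha₁ ⟨j, hj⟩)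
  choose e he₁ he₂ using he
  let J : minimalPrimes R → Ideal R := fun i => i.1 ⊔ Ideal.span {e i}
  have hJ : ∀ i, IsArtinian R (R ⧸ J i) := by
    intro i
    have : Ring.KrullDimLE 0 (R ⧸ J i) := Ring.KrullDimLE.mk₀ fun q hq => by
      have hq' := hq.comap (Ideal.Quotient.mk (J i))
      have hle : J i ≤ q.comap (Ideal.Quotient.mk (J i)) := by
        simpa [Ideal.mk_ker] using Ideal.ker_le_comap (Ideal.Quotient.mk (J i)) (K := q)
      have : i.1.IsPrime := i.2.isPrime
      have hlt : i.1 < q.comap (Ideal.Quotient.mk (J i)) :=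
        lt_of_le_of_ne (le_sup_left.trans hle) fun h => he₁ i (by
          rw [h]; exact hle (Ideal.mem_sup_right (Ideal.mem_span_singleton_self _)))
      have hmax : q.comap (Ideal.Quotient.mk (J i)) = IsLocalRing.maximalIdeal R := by
        refine eq_of_le_of_not_lt (IsLocalRing.le_maximalIdeal hq'.ne_top) fun h => ?_
        have h1 := Ideal.height_add_one_le_of_lt_of_isPrime hlt
        have h2 := Ideal.height_add_one_le_of_lt_of_isPrime h
        have h3 := IsLocalRing.maximalIdeal_height_eq_ringKrullDim (R := R)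
        rw [hdim] at h3
        have h3' : (IsLocalRing.maximalIdeal R).height = 1 := by exact_mod_cast h3
        have : (1 + 1 : ℕ∞) ≤ 1 := by
          refine le_trans ?_ (h2.trans h3'.le)
          gcongr
          exact le_trans (self_le_add_left 1 _) h1
        exact absurd this (by decide)
      have hm : ((IsLocalRing.maximalIdeal R).map (Ideal.Quotient.mk (J i))) = q := by
        rw [← hmax, Ideal.map_comap_of_surjective _ Ideal.Quotient.mk_surjective]
      rcases Ideal.map_eq_top_or_isMaximal_of_surjective (Ideal.Quotient.mk (J i))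
        Ideal.Quotient.mk_surjective (IsLocalRing.maximalIdeal.isMaximal R) with h | h
      · exact absurd (hm.symm.trans h) hq.ne_top
      · exact hm ▸ h
    have : IsArtinianRing (R ⧸ J i) := isArtinianRing_iff_krullDimLE_zero.mpr this
    exact isArtinian_of_surjective_algebraMap (R := R ⧸ J i) (M := R ⧸ J i) Ideal.Quotient.mk_surjective
  let g : ((i : minimalPrimes R) → R ⧸ i.1) →ₗ[R] ((i : minimalPrimes R) → R ⧸ J i) :=
    LinearMap.pi fun i => (Submodule.factor le_sup_left).comp (LinearMap.proj i)
  have hle : LinearMap.ker g ≤ LinearMap.range φ := by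
    intro v hv
    choose r hr using fun i => Submodule.mkQ_surjective _ (v i)
    have : ∀ i, r i ∈ J i := fun i => by
      have h : g v i = 0 := congr_fun (LinearMap.mem_ker.mp hv) i
      simp only [g, LinearMap.pi_apply, LinearMap.comp_apply, LinearMap.proj_apply, ← hr i,
        Submodule.mkQ_apply, Submodule.factor_mk] at h
      exact (Submodule.Quotient.mk_eq_zero _).mp h
    choose a ha b hb hab using fun i => Submodule.mem_sup.mp (this i)
    refine ⟨∑ i, b i, funext fun i => ?_⟩
    rw [hφ, LinearMap.pi_apply, ← hr i, Submodule.mkQ_apply, Submodule.mkQ_apply, Submodule.Quotient.eq,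
      ← hab i, ← Finset.add_sum_erase _ _ (Finset.mem_univ i)]
    have hrest : ∑ j ∈ Finset.univ.erase i, b j ∈ i.1 := i.1.sum_mem fun j hj => by
      obtain ⟨c, hc⟩ := Ideal.mem_span_singleton'.mp (hb j)
      exact hc ▸ i.1.mul_mem_left c (he₂ j i (Finset.ne_of_mem_erase hj).symm)
    convert i.1.sub_mem hrest (ha i) using 1
    abel
  have : IsArtinian R (((i : minimalPrimes R) → R ⧸ i.1) ⧸ LinearMap.ker g) :=
    isArtinian_of_injective ((LinearMap.ker g).liftQ g le_rfl)
      (LinearMap.ker_eq_bot.mp (Submodule.ker_liftQ_eq_bot _ _ _ le_rfl))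
  exact isFiniteLength_iff_isNoetherian_isArtinian.mpr ⟨inferInstance,
    isArtinian_of_surjective (M := _ ⧸ LinearMap.ker g) (Submodule.factor hle) (Submodule.factor_surjective _)⟩

/-- Let R be a Noetherian local ring of Krull dimension 1 and x an element of the maximal ideal
contained in no minimal prime of R. Then the number of minimal prime ideals of R is at most the
length of R/xR as an R-module. -/
theorem result (R : Type u) [CommRing R] [IsNoetherianRing R] [IsLocalRing R]
    (hdim : ringKrullDim R = 1) (x : R) (hx : x ∈ IsLocalRing.maximalIdeal R) (hmin : ∀ p ∈ minimalPrimes R, x ∉ p) :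
    (Set.ncard (minimalPrimes R) : ℕ∞) ≤ Module.length R (R ⧸ Ideal.span {x}) := by
  classical
  have : Finite (minimalPrimes R) := (minimalPrimes.finite_of_isNoetherianRing R).to_subtype
  let := Fintype.ofFinite (minimalPrimes R)
  let M := (i : minimalPrimes R) → R ⧸ i.1
  let φ : R →ₗ[R] M := LinearMap.pi fun i => Submodule.mkQ i.1
  let R' := LinearMap.range φ
  let L : M →ₗ[R] M := LinearMap.lsmul R M x
  have hL : Function.Injective L := by
    refine (injective_iff_map_eq_zero L).mpr fun v hv => funext fun i => ?_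
    have : i.1.IsPrime := i.2.isPrime
    obtain ⟨r, hr⟩ := Ideal.Quotient.mk_surjective (v i)
    have h : Ideal.Quotient.mk i.1 (x * r) = 0 := by
      rw [map_mul, hr]
      exact (congr_fun hv i : _)
    rw [← hr, Pi.zero_apply, Ideal.Quotient.eq_zero_iff_mem]
    exact (‹i.1.IsPrime›.mem_or_mem (Ideal.Quotient.eq_zero_iff_mem.mp h)).resolve_left (hmin _ i.2)
  let xR := R'.map L
  -- finite length of `M ⧸ R'`
  have hfin : IsFiniteLength R (M ⧸ R') := finiteLength_cokernel hdim φ rfl
  -- first exact sequence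
  let a : M ⧸ R' →ₗ[R] M ⧸ xR := R'.mapQ xR L (fun v hv => ⟨v, hv, rfl⟩)
  let b : M ⧸ xR →ₗ[R] M ⧸ LinearMap.range L := Submodule.factor (LinearMap.map_le_range)
  have ha : Function.Injective a := by
    refine (injective_iff_map_eq_zero a).mpr fun v => ?_
    obtain ⟨v, rfl⟩ := Submodule.mkQ_surjective _ v
    simp only [a, Submodule.mkQ_apply, Submodule.mapQ_apply, Submodule.Quotient.mk_eq_zero]
    rintro ⟨w, hw, e⟩
    exact hL e ▸ hw
  have hb : Function.Surjective b := Submodule.factor_surjective _
  have hab : Function.Exact a b := by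
    intro v
    obtain ⟨v, rfl⟩ := Submodule.mkQ_surjective _ v
    show (b (Submodule.Quotient.mk v) = 0) ↔ _
    simp only [b, Submodule.factor, Submodule.mapQ_apply, LinearMap.id_apply, Submodule.Quotient.mk_eq_zero]
    constructor
    · rintro ⟨w, rfl⟩
      exact ⟨Submodule.Quotient.mk w, by simp [a]⟩
    · rintro ⟨w, hw⟩
      obtain ⟨w, rfl⟩ := Submodule.mkQ_surjective _ w
      simp only [a, Submodule.mkQ_apply, Submodule.mapQ_apply, Submodule.Quotient.eq] at hw
      obtain ⟨y, _, hy⟩ := hw
      exact ⟨w - y, by rw [map_sub, hy]; abel⟩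
  have e1 := Module.length_eq_add_of_exact a b ha hb hab
  -- second sequence
  let c : R ⧸ Ideal.span {x} →ₗ[R] M ⧸ xR := (Ideal.span {x}).mapQ xR φ (fun r hr => by
    obtain ⟨s, rfl⟩ := Ideal.mem_span_singleton'.mp hr
    exact ⟨φ s, ⟨s, rfl⟩, by rw [mul_comm, ← smul_eq_mul, map_smul]; rfl⟩)
  have hxR : xR ≤ R' := by
    rintro _ ⟨v, hv, rfl⟩
    exact R'.smul_mem x hv
  let d : M ⧸ xR →ₗ[R] M ⧸ R' := Submodule.factor hxR
  have hcd : Function.Exact ((LinearMap.range c).subtype) d := by
    intro v
    obtain ⟨v, rfl⟩ := Submodule.mkQ_surjective _ v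
    show (d (Submodule.Quotient.mk v) = 0) ↔ _
    simp only [d, Submodule.factor, Submodule.mapQ_apply, LinearMap.id_apply, Submodule.Quotient.mk_eq_zero]
    constructor
    · rintro ⟨r, rfl⟩
      exact ⟨⟨_, ⟨Submodule.Quotient.mk r, rfl⟩⟩, rfl⟩
    · rintro ⟨⟨_, ⟨r, rfl⟩⟩, hr⟩
      obtain ⟨r, rfl⟩ := Submodule.mkQ_surjective _ r
      have := Submodule.Quotient.eq _ |>.mp hr
      have h := R'.sub_mem ⟨r, rfl⟩ (hxR this)
      rwa [sub_sub_cancel] at h
  have e2 := Module.length_eq_add_of_exact (LinearMap.range c).subtype d Subtype.val_injective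
    (Submodule.factor_surjective _) hcd
  have hc := Module.length_le_of_surjective c.rangeRestrict c.surjective_rangeRestrict
  have hne : Module.length R (M ⧸ R') ≠ ⊤ := Module.length_ne_top_iff.mpr hfin
  have key : Module.length R (M ⧸ LinearMap.range L) ≤ Module.length R (R ⧸ Ideal.span {x}) := by
    refine ENat.addLECancellable_of_ne_top hne ?_
    calc _ = Module.length R (M ⧸ xR) := e1.symm
      _ = Module.length R (LinearMap.range c) + Module.length R (M ⧸ R') := e2
      _ ≤ Module.length R (R ⧸ Ideal.span {x}) + Module.length R (M ⧸ R') := by gcongr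
      _ = _ := add_comm _ _
  refine le_trans ?_ key
  let k := R ⧸ IsLocalRing.maximalIdeal R
  let π : M →ₗ[R] (minimalPrimes R → k) := LinearMap.pi fun i =>
    (Submodule.factor (IsLocalRing.le_maximalIdeal i.2.isPrime.ne_top)).comp (LinearMap.proj i)
  have hπ : Function.Surjective π := fun v => by
    choose r hr using fun i => Submodule.mkQ_surjective _ (v i)
    exact ⟨fun i => Submodule.Quotient.mk (r i), funext fun i => hr i⟩
  have hker : LinearMap.range L ≤ LinearMap.ker π := by
    rintro _ ⟨v, rfl⟩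
    refine LinearMap.mem_ker.mpr ?_
    show π (x • v) = 0
    rw [map_smul]
    funext i
    obtain ⟨r, hr⟩ := Submodule.mkQ_surjective _ (π v i)
    rw [Pi.smul_apply, ← hr, ← map_smul, Submodule.mkQ_apply, Pi.zero_apply, Submodule.Quotient.mk_eq_zero]
    exact Ideal.mul_mem_right _ _ hx
  refine le_trans ?_ (Module.length_le_of_surjective (Submodule.liftQ _ π hker) (fun v => by
    obtain ⟨w, rfl⟩ := hπ v
    exact ⟨Submodule.Quotient.mk w, rfl⟩))
  have : IsSimpleModule R k := isSimpleModule_iff_isCoatom.mpr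
    (Ideal.isMaximal_def.mp (IsLocalRing.maximalIdeal.isMaximal R))
  rw [Module.length_pi_of_fintype, ← Nat.card_coe_set_eq, Nat.card_eq_fintype_card]
  simp [Module.length_eq_one]

end Groth.Agent.S2014
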