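import Groth.Statements.S2015
import Groth.Agent.EtAlg7.CyclicDecomp
-- import your own Groth.Agent.* helpers here

set_option autoImplicit false
universe u
open EtAlg

namespace Groth.Agent.S2015

/-- Let R be a nonzero ring such that for all a, b in R either a divides b or b divides a. Then each
finitely presented R-module decomposes as a direct sum of finitely many cyclic modules R/fR. -/
theorem result (R : Type u) [CommRing R] [Nontrivial R] (h : ∀ a b : R, a ∣ b ∨ b ∣ a)
    (M : Type u) [AddCommGroup M] [Module R M] [Module.FinitePresentation R M] :
    ∃ (n : ℕ) (f : Fin n → R), Nonempty (M ≃ₗ[R] ((i : Fin n) → R ⧸ Ideal.span {f i})) := by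
  exact Groth.Agent.EtAlg7.exists_equiv_pi_cyclic h M

end Groth.Agent.S2015
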