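import Groth.Statements.S2017
import Mathlib
-- import your own Groth.Agent.* helpers here

set_option autoImplicit false
universe u
open EtAlg

namespace Groth.Agent.S2017

/-- Let R be a Noetherian ring, A, B, C R-algebras of finite type, f : A -> B a surjective R-algebra map
and g : C -> B an R-algebra map making B a finite C-module. Then the fibre product A ×_B C (the
equalizer of f ∘ pr₁ and g ∘ pr₂ in A × C) is an R-algebra of finite type. -/
theorem result (R A B C : Type u) [CommRing R] [IsNoetherianRing R] [CommRing A] [CommRing B]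
    [CommRing C] [Algebra R A] [Algebra R B] [Algebra R C] [Algebra.FiniteType R A] [Algebra.FiniteType R B]
    [Algebra.FiniteType R C] (f : A →ₐ[R] B) (hf : Function.Surjective f) (g : C →ₐ[R] B)
    (hg : (g.toRingHom).Finite) :
    Algebra.FiniteType R ↥(AlgHom.equalizer (f.comp (AlgHom.fst R A C)) (g.comp (AlgHom.snd R A C))) := by
  classical
  let E := AlgHom.equalizer (f.comp (AlgHom.fst R A C)) (g.comp (AlgHom.snd R A C))
  let := g.toRingHom.toAlgebra
  have : Module.Finite C B := hg
  obtain ⟨t, ht⟩ := (Module.Finite.fg_top : (⊤ : Submodule C B).FG)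
  choose β hβ using hf
  let gens : Finset (A × C) := insert (1, 0) (insert (0, 1) (t.image fun b => (β b, 0)))
  have hfin : (⊤ : Submodule E (A × C)).FG := by
    refine ⟨gens, eq_top_iff.mpr ?_⟩
    rintro ⟨a, c⟩ -
    have hsmul : ∀ (e : E) (p : A × C), e • p = (e : A × C) * p := fun e p => rfl
    have hc : ∀ z, ((0, z) : A × C) ∈ Submodule.span E (gens : Set (A × C)) := fun z => by
      have := Submodule.smul_mem (Submodule.span E (gens : Set (A × C))) (⟨(β (g z), z), hβ (g z)⟩ : E)
        (Submodule.subset_span (s := (gens : Set (A × C))) (show ((0, 1) : A × C) ∈ _ by simp [gens]))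
      simpa [hsmul] using this
    have hk : ∀ z, f z = 0 → ((z, 0) : A × C) ∈ Submodule.span E (gens : Set (A × C)) := fun z hz => by
      have := Submodule.smul_mem (Submodule.span E (gens : Set (A × C))) (⟨(z, 0), by show f z = g 0; simp [hz]⟩ : E)
        (Submodule.subset_span (s := (gens : Set (A × C))) (show ((1, 0) : A × C) ∈ _ by simp [gens]))
      simpa [hsmul] using this
    have hb : ∀ b ∈ Submodule.span C (t : Set B), ∃ z, f z = b ∧ ((z, 0) : A × C) ∈ Submodule.span E (gens : Set (A × C)) := by
      intro b hb
      induction hb using Submodule.span_induction with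
      | mem x hx => exact ⟨β x, hβ x, Submodule.subset_span (Finset.mem_coe.mpr (Finset.mem_insert_of_mem (Finset.mem_insert_of_mem (Finset.mem_image.mpr ⟨x, hx, rfl⟩))))⟩
      | zero => exact ⟨0, map_zero f, by simpa using hk 0 (map_zero f)⟩
      | add x y _ _ hx hy =>
        obtain ⟨z, rfl, hz⟩ := hx
        obtain ⟨w, rfl, hw⟩ := hy
        exact ⟨z + w, map_add f z w, by simpa using Submodule.add_mem _ hz hw⟩
      | smul r x _ hx =>
        obtain ⟨z, rfl, hz⟩ := hx
        refine ⟨β (g r) * z, by rw [map_mul, hβ]; rfl, ?_⟩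
        have := Submodule.smul_mem (Submodule.span E (gens : Set (A × C))) (⟨(β (g r), r), hβ (g r)⟩ : E) hz
        simpa [hsmul] using this
    obtain ⟨z, hz, hzm⟩ := hb (f a) (ht ▸ Submodule.mem_top)
    have := Submodule.add_mem _ (Submodule.add_mem _ (hk (a - z) (by rw [map_sub, hz, sub_self])) hzm) (hc c)
    simpa using this
  exact ⟨fg_of_fg_of_fg R E (A × C) Algebra.FiniteType.out hfin Subtype.val_injective⟩

end Groth.Agent.S2017
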