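import Groth.Statements.S2018
import Mathlib
-- import your own Groth.Agent.* helpers here

set_option autoImplicit false
universe u
open EtAlg

namespace Groth.Agent.S2018

/-- Let g : A' -> A be a surjective ring map and f : B -> A an integral ring map. Then the projection
from the fibre product B ×_A A' (the equalizer of f ∘ pr₁ and g ∘ pr₂ in B × A') to A' is integral. -/
theorem result (A A' B : Type u) [CommRing A] [CommRing A'] [CommRing B] (g : A' →+* A)
    (hg : Function.Surjective g) (f : B →+* A) (hf : f.IsIntegral) :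
    ((RingHom.snd B A').comp ((f.comp (RingHom.fst B A')).eqLocus (g.comp (RingHom.snd B A'))).subtype).IsIntegral := by
  intro a'
  let E := (f.comp (RingHom.fst B A')).eqLocus (g.comp (RingHom.snd B A'))
  let π : E →+* A' := (RingHom.snd B A').comp E.subtype
  rcases subsingleton_or_nontrivial B with h | h
  · have hA : Subsingleton A := subsingleton_of_zero_eq_one (by
      rw [← map_one f, Subsingleton.elim (1 : B) 0, map_zero])
    have he : ((0 : B), a') ∈ E := Subsingleton.elim _ _
    exact ⟨Polynomial.X - Polynomial.C ⟨(0, a'), he⟩, Polynomial.monic_X_sub_C _, by simp⟩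
  obtain ⟨p₀, hp₀, hroot₀⟩ := hf (g a')
  let p := p₀ * Polynomial.X
  have hp : p.Monic := hp₀.mul Polynomial.monic_X
  have hroot : p.eval₂ f (g a') = 0 := by simp [p, hroot₀]
  let n := p.natDegree
  have hn : n ≠ 0 := by simp [n, p, hp₀.natDegree_mul Polynomial.monic_X]
  choose l hl using fun i => hg (f (p.coeff i))
  let co : ℕ → E := fun i => ⟨(p.coeff i, l i), (hl i).symm⟩
  let k := a' ^ n + ∑ i ∈ Finset.range n, l i * a' ^ i
  have hk : ((0 : B), k) ∈ E := by
    show f 0 = g k
    rw [Polynomial.eval₂_eq_sum_range, Finset.sum_range_succ, hp.coeff_natDegree, map_one, one_mul] at hroot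
    simp only [k, map_add, map_pow, map_sum, map_mul, hl, map_zero]
    rw [add_comm]
    exact hroot.symm
  refine ⟨Polynomial.X ^ n + ((∑ i ∈ Finset.range n, Polynomial.C (co i) * Polynomial.X ^ i) - Polynomial.C ⟨(0, k), hk⟩),
    Polynomial.monic_X_pow_add ?_, ?_⟩
  · refine lt_of_le_of_lt (Polynomial.degree_sub_le _ _) (max_lt ?_ ?_)
    · refine lt_of_le_of_lt (Polynomial.degree_sum_le _ _) ((Finset.sup_lt_iff (WithBot.bot_lt_coe n)).mpr fun i hi => ?_)
      exact lt_of_le_of_lt (Polynomial.degree_C_mul_X_pow_le _ _) (WithBot.coe_lt_coe.mpr (Finset.mem_range.mp hi))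
    · exact lt_of_le_of_lt Polynomial.degree_C_le (WithBot.coe_lt_coe.mpr (Nat.pos_of_ne_zero hn))
  · simp [Polynomial.eval₂_finsetSum, k, co]

end Groth.Agent.S2018
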