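import Groth.Statements.S2020
import Groth.Agent.EtMil7.Presented
-- import your own Groth.Agent.* helpers here

set_option autoImplicit false
universe u
open TensorProduct
open EtAlg

namespace Groth.Agent.S2020

/-- Let B' → B, B' → A', B → A and A' → A be ring homomorphisms forming a commutative square that is a
fibre product, B' = B ×_A A', with A' → A surjective. (1) Given a flat B-module N, a flat A'-module
M' and an A-linear isomorphism φ : A ⊗_B N ≅ A ⊗_{A'} M', the glued module N ×_φ M' (pairs (n, m')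
with φ(1 ⊗ n) = 1 ⊗ m') is a flat B'-module. (2) For every flat B'-module L', the map L' → (B ⊗_{B'}
L') × (A' ⊗_{B'} L') is injective, and any pair (x, y) whose two images in A ⊗_{B'} L' agree comes
from an element of L'. -/
theorem result (B' B A' A : Type u) [CommRing B'] [CommRing B] [CommRing A'] [CommRing A]
    [Algebra B' B] [Algebra B' A'] [Algebra B A] [Algebra A' A] [Algebra B' A] [IsScalarTower B' B A] [IsScalarTower B' A' A]
    (hsq : EtMil.IsFibreSquare B' B A' A) :
    (∀ (N M' : Type u) [AddCommGroup N] [Module B N] [Module B' N] [IsScalarTower B' B N]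
    [AddCommGroup M'] [Module A' M'] [Module B' M'] [IsScalarTower B' A' M'] (φ : A ⊗[B] N ≃ₗ[A] A ⊗[A'] M'), Module.Flat B N → Module.Flat A' M' → Module.Flat B' ↥(EtMil.glue B' φ)) ∧
    (∀ (L' : Type u) [AddCommGroup L'] [Module B' L'], Module.Flat B' L' →
      Function.Injective (fun l : L' => (((1 : B) ⊗ₜ[B'] l : B ⊗[B'] L'), ((1 : A') ⊗ₜ[B'] l : A' ⊗[B'] L'))) ∧
      ∀ (x : B ⊗[B'] L') (y : A' ⊗[B'] L'),
        (IsScalarTower.toAlgHom B' B A).toLinearMap.rTensor L' x = (IsScalarTower.toAlgHom B' A' A).toLinearMap.rTensor L' y →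
          ∃ l : L', (1 : B) ⊗ₜ[B'] l = x ∧ (1 : A') ⊗ₜ[B'] l = y) := by
  refine ⟨fun N M' _ _ _ _ _ _ _ _ φ _ _ => Groth.Agent.EtMil7.flat_glue φ hsq, fun L' _ _ _ => ⟨Groth.Agent.EtMil7.flat_injective_pair hsq L', fun x y h => Groth.Agent.EtMil7.exists_of_rTensor_eq (Groth.Agent.EtMil7.isWeakSquare hsq) L' x y h⟩⟩

end Groth.Agent.S2020
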