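import Groth.Statements.S2023
import Groth.Agent.SmoothingLib.IndNilpotent
-- import your own Groth.Agent.* helpers here

set_option autoImplicit false
universe u
open Smoothing

namespace Groth.Agent.S2023

/-- Let `I` be an ideal of square zero in `R` and `Λ` an `R`-algebra with `Λ/IΛ` ind-smooth over `R/I`.
Any `R`-algebra map `A → Λ` with `A` finitely presented factors through a quotient `B/J`, where `B`
is a smooth `R`-algebra and `J` is a finitely generated ideal contained in `IB`. -/
theorem result {R Λ A : Type u} [CommRing R] [CommRing Λ] [Algebra R Λ] (I : Ideal R)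
    (hI : I ^ 2 = ⊥) (h : Smoothing.IndSmooth (R ⧸ I) (Λ ⧸ I.map (algebraMap R Λ)))
    [CommRing A] [Algebra R A] [Algebra.FinitePresentation R A] (φ : A →ₐ[R] Λ) :
    ∃ (B : Type u) (_ : CommRing B) (_ : Algebra R B), Algebra.Smooth R B ∧
      ∃ J : Ideal B, J ≤ I.map (algebraMap R B) ∧ J.FG ∧
        ∃ (g : A →ₐ[R] B ⧸ J) (k : (B ⧸ J) →ₐ[R] Λ), k.comp g = φ := by
    exact Groth.Agent.SmoothingLib.exists_factor_mod_square_zero I hI h φ

end Groth.Agent.S2023
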