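import Groth.Statements.S2025
import Groth.Agent.SmoothingLib.StandardSmoothRetract
-- import your own Groth.Agent.* helpers here

set_option autoImplicit false
universe u
open Smoothing

namespace Groth.Agent.S2025

/-- If `A` is smooth over `R` there is a smooth `A`-algebra `B` with an `A`-algebra retraction `B → A`
such that `B` is standard smooth over `R`. -/
theorem result {R A : Type u} [CommRing R] [CommRing A]
    [Algebra R A] [Algebra.Smooth R A] :
    ∃ (B : Type u) (_ : CommRing B) (_ : Algebra R B) (_ : Algebra A B) (_ : IsScalarTower R A B),
      Algebra.Smooth A B ∧ Nonempty (B →ₐ[A] A) ∧ Algebra.IsStandardSmooth R B := by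
    exact Groth.Agent.SmoothingLib.exists_standardSmooth_retract

end Groth.Agent.S2025
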