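import Groth.Statements.S2026
import Groth.Agent.SmoothingLib.LocalStandard
import Groth.Agent.SmoothingLib.StrictStd
-- import your own Groth.Agent.* helpers here

set_option autoImplicit false
universe u
open Smoothing

namespace Groth.Agent.S2026

/-- For a finitely presented `R`-algebra `A`, the singular ideal (functions vanishing on the non-smooth
locus) coincides with the radical of the ideal spanned by all strictly standard elements, and
equally with the radical of the ideal spanned by all elementary standard elements. -/
theorem result {R A : Type u} [CommRing R] [CommRing A]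
    [Algebra R A] [Algebra.FinitePresentation R A] :
    Smoothing.singularIdeal R A = (Ideal.span {a : A | Smoothing.IsStrictlyStandard R A a}).radical ∧
      Smoothing.singularIdeal R A =
        (Ideal.span {a : A | Smoothing.IsElementaryStandard R A a}).radical := by
    have hsub : ∀ a : A, Smoothing.IsStrictlyStandard R A a →
        ((PrimeSpectrum.basicOpen a : TopologicalSpace.Opens (PrimeSpectrum A)) : Set (PrimeSpectrum A)) ⊆
          Algebra.smoothLocus R A := fun a ha => by
      haveI := (Groth.Agent.SmoothingLib.smooth_and_stablyFree a ha).1
      exact Algebra.basicOpen_subset_smoothLocus_iff_smooth.2 inferInstance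
    have hs : ∀ S : Set A, (∀ a ∈ S, Smoothing.IsStrictlyStandard R A a) →
        (∀ a, Smoothing.IsElementaryStandard R A a → a ∈ S) →
        Smoothing.singularIdeal R A = (Ideal.span S).radical := by
      intro S h1 h2
      rw [← PrimeSpectrum.vanishingIdeal_zeroLocus_eq_radical, PrimeSpectrum.zeroLocus_span]
      refine congrArg PrimeSpectrum.vanishingIdeal (Set.ext fun q => ⟨fun hq a ha => ?_, fun hq hsm => ?_⟩)
      · by_contra haq
        exact hq (hsub a (h1 a ha) (show q ∈ PrimeSpectrum.basicOpen a from haq))
      · haveI : Algebra.IsSmoothAt R q.asIdeal := hsm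
        obtain ⟨a, ha, hea⟩ := Groth.Agent.SmoothingLib.exists_isElementaryStandard (R := R) q.asIdeal
        exact ha (hq (h2 a hea))
    exact ⟨hs _ (fun a ha => ha) (fun a ha => Groth.Agent.SmoothingLib.isStrictlyStandard_of_isElementaryStandard ha),
      hs _ (fun a ha => Groth.Agent.SmoothingLib.isStrictlyStandard_of_isElementaryStandard ha) (fun a ha => ha)⟩

end Groth.Agent.S2026
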