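import Groth.Statements.S2030
import Groth.Agent.SmoothingLib.StrictStd
-- import your own Groth.Agent.* helpers here

set_option autoImplicit false
universe u
open Smoothing

namespace Groth.Agent.S2030

/-- If `a` is strictly standard in the finitely presented `R`-algebra `A`, then the localization `A_a`
is smooth over `R` and its module of Kaehler differentials over `R` is stably free (free after
adding a finite free module). -/
theorem result {R A : Type u} [CommRing R] [CommRing A]
    [Algebra R A] (a : A) (ha : Smoothing.IsStrictlyStandard R A a) :
    Algebra.Smooth R (Localization.Away a) ∧
      ∃ p q : ℕ, Nonempty ((Ω[Localization.Away a⁄R] × (Fin p → Localization.Away a)) ≃ₗ[Localization.Away a]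
        (Fin q → Localization.Away a)) := by
    exact Groth.Agent.SmoothingLib.smooth_and_stablyFree a ha

end Groth.Agent.S2030
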