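import Groth.Statements.S2032
import Mathlib.RingTheory.Smooth.StandardSmooth
import Mathlib.RingTheory.Localization.Away.Basic
import Mathlib.LinearAlgebra.Matrix.Charpoly.LinearMap
-- import your own Groth.Agent.* helpers here

set_option autoImplicit false
universe u
open Smoothing

namespace Groth.Agent.S2032

/-- For a finitely presented `R`-algebra `A` and `a ∈ A`, if `a` is elementary standard then `A_a` is
standard smooth over `R`. (Part (f), the converse for large powers of `a`, is not stated: as
published it fails, for example for the nodal cubic `A = {g ∈ ℚ[u] : g(0) = g(1)}` and `a =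
u(u-1)`.) -/
theorem result {R A : Type u} [CommRing R] [CommRing A]
    [Algebra R A] [Algebra.FinitePresentation R A] (a : A)
    (ha : Smoothing.IsElementaryStandard R A a) : Algebra.IsStandardSmooth R (Localization.Away a) := by
  obtain ⟨P, ⟨a₁, ha₁⟩, hkill⟩ := ha
  classical
  let S := MvPolynomial (Fin P.n) R
  let v : Fin P.c → S := fun j => P.rel (Fin.castLE P.hcm j)
  let T := S ⧸ Ideal.span (Set.range v)
  let ψ : T →ₐ[R] A := Ideal.Quotient.liftₐ _ P.hom fun x hx => by
    have hle : Ideal.span (Set.range v) ≤ RingHom.ker P.hom.toRingHom := by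
      rw [P.ker_eq]
      exact Ideal.span_mono (Set.range_comp_subset_range _ _)
    exact hle hx
  have hψ : ∀ x : S, ψ (Ideal.Quotient.mk _ x) = P.hom x := fun x => rfl
  have hψs : Function.Surjective ψ := fun y => by
    obtain ⟨x, rfl⟩ := P.surj y
    exact ⟨_, hψ x⟩
  let K : Ideal T := RingHom.ker ψ.toRingHom
  let q : Fin P.m → T := fun j => Ideal.Quotient.mk _ (P.rel j)
  have hq0 : ∀ j : Fin P.m, (j : ℕ) < P.c → q j = 0 := fun j hj =>
    Ideal.Quotient.eq_zero_iff_mem.2 (Ideal.subset_span ⟨⟨j, hj⟩, rfl⟩)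
  have hK : K = Ideal.span (Set.range q) := by
    have h1 : K.comap (Ideal.Quotient.mk (Ideal.span (Set.range v))) = Ideal.span (Set.range P.rel) := by
      rw [← P.ker_eq]; rfl
    rw [← Ideal.map_comap_of_surjective _ Ideal.Quotient.mk_surjective K, h1, Ideal.map_span, ← Set.range_comp]
    rfl
  obtain ⟨a'', ha''⟩ := P.surj a
  let t : T := Ideal.Quotient.mk _ a''
  have htK : ∀ x ∈ K, t * x ∈ K ^ 2 := by
    intro x hx
    rw [hK] at hx ⊢
    induction hx using Submodule.span_induction with
    | zero => rw [mul_zero]; exact zero_mem _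
    | add y z _ _ hy hz => rw [mul_add]; exact add_mem hy hz
    | smul c y _ hy => rw [smul_eq_mul, mul_left_comm]; exact Ideal.mul_mem_left _ _ hy
    | mem y hy =>
    obtain ⟨j, rfl⟩ := hy
    change t * q j ∈ Ideal.span (Set.range q) ^ 2
    rcases Nat.lt_or_ge (j : ℕ) P.c with hj | hj
    · rw [hq0 j hj, mul_zero]; exact zero_mem _
    · have h1 := Ideal.mem_map_of_mem (Ideal.Quotient.mk (Ideal.span (Set.range v))) (hkill a'' ha'' j hj)
      have hz : Ideal.span (Ideal.Quotient.mk (Ideal.span (Set.range v)) '' (P.rel '' {j' : Fin P.m | (j' : ℕ) < P.c})) = ⊥ :=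
        Ideal.span_eq_bot.2 (by rintro _ ⟨_, ⟨j', hj', rfl⟩, rfl⟩; exact hq0 j' hj')
      rw [Ideal.map_sup, Ideal.map_pow, Ideal.map_span, Ideal.map_span, ← Set.range_comp, map_mul, hz, bot_sup_eq] at h1
      exact h1
  have hKfg : K.FG := hK ▸ Submodule.fg_span (Set.finite_range q)
  haveI : Module.Finite T K := Module.Finite.iff_fg.2 hKfg
  obtain ⟨pl, hmon, -, hcoeff, hann⟩ := LinearMap.exists_monic_and_natDegree_eq_and_coeff_mem_pow_and_aeval_eq_zero
    T (algebraMap T (Module.End T K) t) K (by
      rintro _ ⟨x, rfl⟩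
      rw [Submodule.mem_smul_top_iff, Module.algebraMap_end_apply]
      change t * (x : T) ∈ K • K
      rw [smul_eq_mul]
      exact (pow_two K) ▸ htK x x.2)
  let s : T := pl.eval t
  have hsK : ∀ x ∈ K, s * x = 0 := fun x hx => by
    rw [Polynomial.aeval_algebraMap_apply_eq_algebraMap_eval] at hann
    exact congrArg Subtype.val (DFunLike.congr_fun hann ⟨x, hx⟩)
  have hψs' : ψ s = a ^ pl.natDegree := by
    have h1 : ψ t = a := ha''
    simp only [s, Polynomial.eval_eq_sum_range, map_sum, map_mul, map_pow, h1]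
    rw [Finset.sum_range_succ, hmon.coeff_natDegree, map_one, one_mul, Finset.sum_eq_zero fun i hi => ?_, zero_add]
    have : pl.coeff i ∈ K := Ideal.pow_le_self (by have := Finset.mem_range.1 hi; omega) (hcoeff i)
    rw [show ψ (pl.coeff i) = 0 from this, zero_mul]
  let g : T := t * s
  have hψg : ψ g = a ^ (pl.natDegree + 1) := by
    rw [map_mul, hψs', show ψ t = a from ha'', pow_succ']
  let Aa := Localization.Away a
  letI : Algebra T Aa := ((algebraMap A Aa).comp ψ.toRingHom).toAlgebra
  haveI : IsScalarTower R T Aa := IsScalarTower.of_algebraMap_eq (R := R) (S := T) (A := Aa) fun r => by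
    change _ = algebraMap A Aa (ψ (algebraMap R T r))
    rw [ψ.commutes, ← IsScalarTower.algebraMap_apply]
  have hTA : ∀ x, algebraMap T Aa x = algebraMap A Aa (ψ x) := fun x => rfl
  have haunit : IsUnit (algebraMap A Aa a) := IsLocalization.Away.algebraMap_isUnit a
  haveI : IsLocalization.Away g Aa := by
    refine IsLocalization.Away.mk g ?_ (fun z => ?_) (fun x y hxy => ?_)
    · rw [hTA, hψg, map_pow]; exact haunit.pow _
    · obtain ⟨k, b, hb⟩ := IsLocalization.Away.surj a z
      obtain ⟨b', hb'⟩ := hψs b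
      refine ⟨k, t ^ (pl.natDegree * k) * b', ?_⟩
      simp only [hTA, hψg, map_mul, map_pow, show ψ t = a from ha'', hb']
      rw [← hb]
      ring
    · rw [hTA, hTA] at hxy
      obtain ⟨⟨_, k, rfl⟩, hk⟩ := IsLocalization.exists_of_eq (M := Submonoid.powers a) hxy
      refine ⟨k + 1, sub_eq_zero.1 ?_⟩
      have hmem : g ^ k * (x - y) ∈ K := by
        change ψ _ = 0
        simp only at hk
        rw [map_mul, map_sub, map_pow, hψg, ← pow_mul, show (pl.natDegree + 1) * k = pl.natDegree * k + k by ring, pow_add,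
          mul_assoc, mul_sub, hk, sub_self, mul_zero]
      rw [← mul_sub, pow_succ', mul_assoc]
      change t * s * _ = 0
      rw [mul_assoc, hsK _ hmem, mul_zero]
  let Q₀ := Algebra.PreSubmersivePresentation.naive (R := R) (v := v) (Fin.castLE P.hcn) (Fin.castLE_injective _)
  let L := (Algebra.SubmersivePresentation.localizationAway Aa g).toPreSubmersivePresentation.comp Q₀
  have hL : IsUnit L.jacobian := by
    rw [Algebra.PreSubmersivePresentation.comp_jacobian_eq_jacobian_smul_jacobian, Algebra.smul_def, IsUnit.mul_iff]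
    refine ⟨?_, (Algebra.SubmersivePresentation.localizationAway Aa g).jacobian_isUnit⟩
    have h1 : Q₀.jacobian = Ideal.Quotient.mk _ (Smoothing.jacobianMinor P.rel (Fin.castLE P.hcm) (Fin.castLE P.hcn)) := by
      rw [Algebra.PreSubmersivePresentation.jacobian_eq_jacobiMatrix_det, Smoothing.jacobianMinor, ← Matrix.det_transpose Q₀.jacobiMatrix]
      refine congrArg (Ideal.Quotient.mk _) (congrArg Matrix.det ?_)
      ext1 i j
      rw [Matrix.transpose_apply, Algebra.PreSubmersivePresentation.jacobiMatrix_naive]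
      rfl
    rw [h1, hTA, hψ]
    have e := congrArg (algebraMap A Aa) ha₁
    rw [e, map_mul, IsUnit.mul_iff] at haunit
    exact haunit.2
  let LL : Algebra.SubmersivePresentation R Aa (Unit ⊕ Fin P.n) (Unit ⊕ Fin P.c) := ⟨L, hL⟩
  exact LL.isStandardSmooth

end Groth.Agent.S2032
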