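import Groth.Statements.S2035
import Groth.Agent.RegFS6.Field

set_option autoImplicit false
universe u
open CAlg

namespace Groth.Agent.S2035

/-- Let `k` be a field of characteristic zero and `A` a Noetherian local `k`-algebra. Then `A` is a
regular local ring if and only if `k → A` is formally smooth for the adic topology of the maximal
ideal. -/
theorem result {k A : Type u} [Field k] [CharZero k]
    [CommRing A] [IsLocalRing A] [IsNoetherianRing A] [Algebra k A] :
    IsRegularLocalRing A ↔ CAlgX.IsAdicFormallySmooth k A (IsLocalRing.maximalIdeal A) := by
    exact ⟨fun h => RegFS6.fs_of_regular k A, fun h => RegFS6.regular_of_fs k A h⟩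

end Groth.Agent.S2035
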