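import Groth.Statements.S2040
import Groth.Agent.RegFS6.FlatConv

set_option autoImplicit false
universe u
open CAlg

namespace Groth.Agent.S2040

/-- For a complete Noetherian local ring `A` with residue field `k`, and a complete Noetherian local
`k`-algebra `B` which is formally smooth over `k` for the adic topology of its maximal ideal, there
is a Noetherian complete local ring `C` with a local homomorphism `A → C`, formally smooth for the
adic topology of the maximal ideal of `C`, whose special fibre `C ⊗ k` is isomorphic to `B` over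
`k`. -/
theorem result {A B : Type u} [CommRing A] [IsLocalRing A]
    [IsNoetherianRing A] [IsAdicComplete (IsLocalRing.maximalIdeal A) A] [CommRing B] [IsLocalRing B]
    [IsNoetherianRing B] [IsAdicComplete (IsLocalRing.maximalIdeal B) B]
    [Algebra (IsLocalRing.maximalIdeal A).ResidueField B]
    (hB : CAlgX.IsAdicFormallySmooth (IsLocalRing.maximalIdeal A).ResidueField B (IsLocalRing.maximalIdeal B)) :
    ∃ (C : Type u) (_ : CommRing C) (_ : IsLocalRing C) (_ : Algebra A C),
      IsNoetherianRing C ∧ IsAdicComplete (IsLocalRing.maximalIdeal C) C ∧ IsLocalHom (algebraMap A C) ∧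
        CAlgX.IsAdicFormallySmooth A C (IsLocalRing.maximalIdeal C) ∧
        Nonempty ((IsLocalRing.maximalIdeal A).Fiber C ≃ₐ[(IsLocalRing.maximalIdeal A).ResidueField] B) := by
    haveI := FlatLoc6.isRegularRing_of_geometricallyRegular (RegFS6.geometricallyRegular_of_fs hB)
    haveI : IsRegularLocalRing B := IsRegularLocalRing.of_isRegularRing_of_isLocalRing B
    let κ := (IsLocalRing.maximalIdeal A).ResidueField
    let k := RingEquiv.ofBijective (algebraMap (A ⧸ IsLocalRing.maximalIdeal A) κ)
      (IsLocalRing.maximalIdeal A).bijective_algebraMap_quotient_residueField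
    letI : Algebra (IsLocalRing.ResidueField A) B := ((algebraMap κ B).comp k.toRingHom).toAlgebra
    obtain ⟨C, _, _, _, _, _, ρ, hC, hflat, hρ, hker, hρa⟩ := RegFS6.exists_flat_complete_lift A B
    haveI := hC
    haveI := hflat
    refine ⟨C, inferInstance, inferInstance, inferInstance, inferInstance, hC, inferInstance, ?_⟩
    letI : Algebra A B := ((algebraMap κ B).comp (algebraMap A κ)).toAlgebra
    haveI : IsScalarTower A κ B := IsScalarTower.of_algebraMap_eq fun _ => rfl
    have hc : ∀ a, ρ (algebraMap A C a) = algebraMap A B a := fun a => (hρa a).trans rfl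
    let ρ' : C →ₐ[A] B := { ρ with commutes' := hc }
    let inr : C →ₐ[A] (IsLocalRing.maximalIdeal A).Fiber C := Algebra.TensorProduct.includeRight
    let χ : (IsLocalRing.maximalIdeal A).Fiber C →ₐ[κ] B :=
      Algebra.TensorProduct.lift (Algebra.ofId κ B) ρ' fun _ _ => Commute.all _ _
    have hsurj : Function.Surjective inr := fun t => by
      induction t using TensorProduct.induction_on with
      | zero => exact ⟨0, map_zero _⟩
      | add x y hx hy =>
        obtain ⟨a, rfl⟩ := hx
        obtain ⟨b, rfl⟩ := hy
        exact ⟨a + b, map_add _ _ _⟩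
      | tmul r b =>
        obtain ⟨q, rfl⟩ := k.surjective r
        obtain ⟨a, rfl⟩ := Ideal.Quotient.mk_surjective q
        refine ⟨a • b, ?_⟩
        show (1 : κ) ⊗ₜ[A] (a • b) = algebraMap A κ a ⊗ₜ[A] b
        rw [TensorProduct.tmul_smul, TensorProduct.smul_tmul', Algebra.algebraMap_eq_smul_one]
    have hχ : ∀ c, χ (inr c) = ρ c := fun c => by
      show Algebra.TensorProduct.lift (Algebra.ofId κ B) ρ' (fun _ _ => Commute.all _ _) ((1 : κ) ⊗ₜ[A] c) = _
      rw [Algebra.TensorProduct.lift_tmul, map_one, one_mul]
      rfl
    have hbij : Function.Bijective χ := by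
      refine ⟨(injective_iff_map_eq_zero χ).mpr fun t ht => ?_, fun b => ?_⟩
      · obtain ⟨c, rfl⟩ := hsurj t
        rw [hχ, ← RingHom.mem_ker, hker] at ht
        induction ht using Submodule.span_induction with
        | mem y hy =>
          obtain ⟨a, ha, rfl⟩ := hy
          show (1 : κ) ⊗ₜ[A] algebraMap A C a = 0
          rw [Algebra.algebraMap_eq_smul_one, TensorProduct.tmul_smul, TensorProduct.smul_tmul',
            ← Algebra.algebraMap_eq_smul_one, Ideal.algebraMap_residueField_eq_zero.mpr ha, TensorProduct.zero_tmul]
        | zero => exact map_zero _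
        | add y z _ _ hy hz => rw [map_add, hy, hz, add_zero]
        | smul r y _ hy => rw [smul_eq_mul, map_mul, hy, mul_zero]
      · obtain ⟨c, rfl⟩ := hρ b
        exact ⟨inr c, hχ c⟩
    let e := AlgEquiv.ofBijective χ hbij
    refine ⟨RegFS6.fs_of_flat_of_geometricallyRegular fun k' _ _ hfin => ?_, ⟨e⟩⟩
    haveI := RegFS6.geometricallyRegular_of_fs hB k' hfin
    exact IsRegularRing.of_ringEquiv (Algebra.TensorProduct.congr (AlgEquiv.refl (R := κ) (A₁ := k')) e.symm).toRingEquiv

end Groth.Agent.S2040
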