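import Groth.Statements.S2041
import Mathlib
import Groth.Agent.CAlgOdd.PairLift

set_option autoImplicit false
universe u
open CAlg

namespace Groth.Agent.S2041

open TensorProduct in
/-- Let `I ⊆ A` be an ideal, `A → B` integral and `ē` an idempotent of `B/IB`. Then there is an étale
`A`-algebra `A'` with `A/I → A'/IA'` bijective and an idempotent of `A' ⊗ B` whose class modulo `I`
agrees with that of any lift of `ē`. -/
theorem result {A B : Type u} [CommRing A] [CommRing B] [Algebra A B]
    [Algebra.IsIntegral A B] (I : Ideal A) (e : B ⧸ I.map (algebraMap A B)) (he : IsIdempotentElem e) :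
    ∃ (A' : Type u) (_ : CommRing A') (_ : Algebra A A'), Algebra.Etale A A' ∧
      Function.Bijective (algebraMap (A ⧸ I) (A' ⧸ I.map (algebraMap A A'))) ∧
      ∃ e' : A' ⊗[A] B, IsIdempotentElem e' ∧
        ∀ b : B, Ideal.Quotient.mk (I.map (algebraMap A B)) b = e →
          e' - 1 ⊗ₜ b ∈ I.map (algebraMap A (A' ⊗[A] B)) := by
  obtain ⟨b₀, hb₀⟩ := Ideal.Quotient.mk_surjective e
  have hb : b₀ * b₀ - b₀ ∈ I.map (algebraMap A B) := by
    rw [← Ideal.Quotient.eq, map_mul, hb₀]; exact he.eq
  obtain ⟨A', _, _, hE, hV, e', he', hmem⟩ :=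
    Groth.Agent.CAlgOdd.PairLift.exists_etale_idempotent_lift I b₀ hb
  refine ⟨A', inferInstance, inferInstance, hE, hV, e', he', fun b hbe => ?_⟩
  have h1 : b₀ - b ∈ I.map (algebraMap A B) := by rw [← Ideal.Quotient.eq, hb₀, hbe]
  have h2 := Ideal.mem_map_of_mem
    (Algebra.TensorProduct.includeRight : B →ₐ[A] A' ⊗[A] B).toRingHom h1
  rw [Ideal.map_map, AlgHom.toRingHom_eq_coe, AlgHom.comp_algebraMap] at h2
  have := add_mem hmem h2
  simpa [TensorProduct.tmul_sub] using this

end Groth.Agent.S2041
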