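import Groth.Statements.S2044
import Mathlib
import Groth.Agent.CAlgOdd.PairLift
import Groth.Agent.Hensel.SmoothAlgLift

set_option autoImplicit false
universe u
open CAlg

namespace Groth.Agent.S2044

open TensorProduct in
/-- Let `I ⊆ A` be an ideal and `P` a finite projective `A/I`-module. Then there is an étale `A`-algebra
`A'` with `A/I → A'/IA'` bijective and a finite projective `A'`-module whose reduction modulo `IA'`
is the base change of `P`. -/
theorem result {A : Type u} [CommRing A] (I : Ideal A) (P : Type u)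
    [AddCommGroup P] [Module (A ⧸ I) P] [Module.Finite (A ⧸ I) P] [Module.Projective (A ⧸ I) P] :
    ∃ (A' : Type u) (_ : CommRing A') (_ : Algebra A A'), Algebra.Etale A A' ∧
      Function.Bijective (algebraMap (A ⧸ I) (A' ⧸ I.map (algebraMap A A'))) ∧
      ∃ (P' : Type u) (_ : AddCommGroup P') (_ : Module A' P'), Module.Finite A' P' ∧
        Module.Projective A' P' ∧
        Nonempty (((A' ⧸ I.map (algebraMap A A')) ⊗[A'] P') ≃ₗ[A' ⧸ I.map (algebraMap A A')]
          ((A' ⧸ I.map (algebraMap A A')) ⊗[A ⧸ I] P)) := by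
  classical
  obtain ⟨m, f, g, -, -, hfg⟩ := Module.Finite.exists_comp_eq_id_of_projective (A ⧸ I) P
  let M := LinearMap.toMatrix' (g ∘ₗ f)
  choose Λ hΛ using fun l j => Ideal.Quotient.mk_surjective (M l j)
  have hMM : M * M = M := by
    rw [← LinearMap.toMatrix'_comp, LinearMap.comp_assoc, ← LinearMap.comp_assoc f g, hfg,
      LinearMap.id_comp]
  obtain ⟨U, iU, iAU, hE, e, hU, hee, heΛ⟩ :=
    Groth.Agent.Hensel.exists_idempotent_matrix_nbhd I (Matrix.of Λ) (fun l j => by
      rw [← Ideal.Quotient.eq, Matrix.mul_apply, map_sum]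
      simp only [Matrix.of_apply, map_mul, hΛ]
      exact congrFun (congrFun hMM l) j)
  let S := U ⧸ I.map (algebraMap A U)
  let E : (Fin m → U) →ₗ[U] (Fin m → U) := Matrix.mulVecLin e
  have hEE : ∀ v, E (E v) = E v := fun v => by
    simp [E, Matrix.mulVec_mulVec, hee]
  let P' := LinearMap.range E
  have hsplit : E.rangeRestrict ∘ₗ P'.subtype = LinearMap.id := LinearMap.ext fun x => Subtype.ext (by
    obtain ⟨x, v, rfl⟩ := x
    exact hEE v)
  haveI : Module.Projective U P' := Module.Projective.of_split P'.subtype E.rangeRestrict hsplit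
  haveI : Module.Finite U P' := Module.Finite.range E
  refine ⟨U, iU, iAU, hE, hU, P', inferInstance, inferInstance, inferInstance, inferInstance, ⟨?_⟩⟩
  let z := TensorProduct.piScalarRight U S S (Fin m)
  let w := TensorProduct.piScalarRight (A ⧸ I) S S (Fin m)
  refine Groth.Agent.CAlgOdd.PairLift.retractEquiv
    (E.rangeRestrict.baseChange S ∘ₗ z.symm.toLinearMap) (z.toLinearMap ∘ₗ P'.subtype.baseChange S)
    (f.baseChange S ∘ₗ w.symm.toLinearMap) (w.toLinearMap ∘ₗ g.baseChange S) ?_ ?_ ?_
  · refine LinearMap.ext fun x => ?_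
    simp only [LinearMap.comp_apply, LinearEquiv.coe_coe, LinearEquiv.symm_apply_apply]
    rw [← LinearMap.comp_apply, ← LinearMap.baseChange_comp, hsplit, LinearMap.baseChange_id]
  · refine LinearMap.ext fun x => ?_
    simp only [LinearMap.comp_apply, LinearEquiv.coe_coe, LinearEquiv.symm_apply_apply]
    rw [← LinearMap.comp_apply, ← LinearMap.baseChange_comp, hfg, LinearMap.baseChange_id]
  · refine (Pi.basisFun S (Fin m)).ext fun k => funext fun l => ?_
    have hz : z.symm (Pi.single k (1 : S)) = TensorProduct.tmul U (1 : S) (Pi.single k (1 : U)) :=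
      TensorProduct.piScalarRight_symm_single U S S (Fin m) (1 : S) k
    have hw : w.symm (Pi.single k (1 : S)) =
        TensorProduct.tmul (A ⧸ I) (1 : S) (Pi.single k (1 : A ⧸ I)) :=
      TensorProduct.piScalarRight_symm_single (A ⧸ I) S S (Fin m) (1 : S) k
    simp only [LinearMap.comp_apply, LinearEquiv.coe_coe, Pi.basisFun_apply, hz, hw,
      LinearMap.baseChange_tmul]
    simp only [z, w, TensorProduct.piScalarRight_apply, TensorProduct.piScalarRightHom_tmul]
    rw [← LinearMap.comp_apply P'.subtype, LinearMap.subtype_comp_codRestrict, ← LinearMap.comp_apply g]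
    simp only [E, Matrix.mulVecLin_apply, Matrix.mulVec_single_one, Matrix.col_apply]
    rw [show (g ∘ₗ f) (Pi.single k 1) l = M l k from (LinearMap.toMatrix'_apply _ l k).symm, ← hΛ l k,
      Algebra.smul_def, Algebra.smul_def, mul_one, mul_one]
    exact Ideal.Quotient.eq.mpr (heΛ l k)

end Groth.Agent.S2044
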