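import Groth.Statements.S2048
import Mathlib
import Groth.Agent.DerPth.Main

set_option autoImplicit false
universe u
open CAlg

namespace Groth.Agent.S2048

/-- Let `p` be a prime and `B` a domain of characteristic `p`, finitely generated as an algebra over
some complete Noetherian local ring. If `f ∈ B` has no `p`-th root in the fraction field of `B`,
then some derivation `D : B → B` has `D(f) ≠ 0`. -/
theorem result {R B : Type u} [CommRing R] [IsLocalRing R]
    [IsNoetherianRing R] [IsAdicComplete (IsLocalRing.maximalIdeal R) R] [CommRing B] [IsDomain B]
    [Algebra R B] [Algebra.FiniteType R B] (p : ℕ) [Fact p.Prime] [CharP B p] (f : B)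
    (hf : ∀ x : FractionRing B, x ^ p ≠ algebraMap B (FractionRing B) f) :
    ∃ D : Derivation ℤ B B, D f ≠ 0 := by
  exact Groth.Agent.DerPth.exists_derivation (R := R) p f hf

end Groth.Agent.S2048
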