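import Groth.Statements.S2050
import Mathlib
import Groth.Agent.FlatValCrit.LocFP

set_option autoImplicit false
universe u
open CAlg

namespace Groth.Agent.S2050

/-- Let `S = R[x_1, …, x_n]` and `M` a finite `S`-module, flat over `R`, such that for every prime `𝔭`
of `R` the localization `M_𝔭` is finitely presented over `S_𝔭`. If `R` embeds into the product of
finitely many of its local rings, then `M` is finitely presented over `S`. -/
theorem result {R : Type u} [CommRing R] (n : ℕ)
    {M : Type u} [AddCommGroup M] [Module (MvPolynomial (Fin n) R) M] [Module R M]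
    [IsScalarTower R (MvPolynomial (Fin n) R) M] [Module.Finite (MvPolynomial (Fin n) R) M] [Module.Flat R M]
    (s : Finset (PrimeSpectrum R))
    (hs : Function.Injective fun r : R => fun p : s => algebraMap R (Localization.AtPrime p.1.asIdeal) r)
    (hloc : ∀ (p : Ideal R) [p.IsPrime],
      Module.FinitePresentation
        (Localization (Algebra.algebraMapSubmonoid (MvPolynomial (Fin n) R) p.primeCompl))
        (LocalizedModule (Algebra.algebraMapSubmonoid (MvPolynomial (Fin n) R) p.primeCompl) M)) :
    Module.FinitePresentation (MvPolynomial (Fin n) R) M := by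
  classical
  obtain ⟨a, π, hπ⟩ := Module.Finite.exists_fin' (MvPolynomial (Fin n) R) M
  let e := LinearMap.quotKerEquivOfSurjective π hπ
  have : Module.Flat R ((Fin a → MvPolynomial (Fin n) R) ⧸ LinearMap.ker π) := Module.Flat.of_linearEquiv (e.restrictScalars R)
  refine Module.finitePresentation_of_surjective π hπ
    (Groth.Agent.FlatValCrit.fg_of_flat_of_locally_fg (R := R) (LinearMap.ker π) s hs fun p hp => ?_)
  let W := Algebra.algebraMapSubmonoid (MvPolynomial (Fin n) R) p.primeCompl
  let f := LocalizedModule.mkLinearMap W (Fin a → MvPolynomial (Fin n) R)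
  let g := LocalizedModule.mkLinearMap W M
  have := hloc p
  have : Module.Finite (Localization W) (LocalizedModule W (Fin a → MvPolynomial (Fin n) R)) :=
    Module.Finite.of_isLocalizedModule W f
  have hfg : ((LinearMap.ker π).localized' (Localization W) W f).FG := by
    rw [LinearMap.localized'_ker_eq_ker_localizedMap (Localization W) W f g π]
    exact Module.FinitePresentation.fg_ker _ (IsLocalizedModule.map_surjective W f g π hπ)
  obtain ⟨G, hG, hG'⟩ := Groth.Agent.FlatValCrit.exists_gens_of_fg_localized (Localization W) W f (LinearMap.ker π) hfg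
  refine ⟨G, hG, fun w hw => ?_⟩
  obtain ⟨_, ⟨r, hr, rfl⟩, hrw⟩ := hG' w hw
  exact ⟨r, hr, by rwa [algebraMap_smul] at hrw⟩

end Groth.Agent.S2050
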