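import Groth.Statements.S2053
import Mathlib
import Groth.Agent.CohenPres.Main

set_option autoImplicit false
universe u
open CAlg

namespace Groth.Agent.S2053

/-- Consider a local homomorphism `A → B` between complete Noetherian local rings. Then there are power
series rings `R`, `S` in finitely many variables over coefficient rings which are both fields (when
the residue characteristic of `A` is zero) or both Cohen rings (when it is positive), surjections `R
→ A`, `S → B` and a ring map `R → S` making the square commute, such that `R → S` is flat and `S/𝔪_R
S` is a regular ring. (The published statement also arranges that a regular system of parameters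
maps into one; that is not asserted here.) -/
theorem result {A B : Type u} [CommRing A] [CommRing B]
    [IsLocalRing A] [IsLocalRing B] [IsNoetherianRing A] [IsNoetherianRing B]
    [IsAdicComplete (IsLocalRing.maximalIdeal A) A] [IsAdicComplete (IsLocalRing.maximalIdeal B) B]
    [Algebra A B] [IsLocalHom (algebraMap A B)] :
    ∃ (Λ Λ' : Type u) (_ : CommRing Λ) (_ : CommRing Λ') (_ : IsLocalRing Λ) (n m : ℕ)
      (ρ : MvPowerSeries (Fin n) Λ →+* A) (σ : MvPowerSeries (Fin m) Λ' →+* B)
      (τ : MvPowerSeries (Fin n) Λ →+* MvPowerSeries (Fin m) Λ'),
      ((CharZero (IsLocalRing.ResidueField A) ∧ IsField Λ ∧ IsField Λ') ∨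
        (¬ CharZero (IsLocalRing.ResidueField A) ∧ CAlg.IsCohenRing Λ ∧ CAlg.IsCohenRing Λ')) ∧
        Function.Surjective ρ ∧ Function.Surjective σ ∧ σ.comp τ = (algebraMap A B).comp ρ ∧
        τ.Flat ∧ IsRegularRing (MvPowerSeries (Fin m) Λ' ⧸
          (IsLocalRing.maximalIdeal (MvPowerSeries (Fin n) Λ)).map τ) := by
  exact CohenPres.exists_presentation (A := A) (B := B)
    (IsNoetherian.noetherian _) (IsNoetherian.noetherian _) (algebraMap A B)

end Groth.Agent.S2053
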