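import Groth.Statements.S6876
import Mathlib
import Groth.Agent.Alg6.AssDepth

set_option autoImplicit false
universe u
open CAlg

namespace Groth.Agent.S6876

/-- Let `R` be a Noetherian local ring and `M, N` finite `R`-modules. If `N` has depth `≥ 1` then so
does `Hom_R(M, N)`; if `N` has depth `≥ 2` then so does `Hom_R(M, N)`. -/
theorem result (R : Type u) [CommRing R] [IsNoetherianRing R] [IsLocalRing R]
    (M N : Type u) [AddCommGroup M] [Module R M] [Module.Finite R M] [AddCommGroup N] [Module R N] [Module.Finite R N] :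
    (1 ≤ LocCoh.depth R N → 1 ≤ LocCoh.depth R (M →ₗ[R] N)) ∧
    (2 ≤ LocCoh.depth R N → 2 ≤ LocCoh.depth R (M →ₗ[R] N)) := by
  open Groth.Agent.Alg6 IsLocalRing in
  constructor
  · intro h
    obtain ⟨x, hx, hreg⟩ := (exists_isSMulRegular_mem_iff (M := N) (maximalIdeal R)).mpr
      (fun p hp hle => one_le_depth_iff.mp h (by
        rwa [(maximalIdeal.isMaximal R).eq_of_le (IsAssociatedPrime.isPrime hp).ne_top hle]))
    rw [one_le_depth_iff]
    intro hass
    exact (exists_isSMulRegular_mem_iff (M := M →ₗ[R] N) (maximalIdeal R)).mp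
      ⟨x, hx, fun a b hab => LinearMap.ext fun m => hreg (LinearMap.congr_fun hab m)⟩ _ hass le_rfl
  · intro h
    obtain ⟨x, hx, hreg⟩ := (exists_isSMulRegular_mem_iff (M := N) (maximalIdeal R)).mpr
      (fun p hp hle => one_le_depth_iff.mp (le_trans (by decide) h) (by
        rwa [(maximalIdeal.isMaximal R).eq_of_le (IsAssociatedPrime.isPrime hp).ne_top hle]))
    have hregH : IsSMulRegular (M →ₗ[R] N) x :=
      fun a b hab => LinearMap.ext fun m => hreg (LinearMap.congr_fun hab m)
    rw [two_le_depth_iff hx hregH]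
    intro hass
    rw [two_le_depth_iff hx hreg] at h
    obtain ⟨y, hy, hyreg⟩ := (exists_isSMulRegular_mem_iff (M := QuotSMulTop x N) (maximalIdeal R)).mpr
      (fun p hp hle => h (by
        rwa [(maximalIdeal.isMaximal R).eq_of_le (IsAssociatedPrime.isPrime hp).ne_top hle]))
    refine (exists_isSMulRegular_mem_iff (M := QuotSMulTop x (M →ₗ[R] N)) (maximalIdeal R)).mp
      ⟨y, hy, ?_⟩ _ hass le_rfl
    rw [isSMulRegular_iff_right_eq_zero_of_smul]
    intro q hq
    obtain ⟨φ, rfl⟩ := Submodule.Quotient.mk_surjective _ q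
    rw [← Submodule.Quotient.mk_smul, Submodule.Quotient.mk_eq_zero,
      Submodule.mem_smul_pointwise_iff_exists] at hq
    obtain ⟨ψ, -, hψ⟩ := hq
    have key : ∀ m : M, ∃ n : N, x • n = φ m := by
      intro m
      have h0 : y • (Submodule.Quotient.mk (φ m) : QuotSMulTop x N) = 0 := by
        rw [← Submodule.Quotient.mk_smul, Submodule.Quotient.mk_eq_zero,
          Submodule.mem_smul_pointwise_iff_exists]
        exact ⟨ψ m, trivial, LinearMap.congr_fun hψ m⟩
      have h1 := (isSMulRegular_iff_right_eq_zero_of_smul.mp hyreg) _ h0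
      rw [Submodule.Quotient.mk_eq_zero, Submodule.mem_smul_pointwise_iff_exists] at h1
      obtain ⟨n, -, hn⟩ := h1
      exact ⟨n, hn⟩
    choose n hn using key
    let χ : M →ₗ[R] N :=
      { toFun := n
        map_add' := fun a b => hreg (by simp only [smul_add, hn, map_add])
        map_smul' := fun r a => hreg (by simp only [hn, map_smul, RingHom.id_apply, smul_comm x r]) }
    rw [Submodule.Quotient.mk_eq_zero, Submodule.mem_smul_pointwise_iff_exists]
    exact ⟨χ, trivial, LinearMap.ext hn⟩

end Groth.Agent.S6876
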