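import Groth.Statements.S6880
import Mathlib
import Groth.Agent.CAlgOdd.Reflexive
import Groth.Agent.S6876

set_option autoImplicit false
universe u
open CAlg

namespace Groth.Agent.S6880

/-- Let `R` be a Noetherian domain and `M` a finite reflexive `R`-module. For a prime `𝔭` with
`depth(R_𝔭) ≥ 2` one has `depth(M_𝔭) ≥ 2`; and if `R` has `(S_2)` then `M` has `(S_2)`. -/
theorem result (R : Type u) [CommRing R] [IsDomain R] [IsNoetherianRing R] (M : Type u)
    [AddCommGroup M] [Module R M] [Module.Finite R M] [Module.IsReflexive R M] :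
    (∀ (p : Ideal R) [p.IsPrime], 2 ≤ LocCoh.depth (Localization.AtPrime p) (Localization.AtPrime p) →
      2 ≤ LocCoh.depth (Localization.AtPrime p) (LocalizedModule p.primeCompl M)) ∧
    (LocCoh.HasSk 2 R R → LocCoh.HasSk 2 R M) := by
  have key : ∀ (p : Ideal R) [p.IsPrime], 2 ≤ LocCoh.depth (Localization.AtPrime p) (Localization.AtPrime p) →
      2 ≤ LocCoh.depth (Localization.AtPrime p) (LocalizedModule p.primeCompl M) := by
    intro p _ hp
    haveI : IsDomain (Localization.AtPrime p) := IsLocalization.isDomain_localization p.primeCompl_le_nonZeroDivisors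
    haveI : IsNoetherianRing (Localization.AtPrime p) := IsLocalization.isNoetherianRing p.primeCompl _ inferInstance
    haveI : Module.Finite (Localization.AtPrime p) (LocalizedModule p.primeCompl M) :=
      Module.Finite.of_isLocalizedModule p.primeCompl (LocalizedModule.mkLinearMap _ M)
    haveI : Module.IsReflexive (Localization.AtPrime p) (LocalizedModule p.primeCompl M) :=
      Groth.Agent.CAlgOdd.Refl.isReflexive_localized p.primeCompl
    exact Groth.Agent.CAlgOdd.Refl.depth_two_of_isReflexive hp fun X N _ _ _ _ _ _ hN =>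
      (Groth.Agent.S6876.result _ X N).2 hN
  refine ⟨key, fun hS p _ => ?_⟩
  haveI : Module.Finite (Localization.AtPrime p) (LocalizedModule p.primeCompl M) :=
    Module.Finite.of_isLocalizedModule p.primeCompl (LocalizedModule.mkLinearMap _ M)
  have h := hS p
  rw [Groth.Agent.Hensel.depth_congr (Groth.Agent.LC.selfLoc p.primeCompl),
    Module.supportDim_eq_of_equiv (Groth.Agent.LC.selfLoc p.primeCompl), Module.supportDim_self_eq_ringKrullDim,
    IsLocalization.AtPrime.ringKrullDim_eq_height p, ← WithBot.coe_natCast, ← WithBot.coe_min, WithBot.coe_le_coe] at h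
  by_cases h2 : 2 ≤ LocCoh.depth (Localization.AtPrime p) (Localization.AtPrime p)
  · exact (min_le_left _ _).trans ((WithBot.coe_le_coe (a := (2 : ℕ∞))).2 (key p h2))
  refine (min_le_right _ _).trans ((Module.supportDim_le_ringKrullDim _ _).trans ?_)
  rw [IsLocalization.AtPrime.ringKrullDim_eq_height p, WithBot.coe_le_coe]
  have hlt : p.height < 2 := lt_of_not_ge fun hge => h2 (le_trans (le_min le_rfl hge) h)
  by_cases hp : p = ⊥
  · subst hp; rw [Ideal.height_bot]; exact zero_le
  refine le_trans ?_ ((Groth.Agent.Alg6.one_le_depth_atPrime_iff (M := M) p).2 fun hh =>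
    hp (Groth.Agent.CAlgOdd.Refl.ass_eq_bot_of_torsionFree hh))
  exact Order.le_of_lt_add_one (by rw [one_add_one_eq_two]; exact hlt)

end Groth.Agent.S6880
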