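import Groth.Statements.S2054
import Mathlib
import Groth.Agent.CAlgOdd.Reflexive
import Groth.Agent.FlatLoc6.SerreNormal
import Groth.Agent.S6880

set_option autoImplicit false
universe u
open CAlg

namespace Groth.Agent.S2054

/-- Let `R` be a Noetherian normal domain and `M` a finite `R`-module. Then `M` is reflexive (the map to
its double dual is bijective) if and only if `M` is torsion free and satisfies Serre's condition
`(S_2)`. -/
theorem result {R M : Type u} [CommRing R] [IsDomain R] [IsNoetherianRing R]
    [IsIntegrallyClosed R] [AddCommGroup M] [Module R M] [Module.Finite R M] :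
    Module.IsReflexive R M ↔ NoZeroSMulDivisors R M ∧ LocCoh.HasSk 2 R M := by
  have hnorm : ∀ (p : Ideal R) [p.IsPrime],
      IsDomain (Localization.AtPrime p) ∧ IsIntegrallyClosed (Localization.AtPrime p) := fun p _ =>
    ⟨IsLocalization.isDomain_localization p.primeCompl_le_nonZeroDivisors,
      isIntegrallyClosed_of_isLocalization (Localization.AtPrime p) p.primeCompl p.primeCompl_le_nonZeroDivisors⟩
  obtain ⟨hR1, hS2⟩ := Groth.Agent.FlatLoc6.R1_S2_of_normal hnorm
  constructor
  · intro h
    haveI := h
    exact ⟨⟨fun {c x} hcx => smul_eq_zero.1 hcx⟩, (Groth.Agent.S6880.result R M).2 hS2⟩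
  · rintro ⟨htf, hS⟩
    haveI : Module.IsTorsionFree R M := Module.isTorsionFree_iff_smul_eq_zero.2 fun c x h => htf.1 h
    refine Groth.Agent.CAlgOdd.Refl.isReflexive_of_forall_or fun p _ hp => ?_
    by_cases h1 : p.height ≤ 1
    · left
      obtain ⟨_, _⟩ := hnorm p
      haveI : IsNoetherianRing (Localization.AtPrime p) := IsLocalization.isNoetherianRing p.primeCompl _ inferInstance
      haveI : IsDiscreteValuationRing (Localization.AtPrime p) := by
        refine Groth.Agent.CDiv6.isDVR_of_dim_eq_one _ ?_
        rw [IsLocalization.AtPrime.ringKrullDim_eq_height p]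
        exact_mod_cast le_antisymm h1 (Order.one_le_iff_ne_zero.2 fun e => hp (Ideal.height_eq_zero_iff_eq_bot.1 e))
      exact Groth.Agent.CAlgOdd.Refl.isReflexive_localized_of_pid p
    · right
      haveI : Module.Finite (Localization.AtPrime p) (LocalizedModule p.primeCompl M) :=
        Module.Finite.of_isLocalizedModule p.primeCompl (LocalizedModule.mkLinearMap _ M)
      rcases subsingleton_or_nontrivial (LocalizedModule p.primeCompl M) with hM | hM
      · refine le_of_le_of_eq le_top ?_
        exact (if_pos (Subsingleton.elim _ _)).symm
      refine WithBot.coe_le_coe.1 (le_trans ?_ (hS p))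
      refine le_min le_rfl ?_
      have hann : Module.annihilator (Localization.AtPrime p) (LocalizedModule p.primeCompl M) = ⊥ := by
        obtain ⟨z, hz⟩ := exists_ne (0 : LocalizedModule p.primeCompl M)
        refine eq_bot_iff.2 fun r hr => Ideal.mem_bot.2 ?_
        obtain ⟨a, s, rfl⟩ := IsLocalization.exists_mk'_eq p.primeCompl r
        induction z using LocalizedModule.induction_on with
        | h m t =>
          have hrz := Module.mem_annihilator.1 hr (LocalizedModule.mk m t)
          rw [← Localization.mk_eq_mk', LocalizedModule.mk_smul_mk, IsLocalizedModule.mk_eq_mk',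
            IsLocalizedModule.mk'_eq_zero'] at hrz
          obtain ⟨u, hu⟩ := hrz
          rw [Submonoid.smul_def, smul_smul] at hu
          rcases smul_eq_zero.1 hu with h' | h'
          · rcases mul_eq_zero.1 h' with h'' | h''
            · exact absurd (show (u : R) ∈ p by rw [h'']; exact p.zero_mem) u.2
            · rw [h'', IsLocalization.mk'_zero]
          · exact absurd (by rw [h', LocalizedModule.zero_mk]) hz
      rw [Module.supportDim_eq_ringKrullDim_quotient_annihilator, hann,
        ringKrullDim_eq_of_ringEquiv (RingEquiv.quotientBot (Localization.AtPrime p)), IsLocalization.AtPrime.ringKrullDim_eq_height p]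
      refine (WithBot.coe_le_coe (a := (2 : ℕ∞))).2 ?_
      rw [not_le] at h1
      have := Order.add_one_le_of_lt h1
      rwa [one_add_one_eq_two] at this

end Groth.Agent.S2054
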