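import Groth.Statements.S2055
import Mathlib
import Groth.Agent.EtGlue7.FlatTorsion

set_option autoImplicit false
universe u
open CAlg

namespace Groth.Agent.S2055

open TensorProduct in
/-- Let `R → S` be flat and `I ⊆ R` a finitely generated ideal with `R/I → S/IS` bijective. If one of
the `R`-modules `M`, `N` has every element killed by a power of `I`, then base change of linear maps
`Hom_R(M, N) → Hom_S(S ⊗ M, S ⊗ N)` is bijective. -/
theorem result {R S M N : Type u} [CommRing R] [CommRing S]
    [Algebra R S] [Module.Flat R S] (I : Ideal R) (hI : I.FG)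
    (hq : Function.Bijective (algebraMap (R ⧸ I) (S ⧸ I.map (algebraMap R S))))
    [AddCommGroup M] [Module R M] [AddCommGroup N] [Module R N]
    (hMN : (∀ x : M, ∃ n : ℕ, ∀ a ∈ I ^ n, a • x = 0) ∨ (∀ y : N, ∃ n : ℕ, ∀ a ∈ I ^ n, a • y = 0)) :
    Function.Bijective (fun f : M →ₗ[R] N => LinearMap.baseChange S f) := by
  open TensorProduct in
  open Groth.Agent.EtGlue7.Formal in
  have hq' : Function.Bijective (Ideal.quotientMap (I.map (algebraMap R S)) (algebraMap R S) Ideal.le_comap_map) := by
    have e : (algebraMap (R ⧸ I) (S ⧸ I.map (algebraMap R S)) : (R ⧸ I) → (S ⧸ I.map (algebraMap R S))) =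
        Ideal.quotientMap (I.map (algebraMap R S)) (algebraMap R S) Ideal.le_comap_map := by
      funext x
      obtain ⟨r, rfl⟩ := Ideal.Quotient.mk_surjective x
      rfl
    rw [← e]
    exact hq
  have hfm : ∀ (f : M →ₗ[R] N) (x : M), f x ∈ tors I N := by
    intro f x
    rcases hMN with h | h
    · obtain ⟨n, hn⟩ := h x
      exact ⟨n, fun a ha => by rw [← map_smul, hn a ha, map_zero]⟩
    · exact h (f x)
  refine ⟨fun f f' hff => LinearMap.ext fun x => sub_eq_zero.1 (eq_zero_of_tors hq' (hfm (f - f') x) ?_), fun g => ?_⟩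
  · have := LinearMap.congr_fun hff ((1 : S) ⊗ₜ[R] x)
    simp only [LinearMap.baseChange_tmul] at this
    show (1 : S) ⊗ₜ[R] (f x - f' x) = 0
    rw [TensorProduct.tmul_sub, this, sub_self]
  · have hgt : ∀ x : M, g ((1 : S) ⊗ₜ[R] x) ∈ tors I (S ⊗[R] N) := by
      intro x
      rcases hMN with h | h
      · obtain ⟨n, hn⟩ := h x
        refine ⟨n, fun a ha => ?_⟩
        rw [← LinearMap.map_smul_of_tower, ← TensorProduct.tmul_smul, hn a ha, TensorProduct.tmul_zero, map_zero]
      · induction g ((1 : S) ⊗ₜ[R] x) using TensorProduct.induction_on with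
        | zero => exact (tors I (S ⊗[R] N)).zero_mem
        | tmul s y =>
          obtain ⟨n, hn⟩ := h y
          exact ⟨n, fun a ha => by rw [← TensorProduct.tmul_smul, hn a ha, TensorProduct.tmul_zero]⟩
        | add u v hu hv => exact (tors I (S ⊗[R] N)).add_mem hu hv
    choose ψ hψmem hψ using fun x => exists_tors_eq hq' hI (hgt x)
    have uniq : ∀ a b : N, a ∈ tors I N → b ∈ tors I N → (1 : S) ⊗ₜ[R] a = (1 : S) ⊗ₜ[R] b → a = b := fun a b ha hb e =>
      sub_eq_zero.1 (eq_zero_of_tors hq' ((tors I N).sub_mem ha hb) (by rw [TensorProduct.tmul_sub, e, sub_self]))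
    let φ : M →ₗ[R] N :=
      { toFun := ψ
        map_add' := fun a b => uniq _ _ (hψmem _) ((tors I N).add_mem (hψmem a) (hψmem b))
          (by rw [hψ, TensorProduct.tmul_add, TensorProduct.tmul_add, hψ, hψ, map_add])
        map_smul' := fun r a => uniq _ _ (hψmem _) ((tors I N).smul_mem r (hψmem a))
          (by rw [hψ, RingHom.id_apply, TensorProduct.tmul_smul, TensorProduct.tmul_smul, hψ, LinearMap.map_smul_of_tower]) }
    refine ⟨φ, TensorProduct.AlgebraTensorModule.ext fun s x => ?_⟩
    show s ⊗ₜ[R] ψ x = g (s ⊗ₜ[R] x)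
    rw [show s ⊗ₜ[R] x = s • ((1 : S) ⊗ₜ[R] x) by rw [TensorProduct.smul_tmul', smul_eq_mul, mul_one], map_smul, ← hψ,
      TensorProduct.smul_tmul', smul_eq_mul, mul_one]

end Groth.Agent.S2055
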