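import Groth.Statements.S2058
import Mathlib
import Groth.Agent.Kollar.Tetra

set_option autoImplicit false
universe u
open CAlg

namespace Groth.Agent.S2058

/-- Let R be a Noetherian local ring which is not Artinian, is not a regular local ring of dimension
one, and has depth at most one. Then there is a finite ring map R → R' with R' ≠ 0, not bijective,
whose kernel and cokernel are killed by a power of the maximal ideal of R, such that the maximal
ideal of R is not an associated prime of the R-module R'. (This says that the four cases for a
Noetherian local ring — Artinian, regular of dimension one, depth at least two, or admitting such a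
map — cover everything; that they are mutually exclusive is not asserted.) -/
theorem result {R : Type u} [CommRing R] [IsLocalRing R] [IsNoetherianRing R]
    (h1 : ¬ IsArtinianRing R) (h2 : ¬ (IsRegularLocalRing R ∧ ringKrullDim R = 1))
    (h3 : LocCoh.depth R R ≤ 1) :
    ∃ (R' : Type u) (_ : CommRing R') (_ : Algebra R R'), Nontrivial R' ∧ Module.Finite R R' ∧
      ¬ Function.Bijective (algebraMap R R') ∧
      (∃ n : ℕ, (∀ x : R, algebraMap R R' x = 0 → ∀ a ∈ IsLocalRing.maximalIdeal R ^ n, a * x = 0) ∧
        (∀ y : R', ∀ a ∈ IsLocalRing.maximalIdeal R ^ n, a • y ∈ Set.range (algebraMap R R'))) ∧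
      IsLocalRing.maximalIdeal R ∉ associatedPrimes R R' := by
  exact Groth.Agent.Kollar.exists_modification h1 h2 h3

end Groth.Agent.S2058
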