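import Groth.Statements.S2059
import Mathlib

set_option autoImplicit false
universe u
open CAlg

namespace Groth.Agent.S2059

/-- Let `k` be a field and `S` a `k`-algebra generated by a set of cardinality smaller than that of `k`.
Then for every maximal ideal `𝔪` of `S` the residue field `S/𝔪` is algebraic over `k`, and `S` is a
Jacobson ring. -/
theorem result {k S : Type u} [Field k] [CommRing S] [Algebra k S]
    (s : Set S) (hs : Algebra.adjoin k s = ⊤) (hcard : Cardinal.mk s < Cardinal.mk k) :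
    (∀ (m : Ideal S) [m.IsMaximal], Algebra.IsAlgebraic k (S ⧸ m)) ∧ IsJacobsonRing S := by
  classical
  open Cardinal in
  rcases lt_or_ge (Cardinal.mk s) ℵ₀ with hfin | hinf
  · haveI : Algebra.FiniteType k S := ⟨⟨(Cardinal.lt_aleph0_iff_set_finite.1 hfin).toFinset, by simpa using hs⟩⟩
    haveI : IsJacobsonRing S := isJacobsonRing_of_finiteType (A := k)
    refine ⟨fun m hm => ?_, inferInstance⟩
    letI := Ideal.Quotient.field m
    haveI : Module.Finite k (S ⧸ m) := finite_of_finite_type_of_isJacobsonRing k (S ⧸ m)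
    exact Algebra.IsAlgebraic.of_finite k (S ⧸ m)
  have hk : ℵ₀ < Cardinal.mk k := lt_of_le_of_lt hinf hcard
  have key : ∀ (K : Type u) [Field K] [Algebra k K], Module.rank k K < Cardinal.mk k → Algebra.IsAlgebraic k K := by
    intro K _ _ hK
    refine ⟨fun x => ?_⟩
    by_contra hx
    exact (Transcendental.linearIndependent_sub_inv (F := k) (x := x) hx).cardinal_le_rank.not_gt hK
  have hS : Module.rank k S < Cardinal.mk k := by
    let φ : MvPolynomial s k →ₐ[k] S := MvPolynomial.aeval Subtype.val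
    have hφ : Function.Surjective φ := by
      rw [← AlgHom.range_eq_top, ← Algebra.adjoin_range_eq_range_aeval, Subtype.range_coe, hs]
    refine lt_of_le_of_lt (LinearMap.rank_le_of_surjective φ.toLinearMap hφ) ?_
    rw [← (MvPolynomial.basisMonomials s k).mk_eq_rank'']
    haveI : Nonempty s := by
      rw [← Cardinal.mk_ne_zero_iff]
      exact fun h0 => (Cardinal.aleph0_pos.trans_le hinf).ne' h0
    rw [Cardinal.mk_finsupp_nat]
    exact max_lt hcard hk
  have halg : ∀ (m : Ideal S) [m.IsMaximal], Algebra.IsAlgebraic k (S ⧸ m) := fun m hm => by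
    letI := Ideal.Quotient.field m
    exact key (S ⧸ m) (lt_of_le_of_lt
      (LinearMap.rank_le_of_surjective (Ideal.Quotient.mkₐ k m).toLinearMap Ideal.Quotient.mk_surjective) hS)
  refine ⟨halg, isJacobsonRing_iff_prime_eq.2 fun p hp => le_antisymm (fun f hf => ?_) Ideal.le_jacobson⟩
  by_contra hfp
  let T := Localization.Away (Ideal.Quotient.mk p f)
  have hf0 : Ideal.Quotient.mk p f ≠ 0 := fun e => hfp (Ideal.Quotient.eq_zero_iff_mem.1 e)
  haveI : Nontrivial T := by
    haveI : IsDomain T := IsLocalization.isDomain_localization (powers_le_nonZeroDivisors_of_noZeroDivisors hf0)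
    infer_instance
  obtain ⟨n, hn⟩ := Ideal.exists_maximal T
  letI := Ideal.Quotient.field n
  let Φ : (ℕ →₀ S) →ₗ[k] T := Finsupp.lsum k fun i =>
    (LinearMap.mulRight k (IsLocalization.mk' T (1 : S ⧸ p) (⟨Ideal.Quotient.mk p f ^ i, Submonoid.mem_powers_iff _ _ |>.2 ⟨i, rfl⟩⟩ : Submonoid.powers (Ideal.Quotient.mk p f)))) ∘ₗ
      (IsScalarTower.toAlgHom k S T).toLinearMap
  have hΦ : Function.Surjective Φ := by
    intro t
    obtain ⟨a, ⟨_, i, rfl⟩, rfl⟩ := IsLocalization.exists_mk'_eq (Submonoid.powers (Ideal.Quotient.mk p f)) t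
    obtain ⟨a, rfl⟩ := Ideal.Quotient.mk_surjective a
    refine ⟨Finsupp.single i a, ?_⟩
    rw [Finsupp.lsum_single]
    show algebraMap S T a * IsLocalization.mk' T (1 : S ⧸ p) _ = _
    rw [IsScalarTower.algebraMap_apply S (S ⧸ p) T, IsLocalization.mul_mk'_eq_mk'_of_mul, mul_one]
    rfl
  have hT : Module.rank k T < Cardinal.mk k := by
    refine lt_of_le_of_lt (LinearMap.rank_le_of_surjective Φ hΦ) ?_
    rw [rank_finsupp, Cardinal.lift_uzero]
    exact Cardinal.mul_lt_of_lt hk.le (by simpa using hk) (by simpa using hS)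
  haveI : Algebra.IsAlgebraic k (T ⧸ n) := key (T ⧸ n) (lt_of_le_of_lt
      (LinearMap.rank_le_of_surjective (Ideal.Quotient.mkₐ k n).toLinearMap Ideal.Quotient.mk_surjective) hT)
  let ψ : S →ₐ[k] T ⧸ n := (Ideal.Quotient.mkₐ k n).comp (IsScalarTower.toAlgHom k S T)
  have hmax : (RingHom.ker ψ).IsMaximal := by
    haveI : (RingHom.ker ψ).IsPrime := RingHom.ker_isPrime _
    refine Ideal.Quotient.maximal_of_isField _ ?_
    letI : Algebra k (S ⧸ RingHom.ker ψ) := Ideal.Quotient.algebra k
    haveI : Algebra.IsIntegral k (S ⧸ RingHom.ker ψ) :=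
      Algebra.IsIntegral.of_injective (Ideal.kerLiftAlg ψ) (Ideal.kerLiftAlg_injective ψ)
    exact isField_of_isIntegral_of_isField' (R := k) (Field.toIsField k)
  have hle : p ≤ RingHom.ker ψ := fun x hx => by
    show Ideal.Quotient.mk n (algebraMap S T x) = 0
    rw [IsScalarTower.algebraMap_apply S (S ⧸ p) T, Ideal.Quotient.algebraMap_eq, Ideal.Quotient.eq_zero_iff_mem.2 hx,
      map_zero, map_zero]
  have : f ∈ RingHom.ker ψ := Ideal.mem_sInf.1 hf ⟨hle, hmax⟩
  refine hn.ne_top (Ideal.eq_top_of_isUnit_mem _ (Ideal.Quotient.eq_zero_iff_mem.1 (this : Ideal.Quotient.mk n (algebraMap S T f) = 0)) ?_)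
  show IsUnit (algebraMap S T f)
  rw [IsScalarTower.algebraMap_apply S (S ⧸ p) T]
  exact IsLocalization.map_units T (⟨_, Submonoid.mem_powers _⟩ : Submonoid.powers (Ideal.Quotient.mk p f))

end Groth.Agent.S2059
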