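import Groth.Statements.S2061
import Mathlib
import Groth.Agent.CAlgOdd.AuslanderBuchsbaum
import Groth.Agent.RegLoc6.Serre
import Groth.Agent.LC.GorRows
import Groth.Agent.LC.GorHull

set_option autoImplicit false
universe u
open CategoryTheory
open CAlg

namespace Groth.Agent.S2061

/-- For a Noetherian local ring `R` write `𝔪` for its maximal ideal and `κ` for its residue field. The
projective dimension of `κ` as an `R`-module is at least the `κ`-dimension of `𝔪/𝔪²`: if `κ` has
projective dimension less than `d` then `dim_κ 𝔪/𝔪² < d`. -/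
theorem result {R : Type u} [CommRing R] [IsLocalRing R]
    [IsNoetherianRing R] (d : ℕ)
    (hd : HasProjectiveDimensionLT (ModuleCat.of R (IsLocalRing.ResidueField R)) d) :
    Module.finrank (IsLocalRing.ResidueField R) (IsLocalRing.CotangentSpace R) < d := by
  classical
  let κ := IsLocalRing.ResidueField R
  rcases d with _ | d
  · exfalso
    have h0 := (CategoryTheory.hasProjectiveDimensionLT_zero_iff_isZero (X := ModuleCat.of R κ)).1 hd
    exact not_subsingleton κ (ModuleCat.subsingleton_of_isZero h0)
  have hd' : Groth.Agent.RegLoc6.PdLE R d κ := hd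
  have hex : ∃ e, Groth.Agent.RegLoc6.PdLE R e κ := ⟨d, hd'⟩
  haveI hreg : IsRegularLocalRing R := Groth.Agent.RegLoc6.isRegularLocalRing_of_pdLE (n := d) hd'
  haveI := Groth.Agent.LC.gorenstein_of_isRegularLocalRing (R := R)
  haveI hcm : LocCoh.IsCohenMacaulayLocalRing R := Groth.Agent.LC.isCohenMacaulayLocalRing_of_gorenstein
  have h := Groth.Agent.CAlgOdd.AB.depth_add_eq (Nat.find hex) κ (Nat.find_spec hex) (fun e' he' => Nat.find_min hex he')
  have hk : LocCoh.depth R κ = 0 := by
    refine Groth.Agent.LC.idealDepth_eq_zero_of_forall (IsLocalRing.maximalIdeal R)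
      (Groth.Agent.LC.smul_top_ne_top_of_le_maximal le_rfl) fun r hr hreg' => ?_
    refine one_ne_zero (hreg' (?_ : r • (1 : κ) = r • (0 : κ)))
    rw [smul_zero, Algebra.smul_def, mul_one]
    exact (IsLocalRing.residue_eq_zero_iff r).2 hr
  have hD : ((IsLocalRing.maximalIdeal R).spanFinrank : WithBot ℕ∞) = ((LocCoh.depth R R : ℕ∞) : WithBot ℕ∞) := by
    rw [IsRegularLocalRing.spanFinrank_maximalIdeal, ← Module.supportDim_self_eq_ringKrullDim]
    exact hcm.supportDim_eq_depth
  rw [← h, hk, zero_add] at hD
  have hle : Nat.find hex ≤ d := Nat.find_min' hex hd'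
  have hD' : (IsLocalRing.maximalIdeal R).spanFinrank = Nat.find hex := by exact_mod_cast hD
  rw [← IsLocalRing.spanFinrank_maximalIdeal_eq_finrank_cotangentSpace, hD']
  omega

end Groth.Agent.S2061
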