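import Groth.Statements.S2065
import Groth.Agent.BEConv.Main

set_option autoImplicit false
universe u
open CAlg Matrix

namespace Groth.Agent.S2065

/-- Let `R` be a Noetherian local ring and `0 → R^{n_e} → … → R^{n_1} → R^{n_0}` a complex of finite
free modules, the map `R^{n_{i+1}} → R^{n_i}` being given by the matrix `A i`. The complex is exact
at `R^{n_e}, …, R^{n_1}` if and only if for each `1 ≤ j ≤ e` the matrix of `R^{n_j} → R^{n_{j-1}}`
has rank `n_j - n_{j+1} + … ± n_e` and its ideal of minors of that size is the unit ideal or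
contains a regular sequence of length `j`. -/
theorem result {R : Type u} [CommRing R] [IsLocalRing R] [IsNoetherianRing R]
    (e : ℕ) (he : 1 ≤ e) (n : ℕ → ℕ) (A : (i : ℕ) → Matrix (Fin (n i)) (Fin (n (i + 1))) R)
    (hA : ∀ i, i + 2 ≤ e → A i * A (i + 1) = 0) :
    (LinearMap.ker (A (e - 1)).mulVecLin = ⊥ ∧
        ∀ i, i + 2 ≤ e → LinearMap.ker (A i).mulVecLin = LinearMap.range (A (i + 1)).mulVecLin) ↔
      ∀ j, 1 ≤ j → j ≤ e →
        (CAlgX.matrixRank (A (j - 1)) : ℤ) = ∑ t ∈ Finset.Icc j e, (-1 : ℤ) ^ (t - j) * (n t : ℤ) ∧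
          (CAlgX.detIdeal (A (j - 1)) = ⊤ ∨
            ∃ rs : List R, rs.length = j ∧ (∀ r ∈ rs, r ∈ CAlgX.detIdeal (A (j - 1))) ∧
              RingTheory.Sequence.IsRegular R rs) := by
  refine ⟨fun hex j hj1 hj2 => ?_, fun h => Groth.Agent.S19962.result e he n A hA
    (fun j h1 h2 => (h j h1 h2).1) fun j h1 h2 => (h j h1 h2).2⟩
  classical
  let A' : (i : ℕ) → Matrix (Fin (n i)) (Fin (n (i + 1))) R := fun i => if i < e then A i else 0
  have hA' : ∀ i, i < e → A' i = A i := fun i hi => if_pos hi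
  have htop : A' e = 0 := if_neg (lt_irrefl e)
  have hAA : ∀ i, A' i * A' (i + 1) = 0 := fun i => by
    by_cases h : i + 2 ≤ e
    · rw [hA' i (by omega), hA' (i + 1) (by omega), hA i h]
    · rw [show A' (i + 1) = 0 from if_neg (by omega), Matrix.mul_zero]
  have hexm : ∀ k, k < e → Groth.Agent.BEConv.ExMod A' (⊥ : Ideal R) k := fun k hk z hz => by
    have hz' : A k *ᵥ z = 0 := funext fun i => by
      have := hz i
      rw [hA' k hk, Ideal.mem_bot] at this
      exact this
    by_cases h : k + 2 ≤ e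
    · obtain ⟨v, hv⟩ : z ∈ LinearMap.range (A (k + 1)).mulVecLin := hex.2 k h ▸ hz'
      exact ⟨v, fun j => by rw [hA' (k + 1) (by omega)]; simp [← hv]⟩
    · obtain rfl : k = e - 1 := by omega
      have hz0 : z = 0 := LinearMap.ker_eq_bot'.1 hex.1 z hz'
      exact ⟨0, fun j => by simp [hz0]⟩
  obtain ⟨k, rfl⟩ : ∃ k, j = k + 1 := ⟨j - 1, by omega⟩
  have hk : k < e := by omega
  have hrank := Groth.Agent.BEConv.matrixRank_eq_expRank hAA htop hexm k hk
  rw [hA' k hk] at hrank
  rw [Nat.add_sub_cancel]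
  refine ⟨hrank, or_iff_not_imp_left.2 fun hI => ?_⟩
  have hI' : CAlgX.detIdeal (A k) =
      CAlgX.minorIdeal (A' k) (Groth.Agent.BEConv.expRank n e k).toNat := by
    rw [hA' k hk, ← hrank, Int.toNat_natCast, CAlgX.detIdeal]
  rw [hI'] at hI ⊢
  exact Groth.Agent.BEConv.exists_regular_seq hAA htop hexm k hk hI

end Groth.Agent.S2065
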