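import Groth.Statements.S2071
import Mathlib

set_option autoImplicit false
universe u
open CAlg

namespace Groth.Agent.S2071

/-- For a field extension `k'/k`, every element of `k'` has a positive power in `k` if and only if
either `k' = k`, or the characteristic is a prime `p` and either `k'/k` is purely inseparable or
`k'` is algebraic over its prime field. -/
theorem result {k k' : Type u} [Field k] [Field k'] [Algebra k k'] :
    (∀ x : k', ∃ n : ℕ, 0 < n ∧ x ^ n ∈ Set.range (algebraMap k k')) ↔
      Function.Surjective (algebraMap k k') ∨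
        ∃ p : ℕ, p.Prime ∧ CharP k' p ∧
          (IsPurelyInseparable k k' ∨ Algebra.IsAlgebraic (⊥ : Subfield k') k') := by
  classical
  constructor
  · intro h
    by_cases hsurj : Function.Surjective (algebraMap k k')
    · exact Or.inl hsurj
    right
    haveI halgk : Algebra.IsIntegral k k' := ⟨fun x => by
      obtain ⟨n, hn, c, hc⟩ := h x
      exact IsIntegral.of_pow hn (hc ▸ isIntegral_algebraMap)⟩
    let Ω := AlgebraicClosure k'
    let ι : k' →+* Ω := algebraMap k' Ω
    have hconj : ∀ x : k', IsSeparable k x → x ∉ Set.range (algebraMap k k') →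
        ∃ y : Ω, y ≠ ι x ∧ ∀ a : k, ∃ n, 0 < n ∧ (y + algebraMap k Ω a) ^ n = (ι x + algebraMap k Ω a) ^ n := by
      intro x hsep hx
      have hint : IsIntegral k x := Algebra.IsIntegral.isIntegral x
      have hdeg : 2 ≤ (minpoly k x).natDegree := minpoly.two_le_natDegree_iff hint |>.2 fun hr => hx (RingHom.mem_range.1 hr)
      have hcard := Polynomial.card_rootSet_eq_natDegree (K := Ω) hsep (IsAlgClosed.splits _)
      obtain ⟨y, hy, hne⟩ : ∃ y ∈ (minpoly k x).rootSet Ω, y ≠ ι x := by
        by_contra hcon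
        push Not at hcon
        have hle : Fintype.card ((minpoly k x).rootSet Ω) ≤ 1 :=
          Fintype.card_le_one_iff_subsingleton.2 ⟨fun u v => Subtype.ext ((hcon u u.2).trans (hcon v v.2).symm)⟩
        omega
      refine ⟨y, hne, fun a => ?_⟩
      obtain ⟨n, hn, c, hc⟩ := h (x + algebraMap k k' a)
      have hdvd : minpoly k x ∣ (Polynomial.X + Polynomial.C a) ^ n - Polynomial.C c := minpoly.dvd k x (by simp [hc])
      obtain ⟨r, hr⟩ := hdvd
      have h0 : Polynomial.aeval y ((Polynomial.X + Polynomial.C a) ^ n - Polynomial.C c) = 0 := by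
        rw [hr, map_mul, Polynomial.aeval_eq_zero_of_mem_rootSet hy, zero_mul]
      refine ⟨n, hn, ?_⟩
      simp only [map_sub, map_pow, map_add, Polynomial.aeval_X, Polynomial.aeval_C, sub_eq_zero] at h0
      rw [h0, IsScalarTower.algebraMap_apply k k' Ω, hc, map_pow, map_add, ← IsScalarTower.algebraMap_apply]
    have hroots : ∀ x : k', IsSeparable k x → x ∉ Set.range (algebraMap k k') →
        ∃ y : Ω, y ≠ ι x ∧ ∃ ζ : k → Ω, ∀ a, (∃ n, 0 < n ∧ ζ a ^ n = 1) ∧
          y + algebraMap k Ω a = ζ a * (ι x + algebraMap k Ω a) := by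
      intro x hsep hx
      obtain ⟨y, hne, hy⟩ := hconj x hsep hx
      refine ⟨y, hne, fun a => (y + algebraMap k Ω a) / (ι x + algebraMap k Ω a), fun a => ?_⟩
      have hxa : ι x + algebraMap k Ω a ≠ 0 := fun e => hx ⟨-a, ι.injective (by
        rw [← IsScalarTower.algebraMap_apply k k' Ω, map_neg]
        exact (eq_neg_of_add_eq_zero_left e).symm)⟩
      obtain ⟨n, hn, he⟩ := hy a
      exact ⟨⟨n, hn, by rw [div_pow, he, div_self (pow_ne_zero _ hxa)]⟩, (div_mul_cancel₀ _ hxa).symm⟩
    obtain ⟨p, hp⟩ := CharP.exists k'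
    rcases CharP.char_is_prime_or_zero k' p with hpp | rfl
    swap
    · exfalso
      haveI : CharZero k' := CharP.charP_to_charZero k'
      haveI : CharZero k := (algebraMap k k').charZero
      haveI : CharZero Ω := (RingHom.charZero_iff ι.injective).1 inferInstance
      obtain ⟨x, hx⟩ : ∃ x : k', x ∉ Set.range (algebraMap k k') := by
        simpa [Function.Surjective] using hsurj
      obtain ⟨y, hne, ζ, hζ⟩ := hroots x (Algebra.IsSeparable.isSeparable k x) hx
      let z₀ := ζ 0
      let z₁ := ζ 1
      have e0 : y = z₀ * ι x := by simpa using (hζ 0).2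
      have e1 : y + 1 = z₁ * (ι x + 1) := by simpa using (hζ 1).2
      have hint : ∀ {w : Ω}, (∃ n, 0 < n ∧ w ^ n = 1) → IsIntegral ℚ w := fun ⟨n, hn, hw⟩ =>
        IsIntegral.of_pow hn (hw ▸ isIntegral_one)
      have h10 : z₁ - z₀ ≠ 0 := by
        intro e
        have e2 : z₁ = z₀ := sub_eq_zero.1 e
        rw [e2, e0] at e1
        have : z₀ = 1 := by linear_combination (-1 : Ω) * e1
        exact hne (by rw [e0, this, one_mul])
      have hxQ : IsIntegral ℚ (ι x) := by
        have e : ι x = (1 - z₁) * (z₁ - z₀)⁻¹ := by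
          rw [eq_mul_inv_iff_mul_eq₀ h10]; linear_combination (-1 : Ω) * e1 + e0
        rw [e]
        exact (isIntegral_one.sub (hint (hζ 1).1)).mul ((hint (hζ 1).1).sub (hint (hζ 0).1)).inv
      have hyQ : IsIntegral ℚ y := e0 ▸ (hint (hζ 0).1).mul hxQ
      let L : IntermediateField ℚ Ω := IntermediateField.adjoin ℚ {ι x, y}
      haveI : FiniteDimensional ℚ L := IntermediateField.finiteDimensional_adjoin fun w hw => by
        rcases hw with rfl | rfl
        · exact hxQ
        · exact hyQ
      haveI : NumberField L := @NumberField.mk _ _ inferInstance ‹_›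
      have hmx : ι x ∈ L := IntermediateField.subset_adjoin ℚ _ (Set.mem_insert _ _)
      have hmy : y ∈ L := IntermediateField.subset_adjoin ℚ _ (Set.mem_insert_of_mem _ rfl)
      let g : ℕ → L := fun m => (⟨y, hmy⟩ + (m : L)) / (⟨ι x, hmx⟩ + (m : L))
      have hg : ∀ m : ℕ, ((g m : L) : Ω) = ζ m := by
        intro m
        have hxa : ι x + (m : Ω) ≠ 0 := fun e => hx ⟨-(m : k), ι.injective (by
          rw [map_neg, map_natCast, map_neg, map_natCast]
          exact (eq_neg_of_add_eq_zero_left e).symm)⟩
        have := (hζ (m : k)).2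
        rw [map_natCast] at this
        show (((⟨y, hmy⟩ + (m : L)) / (⟨ι x, hmx⟩ + (m : L)) : L) : Ω) = _
        push_cast
        rw [this, mul_div_assoc, div_self hxa, mul_one]
      have hginj : Function.Injective g := by
        intro a b hab
        have e := congrArg (Subtype.val : L → Ω) hab
        rw [hg, hg] at e
        have ha := (hζ (a : k)).2
        have hb := (hζ (b : k)).2
        rw [map_natCast] at ha hb
        rw [← e] at hb
        have h' : ((a : Ω) - b) * (1 - ζ a) = 0 := by linear_combination ha - hb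
        rcases mul_eq_zero.1 h' with h'' | h''
        · exact_mod_cast sub_eq_zero.1 h''
        · rw [← sub_eq_zero.1 h'', one_mul] at ha
          exact absurd (add_right_cancel ha) hne
      refine Set.infinite_range_of_injective hginj ((NumberField.Embeddings.finite_of_norm_le (K := L) (A := ℂ) 1).subset ?_)
      rintro _ ⟨m, rfl⟩
      obtain ⟨n, hn, hpow⟩ := (hζ (m : k)).1
      have hpow' : g m ^ n = 1 := Subtype.ext (by rw [SubmonoidClass.coe_pow, hg, hpow]; rfl)
      exact ⟨IsIntegral.of_pow hn (hpow' ▸ isIntegral_one), fun φ =>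
        (Complex.norm_eq_one_of_pow_eq_one (by rw [← map_pow, hpow', map_one]) hn.ne').le⟩
    haveI : Fact p.Prime := ⟨hpp⟩
    haveI : CharP k p := (Algebra.charP_iff k k' p).2 hp
    refine ⟨p, hpp, hp, ?_⟩
    by_cases hpi : IsPurelyInseparable k k'
    · exact Or.inl hpi
    right
    obtain ⟨x, hsep, hx⟩ : ∃ x : k', IsSeparable k x ∧ x ∉ Set.range (algebraMap k k') := by
      by_contra hcon
      push Not at hcon
      exact hpi (isPurelyInseparable_iff.2 fun z => ⟨Algebra.IsIntegral.isIntegral z, fun hs => hcon z hs⟩)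
    haveI : CharP Ω p := charP_of_injective_ringHom ι.injective p
    letI : Algebra (ZMod p) Ω := ZMod.algebra Ω p
    obtain ⟨y, hne, ζ, hζ⟩ := hroots x hsep hx
    have hint : ∀ {w : Ω}, (∃ n, 0 < n ∧ w ^ n = 1) → IsIntegral (ZMod p) w := fun ⟨n, hn, hw⟩ =>
      IsIntegral.of_pow hn (hw ▸ isIntegral_one)
    have e0 : y = ζ 0 * ι x := by simpa using (hζ 0).2
    have hrel : ∀ a : k, ι x * (ζ 0 - ζ a) = algebraMap k Ω a * (ζ a - 1) := fun a => by
      linear_combination (hζ a).2 - e0
    have hone : ∀ a : k, a ≠ 0 → ζ a - 1 ≠ 0 ∧ ζ 0 - ζ a ≠ 0 := fun a ha => by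
      have h1 : ζ a - 1 ≠ 0 := fun e => hne (by
        have := (hζ a).2; rw [sub_eq_zero.1 e, one_mul] at this; exact add_right_cancel this)
      refine ⟨h1, fun e => h1 ?_⟩
      have := hrel a
      rw [e, mul_zero] at this
      exact (mul_eq_zero.1 this.symm).resolve_left ((map_ne_zero _).2 ha)
    have hxint : IsIntegral (ZMod p) (ι x) := by
      have := hrel 1
      rw [map_one, one_mul] at this
      rw [eq_div_iff (hone 1 one_ne_zero).2 |>.2 this, div_eq_mul_inv]
      exact ((hint (hζ 1).1).sub isIntegral_one).mul (((hint (hζ 0).1).sub (hint (hζ 1).1)).inv)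
    have hkint : ∀ a : k, IsIntegral (ZMod p) (algebraMap k Ω a) := fun a => by
      by_cases ha : a = 0
      · rw [ha, map_zero]; exact isIntegral_zero
      have := hrel a
      rw [eq_comm, ← eq_div_iff (hone a ha).1] at this
      rw [this, div_eq_mul_inv]
      exact (hxint.mul ((hint (hζ 0).1).sub (hint (hζ a).1))).mul (((hint (hζ a).1).sub isIntegral_one).inv)
    refine ⟨fun z => IsIntegral.isAlgebraic ?_⟩
    obtain ⟨n, hn, c, hc⟩ := h z
    have hz : IsIntegral (ZMod p) (ι z) := IsIntegral.of_pow hn (by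
      rw [← map_pow, ← hc, ← IsScalarTower.algebraMap_apply]; exact hkint c)
    obtain ⟨q, hq, hq0⟩ := hz
    let σ : ZMod p →+* (⊥ : Subfield k') := ZMod.castHom dvd_rfl _
    refine ⟨q.map σ, hq.map σ, ι.injective ?_⟩
    rw [map_zero, Polynomial.eval₂_map, Polynomial.hom_eval₂, ← hq0]
    congr 1
    exact Subsingleton.elim _ _
  · rintro (hs | ⟨p, hpp, hchar, hpi | halg⟩) x
    · exact ⟨1, one_pos, by rw [pow_one]; exact hs x⟩
    · haveI : Fact p.Prime := ⟨hpp⟩
      haveI : CharP k p := (Algebra.charP_iff k k' p).2 hchar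
      haveI : ExpChar k p := ExpChar.prime hpp
      obtain ⟨n, hn⟩ := IsPurelyInseparable.pow_mem k p x
      exact ⟨p ^ n, pow_pos hpp.pos n, RingHom.mem_range.1 hn⟩
    · haveI : Fact p.Prime := ⟨hpp⟩
      by_cases hx : x = 0
      · exact ⟨1, one_pos, 0, by rw [hx, map_zero, pow_one]⟩
      haveI := Subfield.fintypeBot k' p
      let F : IntermediateField (⊥ : Subfield k') k' := IntermediateField.adjoin (⊥ : Subfield k') {x}
      haveI : FiniteDimensional (⊥ : Subfield k') F :=
        IntermediateField.adjoin.finiteDimensional (halg.isAlgebraic x).isIntegral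
      haveI : Finite F := Module.finite_of_finite (⊥ : Subfield k')
      haveI := Fintype.ofFinite F
      let x' : F := ⟨x, IntermediateField.mem_adjoin_simple_self _ x⟩
      have hx' : x' ≠ 0 := fun e => hx (congrArg Subtype.val e)
      refine ⟨Fintype.card F - 1, Nat.sub_pos_of_lt Fintype.one_lt_card, 1, ?_⟩
      rw [map_one]
      exact (congrArg Subtype.val (FiniteField.pow_card_sub_one_eq_one x' hx')).symm

end Groth.Agent.S2071
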