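import Groth.Statements.S2073
import Mathlib

set_option autoImplicit false
universe u
open CAlg

namespace Groth.Agent.S2073

/-- Let `R` be a domain and `R → S` an injective ring map of finite type. Then there are elements `y_1,
…, y_d` of `S` algebraically independent over `R`, a finitely generated `R`-subalgebra `S'` of `S`
containing them and integral over `R[y_1, …, y_d]`, and a nonzero `f ∈ R` such that every element of
`S` lands in `S'` after multiplication by a power of `f`. -/
theorem result {R S : Type u} [CommRing R] [IsDomain R] [CommRing S] [Algebra R S]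
    [Algebra.FiniteType R S] (hinj : Function.Injective (algebraMap R S)) :
    ∃ (d : ℕ) (y : Fin d → S) (S' : Subalgebra R S), AlgebraicIndependent R y ∧ (∀ i, y i ∈ S') ∧ S'.FG ∧
      (∀ s ∈ S', IsIntegral (Algebra.adjoin R (Set.range y)) s) ∧
      ∃ f : R, f ≠ 0 ∧ ∀ s : S, ∃ n : ℕ, (f ^ n) • s ∈ S' := by
  open TensorProduct in
  classical
  let K := FractionRing R
  let SK := K ⊗[R] S
  let φ : S →ₐ[R] SK := Algebra.TensorProduct.includeRight
  have hloc : IsLocalizedModule (nonZeroDivisors R) (TensorProduct.mk R K S 1) := inferInstance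
  have hker : ∀ s : S, φ s = 0 → ∃ c : R, c ≠ 0 ∧ c • s = 0 := by
    intro s hs
    obtain ⟨c, hc⟩ := IsLocalizedModule.exists_of_eq (S := nonZeroDivisors R)
      (f := TensorProduct.mk R K S 1) (x₁ := s) (x₂ := 0) (by rw [map_zero]; exact hs)
    exact ⟨c, nonZeroDivisors.ne_zero c.2, by simpa [Submonoid.smul_def] using hc⟩
  haveI : Nontrivial SK := by
    refine nontrivial_of_ne 1 0 fun h => ?_
    obtain ⟨c, hc, hc'⟩ := hker 1 (by rw [map_one]; exact h)
    exact hc (hinj (by rw [map_zero, Algebra.algebraMap_eq_smul_one, hc']))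
  obtain ⟨d, g, hg, hgint⟩ := exists_integral_inj_algHom_of_fg K SK
  have hclear : ∀ i, ∃ (c : R) (y : S), c ≠ 0 ∧ φ y = algebraMap R SK c * g (MvPolynomial.X i) := by
    intro i
    obtain ⟨⟨y, c⟩, hc⟩ := IsLocalizedModule.surj (nonZeroDivisors R) (TensorProduct.mk R K S 1)
      (g (MvPolynomial.X i))
    refine ⟨c, y, nonZeroDivisors.ne_zero c.2, ?_⟩
    rw [← Algebra.smul_def]
    exact hc.symm
  choose c y hc hy using hclear
  let gs : MvPolynomial (Fin d) K →ₐ[K] SK := MvPolynomial.aeval fun i => φ (y i)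
  have hcK : ∀ i, algebraMap R K (c i) ≠ 0 := fun i =>
    (map_ne_zero_iff _ (IsFractionRing.injective R K)).mpr (hc i)
  let σ : MvPolynomial (Fin d) K →ₐ[K] MvPolynomial (Fin d) K :=
    MvPolynomial.aeval fun i => MvPolynomial.C (algebraMap R K (c i)) * MvPolynomial.X i
  let σ' : MvPolynomial (Fin d) K →ₐ[K] MvPolynomial (Fin d) K :=
    MvPolynomial.aeval fun i => MvPolynomial.C (algebraMap R K (c i))⁻¹ * MvPolynomial.X i
  have hσ : σ'.comp σ = AlgHom.id K _ := MvPolynomial.algHom_ext fun i => by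
    simp only [σ, σ', AlgHom.comp_apply, MvPolynomial.aeval_X, map_mul, MvPolynomial.aeval_C,
      AlgHom.id_apply, MvPolynomial.algebraMap_eq]
    rw [← mul_assoc, ← map_mul, mul_inv_cancel₀ (hcK i), map_one, one_mul]
  have hσ' : σ.comp σ' = AlgHom.id K _ := MvPolynomial.algHom_ext fun i => by
    simp only [σ, σ', AlgHom.comp_apply, MvPolynomial.aeval_X, map_mul, MvPolynomial.aeval_C,
      AlgHom.id_apply, MvPolynomial.algebraMap_eq]
    rw [← mul_assoc, ← map_mul, inv_mul_cancel₀ (hcK i), map_one, one_mul]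
  have hgs : gs = g.comp σ := MvPolynomial.algHom_ext fun i => by
    simp only [gs, σ, AlgHom.comp_apply, MvPolynomial.aeval_X, map_mul, hy]
    rw [← MvPolynomial.algebraMap_eq, AlgHom.commutes, ← IsScalarTower.algebraMap_apply]
  have hgsinj : Function.Injective gs := by
    rw [hgs]
    exact hg.comp fun a b h => by simpa [← AlgHom.comp_apply, hσ] using congrArg σ' h
  have hgsint : gs.IsIntegral := by
    intro z
    have h1 := hgint z
    rw [show g = gs.comp σ' by rw [hgs, AlgHom.comp_assoc, hσ', AlgHom.comp_id]] at h1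
    exact RingHom.IsIntegralElem.of_comp h1
  letI : Algebra (MvPolynomial (Fin d) K) SK := gs.toRingHom.toAlgebra
  letI : Algebra (MvPolynomial (Fin d) R) SK :=
    (gs.toRingHom.comp (MvPolynomial.map (algebraMap R K))).toAlgebra
  letI : Algebra (MvPolynomial (Fin d) R) (MvPolynomial (Fin d) K) :=
    (MvPolynomial.map (algebraMap R K)).toAlgebra
  haveI : IsScalarTower (MvPolynomial (Fin d) R) (MvPolynomial (Fin d) K) SK :=
    IsScalarTower.of_algebraMap_eq fun _ => rfl
  haveI hlocP : IsLocalization ((nonZeroDivisors R).map (MvPolynomial.C (σ := Fin d) : R →+* _))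
      (MvPolynomial (Fin d) K) := MvPolynomial.isLocalization (nonZeroDivisors R) K
  let ψ : MvPolynomial (Fin d) R →+* S := (MvPolynomial.aeval (R := R) y).toRingHom
  have hψ : (φ : S →+* SK).comp ψ = algebraMap (MvPolynomial (Fin d) R) SK := by
    refine MvPolynomial.ringHom_ext (fun r => ?_) fun i => ?_
    · show φ (MvPolynomial.aeval y (MvPolynomial.C r)) = gs (MvPolynomial.map _ (MvPolynomial.C r))
      rw [MvPolynomial.aeval_C, AlgHom.commutes, MvPolynomial.map_C, ← MvPolynomial.algebraMap_eq,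
        AlgHom.commutes, ← IsScalarTower.algebraMap_apply]
    · show φ (MvPolynomial.aeval y (MvPolynomial.X i)) = gs (MvPolynomial.map _ (MvPolynomial.X i))
      simp [gs]
  have hgen : ∀ x : S, ∃ e : R, e ≠ 0 ∧ ψ.IsIntegralElem (e • x) := by
    intro x
    obtain ⟨⟨_, ⟨m, hm, rfl⟩⟩, P, hP, hP0⟩ := IsIntegral.exists_multiple_integral_of_isLocalization
      ((nonZeroDivisors R).map (MvPolynomial.C (σ := Fin d) : R →+* _))
      (Rₘ := MvPolynomial (Fin d) K) (φ x) (hgsint (φ x))
    have hsm : ((⟨MvPolynomial.C m, ⟨m, hm, rfl⟩⟩ :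
        ((nonZeroDivisors R).map (MvPolynomial.C (σ := Fin d) : R →+* _))) • φ x : SK) =
        φ (m • x) := by
      rw [Submonoid.smul_def, Algebra.smul_def, ← hψ, Algebra.smul_def (A := S) m x, map_mul]
      congr 1
      show φ (MvPolynomial.aeval y (MvPolynomial.C m)) = _
      rw [MvPolynomial.aeval_C]
    rw [hsm, ← hψ] at hP0
    rw [show φ (m • x) = (φ : S →+* SK) (m • x) from rfl, ← Polynomial.hom_eval₂] at hP0
    obtain ⟨e, he, he'⟩ := hker _ hP0
    refine ⟨e * m, mul_ne_zero he (nonZeroDivisors.ne_zero hm),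
      Polynomial.scaleRoots P (MvPolynomial.C e), (Polynomial.monic_scaleRoots_iff _).mpr hP, ?_⟩
    have hψC : ψ (MvPolynomial.C e) = algebraMap R S e := MvPolynomial.aeval_C _ _
    rw [show (e * m) • x = ψ (MvPolynomial.C e) * (m • x) by rw [hψC, mul_smul, Algebra.smul_def],
      Polynomial.scaleRoots_eval₂_mul, hψC]
    have hdeg : P.natDegree ≠ 0 := by
      intro h0
      rw [Polynomial.eq_one_of_monic_natDegree_zero hP h0, Polynomial.eval₂_one] at hP0
      exact one_ne_zero ((map_one φ).symm.trans hP0)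
    obtain ⟨k, hk⟩ := Nat.exists_eq_succ_of_ne_zero hdeg
    rw [hk, pow_succ, mul_assoc, ← Algebra.smul_def e, he', mul_zero]
  choose e he hint using hgen
  obtain ⟨t, ht⟩ := Algebra.FiniteType.out (R := R) (A := S)
  let S' := Algebra.adjoin R (Set.range y ∪ ((fun x => e x • x) '' (t : Set S)))
  refine ⟨d, y, S', ?_, fun i => Algebra.subset_adjoin (Or.inl ⟨i, rfl⟩),
    Subalgebra.fg_def.mpr ⟨_, (Set.finite_range y).union (t.finite_toSet.image _), rfl⟩, ?_,
    ∏ x ∈ t, e x, Finset.prod_ne_zero_iff.mpr fun x _ => he x, ?_⟩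
  · rw [algebraicIndependent_iff_injective_aeval]
    intro a b hab
    have h1 := congrArg (φ : S →+* SK) hab
    rw [show (φ : S →+* SK) (MvPolynomial.aeval y a) = ((φ : S →+* SK).comp ψ) a from rfl,
      show (φ : S →+* SK) (MvPolynomial.aeval y b) = ((φ : S →+* SK).comp ψ) b from rfl, hψ] at h1
    exact MvPolynomial.map_injective _ (IsFractionRing.injective R K) (hgsinj h1)
  · intro s hs
    have hψT : ∀ p, ψ p ∈ Algebra.adjoin R (Set.range y) := fun p => by
      rw [Algebra.adjoin_range_eq_range_aeval]; exact ⟨p, rfl⟩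
    induction hs using Algebra.adjoin_induction with
    | mem z hz =>
      rcases hz with ⟨i, rfl⟩ | ⟨x, -, rfl⟩
      · exact isIntegral_algebraMap (x := (⟨y i, Algebra.subset_adjoin ⟨i, rfl⟩⟩ :
          Algebra.adjoin R (Set.range y)))
      · obtain ⟨P, hP, hP0⟩ := hint x
        refine ⟨P.map (ψ.codRestrict (Algebra.adjoin R (Set.range y)) hψT), hP.map _, ?_⟩
        rw [Polynomial.eval₂_map]
        exact hP0
    | algebraMap r =>
      exact isIntegral_algebraMap (x := (algebraMap R (Algebra.adjoin R (Set.range y)) r))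
    | add a b _ _ ha hb => exact ha.add hb
    | mul a b _ _ ha hb => exact ha.mul hb
  · intro s
    have hs : s ∈ Algebra.adjoin R (t : Set S) := by rw [ht]; trivial
    induction hs using Algebra.adjoin_induction with
    | mem x hx =>
      refine ⟨1, ?_⟩
      rw [pow_one, ← Finset.prod_erase_mul _ _ hx, mul_smul]
      exact S'.smul_mem (Algebra.subset_adjoin (Or.inr ⟨x, hx, rfl⟩)) _
    | algebraMap r => exact ⟨0, by simp⟩
    | add a b _ _ ha hb =>
      obtain ⟨m, hm⟩ := ha
      obtain ⟨m', hm'⟩ := hb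
      refine ⟨m + m', ?_⟩
      rw [smul_add]
      refine S'.add_mem ?_ ?_
      · rw [pow_add, mul_comm, mul_smul]; exact S'.smul_mem hm _
      · rw [pow_add, mul_smul]; exact S'.smul_mem hm' _
    | mul a b _ _ ha hb =>
      obtain ⟨m, hm⟩ := ha
      obtain ⟨m', hm'⟩ := hb
      refine ⟨m + m', ?_⟩
      rw [pow_add, ← smul_mul_smul_comm]
      exact S'.mul_mem hm hm'

end Groth.Agent.S2073
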