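import Groth.Statements.S2076
import Groth.Agent.MorLib.EventuallyCI

set_option autoImplicit false
universe u
open CategoryTheory AlgebraicGeometry
open Lim

namespace Groth.Agent.S2076

/-- Let `X = lim X_i` be a cofiltered limit of quasi-compact schemes over `S` with affine transition
morphisms and `h : Y → X` a closed immersion with `Y → S` locally of finite type. Then `Y → X_i` is
a closed immersion for some `i`. -/
theorem result {I : Type u} [SmallCategory I] [IsCofiltered I] (S : Scheme.{u})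
    (D : I ⥤ Over S) (c : Limits.Cone D) (hc : Limits.IsLimit c)
    [∀ (i j : I) (f : i ⟶ j), IsAffineHom (D.map f).left] [∀ i, CompactSpace (D.obj i).left]
    {Y : Scheme.{u}} (h : Y ⟶ c.pt.left) [IsClosedImmersion h] [LocallyOfFiniteType (h ≫ c.pt.hom)] :
    ∃ i : I, IsClosedImmersion (h ≫ (c.π.app i).left) := by
  haveI : IsConnected I := IsCofiltered.isConnected I
  obtain ⟨i₀⟩ := IsCofiltered.nonempty (C := I)
  let D' := D ⋙ Over.forget S
  haveI : ∀ {i j : I} (f : i ⟶ j), IsAffineHom (D'.map f) := fun {i j} f =>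
    inferInstanceAs (IsAffineHom (D.map f).left)
  have hc' : Limits.IsLimit ((Over.forget S).mapCone c) := Limits.isLimitOfPreserves (Over.forget S) hc
  haveI : CompactSpace (D'.obj i₀) := inferInstanceAs (CompactSpace (D.obj i₀).left)
  have hw : ((Over.forget S).mapCone c).π.app i₀ ≫ (D.obj i₀).hom = c.pt.hom := Over.w (c.π.app i₀)
  haveI hlft : LocallyOfFiniteType (h ≫ ((Over.forget S).mapCone c).π.app i₀ ≫ (D.obj i₀).hom) := by
    have e : h ≫ c.pt.hom = h ≫ ((Over.forget S).mapCone c).π.app i₀ ≫ (D.obj i₀).hom :=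
      congrArg (h ≫ ·) hw.symm
    exact e ▸ ‹LocallyOfFiniteType (h ≫ c.pt.hom)›
  let h' : Y ⟶ ((Over.forget S).mapCone c).pt := h
  haveI : IsClosedImmersion h' := ‹IsClosedImmersion h›
  haveI : LocallyOfFiniteType (h' ≫ ((Over.forget S).mapCone c).π.app i₀ ≫ (D.obj i₀).hom) := hlft
  obtain ⟨j, hj⟩ := MorLib.EvCI.exists_isClosedImmersion hc' i₀ (D.obj i₀).hom h'
  exact ⟨j.left, hj j (𝟙 j)⟩

end Groth.Agent.S2076
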