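import Groth.Statements.S2077
import Groth.Agent.Approx.Immersion

set_option autoImplicit false
set_option backward.isDefEq.respectTransparency false
set_option backward.isDefEq.respectTransparency.types false
universe u
open CategoryTheory CategoryTheory.Limits AlgebraicGeometry
open Lim

namespace Groth.Agent.S2077

/-- Let `f : X → S` be locally of finite type with `X` quasi-compact and quasi-separated. Then there are
a morphism `f' : X' → S` of finite presentation (locally of finite presentation, quasi-compact,
quasi-separated) and an immersion `X → X'` over `S`. -/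
theorem result {X S : Scheme.{u}} (f : X ⟶ S) [LocallyOfFiniteType f]
    [CompactSpace X] [QuasiSeparatedSpace X] :
    ∃ (X' : Scheme.{u}) (f' : X' ⟶ S) (j : X ⟶ X'), LocallyOfFinitePresentation f' ∧ QuasiCompact f' ∧
      QuasiSeparated f' ∧ IsImmersion j ∧ j ≫ f' = f := by
  open Groth.Agent.Approx in
  obtain ⟨P, g, hg, hP, hft⟩ := hasModel X
  haveI := hg
  haveI := hP
  haveI : QuasiSeparatedSpace P := quasiSeparatedSpace_of_ftz hft
  obtain ⟨hc⟩ := nonempty_isLimit_sch g
  haveI : ∀ i, CompactSpace ((sysSch g).obj i) := fun i => compactSpace_spec g i.unop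
  haveI : ∀ i, QuasiSeparatedSpace ((sysSch g).obj i) := fun i => quasiSeparatedSpace_spec g i.unop
  haveI : ∀ {i j : (Idx g)ᵒᵖ} (a : i ⟶ j), IsAffineHom ((sysSch g).map a) := fun a => isAffineHom_trans g _
  haveI : CompactSpace (coneSch g).pt := ‹CompactSpace X›
  haveI : LocallyOfFiniteType (f : (coneSch g).pt ⟶ S) := ‹LocallyOfFiniteType f›
  obtain ⟨i, hi⟩ := exists_immersion_stage hc (f : (coneSch g).pt ⟶ S)
  haveI : IsLocallyNoetherian (Spec (CommRingCat.of (ULift.{u} ℤ))) := by
    haveI : IsNoetherianRing (CommRingCat.of (ULift.{u} ℤ)) := isNoetherianRing_ulift_int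
    infer_instance
  let t := specULiftZIsTerminal.from ((sysSch g).obj i)
  haveI : LocallyOfFiniteType t := ftz_system g hft i.unop
  haveI : LocallyOfFinitePresentation t := inferInstance
  haveI : QuasiCompact t := inferInstance
  haveI : QuasiSeparated t := inferInstance
  exact ⟨_, pullback.snd t (specULiftZIsTerminal.from S), pullback.lift ((coneSch g).π.app i) f (specULiftZIsTerminal.hom_ext _ _), MorphismProperty.pullback_snd _ _ inferInstance,
    MorphismProperty.pullback_snd _ _ inferInstance, MorphismProperty.pullback_snd _ _ inferInstance, hi,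
    pullback.lift_snd _ _ _⟩

end Groth.Agent.S2077
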