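import Groth.Statements.S2081
import Groth.Agent.MorLib.GenFinite

set_option autoImplicit false
universe u
open CategoryTheory AlgebraicGeometry
open Mor

namespace Groth.Agent.S2081

/-- Let `f : X → Y` be locally of finite type and quasi-compact. Suppose `X` and `Y` have finitely many
irreducible components and that a point of `X` is a generic point of an irreducible component
exactly when its image is one in `Y`. Then `f⁻¹(V) → V` is finite for some dense open `V ⊆ Y`. -/
theorem result {X Y : Scheme.{u}} (f : X ⟶ Y) [LocallyOfFiniteType f]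
    [QuasiCompact f] (hX : (irreducibleComponents (X : Type u)).Finite) (hY : (irreducibleComponents (Y : Type u)).Finite)
    (hgen : ∀ x : X, closure {x} ∈ irreducibleComponents (X : Type u) ↔
      closure {f.base x} ∈ irreducibleComponents (Y : Type u)) :
    ∃ V : Y.Opens, Dense (V : Set Y) ∧ IsFinite (f ∣_ V) := by
  classical
  open Groth.Agent.MorLib.Birat in
  have key : ∀ y : genericPoints Y, ∃ V : Y.Opens, y.1 ∈ V ∧ IsFinite (f ∣_ V) := by
    rintro ⟨η, hη⟩
    have hsub : ∀ z, f z = η → z ∈ genericPoints X := fun z hz => (hgen z).mpr (by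
      show f z ∈ genericPoints Y
      rw [hz]; exact hη)
    obtain ⟨V, -, hηV, -, hf⟩ := Groth.Agent.MorLib.GenFinite.exists_isFinite f hη
      ((genericPoints.finite hX).subset hsub)
      (fun x hx => by
        obtain ⟨W, hxW, hW⟩ := exists_separating hX (hsub x hx)
        exact ⟨W, hxW, fun z hz hzη => (eq_of_specializes_generic (hsub z hzη) (hW z hz)).symm⟩)
      (fun V₀ _ _ U₁ U₂ _ _ _ _ h => by
        obtain ⟨W, hηW, hW⟩ := exists_separating hY hη
        refine ⟨W, hηW, fun z hz hzW => ?_⟩
        obtain ⟨x, hx, hsp⟩ := exists_generic z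
        have hxW : f x ∈ W := (hsp.map f.continuous).mem_open W.2 hzW
        exact h x (hsp.mem_open (U₁ ⊓ U₂).2 hz)
          (eq_of_specializes_generic ((hgen x).mp hx) (hW _ hxW)).symm) ⊤ trivial
    exact ⟨V, hηV, hf⟩
  choose V hV hf using key
  refine ⟨⨆ y, V y, Groth.Agent.MorLib.Birat.dense_of_genericPoints fun y hy => ?_,
    Groth.Agent.MorLib.GenFinite.isFinite_iSup f V hf⟩
  exact TopologicalSpace.Opens.mem_iSup.mpr ⟨⟨y, hy⟩, hV _⟩

end Groth.Agent.S2081
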