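import Groth.Statements.S2083
import Mathlib
import Groth.Agent.LC.DepthExt
import Groth.Agent.S0322
import Groth.Agent.FlatLoc6.FiberRing

set_option autoImplicit false
universe u
open CAlg

namespace Groth.Agent.S2083

/-- Let `R` be a Noetherian local ring, `M` a finite Cohen–Macaulay `R`-module and `g` a member of the
maximal ideal for which the support of `M/gM` has dimension exactly one less than that of `M`. Then
`g` is a nonzerodivisor on `M`, and the quotient `M/gM` is again Cohen–Macaulay, with depth one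
smaller than that of `M`. -/
theorem result {R M : Type u} [CommRing R] [IsLocalRing R] [IsNoetherianRing R]
    [AddCommGroup M] [Module R M] [Module.Finite R M] (hM : LocCoh.IsCohenMacaulayModule R M) (g : R)
    (hg : g ∈ IsLocalRing.maximalIdeal R)
    (hdim : Module.supportDim R (M ⧸ Ideal.span {g} • (⊤ : Submodule R M)) + 1 = Module.supportDim R M) :
    IsSMulRegular M g ∧ LocCoh.IsCohenMacaulayModule R (M ⧸ Ideal.span {g} • (⊤ : Submodule R M)) ∧
      LocCoh.depth R (M ⧸ Ideal.span {g} • (⊤ : Submodule R M)) + 1 = LocCoh.depth R M := by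
  haveI : Nontrivial M := LC.nontrivial_of_isCM M hM
  let I : Ideal R := Ideal.span {g}
  have hI : I ≤ IsLocalRing.maximalIdeal R := (Ideal.span_singleton_le_iff_mem _).2 hg
  have hIne : I ≠ ⊤ := fun h => (IsLocalRing.maximalIdeal.isMaximal R).ne_top (top_le_iff.1 (h ▸ hI))
  have hne : I • (⊤ : Submodule R M) ≠ ⊤ := LC.smul_top_ne_top_of_le_maximal hI
  haveI : Nontrivial (M ⧸ I • (⊤ : Submodule R M)) := Submodule.Quotient.nontrivial_iff.mpr hne
  have h1 := S0322.result R I hIne M hM
  obtain ⟨d, hd⟩ := LC.exists_supportDim_eq_nat (R := R) (M ⧸ I • (⊤ : Submodule R M))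
  rw [hd] at h1
  have hge : (1 : ℕ∞) ≤ LocCoh.idealDepth I M := by
    rcases eq_or_ne (LocCoh.idealDepth I M) ⊤ with h | h
    · rw [h]; exact le_top
    · obtain ⟨j, hj⟩ := ENat.ne_top_iff_exists.1 h
      rw [← hdim, hd, ← hj] at h1
      rw [← hj]
      norm_cast at h1 ⊢
      omega
  have hreg : IsSMulRegular M g := by
    obtain ⟨rs, hrs, hmem, hlen⟩ := Alg6.exists_length_ge_of_le_idealDepth hne (n := 1) (by exact_mod_cast hge)
    match rs, hlen with
    | x :: rs, _ =>
      have hx := ((RingTheory.Sequence.isWeaklyRegular_cons_iff M x rs).mp hrs).1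
      obtain ⟨c, rfl⟩ := Ideal.mem_span_singleton'.1 (hmem x (by simp))
      exact fun a b hab => hx (by show (c * g) • a = (c * g) • b; rw [mul_smul, mul_smul]; exact congrArg (c • ·) hab)
  let e : QuotSMulTop g M ≃ₗ[R] M ⧸ I • (⊤ : Submodule R M) :=
    Submodule.quotEquivOfEq _ _ (Submodule.ideal_span_singleton_smul g ⊤).symm
  have h2 : LocCoh.depth R (M ⧸ I • (⊤ : Submodule R M)) + 1 = LocCoh.depth R M := by
    rw [← FlatLoc6.depth_congr' e]
    exact LC.idealDepth_quotSMulTop_add_one (IsLocalRing.maximalIdeal R) hg hreg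
  refine ⟨hreg, ?_, h2⟩
  unfold LocCoh.IsCohenMacaulayModule at hM ⊢
  obtain ⟨a, ha⟩ := LC.exists_depth_eq_nat (R := R) (M ⧸ I • (⊤ : Submodule R M))
  rw [← hdim, ← h2, hd, ha] at hM
  rw [hd, ha]
  norm_cast at hM ⊢
  omega

end Groth.Agent.S2083
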