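import Groth.Statements.S2084
import Mathlib
import Groth.Agent.CAlgOdd.CMCatenary

set_option autoImplicit false
universe u
open CAlg

namespace Groth.Agent.S2084

/-- Let `R` be a Noetherian local ring admitting a finite Cohen–Macaulay module whose support is all of
`Spec R`. Then every maximal chain of prime ideals (starting at a minimal prime, ending at the
maximal ideal, with no prime strictly between consecutive members) has length equal to the dimension
of `R`. -/
theorem result {R M : Type u} [CommRing R] [IsLocalRing R] [IsNoetherianRing R]
    [AddCommGroup M] [Module R M] [Module.Finite R M] (hM : LocCoh.IsCohenMacaulayModule R M)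
    (hsupp : Module.support R M = Set.univ) (s : LTSeries (PrimeSpectrum R))
    (hhead : s.head.asIdeal ∈ minimalPrimes R) (hlast : s.last.asIdeal = IsLocalRing.maximalIdeal R)
    (hsat : ∀ i : Fin s.length, s (Fin.castSucc i) ⋖ s (Fin.succ i)) :
    (s.length : WithBot ℕ∞) = ringKrullDim R := by
  have hcov : ∀ p q : PrimeSpectrum R, p ⋖ q → q.asIdeal.height = p.asIdeal.height + 1 := fun p q h =>
    Groth.Agent.CAlgOdd.CMCatenary.height_covBy M
      (Groth.Agent.LC.isCM_localized M hM (p := q) (hsupp.ge (Set.mem_univ q))) hsupp h
  have h := Groth.Agent.CAlgOdd.CMCatenary.length_eq hcov s hsat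
  rw [hlast, Ideal.height_eq_zero_iff.2 hhead, zero_add] at h
  rw [← IsLocalRing.maximalIdeal_height_eq_ringKrullDim, h]
  rfl

end Groth.Agent.S2084
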