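import Groth.Statements.S2085
import Mathlib
import Groth.Agent.LC.DualCM
import Groth.Agent.Alg6.AssDepth

set_option autoImplicit false
universe u
open CAlg

namespace Groth.Agent.S2085

/-- Let `M` be a finite module over a Noetherian ring `R`. Then every associated prime of `M` is minimal
in the support of `M` (no embedded primes) if and only if `M` satisfies Serre's condition `(S_1)`. -/
theorem result {R M : Type u} [CommRing R] [IsNoetherianRing R] [AddCommGroup M] [Module R M]
    [Module.Finite R M] :
    (∀ p ∈ associatedPrimes R M, p ∈ (Module.annihilator R M).minimalPrimes) ↔ LocCoh.HasSk 1 R M := by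
  constructor
  · intro h p hp
    rcases subsingleton_or_nontrivial (LocalizedModule p.primeCompl M) with hs | hs
    · rw [(Module.supportDim_eq_bot_iff_subsingleton _ _).mpr hs]
      exact le_trans (min_le_right _ _) bot_le
    by_cases hmin : p ∈ (Module.annihilator R M).minimalPrimes
    · rw [Groth.Agent.LC.supportDim_localized_minimalPrimes M hmin]
      exact le_trans (min_le_right _ _) (WithBot.coe_le_coe.mpr zero_le)
    · have h1 := (Groth.Agent.Alg6.one_le_depth_atPrime_iff (M := M) (p := p)).mpr
        (fun hass => hmin (h p hass))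
      exact le_trans (min_le_left _ _) (WithBot.coe_le_coe.mpr h1)
  · intro h p hass
    have hpp : p.IsPrime := IsAssociatedPrime.isPrime hass
    have hann : Module.annihilator R M ≤ p := by
      intro r hr
      obtain ⟨-, x, hx⟩ := hass
      rw [Module.mem_annihilator] at hr
      rw [hx]
      exact Ideal.le_radical (by simp [Submodule.mem_colon_singleton, hr])
    by_contra hmin
    obtain ⟨q, hq, hqp⟩ := Ideal.exists_minimalPrimes_le hann
    have hne : q ≠ p := fun e => hmin (e ▸ hq)
    have hqsupp : (⟨q, hq.1.1⟩ : PrimeSpectrum R) ∈ Module.support R M := by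
      rw [Module.support_eq_zeroLocus]; exact hq.1.2
    have hlt : (⟨q, hq.1.1⟩ : PrimeSpectrum R) < ⟨p, hpp⟩ := lt_of_le_of_ne hqp (fun e => hne (congrArg PrimeSpectrum.asIdeal e))
    have h1 := Groth.Agent.LC.height_map_mk_le_supportDim_localized M ⟨q, hq.1.1⟩ ⟨p, hpp⟩ hqp hqsupp
    rw [← Groth.Agent.LC.height_Ici_eq _ _ hlt.le] at h1
    have h2 : (1 : ℕ∞) ≤ Order.height (⟨⟨p, hpp⟩, hlt.le⟩ : Set.Ici (⟨q, hq.1.1⟩ : PrimeSpectrum R)) := by
      refine Order.one_le_iff_pos.mpr (Order.height_pos.mpr fun hmin' => ?_)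
      exact hlt.not_ge (hmin' (b := ⟨⟨q, hq.1.1⟩, Set.self_mem_Ici⟩) hlt.le)
    have h3 := h p
    have h4 : ((1 : ℕ) : WithBot ℕ∞) ≤ Module.supportDim (Localization.AtPrime p)
        (LocalizedModule p.primeCompl M) := le_trans (WithBot.coe_le_coe.mpr h2) h1
    rw [min_eq_left h4] at h3
    exact (Groth.Agent.Alg6.one_le_depth_atPrime_iff (M := M) (p := p)).mp
      (WithBot.coe_le_coe.mp h3) hass

end Groth.Agent.S2085
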