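import Groth.Statements.S2088
import Mathlib.RingTheory.AlgebraicIndependent.TranscendenceBasis
import Mathlib.RingTheory.MvPolynomial.Ideal
import Mathlib.RingTheory.Flat.Localization
import Mathlib.RingTheory.Localization.AtPrime.Basic
import Groth.Agent.LocalCrit.Completion
import Groth.Agent.LocalCrit.Residue

set_option autoImplicit false
universe u
open CAlg

namespace Groth.Agent.S2088

/-- Let `(R, 𝔪, k)` be a local ring and `K/k` a field extension. Then there is a flat local homomorphism
of local rings `R → R'` with `𝔪R' = 𝔪_{R'}` whose residue field is isomorphic to `K` over `k`. -/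
theorem result {R K : Type u} [CommRing R] [IsLocalRing R] [Field K]
    [Algebra (IsLocalRing.ResidueField R) K] :
    ∃ (R' : Type u) (_ : CommRing R') (_ : IsLocalRing R') (_ : Algebra R R') (_ : IsLocalHom (algebraMap R R')),
      Module.Flat R R' ∧ (IsLocalRing.maximalIdeal R).map (algebraMap R R') = IsLocalRing.maximalIdeal R' ∧
      Nonempty (IsLocalRing.ResidueField R' ≃ₐ[IsLocalRing.ResidueField R] K) := by
  classical
  let k := IsLocalRing.ResidueField R
  obtain ⟨s, hs⟩ := exists_isTranscendenceBasis k K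
  letI : Algebra R K := ((algebraMap k K).comp (IsLocalRing.residue R)).toAlgebra
  haveI : IsScalarTower R k K := IsScalarTower.of_algebraMap_eq fun _ => rfl
  -- transcendental step
  let Q := MvPolynomial s R
  let θ : Q →ₐ[R] K := MvPolynomial.aeval ((↑) : s → K)
  have hθ : RingHom.ker θ = (IsLocalRing.maximalIdeal R).map MvPolynomial.C := by
    ext x
    rw [RingHom.mem_ker, MvPolynomial.mem_map_C_iff]
    have h1 : θ x = MvPolynomial.aeval ((↑) : s → K) (MvPolynomial.map (IsLocalRing.residue R) x) := by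
      rw [show IsLocalRing.residue R = algebraMap R k from rfl, MvPolynomial.aeval_map_algebraMap]
    rw [h1, map_eq_zero_iff _ hs.1]
    simp only [MvPolynomial.ext_iff, MvPolynomial.coeff_map, MvPolynomial.coeff_zero, IsLocalRing.residue_eq_zero_iff]
  haveI hp : (RingHom.ker θ).IsPrime := RingHom.ker_isPrime _
  let B₀ := Localization.AtPrime (RingHom.ker θ)
  have hunit : ∀ y : (RingHom.ker θ).primeCompl, IsUnit (θ y) := fun y =>
    isUnit_iff_ne_zero.mpr y.2
  let θ₀ : B₀ →ₐ[R] K := IsLocalization.liftAlgHom (S := B₀) hunit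
  have hθ₀ : ∀ q : Q, θ₀ (algebraMap Q B₀ q) = θ q := fun q => IsLocalization.lift_eq hunit q
  letI : Algebra B₀ K := θ₀.toRingHom.toAlgebra
  haveI : IsScalarTower R B₀ K := IsScalarTower.of_algebraMap_eq fun a => (θ₀.commutes a).symm
  have hmax₀ : IsLocalRing.maximalIdeal B₀ = (IsLocalRing.maximalIdeal R).map (algebraMap R B₀) := by
    rw [← Localization.AtPrime.map_eq_maximalIdeal]
    refine (congrArg (Ideal.map (algebraMap Q B₀)) hθ).trans ?_
    rw [Ideal.map_map, IsScalarTower.algebraMap_eq R Q B₀]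
    rfl
  haveI hloc : IsLocalHom (algebraMap B₀ K) := by
    refine ⟨fun x hx => ?_⟩
    obtain ⟨⟨q, r⟩, rfl⟩ := IsLocalization.mk'_surjective (RingHom.ker θ).primeCompl x
    rw [IsLocalization.AtPrime.isUnit_mk'_iff B₀ (RingHom.ker θ)]
    intro hq
    have hq0 : θ₀ (algebraMap Q B₀ q) = 0 := by rw [hθ₀]; exact RingHom.mem_ker.mp hq
    rw [← IsLocalization.mk'_spec B₀ q r, map_mul] at hq0
    have h2 : θ₀ (IsLocalization.mk' B₀ q r) ≠ 0 := hx.ne_zero
    exact (mul_ne_zero h2 (by rw [hθ₀]; exact r.2)) hq0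
  let k₀ := IsLocalRing.ResidueField B₀
  letI : Algebra k₀ K := (IsLocalRing.ResidueField.lift (algebraMap B₀ K)).toAlgebra
  haveI : IsScalarTower B₀ k₀ K := IsScalarTower.of_algebraMap_eq fun b =>
    (IsLocalRing.ResidueField.lift_residue_apply (algebraMap B₀ K) b).symm
  -- `K` is algebraic over the residue field of `B₀`
  haveI : Algebra.IsAlgebraic k₀ K := by
    let L : Subalgebra k₀ K := ⊥
    have hle : ∀ x ∈ Algebra.adjoin k (Set.range ((↑) : s → K)), ∃ y : k₀, algebraMap k₀ K y = x := by
      intro x hx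
      rw [Algebra.adjoin_range_eq_range_aeval] at hx
      obtain ⟨f, rfl⟩ := hx
      obtain ⟨q, rfl⟩ := MvPolynomial.map_surjective (algebraMap R k) IsLocalRing.residue_surjective f
      refine ⟨IsLocalRing.residue B₀ (algebraMap Q B₀ q), ?_⟩
      change IsLocalRing.ResidueField.lift (algebraMap B₀ K) _ = _
      rw [IsLocalRing.ResidueField.lift_residue_apply]
      exact (hθ₀ q).trans (MvPolynomial.aeval_map_algebraMap k ((↑) : s → K) q).symm
    choose g hg using fun x : Algebra.adjoin k (Set.range ((↑) : s → K)) => hle x x.2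
    let g' : Algebra.adjoin k (Set.range ((↑) : s → K)) →+* k₀ :=
      { toFun := g
        map_one' := (algebraMap k₀ K).injective (by simp [hg])
        map_mul' := fun x y => (algebraMap k₀ K).injective (by simp [hg])
        map_zero' := (algebraMap k₀ K).injective (by simp [hg])
        map_add' := fun x y => (algebraMap k₀ K).injective (by simp [hg]) }
    have halg := hs.isAlgebraic
    letI := g'.toAlgebra
    haveI : IsScalarTower (Algebra.adjoin k (Set.range ((↑) : s → K))) k₀ K :=
      IsScalarTower.of_algebraMap_eq fun x => (hg x).symm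
    have hinj : Function.Injective (algebraMap (Algebra.adjoin k (Set.range ((↑) : s → K))) k₀) :=
      fun x y h => Subtype.ext (by rw [← hg x, ← hg y]; exact congrArg _ h)
    exact ⟨fun z => (halg.isAlgebraic z).extendScalars hinj⟩
  obtain ⟨J, hflat, hker⟩ := LocalCrit.exists_flat_quotient_ker_eq (B₀ := B₀) (K := K) (k := k₀)
    IsLocalRing.residue_surjective
  let φ : MvPolynomial K B₀ →ₐ[B₀] K := MvPolynomial.aeval id
  have hφs : Function.Surjective φ := fun x => ⟨MvPolynomial.X x, MvPolynomial.aeval_X _ _⟩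
  have hJ : ∀ x ∈ J, φ x = 0 := fun x hx => by
    have : x ∈ RingHom.ker φ := by rw [hker]; exact Submodule.mem_sup_left hx
    exact this
  let C₁ := MvPolynomial K B₀ ⧸ J
  let φ₁ : C₁ →ₐ[B₀] K := Ideal.Quotient.liftₐ J φ hJ
  have hker₁ : RingHom.ker φ₁ = (IsLocalRing.maximalIdeal R).map (algebraMap R C₁) := by
    have h1 : RingHom.ker φ₁ = (RingHom.ker φ).map (Ideal.Quotient.mk J) :=
      Ideal.ker_quotient_lift _ hJ
    have h2 : RingHom.ker (algebraMap B₀ K) = IsLocalRing.maximalIdeal B₀ :=
      le_antisymm (IsLocalRing.le_maximalIdeal (RingHom.ker_ne_top _)) fun x hx => by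
        by_contra h
        exact hx (IsLocalHom.map_nonunit x (isUnit_iff_ne_zero.mpr h))
    rw [h1, hker, Ideal.map_sup, Ideal.map_quotient_self, bot_sup_eq, h2, hmax₀, Ideal.map_map,
      Ideal.map_map, IsScalarTower.algebraMap_eq R B₀ C₁]
    rfl
  haveI hp₁ : (RingHom.ker φ₁).IsPrime := RingHom.ker_isPrime _
  let C := Localization.AtPrime (RingHom.ker φ₁)
  haveI : Module.Flat R B₀ := Module.Flat.trans R Q B₀
  haveI : Module.Flat R C₁ := Module.Flat.trans R B₀ C₁
  haveI : Module.Flat R C := Module.Flat.trans R C₁ C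
  have hmax : IsLocalRing.maximalIdeal C = (IsLocalRing.maximalIdeal R).map (algebraMap R C) := by
    rw [← Localization.AtPrime.map_eq_maximalIdeal]
    refine (congrArg (Ideal.map (algebraMap C₁ C)) hker₁).trans ?_
    rw [Ideal.map_map, ← IsScalarTower.algebraMap_eq]
  -- the residue field of `C`
  have hφ₁s : Function.Surjective φ₁ := fun x => by
    obtain ⟨y, rfl⟩ := hφs x
    exact ⟨Ideal.Quotient.mk J y, rfl⟩
  have hunit₁ : ∀ y : (RingHom.ker φ₁).primeCompl, IsUnit (φ₁ y) := fun y =>
    isUnit_iff_ne_zero.mpr y.2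
  let ψ : C →+* K := IsLocalization.lift (g := φ₁.toRingHom) hunit₁
  have hψs : Function.Surjective ψ := fun x => by
    obtain ⟨y, rfl⟩ := hφ₁s x
    exact ⟨algebraMap C₁ C y, IsLocalization.lift_eq hunit₁ y⟩
  haveI hlh : IsLocalHom (algebraMap R C) :=
    ((IsLocalRing.local_hom_TFAE (algebraMap R C)).out 0 2).mpr hmax.ge
  have hψk : RingHom.ker ψ = IsLocalRing.maximalIdeal C :=
    IsLocalRing.eq_maximalIdeal (RingHom.ker_isMaximal_of_surjective ψ hψs)
  let e : IsLocalRing.ResidueField C ≃+* K :=
    (Ideal.quotEquivOfEq hψk.symm).trans (RingHom.quotientKerEquivOfSurjective hψs)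
  refine ⟨C, inferInstance, inferInstance, inferInstance, hlh, inferInstance, hmax.symm,
    ⟨AlgEquiv.ofRingEquiv (f := e) fun x => ?_⟩⟩
  obtain ⟨a, rfl⟩ := IsLocalRing.residue_surjective x
  change ψ (algebraMap R C a) = algebraMap k K (IsLocalRing.residue R a)
  rw [IsScalarTower.algebraMap_apply R C₁ C, IsLocalization.lift_eq hunit₁]
  change φ₁ (algebraMap R C₁ a) = _
  rw [IsScalarTower.algebraMap_apply R B₀ C₁, AlgHom.commutes,
    ← IsScalarTower.algebraMap_apply R B₀ K]
  rfl

end Groth.Agent.S2088
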