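import Groth.Statements.S2090
import Mathlib
import Groth.Agent.Alg6.AssDepth

set_option autoImplicit false
universe u
open CAlg

namespace Groth.Agent.S2090

/-- Let `R` be Noetherian and `φ : M → N` a map of `R`-modules with `M` finite. Suppose that for every
prime `𝔭` either `φ_𝔭` is bijective, or `M_𝔭` has depth at least two and `𝔭` is not an associated
prime of `N`. Then `φ` is bijective. -/
theorem result {R M N : Type u} [CommRing R] [IsNoetherianRing R] [AddCommGroup M]
    [Module R M] [Module.Finite R M] [AddCommGroup N] [Module R N] (φ : M →ₗ[R] N)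
    (h : ∀ (p : Ideal R) [p.IsPrime],
      Function.Bijective (LocalizedModule.map p.primeCompl φ) ∨
        (2 ≤ LocCoh.depth (Localization.AtPrime p) (LocalizedModule p.primeCompl M) ∧
          p ∉ associatedPrimes R N)) :
    Function.Bijective φ := by
  have hinj : Function.Injective φ := by
    rw [← LinearMap.ker_eq_bot]
    by_contra hne
    obtain ⟨⟨z, hzK⟩, hz⟩ := Submodule.nonzero_mem_of_bot_lt (bot_lt_iff_ne_bot.2 hne)
    obtain ⟨p, hp, hle⟩ := Alg6.exists_ass_ge (R := R) hz
    haveI := hp.isPrime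
    have hpM : p ∈ associatedPrimes R M :=
      associatedPrimes.subset_of_injective (f := (LinearMap.ker φ).subtype) Subtype.val_injective hp
    rcases h p with hb | ⟨hd, -⟩
    · have h0 : LocalizedModule.map p.primeCompl φ (LocalizedModule.mk z 1) = LocalizedModule.map p.primeCompl φ 0 := by
        rw [LocalizedModule.map_mk, map_zero, LinearMap.mem_ker.1 hzK, LocalizedModule.zero_mk]
      have h1 := hb.1 h0
      rw [← LocalizedModule.zero_mk (1 : p.primeCompl), LocalizedModule.mk_eq] at h1
      obtain ⟨t, ht⟩ := h1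
      refine t.2 (hle _ (Subtype.ext ?_))
      simpa [Submonoid.smul_def] using ht
    · exact (Alg6.one_le_depth_atPrime_iff p).1 (le_trans (by decide) hd) hpM
  refine ⟨hinj, fun y => ?_⟩
  by_contra hy
  have hy' : (Submodule.Quotient.mk y : N ⧸ LinearMap.range φ) ≠ 0 := by
    rw [Ne, Submodule.Quotient.mk_eq_zero]
    exact hy
  obtain ⟨p, hp, -⟩ := Alg6.exists_ass_ge (R := R) hy'
  obtain ⟨hpp, c, hc⟩ := Alg6.mem_ass_iff.1 hp
  obtain ⟨c, rfl⟩ := Submodule.Quotient.mk_surjective _ c
  simp only [← Submodule.Quotient.mk_smul, Submodule.Quotient.mk_eq_zero] at hc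
  let φp := LocalizedModule.map p.primeCompl φ
  have hnot : (LocalizedModule.mk c 1 : LocalizedModule p.primeCompl N) ∉ LinearMap.range φp := by
    rintro ⟨w, hw⟩
    induction w using LocalizedModule.induction_on with
    | h m s =>
      rw [LocalizedModule.map_mk, LocalizedModule.mk_eq] at hw
      obtain ⟨t, ht⟩ := hw
      simp only [Submonoid.smul_def, OneMemClass.coe_one, one_smul, ← map_smul] at ht
      refine (t * s).2 ((hc _).2 ⟨(t : R) • m, ?_⟩)
      rw [ht, Submonoid.coe_mul, mul_smul]
  obtain ⟨hd, hN⟩ := (h p).resolve_left fun hb => hnot (hb.2 _)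
  have hinjp : Function.Injective φp := LocalizedModule.map_injective p.primeCompl φ hinj
  have hkill : ∀ a ∈ IsLocalRing.maximalIdeal (Localization.AtPrime p),
      a • (LocalizedModule.mk c 1 : LocalizedModule p.primeCompl N) ∈ LinearMap.range φp := by
    intro a ha
    obtain ⟨⟨b, s⟩, hbs⟩ := IsLocalization.surj p.primeCompl a
    have hb : b ∈ p := (Alg6.mem_maximalIdeal_iff p).1 (hbs ▸ Ideal.mul_mem_right _ _ ha)
    obtain ⟨m, hm⟩ := (hc b).1 hb
    have he : a = Localization.mk b s := by
      rw [Localization.mk_eq_mk', eq_comm, IsLocalization.mk'_eq_iff_eq_mul]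
      exact hbs.symm
    refine ⟨LocalizedModule.mk m s, ?_⟩
    rw [he, LocalizedModule.mk_smul_mk, mul_one, LocalizedModule.map_mk, hm]
  obtain ⟨h0, hx⟩ := Alg6.two_le_depth_iff'.1 hd
  obtain ⟨x, hxm, hxreg⟩ := (Alg6.exists_isSMulRegular_mem_iff (M := LocalizedModule p.primeCompl M)
      (IsLocalRing.maximalIdeal (Localization.AtPrime p))).mpr (fun q hq hle => h0 (by
        rwa [(IsLocalRing.maximalIdeal.isMaximal _).eq_of_le (IsAssociatedPrime.isPrime hq).ne_top hle]))
  obtain ⟨m, hm⟩ := hkill x hxm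
  have hmk : (Submodule.Quotient.mk m : QuotSMulTop x (LocalizedModule p.primeCompl M)) = 0 := by
    by_contra hne
    obtain ⟨q, hq, hle⟩ := Alg6.exists_ass_ge (R := Localization.AtPrime p) hne
    refine hx x hxm hxreg ?_
    have hmq : IsLocalRing.maximalIdeal (Localization.AtPrime p) ≤ q := fun r hr => hle r (by
      obtain ⟨mr, hmr⟩ := hkill r hr
      rw [← Submodule.Quotient.mk_smul, Alg6.mem_pointwise_smul_top_iff]
      exact ⟨mr, hinjp (by rw [map_smul, map_smul, hm, hmr, smul_comm])⟩)
    rwa [(IsLocalRing.maximalIdeal.isMaximal _).eq_of_le (IsAssociatedPrime.isPrime hq).ne_top hmq]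
  obtain ⟨m', rfl⟩ := Alg6.mem_pointwise_smul_top_iff.1 hmk
  let c' : LocalizedModule p.primeCompl N := LocalizedModule.mk c 1 - φp m'
  have hc' : c' ≠ 0 := fun he => hnot ⟨m', (sub_eq_zero.1 he).symm⟩
  have hxc : x • c' = 0 := by rw [smul_sub, ← map_smul, hm, sub_self]
  have hkc : ∀ r ∈ IsLocalRing.maximalIdeal (Localization.AtPrime p), r • c' = 0 := by
    intro r hr
    obtain ⟨mr, hmr⟩ := hkill r hr
    have h1 : r • c' = φp (mr - r • m') := by rw [smul_sub, map_sub, map_smul, hmr]
    have h2 : x • (mr - r • m') = 0 :=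
      hinjp (by rw [map_smul, map_zero, ← h1, smul_comm, hxc, smul_zero])
    rw [h1, hxreg.right_eq_zero_of_smul h2, map_zero]
  refine hN ((Alg6.ass_localized_iff p).1 ?_)
  obtain ⟨q, hq, hle⟩ := Alg6.exists_ass_ge (R := Localization.AtPrime p) hc'
  rwa [(IsLocalRing.maximalIdeal.isMaximal _).eq_of_le (IsAssociatedPrime.isPrime hq).ne_top (fun r hr => hle r (hkc r hr))]

end Groth.Agent.S2090
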