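import Groth.Statements.S2093
import Mathlib
import Groth.Agent.CAlgOdd.NagataFT.Local
import Groth.Agent.FormalFib6.Quot

set_option autoImplicit false
universe u
open CAlg

namespace Groth.Agent.S2093

/-- Let `(R, 𝔪)` be a Noetherian local domain and `x ∈ 𝔪` nonzero such that `R/xR` has no embedded
associated primes, and for every associated prime `𝔭` of `R/xR` the local ring `R_𝔭` is regular and
the completion of `R/𝔭` is reduced. Then the completion of `R` is reduced. -/
theorem result {R : Type u} [CommRing R] [IsDomain R] [IsLocalRing R]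
    [IsNoetherianRing R] (x : R) (hx : x ≠ 0) (hxm : x ∈ IsLocalRing.maximalIdeal R)
    (hemb : ∀ p ∈ associatedPrimes R (R ⧸ Ideal.span {x}), p ∈ (Ideal.span {x}).minimalPrimes)
    (hreg : ∀ p ∈ associatedPrimes R (R ⧸ Ideal.span {x}), ∀ (_ : p.IsPrime),
      IsRegularLocalRing (Localization.AtPrime p) ∧
        IsReduced (AdicCompletion ((IsLocalRing.maximalIdeal R).map (Ideal.Quotient.mk p)) (R ⧸ p))) :
    IsReduced (AdicCompletion (IsLocalRing.maximalIdeal R) R) := by
  haveI := Groth.Agent.FlatLoc6.isLocalRing_cpl R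
  haveI := Groth.Agent.FlatLoc6.isNoetherianRing_cpl R
  haveI := Groth.Agent.FlatLoc6.faithfullyFlat_cpl R
  refine Groth.Agent.CAlgOdd.NagataFT.isReduced_of_forall_maximal (R := R) (C := EGA4.Cpl R) fun N hN => ?_
  rw [IsLocalRing.eq_maximalIdeal hN]
  refine ⟨x, hx, ?_, fun P hP => ?_⟩
  · rw [← Groth.Agent.CAlgOdd.NagataFT.cpl_map_max]
    exact Ideal.mem_map_of_mem _ hxm
  haveI := (AssociatedPrimes.mem_iff.1 hP).isPrime
  obtain ⟨hregP, hredP⟩ := hreg P hP inferInstance
  have hmin := hemb P hP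
  have hP0 : P ≠ ⊥ := fun h => hx (by
    have h1 : x ∈ P := hmin.1.2 (Ideal.mem_span_singleton_self x)
    rwa [h, Ideal.mem_bot] at h1)
  haveI := hregP
  haveI : IsDomain (Localization.AtPrime P) := IsLocalization.isDomain_localization P.primeCompl_le_nonZeroDivisors
  haveI : IsIntegrallyClosed (Localization.AtPrime P) :=
    Groth.Agent.RegLoc6.isIntegrallyClosed_of_isRegularLocalRing _
  have hh : P.height ≤ 1 := Ideal.height_le_one_of_isPrincipal_of_mem_minimalPrimes _ P hmin
  haveI : IsDiscreteValuationRing (Localization.AtPrime P) := by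
    refine Groth.Agent.CDiv6.isDVR_of_dim_eq_one _ ?_
    rw [IsLocalization.AtPrime.ringKrullDim_eq_height P,
      le_antisymm hh (Order.one_le_iff_ne_zero.2 fun h => hP0 (Ideal.height_eq_zero_iff_eq_bot.mp h))]
    rfl
  refine ⟨Groth.Agent.CAlgOdd.NagataFT.hasParam_of_isDVR P hx, ?_⟩
  haveI : IsLocalRing (R ⧸ P) := IsLocalRing.of_surjective' (Ideal.Quotient.mk P) Ideal.Quotient.mk_surjective
  obtain ⟨e⟩ := Groth.Agent.FormalFib6.exists_cplQuotEquiv R (R ⧸ P) Ideal.Quotient.mk_surjective
  haveI : IsReduced (EGA4.Cpl (R ⧸ P)) := by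
    have hm := (IsLocalRing.map_maximalIdeal_of_surjective (Ideal.Quotient.mk P) Ideal.Quotient.mk_surjective)
    rw [hm] at hredP
    exact hredP
  haveI : IsReduced (TensorProduct R (R ⧸ P) (EGA4.Cpl R)) := isReduced_of_injective e e.injective
  let f : TensorProduct R (EGA4.Cpl R) (R ⧸ P) ≃ₐ[R] TensorProduct R (R ⧸ P) (EGA4.Cpl R) :=
    Algebra.TensorProduct.comm R _ _
  haveI : IsReduced (TensorProduct R (EGA4.Cpl R) (R ⧸ P)) := isReduced_of_injective f f.injective
  let g := Algebra.TensorProduct.quotIdealMapEquivTensorQuot (EGA4.Cpl R) P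
  exact isReduced_of_injective g g.injective

end Groth.Agent.S2093
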