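import Groth.Statements.S2094
import Mathlib

set_option autoImplicit false
universe u
open CAlg

namespace Groth.Agent.S2094

/-- The symmetric algebra of an `A`-module is a smooth `A`-algebra exactly when the module is finite
projective. -/
theorem result {A M : Type u} [CommRing A] [AddCommGroup M] [Module A M] :
    Algebra.Smooth A (SymmetricAlgebra A M) ↔ Module.Finite A M ∧ Module.Projective A M := by
  classical
  constructor
  · intro hS
    letI : Module Aᵐᵒᵖ M := Module.compHom M ((RingHom.id A).fromOpposite mul_comm)
    haveI : IsCentralScalar A M := ⟨fun _ _ => rfl⟩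
    let g : SymmetricAlgebra A M →ₐ[A] TrivSqZeroExt A M :=
      SymmetricAlgebra.lift (TrivSqZeroExt.inrHom A M)
    have hg : ∀ m, (g (SymmetricAlgebra.ι A M m)).snd = m := fun m => by simp [g]
    have hfin : Module.Finite A M := by
      obtain ⟨t, ht⟩ := (inferInstance : Algebra.FiniteType A (SymmetricAlgebra A M)).out
      refine ⟨⟨t.image fun x => (g x).snd, eq_top_iff.mpr fun m _ => ?_⟩⟩
      have key : ∀ x ∈ Algebra.adjoin A (t : Set (SymmetricAlgebra A M)),
          (g x).snd ∈ Submodule.span A (↑(t.image fun x => (g x).snd) : Set M) := by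
        intro x hx
        induction hx using Algebra.adjoin_induction with
        | mem x hx => exact Submodule.subset_span (Finset.mem_image_of_mem (fun x => (g x).snd) hx)
        | algebraMap r => simp [TrivSqZeroExt.algebraMap_eq_inl]
        | add x y _ _ hx hy => rw [map_add, TrivSqZeroExt.snd_add]; exact add_mem hx hy
        | mul x y _ _ hx hy =>
          rw [map_mul, TrivSqZeroExt.snd_mul, op_smul_eq_smul]
          exact add_mem (Submodule.smul_mem _ _ hy) (Submodule.smul_mem _ _ hx)
      rw [← hg m]
      exact key _ (by rw [ht]; trivial)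
    refine ⟨hfin, ?_⟩
    obtain ⟨n, p, hp⟩ := Module.Finite.exists_fin' A M
    let q : TrivSqZeroExt A (Fin n → A) →ₐ[A] TrivSqZeroExt A M := TrivSqZeroExt.map p
    have hq : Function.Surjective q := by
      intro x
      obtain ⟨v, hv⟩ := hp x.snd
      exact ⟨TrivSqZeroExt.inl x.fst + TrivSqZeroExt.inr v, TrivSqZeroExt.ext (by simp [q]) (by simp [q, hv])⟩
    have hnil : IsNilpotent (RingHom.ker (q : TrivSqZeroExt A (Fin n → A) →+* TrivSqZeroExt A M)) := by
      refine ⟨2, ?_⟩
      rw [Submodule.pow_succ, Submodule.pow_one, Submodule.zero_eq_bot, eq_bot_iff, Ideal.mul_le]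
      intro x hx y hy
      have hfst : ∀ z : TrivSqZeroExt A (Fin n → A), q z = 0 → z.fst = 0 := fun z hz => by
        simpa [q] using congrArg TrivSqZeroExt.fst hz
      rw [Ideal.mem_bot]
      exact TrivSqZeroExt.ext (by simp [hfst x hx]) (by simp [hfst x hx, hfst y hy])
    let h := Algebra.FormallySmooth.liftOfSurjective g q hq hnil
    have hh : q.comp h = g := Algebra.FormallySmooth.comp_liftOfSurjective g q hq hnil
    refine Module.Projective.of_split ((TrivSqZeroExt.sndHom A (Fin n → A)).comp (h.toLinearMap.comp (SymmetricAlgebra.ι A M))) p ?_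
    ext m
    have := congrArg TrivSqZeroExt.snd (AlgHom.congr_fun hh (SymmetricAlgebra.ι A M m))
    rw [hg] at this
    simpa [q] using this
  · rintro ⟨hfin, hproj⟩
    refine ⟨?_, ?_⟩
    · exact Algebra.FormallySmooth.iff_comp_surjective.mpr fun B _ _ I _ g => by
        obtain ⟨l, hl⟩ := Module.projective_lifting_property (Ideal.Quotient.mkₐ A I).toLinearMap
          (g.toLinearMap ∘ₗ SymmetricAlgebra.ι A M) Ideal.Quotient.mk_surjective
        refine ⟨SymmetricAlgebra.lift l, SymmetricAlgebra.algHom_ext (LinearMap.ext fun v => ?_)⟩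
        simpa using LinearMap.congr_fun hl v
    obtain ⟨n, p, hp⟩ := Module.Finite.exists_fin' A M
    obtain ⟨sec, hsec⟩ := Module.projective_lifting_property p LinearMap.id hp
    let r : MvPolynomial (Fin n) A →ₐ[A] SymmetricAlgebra A M :=
      MvPolynomial.aeval fun i => SymmetricAlgebra.ι A M (p (Pi.single i 1))
    let s : SymmetricAlgebra A M →ₐ[A] MvPolynomial (Fin n) A :=
      SymmetricAlgebra.lift ((Fintype.linearCombination A (MvPolynomial.X : Fin n → MvPolynomial (Fin n) A)).comp sec)
    have hrs : r.comp s = AlgHom.id A _ := by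
      refine SymmetricAlgebra.algHom_ext (LinearMap.ext fun m => ?_)
      have hm := LinearMap.congr_fun hsec m
      simp only [LinearMap.comp_apply, LinearMap.id_apply] at hm
      conv_rhs => rw [← hm]
      conv_rhs => rw [pi_eq_sum_univ' (sec m)]
      simp [r, s, Fintype.linearCombination_apply]
    have hr : Function.Surjective r := fun x => ⟨s x, AlgHom.congr_fun hrs x⟩
    refine Algebra.FinitePresentation.of_surjective hr ⟨Finset.univ.image fun i => MvPolynomial.X i - s (r (MvPolynomial.X i)), ?_⟩
    refine le_antisymm (Ideal.span_le.mpr ?_) fun x hx => ?_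
    · intro z hz
      simp only [Finset.coe_image, Finset.coe_univ, Set.image_univ, Set.mem_range] at hz
      obtain ⟨i, rfl⟩ := hz
      simp [RingHom.mem_ker, show ∀ y, r (s y) = y from AlgHom.congr_fun hrs]
    · set J := Ideal.span (↑(Finset.univ.image fun i => MvPolynomial.X i - s (r (MvPolynomial.X i))) : Set (MvPolynomial (Fin n) A))
      have key : (Ideal.Quotient.mkₐ A J).comp (s.comp r) = Ideal.Quotient.mkₐ A J := by
        refine MvPolynomial.algHom_ext fun i => ?_
        exact (Ideal.Quotient.eq.mpr (Ideal.subset_span (Finset.mem_image_of_mem (fun i => MvPolynomial.X i - s (r (MvPolynomial.X i))) (Finset.mem_univ i)))).symm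
      refine Ideal.Quotient.eq_zero_iff_mem.mp ?_
      have hk := AlgHom.congr_fun key x
      simp only [AlgHom.comp_apply, show r x = 0 from hx, map_zero, Ideal.Quotient.mkₐ_eq_mk] at hk
      exact hk.symm

end Groth.Agent.S2094
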