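import Groth.Statements.S2095
import Mathlib

set_option autoImplicit false
universe u
open CAlg

namespace Groth.Agent.S2095

open TensorProduct in
/-- Let `R → S` be a ring map, `𝔫 ⊆ S` an ideal and `R → R'` a ring map admitting an `R`-linear
retraction. If `R' → R' ⊗ S` is formally smooth for the adic topology of the extension of `𝔫`, then
`R → S` is formally smooth for the `𝔫`-adic topology. -/
theorem result {R S R' : Type u} [CommRing R] [CommRing S] [Algebra R S]
    (𝔫 : Ideal S) [CommRing R'] [Algebra R R'] (ρ : R' →ₗ[R] R) (hρ : ∀ r : R, ρ (algebraMap R R' r) = r)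
    (h : CAlgX.IsAdicFormallySmooth R' (R' ⊗[R] S)
      (𝔫.map (Algebra.TensorProduct.includeRight : S →ₐ[R] R' ⊗[R] S))) :
    CAlgX.IsAdicFormallySmooth R S 𝔫 := by
  open scoped TensorProduct in
  intro C _ _ J hJ ψ hψ
  obtain ⟨k, hk⟩ := hψ
  let ι : C →ₐ[R] R' ⊗[R] C := Algebra.TensorProduct.includeRight
  let J' : Ideal (R' ⊗[R] C) := J.map ι.toRingHom
  have hJ' : J' ^ 2 = ⊥ := by rw [← Ideal.map_pow, hJ, Ideal.map_bot]
  let q : (C ⧸ J) →ₐ[R] (R' ⊗[R] C) ⧸ J' :=
    Ideal.Quotient.liftₐ J ((Ideal.Quotient.mkₐ R J').comp ι) fun a ha =>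
      Ideal.Quotient.eq_zero_iff_mem.mpr (Ideal.mem_map_of_mem ι.toRingHom ha)
  let ψ' : R' ⊗[R] S →ₐ[R'] (R' ⊗[R] C) ⧸ J' :=
    Algebra.TensorProduct.lift (Algebra.ofId R' _) (q.comp ψ) fun _ _ => .all _ _
  obtain ⟨χ, hχ⟩ := h (R' ⊗[R] C) J' hJ' ψ' ⟨k, fun x hx => by
    rw [← Ideal.map_pow] at hx
    induction hx using Submodule.span_induction with
    | mem x hx =>
      obtain ⟨s, hs, rfl⟩ := hx
      simp [ψ', hk s hs]
    | zero => exact map_zero ψ'
    | add x y _ _ hx hy => rw [map_add, hx, hy, add_zero]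
    | smul a x _ hx => rw [smul_eq_mul, map_mul, hx, mul_zero]⟩
  let ρC : R' ⊗[R] C →ₗ[R] C := (TensorProduct.lid R C).toLinearMap ∘ₗ LinearMap.rTensor C ρ
  have hρC : ∀ (r' : R') (c : C), ρC (r' ⊗ₜ c) = ρ r' • c := fun r' c => by simp [ρC]
  have hρ1 : ρ 1 = 1 := by simpa using hρ 1
  have hρι : ∀ c, ρC (1 ⊗ₜ c) = c := fun c => by rw [hρC, hρ1, one_smul]
  have hmul : ∀ (z : R' ⊗[R] C) (c : C), ρC (z * (1 ⊗ₜ c)) = ρC z * c := by
    intro z c
    induction z using TensorProduct.induction_on with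
    | zero => simp
    | tmul a b => simp [hρC, Algebra.TensorProduct.tmul_mul_tmul]
    | add a b ha hb => rw [add_mul, map_add, ha, hb, map_add, add_mul]
  have hJC : ∀ z ∈ J', ρC z ∈ J := fun z hz => by
    suffices ∀ w, ρC (w * z) ∈ J by simpa using this 1
    induction hz using Submodule.span_induction with
    | mem x hx =>
      obtain ⟨j, hj, rfl⟩ := hx
      exact fun w => (hmul w j).symm ▸ J.mul_mem_left _ hj
    | zero => simp
    | add x y _ _ hx hy => exact fun w => by rw [mul_add, map_add]; exact J.add_mem (hx w) (hy w)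
    | smul a x _ hx => exact fun w => by rw [smul_eq_mul, ← mul_assoc]; exact hx (w * a)
  let g : S →ₐ[R] R' ⊗[R] C :=
    (χ.restrictScalars R).comp Algebra.TensorProduct.includeRight
  choose c hc using fun s => Ideal.Quotient.mk_surjective (ψ s)
  have hg : ∀ s, g s - 1 ⊗ₜ c s ∈ J' := fun s => by
    rw [← Ideal.Quotient.eq]
    have := AlgHom.congr_fun hχ (1 ⊗ₜ s)
    simp only [ψ', Algebra.TensorProduct.lift_tmul, map_one, one_mul, AlgHom.comp_apply,
      Ideal.Quotient.mkₐ_eq_mk] at this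
    refine this.trans ?_
    rw [← hc s]
    exact Ideal.Quotient.lift_mk J _ _
  have hmul' : ∀ s t, ρC (g (s * t)) = ρC (g s) * ρC (g t) := by
    intro s t
    set u := g s - 1 ⊗ₜ c s with hu
    set v := g t - 1 ⊗ₜ c t with hv
    have huv : u * v = 0 := by
      have := Ideal.mul_mem_mul (hg s) (hg t)
      rwa [← pow_two, hJ', Ideal.mem_bot] at this
    have huv' : ρC u * ρC v = 0 := by
      have := Ideal.mul_mem_mul (hJC u (hg s)) (hJC v (hg t))
      rwa [← pow_two, hJ, Ideal.mem_bot] at this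
    have hs : g s = u + 1 ⊗ₜ c s := by rw [hu, sub_add_cancel]
    have ht : g t = v + 1 ⊗ₜ c t := by rw [hv, sub_add_cancel]
    rw [map_mul, hs, ht, add_mul, mul_add, mul_add, huv, mul_comm (1 ⊗ₜ[R] c s) v,
      Algebra.TensorProduct.tmul_mul_tmul, one_mul]
    simp only [map_add, map_zero, zero_add, hmul, hρι]
    linear_combination -huv'
  refine ⟨AlgHom.ofLinearMap (ρC ∘ₗ g.toLinearMap) ?_ hmul', AlgHom.ext fun s => ?_⟩
  · show ρC (g 1) = 1
    rw [map_one]
    exact hρι 1
  · show Ideal.Quotient.mk J (ρC (g s)) = ψ s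
    rw [← hc s, Ideal.Quotient.eq]
    have := hJC _ (hg s)
    rwa [map_sub, hρι] at this

end Groth.Agent.S2095
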