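import Groth.Statements.S2096
import Mathlib
import Groth.Agent.S0736
import Groth.Agent.WEtLib.OverField

set_option autoImplicit false
universe u
open CAlg

namespace Groth.Agent.S2096

/-- Let `B` be a Noetherian ind-étale `A`-algebra (a filtered colimit of étale algebras) and `𝔭` a prime
of `A`. Then only finitely many primes of `B` lie over `𝔭`, the fibre ring `B ⊗ κ(𝔭)` is reduced of
dimension zero, and each residue field extension `κ(𝔮)/κ(𝔭)` is separable algebraic. -/
theorem result {A B : Type u} [CommRing A] [CommRing B] [Algebra A B] (hB : EtPBC.IsIndEtale A B)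
    [IsNoetherianRing B] (p : Ideal A) [p.IsPrime] :
    {q : PrimeSpectrum B | q.asIdeal.LiesOver p}.Finite ∧ IsReduced (p.Fiber B) ∧ ringKrullDim (p.Fiber B) ≤ 0 ∧
      ∀ (q : Ideal B) [q.IsPrime] [q.LiesOver p],
        @Algebra.IsSeparable p.ResidueField q.ResidueField _ _
          (Ideal.ResidueField.mapₐ p q (Algebra.ofId A B) (q.over_def p)).toRingHom.toAlgebra := by
  open TensorProduct in
  haveI : Algebra.WeaklyEtale A B := Groth.Agent.S0736.result A B hB
  have hvn : ∀ a : p.Fiber B, ∃ r, a = a * a * r :=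
    Groth.Agent.WEtLib.exists_mul_eq (K := p.ResidueField) (R := p.Fiber B)
  have hmax : ∀ P : Ideal (p.Fiber B), P.IsPrime → P.IsMaximal := fun P hP =>
    @Groth.Agent.WEtLib.isMaximal_of_forall_exists _ _ hvn P hP
  have hle : ∀ q₁ q₂ : p.primesOver B, q₁.1 ≤ q₂.1 → q₁ = q₂ := by
    intro q₁ q₂ h
    let α := PrimeSpectrum.primesOverOrderIsoFiber A B p
    have h1 : (α q₁).asIdeal ≤ (α q₂).asIdeal := α.monotone h
    exact α.injective (PrimeSpectrum.ext
      ((hmax _ (α q₁).2).eq_of_le (α q₂).2.ne_top h1))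
  refine ⟨?_, Groth.Agent.WEtLib.isReduced_of_forall_exists hvn, ?_, fun q _ _ => ?_⟩
  · refine Set.Finite.of_finite_image (f := fun q : PrimeSpectrum B => q.asIdeal) ?_
      (fun q _ q' _ h => PrimeSpectrum.ext h)
    refine ((p.map (algebraMap A B)).finite_minimalPrimes_of_isNoetherianRing B).subset ?_
    rintro _ ⟨q, hq, rfl⟩
    haveI : q.asIdeal.LiesOver p := hq
    refine ⟨⟨q.2, Ideal.map_le_iff_le_comap.mpr (q.asIdeal.over_def p).le⟩, fun r hr hrq => ?_⟩
    haveI := hr.1
    haveI : r.LiesOver p := ⟨le_antisymm (Ideal.map_le_iff_le_comap.mp hr.2)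
      ((Ideal.comap_mono hrq).trans (q.asIdeal.over_def p).ge)⟩
    exact (congrArg Subtype.val (hle ⟨r, hr.1, inferInstance⟩ ⟨q.asIdeal, q.2, inferInstance⟩ hrq)).ge
  · haveI : Ring.KrullDimLE 0 (p.Fiber B) := Ring.KrullDimLE.mk₀ fun P hP => hmax P hP
    exact Ring.krullDimLE_iff.mp inferInstance
  · letI : Algebra (Localization.AtPrime p) (Localization.AtPrime q) :=
      Localization.AtPrime.algebraOfLiesOver p q
    haveI : Localization.AtPrime.IsLiesOverAlgebra p q := ⟨rfl⟩
    have h1 : Algebra.IsSeparable p.ResidueField q.ResidueField :=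
      Groth.Agent.WEtLib.isSeparable_residueField p q
    convert h1 using 1
    refine Algebra.algebra_ext _ _ fun x => ?_
    obtain ⟨a, s, hs, rfl⟩ := IsFractionRing.div_surjective (A := A ⧸ p) x
    obtain ⟨a, rfl⟩ := Ideal.Quotient.mk_surjective a
    obtain ⟨s, rfl⟩ := Ideal.Quotient.mk_surjective s
    rw [map_div₀, map_div₀]
    congr 1 <;>
    · simp only [Ideal.algebraMap_quotient_residueField_mk, ← IsScalarTower.algebraMap_apply]
      exact ((Ideal.ResidueField.mapₐ p q (Algebra.ofId A B) (q.over_def p)).commutes _)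

end Groth.Agent.S2096
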