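import Groth.Statements.S2097
import Mathlib.RingTheory.Noetherian.Nilpotent
import Mathlib.RingTheory.FinitePresentation
import Mathlib.RingTheory.Nilpotent.Basic

set_option autoImplicit false
universe u
open CAlg

namespace Groth.Agent.S2097

/-- Let `R → S` be smooth, `A` an `R`-algebra and `I ⊆ A` an ideal all of whose elements are nilpotent.
Every `R`-algebra map `S → A/I` lifts to an `R`-algebra map `S → A`. -/
theorem result {R S A : Type u} [CommRing R] [CommRing S] [Algebra R S] [Algebra.Smooth R S]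
    [CommRing A] [Algebra R A] (I : Ideal A) (hI : ∀ x ∈ I, IsNilpotent x) (g : S →ₐ[R] A ⧸ I) :
    ∃ f : S →ₐ[R] A, (Ideal.Quotient.mkₐ R I).comp f = g := by
  classical
  obtain ⟨n, π, hπ, hfg⟩ := (inferInstance : Algebra.FinitePresentation R S).out
  choose a ha using fun i => Ideal.Quotient.mk_surjective (g (π (MvPolynomial.X i)))
  let θ : MvPolynomial (Fin n) R →ₐ[R] A := MvPolynomial.aeval a
  have hθ : (Ideal.Quotient.mkₐ R I).comp θ = g.comp π := by
    refine MvPolynomial.algHom_ext fun i => ?_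
    simp [θ, ha]
  let J : Ideal A := (RingHom.ker π).map θ
  have hJI : J ≤ I := Ideal.map_le_iff_le_comap.mpr fun x hx => by
    rw [RingHom.mem_ker] at hx
    rw [Ideal.mem_comap, ← Ideal.Quotient.eq_zero_iff_mem]
    have := AlgHom.congr_fun hθ x
    simp only [AlgHom.comp_apply, Ideal.Quotient.mkₐ_eq_mk, hx, map_zero] at this
    exact this
  have hJ : IsNilpotent J := by
    have hJfg : J.FG := hfg.map _
    exact (Ideal.FG.isNilpotent_iff_le_nilradical hJfg).mpr fun x hx => hI x (hJI hx)
  let g' : S →ₐ[R] A ⧸ J := AlgHom.liftOfSurjective π hπ ((Ideal.Quotient.mkₐ R J).comp θ)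
    (fun x hx => by
      show Ideal.Quotient.mk J (θ x) = 0
      rw [Ideal.Quotient.eq_zero_iff_mem]
      exact Ideal.mem_map_of_mem θ hx)
  obtain ⟨f, hf⟩ := Algebra.FormallySmooth.exists_lift J hJ g'
  refine ⟨f, ?_⟩
  refine AlgHom.ext fun s => ?_
  obtain ⟨p, rfl⟩ := hπ s
  have h1 : Ideal.Quotient.mk J (f (π p)) = Ideal.Quotient.mk J (θ p) := by
    have := AlgHom.congr_fun hf (π p)
    simpa [g', AlgHom.liftOfSurjective_apply] using this
  have h2 : Ideal.Quotient.mk I (f (π p)) = Ideal.Quotient.mk I (θ p) :=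
    Ideal.Quotient.eq.mpr (hJI (Ideal.Quotient.eq.mp h1))
  simpa [h2] using AlgHom.congr_fun hθ p

end Groth.Agent.S2097
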