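import Groth.Statements.S2098
import Mathlib
import Groth.Agent.ARPair.Basic

set_option autoImplicit false
universe u
open CAlg

namespace Groth.Agent.S2098

/-- Let `R` be Noetherian, `I` an ideal inside the Jacobson radical and `u : N → M` a map of finite
`R`-modules. If for arbitrarily large `n` the induced map `N/IⁿN → M/IⁿM` has a left inverse, then
`u` has a left inverse. -/
theorem result {R M N : Type u} [CommRing R] [IsNoetherianRing R] (I : Ideal R)
    (hI : I ≤ (⊥ : Ideal R).jacobson) [AddCommGroup M] [Module R M] [Module.Finite R M] [AddCommGroup N] [Module R N]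
    [Module.Finite R N] (u : N →ₗ[R] M)
    (h : ∀ n₀ : ℕ, ∃ n, n₀ ≤ n ∧ ∃ s : (M ⧸ (I ^ n) • (⊤ : Submodule R M)) →ₗ[R] (N ⧸ (I ^ n) • (⊤ : Submodule R N)),
      ∀ x : N, s (Submodule.Quotient.mk (u x)) = Submodule.Quotient.mk x) :
    ∃ s : M →ₗ[R] N, s.comp u = LinearMap.id := by
  obtain ⟨c₁, hc₁⟩ := Groth.Agent.ARPair.exists_hom_approx I M N
  obtain ⟨c₂, hc₂⟩ := Groth.Agent.ARPair.exists_hom_approx I N N
  let T : (M →ₗ[R] N) →ₗ[R] (N →ₗ[R] N) := LinearMap.lcomp R N u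
  have hmem : (LinearMap.range T).mkQ LinearMap.id ∈ (⨅ i : ℕ, I ^ i • ⊤ : Submodule R ((N →ₗ[R] N) ⧸ LinearMap.range T)) := by
    refine (Submodule.mem_iInf _).2 fun i => ?_
    obtain ⟨n, hn, s, hs⟩ := h (i + c₁ + c₂)
    let ψ : M →ₗ[R] N ⧸ (I ^ n • ⊤ : Submodule R N) := s.comp (Submodule.mkQ _)
    obtain ⟨φ, hφ⟩ := (hc₁ n).2 ψ
    have h1 : ∀ x, ((LinearMap.id : N →ₗ[R] N) - T φ : N →ₗ[R] N) x ∈ (I ^ (n - c₁) • ⊤ : Submodule R N) := fun x => hφ (u x) x (hs x)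
    have h2 := (hc₂ (n - c₁)).1 _ h1
    have h3 := Submodule.mem_map_of_mem (f := (LinearMap.range T).mkQ) h2
    rw [Submodule.map_smul'', map_sub, show (LinearMap.range T).mkQ (T φ) = 0 from
      (Submodule.Quotient.mk_eq_zero _).2 ⟨φ, rfl⟩, sub_zero] at h3
    exact Submodule.smul_mono (Ideal.pow_le_pow_right (by omega)) le_top h3
  rw [Ideal.iInf_pow_smul_eq_bot_of_le_jacobson I hI, Submodule.mem_bot] at hmem
  obtain ⟨s, hs⟩ := (Submodule.Quotient.mk_eq_zero _).1 hmem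
  exact ⟨s, hs⟩

end Groth.Agent.S2098
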