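import Groth.Statements.S2100
import Mathlib
import Groth.Agent.FlatMisc.RefinedNN

set_option autoImplicit false
universe u
open CAlg

namespace Groth.Agent.S2100

/-- Let `k` be a field, `𝔮` a prime of `k[x_1, …, x_n]` and `r` the transcendence degree of `κ(𝔮)` over
`k`. Then there is a finite `k`-algebra map `φ : k[y_1, …, y_n] → k[x_1, …, x_n]` with `φ⁻¹(𝔮) =
(y_{r+1}, …, y_n)`. -/
theorem result {k : Type u} [Field k] (n r : ℕ) (q : Ideal (MvPolynomial (Fin n) k))
    [q.IsPrime] (hr : Algebra.trdeg k q.ResidueField = r) :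
    ∃ φ : MvPolynomial (Fin n) k →ₐ[k] MvPolynomial (Fin n) k, φ.toRingHom.Finite ∧
      q.comap φ = Ideal.span (Set.range fun i : {i : Fin n // r ≤ (i : ℕ)} => MvPolynomial.X (i : Fin n)) := by
  exact FlatMisc.RefinedNN.exists_refined_normalization n r q hr

end Groth.Agent.S2100
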