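import Groth.Statements.S2101
import Mathlib

set_option autoImplicit false
universe u
open CAlg

namespace Groth.Agent.S2101

/-- For elements `f_1, …, f_r` generating a proper ideal, all reorderings are regular sequences in `R`
if and only if the products `f_i x_i` form a regular sequence in `R[x_1, …, x_r]`. -/
theorem result {R : Type u} [CommRing R] {r : ℕ} (f : Fin r → R)
    (hf : Ideal.span (Set.range f) ≠ ⊤) :
    (∀ σ : Equiv.Perm (Fin r), RingTheory.Sequence.IsRegular R (List.ofFn (f ∘ σ))) ↔
      RingTheory.Sequence.IsRegular (MvPolynomial (Fin r) R)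
        (List.ofFn fun i => MvPolynomial.C (f i) * MvPolynomial.X i) := by
  classical
  have hlist : ∀ {A : Type u} [CommRing A] (g : Fin r → A) (k : ℕ),
      (Ideal.ofList ((List.ofFn g).take k) : Ideal A) = Ideal.span (g '' {i : Fin r | (i : ℕ) < k}) := by
    intro A _ g k
    refine congrArg Ideal.span (Set.ext fun x => ?_)
    simp only [Set.mem_image, Set.mem_ofPred_eq, List.mem_take_iff_getElem, List.getElem_ofFn, List.length_ofFn,
      lt_min_iff]
    constructor
    · rintro ⟨i, hi, rfl⟩; exact ⟨⟨i, hi.2⟩, hi.1, rfl⟩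
    · rintro ⟨i, hi, rfl⟩; exact ⟨i, ⟨hi, i.2⟩, rfl⟩
  have hweak : ∀ {A : Type u} [CommRing A] (g : Fin r → A),
      RingTheory.Sequence.IsWeaklyRegular A (List.ofFn g) ↔
        ∀ k : Fin r, ∀ x, g k * x ∈ Ideal.span (g '' {i : Fin r | (i : ℕ) < k}) →
          x ∈ Ideal.span (g '' {i : Fin r | (i : ℕ) < k}) := by
    intro A _ g
    rw [RingTheory.Sequence.isWeaklyRegular_iff]
    constructor
    · intro h k x hx
      have h1 := (isSMulRegular_quotient_iff_mem_of_smul_mem _ _).1 (h k (by simp)) x
      simp only [List.getElem_ofFn, hlist, smul_eq_mul, Ideal.mul_top] at h1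
      exact h1 hx
    · intro h i hi
      rw [(isSMulRegular_quotient_iff_mem_of_smul_mem _ _)]
      intro x hx
      simp only [List.getElem_ofFn, hlist, smul_eq_mul, Ideal.mul_top] at hx ⊢
      exact h ⟨i, by simpa using hi⟩ x hx
  have hreg : ∀ {A : Type u} [CommRing A] (g : Fin r → A), Ideal.span (Set.range g) ≠ ⊤ →
      (RingTheory.Sequence.IsRegular A (List.ofFn g) ↔ RingTheory.Sequence.IsWeaklyRegular A (List.ofFn g)) := by
    intro A _ g hg
    refine ⟨fun h => h.toIsWeaklyRegular, fun h => ⟨h, fun h1 => hg ?_⟩⟩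
    rw [smul_eq_mul, Ideal.mul_top] at h1
    exact (h1.trans (congrArg Ideal.span (Set.ext fun x => by simp [List.mem_ofFn]))).symm
  let J : Set (Fin r) → Ideal R := fun S => Ideal.span (f '' S)
  let P : Set (Fin r) → Fin r → Prop := fun S i => ∀ x, f i * x ∈ J S → x ∈ J S
  -- coefficient description
  let G : Fin r → MvPolynomial (Fin r) R := fun i => MvPolynomial.C (f i) * MvPolynomial.X i
  have hcoef : ∀ (K : Set (Fin r)) (p : MvPolynomial (Fin r) R),
      p ∈ Ideal.span (G '' K) ↔ ∀ d, p.coeff d ∈ J {i | i ∈ K ∧ d i ≠ 0} := by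
    intro K p
    constructor
    · intro hp
      induction hp using Submodule.span_induction with
      | mem y hy =>
        obtain ⟨i, hi, rfl⟩ := hy
        intro d
        simp only [G, MvPolynomial.coeff_C_mul, MvPolynomial.coeff_X']
        split_ifs with h
        · exact Ideal.mul_mem_right _ _ (Ideal.subset_span ⟨i, ⟨hi, by rw [← h]; simp⟩, rfl⟩)
        · simp
      | zero => simp
      | add y z _ _ hy hz => exact fun d => by rw [MvPolynomial.coeff_add]; exact add_mem (hy d) (hz d)
      | smul c y _ hy =>
        intro d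
        rw [smul_eq_mul, MvPolynomial.coeff_mul]
        refine Submodule.sum_mem _ fun a ha => Ideal.mul_mem_left _ _ ?_
        refine Ideal.span_mono (Set.image_mono ?_) (hy a.2)
        rintro i ⟨hi, hne⟩
        refine ⟨hi, fun h0 => hne ?_⟩
        have := congrArg (fun z : Fin r →₀ ℕ => z i) (Finset.HasAntidiagonal.mem_antidiagonal.1 ha)
        simp only [Finsupp.add_apply, h0] at this
        omega
    · intro hp
      rw [← MvPolynomial.support_sum_monomial_coeff p]
      refine Submodule.sum_mem _ fun d _ => ?_
      have key : ∀ a ∈ J {i | i ∈ K ∧ d i ≠ 0}, MvPolynomial.monomial d a ∈ Ideal.span (G '' K) := by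
        intro a ha
        induction ha using Submodule.span_induction with
        | mem y hy =>
          obtain ⟨i, ⟨hi, hne⟩, rfl⟩ := hy
          have : MvPolynomial.monomial d (f i) = MvPolynomial.monomial (d - Finsupp.single i 1) 1 * G i := by
            rw [show G i = MvPolynomial.monomial (Finsupp.single i 1) (f i) from MvPolynomial.C_mul_X_eq_monomial,
              MvPolynomial.monomial_mul, one_mul,
              tsub_add_cancel_of_le (Finsupp.single_le_iff.2 (Nat.one_le_iff_ne_zero.2 hne))]
          rw [this]
          exact Ideal.mul_mem_left _ _ (Ideal.subset_span ⟨i, hi, rfl⟩)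
        | zero => simp
        | add y z _ _ hy hz => rw [map_add]; exact add_mem hy hz
        | smul c y _ hy => rw [smul_eq_mul, ← MvPolynomial.C_mul_monomial]; exact Ideal.mul_mem_left _ _ hy
      exact key _ (hp d)
  have hpoly : (∀ k : Fin r, ∀ S : Set (Fin r), (∀ i ∈ S, (i : ℕ) < k) → P S k) ↔
      ∀ k : Fin r, ∀ p, G k * p ∈ Ideal.span (G '' {i : Fin r | (i : ℕ) < k}) →
        p ∈ Ideal.span (G '' {i : Fin r | (i : ℕ) < k}) := by
    constructor
    · intro h k p hp
      rw [hcoef] at hp ⊢
      intro d
      have h1 := hp (d + Finsupp.single k 1)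
      simp only [G, mul_assoc, MvPolynomial.coeff_C_mul] at h1
      rw [mul_comm (MvPolynomial.X k) p, MvPolynomial.coeff_mul_X] at h1
      refine h k {i | i ∈ {i : Fin r | (i : ℕ) < k} ∧ d i ≠ 0} (fun i hi => hi.1) _ ?_
      refine Ideal.span_mono (Set.image_mono ?_) h1
      rintro i ⟨hi, hne⟩
      refine ⟨hi, fun h0 => hne ?_⟩
      simp [h0, Finsupp.single_eq_of_ne (Fin.ne_of_lt (show i < k from hi))]
    · intro h k S hS x hx
      let d : Fin r →₀ ℕ := Finsupp.equivFunOnFinite.symm fun i => if i ∈ S then 1 else 0
      have hd : ∀ i, d i ≠ 0 ↔ i ∈ S := fun i => by simp [d]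
      have h1 := h k (MvPolynomial.monomial d x) (by
        rw [hcoef]
        intro e
        simp only [G, mul_assoc, MvPolynomial.coeff_C_mul]
        rw [mul_comm (MvPolynomial.X k), MvPolynomial.X, MvPolynomial.monomial_mul, mul_one, MvPolynomial.coeff_monomial]
        split_ifs with he
        · refine Ideal.span_mono (Set.image_mono ?_) hx
          intro i hi
          refine ⟨hS i hi, ?_⟩
          rw [← he, Finsupp.add_apply]
          have := (hd i).2 hi
          omega
        · simp)
      rw [hcoef] at h1
      have h2 := h1 d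
      rw [MvPolynomial.coeff_monomial, if_pos rfl] at h2
      refine Ideal.span_mono (Set.image_mono ?_) h2
      rintro i ⟨-, hi⟩
      exact (hd i).1 hi
  have hGtop : ∀ (_ : Nonempty (Fin r)), Ideal.span (Set.range G) ≠ ⊤ := by
    intro _ htop
    have hle : Ideal.span (Set.range G) ≤ RingHom.ker (MvPolynomial.constantCoeff : MvPolynomial (Fin r) R →+* R) :=
      Ideal.span_le.2 (by rintro _ ⟨i, rfl⟩; simp [G])
    have h10 : (1 : R) = 0 := by
      have := hle (htop ▸ Submodule.mem_top (x := (1 : MvPolynomial (Fin r) R)))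
      rw [RingHom.mem_ker, map_one] at this
      exact this
    exact hf ((Ideal.eq_top_iff_one _).2 (h10 ▸ zero_mem _))
  have hG : Ideal.span (Set.range G) ≠ ⊤ := by
    rcases isEmpty_or_nonempty (Fin r) with h | h
    · rw [Set.range_eq_empty, Ideal.span_empty]
      intro htop
      refine hf ?_
      rw [Set.range_eq_empty, Ideal.span_empty]
      have h0 := (Ideal.eq_top_iff_one _).1 htop
      rw [Ideal.mem_bot] at h0
      exact (Ideal.eq_top_iff_one _).2 (by rw [Ideal.mem_bot]; simpa using congrArg MvPolynomial.constantCoeff h0)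
    · exact hGtop h
  rw [hreg G hG, hweak, ← hpoly]
  have hperm : ∀ σ : Equiv.Perm (Fin r), Ideal.span (Set.range (f ∘ σ)) ≠ ⊤ := fun σ => by
    rwa [σ.surjective.range_comp]
  constructor
  · intro h k S hS
    let n := S.toFinset.card
    obtain ⟨σ, hσ⟩ : ∃ σ : Equiv.Perm (Fin r), ∃ j : Fin r, σ j = k ∧ σ '' {i : Fin r | (i : ℕ) < j} = S := by
      have hk : k ∉ S.toFinset := fun hk => (hS k (Set.mem_toFinset.1 hk)).ne rfl
      have hn : n < r := by
        have := Finset.card_lt_univ_of_notMem hk
        rwa [Fintype.card_fin] at this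
      let T : Finset (Fin r) := Finset.univ.filter fun i : Fin r => (i : ℕ) < n
      have hT : T.card = n := by
        simp only [T]
        rw [Fin.card_filter_val_lt]
        omega
      let e : {i // i ∈ insert (⟨n, hn⟩ : Fin r) T} → Fin r := fun i =>
        if h : i.1 ∈ T then ((Finset.equivOfCardEq hT) ⟨i.1, h⟩).1 else k
      have he : Function.Injective e := by
        intro a b hab
        simp only [e] at hab
        split_ifs at hab with ha hb hb
        · exact Subtype.ext (by simpa using hab)
        · exact absurd (hab ▸ ((Finset.equivOfCardEq hT) ⟨a.1, ha⟩).2) hk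
        · exact absurd (hab.symm ▸ ((Finset.equivOfCardEq hT) ⟨b.1, hb⟩).2) hk
        · exact Subtype.ext (((Finset.mem_insert.1 a.2).resolve_right ha).trans ((Finset.mem_insert.1 b.2).resolve_right hb).symm)
      obtain ⟨σ, hσ⟩ := Equiv.Perm.exists_extending_pair (fun i : {i // i ∈ insert (⟨n, hn⟩ : Fin r) T} => i.1) e
        Subtype.val_injective he
      refine ⟨σ, ⟨n, hn⟩, ?_, ?_⟩
      · rw [hσ ⟨⟨n, hn⟩, Finset.mem_insert_self _ _⟩]
        exact dif_neg (by simp [T])
      · ext y
        constructor
        · rintro ⟨i, hi, rfl⟩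
          have hiT : i ∈ T := by simpa [T] using hi
          rw [hσ ⟨i, Finset.mem_insert_of_mem hiT⟩]
          simp only [e, dif_pos hiT]
          exact Set.mem_toFinset.1 ((Finset.equivOfCardEq hT) ⟨i, hiT⟩).2
        · intro hy
          let z := (Finset.equivOfCardEq hT).symm ⟨y, Set.mem_toFinset.2 hy⟩
          refine ⟨z.1, (Finset.mem_filter.1 z.2).2, ?_⟩
          rw [hσ ⟨z.1, Finset.mem_insert_of_mem z.2⟩]
          simp only [e, dif_pos z.2]
          simp [z]
    obtain ⟨j, hj, hS'⟩ := hσ
    intro x hx
    have h1 := (hweak (f ∘ σ)).1 ((hreg _ (hperm σ)).1 (h σ)) j x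
    rw [Set.image_comp, hS', Function.comp_apply, hj] at h1
    exact h1 hx
  · intro h
    have hall : ∀ (n : ℕ) (S : Finset (Fin r)) (i : Fin r), S.card ≤ n → i ∉ S → P (S : Set (Fin r)) i := by
      intro n
      induction n with
      | zero =>
        intro S i hn _
        refine h i _ fun j hj => ?_
        rw [Finset.card_eq_zero.1 (Nat.le_zero.1 hn)] at hj
        simp at hj
      | succ n ih =>
        intro S i hn hi
        by_cases hlt : ∀ j ∈ S, (j : ℕ) < i
        · exact h i _ hlt
        push Not at hlt
        obtain ⟨j₀, hj₀, hij⟩ := hlt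
        have hne : S.Nonempty := ⟨j₀, hj₀⟩
        let j := S.max' hne
        have hjS : j ∈ S := S.max'_mem hne
        let T := S.erase j
        have hT : ∀ a ∈ T, (a : ℕ) < j := fun a ha =>
          lt_of_le_of_ne (S.le_max' a (Finset.mem_of_mem_erase ha)) fun e => Finset.ne_of_mem_erase ha (Fin.ext e)
        have hij' : (i : ℕ) < j := by
          refine lt_of_le_of_ne (hij.trans (S.le_max' j₀ hj₀)) fun e => hi ?_
          rw [Fin.ext e]; exact hjS
        have p1 : P (T : Set (Fin r)) i := ih T i (by rw [Finset.card_erase_of_mem hjS]; omega)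
          fun hiT => hi (Finset.mem_of_mem_erase hiT)
        have p2 : P (T : Set (Fin r)) j := h j _ fun a ha => hT a ha
        have p3 : P (insert i (T : Set (Fin r))) j := h j _ fun a ha => by
          rcases Set.mem_insert_iff.1 ha with rfl | ha
          · exact hij'
          · exact hT a ha
        intro x hx
        have hS : (S : Set (Fin r)) = insert j (T : Set (Fin r)) := by
          rw [← Finset.coe_insert, Finset.insert_erase hjS]
        simp only [J, hS, Set.image_insert_eq] at hx ⊢
        obtain ⟨y, t, ht, hyt⟩ := Ideal.mem_span_insert.1 hx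
        have hy : y ∈ J (insert i (T : Set (Fin r))) := by
          refine p3 y ?_
          simp only [J, Set.image_insert_eq]
          exact Ideal.mem_span_insert.2 ⟨x, -t, neg_mem ht, by linear_combination -hyt⟩
        simp only [J, Set.image_insert_eq] at hy
        obtain ⟨z, t', ht', hy'⟩ := Ideal.mem_span_insert.1 hy
        have hxz : x - f j * z ∈ J (T : Set (Fin r)) := by
          refine p1 _ ?_
          rw [show f i * (x - f j * z) = t + f j * t' by rw [hy'] at hyt; linear_combination hyt]
          exact add_mem ht (Ideal.mul_mem_left _ _ ht')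
        exact Ideal.mem_span_insert.2 ⟨z, x - f j * z, hxz, by ring⟩
    intro σ
    rw [hreg _ (hperm σ), hweak]
    intro k x hx
    rw [Set.image_comp] at hx ⊢
    have h1 := hall _ ((Finset.univ.filter fun i : Fin r => (i : ℕ) < k).image σ) (σ k) le_rfl (by simp [σ.injective.eq_iff])
    simp only [P, J, Finset.coe_image, Finset.coe_filter, Finset.mem_univ, true_and] at h1
    exact h1 x hx

end Groth.Agent.S2101
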