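import Groth.Statements.S2106
import Mathlib
import Groth.Agent.FlatModel.FibreEss

set_option autoImplicit false
universe u
open CAlg

namespace Groth.Agent.S2106

/-- Let `R → S → S'` be local homomorphisms of local rings with `S` and `S'` essentially of finite
presentation over `R`, and `M` a nonzero finitely presented `S'`-module which is flat over `R` and
such that `M/𝔪_R M` is flat over `S/𝔪_R S`. Then `S` is flat over `R` and `M` is flat over `S`. -/
theorem result {R S S' M : Type u} [CommRing R] [CommRing S] [CommRing S']
    [IsLocalRing R] [IsLocalRing S] [IsLocalRing S'] [Algebra R S] [Algebra S S'] [Algebra R S'] [IsScalarTower R S S']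
    [IsLocalHom (algebraMap R S)] [IsLocalHom (algebraMap S S')]
    (hS : CAlgX.IsEssFinitePresentation R S) (hS' : CAlgX.IsEssFinitePresentation R S')
    [AddCommGroup M] [Module S' M] [Module S M] [Module R M] [IsScalarTower S S' M] [IsScalarTower R S' M]
    [IsScalarTower R S M] [Module.FinitePresentation S' M] [Nontrivial M] [Module.Flat R M]
    (hfib : Module.Flat (S ⧸ (IsLocalRing.maximalIdeal R).map (algebraMap R S))
      (M ⧸ (IsLocalRing.maximalIdeal R).map (algebraMap R S) • (⊤ : Submodule S M))) :
    Module.Flat R S ∧ Module.Flat S M := by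
  obtain ⟨B, _, _, _, _, _, q, _, _, _⟩ := Groth.Agent.FlatModel.exists_prime_model hS
  have : Algebra.EssFiniteType B S := Algebra.EssFiniteType.of_isLocalization S q.primeCompl
  have : Algebra.EssFiniteType R S := Algebra.EssFiniteType.comp R B S
  exact Groth.Agent.FlatModel.flat_of_fibre_essFP hS' hfib

end Groth.Agent.S2106
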