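import Groth.Statements.S2109
import Groth.Agent.SmoothingLib.RegularPowers
-- import your own Groth.Agent.* helpers here

set_option autoImplicit false
universe u
open Smoothing

namespace Groth.Agent.S2109

/-- Let `Λ` be Noetherian, `I ⊆ 𝔮` with `𝔮` prime, `n, e > 0`, such that `𝔮ⁿΛ_𝔮 ⊆ IΛ_𝔮` and `Λ_𝔮` is a
regular local ring of dimension `d`. Then there are `N > 0` and `π_1, …, π_d ∈ Λ` generating `𝔮Λ_𝔮`,
with `π_i^N ∈ I`, such that for each `i` the annihilators of `π_i` and `π_i²` in `Λ/(π_1^e, …,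
π_{i-1}^e)` coincide. -/
theorem result {Λ : Type u} [CommRing Λ] [IsNoetherianRing Λ] (I q : Ideal Λ)
    [q.IsPrime] (hIq : I ≤ q) (n e d : ℕ) (hn : 0 < n) (he : 0 < e)
    (hpow : (q ^ n).map (algebraMap Λ (Localization.AtPrime q)) ≤ I.map (algebraMap Λ (Localization.AtPrime q)))
    [IsRegularLocalRing (Localization.AtPrime q)] (hd : ringKrullDim (Localization.AtPrime q) = d) :
    ∃ (N : ℕ) (π : Fin d → Λ), 0 < N ∧
      Ideal.span (Set.range fun i => algebraMap Λ (Localization.AtPrime q) (π i)) =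
        q.map (algebraMap Λ (Localization.AtPrime q)) ∧
      (∀ i, π i ^ N ∈ I) ∧
      ∀ i : Fin d, ∀ x : Λ ⧸ Ideal.span (Set.range fun j : {j : Fin d // (j : ℕ) < (i : ℕ)} => π j ^ e),
        Ideal.Quotient.mk _ (π i) ^ 2 * x = 0 → Ideal.Quotient.mk _ (π i) * x = 0 := by
    exact Groth.Agent.SmoothingLib.exists_stable_params I q n e d hn he hpow hd

end Groth.Agent.S2109
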