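import Groth.Statements.S2110
import Groth.Agent.SmoothingLib.SymConormal
-- import your own Groth.Agent.* helpers here

set_option autoImplicit false
universe u
open Smoothing

namespace Groth.Agent.S2110

/-- Let `A` be a finitely presented `R`-algebra. There is an `A`-algebra `C` of finite type with an
`A`-algebra retraction `C → A` such that for every `a ∈ A` with `A_a` smooth over `R`, the module of
differentials of `C_a` over `R` is a free `C_a`-module. -/
theorem result {R A : Type u} [CommRing R] [CommRing A] [Algebra R A]
    [Algebra.FinitePresentation R A] :
    ∃ (C : Type u) (_ : CommRing C) (_ : Algebra A C) (_ : Algebra R C) (_ : IsScalarTower R A C),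
      Algebra.FiniteType A C ∧ Nonempty (C →ₐ[A] A) ∧
      ∀ a : A, Algebra.Smooth R (Localization.Away a) →
        Module.Free (Localization.Away (algebraMap A C a)) Ω[Localization.Away (algebraMap A C a)⁄R] := by
    classical
    obtain ⟨n, φ, hφ, hfg⟩ := Algebra.FinitePresentation.out (R := R) (A := A)
    obtain ⟨m, f, hf⟩ := Submodule.fg_iff_exists_fin_generating_family.1 hfg
    let C := Groth.Agent.SmoothingLib.SymConormal φ f
    obtain ⟨ρ, -⟩ := Groth.Agent.SmoothingLib.exists_retraction φ f
    refine ⟨C, inferInstance, inferInstance, inferInstance, inferInstance,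
      Algebra.FiniteType.of_surjective (Ideal.Quotient.mkₐ A _) (Ideal.Quotient.mkₐ_surjective A _),
      ⟨ρ⟩, fun a ha => ?_⟩
    let B := Localization.Away a
    let C' := Localization.Away (algebraMap A C a)
    let g : B →+* C' := IsLocalization.Away.map B C' (algebraMap A C) a
    letI : Algebra B C' := g.toAlgebra
    have hg : ∀ x : A, g (algebraMap A B x) = algebraMap A C' x := fun x => by
      rw [IsScalarTower.algebraMap_apply A C C']
      exact IsLocalization.map_eq _ x
    haveI : IsScalarTower A B C' := IsScalarTower.of_algebraMap_eq fun x => (hg x).symm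
    haveI : IsScalarTower R B C' := IsScalarTower.of_algebraMap_eq fun r => by
      rw [IsScalarTower.algebraMap_apply R A C', IsScalarTower.algebraMap_apply R A B]
      exact (hg _).symm
    haveI : IsLocalization (Algebra.algebraMapSubmonoid C (Submonoid.powers a)) C' := by
      rw [Algebra.algebraMapSubmonoid_powers]
      exact (inferInstance : IsLocalization.Away (algebraMap A C a) C')
    haveI : Algebra.FormallySmooth R B := ha.formallySmooth
    obtain ⟨w, b, -, -⟩ := Groth.Agent.SmoothingLib.exists_basis_symConormal φ f hφ hf.symm (Submonoid.powers a) B C'
    exact Module.Free.of_basis b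

end Groth.Agent.S2110
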