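import Groth.Statements.S2111
import Mathlib
import Groth.Agent.WQ7.Galois

set_option autoImplicit false
universe u
open CAlg

namespace Groth.Agent.S2111

/-- Let `R` be a Noetherian normal domain with fraction field `K`. An element of `K` which lies in `R_𝔭`
for every prime `𝔭` of height one lies in `R`. -/
theorem result {R : Type u} [CommRing R] [IsDomain R] [IsNoetherianRing R]
    [IsIntegrallyClosed R] (x : FractionRing R)
    (hx : ∀ (p : Ideal R) [p.IsPrime], p.height = 1 →
      x ∈ Set.range (algebraMap (Localization.AtPrime p) (FractionRing R))) :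
    x ∈ Set.range (algebraMap R (FractionRing R)) := by
  obtain ⟨a, b, hb, rfl⟩ := IsFractionRing.div_surjective R x
  have hb0 : b ≠ 0 := nonZeroDivisors.ne_zero hb
  have hK : algebraMap R (FractionRing R) b ≠ 0 := fun e => hb0 (IsFractionRing.injective R (FractionRing R) (e.trans (map_zero _).symm))
  obtain ⟨c, hc⟩ := Groth.Agent.WQ7.dvd_of_height_le_one (a := a) hb0 fun q hq hq1 => by
    by_cases hbq : b ∈ q
    · have h1 : q.height = 1 := le_antisymm hq1 (Order.one_le_iff_ne_zero.2 fun e =>
        hb0 (Ideal.mem_bot.1 (Ideal.height_eq_zero_iff_eq_bot.1 e ▸ hbq)))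
      obtain ⟨z, hz⟩ := hx q h1
      obtain ⟨u, s, rfl⟩ := IsLocalization.exists_mk'_eq q.primeCompl z
      refine ⟨s, s.2, u, IsFractionRing.injective R (FractionRing R) ?_⟩
      have h2 := IsLocalization.mk'_spec (Localization.AtPrime q) u s
      have h3 := congrArg (algebraMap (Localization.AtPrime q) (FractionRing R)) h2
      rw [map_mul, hz, ← IsScalarTower.algebraMap_apply, ← IsScalarTower.algebraMap_apply] at h3
      rw [map_mul, map_mul, ← h3]
      field_simp
    · exact ⟨b, hbq, a, by ring⟩
  refine ⟨c, ?_⟩
  rw [hc, map_mul]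
  field_simp

end Groth.Agent.S2111
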