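import Groth.Statements.S2112
import Mathlib
import Groth.Agent.CAlgOdd.GeomIrrField

set_option autoImplicit false
universe u
open CAlg

namespace Groth.Agent.S2112

open TensorProduct in
/-- Let `k` be a separably closed field and `R`, `S` two `k`-algebras each having exactly one minimal
prime ideal. Then `R ⊗_k S` has exactly one minimal prime ideal. -/
theorem result {k R S : Type u} [Field k] [IsSepClosed k] [CommRing R] [CommRing S]
    [Algebra k R] [Algebra k S] (hR : CAlgX.HasUniqueMinimalPrime R) (hS : CAlgX.HasUniqueMinimalPrime S) :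
    CAlgX.HasUniqueMinimalPrime (R ⊗[k] S) := by
  open TensorProduct in
  rw [CAlgX.HasUniqueMinimalPrime, Groth.Agent.CAlgOdd.GeomIrrField.hasUniqueMinimalPrime_iff] at hR hS ⊢
  haveI : IsDomain (R ⧸ nilradical R) := (Ideal.Quotient.isDomain_iff_prime _).mpr hR
  haveI : IsDomain (S ⧸ nilradical S) := (Ideal.Quotient.isDomain_iff_prime _).mpr hS
  refine Groth.Agent.CAlgOdd.GeomIrrField.isPrime_nilradical_of_ker_le
    (Algebra.TensorProduct.map (Ideal.Quotient.mkₐ k (nilradical R))
      (Ideal.Quotient.mkₐ k (nilradical S))).toRingHom ?_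
    (TensorProduct.map_surjective Ideal.Quotient.mk_surjective Ideal.Quotient.mk_surjective)
    (Groth.Agent.CAlgOdd.GeomIrrField.isPrime_nilradical_tensor k _ _)
  show RingHom.ker (Algebra.TensorProduct.map (Ideal.Quotient.mkₐ k (nilradical R))
      (Ideal.Quotient.mkₐ k (nilradical S))) ≤ _
  rw [Algebra.TensorProduct.map_ker _ _ Ideal.Quotient.mk_surjective Ideal.Quotient.mk_surjective,
    show RingHom.ker (Ideal.Quotient.mkₐ k (nilradical R)) = nilradical R from Ideal.mk_ker,
    show RingHom.ker (Ideal.Quotient.mkₐ k (nilradical S)) = nilradical S from Ideal.mk_ker, sup_le_iff, Ideal.map_le_iff_le_comap,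
    Ideal.map_le_iff_le_comap]
  exact ⟨fun x hx => mem_nilradical.mpr ((mem_nilradical.mp hx).map _),
    fun x hx => mem_nilradical.mpr ((mem_nilradical.mp hx).map _)⟩

end Groth.Agent.S2112
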