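import Groth.Statements.S2113
import Mathlib

set_option autoImplicit false
universe u
open CAlg

namespace Groth.Agent.S2113

/-- A Noetherian ring in which each prime is maximal or else lies below infinitely many primes is a
Jacobson ring. -/
theorem result {R : Type u} [CommRing R] [IsNoetherianRing R]
    (h : ∀ (p : Ideal R) [p.IsPrime], p.IsMaximal ∨ {q : PrimeSpectrum R | p ≤ q.asIdeal}.Infinite) :
    IsJacobsonRing R := by
  classical
  rw [isJacobsonRing_iff_prime_eq]
  intro p hp
  induction p using WellFoundedGT.induction with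
  | ind p ih =>
    rcases h p with hmax | hinf
    · exact Ideal.jacobson_eq_self_of_isMaximal
    by_contra hne
    obtain ⟨f, hfj, hfp⟩ := SetLike.exists_of_lt (lt_of_le_of_ne (Ideal.le_jacobson (I := p)) (fun e => hne e.symm))
    have hall : ∀ q : Ideal R, q.IsPrime → p < q → f ∈ q := by
      intro q hq hpq
      have := ih q hpq hq
      rw [← this]
      exact Ideal.jacobson_mono hpq.le hfj
    have hA : ∀ x : R, x ∉ p → ∀ P ∈ (p ⊔ Ideal.span {x}).minimalPrimes,
        P ∈ (p ⊔ Ideal.span {f}).minimalPrimes := by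
      intro x hx P hP
      have hPp : P.IsPrime := hP.1.1
      have hpP : p < P := lt_of_le_of_ne (le_trans le_sup_left hP.1.2) (fun e => hx (e ▸
        hP.1.2 (Ideal.mem_sup_right (Ideal.mem_span_singleton_self x))))
      refine ⟨⟨hPp, sup_le hpP.le ((Ideal.span_singleton_le_iff_mem _).mpr (hall P hPp hpP))⟩, ?_⟩
      intro Q hQ hQP
      have hQp : Q.IsPrime := hQ.1
      have hpQ : p < Q := lt_of_le_of_ne (le_trans le_sup_left hQ.2) (fun e => hfp (e ▸
        hQ.2 (Ideal.mem_sup_right (Ideal.mem_span_singleton_self f))))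
      by_contra hPQ
      have hker : RingHom.ker (Ideal.Quotient.mk p) = p := Ideal.mk_ker
      have hsurj := Ideal.Quotient.mk_surjective (I := p)
      have hP' : (P.map (Ideal.Quotient.mk p)).IsPrime :=
        Ideal.map_isPrime_of_surjective hsurj (hker.le.trans hpP.le)
      have hQ' : (Q.map (Ideal.Quotient.mk p)).IsPrime :=
        Ideal.map_isPrime_of_surjective hsurj (hker.le.trans hpQ.le)
      have hmemmap : P.map (Ideal.Quotient.mk p) ∈ (Ideal.span {Ideal.Quotient.mk p x}).minimalPrimes := by
        rw [← Set.image_singleton, ← Ideal.map_span, ← sup_bot_eq ((Ideal.span {x}).map (Ideal.Quotient.mk p)),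
          ← Ideal.map_quotient_self p, ← Ideal.map_sup, sup_comm,
          Ideal.minimalPrimes_map_of_surjective hsurj, hker, sup_comm, ← sup_assoc, sup_idem]
        exact ⟨P, hP, rfl⟩
      have hle := Ideal.height_le_one_of_isPrincipal_of_mem_minimalPrimes _ _ hmemmap
      have hlt1 : Q.map (Ideal.Quotient.mk p) < P.map (Ideal.Quotient.mk p) := by
        refine lt_of_le_not_ge (Ideal.map_mono hQP) fun hle' => hPQ ?_
        have := Ideal.comap_mono (f := Ideal.Quotient.mk p) hle'
        rwa [Ideal.comap_map_mk hpP.le, Ideal.comap_map_mk hpQ.le] at this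
      have hlt0 : (⊥ : Ideal (R ⧸ p)) < Q.map (Ideal.Quotient.mk p) := by
        refine bot_lt_iff_ne_bot.mpr fun hb => hpQ.not_ge ?_
        rw [← Ideal.comap_map_mk (J := Q) hpQ.le, hb]
        exact (Ideal.mk_ker (I := p)).le
      have h0 := Ideal.height_strict_mono_of_isPrime (I := (⊥ : Ideal (R ⧸ p))) hlt0
      have h1 := Ideal.height_strict_mono_of_isPrime hlt1
      rw [ENat.lt_one_iff_eq_zero.mp (h1.trans_le hle)] at h0
      exact not_lt_bot h0
    have hfin : (p ⊔ Ideal.span {f}).minimalPrimes.Finite :=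
      (p ⊔ Ideal.span {f}).finite_minimalPrimes_of_isNoetherianRing R
    refine hinf ((Set.Finite.insert p hfin).preimage (f := PrimeSpectrum.asIdeal)
      (fun a _ b _ hab => PrimeSpectrum.ext hab) |>.subset ?_)
    intro q hq
    rcases eq_or_lt_of_le (show p ≤ q.asIdeal from hq) with e | hpq
    · exact Set.mem_insert_iff.mpr (Or.inl e.symm)
    · refine Set.mem_insert_iff.mpr (Or.inr ?_)
      have hcov : (q.asIdeal : Set R) ⊆ ⋃ P ∈ (hfin.toFinset : Set (Ideal R)), (P : Set R) := by
        intro x hx
        simp only [Set.Finite.coe_toFinset, Set.mem_iUnion]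
        by_cases hxp : x ∈ p
        · obtain ⟨P, hP⟩ := Ideal.nonempty_minimalPrimes (I := p ⊔ Ideal.span {f})
            (fun ht => q.isPrime.ne_top (top_le_iff.mp (ht ▸ sup_le hpq.le
              ((Ideal.span_singleton_le_iff_mem _).mpr (hall _ q.isPrime hpq)))))
          exact ⟨P, hP, hP.1.2 (Ideal.mem_sup_left hxp)⟩
        · obtain ⟨P, hP, hPq⟩ := Ideal.exists_minimalPrimes_le (J := q.asIdeal) (I := p ⊔ Ideal.span {x})
            (sup_le hpq.le ((Ideal.span_singleton_le_iff_mem _).mpr hx))
          exact ⟨P, hA x hxp P hP, hP.1.2 (Ideal.mem_sup_right (Ideal.mem_span_singleton_self x))⟩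
      obtain ⟨P, hP, hqP⟩ := (Ideal.subset_union_prime (f := fun P : Ideal R => P) q.asIdeal q.asIdeal
        (fun P hP _ _ => (show P ∈ _ from hfin.mem_toFinset.mp hP).1.1)).mp hcov
      have hP' := hfin.mem_toFinset.mp hP
      have hmem : q.asIdeal ∈ (p ⊔ Ideal.span {f}).minimalPrimes := by
        have := hP'.2 ⟨q.isPrime, sup_le hpq.le
          ((Ideal.span_singleton_le_iff_mem _).mpr (hall _ q.isPrime hpq))⟩ hqP
        rwa [le_antisymm hqP this]
      exact hmem

end Groth.Agent.S2113
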