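import Groth.Statements.S2114
import Mathlib
import Groth.Agent.CompleteNagata.Complete
import Groth.Agent.N12Aux.Basic

set_option autoImplicit false
universe u
open CAlg

namespace Groth.Agent.S2114

/-- Let `R ⊆ S` be an extension of domains which is of finite type and quasi-finite, with `R` Noetherian
and N-2 (integral closures in finite extensions of the fraction field are finite). Then `S` is N-2. -/
theorem result {R S : Type u} [CommRing R] [IsDomain R] [IsNoetherianRing R] [CommRing S]
    [IsDomain S] [Algebra R S] (hinj : Function.Injective (algebraMap R S)) [Algebra.FiniteType R S]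
    [Algebra.QuasiFinite R S] (hR : CAlg.IsN2 R) : CAlg.IsN2 S := by
  classical
  choose S' hS' r hr hbij using fun q : PrimeSpectrum S =>
    Algebra.QuasiFiniteAt.exists_fg_and_exists_notMem_and_awayMap_bijective (R := R) q.asIdeal
  obtain ⟨t, ht⟩ : ∃ t : Finset (PrimeSpectrum S), Ideal.span (Set.range fun q : t => (r q.1).1) = ⊤ := by
    have htop : Ideal.span (Set.range fun q : PrimeSpectrum S => (r q).1) = ⊤ := by
      by_contra h
      obtain ⟨M, hM, hle⟩ := Ideal.exists_le_maximal _ h
      exact hr ⟨M, hM.isPrime⟩ (hle (Ideal.subset_span ⟨_, rfl⟩))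
    obtain ⟨s, hs, h1⟩ := Submodule.mem_span_finite_of_mem_span ((Ideal.eq_top_iff_one _).1 htop)
    choose g hg using fun z : s => hs z.2
    refine ⟨Finset.univ.image g, (Ideal.eq_top_iff_one _).2 (Submodule.span_mono ?_ h1)⟩
    intro z hz
    exact ⟨⟨g ⟨z, hz⟩, Finset.mem_image_of_mem _ (Finset.mem_univ _)⟩, hg ⟨z, hz⟩⟩
  refine Groth.Agent.N12Aux.isN2_of_cover_ne _ ht fun q hq _ => ?_
  haveI : Module.Finite R (S' q.1) := ⟨(Submodule.fg_top _).mpr (hS' q.1)⟩
  have hS'2 : CAlg.IsN2 (S' q.1) := Groth.Agent.CompleteNagata.isN2_of_finite (algebraMap R (S' q.1))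
    (fun a b h => hinj (congrArg Subtype.val h)) (RingHom.finite_algebraMap.2 inferInstance) hR
  have hr0 : r q.1 ≠ 0 := fun h => hq (by rw [h]; rfl)
  haveI : IsDomain (Localization.Away (r q.1)) :=
    IsLocalization.isDomain_localization (powers_le_nonZeroDivisors_of_noZeroDivisors hr0)
  exact Groth.Agent.N12Aux.isN2_of_ringEquiv (RingEquiv.ofBijective _ (hbij q.1))
    (Groth.Agent.N12Aux.isN2_of_isLocalization hS'2 (Submonoid.powers (r q.1)) _)

end Groth.Agent.S2114
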