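import Groth.Statements.S2115
import Groth.Agent.FPEnough.Descend
import Groth.Agent.QCoh.ExtendFT
import Groth.Agent.LimModLib.Kernel
import Groth.Agent.Algz7.Restrict

set_option autoImplicit false
universe u
open CategoryTheory AlgebraicGeometry
open Mor

namespace Groth.Agent.S2115
set_option backward.isDefEq.respectTransparency false
set_option backward.isDefEq.respectTransparency.types false
open CategoryTheory.Limits Groth.Agent

theorem isIso_restrict_desc {X : Scheme.{u}} (U : X.Opens) {K H L : X.Modules} (ψ : H ⟶ L) [Epi ψ]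
    (i : K ⟶ kernel ψ) [IsIso ((Scheme.Modules.restrictFunctor U.ι).map i)] :
    IsIso ((Scheme.Modules.restrictFunctor U.ι).map
      (cokernel.desc (i ≫ kernel.ι ψ) ψ (by simp))) := by
  let R := Scheme.Modules.restrictFunctor U.ι
  have h1 : R.map (kernel.ι ψ) ≫ R.map (cokernel.π (i ≫ kernel.ι ψ)) = 0 := by
    rw [← cancel_epi (R.map i), ← R.map_comp, ← R.map_comp, ← Category.assoc, cokernel.condition,
      R.map_zero, comp_zero]
  have hc : IsColimit (CokernelCofork.ofπ (R.map ψ)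
      (show R.map (kernel.ι ψ) ≫ R.map ψ = 0 by rw [← R.map_comp, kernel.condition, R.map_zero])) :=
    CokernelCofork.mapIsColimit _ (Abelian.epiIsCokernelOfKernel _ (kernelIsKernel ψ)) R
  obtain ⟨g, hg⟩ := CokernelCofork.IsColimit.desc' hc _ h1
  change R.map ψ ≫ g = _ at hg
  have : Epi (R.map ψ) := R.map_epi ψ
  have : Epi (R.map (cokernel.π (i ≫ kernel.ι ψ))) := R.map_epi _
  refine ⟨g, ?_, ?_⟩
  · rw [← cancel_epi (R.map (cokernel.π (i ≫ kernel.ι ψ))), ← Category.assoc, ← R.map_comp,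
      cokernel.π_desc, Category.comp_id]
    exact hg
  · rw [← cancel_epi (R.map ψ), ← Category.assoc, hg, ← R.map_comp, cokernel.π_desc,
      Category.comp_id]



/-- Let `X` be quasi-compact and quasi-separated, `F` a quasi-coherent `O_X`-module, `U ⊆ X` a
quasi-compact open and `G` a finitely presented `O_U`-module with a map `φ : G → F|_U`. Then there
are a finitely presented `O_X`-module `G'` with a map `φ' : G' → F` and an isomorphism `G'|_U ≅ G`
identifying `φ'|_U` with `φ`. -/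
theorem result (X : Scheme.{u}) [CompactSpace X] [QuasiSeparatedSpace X]
    (F : X.Modules) (hF : Coh.IsQCoh F) (U : X.Opens) (hU : IsCompact (U : Set X)) (G : (U : Scheme.{u}).Modules)
    (hG : CohB1.IsFP G) (φ : G ⟶ F.restrict U.ι) :
    ∃ (G' : X.Modules) (φ' : G' ⟶ F) (e : G'.restrict U.ι ≅ G), CohB1.IsFP G' ∧
      e.hom ≫ φ = (Scheme.Modules.restrictFunctor U.ι).map φ' := by
  have := QCoh.quasiCompact_ι_of_compact U hU
  have : CompactSpace (U : Scheme.{u}) := isCompact_iff_compactSpace.1 hU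
  let R := Scheme.Modules.restrictFunctor U.ι
  let adj := Scheme.Modules.restrictAdjunction U.ι
  have hGq : Coh.IsQCoh G := QCoh.isQCoh_of_isFP hG
  have hGft : CohB1.IsFT G := LimModLib.isFT_of_isFP hGq hG
  let a := (Scheme.Modules.pushforward U.ι).map φ
  let b := adj.unit.app F
  have hP : Coh.IsQCoh (pullback a b) := by
    let l := Abelian.PullbackToBiproductIsKernel.isLimitPullbackToBiproduct a b
    have h := QCoh.isQCoh_kernel (QCoh.isQCoh_X₂ (S := ShortComplex.mk (biprod.inl : _ ⟶ (Scheme.Modules.pushforward U.ι).obj G ⊞ F) biprod.snd biprod.inl_snd) (ShortComplex.Splitting.ofHasBinaryBiproduct _ _).shortExact (QCoh.isQCoh_pushforward U.ι hGq) hF)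
      (QCoh.isQCoh_pushforward U.ι (QCoh.isQCoh_restrict U.ι hF)) (biprod.desc a (-b))
    exact (QCoh.isQCoh_iff_iso (IsLimit.conePointUniqueUpToIso l (limit.isLimit _))).2 h
  have hb : IsIso (R.map b) := by
    have : IsIso (adj.counit.app (R.obj F)) := inferInstance
    rw [show R.map b = inv (adj.counit.app (R.obj F)) from IsIso.eq_inv_of_inv_hom_id (adj.left_triangle_components F)]
    infer_instance
  have hfst : IsIso (R.map (pullback.fst a b)) :=
    ((IsPullback.of_hasPullback a b).map R).isIso_fst_of_isIso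
  let θ := R.map (pullback.fst a b) ≫ adj.counit.app G
  have : IsIso θ := inferInstance
  have hθ : θ ≫ φ = R.map (pullback.snd a b) := by
    have h1 : adj.counit.app G ≫ φ = R.map a ≫ adj.counit.app (F.restrict U.ι) :=
      (adj.counit.naturality φ).symm
    rw [Category.assoc, h1, ← Category.assoc, ← R.map_comp, pullback.condition, R.map_comp,
      Category.assoc]
    erw [adj.left_triangle_components F, Category.comp_id]
  obtain ⟨G₁, i₁, e₁, -, hq₁, hft₁, he₁⟩ :=
    QCoh.exists_extension' hP (QCoh.extStep_qcqs hU) (inv θ) hGq hGft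
  obtain ⟨H₀, ψ, hH₀, hH₀fp, hψ⟩ := FPEnough.exists_epi_isFP hq₁ hft₁
  have hK := QCoh.isQCoh_kernel hH₀ hq₁ ψ
  let ψU : R.obj H₀ ⟶ G := R.map ψ ≫ e₁.hom
  have : Epi (R.map ψ) := R.map_epi ψ
  have hK₀ft : CohB1.IsFT (kernel ψU) := LimModLib.isFT_kernel (QCoh.isQCoh_restrict U.ι hH₀)
    (Algz7.isFT_restrict U.ι hH₀ (LimModLib.isFT_of_isFP hH₀ hH₀fp)) hGq hG ψU
  let j := (kernelCompMono (R.map ψ) e₁.hom ≪≫ (PreservesKernel.iso R ψ).symm).hom
  obtain ⟨K₁, i', e', -, hK₁, hK₁ft, he'⟩ := QCoh.exists_extension' hK (QCoh.extStep_qcqs hU) j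
    (QCoh.isQCoh_kernel (QCoh.isQCoh_restrict U.ι hH₀) hGq ψU) hK₀ft
  have : IsIso (R.map i') := he' ▸ inferInstance
  let d := cokernel.desc (i' ≫ kernel.ι ψ) ψ (by simp)
  have : IsIso (R.map d) := isIso_restrict_desc U ψ i'
  refine ⟨cokernel (i' ≫ kernel.ι ψ), d ≫ i₁ ≫ pullback.snd a b, asIso (R.map d) ≪≫ e₁,
    FPEnough.isFP_cokernel hK₁ hK₁ft hH₀ hH₀fp _, ?_⟩
  change (R.map d ≫ e₁.hom) ≫ φ = R.map (d ≫ i₁ ≫ pullback.snd a b)
  rw [R.map_comp, R.map_comp, ← hθ]
  change _ = R.map d ≫ (Scheme.Modules.restrictFunctor U.ι).map i₁ ≫ θ ≫ φ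
  rw [← he₁]
  simp


end Groth.Agent.S2115
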