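import Groth.Statements.S2117
import Mathlib
import Groth.Agent.S2451
import Groth.Agent.EGA41Lib.FieldFS

set_option autoImplicit false
universe u
open CAlg

namespace Groth.Agent.S2117

/-- Let k be a field of characteristic p > 0 and K a field extension of k. Then K is geometrically
reduced over k (equivalently, K/k is separable: every finitely generated subextension is separably
generated) if and only if the natural base-change map K ⊗_k Ω_{k/ℤ} → Ω_{K/ℤ} on absolute Kähler
differentials is injective. -/
theorem result {k K : Type u} [Field k] [Field K] [Algebra k K] (p : ℕ)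
    [Fact p.Prime] [CharP k p] :
    Algebra.IsGeometricallyReduced k K ↔ Function.Injective (KaehlerDifferential.mapBaseChange ℤ k K) := by
  have hchar : CharP K p := charP_of_injective_algebraMap (algebraMap k K).injective p
  let := ZMod.algebra k p
  let := ZMod.algebra K p
  have : IsScalarTower (ZMod p) k K := IsScalarTower.of_algebraMap_eq' (Subsingleton.elim _ _)
  have : Algebra.FormallySmooth (ZMod p) K := Groth.Agent.EGA41Lib.FieldFS.formallySmooth_of_forall_essFiniteType (ZMod p) K fun F _ => inferInstance
  have hmap : Algebra.H1Cotangent.map ℤ k K K = 0 := by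
    refine LinearMap.ext fun x => ?_
    have h0 : Algebra.H1Cotangent.map ℤ (ZMod p) K K x = 0 := Subsingleton.elim _ _
    have hc : Algebra.H1Cotangent.map ℤ k K K x =
        Algebra.H1Cotangent.map (ZMod p) k K K (Algebra.H1Cotangent.map ℤ (ZMod p) K K x) := by
      simp only [Algebra.H1Cotangent.map]
      rw [← Algebra.Extension.H1Cotangent.map_comp_apply]
      exact LinearMap.congr_fun (Algebra.Extension.H1Cotangent.map_eq _ _) x
    rw [hc, h0, map_zero]
    rfl
  constructor
  · intro h
    have := S2451.result.2 h
    refine (injective_iff_map_eq_zero _).2 fun y hy => ?_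
    obtain ⟨x, rfl⟩ := (Algebra.H1Cotangent.exact_δ_mapBaseChange ℤ k K y).1 hy
    rw [Subsingleton.elim x 0, map_zero]
  · intro h
    refine S2451.result.1 ⟨inferInstance, subsingleton_of_forall_eq 0 fun x => ?_⟩
    have hx : Algebra.H1Cotangent.δ ℤ k K x = 0 := by
      apply h
      rw [map_zero]
      exact (Algebra.H1Cotangent.exact_δ_mapBaseChange ℤ k K).apply_apply_eq_zero x
    obtain ⟨y, rfl⟩ := (Algebra.H1Cotangent.exact_map_δ ℤ k K x).1 hx
    rw [hmap]
    rfl

end Groth.Agent.S2117
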