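import Groth.Statements.S2118
import Mathlib
import Groth.Agent.CAlgOdd.Lazard

set_option autoImplicit false
universe u
open CategoryTheory
open CAlg

namespace Groth.Agent.S2118

/-- An `R`-module `M` is flat if and only if it is isomorphic to the colimit of a diagram of finite free
`R`-modules indexed by a nonempty directed preorder (in the same universe). -/
theorem result {R : Type u} [CommRing R] (M : Type u) [AddCommGroup M] [Module R M] :
    Module.Flat R M ↔
      ∃ (J : Type u) (_ : Preorder J) (_ : IsDirected J (fun a b => a ≤ b)) (_ : Nonempty J)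
        (F : J ⥤ ModuleCat.{u} R), (∀ j, Module.Finite R (F.obj j) ∧ Module.Free R (F.obj j)) ∧
        Nonempty (Limits.colimit F ≅ ModuleCat.of R M) := by
  refine ⟨fun h => ?_, ?_⟩
  · haveI := h
    exact Groth.Agent.CAlgOdd.Lazard.exists_system
  · rintro ⟨J, _, _, _, F, hF, ⟨e⟩⟩
    exact Groth.Agent.CAlgOdd.Lazard.flat_of_system F (fun j => by
      haveI := (hF j).2
      infer_instance) e

end Groth.Agent.S2118
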