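import Groth.Statements.S2123
import Mathlib

set_option autoImplicit false
universe u
open CategoryTheory AlgebraicGeometry
open Mor

namespace Groth.Agent.S2123

/-- Let `X` be an integral separated scheme and `x, y` points such that the closure of `x` is not
contained in the closure of `y`. Then, inside the function field of `X`, the local ring at `x` is
not contained in the local ring at `y`. -/
theorem result (X : Scheme.{u}) [IsIntegral X] [X.IsSeparated] (x y : X)
    (h : ¬ closure ({x} : Set X) ⊆ closure {y}) :
    ¬ Set.range (X.presheaf.stalkSpecializes (genericPoint_specializes x)) ⊆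
        Set.range (X.presheaf.stalkSpecializes (genericPoint_specializes y)) := by
  intro hsub
  apply h
  let ix := X.presheaf.stalkSpecializes (genericPoint_specializes x)
  let iy := X.presheaf.stalkSpecializes (genericPoint_specializes y)
  have hinjy : Function.Injective iy := IsFractionRing.injective (X.presheaf.stalk y) X.functionField
  choose σ hσ using fun a => hsub ⟨a, rfl⟩
  let φ : X.presheaf.stalk x →+* X.presheaf.stalk y :=
    { toFun := σ
      map_one' := hinjy (by rw [hσ, map_one, map_one])
      map_mul' := fun a b => hinjy (by rw [hσ, map_mul, map_mul, hσ, hσ])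
      map_zero' := hinjy (by rw [hσ, map_zero, map_zero])
      map_add' := fun a b => hinjy (by rw [hσ, map_add, map_add, hσ, hσ]) }
  have hφ : CommRingCat.ofHom φ ≫ iy = ix := by ext a; exact hσ a
  have hdom : IsDominant (Spec.map iy) := by
    rw [isDominant_iff]
    exact (PrimeSpectrum.denseRange_comap_iff_ker_le_nilRadical iy.hom).2
      (by rw [(RingHom.injective_iff_ker_eq_bot _).1 hinjy]; exact bot_le)
  have heq : Spec.map (CommRingCat.ofHom φ) ≫ X.fromSpecStalk x = X.fromSpecStalk y := by
    refine ext_of_isDominant (Spec.map iy) ?_
    rw [← Spec.map_comp_assoc, hφ, Scheme.SpecMap_stalkSpecializes_fromSpecStalk,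
      Scheme.SpecMap_stalkSpecializes_fromSpecStalk]
  have hy : y ∈ Set.range (X.fromSpecStalk x) :=
    ⟨Spec.map (CommRingCat.ofHom φ) (IsLocalRing.closedPoint _), by
      show (Spec.map (CommRingCat.ofHom φ) ≫ X.fromSpecStalk x) (IsLocalRing.closedPoint _) = y
      rw [heq]
      exact Scheme.fromSpecStalk_closedPoint⟩
  rw [Scheme.range_fromSpecStalk] at hy
  exact closure_minimal (Set.singleton_subset_iff.2 (specializes_iff_mem_closure.1 hy)) isClosed_closure

end Groth.Agent.S2123
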