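import Groth.Statements.S2126
import Groth.Agent.AmpleX.Basis
import Groth.Agent.AmpleX.Separated
-- import your own Groth.Agent.* helpers here

set_option autoImplicit false
universe u
open CategoryTheory AlgebraicGeometry
open Mor

namespace Groth.Agent.S2126

/-- Let `X` be a quasi-compact scheme and `L` an invertible `O_X`-module. Then `L` is ample if and only
if the opens `X_s`, for `s` a global section of some positive tensor power of `L`, form a basis for
the topology of `X`. -/
theorem result {X : Scheme.{u}} [CompactSpace X] (L : X.Modules) (hL : PicF.IsInvertible L) :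
    CohB1.IsAmple L ↔
      TopologicalSpace.Opens.IsBasis
        {U : X.Opens | ∃ (n : ℕ) (s : Coh.structureModule X ⟶ CohB1.tensorPow L (n + 1)), U = CohB1.genLocus _ s} := by
  constructor
  · intro h
    haveI := Groth.Agent.AmpleX.isSeparated_of_isAmple h
    rw [TopologicalSpace.Opens.isBasis_iff_nbhd]
    intro U x hxU
    obtain ⟨m, hm, s, hxs, hle, -⟩ := Groth.Agent.AmpleX.exists_genLocus_le h hxU
    obtain ⟨k, rfl⟩ := Nat.exists_eq_add_of_le' hm
    exact ⟨_, ⟨k, s, rfl⟩, hxs, hle⟩
  · intro h
    refine ⟨hL, ‹_›, fun x => ?_⟩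
    obtain ⟨V, hV, hxV, -⟩ := TopologicalSpace.Opens.isBasis_iff_nbhd.1 X.isBasis_affineOpens
      (show x ∈ (⊤ : X.Opens) from trivial)
    obtain ⟨_, ⟨n, s, rfl⟩, hxs, hle⟩ := TopologicalSpace.Opens.isBasis_iff_nbhd.1 h hxV
    refine ⟨n, s, hxs, ?_⟩
    have := Groth.Agent.AmpleX.isAffineOpen_inf_genLocus (Groth.Agent.InvX.isInvertible_tensorPow hL (n + 1)) hV s
    rwa [inf_eq_right.2 hle] at this

end Groth.Agent.S2126
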