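import Groth.Statements.S2127
import Groth.Agent.Approx.SectSum

set_option autoImplicit false
set_option backward.isDefEq.respectTransparency false
set_option backward.isDefEq.respectTransparency.types false
universe u
open CategoryTheory AlgebraicGeometry
open Mor

namespace Groth.Agent.S2127

/-- Let `X` be a quasi-affine scheme, `L` an invertible `O_X`-module, `W ⊆ X` open and `E ⊆ W` finite.
Then there is a global section `s` of `L` with `X_s` affine and `E ⊆ X_s ⊆ W`. -/
theorem result {X : Scheme.{u}} [X.IsQuasiAffine] (L : X.Modules) (hL : PicF.IsInvertible L)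
    (W : X.Opens) (E : Set X) (hE : E.Finite) (hEW : E ⊆ W) :
    ∃ s : Coh.structureModule X ⟶ L, IsAffineOpen (CohB1.genLocus L s) ∧ E ⊆ CohB1.genLocus L s ∧
      CohB1.genLocus L s ≤ W := by
  classical
  obtain ⟨Z, hZE, hZ, hmax⟩ := Groth.Agent.Approx.SectSum.exists_closed_points hE
  haveI := (hE.subset hZE).fintype
  let N : Z → X.Opens := fun z => W ⊓ ⟨(⋃ w ∈ Z \ {z.1}, closure {w})ᶜ,
    ((hE.subset hZE).diff.isClosed_biUnion fun w _ => isClosed_closure).isOpen_compl⟩
  have hN : ∀ z : Z, z.1 ∈ N z := fun z => ⟨hEW (hZE z.2), fun hmem => by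
    obtain ⟨w, hw, hzw⟩ := Set.mem_iUnion₂.1 hmem
    exact hw.2 (hZ w hw.1 z z.2 (specializes_iff_mem_closure.2 hzw)).symm⟩
  choose t ht htN hta using fun z : Z =>
    Groth.Agent.Approx.SectSum.exists_genLocus_le_quasiAffine hL (hN z)
  obtain ⟨hle, ha⟩ := Groth.Agent.Approx.SectSum.genLocus_sum t hL hta
  refine ⟨∑ z, t z, ha, fun e he => ?_, hle.trans (iSup_le fun z => (htN z).trans inf_le_left)⟩
  obtain ⟨z₀, hz₀, hez⟩ := hmax e he
  refine hez.mem_open (CohB1.genLocus L _).2
    (Groth.Agent.Approx.SectSum.mem_genLocus_sum t hL ⟨z₀, hz₀⟩ (ht _) fun j hj hmem => ?_)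
  exact (htN j hmem).2 (Set.mem_iUnion₂.2 ⟨z₀, ⟨hz₀, fun h => hj (Subtype.ext h.symm)⟩, subset_closure rfl⟩)

end Groth.Agent.S2127
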