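import Groth.Statements.S2130
import Mathlib
import Groth.Agent.BrnchLib.SmoothCountMain

set_option autoImplicit false
universe u
open CAlg

namespace Groth.Agent.S2130

/-- Let `R → S` be smooth, `𝔮` a prime of `S` over `𝔭` with `κ(𝔮)/κ(𝔭)` purely inseparable, and `A = R_𝔭
→ B = S_𝔮`. Then henselizations of `A` and `B` have the same number of minimal prime ideals (the
same number of branches). -/
theorem result {R S Ah Bh : Type u} [CommRing R] [CommRing S]
    [Algebra R S] [Algebra.Smooth R S] (q : Ideal S) [q.IsPrime] (p : Ideal R) [p.IsPrime] [q.LiesOver p]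
    (hpi : @IsPurelyInseparable p.ResidueField q.ResidueField _ _
      (Ideal.ResidueField.mapₐ p q (Algebra.ofId R S) (q.over_def p)).toRingHom.toAlgebra)
    [CommRing Ah] [IsLocalRing Ah] [Algebra (Localization.AtPrime p) Ah]
    [IsLocalHom (algebraMap (Localization.AtPrime p) Ah)] [Hensel.IsHenselization (Localization.AtPrime p) Ah]
    [CommRing Bh] [IsLocalRing Bh] [Algebra (Localization.AtPrime q) Bh]
    [IsLocalHom (algebraMap (Localization.AtPrime q) Bh)] [Hensel.IsHenselization (Localization.AtPrime q) Bh] :
    (minimalPrimes Ah).encard = (minimalPrimes Bh).encard := by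
  exact Groth.Agent.BrnchLib.encard_minimalPrimes_henz q p hpi

end Groth.Agent.S2130
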