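import Groth.Statements.S2131
import Mathlib

set_option autoImplicit false
universe u
open CAlg

namespace Groth.Agent.S2131

/-- For an `R`-linear map from a finite module to a finitely presented module, the primes at which its
localization is bijective form an open subset of `Spec R`. -/
theorem result {R M N : Type u} [CommRing R] [AddCommGroup M] [Module R M] [Module.Finite R M]
    [AddCommGroup N] [Module R N] [Module.FinitePresentation R N] (φ : M →ₗ[R] N) :
    IsOpen {p : PrimeSpectrum R | Function.Bijective (LocalizedModule.map p.asIdeal.primeCompl φ)} := by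
  refine isOpen_iff_forall_mem_open.mpr fun p hp => ?_
  have hp' : Function.Bijective (IsLocalizedModule.map p.asIdeal.primeCompl
      (LocalizedModule.mkLinearMap p.asIdeal.primeCompl M) (LocalizedModule.mkLinearMap p.asIdeal.primeCompl N) φ) := hp
  obtain ⟨g, hg, hb⟩ := exists_bijective_map_powers p.asIdeal.primeCompl
    (LocalizedModule.mkLinearMap p.asIdeal.primeCompl M) (LocalizedModule.mkLinearMap p.asIdeal.primeCompl N) φ hp'
  have hg' := hb g dvd_rfl
  refine ⟨PrimeSpectrum.basicOpen g, fun q hq => ?_, (PrimeSpectrum.basicOpen g).isOpen, hg⟩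
  have hq' : g ∉ q.asIdeal := hq
  constructor
  · intro x y hxy
    induction x using LocalizedModule.induction_on with
    | h m s =>
    induction y using LocalizedModule.induction_on with
    | h m' s' =>
    rw [LocalizedModule.map_mk, LocalizedModule.map_mk, LocalizedModule.mk_eq] at hxy
    obtain ⟨u, hu⟩ := hxy
    have hz : LocalizedModule.mkLinearMap (Submonoid.powers g) M (((u : R) * s') • m - ((u : R) * s) • m') = 0 := by
      apply hg'.1
      rw [map_zero, LocalizedModule.mkLinearMap_apply, LocalizedModule.map_mk, map_sub, map_smul, map_smul,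
        sub_eq_zero.mpr (by simpa only [Submonoid.smul_def, ← mul_smul] using hu), LocalizedModule.zero_mk]
    obtain ⟨⟨_, k, rfl⟩, hk⟩ := (IsLocalizedModule.eq_zero_iff (Submonoid.powers g) _).mp hz
    rw [LocalizedModule.mk_eq]
    refine ⟨⟨g ^ k * u, q.asIdeal.primeCompl.mul_mem (q.asIdeal.primeCompl.pow_mem hq' k) u.2⟩, ?_⟩
    simp only [Submonoid.smul_def, smul_sub, ← mul_smul, sub_eq_zero] at hk ⊢
    rw [mul_assoc, mul_assoc]
    exact hk
  · intro y
    induction y using LocalizedModule.induction_on with
    | h n s =>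
    obtain ⟨x, hx⟩ := hg'.2 (LocalizedModule.mk n 1)
    induction x using LocalizedModule.induction_on with
    | h m t =>
    obtain ⟨_, k, rfl⟩ := t
    rw [LocalizedModule.map_mk, LocalizedModule.mk_eq] at hx
    obtain ⟨⟨_, l, rfl⟩, hl⟩ := hx
    refine ⟨LocalizedModule.mk m ⟨g ^ k * s, q.asIdeal.primeCompl.mul_mem (q.asIdeal.primeCompl.pow_mem hq' k) s.2⟩, ?_⟩
    rw [LocalizedModule.map_mk, LocalizedModule.mk_eq]
    refine ⟨⟨g ^ l, q.asIdeal.primeCompl.pow_mem hq' l⟩, ?_⟩
    simp only [Submonoid.smul_def, one_smul, ← mul_smul] at hl ⊢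
    rw [show g ^ l * (g ^ k * (s : R)) = (s : R) * (g ^ l * g ^ k) by ring, mul_comm (g ^ l) (s : R), mul_smul, mul_smul (s : R), hl]

end Groth.Agent.S2131
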