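import Groth.Statements.S2132
import Mathlib

set_option autoImplicit false
universe u
open CategoryTheory
open CAlg

namespace Groth.Agent.S2132

/-- Let `F : J ⥤ CommRingCat` be a filtered diagram of henselian local rings with local transition maps
and `c` a colimit cocone. Then the colimit is a henselian local ring. -/
theorem result {J : Type u} [SmallCategory J] [IsFiltered J] (F : J ⥤ CommRingCat.{u})
    (hF : ∀ j, HenselianLocalRing (F.obj j)) (hloc : ∀ (i j : J) (a : i ⟶ j), IsLocalHom (F.map a).hom)
    (c : Limits.Cocone F) (hc : Limits.IsColimit c) : HenselianLocalRing c.pt := by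
  classical
  have hcT := Limits.isColimitOfPreserves (forget CommRingCat.{u}) hc
  have hrep : ∀ x : c.pt, ∃ j, ∃ a : F.obj j, (c.ι.app j).hom a = x := fun x =>
    Limits.Types.jointly_surjective_of_isColimit hcT x
  have hw : ∀ {i j : J} (f : i ⟶ j) (a : F.obj i), (c.ι.app j).hom ((F.map f).hom a) = (c.ι.app i).hom a :=
    fun f a => congrArg (fun φ => φ.hom a) (c.w f)
  have hloc' : ∀ (i : J) (a : F.obj i), IsUnit ((c.ι.app i).hom a) → IsUnit a := by
    intro i a ha
    obtain ⟨b, hb⟩ := ha.exists_right_inv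
    obtain ⟨j, b, rfl⟩ := hrep b
    let k := IsFiltered.max i j
    have h0 : (c.ι.app k).hom ((F.map (IsFiltered.leftToMax i j)).hom a * (F.map (IsFiltered.rightToMax i j)).hom b) =
        (c.ι.app k).hom (1 : F.obj k) := by
      rw [map_mul, map_one, hw, hw, hb]
    obtain ⟨l, f, g, hfg⟩ := (Limits.Types.FilteredColimit.isColimit_eq_iff _ hcT).mp h0
    have hfg' : (F.map f).hom ((F.map (IsFiltered.leftToMax i j)).hom a * (F.map (IsFiltered.rightToMax i j)).hom b) = 1 :=
      hfg.trans (map_one (F.map g).hom)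
    rw [map_mul] at hfg'
    have h1 : IsUnit ((F.map f).hom ((F.map (IsFiltered.leftToMax i j)).hom a)) := IsUnit.of_mul_eq_one _ hfg'
    have := hloc k l f
    have := hloc i k (IsFiltered.leftToMax i j)
    exact IsUnit.of_map (F.map (IsFiltered.leftToMax i j)).hom a (IsUnit.of_map (F.map f).hom _ h1)
  have : Nontrivial c.pt := by
    refine ⟨0, 1, fun h => ?_⟩
    let i := IsFiltered.nonempty.some (α := J)
    have := hF i
    exact not_isUnit_zero (hloc' i 0 (by rw [map_zero, h]; exact isUnit_one))
  have hlocal : IsLocalRing c.pt := IsLocalRing.of_isUnit_or_isUnit_one_sub_self fun x => by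
    obtain ⟨i, a, rfl⟩ := hrep x
    have := hF i
    rcases IsLocalRing.isUnit_or_isUnit_one_sub_self a with ha | ha
    · exact Or.inl (ha.map _)
    · exact Or.inr (by rw [← map_one (c.ι.app i).hom, ← map_sub]; exact ha.map _)
  have hpoly : ∀ p : Polynomial c.pt, ∃ j, p ∈ Polynomial.lifts (c.ι.app j).hom := by
    intro p
    induction p using Polynomial.induction_on' with
    | add p q hp hq =>
      obtain ⟨i, hi⟩ := hp
      obtain ⟨j, hj⟩ := hq
      obtain ⟨p', rfl⟩ := (Polynomial.mem_lifts _).mp hi
      obtain ⟨q', rfl⟩ := (Polynomial.mem_lifts _).mp hj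
      refine ⟨IsFiltered.max i j, (Polynomial.mem_lifts _).mpr
        ⟨p'.map (F.map (IsFiltered.leftToMax i j)).hom + q'.map (F.map (IsFiltered.rightToMax i j)).hom, ?_⟩⟩
      simp only [Polynomial.map_add, Polynomial.map_map]
      congr 2
      · exact RingHom.ext (hw _)
      · exact RingHom.ext (hw _)
    | monomial n x =>
      obtain ⟨j, a, rfl⟩ := hrep x
      exact ⟨j, (Polynomial.mem_lifts _).mpr ⟨Polynomial.monomial n a, Polynomial.map_monomial _⟩⟩
  refine { toIsLocalRing := hlocal, is_henselian := fun p hp x hx hx' => ?_ }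
  obtain ⟨i, hi⟩ := hpoly p
  obtain ⟨p', hp', -, hmon⟩ := Polynomial.lifts_and_natDegree_eq_and_monic hi hp
  obtain ⟨j, a, rfl⟩ := hrep x
  let k := IsFiltered.max i j
  let P := p'.map (F.map (IsFiltered.leftToMax i j)).hom
  let A := (F.map (IsFiltered.rightToMax i j)).hom a
  have hP : P.map (c.ι.app k).hom = p := by
    rw [← hp', Polynomial.map_map]
    congr 1
    exact RingHom.ext (hw _)
  have hA : (c.ι.app k).hom A = (c.ι.app j).hom a := hw _ _
  have := hF k
  have h1 : P.eval A ∈ IsLocalRing.maximalIdeal (F.obj k) := fun hu => hx (by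
    rw [← hP, ← hA, Polynomial.eval_map_apply]; exact hu.map _)
  have h2 : IsUnit (P.derivative.eval A) := hloc' k _ (by
    rw [← Polynomial.eval_map_apply, ← Polynomial.derivative_map, hP, hA]; exact hx')
  obtain ⟨α, hα, hα'⟩ := HenselianLocalRing.is_henselian P (hmon.map _) A h1 h2
  refine ⟨(c.ι.app k).hom α, ?_, fun hu => hα' (hloc' k _ ?_)⟩
  · rw [Polynomial.IsRoot, ← hP, Polynomial.eval_map_apply, hα, map_zero]
  · rw [map_sub, hA]; exact hu

end Groth.Agent.S2132
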