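import Groth.Statements.S2133
import Mathlib

set_option autoImplicit false
universe u
open CAlg

namespace Groth.Agent.S2133

/-- Let `R → R'` be an injective ring map of finite type and `g ∈ R` a nonzerodivisor on `R'` such that
every element of `R'` lands in `R` after multiplication by a power of `g` (so `R_g = R'_g`). Then
for every derivation `D` of `R` there is `N` such that `g^N D` extends to a derivation of `R'`. -/
theorem result {R R' : Type u} [CommRing R] [CommRing R'] [Algebra R R'] [Algebra.FiniteType R R']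
    (hinj : Function.Injective (algebraMap R R')) (g : R) (hg : IsSMulRegular R' (algebraMap R R' g))
    (hloc : ∀ x : R', ∃ n : ℕ, (algebraMap R R' g) ^ n * x ∈ Set.range (algebraMap R R')) (D : Derivation ℤ R R) :
    ∃ (N : ℕ) (D' : Derivation ℤ R' R'), ∀ r : R, D' (algebraMap R R' r) = algebraMap R R' (g ^ N * D r) := by
  classical
  let g' := algebraMap R R' g
  let L := Localization.Away g'
  let ι := algebraMap R' L
  have hι : Function.Injective ι := by
    rw [injective_iff_map_eq_zero]
    intro x hx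
    obtain ⟨⟨_, n, rfl⟩, hn⟩ := (IsLocalization.map_eq_zero_iff (Submonoid.powers g') L x).mp hx
    refine (hg.pow n) ?_
    show g' ^ n • x = g' ^ n • (0 : R')
    rw [smul_zero, smul_eq_mul]
    exact hn
  haveI : IsLocalization.Away g L := by
    rw [IsLocalization.Away, isLocalization_iff]
    refine ⟨?_, ?_, ?_⟩
    · rintro ⟨_, n, rfl⟩
      rw [IsScalarTower.algebraMap_apply R R' L, map_pow]
      exact IsLocalization.map_units L (⟨g' ^ n, n, rfl⟩ : Submonoid.powers g')
    · intro z
      obtain ⟨⟨x, ⟨_, m, rfl⟩⟩, hz⟩ := IsLocalization.surj (Submonoid.powers g') z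
      obtain ⟨n, r, hr⟩ := hloc x
      refine ⟨⟨r, ⟨g ^ (n + m), n + m, rfl⟩⟩, ?_⟩
      show z * algebraMap R L (g ^ (n + m)) = algebraMap R L r
      rw [IsScalarTower.algebraMap_apply R R' L, IsScalarTower.algebraMap_apply R R' L r, hr, map_pow, pow_add,
        map_mul, map_mul, ← hz]
      show z * (ι (g' ^ n) * ι (g' ^ m)) = ι (g' ^ n) * (z * ι (g' ^ m))
      ring
    · intro x y h
      refine ⟨1, ?_⟩
      rw [IsScalarTower.algebraMap_apply R R' L, IsScalarTower.algebraMap_apply R R' L y] at h
      rw [hinj (hι h)]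
  let φ : R →+* TrivSqZeroExt L L :=
    { toFun := fun r => TrivSqZeroExt.inl (algebraMap R L r) + TrivSqZeroExt.inr (algebraMap R L (D r))
      map_one' := by simp
      map_mul' := fun r s => by
        refine TrivSqZeroExt.ext ?_ ?_ <;> simp [map_add, mul_comm] <;> ring
      map_zero' := by simp
      map_add' := fun r s => by refine TrivSqZeroExt.ext ?_ ?_ <;> simp <;> ring }
  have hφg : IsUnit (φ g) := by
    rw [TrivSqZeroExt.isUnit_iff_isUnit_fst]
    simpa [φ] using IsLocalization.Away.algebraMap_isUnit (S := L) g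
  let Φ : L →+* TrivSqZeroExt L L := IsLocalization.Away.lift g hφg
  have hΦ : ∀ r, Φ (algebraMap R L r) = φ r := IsLocalization.Away.lift_eq g hφg
  have hfst : ∀ z, (Φ z).fst = z := by
    have : (TrivSqZeroExt.fstHom L L L).toRingHom.comp Φ = RingHom.id L :=
      IsLocalization.ringHom_ext (Submonoid.powers g) (RingHom.ext fun r => by
        show (Φ (algebraMap R L r)).fst = algebraMap R L r
        rw [hΦ]
        simp [φ])
    exact fun z => DFunLike.congr_fun this z
  let δ : R' → L := fun x => (Φ (ι x)).snd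
  have hδmul : ∀ x y, δ (x * y) = ι x * δ y + ι y * δ x := fun x y => by
    simp only [δ, map_mul, TrivSqZeroExt.snd_mul, hfst, smul_eq_mul, op_smul_eq_smul]
  have hδadd : ∀ x y, δ (x + y) = δ x + δ y := fun x y => by simp [δ]
  have hδR : ∀ r, δ (algebraMap R R' r) = ι (algebraMap R R' (D r)) := fun r => by
    simp only [δ, ι]
    rw [← IsScalarTower.algebraMap_apply, ← IsScalarTower.algebraMap_apply, hΦ]
    simp [φ]
  obtain ⟨s, hs⟩ : (⊤ : Subalgebra R R').FG := Algebra.FiniteType.out
  have hclear : ∀ x : R', ∃ N, ι g' ^ N * δ x ∈ Set.range ι := by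
    intro x
    obtain ⟨⟨y, ⟨_, n, rfl⟩⟩, hy⟩ := IsLocalization.surj (Submonoid.powers g') (δ x)
    exact ⟨n, y, by rw [← map_pow, mul_comm]; exact hy.symm⟩
  choose Nx hNx using hclear
  let N := s.sup Nx
  have hall : ∀ x : R', ∃ y, ι y = ι g' ^ N * δ x := by
    intro x
    have hx : x ∈ Algebra.adjoin R (s : Set R') := hs ▸ Algebra.mem_top
    induction hx using Algebra.adjoin_induction with
    | mem z hz =>
      obtain ⟨y, hy⟩ := hNx z
      refine ⟨g' ^ (N - Nx z) * y, ?_⟩
      rw [map_mul, hy, map_pow, ← mul_assoc, ← pow_add, Nat.sub_add_cancel (Finset.le_sup (f := Nx) hz)]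
    | algebraMap r => exact ⟨g' ^ N * algebraMap R R' (D r), by rw [map_mul, map_pow, hδR]⟩
    | add u v _ _ hu hv =>
      obtain ⟨y, hy⟩ := hu; obtain ⟨w, hw⟩ := hv
      exact ⟨y + w, by rw [map_add, hy, hw, hδadd, mul_add]⟩
    | mul u v _ _ hu hv =>
      obtain ⟨y, hy⟩ := hu; obtain ⟨w, hw⟩ := hv
      exact ⟨u * w + v * y, by rw [map_add, map_mul, map_mul, hy, hw, hδmul]; ring⟩
  choose d hd using hall
  have hdadd : ∀ x y, d (x + y) = d x + d y := fun x y => hι (by rw [map_add, hd, hd, hd, hδadd, mul_add])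
  refine ⟨N, Derivation.mk' (AddMonoidHom.mk' d hdadd).toIntLinearMap fun x y => hι ?_, fun r => hι ?_⟩
  · show ι (d (x * y)) = ι (x * d y + y * d x)
    rw [map_add, map_mul, map_mul, hd, hd, hd, hδmul]
    ring
  · show ι (d (algebraMap R R' r)) = _
    rw [hd, hδR, map_mul, map_pow, map_mul, map_pow]

end Groth.Agent.S2133
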