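import Groth.Statements.S2134
import Mathlib

set_option autoImplicit false
universe u
open CAlg

namespace Groth.Agent.S2134

/-- Let `K/k` be a field extension and `(K_α)` a nonempty family of intermediate fields, directed
downwards, with intersection `k`. For a `K`-subspace `V` of `K^n` (`n ≥ 1`), `V` contains a nonzero
vector with all coordinates in `k` if and only if for every `α` it contains a nonzero vector with
all coordinates in `K_α`. -/
theorem result {k K : Type u} [Field k] [Field K] [Algebra k K] {ι : Type u} [Nonempty ι]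
    (F : ι → IntermediateField k K) (hdir : ∀ a b : ι, ∃ c, F c ≤ F a ⊓ F b) (hinf : ⨅ a, F a = ⊥) (n : ℕ) (hn : 1 ≤ n)
    (V : Submodule K (Fin n → K)) :
    (∃ v ∈ V, v ≠ 0 ∧ ∀ i, v i ∈ Set.range (algebraMap k K)) ↔
      ∀ a, ∃ v ∈ V, v ≠ 0 ∧ ∀ i, v i ∈ F a := by
  classical
  constructor
  · rintro ⟨v, hv, hne, hk⟩ a
    exact ⟨v, hv, hne, fun i => by obtain ⟨c, hc⟩ := hk i; rw [← hc]; exact (F a).algebraMap_mem c⟩
  · intro h
    let good : Finset (Fin n) → Prop := fun T => ∀ a, ∃ v ∈ V, v ≠ 0 ∧ (∀ i, v i ∈ F a) ∧ ∀ i, i ∉ T → v i = 0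
    have hgood : good Finset.univ := fun a => by
      obtain ⟨v, hv, hne, hF⟩ := h a
      exact ⟨v, hv, hne, hF, fun i hi => absurd (Finset.mem_univ i) hi⟩
    obtain ⟨T, hT, hmin⟩ := Finset.exists_min_image ((Finset.univ : Finset (Finset (Fin n))).filter good)
      Finset.card ⟨Finset.univ, by simp [hgood]⟩
    simp only [Finset.mem_filter, Finset.mem_univ, true_and] at hT hmin
    have hbad : ∀ j ∈ T, ∃ a, ∀ v ∈ V, (∀ i, v i ∈ F a) → (∀ i, i ∉ T.erase j → v i = 0) → v = 0 := by
      intro j hj
      by_contra hcon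
      push Not at hcon
      have hg : good (T.erase j) := fun a => by
        obtain ⟨v, hv, h1, h2, h3⟩ := hcon a
        exact ⟨v, hv, h3, h1, h2⟩
      exact absurd (hmin _ hg) (not_le.mpr (Finset.card_erase_lt_of_mem hj))
    have hbound : ∀ T' : Finset (Fin n), T' ⊆ T → ∃ c, ∀ j ∈ T', ∀ v ∈ V, (∀ i, v i ∈ F c) →
        (∀ i, i ∉ T.erase j → v i = 0) → v = 0 := by
      intro T'
      induction T' using Finset.induction with
      | empty => exact fun _ => ⟨Classical.arbitrary ι, by simp⟩
      | @insert j T' hj ih =>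
        intro hsub
        obtain ⟨c, hc⟩ := ih fun x hx => hsub (Finset.mem_insert_of_mem hx)
        obtain ⟨a, ha⟩ := hbad j (hsub (Finset.mem_insert_self j T'))
        obtain ⟨e, he⟩ := hdir c a
        refine ⟨e, fun l hl v hv hF hz => ?_⟩
        rcases Finset.mem_insert.mp hl with rfl | hl'
        · exact ha v hv (fun i => (le_inf_iff.mp he).2 (hF i)) hz
        · exact hc l hl' v hv (fun i => (le_inf_iff.mp he).1 (hF i)) hz
    obtain ⟨c, hc⟩ := hbound T subset_rfl
    obtain ⟨j, hj⟩ : T.Nonempty := by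
      rw [Finset.nonempty_iff_ne_empty]
      intro hT0
      obtain ⟨v, -, hne, -, hz⟩ := hT c
      exact hne (funext fun i => hz i (by simp [hT0]))
    -- the normalised vector
    have hnorm : ∀ a, F a ≤ F c → ∃ v ∈ V, v j = 1 ∧ (∀ i, v i ∈ F a) ∧ ∀ i, i ∉ T → v i = 0 := by
      intro a ha
      obtain ⟨v, hv, hne, hF, hz⟩ := hT a
      have hvj : v j ≠ 0 := fun h0 => hne (hc j hj v hv (fun i => ha (hF i)) fun i hi => by
        rw [Finset.mem_erase, not_and_or, not_not] at hi
        rcases hi with rfl | hi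
        · exact h0
        · exact hz i hi)
      exact ⟨(v j)⁻¹ • v, V.smul_mem _ hv, by simp [hvj],
        fun i => by simpa using (F a).mul_mem ((F a).inv_mem (hF j)) (hF i),
        fun i hi => by simp [hz i hi]⟩
    obtain ⟨v, hv, hvj, hvF, hvz⟩ := hnorm c le_rfl
    refine ⟨v, hv, fun h0 => ?_, fun i => ?_⟩
    · have := congrFun h0 j
      rw [hvj] at this
      exact one_ne_zero this
    · have hall : ∀ a, v i ∈ F a := by
        intro a
        obtain ⟨e, he⟩ := hdir a c
        obtain ⟨w, hw, hwj, hwF, hwz⟩ := hnorm e (le_inf_iff.mp he).2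
        have hsub : v - w = 0 := hc j hj _ (V.sub_mem hv hw)
          (fun l => (F c).sub_mem (hvF l) ((le_inf_iff.mp he).2 (hwF l))) fun l hl => by
            rw [Finset.mem_erase, not_and_or, not_not] at hl
            rcases hl with rfl | hl
            · simp [hvj, hwj]
            · simp [hvz l hl, hwz l hl]
        rw [sub_eq_zero.mp hsub]
        exact (le_inf_iff.mp he).1 (hwF i)
      have : v i ∈ (⨅ a, F a : IntermediateField k K) := by
        rw [← SetLike.mem_coe, IntermediateField.coe_iInf, Set.mem_iInter]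
        exact hall
      rw [hinf, IntermediateField.mem_bot] at this
      exact this

end Groth.Agent.S2134
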