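import Groth.Statements.S2135
import Mathlib
import Groth.Agent.BrnchLib.HenzStrict
import Groth.Agent.BrnchLib.Unibranch

set_option autoImplicit false
universe u
open CAlg

namespace Groth.Agent.S2135

/-- A local ring `A` is geometrically unibranch if and only if a strict henselization of `A` has a
unique minimal prime ideal. -/
theorem result {A Ash : Type u} [CommRing A] [IsLocalRing A]
    [CommRing Ash] [IsLocalRing Ash] [Algebra A Ash] [IsLocalHom (algebraMap A Ash)]
    [Hensel.IsStrictHenselization A Ash] :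
    CAlg2.IsGeomUnibranch A ↔ CAlgX.HasUniqueMinimalPrime Ash := by
  rw [← Groth.Agent.BrnchLib.isGeomUnibranch_iff A, ← Groth.Agent.BrnchLib.card_minimalPrimes_strictHenselization A Ash]
  unfold CAlgX.HasUniqueMinimalPrime
  rw [ENat.card_eq_one_iff_unique]
  constructor
  · rintro ⟨hs⟩
    exact ⟨hs.default.1, hs.default.2, fun y hy => congrArg Subtype.val (hs.uniq ⟨y, hy⟩)⟩
  · rintro ⟨x, hx, hu⟩
    exact ⟨⟨⟨⟨x, hx⟩⟩, fun a => Subtype.ext (hu a.1 a.2)⟩⟩

end Groth.Agent.S2135
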