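import Groth.Statements.S2138
import Mathlib
import Groth.Agent.SymbPowLib.Basic

set_option autoImplicit false
universe u
open CAlg

namespace Groth.Agent.S2138

/-- Let `R → S` be flat and `𝔭` a prime of `R` whose extension `𝔮 = 𝔭S` is prime. Then for every `n` the
extension to `S` of the symbolic power `𝔭^{(n)}` (the contraction of `𝔭ⁿR_𝔭`) equals the symbolic
power `𝔮^{(n)}`. -/
theorem result {R S : Type u} [CommRing R] [CommRing S] [Algebra R S] [Module.Flat R S]
    (p : Ideal R) [p.IsPrime] [(p.map (algebraMap R S)).IsPrime] (n : ℕ) :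
    (((p ^ n).map (algebraMap R (Localization.AtPrime p))).comap (algebraMap R (Localization.AtPrime p))).map
        (algebraMap R S) =
      (((p.map (algebraMap R S)) ^ n).map (algebraMap S (Localization.AtPrime (p.map (algebraMap R S))))).comap
        (algebraMap S (Localization.AtPrime (p.map (algebraMap R S)))) := by
  set q := p.map (algebraMap R S) with hq
  apply le_antisymm
  · rw [Ideal.map_le_iff_le_comap]
    intro x hx
    rw [Ideal.mem_comap, IsLocalization.algebraMap_mem_map_algebraMap_iff p.primeCompl] at hx
    obtain ⟨s, hs, hsx⟩ := hx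
    rw [Ideal.mem_comap, Ideal.mem_comap, IsLocalization.algebraMap_mem_map_algebraMap_iff q.primeCompl]
    refine ⟨algebraMap R S s, ?_, ?_⟩
    · intro hmem
      haveI : q.IsPrime := inferInstance
      obtain ⟨Q, hQle, hQp, hQ⟩ := Ideal.exists_ideal_le_liesOver_of_le (R := R) (S := S) q (p := p)
        (q := q.comap (algebraMap R S)) Ideal.le_comap_map
      have hqQ : q ≤ Q := Ideal.map_le_iff_le_comap.mpr hQ.over.le
      have : p = q.comap (algebraMap R S) := by rw [hQ.over, le_antisymm hQle hqQ]
      exact hs (this ▸ hmem)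
    · rw [← map_mul, ← Ideal.map_pow]
      exact Ideal.mem_map_of_mem _ hsx
  · intro y hy
    rw [Ideal.mem_comap, IsLocalization.algebraMap_mem_map_algebraMap_iff q.primeCompl] at hy
    obtain ⟨t, ht, hty⟩ := hy
    exact Groth.Agent.SymbPowLib.symbolicPower_map p inferInstance n ht (by rwa [Ideal.map_pow])

end Groth.Agent.S2138
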