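import Mathlib
import Groth.Agent.GenFree.Basic

/-! Auxiliary lemma for generic finite presentation. -/

universe u

namespace Groth.Agent.S2140Aux

theorem exists_pow_smul_mem {R0 R : Type u} [CommRing R0] [IsDomain R0] [IsNoetherianRing R0] [CommRing R]
    [IsDomain R] [Algebra R0 R] [FaithfulSMul R0 R] {n : ℕ} (p0 : Ideal (MvPolynomial (Fin n) R0))
    (p : Ideal (MvPolynomial (Fin n) R)) (hspan : p.map (MvPolynomial.map (algebraMap R (FractionRing R))) ≤
      (p0.map (MvPolynomial.map (algebraMap R0 R))).map (MvPolynomial.map (algebraMap R (FractionRing R)))) :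
    ∃ f : R, f ≠ 0 ∧ ∀ h ∈ p, ∃ N : ℕ, f ^ N • h ∈ p0.map (MvPolynomial.map (algebraMap R0 R)) := by
  classical
  let K := FractionRing R
  let mK : MvPolynomial (Fin n) R →+* MvPolynomial (Fin n) K := MvPolynomial.map (algebraMap R K)
  let m0 : MvPolynomial (Fin n) R0 →+* MvPolynomial (Fin n) R := MvPolynomial.map (algebraMap R0 R)
  let S0 := MvPolynomial (Fin n) R0 ⧸ p0
  obtain ⟨f0, hf0, ι, φ, hφ, hr⟩ := Groth.Agent.GenFree.exists_gfree (R := R0) S0 (M := S0)
  let f : R := algebraMap R0 R f0
  have hf : f ≠ 0 := (map_ne_zero_iff _ (FaithfulSMul.algebraMap_injective R0 R)).mpr hf0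
  choose e he using fun i : ι => Ideal.Quotient.mk_surjective (φ (Finsupp.single i 1))
  let J : Ideal (MvPolynomial (Fin n) R) := p0.map m0
  -- every polynomial is, up to a power of `f`, a combination of the basis modulo `J`
  let L : (ι →₀ R) →ₗ[R] MvPolynomial (Fin n) R := Finsupp.linearCombination R (fun i => m0 (e i))
  let L0 : (ι →₀ R0) →ₗ[R0] MvPolynomial (Fin n) R0 := Finsupp.linearCombination R0 e
  have hs : ∀ (d : R0) (x : MvPolynomial (Fin n) R0), m0 (d • x) = algebraMap R0 R d • m0 x := fun d x => by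
    rw [MvPolynomial.smul_eq_C_mul, map_mul, MvPolynomial.map_C, MvPolynomial.smul_eq_C_mul]
  have hL0 : ∀ r0, Ideal.Quotient.mkₐ R0 p0 (L0 r0) = φ r0 := fun r0 => by
    have : (Ideal.Quotient.mkₐ R0 p0).toLinearMap ∘ₗ L0 = φ := Finsupp.lhom_ext fun i d => by
      simp only [L0, LinearMap.comp_apply, Finsupp.linearCombination_single, map_smul, AlgHom.toLinearMap_apply,
        Ideal.Quotient.mkₐ_eq_mk, he]
      rw [← map_smul φ, Finsupp.smul_single, smul_eq_mul, mul_one]
    exact DFunLike.congr_fun this r0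
  have hLm : ∀ r0, L (r0.mapRange (algebraMap R0 R) (map_zero _)) = m0 (L0 r0) := fun r0 => by
    induction r0 using Finsupp.induction_linear with
    | zero => simp
    | add x y hx hy => rw [Finsupp.mapRange_add (map_add _), map_add, map_add, map_add, hx, hy]
    | single i d => rw [Finsupp.mapRange_single]; simp only [L, L0, Finsupp.linearCombination_single, hs]
  have key : ∀ h : MvPolynomial (Fin n) R, ∃ (N : ℕ) (r : ι →₀ R), f ^ N • h - L r ∈ J := by
    intro h
    induction h using MvPolynomial.induction_on' with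
    | add a b ha hb =>
      obtain ⟨N, r, hN⟩ := ha
      obtain ⟨N', r', hN'⟩ := hb
      refine ⟨N + N', f ^ N' • r + f ^ N • r', ?_⟩
      have := J.add_mem (Submodule.smul_of_tower_mem J (f ^ N') hN) (Submodule.smul_of_tower_mem J (f ^ N) hN')
      convert this using 1
      simp only [map_add, map_smul, smul_sub, smul_smul, smul_add, pow_add]
      rw [mul_comm (f ^ N') (f ^ N)]
      abel
    | monomial a c =>
      obtain ⟨N, r0, hN⟩ := hr (Ideal.Quotient.mk p0 (MvPolynomial.monomial a 1))
      refine ⟨N, c • r0.mapRange (algebraMap R0 R) (map_zero _), ?_⟩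
      have h1 : f0 ^ N • MvPolynomial.monomial a (1 : R0) - L0 r0 ∈ p0 := by
        rw [← Ideal.Quotient.eq_zero_iff_mem, ← Ideal.Quotient.mkₐ_eq_mk R0, map_sub, map_smul, hL0, hN,
          Ideal.Quotient.mkₐ_eq_mk, sub_self]
      have h2 := Submodule.smul_of_tower_mem J c (Ideal.mem_map_of_mem m0 h1)
      rw [map_sub, hs, smul_sub, MvPolynomial.map_monomial, map_one, map_pow] at h2
      rw [map_smul, hLm]
      convert h2 using 2
      rw [smul_comm, MvPolynomial.smul_monomial c, smul_eq_mul, mul_one]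
  -- linear independence after tensoring with `K`
  haveI : FaithfulSMul R0 K := (faithfulSMul_iff_algebraMap_injective R0 K).mpr (by
    rw [IsScalarTower.algebraMap_eq R0 R K]
    exact (IsFractionRing.injective R K).comp (FaithfulSMul.algebraMap_injective R0 R))
  letI : Algebra (FractionRing R0) K := FractionRing.liftAlgebra R0 K
  haveI : Module.Flat R0 K := Module.Flat.trans R0 (FractionRing R0) K
  let Φ : MvPolynomial (Fin n) R →ₐ[R] TensorProduct R0 K S0 :=
    MvPolynomial.aeval fun i => (1 : K) ⊗ₜ[R0] Ideal.Quotient.mk p0 (MvPolynomial.X i)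
  let ΦK : MvPolynomial (Fin n) K →ₐ[K] TensorProduct R0 K S0 :=
    MvPolynomial.aeval fun i => (1 : K) ⊗ₜ[R0] Ideal.Quotient.mk p0 (MvPolynomial.X i)
  have hΦK : ∀ h, ΦK (mK h) = Φ h := fun h => MvPolynomial.aeval_map_algebraMap K _ h
  have hΦ0 : ∀ h0, Φ (m0 h0) = (1 : K) ⊗ₜ[R0] Ideal.Quotient.mk p0 h0 := by
    intro h0
    have : ((Φ.restrictScalars R0).comp (MvPolynomial.mapAlgHom (Algebra.ofId R0 R))) =
        (Algebra.TensorProduct.includeRight : S0 →ₐ[R0] TensorProduct R0 K S0).comp (Ideal.Quotient.mkₐ R0 p0) :=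
      MvPolynomial.algHom_ext fun i => by simp [Φ, Ideal.Quotient.mkₐ_eq_mk]; rfl
    exact DFunLike.congr_fun this h0
  have hΦJ : ∀ h ∈ J, Φ h = 0 := by
    intro h hh
    have : J ≤ RingHom.ker Φ := Ideal.map_le_iff_le_comap.mpr fun x hx => by
      rw [Ideal.mem_comap, RingHom.mem_ker, hΦ0, Ideal.Quotient.eq_zero_iff_mem.mpr hx, TensorProduct.tmul_zero]
    exact this hh
  have hΦp : ∀ h ∈ p, Φ h = 0 := by
    intro h hh
    rw [← hΦK]
    have h2 : (J.map mK) ≤ RingHom.ker ΦK := Ideal.map_le_iff_le_comap.mpr fun x hx => by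
      rw [Ideal.mem_comap, RingHom.mem_ker, hΦK]
      exact hΦJ x hx
    exact h2 (hspan (Ideal.mem_map_of_mem mK hh))
  have hker : ∀ h ∈ p, ∃ N, f ^ N • h ∈ J := by
    intro h hh
    obtain ⟨N, r, hN⟩ := key h
    refine ⟨N, ?_⟩
    have h1 := hΦJ _ hN
    rw [map_sub, map_smul, hΦp h hh, smul_zero, zero_sub, neg_eq_zero, Finsupp.linearCombination_apply,
      map_finsuppSum] at h1
    have h2 : φ.lTensor K (r.sum fun i c => algebraMap R K c ⊗ₜ[R0] Finsupp.single i 1) = 0 := by
      rw [map_finsuppSum, ← h1]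
      refine Finsupp.sum_congr fun i _ => ?_
      rw [LinearMap.lTensor_tmul, map_smul, hΦ0, he, TensorProduct.smul_tmul', Algebra.smul_def, mul_one]
    have h3 := (injective_iff_map_eq_zero _).mp (Module.Flat.lTensor_preserves_injective_linearMap φ hφ) _ h2
    have hr0 : r = 0 := by
      ext i
      have h4 := congrArg (fun z => (TensorProduct.finsuppScalarRight R0 R0 K ι z) i) h3
      simp only [map_finsuppSum, map_zero, Finsupp.sum_apply, Finsupp.zero_apply,
        TensorProduct.finsuppScalarRight_apply_tmul_apply, Finsupp.single_apply, ite_smul, one_smul, zero_smul,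
        Finsupp.sum_ite_eq'] at h4
      rw [Finsupp.zero_apply]
      by_cases hi : i ∈ r.support
      · rw [if_pos hi] at h4
        exact (injective_iff_map_eq_zero _).mp (IsFractionRing.injective R K) _ h4
      · exact Finsupp.notMem_support_iff.mp hi
    simpa [hr0] using hN
  exact ⟨f, hf, hker⟩

end Groth.Agent.S2140Aux
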