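import Groth.Statements.S2140
import Mathlib
import Groth.Agent.S2140Aux

set_option autoImplicit false
universe u
open CAlg

namespace Groth.Agent.S2140

/-- Let `R → S` be an injective ring map of finite type between domains. Then there are nonzero `f ∈ R`
and `g ∈ S` such that `S_{fg}` is a finitely presented `R_f`-algebra. -/
theorem result {R S : Type u} [CommRing R] [IsDomain R] [CommRing S] [IsDomain S]
    [Algebra R S] [Algebra.FiniteType R S] (hinj : Function.Injective (algebraMap R S)) :
    ∃ (f : R) (g : S), f ≠ 0 ∧ g ≠ 0 ∧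
      ∀ (Rf Sfg : Type u) [CommRing Rf] [CommRing Sfg] [Algebra R Rf] [IsLocalization.Away f Rf]
        [Algebra S Sfg] [IsLocalization.Away (algebraMap R S f * g) Sfg] [Algebra Rf Sfg] [Algebra R Sfg]
        [IsScalarTower R S Sfg] [IsScalarTower R Rf Sfg], Algebra.FinitePresentation Rf Sfg := by
  classical
  obtain ⟨n, π, hπ⟩ := Algebra.FiniteType.iff_quotient_mvPolynomial''.1 (‹Algebra.FiniteType R S›)
  let K := FractionRing R
  let mK : MvPolynomial (Fin n) R →+* MvPolynomial (Fin n) K := MvPolynomial.map (algebraMap R K)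
  let p := RingHom.ker π
  obtain ⟨T, hT, hTeq⟩ := (Submodule.fg_span_iff_fg_span_finset_subset (R := MvPolynomial (Fin n) K)
    (mK '' (p : Set (MvPolynomial (Fin n) R)))).mp (IsNoetherian.noetherian _)
  choose g hgp hg using fun t : T => hT t.2
  let cs : Finset R := Finset.univ.biUnion fun t : T => (g t).coeffs
  let R0 := Algebra.adjoin ℤ (cs : Set R)
  haveI : Algebra.FiniteType ℤ R0 := Algebra.FiniteType.adjoin_of_finite cs.finite_toSet
  haveI : IsNoetherianRing R0 := Algebra.FiniteType.isNoetherianRing ℤ R0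
  let m0 : MvPolynomial (Fin n) R0 →+* MvPolynomial (Fin n) R := MvPolynomial.map (algebraMap R0 R)
  have hlift : ∀ t : T, ∃ F, m0 F = g t := fun t => by
    show g t ∈ Set.range (MvPolynomial.map (algebraMap R0 R))
    rw [MvPolynomial.mem_range_map_iff_coeffs_subset]
    intro x hx
    exact ⟨⟨x, Algebra.subset_adjoin (Finset.mem_biUnion.mpr ⟨t, Finset.mem_univ _, hx⟩)⟩, rfl⟩
  choose F hF using hlift
  let p0 : Ideal (MvPolynomial (Fin n) R0) := Ideal.span (Set.range F)
  haveI : FaithfulSMul R0 R := (faithfulSMul_iff_algebraMap_injective R0 R).mpr Subtype.val_injective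
  let J : Ideal (MvPolynomial (Fin n) R) := p0.map m0
  have hJp : J ≤ p := by
    rw [Ideal.map_le_iff_le_comap, Ideal.span_le]
    rintro _ ⟨t, rfl⟩
    show m0 (F t) ∈ p
    rw [hF]
    exact hgp t
  obtain ⟨f, hf, hker⟩ := Groth.Agent.S2140Aux.exists_pow_smul_mem p0 p (by
    rw [Ideal.map_le_iff_le_comap]
    intro h hh
    have h1 : mK h ∈ Submodule.span (MvPolynomial (Fin n) K) (T : Set (MvPolynomial (Fin n) K)) := by
      rw [← hTeq]
      exact Submodule.subset_span ⟨h, hh, rfl⟩
    show mK h ∈ (J.map mK : Ideal (MvPolynomial (Fin n) K))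
    refine (Submodule.span_le.mpr fun t ht => ?_ : _ ≤ (J.map mK : Ideal (MvPolynomial (Fin n) K))) h1
    show ((⟨t, ht⟩ : T) : MvPolynomial (Fin n) K) ∈ J.map mK
    rw [← hg ⟨t, ht⟩, ← hF]
    exact Ideal.mem_map_of_mem mK (Ideal.mem_map_of_mem m0 (Ideal.subset_span ⟨_, rfl⟩)))
  refine ⟨f, 1, hf, one_ne_zero, fun Rf Sfg _ _ _ _ _ _ _ _ _ _ => ?_⟩
  haveI : IsLocalization.Away (algebraMap R S f) Sfg := by
    rw [show algebraMap R S f = algebraMap R S f * 1 from (mul_one _).symm]; infer_instance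
  let Ψ : MvPolynomial (Fin n) Rf →ₐ[Rf] Sfg :=
    MvPolynomial.aeval fun i => algebraMap S Sfg (π (MvPolynomial.X i))
  let mf : MvPolynomial (Fin n) R →+* MvPolynomial (Fin n) Rf := MvPolynomial.map (algebraMap R Rf)
  have hΨ : ∀ h, Ψ (mf h) = algebraMap S Sfg (π h) := by
    intro h
    rw [MvPolynomial.aeval_map_algebraMap]
    have : (MvPolynomial.aeval fun i => algebraMap S Sfg (π (MvPolynomial.X i)) :
        MvPolynomial (Fin n) R →ₐ[R] Sfg) = (IsScalarTower.toAlgHom R S Sfg).comp π :=
      MvPolynomial.algHom_ext fun i => by simp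
    exact DFunLike.congr_fun this h
  have hfu : IsUnit (algebraMap R Rf f) := IsLocalization.Away.algebraMap_isUnit f
  have hnum : ∀ H : MvPolynomial (Fin n) Rf, ∃ (N : ℕ) (h : MvPolynomial (Fin n) R),
      algebraMap R Rf f ^ N • H = mf h := by
    intro H
    induction H using MvPolynomial.induction_on' with
    | add a b ha hb =>
      obtain ⟨N, x, hN⟩ := ha
      obtain ⟨N', y, hN'⟩ := hb
      refine ⟨N + N', f ^ N' • x + f ^ N • y, ?_⟩
      rw [map_add, MvPolynomial.smul_eq_C_mul, MvPolynomial.smul_eq_C_mul, MvPolynomial.smul_eq_C_mul, map_mul,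
        map_mul, MvPolynomial.map_C, MvPolynomial.map_C, map_pow, map_pow, ← hN, ← hN',
        MvPolynomial.smul_eq_C_mul, MvPolynomial.smul_eq_C_mul]
      simp only [pow_add, map_mul, map_pow]
      ring
    | monomial a c =>
      obtain ⟨⟨x, ⟨_, N, rfl⟩⟩, hx⟩ := IsLocalization.surj (Submonoid.powers f) c
      refine ⟨N, MvPolynomial.monomial a x, ?_⟩
      rw [MvPolynomial.map_monomial, MvPolynomial.smul_monomial, smul_eq_mul, ← map_pow, mul_comm]
      exact congrArg _ hx
  have hsurj : Function.Surjective Ψ := by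
    intro z
    obtain ⟨⟨s, ⟨_, N, rfl⟩⟩, hz⟩ := IsLocalization.surj (Submonoid.powers (algebraMap R S f)) z
    obtain ⟨h, rfl⟩ := hπ s
    refine ⟨((hfu.pow N).unit⁻¹ : Rfˣ) • mf h, ?_⟩
    rw [Units.smul_def, map_smul, hΨ, ← hz, Algebra.smul_def]
    have : algebraMap S Sfg (algebraMap R S f ^ N) = algebraMap Rf Sfg (algebraMap R Rf f ^ N) := by
      rw [map_pow, map_pow, ← IsScalarTower.algebraMap_apply, ← IsScalarTower.algebraMap_apply]
    rw [show ((⟨(fun x => algebraMap R S f ^ x) N, N, rfl⟩ : Submonoid.powers (algebraMap R S f)) : S) =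
      algebraMap R S f ^ N from rfl, this, mul_left_comm, ← map_mul, IsUnit.val_inv_mul, map_one, mul_one]
  refine Algebra.FinitePresentation.of_surjective hsurj ?_
  have hker' : RingHom.ker Ψ.toRingHom = J.map mf := by
    apply le_antisymm
    · intro H hH
      obtain ⟨N, h, hN⟩ := hnum H
      have h0 : algebraMap S Sfg (π h) = 0 := by
        rw [← hΨ, ← hN, map_smul, show Ψ H = 0 from hH, smul_zero]
      have hinjS : Function.Injective (algebraMap S Sfg) :=
        IsLocalization.injective Sfg (powers_le_nonZeroDivisors_of_noZeroDivisors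
          (fun h => hf (hinj (h.trans (map_zero _).symm))))
      obtain ⟨N', hN'⟩ := hker h (hinjS (h0.trans (map_zero _).symm))
      have h1 : algebraMap R Rf f ^ (N' + N) • H ∈ J.map mf := by
        rw [pow_add, mul_smul, hN]
        have := Ideal.mem_map_of_mem mf hN'
        rwa [MvPolynomial.smul_eq_C_mul, map_mul, MvPolynomial.map_C, map_pow, ← MvPolynomial.smul_eq_C_mul] at this
      have := Submodule.smul_of_tower_mem (J.map mf) (((hfu.pow (N' + N)).unit⁻¹ : Rfˣ) : Rf) h1
      rwa [smul_smul, IsUnit.val_inv_mul, one_smul] at this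
    · rw [Ideal.map_le_iff_le_comap]
      intro h hh
      show Ψ (mf h) = 0
      rw [hΨ, show π h = 0 from hJp hh, map_zero]
  show (RingHom.ker Ψ.toRingHom).FG
  rw [hker']
  exact (Ideal.FG.map (Ideal.FG.map (IsNoetherian.noetherian p0) m0) mf)

end Groth.Agent.S2140
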