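import Groth.Statements.S2142
import Mathlib
import Groth.Agent.CAlgOdd.LocalDimSpec

set_option autoImplicit false
universe u
open CAlg

namespace Groth.Agent.S2142

open TensorProduct in
/-- Let `S` be of finite type over a field `k`, `K/k` a field extension, `𝔮` a prime of `S` and `𝔮_K` a
prime of `K ⊗_k S` lying over `𝔮`. Then the local dimension of `Spec (K ⊗_k S)` at `𝔮_K` equals the
local dimension of `Spec S` at `𝔮`. -/
theorem result {k S K : Type u} [Field k] [CommRing S] [Algebra k S] [Algebra.FiniteType k S] [Field K]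
    [Algebra k K] (q : Ideal S) [q.IsPrime] (qK : Ideal (K ⊗[k] S)) [qK.IsPrime]
    (hq : qK.comap (Algebra.TensorProduct.includeRight.toRingHom : S →+* K ⊗[k] S) = q) :
    FlatMor.localDim (PrimeSpectrum (K ⊗[k] S)) ⟨qK, inferInstance⟩ = FlatMor.localDim (PrimeSpectrum S) ⟨q, inferInstance⟩ := by
  open TensorProduct in
  haveI : IsNoetherianRing S := Algebra.FiniteType.isNoetherianRing k S
  let T := K ⊗[k] S
  let ι : S →+* T := (Algebra.TensorProduct.includeRight.toRingHom : S →+* K ⊗[k] S)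
  letI : Algebra S T := ι.toAlgebra
  haveI : Module.Flat S T := by
    let e : S ⊗[k] K ≃ₗ[S] T :=
      { (TensorProduct.comm k S K).toAddEquiv with
        map_smul' := fun s x => by
          show TensorProduct.comm k S K (s • x) = ι s * TensorProduct.comm k S K x
          induction x using TensorProduct.induction_on with
          | zero => simp
          | add a b ha hb => simp only [smul_add, map_add, mul_add, ha, hb]
          | tmul a b =>
            show b ⊗ₜ[k] (s * a) = (((1 : K) ⊗ₜ[k] s : K ⊗[k] S) * (b ⊗ₜ[k] a))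
            rw [Algebra.TensorProduct.tmul_mul_tmul, one_mul] }
    exact Module.Flat.of_linearEquiv e.symm
  -- minimal primes over an extended prime keep the dimension
  have key : ∀ (q : PrimeSpectrum S) (P : PrimeSpectrum T), P.asIdeal ∈ (q.asIdeal.map ι).minimalPrimes →
      Order.coheight P = Order.coheight q := by
    intro q P hP
    let A := S ⧸ q.asIdeal
    haveI : Algebra.FiniteType k A := Algebra.FiniteType.of_surjective (Ideal.Quotient.mkₐ k _) Ideal.Quotient.mk_surjective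
    obtain ⟨n, hn, -⟩ := VarDim.exists_dim_eq_trdeg (k := k) A
    let ψ : T →ₐ[k] K ⊗[k] A := Algebra.TensorProduct.map (AlgHom.id k K) (Ideal.Quotient.mkₐ k q.asIdeal)
    have hψ : Function.Surjective ψ := LinearMap.lTensor_surjective K Ideal.Quotient.mk_surjective
    have hker : RingHom.ker ψ = q.asIdeal.map ι := by
      show RingHom.ker (Algebra.TensorProduct.map (AlgHom.id k K) (Ideal.Quotient.mkₐ k q.asIdeal)) = _
      rw [Algebra.TensorProduct.lTensor_ker _ Ideal.Quotient.mk_surjective,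
        show RingHom.ker (Ideal.Quotient.mkₐ k q.asIdeal) = q.asIdeal from Ideal.Quotient.mkₐ_ker k _]
      rfl
    have hle : RingHom.ker ψ ≤ P.asIdeal := hker ▸ hP.1.2
    let Q : PrimeSpectrum (K ⊗[k] A) := ⟨P.asIdeal.map ψ, Ideal.map_isPrime_of_surjective hψ hle⟩
    have hQP : Q.asIdeal.comap ψ = P.asIdeal := by
      show (P.asIdeal.map ψ).comap ψ = _
      rw [Ideal.comap_map_of_surjective _ hψ]
      exact sup_eq_left.2 hle
    have hQ : Q.asIdeal ∈ minimalPrimes (K ⊗[k] A) := by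
      refine ⟨⟨Q.2, bot_le⟩, fun J hJ hJQ => ?_⟩
      haveI := hJ.1
      refine Ideal.map_le_iff_le_comap.2 (hP.2 ⟨inferInstance, ?_⟩ ((Ideal.comap_mono hJQ).trans hQP.le))
      rw [← hker]
      exact fun x hx => by simp [Ideal.mem_comap, RingHom.mem_ker.1 hx]
    have h1 := CAlgOdd.LocalDimSpec.coheight_minimalPrime_field_tensor k K A (r := 0) (s := n)
      (by exact_mod_cast ringKrullDim_eq_zero_of_field K) hn Q hQ
    let χ : T →+* (K ⊗[k] A) ⧸ Q.asIdeal := (Ideal.Quotient.mk Q.asIdeal).comp ψ.toRingHom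
    have hχk : RingHom.ker χ = P.asIdeal := by
      rw [← hQP]
      ext x
      simp [χ, RingHom.mem_ker, Ideal.Quotient.eq_zero_iff_mem]
    have hχs : Function.Surjective χ := Ideal.Quotient.mk_surjective.comp hψ
    refine WithBot.coe_inj.1 ?_
    rw [VarDim.coheight_eq_ringKrullDim_quotient, VarDim.coheight_eq_ringKrullDim_quotient, hn,
      ringKrullDim_eq_of_ringEquiv (Ideal.quotEquivOfEq hχk.symm),
      ringKrullDim_eq_of_ringEquiv (S := (K ⊗[k] A) ⧸ Q.asIdeal) (RingHom.quotientKerEquivOfSurjective hχs),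
      ← VarDim.coheight_eq_ringKrullDim_quotient, h1, zero_add]
    rfl
  -- compare the generalizations
  haveI : Algebra.FiniteType K T := inferInstance
  obtain ⟨Q, hQle, hQ⟩ := CAlgOdd.LocalDimSpec.exists_coheight_eq K (⟨qK, inferInstance⟩ : PrimeSpectrum T)
  obtain ⟨q', hq'le, hq'⟩ := CAlgOdd.LocalDimSpec.exists_coheight_eq k (⟨q, inferInstance⟩ : PrimeSpectrum S)
  refine le_antisymm ?_ ?_
  · obtain ⟨P, hP, hPQ⟩ := Ideal.exists_minimalPrimes_le (bot_le : (⊥ : Ideal T) ≤ Q.asIdeal)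
    haveI := hP.1.1
    let p : PrimeSpectrum S := ⟨P.comap ι, inferInstance⟩
    have hPp : P ∈ (p.asIdeal.map ι).minimalPrimes :=
      ⟨⟨hP.1.1, Ideal.map_comap_le⟩, fun J hJ hJP => hP.2 ⟨hJ.1, bot_le⟩ hJP⟩
    rw [hQ]
    refine le_trans (WithBot.coe_le_coe.2 ((Order.coheight_anti (show (⟨P, hP.1.1⟩ : PrimeSpectrum T) ≤ Q from hPQ)).trans
      (key p ⟨P, hP.1.1⟩ hPp).le)) ?_
    refine CAlgOdd.LocalDimSpec.coheight_le_of_le k ?_
    show P.comap ι ≤ q
    rw [← hq]
    exact Ideal.comap_mono (hPQ.trans hQle)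
  · rw [hq']
    haveI : qK.LiesOver q := ⟨hq.symm⟩
    obtain ⟨Q', hQ'le, hQ'p, hQ'o⟩ := Ideal.exists_ideal_le_liesOver_of_le (p := q'.asIdeal) (q := q) qK hq'le
    have hle : q'.asIdeal.map ι ≤ Q' := Ideal.map_le_iff_le_comap.2 hQ'o.over.le
    obtain ⟨P, hP, hPQ⟩ := Ideal.exists_minimalPrimes_le hle
    rw [← key q' ⟨P, hP.1.1⟩ hP]
    exact CAlgOdd.LocalDimSpec.coheight_le_of_le K (show (⟨P, hP.1.1⟩ : PrimeSpectrum T) ≤ ⟨qK, inferInstance⟩ from hPQ.trans hQ'le)

end Groth.Agent.S2142
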