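import Groth.Statements.S2145
import Mathlib
import Groth.Agent.SpreadIso.Basic

set_option autoImplicit false
universe u
open CAlg

namespace Groth.Agent.S2145

/-- Let `S`, `S'` be finitely presented `R`-algebras and `𝔮 ⊆ S`, `𝔮' ⊆ S'` primes with `S_𝔮 ≅ S'_{𝔮'}`
as `R`-algebras. Then `S_g ≅ S'_{g'}` as `R`-algebras for some `g ∉ 𝔮`, `g' ∉ 𝔮'`. -/
theorem result {R S S' : Type u} [CommRing R] [CommRing S] [CommRing S'] [Algebra R S]
    [Algebra R S'] [Algebra.FinitePresentation R S] [Algebra.FinitePresentation R S'] (q : Ideal S) [q.IsPrime]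
    (q' : Ideal S') [q'.IsPrime] (e : Localization.AtPrime q ≃ₐ[R] Localization.AtPrime q') :
    ∃ (g : S) (g' : S'), g ∉ q ∧ g' ∉ q' ∧ Nonempty (Localization.Away g ≃ₐ[R] Localization.Away g') := by
  classical
  open Groth.Agent.SpreadIso in
  let φ : S →ₐ[R] Localization.AtPrime q' := e.toAlgHom.comp (IsScalarTower.toAlgHom R S (Localization.AtPrime q))
  let φ' : S' →ₐ[R] Localization.AtPrime q := e.symm.toAlgHom.comp (IsScalarTower.toAlgHom R S' (Localization.AtPrime q'))
  obtain ⟨g0', hg0', ψ0, hψ0⟩ := exists_lift q' φ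
  obtain ⟨g0, hg0, ψ0', hψ0'⟩ := exists_lift q φ'
  -- step 1
  have hu0 : IsUnit (toQ q hg0 (ψ0' g0')) := by
    rw [hψ0']
    exact (IsLocalization.map_units (Localization.AtPrime q') (⟨g0', hg0'⟩ : q'.primeCompl)).map e.symm
  obtain ⟨g1, hg01, hg1, hu1⟩ := exists_res_isUnit q hg0 hu0
  let Ψ1 : Localization.Away g0' →ₐ[R] Localization.Away g1 :=
    IsLocalization.liftAlgHom (M := Submonoid.powers g0') (f := ((res hg01).restrictScalars R).comp ψ0') (by
      rintro ⟨_, n, rfl⟩
      show IsUnit (((res hg01).restrictScalars R).comp ψ0' (g0' ^ n))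
      rw [map_pow]
      exact hu1.pow n)
  have hΨ1 : ∀ s', Ψ1 (algebraMap S' _ s') = res hg01 (ψ0' s') := fun s' => IsLocalization.lift_eq _ s'
  have hcompat : ∀ z, toQ q hg1 (Ψ1 z) = e.symm (toQ q' hg0' z) := by
    have : ((toQ q hg1).restrictScalars R).comp Ψ1 = e.symm.toAlgHom.comp ((toQ q' hg0').restrictScalars R) := by
      refine IsLocalization.algHom_ext (Submonoid.powers g0') (AlgHom.ext fun s' => ?_)
      show toQ q hg1 (Ψ1 (algebraMap S' _ s')) = e.symm (toQ q' hg0' (algebraMap S' _ s'))
      rw [hΨ1, toQ_res q hg01 hg0 hg1, hψ0', AlgHom.commutes]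
      rfl
    exact fun z => DFunLike.congr_fun this z
  obtain ⟨g2, hg12, hg2, heq⟩ := exists_eq q hg1 (Ψ1.comp ψ0) (IsScalarTower.toAlgHom R S (Localization.Away g1)) (fun s => by
    rw [AlgHom.comp_apply, hcompat, hψ0, IsScalarTower.toAlgHom_apply, AlgHom.commutes]
    exact e.symm_apply_apply _)
  have heq' : ∀ s, res hg12 (Ψ1 (ψ0 s)) = algebraMap S (Localization.Away g2) s := fun s => by
    have := heq s
    rwa [AlgHom.comp_apply, IsScalarTower.toAlgHom_apply, AlgHom.commutes] at this
  -- step 2
  obtain ⟨⟨a, ⟨_, m, rfl⟩⟩, ha⟩ := IsLocalization.surj (Submonoid.powers g0') (ψ0 g2)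
  have haq : a ∉ q' := by
    have h1 := congrArg (toQ q' hg0') ha
    rw [map_mul, hψ0, AlgHom.commutes, AlgHom.commutes] at h1
    have hu : IsUnit (algebraMap S' (Localization.AtPrime q') a) := by
      rw [← h1]
      exact ((IsLocalization.map_units (Localization.AtPrime q) (⟨g2, hg2⟩ : q.primeCompl)).map e).mul
        (IsLocalization.map_units (Localization.AtPrime q') (⟨g0' ^ m, q'.primeCompl.pow_mem hg0' m⟩ : q'.primeCompl))
    exact (IsLocalization.AtPrime.isUnit_to_map_iff (Localization.AtPrime q') q' a).mp hu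
  let g3 := g0' * a
  have hg03 : g0' ∣ g3 := dvd_mul_right _ _
  have hg3 : g3 ∉ q' := q'.primeCompl.mul_mem hg0' haq
  have hg0u : IsUnit (algebraMap S' (Localization.Away g3) (g0' ^ m)) := by
    rw [map_pow]; exact (algebraMap_isUnit_of_dvd hg03).pow m
  have hu3 : IsUnit (res hg03 (ψ0 g2)) := by
    have h1 := congrArg (res hg03) ha
    rw [map_mul, AlgHom.commutes, AlgHom.commutes] at h1
    exact (IsUnit.mul_iff.mp (h1 ▸ algebraMap_isUnit_of_dvd (dvd_mul_left a g0'))).1
  let Φ : Localization.Away g2 →ₐ[R] Localization.Away g3 :=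
    IsLocalization.liftAlgHom (M := Submonoid.powers g2) (f := ((res hg03).restrictScalars R).comp ψ0) (by
      rintro ⟨_, n, rfl⟩
      show IsUnit (((res hg03).restrictScalars R).comp ψ0 (g2 ^ n))
      rw [map_pow]
      exact hu3.pow n)
  have hΦ : ∀ s, Φ (algebraMap S _ s) = res hg03 (ψ0 s) := fun s => IsLocalization.lift_eq _ s
  let χ : Localization.Away g0' →ₐ[R] Localization.Away g2 := ((res hg12).restrictScalars R).comp Ψ1
  have hu3' : IsUnit (χ (algebraMap S' _ g3)) := by
    have h1 := congrArg χ ha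
    rw [map_mul, show χ (ψ0 g2) = algebraMap S (Localization.Away g2) g2 from heq' g2] at h1
    rw [map_mul (algebraMap S' (Localization.Away g0')), map_mul, ← h1]
    exact (((IsLocalization.Away.algebraMap_isUnit g0').map χ)).mul
      ((IsLocalization.Away.algebraMap_isUnit g2).mul ((IsLocalization.map_units (Localization.Away g0')
        (⟨g0' ^ m, m, rfl⟩ : Submonoid.powers g0')).map χ))
  let Ψ : Localization.Away g3 →ₐ[R] Localization.Away g2 :=
    IsLocalization.liftAlgHom (M := Submonoid.powers g3) (f := χ.comp (IsScalarTower.toAlgHom R S' _)) (by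
      rintro ⟨_, n, rfl⟩
      show IsUnit (χ.comp (IsScalarTower.toAlgHom R S' (Localization.Away g0')) (g3 ^ n))
      rw [map_pow]
      exact hu3'.pow n)
  have hΨ : ∀ s', Ψ (algebraMap S' _ s') = χ (algebraMap S' _ s') := fun s' => IsLocalization.lift_eq _ s'
  have hΨres : ∀ z, Ψ (res hg03 z) = χ z := by
    have : Ψ.comp ((res hg03).restrictScalars R) = χ := by
      refine IsLocalization.algHom_ext (Submonoid.powers g0') (AlgHom.ext fun s' => ?_)
      show Ψ (res hg03 (algebraMap S' _ s')) = χ (algebraMap S' _ s')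
      rw [AlgHom.commutes, hΨ]
    exact fun z => DFunLike.congr_fun this z
  have hΨΦ : ∀ z, Ψ (Φ z) = z := by
    have : Ψ.comp Φ = AlgHom.id R _ := by
      refine IsLocalization.algHom_ext (Submonoid.powers g2) (AlgHom.ext fun s => ?_)
      show Ψ (Φ (algebraMap S _ s)) = algebraMap S _ s
      rw [hΦ, hΨres]
      exact heq' s
    exact fun z => DFunLike.congr_fun this z
  have hΦq : ∀ z, toQ q' hg3 (Φ z) = e (toQ q hg2 z) := by
    have : ((toQ q' hg3).restrictScalars R).comp Φ = e.toAlgHom.comp ((toQ q hg2).restrictScalars R) := by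
      refine IsLocalization.algHom_ext (Submonoid.powers g2) (AlgHom.ext fun s => ?_)
      show toQ q' hg3 (Φ (algebraMap S _ s)) = e (toQ q hg2 (algebraMap S _ s))
      rw [hΦ, toQ_res q' hg03 hg0' hg3, hψ0, AlgHom.commutes]
      rfl
    exact fun z => DFunLike.congr_fun this z
  have hΨq : ∀ z, toQ q hg2 (Ψ z) = e.symm (toQ q' hg3 z) := by
    have : ((toQ q hg2).restrictScalars R).comp Ψ = e.symm.toAlgHom.comp ((toQ q' hg3).restrictScalars R) := by
      refine IsLocalization.algHom_ext (Submonoid.powers g3) (AlgHom.ext fun s' => ?_)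
      show toQ q hg2 (Ψ (algebraMap S' _ s')) = e.symm (toQ q' hg3 (algebraMap S' _ s'))
      rw [hΨ, AlgHom.commutes]
      show toQ q hg2 (res hg12 (Ψ1 _)) = _
      rw [toQ_res q hg12 hg1 hg2, hcompat, AlgHom.commutes]
    exact fun z => DFunLike.congr_fun this z
  -- step 3
  obtain ⟨k, hk, hkq, heq3⟩ := exists_eq q' hg3 (Φ.comp (Ψ.comp (IsScalarTower.toAlgHom R S' _)))
    (IsScalarTower.toAlgHom R S' (Localization.Away g3)) (fun s' => by
      rw [AlgHom.comp_apply, AlgHom.comp_apply, hΦq, hΨq, e.apply_symm_apply])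
  have heq3' : ∀ s', res hk (Φ (Ψ (algebraMap S' _ s'))) = algebraMap S' (Localization.Away k) s' := fun s' => by
    have := heq3 s'
    rwa [AlgHom.comp_apply, AlgHom.comp_apply, IsScalarTower.toAlgHom_apply, AlgHom.commutes] at this
  obtain ⟨⟨b, ⟨_, l, rfl⟩⟩, hb⟩ := IsLocalization.surj (Submonoid.powers g2) (Ψ (algebraMap S' _ k))
  have hbq : b ∉ q := by
    have h1 := congrArg (toQ q hg2) hb
    rw [map_mul, hΨq, AlgHom.commutes, AlgHom.commutes, AlgHom.commutes] at h1
    have hu : IsUnit (algebraMap S (Localization.AtPrime q) b) := by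
      rw [← h1]
      exact ((IsLocalization.map_units (Localization.AtPrime q') (⟨k, hkq⟩ : q'.primeCompl)).map e.symm).mul
        (IsLocalization.map_units (Localization.AtPrime q) (⟨g2 ^ l, q.primeCompl.pow_mem hg2 l⟩ : q.primeCompl))
    exact (IsLocalization.AtPrime.isUnit_to_map_iff (Localization.AtPrime q) q b).mp hu
  let g4 := g2 * b
  have hg24 : g2 ∣ g4 := dvd_mul_right _ _
  let F : Localization.Away g4 →ₐ[R] Localization.Away k :=
    IsLocalization.liftAlgHom (M := Submonoid.powers g4)
      (f := (((res hk).restrictScalars R).comp Φ).comp (IsScalarTower.toAlgHom R S _)) (by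
      rintro ⟨_, n, rfl⟩
      show IsUnit ((((res hk).restrictScalars R).comp Φ).comp (IsScalarTower.toAlgHom R S (Localization.Away g2)) (g4 ^ n))
      rw [map_pow]
      refine IsUnit.pow n ?_
      show IsUnit (res hk (Φ (algebraMap S (Localization.Away g2) (g2 * b))))
      rw [map_mul, map_mul, map_mul, ← hb, map_mul, map_mul, heq3']
      exact (((IsLocalization.Away.algebraMap_isUnit g2).map Φ).map (res hk)).mul
        ((IsLocalization.Away.algebraMap_isUnit k).mul ((((IsLocalization.map_units (Localization.Away g2)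
          (⟨g2 ^ l, l, rfl⟩ : Submonoid.powers g2))).map Φ).map (res hk))))
  let G : Localization.Away k →ₐ[R] Localization.Away g4 :=
    IsLocalization.liftAlgHom (M := Submonoid.powers k)
      (f := (((res hg24).restrictScalars R).comp Ψ).comp (IsScalarTower.toAlgHom R S' _)) (by
      rintro ⟨_, n, rfl⟩
      show IsUnit ((((res hg24).restrictScalars R).comp Ψ).comp (IsScalarTower.toAlgHom R S' (Localization.Away g3)) (k ^ n))
      rw [map_pow]
      refine IsUnit.pow n ?_
      have h1 := congrArg (res hg24) hb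
      rw [map_mul, AlgHom.commutes, AlgHom.commutes] at h1
      exact (IsUnit.mul_iff.mp (h1 ▸ algebraMap_isUnit_of_dvd (dvd_mul_left b g2))).1)
  have hF : ∀ z, F (res hg24 z) = res hk (Φ z) := by
    have : F.comp ((res hg24).restrictScalars R) = ((res hk).restrictScalars R).comp Φ := by
      refine IsLocalization.algHom_ext (Submonoid.powers g2) (AlgHom.ext fun s => ?_)
      show F (res hg24 (algebraMap S _ s)) = res hk (Φ (algebraMap S _ s))
      rw [AlgHom.commutes]
      exact IsLocalization.lift_eq _ s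
    exact fun z => DFunLike.congr_fun this z
  have hG : ∀ z, G (res hk z) = res hg24 (Ψ z) := by
    have : G.comp ((res hk).restrictScalars R) = ((res hg24).restrictScalars R).comp Ψ := by
      refine IsLocalization.algHom_ext (Submonoid.powers g3) (AlgHom.ext fun s' => ?_)
      show G (res hk (algebraMap S' _ s')) = res hg24 (Ψ (algebraMap S' _ s'))
      rw [AlgHom.commutes]
      exact IsLocalization.lift_eq _ s'
    exact fun z => DFunLike.congr_fun this z
  refine ⟨g4, k, q.primeCompl.mul_mem hg2 hbq, hkq, ⟨AlgEquiv.ofAlgHom F G ?_ ?_⟩⟩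
  · refine IsLocalization.algHom_ext (Submonoid.powers k) (AlgHom.ext fun s' => ?_)
    simp only [AlgHom.comp_apply, AlgHom.id_apply, IsScalarTower.toAlgHom_apply]
    rw [show (Algebra.algHom R S' (Localization.Away k)) s' = algebraMap S' (Localization.Away k) s' from rfl]
    have h := hG (algebraMap S' (Localization.Away g3) s')
    rw [AlgHom.commutes] at h
    rw [h, hF, heq3']
  · refine IsLocalization.algHom_ext (Submonoid.powers g4) (AlgHom.ext fun s => ?_)
    simp only [AlgHom.comp_apply, AlgHom.id_apply, IsScalarTower.toAlgHom_apply]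
    rw [show (Algebra.algHom R S (Localization.Away g4)) s = algebraMap S (Localization.Away g4) s from rfl]
    have h := hF (algebraMap S (Localization.Away g2) s)
    rw [AlgHom.commutes] at h
    rw [h, hG, hΨΦ, AlgHom.commutes]

end Groth.Agent.S2145
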