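import Groth.Statements.S2146
import Mathlib
import Groth.Agent.S2145

set_option autoImplicit false
universe u
open CAlg

namespace Groth.Agent.S2146

/-- Let `S` be a finitely presented `R`-algebra and `𝔮` a prime of `S` over `𝔭` such that the induced
map `R_𝔭 → S_𝔮` is bijective. Then for some `f ∉ 𝔭` there is an `R_f`-algebra `C` with `S_f ≅ R_f ×
C` as `R_f`-algebras. -/
theorem result {R S : Type u} [CommRing R] [CommRing S] [Algebra R S]
    [Algebra.FinitePresentation R S] (q : Ideal S) [q.IsPrime] (p : Ideal R) [p.IsPrime] [q.LiesOver p]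
    (h : Function.Bijective (Localization.localRingHom p q (algebraMap R S) (q.over_def p))) :
    ∃ f : R, f ∉ p ∧ ∀ (Rf Sf : Type u) [CommRing Rf] [CommRing Sf] [Algebra R Rf] [IsLocalization.Away f Rf]
      [Algebra S Sf] [IsLocalization.Away (algebraMap R S f) Sf] [Algebra Rf Sf] [Algebra R Sf] [IsScalarTower R S Sf]
      [IsScalarTower R Rf Sf],
      ∃ (C : Type u) (_ : CommRing C) (_ : Algebra Rf C), Nonempty (Sf ≃ₐ[Rf] (Rf × C)) := by
  classical
  let φ := Localization.localRingHom p q (algebraMap R S) (q.over_def p)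
  let e : Localization.AtPrime p ≃ₐ[R] Localization.AtPrime q :=
    AlgEquiv.ofRingEquiv (f := RingEquiv.ofBijective φ h) fun r => by
      show φ (algebraMap R (Localization.AtPrime p) r) = _
      rw [Localization.localRingHom_to_map, ← IsScalarTower.algebraMap_apply]
  obtain ⟨g, r, hg, hr, ⟨w⟩⟩ := Groth.Agent.S2145.result (R := R) (S := S) (S' := R) q p e.symm
  refine ⟨r, hr, fun Rf Sf _ _ _ _ _ _ _ _ _ _ => ?_⟩
  let gb : Sf := algebraMap S Sf g
  let T := Localization.Away gb
  let w' : Localization.Away g →ₐ[R] Rf :=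
    (IsLocalization.algEquiv (Submonoid.powers r) (Localization.Away r) Rf).toAlgHom.restrictScalars R |>.comp w.toAlgHom
  let β₀ : S →ₐ[R] Rf := w'.comp (IsScalarTower.toAlgHom R S _)
  have hfu : IsUnit (β₀ (algebraMap R S r)) := by
    rw [AlgHom.commutes]; exact IsLocalization.Away.algebraMap_isUnit r
  let β : Sf →ₐ[R] Rf := IsLocalization.liftAlgHom (M := Submonoid.powers (algebraMap R S r)) (f := β₀) (by
    rintro ⟨_, n, rfl⟩
    show IsUnit (β₀ (algebraMap R S r ^ n))
    rw [map_pow]; exact hfu.pow n)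
  let σ : Sf →ₐ[Rf] Rf :=
    { β with
      commutes' := fun x => DFunLike.congr_fun
        (IsLocalization.algHom_ext (Submonoid.powers r) (Algebra.ext_id _ _ _) :
          β.comp (IsScalarTower.toAlgHom R Rf Sf) = AlgHom.id R Rf) x }
  have hgu : IsUnit (σ gb) := by
    show IsUnit (β (algebraMap S Sf g))
    rw [show β (algebraMap S Sf g) = β₀ g from IsLocalization.lift_eq _ g]
    exact (IsLocalization.Away.algebraMap_isUnit g).map w'
  let β' : T →ₐ[Rf] Rf := IsLocalization.liftAlgHom (M := Submonoid.powers gb) (f := σ) (by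
    rintro ⟨_, n, rfl⟩
    show IsUnit (σ (gb ^ n))
    rw [map_pow]; exact hgu.pow n)
  -- `β'` is inverse to the structure map
  have hαβ : ∀ z : T, algebraMap Rf T (β' z) = z := by
    have hz : ∀ s : S, algebraMap Rf T (β₀ s) = algebraMap Sf T (algebraMap S Sf s) := by
      have hu : IsUnit (((IsScalarTower.toAlgHom R Sf T).comp (IsScalarTower.toAlgHom R S Sf)) g) :=
        IsLocalization.Away.algebraMap_isUnit gb
      let ν : Localization.Away g →ₐ[R] T := IsLocalization.liftAlgHom (M := Submonoid.powers g)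
        (f := (IsScalarTower.toAlgHom R Sf T).comp (IsScalarTower.toAlgHom R S Sf)) (by
        rintro ⟨_, n, rfl⟩
        show IsUnit (((IsScalarTower.toAlgHom R Sf T).comp (IsScalarTower.toAlgHom R S Sf)) (g ^ n))
        rw [map_pow]; exact hu.pow n)
      have he : (IsScalarTower.toAlgHom R Rf T).comp w' = ν := by
        have : ((IsScalarTower.toAlgHom R Rf T).comp w').comp w.symm.toAlgHom = ν.comp w.symm.toAlgHom :=
          IsLocalization.algHom_ext (Submonoid.powers r) (Algebra.ext_id _ _ _)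
        exact AlgHom.ext fun z => by simpa using DFunLike.congr_fun this (w z)
      intro s
      exact (DFunLike.congr_fun he (algebraMap S _ s)).trans (IsLocalization.lift_eq _ s)
    have h1 : ((Algebra.ofId Rf T).comp β').toRingHom = RingHom.id T := by
      refine IsLocalization.ringHom_ext (Submonoid.powers gb) ?_
      refine IsLocalization.ringHom_ext (Submonoid.powers (algebraMap R S r)) (RingHom.ext fun s => ?_)
      show algebraMap Rf T (β' (algebraMap Sf T (algebraMap S Sf s))) = algebraMap Sf T (algebraMap S Sf s)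
      rw [show β' (algebraMap Sf T (algebraMap S Sf s)) = σ (algebraMap S Sf s) from IsLocalization.lift_eq _ _,
        show σ (algebraMap S Sf s) = β₀ s from IsLocalization.lift_eq _ s, hz]
    exact fun z => DFunLike.congr_fun h1 z
  obtain ⟨h', hh⟩ : ∃ h' : Sf, algebraMap Sf T (h' * gb) = 1 := by
    refine ⟨algebraMap Rf Sf ((hgu.unit⁻¹ : Rfˣ) : Rf), ?_⟩
    rw [← hαβ (algebraMap Sf T (_ * gb)), ← map_one (algebraMap Rf T)]
    congr 1
    rw [show β' (algebraMap Sf T (algebraMap Rf Sf ((hgu.unit⁻¹ : Rfˣ) : Rf) * gb)) =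
      σ (algebraMap Rf Sf ((hgu.unit⁻¹ : Rfˣ) : Rf) * gb) from IsLocalization.lift_eq _ _, map_mul, σ.commutes]
    exact IsUnit.val_inv_mul hgu
  rw [← map_one (algebraMap Sf T)] at hh
  obtain ⟨⟨_, n, rfl⟩, hn⟩ := (IsLocalization.eq_iff_exists (Submonoid.powers gb) T).mp hh
  let ε := (h' * gb) ^ n
  have hn' : gb ^ n * (h' * gb) = gb ^ n := by simpa using hn
  have hεh : ε * (h' * gb) = ε := by
    show (h' * gb) ^ n * (h' * gb) = (h' * gb) ^ n
    rw [mul_pow]; linear_combination (h' ^ n) * hn'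
  have hεm : ∀ m, ε * (h' * gb) ^ m = ε := by
    intro m
    induction m with
    | zero => simp
    | succ m ih => rw [pow_succ, ← mul_assoc, ih, hεh]
  have hεε : ε * ε = ε := hεm n
  have hσε : σ ε = 1 := by
    rw [show σ ε = β' (algebraMap Sf T ε) from (IsLocalization.lift_eq _ ε).symm]
    show β' (algebraMap Sf T ((h' * gb) ^ n)) = 1
    rw [map_pow, hh, map_one, one_pow, map_one]
  have hkerσ : ∀ x, σ x = 0 → ε * x = 0 := by
    intro x hx
    have h0 : algebraMap Sf T x = 0 := by
      rw [← hαβ (algebraMap Sf T x), show β' (algebraMap Sf T x) = σ x from IsLocalization.lift_eq _ x, hx, map_zero]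
    obtain ⟨⟨_, m, rfl⟩, hm⟩ := (IsLocalization.map_eq_zero_iff (Submonoid.powers gb) T x).mp h0
    rw [← hεm m, mul_pow]
    linear_combination ε * h' ^ m * hm
  let C := Sf ⧸ Ideal.span {ε}
  refine ⟨C, inferInstance, inferInstance, ⟨AlgEquiv.ofBijective (σ.prod (Ideal.Quotient.mkₐ Rf (Ideal.span {ε}))) ⟨?_, ?_⟩⟩⟩
  · rw [injective_iff_map_eq_zero]
    intro x hx
    obtain ⟨hx1, hx2⟩ := Prod.ext_iff.mp hx
    obtain ⟨c, hc⟩ := Ideal.mem_span_singleton'.mp (Ideal.Quotient.eq_zero_iff_mem.mp hx2)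
    rw [← hc, ← hεε, ← mul_assoc, mul_comm (c * ε), hc]
    exact hkerσ x hx1
  · rintro ⟨a, c⟩
    obtain ⟨c, rfl⟩ := Ideal.Quotient.mk_surjective c
    refine ⟨algebraMap Rf Sf a * ε + c * (1 - ε), Prod.ext ?_ ?_⟩
    · show σ _ = a
      rw [map_add, map_mul, map_mul, map_sub, hσε, map_one, σ.commutes]
      simp
    · show Ideal.Quotient.mk (Ideal.span {ε}) _ = Ideal.Quotient.mk _ c
      rw [Ideal.Quotient.eq]
      exact Ideal.mem_span_singleton'.mpr ⟨algebraMap Rf Sf a - c, by ring⟩

end Groth.Agent.S2146
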