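import Groth.Statements.S2148
import Mathlib

set_option autoImplicit false
universe u
open CAlg

namespace Groth.Agent.S2148

/-- Let `k` be a perfect field of characteristic `p > 0` and `K` an extension field of `k`. For `a ∈ K`,
the differential `da` vanishes in `Ω_{K/k}` if and only if `a` is a `p`-th power in `K`. -/
theorem result {k K : Type u} [Field k] [Field K] [Algebra k K] (p : ℕ) [Fact p.Prime]
    [CharP k p] [PerfectRing k p] (a : K) :
    KaehlerDifferential.D k K a = 0 ↔ ∃ b : K, b ^ p = a := by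
  classical
  haveI : CharP K p := charP_of_injective_algebraMap (algebraMap k K).injective p
  constructor
  swap
  · rintro ⟨b, rfl⟩
    rw [Derivation.leibniz_pow, ← Nat.cast_smul_eq_nsmul K, CharP.cast_eq_zero, zero_smul]
  intro hda
  by_contra hno
  push Not at hno
  -- the field of `p`-th powers
  let F : IntermediateField k K := IntermediateField.adjoin k (Set.range fun x : K => x ^ p)
  have hF : ∀ x ∈ F, ∃ y : K, y ^ p = x := by
    intro x hx
    induction hx using IntermediateField.adjoin_induction k with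
    | mem y hy => obtain ⟨z, rfl⟩ := hy; exact ⟨z, rfl⟩
    | algebraMap c =>
      exact ⟨algebraMap k K ((frobeniusEquiv k p).symm c), by rw [← map_pow, frobeniusEquiv_symm_pow_p]⟩
    | add y z _ _ hy hz => obtain ⟨u, rfl⟩ := hy; obtain ⟨v, rfl⟩ := hz; exact ⟨u + v, add_pow_char u v p⟩
    | inv y _ hy => obtain ⟨u, rfl⟩ := hy; exact ⟨u⁻¹, inv_pow u p⟩
    | mul y z _ _ hy hz => obtain ⟨u, rfl⟩ := hy; obtain ⟨v, rfl⟩ := hz; exact ⟨u * v, mul_pow u v p⟩
  -- a maximal subfield above it avoiding `a`
  let S : Set (IntermediateField k K) := {L | F ≤ L ∧ a ∉ L}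
  obtain ⟨L, hFL, ⟨⟨-, haL⟩, hmax⟩⟩ : ∃ L, F ≤ L ∧ Maximal (· ∈ S) L := by
    refine zorn_le_nonempty₀ S (fun c hcS hc y hy => ?_) F ⟨le_rfl, fun h => ?_⟩
    · refine ⟨⨆ L : c, (L : IntermediateField k K), ⟨(hcS hy).1.trans (le_iSup (fun L : c => (L : IntermediateField k K)) ⟨y, hy⟩), fun h => ?_⟩,
        fun L hL => le_iSup (fun L : c => (L : IntermediateField k K)) ⟨L, hL⟩⟩
      haveI : Nonempty c := ⟨⟨y, hy⟩⟩
      rw [← SetLike.mem_coe, IntermediateField.coe_iSup_of_directed hc.directedOn.directed_val,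
        Set.mem_iUnion] at h
      obtain ⟨⟨L, hL⟩, h⟩ := h
      exact (hcS hL).2 h
    · obtain ⟨y, hy⟩ := hF a h
      exact hno y hy
  have hpow : ∀ x : K, x ^ p ∈ L := fun x => hFL (IntermediateField.subset_adjoin k _ ⟨x, rfl⟩)
  have hmin : ∀ x : K, x ∉ L → minpoly L x = Polynomial.X ^ p - Polynomial.C (⟨x ^ p, hpow x⟩ : L) := by
    intro x hx
    symm
    refine minpoly.eq_of_irreducible_of_monic ?_ (by simp) (Polynomial.monic_X_pow_sub_C _ (Fact.out : p.Prime).ne_zero)
    refine X_pow_sub_C_irreducible_of_prime (Fact.out : p.Prime) fun b hb => hx ?_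
    have : ((b : K) - x) ^ p = 0 := by
      rw [sub_pow_char, ← SubmonoidClass.coe_pow, hb, sub_self]
    exact (sub_eq_zero.mp ((pow_eq_zero_iff (Fact.out : p.Prime).ne_zero).mp this)) ▸ b.2
  have hint : ∀ x : K, IsIntegral L x := fun x =>
    IsIntegral.of_pow (Fact.out : p.Prime).pos ((isIntegral_algebraMap (R := L) (A := K) (x := (⟨x ^ p, hpow x⟩ : L))))
  have htop : IntermediateField.adjoin L ({a} : Set K) = ⊤ := by
    rw [eq_top_iff]
    intro x _
    by_contra hx
    have hxL : x ∉ L := fun h => hx (IntermediateField.algebraMap_mem _ (⟨x, h⟩ : L))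
    let Lx : IntermediateField L K := IntermediateField.adjoin L ({x} : Set K)
    have hlt : L < Lx.restrictScalars k := by
      refine lt_of_le_of_ne (fun y hy => Lx.algebraMap_mem (⟨y, hy⟩ : L)) fun e => hxL ?_
      rw [e]
      exact IntermediateField.mem_adjoin_simple_self L x
    have haLx : a ∈ Lx := by
      by_contra h
      exact absurd (hmax (show Lx.restrictScalars k ∈ S from ⟨hFL.trans hlt.le, h⟩) hlt.le) hlt.not_ge
    have hle : IntermediateField.adjoin L ({a} : Set K) ≤ Lx :=
      IntermediateField.adjoin_simple_le_iff.mpr haLx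
    haveI : FiniteDimensional L Lx := IntermediateField.adjoin.finiteDimensional (hint x)
    have hdeg : ∀ y : K, y ∉ L → Module.finrank L (IntermediateField.adjoin L ({y} : Set K)) = p := fun y hy => by
      rw [IntermediateField.adjoin.finrank (hint y), hmin y hy, Polynomial.natDegree_X_pow_sub_C]
    have := IntermediateField.eq_of_le_of_finrank_eq hle ((hdeg a haL).trans (hdeg x hxL).symm)
    exact hx (this ▸ IntermediateField.mem_adjoin_simple_self L x)
  -- the derivation
  let pb := IntermediateField.adjoin.powerBasis (hint a)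
  let K' : IntermediateField L K := IntermediateField.adjoin L ({a} : Set K)
  have hdual : Polynomial.aeval (TrivSqZeroExt.inl a + TrivSqZeroExt.inr 1 : TrivSqZeroExt K K) (minpoly L pb.gen) = 0 := by
    rw [IntermediateField.adjoin.powerBasis_gen, IntermediateField.minpoly_gen, hmin a haL]
    simp only [map_sub, map_pow, Polynomial.aeval_X, Polynomial.aeval_C]
    have h1 : (TrivSqZeroExt.inl a + TrivSqZeroExt.inr 1 : TrivSqZeroExt K K) ^ p = TrivSqZeroExt.inl (a ^ p) := by
      refine TrivSqZeroExt.ext (by simp) ?_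
      simp [TrivSqZeroExt.snd_pow, ← Nat.cast_smul_eq_nsmul K, CharP.cast_eq_zero]
    rw [h1, sub_eq_zero]
    rfl
  let ψ : K →ₐ[L] TrivSqZeroExt K K :=
    (pb.lift _ hdual).comp ((IntermediateField.equivOfEq htop).trans IntermediateField.topEquiv).symm.toAlgHom
  have hψa : ψ a = TrivSqZeroExt.inl a + TrivSqZeroExt.inr 1 := by
    show pb.lift _ hdual _ = _
    convert pb.lift_gen _ hdual
    exact Subtype.ext rfl
  have hψ : ∀ x, (ψ x).fst = x := by
    intro x
    obtain ⟨y, rfl⟩ : ∃ y : K', (y : K) = x := ⟨⟨x, by show x ∈ IntermediateField.adjoin L ({a} : Set K); rw [htop]; exact IntermediateField.mem_top⟩, rfl⟩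
    have e : ((TrivSqZeroExt.fstHom L K K).comp (pb.lift _ hdual)) = K'.val :=
      pb.algHom_ext (by
        refine (congrArg (TrivSqZeroExt.fstHom L K K) (pb.lift_gen _ hdual)).trans ?_
        show (TrivSqZeroExt.inl a + TrivSqZeroExt.inr 1 : TrivSqZeroExt K K).fst = ((pb.gen : K') : K)
        simp only [TrivSqZeroExt.fst_add, TrivSqZeroExt.fst_inl, TrivSqZeroExt.fst_inr, add_zero]
        rfl)
    have : (TrivSqZeroExt.fstHom L K K) (pb.lift _ hdual y) = (y : K) := DFunLike.congr_fun e y
    have hy : ((IntermediateField.equivOfEq htop).trans IntermediateField.topEquiv).symm (y : K) = y :=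
      Subtype.ext rfl
    show (pb.lift _ hdual (((IntermediateField.equivOfEq htop).trans IntermediateField.topEquiv).symm (y : K))).fst = _
    exact (congrArg (fun z => (pb.lift _ hdual z).fst) hy).trans this
  let D : Derivation k K K := Derivation.mk'
    { toFun := fun x => (ψ x).snd
      map_add' := fun x y => by simp
      map_smul' := fun c x => by
        rw [RingHom.id_apply, IsScalarTower.algebraMap_smul L c x |>.symm, map_smul]
        simp [algebraMap_smul] } fun x y => by
    show (ψ (x * y)).snd = x • (ψ y).snd + y • (ψ x).snd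
    rw [map_mul, TrivSqZeroExt.snd_mul, hψ, hψ, op_smul_eq_smul]
  have : D a = 1 := by show (ψ a).snd = 1; rw [hψa]; simp
  rw [← D.liftKaehlerDifferential_comp_D a, hda, map_zero] at this
  exact zero_ne_one this

end Groth.Agent.S2148
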