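import Groth.Statements.S2149
import Mathlib

set_option autoImplicit false
universe u
open CAlg

namespace Groth.Agent.S2149

/-- Let `R → S` be a ring map and `u : M → M'` a map of `S`-modules. Then `u`, viewed as an `R`-linear
map, is universally injective exactly when, for every maximal ideal `𝔪` of `S`, the localized map
`M_𝔪 → M'_𝔪` is also universally injective as an `R`-linear map. -/
theorem result {R S M M' : Type u} [CommRing R] [CommRing S] [Algebra R S]
    [AddCommGroup M] [Module S M] [Module R M] [IsScalarTower R S M] [AddCommGroup M'] [Module S M'] [Module R M']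
    [IsScalarTower R S M'] (u : M →ₗ[S] M') :
    CAlgX.UniversallyInjective R (u.restrictScalars R) ↔
      ∀ (m : Ideal S) [m.IsMaximal],
        CAlgX.UniversallyInjective R ((LocalizedModule.map m.primeCompl u).restrictScalars R) := by
  classical
  have key : ∀ (Q : Type u) [AddCommGroup Q] [Module R Q],
      Function.Injective ((u.restrictScalars R).rTensor Q) ↔
      ∀ (m : Ideal S) [m.IsMaximal],
        Function.Injective (((LocalizedModule.map m.primeCompl u).restrictScalars R).rTensor Q) := by
    intro Q _ _
    let uQ : TensorProduct R M Q →ₗ[S] TensorProduct R M' Q := TensorProduct.AlgebraTensorModule.rTensor R Q u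
    have huQ : ∀ z, uQ z = (u.restrictScalars R).rTensor Q z := fun z => rfl
    have sq : ∀ (m : Ideal S) [m.IsMaximal] (z : TensorProduct R M Q),
        ((LocalizedModule.map m.primeCompl u).restrictScalars R).rTensor Q
          (TensorProduct.AlgebraTensorModule.rTensor R Q (LocalizedModule.mkLinearMap m.primeCompl M) z) =
        TensorProduct.AlgebraTensorModule.rTensor R Q (LocalizedModule.mkLinearMap m.primeCompl M') (uQ z) := by
      intro m _ z
      induction z using TensorProduct.induction_on with
      | zero => simp
      | add a b ha hb => simp only [map_add, ha, hb]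
      | tmul x y =>
        simp [uQ, LocalizedModule.mkLinearMap_apply, LocalizedModule.map_mk]
    constructor
    · intro hinj m _
      rw [injective_iff_map_eq_zero]
      intro z' hz'
      let g := TensorProduct.AlgebraTensorModule.rTensor R Q (LocalizedModule.mkLinearMap m.primeCompl M)
      obtain ⟨⟨z, s⟩, hzs⟩ := IsLocalizedModule.surj m.primeCompl g z'
      have hlin : ∀ (c : S) (w : TensorProduct R (LocalizedModule m.primeCompl M) Q),
          ((LocalizedModule.map m.primeCompl u).restrictScalars R).rTensor Q (c • w) =
            c • ((LocalizedModule.map m.primeCompl u).restrictScalars R).rTensor Q w := by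
        intro c w
        exact (TensorProduct.AlgebraTensorModule.rTensor R Q
          ((LocalizedModule.map m.primeCompl u).restrictScalars S)).map_smul c w
      have h1 := sq m z
      rw [show TensorProduct.AlgebraTensorModule.rTensor R Q (LocalizedModule.mkLinearMap m.primeCompl M) z =
        (s : S) • z' from hzs.symm, hlin, hz', smul_zero] at h1
      obtain ⟨t, ht⟩ := (IsLocalizedModule.eq_zero_iff m.primeCompl
        (TensorProduct.AlgebraTensorModule.rTensor R Q (LocalizedModule.mkLinearMap m.primeCompl M'))).mp h1.symm
      have ht' : uQ ((t : S) • z) = 0 := by rw [map_smul]; exact ht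
      rw [huQ] at ht'
      have hz0 : g z = 0 := (IsLocalizedModule.eq_zero_iff m.primeCompl g).mpr
        ⟨t, hinj (ht'.trans (map_zero _).symm)⟩
      rw [hz0] at hzs
      exact IsLocalizedModule.smul_injective g s (by
        show s • z' = s • (0 : TensorProduct R (LocalizedModule m.primeCompl M) Q)
        rw [smul_zero]; exact hzs)
    · intro h
      rw [injective_iff_map_eq_zero]
      intro z hz
      by_contra hne
      let I : Ideal S := (Submodule.span S {z}).annihilator
      have hI : I ≠ ⊤ := by
        intro ht
        apply hne
        have : (1 : S) ∈ I := ht ▸ Submodule.mem_top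
        simpa [I, Submodule.mem_annihilator_span_singleton] using this
      obtain ⟨m, hm, hle⟩ := Ideal.exists_le_maximal I hI
      have h1 := sq m z
      rw [huQ, hz, map_zero] at h1
      have h2 := h m (h1.trans (map_zero _).symm)
      obtain ⟨t, ht⟩ := (IsLocalizedModule.eq_zero_iff m.primeCompl
        (TensorProduct.AlgebraTensorModule.rTensor R Q (LocalizedModule.mkLinearMap m.primeCompl M))).mp h2
      exact t.2 (hle (by simpa [Submonoid.smul_def, I, Submodule.mem_annihilator_span_singleton] using ht))
  exact ⟨fun h m _ Q _ _ => (key Q).mp (h Q) m, fun h Q _ _ => (key Q).mpr fun m _ => h m Q⟩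

end Groth.Agent.S2149
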