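import Groth.Statements.S2154
import Groth.Agent.Approx.FiniteStage

set_option autoImplicit false
set_option backward.isDefEq.respectTransparency false
set_option backward.isDefEq.respectTransparency.types false
universe u
open CategoryTheory AlgebraicGeometry
open Lim

namespace Groth.Agent.S2154

/-- Let `S` be quasi-compact and quasi-separated and `X = lim X_i` a cofiltered limit of quasi-compact
quasi-separated `S`-schemes locally of finite type over `S`, with finite transition morphisms. If `X
→ S` is integral then `X_i → S` is finite for all `i` beyond some index. -/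
theorem result {I : Type u} [SmallCategory I] [IsCofiltered I] (S : Scheme.{u}) [CompactSpace S]
    [QuasiSeparatedSpace S] (D : I ⥤ Over S) (c : Limits.Cone D) (hc : Limits.IsLimit c)
    [∀ (i j : I) (f : i ⟶ j), IsFinite (D.map f).left] [∀ i, CompactSpace (D.obj i).left]
    [∀ i, QuasiSeparatedSpace (D.obj i).left] [∀ i, LocallyOfFiniteType (D.obj i).hom] [IsIntegralHom c.pt.hom] :
    ∃ i₀ : I, ∀ (i : I) (_ : i ⟶ i₀), IsFinite (D.obj i).hom := by
  let t : D ⋙ Over.forget S ⟶ (Functor.const I).obj S :=
    { app := fun i => (D.obj i).hom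
      naturality := fun i j a => by simp }
  let c' := (Over.forget S).mapCone c
  haveI hc' : Limits.IsLimit c' := Limits.isLimitOfPreserves (Over.forget S) hc
  haveI : ∀ {i j : I} (f : i ⟶ j), IsFinite ((D ⋙ Over.forget S).map f) := fun f => by
    dsimp; infer_instance
  haveI : ∀ i, CompactSpace ((D ⋙ Over.forget S).obj i) := fun i => by dsimp; infer_instance
  haveI : ∀ i, QuasiSeparatedSpace ((D ⋙ Over.forget S).obj i) := fun i => by dsimp; infer_instance
  haveI : ∀ i, LocallyOfFiniteType (t.app i) := fun i => by dsimp [t]; infer_instance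
  obtain ⟨i0⟩ := IsCofiltered.nonempty (C := I)
  haveI : IsIntegralHom (c'.π.app i0 ≫ t.app i0) := by
    have : c'.π.app i0 ≫ t.app i0 = c.pt.hom := Over.w (c.π.app i0)
    rw [this]; infer_instance
  exact Groth.Agent.Approx.exists_isFinite_stage (D ⋙ Over.forget S) t c' hc' i0

end Groth.Agent.S2154
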