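import Groth.Statements.S2158
import Groth.Agent.OmegaUniv.Unram
-- import your own Groth.Agent.* helpers here

set_option autoImplicit false
universe u
open CategoryTheory AlgebraicGeometry
open Mor

namespace Groth.Agent.S2158

/-- Let `f : X → S` be locally of finite type and quasi-separated (so that the diagonal is quasi-compact
and the prelude's sheaf of differentials is the conormal sheaf of the diagonal near every point), `x
∈ X`, `s = f(x)`. Then the stalk `Ω_{X/S,x}` vanishes if and only if `𝔪_s O_{X,x} = 𝔪_x` and
`κ(x)/κ(s)` is a finite separable extension. -/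
theorem result {X S : Scheme.{u}} (f : X ⟶ S) [LocallyOfFiniteType f] [QuasiSeparated f] (x : X) :
    Subsingleton ((Omega.sheaf f).presheaf.stalk x) ↔
      ((IsLocalRing.maximalIdeal (S.presheaf.stalk (f.base x))).map (f.stalkMap x).hom =
          IsLocalRing.maximalIdeal (X.presheaf.stalk x) ∧
        (f.residueFieldMap x).hom.Finite ∧
        @Algebra.IsSeparable (S.residueField (f.base x)) (X.residueField x) _ _ (f.residueFieldMap x).hom.toAlgebra) := by
  rw [Groth.Agent.OmegaUniv.subsingleton_stalk_iff_stalkMap]
  algebraize [(f.stalkMap x).hom]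
  haveI : IsLocalHom (algebraMap (S.presheaf.stalk (f x)) (X.presheaf.stalk x)) :=
    inferInstanceAs <| IsLocalHom (f.stalkMap x).hom
  haveI : Algebra.EssFiniteType (S.presheaf.stalk (f x)) (X.presheaf.stalk x) := by
    rw [← RingHom.essFiniteType_algebraMap, RingHom.algebraMap_toAlgebra]
    exact LocallyOfFiniteType.stalkMap f x
  have hsep : Algebra.IsSeparable (IsLocalRing.ResidueField <| S.presheaf.stalk (f x))
      (IsLocalRing.ResidueField <| X.presheaf.stalk x) ↔
      @Algebra.IsSeparable (S.residueField (f.base x)) (X.residueField x) _ _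
        (f.residueFieldMap x).hom.toAlgebra := by
    suffices h : (inferInstance : Algebra (IsLocalRing.ResidueField <| S.presheaf.stalk (f x))
        (IsLocalRing.ResidueField <| X.presheaf.stalk x)) = (f.residueFieldMap x).hom.toAlgebra by
      rw [← h]; rfl
    refine Algebra.algebra_ext _ _ fun r => ?_
    obtain ⟨r, rfl⟩ := IsLocalRing.residue_surjective r
    rfl
  change Algebra.FormallyUnramified (S.presheaf.stalk (f x)) (X.presheaf.stalk x) ↔ _
  rw [Algebra.FormallyUnramified.iff_map_maximalIdeal_eq, hsep]
  refine ⟨fun h => ⟨h.2, ?_, h.1⟩, fun h => ⟨h.2.2, h.1⟩⟩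
  haveI : Algebra.FormallyUnramified (S.presheaf.stalk (f x)) (X.presheaf.stalk x) :=
    Algebra.FormallyUnramified.iff_map_maximalIdeal_eq.2 ⟨hsep.2 h.1, h.2⟩
  have hfin : Module.Finite (IsLocalRing.ResidueField <| S.presheaf.stalk (f x))
      (IsLocalRing.ResidueField <| X.presheaf.stalk x) := inferInstance
  have he : (f.residueFieldMap x).hom = algebraMap (IsLocalRing.ResidueField <| S.presheaf.stalk (f x))
      (IsLocalRing.ResidueField <| X.presheaf.stalk x) := by
    refine RingHom.ext fun r => ?_
    obtain ⟨r, rfl⟩ := IsLocalRing.residue_surjective r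
    rfl
  rw [he]
  exact (RingHom.finite_algebraMap (A := IsLocalRing.ResidueField (S.presheaf.stalk (f x)))
    (B := IsLocalRing.ResidueField (X.presheaf.stalk x))).2 hfin

end Groth.Agent.S2158
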