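import Groth.Statements.S2159
-- import your own Groth.Agent.* helpers here

set_option autoImplicit false
universe u
open CAlg

namespace Groth.Agent.S2159

/-- Given surjections `p₁ : P₁ → M` and `p₂ : P₂ → M` from projective modules, with kernels `K` and `L`,
there is an isomorphism `K ⊕ P₂ ≅ L ⊕ P₁`. -/
theorem result {R M P₁ P₂ : Type u} [CommRing R] [AddCommGroup M] [Module R M] [AddCommGroup P₁] [Module R P₁]
    [Module.Projective R P₁] [AddCommGroup P₂] [Module R P₂] [Module.Projective R P₂] (p₁ : P₁ →ₗ[R] M) (p₂ : P₂ →ₗ[R] M)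
    (h₁ : Function.Surjective p₁) (h₂ : Function.Surjective p₂) :
    Nonempty ((LinearMap.ker p₁ × P₂) ≃ₗ[R] (LinearMap.ker p₂ × P₁)) := by
  obtain ⟨φ, hφ⟩ := Module.projective_lifting_property p₁ p₂ h₁
  obtain ⟨ψ, hψ⟩ := Module.projective_lifting_property p₂ p₁ h₂
  have eφ : ∀ b, p₁ (φ b) = p₂ b := fun b => LinearMap.congr_fun hφ b
  have eψ : ∀ a, p₂ (ψ a) = p₁ a := fun a => LinearMap.congr_fun hψ a
  let F : (LinearMap.ker p₁ × P₂) →ₗ[R] (LinearMap.ker p₂ × P₁) :=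
    LinearMap.prod
      (LinearMap.codRestrict _ (LinearMap.snd R _ _ - ψ ∘ₗ ((LinearMap.ker p₁).subtype.coprod φ))
        (fun x => by simp [eψ, eφ, LinearMap.mem_ker.mp x.1.2]))
      ((LinearMap.ker p₁).subtype.coprod φ)
  let G : (LinearMap.ker p₂ × P₁) →ₗ[R] (LinearMap.ker p₁ × P₂) :=
    LinearMap.prod
      (LinearMap.codRestrict _ (LinearMap.snd R _ _ - φ ∘ₗ ((LinearMap.ker p₂).subtype.coprod ψ))
        (fun x => by simp [eψ, eφ, LinearMap.mem_ker.mp x.1.2]))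
      ((LinearMap.ker p₂).subtype.coprod ψ)
  refine ⟨LinearEquiv.ofLinearMap F G ?_ ?_⟩
  · apply LinearMap.ext; rintro ⟨⟨l, hl⟩, a⟩
    refine Prod.ext (Subtype.ext ?_) ?_ <;> simp [F, G]
  · apply LinearMap.ext; rintro ⟨⟨k, hk⟩, b⟩
    refine Prod.ext (Subtype.ext ?_) ?_ <;> simp [F, G]

end Groth.Agent.S2159
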