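import Groth.Statements.S2160
import Mathlib

set_option autoImplicit false
universe u
open CAlg

namespace Groth.Agent.S2160

/-- Let `R` be a Noetherian local domain of Krull dimension at least `2`. Then every nonempty open
subset of `Spec R` is infinite. -/
theorem result {R : Type u} [CommRing R] [IsDomain R] [IsLocalRing R] [IsNoetherianRing R]
    (hdim : 2 ≤ ringKrullDim R) (U : Set (PrimeSpectrum R)) (hU : IsOpen U) (hne : U.Nonempty) : U.Infinite := by
  classical
  intro hfin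
  obtain ⟨p₀, hp₀⟩ := hne
  obtain ⟨_, ⟨f, rfl⟩, hf, hfU⟩ :=
    PrimeSpectrum.isTopologicalBasis_basic_opens.exists_subset_of_mem_open hp₀ hU
  have hf0 : f ≠ 0 := fun h => hf (h ▸ p₀.asIdeal.zero_mem)
  let T : Set (Ideal R) := (Ideal.span {f}).minimalPrimes ∪
    {P | ∃ q ∈ U, q.asIdeal = P ∧ P.height ≤ 1}
  have hTfin : T.Finite := (Ideal.finite_minimalPrimes_of_isNoetherianRing R _).union
    ((hfin.image PrimeSpectrum.asIdeal).subset (by rintro P ⟨q, hq, rfl, -⟩; exact ⟨q, hq, rfl⟩))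
  have hTht : ∀ P ∈ T, P.IsPrime ∧ P.height ≤ 1 := by
    rintro P (hP | ⟨q, -, rfl, hle⟩)
    · exact ⟨hP.isPrime, Ideal.height_le_one_of_isPrincipal_of_mem_minimalPrimes _ P hP⟩
    · exact ⟨q.isPrime, hle⟩
  set m := IsLocalRing.maximalIdeal R
  have hmem : ∀ x ∈ m, x ≠ 0 → ∃ P ∈ T, x ∈ P := by
    intro x hx hx0
    obtain ⟨P, hP, -⟩ := Ideal.exists_minimalPrimes_le (I := Ideal.span {x}) (J := m)
      ((Ideal.span_singleton_le_iff_mem _).mpr hx)
    have hPle := Ideal.height_le_one_of_isPrincipal_of_mem_minimalPrimes _ P hP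
    haveI := hP.isPrime
    have hxP : x ∈ P := hP.le (Ideal.mem_span_singleton_self x)
    refine ⟨P, ?_, hxP⟩
    by_cases hfP : f ∈ P
    · obtain ⟨Q, hQ, hQP⟩ := Ideal.exists_minimalPrimes_le (I := Ideal.span {f}) (J := P)
        ((Ideal.span_singleton_le_iff_mem _).mpr hfP)
      rcases eq_or_lt_of_le hQP with rfl | hlt
      · exact Or.inl hQ
      · exfalso
        haveI := hQ.isPrime
        haveI : P.FiniteHeight := P.finiteHeight_iff.mpr (Or.inr (ne_top_of_le_ne_top (by simp) hPle))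
        have h1 := Ideal.height_strict_mono_of_isPrime_of_isPrime hlt
        have h0 : Q.height ≠ 0 := by
          rw [ne_eq, Ideal.height_eq_zero_iff_eq_bot]
          intro hb
          exact hf0 (by simpa [hb] using hQ.le (Ideal.mem_span_singleton_self f))
        have : Q.height < 1 := lt_of_lt_of_le h1 hPle
        exact h0 (by simpa using this)
    · exact Or.inr ⟨⟨P, hP.isPrime⟩, hfU hfP, rfl, hPle⟩
  have hm0 : m ≠ ⊥ := by
    intro hb
    have := IsLocalRing.maximalIdeal_height_eq_ringKrullDim (R := R)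
    rw [show IsLocalRing.maximalIdeal R = ⊥ from hb, Ideal.height_bot] at this
    rw [← this] at hdim
    exact absurd hdim (by decide)
  obtain ⟨x₁, hx₁, hx₁0⟩ := Submodule.exists_mem_ne_zero_of_ne_bot hm0
  obtain ⟨P₁, hP₁, -⟩ := hmem x₁ hx₁ hx₁0
  have hsub : (m : Set R) ⊆ ⋃ P ∈ hTfin.toFinset, (P : Set R) := by
    intro x hx
    simp only [Set.mem_iUnion, Set.Finite.mem_toFinset, SetLike.mem_coe]
    by_cases hx0 : x = 0
    · exact ⟨P₁, hP₁, hx0 ▸ P₁.zero_mem⟩
    · obtain ⟨P, hP, hxP⟩ := hmem x hx hx0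
      exact ⟨P, hP, hxP⟩
  obtain ⟨P, hP, hle⟩ := (Ideal.subset_union_prime ⊥ ⊥ fun P hP _ _ =>
    (hTht P (hTfin.mem_toFinset.mp hP)).1).mp hsub
  have h1 : m.height ≤ 1 := (Ideal.height_mono hle).trans (hTht P (hTfin.mem_toFinset.mp hP)).2
  rw [← IsLocalRing.maximalIdeal_height_eq_ringKrullDim] at hdim
  have h2 : ((2 : ℕ∞) : WithBot ℕ∞) ≤ ((1 : ℕ∞) : WithBot ℕ∞) := le_trans hdim (WithBot.coe_le_coe.mpr h1)
  exact absurd (WithBot.coe_le_coe.mp h2) (by decide)

end Groth.Agent.S2160
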