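import Groth.Statements.S2161
import Mathlib

set_option autoImplicit false
universe u
open CAlg

namespace Groth.Agent.S2161

/-- Let R → S be a ring map whose kernel consists of nilpotent elements, and suppose S is generated as
an R-algebra by elements x for which some power (T − x)ⁿ, n > 0, is the image of a polynomial over
R. Then Spec S → Spec R is a homeomorphism, and for every prime 𝔮 of S over 𝔭 the extension
κ(𝔮)/κ(𝔭) is purely inseparable. -/
theorem result {R S : Type u} [CommRing R] [CommRing S] [Algebra R S]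
    (hker : ∀ r : R, algebraMap R S r = 0 → IsNilpotent r) (G : Set S) (hG : Algebra.adjoin R G = ⊤)
    (hpow : ∀ x ∈ G, ∃ (n : ℕ) (P : Polynomial R), 0 < n ∧
      Polynomial.map (algebraMap R S) P = (Polynomial.X - Polynomial.C x) ^ n) :
    IsHomeomorph (PrimeSpectrum.comap (algebraMap R S)) ∧
      ∀ (q : Ideal S) [q.IsPrime] (p : Ideal R) [p.IsPrime] [q.LiesOver p],
        @IsPurelyInseparable p.ResidueField q.ResidueField _ _
          (Ideal.ResidueField.mapₐ p q (Algebra.ofId R S) (q.over_def p)).toRingHom.toAlgebra := by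
  classical
  set_option synthInstance.maxHeartbeats 200000 in
  have hx_int : ∀ x ∈ G, IsIntegral R x := by
    intro x hx
    rcases subsingleton_or_nontrivial S with hS | hS
    · rw [Subsingleton.elim x 0]; exact isIntegral_zero
    obtain ⟨n, P, hn, hP⟩ := hpow x hx
    have hl : (Polynomial.X - Polynomial.C x) ^ n ∈ Polynomial.lifts (algebraMap R S) := ⟨P, hP⟩
    obtain ⟨Q, hQ, -, hmon⟩ := Polynomial.lifts_and_degree_eq_and_monic hl ((Polynomial.monic_X_sub_C x).pow n)
    refine ⟨Q, hmon, ?_⟩
    rw [Polynomial.eval₂_eq_eval_map, hQ]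
    simp [hn.ne']
  have hall : ∀ z : S, IsIntegral R z := by
    intro z
    have hz : z ∈ Algebra.adjoin R G := by rw [hG]; exact Algebra.mem_top
    exact (integralClosure R S).toSubmodule.mem_carrier.1
      ((Algebra.adjoin_le (S := integralClosure R S) fun x hx => hx_int x hx) hz)
  haveI : Algebra.IsIntegral R S := ⟨hall⟩
  have agree : ∀ (Ω : Type u) [Field Ω] (φ ψ : S →+* Ω), φ.comp (algebraMap R S) = ψ.comp (algebraMap R S) → φ = ψ := by
    intro Ω _ φ ψ h
    have hGeq : ∀ x ∈ G, φ x = ψ x := by
      intro x hx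
      obtain ⟨n, P, hn, hP⟩ := hpow x hx
      have e1 : P.map (φ.comp (algebraMap R S)) = (Polynomial.X - Polynomial.C (φ x)) ^ n := by
        rw [← Polynomial.map_map, hP]; simp
      have e2 : P.map (ψ.comp (algebraMap R S)) = (Polynomial.X - Polynomial.C (ψ x)) ^ n := by
        rw [← Polynomial.map_map, hP]; simp
      rw [h, e2] at e1
      have := congrArg (Polynomial.eval (ψ x)) e1
      simp only [Polynomial.eval_pow, Polynomial.eval_sub, Polynomial.eval_X, Polynomial.eval_C, sub_self,
        zero_pow hn.ne'] at this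
      exact (sub_eq_zero.1 ((pow_eq_zero_iff hn.ne').1 this.symm)).symm
    ext z
    have hz : z ∈ Algebra.adjoin R G := by rw [hG]; exact Algebra.mem_top
    induction hz using Algebra.adjoin_induction with
    | mem x hx => exact hGeq x hx
    | algebraMap r => exact RingHom.congr_fun h r
    | add a b _ _ ha hb => rw [map_add, map_add, ha, hb]
    | mul a b _ _ ha hb => rw [map_mul, map_mul, ha, hb]
  refine ⟨?_, ?_⟩
  · rw [isHomeomorph_iff_continuous_isClosedMap_bijective]
    refine ⟨PrimeSpectrum.continuous_comap _, PrimeSpectrum.isClosedMap_comap_of_isIntegral _ (fun x => hall x), ?_, ?_⟩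
    · intro q₁ q₂ h
      let p := PrimeSpectrum.comap (algebraMap R S) q₁
      haveI : q₁.asIdeal.LiesOver p.asIdeal := ⟨rfl⟩
      haveI : q₂.asIdeal.LiesOver p.asIdeal := ⟨congrArg PrimeSpectrum.asIdeal h⟩
      let Ω := AlgebraicClosure p.asIdeal.ResidueField
      let f₁ := Ideal.ResidueField.mapₐ p.asIdeal q₁.asIdeal (Algebra.ofId R S) (q₁.asIdeal.over_def p.asIdeal)
      let f₂ := Ideal.ResidueField.mapₐ p.asIdeal q₂.asIdeal (Algebra.ofId R S) (q₂.asIdeal.over_def p.asIdeal)
      letI := f₁.toRingHom.toAlgebra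
      letI a2 := f₂.toRingHom.toAlgebra
      haveI : IsScalarTower R p.asIdeal.ResidueField q₁.asIdeal.ResidueField := IsScalarTower.of_algebraMap_eq fun r => (f₁.commutes r).symm
      haveI : IsScalarTower R p.asIdeal.ResidueField q₂.asIdeal.ResidueField := IsScalarTower.of_algebraMap_eq fun r => (f₂.commutes r).symm
      have alg : ∀ (q : PrimeSpectrum S) [Algebra p.asIdeal.ResidueField q.asIdeal.ResidueField]
          [IsScalarTower R p.asIdeal.ResidueField q.asIdeal.ResidueField],
          Algebra.IsAlgebraic p.asIdeal.ResidueField q.asIdeal.ResidueField := fun q _ _ => by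
        refine ⟨fun z => ?_⟩
        obtain ⟨a, b, hb, rfl⟩ := IsFractionRing.div_surjective (S ⧸ q.asIdeal) z
        have hi : ∀ c : S ⧸ q.asIdeal, IsIntegral p.asIdeal.ResidueField (algebraMap (S ⧸ q.asIdeal) q.asIdeal.ResidueField c) := by
          intro c
          obtain ⟨c, rfl⟩ := Ideal.Quotient.mk_surjective c
          have h0 := (hall c).map (IsScalarTower.toAlgHom R S q.asIdeal.ResidueField)
          exact h0.tower_top
        rw [div_eq_mul_inv]
        exact ((hi a).mul (hi b).inv).isAlgebraic
      haveI := alg q₁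
      haveI := alg q₂
      let j₁ : q₁.asIdeal.ResidueField →ₐ[p.asIdeal.ResidueField] Ω := IsAlgClosed.lift
      let j₂ : q₂.asIdeal.ResidueField →ₐ[p.asIdeal.ResidueField] Ω := IsAlgClosed.lift
      have key := agree Ω (j₁.toRingHom.comp (algebraMap S q₁.asIdeal.ResidueField))
        (j₂.toRingHom.comp (algebraMap S q₂.asIdeal.ResidueField)) (RingHom.ext fun r => by
          show j₁ (algebraMap S q₁.asIdeal.ResidueField (algebraMap R S r)) = j₂ (algebraMap S q₂.asIdeal.ResidueField (algebraMap R S r))
          rw [← IsScalarTower.algebraMap_apply, ← IsScalarTower.algebraMap_apply,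
            IsScalarTower.algebraMap_apply R p.asIdeal.ResidueField q₁.asIdeal.ResidueField,
            IsScalarTower.algebraMap_apply R p.asIdeal.ResidueField q₂.asIdeal.ResidueField, j₁.commutes, j₂.commutes])
      have hk : ∀ (q : PrimeSpectrum S) (j : q.asIdeal.ResidueField →+* Ω),
          RingHom.ker (j.comp (algebraMap S q.asIdeal.ResidueField)) = q.asIdeal := fun q j => by
        rw [RingHom.ker_comp_of_injective _ j.injective, Ideal.ker_algebraMap_residueField]
      apply PrimeSpectrum.ext
      rw [← hk q₁ j₁.toRingHom, key, hk q₂ j₂.toRingHom]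
    · intro p
      have hker : RingHom.ker (algebraMap R S) ≤ p.asIdeal := fun r hr => by
        obtain ⟨k, hk⟩ := hker r hr
        exact p.isPrime.mem_of_pow_mem k (hk ▸ Ideal.zero_mem _)
      obtain ⟨q, -, hq, hqp⟩ := Ideal.exists_ideal_over_prime_of_isIntegral (S := S) p.asIdeal ⊥ (by rwa [← RingHom.ker_eq_comap_bot])
      exact ⟨⟨q, hq⟩, PrimeSpectrum.ext hqp⟩
  · intro q _ p _ _
    letI := (Ideal.ResidueField.mapₐ p q (Algebra.ofId R S) (q.over_def p)).toRingHom.toAlgebra
    haveI : IsScalarTower R p.ResidueField q.ResidueField :=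
      IsScalarTower.of_algebraMap_eq fun r => ((Ideal.ResidueField.mapₐ p q (Algebra.ofId R S) (q.over_def p)).commutes r).symm
    rw [isPurelyInseparable_iff_subsingleton_emb]
    refine ⟨fun φ ψ => AlgHom.coe_ringHom_injective (Ideal.ResidueField.ringHom_ext (agree _ _ _ (RingHom.ext fun r => ?_)))⟩
    show φ (algebraMap S q.ResidueField (algebraMap R S r)) = ψ (algebraMap S q.ResidueField (algebraMap R S r))
    rw [← IsScalarTower.algebraMap_apply, IsScalarTower.algebraMap_apply R p.ResidueField q.ResidueField, φ.commutes, ψ.commutes]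

end Groth.Agent.S2161
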