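import Groth.Statements.S2164
import Groth.Agent.AvramovLib.Main

set_option autoImplicit false
universe u
open LCI

namespace Groth.Agent.S2164

/-- For a flat local map A -> B between Noetherian local rings, B is a complete intersection (completion
isomorphic to a regular local ring modulo a regular sequence) exactly when A and the closed fibre
B/m_A B both are. The instance binder asking the fibre ring to be local is automatic. -/
theorem result {A B : Type u} [CommRing A] [CommRing B] [IsNoetherianRing A]
    [IsNoetherianRing B] [IsLocalRing A] [IsLocalRing B] [Algebra A B]
    [IsLocalHom (algebraMap A B)] [Module.Flat A B]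
    [IsLocalRing (B ⧸ Ideal.map (algebraMap A B) (IsLocalRing.maximalIdeal A))] :
    Pi1.IsCompleteIntersection B ↔
      (Pi1.IsCompleteIntersection A ∧
        Pi1.IsCompleteIntersection (B ⧸ Ideal.map (algebraMap A B) (IsLocalRing.maximalIdeal A))) := by
  exact Groth.Agent.AvramovLib.avramov


end Groth.Agent.S2164
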