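import Groth.Statements.S2167
import Groth.Agent.Synt29.CIKernel

set_option autoImplicit false
universe u
open LCI

namespace Groth.Agent.S2167

/-- Equivalence of (2) and (3), special case with R already a regular local ring: for a regular local
ring R and a proper ideal I, the ideal I is generated by a regular sequence if and only if the
conormal module I/I^2 can be generated by (dim R - dim R/I) elements, the inequality below being the
additive form of that count. -/
theorem result {R : Type u} [CommRing R] [IsRegularLocalRing R]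
    (I : Ideal R) (hI : I ≠ ⊤) :
    (∃ rs : List R, Ideal.ofList rs = I ∧ RingTheory.Sequence.IsRegular R rs) ↔
      (((⊤ : Submodule (R ⧸ I) I.Cotangent).spanFinrank : WithBot ℕ∞) + ringKrullDim (R ⧸ I)
        ≤ ringKrullDim R) := by
  haveI : Nontrivial (R ⧸ I) := Ideal.Quotient.nontrivial_iff.2 hI
  haveI : IsLocalRing (R ⧸ I) := IsLocalRing.of_surjective' (Ideal.Quotient.mk I) Ideal.Quotient.mk_surjective
  have key := Groth.Agent.Synt29.ciKer_iff_regular (Ideal.Quotient.mk I) Ideal.Quotient.mk_surjective
  rw [show (∃ rs : List R, Ideal.ofList rs = I ∧ RingTheory.Sequence.IsRegular R rs) ↔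
    Groth.Agent.Synt29.CIKer (Ideal.Quotient.mk I) by
      rw [key, Ideal.mk_ker]
      exact ⟨fun ⟨rs, h1, h2⟩ => ⟨rs, h2, h1.symm⟩, fun ⟨rs, h1, h2⟩ => ⟨rs, h2.symm, h1⟩⟩]
  constructor
  · rintro ⟨r, k, hk, hdim⟩
    rw [Ideal.mk_ker] at hk
    have hkI : ∀ i, k i ∈ I := fun i => hk ▸ Ideal.subset_span ⟨i, rfl⟩
    let c : Fin r → I.Cotangent := fun i => I.toCotangent ⟨k i, hkI i⟩
    have htop : (⊤ : Submodule (R ⧸ I) I.Cotangent) = Submodule.span (R ⧸ I) (Set.range c) := by
      refine le_antisymm (fun z _ => ?_) le_top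
      obtain ⟨⟨x, hx⟩, rfl⟩ := I.toCotangent_surjective z
      obtain ⟨a, ha⟩ := Ideal.mem_span_range_iff_exists_fun.1 (show x ∈ Ideal.span (Set.range k) from hk ▸ hx)
      have : I.toCotangent ⟨x, hx⟩ = ∑ i, (Ideal.Quotient.mk I (a i)) • c i := by
        have e : (⟨x, hx⟩ : I) = ∑ i, a i • (⟨k i, hkI i⟩ : I) := Subtype.ext (by simp [ha])
        rw [e, map_sum]
        exact Finset.sum_congr rfl fun i _ => map_smul _ _ _
      rw [this]
      exact Submodule.sum_mem _ fun i _ => Submodule.smul_mem _ _ (Submodule.subset_span ⟨i, rfl⟩)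
    have hle : (⊤ : Submodule (R ⧸ I) I.Cotangent).spanFinrank ≤ r := by
      rw [htop]
      refine (Submodule.spanFinrank_span_le_ncard_of_finite (Set.finite_range _)).trans ?_
      rw [← Set.image_univ]
      exact (Set.ncard_image_le Set.finite_univ).trans (by simp)
    rw [hdim, add_comm]
    exact add_le_add le_rfl (by exact_mod_cast hle)
  · intro hle
    haveI : Module.Finite R I := Module.Finite.iff_fg.2 I.fg_of_isNoetherianRing
    haveI : Module.Finite R I.Cotangent := Module.Finite.of_surjective I.toCotangent I.toCotangent_surjective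
    haveI : Module.Finite (R ⧸ I) I.Cotangent := Module.Finite.of_restrictScalars_finite R (R ⧸ I) _
    have hfg : (⊤ : Submodule (R ⧸ I) I.Cotangent).FG := Module.Finite.fg_top
    let g := (⊤ : Submodule (R ⧸ I) I.Cotangent).generators
    have hgfin : g.Finite := hfg.finite_generators
    haveI := hgfin.fintype
    let e : Fin (Fintype.card g) ≃ g := (Fintype.equivFin g).symm
    choose k hk using fun i => I.toCotangent_surjective ((e i : g) : I.Cotangent)
    have hI' : I ≤ Ideal.span (Set.range fun i => (k i : R)) ⊔ I • I := by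
      intro x hx
      have hmem : I.toCotangent ⟨x, hx⟩ ∈ Submodule.span (R ⧸ I) (Set.range fun i => I.toCotangent (k i)) := by
        have hr : (Set.range fun i => I.toCotangent (k i)) = g := by
          ext z
          constructor
          · rintro ⟨i, rfl⟩; show I.toCotangent (k i) ∈ g; rw [hk i]; exact (e i).2
          · intro hz; exact ⟨e.symm ⟨z, hz⟩, (hk _).trans (by rw [Equiv.apply_symm_apply])⟩
        rw [hr, Submodule.span_generators]
        trivial
      obtain ⟨a, ha⟩ := (Submodule.mem_span_range_iff_exists_fun (R ⧸ I)).1 hmem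
      choose b hb using fun i => Ideal.Quotient.mk_surjective (a i)
      have hsum : I.toCotangent (∑ i, b i • k i) = I.toCotangent ⟨x, hx⟩ := by
        rw [map_sum, ← ha]
        exact Finset.sum_congr rfl fun i _ => by rw [map_smul, ← hb i]; rfl
      have hd := (Ideal.toCotangent_eq I).1 hsum.symm
      rw [pow_two] at hd
      have : x = ∑ i, b i * (k i : R) + (x - ∑ i, b i * (k i : R)) := by ring
      rw [this]
      refine Submodule.add_mem_sup (Ideal.sum_mem _ fun i _ => Ideal.mul_mem_left _ _ (Ideal.subset_span ⟨i, rfl⟩)) ?_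
      simpa using hd
    have hspan : I = Ideal.span (Set.range fun i => (k i : R)) :=
      le_antisymm (Submodule.le_of_le_smul_of_le_jacobson_bot I.fg_of_isNoetherianRing
        ((IsLocalRing.le_maximalIdeal hI).trans (IsLocalRing.maximalIdeal_le_jacobson ⊥)) hI')
        (Ideal.span_le.2 (Set.range_subset_iff.2 fun i => (k i).2))
    refine ⟨Fintype.card g, fun i => (k i : R), by rw [Ideal.mk_ker]; exact hspan, le_antisymm ?_ ?_⟩
    · refine (ringKrullDim_le_ringKrullDim_add_spanFinrank (I := I) hI).trans (add_le_add le_rfl (Nat.cast_le.2 ?_))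
      refine (congrArg Submodule.spanFinrank hspan).trans_le ?_
      refine (Submodule.spanFinrank_span_le_ncard_of_finite (Set.finite_range _)).trans ?_
      rw [← Set.image_univ]
      exact (Set.ncard_image_le Set.finite_univ).trans (by simp)
    · rw [← hfg.generators_ncard, ← Nat.card_coe_set_eq, Nat.card_eq_fintype_card, add_comm] at hle
      exact_mod_cast hle


end Groth.Agent.S2167
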