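import Groth.Statements.S2170
import Groth.Agent.NumType.Basic
-- import your own Groth.Agent.* helpers here

set_option autoImplicit false
open Finset
open Models

namespace Groth.Agent.S2170

/-- Let A be a symmetric real n × n matrix with non-negative off-diagonal entries and m a vector with
positive entries such that for every i, ∑_{j ≠ i} A_{ij} m_j ≤ −A_{ii} m_i. Then the kernel of A is
the span of the vectors equal to m on an index set I and zero off I, for those I such that A_{ij} =
0 whenever i ∈ I and j ∉ I and such that equality holds in the above inequality for every i ∈ I. The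
published statement omits the symmetry of A (without which it fails) and applies it only to
symmetric matrices; stated here with A symmetric. -/
theorem result {n : ℕ} (A : Matrix (Fin n) (Fin n) ℝ) (m : Fin n → ℝ)
    (hsymm : A.IsSymm) (hA : ∀ i j, i ≠ j → 0 ≤ A i j) (hm : ∀ i, 0 < m i)
    (hle : ∀ i, ∑ j ∈ univ.erase i, A i j * m j ≤ -(A i i * m i)) :
    LinearMap.ker (Matrix.mulVecLin A) = Submodule.span ℝ
      {x : Fin n → ℝ | ∃ I : Finset (Fin n), (∀ i ∈ I, ∀ j ∉ I, A i j = 0) ∧
        (∀ i ∈ I, ∑ j ∈ univ.erase i, A i j * m j = -(A i i * m i)) ∧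
        x = fun i => if i ∈ I then m i else 0} := by
  classical
  have hrow : ∀ i, ∑ j, A i j * m j ≤ 0 := fun i => by
    rw [← Finset.add_sum_erase _ _ (mem_univ i)]; linarith [hle i]
  refine le_antisymm (fun x hx => ?_) (Submodule.span_le.2 ?_)
  · have hx0 : ∀ i, ∑ j, A i j * x j = 0 := fun i => congrFun hx i
    have key := NumType.quad_nonpos_and_eq (fun i j => A i j) (fun i j => (hsymm.apply i j).symm)
      hA m hm hrow (fun i => x i / m i)
    have e : ∀ i, m i * (x i / m i) = x i := fun i => mul_div_cancel₀ _ (hm i).ne'
    simp only [e] at key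
    obtain ⟨h1, h2⟩ := key.2 (Finset.sum_eq_zero fun i _ => by
      calc ∑ j, A i j * (x i * x j) = x i * ∑ j, A i j * x j := by
            rw [Finset.mul_sum]; exact Finset.sum_congr rfl fun j _ => by ring
        _ = 0 := by rw [hx0, mul_zero])
    let y : Fin n → ℝ := fun i => x i / m i
    let C : Finset ℝ := (univ.image y).erase 0
    have hxe : x = ∑ c ∈ C, c • (fun i => if i ∈ univ.filter (fun l => y l = c) then m i else 0) := by
      funext i
      simp only [Finset.sum_apply, Pi.smul_apply, smul_eq_mul, mem_filter, mem_univ, true_and,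
        mul_ite, mul_zero, Finset.sum_ite_eq]
      by_cases hy : y i = 0
      · have hxi : x i = 0 := by
          rcases div_eq_zero_iff.1 hy with h | h
          · exact h
          · exact absurd h (hm i).ne'
        rw [if_neg (by simp [C, hy]), hxi]
      · rw [if_pos (by simp [C, hy])]
        exact (div_mul_cancel₀ _ (hm i).ne').symm
    rw [hxe]
    refine Submodule.sum_mem _ fun c hc => Submodule.smul_mem _ _ (Submodule.subset_span ?_)
    refine ⟨univ.filter (fun l => y l = c), fun i hi j hj => ?_, fun i hi => ?_, rfl⟩
    · simp only [mem_filter, mem_univ, true_and] at hi hj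
      by_contra hne
      exact hj ((h1 i j hne).symm.trans hi)
    · simp only [mem_filter, mem_univ, true_and] at hi
      have := h2 i (show y i ≠ 0 from hi ▸ (mem_erase.1 hc).1)
      rw [← Finset.add_sum_erase _ _ (mem_univ i)] at this
      linarith
  · rintro x ⟨I, hI1, hI2, rfl⟩
    funext i
    simp only [Matrix.mulVecLin_apply, Matrix.mulVec, dotProduct, Pi.zero_apply, mul_ite, mul_zero]
    by_cases hi : i ∈ I
    · calc (∑ j, if j ∈ I then A i j * m j else 0) = ∑ j, A i j * m j :=
            Finset.sum_congr rfl fun j _ => by
              by_cases hj : j ∈ I <;> simp [hj, hI1 i hi j]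
        _ = 0 := by rw [← Finset.add_sum_erase _ _ (mem_univ i), hI2 i hi]; ring
    · refine Finset.sum_eq_zero fun j _ => ?_
      by_cases hj : j ∈ I
      · rw [if_pos hj, ← hsymm.apply i j, hI1 j hj i hi, zero_mul]
      · rw [if_neg hj]

end Groth.Agent.S2170
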