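import Groth.Statements.S2171
import Groth.Agent.NumType.Basic
-- import your own Groth.Agent.* helpers here

set_option autoImplicit false
open Finset
open Models

namespace Groth.Agent.S2171

/-- Let A be a symmetric real n by n matrix with non-negative off-diagonal entries, m a vector with
positive entries such that A m = 0, and assume no proper non-empty index set I has A i j = 0 for all
i in I and j outside I. Then x^t A x is at most 0 for every real vector x, with equality exactly
when x is a real multiple of m. -/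
theorem result {n : ℕ} (A : Matrix (Fin n) (Fin n) ℝ)
    (m : Fin n → ℝ) (hsymm : A.IsSymm) (hA : ∀ i j, i ≠ j → 0 ≤ A i j) (hm : ∀ i, 0 < m i)
    (hAm : A.mulVec m = 0)
    (hconn : ∀ I : Finset (Fin n), I.Nonempty → I ≠ univ → ∃ i ∈ I, ∃ j ∉ I, A i j ≠ 0)
    (x : Fin n → ℝ) :
    dotProduct x (A.mulVec x) ≤ 0 ∧ (dotProduct x (A.mulVec x) = 0 ↔ ∃ q : ℝ, x = q • m) := by
  have hrow : ∀ i, ∑ j, A i j * m j = 0 := fun i => congrFun hAm i
  have key := NumType.quad_nonpos_and_eq (fun i j => A i j) (fun i j => (hsymm.apply i j).symm)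
    hA m hm (fun i => (hrow i).le) (fun i => x i / m i)
  have e : ∀ i, m i * (x i / m i) = x i := fun i => mul_div_cancel₀ _ (hm i).ne'
  simp only [e] at key
  have hq : dotProduct x (A.mulVec x) = ∑ i, ∑ j, A i j * (x i * x j) := by
    simp only [dotProduct, Matrix.mulVec, Finset.mul_sum]
    exact Finset.sum_congr rfl fun i _ => Finset.sum_congr rfl fun j _ => by ring
  refine ⟨hq ▸ key.1, fun h => ?_, ?_⟩
  · rcases Nat.eq_zero_or_pos n with rfl | hn
    · exact ⟨0, funext fun i => i.elim0⟩
    refine ⟨x ⟨0, hn⟩ / m ⟨0, hn⟩, funext fun i => ?_⟩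
    rw [Pi.smul_apply, smul_eq_mul, NumType.const_of_connected (fun i j => A i j ≠ 0) hconn
      (fun i => x i / m i) (key.2 (hq ▸ h)).1 ⟨0, hn⟩ i, div_mul_cancel₀ _ (hm i).ne']
  · rintro ⟨q, rfl⟩
    rw [Matrix.mulVec_smul, hAm]
    simp

end Groth.Agent.S2171
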