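import Groth.Statements.S2172
import Groth.Agent.NumType.Torsion
-- import your own Groth.Agent.* helpers here

set_option autoImplicit false
open Finset
open Models

namespace Groth.Agent.S2172

/-- Let A be a symmetric integer n by n matrix with non-negative off-diagonal entries killing an integer
vector m with positive entries, such that no proper non-empty index set is orthogonal to its
complement. Write e for the number of index pairs i < j where A i j > 0, and let l be a prime
dividing none of the nonzero entries of A and none of the m i. Then the l-torsion subgroup of the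
cokernel of A on Z^n has at most l^(1 - n + e) elements, i.e. F_l-dimension at most 1 - n + e (the
exponent is written with truncated subtraction; e + 1 is never smaller than n here). -/
theorem result {n : ℕ} (A : Matrix (Fin n) (Fin n) ℤ)
    (m : Fin n → ℤ) (hsymm : A.IsSymm) (hA : ∀ i j, i ≠ j → 0 ≤ A i j) (hm : ∀ i, 0 < m i)
    (hAm : A.mulVec m = 0)
    (hconn : ∀ I : Finset (Fin n), I.Nonempty → I ≠ univ → ∃ i ∈ I, ∃ j ∉ I, A i j ≠ 0)
    (ℓ : ℕ) (hℓ : ℓ.Prime) (hℓA : ∀ i j, A i j ≠ 0 → ¬ ((ℓ : ℤ) ∣ A i j))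
    (hℓm : ∀ i, ¬ ((ℓ : ℤ) ∣ m i)) :
    Nat.card (Submodule.torsionBy ℤ ((Fin n → ℤ) ⧸ LinearMap.range (Matrix.mulVecLin A)) (ℓ : ℤ))
      ≤ ℓ ^ ((univ.filter fun p : Fin n × Fin n => p.1 < p.2 ∧ 0 < A p.1 p.2).card + 1 - n) := by
  rcases Nat.eq_zero_or_pos n with rfl | hn
  · have : Subsingleton ((Fin 0 → ℤ) ⧸ LinearMap.range (Matrix.mulVecLin A)) :=
      ⟨fun x y => by
        obtain ⟨a, rfl⟩ := Submodule.Quotient.mk_surjective _ x
        obtain ⟨b, rfl⟩ := Submodule.Quotient.mk_surjective _ y
        rw [Subsingleton.elim a b]⟩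
    rw [Nat.card_unique]
    exact Nat.one_le_pow _ _ hℓ.pos
  exact (NumType.card_torsion_coker hn A m hsymm hA hAm hconn ℓ hℓ (fun i j _ => hℓA i j) hℓm).2

end Groth.Agent.S2172
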