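import Groth.Statements.S2177
import Groth.Agent.NumType.Genus
-- import your own Groth.Agent.* helpers here

set_option autoImplicit false
open Finset
open Models Models.NumericalType

namespace Groth.Agent.S2177

/-- If a numerical type is minimal and has at least two indices, its genus is bounded below by the
topological genus 1 - n + e, e being the number of pairs i < j with a i j > 0. -/
theorem result {n : ℕ} (T : Models.NumericalType n) (hmin : T.IsMinimal) (hn : 1 < n) : T.topGenus ≤ T.genus := by
  exact NumType.topGenus_le_genus T hn hmin

end Groth.Agent.S2177
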