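import Groth.Statements.S2181
import Groth.Agent.NumType.Contraction
-- import your own Groth.Agent.* helpers here

set_option autoImplicit false
open Finset
open Models Models.NumericalType

namespace Groth.Agent.S2181

/-- If the genus of a numerical type is at most 0 then its Picard group is infinite cyclic. -/
theorem result {n : ℕ} (T : Models.NumericalType n) (hg : T.genus ≤ 0) : Nonempty (T.Pic ≃+ ℤ) := by
  induction n using Nat.strong_induction_on with
  | _ n ih =>
    by_cases hmin : T.IsMinimal
    · obtain rfl : n = 1 := by
        by_contra hne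
        have := NumType.one_le_genus T (by have := T.pos; omega) hmin
        omega
      have hbot : LinearMap.range (Matrix.mulVecLin T.picMatrix) = ⊥ := by
        rw [Submodule.eq_bot_iff]
        rintro x ⟨z, rfl⟩
        funext i
        rw [Subsingleton.elim i 0]
        simp [Matrix.mulVec, dotProduct, Models.NumericalType.picMatrix, NumType.a_eq_zero_of_one T]
      exact ⟨((Submodule.quotEquivOfEqBot _ hbot).trans (LinearEquiv.funUnique (Fin 1) ℤ ℤ)).toAddEquiv⟩
    · obtain ⟨M, T', hM, hg', f, hf⟩ := NumType.exists_step T hmin
      obtain ⟨e⟩ := ih M hM T' (hg'.le.trans hg)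
      let g : T.Pic →ₗ[ℤ] ℤ := (e.toAddMonoidHom.comp f).toIntLinearMap
      have hinj : Function.Injective g := e.injective.comp hf
      let e' := LinearEquiv.ofInjective g hinj
      have hfree : Module.Free ℤ T.Pic := Module.Free.of_equiv e'.symm
      exact ⟨((Module.basisUnique (Fin 1) (NumType.finrank_pic T)).repr.trans
        (Finsupp.LinearEquiv.finsuppUnique ℤ ℤ (Fin 1))).toAddEquiv⟩

end Groth.Agent.S2181
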