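import Groth.Statements.S2184
import Groth.Agent.NumType.Bound
-- import your own Groth.Agent.* helpers here

set_option autoImplicit false
open Finset
open Models Models.NumericalType

namespace Groth.Agent.S2184

/-- For a minimal numerical type of genus g at least 2 one has m i * |a i j| at most 768 g for all
indices i, j. -/
theorem result {n : ℕ} (T : Models.NumericalType n) (hmin : T.IsMinimal) (hg : 2 ≤ T.genus) (i j : Fin n) :
    T.m i * |T.a i j| ≤ 768 * T.genus := by
  rcases Nat.lt_or_ge 1 n with hn | hn
  · exact NumType.mul_abs_le hn hmin hg i j
  · obtain rfl : n = 1 := by have := T.pos; omega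
    rw [Subsingleton.elim i 0, Subsingleton.elim j 0, NumType.a_eq_zero_of_one T]
    simp; omega

end Groth.Agent.S2184
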