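import Groth.Statements.S2185
import Groth.Agent.NumType.Bound
import Groth.Agent.NumType.Torsion
import Groth.Agent.NumType.Contraction
-- import your own Groth.Agent.* helpers here

set_option autoImplicit false
open Finset
open Models Models.NumericalType

namespace Groth.Agent.S2185

/-- Let T be a numerical type of genus g at least 2 and l a prime bigger than 768 g. Then the l-torsion
subgroup of Pic(T) has at most l^g elements (F_l-dimension at most g); if T is minimal it has at
most l^(g_top) elements where g_top is the topological genus, itself at most g. -/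
theorem result {n : ℕ} (T : Models.NumericalType n) (hg : 2 ≤ T.genus) (ℓ : ℕ) (hℓ : ℓ.Prime)
    (hℓg : 768 * T.genus < ℓ) :
    Nat.card (Submodule.torsionBy ℤ T.Pic (ℓ : ℤ)) ≤ ℓ ^ T.genus.toNat ∧
      (T.IsMinimal → Nat.card (Submodule.torsionBy ℤ T.Pic (ℓ : ℤ)) ≤ ℓ ^ T.topGenus.toNat ∧
        T.topGenus ≤ T.genus) := by
  have key : ∀ {N : ℕ} (S : Models.NumericalType N), S.IsMinimal → 2 ≤ S.genus → 768 * S.genus < ℓ →
      Finite (Submodule.torsionBy ℤ S.Pic (ℓ : ℤ)) ∧
        Nat.card (Submodule.torsionBy ℤ S.Pic (ℓ : ℤ)) ≤ ℓ ^ S.topGenus.toNat ∧ S.topGenus ≤ S.genus := by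
    intro N S hmin hg hbig
    rcases Nat.lt_or_ge 1 N with hN | hN
    · have hmem : ∀ i j, (i ≠ j → S.a i j ≠ 0 → ¬ ((ℓ : ℤ) ∣ S.a i j)) ∧ ¬ ((ℓ : ℤ) ∣ S.m i) := by
        intro i j
        refine ⟨fun _ hne hd => ?_, fun hd => ?_⟩
        · have h1 := Int.le_of_dvd (abs_pos.2 hne) ((dvd_abs _ _).2 hd)
          have h2 := NumType.mul_abs_le hN hmin hg i j
          have h3 := le_mul_of_one_le_left (abs_nonneg (S.a i j)) (S.m_pos i : (1 : ℤ) ≤ S.m i)
          omega
        · have h1 := Int.le_of_dvd (S.m_pos i) hd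
          have h2 := NumType.mul_abs_le hN hmin hg i i
          have h3 := le_mul_of_one_le_right (S.m_pos i).le
            (abs_pos.2 (NumType.diag_neg S hN i).ne : (1 : ℤ) ≤ |S.a i i|)
          omega
      obtain ⟨hfin, hcard⟩ := NumType.card_torsion_coker S.pos S.a S.m S.symm S.offDiag_nonneg
        S.mulVec_m S.connected ℓ hℓ (fun i j => (hmem i j).1) (fun i => (hmem i i).2)
      obtain ⟨f, hf, -⟩ := NumType.pic_embeds_cokerA S
      let φ : Submodule.torsionBy ℤ S.Pic (ℓ : ℤ) → Submodule.torsionBy ℤ S.CokerA (ℓ : ℤ) :=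
        fun c => ⟨f c.1, (Submodule.mem_torsionBy_iff _ _).2 (by
          rw [← map_zsmul, (Submodule.mem_torsionBy_iff _ _).1 c.2, map_zero])⟩
      have hφ : Function.Injective φ := fun a b e => Subtype.ext (hf (congrArg Subtype.val e))
      refine ⟨Finite.of_injective φ hφ, ((Nat.card_le_card_of_injective φ hφ).trans hcard).trans
        (Nat.pow_le_pow_right hℓ.pos ?_), NumType.topGenus_le_genus S hN hmin⟩
      unfold Models.NumericalType.topGenus Models.NumericalType.edgeCount
      omega
    · obtain rfl : N = 1 := by have := S.pos; omega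
      have hsub : Subsingleton (Submodule.torsionBy ℤ S.Pic (ℓ : ℤ)) := by
        have key : ∀ c : S.Pic, (ℓ : ℤ) • c = 0 → c = 0 := by
          intro c hc
          obtain ⟨x, rfl⟩ := Submodule.Quotient.mk_surjective _ c
          rw [← Submodule.Quotient.mk_smul, Submodule.Quotient.mk_eq_zero] at hc
          obtain ⟨z, hz⟩ := hc
          have : x = 0 := funext fun i => by
            have e := congrFun hz i
            simp [Matrix.mulVec, dotProduct, Models.NumericalType.picMatrix, Subsingleton.elim i 0,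
              NumType.a_eq_zero_of_one S, hℓ.ne_zero] at e
            rw [Subsingleton.elim i 0]; exact e
          rw [this]; rfl
        exact ⟨fun a b => Subtype.ext ((key _ ((Submodule.mem_torsionBy_iff _ _).1 a.2)).trans
          (key _ ((Submodule.mem_torsionBy_iff _ _).1 b.2)).symm)⟩
      have h0 : S.topGenus = 0 := by
        have : S.edgeCount = 0 := by
          simp [Models.NumericalType.edgeCount, Subsingleton.elim _ (0 : Fin 1)]
        simp [Models.NumericalType.topGenus, this]
      refine ⟨inferInstance, ?_, by omega⟩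
      exact Finite.card_le_one_iff_subsingleton.2 hsub |>.trans (Nat.one_le_pow _ _ hℓ.pos)
  refine ⟨?_, fun hmin => (key T hmin hg hℓg).2⟩
  suffices h : Finite (Submodule.torsionBy ℤ T.Pic (ℓ : ℤ)) ∧
      Nat.card (Submodule.torsionBy ℤ T.Pic (ℓ : ℤ)) ≤ ℓ ^ T.genus.toNat from h.2
  induction n using Nat.strong_induction_on with
  | _ n ih =>
    by_cases hmin : T.IsMinimal
    · obtain ⟨h1, h2, h3⟩ := key T hmin hg hℓg
      exact ⟨h1, h2.trans (Nat.pow_le_pow_right hℓ.pos (Int.toNat_le_toNat h3))⟩
    · obtain ⟨M, T', hM, hg', f, hf⟩ := NumType.exists_step T hmin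
      obtain ⟨h1, h2⟩ := ih M hM T' (hg' ▸ hg) (hg' ▸ hℓg)
      let φ : Submodule.torsionBy ℤ T.Pic (ℓ : ℤ) → Submodule.torsionBy ℤ T'.Pic (ℓ : ℤ) :=
        fun c => ⟨f c.1, (Submodule.mem_torsionBy_iff _ _).2 (by
          rw [← map_zsmul, (Submodule.mem_torsionBy_iff _ _).1 c.2, map_zero])⟩
      have hφ : Function.Injective φ := fun a b e => Subtype.ext (hf (congrArg Subtype.val e))
      exact ⟨Finite.of_injective φ hφ, hg' ▸ (Nat.card_le_card_of_injective φ hφ).trans h2⟩

end Groth.Agent.S2185
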