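import Groth.Statements.S2186
import Groth.Agent.AvramovLib.Two
import Groth.Agent.AvramovLib.Factor
import Groth.Agent.CILib.Pullback
import Groth.Agent.LocalCrit.Complete

set_option autoImplicit false
universe u
open LCI

namespace Groth.Agent.S2186
set_option maxHeartbeats 800000

open RingTheory.Sequence in
theorem weak_iff {S : Type u} [CommRing S] [IsLocalRing S] {J : Ideal S} (hJ : J ≠ ⊤) :
    (∃ rs : List S, Ideal.ofList rs = J ∧ IsWeaklyRegular S rs) ↔
      ∃ rs : List S, Ideal.ofList rs = J ∧ IsRegular S rs := by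
  refine ⟨fun ⟨rs, h1, h2⟩ => ⟨rs, h1, h2, ?_⟩, fun ⟨rs, h1, h2⟩ => ⟨rs, h1, h2.toIsWeaklyRegular⟩⟩
  rw [h1, smul_eq_mul, Ideal.mul_top]
  exact hJ.symm

open Groth.Agent.AvramovLib in
theorem iff_common {A B S₁ S₂ : Type u} [CommRing A] [CommRing B] [CommRing S₁] [CommRing S₂]
    [IsNoetherianRing A] [IsNoetherianRing B] [IsNoetherianRing S₁] [IsNoetherianRing S₂]
    [IsLocalRing A] [IsLocalRing B] [IsLocalRing S₁] [IsLocalRing S₂]
    [IsAdicComplete (IsLocalRing.maximalIdeal A) A]
    [IsAdicComplete (IsLocalRing.maximalIdeal S₁) S₁] [IsAdicComplete (IsLocalRing.maximalIdeal S₂) S₂]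
    [Algebra A B] [Algebra A S₁] [Algebra A S₂]
    [IsLocalHom (algebraMap A S₁)] [IsLocalHom (algebraMap A S₂)]
    [Module.Flat A S₁] [Module.Flat A S₂]
    [IsRegularLocalRing (S₁ ⧸ (IsLocalRing.maximalIdeal A).map (algebraMap A S₁))]
    [IsRegularLocalRing (S₂ ⧸ (IsLocalRing.maximalIdeal A).map (algebraMap A S₂))]
    (g₁ : S₁ →ₐ[A] B) (h₁ : Function.Surjective g₁) (g₂ : S₂ →ₐ[A] B) (h₂ : Function.Surjective g₂) :
    (∃ rs : List S₁, Ideal.ofList rs = RingHom.ker g₁.toRingHom ∧ RingTheory.Sequence.IsWeaklyRegular S₁ rs) ↔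
      ∃ rs : List S₂, Ideal.ofList rs = RingHom.ker g₂.toRingHom ∧ RingTheory.Sequence.IsWeaklyRegular S₂ rs := by
  obtain ⟨P, _, _, _, hfg, p₁, p₂, hp₁, hp₂, hcomm, hex, hinj⟩ :=
    Groth.Agent.CILib.exists_pullback_univ g₁.toRingHom h₁ g₂.toRingHom h₂
  choose f hf₁ hf₂ using fun a => hex (algebraMap A S₁ a) (algebraMap A S₂ a) (by
    show g₁ (algebraMap A S₁ a) = g₂ (algebraMap A S₂ a)
    rw [g₁.commutes, g₂.commutes])
  let φ : A →+* P :=
    { toFun := f
      map_one' := hinj _ _ (by rw [hf₁, map_one, map_one]) (by rw [hf₂, map_one, map_one])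
      map_mul' := fun a b => hinj _ _ (by simp only [hf₁, map_mul]) (by simp only [hf₂, map_mul])
      map_zero' := hinj _ _ (by rw [hf₁, map_zero, map_zero]) (by rw [hf₂, map_zero, map_zero])
      map_add' := fun a b => hinj _ _ (by simp only [hf₁, map_add]) (by simp only [hf₂, map_add]) }
  haveI : IsLocalHom φ := ⟨fun a ha => isUnit_of_map_unit (algebraMap A S₁) a (by
    rw [← hf₁]; exact ha.map p₁)⟩
  obtain ⟨R, G, _, _, _, _, _, _, _, _, _, _, π, q, hπ, hq, hc⟩ :=
    exists_regular_cover (IsNoetherian.noetherian (IsLocalRing.maximalIdeal A)) hfg φ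
  let IG := (RingHom.ker π).map (algebraMap R G)
  letI := quotAlgebra (G := G) π hπ
  obtain ⟨_, hflat, hloc, hfib⟩ := factor_facts (G := G) π hπ
  haveI := hflat
  haveI := hfib
  haveI := @hloc inferInstance
  have hIq : IG ≤ RingHom.ker q := by
    rw [Ideal.map_le_iff_le_comap]
    intro r hr
    show q (algebraMap R G r) = 0
    rw [← RingHom.comp_apply, hc, RingHom.comp_apply, show π r = 0 from hr, map_zero]
  let Q : (G ⧸ IG) →+* P := Ideal.Quotient.lift IG q (fun r hr => hIq hr)
  have hQ : Function.Surjective Q := fun z => by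
    obtain ⟨x, rfl⟩ := hq z
    exact ⟨Ideal.Quotient.mk IG x, rfl⟩
  have hQA : ∀ a, Q (algebraMap A (G ⧸ IG) a) = φ a := fun a => by
    obtain ⟨r, rfl⟩ := hπ a
    rw [quotAlgebra_apply π hπ r]
    exact RingHom.congr_fun hc r
  let t₁ : (G ⧸ IG) →ₐ[A] S₁ :=
    { p₁.comp Q with commutes' := fun a => by show p₁ (Q _) = _; rw [hQA]; exact hf₁ a }
  let t₂ : (G ⧸ IG) →ₐ[A] S₂ :=
    { p₂.comp Q with commutes' := fun a => by show p₂ (Q _) = _; rw [hQA]; exact hf₂ a }
  rw [← ker_comp_regular_iff t₁ (hp₁.comp hQ) g₁.toRingHom, ← ker_comp_regular_iff t₂ (hp₂.comp hQ) g₂.toRingHom]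
  have he : g₁.toRingHom.comp t₁.toRingHom = g₂.toRingHom.comp t₂.toRingHom :=
    RingHom.ext fun x => RingHom.congr_fun hcomm (Q x)
  rw [he]


/-- Let A -> B be a local homomorphism of complete Noetherian local rings, and take two factorizations A
-> S -> B and A -> S' -> B through Noetherian local rings with S -> B and S' -> B surjective, A -> S
and A -> S' flat, and regular closed fibres S/m_A S and S'/m_A S'. Then the kernel of S -> B is cut
out by a regular sequence exactly when the kernel of S' -> B is. -/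
theorem result {A B S S' : Type u} [CommRing A] [CommRing B]
    [CommRing S] [CommRing S'] [IsNoetherianRing A] [IsNoetherianRing B] [IsNoetherianRing S]
    [IsNoetherianRing S'] [IsLocalRing A] [IsLocalRing B] [IsLocalRing S] [IsLocalRing S']
    [IsAdicComplete (IsLocalRing.maximalIdeal A) A] [IsAdicComplete (IsLocalRing.maximalIdeal B) B]
    [Algebra A B] [Algebra A S] [Algebra A S'] [IsLocalHom (algebraMap A B)]
    [Module.Flat A S] [Module.Flat A S']
    [IsRegularLocalRing (S ⧸ Ideal.map (algebraMap A S) (IsLocalRing.maximalIdeal A))]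
    [IsRegularLocalRing (S' ⧸ Ideal.map (algebraMap A S') (IsLocalRing.maximalIdeal A))]
    (g : S →ₐ[A] B) (g' : S' →ₐ[A] B) (hg : Function.Surjective g)
    (hg' : Function.Surjective g') :
    (∃ rs : List S, Ideal.ofList rs = RingHom.ker g ∧ RingTheory.Sequence.IsRegular S rs) ↔
      (∃ rs' : List S', Ideal.ofList rs' = RingHom.ker g' ∧
        RingTheory.Sequence.IsRegular S' rs') := by
  haveI : IsLocalHom (algebraMap A S) := ⟨fun a ha => isUnit_of_map_unit (algebraMap A B) a (by
    rw [← g.comp_algebraMap]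
    exact ha.map (g : S →+* B))⟩
  haveI : IsLocalHom (algebraMap A S') := ⟨fun a ha => isUnit_of_map_unit (algebraMap A B) a (by
    rw [← g'.comp_algebraMap]
    exact ha.map (g' : S' →+* B))⟩
  obtain ⟨l₁, f₁, r₁, G₁, hG₁, e₁⟩ := Groth.Agent.AvramovLib.exists_completed g hg
  obtain ⟨l₂, f₂, r₂, G₂, hG₂, e₂⟩ := Groth.Agent.AvramovLib.exists_completed g' hg'
  haveI := l₁
  haveI := l₂
  haveI := f₁
  haveI := f₂
  haveI := r₁
  haveI := r₂
  haveI := Groth.Agent.LC.Canon.isNoetherianRing_completion (R := S)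
  haveI := Groth.Agent.LC.Canon.isNoetherianRing_completion (R := S')
  haveI := Groth.Agent.CILib.isAdicComplete_adicCompletion S
  haveI := Groth.Agent.CILib.isAdicComplete_adicCompletion S'
  have h := (e₁.symm.trans (iff_common G₁ hG₁ G₂ hG₂)).trans e₂
  rw [weak_iff (RingHom.ker_ne_top g.toRingHom), weak_iff (RingHom.ker_ne_top g'.toRingHom)] at h
  exact h


end Groth.Agent.S2186
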