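import Groth.Statements.S2187
import Mathlib
import Groth.Agent.Synt29.VasconcelosSummand

set_option backward.isDefEq.respectTransparency.types false

set_option autoImplicit false
universe u
open CategoryTheory
open LCI

namespace Groth.Agent.S2187

/-- Let R be a Noetherian local ring and I an ideal of finite projective dimension as an R-module. If F
is a direct summand of the conormal module I/I^2 which is isomorphic to R/I, then there is a
nonzerodivisor x in I whose class in I/I^2 generates F. -/
theorem result {R : Type u} [CommRing R]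
    [IsNoetherianRing R] [IsLocalRing R] (I : Ideal R) (n : ℕ)
    (hpd : HasProjectiveDimensionLT (ModuleCat.of R I) n)
    (F G : Submodule (R ⧸ I) I.Cotangent) (hFG : IsCompl F G) (e : F ≃ₗ[R ⧸ I] (R ⧸ I)) :
    ∃ (x : R) (hx : x ∈ I), x ∈ nonZeroDivisors R ∧
      Submodule.span (R ⧸ I) {I.toCotangent ⟨x, hx⟩} = F := by
  obtain ⟨x, hreg, hspan⟩ := Synt29.exists_isWeaklyRegular_of_isCompl I
    (Synt29.pdLE_of_hasProjectiveDimensionLT I hpd) F G hFG 1 (e.trans (LinearEquiv.funUnique (Fin 1) (R ⧸ I) (R ⧸ I)).symm)
  rw [List.ofFn_succ, List.ofFn_zero, RingTheory.Sequence.isWeaklyRegular_singleton_iff] at hreg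
  refine ⟨(x 0).1, (x 0).2, mem_nonZeroDivisors_iff_right.2 fun z hz => hreg ?_, ?_⟩
  · show (x 0).1 • z = (x 0).1 • 0
    rw [smul_zero, smul_eq_mul, mul_comm, hz]
  · rw [← hspan]
    refine congrArg _ ?_
    ext w
    simp [Fin.exists_fin_one, eq_comm]
end Groth.Agent.S2187
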