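import Groth.Statements.S2196
import Mathlib

set_option autoImplicit false
open scoped TensorProduct
universe u v
open Disc

namespace Groth.Agent.S2196

/-- Let A -> B be a ring map of finite type and D its Noether different (the image in B of the
annihilator of the kernel of B tensor_A B -> B). Then a prime q of B contains D exactly when A -> B
is not unramified at q. -/
theorem result {A : Type u} {B : Type v}
    [CommRing A] [CommRing B] [Algebra A B] [Algebra.FiniteType A B] :
    {q : PrimeSpectrum B | Disc.noetherDifferent A B ≤ q.asIdeal} =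
      (Algebra.unramifiedLocus A B)ᶜ := by
  classical
  let I := KaehlerDifferential.ideal A B
  let μ := Algebra.TensorProduct.lmul' (S := B) A
  have hI : I.FG := KaehlerDifferential.ideal_fg A B
  haveI : Module.Finite (B ⊗[A] B) I := Module.Finite.iff_fg.mpr hI
  have hμ : Function.Surjective μ := fun y => ⟨y ⊗ₜ 1, by simp [μ]⟩
  have hsub : ∀ t : B ⊗[A] B, t - μ t ⊗ₜ 1 ∈ I := fun t => by
    show μ (t - μ t ⊗ₜ 1) = 0
    rw [map_sub, Algebra.TensorProduct.lmul'_apply_tmul, mul_one, sub_self]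
  have hle : Disc.noetherDifferent A B ≤ Module.annihilator B (Ω[B⁄A]) := by
    intro b hb
    rw [Disc.noetherDifferent, Ideal.mem_map_iff_of_surjective _ hμ] at hb
    obtain ⟨ξ, hξ, rfl⟩ := hb
    rw [Module.mem_annihilator]
    intro ω
    obtain ⟨y, rfl⟩ : ∃ y, KaehlerDifferential.fromIdeal A B y = ω := I.toCotangent_surjective ω
    rw [← algebraMap_smul (B ⊗[A] B) (μ ξ) (KaehlerDifferential.fromIdeal A B y)]
    refine ((I.toCotangent).map_smul _ y).symm.trans (Ideal.toCotangent_eq_zero I _ |>.mpr ?_)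
    have h0 : ξ • (y : B ⊗[A] B) = 0 := Submodule.mem_annihilator.mp hξ _ y.2
    rw [Submodule.coe_smul, smul_eq_mul, Algebra.TensorProduct.algebraMap_apply, Algebra.algebraMap_self,
      RingHom.id_apply, show (μ ξ ⊗ₜ[A] (1 : B)) * (y : B ⊗[A] B) = -((ξ - μ ξ ⊗ₜ 1) * (y : B ⊗[A] B)) by
        rw [smul_eq_mul] at h0; linear_combination h0, pow_two]
    exact I.mul_mem_mul (hsub ξ) y.2 |> fun h => Ideal.neg_mem_iff _ |>.mpr h
  have hpow : ∀ b ∈ Module.annihilator B (Ω[B⁄A]), ∃ n, b ^ n ∈ Disc.noetherDifferent A B := by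
    intro b hb
    rw [Module.mem_annihilator] at hb
    let f : Module.End (B ⊗[A] B) I := (b ⊗ₜ[A] (1 : B)) • LinearMap.id
    have hf : LinearMap.range f ≤ I • ⊤ := by
      rintro _ ⟨y, rfl⟩
      rw [Submodule.mem_smul_top_iff]
      show (b ⊗ₜ[A] (1 : B)) * (y : B ⊗[A] B) ∈ I • I
      rw [smul_eq_mul, ← pow_two]
      have h1 := (Ideal.toCotangent_eq_zero I ((b ⊗ₜ[A] (1 : B)) • y)).mp (by
        show KaehlerDifferential.fromIdeal A B ((b ⊗ₜ[A] (1 : B)) • y) = 0
        rw [map_smul, ← hb (KaehlerDifferential.fromIdeal A B y),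
          ← algebraMap_smul (B ⊗[A] B) b (KaehlerDifferential.fromIdeal A B y)]
        rfl)
      exact h1
    obtain ⟨p, hp, -, hpc, hp0⟩ := LinearMap.exists_monic_and_natDegree_eq_and_coeff_mem_pow_and_aeval_eq_zero (B ⊗[A] B) f I hf
    refine ⟨p.natDegree, ?_⟩
    rw [Disc.noetherDifferent, Ideal.mem_map_iff_of_surjective _ hμ]
    refine ⟨p.eval (b ⊗ₜ[A] (1 : B)), ?_, ?_⟩
    · rw [Submodule.mem_annihilator]
      intro y hy
      have h1 : f = algebraMap (B ⊗[A] B) (Module.End (B ⊗[A] B) I) (b ⊗ₜ[A] (1 : B)) := by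
        rw [Algebra.algebraMap_eq_smul_one]; rfl
      rw [h1, Polynomial.aeval_algebraMap_apply_eq_algebraMap_eval] at hp0
      exact congrArg Subtype.val (LinearMap.congr_fun hp0 ⟨y, hy⟩)
    · rw [Polynomial.eval_eq_sum_range, map_sum, Finset.sum_range_succ, hp.coeff_natDegree, one_mul, map_pow]
      rw [Finset.sum_eq_zero, zero_add]
      · exact congrArg (· ^ _) (by show Algebra.TensorProduct.lmul' A (b ⊗ₜ[A] (1 : B)) = b; exact (Algebra.TensorProduct.lmul'_apply_tmul (R := A) b 1).trans (mul_one b))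
      intro k hk
      have hk' := Ideal.pow_le_self (Nat.sub_ne_zero_of_lt (Finset.mem_range.mp hk)) (hpc k)
      rw [map_mul, show Algebra.TensorProduct.lmul' A (p.coeff k) = 0 from hk', zero_mul]
  ext q
  rw [Algebra.unramifiedLocus_eq_compl_support, compl_compl, Module.support_eq_zeroLocus]
  show Disc.noetherDifferent A B ≤ q.asIdeal ↔ Module.annihilator B (Ω[B⁄A]) ≤ q.asIdeal
  refine ⟨fun h b hb => ?_, hle.trans⟩
  obtain ⟨n, hn⟩ := hpow b hb
  exact q.isPrime.mem_of_pow_mem n (h hn)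

end Groth.Agent.S2196
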