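import Groth.Statements.S2198
import Groth.Agent.QCoh.Devissage
import Groth.Agent.QCoh.Qcqs
import Groth.Agent.QCoh.Extension
import Groth.Agent.QCoh.Tilde
import Groth.Agent.QCoh.VanIdeal
import Groth.Agent.H23.RedSub
import Mathlib.Algebra.Module.Torsion.Basic
-- import your own Groth.Agent.* helpers here

set_option autoImplicit false
universe u
open CategoryTheory AlgebraicGeometry
open QCohCat

namespace Groth.Agent.S2198


open CategoryTheory.Limits TopologicalSpace Opposite
open Groth.Agent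

set_option linter.style.haveILetI false

variable {X : Scheme.{u}}

/-- A morphism out of the structure sheaf, evaluated. -/
theorem app_eq_smul {M : X.Modules} (g : Coh.structureModule X ⟶ M) (W : X.Opens) (b : Γ(X, W)) :
    g.app W b = b • M.presheaf.map (homOfLE le_top).op (g.app ⊤ (1 : Γ(X, ⊤))) := by
  refine (congrArg _ (mul_one b).symm).trans ?_
  refine (Scheme.Modules.Hom.app_smul (M := Coh.structureModule X) g b (1 : Γ(X, W))).trans ?_
  congr 1
  refine Eq.trans ?_ (QCoh.map_app_comm g (homOfLE le_top) (1 : Γ(X, ⊤)))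
  exact congrArg _ (map_one (X.presheaf.map (homOfLE (le_top (a := W))).op).hom).symm

theorem hom_eq_zero {M : X.Modules} (g : Coh.structureModule X ⟶ M) (h : g.app ⊤ (1 : Γ(X, ⊤)) = 0) :
    g = 0 :=
  Scheme.Modules.hom_ext _ _ fun W => AddCommGrpCat.hom_ext (AddMonoidHom.ext fun b => by
    rw [app_eq_smul g W b, h, map_zero, smul_zero]; rfl)

theorem app_congr {M N : X.Modules} {φ ψ : M ⟶ N} (h : φ = ψ) (W : X.Opens) (t : Γ(M, W)) :
    φ.app W t = ψ.app W t := by rw [h]

theorem isUnit_res {W V : X.Opens} (b : Γ(X, W)) (hle : V ≤ W) (h : V ≤ X.basicOpen b) :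
    IsUnit (X.presheaf.map (homOfLE hle).op b) := by
  have h1 : IsUnit (X.presheaf.map (homOfLE (X.basicOpen_le b)).op b) := X.toRingedSpace.isUnit_res_basicOpen b
  have h2 := h1.map (X.presheaf.map (homOfLE h).op).hom
  rw [← ConcreteCategory.comp_apply, ← Functor.map_comp] at h2
  exact h2

/-- Sections of a kernel. -/
theorem exists_kernel_app {M N : X.Modules} (g : M ⟶ N) (W : X.Opens) (b : Γ(M, W)) (hb : g.app W b = 0) :
    ∃ a, (kernel.ι g).app W a = b := by
  have hS : (ShortComplex.mk (kernel.ι g) (cokernel.π (kernel.ι g)) (cokernel.condition _)).ShortExact :=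
    { exact := ShortComplex.exact_of_g_is_cokernel _ (cokernelIsCokernel _) }
  refine Groth.Agent.QCoh.exists_app_f_eq hS W b (Groth.Agent.QCoh.app_injective (Abelian.factorThruCoimage g) W ?_)
  rw [map_zero]
  exact (app_congr (Abelian.coimage.fac g) W b).trans hb

variable [CompactSpace X] [QuasiSeparatedSpace X]

/-- The structure sheaf as an object of `QCoh X`. -/
noncomputable abbrev O (X : Scheme.{u}) : QCoh X := ⟨Coh.structureModule X, Groth.Agent.QCoh.isQCoh_structureModule⟩

/-- The restriction to an open as an object. -/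
noncomputable def J (M : QCoh X) (U : X.Opens) [QuasiCompact U.ι] : QCoh X :=
  ⟨(Scheme.Modules.pushforward U.ι).obj ((Scheme.Modules.restrictFunctor U.ι).obj M.obj),
    Groth.Agent.QCoh.isQCoh_pushforward U.ι (Groth.Agent.QCoh.isQCoh_restrict U.ι M.property)⟩

noncomputable def toJ (M : QCoh X) (U : X.Opens) [QuasiCompact U.ι] : M ⟶ J M U :=
  ObjectProperty.homMk ((Scheme.Modules.restrictAdjunction U.ι).unit.app M.obj)

theorem toJ_app (M : QCoh X) (U : X.Opens) [QuasiCompact U.ι] (W : X.Opens) :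
    (toJ M U).hom.app W = M.obj.presheaf.map (homOfLE (U.ι.image_preimage_le W)).op := rfl

theorem toJ_app_injective (M : QCoh X) (U : X.Opens) [QuasiCompact U.ι] {W : X.Opens} (hW : W ≤ U) :
    Function.Injective ((toJ M U).hom.app W) := by
  have hle : W ≤ U.ι ''ᵁ U.ι ⁻¹ᵁ W := fun x hx => ⟨⟨x, hW hx⟩, hx, rfl⟩
  intro a b hab
  rw [toJ_app] at hab
  have := congrArg (M.obj.presheaf.map (homOfLE hle).op) hab
  erw [Groth.Agent.QCoh.map_map, Groth.Agent.QCoh.map_map] at this
  rw [Subsingleton.elim (homOfLE hle ≫ homOfLE (U.ι.image_preimage_le W)) (𝟙 W)] at this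
  simpa using this

theorem J_map (M : QCoh X) (U : X.Opens) [QuasiCompact U.ι] {V W : X.Opens} (i : W ⟶ V) (s : Γ((J M U).obj, V)) :
    (J M U).obj.presheaf.map i.op s =
      M.obj.presheaf.map (homOfLE (show U.ι ''ᵁ U.ι ⁻¹ᵁ W ≤ U.ι ''ᵁ U.ι ⁻¹ᵁ V by
        rintro _ ⟨z, hz, rfl⟩; exact ⟨z, leOfHom i hz, rfl⟩)).op s := rfl

theorem exists_lift (M : QCoh X) (U : X.Opens) [QuasiCompact U.ι] (t : Γ(M.obj, U)) :
    ∃ ψ : O X ⟶ J M U, (J M U).obj.presheaf.map (homOfLE le_top).op (ψ.hom.app ⊤ (1 : Γ(X, ⊤))) =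
      (toJ M U).hom.app U t := by
  have hle : U.ι ''ᵁ U.ι ⁻¹ᵁ (⊤ : X.Opens) ≤ U := by rintro _ ⟨x, -, rfl⟩; exact x.2
  let t' : Γ((J M U).obj, ⊤) := M.obj.presheaf.map (homOfLE hle).op t
  refine ⟨ObjectProperty.homMk (Groth.Agent.QCoh.homOfTop (P := (J M U).obj) t'), ?_⟩
  refine (congrArg _ ((Groth.Agent.QCoh.homOfTop_app (P := (J M U).obj) t' (1 : Γ(X, ⊤))).trans
    ((one_smul _ _).trans (congr($((J M U).obj.presheaf.map_id _) t'))))).trans ?_
  rw [toJ_app]
  refine (J_map M U _ t').trans ?_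
  exact (Groth.Agent.QCoh.map_map _ _ t).trans rfl

theorem quasiCompact_ι {U : X.Opens} (hU : IsAffineOpen U) : QuasiCompact U.ι :=
  haveI : CompactSpace (U : Scheme) := isCompact_iff_compactSpace.1 hU.isCompact
  quasiCompact_of_compactSpace _

variable (R : Type u) [CommRing R] (e : QCoh X ≌ ModuleCat.{u} R)

/-- The action of `R` on the identity functor of `QCoh X`. -/
noncomputable def η (f : R) (M : QCoh X) : M ⟶ M := e.functor.preimage (f • 𝟙 (e.functor.obj M))

theorem map_η (f : R) (M : QCoh X) : e.functor.map (η R e f M) = f • 𝟙 (e.functor.obj M) :=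
  e.functor.map_preimage _

theorem η_nat (f : R) {M N : QCoh X} (φ : M ⟶ N) : η R e f M ≫ φ = φ ≫ η R e f N :=
  e.functor.map_injective (by
    rw [e.functor.map_comp, e.functor.map_comp, map_η, map_η, Linear.smul_comp, Linear.comp_smul,
      Category.id_comp, Category.comp_id])

/-- The global function attached to `f`. -/
noncomputable def α (f : R) : Γ(X, ⊤) := (η R e f (O X)).hom.app ⊤ (1 : Γ(X, ⊤))

theorem app_comp_one {M : QCoh X} (f : R) (g : O X ⟶ M) :
    (η R e f (O X) ≫ g).hom.app ⊤ (1 : Γ(X, ⊤)) = α R e f • g.hom.app ⊤ (1 : Γ(X, ⊤)) := by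
  refine (app_eq_smul g.hom ⊤ (α R e f)).trans ?_
  congr 1
  exact congr($(M.obj.presheaf.map_id _) _)

theorem α_mul (f g : R) : α R e (f * g) = α R e f * α R e g := by
  have h : η R e (f * g) (O X) = η R e f (O X) ≫ η R e g (O X) := e.functor.map_injective (by
    rw [map_η, e.functor.map_comp, map_η, map_η, Linear.comp_smul, Linear.smul_comp, Category.id_comp,
      smul_smul, mul_comm])
  rw [α, h, app_comp_one]
  rfl

theorem η_app_eq (f : R) (M : QCoh X) {U : X.Opens} (hU : IsAffineOpen U) (t : Γ(M.obj, U)) :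
    (η R e f M).hom.app U t = X.presheaf.map (homOfLE (le_top (a := U))).op (α R e f) • t := by
  haveI := quasiCompact_ι hU
  apply toJ_app_injective M U le_rfl
  obtain ⟨ψ, hψ⟩ := exists_lift M U t
  refine Eq.trans ?_ (Scheme.Modules.Hom.app_smul (toJ M U).hom (X.presheaf.map (homOfLE (le_top (a := U))).op (α R e f)) t).symm
  refine (app_congr (congrArg InducedCategory.Hom.hom (η_nat R e f (toJ M U))) U t).trans ?_
  show (η R e f (J M U)).hom.app U ((toJ M U).hom.app U t) = _
  rw [← hψ, Groth.Agent.QCoh.map_app_comm, ← Scheme.Modules.map_smul]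
  congr 1
  refine (app_congr (congrArg InducedCategory.Hom.hom (η_nat R e f ψ)) ⊤ (1 : Γ(X, ⊤))).symm.trans ?_
  exact app_comp_one R e f ψ

/-- The reduced closed subscheme structure sheaf as an object. -/
noncomputable abbrev Oc (Z : Closeds X) : QCoh X :=
  ⟨(Scheme.Modules.pushforward (Scheme.IdealSheafData.vanishingIdeal Z).subschemeι).obj (Coh.structureModule _),
    Groth.Agent.QCoh.isQCoh_pushforward _ Groth.Agent.QCoh.isQCoh_structureModule⟩

noncomputable def toOc (Z : Closeds X) : O X ⟶ Oc Z :=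
  ObjectProperty.homMk (Groth.Agent.QCoh.homOfTop (P := (Oc Z).obj)
    (1 : Γ((Scheme.IdealSheafData.vanishingIdeal Z).subscheme, (Scheme.IdealSheafData.vanishingIdeal Z).subschemeι ⁻¹ᵁ ⊤)))

theorem toOc_app (Z : Closeds X) (W : X.Opens) (b : Γ(X, W)) :
    (toOc Z).hom.app W b =
      ((Scheme.IdealSheafData.vanishingIdeal Z).subschemeι.app W b : Γ((Oc Z).obj, W)) := by
  refine (Groth.Agent.QCoh.homOfTop_app (P := (Oc Z).obj) _ b).trans ?_
  let ι := (Scheme.IdealSheafData.vanishingIdeal Z).subschemeι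
  show @Eq Γ((Scheme.IdealSheafData.vanishingIdeal Z).subscheme, ι ⁻¹ᵁ W)
    (@HMul.hMul Γ((Scheme.IdealSheafData.vanishingIdeal Z).subscheme, ι ⁻¹ᵁ W) Γ((Scheme.IdealSheafData.vanishingIdeal Z).subscheme, ι ⁻¹ᵁ W) Γ((Scheme.IdealSheafData.vanishingIdeal Z).subscheme, ι ⁻¹ᵁ W) _ (ι.app W b)
      ((Scheme.IdealSheafData.vanishingIdeal Z).subscheme.presheaf.map
        (homOfLE (show ι ⁻¹ᵁ W ≤ ι ⁻¹ᵁ ⊤ from le_top)).op (1 : Γ((Scheme.IdealSheafData.vanishingIdeal Z).subscheme, ι ⁻¹ᵁ ⊤))))
    (ι.app W b)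
  rw [map_one, mul_one]

theorem disjoint_basicOpen_of_toOc (Z : Closeds X) {W : X.Opens} (b : Γ(X, W))
    (h : (toOc Z).hom.app W b = 0) {x : X} (hx : x ∈ Z) : x ∉ X.basicOpen b := fun hxb => by
  set ι := (Scheme.IdealSheafData.vanishingIdeal Z).subschemeι
  obtain ⟨z, rfl⟩ : x ∈ Set.range ι := (Groth.Agent.H23.RedSub.range_vanishingIdeal Z).symm ▸ hx
  have hz : z ∈ ι ⁻¹ᵁ X.basicOpen b := hxb
  rw [Scheme.preimage_basicOpen, show ι.app W b = 0 from (toOc_app Z W b).symm.trans h, Scheme.basicOpen_zero] at hz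
  exact hz

/-- The closed point as a closed subset. -/
def pt {x : X} (hx : IsClosed ({x} : Set X)) : Closeds X := ⟨{x}, hx⟩

theorem mem_basicOpen_of_toOc {x : X} (hx : IsClosed ({x} : Set X)) {W : X.Opens} (b : Γ(X, W))
    (h : (toOc (pt hx)).hom.app W b ≠ 0) : x ∈ X.basicOpen b := by
  by_contra hxb
  refine h ((toOc_app _ W b).trans ?_)
  set ι := (Scheme.IdealSheafData.vanishingIdeal (pt hx)).subschemeι
  refine (basicOpen_eq_bot_iff (ι.app W b)).1 ?_
  rw [← Scheme.preimage_basicOpen]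
  ext z
  have hz : ι z ∈ ((pt hx : Closeds X) : Set X) := Groth.Agent.H23.RedSub.range_vanishingIdeal (pt hx) ▸ Set.mem_range_self z
  simp only [Opens.coe_bot, Set.mem_empty_iff_false, iff_false]
  intro hzb
  exact hxb ((show ι z = x from hz) ▸ hzb)

theorem toOc_top_one_ne {x : X} (hx : IsClosed ({x} : Set X)) : (toOc (pt hx)).hom.app ⊤ (1 : Γ(X, ⊤)) ≠ 0 :=
  fun h => disjoint_basicOpen_of_toOc (pt hx) (1 : Γ(X, ⊤)) h (Set.mem_singleton x) (by
    rw [Scheme.basicOpen_of_isUnit _ isUnit_one]; trivial)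

theorem hom_zero {M N : QCoh X} : (0 : M ⟶ N).hom = 0 := rfl

include e in
theorem finite_functor_O : Module.Finite R (e.functor.obj (O X)) := by
  classical
  let P₀ := e.functor.obj (O X)
  let MR := e.functor.objPreimage (ModuleCat.of R R)
  let φ : P₀ → (MR ⟶ O X) := fun p => e.functor.preimage
    ((e.functor.objObjPreimageIso (ModuleCat.of R R)).hom ≫ ModuleCat.ofHom (LinearMap.toSpanSingleton R P₀ p))
  have key : ∀ x : {x : X // IsClosed ({x} : Set X)}, ∃ (p : P₀) (W : X.Opens) (s : Γ(MR.obj, W)),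
      x.1 ∈ X.basicOpen ((φ p).hom.app W s : Γ(X, W)) := by
    rintro ⟨x, hx⟩
    by_contra! hn
    have hz : e.functor.map (toOc (pt hx)) = 0 := by
      ext p
      have h1 : φ p ≫ toOc (pt hx) = 0 := ObjectProperty.hom_ext _ (Scheme.Modules.hom_ext _ _ fun W =>
        AddCommGrpCat.hom_ext (AddMonoidHom.ext fun s => by
          by_contra hs
          exact hn p W s (mem_basicOpen_of_toOc hx _ hs)))
      have h2 := congr($(congrArg e.functor.map h1) ((e.functor.objObjPreimageIso (ModuleCat.of R R)).inv (1 : R)))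
      simp only [φ, Functor.map_comp, Functor.map_preimage, Functor.map_zero] at h2
      simpa using h2
    refine toOc_top_one_ne hx ?_
    rw [e.functor.map_injective (hz.trans (e.functor.map_zero _ _).symm)]
    rfl
  choose p W s hs using key
  have hcov : Set.univ ⊆ ⋃ x, (X.basicOpen ((φ (p x)).hom.app (W x) (s x) : Γ(X, W x)) : Set X) := by
    intro y _
    obtain ⟨z, hz, hzc⟩ := (isClosed_closure (s := {y})).exists_closed_singleton ⟨y, subset_closure rfl⟩
    obtain ⟨w, hw, rfl⟩ := mem_closure_iff.1 hz _ (X.basicOpen _).isOpen (hs ⟨z, hzc⟩)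
    exact Set.mem_iUnion.2 ⟨⟨z, hzc⟩, hw⟩
  obtain ⟨T, hT⟩ := isCompact_univ.elim_finite_subcover _ (fun x => (X.basicOpen _).isOpen) hcov
  let N := Submodule.span R ((T.image p : Finset P₀) : Set P₀)
  refine ⟨⟨T.image p, ?_⟩⟩
  let Q := ModuleCat.of R (P₀ ⧸ N)
  let g : O X ⟶ e.functor.objPreimage Q :=
    e.functor.preimage (ModuleCat.ofHom N.mkQ ≫ (e.functor.objObjPreimageIso Q).inv)
  have hg : g = 0 := by
    refine ObjectProperty.hom_ext _ (hom_eq_zero g.hom (Groth.Agent.QCoh.eq_zero_of_locally ⊤ _ fun y _ => ?_))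
    obtain ⟨x, hxT, hy⟩ : ∃ x ∈ T, y ∈ X.basicOpen ((φ (p x)).hom.app (W x) (s x) : Γ(X, W x)) := by
      simpa using hT (Set.mem_univ y)
    have hφ : φ (p x) ≫ g = 0 := e.functor.map_injective (by
      rw [e.functor.map_zero, e.functor.map_comp]
      simp only [φ, g, Functor.map_preimage]
      rw [← Category.assoc, Category.assoc (e.functor.objObjPreimageIso _).hom]
      have : ModuleCat.ofHom (LinearMap.toSpanSingleton R P₀ (p x)) ≫ ModuleCat.ofHom N.mkQ = 0 := by
        ext
        exact (Submodule.Quotient.mk_eq_zero _).2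
          (by
            show LinearMap.toSpanSingleton R P₀ (p x) (1 : R) ∈ N
            rw [LinearMap.toSpanSingleton_apply, one_smul]
            exact Submodule.subset_span (Finset.mem_image_of_mem p hxT))
      rw [this, comp_zero, zero_comp])
    set b : Γ(X, W x) := (φ (p x)).hom.app (W x) (s x)
    refine ⟨X.basicOpen b, homOfLE le_top, hy, ?_⟩
    have h0 : b • (e.functor.objPreimage Q).obj.presheaf.map (homOfLE le_top).op (g.hom.app ⊤ (1 : Γ(X, ⊤))) = 0 :=
      (app_eq_smul g.hom (W x) b).symm.trans ((app_congr (congrArg InducedCategory.Hom.hom hφ) (W x) (s x)).trans rfl)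
    have h1 := congrArg ((e.functor.objPreimage Q).obj.presheaf.map (homOfLE (X.basicOpen_le b)).op) h0
    rw [Scheme.Modules.map_smul, map_zero, ← ConcreteCategory.comp_apply, ← Functor.map_comp] at h1
    exact ((isUnit_res b (X.basicOpen_le b) le_rfl).smul_eq_zero).1 h1
  have h := congrArg e.functor.map hg
  simp only [g, Functor.map_preimage, Functor.map_zero, Preadditive.IsIso.comp_right_eq_zero] at h
  rw [eq_top_iff]
  intro a _
  exact (Submodule.Quotient.mk_eq_zero _).1 congr($h a)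

theorem smul_toOc_iff (f : R) (Z : Closeds X) :
    f ∈ (LinearMap.range (e.functor.map (toOc Z)).hom).annihilator ↔
      η R e f (O X) ≫ toOc Z = 0 := by
  have h : e.functor.map (η R e f (O X) ≫ toOc Z) = f • e.functor.map (toOc Z) := by
    rw [e.functor.map_comp, map_η, Linear.smul_comp, Category.id_comp]
  constructor
  · intro hf
    refine e.functor.map_injective ?_
    rw [h, e.functor.map_zero]
    ext p
    exact Submodule.mem_annihilator.1 hf _ ⟨p, rfl⟩
  · intro hf
    refine Submodule.mem_annihilator.2 ?_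
    rintro _ ⟨p, rfl⟩
    have := congr($(congrArg e.functor.map hf) p)
    rw [h, e.functor.map_zero] at this
    exact this

theorem exists_quot {M : ModuleCat.{u} R} (L : Submodule R M) (hL : L.FG) (m : Ideal R) [m.IsMaximal]
    (h : L.annihilator ≤ m) : ∃ q : L →ₗ[R] R ⧸ m, Function.Surjective q := by
  have hne : Nontrivial (L ⧸ m • (⊤ : Submodule R L)) := by
    rw [Submodule.Quotient.nontrivial_iff]
    intro htop
    haveI : Module.Finite R L := Module.Finite.iff_fg.2 hL
    obtain ⟨r, hr, hr'⟩ := Submodule.exists_sub_one_mem_and_smul_eq_zero_of_fg_of_le_smul m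
      (⊤ : Submodule R L) Module.Finite.fg_top htop.ge
    have : r ∈ m := h (Submodule.mem_annihilator.2 fun n hn => congrArg Subtype.val (hr' ⟨n, hn⟩ trivial))
    exact ‹m.IsMaximal›.ne_top ((Ideal.eq_top_iff_one _).2 (by simpa using m.sub_mem this hr))
  have htor : Module.IsTorsionBySet R (L ⧸ m • (⊤ : Submodule R L)) m :=
    (Module.isTorsionBySet_quotient_iff _ _).mpr fun _ _ h => Submodule.smul_mem_smul h trivial
  letI : Module (R ⧸ m) (L ⧸ m • (⊤ : Submodule R L)) := htor.module
  haveI : IsScalarTower R (R ⧸ m) (L ⧸ m • (⊤ : Submodule R L)) := htor.isScalarTower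
  letI := Ideal.Quotient.field m
  obtain ⟨v, hv⟩ := exists_ne (0 : L ⧸ m • (⊤ : Submodule R L))
  obtain ⟨d, hd⟩ : ∃ d : Module.Dual (R ⧸ m) (L ⧸ m • (⊤ : Submodule R L)), d v ≠ 0 := by
    by_contra! hall
    exact hv ((Module.forall_dual_apply_eq_zero_iff _ v).1 hall)
  refine ⟨(d.restrictScalars R).comp (Submodule.mkQ _), ?_⟩
  exact (LinearMap.surjective_of_ne_zero (f := d) fun h0 => hd (by rw [h0]; rfl)).comp (Submodule.mkQ_surjective _)

/-- A nonzero simple object receives nonzero maps from structure sheaves of disjoint closed sets only if it is zero. -/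
theorem exists_f {x : X} (hx : IsClosed ({x} : Set X)) {U : X.Opens} (hU : IsAffineOpen U) (hxU : x ∈ U) :
    ∃ f : R, x ∈ X.basicOpen (α R e f) ∧ X.basicOpen (α R e f) ≤ U := by
  classical
  haveI := finite_functor_O R e
  let Z : Closeds X := ⟨(U : Set X)ᶜ, U.isOpen.isClosed_compl⟩
  let L := LinearMap.range (e.functor.map (toOc Z)).hom
  let L' := LinearMap.range (e.functor.map (toOc (pt hx))).hom
  suffices h : ∃ f ∈ L.annihilator, f ∉ L'.annihilator by
    obtain ⟨f, hf, hf'⟩ := h
    rw [smul_toOc_iff] at hf hf'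
    refine ⟨f, mem_basicOpen_of_toOc hx _ fun h0 => hf' ?_, fun y hy => by_contra fun hyU =>
      disjoint_basicOpen_of_toOc Z (α R e f) ?_ hyU hy⟩
    · exact ObjectProperty.hom_ext _ (hom_eq_zero _ h0)
    · exact app_congr (congrArg InducedCategory.Hom.hom hf) ⊤ (1 : Γ(X, ⊤))
  by_contra! hle
  have hL'ne : L'.annihilator ≠ ⊤ := fun htop => toOc_top_one_ne hx <| by
    have h0 : toOc (pt hx) = 0 := e.functor.map_injective (by
      rw [e.functor.map_zero]; ext p
      exact (Submodule.eq_bot_iff _).1 (Submodule.annihilator_eq_top_iff.1 htop) _ ⟨p, rfl⟩)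
    exact app_congr (congrArg InducedCategory.Hom.hom h0) ⊤ (1 : Γ(X, ⊤))
  obtain ⟨m, hm, hm'⟩ := Ideal.exists_le_maximal _ hL'ne
  haveI := hm
  let S := e.functor.objPreimage (ModuleCat.of R (R ⧸ m))
  let i := e.functor.objObjPreimageIso (ModuleCat.of R (R ⧸ m))
  -- a map to `S` which is epi, and vanishes wherever the given map does
  have mk : ∀ (Y : Closeds X), (LinearMap.range (e.functor.map (toOc Y)).hom).annihilator ≤ m →
      ∀ {W : X.Opens}, IsAffineOpen W → (∀ y ∈ W, y ∉ Y) → ∀ t : Γ(S.obj, W), t = 0 := by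
    intro Y hY W hW hWY t
    haveI := quasiCompact_ι hW
    let c := (e.functor.map (toOc Y)).hom
    obtain ⟨q, hq⟩ := exists_quot R (LinearMap.range c) (Submodule.FG.map c Module.Finite.fg_top |> (by
      simpa [Submodule.map_top] using ·)) m hY
    let u : O X ⟶ S := e.functor.preimage (ModuleCat.ofHom (q.comp c.rangeRestrict) ≫ i.inv)
    haveI : Epi u := e.functor.epi_of_epi_map (by
      simp only [u, Functor.map_preimage]
      haveI : Epi (ModuleCat.ofHom (q.comp c.rangeRestrict)) :=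
        (ModuleCat.epi_iff_surjective _).2 (hq.comp c.surjective_rangeRestrict)
      exact epi_comp _ _)
    let K : QCoh X := ⟨kernel (toOc Y).hom,
      Groth.Agent.QCoh.isQCoh_kernel (O X).property (Oc Y).property _⟩
    let ξ : K ⟶ O X := ObjectProperty.homMk (kernel.ι (toOc Y).hom)
    have hξ : ξ ≫ toOc Y = 0 := ObjectProperty.hom_ext _ (kernel.condition _)
    have hξu : ξ ≫ u = 0 := e.functor.map_injective (by
      simp only [u, e.functor.map_comp, Functor.map_preimage, e.functor.map_zero]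
      rw [← Category.assoc]
      suffices e.functor.map ξ ≫ ModuleCat.ofHom (q.comp c.rangeRestrict) = 0 by rw [this, zero_comp]
      ext k
      have : c.rangeRestrict (e.functor.map ξ k) = 0 := Subtype.ext (by
        have := congr($(congrArg e.functor.map hξ) k)
        rw [e.functor.map_comp, e.functor.map_zero] at this
        exact this)
      exact (congrArg q this).trans (map_zero q))
    have hu1 : u.hom.app W (1 : Γ(X, W)) = 0 := by
      set ι := (Scheme.IdealSheafData.vanishingIdeal Y).subschemeι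
      have hker : (toOc Y).hom.app W (1 : Γ(X, W)) = 0 := by
        rw [toOc_app]
        have : ι ⁻¹ᵁ W = ⊥ := by
          ext z
          simp only [Opens.coe_bot, Set.mem_empty_iff_false, iff_false]
          exact fun hz => hWY _ hz (show ι z ∈ (Y : Set X) from
            Groth.Agent.H23.RedSub.range_vanishingIdeal Y ▸ Set.mem_range_self z)
        haveI : Subsingleton Γ((Scheme.IdealSheafData.vanishingIdeal Y).subscheme, ι ⁻¹ᵁ W) :=
          this ▸ inferInstance
        exact Subsingleton.elim (α := Γ((Scheme.IdealSheafData.vanishingIdeal Y).subscheme, ι ⁻¹ᵁ W)) _ _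
      obtain ⟨a, ha⟩ := exists_kernel_app (toOc Y).hom W _ hker
      rw [← ha]
      exact app_congr (congrArg InducedCategory.Hom.hom hξu) W a
    have hzero : toJ S W = 0 := by
      rw [← cancel_epi u, comp_zero]
      refine ObjectProperty.hom_ext _ (hom_eq_zero _ ?_)
      have hle : W.ι ''ᵁ W.ι ⁻¹ᵁ (⊤ : X.Opens) ≤ W := by rintro _ ⟨z, -, rfl⟩; exact z.2
      have hu : S.obj.presheaf.map (homOfLE (le_top (a := W))).op (u.hom.app ⊤ (1 : Γ(X, ⊤))) = 0 :=
        (Groth.Agent.QCoh.map_app_comm u.hom (homOfLE le_top) (1 : Γ(X, ⊤))).symm.trans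
          ((congrArg (u.hom.app W) (map_one (X.presheaf.map (homOfLE (le_top (a := W))).op).hom)).trans hu1)
      have h2 := congrArg (S.obj.presheaf.map (homOfLE hle).op) hu
      rw [Groth.Agent.QCoh.map_map, map_zero] at h2
      exact h2
    refine toJ_app_injective S W le_rfl ?_
    rw [hzero, map_zero]; rfl
  have h₁ := @mk Z (le_trans hle hm')
  have h₂ := @mk (pt hx) hm'
  have hS : ∀ (W : X.Opens) (t : Γ(S.obj, W)), t = 0 := fun W t =>
    Groth.Agent.QCoh.eq_zero_of_locally W t fun y hy => by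
      by_cases hyx : y = x
      · obtain ⟨_, ⟨V, hV, rfl⟩, hyV, hVs⟩ :=
          X.isBasis_affineOpens.exists_subset_of_mem_open (show y ∈ ((W ⊓ U : X.Opens) : Set X) from ⟨hy, hyx ▸ hxU⟩) (W ⊓ U).2
        exact ⟨V, homOfLE fun z hz => (hVs hz).1, hyV, h₁ hV (fun z hz hzZ => hzZ (hVs hz).2) _⟩
      · let C : X.Opens := ⟨{x}ᶜ, hx.isOpen_compl⟩
        obtain ⟨_, ⟨V, hV, rfl⟩, hyV, hVs⟩ :=
          X.isBasis_affineOpens.exists_subset_of_mem_open (show y ∈ ((W ⊓ C : X.Opens) : Set X) from ⟨hy, hyx⟩) (W ⊓ C).2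
        exact ⟨V, homOfLE fun z hz => (hVs hz).1, hyV, h₂ hV (fun z hz hzZ => (hVs hz).2 hzZ) _⟩
  have hid : (𝟙 S : S ⟶ S) = 0 := ObjectProperty.hom_ext _ (Scheme.Modules.hom_ext _ _ fun W =>
    AddCommGrpCat.hom_ext (AddMonoidHom.ext fun t => hS W t))
  have := congr((i.inv ≫ $(congrArg e.functor.map hid) ≫ i.hom) (1 : R ⧸ m))
  simp at this

/-- For a qcqs scheme X: if quasi-coherent O_X-modules form a category equivalent to that of modules
over some commutative ring R, then X is affine. -/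
theorem result (X : Scheme.{u}) [CompactSpace X]
    [QuasiSeparatedSpace X] (R : Type u) [CommRing R]
    (e : QCohCat.QCoh X ≌ ModuleCat.{u} R) : IsAffine X := by
  classical
  haveI : HasBinaryProducts (QCoh X) := Adjunction.hasLimitsOfShape_of_equivalence e.functor
  haveI : e.functor.Additive := Functor.additive_of_preserves_binary_products _
  have hadd : ∀ f g, α R e (f + g) = α R e f + α R e g := fun f g => by
    have h : η R e (f + g) (O X) = η R e f (O X) + η R e g (O X) := e.functor.map_injective (by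
      rw [e.functor.map_add, map_η, map_η, map_η, add_smul])
    rw [α, h]; rfl
  choose U hU hxU using fun x : X =>
    (show ∃ U : X.Opens, IsAffineOpen U ∧ x ∈ U from
      let ⟨_, ⟨U, hU, rfl⟩, hxU, _⟩ := X.isBasis_affineOpens.exists_subset_of_mem_open (Set.mem_univ x) isOpen_univ
      ⟨U, hU, hxU⟩)
  choose F hF hFU using fun x : {x : X // IsClosed ({x} : Set X)} => exists_f R e x.2 (hU x.1) (hxU x.1)
  have hcov : ∀ y : X, ∃ x, y ∈ X.basicOpen (α R e (F x)) := fun y => by
    obtain ⟨z, hz, hzc⟩ := (isClosed_closure (s := {y})).exists_closed_singleton ⟨y, subset_closure rfl⟩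
    obtain ⟨w, hw, rfl⟩ := mem_closure_iff.1 hz _ (X.basicOpen _).isOpen (hF ⟨z, hzc⟩)
    exact ⟨_, hw⟩
  have htop : Ideal.span (Set.range F) = ⊤ := by
    by_contra hne
    obtain ⟨m, hm, hle⟩ := Ideal.exists_le_maximal _ hne
    let S := e.functor.objPreimage (ModuleCat.of R (R ⧸ m))
    let i := e.functor.objObjPreimageIso (ModuleCat.of R (R ⧸ m))
    have hη : ∀ x, η R e (F x) S = 0 := fun x => e.functor.map_injective (by
      have h1 : F x • 𝟙 (ModuleCat.of R (R ⧸ m)) = 0 := by
        ext v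
        show F x • (Ideal.Quotient.mk m 1) = 0
        exact (Ideal.Quotient.eq_zero_iff_mem).2 (m.mul_mem_right _ (hle (Ideal.subset_span ⟨x, rfl⟩)))
      rw [map_η, e.functor.map_zero, show F x • 𝟙 (e.functor.obj S) = i.hom ≫ (F x • 𝟙 _) ≫ i.inv by
        rw [Linear.smul_comp, Category.id_comp, Linear.comp_smul, Iso.hom_inv_id], h1, zero_comp, comp_zero])
    have hS : ∀ (W : X.Opens) (t : Γ(S.obj, W)), t = 0 := fun W t =>
      Groth.Agent.QCoh.eq_zero_of_locally W t fun y hy => by
        obtain ⟨x, hyx⟩ := hcov y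
        obtain ⟨_, ⟨V, hV, rfl⟩, hyV, hVs⟩ := X.isBasis_affineOpens.exists_subset_of_mem_open
          (show y ∈ ((W ⊓ X.basicOpen (α R e (F x)) : X.Opens) : Set X) from ⟨hy, hyx⟩) (W ⊓ _).2
        refine ⟨V, homOfLE fun z hz => (hVs hz).1, hyV, ?_⟩
        set t' := S.obj.presheaf.map (homOfLE (show V ≤ W from fun z hz => (hVs hz).1)).op t
        have h1 : (η R e (F x) S).hom.app V t' = 0 := by rw [hη]; rfl
        rw [η_app_eq R e (F x) S hV] at h1
        refine (IsUnit.smul_eq_zero ?_).1 h1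
        have hVb : V ≤ X.basicOpen (α R e (F x)) := fun z hz => (hVs hz).2
        exact isUnit_res _ le_top hVb
    have hid : (𝟙 S : S ⟶ S) = 0 := ObjectProperty.hom_ext _ (Scheme.Modules.hom_ext _ _ fun W =>
      AddCommGrpCat.hom_ext (AddMonoidHom.ext fun t => hS W t))
    haveI := hm
    have := congr((i.inv ≫ $(congrArg e.functor.map hid) ≫ i.hom) (1 : R ⧸ m))
    simp at this
  let φ : R →+* Γ(X, ⊤) := RingHom.mk' ⟨⟨α R e, by
    have h : η R e 1 (O X) = 𝟙 _ := e.functor.map_injective (by rw [map_η, one_smul, e.functor.map_id])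
    rw [α, h]; rfl⟩, α_mul R e⟩ hadd
  refine isAffine_of_isAffineOpen_basicOpen (φ '' Set.range F)
    (by rw [← Ideal.map_span, htop, Ideal.map_top]) ?_
  rintro _ ⟨_, ⟨x, rfl⟩, rfl⟩
  show IsAffineOpen (X.basicOpen (α R e (F x)))
  have := (hU x.1).basicOpen (X.presheaf.map (homOfLE (le_top (a := U x.1))).op (α R e (F x)))
  rwa [Scheme.basicOpen_res, inf_eq_right.2 (hFU x)] at this

end Groth.Agent.S2198
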