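import Groth.Statements.S2202
import Groth.Agent.AvramovLib.Quot
import Groth.Agent.S2200

set_option autoImplicit false
universe u
open LCI

namespace Groth.Agent.S2202
set_option maxHeartbeats 800000



/-- Special case: A and B complete. For a local homomorphism A -> B of complete Noetherian local rings,
the following are equivalent: B is a complete intersection with only finitely many nonzero
Tor^A_p(B, k_A); A is a complete intersection and A -> B factors as A -> S -> B with S Noetherian
local, A -> S flat with regular closed fibre S/m_A S, and S -> B surjective with kernel cut out by a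
regular sequence (a complete intersection homomorphism). -/
theorem result {A B : Type u} [CommRing A] [CommRing B] [IsNoetherianRing A]
    [IsNoetherianRing B] [IsLocalRing A] [IsLocalRing B]
    [IsAdicComplete (IsLocalRing.maximalIdeal A) A] [IsAdicComplete (IsLocalRing.maximalIdeal B) B]
    [Algebra A B] [IsLocalHom (algebraMap A B)] :
    (Pi1.IsCompleteIntersection B ∧
        Set.Finite {p : ℕ | ¬Subsingleton (DRing.Tor A p B (IsLocalRing.ResidueField A))}) ↔
      (Pi1.IsCompleteIntersection A ∧
        ∃ (S : Type u) (_ : CommRing S) (_ : IsNoetherianRing S) (_ : IsLocalRing S) (_ : Algebra A S)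
          (_ : Module.Flat A S)
          (_ : IsRegularLocalRing (S ⧸ Ideal.map (algebraMap A S) (IsLocalRing.maximalIdeal A)))
          (g : S →ₐ[A] B), Function.Surjective g ∧
            ∃ rs : List S, Ideal.ofList rs = RingHom.ker g ∧ RingTheory.Sequence.IsRegular S rs) := by
  constructor
  · rintro ⟨hB, hfin⟩
    obtain ⟨R, G, _, _, _, _, _, _, _, _, _, _, π, q, hπ, hq, hc⟩ :=
      Groth.Agent.AvramovLib.exists_regular_cover (IsNoetherian.noetherian (IsLocalRing.maximalIdeal A))
        (IsNoetherian.noetherian (IsLocalRing.maximalIdeal B)) (algebraMap A B)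
    let I := RingHom.ker π
    let IG := I.map (algebraMap R G)
    let J := RingHom.ker q
    letI := Groth.Agent.AvramovLib.quotAlgebra (G := G) π hπ
    obtain ⟨_, hflat, hloc, hfib⟩ := Groth.Agent.AvramovLib.factor_facts (G := G) π hπ
    haveI := hflat
    haveI := hfib
    haveI := @hloc inferInstance
    have hIJ : IG ≤ J := by
      rw [Ideal.map_le_iff_le_comap]
      intro r hr
      show q (algebraMap R G r) = 0
      rw [← RingHom.comp_apply, hc, RingHom.comp_apply, show π r = 0 from hr, map_zero]
    let g : (G ⧸ IG) →ₐ[A] B :=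
      { Ideal.Quotient.lift IG q (fun r hr => hIJ hr) with
        commutes' := fun a => by
          obtain ⟨r, rfl⟩ := hπ a
          rw [Groth.Agent.AvramovLib.quotAlgebra_apply π hπ r]
          exact RingHom.congr_fun hc r }
    have hg : Function.Surjective g := fun b => by
      obtain ⟨x, rfl⟩ := hq b
      exact ⟨Ideal.Quotient.mk IG x, rfl⟩
    letI : Algebra (G ⧸ IG) B := g.toRingHom.toAlgebra
    haveI : IsScalarTower A (G ⧸ IG) B := IsScalarTower.of_algebraMap_eq fun a => (g.commutes a).symm
    haveI : Module.Finite (G ⧸ IG) B := Module.Finite.of_surjective (Algebra.linearMap (G ⧸ IG) B) hg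
    obtain ⟨b, hb⟩ := hfin.bddAbove
    have hd : Subsingleton (DRing.Tor A (b + 1) B (A ⧸ IsLocalRing.maximalIdeal A)) := by
      by_contra hns
      exact absurd (hb hns) (by omega)
    obtain ⟨D, hD⟩ := Groth.Agent.RegExch.hasFiniteTorDim_of_tor_residue (A := A) (B := G ⧸ IG) B b hd
    letI : Algebra (G ⧸ IG) (G ⧸ J) := (Ideal.Quotient.factor hIJ).toAlgebra
    haveI : IsScalarTower G (G ⧸ IG) (G ⧸ J) := IsScalarTower.of_algebraMap_eq fun x => rfl
    let eB := RingHom.quotientKerEquivOfSurjective hq
    let el : B ≃ₐ[G ⧸ IG] (G ⧸ J) := AlgEquiv.ofRingEquiv (f := eB.symm) (fun x => by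
      obtain ⟨y, rfl⟩ := Ideal.Quotient.mk_surjective x
      show eB.symm (q y) = Ideal.Quotient.mk J y
      rw [← RingHom.quotientKerEquivOfSurjective_apply_mk hq, RingEquiv.symm_apply_apply])
    have hregq := (Groth.Agent.CILib.isCI_iff_ciKer q hq).1 hB
    obtain ⟨rs₀, hreg₀, hk₀⟩ := (Groth.Agent.Synt29.ciKer_iff_regular q hq).1 hregq
    obtain ⟨⟨rs, hrs, hreg⟩, rs', hrs', hreg'⟩ := Groth.Agent.S2200.result IG J hIJ (RingHom.ker_ne_top q)
      ⟨D, Groth.Agent.RegExch.torDimLE_of_equiv el.toLinearEquiv hD⟩ ⟨rs₀, hk₀.symm, hreg₀⟩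
    refine ⟨?_, G ⧸ IG, inferInstance, inferInstance, inferInstance, inferInstance, hflat, hfib, g, hg,
      rs', ?_, hreg'⟩
    · rw [Groth.Agent.CILib.isCI_iff_ciKer π hπ, Groth.Agent.Synt29.ciKer_iff_regular π hπ]
      have hISne : IG ≠ ⊤ := ne_top_of_le_ne_top (RingHom.ker_ne_top q) hIJ
      haveI : Module.FaithfullyFlat R G := Module.FaithfullyFlat.of_flat_of_isLocalHom
      obtain ⟨xs, hxs, hspan, hw⟩ := Groth.Agent.RegExch.exists_regular_subset hISne
        (algebraMap R G '' (I : Set R)) rfl ⟨rs, hrs, hreg.toIsWeaklyRegular⟩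
      have hys : ∃ ys : List R, (∀ y ∈ ys, y ∈ I) ∧ ys.map (algebraMap R G) = xs := by
        clear hspan hw
        induction xs with
        | nil => exact ⟨[], by simp, rfl⟩
        | cons x xs ih =>
          obtain ⟨y, hy, rfl⟩ := hxs x List.mem_cons_self
          obtain ⟨ys, hys, rfl⟩ := ih (fun a ha => hxs a (List.mem_cons_of_mem _ ha))
          exact ⟨y :: ys, fun a ha => (List.mem_cons.1 ha).elim (fun h => h ▸ hy) (hys a), rfl⟩
      obtain ⟨ys, hys, rfl⟩ := hys
      have hI' : Ideal.ofList ys = I := by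
        rw [← Ideal.comap_map_eq_self_of_faithfullyFlat (B := G) (Ideal.ofList ys), Ideal.map_ofList, hspan,
          Ideal.comap_map_eq_self_of_faithfullyFlat]
      refine ⟨ys, ⟨Groth.Agent.RegExch.isWeaklyRegular_of_faithfullyFlat ys hw, ?_⟩, hI'.symm⟩
      rw [hI', smul_eq_mul, Ideal.mul_top]
      exact (RingHom.ker_ne_top π).symm
    · rw [hrs']
      refine le_antisymm (Ideal.map_le_iff_le_comap.2 fun x hx => hx) fun y hy => ?_
      obtain ⟨x, rfl⟩ := Ideal.Quotient.mk_surjective y
      exact Ideal.mem_map_of_mem _ (show x ∈ J from hy)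
  · rintro ⟨hA, S, _, _, _, _, _, _, g, hg, rs, hrs, hreg⟩
    haveI : IsLocalHom (algebraMap A S) := ⟨fun a ha => isUnit_of_map_unit (algebraMap A B) a (by
      rw [← g.comp_algebraMap]
      exact ha.map (g : S →+* B))⟩
    refine ⟨Groth.Agent.AvramovLib.isCI_quot_regular ?_ g.toRingHom hg rs hrs.symm hreg.toIsWeaklyRegular, ?_⟩
    · exact Groth.Agent.AvramovLib.avramov.2 ⟨hA, Groth.Agent.KRegLib.isCompleteIntersection_of_regular _⟩
    · letI : Algebra S B := g.toRingHom.toAlgebra
      haveI : IsScalarTower A S B := IsScalarTower.of_algebraMap_eq fun a => (g.commutes a).symm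
      let e : (S ⧸ (Ideal.ofList rs • ⊤ : Submodule S S)) ≃ₗ[S] B :=
        (Submodule.quotEquivOfEq _ (LinearMap.ker (Algebra.linearMap S B))
          (by rw [smul_eq_mul, Ideal.mul_top, hrs]; rfl)).trans
          ((Algebra.linearMap S B).quotKerEquivOfSurjective hg)
      have hB : DRing.HasTorDimLE A (0 + rs.length) B := Groth.Agent.RegExch.torDimLE_of_equiv
        (e.restrictScalars A) (Groth.Agent.RegExch.torDimLE_quot_regular (A := A) rs S 0
          hreg.toIsWeaklyRegular (Groth.Agent.RegExch.torDimLE_of_flat 0))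
      exact (Set.finite_Iic (0 + rs.length)).subset fun p hp => not_lt.1 fun hlt => hp (hB _ p hlt)


end Groth.Agent.S2202
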