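import Groth.Statements.S2203
import Mathlib

set_option autoImplicit false
universe u
open CategoryTheory
open QCohCat

namespace Groth.Agent.S2203

theorem natTrans_eq {A : Type u} [CommRing A] (η : 𝟭 (ModuleCat.{u} A) ⟶ 𝟭 (ModuleCat.{u} A))
    (M : ModuleCat.{u} A) (m : M) : (η.app M).hom m = ((η.app (ModuleCat.of A A)).hom (1 : A) : A) • m := by
  let φ : ModuleCat.of A A ⟶ M := ModuleCat.ofHom (LinearMap.toSpanSingleton A M m)
  have h : (η.app M).hom (φ.hom (1 : A)) = φ.hom ((η.app (ModuleCat.of A A)).hom (1 : A)) :=
    congrArg (fun ψ : ModuleCat.of A A ⟶ M => ψ.hom (1 : A)) (η.naturality φ)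
  simp only [φ, ModuleCat.hom_ofHom, LinearMap.toSpanSingleton_apply, one_smul] at h
  exact h

/-- `A` is the centre of its module category. -/
noncomputable def centerEquiv (A : Type u) [CommRing A] : A ≃+* End (𝟭 (ModuleCat.{u} A)) :=
  RingEquiv.ofBijective
    (show A →+* End (𝟭 (ModuleCat.{u} A)) from
    { toFun := fun a =>
        ({ app := fun M => ModuleCat.ofHom (LinearMap.lsmul A M a)
           naturality := fun M N f => by ext m; exact (map_smul f.hom a m).symm } : 𝟭 (ModuleCat.{u} A) ⟶ 𝟭 (ModuleCat.{u} A))
      map_one' := by apply NatTrans.ext; funext M; ext m; exact one_smul A m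
      map_mul' := fun a b => by apply NatTrans.ext; funext M; ext m; exact mul_smul a b m
      map_zero' := by apply NatTrans.ext; funext M; ext m; exact zero_smul A m
      map_add' := fun a b => by apply NatTrans.ext; funext M; ext m; exact add_smul a b m })
    ⟨fun a b h => by
      have := congrArg (fun η : End (𝟭 (ModuleCat.{u} A)) => ((η.app (ModuleCat.of A A)).hom (1 : A) : A)) h
      simpa using this,
    fun η => ⟨((η.app (ModuleCat.of A A)).hom (1 : A) : A), by
      apply NatTrans.ext; funext M; ext m; exact (natTrans_eq η M m).symm⟩⟩

/-- An equivalence transports the centre. -/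
noncomputable def autIso {C D : Type*} [Category C] [Category D] [Preadditive C] [Preadditive D]
    (F : C ≌ D) [F.functor.Additive] : End (𝟭 C) ≃+* End (𝟭 D) :=
  let l : End (𝟭 C) →+* End F.functor :=
    { toFun := fun η =>
        { app := fun X => F.functor.map (η.app X)
          naturality := fun X Y f => by
            rw [← F.functor.map_comp, ← F.functor.map_comp]; exact congrArg F.functor.map (η.naturality f) }
      map_one' := by apply NatTrans.ext; funext X; exact F.functor.map_id X
      map_mul' := fun a b => by apply NatTrans.ext; funext X; exact F.functor.map_comp _ _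
      map_zero' := by apply NatTrans.ext; funext X; exact F.functor.map_zero _ _
      map_add' := fun a b => by apply NatTrans.ext; funext X; exact F.functor.map_add }
  let r : End (𝟭 D) →+* End F.functor :=
    { toFun := fun η =>
        { app := fun X => η.app (F.functor.obj X)
          naturality := fun X Y f => η.naturality (F.functor.map f) }
      map_one' := rfl
      map_mul' := fun a b => rfl
      map_zero' := rfl
      map_add' := fun a b => rfl }
  let eC : End (𝟭 C) ≃+* End F.functor := RingEquiv.ofBijective l
    ⟨fun a b h => by
      apply NatTrans.ext; funext X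
      exact F.functor.map_injective (congrArg (fun η : End F.functor => η.app X) h),
    fun η => ⟨{ app := fun X => F.functor.preimage (η.app X)
                naturality := fun X Y f => F.functor.map_injective (by
                  simp) }, by apply NatTrans.ext; funext X; exact F.functor.map_preimage _⟩⟩
  let eD : End (𝟭 D) ≃+* End F.functor := RingEquiv.ofBijective r
    ⟨fun a b h => by
      apply NatTrans.ext; funext Y
      rw [← cancel_epi (F.counitIso.hom.app Y)]
      have ha := a.naturality (F.counitIso.hom.app Y)
      have hb := b.naturality (F.counitIso.hom.app Y)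
      have he : a.app (F.functor.obj (F.inverse.obj Y)) = b.app (F.functor.obj (F.inverse.obj Y)) :=
        congrArg (fun η : End F.functor => η.app (F.inverse.obj Y)) h
      exact ha.trans ((congrArg (· ≫ (𝟭 D).map (F.counitIso.hom.app Y)) he).trans hb.symm),
    fun η => ⟨F.counitIso.inv ≫ Functor.whiskerLeft F.inverse η ≫ F.counitIso.hom, by
      apply NatTrans.ext; funext X
      show F.counitIso.inv.app (F.functor.obj X) ≫ η.app (F.inverse.obj (F.functor.obj X)) ≫
        F.counitIso.hom.app (F.functor.obj X) = η.app X
      have h2 := NatTrans.naturality (show F.functor ⟶ F.functor from η) (F.unit.app X)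
      simp only [Functor.id_obj, Functor.comp_obj] at h2
      rw [F.counitInv_app_functor X]
      erw [reassoc_of% h2]
      simp⟩⟩
  eC.trans eD.symm

/-- Ring-isomorphism part of the statement: let A and B be commutative rings whose categories of modules
are equivalent. Then A and B are isomorphic as rings. (The source moreover describes the equivalence
as base change followed by tensoring with an invertible module.) -/
theorem result (A B : Type u) [CommRing A] [CommRing B]
    (F : ModuleCat.{u} A ≌ ModuleCat.{u} B) : Nonempty (A ≃+* B) := by
  haveI : F.functor.Additive := Functor.additive_of_preserves_binary_products _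
  exact ⟨(centerEquiv A).trans ((autIso F).trans (centerEquiv B).symm)⟩

end Groth.Agent.S2203
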