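import Groth.Statements.S2205
import Groth.Agent.DiffLib.Basic
import Groth.Agent.S2196
-- import your own Groth.Agent.* helpers here

set_option autoImplicit false
universe u v
open Disc

namespace Groth.Agent.S2205

/-- Special case: affine, with B finite free over the Noetherian ring A (the source allows flat
quasi-finite morphisms of Noetherian schemes); then the relative dualizing module is Hom_A(B, A) and
the trace element is the usual trace. A prime q of B contains the different (the set of b with b
Hom_A(B, A) inside B Trace) if and only if A -> B is not unramified at q; for such maps unramified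
and etale at q agree. -/
theorem result {A : Type u} {B : Type v} [CommRing A]
    [CommRing B] [Algebra A B] [IsNoetherianRing A] [Module.Finite A B] [Module.Free A B]
    (q : Ideal B) [q.IsPrime] :
    Disc.differentSet A B ⊆ q ↔ ¬Algebra.IsUnramifiedAt A q := by
  classical
  let bs := Module.Free.chooseBasis A B
  have hτ : ∀ (c : B) (x : B), (c • Disc.Omega.trace A B).toLinearMap x = Algebra.trace A B (c * x) :=
    fun c x => rfl
  -- the Noether different is contained in the different
  have hsub : ∀ e ∈ Disc.noetherDifferent A B, e ∈ Disc.differentSet A B := by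
    intro e he
    have he' : e ∈ Set.range fun φ : Disc.Omega A B →ₗ[B] B => φ (Disc.Omega.trace A B) := by
      rw [← DiffLib.noetherDifferent_eq bs]; exact he
    obtain ⟨Φ, rfl⟩ := he'
    intro φ
    refine ⟨Φ ⟨φ⟩, fun x => ?_⟩
    have hexp : ∀ l : Disc.Omega A B, Φ l = ∑ i, l.toLinearMap (bs i) • Φ (DiffLib.coord bs i) := by
      intro l
      rw [← DiffLib.ev_mkXi bs Φ l, DiffLib.mkXi, map_sum]
      simp only [DiffLib.ev_tmul]
    have hT : ∑ i, Algebra.trace A B (Φ (DiffLib.coord bs i) * x) • bs i =
        (∑ i, bs i * Φ (DiffLib.coord bs i)) * x := by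
      have htr : ∀ z : B, Algebra.trace A B z = ∑ j, bs.coord j (z * bs j) := fun z => by
        rw [Algebra.trace_eq_matrix_trace bs, Matrix.trace]
        exact Finset.sum_congr rfl fun j _ => by rw [Matrix.diag_apply, Algebra.leftMulMatrix_eq_repr_mul]; rfl
      have hmul : ∀ i j, Φ (DiffLib.coord bs i) * x * bs j =
          ∑ k, bs.coord i (bs j * bs k) • (Φ (DiffLib.coord bs k) * x) := by
        intro i j
        rw [mul_comm (Φ _) x, mul_assoc, mul_comm (Φ _) (bs j), ← smul_eq_mul (bs j), ← map_smul,
          hexp, Finset.mul_sum]
        refine Finset.sum_congr rfl fun k _ => ?_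
        rw [mul_smul_comm, mul_comm x]
        rfl
      calc ∑ i, Algebra.trace A B (Φ (DiffLib.coord bs i) * x) • bs i
          = ∑ i, ∑ j, ∑ k, (bs.coord i (bs j * bs k) * bs.coord j (Φ (DiffLib.coord bs k) * x)) • bs i := by
            refine Finset.sum_congr rfl fun i _ => ?_
            simp only [htr, hmul, map_sum, map_smul, smul_eq_mul, Finset.sum_smul]
        _ = ∑ j, ∑ k, bs.coord j (Φ (DiffLib.coord bs k) * x) • (bs j * bs k) := by
            rw [Finset.sum_comm]
            refine Finset.sum_congr rfl fun j _ => ?_
            rw [Finset.sum_comm]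
            refine Finset.sum_congr rfl fun k _ => ?_
            conv_rhs => rw [← bs.sum_repr (bs j * bs k), Finset.smul_sum]
            exact Finset.sum_congr rfl fun i _ => by rw [smul_smul, mul_comm]; rfl
        _ = ∑ k, (∑ j, bs.coord j (Φ (DiffLib.coord bs k) * x) • bs j) * bs k := by
            rw [Finset.sum_comm]
            exact Finset.sum_congr rfl fun k _ => by rw [Finset.sum_mul]; simp only [smul_mul_assoc]
        _ = (∑ i, bs i * Φ (DiffLib.coord bs i)) * x := by
            rw [Finset.sum_mul]
            refine Finset.sum_congr rfl fun k _ => ?_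
            simp only [Module.Basis.coord_apply, bs.sum_repr]
            ring
    have he2 : Φ (Disc.Omega.trace A B) = ∑ i, bs i * Φ (DiffLib.coord bs i) := by
      rw [← DiffLib.sum_smul_coord bs, map_sum]
      simp only [map_smul, smul_eq_mul]
    show φ (Φ (Disc.Omega.trace A B) * x) = Algebra.trace A B (Φ ⟨φ⟩ * x)
    rw [he2, ← hT, hexp, Finset.sum_mul, map_sum, map_sum]
    exact Finset.sum_congr rfl fun i _ => by
      rw [map_smul, smul_mul_assoc, map_smul, smul_eq_mul, smul_eq_mul, mul_comm]
  -- the square of an element of the different is in the Noether different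
  have hsq : ∀ b ∈ Disc.differentSet A B, b * b ∈ Disc.noetherDifferent A B := by
    intro b hb
    choose c hc using fun l : Disc.Omega A B => hb l.toLinearMap
    have hcτ : ∀ l, b • l = c l • Disc.Omega.trace A B := fun l =>
      Disc.Omega.ext (LinearMap.ext fun x => hc l x)
    have hinj : ∀ d d' : B, d • Disc.Omega.trace A B = d' • Disc.Omega.trace A B → d * b = d' * b := by
      intro d d' h
      refine bs.ext_elem fun i => ?_
      have h1 : (d * b) • DiffLib.coord bs i = (d' * b) • DiffLib.coord bs i := by
        rw [mul_smul, mul_smul, hcτ, smul_smul, smul_smul, mul_comm d, mul_comm d', mul_smul,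
          mul_smul, h]
      have h2 := congrArg (fun m : Disc.Omega A B => m.toLinearMap 1) h1
      simpa [Disc.Omega.smul_toLinearMap_apply, DiffLib.coord] using h2
    let Φ : Disc.Omega A B →ₗ[B] B :=
      { toFun := fun l => c l * b
        map_add' := fun l l' => by
          rw [← add_mul]
          exact hinj _ _ (by rw [add_smul, ← hcτ, ← hcτ, ← hcτ, smul_add])
        map_smul' := fun r l => by
          rw [RingHom.id_apply, smul_eq_mul, ← mul_assoc]
          exact hinj _ _ (by rw [← hcτ, mul_smul, ← hcτ, smul_comm]) }
    have hb2 : b * b = Φ (Disc.Omega.trace A B) := hinj _ _ (hcτ _)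
    show b * b ∈ (Disc.noetherDifferent A B : Set B)
    rw [DiffLib.noetherDifferent_eq bs]
    exact ⟨Φ, hb2.symm⟩
  have key : Disc.differentSet A B ⊆ q ↔ Disc.noetherDifferent A B ≤ q :=
    ⟨fun h e he => h (hsub e he), fun h b hb => (‹q.IsPrime›.mem_or_mem (h (hsq b hb))).elim id id⟩
  have h96 := Set.ext_iff.1 (S2196.result (A := A) (B := B)) ⟨q, ‹_›⟩
  rw [key]
  exact h96

end Groth.Agent.S2205
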