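import Groth.Statements.S2211
import Mathlib.RingTheory.DividedPowers.Basic
import Mathlib.Data.Nat.Choose.Lucas

set_option autoImplicit false
universe u
open DPow

namespace Groth.Agent.S2211

/-- First part: let p be a prime and A a ring in which every integer prime to p is invertible, I an
ideal of A. Two divided power structures on I coincide exactly when their p-th divided power maps
agree on I. -/
theorem result {A : Type u} [CommRing A] (p : ℕ) (hp : p.Prime)
    (hA : ∀ n : ℕ, ¬ p ∣ n → IsUnit (n : A)) {I : Ideal A} (γ γ' : DividedPowers I) :
    γ = γ' ↔ ∀ x ∈ I, γ.dpow p x = γ'.dpow p x := by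
  refine ⟨fun h x _ => by rw [h], fun hp' => ?_⟩
  have key : ∀ n : ℕ, ∀ x ∈ I, γ.dpow n x = γ'.dpow n x := by
    intro n
    induction n using Nat.strong_induction_on with
    | _ n ih =>
      intro x hx
      rcases Nat.eq_zero_or_pos n with rfl | hn
      · rw [γ.dpow_zero hx, γ'.dpow_zero hx]
      by_cases hpn : p ∣ n
      · obtain ⟨m, rfl⟩ := hpn
        have hm : m < p * m := by
          rcases Nat.eq_zero_or_pos m with rfl | hm0
          · simp at hn
          · exact lt_mul_of_one_lt_left hm0 hp.one_lt
        have hB : ∀ j, ¬ p ∣ Nat.uniformBell j p := by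
          intro j
          induction j with
          | zero => rw [Nat.uniformBell_zero_left]; exact hp.not_dvd_one
          | succ j ihj =>
            rw [Nat.uniformBell_succ_left, hp.dvd_mul]
            rintro (h | h)
            · haveI := Fact.mk hp
              have hmod : Nat.choose (j * p + p - 1) (p - 1) ≡
                  Nat.choose ((j * p + p - 1) % p) ((p - 1) % p) *
                    Nat.choose ((j * p + p - 1) / p) ((p - 1) / p) [MOD p] :=
                Choose.choose_modEq_choose_mod_mul_choose_div_nat
              have e : j * p + p - 1 = p - 1 + p * j := by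
                have := hp.pos
                rw [mul_comm]; omega
              rw [e, Nat.add_mul_mod_self_left, Nat.add_mul_div_left _ _ hp.pos,
                Nat.mod_eq_of_lt (Nat.sub_lt hp.pos one_pos), Nat.div_eq_of_lt (Nat.sub_lt hp.pos one_pos),
                Nat.choose_self, Nat.choose_zero_right, one_mul] at hmod
              rw [e] at h
              exact hp.not_dvd_one (Nat.modEq_zero_iff_dvd.1 (hmod.symm.trans (Nat.modEq_zero_iff_dvd.2 h)))
            · exact ihj h
        obtain ⟨v, hv⟩ := hA _ (hB m)
        have h1 := γ.dpow_comp (m := m) hp.ne_zero hx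
        have h2 := γ'.dpow_comp (m := m) hp.ne_zero hx
        rw [ih m hm _ (γ.dpow_mem hp.ne_zero hx), hp' x hx, h2, mul_comm m p, ← hv] at h1
        exact (v.isUnit.mul_left_cancel h1).symm
      · obtain ⟨n, rfl⟩ := Nat.exists_eq_succ_of_ne_zero hn.ne'
        obtain ⟨v, hv⟩ := hA _ hpn
        have h1 := γ.mul_dpow (m := n) (n := 1) hx
        have h2 := γ'.mul_dpow (m := n) (n := 1) hx
        rw [γ.dpow_one hx, ih n (Nat.lt_succ_self n) x hx, Nat.choose_succ_self_right] at h1
        rw [γ'.dpow_one hx, Nat.choose_succ_self_right, h1, ← hv] at h2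
        exact v.isUnit.mul_left_cancel h2
  exact DividedPowers.ext γ γ' fun {n x} hx => key n x hx

end Groth.Agent.S2211
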