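import Groth.Statements.S2213
import Groth.Agent.DPowLib.Model

set_option autoImplicit false
universe u
open DPow

namespace Groth.Agent.S2213

/-- Let (A, I) be a ring with divided powers and t a natural number. There is a divided power ring (D,
J) with an A-algebra structure making A -> D a divided power homomorphism and elements x_1, ..., x_t
of J, such that for every divided power ring (C, K) with a divided power homomorphism A -> C and
every choice of k_1, ..., k_t in K there is exactly one divided power homomorphism D -> C over A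
sending x_i to k_i (the divided power polynomial algebra). -/
theorem result {A : Type u} [CommRing A] {I : Ideal A} (γ : DividedPowers I) (t : ℕ) :
    ∃ (D : Type u) (_ : CommRing D) (_ : Algebra A D) (J : Ideal D) (δ : DividedPowers J)
      (x : Fin t → D), (∀ i, x i ∈ J) ∧ γ.IsDPMorphism δ (algebraMap A D) ∧
      ∀ (C : Type u) [CommRing C] [Algebra A C] (K : Ideal C) (ε : DividedPowers K),
        γ.IsDPMorphism ε (algebraMap A C) → ∀ k : Fin t → C, (∀ i, k i ∈ K) →
          ∃! φ : D →ₐ[A] C, (∀ i, φ (x i) = k i) ∧ δ.IsDPMorphism ε φ.toRingHom := by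
  have H := DPowLib.Model.isPoly t A
  obtain ⟨δp, hδp⟩ := DPowLib.Poly.exists_dp H
  obtain ⟨δ, ⟨hδ, hδ'⟩, -⟩ := DPowLib.Poly.existsUnique_sup H hδp γ
  refine ⟨_, inferInstance, inferInstance, _, δ, fun i => DPowLib.Model.var t A i 1,
    fun i => Submodule.mem_sup_right (DPowLib.Poly.var_mem i one_ne_zero), hδ, ?_⟩
  intro C _ _ K ε hε k hk
  obtain ⟨φ, ⟨hφ, hφ1⟩, huniq⟩ := DPowLib.Poly.existsUnique_lift H hδp ε k hk
  refine ⟨φ, ⟨hφ1, DividedPowers.IsDPMorphism.on_span δ ε
    (S := algebraMap A _ '' I ∪ (DPowLib.Poly.Pplus (DPowLib.Model.var t A) : Set _)) ?_ ?_ ?_⟩, ?_⟩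
  · rw [Ideal.span_union, Ideal.span_eq]; rfl
  · rintro _ (⟨r, hr, rfl⟩ | ha)
    · show φ (algebraMap A _ r) ∈ K
      rw [AlgHom.commutes]
      exact hε.ideal_comp (Ideal.mem_map_of_mem _ hr)
    · exact hφ.ideal_comp (Ideal.mem_map_of_mem _ ha)
  · rintro n a (⟨r, hr, rfl⟩ | ha)
    · show φ (δ.dpow n (algebraMap A _ r)) = ε.dpow n (φ (algebraMap A _ r))
      rw [hδ.dpow_comp r hr, AlgHom.commutes, AlgHom.commutes, hε.dpow_comp r hr]
    · show φ (δ.dpow n a) = ε.dpow n (φ a)
      rw [hδ' n a ha]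
      exact (hφ.dpow_comp a ha).symm
  · rintro ψ ⟨hψ1, hψ⟩
    refine huniq ψ ⟨⟨(Ideal.map_mono le_sup_right).trans hψ.ideal_comp, fun {n} a ha => ?_⟩, hψ1⟩
    rw [hψ.dpow_comp a (Submodule.mem_sup_right ha), hδ' n a ha]


end Groth.Agent.S2213
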