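import Groth.Statements.S2223
import Groth.Agent.H26.TorsTriv

set_option autoImplicit false
universe u
open CategoryTheory AlgebraicGeometry
open Models

namespace Groth.Agent.S2223

/-- Weakened form (special fibre instead of its reduction, which follows from the source): let R be a
discrete valuation ring with fraction field K and residue field k, C a smooth proper curve over K
with H^0(C, O_C) = K, and X a regular proper model of C. Let h be a positive integer prime to the
characteristic of k and L an invertible O_X-module whose h-th tensor power is trivial. If the
pullback of L to the special fibre is trivial then L is trivial; i.e. Pic(X)[h] -> Pic(X_k)[h] is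
injective. -/
theorem result (R : Type u) [CommRing R] [IsDomain R]
    [IsDiscreteValuationRing R] (C X : Scheme.{u})
    (f : C ⟶ Spec (CommRingCat.of (FractionRing R))) (p : X ⟶ Spec (CommRingCat.of R))
    (hC : Curve.IsSmoothProperCurve (FractionRing R) C f) (hH0 : IsIso f.appTop)
    (hX : Models.IsRegularProperModel R X p C f) (h : ℕ) (hh : 0 < h)
    (hchar : ∀ q : ℕ, q.Prime → CharP (IsLocalRing.ResidueField R) q → ¬ q ∣ h)
    (L : X.Modules) (hL : PicF.IsInvertible L)
    (htors : Nonempty (CohB1.tensorPow L h ≅ Coh.structureModule X))
    (htriv : Nonempty ((Scheme.Modules.pullback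
        (Limits.pullback.fst p (Spec.map (CommRingCat.ofHom
          (algebraMap R (IsLocalRing.ResidueField R)))))).obj L ≅
        Coh.structureModule (Models.specialFibre R X p))) :
    Nonempty (L ≅ Coh.structureModule X) := by
  haveI : IsProper p := hX.2.1
  haveI : IsClosedImmersion (Spec.map (CommRingCat.ofHom (algebraMap R (IsLocalRing.ResidueField R)))) :=
    IsClosedImmersion.spec_of_surjective _ IsLocalRing.residue_surjective
  refine Groth.Agent.H26.TorsTriv.iso_of_torsion p hh hchar hL htors
    (Limits.pullback.fst p (Spec.map (CommRingCat.ofHom (algebraMap R (IsLocalRing.ResidueField R)))))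
    (fun x hx => ?_) htriv
  have h : x ∈ Set.range (Limits.pullback.fst p
      (Spec.map (CommRingCat.ofHom (algebraMap R (IsLocalRing.ResidueField R))))) := by
    rw [Scheme.Pullback.range_fst]
    refine ⟨IsLocalRing.closedPoint (IsLocalRing.ResidueField R), ?_⟩
    rw [hx]
    haveI : IsLocalHom (algebraMap R (IsLocalRing.ResidueField R)) :=
      inferInstanceAs (IsLocalHom (IsLocalRing.residue R))
    exact IsLocalRing.comap_closedPoint (algebraMap R (IsLocalRing.ResidueField R))
  exact h

end Groth.Agent.S2223
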