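import Groth.Statements.S2224
import Groth.Agent.RelPC17.PerfTensorBd
import Groth.Agent.RelPC17.FlatKernel
import Groth.Agent.S1006
import Groth.Agent.QCoh.SupportFT

set_option autoImplicit false
set_option backward.isDefEq.respectTransparency false
set_option backward.isDefEq.respectTransparency.types false
universe u
open CategoryTheory AlgebraicGeometry
attribute [local instance] HasDerivedCategory.standard
open QCohCat

namespace Groth.Agent.S2224

/-- Case (2) with the kernel a single coherent module: let S be a Noetherian scheme, X -> S and Y -> S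
of finite type, and K a coherent module on X x_S Y which is flat over X and whose support is proper
over Y. Assuming the derived functors L pr_1^*, - tensor^L K and R pr_2,* exist (assumed as unproved
hypotheses), the Fourier-Mukai transform R pr_2,* (L pr_1^* M tensor^L K) of any bounded object M of
D(O_X) with coherent cohomology sheaves is a bounded object of D(O_Y) with coherent cohomology
sheaves. -/
theorem result {S X Y : Scheme.{u}} [IsNoetherian S]
    (a : X ⟶ S) (b : Y ⟶ S) [LocallyOfFiniteType a] [QuasiCompact a] [LocallyOfFiniteType b]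
    [QuasiCompact b] (K : (Limits.pullback a b).Modules) (hK : Coh.IsCoh K)
    (hflat : FlatMod.IsFlatOver (Limits.pullback.fst a b) K)
    (hsupp : ClSub.IsProperOver (Limits.pullback.snd a b) (CohB1.support K))
    [DCoh.HasLpull (Limits.pullback.fst a b)] [DCoh.HasLTensorMod K]
    [DCoh.HasRpush (Limits.pullback.snd a b)]
    (M : DCoh.D X) (hM : DCoh.IsCohD M) (m n : ℤ) (hMge : DerivedCategory.IsGE M m)
    (hMle : DerivedCategory.IsLE M n) :
    DCoh.IsCohD ((DCoh.Rpush (Limits.pullback.snd a b)).obj
        ((DCoh.LTensorMod K).obj ((DCoh.Lpull (Limits.pullback.fst a b)).obj M))) ∧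
      ∃ m' n' : ℤ, DerivedCategory.IsGE ((DCoh.Rpush (Limits.pullback.snd a b)).obj
          ((DCoh.LTensorMod K).obj ((DCoh.Lpull (Limits.pullback.fst a b)).obj M))) m' ∧
        DerivedCategory.IsLE ((DCoh.Rpush (Limits.pullback.snd a b)).obj
          ((DCoh.LTensorMod K).obj ((DCoh.Lpull (Limits.pullback.fst a b)).obj M))) n' := by
  haveI : IsLocallyNoetherian X := LocallyOfFiniteType.isLocallyNoetherian a
  haveI : IsLocallyNoetherian Y := LocallyOfFiniteType.isLocallyNoetherian b
  haveI : CompactSpace Y := QuasiCompact.compactSpace_of_compactSpace b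
  set q := Limits.pullback.snd a b
  set p := Limits.pullback.fst a b
  haveI : IsLocallyNoetherian (Limits.pullback a b) := LocallyOfFiniteType.isLocallyNoetherian q
  haveI : CompactSpace (Limits.pullback a b : Scheme.{u}) := QuasiCompact.compactSpace_of_compactSpace q
  haveI := hMge; haveI := hMle
  set L := (DCoh.Lpull p).obj M
  -- the derived pullback has coherent cohomology, bounded above
  have hMpc : ∀ k, KFlatLib.LocPC k M := fun k => KFlatLib.locPC_of_coh
    (KFlatLib.isCohD_isQCohD hM) (fun i _ => hM i) n (fun i hi => DerivedCategory.isZero_of_isLE M n i hi)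
  have hLpc : ∀ k, KFlatLib.LocPC k L := fun k => (KFlatLib.isPseudoCoherentD_iff _ _).1
    (KFlatLib.isPseudoCoherentD_lpull p ((KFlatLib.isPseudoCoherentD_iff _ _).2 (hMpc k)))
  have hLc : DCoh.IsCohD L := fun i => KFlatLib.isCoh_of_locPC
    (fun j => KFlatLib.isQCoh_HD_of_pseudoCoherent
      ((KFlatLib.isPseudoCoherentD_iff _ _).2 (hLpc (j - 1))) j (by omega)) (hLpc i) i le_rfl
  obtain ⟨hi, hhi⟩ := KFlatLib.exists_bound_of_locPC (hLpc 0)
  -- the kernel as a complex
  haveI := KFlatLib.hasLTensorCx ((HomologicalComplex.single (Limits.pullback a b : Scheme.{u}).Modules (ComplexShape.up ℤ) 0).obj K)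
  obtain ⟨c⟩ := KFlatLib.nonempty_ltensorMod_ltensorCx K L
  let eK : DCoh.toD _ ((HomologicalComplex.single (Limits.pullback a b : Scheme.{u}).Modules (ComplexShape.up ℤ) 0).obj K) ≅ DCoh.inD _ K :=
    ((DerivedCategory.singleFunctorIsoCompQ (Limits.pullback a b : Scheme.{u}).Modules 0).app K).symm
  let eH0 : DCoh.HD (DCoh.inD _ K) 0 ≅ K :=
    (DerivedCategory.singleFunctorCompHomologyFunctorIso (Limits.pullback a b : Scheme.{u}).Modules 0).app K
  have hK0 : ∀ i : ℤ, i ≠ 0 → Limits.IsZero (DCoh.HD (DCoh.toD _ ((HomologicalComplex.single (Limits.pullback a b : Scheme.{u}).Modules (ComplexShape.up ℤ) 0).obj K)) i) := fun i hi =>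
    (((HomologicalComplex.exactAt_single_obj (ComplexShape.up ℤ) 0 K i hi).isZero_homology).of_iso
      ((DerivedCategory.homologyFunctorFactors _ i).app ((HomologicalComplex.single (Limits.pullback a b : Scheme.{u}).Modules (ComplexShape.up ℤ) 0).obj K)))
  have hKc : DCoh.IsCohD (DCoh.toD _ ((HomologicalComplex.single (Limits.pullback a b : Scheme.{u}).Modules (ComplexShape.up ℤ) 0).obj K)) := fun i => by
    by_cases h : i = 0
    · subst h
      exact KFlatLib.isCoh_of_iso
        ((DerivedCategory.homologyFunctor _ 0).mapIso eK ≪≫ eH0).symm hK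
    · exact KFlatLib.isCoh_of_isZero (hK0 i h)
  set E := (DCoh.LTensorMod K).obj L
  have hEc : DCoh.IsCohD E := KFlatLib.isCohD_of_iso c.symm
    (H23.CohTensor.isCohD_ltensor ((HomologicalComplex.single (Limits.pullback a b : Scheme.{u}).Modules (ComplexShape.up ℤ) 0).obj K) L hLc hKc hi 0 hhi (fun i h => hK0 i (by omega)))
  have hEz : ∀ i, i < m ∨ n < i → Limits.IsZero (DCoh.HD E i) := fun i h => by
    refine RelPC17.FlatKernel.isZero_hd_ltensorMod_lpull_of_flat p K hflat M i ?_
    rcases h with h | h
    · exact DerivedCategory.isZero_of_isGE M m i h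
    · exact DerivedCategory.isZero_of_isLE M n i h
  -- supports
  let W : (Limits.pullback a b : Scheme.{u}).Opens := ⟨(CohB1.support K)ᶜ, hsupp.1.isOpen_compl⟩
  have hEW : Limits.IsZero ((KFlatLib.rho W.ι).obj E) := by
    refine (RelPC17.PerfTensorBd.isZero_rho_ltensorCx W.ι ((HomologicalComplex.single (Limits.pullback a b : Scheme.{u}).Modules (ComplexShape.up ℤ) 0).obj K) L ?_).of_iso ((KFlatLib.rho W.ι).mapIso c)
    refine KFlatLib.Generator.isZero_of_subsingleton_stalk fun i y => ?_
    refine ModuleCat.subsingleton_of_isZero (Limits.IsZero.of_iso ?_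
      ((DerSch.stalkFunctor _ y).mapIso (KFlatLib.restrictHDIso W.ι (DCoh.toD _ ((HomologicalComplex.single (Limits.pullback a b : Scheme.{u}).Modules (ComplexShape.up ℤ) 0).obj K)) i)))
    refine @ModuleCat.isZero_of_subsingleton _ _ _ ?_
    have hsub : Subsingleton ((DCoh.HD (DCoh.toD _ ((HomologicalComplex.single (Limits.pullback a b : Scheme.{u}).Modules (ComplexShape.up ℤ) 0).obj K)) i).presheaf.stalk (W.ι.base y)) := by
      by_cases h : i = 0
      · subst h
        refine not_not.1 fun h => y.2 ?_
        have := KFlatLib.support_congr_iso ((DerivedCategory.homologyFunctor _ 0).mapIso eK ≪≫ eH0)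
        exact this ▸ h
      · exact ModuleCat.subsingleton_of_isZero ((DerSch.stalkFunctor _ (W.ι.base y)).map_isZero (hK0 i h))
    exact ((Scheme.Modules.restrictStalkNatIso W.ι y).app _).addCommGroupIsoToAddEquiv.toEquiv.subsingleton_congr.2 hsub
  have hE : ∀ i, KFlatLib.ProperCoh q (DCoh.HD E i) := fun i => by
    refine ⟨hEc i, QCoh.IsProperOver.subset hsupp (QCoh.isClosed_support_of_ft (hEc i).2) fun x hx => ?_⟩
    by_contra hn
    exact hx (KFlatLib.Generator.subsingleton_stalk_of_isZero_rho W.ι hEW i ⟨x, hn⟩)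
  haveI : DerivedCategory.IsGE E m := (DerivedCategory.isGE_iff E m).2 fun i h => hEz i (Or.inl h)
  haveI : DerivedCategory.IsLE E n := (DerivedCategory.isLE_iff E n).2 fun i h => hEz i (Or.inr h)
  obtain ⟨hcoh, hbd⟩ := KFlatLib.rpush_coherent_bounded q (n - m).toNat m E inferInstance
    (DerivedCategory.TStructure.t.isLE_of_le E n _ (by omega)) hE
  obtain ⟨u, hu⟩ := hbd inferInstance
  exact ⟨hcoh, m, u, KFlatLib.isGE_rpush q E m, (DerivedCategory.isLE_iff _ _).2 hu⟩

end Groth.Agent.S2224
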