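import Groth.Statements.S2225
import Groth.Agent.H26.FibreQuot
import Groth.Agent.LC.GorRows
import Groth.Agent.LC.GorQuot

set_option autoImplicit false
universe u
open CategoryTheory AlgebraicGeometry
open Models

namespace Groth.Agent.S2225

/-- Part (1), for the closed fibre: let R be a discrete valuation ring with fraction field K, C a smooth
proper curve over K and X a regular model of C over R (flat, of finite type, all local rings
regular). Then every local ring of the special fibre X_k is a Gorenstein local ring; together with
flatness and regularity of the generic fibre this says X -> Spec R is a Gorenstein morphism. -/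
theorem result (R : Type u) [CommRing R] [IsDomain R]
    [IsDiscreteValuationRing R] (C X : Scheme.{u})
    (f : C ⟶ Spec (CommRingCat.of (FractionRing R))) (p : X ⟶ Spec (CommRingCat.of R))
    (hC : Curve.IsSmoothProperCurve (FractionRing R) C f) (hX : Models.IsModel R X p C f)
    (hreg : Models.IsRegularScheme X) (x : ↥(Models.specialFibre R X p)) :
    LocCoh.IsGorensteinLocalRing ((Models.specialFibre R X p).presheaf.stalk x) := by
  haveI : Flat p := hX.1
  haveI : LocallyOfFiniteType p := hX.2.1
  change ↥(Limits.pullback p (Spec.map (CommRingCat.ofHom (IsLocalRing.residue R)))) at x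
  let i := Spec.map (CommRingCat.ofHom (IsLocalRing.residue R))
  haveI : IsClosedImmersion i := IsClosedImmersion.spec_of_surjective _ IsLocalRing.residue_surjective
  show LocCoh.IsGorensteinLocalRing ((Limits.pullback p i).presheaf.stalk x)
  let w := Limits.pullback.fst p i x
  haveI : IsRegularLocalRing (X.presheaf.stalk w) := hreg w
  haveI : LocCoh.IsGorensteinLocalRing (X.presheaf.stalk w) := Groth.Agent.LC.gorenstein_of_isRegularLocalRing
  obtain ⟨ϖ, hϖ⟩ := IsDiscreteValuationRing.exists_irreducible R
  have hker : RingHom.ker ((Limits.pullback.fst p i).stalkMap x).hom =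
      Ideal.span {Groth.Agent.H26.FibreQuot.localMap p w ϖ} := by
    refine (Groth.Agent.H26.FibreQuot.ker_stalkMap_residue p x).trans ?_
    rw [(IsDiscreteValuationRing.irreducible_iff_uniformizer ϖ).1 hϖ, Ideal.map_span, Set.image_singleton]
  have hmem : Groth.Agent.H26.FibreQuot.localMap p w ϖ ∈ IsLocalRing.maximalIdeal (X.presheaf.stalk w) :=
    IsLocalRing.le_maximalIdeal (RingHom.ker_ne_top ((Limits.pullback.fst p i).stalkMap x).hom)
      (hker ▸ Ideal.mem_span_singleton_self _)
  exact Groth.Agent.LC.gorenstein_of_surjective_span_singleton _ ((Limits.pullback.fst p i).stalkMap_surjective x)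
    hmem (Groth.Agent.H26.FibreQuot.isSMulRegular_localMap p w hϖ.ne_zero) hker

end Groth.Agent.S2225
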