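import Groth.Statements.S2227
import Groth.Agent.NodeFam.NodeDVR
import Groth.Agent.NodeFam.Models
import Groth.Agent.S1637
-- import your own Groth.Agent.* helpers here

set_option autoImplicit false
universe u
open CategoryTheory AlgebraicGeometry
open Models

set_option backward.isDefEq.respectTransparency false
set_option backward.isDefEq.respectTransparency.types false
set_option linter.style.haveILetI false

namespace Groth.Agent.S2227

/-- An étale algebra over a ring restricted to a principal open. -/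
theorem exists_etale_away {P N G : Type u} [CommRing P] [CommRing N] [CommRing G] (i : P →+* N) (g : P)
    (hloc : @IsLocalization.Away P _ g N _ i.toAlgebra) (ψ : P →+* G) (hψ : ψ.Etale) :
    ∃ ψ' : N →+* Localization.Away (ψ g), ψ'.comp i = (algebraMap G (Localization.Away (ψ g))).comp ψ ∧
      Etale (Spec.map (CommRingCat.ofHom ψ')) := by
  letI := i.toAlgebra
  haveI := hloc
  have hu : IsUnit (((algebraMap G (Localization.Away (ψ g))).comp ψ) g) :=
    IsLocalization.Away.algebraMap_isUnit (ψ g)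
  obtain ⟨F, hψ'⟩ : ∃ F : N →+* Localization.Away (ψ g),
      F.comp i = (algebraMap G (Localization.Away (ψ g))).comp ψ :=
    ⟨IsLocalization.Away.lift (S := N) g hu, IsLocalization.lift_comp (S := N) _⟩
  refine ⟨F, hψ', ?_⟩
  haveI : IsOpenImmersion (Spec.map (CommRingCat.ofHom i)) := IsOpenImmersion.of_isLocalization g
  haveI : IsOpenImmersion (Spec.map (CommRingCat.ofHom (algebraMap G (Localization.Away (ψ g))))) :=
    IsOpenImmersion.of_isLocalization (ψ g)
  haveI : Etale (Spec.map (CommRingCat.ofHom ψ)) :=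
    (HasRingHomProperty.Spec_iff (P := @Etale) (φ := CommRingCat.ofHom ψ)).2 hψ
  haveI : Etale (Spec.map (CommRingCat.ofHom F) ≫
      Spec.map (CommRingCat.ofHom i)) := by
    rw [← Spec.map_comp, ← CommRingCat.ofHom_comp, hψ', CommRingCat.ofHom_comp, Spec.map_comp]
    infer_instance
  exact Etale.of_comp _ (Spec.map (CommRingCat.ofHom i))

/-- Let R be a discrete valuation ring with uniformizer ϖ and X → Spec R an at-worst-nodal family of
relative dimension one. For every point x of X lying over the closed point of Spec R there are: a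
discrete valuation ring R' with an étale ring map R → R' sending ϖ to a uniformizer of R', an
element h of R'[u, v] which is either 0 or the constant ϖⁿ for some n (via R → R'), a scheme U with
an étale morphism e : U → X whose image contains x, and an étale morphism g : U → Spec(R'[u, v]/(uv
− h)), such that the two composites U → Spec R (through g and through e) agree. (The étaleness of g
is part of the statement here; the published display leaves it implicit.) -/
theorem result (R : Type u) [CommRing R] [IsDomain R]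
    [IsDiscreteValuationRing R] (ϖ : R) (hϖ : Irreducible ϖ) (X : Scheme.{u})
    (p : X ⟶ Spec (CommRingCat.of R)) (hp : Curv2.IsNodalFamily p) (x : X)
    (hx : p.base x = IsLocalRing.closedPoint R) :
    ∃ (R' : Type u) (_ : CommRing R') (_ : IsDomain R') (_ : IsDiscreteValuationRing R')
      (_ : Algebra R R') (_ : Algebra.Etale R R') (_ : Irreducible (algebraMap R R' ϖ))
      (h : MvPolynomial (Fin 2) R') (_ : h = 0 ∨ ∃ n : ℕ, h = MvPolynomial.C (algebraMap R R' ϖ ^ n))
      (U : Scheme.{u}) (e : U ⟶ X) (_ : Etale e) (x' : U) (_ : e.base x' = x)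
      (g : U ⟶ Spec (CommRingCat.of (MvPolynomial (Fin 2) R' ⧸
        Ideal.span {MvPolynomial.X 0 * MvPolynomial.X 1 - h}))) (_ : Etale g),
      g ≫ Spec.map (CommRingCat.ofHom ((Ideal.Quotient.mk _).comp
          (MvPolynomial.C.comp (algebraMap R R')))) = e ≫ p := by
  obtain ⟨hflat, hlfp, -⟩ := id hp
  haveI := hflat; haveI := hlfp
  have hgood := (NodeFam.isNodalFamily_iff_forall p).1 hp x
  obtain ⟨hsn, hd⟩ := hgood
  rcases (NodeFam.fibre_smooth_or_node_iff p x).1 hsn with hs | hn
  · -- a smooth point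
    obtain ⟨n, Y, g, hg, hxg, hsm⟩ := NodeFam.exists_relDim p x hs
    haveI := hg; haveI := hsm
    obtain ⟨z, hzx, hzp, hzmax, -⟩ := FibDim.exists_fibMax_generization p x
    obtain rfl : n = 1 :=
      (NodeFam.rd_eq_relDim p g (hzx.mem_open g.isOpenEmbedding.isOpen_range hxg) hzmax).symm.trans
        ((NodeFam.dimOne_asFiber_iff p x).1 hd z hzx hzp hzmax)
    obtain ⟨y, rfl⟩ := hxg
    obtain ⟨_, ⟨W, hW, rfl⟩, hyW, -⟩ :=
      Y.isBasis_affineOpens.exists_subset_of_mem_open (Set.mem_univ y) isOpen_univ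
    let φ1 : CommRingCat.of R ⟶ Γ(Y, W) := Spec.preimage (hW.fromSpec ≫ g ≫ p)
    have hφ1 : Spec.map φ1 = hW.fromSpec ≫ g ≫ p := Spec.map_preimage _
    haveI : SmoothOfRelativeDimension (0 + 1) (hW.fromSpec ≫ g ≫ p) := inferInstance
    have h1 : SmoothOfRelativeDimension 1 (Spec.map φ1) := by rw [hφ1]; simpa using this
    rw [HasRingHomProperty.Spec_iff (P := @SmoothOfRelativeDimension 1)] at h1
    obtain ⟨s, hs1, hs2⟩ := h1
    let P := hW.primeIdealOf ⟨y, hyW⟩
    obtain ⟨t, hts, htP⟩ : ∃ t ∈ s, t ∉ P.asIdeal := by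
      by_contra hall
      push Not at hall
      exact P.isPrime.ne_top (top_le_iff.1 (hs1.ge.trans (Ideal.span_le.2 hall)))
    obtain ⟨g0, hg0C, hg0⟩ := (hs2 t hts).exists_etale_mvPolynomial
    obtain ⟨zt, hzt⟩ : P ∈ Set.range (PrimeSpectrum.comap (algebraMap Γ(Y, W) (Localization.Away t))) := by
      rw [PrimeSpectrum.localization_away_comap_range (Localization.Away t) t]
      exact htP
    obtain ⟨c, hc⟩ : ∃ c : R, g0 (MvPolynomial.X 0 + MvPolynomial.C c) ∉ zt.asIdeal := by
      by_cases h0 : g0 (MvPolynomial.X 0) ∈ zt.asIdeal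
      · refine ⟨1, fun h => zt.isPrime.ne_top ((Ideal.eq_top_iff_one _).2 ?_)⟩
        have := sub_mem h h0
        rwa [map_add, add_sub_cancel_left, map_one, map_one] at this
      · exact ⟨0, by rwa [map_zero, add_zero]⟩
    obtain ⟨T, hT⟩ : ∃ T : MvPolynomial (Fin 1) R, T = MvPolynomial.X 0 + MvPolynomial.C c := ⟨_, rfl⟩
    rw [← hT] at hc
    obtain ⟨i, hiC, hloc⟩ := NodeFam.exists_node_punctured R T c hT
    let B := Localization.Away (g0 T)
    let γ : Localization.Away t →+* B := algebraMap _ B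
    obtain ⟨ψ, hψ, hψet⟩ := exists_etale_away i T hloc g0 hg0
    haveI := hψet
    haveI : IsOpenImmersion (Spec.map (CommRingCat.ofHom γ)) := IsOpenImmersion.of_isLocalization (g0 T)
    haveI : IsOpenImmersion (Spec.map (CommRingCat.ofHom (algebraMap Γ(Y, W) (Localization.Away t)))) :=
      IsOpenImmersion.of_isLocalization t
    obtain ⟨zB, hzB⟩ : zt ∈ Set.range (PrimeSpectrum.comap (algebraMap (Localization.Away t) B)) := by
      rw [PrimeSpectrum.localization_away_comap_range B (g0 T)]
      exact hc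
    refine ⟨R, inferInstance, inferInstance, inferInstance, Algebra.id R, inferInstance, hϖ, MvPolynomial.C 1,
      Or.inr ⟨0, by simp⟩, Spec (CommRingCat.of B),
      Spec.map (CommRingCat.ofHom γ) ≫ Spec.map (CommRingCat.ofHom (algebraMap Γ(Y, W) (Localization.Away t))) ≫
        hW.fromSpec ≫ g, inferInstance, zB, ?_, Spec.map (CommRingCat.ofHom ψ), inferInstance, ?_⟩
    · show g (hW.fromSpec (PrimeSpectrum.comap (algebraMap Γ(Y, W) (Localization.Away t))
        (PrimeSpectrum.comap (algebraMap (Localization.Away t) B) zB))) = g y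
      rw [hzB, hzt]
      exact congrArg g (hW.fromSpec_primeIdealOf ⟨y, hyW⟩)
    · simp only [Category.assoc]
      rw [← hφ1, ← Spec.map_comp, ← Spec.map_comp, ← Spec.map_comp]
      congr 1
      refine CommRingCat.hom_ext (RingHom.ext fun r => ?_)
      show ψ (algebraMap R (NodeFam.nodeRing (1 : R)) r) = γ ((algebraMap Γ(Y, W) (Localization.Away t)) (φ1.hom r))
      rw [← RingHom.congr_fun hiC r]
      exact (RingHom.congr_fun hψ (MvPolynomial.C r)).trans (congrArg γ (RingHom.congr_fun hg0C r))
  · -- a node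
    obtain ⟨R0, A, K, _, _, _, _, _, _, _, _, iS, iX, θA, hiS, hiX, hcomm, hpt, hnode⟩ :=
      S1637.exists_affine_node p x hn
    haveI := hiS; haveI := hiX
    let φ0 : R →+* R0 := (Spec.preimage iS).hom
    have hφ0 : Spec.map (CommRingCat.ofHom φ0) = iS := Spec.map_preimage iS
    have hφ0et : φ0.Etale :=
      (HasRingHomProperty.Spec_iff (P := @Etale) (φ := CommRingCat.ofHom φ0)).1 (by rw [hφ0]; infer_instance)
    obtain ⟨R', G, _, _, jR, a, jA, ψ, θG, hjR, hjA, hψ, hsq, hθ⟩ := NodeFam.exists_nodeModel θA hnode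
    letI : Algebra R R' := (jR.comp φ0).toAlgebra
    haveI : Algebra.Etale R R' :=
      RingHom.etale_algebraMap.1 (RingHom.Etale.stableUnderComposition _ _ hφ0et hjR)
    let κ : R' →+* G := ψ.comp (algebraMap R' (NodeFam.nodeRing a))
    let m : Ideal R' := (RingHom.ker θG).comap κ
    haveI : (RingHom.ker θG).IsPrime := RingHom.ker_isPrime θG
    haveI : m.IsPrime := Ideal.IsPrime.comap κ
    have hm : algebraMap R R' ϖ ∈ m := by
      show θG (κ (jR (φ0 ϖ))) = 0
      rw [show κ (jR (φ0 ϖ)) = jA (algebraMap R0 A (φ0 ϖ)) from RingHom.congr_fun hsq (φ0 ϖ),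
        show θG (jA (algebraMap R0 A (φ0 ϖ))) = θA (algebraMap R0 A (φ0 ϖ)) from RingHom.congr_fun hθ _]
      have h2 : p (iX ⟨RingHom.ker θA, RingHom.ker_isPrime _⟩) = IsLocalRing.closedPoint R := by rw [hpt]; exact hx
      rw [← Scheme.Hom.comp_apply, hcomm, ← hφ0, ← Spec.map_comp] at h2
      have h3 : ϖ ∈ IsLocalRing.maximalIdeal R := hϖ.not_isUnit
      exact (congrArg PrimeSpectrum.asIdeal h2).ge h3
    obtain ⟨g, hgm, hdom, hdvr, hirr, het⟩ := NodeFam.exists_away_dvr ϖ hϖ m hm
    haveI := hdom; haveI := hdvr; haveI := het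
    let R'' := Localization.Away g
    obtain ⟨b, ε, hb, hab⟩ : ∃ (b : R'') (ε : R''ˣ),
        (b = 0 ∨ ∃ n : ℕ, b = algebraMap R R'' ϖ ^ n) ∧ algebraMap R' R'' a = ε * b := by
      by_cases h0 : algebraMap R' R'' a = 0
      · exact ⟨0, 1, Or.inl rfl, by rw [h0, mul_zero]⟩
      · obtain ⟨n, ε, hε⟩ := IsDiscreteValuationRing.eq_unit_mul_pow_irreducible h0 hirr
        exact ⟨_, ε, Or.inr ⟨n, rfl⟩, hε⟩
    obtain ⟨i, hiR, hloc⟩ := NodeFam.exists_node_away (R'' := R'') g a b ε hab
    let gN : NodeFam.nodeRing a := algebraMap R' (NodeFam.nodeRing a) g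
    let G' := Localization.Away (ψ gN)
    let γ : G →+* G' := algebraMap G G'
    obtain ⟨ψ', hψ', hψ'et⟩ := exists_etale_away i gN hloc ψ hψ
    haveI := hψ'et
    haveI : IsOpenImmersion (Spec.map (CommRingCat.ofHom γ)) := IsOpenImmersion.of_isLocalization (ψ gN)
    haveI : Etale (Spec.map (CommRingCat.ofHom jA)) :=
      (HasRingHomProperty.Spec_iff (P := @Etale) (φ := CommRingCat.ofHom jA)).2 hjA
    obtain ⟨zG, hzG⟩ : (⟨RingHom.ker θG, inferInstance⟩ : PrimeSpectrum G) ∈
        Set.range (PrimeSpectrum.comap (algebraMap G G')) := by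
      rw [PrimeSpectrum.localization_away_comap_range G' (ψ gN)]
      exact hgm
    refine ⟨R'', inferInstance, hdom, hdvr, inferInstance, het, hirr, MvPolynomial.C b,
      hb.imp (fun h => by rw [h, map_zero]) (fun ⟨n, h⟩ => ⟨n, by rw [h]⟩), Spec (CommRingCat.of G'),
      Spec.map (CommRingCat.ofHom γ) ≫ Spec.map (CommRingCat.ofHom jA) ≫ iX, inferInstance, zG, ?_,
      Spec.map (CommRingCat.ofHom ψ'), inferInstance, ?_⟩
    · show iX (PrimeSpectrum.comap jA (PrimeSpectrum.comap (algebraMap G G') zG)) = x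
      rw [hzG, ← hpt]
      congr 1
      refine PrimeSpectrum.ext (Ideal.ext fun c => ?_)
      show θG (jA c) = 0 ↔ θA c = 0
      rw [show θG (jA c) = θA c from RingHom.congr_fun hθ c]
    · simp only [Category.assoc]
      rw [hcomm, ← hφ0, ← Spec.map_comp, ← Spec.map_comp, ← Spec.map_comp, ← Spec.map_comp]
      congr 1
      refine CommRingCat.hom_ext (RingHom.ext fun r => ?_)
      show ψ' (algebraMap R'' (NodeFam.nodeRing b) (algebraMap R R'' r)) = γ (jA (algebraMap R0 A (φ0 r)))
      rw [IsScalarTower.algebraMap_apply R R' R'',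
        show algebraMap R'' (NodeFam.nodeRing b) (algebraMap R' R'' (algebraMap R R' r)) =
          i (algebraMap R' (NodeFam.nodeRing a) (algebraMap R R' r)) from (RingHom.congr_fun hiR _).symm,
        show jA (algebraMap R0 A (φ0 r)) = κ (jR (φ0 r)) from (RingHom.congr_fun hsq (φ0 r)).symm]
      exact RingHom.congr_fun hψ' (algebraMap R' (NodeFam.nodeRing a) (algebraMap R R' r))


end Groth.Agent.S2227
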