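import Groth.Statements.S2230
import Groth.Agent.KFlatLib.Scheme.RpushUnbounded
import Groth.Agent.KFlatLib.Scheme.QCohDerived

set_option autoImplicit false
universe u
open CategoryTheory AlgebraicGeometry
attribute [local instance] HasDerivedCategory.standard
open QCohCat

namespace Groth.Agent.S2230

/-- Let X -> S be quasi-compact and quasi-separated, Y -> S arbitrary, and K a complex of modules on X
x_S Y whose cohomology sheaves are quasi-coherent. Assuming the derived functors L pr_1^*, -
tensor^L K and R pr_2,* exist (unproved hypotheses carried as binders), the Fourier-Mukai transform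
R pr_2,* (L pr_1^* M tensor^L K) of any object M of D(O_X) with quasi-coherent cohomology sheaves
has quasi-coherent cohomology sheaves. -/
theorem result {S X Y : Scheme.{u}} (a : X ⟶ S) (b : Y ⟶ S)
    [QuasiCompact a] [QuasiSeparated a] (K : CochainComplex (Limits.pullback a b).Modules ℤ)
    (hK : DCoh.IsQCohD (DCoh.toD (Limits.pullback a b) K))
    [DCoh.HasLpull (Limits.pullback.fst a b)] [DCoh.HasLTensorCx K]
    [DCoh.HasRpush (Limits.pullback.snd a b)] (M : DCoh.D X) (hM : DCoh.IsQCohD M) :
    DCoh.IsQCohD ((DCoh.Rpush (Limits.pullback.snd a b)).obj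
        ((DCoh.LTensorCx K).obj ((DCoh.Lpull (Limits.pullback.fst a b)).obj M))) := by
  exact Groth.Agent.KFlatLib.isQCohD_rpush _ (Groth.Agent.KFlatLib.isQCohD_ltensor K hK (Groth.Agent.KFlatLib.isQCohD_lpull _ hM))

end Groth.Agent.S2230
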