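import Groth.Statements.S2231
import Groth.Agent.KFlatLib.Scheme.ProperFlatPerfect
import Groth.Agent.KFlatLib.Scheme.ProjFormula
-- import your own Groth.Agent.* helpers here

set_option autoImplicit false
universe u
open CategoryTheory AlgebraicGeometry
attribute [local instance] HasDerivedCategory.standard
open QCohCat

open Groth.Agent.KFlatLib

namespace Groth.Agent.S2231

/-- Case (3): let X -> S be proper, flat and of finite presentation, Y -> S arbitrary, and K a complex
of modules on X x_S Y which is perfect. Assuming the derived functors L pr_1^*, - tensor^L K and R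
pr_2,* exist (unproved hypotheses carried as binders), the Fourier-Mukai transform of a perfect
object of D(O_X) is a perfect object of D(O_Y). -/
theorem result {S X Y : Scheme.{u}} (a : X ⟶ S)
    (b : Y ⟶ S) [IsProper a] [Flat a] [LocallyOfFinitePresentation a]
    (K : CochainComplex (Limits.pullback a b).Modules ℤ)
    (hK : DCoh.IsPerfect (DCoh.toD (Limits.pullback a b) K))
    [DCoh.HasLpull (Limits.pullback.fst a b)] [DCoh.HasLTensorCx K]
    [DCoh.HasRpush (Limits.pullback.snd a b)] (M : DCoh.D X) (hM : DCoh.IsPerfect M) :
    DCoh.IsPerfect ((DCoh.Rpush (Limits.pullback.snd a b)).obj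
        ((DCoh.LTensorCx K).obj ((DCoh.Lpull (Limits.pullback.fst a b)).obj M))) := by
  let L := repK (DCoh.toD (Limits.pullback a b) K)
  haveI := hasLTensorCx L
  obtain ⟨c⟩ := nonempty_LTensorCx_congr_D (P := L) (E := K) (repKIso _)
  have h1 : DCoh.IsPerfect ((DCoh.LTensorCx L).obj ((DCoh.Lpull (Limits.pullback.fst a b)).obj M)) :=
    isPerfect_ltensor L (isKFlat_repK _)
      ((isPerfect_iff _).2 (((isPerfect_iff _).1 hK).of_iso (repKIso _).symm)) (isPerfect_lpull _ hM)
  exact (isPerfect_iff _).2 (TorBC.locSP_rpush_properFlat _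
    (((isPerfect_iff _).1 h1).of_iso (c.app _)))

end Groth.Agent.S2231
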