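import Groth.Statements.S2232
import Groth.Agent.RelPC17.PerfTensorBd
import Groth.Agent.S1005
import Groth.Agent.S1006
import Groth.Agent.KFlatLib.Perfect.Basic
import Groth.Agent.QCoh.SupportFT

set_option autoImplicit false
set_option backward.isDefEq.respectTransparency false
set_option backward.isDefEq.respectTransparency.types false
universe u
open CategoryTheory AlgebraicGeometry
attribute [local instance] HasDerivedCategory.standard
open QCohCat

namespace Groth.Agent.S2232

/-- Case (3): let S be Noetherian, X -> S and Y -> S of finite type with all local rings of X regular,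
and K a bounded complex of modules on X x_S Y with coherent cohomology sheaves whose supports are
proper over Y. Assuming the derived functors L pr_1^*, - tensor^L K and R pr_2,* exist (unproved
hypotheses carried as binders), the Fourier-Mukai transform of a bounded object of D(O_X) with
coherent cohomology sheaves is a bounded object of D(O_Y) with coherent cohomology sheaves. -/
theorem result {S X Y : Scheme.{u}} [IsNoetherian S]
    (a : X ⟶ S) (b : Y ⟶ S) [LocallyOfFiniteType a] [QuasiCompact a] [LocallyOfFiniteType b]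
    [QuasiCompact b] (hreg : Models.IsRegularScheme X)
    (K : CochainComplex (Limits.pullback a b).Modules ℤ)
    (hKcoh : DCoh.IsCohD (DCoh.toD (Limits.pullback a b) K)) (kₗ kᵤ : ℤ)
    (hKge : DerivedCategory.IsGE (DCoh.toD (Limits.pullback a b) K) kₗ)
    (hKle : DerivedCategory.IsLE (DCoh.toD (Limits.pullback a b) K) kᵤ)
    (hsupp : ∀ i : ℤ, ClSub.IsProperOver (Limits.pullback.snd a b)
      (CohB1.support (DCoh.HD (DCoh.toD (Limits.pullback a b) K) i)))
    [DCoh.HasLpull (Limits.pullback.fst a b)] [DCoh.HasLTensorCx K]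
    [DCoh.HasRpush (Limits.pullback.snd a b)]
    (M : DCoh.D X) (hM : DCoh.IsCohD M) (m n : ℤ) (hMge : DerivedCategory.IsGE M m)
    (hMle : DerivedCategory.IsLE M n) :
    DCoh.IsCohD ((DCoh.Rpush (Limits.pullback.snd a b)).obj
        ((DCoh.LTensorCx K).obj ((DCoh.Lpull (Limits.pullback.fst a b)).obj M))) ∧
      ∃ m' n' : ℤ, DerivedCategory.IsGE ((DCoh.Rpush (Limits.pullback.snd a b)).obj
        ((DCoh.LTensorCx K).obj ((DCoh.Lpull (Limits.pullback.fst a b)).obj M))) m' ∧
        DerivedCategory.IsLE ((DCoh.Rpush (Limits.pullback.snd a b)).obj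
        ((DCoh.LTensorCx K).obj ((DCoh.Lpull (Limits.pullback.fst a b)).obj M))) n' := by
  haveI : IsLocallyNoetherian X := LocallyOfFiniteType.isLocallyNoetherian a
  haveI : IsLocallyNoetherian Y := LocallyOfFiniteType.isLocallyNoetherian b
  haveI : CompactSpace X := QuasiCompact.compactSpace_of_compactSpace a
  haveI : CompactSpace Y := QuasiCompact.compactSpace_of_compactSpace b
  set q := Limits.pullback.snd a b
  set p := Limits.pullback.fst a b
  haveI : IsLocallyNoetherian (Limits.pullback a b) := LocallyOfFiniteType.isLocallyNoetherian q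
  haveI : CompactSpace (Limits.pullback a b : Scheme.{u}) := QuasiCompact.compactSpace_of_compactSpace q
  haveI : IsNoetherian (Limits.pullback a b) := ⟨⟩
  haveI := hMge; haveI := hMle
  have hP := KFlatLib.isPerfect_lpull p (Groth.Agent.S1005.result X hreg M m n hM)
  obtain ⟨hPc, lo, hi, hlo, hhi⟩ := Groth.Agent.S1006.result _ _ hP
  haveI := hlo; haveI := hhi; haveI := hKge; haveI := hKle
  set L := (DCoh.Lpull p).obj M
  set E := (DCoh.LTensorCx K).obj L
  have hLz : ∀ i, hi < i → Limits.IsZero (DCoh.HD L i) :=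
    fun i h => DerivedCategory.isZero_of_isLE L hi i h
  have hKz : ∀ i, kᵤ < i → Limits.IsZero (DCoh.HD (DCoh.toD _ K) i) :=
    fun i h => DerivedCategory.isZero_of_isLE (DCoh.toD _ K) kᵤ i h
  have hEc := H23.CohTensor.isCohD_ltensor K L hPc hKcoh hi kᵤ hLz hKz
  obtain ⟨e, he⟩ := RelPC17.PerfTensorBd.exists_ge_ltensorCx K kₗ
    (fun i h => DerivedCategory.isZero_of_isGE (DCoh.toD _ K) kₗ i h)
    ((KFlatLib.isPerfect_iff L).1 hP)
  haveI : DerivedCategory.IsGE E e := (DerivedCategory.isGE_iff E e).2 he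
  -- the union of the supports of the cohomology sheaves of `K`
  obtain ⟨Z, hZ, hZsub⟩ : ∃ Z, ClSub.IsProperOver q Z ∧
      ∀ i, CohB1.support (DCoh.HD (DCoh.toD _ K) i) ⊆ Z := by
    have key : ∀ N : ℕ, ∃ Z, ClSub.IsProperOver q Z ∧
        ∀ i, kₗ ≤ i → i ≤ kₗ + (N : ℤ) → CohB1.support (DCoh.HD (DCoh.toD _ K) i) ⊆ Z := by
      intro N
      induction N with
      | zero => exact ⟨_, hsupp kₗ, fun i h1 h2 => by obtain rfl : i = kₗ := (by omega); exact subset_rfl⟩
      | succ N ih =>
        obtain ⟨Z, hZ, hs⟩ := ih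
        refine ⟨_, QCoh.IsProperOver.union hZ (hsupp (kₗ + (N + 1 : ℕ))), fun i h1 h2 => ?_⟩
        by_cases h : i ≤ kₗ + (N : ℤ)
        · exact (hs i h1 h).trans Set.subset_union_left
        · obtain rfl : i = kₗ + (N + 1 : ℕ) := (by omega)
          exact Set.subset_union_right
    obtain ⟨Z, hZ, hs⟩ := key (kᵤ - kₗ).toNat
    refine ⟨Z, hZ, fun i => ?_⟩
    rcases lt_or_ge i kₗ with h | h
    · rw [KFlatLib.support_eq_empty_of_zero (DerivedCategory.isZero_of_isGE (DCoh.toD _ K) kₗ i h)]
      exact Set.empty_subset _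
    rcases lt_or_ge kᵤ i with h' | h'
    · rw [KFlatLib.support_eq_empty_of_zero (hKz i h')]
      exact Set.empty_subset _
    exact hs i h (by omega)
  -- supports of the tensor product
  let W : (Limits.pullback a b : Scheme.{u}).Opens := ⟨Zᶜ, hZ.1.isOpen_compl⟩
  have hEW : Limits.IsZero ((KFlatLib.rho W.ι).obj E) := by
    refine RelPC17.PerfTensorBd.isZero_rho_ltensorCx W.ι K L ?_
    refine KFlatLib.Generator.isZero_of_subsingleton_stalk fun i y => ?_
    refine ModuleCat.subsingleton_of_isZero (Limits.IsZero.of_iso ?_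
      ((DerSch.stalkFunctor _ y).mapIso (KFlatLib.restrictHDIso W.ι (DCoh.toD _ K) i)))
    refine @ModuleCat.isZero_of_subsingleton _ _ _ ?_
    have hsub : Subsingleton ((DCoh.HD (DCoh.toD _ K) i).presheaf.stalk (W.ι.base y)) :=
      not_not.1 fun h => y.2 (hZsub i h)
    exact ((Scheme.Modules.restrictStalkNatIso W.ι y).app _).addCommGroupIsoToAddEquiv.toEquiv.subsingleton_congr.2 hsub
  have hE : ∀ i, KFlatLib.ProperCoh q (DCoh.HD E i) := fun i => by
    refine ⟨hEc i, QCoh.IsProperOver.subset hZ (QCoh.isClosed_support_of_ft (hEc i).2) fun x hx => ?_⟩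
    by_contra hn
    exact hx (KFlatLib.Generator.subsingleton_stalk_of_isZero_rho W.ι hEW i ⟨x, hn⟩)
  haveI : DerivedCategory.IsLE E (hi + kᵤ) := (DerivedCategory.isLE_iff E _).2
    fun i h => H23.CohTensor.exists_bound K L hi kᵤ hLz hKz i h
  obtain ⟨hcoh, hbd⟩ := KFlatLib.rpush_coherent_bounded q (hi + kᵤ - e).toNat e E inferInstance
    (DerivedCategory.TStructure.t.isLE_of_le E (hi + kᵤ) _ (by omega)) hE
  obtain ⟨c, hc⟩ := hbd inferInstance
  exact ⟨hcoh, e, c, KFlatLib.isGE_rpush q E e, (DerivedCategory.isLE_iff _ _).2 hc⟩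

end Groth.Agent.S2232
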