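import Groth.Statements.S2234
import Mathlib
import Groth.Agent.Synt29.NLPerfect
import Groth.Agent.Synt29.TwoTerm
import Groth.Agent.Synt29.ConormalFibre
import Groth.Agent.Synt29.FlatLCI

set_option backward.isDefEq.respectTransparency.types false

set_option autoImplicit false
universe u
attribute [local instance] HasDerivedCategory.standard
open LCI

namespace Groth.Agent.S2234

open Algebra in
theorem flat_cotangent_of_retract {R T : Type u} [CommRing R] [CommRing T] [Algebra R T] {ι ι' : Type*}
    (P : Generators R T ι) (P' : Generators R T ι') [Module.Flat T P'.toExtension.Cotangent]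
    [Module.Flat T (P.toExtension.CotangentSpace × P'.toExtension.Cotangent)] :
    Module.Flat T P.toExtension.Cotangent := by
  let f := (Generators.defaultHom P P').toExtensionHom
  let f' := (Generators.defaultHom P' P).toExtensionHom
  let h := (f'.comp f).sub (Extension.Hom.id P.toExtension)
  refine Module.Flat.of_retract (LinearMap.prod P.toExtension.cotangentComplex (Extension.Cotangent.map f))
    (LinearMap.coprod (-h) (Extension.Cotangent.map f')) (LinearMap.ext fun x => ?_)
  have hx := LinearMap.congr_fun (Extension.Cotangent.map_sub_map (f'.comp f) (Extension.Hom.id P.toExtension)) x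
  show -(h (P.toExtension.cotangentComplex x)) + Extension.Cotangent.map f' (Extension.Cotangent.map f x) = x
  rw [LinearMap.sub_apply, Extension.Cotangent.map_id, Extension.Cotangent.map_comp] at hx
  simp only [LinearMap.coe_comp, LinearMap.coe_restrictScalars, Function.comp_apply, LinearMap.id_coe, id_eq] at hx
  rw [← hx]
  abel

/-- Equivalence of (1) and (4): take a ring map A -> B that is flat and of finite presentation. The
naive cotangent complex NL_{B/A} has tor-amplitude in [-1, 0] (it is isomorphic in D(B) to a
two-term complex of flat modules in those degrees) if and only if A -> B is a local complete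
intersection homomorphism (some presentation has Koszul-regular kernel ideal). -/
theorem result {A B : Type u} [CommRing A] [CommRing B] [Algebra A B]
    [Module.Flat A B] [Algebra.FinitePresentation A B] :
    DRing.HasTorAmplitudeIn B (-1) 0 (LCI.NL A B) ↔ LCI.IsLCI A B := by
  refine ⟨fun h => ?_, fun h => (Synt29.nl_of_isLCI h).2⟩
  obtain ⟨n, f, hf, -⟩ := Algebra.FinitePresentation.out (R := A) (A := B)
  have hf' : MvPolynomial.aeval (R := A) (fun i => f (MvPolynomial.X i)) = f :=
    MvPolynomial.algHom_ext fun i => by simp
  let P₀ : Algebra.Generators A B (Fin n) := Algebra.Generators.ofSurjective (fun i => f (MvPolynomial.X i))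
    (by rw [hf']; exact hf)
  let v : ULift.{u} (Fin n) → B := fun i => f (MvPolynomial.X i.down)
  have hv : MvPolynomial.aeval (R := A) v =
      f.comp (MvPolynomial.renameEquiv A Equiv.ulift).toAlgHom := MvPolynomial.algHom_ext fun i => by simp [v]
  let P : Algebra.Generators A B (ULift.{u} (Fin n)) := Algebra.Generators.ofSurjective v
    (hv ▸ hf.comp (MvPolynomial.renameEquiv A Equiv.ulift).surjective)
  obtain ⟨e⟩ := Synt29.nl_iso_twoTerm A B P
  obtain ⟨E, hE1, hE2, ⟨e'⟩⟩ := h
  let d := P.toExtension.cotangentComplex
  haveI : Module.Projective B P.toExtension.CotangentSpace := Module.Projective.of_basis P.cotangentSpaceBasis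
  haveI : Module.Projective B ((Synt29.twoTerm d).X 0) :=
    Module.Projective.of_equiv (Synt29.twoTermEquiv₀ d).symm
  haveI := Synt29.flat_of_hasTorAmplitudeIn (K := Synt29.twoTerm d) (fun i hi => Synt29.isZero_twoTerm d i hi)
    ⟨E, hE1, hE2, ⟨e'.trans e.symm⟩⟩
  haveI : Module.Flat B P.toExtension.Cotangent := Module.Flat.of_linearEquiv (Synt29.twoTermEquiv₁ d).symm
  haveI : Module.Projective B P₀.toExtension.CotangentSpace := Module.Projective.of_basis P₀.cotangentSpaceBasis
  haveI : Module.Flat B (P₀.toExtension.CotangentSpace × P.toExtension.Cotangent) := WLocalLib.flat_prod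
  haveI := flat_cotangent_of_retract P₀ P
  exact Synt29.isLCI_of_isSyntomic (Synt29.isSyntomic_of_flat_cotangent P₀)
end Groth.Agent.S2234
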