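import Groth.Statements.S2236
import Mathlib
import Groth.Agent.Synt29.NLPerfect
import Groth.Agent.Synt29.TwoTerm
import Groth.Agent.Synt29.PdAt
import Groth.Agent.Synt29.VasconcelosLocalPd
import Groth.Agent.Synt29.KoszulLocal

set_option backward.isDefEq.respectTransparency.types false

set_option autoImplicit false
universe u
attribute [local instance] HasDerivedCategory.standard
open LCI

namespace Groth.Agent.S2236

open Algebra in
theorem projective_cotangent_ker {R T : Type u} [CommRing R] [CommRing T] [Algebra R T] (P : Extension.{u} R T)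
    [Module.Projective T P.Cotangent] (I : Ideal P.Ring) (hI : I = P.ker) : Module.Projective (P.Ring ⧸ I) I.Cotangent := by
  subst hI
  let σ : T ≃+* (P.Ring ⧸ P.ker) := (RingHom.quotientKerEquivOfSurjective P.algebraMap_surjective).symm
  haveI := RingHomInvPair.of_ringEquiv σ
  haveI := RingHomInvPair.of_ringEquiv_symm σ
  refine Module.Projective.of_equiv (M := P.Cotangent) (R := T) (σ := (σ : T →+* P.Ring ⧸ P.ker))
    { toFun := fun x => x.val
      map_add' := fun x y => rfl
      map_smul' := fun r x => ?_
      invFun := fun x => Extension.Cotangent.of x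
      left_inv := fun _ => rfl
      right_inv := fun _ => rfl }
  obtain ⟨r, rfl⟩ := P.algebraMap_surjective r
  rw [show (σ : T →+* P.Ring ⧸ P.ker) (algebraMap P.Ring T r) = Ideal.Quotient.mk P.ker r from
      (RingHom.quotientKerEquivOfSurjective P.algebraMap_surjective).symm_apply_eq.2 rfl,
    algebraMap_smul, ← Ideal.Quotient.algebraMap_eq, algebraMap_smul]
  exact Extension.Cotangent.val_smul' r x

open Algebra in
theorem flat_cotangent_of_retract {R T : Type u} [CommRing R] [CommRing T] [Algebra R T] {ι ι' : Type*}
    (P : Generators R T ι) (P' : Generators R T ι') [Module.Flat T P'.toExtension.Cotangent]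
    [Module.Flat T (P.toExtension.CotangentSpace × P'.toExtension.Cotangent)] :
    Module.Flat T P.toExtension.Cotangent := by
  let f := (Generators.defaultHom P P').toExtensionHom
  let f' := (Generators.defaultHom P' P).toExtensionHom
  let h := (f'.comp f).sub (Extension.Hom.id P.toExtension)
  refine Module.Flat.of_retract (LinearMap.prod P.toExtension.cotangentComplex (Extension.Cotangent.map f))
    (LinearMap.coprod (-h) (Extension.Cotangent.map f')) (LinearMap.ext fun x => ?_)
  have hx := LinearMap.congr_fun (Extension.Cotangent.map_sub_map (f'.comp f) (Extension.Hom.id P.toExtension)) x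
  show -(h (P.toExtension.cotangentComplex x)) + Extension.Cotangent.map f' (Extension.Cotangent.map f x) = x
  rw [LinearMap.sub_apply, Extension.Cotangent.map_id, Extension.Cotangent.map_comp] at hx
  simp only [LinearMap.coe_comp, LinearMap.coe_restrictScalars, Function.comp_apply, LinearMap.id_coe, id_eq] at hx
  rw [← hx]
  abel

/-- Equivalence of (1) and (3): let A be a Noetherian ring and B an A-algebra of finite type which has
finite Tor-dimension as an A-module (so that A -> B is a perfect ring map). Then NL_{B/A} has
tor-amplitude in [-1, 0] if and only if A -> B is a local complete intersection homomorphism (some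
presentation has Koszul-regular kernel ideal). -/
theorem result {A B : Type u} [CommRing A] [CommRing B]
    [Algebra A B] [IsNoetherianRing A] [Algebra.FiniteType A B] (hB : DRing.HasFiniteTorDim A B) :
    DRing.HasTorAmplitudeIn B (-1) 0 (LCI.NL A B) ↔ LCI.IsLCI A B := by
  haveI : Algebra.FinitePresentation A B := Algebra.FinitePresentation.of_finiteType.1 inferInstance
  refine ⟨fun h => ?_, fun h => (Synt29.nl_of_isLCI h).2⟩
  obtain ⟨n, f, hf⟩ := Algebra.FiniteType.iff_quotient_mvPolynomial''.1 (inferInstance : Algebra.FiniteType A B)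
  let R := MvPolynomial (Fin n) A
  have hf' : MvPolynomial.aeval (R := A) (fun i => f (MvPolynomial.X i)) = f :=
    MvPolynomial.algHom_ext fun i => by simp
  let P₀ : Algebra.Generators A B (Fin n) := Algebra.Generators.ofSurjective (fun i => f (MvPolynomial.X i))
    (by rw [hf']; exact hf)
  let v : ULift.{u} (Fin n) → B := fun i => f (MvPolynomial.X i.down)
  have hv : MvPolynomial.aeval (R := A) v =
      f.comp (MvPolynomial.renameEquiv A Equiv.ulift).toAlgHom := MvPolynomial.algHom_ext fun i => by simp [v]
  let P : Algebra.Generators A B (ULift.{u} (Fin n)) := Algebra.Generators.ofSurjective v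
    (hv ▸ hf.comp (MvPolynomial.renameEquiv A Equiv.ulift).surjective)
  obtain ⟨e⟩ := Synt29.nl_iso_twoTerm A B P
  obtain ⟨E, hE1, hE2, ⟨e'⟩⟩ := h
  let d := P.toExtension.cotangentComplex
  haveI : Module.Projective B P.toExtension.CotangentSpace := Module.Projective.of_basis P.cotangentSpaceBasis
  haveI : Module.Projective B ((Synt29.twoTerm d).X 0) :=
    Module.Projective.of_equiv (Synt29.twoTermEquiv₀ d).symm
  haveI := Synt29.flat_of_hasTorAmplitudeIn (K := Synt29.twoTerm d) (fun i hi => Synt29.isZero_twoTerm d i hi)
    ⟨E, hE1, hE2, ⟨e'.trans e.symm⟩⟩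
  haveI : Module.Flat B P.toExtension.Cotangent := Module.Flat.of_linearEquiv (Synt29.twoTermEquiv₁ d).symm
  haveI : Module.Projective B P₀.toExtension.CotangentSpace := Module.Projective.of_basis P₀.cotangentSpaceBasis
  haveI : Module.Flat B (P₀.toExtension.CotangentSpace × P.toExtension.Cotangent) := WLocalLib.flat_prod
  haveI := flat_cotangent_of_retract P₀ P
  haveI : IsNoetherianRing B := Algebra.FiniteType.isNoetherianRing A B
  haveI := Synt29.finite_cotangent P₀
  haveI : Module.FinitePresentation B P₀.toExtension.Cotangent := Module.finitePresentation_of_finite _ _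
  haveI : Module.Projective B P₀.toExtension.Cotangent := Module.Flat.projective_of_finitePresentation
  let I : Ideal R := RingHom.ker f.toRingHom
  have hker₀ : P₀.toExtension.ker = I := by
    refine (Algebra.Generators.ker_eq_ker_aeval_val (P := P₀)).trans ?_
    show RingHom.ker (MvPolynomial.aeval (R := A) (fun i => f (MvPolynomial.X i))) = _
    rw [hf']
    rfl
  haveI : Module.Projective (R ⧸ I) I.Cotangent := projective_cotangent_ker P₀.toExtension I hker₀.symm
  obtain ⟨δ, hδ⟩ := hB
  refine ⟨inferInstance, n, f, hf, fun p hp => ?_⟩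
  obtain ⟨m, hm⟩ := Synt29.exists_pdLE_ker_map f hf hδ p.asIdeal
  obtain ⟨g, hg, rs, hrs, hgen⟩ := Synt29.exists_away_isRegular' I p.asIdeal hp hm
  refine ⟨g, hg, rs, Synt29.isKoszulRegularSeq_of_local rs fun q _ _ _ => ?_, hgen.symm⟩
  haveI : Module.Flat (Localization.Away g) (Localization.AtPrime q) := IsLocalization.flat _ q.primeCompl
  exact hrs.toIsWeaklyRegular.of_flat
end Groth.Agent.S2236
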