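import Groth.Statements.S2237
import Mathlib
import Groth.Agent.Synt29.FlatLCI
import Groth.Agent.Synt29.SyntomicAt

set_option autoImplicit false
universe u
attribute [local instance] HasDerivedCategory.standard
open LCI

namespace Groth.Agent.S2237

/-- Implication (2) to (5), affine form: let A -> B be flat, quasi-finite and a local complete
intersection homomorphism (finite type with a Koszul-regular presentation). Then for every prime q
of B there are g in B outside q, a natural number n and polynomials f_1, ..., f_n in A[x_1, ...,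
x_n] such that B_g is isomorphic as an A-algebra to A[x_1, ..., x_n]/(f_1, ..., f_n). -/
theorem result {A B : Type u} [CommRing A]
    [CommRing B] [Algebra A B] [Module.Flat A B] [Algebra.QuasiFinite A B] (hlci : LCI.IsLCI A B)
    (q : Ideal B) [q.IsPrime] :
    ∃ g : B, g ∉ q ∧ ∃ (n : ℕ) (f : Fin n → MvPolynomial (Fin n) A),
      Nonempty (Localization.Away g ≃ₐ[A]
        (MvPolynomial (Fin n) A ⧸ Ideal.span (Set.range f))) := by
  have hsyn : Synt.IsSyntomic A B := Synt29.isSyntomic_of_flat_of_isLCI hlci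
  haveI := hsyn.2.1
  obtain ⟨g, hg, N, M, F, hF, ⟨e⟩⟩ := Synt29.exists_isStd_away ⟨q, inferInstance⟩ _ rfl (hsyn.2.2 _)
  let T := Localization.Away g
  haveI : Algebra.QuasiFinite B T := inferInstance
  haveI : Algebra.QuasiFinite A T := Algebra.QuasiFinite.trans A B T
  obtain ⟨qT, -⟩ := Synt29.exists_prime_away g q hg T
  let p := PrimeSpectrum.comap (algebraMap A T) qT
  obtain ⟨Q, -⟩ := FlatLoc6.exists_fiber_prime p.asIdeal qT.asIdeal rfl
  let eF : p.asIdeal.Fiber (Synt.RelGCIRing A N M F) ≃ₐ[p.asIdeal.ResidueField] p.asIdeal.Fiber T :=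
    Algebra.TensorProduct.congr AlgEquiv.refl e
  haveI : Nontrivial (p.asIdeal.Fiber T) := PrimeSpectrum.nonempty_iff_nontrivial.1 ⟨Q⟩
  haveI : Nontrivial (p.asIdeal.Fiber (Synt.RelGCIRing A N M F)) := eF.toEquiv.nontrivial
  obtain ⟨hMN, hd⟩ := hF p inferInstance
  haveI : IsArtinianRing (p.asIdeal.Fiber T) := IsArtinianRing.of_finite p.asIdeal.ResidueField _
  rw [ringKrullDim_eq_of_ringEquiv (R := p.asIdeal.Fiber (Synt.RelGCIRing A N M F)) eF.toRingEquiv] at hd
  have h0 : ringKrullDim (p.asIdeal.Fiber T) = 0 := ringKrullDimZero_iff_ringKrullDim_eq_zero.1 inferInstance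
  rw [h0] at hd
  obtain rfl : M = N := by
    have : N - M = 0 := by exact_mod_cast hd.symm
    omega
  exact ⟨g, hg, M, F, ⟨e.symm⟩⟩

end Groth.Agent.S2237
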