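import Groth.Statements.S2326
import Groth.Agent.AmpleX.CounitEpi
import Groth.Agent.MorLib.IdealFG2
import Groth.Agent.OmegaLib.IdealMod

set_option autoImplicit false
universe u
open CategoryTheory CategoryTheory.Limits AlgebraicGeometry
open EGA2

namespace Groth.Agent.S2326

open TopologicalSpace in
theorem exists_fg_ideal (X : Scheme.{u}) [CompactSpace X] [QuasiSeparatedSpace X] {U : X.Opens}
    (hU : IsAffineOpen U) :
    ∃ K : X.IdealSheafData, (∀ V, (K.ideal V).FG) ∧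
      (∀ z, z ∉ U → ∀ (O : X.Opens) (a : Γ(ClSub.idealMod K, O)),
        z ∉ X.basicOpen (show Γ(X, O) from (ClSub.idealModι K).app O a)) ∧
      ∃ e : Γ(ClSub.idealMod K, U), (show Γ(X, U) from (ClSub.idealModι K).app U e) = 1 := by
  let Z : Closeds X := ⟨(U : Set X)ᶜ, U.isOpen.isClosed_compl⟩
  let I := Scheme.IdealSheafData.vanishingIdeal Z
  have hI : I.ideal ⟨U, hU⟩ = ⊤ := by
    show PrimeSpectrum.vanishingIdeal (hU.fromSpec ⁻¹' (U : Set X)ᶜ) = ⊤
    have : hU.fromSpec ⁻¹' (U : Set X)ᶜ = ∅ := by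
      rw [Set.preimage_eq_empty_iff, hU.range_fromSpec]
      exact disjoint_compl_left
    exact (congrArg (fun t => PrimeSpectrum.vanishingIdeal (R := Γ(X, U)) t) this).trans
      PrimeSpectrum.vanishingIdeal_empty
  obtain ⟨K, hK, hfg, hUK⟩ := MorLib.IdealFG.exists_fg_le I ⟨U, hU⟩ ⊤ Module.Finite.fg_top hI.ge
  refine ⟨K, hfg, fun z hz O a hb => ?_, ?_⟩
  · have hzK : z ∈ K.support :=
      (Scheme.IdealSheafData.le_support_iff_le_vanishingIdeal (Z := Z)).2 hK (show z ∈ (U : Set X)ᶜ from hz)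
    have hzO : z ∈ O := X.basicOpen_le _ hb
    obtain ⟨_, ⟨W, hW, rfl⟩, hzW, hWO⟩ :=
      X.isBasis_affineOpens.exists_subset_of_mem_open hzO O.isOpen
    have hm := OmegaLib.idealSect_mem K ⟨W, hW⟩ ((ClSub.idealMod K).presheaf.map (homOfLE hWO).op a)
    have e0 := OmegaLib.idealSect_map K (show W ≤ O from hWO) a
    replace hm : X.presheaf.map (homOfLE (show W ≤ O from hWO)).op (OmegaSh.idealSect K O a) ∈ K.ideal ⟨W, hW⟩ := e0 ▸ hm
    have hzero : z ∈ X.zeroLocus (U := W) (K.ideal ⟨W, hW⟩ : Set Γ(X, W)) :=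
      ((Scheme.IdealSheafData.coe_support_inter K ⟨W, hW⟩).le ⟨hzK, hzW⟩).1
    rw [Scheme.mem_zeroLocus_iff] at hzero
    refine hzero _ hm ?_
    rw [Scheme.basicOpen_res]
    exact ⟨hzW, hb⟩
  · exact OmegaLib.exists_of_mem K ⟨U, hU⟩ 1 (hUK Submodule.mem_top)

/-- Let X be a quasi-compact separated scheme (the source also allows a prescheme with Noetherian
underlying space) and L an invertible module. Suppose that for every quasi-coherent ideal sheaf I of
finite type there are n > 0 and k > 0 with I ⊗ L^{⊗n} a quotient of O_X^k. Then L is ample. -/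
theorem result (X : Scheme.{u}) [CompactSpace X] [X.IsSeparated] (L : X.Modules) (hL : PicF.IsInvertible L)
    (h : ∀ I : X.IdealSheafData, BlowUp.IsFiniteTypeIdeal I →
      ∃ (n k : ℕ) (p : FlatMod.freeMod X k ⟶ CohB1.tensorMod (ClSub.idealMod I) (CohB1.tensorPow L (n + 1))), 0 < k ∧ Epi p) :
    CohB1.IsAmple L := by
  let f := X.toSpecΓ
  haveI : QuasiCompact f :=
    (HasAffineProperty.iff_of_isAffine (P := @QuasiCompact)).mpr (inferInstanceAs (CompactSpace X))
  have key : CohB1.IsAmple (L.restrict (f ⁻¹ᵁ ⊤).ι) := by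
    refine AmpleX.isAmple_preimage_of_local hL (isAffineOpen_top _) fun x _ => ?_
    obtain ⟨U, hU, hxU, -⟩ := exists_isAffineOpen_mem_and_subset (x := x) (U := ⊤) trivial
    obtain ⟨K, hfg, hi, e, he⟩ := exists_fg_ideal X hU
    obtain ⟨n, k, p, -, hp⟩ := h K hfg
    haveI := hp
    have hgg : Curv2.IsGloballyGenerated
        (CohB1.tensorMod (ClSub.idealMod K) (CohB1.tensorPow L (n + 1))) := by
      refine ⟨ULift.{u} (Fin k), (Sigma.whiskerEquiv (g := fun _ : Fin k => Coh.structureModule X)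
        Equiv.ulift fun _ => Iso.refl _).hom ≫ p, ?_⟩
      exact @epi_comp _ _ _ _ _ _ inferInstance _ hp
    have hepi := AmpleX.epi_counit_of_isGloballyGenerated f _ hgg
    obtain ⟨r, a, ha⟩ := AmpleX.exists_affine_locus_of_epi f (ClSub.idealModι K)
      (InvX.isInvertible_tensorPow hL (n + 1)) hU hxU hi e he hepi (isAffineOpen_top _) trivial le_top
    exact ⟨r, n + 1, n.succ_pos, a, ha⟩
  obtain ⟨-, hx⟩ := (AmpleX.isAmple_restrict_iff _ hL).1 key
  refine AmpleX.isAmple_iff.2 ⟨hL, inferInstance, fun x => ?_⟩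
  obtain ⟨m, hm, a, hxa, ha⟩ := hx ⟨x, trivial⟩
  have hle : (⊤ : X.Opens) ≤ (f ⁻¹ᵁ ⊤).ι ''ᵁ ⊤ := (Scheme.Opens.ι_image_top (f ⁻¹ᵁ ⊤)).ge
  let a' := AModX.res (CohB1.tensorPow L m) hle a
  have hl : CohB1.genLocus _ (InvX.ofSect (M := CohB1.tensorPow L m) a') = AmpleX.locus a := by
    rw [AmpleX.genLocus_eq_locus, InvX.one_ofSect]
    exact (AmpleX.locus_res a hle).trans (inf_eq_left.2 le_top)
  exact ⟨m, hm, InvX.ofSect (M := CohB1.tensorPow L m) a', hl ▸ hxa, hl ▸ ha⟩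

end Groth.Agent.S2326
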