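import Groth.Statements.S2332
import Groth.Agent.AmpleX.BaseChange

set_option autoImplicit false
universe u
open CategoryTheory CategoryTheory.Limits AlgebraicGeometry
open EGA2

namespace Groth.Agent.S2332

/-- Let f : X → Y be quasi-compact, g : Y' → Y any morphism, and L an O_X-module ample relative to f.
Then the pullback of L to X ×_Y Y' is ample relative to the base-changed morphism X ×_Y Y' → Y'. -/
theorem result {X Y Y' : Scheme.{u}} (f : X ⟶ Y) [QuasiCompact f] (g : Y' ⟶ Y) (L : X.Modules)
    (hL : RelAmple.IsRelAmple f L) :
    RelAmple.IsRelAmple (pullback.snd f g) ((Scheme.Modules.pullback (pullback.fst f g)).obj L) := by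
  exact AmpleX.isRelAmple_baseChange f g hL

end Groth.Agent.S2332
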