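import Groth.Statements.S2338
import Groth.Agent.AmpleX.QAHom

set_option autoImplicit false
universe u
open CategoryTheory CategoryTheory.Limits AlgebraicGeometry
open EGA2

namespace Groth.Agent.S2338

/-- The composite of two quasi-affine morphisms is quasi-affine. -/
theorem result {X Y Z : Scheme.{u}} (f : X ⟶ Y) (g : Y ⟶ Z) (hf : Mor2.IsQuasiAffine f) (hg : Mor2.IsQuasiAffine g) :
    Mor2.IsQuasiAffine (f ≫ g) := by
  exact AmpleX.isQuasiAffine_comp f g hf hg

end Groth.Agent.S2338
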