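import Groth.Statements.S2340
import Groth.Agent.AmpleX.QAHom

set_option autoImplicit false
universe u
open CategoryTheory CategoryTheory.Limits AlgebraicGeometry
open EGA2

namespace Groth.Agent.S2340

/-- Let f : X → Y and g : Y → Z be morphisms of schemes with g ∘ f quasi-affine and g quasi-separated.
Then f is quasi-affine. -/
theorem result {X Y Z : Scheme.{u}} (f : X ⟶ Y) (g : Y ⟶ Z) [QuasiSeparated g]
    (h : Mor2.IsQuasiAffine (f ≫ g)) : Mor2.IsQuasiAffine f := by
  exact AmpleX.isQuasiAffine_of_comp f g h

end Groth.Agent.S2340
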