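import Groth.Statements.S2342
import Groth.Agent.Proj16.ValSection

set_option autoImplicit false
universe u
open CategoryTheory CategoryTheory.Limits AlgebraicGeometry
open EGA2

namespace Groth.Agent.S2342

/-- Let A be a valuation ring with Y = Spec A, X an integral separated scheme and f : X → Y a morphism
which is closed as a map of topological spaces, such that the fibre over the generic point of Y
consists of exactly one point x and the induced map from the residue field of the generic point of Y
to that of x is bijective. Then f is an isomorphism. -/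
theorem result (A : Type u) [CommRing A] [IsDomain A] [ValuationRing A]
    (X : Scheme.{u}) [IsIntegral X] [X.IsSeparated] (f : X ⟶ Spec (CommRingCat.of A)) (hf : IsClosedMap f.base)
    (x : X) (hx : f.base ⁻¹' {genericPoint (Spec (CommRingCat.of A))} = {x})
    (hres : Function.Bijective (f.residueFieldMap x).hom) : IsIso f := by
  let S := Spec (CommRingCat.of A)
  have hη : f (genericPoint X) = genericPoint S := by
    have h1 : f x = genericPoint S := hx.ge rfl
    exact (((genericPoint_spec X).specializes (Set.mem_univ x)).map f.continuous |>.trans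
      (h1 ▸ specializes_refl _) |>.antisymm ((genericPoint_spec S).specializes (Set.mem_univ _))).eq
  have hxη : x = genericPoint X := (hx.le hη).symm
  subst hxη
  have : IsIso (f.residueFieldMap (genericPoint X)) :=
    (ConcreteCategory.isIso_iff_bijective _).mpr hres
  -- the rational point
  obtain ⟨K, _, _, _⟩ : ∃ (K : Type u) (_ : Field K) (_ : Algebra A K), IsFractionRing A K :=
    ⟨FractionRing A, inferInstance, inferInstance, inferInstance⟩
  let g₀ : Spec (CommRingCat.of K) ⟶ S := Spec.map (CommRingCat.ofHom (algebraMap A K))
  have hg₀ : g₀ (IsLocalRing.closedPoint K) = f (genericPoint X) := by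
    rw [hη, genericPoint_eq_bot_of_affine]
    apply PrimeSpectrum.ext
    change Ideal.comap (algebraMap A K) (IsLocalRing.maximalIdeal K) = ⊥
    rw [IsLocalRing.maximalIdeal_eq_bot, ← RingHom.ker_eq_comap_bot,
      (RingHom.injective_iff_ker_eq_bot _).mp (IsFractionRing.injective A K)]
  obtain ⟨d, hd⟩ : ∃ d : Spec (CommRingCat.of K) ⟶ Spec (S.residueField (f (genericPoint X))),
      d ≫ S.fromSpecResidueField _ = g₀ := by
    rw [← hg₀]
    exact ⟨_, Scheme.descResidueField_stalkClosedPointTo_fromSpecResidueField K S g₀⟩
  let p : Spec (CommRingCat.of K) ⟶ X :=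
    d ≫ inv (Spec.map (f.residueFieldMap (genericPoint X))) ≫ X.fromSpecResidueField (genericPoint X)
  have hp : p ≫ f = g₀ := by
    simp only [p, Category.assoc]
    rw [← Scheme.Hom.SpecMap_residueFieldMap_fromSpecResidueField, IsIso.inv_hom_id_assoc, hd]
  obtain ⟨s, hs, hs'⟩ := Groth.Agent.Proj16.exists_section_of_isClosedMap (K := K) f hf p hp
  have : IsSeparated (f ≫ terminal.from S) := by
    rw [terminal.hom_ext (f ≫ terminal.from S) (terminal.from X)]
    infer_instance
  have : IsSeparated f := IsSeparated.of_comp f (terminal.from S)
  have : IsClosedImmersion (s ≫ f) := by rw [hs]; infer_instance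
  have : IsClosedImmersion s := IsClosedImmersion.of_comp s f
  have hdom : Set.range s = Set.univ := by
    refine Set.univ_subset_iff.mp ?_
    rw [← genericPoint_spec X]
    refine closure_minimal (Set.singleton_subset_iff.mpr ⟨g₀ (IsLocalRing.closedPoint K), ?_⟩)
      s.isClosedEmbedding.isClosed_range
    rw [← Scheme.Hom.comp_apply, hs']
    simp only [p, Scheme.Hom.comp_apply]
    rw [Scheme.fromSpecResidueField_apply]
  have : Surjective s := ⟨Set.range_eq_univ.mp hdom⟩
  have : IsIso s := AlgebraicGeometry.isIso_of_isClosedImmersion_of_surjective s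
  have : IsIso (s ≫ f) := by rw [hs]; infer_instance
  exact IsIso.of_isIso_comp_left s f

end Groth.Agent.S2342
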