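import Groth.Statements.S2343
import Groth.Agent.QfSplit16.Basic
-- import your own Groth.Agent.* helpers here

set_option autoImplicit false
set_option backward.isDefEq.respectTransparency false
set_option backward.isDefEq.respectTransparency.types false
universe u
open CategoryTheory CategoryTheory.Limits AlgebraicGeometry
open EGA2

namespace Groth.Agent.S2343
open Groth.Agent

/-- Let A be a complete Noetherian local ring, X a separated scheme locally of finite type over Spec A,
and x a point of X over the closed point which is isolated in its fibre. Then the local ring of X at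
x is a finite A-module and the canonical morphism Spec O_{X,x} → X is both an open and a closed
immersion (X is the disjoint sum of Spec O_{X,x} and another open subscheme). -/
theorem result (A : Type u) [CommRing A] [IsLocalRing A] [IsNoetherianRing A]
    [IsAdicComplete (IsLocalRing.maximalIdeal A) A] (X : Scheme.{u}) (f : X ⟶ Spec (CommRingCat.of A)) [LocallyOfFiniteType f] [IsSeparated f]
    (x : X) (hx : f.base x = IsLocalRing.closedPoint A)
    (hisol : IsOpen ((Subtype.val : (f.base ⁻¹' {IsLocalRing.closedPoint A}) → X) ⁻¹' {x})) :
    ((Scheme.ΓSpecIso (CommRingCat.of A)).inv ≫ f.appTop ≫ X.presheaf.germ ⊤ x trivial).hom.Finite ∧ IsOpenImmersion (X.fromSpecStalk x) ∧ IsClosedImmersion (X.fromSpecStalk x) := by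
  haveI : HenselianLocalRing A := Hensel.henselianLocalRing_of_henselianRing A
  refine QfSplit16.isolated_point f hx ?_
  rw [Scheme.Hom.quasiFiniteAt_iff_isOpen_singleton_asFiber, ← (f.fiberHomeo (f x)).isOpen_image]
  simp only [Set.image_singleton, Scheme.Hom.asFiber, Homeomorph.apply_symm_apply]
  obtain ⟨O, hO, hOx⟩ := isOpen_induced_iff.1 hisol
  refine isOpen_induced_iff.2 ⟨O, hO, ?_⟩
  ext ⟨y, hy⟩
  have hy' : f.base y = IsLocalRing.closedPoint A := (show f y = f x from hy).trans hx
  refine ⟨fun h => ?_, fun h => ?_⟩
  · have := (Set.ext_iff.1 hOx ⟨y, hy'⟩).1 h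
    exact Subtype.ext (by simpa using this)
  · have h' : y = x := congrArg Subtype.val h
    exact (Set.ext_iff.1 hOx ⟨y, hy'⟩).2 (by simpa using h')

end Groth.Agent.S2343
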