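import Groth.Statements.S2344
import Groth.Agent.CodimExt16.Basic
import Groth.Agent.SchTop.Closed
-- import your own Groth.Agent.* helpers here

set_option autoImplicit false
universe u
open CategoryTheory CategoryTheory.Limits AlgebraicGeometry
open EGA2

namespace Groth.Agent.S2344
open Groth.Agent

/-- Let X be a normal algebraic curve over k (separated, of finite type, nonempty, local rings at closed
points of dimension one, all local rings integrally closed domains), Y proper over k, U a dense open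
of X and g : U → Y a k-morphism. Then g extends uniquely to a k-morphism X → Y. -/
theorem result (k : Type u) [Field k] (X Y : Scheme.{u}) [X.Over (Spec (CommRingCat.of k))] [Y.Over (Spec (CommRingCat.of k))]
    [LocallyOfFiniteType (X ↘ (Spec (CommRingCat.of k)))] [QuasiCompact (X ↘ (Spec (CommRingCat.of k)))] [IsSeparated (X ↘ (Spec (CommRingCat.of k)))] [Nonempty X] (hcurve : (∀ x : X, IsClosed ({x} : Set X) → ringKrullDim (X.presheaf.stalk x) = 1)) (hnorm : Pi1.IsNormalScheme X)
    [IsProper (Y ↘ (Spec (CommRingCat.of k)))] (U : X.Opens) (hU : Dense (U : Set X)) (g : (U : Scheme.{u}) ⟶ Y)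
    (hg : g ≫ (Y ↘ (Spec (CommRingCat.of k))) = U.ι ≫ (X ↘ (Spec (CommRingCat.of k)))) :
    ∃! g' : X ⟶ Y, U.ι ≫ g' = g ∧ g' ≫ (Y ↘ (Spec (CommRingCat.of k))) = X ↘ (Spec (CommRingCat.of k)) := by
  have hN : IsLocallyNoetherian X :=
    LocallyOfFiniteType.isLocallyNoetherian (X ↘ Spec (CommRingCat.of k))
  have hred : ∀ x : X, _root_.IsReduced (X.presheaf.stalk x) := fun x => by
    have := (hnorm x).1
    infer_instance
  have hR : IsReduced X := AlgebraicGeometry.isReduced_of_isReduced_stalk X
  have hdim : ∀ x : X, ringKrullDim (X.presheaf.stalk x) ≤ 1 := fun x => by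
    obtain ⟨z, hxz, hz⟩ := SchTop.exists_isClosed_specializes x
    rw [← hcurve z hz, ringKrullDim_stalk_eq_coheight, ringKrullDim_stalk_eq_coheight]
    exact_mod_cast Order.coheight_anti (show z ≤ x from hxz)
  have hreg : ∀ x : X, ringKrullDim (X.presheaf.stalk x) ≤ 1 → IsRegularLocalRing (X.presheaf.stalk x) := by
    intro x hx
    obtain ⟨_, _⟩ := hnorm x
    have : Ring.KrullDimLE 1 (X.presheaf.stalk x) := Ring.krullDimLE_iff.2 hx
    have h03 := (tfae_of_isNoetherianRing_of_isLocalRing_of_isDomain (R := X.presheaf.stalk x)).out 0 3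
      (a := IsPrincipalIdealRing (X.presheaf.stalk x))
      (b := IsIntegrallyClosed (X.presheaf.stalk x) ∧ ∀ P : Ideal (X.presheaf.stalk x), P ≠ ⊥ → P.IsPrime →
        P = IsLocalRing.maximalIdeal (X.presheaf.stalk x))
    have : IsPrincipalIdealRing (X.presheaf.stalk x) :=
      h03.mpr ⟨inferInstance, fun P hP0 hP => IsLocalRing.eq_maximalIdeal (hP.isMaximal_of_ne_bot hP0)⟩
    infer_instance
  obtain ⟨W, hUW, s', hs', hc, hW⟩ := CodimExt16.exists_extension hreg
    (pullback.snd (Y ↘ Spec (CommRingCat.of k)) (X ↘ Spec (CommRingCat.of k)))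
    (pullback.snd (Y ↘ Spec (CommRingCat.of k)) (X ↘ Spec (CommRingCat.of k))).isClosedMap
    U hU (pullback.lift g U.ι hg) (pullback.lift_snd _ _ _)
  obtain rfl : W = ⊤ := eq_top_iff.2 fun x _ => hW x (hdim x)
  let g' : X ⟶ Y := X.topIso.inv ≫ s' ≫ pullback.fst _ _
  have h1 : U.ι ≫ g' = g := by
    have e : U.ι ≫ X.topIso.inv = X.homOfLE hUW := by
      rw [← cancel_mono X.topIso.hom, Category.assoc, Iso.inv_hom_id, Category.comp_id,
        Scheme.topIso_hom, Scheme.homOfLE_ι]
    rw [reassoc_of% e, reassoc_of% hc, pullback.lift_fst]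
  have h2 : g' ≫ (Y ↘ Spec (CommRingCat.of k)) = X ↘ Spec (CommRingCat.of k) := by
    rw [Category.assoc, Category.assoc, pullback.condition, reassoc_of% hs', ← Scheme.topIso_hom,
      ← Category.assoc, Iso.inv_hom_id, Category.id_comp]
  refine ⟨g', ⟨h1, h2⟩, fun g'' hg'' => ?_⟩
  have hdom : IsDominant U.ι := ⟨by rw [DenseRange, Scheme.Opens.range_ι]; exact hU⟩
  exact ext_of_isDominant_of_isSeparated (Y ↘ Spec (CommRingCat.of k)) (hg''.2.trans h2.symm) U.ι
    (hg''.1.trans h1.symm)

end Groth.Agent.S2344
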