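import Groth.Statements.S2346
import Groth.Agent.Proj16.CurveTop

set_option autoImplicit false
universe u
open CategoryTheory CategoryTheory.Limits AlgebraicGeometry
open EGA2

namespace Groth.Agent.S2346

/-- Let X and Y be irreducible algebraic curves over k (separated, of finite type, local rings at closed
points one-dimensional) and f : X → Y a k-morphism. Then f is dominant if and only if every fibre
f⁻¹(y) is a finite set. -/
theorem result (k : Type u) [Field k] (X Y : Scheme.{u}) [X.Over (Spec (CommRingCat.of k))] [Y.Over (Spec (CommRingCat.of k))]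
    [LocallyOfFiniteType (X ↘ (Spec (CommRingCat.of k)))] [QuasiCompact (X ↘ (Spec (CommRingCat.of k)))] [IsSeparated (X ↘ (Spec (CommRingCat.of k)))] [LocallyOfFiniteType (Y ↘ (Spec (CommRingCat.of k)))] [QuasiCompact (Y ↘ (Spec (CommRingCat.of k)))] [IsSeparated (Y ↘ (Spec (CommRingCat.of k)))] [IrreducibleSpace X] [IrreducibleSpace Y]
    (hX : (∀ x : X, IsClosed ({x} : Set X) → ringKrullDim (X.presheaf.stalk x) = 1)) (hY : (∀ x : Y, IsClosed ({x} : Set Y) → ringKrullDim (Y.presheaf.stalk x) = 1))
    (f : X ⟶ Y) (hf : f ≫ (Y ↘ (Spec (CommRingCat.of k))) = X ↘ (Spec (CommRingCat.of k))) :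
    IsDominant f ↔ ∀ y : Y, (f.base ⁻¹' {y}).Finite := by
  have : CompactSpace X := QuasiCompact.compactSpace_of_compactSpace (X ↘ Spec (CommRingCat.of k))
  have : CompactSpace Y := QuasiCompact.compactSpace_of_compactSpace (Y ↘ Spec (CommRingCat.of k))
  exact Groth.Agent.Proj16.isDominant_iff_finite_fibres _ _ hX hY f hf

end Groth.Agent.S2346
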