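import Groth.Statements.S2348
import Groth.Agent.Lib.BlowUpInt

set_option autoImplicit false
set_option backward.isDefEq.respectTransparency false
set_option backward.isDefEq.respectTransparency.types false
set_option linter.style.haveILetI false
universe u
open CategoryTheory CategoryTheory.Limits AlgebraicGeometry
open EGA2

namespace Groth.Agent.S2348

/-- For an ideal of O_Y: let Y be an integral scheme, I a nonzero quasi-coherent ideal sheaf and b : X →
Y a blowing up of Y in I (characterised by its universal property). Then X is integral, b sends the
generic point of X to that of Y and induces a bijection on their residue fields (b is birational).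
The printed statement also asserts that b is surjective; the proof does not show this and it fails
when I is not of finite type, so it is left out. -/
theorem result {X Y : Scheme.{u}} [IsIntegral Y] (I : Y.IdealSheafData) (hI : I ≠ ⊥)
    (b : X ⟶ Y) (hb : BlowUp.IsBlowUp b I) :
    ∃ (_ : IsIntegral X), ∃ hgen : b.base (genericPoint X) = genericPoint Y,
      Function.Bijective (b.residueFieldMap (genericPoint X)).hom := by
  let U : Y.Opens := I.support.compl
  have hne : (U : Set Y).Nonempty := by
    rw [Set.nonempty_iff_ne_empty]
    intro h
    refine hI (Scheme.IdealSheafData.support_eq_top_iff.1 (TopologicalSpace.Closeds.ext ?_))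
    have h' : (I.support : Set Y)ᶜ = ∅ := h
    simpa using h'
  haveI := Groth.Agent.BlowUpX.isIso_restrict hb
  obtain ⟨y, hy⟩ := hne
  haveI : Nonempty X := by
    haveI : Surjective (b ∣_ U) := inferInstance
    obtain ⟨w, -⟩ := (b ∣_ U).surjective ⟨y, hy⟩
    exact ⟨w.1⟩
  rcases Groth.Agent.Lib.BlowUpInt.isEmpty_or_birational hb with hX | ⟨hX, hgen, hiso⟩
  · exact (IsEmpty.false (Classical.arbitrary X)).elim
  refine ⟨hX, hgen, ?_⟩
  haveI := hiso
  refine ⟨RingHom.injective _, fun z => ?_⟩
  obtain ⟨w, rfl⟩ := IsLocalRing.residue_surjective z
  obtain ⟨v, rfl⟩ := (ConcreteCategory.bijective_of_isIso (b.stalkMap (genericPoint X))).2 w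
  exact ⟨IsLocalRing.residue _ v, rfl⟩

end Groth.Agent.S2348
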