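import Groth.Statements.S2350
import Groth.Agent.InvX.GenLocus

set_option autoImplicit false
universe u
open CategoryTheory CategoryTheory.Limits AlgebraicGeometry
open EGA2

namespace Groth.Agent.S2350

/-- Let X be a scheme, L an invertible O_X-module and s a global section of L. Then the inclusion of the
open X_s (where s generates L) into X is an affine morphism. -/
theorem result (X : Scheme.{u}) (L : X.Modules) (hL : PicF.IsInvertible L) (s : Coh.structureModule X ⟶ L) :
    IsAffineHom (CohB1.genLocus L s).ι := by
  exact InvX.isAffineHom_genLocus_ι hL s

end Groth.Agent.S2350
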