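import Groth.Statements.S2351
import Groth.Agent.NormCurve.Normal

set_option autoImplicit false
universe u
open CategoryTheory CategoryTheory.Limits AlgebraicGeometry
open EGA2

namespace Groth.Agent.S2351

/-- Let X be an integral scheme and X' → X its normalization (integral closure of X in its function
field). Then X' is integral with integrally closed local rings, the morphism X' → X is surjective,
maps the generic point to the generic point and induces a bijection between the residue fields of
the generic points. (The quasi-compactness/quasi-separatedness binders on Spec K(X) → X always hold;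
they are only needed to form Mathlib's relative normalization.) -/
theorem result (X : Scheme.{u}) [IsIntegral X]
    [QuasiCompact (X.fromSpecStalk (genericPoint X))] [QuasiSeparated (X.fromSpecStalk (genericPoint X))] :
    ∃ (_ : IsIntegral (Curv2.normalization X)), Pi1.IsNormalScheme (Curv2.normalization X) ∧ Surjective (Curv2.normalizationι X) ∧
      ∃ hgen : (Curv2.normalizationι X).base (genericPoint (Curv2.normalization X)) = genericPoint X,
        Function.Bijective ((Curv2.normalizationι X).residueFieldMap (genericPoint (Curv2.normalization X))).hom := by
  let f := X.fromSpecStalk (genericPoint X)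
  haveI : IsDomain (X.presheaf.stalk (genericPoint X)) := inferInstanceAs (IsDomain X.functionField)
  haveI hint : IsIntegral (Curv2.normalization X) := inferInstanceAs (IsIntegral f.normalization)
  have hη : f.toNormalization (IsLocalRing.closedPoint _) = genericPoint (Curv2.normalization X) := by
    have hd := f.toNormalization.denseRange.closure_range
    have hsub : Subsingleton (Spec (X.presheaf.stalk (genericPoint X))) :=
      inferInstanceAs (Subsingleton (PrimeSpectrum X.functionField))
    rw [Set.range_eq_iff _ {f.toNormalization (IsLocalRing.closedPoint _)} |>.2
      ⟨fun z => congrArg f.toNormalization (Subsingleton.elim z _), fun b hb => ⟨_, hb.symm⟩⟩] at hd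
    exact IsGenericPoint.eq hd (genericPoint_spec _)
  have hgen : Curv2.normalizationι X (genericPoint (Curv2.normalization X)) = genericPoint X := by
    rw [← hη]
    show (f.toNormalization ≫ f.fromNormalization) _ = _
    rw [Scheme.Hom.toNormalization_fromNormalization]
    exact Scheme.fromSpecStalk_closedPoint
  refine ⟨hint, NormCurve.isNormalScheme_normalization X, ?_, hgen, ?_, ?_⟩
  · refine ⟨fun x => ?_⟩
    have hc : IsClosed (Set.range f.fromNormalization) := f.fromNormalization.isClosedMap.isClosed_range
    exact hc.stableUnderSpecialization ((genericPoint_specializes x)) ⟨_, hgen⟩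
  · exact RingHom.injective _
  intro z
  obtain ⟨z, rfl⟩ := IsLocalRing.residue_surjective z
  let N := Curv2.normalization X
  let y := f.toNormalization (IsLocalRing.closedPoint _)
  suffices H : Function.Surjective (Scheme.Hom.stalkMap (Curv2.normalizationι X) (genericPoint N)).hom by
    obtain ⟨a, rfl⟩ := H z
    exact ⟨IsLocalRing.residue _ a, rfl⟩
  suffices H : Function.Surjective (Scheme.Hom.stalkMap f.fromNormalization y).hom from hη ▸ H
  have hfield : IsField (f.normalization.presheaf.stalk (f.toNormalization (IsLocalRing.closedPoint _))) := by
    show IsField ((Curv2.normalization X).presheaf.stalk _)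
    rw [hη]
    exact Field.toIsField (Curv2.normalization X).functionField
  letI := hfield.toField
  intro a
  let c := Scheme.stalkClosedPointTo f.toNormalization
  have hcomp : Scheme.Hom.stalkMap f.fromNormalization y ≫ c =
      Scheme.stalkClosedPointTo (f.toNormalization ≫ f.fromNormalization) :=
    (Scheme.stalkClosedPointTo_comp _ _).symm
  have hiso : IsIso (Scheme.stalkClosedPointTo (f.toNormalization ≫ f.fromNormalization)) := by
    rw [show f.toNormalization ≫ f.fromNormalization = f from f.toNormalization_fromNormalization]
    rw [Scheme.stalkClosedPointTo_fromSpecStalk]
    infer_instance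
  obtain ⟨b, hb⟩ := ((ConcreteCategory.isIso_iff_bijective _).1 hiso).2 (c a)
  refine ⟨b, c.hom.injective ?_⟩
  rw [← hb, ← hcomp]
  rfl


end Groth.Agent.S2351
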