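import Groth.Statements.S2358
import Groth.Agent.Proj16.NormalExt

set_option autoImplicit false
universe u
open CategoryTheory CategoryTheory.Limits AlgebraicGeometry
open EGA2

namespace Groth.Agent.S2358

/-- Let X be an integral normal scheme, g : X' → X an integral morphism, U a dense open of X and s : U →
X' a section of g over U. Then there is a section of g over all of X extending s. -/
theorem result {X X' : Scheme.{u}} [IsIntegral X] (hX : Pi1.IsNormalScheme X)
    (g : X' ⟶ X) [IsIntegralHom g] (U : X.Opens) (hU : Dense (U : Set X)) (s : (U : Scheme.{u}) ⟶ X') (hs : s ≫ g = U.ι) :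
    ∃ s' : X ⟶ X', s' ≫ g = 𝟙 X ∧ U.ι ≫ s' = s := by
  obtain ⟨δ, hδ⟩ := Groth.Agent.Proj16.exists_genericLift U hU
  obtain ⟨t, ht, htσ⟩ := Groth.Agent.Proj16.exists_section_of_isIntegralHom hX g (δ ≫ s)
    (by rw [Category.assoc, hs, hδ])
  refine ⟨t, ht, Groth.Agent.Proj16.hom_ext_generic g U.ι _ _
    (by rw [Category.assoc, ht, hs, Category.comp_id]) fun δ' hδ' ↦ ?_⟩
  have hd : δ' = δ := (cancel_mono U.ι).mp (hδ'.trans hδ.symm)
  rw [← Category.assoc, hδ', htσ, hd]

end Groth.Agent.S2358
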