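import Groth.Statements.S2456
import Groth.Agent.Cohen4.Lift

set_option autoImplicit false
universe u
open EGA41

namespace Groth.Agent.S2456

open IsLocalRing in
/-- Let W be a Cohen ring (a field of characteristic zero, or a complete discrete valuation ring with
maximal ideal generated by the residue characteristic), C a complete Noetherian local ring and J ≠ C
an ideal of C. Then every local homomorphism u : W → C/J is induced by a local homomorphism v : W →
C. -/
theorem result {W C : Type u} [CommRing W] [IsLocalRing W] (hW : EGA41.IsCohenRingEGA W)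
    [CommRing C] [IsLocalRing C] [IsNoetherianRing C] [IsAdicComplete (maximalIdeal C) C]
    (J : Ideal C) (hJ : J ≠ ⊤) [IsLocalRing (C ⧸ J)] (u : W →+* C ⧸ J) [IsLocalHom u] :
    ∃ v : W →+* C, IsLocalHom v ∧ (Ideal.Quotient.mk J).comp v = u := by
  obtain ⟨v, hv, hvu⟩ := Cohen4.exists_lift hW J hJ u (Ideal.map_le_iff_le_comap.2 fun w hw => by
    obtain ⟨c, hc⟩ := Ideal.Quotient.mk_surjective (u w)
    rw [Ideal.mem_comap, ← hc]
    refine Ideal.mem_map_of_mem _ fun hu => (mem_maximalIdeal w).1 hw ?_
    exact isUnit_of_map_unit u w (hc ▸ hu.map _))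
  exact ⟨v, ((local_hom_TFAE v).out 0 2).2 hv, hvu⟩

end Groth.Agent.S2456
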