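import Groth.Statements.S2459
import Groth.Agent.Cohen4.Iso

set_option autoImplicit false
universe u
open EGA41

namespace Groth.Agent.S2459

open IsLocalRing in
/-- Let A be an Artinian local ring with maximal ideal 𝔪 and residue field of characteristic p (p = 0
allowed). Then A is isomorphic to a quotient of a Cohen ring if and only if 𝔪 is generated by p·1. -/
theorem result {A : Type u} [CommRing A] [IsLocalRing A] [IsArtinianRing A]
    (p : ℕ) [CharP (ResidueField A) p] :
    (∃ (W : Type u) (_ : CommRing W) (I : Ideal W), EGA41.IsCohenRingEGA W ∧ Nonempty (A ≃+* W ⧸ I)) ↔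
      maximalIdeal A = Ideal.span {(p : A)} := by
  exact Cohen4.artinian_quotient_iff p

end Groth.Agent.S2459
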