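import Groth.Statements.S2460
import Groth.Agent.Cohen4.Struct

set_option autoImplicit false
universe u
open EGA41

namespace Groth.Agent.S2460

open IsLocalRing in
/-- Let A be a complete Noetherian local domain containing a field k₀ such that the residue field of A
is a finite extension of k₀. Then there are n and an injective local k₀-algebra homomorphism from
the power series ring k₀[[T_1, …, T_n]] into A making A a finite module over it. -/
theorem result {k₀ A : Type u} [Field k₀] [CommRing A] [IsDomain A] [IsLocalRing A] [IsNoetherianRing A]
    [IsAdicComplete (maximalIdeal A) A] [Algebra k₀ A] [Module.Finite k₀ (ResidueField A)] :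
    ∃ (n : ℕ) (w : MvPowerSeries (Fin n) k₀ →ₐ[k₀] A), Function.Injective w ∧ IsLocalHom w.toRingHom ∧ w.toRingHom.Finite := by
  exact Cohen4.exists_normalization

end Groth.Agent.S2460
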