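import Groth.Statements.S2464
import Groth.Agent.PBasisLib.Universal

set_option autoImplicit false
universe u
open EGA41

namespace Groth.Agent.S2464

/-- Let p be a prime, B a ring of characteristic p and A → B an injective ring map whose image contains
every p-th power, and (x_α) a p-basis of B over A. Let E be an A-algebra and q : E → B a surjective
A-algebra homomorphism whose kernel K has K^p = 0. (i) q admits an A-algebra right inverse if and
only if, for all z ∈ E and a ∈ A with a ↦ q(z)^p in B, the image of a in E is z^p. (ii) When this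
holds, for every family (z_α) in E with q(z_α) = x_α there is a unique A-algebra homomorphism v : B
→ E with v(x_α) = z_α for all α, and q ∘ v is the identity. -/
theorem result (p : ℕ) [Fact p.Prime] {A B : Type u} [CommRing A] [CommRing B] [Algebra A B] [CharP B p]
    (hinj : Function.Injective (algebraMap A B)) (hpow : ∀ b : B, b ^ p ∈ Set.range (algebraMap A B))
    {ι : Type u} (x : ι → B) (hx : EGA41.IsPBasis p A x)
    {E : Type u} [CommRing E] [Algebra A E] (q : E →ₐ[A] B) (hq : Function.Surjective q) (hK : RingHom.ker q.toRingHom ^ p = ⊥) :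
    ((∃ v : B →ₐ[A] E, q.comp v = AlgHom.id A B) ↔ ∀ (z : E) (a : A), algebraMap A B a = q z ^ p → algebraMap A E a = z ^ p) ∧
    ((∀ (z : E) (a : A), algebraMap A B a = q z ^ p → algebraMap A E a = z ^ p) →
      ∀ z : ι → E, (∀ i, q (z i) = x i) →
        (∃! v : B →ₐ[A] E, ∀ i, v (x i) = z i) ∧ ∀ v : B →ₐ[A] E, (∀ i, v (x i) = z i) → q.comp v = AlgHom.id A B) := by
  have hS : ∀ s : EGA41.pPowerSubalgebra p A B, ∃ a : A, algebraMap A B a = s := by
    intro s
    have hle : EGA41.pPowerSubalgebra p A B ≤ ⊥ := Algebra.adjoin_le (by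
      rintro _ ⟨b, rfl⟩
      exact Algebra.mem_bot.mpr (hpow b))
    exact Algebra.mem_bot.mp (hle s.2)
  choose σ hσ using hS
  let φ : EGA41.pPowerSubalgebra p A B →+* E :=
    (algebraMap A E).comp
      { toFun := σ
        map_one' := hinj (by simp [hσ])
        map_zero' := hinj (by simp [hσ])
        map_add' := fun s t => hinj (by simp [hσ])
        map_mul' := fun s t => hinj (by simp [hσ]) }
  have main : (∀ (z : E) (a : A), algebraMap A B a = q z ^ p → algebraMap A E a = z ^ p) →
      ∀ z : ι → E, (∀ i, q (z i) = x i) →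
        (∃! v : B →ₐ[A] E, ∀ i, v (x i) = z i) ∧ ∀ v : B →ₐ[A] E, (∀ i, v (x i) = z i) → q.comp v = AlgHom.id A B := by
    intro h z hz
    obtain ⟨v, hv1, hv2⟩ := Groth.Agent.PBasisLib.exists_hom hx φ z (fun i => (h (z i) _ ((hσ _).trans (by rw [hz]))).symm)
    have hva : ∀ a : A, v (algebraMap A B a) = algebraMap A E a := fun a => by
      refine (hv1 ⟨_, Groth.Agent.PBasisLib.algebraMap_mem' p A a⟩).trans (congrArg (algebraMap A E) (hinj ?_))
      exact hσ _
    have hext : ∀ v' : B →ₐ[A] E, (∀ i, v' (x i) = z i) → v'.toRingHom = v := fun v' hv' =>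
      Groth.Agent.PBasisLib.hom_ext hx.2 (fun s => by
        rw [← hσ s]
        exact (v'.commutes _).trans (hva _).symm) (fun i => (hv' i).trans (hv2 i).symm)
    refine ⟨⟨⟨v, hva⟩, hv2, fun v' hv' => AlgHom.coe_ringHom_injective (hext v' hv')⟩, fun v' hv' => ?_⟩
    refine AlgHom.coe_ringHom_injective (Groth.Agent.PBasisLib.hom_ext hx.2 (fun s => ?_) (fun i => ?_))
    · rw [← hσ s]
      exact (q.comp v').commutes _
    · show q (v' (x i)) = x i
      rw [hv', hz]
  refine ⟨⟨fun ⟨v, hv⟩ z a ha => ?_, fun h => ?_⟩, main⟩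
  · rcases subsingleton_or_nontrivial E with hE | hE
    · exact Subsingleton.elim _ _
    have hpA : (p : A) = 0 := hinj (by rw [map_natCast, map_zero, CharP.cast_eq_zero])
    have hpE : (p : E) = 0 := by rw [← map_natCast (algebraMap A E), hpA, map_zero]
    haveI : CharP E p := (CharP.charP_iff_prime_eq_zero Fact.out).mpr hpE
    have hk : z - v (q z) ∈ RingHom.ker q.toRingHom := by
      show q (z - v (q z)) = 0
      rw [map_sub, sub_eq_zero]
      exact (DFunLike.congr_fun hv (q z)).symm
    have h0 : (z - v (q z)) ^ p = 0 := by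
      have := Ideal.pow_mem_pow hk p
      rwa [hK, Ideal.mem_bot] at this
    rw [sub_pow_char, sub_eq_zero] at h0
    rw [h0, ← map_pow, ← ha, v.commutes]
  · obtain ⟨⟨v, hv, -⟩, hcomp⟩ := main h (fun i => Function.surjInv hq (x i)) (fun i => Function.surjInv_eq hq _)
    exact ⟨v, hcomp v hv⟩

end Groth.Agent.S2464
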