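import Groth.Statements.S2465
import Groth.Agent.PBasisLib.Universal

set_option autoImplicit false
universe u
open EGA41

namespace Groth.Agent.S2465

/-- Let p be a prime, B a ring of characteristic p, A → B injective with image containing all p-th
powers, (x_α) a p-basis of B over A, and L a B-module. (i) An additive derivation D : A → L extends
to a derivation of B if and only if D vanishes on the elements of A mapping to p-th powers. (ii) In
that case, for every family (y_α) in L there is a unique derivation D' of B into L extending D with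
D'(x_α) = y_α for all α. -/
theorem result (p : ℕ) [Fact p.Prime] {A B : Type u} [CommRing A] [CommRing B] [Algebra A B] [CharP B p]
    (hinj : Function.Injective (algebraMap A B)) (hpow : ∀ b : B, b ^ p ∈ Set.range (algebraMap A B))
    {ι : Type u} (x : ι → B) (hx : EGA41.IsPBasis p A x)
    (L : Type u) [AddCommGroup L] [Module B L] [Module A L] [IsScalarTower A B L] (D : Derivation ℤ A L) :
    ((∃ D' : Derivation ℤ B L, ∀ a : A, D' (algebraMap A B a) = D a) ↔ ∀ (a : A) (b : B), algebraMap A B a = b ^ p → D a = 0) ∧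
    ((∀ (a : A) (b : B), algebraMap A B a = b ^ p → D a = 0) →
      ∀ y : ι → L, ∃! D' : Derivation ℤ B L, (∀ a : A, D' (algebraMap A B a) = D a) ∧ ∀ i, D' (x i) = y i) := by
  have hmem : ∀ s : EGA41.pPowerSubalgebra p A B, ∃ a : A, algebraMap A B a = s := by
    intro s
    have hle : EGA41.pPowerSubalgebra p A B ≤ ⊥ := Algebra.adjoin_le (by
      rintro _ ⟨b, rfl⟩
      exact Algebra.mem_bot.mpr (hpow b))
    exact Algebra.mem_bot.mp (hle s.2)
  choose σ hσ using hmem
  have main : (∀ (a : A) (b : B), algebraMap A B a = b ^ p → D a = 0) →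
      ∀ y : ι → L, ∃! D' : Derivation ℤ B L, (∀ a : A, D' (algebraMap A B a) = D a) ∧ ∀ i, D' (x i) = y i := by
    intro hD y
    let δ : EGA41.pPowerSubalgebra p A B →+ L := AddMonoidHom.mk' (fun s => D (σ s)) (fun s t => by
      have : σ (s + t) = σ s + σ t := hinj (by simp [hσ])
      show D (σ (s + t)) = D (σ s) + D (σ t)
      rw [this, map_add])
    have hδ : ∀ s t, δ (s * t) = (s : B) • δ t + (t : B) • δ s := fun s t => by
      have : σ (s * t) = σ s * σ t := hinj (by simp [hσ])
      show D (σ (s * t)) = _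
      rw [this, D.leibniz, ← hσ s, ← hσ t, algebraMap_smul, algebraMap_smul]
      rfl
    have hδ0 : ∀ i, δ ⟨x i ^ p, Groth.Agent.PBasisLib.pow_mem p A (x i)⟩ = 0 := fun i => hD _ (x i) (hσ _)
    obtain ⟨D', ⟨h1, h2⟩, huniq⟩ := Groth.Agent.PBasisLib.existsUnique_derivation_int hx δ hδ hδ0 y
    have key : ∀ a : A, D' (algebraMap A B a) = D a := fun a => by
      have := h1 ⟨_, Groth.Agent.PBasisLib.algebraMap_mem' p A a⟩
      refine this.trans (congrArg D (hinj ?_))
      rw [hσ]
    refine ⟨D', ⟨key, h2⟩, fun D'' h'' => huniq D'' ⟨fun s => ?_, h''.2⟩⟩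
    rw [← hσ s, h''.1]
    rfl
  refine ⟨⟨fun ⟨D', hD'⟩ a b hab => ?_, fun h => ?_⟩, main⟩
  · rw [← hD' a, hab]
    exact Groth.Agent.PBasisLib.derivation_pow_eq_zero D' b
  · obtain ⟨D', ⟨h1, -⟩, -⟩ := main h 0
    exact ⟨D', h1⟩

end Groth.Agent.S2465
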