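import Groth.Statements.S2467
import Groth.Agent.PBasisLib.Field

set_option autoImplicit false
universe u
open EGA41

namespace Groth.Agent.S2467

/-- Let k ⊆ K be fields of characteristic p > 0, S ⊆ K a system of p-generators of K over k and L ⊆ S a
subset which is p-free over k. Then there is a p-basis B of K over k with L ⊆ B ⊆ S. In particular
every extension of k has a p-basis over k. -/
theorem result (p : ℕ) [Fact p.Prime] {k K : Type u} [Field k] [Field K] [Algebra k K] [CharP K p]
    (S L : Set K) (hLS : L ⊆ S) (hS : EGA41.IsPGenerating p k (Subtype.val : S → K)) (hL : EGA41.IsPIndependent p k (Subtype.val : L → K)) :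
    ∃ B : Set K, L ⊆ B ∧ B ⊆ S ∧ EGA41.IsPBasis p k (Subtype.val : B → K) := by
  exact Groth.Agent.PBasisLib.exists_isPBasis p k hLS
    ((Groth.Agent.PBasisLib.free_val_iff p k L).mp (Groth.Agent.PBasisLib.free_of_isPIndependent p k hL))
    (Subtype.range_coe (s := S) ▸ (Groth.Agent.PBasisLib.isPGenerating_iff_Fp p k _).mp hS)

end Groth.Agent.S2467
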