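import Groth.Statements.S2470
import Groth.Agent.Cohen4.RegHom

set_option autoImplicit false
universe u
open EGA41

namespace Groth.Agent.S2470

open IsLocalRing in
/-- Let A → B be a local homomorphism of Noetherian local rings with maximal ideals 𝔪, 𝔫 and residue
fields k, k', and let B₀ = B/𝔪B be the closed fibre. The following are equivalent: (a) B is regular
and the canonical map (𝔪/𝔪²) ⊗_k k' → 𝔫/𝔫² is injective — stated here through dimensions, as
rank_{k'} 𝔫/𝔫² = rank_k 𝔪/𝔪² + rank_{k'} of the cotangent space of B₀, which is equivalent since the
cokernel of that map is the cotangent space of B₀; (c) B and B₀ are regular and B is flat over A;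
(d) A and B₀ are regular and B is flat over A; (e) A and B₀ are regular and dim B = dim A + dim B₀.
(Condition (b) of the source, on regular systems of parameters, is not stated.) -/
theorem result {A B : Type u} [CommRing A] [IsLocalRing A] [IsNoetherianRing A] [CommRing B] [IsLocalRing B] [IsNoetherianRing B]
    [Algebra A B] [IsLocalHom (algebraMap A B)] [IsLocalRing (B ⧸ (maximalIdeal A).map (algebraMap A B))] :
    [IsRegularLocalRing B ∧
       Module.finrank (ResidueField B) (CotangentSpace B) =
         Module.finrank (ResidueField A) (CotangentSpace A) +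
           Module.finrank (ResidueField (B ⧸ (maximalIdeal A).map (algebraMap A B))) (CotangentSpace (B ⧸ (maximalIdeal A).map (algebraMap A B))),
     IsRegularLocalRing B ∧ IsRegularLocalRing (B ⧸ (maximalIdeal A).map (algebraMap A B)) ∧ Module.Flat A B,
     IsRegularLocalRing A ∧ IsRegularLocalRing (B ⧸ (maximalIdeal A).map (algebraMap A B)) ∧ Module.Flat A B,
     IsRegularLocalRing A ∧ IsRegularLocalRing (B ⧸ (maximalIdeal A).map (algebraMap A B)) ∧
       ringKrullDim B = ringKrullDim A + ringKrullDim (B ⧸ (maximalIdeal A).map (algebraMap A B))].TFAE := by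
  exact Cohen4.regularHom_tfae

end Groth.Agent.S2470
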