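import Groth.Statements.S2471
import Groth.Agent.RegFS6.Deriv

set_option autoImplicit false
universe u
open EGA41

namespace Groth.Agent.S2471

open IsLocalRing in
/-- Let k be a field and A a Noetherian local k-algebra with maximal ideal 𝔪 and residue field K. Then A
is formally smooth over k for the 𝔪-adic topology if and only if A is regular and the canonical map
Ω_{k/ℤ} ⊗_k K → Ω_{A/ℤ} ⊗_A K is injective. (The published criterion has a first condition that, for
Noetherian A, amounts to regularity of A; it is stated here for Noetherian A only.) -/
theorem result {k A : Type u} [Field k] [CommRing A] [IsLocalRing A] [IsNoetherianRing A] [Algebra k A] :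
    CAlgX.IsAdicFormallySmooth k A (maximalIdeal A) ↔
      (IsRegularLocalRing A ∧ Function.Injective ((KaehlerDifferential.mapBaseChange ℤ k A).lTensor (ResidueField A))) := by
    refine ⟨fun h => ⟨?_, RegFS6.injective_lTensor_of_fs h⟩, fun ⟨hreg, hinj⟩ => ?_⟩
    · haveI := FlatLoc6.isRegularRing_of_geometricallyRegular (RegFS6.geometricallyRegular_of_fs h)
      exact IsRegularLocalRing.of_isRegularRing_of_isLocalRing A
    haveI := hreg
    rcases CharP.exists' k with h0 | ⟨p, hp, hk⟩
    · exact RegFS6.fs_of_regular k A
    · haveI := hp
      let P := ULift.{u} (ZMod p)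
      haveI : Finite P := Finite.of_equiv _ Equiv.ulift.symm
      haveI : PerfectField P := PerfectField.ofFinite
      letI : Algebra P k := ((ZMod.castHom dvd_rfl k).comp (ULift.ringEquiv (R := ZMod p)).toRingHom).toAlgebra
      exact RegFS6.fs_of_derivation_extend P fun F _ _ _ _ hF δ => RegFS6.exists_derivation_of_injective hinj hF δ

end Groth.Agent.S2471
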