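import Groth.Statements.S2474
import Groth.Agent.CompleteNagata.Complete
import Groth.Agent.S0543
import Mathlib
-- import your own Groth.Agent.* helpers here

set_option autoImplicit false
universe u
open EGA41

namespace Groth.Agent.S2474

open IsLocalRing TensorProduct

/-- One point of `K' ⊗ Â` gives a finite `Â`-domain `D` receiving the integral closure. -/
theorem exists_finite_domain {A R K' : Type u} [CommRing A] [IsDomain A] [CommRing R] [Algebra A R]
    [Field K'] [Algebra A K'] [FaithfulSMul A K'] [Algebra (FractionRing A) K']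
    [IsScalarTower A (FractionRing A) K'] [FiniteDimensional (FractionRing A) K']
    [IsLocalRing R] [IsNoetherianRing R] [IsAdicComplete (maximalIdeal R) R]
    [Algebra.EssFiniteType R (R ⊗[A] K')] (q : Ideal (R ⊗[A] K')) [q.IsPrime] :
    ∃ (D : Type u) (_ : CommRing D) (_ : Algebra R D) (_ : Module.Finite R D) (φ : integralClosure A K' →+* D)
      (ψ : D →+* q.ResidueField), Function.Injective ψ ∧
      (∀ r, ψ (algebraMap R D r) = algebraMap (R ⊗[A] K') q.ResidueField (r ⊗ₜ 1)) ∧
      (∀ x, ψ (φ x) = algebraMap (R ⊗[A] K') q.ResidueField (1 ⊗ₜ (x : K'))) ∧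
      (∀ a, φ (algebraMap A _ a) = algebraMap R D (algebraMap A R a)) := by
  let L := q.ResidueField
  letI : Algebra K' L :=
    ((algebraMap (R ⊗[A] K') L).comp (Algebra.TensorProduct.includeRight (R := A) (A := R) (B := K')).toRingHom).toAlgebra
  let p : Ideal R := RingHom.ker (algebraMap R L)
  haveI : p.IsPrime := RingHom.ker_isPrime _
  letI : Algebra (R ⧸ p) L := (Ideal.Quotient.lift p (algebraMap R L) fun a ha => ha).toAlgebra
  haveI : IsScalarTower R (R ⧸ p) L := .of_algebraMap_eq fun _ => rfl
  have hinjp : Function.Injective (algebraMap (R ⧸ p) L) := RingHom.lift_injective_of_ker_le_ideal p (fun a ha => ha) le_rfl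
  haveI : FaithfulSMul (R ⧸ p) L := (faithfulSMul_iff_algebraMap_injective _ _).2 hinjp
  let F := FractionRing (R ⧸ p)
  letI : Algebra F L := FractionRing.liftAlgebra (R ⧸ p) L
  haveI : IsScalarTower (R ⧸ p) F L := FractionRing.isScalarTower_liftAlgebra _ _
  haveI : IsScalarTower R F L := .of_algebraMap_eq fun r => by
    rw [IsScalarTower.algebraMap_apply R (R ⧸ p) L, IsScalarTower.algebraMap_apply (R ⧸ p) F L,
      ← IsScalarTower.algebraMap_apply R (R ⧸ p) F]
  haveI : Algebra.EssFiniteType R L := Algebra.EssFiniteType.comp R (R ⊗[A] K') L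
  haveI : Algebra.EssFiniteType F L := Algebra.EssFiniteType.of_comp R F L
  have hA : ∀ a : A, algebraMap R L (algebraMap A R a) = algebraMap K' L (algebraMap A K' a) := fun a => by
    show algebraMap R L (algebraMap A R a) = algebraMap (R ⊗[A] K') L (1 ⊗ₜ algebraMap A K' a)
    rw [IsScalarTower.algebraMap_apply R (R ⊗[A] K') L, Algebra.TensorProduct.algebraMap_apply]
    congr 1
    exact ((Algebra.TensorProduct.includeRight : K' →ₐ[A] R ⊗[A] K').commutes a).symm
  -- elements algebraic over `A` land among the algebraic ones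
  let W : IntermediateField F L := algebraicClosure F L
  have hK : ∀ x : K', algebraMap K' L x ∈ W := fun x => by
    have halg : IsAlgebraic A x := by
      haveI : Algebra.IsAlgebraic (FractionRing A) K' := Algebra.IsAlgebraic.of_finite _ _
      exact (IsFractionRing.isAlgebraic_iff A (FractionRing A) K').2 (Algebra.IsAlgebraic.isAlgebraic x)
    obtain ⟨P, hP0, hP⟩ := halg
    rw [mem_algebraicClosure_iff]
    let θ : A →+* F := (algebraMap R F).comp (algebraMap A R)
    have hθ : (algebraMap F L).comp θ = (algebraMap K' L).comp (algebraMap A K') := RingHom.ext fun a => by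
      show algebraMap F L (algebraMap R F (algebraMap A R a)) = _
      rw [← IsScalarTower.algebraMap_apply R F L]
      exact hA a
    have hθi : Function.Injective θ := by
      refine Function.Injective.of_comp (f := algebraMap F L) ?_
      rw [← RingHom.coe_comp, hθ, RingHom.coe_comp]
      exact (algebraMap K' L).injective.comp (FaithfulSMul.algebraMap_injective A K')
    refine ⟨P.map θ, (Polynomial.map_ne_zero_iff hθi).2 hP0, ?_⟩
    rw [Polynomial.aeval_def, Polynomial.eval₂_map, hθ, ← Polynomial.hom_eval₂, ← Polynomial.aeval_def, hP,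
      map_zero]
  have hE : ∀ z : R ⊗[A] K', algebraMap (R ⊗[A] K') L z ∈ W := fun z => by
    induction z using TensorProduct.induction_on with
    | zero => rw [map_zero]; exact zero_mem _
    | tmul r x =>
      rw [show r ⊗ₜ[A] x = (r ⊗ₜ 1) * (1 ⊗ₜ x) by simp, map_mul]
      refine mul_mem ?_ (hK x)
      rw [show r ⊗ₜ[A] (1 : K') = algebraMap R (R ⊗[A] K') r from rfl,
        ← IsScalarTower.algebraMap_apply R (R ⊗[A] K') L, IsScalarTower.algebraMap_apply R F L]
      exact algebraMap_mem W _
    | add a b ha hb => rw [map_add]; exact add_mem ha hb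
  haveI : Algebra.IsAlgebraic F L := ⟨fun l => by
    obtain ⟨x, y, -, rfl⟩ := IsFractionRing.div_surjective ((R ⊗[A] K') ⧸ q) l
    obtain ⟨x, rfl⟩ := Ideal.Quotient.mk_surjective x
    obtain ⟨y, rfl⟩ := Ideal.Quotient.mk_surjective y
    exact (mem_algebraicClosure_iff).1 (div_mem (hE x) (hE y))⟩
  haveI : FiniteDimensional F L := Algebra.finite_of_essFiniteType_of_isAlgebraic
  have hN2 : CAlg.IsN2 (R ⧸ p) := (CompleteNagata.isNagata_of_complete R).2 p
  haveI : Module.Finite (R ⧸ p) (integralClosure (R ⧸ p) L) := hN2 L inferInstance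
  let D := integralClosure (R ⧸ p) L
  have hφ : ∀ x : integralClosure A K', algebraMap K' L (x : K') ∈ D := fun x => by
    obtain ⟨P, hm, hP⟩ := x.2
    refine ⟨P.map ((Ideal.Quotient.mk p).comp (algebraMap A R)), hm.map _, ?_⟩
    rw [Polynomial.eval₂_map, show (algebraMap (R ⧸ p) L).comp ((Ideal.Quotient.mk p).comp (algebraMap A R)) =
      (algebraMap K' L).comp (algebraMap A K') from RingHom.ext hA, ← Polynomial.hom_eval₂, hP, map_zero]
  refine ⟨D, inferInstance, inferInstance, Module.Finite.trans (R ⧸ p) D,
    ((algebraMap K' L).comp (integralClosure A K').val.toRingHom).codRestrict D hφ, D.val.toRingHom,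
    Subtype.val_injective, fun r => ?_, fun x => rfl, fun a => Subtype.ext ?_⟩
  · show algebraMap R L r = _
    rw [IsScalarTower.algebraMap_apply R (R ⊗[A] K') L, Algebra.TensorProduct.algebraMap_apply]
    rfl
  · show algebraMap K' L (algebraMap A K' a) = algebraMap R L (algebraMap A R a)
    exact (hA a).symm

end Groth.Agent.S2474

namespace Groth.Agent.S2474

open IsLocalRing in
/-- Let A be a Noetherian local domain with fraction field K, K' a finite extension of K and A' the
integral closure of A in K'. Then A' has only finitely many maximal ideals, and for every maximal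
ideal 𝔪' of A' the field A'/𝔪' is a finite extension of the residue field of A (equivalently a
finite A-module). -/
theorem result {A K' : Type u} [CommRing A] [IsDomain A] [IsLocalRing A] [IsNoetherianRing A]
    [Field K'] [Algebra A K'] [Algebra (FractionRing A) K'] [IsScalarTower A (FractionRing A) K'] [FiniteDimensional (FractionRing A) K'] :
    {m : Ideal (integralClosure A K') | m.IsMaximal}.Finite ∧
      ∀ (m : Ideal (integralClosure A K')), m.IsMaximal → Module.Finite A (integralClosure A K' ⧸ m) := by
  classical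
  open TensorProduct in
  haveI : FaithfulSMul A K' := by
    rw [faithfulSMul_iff_algebraMap_injective, IsScalarTower.algebraMap_eq A (FractionRing A) K']
    exact (algebraMap (FractionRing A) K').injective.comp (IsFractionRing.injective A (FractionRing A))
  let R := AdicCompletion (maximalIdeal A) A
  haveI : IsNoetherianRing R := Groth.Agent.S0543.result A (maximalIdeal A)
  haveI : IsLocalHom (algebraMap A R) := AdicCompletion.algebraMap_isLocalHom_of_fg (IsNoetherian.noetherian _)
  haveI : Module.FaithfullyFlat A R := Module.FaithfullyFlat.of_flat_of_isLocalHom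
  haveI : Algebra.EssFiniteType A (FractionRing A) := Algebra.EssFiniteType.of_isLocalization _ (nonZeroDivisors A)
  haveI : Algebra.EssFiniteType A K' := Algebra.EssFiniteType.comp A (FractionRing A) K'
  haveI : IsNoetherianRing (R ⊗[A] K') := Algebra.EssFiniteType.isNoetherianRing R _
  choose D hD1 hD2 hD3 φ ψ hψ hψR hψφ hφA using fun q : {q : Ideal (R ⊗[A] K') // q ∈ minimalPrimes (R ⊗[A] K')} =>
    haveI : q.1.IsPrime := q.2.1.1
    Groth.Agent.S2474.exists_finite_domain (A := A) (R := R) (K' := K') q.1
  haveI : Finite {q : Ideal (R ⊗[A] K') // q ∈ minimalPrimes (R ⊗[A] K')} :=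
    (minimalPrimes.finite_of_isNoetherianRing (R ⊗[A] K')).to_subtype
  let C0 := Σ q, {M : Ideal (D q) // M.IsMaximal}
  haveI : ∀ q, Finite {M : Ideal (D q) // M.IsMaximal} := fun q => by
    haveI : Algebra.QuasiFinite R (D q) := inferInstance
    haveI : Algebra.IsIntegral R (D q) := Algebra.IsIntegral.of_finite _ _
    have hfin := Algebra.QuasiFinite.finite_primesOver (S := D q) (maximalIdeal R)
    have hsub : {M : Ideal (D q) | M.IsMaximal} ⊆ (maximalIdeal R).primesOver (D q) := fun M (hM : M.IsMaximal) => by
      haveI := hM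
      exact ⟨Ideal.IsMaximal.isPrime ‹M.IsMaximal›,
        ⟨(eq_maximalIdeal (Ideal.isMaximal_comap_of_isIntegral_of_isMaximal (R := R) M)).symm⟩⟩
    exact (hfin.subset hsub).to_subtype
  let μ : C0 → Ideal (integralClosure A K') := fun c => c.2.1.comap (φ c.1)
  have key : ∀ m : Ideal (integralClosure A K'), m.IsMaximal → ∃ c : C0, μ c = m := by
    intro m hm
    -- every finitely generated stage is seen by one of the candidates
    have stage : ∀ t : Finset (integralClosure A K'), ∃ c : C0, ∀ x ∈ t, x ∈ μ c ↔ x ∈ m := by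
      intro t
      let C : Subalgebra A (integralClosure A K') := Algebra.adjoin A (t : Set (integralClosure A K'))
      haveI : Algebra.IsIntegral A (integralClosure A K') := inferInstance
      haveI : Algebra.IsIntegral A C := ⟨fun x => (isIntegral_algHom_iff C.val Subtype.val_injective).1
        (Algebra.IsIntegral.isIntegral (x : integralClosure A K'))⟩
      haveI : IsDomain C := inferInstance
      let n : Ideal C := m.comap C.val
      haveI : n.IsPrime := Ideal.IsPrime.comap _
      haveI hnmax : n.IsMaximal := by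
        refine Ideal.isMaximal_of_isIntegral_of_isMaximal_comap (R := A) n ?_
        haveI := Ideal.isMaximal_comap_of_isIntegral_of_isMaximal (R := A) m
        exact ‹(m.comap (algebraMap A (integralClosure A K'))).IsMaximal›
      let ι : C →ₐ[A] K' := (integralClosure A K').val.comp C.val
      let g : C ⊗[A] R →ₐ[A] R ⊗[A] K' :=
        (Algebra.TensorProduct.comm A K' R).toAlgHom.comp (Algebra.TensorProduct.map ι (AlgHom.id A R))
      have hg : ∀ (c : C) (r : R), g (c ⊗ₜ r) = r ⊗ₜ ι c := fun c r => rfl
      have hinj : Function.Injective g :=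
        (Algebra.TensorProduct.comm A K' R).injective.comp
          (Module.Flat.rTensor_preserves_injective_linearMap (M := R) ι.toLinearMap
            (Subtype.val_injective.comp Subtype.val_injective))
      obtain ⟨n₁, hn₁⟩ := PrimeSpectrum.comap_surjective_of_faithfullyFlat (A := C) (B := C ⊗[A] R) ⟨n, inferInstance⟩
      obtain ⟨n', hn'max, hn₁'⟩ := Ideal.exists_le_maximal n₁.asIdeal n₁.isPrime.ne_top
      have hn' : n'.comap (algebraMap C (C ⊗[A] R)) = n := by
        refine (hnmax.eq_of_le (Ideal.comap_ne_top _ hn'max.ne_top) ?_).symm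
        exact (congrArg PrimeSpectrum.asIdeal hn₁).ge.trans (Ideal.comap_mono hn₁')
      haveI := hn'max.isPrime
      obtain ⟨q', hq', hq'n⟩ := Ideal.exists_minimalPrimes_le (bot_le : (⊥ : Ideal (C ⊗[A] R)) ≤ n')
      haveI : q'.IsPrime := hq'.1.1
      obtain ⟨Q, hQm, hQ⟩ : ∃ Q, Q ∈ minimalPrimes (R ⊗[A] K') ∧ Q.comap g.toRingHom = q' := by
        refine Ideal.exists_minimalPrimes_comap_eq g.toRingHom q' ?_
        rw [Ideal.comap_bot_of_injective g.toRingHom hinj]
        exact hq'
      let q0 : {q : Ideal (R ⊗[A] K') // q ∈ minimalPrimes (R ⊗[A] K')} := ⟨Q, hQm⟩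
      haveI : Q.IsPrime := hQm.1.1
      -- `C ⊗ R → D`
      let β : C ⊗[A] R →+* Q.ResidueField := (algebraMap (R ⊗[A] K') Q.ResidueField).comp g.toRingHom
      have hβ : ∀ z, β z ∈ (ψ q0).range := fun z => by
        induction z using TensorProduct.induction_on with
        | zero => rw [map_zero]; exact zero_mem _
        | tmul c r =>
          refine ⟨algebraMap R (D q0) r * φ q0 c.1, ?_⟩
          rw [map_mul, hψR, hψφ, ← map_mul, Algebra.TensorProduct.tmul_mul_tmul, mul_one, one_mul]
          rfl
        | add a b ha hb => rw [map_add]; exact add_mem ha hb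
      let η : C ⊗[A] R →+* D q0 :=
        (RingEquiv.ofBijective (ψ q0).rangeRestrict
          ⟨fun a b h => hψ q0 (congrArg Subtype.val h), (ψ q0).rangeRestrict_surjective⟩).symm.toRingHom.comp
          (β.codRestrict (ψ q0).range hβ)
      have hη : ∀ z, ψ q0 (η z) = β z := fun z =>
        congrArg Subtype.val (RingEquiv.apply_symm_apply (RingEquiv.ofBijective (ψ q0).rangeRestrict
          ⟨fun a b h => hψ q0 (congrArg Subtype.val h), (ψ q0).rangeRestrict_surjective⟩) (β.codRestrict (ψ q0).range hβ z))
      letI : Algebra (C ⊗[A] R) (D q0) := η.toAlgebra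
      haveI : Algebra.IsIntegral (C ⊗[A] R) (D q0) := ⟨fun d => by
        obtain ⟨P, hP, hPd⟩ := Algebra.IsIntegral.isIntegral (R := R) d
        refine ⟨P.map Algebra.TensorProduct.includeRight.toRingHom, hP.map _, ?_⟩
        have hcomp : η.comp (Algebra.TensorProduct.includeRight : R →ₐ[A] C ⊗[A] R).toRingHom =
            algebraMap R (D q0) := RingHom.ext fun r => hψ q0 <| by
          rw [RingHom.comp_apply, hη, hψR]
          show algebraMap (R ⊗[A] K') Q.ResidueField (g ((1 : C) ⊗ₜ r)) = _
          rw [hg, map_one]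
        rw [Polynomial.eval₂_map, RingHom.algebraMap_toAlgebra, hcomp, hPd]⟩
      have hker : (⊥ : Ideal (D q0)).comap (algebraMap (C ⊗[A] R) (D q0)) ≤ n' := fun z hz => by
        rw [Ideal.mem_comap, Ideal.mem_bot] at hz
        refine hq'n ?_
        rw [← hQ, Ideal.mem_comap]
        refine (Ideal.algebraMap_residueField_eq_zero (I := Q)).1 ?_
        show β z = 0
        rw [← hη, show η z = 0 from hz, map_zero]
      obtain ⟨M, -, hMp, hM⟩ := Ideal.exists_ideal_over_prime_of_isIntegral n' (⊥ : Ideal (D q0)) hker
      haveI : M.IsMaximal := Ideal.isMaximal_of_isIntegral_of_isMaximal_comap (R := C ⊗[A] R) M (hM ▸ hn'max)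
      refine ⟨⟨q0, M, inferInstance⟩, fun x hx => ?_⟩
      have hxC : x ∈ C := Algebra.subset_adjoin hx
      have e : φ q0 x = η ((⟨x, hxC⟩ : C) ⊗ₜ 1) := hψ q0 <| by
        rw [hη, hψφ]
        show _ = algebraMap (R ⊗[A] K') Q.ResidueField (g _)
        rw [hg]
        rfl
      show φ q0 x ∈ M ↔ _
      rw [e]
      show (⟨x, hxC⟩ : C) ⊗ₜ 1 ∈ M.comap (algebraMap (C ⊗[A] R) (D q0)) ↔ _
      rw [hM]
      show (algebraMap C (C ⊗[A] R) ⟨x, hxC⟩) ∈ n' ↔ _
      rw [← Ideal.mem_comap, hn']
      rfl
    -- one candidate works for all stages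
    by_contra hne
    push Not at hne
    have hx : ∀ c : C0, ∃ x, ¬ (x ∈ μ c ↔ x ∈ m) := fun c => by
      by_contra h'
      push Not at h'
      exact hne c (Ideal.ext h')
    choose x hx using hx
    haveI : Fintype C0 := Fintype.ofFinite C0
    obtain ⟨c, hc⟩ := stage (Finset.univ.image x)
    exact hx c (hc _ (Finset.mem_image_of_mem _ (Finset.mem_univ c)))
  refine ⟨(Set.finite_range μ).subset fun m hm => (key m hm), fun m hm => ?_⟩
  obtain ⟨⟨q, M, hM⟩, rfl⟩ := key m hm
  haveI := hM
  letI : Algebra A (D q) := ((algebraMap R (D q)).comp (algebraMap A R)).toAlgebra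
  haveI : IsScalarTower A R (D q) := .of_algebraMap_eq fun _ => rfl
  let φA : integralClosure A K' →ₐ[A] D q := { φ q with commutes' := hφA q }
  let χ : (integralClosure A K' ⧸ μ ⟨q, M, hM⟩) →ₐ[A] D q ⧸ M :=
    Ideal.quotientMapₐ M φA le_rfl
  have hχ : Function.Injective χ := Ideal.quotientMap_injective
  haveI : Module.Finite A (D q ⧸ M) := by
    haveI : Algebra.IsIntegral R (D q) := Algebra.IsIntegral.of_finite _ _
    have hmax : maximalIdeal R ≤ M.comap (algebraMap R (D q)) :=
      (eq_maximalIdeal (Ideal.isMaximal_comap_of_isIntegral_of_isMaximal (R := R) M)).ge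
    haveI : Module.Finite R (D q ⧸ M) := Module.Finite.of_surjective (Ideal.Quotient.mkₐ R M).toLinearMap Ideal.Quotient.mk_surjective
    obtain ⟨S, hS⟩ := Module.Finite.fg_top (R := R) (M := D q ⧸ M)
    refine ⟨⟨S, eq_top_iff.2 fun z hz' => ?_⟩⟩
    have hz : z ∈ Submodule.span R (S : Set (D q ⧸ M)) := by rw [hS]; trivial
    clear hz'
    induction hz using Submodule.span_induction with
    | mem x hx => exact Submodule.subset_span hx
    | zero => exact zero_mem _
    | add a b _ _ ha hb => exact add_mem ha hb
    | smul r x _ hx =>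
      obtain ⟨a, ha⟩ : ∃ a : A, r - algebraMap A R a ∈ maximalIdeal R := by
        obtain ⟨y, hy⟩ := (AdicCompletion.residueField_map_bijective A).2 (residue R r)
        obtain ⟨a, rfl⟩ := residue_surjective y
        rw [ResidueField.map_residue] at hy
        exact ⟨a, (residue_eq_zero_iff _).1 (by rw [map_sub, ← hy]; exact sub_self _)⟩
      have h0 : (r - algebraMap A R a) • x = 0 := by
        rw [Algebra.smul_def, show algebraMap R (D q ⧸ M) (r - algebraMap A R a) = 0 from
          Ideal.Quotient.eq_zero_iff_mem.2 (hmax ha), zero_mul]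
      rw [sub_smul, sub_eq_zero, algebraMap_smul] at h0
      rw [h0]
      exact Submodule.smul_mem _ a hx
  exact Module.Finite.of_injective χ.toLinearMap hχ


end Groth.Agent.S2474
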