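import Groth.Statements.S2475
import Groth.Agent.PBasisLib.Inter
import Mathlib

set_option autoImplicit false
universe u
open EGA41

namespace Groth.Agent.S2475

/-- Let K be a field of characteristic p > 0, k₀ ⊆ K a subfield and (k_α) a decreasing filtered family
of subfields of K containing k₀. Then ⋂_α k_α(K^p) = k₀(K^p) if and only if the canonical map
Ω_{K/k₀} → lim_α Ω_{K/k_α} is injective (an element of Ω_{K/k₀} whose image in every Ω_{K/k_α}
vanishes is zero). (Conditions (b), (b') of the source, on admissible subfields, are not stated.) -/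
theorem result (p : ℕ) [Fact p.Prime] {k₀ K : Type u} [Field k₀] [Field K] [Algebra k₀ K] [CharP K p]
    {ι : Type u} [Preorder ι] [IsDirected ι (· ≤ ·)] [Nonempty ι] (k : ι → IntermediateField k₀ K) (hk : Antitone k) :
    (⨅ i, k i ⊔ IntermediateField.adjoin k₀ (Set.range fun y : K => y ^ p)) = IntermediateField.adjoin k₀ (Set.range fun y : K => y ^ p) ↔
      ∀ ω : Ω[K⁄k₀], (∀ i, KaehlerDifferential.map k₀ (k i) K K ω = 0) → ω = 0 := by
  have h := Groth.Agent.PBasisLib.iInf_eq_iff_separating p k hk
  rw [Groth.Agent.PBasisLib.Fp, Set.union_empty] at h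
  exact h

end Groth.Agent.S2475
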