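import Groth.Statements.S2476
import Groth.Agent.CplKaehler4.Smooth

set_option autoImplicit false
universe u
open EGA41

namespace Groth.Agent.S2476

open IsLocalRing in
/-- Let k₀ be a field and A a complete Noetherian local k₀-algebra, formally smooth over k₀ for the adic
topology, whose residue field K is a finitely generated extension of k₀. Then the 𝔪-adic completion
Ω̂_{A/k₀} of Ω_{A/k₀} is a free A-module of rank dim A + trdeg_{k₀} K. -/
theorem result {k₀ A : Type u} [Field k₀] [CommRing A] [IsLocalRing A] [IsNoetherianRing A] [Algebra k₀ A]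
    [IsAdicComplete (maximalIdeal A) A] (hfs : CAlgX.IsAdicFormallySmooth k₀ A (maximalIdeal A))
    [Algebra.EssFiniteType k₀ (ResidueField A)] :
    Module.Finite A (AdicCompletion (maximalIdeal A) (Ω[A⁄k₀])) ∧ Module.Free A (AdicCompletion (maximalIdeal A) (Ω[A⁄k₀])) ∧
      (Module.finrank A (AdicCompletion (maximalIdeal A) (Ω[A⁄k₀])) : WithBot ℕ∞) =
        ringKrullDim A + (Cardinal.toNat (Algebra.trdeg k₀ (ResidueField A)) : WithBot ℕ∞) := by
  obtain ⟨b⟩ := Groth.Agent.CplKaehler4.free_completion hfs
  haveI := (Groth.Agent.CplKaehler4.finrank_fibre_kaehler hfs).1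
  refine ⟨Module.Finite.of_basis b, Module.Free.of_basis b, ?_⟩
  rw [Module.finrank_eq_card_basis b, Fintype.card_fin]
  exact (Groth.Agent.CplKaehler4.finrank_fibre_kaehler hfs).2

end Groth.Agent.S2476
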