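import Groth.Statements.S2477
import Groth.Agent.CplKaehler4.Basic
import Groth.Agent.PSLib.Regular
import Mathlib.RingTheory.MvPowerSeries.Derivative

set_option autoImplicit false
universe u
open EGA41

namespace Groth.Agent.S2477

open IsLocalRing in
/-- Let k be a field and A = k[[T_1, …, T_r]] with its usual k-algebra structure. Then the adic
completion Ω̂_{A/k} of Ω_{A/k} is a free A-module of rank r. -/
theorem result (k : Type u) [Field k] (r : ℕ) :
    Module.Finite (MvPowerSeries (Fin r) k) (AdicCompletion (maximalIdeal (MvPowerSeries (Fin r) k)) (Ω[MvPowerSeries (Fin r) k⁄k])) ∧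
    Module.Free (MvPowerSeries (Fin r) k) (AdicCompletion (maximalIdeal (MvPowerSeries (Fin r) k)) (Ω[MvPowerSeries (Fin r) k⁄k])) ∧
      Module.finrank (MvPowerSeries (Fin r) k) (AdicCompletion (maximalIdeal (MvPowerSeries (Fin r) k)) (Ω[MvPowerSeries (Fin r) k⁄k])) = r := by
  classical
  set P := MvPowerSeries (Fin r) k with hP
  set m := maximalIdeal P with hm
  haveI : IsAdicComplete m P := by
    rw [hm, Groth.Agent.PSLib.maximalIdeal_eq_vars]
    infer_instance
  let v : Fin r → Ω[P⁄k] := fun i => KaehlerDifferential.D k P (MvPowerSeries.X i)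
  have hv : Submodule.span P (Set.range v) ⊔ m • ⊤ = ⊤ := by
    rw [eq_top_iff, ← KaehlerDifferential.span_range_derivation, Submodule.span_le]
    rintro _ ⟨a, rfl⟩
    have ha : a - MvPowerSeries.C (MvPowerSeries.constantCoeff a) ∈
        Ideal.span (Set.range fun i : Fin r => (MvPowerSeries.X i : P)) := by
      have : a - MvPowerSeries.C (MvPowerSeries.constantCoeff a) ∈ Groth.Agent.PSLib.vars r k :=
        Groth.Agent.PSLib.mem_vars_iff.2 (by simp)
      exact this
    obtain ⟨g, hg⟩ := Ideal.mem_span_range_iff_exists_fun.1 ha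
    have hC : KaehlerDifferential.D k P (MvPowerSeries.C (MvPowerSeries.constantCoeff a)) = 0 :=
      Derivation.map_algebraMap _ (MvPowerSeries.constantCoeff a)
    have hd : KaehlerDifferential.D k P a = ∑ i, (g i • v i + (MvPowerSeries.X i : P) • KaehlerDifferential.D k P (g i)) := by
      rw [← sub_zero (KaehlerDifferential.D k P a), ← hC, ← map_sub, ← hg, map_sum]
      exact Finset.sum_congr rfl fun i _ => Derivation.leibniz _ _ _
    rw [SetLike.mem_coe, hd]
    refine Submodule.sum_mem _ fun i _ => Submodule.add_mem _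
      (Submodule.mem_sup_left (Submodule.smul_mem _ _ (Submodule.subset_span ⟨i, rfl⟩)))
      (Submodule.mem_sup_right (Submodule.smul_mem_smul ?_ (Submodule.subset_span ⟨g i, rfl⟩)))
    rw [hm, Groth.Agent.PSLib.maximalIdeal_eq_vars]
    exact Ideal.subset_span ⟨i, rfl⟩
  let φ : (Fin r → P) →ₗ[P] AdicCompletion m (Ω[P⁄k]) :=
    Fintype.linearCombination P fun i => AdicCompletion.of m _ (v i)
  have hφ : Function.Surjective φ := by
    rw [← LinearMap.range_eq_top, Fintype.range_linearCombination]
    exact Groth.Agent.CplKaehler4.span_eq_top m v hv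
  haveI := Groth.Agent.AdicLib.isAdicComplete_of_finite m (Fin r → P)
  let d : Ω[P⁄k] →ₗ[P] (Fin r → P) :=
    LinearMap.pi fun i => (MvPowerSeries.pderiv k i).liftKaehlerDifferential
  let ψ : AdicCompletion m (Ω[P⁄k]) →ₗ[P] (Fin r → P) := Groth.Agent.CplKaehler4.lift m d
  have hψ : ψ.comp φ = LinearMap.id := by
    refine LinearMap.pi_ext fun i x => ?_
    rw [LinearMap.comp_apply, LinearMap.id_apply, show φ (Pi.single i x) = x • AdicCompletion.of m _ (v i) from
      Fintype.linearCombination_apply_single _ _ _ _, map_smul, Groth.Agent.CplKaehler4.lift_of]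
    funext j
    rw [Pi.smul_apply, LinearMap.pi_apply, Derivation.liftKaehlerDifferential_comp_D, MvPowerSeries.pderiv_X]
    by_cases h : i = j
    · subst h; simp
    · simp [Ne.symm h, h]
  let e : (Fin r → P) ≃ₗ[P] AdicCompletion m (Ω[P⁄k]) := LinearEquiv.ofBijective φ
    ⟨Function.LeftInverse.injective (g := ψ) fun x => LinearMap.congr_fun hψ x, hφ⟩
  exact ⟨Module.Finite.equiv e, Module.Free.of_equiv e, by rw [← e.finrank_eq, Module.finrank_fin_fun]⟩

end Groth.Agent.S2477
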