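import Groth.Statements.S2481
import Groth.Agent.AdicSmooth.SmallExt
import Groth.Agent.EGA41Lib.Adic

set_option autoImplicit false
universe u
open EGA41

namespace Groth.Agent.S2481

open IsLocalRing in
/-- Let A → B be a local homomorphism of Noetherian local rings with the adic topologies, K the residue
field of B. Then B is formally smooth over A if and only if: for every Artinian local ring C with a
local homomorphism A → C, every nilpotent ideal J of C and every local A-algebra homomorphism u : B
→ C/J inducing a bijection of residue fields (so that C has residue field K and u induces the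
identity on it), u is induced by a local A-algebra homomorphism B → C. -/
theorem result {A B : Type u} [CommRing A] [IsLocalRing A] [IsNoetherianRing A] [CommRing B] [IsLocalRing B] [IsNoetherianRing B]
    [Algebra A B] [IsLocalHom (algebraMap A B)] :
    EGA41.IsFormallySmoothAdic A (maximalIdeal A) B (maximalIdeal B) ↔
      ∀ (C : Type u) [CommRing C] [IsLocalRing C] [IsArtinianRing C] [Algebra A C] [IsLocalHom (algebraMap A C)]
        (J : Ideal C), IsNilpotent J → ∀ [IsLocalRing (C ⧸ J)] (u : B →ₐ[A] C ⧸ J) [IsLocalHom u.toRingHom],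
        Function.Bijective (ResidueField.map u.toRingHom) →
        ∃ f : B →ₐ[A] C, IsLocalHom f.toRingHom ∧ (Ideal.Quotient.mkₐ A J).comp f = u := by
    constructor
    · intro h C _ _ _ _ _ J hJ _ u _ _
      obtain ⟨N, hN⟩ : IsNilpotent (maximalIdeal C) := by
        rw [← IsLocalRing.jacobson_eq_maximalIdeal ⊥ bot_ne_top]
        exact IsArtinianRing.isNilpotent_jacobson_bot
      haveI : IsArtinianRing (C ⧸ J) :=
        Function.Surjective.isArtinianRing (f := Ideal.Quotient.mk J) Ideal.Quotient.mk_surjective
      obtain ⟨M, hM⟩ : IsNilpotent (maximalIdeal (C ⧸ J)) := by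
        rw [← IsLocalRing.jacobson_eq_maximalIdeal ⊥ bot_ne_top]
        exact IsArtinianRing.isNilpotent_jacobson_bot
      obtain ⟨f, hf⟩ := h C J hJ ⟨N, by
        rw [eq_bot_iff, Ideal.map_le_iff_le_comap]
        intro a ha
        have := EGA41Lib.mem_pow_of_forall_mem (algebraMap A C) (fun t ht => map_nonunit (algebraMap A C) t ht) N a ha
        rwa [hN, Ideal.zero_eq_bot] at this⟩ u ⟨M, fun x hx => by
        have := EGA41Lib.mem_pow_of_forall_mem u (fun t ht => map_nonunit u.toRingHom t ht) M x hx
        rwa [hM, Ideal.zero_eq_bot, Ideal.mem_bot] at this⟩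
      refine ⟨f, ⟨fun b hb => isUnit_of_map_unit u.toRingHom b ?_⟩, hf⟩
      show IsUnit (u b)
      rw [← hf]
      exact hb.map (Ideal.Quotient.mk J)
    · intro h
      have hfs : CAlgX.IsAdicFormallySmooth A B (maximalIdeal B) :=
        AdicSmooth.isAdicFormallySmooth_of_smallLift fun C _ _ _ _ _ J hJ _ _ ψ _ hbij => by
          obtain ⟨f, -, hf⟩ := h C J ⟨2, by rw [hJ, Ideal.zero_eq_bot]⟩ ψ hbij
          exact ⟨f, hf⟩
      intro C _ _ J hJ _ u hu
      exact EGA41Lib.lift_of_isAdicFormallySmooth hfs J hJ u hu

end Groth.Agent.S2481
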