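import Groth.Statements.S2482
import Groth.Agent.RegFS6.FlatLiftMod
import Groth.Agent.EGA41Lib.FieldFS

set_option autoImplicit false
universe u
open EGA41

namespace Groth.Agent.S2482

open IsLocalRing in
/-- (a) ⟹ (b): let A, B be complete discrete valuation rings and u : A → B a ring homomorphism with
u(𝔪_A)B = 𝔪_B, such that the residue field L of B is separable over the residue field K of A. Then
for every complete discrete valuation ring B', every homomorphism u' : A → B' with u'(𝔪_A)B' =
𝔪_{B'} and every isomorphism σ of residue fields L ≅ L' compatible with the maps from K, there is an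
isomorphism w : B ≅ B' with u' = w ∘ u inducing σ on residue fields. -/
theorem result {A B B' : Type u} [CommRing A] [IsDomain A] [IsDiscreteValuationRing A] [IsAdicComplete (maximalIdeal A) A]
    [CommRing B] [IsDomain B] [IsDiscreteValuationRing B] [IsAdicComplete (maximalIdeal B) B]
    [CommRing B'] [IsDomain B'] [IsDiscreteValuationRing B'] [IsAdicComplete (maximalIdeal B') B']
    (u : A →+* B) [IsLocalHom u] (hu : (maximalIdeal A).map u = maximalIdeal B)
    (hsep : letI := (ResidueField.map u).toAlgebra; Algebra.IsGeometricallyReduced (ResidueField A) (ResidueField B))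
    (u' : A →+* B') [IsLocalHom u'] (hu' : (maximalIdeal A).map u' = maximalIdeal B')
    (σ : ResidueField B ≃+* ResidueField B') (hσ : (σ : ResidueField B →+* ResidueField B').comp (ResidueField.map u) = ResidueField.map u') :
    ∃ w : B ≃+* B', (w : B →+* B').comp u = u' ∧ ∀ b : B, residue B' (w b) = σ (residue B b) := by
    have hF : letI := (ResidueField.map u).toAlgebra; Algebra.FormallySmooth (ResidueField A) (ResidueField B) := by
      letI := (ResidueField.map u).toAlgebra
      exact @EGA41Lib.FieldFS.formallySmooth_of_isGeometricallyReduced (ResidueField A) (ResidueField B) _ _ _ hsep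
    letI : Algebra A B := u.toAlgebra
    letI : Algebra A B' := u'.toAlgebra
    haveI : IsLocalHom (algebraMap A B) := ‹IsLocalHom u›
    haveI : IsLocalHom (algebraMap A B') := ‹IsLocalHom u'›
    letI : Algebra (A ⧸ maximalIdeal A) (ResidueField B) := (ResidueField.map u).toAlgebra
    letI : Algebra A (ResidueField B) := ((ResidueField.map u).comp (residue A)).toAlgebra
    haveI : IsScalarTower A (A ⧸ maximalIdeal A) (ResidueField B) := IsScalarTower.of_algebraMap_eq fun _ => rfl
    haveI : IsLocalRing (A ⧸ maximalIdeal A) :=
      IsLocalRing.of_surjective' (Ideal.Quotient.mk (maximalIdeal A)) Ideal.Quotient.mk_surjective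
    haveI : IsLocalHom (algebraMap (A ⧸ maximalIdeal A) (ResidueField B)) := ⟨fun z hz => by
      obtain ⟨a, rfl⟩ := Ideal.Quotient.mk_surjective z
      change IsUnit (ResidueField.map u (residue A a)) at hz
      by_contra hna
      refine hz.ne_zero ?_
      rw [show residue A a = 0 from (residue_eq_zero_iff a).mpr fun hu => hna (hu.map _), map_zero]⟩
    have hfs : CAlgX.IsAdicFormallySmooth (A ⧸ maximalIdeal A) (ResidueField B) (maximalIdeal (ResidueField B)) := by
      haveI : Algebra.FormallySmooth (A ⧸ maximalIdeal A) (ResidueField B) := hF
      intro E _ _ J hJ ψ _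
      exact Algebra.FormallySmooth.exists_lift (R := A ⧸ maximalIdeal A) J ⟨2, by rw [hJ, Ideal.zero_eq_bot]⟩ ψ
    have hinjective : ∀ {C : Type u} [CommRing C] [IsDomain C] [IsDiscreteValuationRing C] (v : A →+* C),
        (maximalIdeal A).map v = maximalIdeal C → Function.Injective v := by
      intro C _ _ _ v hv
      rw [RingHom.injective_iff_ker_eq_bot]
      by_contra hne
      have hprime : (RingHom.ker v).IsPrime := RingHom.ker_isPrime v
      have h1 := IsLocalRing.eq_maximalIdeal (hprime.isMaximal hne)
      refine IsDiscreteValuationRing.not_a_field C ?_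
      rw [← hv, ← h1, Ideal.map_eq_bot_iff_le_ker]
    haveI : Module.IsTorsionFree A B := Module.isTorsionFree_iff_algebraMap_injective.mpr (hinjective u hu)
    haveI : Module.IsTorsionFree A B' := Module.isTorsionFree_iff_algebraMap_injective.mpr (hinjective u' hu')
    let π : B →ₐ[A] ResidueField B := { residue B with commutes' := fun a => rfl }
    have hc' : ∀ a, σ.symm (residue B' (u' a)) = algebraMap A (ResidueField B) a := fun a => by
      rw [RingEquiv.symm_apply_eq]
      exact (RingHom.congr_fun hσ (residue A a)).symm
    let π' : B' →ₐ[A] ResidueField B := { σ.symm.toRingHom.comp (residue B') with commutes' := hc' }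
    have hker : RingHom.ker π = (maximalIdeal A).map (algebraMap A B) := hu ▸ ker_residue
    have hker' : RingHom.ker π' = (maximalIdeal A).map (algebraMap A B') := by
      refine Eq.trans ?_ hu'.symm
      ext b
      exact (map_eq_zero_iff σ.symm σ.symm.injective).trans (residue_eq_zero_iff b)
    obtain ⟨v, hv⟩ := RegFS6.exists_equiv_of_flat_lifts (maximalIdeal A) le_rfl π residue_surjective hker π'
      (σ.symm.surjective.comp residue_surjective) hker' hfs
    exact ⟨v.toRingEquiv, RingHom.ext v.commutes, fun b => σ.symm.injective ((hv b).trans (σ.symm_apply_apply _).symm)⟩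

end Groth.Agent.S2482
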