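import Groth.Statements.S2484
import Groth.Agent.EGA41Lib.FieldFS
import Mathlib

set_option autoImplicit false
universe u
open EGA41

namespace Groth.Agent.S2484

/-- Let K ⊆ E ⊆ F be fields. (i) If F is a separable extension of E, then Υ_{F/E/K} = 0, i.e. the
canonical map Ω_{E/K} ⊗_E F → Ω_{F/K} is injective. (ii) Conversely, if F is separable over K and
this map is injective, then F is separable over E. (Separable means geometrically reduced.) -/
theorem result {K E F : Type u} [Field K] [Field E] [Field F] [Algebra K E] [Algebra E F] [Algebra K F] [IsScalarTower K E F] :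
    (Algebra.IsGeometricallyReduced E F → Function.Injective (KaehlerDifferential.mapBaseChange K E F)) ∧
    (Algebra.IsGeometricallyReduced K F → Function.Injective (KaehlerDifferential.mapBaseChange K E F) → Algebra.IsGeometricallyReduced E F) := by
  constructor
  · intro h
    haveI : Algebra.FormallySmooth E F := Groth.Agent.EGA41Lib.FieldFS.formallySmooth_of_isGeometricallyReduced E F
    refine (injective_iff_map_eq_zero _).mpr fun z hz => ?_
    obtain ⟨x, rfl⟩ := (Algebra.H1Cotangent.exact_δ_mapBaseChange K E F z).mp hz
    rw [Subsingleton.elim x 0, map_zero]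
  · intro h hinj
    haveI : Algebra.FormallySmooth K F := Groth.Agent.EGA41Lib.FieldFS.formallySmooth_of_isGeometricallyReduced K F
    haveI : Subsingleton (Algebra.H1Cotangent E F) := by
      refine subsingleton_of_forall_eq 0 fun x => ?_
      have h0 : Algebra.H1Cotangent.δ K E F x = 0 :=
        hinj (((Algebra.H1Cotangent.exact_δ_mapBaseChange K E F).apply_apply_eq_zero x).trans (map_zero _).symm)
      obtain ⟨y, rfl⟩ := (Algebra.H1Cotangent.exact_map_δ K E F x).mp h0
      rw [Subsingleton.elim y 0, map_zero]
    haveI : Algebra.FormallySmooth E F := ⟨inferInstance, inferInstance⟩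
    exact Groth.Agent.EGA41Lib.FieldFS.isGeometricallyReduced_of_formallySmooth E F

end Groth.Agent.S2484
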