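import Groth.Statements.S2485
import Groth.Agent.PBasisLib.Radicial

set_option autoImplicit false
universe u
open EGA41

namespace Groth.Agent.S2485

/-- Let p be a prime and A → B a ring homomorphism making B an A-algebra of finite type, with B of
characteristic p, such that for some s ≥ 0 every p^s-th power of an element of B lies in the image
of A. If Ω_{B/A} = 0 then A → B is surjective. -/
theorem result (p : ℕ) [Fact p.Prime] {A B : Type u} [CommRing A] [CommRing B] [Algebra A B] [CharP B p]
    [Algebra.FiniteType A B] (s : ℕ) (hpow : ∀ b : B, b ^ p ^ s ∈ Set.range (algebraMap A B)) [Subsingleton (Ω[B⁄A])] :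
    Function.Surjective (algebraMap A B) := by
  exact Groth.Agent.PBasisLib.surjective_of_subsingleton_kaehler p s hpow

end Groth.Agent.S2485
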