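import Groth.Statements.S2487
import Groth.Agent.RegFS6.FlatLiftMod

set_option autoImplicit false
universe u
open EGA41

namespace Groth.Agent.S2487

open IsLocalRing TensorProduct in
/-- Let A be a Noetherian local ring, J an ideal contained in the maximal ideal, A₀ = A/J, and B₀ a
complete Noetherian local ring with a local homomorphism A₀ → B₀ making B₀ formally smooth over A₀
(adic topologies). Then (existence) there are a complete Noetherian local ring B, a local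
homomorphism A → B making B a flat A-module, and an A₀-algebra isomorphism u : A₀ ⊗_A B ≅ B₀;
(uniqueness) if (B', u') is another such pair, there is an A-algebra isomorphism v : B ≅ B' with u'
∘ (1 ⊗ v) = u. -/
theorem result {A : Type u} [CommRing A] [IsLocalRing A] [IsNoetherianRing A]
    (J : Ideal A) (hJ : J ≤ maximalIdeal A) [IsLocalRing (A ⧸ J)]
    (B₀ : Type u) [CommRing B₀] [IsLocalRing B₀] [IsNoetherianRing B₀] [IsAdicComplete (maximalIdeal B₀) B₀]
    [Algebra (A ⧸ J) B₀] [IsLocalHom (algebraMap (A ⧸ J) B₀)]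
    (hfs : EGA41.IsFormallySmoothAdic (A ⧸ J) (maximalIdeal (A ⧸ J)) B₀ (maximalIdeal B₀)) :
    (∃ (B : Type u) (_ : CommRing B) (_ : IsLocalRing B) (_ : IsNoetherianRing B) (_ : Algebra A B) (_ : IsLocalHom (algebraMap A B)),
      IsAdicComplete (maximalIdeal B) B ∧ Module.Flat A B ∧ Nonempty ((A ⧸ J) ⊗[A] B ≃ₐ[A ⧸ J] B₀)) ∧
    ∀ (B B' : Type u) [CommRing B] [IsLocalRing B] [IsNoetherianRing B] [Algebra A B] [IsLocalHom (algebraMap A B)]
      [CommRing B'] [IsLocalRing B'] [IsNoetherianRing B'] [Algebra A B'] [IsLocalHom (algebraMap A B')],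
      IsAdicComplete (maximalIdeal B) B → Module.Flat A B → IsAdicComplete (maximalIdeal B') B' → Module.Flat A B' →
      ∀ (u : (A ⧸ J) ⊗[A] B ≃ₐ[A ⧸ J] B₀) (u' : (A ⧸ J) ⊗[A] B' ≃ₐ[A ⧸ J] B₀),
      ∃ v : B ≃ₐ[A] B', (u' : (A ⧸ J) ⊗[A] B' →ₐ[A ⧸ J] B₀).comp
          (Algebra.TensorProduct.map (AlgHom.id (A ⧸ J) (A ⧸ J)) (v : B →ₐ[A] B')) = (u : (A ⧸ J) ⊗[A] B →ₐ[A ⧸ J] B₀) := by
    letI : Algebra A B₀ := ((algebraMap (A ⧸ J) B₀).comp (algebraMap A (A ⧸ J))).toAlgebra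
    haveI : IsScalarTower A (A ⧸ J) B₀ := IsScalarTower.of_algebraMap_eq fun _ => rfl
    have hfs' : CAlgX.IsAdicFormallySmooth (A ⧸ J) B₀ (maximalIdeal B₀) := by
      intro E _ _ I hI ψ hψ
      obtain ⟨k, hk⟩ := hψ
      refine hfs E I ⟨2, by rw [hI, Ideal.zero_eq_bot]⟩ ⟨k * 2, ?_⟩ ψ ⟨k, hk⟩
      rw [eq_bot_iff, Ideal.map_le_iff_le_comap, pow_mul]
      intro z hz
      have h1 : ∀ y ∈ maximalIdeal (A ⧸ J) ^ k, algebraMap (A ⧸ J) E y ∈ I := fun y hy => by
        rw [← Ideal.Quotient.eq_zero_iff_mem]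
        exact (ψ.commutes y).symm.trans (hk _ (EGA41Lib.mem_pow_of_forall_mem _ (fun t ht => map_nonunit _ t ht) k y hy))
      have h2 := EGA41Lib.mem_pow_of_forall_mem (algebraMap (A ⧸ J) E) h1 2 z hz
      rwa [hI] at h2
    refine ⟨RegFS6.exists_flat_lift J hJ hfs', ?_⟩
    intro B B' _ _ _ _ _ _ _ _ _ _ hB hflat hB' hflat' u u'
    haveI := hB
    haveI := hflat
    haveI := hB'
    haveI := hflat'
    obtain ⟨φ, hφ⟩ := RegFS6.exists_quot_tensor_equiv A J B
    obtain ⟨φ', hφ'⟩ := RegFS6.exists_quot_tensor_equiv A J B'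
    let π : B →ₐ[A] B₀ := ((φ.symm.trans u).toAlgHom.restrictScalars A).comp (Ideal.Quotient.mkₐ A (J.map (algebraMap A B)))
    let π' : B' →ₐ[A] B₀ := ((φ'.symm.trans u').toAlgHom.restrictScalars A).comp (Ideal.Quotient.mkₐ A (J.map (algebraMap A B')))
    have hπ1 : ∀ b, π b = u ((1 : A ⧸ J) ⊗ₜ b) := fun b => congrArg u ((AlgEquiv.symm_apply_eq φ).mpr (hφ b).symm)
    have hπ1' : ∀ b, π' b = u' ((1 : A ⧸ J) ⊗ₜ b) := fun b => congrArg u' ((AlgEquiv.symm_apply_eq φ').mpr (hφ' b).symm)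
    have hker : RingHom.ker π = J.map (algebraMap A B) := by
      ext b
      rw [RingHom.mem_ker, ← Ideal.Quotient.eq_zero_iff_mem]
      exact (φ.symm.trans u).map_eq_zero_iff
    have hker' : RingHom.ker π' = J.map (algebraMap A B') := by
      ext b
      rw [RingHom.mem_ker, ← Ideal.Quotient.eq_zero_iff_mem]
      exact (φ'.symm.trans u').map_eq_zero_iff
    obtain ⟨v, hv⟩ := RegFS6.exists_equiv_of_flat_lifts J hJ π
      ((φ.symm.trans u).surjective.comp Ideal.Quotient.mk_surjective) hker π'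
      ((φ'.symm.trans u').surjective.comp Ideal.Quotient.mk_surjective) hker' hfs'
    refine ⟨v, Algebra.TensorProduct.ext' fun r b => ?_⟩
    have h1 : r ⊗ₜ[A] b = r • ((1 : A ⧸ J) ⊗ₜ[A] b) := by rw [TensorProduct.smul_tmul', smul_eq_mul, mul_one]
    rw [h1, map_smul, map_smul]
    congr 1
    show u' (Algebra.TensorProduct.map _ _ ((1 : A ⧸ J) ⊗ₜ[A] b)) = u _
    rw [Algebra.TensorProduct.map_tmul, map_one, ← hπ1]
    exact (hπ1' (v b)).symm.trans (hv b)

end Groth.Agent.S2487
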