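import Groth.Statements.S4630
import Groth.Agent.FBaseLib.Compositum

set_option autoImplicit false
open CategoryTheory AlgebraicGeometry
universe u
open FBase

namespace Groth.Agent.S4630

open Groth.Agent CategoryTheory.Limits

/-- Let X be a scheme over a field k, k' an extension field of k, and x' a point of X' = X ⊗_k k' lying
over the point x of X. Then X is geometrically pointwise integral at x over k if and only if X' is
geometrically pointwise integral at x' over k'. -/
theorem result {k K : Type u} [Field k] [Field K] [Algebra k K]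
    {X : Scheme.{u}} (f : X ⟶ Spec (CommRingCat.of k)) (x' : ↥(FBase.bc f K)) :
    FBase.IsGeomPtIntegralAt f ((FBase.bcπ f K) x') ↔ FBase.IsGeomPtIntegralAt (FBase.bcStr f K) x' := by
  constructor
  · intro h L _ _ w hw
    letI : Algebra k L := ((algebraMap K L).comp (algebraMap k K)).toAlgebra
    haveI : IsScalarTower k K L := IsScalarTower.of_algebraMap_eq fun _ => rfl
    let e := FBaseLib.bcTower f K L
    have he : (FBase.bcπ f L) (e.hom w) = (FBase.bcπ f K) x' := by
      rw [← Scheme.Hom.comp_apply, FBaseLib.bcTower_hom_fst, Scheme.Hom.comp_apply, hw]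
    exact (FBaseLib.isDomain_stalk_iff_of_isOpenImmersion e.hom w).mp (h L (e.hom w) he)
  · intro h L _ _ w hw
    obtain ⟨M, iM, ikM, iKM, iLM, t1, t2, z, hz1, hz2⟩ := FBaseLib.exists_compositum f K L x' w hw.symm
    let e := FBaseLib.bcTower f K M
    have hd : IsDomain ((FBase.bc (FBase.bcStr f K) M).presheaf.stalk (e.inv z)) := h M (e.inv z) hz1
    have hd' := (FBaseLib.isDomain_stalk_iff_of_isOpenImmersion e.inv z).mp hd
    exact hz2 ▸ FBaseLib.stalk_isDomain_of_flat (FBaseLib.bcMap f L M) z hd'

end Groth.Agent.S4630
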