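import Groth.Statements.S2558
import Groth.Agent.UnivOpen.Conditions

set_option autoImplicit false
open CategoryTheory AlgebraicGeometry
universe u
open EGA43

namespace Groth.Agent.S2558

open CategoryTheory.Limits in
/-- Let f : X ⟶ Y be locally of finite presentation. Suppose that for every irreducible scheme Y' and
every morphism of finite type g : Y' ⟶ Y, each irreducible component of X ×_Y Y' has dense image in
Y'. Then f is universally open. -/
theorem result {X Y : Scheme.{u}} (f : X ⟶ Y) [LocallyOfFinitePresentation f]
    (h : ∀ (Y' : Scheme.{u}) (g : Y' ⟶ Y) [IrreducibleSpace Y'] [LocallyOfFiniteType g] [QuasiCompact g],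
      ∀ Z ∈ irreducibleComponents (↥(pullback f g) : Type u), Dense ((pullback.snd f g).base '' Z)) :
    UniversallyOpen f := by
    refine (UnivOpen.universallyOpen_iff_forall f).2 fun x => UnivOpen.isUnivOpenAt_of_affineSpace f x
      fun m x'' _ => UnivOpen.isOpenAt_of_lifts_fp _ x'' fun t ht => ?_
    let π := 𝔸(ULift.{u} (Fin m); Y) ↘ Y
    let p := pullback.snd f π
    let S : TopologicalSpace.Closeds ↥𝔸(ULift.{u} (Fin m); Y) := ⟨closure {t}, isClosed_closure⟩
    let j := (Scheme.IdealSheafData.vanishingIdeal S).subschemeι
    have hrange : Set.range j = closure {t} := DimFormula.range_vanishingIdeal S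
    haveI : IrreducibleSpace ↥(Scheme.IdealSheafData.vanishingIdeal S).subscheme := by
      haveI : IrreducibleSpace ↥(Set.range j) := by
        rw [hrange]; exact Subtype.irreducibleSpace isIrreducible_singleton.closure
      exact j.isClosedEmbedding.isEmbedding.toHomeomorph.symm.surjective.irreducibleSpace
        j.isClosedEmbedding.isEmbedding.toHomeomorph.symm.continuous
    obtain ⟨s, hs⟩ : p x'' ∈ Set.range j := by rw [hrange]; exact specializes_iff_mem_closure.1 ht
    obtain ⟨t', ht'⟩ : t ∈ Set.range j := by rw [hrange]; exact subset_closure rfl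
    obtain ⟨w, hw₁, -⟩ := Scheme.Pullback.exists_preimage_pullback x'' s hs.symm
    let e := pullbackLeftPullbackSndIso f π j
    obtain ⟨ζ, hζ, hζm⟩ := FibDim.exists_maximal_generization (e.hom w)
    have hd := h _ (j ≫ π) _ (FDescent.closure_mem_irreducibleComponents hζm)
    have hg : pullback.snd f (j ≫ π) ζ = t' := by
      have h1 := hd.closure_eq
      rw [closure_image_closure (pullback.snd f (j ≫ π)).continuous, Set.image_singleton] at h1
      refine IsGenericPoint.eq (h1 : IsGenericPoint _ Set.univ) ?_
      refine (Set.eq_univ_of_forall fun u => ?_ : closure {t'} = Set.univ)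
      rw [← specializes_iff_mem_closure, ← j.isClosedEmbedding.isInducing.specializes_iff, ht',
        specializes_iff_mem_closure, ← hrange]
      exact ⟨u, rfl⟩
    have h2 : pullback.snd p j (e.inv ζ) = t' := by
      rw [← Scheme.Hom.comp_apply, pullbackLeftPullbackSndIso_inv_snd_snd, hg]
    refine ⟨pullback.fst p j (e.inv ζ), ?_, ?_⟩
    · have h3 := (hζ.map e.inv.continuous).map (pullback.fst p j).continuous
      rwa [← Scheme.Hom.comp_apply e.hom, e.hom_inv_id, show (𝟙 (pullback p j) : _ ⟶ _) w = w from rfl, hw₁] at h3
    · show (pullback.fst p j ≫ p) (e.inv ζ) = t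
      rw [pullback.condition, Scheme.Hom.comp_apply, h2, ht']

end Groth.Agent.S2558
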