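import Groth.Statements.S2561
import Groth.Agent.FlatDvrVC5.UnivOpenFlat

set_option autoImplicit false
open CategoryTheory AlgebraicGeometry
universe u
open EGA43

namespace Groth.Agent.S2561

/-- Let Y be locally Noetherian, f : X ⟶ Y locally of finite type, x a point of X with y = f x. Suppose
that f is universally open at the generic point of every irreducible component of the fibre over y
passing through x, that this fibre is geometrically reduced at x, and that the local ring of Y at y
is reduced. Then the local homomorphism O_{Y,y} ⟶ O_{X,x} is flat. -/
theorem result {X Y : Scheme.{u}} [IsLocallyNoetherian Y]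
    (f : X ⟶ Y) [LocallyOfFiniteType f] (x : X)
    (hopen : ∀ z : ↥(f.fiber (f.base x)), f.asFiber x ∈ closure {z} →
      (∀ z' : ↥(f.fiber (f.base x)), z ∈ closure {z'} → z' = z) →
      EGA43.IsUnivOpenAt f ((f.fiberι (f.base x)).base z))
    (hred : FBase.IsGeomReducedAt (f.fiberToSpecResidueField (f.base x)) (f.asFiber x))
    (hy : _root_.IsReduced (Y.presheaf.stalk (f.base x))) :
    (f.stalkMap x).hom.Flat := by
  exact FlatDvrVC5.flat_stalkMap_of_univOpen f x hopen hred hy

end Groth.Agent.S2561
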