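import Groth.Statements.S2563
import Mathlib.RingTheory.TensorProduct.Basic
import Mathlib.LinearAlgebra.TensorProduct.Quotient
import Mathlib.LinearAlgebra.TensorProduct.Tower
import Mathlib.LinearAlgebra.FreeModule.Basic
import Mathlib.RingTheory.Ideal.Maps
import Mathlib.RingTheory.Ideal.Quotient.Operations
import Mathlib.Algebra.Module.Projective
import Mathlib.Algebra.Module.Torsion.Basic

set_option autoImplicit false
open TensorProduct
universe u
open EGA43

namespace Groth.Agent.S2563

variable {A B F M : Type*}

/-- In a free module, generators that are independent modulo a nilpotent ideal are independent. -/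
theorem indep_of_mod_nilpotent [CommRing B] [AddCommGroup F] [Module B F] [Module.Free B F] (I : Ideal B) {n : ℕ}
    (hI : I ^ n = ⊥) {κ : Type*} (v : κ → F) (hv : ∀ z, z ∈ Submodule.span B (Set.range v))
    (hind : ∀ c, Finsupp.linearCombination B v c = 0 → ∀ k, c k ∈ I) :
    ∀ c, Finsupp.linearCombination B v c = 0 → c = 0 := by
  obtain ⟨s, hs⟩ := Module.projective_lifting_property (Finsupp.linearCombination B v) LinearMap.id
    (fun z => Finsupp.mem_span_range_iff_exists_finsupp.1 (hv z) |>.imp fun c hc => by
      rw [Finsupp.linearCombination_apply]; exact hc)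
  have key : ∀ (m : ℕ) c, Finsupp.linearCombination B v c = 0 → c ∈ (I ^ m • ⊤ : Submodule B (κ →₀ B)) := by
    intro m
    induction m with
    | zero => intro c _; rw [pow_zero, Submodule.one_smul]; trivial
    | succ m ih =>
      let p : (κ →₀ B) →ₗ[B] (κ →₀ B) := LinearMap.id - s ∘ₗ Finsupp.linearCombination B v
      intro c hc
      have e : c = p c := by simp [p, hc]
      have hc' : c ∈ (I • ⊤ : Submodule B (κ →₀ B)) := by
        classical
        rw [← Finsupp.sum_single c]
        refine Submodule.sum_mem _ fun k _ => ?_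
        rw [show Finsupp.single k (c k) = c k • Finsupp.single k (1 : B) by simp]
        exact Submodule.smul_mem_smul (hind c hc k) Submodule.mem_top
      have hp : c ∈ Submodule.map p (I • ⊤) := ⟨c, hc', e.symm⟩
      rw [Submodule.map_smul''] at hp
      rw [pow_succ', Submodule.mul_smul]
      refine Submodule.smul_mono le_rfl ?_ hp
      rintro _ ⟨d, -, rfl⟩
      refine ih _ ?_
      have h1 := LinearMap.congr_fun hs (Finsupp.linearCombination B v d)
      simp only [LinearMap.comp_apply, LinearMap.id_apply] at h1
      simp [p, h1]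
  intro c hc
  simpa [hI] using key n c hc

theorem linearCombination_map [CommRing A] [CommRing B] {κ : Type*} [AddCommGroup F] [Module A F]
    [Module B F] [Algebra A B] [IsScalarTower A B F] {w : κ → F} {l : κ →₀ A}
    (h : Finsupp.linearCombination A w l = 0) :
    Finsupp.linearCombination B w (l.mapRange (algebraMap A B) (map_zero _)) = 0 := by
  rw [Finsupp.linearCombination_apply] at h ⊢
  rw [Finsupp.sum_mapRange_index (by simp)]
  simpa only [algebraMap_smul] using h


/-- Let A be a commutative ring, J a nilpotent ideal of A, and (B_i) a family of commutative A-algebras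
such that an element of A vanishing in every B_i is zero. Let M be an A-module such that each B_i
⊗_A M is a free B_i-module and (A/J) ⊗_A M is a free (A/J)-module. Then M is a free A-module. -/
theorem result {A : Type u} [CommRing A] (J : Ideal A) (hJ : IsNilpotent J)
    {ι : Type u} (B : ι → Type u) [∀ i, CommRing (B i)] [∀ i, Algebra A (B i)]
    (hB : ∀ a : A, (∀ i, algebraMap A (B i) a = 0) → a = 0)
    (M : Type u) [AddCommGroup M] [Module A M]
    (hfree : ∀ i, Module.Free (B i) (B i ⊗[A] M)) (hfreeJ : Module.Free (A ⧸ J) ((A ⧸ J) ⊗[A] M)) :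
    Module.Free A M := by
  classical
  obtain ⟨n, hn⟩ := hJ
  let b := hfreeJ.chooseBasis
  have hsurj : Function.Surjective (fun m : M => (1 : A ⧸ J) ⊗ₜ[A] m) := fun z => by
    induction z using TensorProduct.induction_on with
    | zero => exact ⟨0, TensorProduct.tmul_zero _ _⟩
    | tmul q m =>
      obtain ⟨a, rfl⟩ := Ideal.Quotient.mk_surjective q
      exact ⟨a • m, show (1 : A ⧸ J) ⊗ₜ[A] (a • m) = Ideal.Quotient.mk J a ⊗ₜ[A] m by
        rw [TensorProduct.tmul_smul, TensorProduct.smul_tmul']; exact congrArg (· ⊗ₜ[A] m) ((Algebra.smul_def _ _).trans (mul_one _))⟩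
    | add z z' hz hz' =>
      obtain ⟨m, rfl⟩ := hz; obtain ⟨m', rfl⟩ := hz'; exact ⟨m + m', TensorProduct.tmul_add _ _ _⟩
  choose v hv using fun k => hsurj (b k)
  let red : M →ₗ[A] (A ⧸ J) ⊗[A] M := TensorProduct.mk A (A ⧸ J) M 1
  have hker : ∀ m, red m = 0 → m ∈ (J • ⊤ : Submodule A M) := fun m hm => by
    have h1 := congrArg (TensorProduct.quotTensorEquivQuotSMul M J) hm
    rw [map_zero] at h1
    have h2 : TensorProduct.quotTensorEquivQuotSMul M J ((Ideal.Quotient.mk J (1 : A)) ⊗ₜ[A] m) = 0 := h1
    rw [TensorProduct.quotTensorEquivQuotSMul_mk_tmul, one_smul] at h2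
    exact (Submodule.Quotient.mk_eq_zero _).1 h2
  let S : Submodule A M := Submodule.span A (Set.range v)
  have hS : (⊤ : Submodule A M) ≤ S ⊔ J • ⊤ := fun m _ => by
    obtain ⟨s, hs, hsm⟩ : ∃ s ∈ S, red s = red m := by
      have hm : red m ∈ Submodule.span (A ⧸ J) (Set.range b) := b.span_eq ▸ Submodule.mem_top
      have e : (Submodule.span (A ⧸ J) (Set.range b)).restrictScalars A = Submodule.span A (Set.range b) :=
        Submodule.restrictScalars_span A (A ⧸ J) Ideal.Quotient.mk_surjective _
      have hm' : red m ∈ (Submodule.span (A ⧸ J) (Set.range b)).restrictScalars A := hm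
      rw [e, show Set.range b = red '' Set.range v by
        rw [← Set.range_comp]; exact congrArg Set.range (funext fun k => (hv k).symm),
        ← Submodule.map_span] at hm'
      exact hm'
    exact Submodule.mem_sup.2 ⟨s, hs, m - s, hker _ (by rw [map_sub, hsm, sub_self]), add_sub_cancel _ _⟩
  have hS' : ∀ k : ℕ, (⊤ : Submodule A M) ≤ S ⊔ J ^ k • ⊤ := by
    intro k
    induction k with
    | zero => rw [pow_zero, Submodule.one_smul]; exact le_sup_right
    | succ k ih =>
      refine ih.trans (sup_le le_sup_left ?_)
      refine le_trans (Submodule.smul_mono le_rfl hS) ?_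
      rw [Submodule.smul_sup, ← Submodule.mul_smul, ← pow_succ]
      exact sup_le_sup Submodule.smul_le_right le_rfl
  have hgen : (⊤ : Submodule A M) ≤ S := by
    have h1 := hS' n
    rw [hn, Submodule.zero_eq_bot, Submodule.bot_smul, sup_bot_eq] at h1
    exact h1
  have hind : LinearIndependent A v := by
    rw [linearIndependent_iff]
    intro l hl
    ext k
    refine hB _ fun i => ?_
    have h1 := congrArg (TensorProduct.mk A (B i) M 1) hl
    rw [map_zero, Finsupp.apply_linearCombination] at h1
    have h2 := linearCombination_map (B := B i) h1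
    haveI := hfree i
    have hi := Groth.Agent.S2563.indep_of_mod_nilpotent (J.map (algebraMap A (B i))) (n := n)
      (by rw [← Ideal.map_pow, hn, Submodule.zero_eq_bot, Ideal.map_bot]) (fun k => (1 : B i) ⊗ₜ[A] v k)
      ?_ ?_
    · exact DFunLike.congr_fun (hi _ h2) k
    · intro z
      induction z using TensorProduct.induction_on with
      | zero => exact Submodule.zero_mem _
      | tmul c m =>
        have hm : m ∈ S := hgen Submodule.mem_top
        rw [show c ⊗ₜ[A] m = c • ((1 : B i) ⊗ₜ[A] m) by rw [TensorProduct.smul_tmul', smul_eq_mul, mul_one]]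
        refine Submodule.smul_mem _ c ?_
        induction hm using Submodule.span_induction with
        | mem m hm => obtain ⟨k, rfl⟩ := hm; exact Submodule.subset_span ⟨k, rfl⟩
        | zero => rw [TensorProduct.tmul_zero]; exact Submodule.zero_mem _
        | add m m' _ _ hm hm' => rw [TensorProduct.tmul_add]; exact Submodule.add_mem _ hm hm'
        | smul a m _ hm => rw [TensorProduct.tmul_smul]; exact Submodule.smul_of_tower_mem _ a hm
      | add z z' hz hz' => exact Submodule.add_mem _ hz hz'
    · intro c hc k
      let q : A ⧸ J →ₐ[A] B i ⧸ J.map (algebraMap A (B i)) :=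
        Ideal.quotientMapₐ _ (Algebra.ofId A (B i)) (fun a ha => Ideal.mem_map_of_mem _ ha)
      let F : B i ⊗[A] M →ₗ[B i] B i ⧸ J.map (algebraMap A (B i)) :=
        LinearMap.liftBaseChange (B i) (q.toLinearMap ∘ₗ ((b.coord k).restrictScalars A) ∘ₗ red)
      have h3 := congrArg F hc
      rw [map_zero, Finsupp.apply_linearCombination] at h3
      rw [← Ideal.Quotient.eq_zero_iff_mem, ← h3, Finsupp.linearCombination_apply, Finsupp.sum,
        Finset.sum_eq_single k]
      · simp [F, red, show (1 : A ⧸ J) ⊗ₜ[A] v k = b k from hv k, Algebra.smul_def]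
      · intro j _ hj
        simp [F, red, show (1 : A ⧸ J) ⊗ₜ[A] v j = b j from hv j, Finsupp.single_eq_of_ne hj.symm]
      · intro hk; simp [Finsupp.notMem_support_iff.1 hk]
  exact Module.Free.of_basis (Module.Basis.mk hind hgen)

end Groth.Agent.S2563
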