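import Groth.Statements.S2564
import Mathlib
import Groth.Agent.FlatModel.IntegralDescent
import Groth.Agent.FlatLocus.Basic

set_option autoImplicit false
open CategoryTheory AlgebraicGeometry
universe u
open EGA43

namespace Groth.Agent.S2564

open CategoryTheory.Limits in
/-- Let A ⟶ A' be an injective ring homomorphism making A' integral over A, f : X ⟶ Spec A locally of
finite presentation, x a point of X, and X' = X ×_{Spec A} Spec A'. If X' ⟶ Spec A' is flat at every
point of X' lying over x, then f is flat at x. -/
theorem result {A A' : Type u} [CommRing A] [CommRing A']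
    [Algebra A A'] [Algebra.IsIntegral A A'] (hinj : Function.Injective (algebraMap A A'))
    {X : Scheme.{u}} (f : X ⟶ Spec (CommRingCat.of A)) [LocallyOfFinitePresentation f] (x : X)
    (h : ∀ x' : ↥(pullback f (Spec.map (CommRingCat.ofHom (algebraMap A A')))),
      (pullback.fst f _).base x' = x →
      ((pullback.snd f (Spec.map (CommRingCat.ofHom (algebraMap A A')))).stalkMap x').hom.Flat) :
    (f.stalkMap x).hom.Flat := by
  let g : Spec (CommRingCat.of A') ⟶ Spec (CommRingCat.of A) := Spec.map (CommRingCat.ofHom (algebraMap A A'))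
  haveI : IsIntegralHom g := by
    rw [IsIntegralHom.SpecMap_iff]
    intro y
    exact Algebra.IsIntegral.isIntegral y
  have hclosed : IsClosed ((pullback.fst f g).base ''
      {z | ((pullback.snd f g).stalkMap z).hom.Flat}ᶜ) :=
    (pullback.fst f g).isClosedMap _ (Groth.Agent.FlatLocus.isOpen_flat_locus (pullback.snd f g)).isClosed_compl
  obtain ⟨U, hU, hxU, hUsub⟩ := exists_isAffineOpen_mem_and_subset
    (U := (⟨_, hclosed.isOpen_compl⟩ : X.Opens)) (x := x) (by rintro ⟨z, hz, hzx⟩; exact hz (h z hzx))
  let j := hU.fromSpec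
  let φ := Spec.preimage (j ≫ f)
  have hφ : Spec.map φ = j ≫ f := Spec.map_preimage _
  haveI : LocallyOfFinitePresentation (Spec.map φ) := by rw [hφ]; infer_instance
  letI : Algebra A Γ(X, U) := φ.hom.toAlgebra
  have hB : Algebra.FinitePresentation A Γ(X, U) := (LocallyOfFinitePresentation.SpecMap_iff φ).mp inferInstance
  -- the base change is flat
  let q := Spec.map (CommRingCat.ofHom (algebraMap A Γ(X, U)))
  let m : pullback g q ⟶ pullback f g := (pullbackSymmetry g q).hom ≫
    pullback.map q g f g j (𝟙 _) (𝟙 _) (by rw [Category.comp_id]; exact hφ) rfl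
  haveI : Flat (pullback.fst g q) := by
    refine Flat.of_stalkMap _ fun z => ?_
    have e : pullback.fst g q = m ≫ pullback.snd f g := by
      simp only [m, pullback.map, Category.assoc, pullback.lift_snd, Category.comp_id, pullbackSymmetry_hom_comp_snd]
    rw [e, Scheme.Hom.stalkMap_comp]
    haveI : IsIso (m.stalkMap z) := inferInstance
    refine (Groth.Agent.FlatLocus.flat_comp_isIso ((pullback.snd f g).stalkMap (m z)) (m.stalkMap z)).2 ?_
    by_contra hnf
    have hrange : (pullback.fst f g).base (m z) ∈ U := by
      have e' : m ≫ pullback.fst f g = pullback.snd g q ≫ j := by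
        simp only [m, pullback.map, Category.assoc, pullback.lift_fst, pullbackSymmetry_hom_comp_fst_assoc]
      show (pullback.fst f g) (m z) ∈ U
      rw [← Scheme.Hom.comp_apply, e', Scheme.Hom.comp_apply]
      have := Set.mem_range_self (f := j) (pullback.snd g q z)
      rwa [hU.range_fromSpec] at this
    exact hUsub hrange ⟨m z, hnf, rfl⟩
  haveI : Flat (Spec.map (CommRingCat.ofHom (algebraMap A' (TensorProduct A A' Γ(X, U))))) := by
    rw [← pullbackSpecIso_inv_fst' A A' Γ(X, U)]
    infer_instance
  haveI : Module.Flat A' (TensorProduct A A' Γ(X, U)) :=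
    RingHom.flat_algebraMap_iff.mp
      ((Flat.SpecMap_iff (f := CommRingCat.ofHom (algebraMap A' (TensorProduct A A' Γ(X, U))))).mp inferInstance)
  have hflat : Module.Flat A Γ(X, U) := by
    obtain ⟨n, ψ, hψ, hk⟩ := Algebra.FinitePresentation.out (R := A) (A := Γ(X, U))
    letI := ψ.toRingHom.toAlgebra
    haveI : IsScalarTower A (MvPolynomial (Fin n) A) Γ(X, U) :=
      IsScalarTower.of_algebraMap_eq fun r => (ψ.commutes r).symm
    haveI : Module.FinitePresentation (MvPolynomial (Fin n) A) Γ(X, U) :=
      Module.finitePresentation_of_surjective (Algebra.linearMap (MvPolynomial (Fin n) A) Γ(X, U)) hψ hk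
    exact Groth.Agent.FlatModel.flat_of_flat_baseChange_integral A A' hinj n Γ(X, U)
  haveI : Flat (j ≫ f) := by
    rw [← hφ, Flat.SpecMap_iff]
    exact hflat
  obtain ⟨z, rfl⟩ : x ∈ Set.range j := by rw [hU.range_fromSpec]; exact hxU
  have h2 := Flat.stalkMap (j ≫ f) z
  rw [Scheme.Hom.stalkMap_comp] at h2
  exact (Groth.Agent.FlatLocus.flat_comp_isIso _ _).1 h2

end Groth.Agent.S2564
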