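import Groth.Statements.S2568
import Groth.Agent.S14070
import Groth.Agent.UnivOpen.Conditions
import Groth.Agent.UnivOpen.Normal.ConditionT
-- import your own Groth.Agent.* helpers here

set_option autoImplicit false
open CategoryTheory AlgebraicGeometry
universe u
open EGA43

namespace Groth.Agent.S2568

/-- Chevalley's criterion in the case of irreducible source and base: let X and Y be irreducible
schemes, all local rings of Y geometrically unibranch, and f : X ⟶ Y a dominant morphism locally of
finite type such that for every point x the local dimension at x of the fibre through x equals the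
dimension of the generic fibre (the fibre over the image of the generic point of X). Then f is
universally open. -/
theorem result {X Y : Scheme.{u}} [IrreducibleSpace X] [IrreducibleSpace Y]
    (hY : ∀ y : Y, CAlg2.IsGeomUnibranch (Y.presheaf.stalk y)) (f : X ⟶ Y) [LocallyOfFiniteType f] [IsDominant f]
    (h : ∀ x : X, FlatMor.fibreDimAt f x = topologicalKrullDim ↥(f.fiber (f.base (genericPoint X)))) :
    UniversallyOpen f := by
  have hηX : ∀ t, t ⤳ genericPoint X → t = genericPoint X := fun t ht =>
    Groth.Agent.UnivOpen.genericPoint_maximal ht
  have hfη : ∀ b, b ⤳ f (genericPoint X) → b = f (genericPoint X) := by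
    have hd : f (genericPoint X) = genericPoint Y :=
      ((genericPoint_spec X).image f.continuous).eq (by
        rw [Set.image_univ, (IsDominant.denseRange (f := f)).closure_range]
        exact genericPoint_spec Y)
    rw [hd]
    exact fun b hb => Groth.Agent.UnivOpen.genericPoint_maximal hb
  have hr : ∀ z, Groth.Agent.FibDim.rd f z ≤ Groth.Agent.FibDim.rd f (genericPoint X) := fun z => by
    have h1 := Groth.Agent.FibDim.rd_le_fibreDimAt f (specializes_refl z) rfl
    rw [h z, ← h (genericPoint X), Groth.Agent.FibDim.fibreDimAt_eq_rd f
      (Groth.Agent.FibDim.fibMax_of_maximal f hηX)] at h1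
    exact_mod_cast h1
  refine Groth.Agent.S14070.result hY ?_ f fun x => ?_
  · rw [irreducibleComponents_eq_singleton]
    exact Set.finite_singleton _
  · exact Groth.Agent.UnivOpen.conditionT_of_bound f ((genericPoint_spec X).specializes (Set.mem_univ x)) hηX hfη ⊤
      trivial fun z _ => hr z

end Groth.Agent.S2568
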