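import Groth.Statements.S2569
import Groth.Agent.ProperAt5.BaseDvr
import Groth.Agent.ProperAt5.Dvr
-- import your own Groth.Agent.* helpers here

set_option autoImplicit false
open CategoryTheory AlgebraicGeometry
universe u
open EGA43

namespace Groth.Agent.S2569

set_option backward.isDefEq.respectTransparency false
set_option backward.isDefEq.respectTransparency.types false

/-- Let Y be locally Noetherian and f : X ⟶ Y separated, of finite type and universally submersive
(every base change is a topological quotient map onto its target), with all fibres geometrically
connected. If the fibre over a point y is proper over the residue field of y, then f is proper over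
some open neighbourhood of y. -/
theorem result {X Y : Scheme.{u}} [IsLocallyNoetherian Y] (f : X ⟶ Y)
    [IsSeparated f] [LocallyOfFiniteType f] [QuasiCompact f]
    (hsub : MorphismProperty.universally (topologically fun g => Topology.IsQuotientMap g) f)
    (hconn : ∀ y : Y, GeometricallyConnected (f.fiberToSpecResidueField y))
    (y : Y) (hy : IsProper (f.fiberToSpecResidueField y)) :
    ∃ U : Y.Opens, y ∈ U ∧ IsProper (f ∣_ U) := by
  refine ProperAt5.exists_isProper_restrict f y fun A _ _ _ g hg σ hσ => ?_
  have hq : Topology.IsQuotientMap (Limits.pullback.snd f g) := hsub _ _ _ (IsPullback.of_hasPullback f g).flip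
  haveI : IsProper (Limits.pullback.snd f g) := ProperAt5.isProper_dvr (Limits.pullback.snd f g)
    (ProperAt5.isProper_fibre_pullback f g _ hg hy)
    (ProperAt5.geometricallyConnected_fibre_pullback f g _ rfl (hconn _))
    (ProperAt5.exists_meet_of_isQuotientMap _ hq)
  exact ProperAt5.exists_section_of_isProper f g σ hσ

end Groth.Agent.S2569
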