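import Groth.Statements.S2571
import Mathlib.AlgebraicGeometry.Morphisms.Affine
import Groth.Agent.QuasiSect5.Descent
import Groth.Agent.S0021
-- import your own Groth.Agent.* helpers here

set_option autoImplicit false
open CategoryTheory AlgebraicGeometry
universe u
open EGA43

namespace Groth.Agent.S2571

open CategoryTheory.Limits

set_option backward.isDefEq.respectTransparency.types false

open CategoryTheory.Limits in
/-- Let Y be locally Noetherian, f : X ⟶ Y locally of finite type, and g : Y' ⟶ Y locally of finite
type, universally open and surjective. If the base change X ×_Y Y' ⟶ Y' is an affine morphism, then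
f is affine. -/
theorem result {X Y Y' : Scheme.{u}} [IsLocallyNoetherian Y]
    (f : X ⟶ Y) [LocallyOfFiniteType f] (g : Y' ⟶ Y) [LocallyOfFiniteType g] [UniversallyOpen g] [Surjective g]
    [IsAffineHom (pullback.snd f g)] : IsAffineHom f := by
  refine IsZariskiLocalAtTarget.of_openCover (P := @IsAffineHom.{u}) Y.affineCover fun i => ?_
  let ι := Y.affineCover.f i
  haveI : IsAffineHom (pullback.snd (pullback.snd f ι) (pullback.snd g ι)) := by
    haveI : IsAffineHom (pullback.snd (pullback.snd f g) (pullback.fst g ι)) := MorphismProperty.pullback_snd _ _ ‹_›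
    rw [← pullbackLeftPullbackSndIso_hom_snd, MorphismProperty.cancel_left_of_respectsIso @IsAffineHom] at this
    rw [← pullbackLeftPullbackSndIso_hom_snd, MorphismProperty.cancel_left_of_respectsIso @IsAffineHom]
    have e : pullback.snd f (pullback.fst g ι ≫ g) =
        (pullback.congrHom rfl pullback.condition).hom ≫ pullback.snd f (pullback.snd g ι ≫ ι) := by
      exact ((pullback.lift_snd _ _ _).trans (Category.comp_id _)).symm
    rwa [e, MorphismProperty.cancel_left_of_respectsIso @IsAffineHom] at this
  haveI : IsAffine (Y.affineCover.X i) := inferInstance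
  haveI : IsLocallyNoetherian (Y.affineCover.X i) := LocallyOfFiniteType.isLocallyNoetherian ι
  haveI : AlgebraicGeometry.IsNoetherian (Y.affineCover.X i) := {}
  let f₀ := pullback.snd f ι
  let g₀ := pullback.snd g ι
  show IsAffineHom f₀
  obtain ⟨Y'', h, hfin, hsurj, hsec⟩ := QuasiSect5.exists_cover g₀
  haveI := hfin
  haveI := hsurj
  haveI : IsAffineHom (pullback.snd f₀ h) := QuasiSect5.prop_of_hasLocSec @IsAffineHom f₀ g₀ ‹_› h hsec
  haveI : IsAffine Y'' := isAffine_of_isAffineHom h
  haveI : IsAffine (pullback f₀ h) := isAffine_of_isAffineHom (pullback.snd f₀ h)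
  haveI : Surjective (pullback.fst f₀ h) := inferInstance
  haveI : IsFinite (pullback.fst f₀ h) := inferInstance
  haveI : CompactSpace ↥(pullback f ι) := (pullback.fst f₀ h).surjective.compactSpace (pullback.fst f₀ h).continuous
  haveI : IsLocallyNoetherian (pullback f ι) := LocallyOfFiniteType.isLocallyNoetherian f₀
  haveI : AlgebraicGeometry.IsNoetherian (pullback f ι) := {}
  haveI : IsAffine (pullback f ι) := S0021.result (pullback.fst f₀ h)
  infer_instance

end Groth.Agent.S2571
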