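import Groth.Statements.S2572
import Groth.Agent.DimFormula.DedekindFlat
import Groth.Agent.FibDim.GenerizeDim
import Groth.Agent.H23.RedSub
import Groth.Agent.MorLib.Thickening

set_option autoImplicit false
open CategoryTheory AlgebraicGeometry
universe u
open EGA43

namespace Groth.Agent.S2572

/-- Let Y be an irreducible locally Noetherian scheme whose local rings are regular of dimension at most
one, f : X ⟶ Y locally of finite type, and y a point of Y. If every irreducible component of X
meeting the fibre over y has dense image in Y, then there is an open subset U of X containing that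
fibre such that the restriction of f to U is universally open. -/
theorem result {X Y : Scheme.{u}} [IsLocallyNoetherian Y]
    [IrreducibleSpace Y]
    (hY : ∀ y : Y, IsRegularLocalRing (Y.presheaf.stalk y) ∧ ringKrullDim (Y.presheaf.stalk y) ≤ 1)
    (f : X ⟶ Y) [LocallyOfFiniteType f] (y : Y)
    (h : ∀ Z ∈ irreducibleComponents (X : Type u), (Z ∩ f.base ⁻¹' {y}).Nonempty → Dense (f.base '' Z)) :
    ∃ U : X.Opens, f.base ⁻¹' {y} ⊆ (U : Set X) ∧ UniversallyOpen (U.ι ≫ f) := by
  haveI := LocallyOfFiniteType.isLocallyNoetherian f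
  choose W hxW hW using fun x : X => FibDim.exists_nhd_generizing (X := X) (Z := Set.univ) isClosed_univ x
  let U : X.Opens := ⨆ x : f ⁻¹' {y}, W x.1
  refine ⟨U, fun x hx => TopologicalSpace.Opens.mem_iSup.2 ⟨⟨x, hx⟩, hxW x⟩, ?_⟩
  let j := (Scheme.IdealSheafData.vanishingIdeal (⊤ : TopologicalSpace.Closeds ↥(U : Scheme.{u}))).subschemeι
  haveI : IsReduced (Scheme.IdealSheafData.vanishingIdeal (⊤ : TopologicalSpace.Closeds ↥(U : Scheme.{u}))).subscheme :=
    H23.RedSub.isReduced_vanishingIdeal _
  have hrange : Set.range j = Set.univ := DimFormula.range_vanishingIdeal _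
  haveI : Surjective j := ⟨Set.range_eq_univ.1 hrange⟩
  have hflat : Flat (j ≫ U.ι ≫ f) := DimFormula.flat_of_regular_dim_le_one hY _ fun η hη => by
    have hU : U.ι (j η) ∈ U := (j η).2
    obtain ⟨x, hx⟩ := TopologicalSpace.Opens.mem_iSup.1 hU
    obtain ⟨ζ, -, hζx, hζη⟩ := hW x.1 _ hx trivial
    obtain ⟨z, hz, hzm⟩ := FibDim.exists_maximal_generization ζ
    have hmax : ∀ w, w ⤳ U.ι (j η) → w = U.ι (j η) := fun w hw => by
      obtain ⟨v, rfl⟩ : w ∈ Set.range U.ι := by rw [Scheme.Opens.range_ι]; exact hw.mem_open U.isOpen hU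
      obtain ⟨a, rfl⟩ : v ∈ Set.range j := hrange.symm ▸ Set.mem_univ v
      rw [hη a (j.isClosedEmbedding.isInducing.specializes_iff.1 (U.ι.isOpenEmbedding.isInducing.specializes_iff.1 hw))]
    have hze : z = U.ι (j η) := hmax z (hz.trans hζη)
    have hd := h (closure {z}) (FDescent.closure_mem_irreducibleComponents hzm)
      ⟨x.1, specializes_iff_mem_closure.1 (hz.trans hζx), x.2⟩
    rw [dense_iff_closure_eq, closure_image_closure f.continuous, Set.image_singleton, hze] at hd
    exact IsGenericPoint.eq hd (genericPoint_spec Y)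
  haveI : LocallyOfFinitePresentation (j ≫ U.ι ≫ f) :=
    LocallyOfFinitePresentation.iff_locallyOfFiniteType.2 inferInstance
  haveI : UniversallyOpen (j ≫ U.ι ≫ f) := inferInstance
  exact MorLib.universallyOpen_of_comp_surjective j (U.ι ≫ f)

end Groth.Agent.S2572
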