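import Groth.Statements.S2573
import Groth.Agent.FlatSyz5.GenFreeNil
import Groth.Agent.FlatSyz5.NilFree
import Groth.Agent.FlatModel.Open

set_option autoImplicit false
universe u
open EGA43

namespace Groth.Agent.S2573

open TensorProduct

/-- Let A be a commutative ring whose spectrum is irreducible, with unique minimal prime p, let B be a
finitely presented A-algebra and M a finitely presented B-module. If the localization M_p is flat
over A_p, then there is t ∉ p such that M_t is a free A_t-module. -/
theorem result {A B : Type u} [CommRing A] [CommRing B] [Algebra A B]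
    [Algebra.FinitePresentation A B] (p : Ideal A) [p.IsPrime] (hp : minimalPrimes A = {p})
    (M : Type u) [AddCommGroup M] [Module B M] [Module A M] [IsScalarTower A B M] [Module.FinitePresentation B M]
    (hflat : Module.Flat (Localization.AtPrime p) (LocalizedModule p.primeCompl M)) :
    ∃ t : A, t ∉ p ∧ Module.Free (Localization.Away t) (LocalizedModule (Submonoid.powers t) M) := by
  classical
  have hle : ∀ P : Ideal A, P.IsPrime → p ≤ P := fun P hP => by
    obtain ⟨p', hp', hp'P⟩ := Ideal.exists_minimalPrimes_le (I := (⊥ : Ideal A)) (J := P) bot_le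
    have : p' ∈ minimalPrimes A := hp'
    rw [hp] at this
    exact (Set.mem_singleton_iff.1 this) ▸ hp'P
  -- flatness at every prime over `p`
  haveI : Module.Flat A (LocalizedModule p.primeCompl M) :=
    haveI : Module.Flat A (Localization.AtPrime p) := IsLocalization.flat _ p.primeCompl
    haveI := hflat
    Module.Flat.trans A (Localization.AtPrime p) (LocalizedModule p.primeCompl M)
  have hfib : ∀ (q : Ideal B) [q.IsPrime], q.comap (algebraMap A B) ≤ p →
      Module.Flat A (LocalizedModule q.primeCompl M) := by
    intro q _ hq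
    rw [Groth.Agent.FlatModel.flat_localized_iff q.primeCompl (LocalizedModule.mkLinearMap q.primeCompl M)]
    intro J y hy
    let W := Algebra.algebraMapSubmonoid B p.primeCompl
    have hW : Module.Flat A (LocalizedModule W M) := by
      haveI : IsLocalizedModule p.primeCompl ((LocalizedModule.mkLinearMap W M).restrictScalars A) := by
        constructor
        · intro a
          have hu := IsLocalizedModule.map_units (LocalizedModule.mkLinearMap W M)
            (⟨algebraMap A B a, Algebra.mem_algebraMapSubmonoid_of_mem a⟩ : W)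
          rw [Module.End.isUnit_iff] at hu ⊢
          have : (⇑(algebraMap A (Module.End A (LocalizedModule W M)) (a : A))) =
              ⇑(algebraMap B (Module.End B (LocalizedModule W M)) (algebraMap A B a)) := by
            funext z
            exact (algebraMap_smul B (a : A) z).symm
          rw [this]
          exact hu
        · intro z
          obtain ⟨⟨m, ⟨_, a, ha, rfl⟩⟩, hz⟩ := IsLocalizedModule.surj W (LocalizedModule.mkLinearMap W M) z
          exact ⟨⟨m, ⟨a, ha⟩⟩, by
            rw [Submonoid.smul_def, LinearMap.restrictScalars_apply, ← algebraMap_smul B a z]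
            exact hz⟩
        · intro x y hxy
          obtain ⟨⟨_, a, ha, rfl⟩, h⟩ := IsLocalizedModule.exists_of_eq (S := W) hxy
          exact ⟨⟨a, ha⟩, by
            simp only [Submonoid.smul_def] at h ⊢
            rwa [algebraMap_smul, algebraMap_smul] at h⟩
      exact Module.Flat.of_linearEquiv (IsLocalizedModule.iso p.primeCompl
        ((LocalizedModule.mkLinearMap W M).restrictScalars A)).symm
    obtain ⟨s, hs, hsy⟩ := (Groth.Agent.FlatModel.flat_localized_iff W (LocalizedModule.mkLinearMap W M)).1 hW J y hy
    obtain ⟨a, ha, rfl⟩ := hs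
    exact ⟨_, fun h => ha (hq h), hsy⟩
  -- spreading out
  let I : Ideal B := Ideal.span {g | ∀ W : Submonoid B, g ∈ W → Module.Flat A (LocalizedModule W M)}
  obtain ⟨t₁, ht₁p, ht₁⟩ : ∃ t₁, t₁ ∉ p ∧ algebraMap A B t₁ ∈ I := by
    by_contra hcon
    obtain ⟨q, _, hIq, hdisj⟩ := Ideal.exists_le_prime_disjoint I (Algebra.algebraMapSubmonoid B p.primeCompl)
      (Set.disjoint_left.2 fun x hx ⟨a, ha, hax⟩ => hcon ⟨a, ha, hax ▸ hx⟩)
    have hqp : q.comap (algebraMap A B) ≤ p := fun a ha => by
      by_contra hap
      exact Set.disjoint_left.1 hdisj ha ⟨a, hap, rfl⟩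
    obtain ⟨g, hg, hgW⟩ := Groth.Agent.FlatModel.exists_flat_nhd M q (hfib q hqp)
    exact hg (hIq (Ideal.subset_span hgW))
  obtain ⟨P, f, hPfg, hPp, hfp, hfree⟩ := Groth.Agent.FlatSyz5.exists_free_piece (S := B) M p inferInstance
  let t := t₁ * f
  have htp : t ∉ p := Ideal.IsPrime.mul_notMem inferInstance ht₁p hfp
  refine ⟨t, htp, ?_⟩
  let W := Submonoid.powers (algebraMap A B t)
  have hflatW : Module.Flat A (LocalizedModule W M) := by
    rw [Groth.Agent.FlatModel.flat_localized_iff W (LocalizedModule.mkLinearMap W M)]
    intro J y hy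
    let ann : Ideal B := Submodule.comap (LinearMap.toSpanSingleton B _ y) ⊥
    have hI : I ≤ ann.radical := Ideal.span_le.2 fun g hg => by
      obtain ⟨_, ⟨k, rfl⟩, hk⟩ := (Groth.Agent.FlatModel.flat_localized_iff (Submonoid.powers g)
        (LocalizedModule.mkLinearMap (Submonoid.powers g) M)).1 (hg _ (Submonoid.mem_powers g)) J y hy
      exact ⟨k, by simpa [ann] using hk⟩
    obtain ⟨k, hk⟩ := hI ht₁
    refine ⟨algebraMap A B t ^ k, ⟨k, rfl⟩, ?_⟩
    have h0 : algebraMap A B t₁ ^ k • y = 0 := by simpa [ann] using hk
    rw [map_mul, mul_pow, mul_comm, mul_smul, h0, smul_zero]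
  let At := Localization.Away t
  let g := (LocalizedModule.mkLinearMap W M).restrictScalars A
  haveI : IsLocalizedModule (Submonoid.powers t) g :=
    IsLocalizedModule.restrictScalars_powers (A := B) t (LocalizedModule.mkLinearMap W M)
  haveI : Module.Flat A (LocalizedModule (Submonoid.powers t) M) :=
    haveI := hflatW
    Module.Flat.of_linearEquiv (IsLocalizedModule.iso (Submonoid.powers t) g)
  haveI : Module.Flat At (LocalizedModule (Submonoid.powers t) M) :=
    (Module.flat_iff_of_isLocalization At (Submonoid.powers t) (LocalizedModule (Submonoid.powers t) M)).2 inferInstance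
  let e := (IsLocalizedModule.isBaseChange (Submonoid.powers t) At
    (LocalizedModule.mkLinearMap (Submonoid.powers t) M)).equiv
  haveI : Module.Flat At (At ⊗[A] M) := Module.Flat.of_linearEquiv e
  have hnil : IsNilpotent (P.map (algebraMap A At)) := by
    refine (Ideal.FG.isNilpotent_iff_le_nilradical (hPfg.map _)).2 (Ideal.map_le_iff_le_comap.2 fun x hx => ?_)
    have h1 : IsNilpotent x := nilpotent_iff_mem_prime.2 fun Q hQ => hle Q hQ (hPp hx)
    exact h1.map (algebraMap A At)
  have hmod : Module.Free (At ⧸ P.map (algebraMap A At))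
      ((At ⧸ P.map (algebraMap A At)) ⊗[At] (At ⊗[A] M)) := by
    haveI := hfree (At ⧸ P.map (algebraMap A At))
      (fun x hx => by
        rw [IsScalarTower.algebraMap_apply A At (At ⧸ P.map (algebraMap A At)), Ideal.Quotient.algebraMap_eq,
          Ideal.Quotient.eq_zero_iff_mem]
        exact Ideal.mem_map_of_mem _ hx)
      (by
        have h1 : IsUnit (algebraMap A At t) := IsLocalization.Away.algebraMap_isUnit t
        rw [map_mul] at h1
        rw [IsScalarTower.algebraMap_apply A At (At ⧸ P.map (algebraMap A At))]
        exact (isUnit_of_mul_isUnit_right h1).map _)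
    exact Module.Free.of_equiv (TensorProduct.AlgebraTensorModule.cancelBaseChange A At
      (At ⧸ P.map (algebraMap A At)) (At ⧸ P.map (algebraMap A At)) M).symm
  obtain ⟨R₀, hR₀⟩ := Groth.Agent.FlatSyz5.exists_ideal_free_iff (M := At ⊗[A] M) _ hnil hmod
  haveI hF : Module.Flat At (At ⊗[At] (At ⊗[A] M)) := Module.Flat.of_linearEquiv (TensorProduct.lid At (At ⊗[A] M))
  haveI := (hR₀ At).1 ((hR₀ At).2 hF)
  haveI : Module.Free At (At ⊗[A] M) := Module.Free.of_equiv (TensorProduct.lid At (At ⊗[A] M))
  exact Module.Free.of_equiv e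

end Groth.Agent.S2573
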