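import Groth.Statements.S6352
import Mathlib

set_option autoImplicit false
universe u
open scoped TensorProduct
open CAlg

namespace Groth.Agent.S6352

/-- Let R → R' be an injective ring map, I ⊆ R a nilpotent ideal and M an R-module. Then flatness of M
over R follows from flatness of M/IM over R/I together with flatness of R' ⊗_R M over R'. -/
theorem result (R R' : Type u) [CommRing R] [CommRing R']
    [Algebra R R'] (hinj : Function.Injective (algebraMap R R')) (I : Ideal R) (hI : IsNilpotent I)
    (M : Type u) [AddCommGroup M] [Module R M] [Module.Flat (R ⧸ I) ((R ⧸ I) ⊗[R] M)]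
    [Module.Flat R' (R' ⊗[R] M)] : Module.Flat R M := by
  classical
  obtain ⟨N, hN⟩ := hI
  let I' := I.map (algebraMap R R')
  let L : ℕ → Ideal R := fun k => (I' ^ k).comap (algebraMap R R')
  -- submodules of `R'` tensor injectively
  let M' := R' ⊗[R] M
  let j : ∀ b : Ideal R', (b : Type u) →ₗ[R] R' := fun b => (Submodule.subtype b).restrictScalars R
  have hb : ∀ b : Ideal R', Function.Injective ((j b).rTensor M) := by
    intro b
    have hflat := Module.Flat.rTensor_preserves_injective_linearMap (R := R') (M := M') (Submodule.subtype b) b.subtype_injective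
    let e₁ : (b : Type u) ⊗[R'] M' ≃ₗ[R] b ⊗[R] M :=
      (TensorProduct.AlgebraTensorModule.cancelBaseChange R R' R' b M).restrictScalars R
    let e₂ : R' ⊗[R'] M' ≃ₗ[R] R' ⊗[R] M :=
      (TensorProduct.AlgebraTensorModule.cancelBaseChange R R' R' R' M).restrictScalars R
    have comm : ∀ w, (j b).rTensor M (e₁ w) = e₂ ((Submodule.subtype b).rTensor M' w) := by
      intro w
      induction w using TensorProduct.induction_on with
      | zero => simp
      | add u v hu hv => simp only [map_add, hu, hv]
      | tmul p q =>
        induction q using TensorProduct.induction_on with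
        | zero => simp
        | add u v hu hv => simp only [TensorProduct.tmul_add, map_add, hu, hv]
        | tmul r m =>
          simp only [e₁, e₂, j, LinearEquiv.restrictScalars_apply, LinearMap.rTensor_tmul, Submodule.subtype_apply,
            TensorProduct.AlgebraTensorModule.cancelBaseChange_tmul, LinearMap.restrictScalars_apply]
          rfl
    intro u v huv
    obtain ⟨u, rfl⟩ := e₁.surjective u
    obtain ⟨v, rfl⟩ := e₁.surjective v
    rw [comm, comm] at huv
    exact congrArg e₁ (hflat (e₂.injective huv))
  have key : ∀ t k, t + k = N → ∀ a : Ideal R, a ≤ L k →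
      Function.Injective (((Algebra.linearMap R R').comp a.subtype).rTensor M) := by
    intro t
    induction t with
    | zero =>
      intro k hk a ha
      have : a = ⊥ := by
        refine le_bot_iff.mp (ha.trans ?_)
        have h0 : I' ^ k = ⊥ := by
          rw [← Ideal.map_pow, show k = N by omega, hN]
          exact Ideal.map_bot
        intro r hr
        simp only [L, h0, Ideal.mem_comap, Submodule.mem_bot] at hr
        exact (Submodule.mem_bot R).mpr (hinj (hr.trans (map_zero _).symm))
      subst this
      exact Function.injective_of_subsingleton _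
    | succ t ih =>
      intro k hk a ha
      let a₁ : Ideal R := a ⊓ L (k + 1)
      let W : Submodule R R' := (I' ^ (k + 1)).restrictScalars R
      let V : Submodule R R' := (I' ^ k).restrictScalars R
      let W' : Submodule R V := W.comap V.subtype
      let Q := ↥V ⧸ W'
      let ι₀ : a →ₗ[R] V := ((Algebra.linearMap R R').comp a.subtype).codRestrict V fun r => ha r.2
      let ψ : a →ₗ[R] Q := W'.mkQ.comp ι₀
      let X := ↥a ⧸ LinearMap.ker ψ
      let ψ' : X →ₗ[R] Q := (LinearMap.ker ψ).liftQ ψ le_rfl
      have hψ' : Function.Injective ψ' :=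
        LinearMap.ker_eq_bot.mp (Submodule.ker_liftQ_eq_bot _ _ _ le_rfl)
      have hQI : Module.IsTorsionBySet R Q (I : Set R) := by
        rintro q ⟨i, hi⟩
        obtain ⟨v, rfl⟩ := W'.mkQ_surjective q
        show i • W'.mkQ v = 0
        rw [← map_smul, Submodule.mkQ_apply, Submodule.Quotient.mk_eq_zero]
        show i • (v : R') ∈ I' ^ (k + 1)
        rw [pow_succ', Algebra.smul_def]
        exact Ideal.mul_mem_mul (Ideal.mem_map_of_mem _ hi) v.2
      have hXI : Module.IsTorsionBySet R X (I : Set R) := fun q i => hψ' (by
        rw [map_smul, map_zero]; exact @hQI _ i)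
      letI := hQI.module
      letI := hXI.module
      haveI : IsScalarTower R (R ⧸ I) Q := hQI.isScalarTower
      haveI : IsScalarTower R (R ⧸ I) X := hXI.isScalarTower
      let ψq : X →ₗ[R ⧸ I] Q :=
        { ψ' with
          map_smul' := fun c q => by
            obtain ⟨c, rfl⟩ := Ideal.Quotient.mk_surjective c
            exact map_smul ψ' c q }
      have hψM : Function.Injective (ψ'.rTensor M) := by
        let M0 := (R ⧸ I) ⊗[R] M
        have hflat := Module.Flat.rTensor_preserves_injective_linearMap (R := R ⧸ I) (M := M0) ψq hψ'
        let e₁ : X ⊗[R ⧸ I] M0 ≃ₗ[R] X ⊗[R] M :=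
          (TensorProduct.AlgebraTensorModule.cancelBaseChange R (R ⧸ I) (R ⧸ I) X M).restrictScalars R
        let e₂ : Q ⊗[R ⧸ I] M0 ≃ₗ[R] Q ⊗[R] M :=
          (TensorProduct.AlgebraTensorModule.cancelBaseChange R (R ⧸ I) (R ⧸ I) Q M).restrictScalars R
        have comm : ∀ w, ψ'.rTensor M (e₁ w) = e₂ (ψq.rTensor M0 w) := by
          intro w
          induction w using TensorProduct.induction_on with
          | zero => simp
          | add u v hu hv => simp only [map_add, hu, hv]
          | tmul p q =>
            induction q using TensorProduct.induction_on with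
            | zero => simp
            | add u v hu hv => simp only [TensorProduct.tmul_add, map_add, hu, hv]
            | tmul r m =>
              obtain ⟨r, rfl⟩ := Ideal.Quotient.mk_surjective r
              simp only [e₁, e₂, LinearEquiv.restrictScalars_apply, LinearMap.rTensor_tmul,
                TensorProduct.AlgebraTensorModule.cancelBaseChange_tmul]
              show (ψ' (Ideal.Quotient.mk I r • p)) ⊗ₜ[R] m = (Ideal.Quotient.mk I r • ψq p) ⊗ₜ[R] m
              exact congrArg (· ⊗ₜ[R] m) (ψq.map_smul _ p)
        intro u v huv
        obtain ⟨u, rfl⟩ := e₁.surjective u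
        obtain ⟨v, rfl⟩ := e₁.surjective v
        rw [comm, comm] at huv
        exact congrArg e₁ (hflat (e₂.injective huv))
      rw [injective_iff_map_eq_zero]
      intro z hz
      have hzV : ι₀.rTensor M z = 0 := by
        refine hb (I' ^ k) (Eq.trans ?_ (map_zero _).symm)
        refine Eq.trans ?_ hz
        clear hz
        induction z using TensorProduct.induction_on with
        | zero => simp only [map_zero]; rfl
        | add u v hu hv =>
          rw [map_add, map_add, ← hu, ← hv]
          exact map_add _ _ _
        | tmul r m => rfl
      have hzX : (LinearMap.ker ψ).mkQ.rTensor M z = 0 := by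
        apply hψM
        rw [map_zero]
        have : ψ'.rTensor M ((LinearMap.ker ψ).mkQ.rTensor M z) = W'.mkQ.rTensor M (ι₀.rTensor M z) := by
          rw [← LinearMap.comp_apply, ← LinearMap.rTensor_comp, Submodule.liftQ_mkQ,
            ← LinearMap.comp_apply, ← LinearMap.rTensor_comp]
        rw [this, hzV, map_zero]
      have hker : LinearMap.ker ψ = LinearMap.range (Submodule.inclusion (inf_le_left : a₁ ≤ a)) := by
        ext r
        rw [LinearMap.mem_ker, Submodule.range_inclusion, Submodule.mem_comap, LinearMap.comp_apply,
          Submodule.mkQ_apply, Submodule.Quotient.mk_eq_zero]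
        exact ⟨fun h => ⟨r.2, h⟩, fun h => h.2⟩
      have hex : Function.Exact (Submodule.inclusion (inf_le_left : a₁ ≤ a)) (LinearMap.ker ψ).mkQ :=
        LinearMap.exact_iff.mpr (by rw [Submodule.ker_mkQ, hker])
      obtain ⟨y, rfl⟩ := (rTensor_exact M hex (Submodule.mkQ_surjective _) z).mp hzX
      have hy : ((Algebra.linearMap R R').comp a₁.subtype).rTensor M y = 0 := by
        refine Eq.trans ?_ hz
        rw [← LinearMap.comp_apply (((Algebra.linearMap R R').comp a.subtype).rTensor M), ← LinearMap.rTensor_comp]
        rfl
      rw [(injective_iff_map_eq_zero _).mp (ih (k + 1) (by omega) a₁ inf_le_right) y hy, map_zero]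
  rw [Module.Flat.iff_rTensor_injective']
  intro a
  have := key N 0 (by omega) a (by simp [L])
  rw [LinearMap.rTensor_comp, LinearMap.coe_comp] at this
  exact this.of_comp

end Groth.Agent.S6352
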