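import Groth.Statements.S2574
import Groth.Agent.S6352
import Mathlib

set_option autoImplicit false
open TensorProduct
universe u
open EGA43

namespace Groth.Agent.S2574

/-- Let A be a Noetherian ring, J a nilpotent ideal of A and M an A-module. Then M is flat over A if and
only if (A/J) ⊗_A M is flat over A/J and, for every associated prime p of A, the localization M_p is
flat over A_p. -/
theorem result {A : Type u} [CommRing A] [IsNoetherianRing A]
    (J : Ideal A) (hJ : IsNilpotent J) (M : Type u) [AddCommGroup M] [Module A M] :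
    Module.Flat A M ↔
      Module.Flat (A ⧸ J) ((A ⧸ J) ⊗[A] M) ∧
        ∀ p : associatedPrimes A A,
          haveI : p.1.IsPrime := IsAssociatedPrime.isPrime p.2
          Module.Flat (Localization.AtPrime p.1) (LocalizedModule p.1.primeCompl M) := by
  classical
  refine ⟨fun h => ⟨inferInstance, fun p => ?_⟩, fun ⟨hJf, hp'⟩ => ?_⟩
  · haveI : p.1.IsPrime := IsAssociatedPrime.isPrime p.2
    infer_instance
  haveI := (associatedPrimes.finite A A).to_subtype
  letI := Fintype.ofFinite ↥(associatedPrimes A A)
  haveI hpr : ∀ p : ↥(associatedPrimes A A), p.1.IsPrime := fun p => IsAssociatedPrime.isPrime p.2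
  let L : ↥(associatedPrimes A A) → Type u := fun p => Localization.AtPrime p.1
  letI : ∀ p, CommRing (L p) := fun p => inferInstanceAs (CommRing (Localization.AtPrime p.1))
  letI : ∀ p, Algebra A (L p) := fun p => inferInstanceAs (Algebra A (Localization.AtPrime p.1))
  have hinj : Function.Injective (algebraMap A (∀ p, L p)) := by
    rw [injective_iff_map_eq_zero]
    intro a ha
    by_contra hne
    obtain ⟨P, hP, hle⟩ := exists_le_isAssociatedPrime_of_isNoetherianRing A a hne
    haveI := hP.isPrime
    have h0 : algebraMap A (Localization.AtPrime (⟨P, hP⟩ : ↥(associatedPrimes A A)).1) a = 0 := congrFun ha ⟨P, hP⟩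
    obtain ⟨s, hs⟩ := (IsLocalization.map_eq_zero_iff (M := P.primeCompl)
      (Localization.AtPrime (⟨P, hP⟩ : ↥(associatedPrimes A A)).1) a).1 h0
    exact s.2 (hle (Submodule.mem_colon_singleton.2 (by simpa [smul_eq_mul] using hs)))
  letI : ∀ p, Algebra (∀ p, L p) (L p) := fun p => (Pi.evalRingHom L p).toAlgebra
  haveI : ∀ p, IsScalarTower A (∀ p, L p) (L p) := fun p => .of_algebraMap_eq fun _ => rfl
  let π : ∀ p, (∀ p, L p) →ₗ[∀ p, L p] L p := fun p =>
    { toFun := fun f => f p, map_add' := fun _ _ => rfl, map_smul' := fun _ _ => rfl }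
  let σ : ∀ p, L p →ₗ[∀ p, L p] (∀ p, L p) := fun p =>
    { toFun := Pi.single p
      map_add' := fun x y => Pi.single_add p x y
      map_smul' := fun r x => by
        show Pi.single p (r p * x) = r * Pi.single p x
        funext q
        rcases eq_or_ne q p with rfl | h
        · simp
        · simp [Pi.single_eq_of_ne h] }
  haveI : ∀ p, Module.Flat (∀ p, L p) (L p) := fun p => Module.Flat.of_retract (σ p) (π p) (by ext; simp [σ, π])
  haveI : ∀ p, Module.Flat (∀ p, L p) (L p ⊗[A] M) := fun p => by
    haveI : Module.Flat (L p) (L p ⊗[A] M) := by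
      haveI : Module.Flat (Localization p.1.primeCompl) (LocalizedModule p.1.primeCompl M) := hp' p
      exact Module.Flat.of_linearEquiv (R := Localization p.1.primeCompl)
        (LocalizedModule.equivTensorProduct p.1.primeCompl M).symm
    exact Module.Flat.trans (∀ p, L p) (L p) _
  let π' : ∀ p, (∀ p, L p) ⊗[A] M →ₗ[∀ p, L p] L p ⊗[A] M := fun p =>
    TensorProduct.AlgebraTensorModule.map (π p) LinearMap.id
  let σ' : ∀ p, L p ⊗[A] M →ₗ[∀ p, L p] (∀ p, L p) ⊗[A] M := fun p =>
    TensorProduct.AlgebraTensorModule.map (σ p) LinearMap.id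
  have hsum : ∀ z, ∑ p, σ' p (π' p z) = z := by
    intro z
    induction z using TensorProduct.induction_on with
    | zero => simp
    | add u v hu hv => simp only [map_add, Finset.sum_add_distrib, hu, hv]
    | tmul f m =>
      simp only [π', σ', TensorProduct.AlgebraTensorModule.map_tmul, LinearMap.id_apply]
      rw [← TensorProduct.sum_tmul]
      congr 1
      exact Finset.univ_sum_single f
  let i : (∀ p, L p) ⊗[A] M →ₗ[∀ p, L p] DirectSum _ (fun p => L p ⊗[A] M) :=
    ∑ p, (DirectSum.lof (∀ p, L p) _ (fun p => L p ⊗[A] M) p).comp (π' p)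
  let r : DirectSum _ (fun p => L p ⊗[A] M) →ₗ[∀ p, L p] (∀ p, L p) ⊗[A] M :=
    DirectSum.toModule _ _ _ σ'
  haveI : Module.Flat (∀ p, L p) ((∀ p, L p) ⊗[A] M) := Module.Flat.of_retract i r (by
    refine LinearMap.ext fun z => ?_
    simp [i, r, hsum])
  exact Groth.Agent.S6352.result A (∀ p, L p) hinj J hJ M

end Groth.Agent.S2574
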