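import Groth.Statements.S2587
import Groth.Agent.UnivOpen.Criterion

set_option autoImplicit false
open CategoryTheory AlgebraicGeometry
universe u
open EGA43

namespace Groth.Agent.S2587

open CategoryTheory.Limits in
/-- Let Y be locally Noetherian, f : X ⟶ Y a morphism locally of finite type, and x ∈ X. The morphism f
is universally open at x exactly when: for every discrete valuation ring A and every morphism g :
Spec A ⟶ Y sending the closed point to f x, every point x' of X ×_Y Spec A lying over x and over the
closed point of Spec A is a specialization of some point of X ×_Y Spec A lying over the generic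
point of Spec A. -/
theorem result {X Y : Scheme.{u}} [IsLocallyNoetherian Y] (f : X ⟶ Y)
    [LocallyOfFiniteType f] (x : X) :
    EGA43.IsUnivOpenAt f x ↔
      ∀ (A : Type u) [CommRing A] [IsDomain A] [IsDiscreteValuationRing A]
        (g : Spec (CommRingCat.of A) ⟶ Y), g.base (IsLocalRing.closedPoint A) = f.base x →
        ∀ x' : ↥(pullback f g), (pullback.fst f g).base x' = x →
          (pullback.snd f g).base x' = IsLocalRing.closedPoint A →
          ∃ z' : ↥(pullback f g), z' ⤳ x' ∧ (pullback.snd f g).base z' ≠ IsLocalRing.closedPoint A := by
  exact UnivOpen.isUnivOpenAt_iff_dvr f x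

end Groth.Agent.S2587
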