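import Groth.Statements.S2591
import Groth.Agent.GrFlat5.Stratify

set_option autoImplicit false
open TensorProduct
universe u
open EGA43

namespace Groth.Agent.S2591

/-- Let A be a commutative ring, B a finitely presented A-algebra and M a finitely presented B-module
which is flat over A. Then there are finitely many elements f₁, …, fₙ of A generating the unit ideal
such that, for each i < n, writing A' for the localization of A at f_{i+1} modulo the ideal
generated by f₁, …, fᵢ, the module A' ⊗_A M is free over A'. -/
theorem result {A B : Type u} [CommRing A] [CommRing B] [Algebra A B]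
    [Algebra.FinitePresentation A B] (M : Type u) [AddCommGroup M] [Module B M] [Module A M] [IsScalarTower A B M]
    [Module.FinitePresentation B M] [Module.Flat A M] :
    ∃ l : List A, Ideal.span {a | a ∈ l} = ⊤ ∧
      ∀ (i : ℕ) (hi : i < l.length),
        letI J : Ideal (Localization.Away l[i]) :=
          (Ideal.span {a | a ∈ l.take i}).map (algebraMap A (Localization.Away l[i]))
        Module.Free (Localization.Away l[i] ⧸ J) ((Localization.Away l[i] ⧸ J) ⊗[A] M) := by
  obtain ⟨l, hl, hfree⟩ := Groth.Agent.GrFlat5.exists_free_strat_of_fp (A := A) (B := B) M
  refine ⟨l, hl, fun i hi => hfree i hi _ ?_ ?_⟩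
  · rw [IsScalarTower.algebraMap_apply A (Localization.Away l[i])]
    exact (IsLocalization.Away.algebraMap_isUnit _).map _
  · rw [IsScalarTower.algebraMap_eq A (Localization.Away l[i]) (Localization.Away l[i] ⧸
        (Ideal.span {a | a ∈ l.take i}).map (algebraMap A (Localization.Away l[i]))), ← Ideal.map_map]
    exact Ideal.map_quotient_self _

end Groth.Agent.S2591
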