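import Groth.Statements.S2595
import Groth.Agent.S4949
import Groth.Agent.S3386
import Groth.Agent.S0386
import Mathlib.AlgebraicGeometry.Morphisms.UniversallyOpen
-- import your own Groth.Agent.* helpers here

set_option autoImplicit false
open CategoryTheory AlgebraicGeometry
universe u
open EGA43

namespace Groth.Agent.S2595

set_option backward.isDefEq.respectTransparency false in
set_option backward.isDefEq.respectTransparency.types false in
/-- Let Y be locally Noetherian, f : X ⟶ Y locally of finite type and x a point of X. If O_{Y,f x} ⟶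
O_{X,x} is flat and the local ring at x of the fibre through x is Cohen–Macaulay, then f is
equidimensional at x. -/
theorem result {X Y : Scheme.{u}} [IsLocallyNoetherian Y] (f : X ⟶ Y)
    [LocallyOfFiniteType f] (x : X) (hflat : (f.stalkMap x).hom.Flat)
    (hCM : LocCoh.IsCohenMacaulayLocalRing ((f.fiber (f.base x)).presheaf.stalk (f.asFiber x))) :
    EGA43.IsEquidimAt f x := by
  haveI : LocallyOfFinitePresentation f := inferInstance
  obtain ⟨n, U, hx, g, hgc, hqf, hgflat⟩ := (Groth.Agent.S4949.result f x).1 ⟨hflat, hCM⟩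
  haveI : LocallyOfFiniteType g := by
    haveI : LocallyOfFiniteType (g ≫ (𝔸(ULift.{u} (Fin n); Y) ↘ Y)) := by
      rw [hgc]; infer_instance
    exact locallyOfFiniteType_of_comp g (𝔸(ULift.{u} (Fin n); Y) ↘ Y)
  haveI : IsLocallyNoetherian 𝔸(ULift.{u} (Fin n); Y) :=
    LocallyOfFiniteType.isLocallyNoetherian (𝔸(ULift.{u} (Fin n); Y) ↘ Y)
  haveI : LocallyOfFinitePresentation g := inferInstance
  let W : (U : Scheme.{u}).Opens := ⟨_, Groth.Agent.S0386.result g⟩
  let V : X.Opens := U.ι ''ᵁ W
  haveI : Flat (W.ι ≫ g) := Flat.of_stalkMap _ fun w => by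
    erw [Scheme.Hom.stalkMap_comp, CommRingCat.hom_comp]
    exact RingHom.Flat.comp w.2 (Flat.stalkMap W.ι w)
  let g' : (V : Scheme.{u}) ⟶ 𝔸(ULift.{u} (Fin n); Y) := (U.ι.isoImage W).inv ≫ W.ι ≫ g
  haveI : Flat g' := inferInstance
  refine (Groth.Agent.S3386.result f x).2 inferInstance ⟨n, V, g', ⟨⟨x, hx⟩, hgflat, rfl⟩, ?_, ?_, ?_⟩
  · simp only [g', Category.assoc, hgc]
    rw [Scheme.Hom.isoImage_inv_ι_assoc]
  · infer_instance
  · intro Z hZ
    haveI : QuasiSober (↥V : Type u) := inferInstanceAs (QuasiSober ((V : Scheme.{u}) : Type u))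
    have hirr : IsIrreducible Z := hZ.1
    have hcl : IsClosed Z := isClosed_of_mem_irreducibleComponents Z hZ
    let ζ := hirr.genericPoint
    have hgen : IsGenericPoint ζ Z := by
      simpa only [hcl.closure_eq] using hirr.isGenericPoint_genericPoint_closure
    have hmax : ∀ ξ, ξ ⤳ ζ → ξ = ζ := fun ξ hξ => by
      have hsub : Z ⊆ closure {ξ} := hgen ▸ hξ.closure_subset
      exact (isGenericPoint_closure (x := ξ)).eq
        ((hgen : closure {ζ} = Z).trans (subset_antisymm hsub (hZ.2 isIrreducible_singleton.closure hsub)))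
    have hcl2 : closure (g'.base '' Z) = closure {g'.base ζ} := by
      have := IsGenericPoint.image hgen g'.continuous
      exact this.symm
    rw [hcl2]
    obtain ⟨C, hC, hCmem⟩ : ∃ C ∈ irreducibleComponents _, g'.base ζ ∈ C :=
      ⟨irreducibleComponent (g'.base ζ), irreducibleComponent_mem_irreducibleComponents _,
        mem_irreducibleComponent⟩
    have hCcl : IsClosed C := isClosed_of_mem_irreducibleComponents C hC
    have hη : IsGenericPoint hC.1.genericPoint C := by
      simpa only [hCcl.closure_eq] using hC.1.isGenericPoint_genericPoint_closure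
    obtain ⟨ξ, hξ, hξe⟩ := Flat.generalizingMap g' (hη.specializes hCmem)
    rw [hmax ξ hξ] at hξe
    rw [show g'.base ζ = hC.1.genericPoint from hξe, hη.def]
    exact hC

end Groth.Agent.S2595
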