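import Groth.Statements.S4743
import Groth.Agent.FlatLoc6.DomainModel

set_option autoImplicit false
universe u
open EGA4

namespace Groth.Agent.S4743

open TensorProduct in
/-- For the property 'geometrically reduced', case of a local ring: let A be a Noetherian local ring
with completion Â. Then the formal fibres of A are geometrically reduced if and only if, for every
finite A-algebra B which is a domain and every prime ideal q of B ⊗_A Â whose contraction to B is
zero, the local ring of B ⊗_A Â at q is reduced. (The published statement is for semi-local rings;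
this row takes A local.) -/
theorem result (A : Type u) [CommRing A] [IsNoetherianRing A]
    [IsLocalRing A] :
    EGA4.HasGeomReducedFormalFibres A ↔
      ∀ (B : Type u) [CommRing B] [IsDomain B] [Algebra A B] [Module.Finite A B]
        (q : Ideal (B ⊗[A] EGA4.Cpl A)) [q.IsPrime],
        q.comap (algebraMap B (B ⊗[A] EGA4.Cpl A)) = ⊥ → IsReduced (Localization.AtPrime q) := by
    constructor
    · intro h B _ _ _ _ q _ hq
      obtain ⟨p, _, _, _, _⟩ := FlatLoc6.exists_residue_setup (A := A) B
      obtain ⟨T, _, _, hT, ⟨e⟩⟩ := FlatLoc6.exists_genericFibre (A := A) B (EGA4.Cpl A) (FractionRing B)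
      haveI := h p
      haveI := FBaseLib.isReduced_field_tensor (k := p.ResidueField) (p.Fiber (EGA4.Cpl A)) (FractionRing B)
      let e' := e.trans (Algebra.TensorProduct.cancelBaseChange A p.ResidueField (FractionRing B) (FractionRing B) (EGA4.Cpl A)).symm.toRingEquiv
      haveI : IsReduced T := isReduced_of_injective e' e'.injective
      have hd := FlatLoc6.disjoint_of_comap_eq_bot q hq
      haveI := IsLocalization.isPrime_of_isPrime_disjoint _ T q ‹_› hd
      have key : ∀ (r : Ideal (B ⊗[A] EGA4.Cpl A)) [r.IsPrime], r = q →
          IsReduced (Localization.AtPrime r) → IsReduced (Localization.AtPrime q) := by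
        intro r _ hr hh; subst hr; exact hh
      refine key _ (IsLocalization.under_map_of_isPrime_disjoint _ T ‹_› hd) ?_
      haveI : IsReduced (Localization.AtPrime (q.map (algebraMap (B ⊗[A] EGA4.Cpl A) T))) :=
        isReduced_localizationPreserves (q.map (algebraMap (B ⊗[A] EGA4.Cpl A) T)).primeCompl _ inferInstance
      exact (FlatLoc6.isReduced_atPrime_iff (Algebra.algebraMapSubmonoid (B ⊗[A] EGA4.Cpl A) (nonZeroDivisors B)) T _).mp inferInstance
    · intro h p _
      refine FlatLoc6.geomReduced_of_finite fun L _ _ hL => ?_
      haveI := hL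
      letI : Algebra A L := ((algebraMap p.ResidueField L).comp (algebraMap A p.ResidueField)).toAlgebra
      haveI : IsScalarTower A p.ResidueField L := IsScalarTower.of_algebraMap_eq' rfl
      obtain ⟨B, hfin, hfrac⟩ := FlatLoc6.exists_domainModel p L
      haveI := hfin
      haveI := hfrac
      obtain ⟨T, _, _, hT, ⟨e⟩⟩ := FlatLoc6.exists_genericFibre (A := A) B (EGA4.Cpl A) L
      let e' := e.trans (Algebra.TensorProduct.cancelBaseChange A p.ResidueField L L (EGA4.Cpl A)).symm.toRingEquiv
      haveI : IsReduced T := isReduced_ofLocalizationMaximal T fun Q _ =>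
        (FlatLoc6.isReduced_atPrime_iff (Algebra.algebraMapSubmonoid (B ⊗[A] EGA4.Cpl A) (nonZeroDivisors B)) T Q).mpr
          (h B _ (FlatLoc6.comap_eq_bot_of_isLocalization Q))
      exact isReduced_of_injective e'.symm e'.symm.injective

end Groth.Agent.S4743
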