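import Groth.Statements.S4993
import Groth.Agent.GrpSchLib.HomFibre
import Groth.Agent.GrpSchLib.SmoothRegular
import Groth.Agent.DimFormula.Fibre
import Groth.Agent.MorLib.MonoSpec
import Groth.Agent.MorLib.WeightFlat
import Groth.Agent.CotTLib.CI
import Groth.Agent.S2082
import Groth.Agent.FibDim.LocDim
import Groth.Agent.AlgSpPts.Sep
import Mathlib.AlgebraicGeometry.Morphisms.FlatMono
-- import your own Groth.Agent.* helpers here

set_option autoImplicit false
universe u
open CategoryTheory CategoryTheory.Limits AlgebraicGeometry TopologicalSpace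
open Unram17

namespace Groth.Agent.S4993

open CategoryTheory CategoryTheory.Limits AlgebraicGeometry Groth.Agent

theorem stalkDim_fiber {X Y : Scheme.{u}} (f : X ⟶ Y) [LocallyOfFiniteType f] {y : Y} (z : ↥(f.fiber y)) :
    ringKrullDim ((f.fiber y).presheaf.stalk z) = (DimFormula.fb f (f.fiberι y z) : WithBot ℕ∞) := by
  suffices key : ∀ (x : X) (t : Y), f x = t → ∀ z : ↥(f.fiber t), f.fiberι t z = x →
      ringKrullDim ((f.fiber t).presheaf.stalk z) = (DimFormula.fb f x : WithBot ℕ∞) from
    key _ y (FibDim.fiber_apply_fiberι f z) z rfl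
  intro x t ht
  subst ht
  intro z hz
  obtain rfl : z = f.asFiber x :=
    (f.fiberι (f x)).isEmbedding.injective (hz.trans (f.fiberι_asFiber x).symm)
  exact DimFormula.ringKrullDim_stalk_fibre f x

theorem flat_stalkMap {X Y S : Scheme.{u}} (f : Y ⟶ S) (h : X ⟶ S) [Smooth f] [Smooth h] (g : X ⟶ Y)
    (w : g ≫ f = h) [Mono g] (x : X) (hd : FlatMor.fibreDimAt f (g x) = FlatMor.fibreDimAt h x) :
    (g.stalkMap x).hom.Flat := by
  let s := h x
  let z : ↑(pullback h (S.fromSpecResidueField s)) := h.asFiber x
  let φ : pullback h (S.fromSpecResidueField s) ⟶ pullback f (S.fromSpecResidueField s) :=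
    pullback.lift (pullback.fst _ _ ≫ g) (pullback.snd _ _) (by rw [Category.assoc, w, pullback.condition])
  have h1 : φ ≫ pullback.fst _ _ = pullback.fst _ _ ≫ g := pullback.lift_fst _ _ _
  have h2 : φ ≫ pullback.snd _ _ = pullback.snd _ _ := pullback.lift_snd _ _ _
  have hz : pullback.fst h (S.fromSpecResidueField s) z = x := h.fiberι_asFiber x
  suffices hflat : (φ.stalkMap z).hom.Flat by
    have := GrpSchLib.HomFibre.flat_of_fibre_flat g f h w s z φ h1 h2 hflat
    rwa [hz] at this
  haveI : Mono (φ ≫ pullback.fst f (S.fromSpecResidueField s)) := by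
    rw [h1]; exact mono_comp _ _
  haveI : Mono φ := mono_of_mono φ (pullback.fst f (S.fromSpecResidueField s))
  haveI : LocallyOfFiniteType (φ ≫ pullback.snd f (S.fromSpecResidueField s)) := by
    rw [h2]; infer_instance
  haveI : LocallyOfFiniteType φ := locallyOfFiniteType_of_comp φ (pullback.snd f (S.fromSpecResidueField s))
  haveI : IsIso (φ.residueFieldMap z) := by
    haveI := MorLib.MonoSpec.isIso_specMap_residueFieldMap φ z
    haveI : IsIso (Scheme.Spec.map (φ.residueFieldMap z).op) := ‹_›
    haveI := isIso_of_reflects_iso (φ.residueFieldMap z).op Scheme.Spec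
    exact isIso_of_op _
  let pX : pullback h (S.fromSpecResidueField s) ⟶ Spec (CommRingCat.of (S.residueField s)) :=
    pullback.snd _ _
  let pY : pullback f (S.fromSpecResidueField s) ⟶ Spec (CommRingCat.of (S.residueField s)) :=
    pullback.snd _ _
  haveI : Smooth pX := inferInstanceAs (Smooth (pullback.snd h (S.fromSpecResidueField s)))
  haveI : Smooth pY := inferInstanceAs (Smooth (pullback.snd f (S.fromSpecResidueField s)))
  have hR := GrpSchLib.isRegularLocalRing_stalk_of_smooth pY (φ z)
  have hS := GrpSchLib.isRegularLocalRing_stalk_of_smooth pX z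
  have hgx : pullback.fst f (S.fromSpecResidueField s) (φ z) = g x := by
    rw [← Scheme.Hom.comp_apply, h1, Scheme.Hom.comp_apply, hz]
  have hrd : FibDim.rd h x = FibDim.rd f (g x) := by
    have e1 := FibDim.deg_fiber h s z
    have e2 := FibDim.deg_fiber f s (φ z)
    rw [show h.fiberι s z = x from hz] at e1
    rw [show f.fiberι s (φ z) = g x from hgx] at e2
    rw [← e1, ← e2]
    haveI : LocallyOfFiniteType (φ ≫ pY) := by
      change LocallyOfFiniteType (φ ≫ pullback.snd f (S.fromSpecResidueField s)); infer_instance
    have := VarDim.deg_comp (k := S.residueField s) pY φ z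
    rw [show φ ≫ pY = pX from h2] at this
    exact this
  have hfb : DimFormula.fb h x = DimFormula.fb f (g x) := by
    have e := hd
    rw [DimFormula.fibreDimAt_eq_add, DimFormula.fibreDimAt_eq_add, hrd] at e
    have e' : FibDim.rd f (g x) + DimFormula.fb f (g x) = FibDim.rd f (g x) + DimFormula.fb h x := by
      exact_mod_cast e
    omega
  algebraize [(φ.stalkMap z).hom]
  haveI : IsLocalHom (algebraMap ((pullback f (S.fromSpecResidueField s)).presheaf.stalk (φ z))
      ((pullback h (S.fromSpecResidueField s)).presheaf.stalk z)) :=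
    inferInstanceAs <| IsLocalHom (φ.stalkMap z).hom
  haveI : LocCoh.IsCohenMacaulayLocalRing ((pullback h (S.fromSpecResidueField s)).presheaf.stalk z) :=
    { supportDim_eq_depth := (CotTLib.isCM_of_isRegularLocalRing _) }
  refine S2082.result ?_
  have hmax : (IsLocalRing.maximalIdeal ((pullback f (S.fromSpecResidueField s)).presheaf.stalk (φ z))).map
      (algebraMap _ ((pullback h (S.fromSpecResidueField s)).presheaf.stalk z)) =
      IsLocalRing.maximalIdeal _ := MorLib.WT.map_maximalIdeal_stalkMap φ z
  have e1 : ringKrullDim ((pullback h (S.fromSpecResidueField s)).presheaf.stalk z) =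
      (DimFormula.fb h x : WithBot ℕ∞) := by
    have := stalkDim_fiber h (y := s) z
    rw [show h.fiberι s z = x from hz] at this
    exact this
  have e2 : ringKrullDim ((pullback f (S.fromSpecResidueField s)).presheaf.stalk (φ z)) =
      (DimFormula.fb f (g x) : WithBot ℕ∞) := by
    have := stalkDim_fiber f (y := s) (φ z)
    rw [show f.fiberι s (φ z) = g x from hgx] at this
    exact this
  rw [e1, e2, hfb, hmax]
  haveI := (Ideal.Quotient.maximal_ideal_iff_isField_quotient _).1
    (IsLocalRing.maximalIdeal.isMaximal ((pullback h (S.fromSpecResidueField s)).presheaf.stalk z))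
  rw [ringKrullDim_eq_zero_of_isField this, add_zero]

/-- Let f : Y ⟶ S and h : X ⟶ S be smooth and let g : X ⟶ Y satisfy g ≫ f = h. Then g is an open
immersion if and only if g is a monomorphism and, for every point x of X, the local dimension at
g(x) of the fibre of f through g(x) equals the local dimension at x of the fibre of h through x. -/
theorem result {X Y S : Scheme.{u}} (f : Y ⟶ S) (h : X ⟶ S)
    [Smooth f] [Smooth h] (g : X ⟶ Y) (w : g ≫ f = h) :
    IsOpenImmersion g ↔ Mono g ∧ ∀ x : ↥X, FlatMor.fibreDimAt f (g.base x) = FlatMor.fibreDimAt h x := by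
  constructor
  · intro hg
    refine ⟨inferInstance, fun x => ?_⟩
    subst w
    exact (FibDim.fibreDimAt_openImmersion_comp g f x).symm
  · rintro ⟨hm, hd⟩
    haveI : Flat g := Flat.of_stalkMap _ fun x => flat_stalkMap f h g w x (hd x)
    haveI : LocallyOfFinitePresentation (g ≫ f) := by rw [w]; infer_instance
    haveI : LocallyOfFinitePresentation g := AlgSpPts.locallyOfFinitePresentation_of_comp g f
    exact IsOpenImmersion.of_flat_of_mono g

end Groth.Agent.S4993
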