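import Groth.Statements.S3436
import Mathlib
import Groth.Agent.AdicFS4.Ess

set_option autoImplicit false
open CategoryTheory AlgebraicGeometry
universe u
open EGA42

namespace Groth.Agent.S3436

/-- Let X and Y be locally Noetherian schemes, f : X ⟶ Y locally of finite type, x a point of X and y =
f x; give O_{X,x} the O_{Y,y}-algebra structure coming from f. Then O_{X,x} is formally smooth over
O_{Y,y} for the adic topologies of the two local rings (topologies defined by the maximal ideals) if
and only if it is formally smooth for the discrete topologies. -/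
theorem result {X Y : Scheme.{u}} [IsLocallyNoetherian X] [IsLocallyNoetherian Y]
    (f : X ⟶ Y) [LocallyOfFiniteType f] (x : X) :
    letI : Algebra (Y.presheaf.stalk (f.base x)) (X.presheaf.stalk x) := (f.stalkMap x).hom.toAlgebra
    EGA41.IsFormallySmoothAdic (Y.presheaf.stalk (f.base x)) (IsLocalRing.maximalIdeal (Y.presheaf.stalk (f.base x)))
        (X.presheaf.stalk x) (IsLocalRing.maximalIdeal (X.presheaf.stalk x)) ↔
      Algebra.FormallySmooth (Y.presheaf.stalk (f.base x)) (X.presheaf.stalk x) := by
  letI : Algebra (Y.presheaf.stalk (f.base x)) (X.presheaf.stalk x) := (f.stalkMap x).hom.toAlgebra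
  haveI : Algebra.EssFiniteType (Y.presheaf.stalk (f.base x)) (X.presheaf.stalk x) :=
    LocallyOfFiniteType.stalkMap f x
  constructor
  · intro h
    refine AdicFS4.formallySmooth_of_essFiniteType _ _ fun C _ _ J hJ u hu => ?_
    refine h C J ⟨2, by rw [hJ, Ideal.zero_eq_bot]⟩ ?_ u hu
    obtain ⟨k, hk⟩ := hu
    refine ⟨k * 2, ?_⟩
    rw [pow_mul, Ideal.map_pow, eq_bot_iff, ← hJ]
    refine Ideal.pow_right_mono (Ideal.map_le_iff_le_comap.2 fun a ha => ?_) 2
    have h1 : algebraMap (Y.presheaf.stalk (f.base x)) (X.presheaf.stalk x) a ∈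
        IsLocalRing.maximalIdeal (X.presheaf.stalk x) ^ k := by
      refine Ideal.pow_right_mono (Ideal.map_le_iff_le_comap.2 fun b hb => ?_) k
        (Ideal.map_pow (algebraMap (Y.presheaf.stalk (f.base x)) (X.presheaf.stalk x)) (IsLocalRing.maximalIdeal (Y.presheaf.stalk (f.base x))) k ▸
          Ideal.mem_map_of_mem _ ha)
      exact map_nonunit (f.stalkMap x).hom b hb
    have h2 := hk _ h1
    rw [AlgHom.commutes, ← Ideal.Quotient.mk_algebraMap, Ideal.Quotient.eq_zero_iff_mem] at h2
    exact h2
  · intro h C _ _ J hJ _ u _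
    exact ⟨Algebra.FormallySmooth.lift J hJ u, AlgHom.ext fun b => Algebra.FormallySmooth.mk_lift J hJ u b⟩

end Groth.Agent.S3436
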