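import Groth.Statements.S2904
import Groth.Agent.DescLib.EtOpen
import Groth.Agent.DescLib.EtSchDD
-- import your own Groth.Agent.* helpers here

set_option autoImplicit false
set_option backward.isDefEq.respectTransparency false
set_option backward.isDefEq.respectTransparency.types false
set_option linter.style.haveILetI false
open CategoryTheory CategoryTheory.Limits AlgebraicGeometry Opposite
universe u
open SGA1

namespace Groth.Agent.S2904

/-- Let S be locally Noetherian and g : S' ⟶ S of finite type, surjective and universally open. Then
every descent datum relative to g whose underlying scheme is etale, separated and quasi-compact over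
S' is isomorphic to the canonical descent datum of a scheme etale, separated and quasi-compact over
S. (Descent data relative to g are taken in functor-of-points form.) -/
theorem result {S' S : Scheme.{u}} [IsLocallyNoetherian S] (g : S' ⟶ S)
    [LocallyOfFiniteType g] [QuasiCompact g] [Surjective g] [UniversallyOpen g]
    (D : Desc.SchDD g) [QuasiCompact D.obj.hom] [IsSeparated D.obj.hom] [Etale D.obj.hom] :
    ∃ U : Over S, QuasiCompact U.hom ∧ IsSeparated U.hom ∧ Etale U.hom ∧ Nonempty ((Desc.toDD g).obj U ≅ D) := by
  haveI : Etale (((Desc.SchDDFam.ofSchDD.{0, u} g).obj D).obj ⟨⟩).hom := ‹Etale D.obj.hom›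
  haveI : QuasiCompact (((Desc.SchDDFam.ofSchDD.{0, u} g).obj D).obj ⟨⟩).hom := inferInstanceAs (QuasiCompact D.obj.hom)
  haveI : IsSeparated (((Desc.SchDDFam.ofSchDD.{0, u} g).obj D).obj ⟨⟩).hom := inferInstanceAs (IsSeparated D.obj.hom)
  haveI : LocallyOfFinitePresentation g := (LocallyOfFinitePresentation.iff_locallyOfFiniteType (f := g)).2 inferInstance
  haveI : IsLocallyNoetherian S' := LocallyOfFiniteType.isLocallyNoetherian g
  haveI : QuasiSeparated g := QuasiSeparated.of_comp g (terminal.from S)
  exact DescLib.effective_schDD_of_fam g (HTopCov.univSubmersive_of_open g) D DescLib.effective_etale_open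

end Groth.Agent.S2904
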