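import Groth.Statements.S2910
import Groth.Agent.SGA1Q.GeomTrans
import Groth.Agent.SGA1Q.Residue
import Groth.Agent.Pi1X.FEtBasic

set_option autoImplicit false
open CategoryTheory CategoryTheory.Limits AlgebraicGeometry
universe u
open SGA1

namespace Groth.Agent.S2910

/-- Let a finite group G act faithfully on a connected scheme X, let p : X ⟶ Y be a quotient of X by G
with Y locally Noetherian and p finite, and suppose p is etale. Then G acts freely on the geometric
points of X (all inertia groups are trivial), and every automorphism of X over Y is the action of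
exactly one element of G. -/
theorem result {X Y : Scheme.{u}} {G : Type u} [Group G] [Finite G] (ρ : G →* Aut X)
    (p : X ⟶ Y) (hp : SGA1.IsQuot ρ p) [IsLocallyNoetherian Y] [IsFinite p] [ConnectedSpace X]
    (hfaith : Function.Injective ρ) [Etale p] :
    (∀ (K : Type u) [Field K] [IsAlgClosed K] (ξ : Spec (CommRingCat.of K) ⟶ X) (g : G), ξ ≫ (ρ g).hom = ξ → g = 1) ∧
    ∀ u : Aut X, u.hom ≫ p = p → ∃! g : G, ρ g = u := by
  haveI : Nonempty ↥X := ConnectedSpace.toNonempty
  refine ⟨fun K _ _ ξ g hξ => ?_, fun u hu => ?_⟩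
  · have h : (ρ g).hom = 𝟙 X := Groth.Agent.Pi1X.hom_ext_of_connected p (ρ g).hom (𝟙 X)
      (by rw [hp.inv g, Category.id_comp]) ξ (by rw [hξ, Category.comp_id])
    apply hfaith
    rw [map_one]
    exact Iso.ext h
  · obtain ⟨x⟩ := (inferInstance : Nonempty ↥X)
    let Ω := AlgebraicClosure (X.residueField x)
    let ξ : Spec (CommRingCat.of Ω) ⟶ X :=
      Spec.map (CommRingCat.ofHom (algebraMap (X.residueField x) Ω)) ≫ X.fromSpecResidueField x
    obtain ⟨g, hg⟩ := SGA1Q.geomTransitive p ρ hp.inv (fun a b h => (SGA1Q.orbit_iff hp a b).1 h)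
      (fun a => (SGA1Q.normal_and_stabilizer_surjective hp a).1) (fun a σ hσ => by
        obtain ⟨g, e, he⟩ := (SGA1Q.normal_and_stabilizer_surjective hp a).2 σ hσ
        refine ⟨g, ?_⟩
        rw [he, Spec.map_comp, Category.assoc, ← Scheme.Hom.SpecMap_residueFieldMap_fromSpecResidueField]
        congr 1
        rw [← Iso.symm_hom]
        exact (Scheme.residueFieldCongr_fromSpecResidueField e.symm).symm)
      Ω ξ (ξ ≫ u.hom) ((congrArg (ξ ≫ ·) hu).symm.trans (Category.assoc _ _ _).symm)
    refine ⟨g, Iso.ext (Groth.Agent.Pi1X.hom_ext_of_connected p (ρ g).hom u.hom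
      (by rw [hp.inv g, hu]) ξ hg), fun g' hg' => hfaith (hg'.trans ?_)⟩
    exact (Iso.ext (Groth.Agent.Pi1X.hom_ext_of_connected p (ρ g).hom u.hom
      (by rw [hp.inv g, hu]) ξ hg)).symm

end Groth.Agent.S2910
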