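import Groth.Statements.S2913
import Mathlib.AlgebraicGeometry.Morphisms.UnderlyingMap

set_option autoImplicit false
open CategoryTheory CategoryTheory.Limits AlgebraicGeometry Opposite
universe u
open SGA1

namespace Groth.Agent.S2913

/-- Let g : S' ⟶ S be a surjective morphism of schemes such that for every open U of S the map O_S(U) →
O_{S'}(g⁻¹U) is injective. Then g is an epimorphism in the category of schemes. -/
theorem result {S' S : Scheme.{u}} (g : S' ⟶ S) [Surjective g]
    (hinj : ∀ U : S.Opens, Function.Injective (g.app U).hom) : Epi g := by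
  constructor
  intro Z a b h
  have hbase : a.base = b.base := by
    ext x
    obtain ⟨y, rfl⟩ := g.surjective x
    exact congrArg (fun m : S' ⟶ Z => m.base y) h
  have key : ∀ (V W : S.Opens) (e : V = W) (x : Γ(S, V)) (y : Γ(S, W)),
      (g.app V).hom x = (S'.presheaf.map (eqToHom (by rw [e])).op).hom ((g.app W).hom y) →
      (S.presheaf.map (eqToHom e.symm).op).hom x = y := by
    intro V W e x y hxy
    subst e
    simp at hxy ⊢
    exact hinj V hxy
  refine Scheme.Hom.ext hbase fun U => ?_
  apply (ConcreteCategory.hom_ext _ _)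
  intro s
  have h1 := congrArg (fun q => q.hom s) (Scheme.Hom.congr_app h U)
  simp only [Scheme.Hom.comp_app, CommRingCat.hom_comp, RingHom.comp_apply] at h1
  exact key (a ⁻¹ᵁ U) (b ⁻¹ᵁ U) (by ext x; simp [hbase]) _ _ h1

end Groth.Agent.S2913
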