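import Groth.Statements.S2914
import Groth.Agent.SGA1Q.Desc

set_option autoImplicit false
open CategoryTheory CategoryTheory.Limits AlgebraicGeometry Opposite
universe u
open SGA1

namespace Groth.Agent.S2914

/-- Let g : S' ⟶ S be a morphism of schemes whose underlying map is a quotient map, and such that for
every open U of S the sequence O_S(U) → O_{S'}(g⁻¹U) ⇉ O_{S''}(h⁻¹U) is an equalizer, where S'' = S'
×_S S' with structure map h and the two arrows are restriction along the projections. Then g is an
effective epimorphism in the category of schemes. -/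
theorem result {S' S : Scheme.{u}} (g : S' ⟶ S) (hq : Topology.IsQuotientMap g.base)
    (hinj : ∀ U : S.Opens, Function.Injective (g.app U).hom)
    (heq : ∀ (U : S.Opens) (s' : Γ(S', g ⁻¹ᵁ U)), (SGA1.overlapFstApp g U).hom s' = (SGA1.overlapSndApp g U).hom s' →
      s' ∈ Set.range (g.app U).hom) :
    EffectiveEpi g := by
  classical
  have key : ∀ {Z : Scheme.{u}} (h : S' ⟶ Z),
      (∀ {W : Scheme.{u}} (a b : W ⟶ S'), a ≫ g = b ≫ g → a ≫ h = b ≫ h) →
      ∃! h' : S ⟶ Z, g ≫ h' = h := by
    intro Z h hh
    have hc := hh (pullback.fst g g) (pullback.snd g g) pullback.condition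
    refine SGA1Q.desc_existsUnique g hq hinj h ?_ ?_
    · intro x x' e
      obtain ⟨z, hz, hz'⟩ := Scheme.Pullback.exists_preimage_pullback x x' e
      rw [← hz, ← hz']
      exact congr(($hc).base z)
    · intro V _ U hle s
      refine heq U _ ?_
      have : h.appLE V (g ⁻¹ᵁ U) hle ≫ SGA1.overlapFstApp g U =
          h.appLE V (g ⁻¹ᵁ U) hle ≫ SGA1.overlapSndApp g U := by
        rw [SGA1.overlapFstApp, SGA1.overlapSndApp, Scheme.Hom.app_eq_appLE,
          Scheme.Hom.appLE_comp_appLE, Scheme.Hom.appLE_comp_appLE]
        exact SGA1Q.appLE_congr_hom hc _ _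
      exact congr(($this).hom s)
  exact ⟨⟨
    { desc := fun e he => (key e fun a b => he a b).choose
      fac := fun e he => (key e fun a b => he a b).choose_spec.1
      uniq := fun e he m hm => (key e fun a b => he a b).choose_spec.2 m hm }⟩⟩

end Groth.Agent.S2914
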