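import Groth.Statements.S2918
import Groth.Agent.Pi1Birat.Proper
-- import your own Groth.Agent.* helpers here

set_option autoImplicit false
set_option backward.isDefEq.respectTransparency false
set_option backward.isDefEq.respectTransparency.types false
set_option linter.style.haveILetI false
universe u
open SGA1

namespace Groth.Agent.S2918

open AlgebraicGeometry CategoryTheory CategoryTheory.Limits in
/-- Birational invariance of the fundamental group, in terms of finite etale covers: Let X and Y be
proper over a field k, locally Noetherian with all local rings regular, and birational over k: some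
dense open of X is k-isomorphic to some dense open of Y. Then the categories of finite etale covers
of X and of Y are equivalent compatibly with restriction to the common dense open. -/
theorem result (k : Type u) [Field k] {X Y : Scheme.{u}}
    (f : X ⟶ Spec (CommRingCat.of k)) (g : Y ⟶ Spec (CommRingCat.of k)) [IsProper f] [IsProper g]
    [IsLocallyNoetherian X] [IsLocallyNoetherian Y]
    (hX : ∀ x : X, IsRegularLocalRing (X.presheaf.stalk x)) (hY : ∀ y : Y, IsRegularLocalRing (Y.presheaf.stalk y))
    (U : X.Opens) (V : Y.Opens) (hU : Dense (U : Set X)) (hV : Dense (V : Set Y))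
    (e : (U : Scheme.{u}) ≅ (V : Scheme.{u})) (he : e.hom ≫ V.ι ≫ g = U.ι ≫ f) :
    ∃ Φ : FEt.Cat X ≌ FEt.Cat Y, Nonempty (FEt.restrict U.ι ≅ Φ.functor ⋙ FEt.restrict V.ι ⋙ FEt.restrict e.hom) := by
  haveI : CompactSpace X := QuasiCompact.compactSpace_of_compactSpace f
  haveI : CompactSpace Y := QuasiCompact.compactSpace_of_compactSpace g
  haveI : IsNoetherian X := {}
  haveI : IsNoetherian Y := {}
  exact Pi1Birat.exists_equivalence hX hY f g U V hU hV e he

end Groth.Agent.S2918
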