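import Groth.Statements.S2919
import Groth.Agent.SGA1Q.Free

set_option autoImplicit false
open CategoryTheory CategoryTheory.Limits AlgebraicGeometry
universe u
open SGA1

namespace Groth.Agent.S2919

/-- Let a finite group G act on X, p : X ⟶ Y a quotient with Y locally Noetherian and p finite, G acting
freely on geometric points, and suppose p has a section. Then the morphism from the disjoint union
of copies of Y indexed by G to X which is s followed by the action of g on the g-th copy is an
isomorphism. -/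
theorem result {X Y : Scheme.{u}} {G : Type u} [Group G] [Finite G] (ρ : G →* Aut X)
    (p : X ⟶ Y) (hp : SGA1.IsQuot ρ p) [IsLocallyNoetherian Y] [IsFinite p]
    (hfree : (∀ (K : Type u) [Field K] [IsAlgClosed K] (ξ : Spec (CommRingCat.of K) ⟶ X) (g : G), ξ ≫ (ρ g).hom = ξ → g = 1)) (s : Y ⟶ X) (hs : s ≫ p = 𝟙 Y) :
    IsIso (Sigma.desc (fun g : G => s ≫ (ρ g).hom) : (∐ fun _ : G => Y) ⟶ X) := by
  haveI hυ := SGA1Q.isIso_sigmaDesc_graphMap hfree hp
  let υ := Sigma.desc (fun g : G => SGA1Q.graphMap hp.inv g)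
  let k : X ⟶ ∐ fun _ : G => X :=
    pullback.lift (p ≫ s) (𝟙 X) (by rw [Category.assoc, hs, Category.comp_id, Category.id_comp]) ≫
      inv υ
  have hk1 : k ≫ υ ≫ pullback.fst p p = p ≫ s := by
    simp [k]; exact pullback.lift_fst _ _ _
  have hk2 : k ≫ υ ≫ pullback.snd p p = 𝟙 X := by
    simp [k]; exact pullback.lift_snd _ _ _
  have hι1 : ∀ g : G, Sigma.ι (fun _ : G => X) g ≫ υ ≫ pullback.fst p p = 𝟙 X := by
    intro g
    simp [υ, SGA1Q.graphMap]; exact pullback.lift_fst _ _ _
  have hι2 : ∀ g : G, Sigma.ι (fun _ : G => X) g ≫ υ ≫ pullback.snd p p = (ρ g).hom := by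
    intro g
    simp [υ, SGA1Q.graphMap]; exact pullback.lift_snd _ _ _
  refine ⟨k ≫ Sigma.desc (fun g : G => p ≫ Sigma.ι (fun _ : G => Y) g), ?_, ?_⟩
  · refine Sigma.hom_ext _ _ fun g => ?_
    have e : (s ≫ (ρ g).hom) ≫ k = s ≫ Sigma.ι (fun _ : G => X) g := by
      rw [← cancel_mono υ]
      apply pullback.hom_ext
      · simp only [Category.assoc, hk1, hι1, Category.comp_id]
        rw [← Category.assoc (ρ g).hom, hp.inv g, ← Category.assoc, hs, Category.id_comp]
      · simp only [Category.assoc, hk2, hι2, Category.comp_id]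
    rw [Sigma.ι_desc_assoc, ← Category.assoc (s ≫ (ρ g).hom), e, Category.assoc, Sigma.ι_desc,
      reassoc_of% hs, Category.comp_id]
  · refine Scheme.Cover.hom_ext ((Scheme.IsLocallyDirected.openCover
      (Discrete.functor fun _ : G => X)).pullback₁ k) _ _ fun ⟨g⟩ => ?_
    show pullback.fst k (Sigma.ι (fun _ : G => X) g) ≫
        (k ≫ Sigma.desc (fun g : G => p ≫ Sigma.ι (fun _ : G => Y) g)) ≫
          Sigma.desc (fun g : G => s ≫ (ρ g).hom) =
      pullback.fst k (Sigma.ι (fun _ : G => X) g) ≫ 𝟙 X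
    set a := pullback.fst k (Sigma.ι (fun _ : G => X) g) with ha
    set b := pullback.snd k (Sigma.ι (fun _ : G => X) g) with hb
    have hab : a ≫ k = b ≫ Sigma.ι (fun _ : G => X) g := pullback.condition
    have h1 : a ≫ p ≫ s = b := by
      rw [← hk1, reassoc_of% hab, hι1, Category.comp_id]
    have h2 : a = b ≫ (ρ g).hom := by
      have := congrArg (fun t => t ≫ υ ≫ pullback.snd p p) hab
      simpa only [Category.assoc, hk2, hι2, Category.comp_id] using this
    rw [Category.assoc, reassoc_of% hab, Sigma.ι_desc_assoc, Category.assoc, Sigma.ι_desc,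
      Category.comp_id]
    calc b ≫ p ≫ s ≫ (ρ g).hom = (b ≫ (ρ g).hom) ≫ p ≫ s ≫ (ρ g).hom := by
          rw [Category.assoc, reassoc_of% hp.inv g]
      _ = a ≫ p ≫ s ≫ (ρ g).hom := by rw [← h2]
      _ = b ≫ (ρ g).hom := by rw [reassoc_of% h1]
      _ = a := h2.symm

end Groth.Agent.S2919
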