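import Groth.Statements.S2920
import Groth.Agent.SGA1Q.Free

set_option autoImplicit false
open CategoryTheory CategoryTheory.Limits AlgebraicGeometry
universe u
open SGA1

namespace Groth.Agent.S2920

/-- (i) ⇒ (iii): Let a finite group G act on X, p : X ⟶ Y a quotient with Y locally Noetherian and p
finite, G acting freely on geometric points. Then the morphism from the disjoint union of copies of
X indexed by G to X ×_Y X given on the g-th copy by (id, g) is an isomorphism, and p is flat and
surjective. -/
theorem result {X Y : Scheme.{u}} {G : Type u} [Group G] [Finite G] (ρ : G →* Aut X)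
    (p : X ⟶ Y) (hp : SGA1.IsQuot ρ p) [IsLocallyNoetherian Y] [IsFinite p] (hfree : (∀ (K : Type u) [Field K] [IsAlgClosed K] (ξ : Spec (CommRingCat.of K) ⟶ X) (g : G), ξ ≫ (ρ g).hom = ξ → g = 1)) :
    IsIso (Sigma.desc (fun g : G => pullback.lift (𝟙 X) (ρ g).hom ((Category.id_comp p).trans (hp.inv g).symm)) :
      (∐ fun _ : G => X) ⟶ pullback p p) ∧ Flat p ∧ Surjective p := by
  exact ⟨SGA1Q.isIso_sigmaDesc_graphMap hfree hp, SGA1Q.flat_of_free hfree hp,
    ⟨SGA1Q.surjective hp⟩⟩

end Groth.Agent.S2920
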