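import Groth.Statements.S2921
import Groth.Agent.KummerReg24.Basic
-- import your own Groth.Agent.* helpers here

set_option autoImplicit false
set_option backward.isDefEq.respectTransparency false
set_option backward.isDefEq.respectTransparency.types false
set_option linter.style.haveILetI false
universe u
open IsLocalRing
open SGA1

namespace Groth.Agent.S2921

/-- Regularity and etaleness; the tameness assertion is not stated: Let A be a regular local ring, f_1,
…, f_r elements of the maximal ideal whose images in the cotangent space are linearly independent
(part of a regular system of parameters), and n_1, …, n_r ≥ 1. Then A' = A[T_1, …, T_r]/(T_i^{n_i} −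
f_i) is a regular local ring; and if each n_i is invertible in the residue field of A, then A'
becomes etale over A after inverting f_1 ⋯ f_r. -/
theorem result (A : Type u) [CommRing A] [IsRegularLocalRing A] (r : ℕ) (f : Fin r → A)
    (hm : ∀ i, f i ∈ maximalIdeal A)
    (hf : LinearIndependent (ResidueField A) (fun i => (maximalIdeal A).toCotangent ⟨f i, hm i⟩))
    (n : Fin r → ℕ) (hn : ∀ i, 1 ≤ n i) :
    IsRegularLocalRing (SGA1.kummerAlg A f n) ∧
    ((∀ i, IsUnit ((n i : ℕ) : ResidueField A)) →
      letI := (Localization.awayMap (algebraMap A (SGA1.kummerAlg A f n)) (∏ i, f i)).toAlgebra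
      Algebra.Etale (Localization.Away (∏ i, f i)) (Localization.Away (algebraMap A (SGA1.kummerAlg A f n) (∏ i, f i)))) := by
  refine ⟨KummerReg24.isRegularLocalRing A f hn hm hf, fun hu => ?_⟩
  letI : Algebra (Localization.Away (∏ i, f i))
      (Localization.Away (algebraMap A (SGA1.kummerAlg A f n) (∏ i, f i))) :=
    (Localization.awayMap (algebraMap A (SGA1.kummerAlg A f n)) (∏ i, f i)).toAlgebra
  haveI : IsScalarTower A (Localization.Away (∏ i, f i))
      (Localization.Away (algebraMap A (SGA1.kummerAlg A f n) (∏ i, f i))) := by
    refine IsScalarTower.of_algebraMap_eq fun a => ?_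
    rw [RingHom.algebraMap_toAlgebra]
    exact (IsScalarTower.algebraMap_apply A (SGA1.kummerAlg A f n)
      (Localization.Away (algebraMap A (SGA1.kummerAlg A f n) (∏ i, f i))) a).trans
      (IsLocalization.map_eq _ a).symm
  haveI := Algebra.FormallyEtale.of_isLocalization (R := A) (Rₘ := Localization.Away (∏ i, f i))
    (Submonoid.powers (∏ i, f i))
  haveI : Algebra.FinitePresentation A (SGA1.kummerAlg A f n) :=
    Algebra.FinitePresentation.quotient (Submodule.fg_span (Set.finite_range _))
  haveI : Algebra.FinitePresentation A
      (Localization.Away (algebraMap A (SGA1.kummerAlg A f n) (∏ i, f i))) :=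
    haveI := IsLocalization.Away.finitePresentation
      (S := Localization.Away (algebraMap A (SGA1.kummerAlg A f n) (∏ i, f i)))
      (algebraMap A (SGA1.kummerAlg A f n) (∏ i, f i))
    Algebra.FinitePresentation.trans A (SGA1.kummerAlg A f n) _
  have hu' : ∀ i, IsUnit (n i : A) := fun i => by
    have h := hu i
    rw [← map_natCast (IsLocalRing.residue A), isUnit_iff_ne_zero] at h
    by_contra hc
    exact h ((IsLocalRing.residue_eq_zero_iff _).2 hc)
  refine { formallyEtale := ?_, finitePresentation := ?_ }
  · exact (Algebra.FormallyEtale.iff_restrictScalars (R := A)).1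
      (KummerReg24.formallyEtale_away A f hn hu')
  · exact Algebra.FinitePresentation.of_restrict_scalars_finitePresentation A _ _

end Groth.Agent.S2921
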