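import Groth.Statements.S2923
import Groth.Agent.Abh24.Strict
-- import your own Groth.Agent.* helpers here

set_option autoImplicit false
set_option backward.isDefEq.respectTransparency false
set_option backward.isDefEq.respectTransparency.types false
set_option linter.style.haveILetI false
universe u
open IsLocalRing
open SGA1

namespace Groth.Agent.S2923

open AlgebraicGeometry CategoryTheory CategoryTheory.Limits in
/-- The Kummer coverings are cofinal among tame covers: let A be a strictly henselian regular local ring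
(henselian with separably closed residue field), f_1, …, f_r part of a regular system of parameters
with each (f_i) a prime ideal, U ⊆ X = Spec A the open where f_1 ⋯ f_r is invertible, and V a
connected finite etale cover of U tamely ramified along each f_i. Then for some exponents n_i ≥ 1
invertible in the residue field there is a surjective U-morphism from the restriction to U of the
Kummer covering Spec A[T_1, …, T_r]/(T_i^{n_i} − f_i) onto V. -/
theorem result (A : Type u) [CommRing A] [IsRegularLocalRing A] [IsDomain A] (r : ℕ) (f : Fin r → A)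
    (hm : ∀ i, f i ∈ maximalIdeal A)
    (hf : LinearIndependent (ResidueField A) (fun i => (maximalIdeal A).toCotangent ⟨f i, hm i⟩))
    [∀ i, (Ideal.span {f i}).IsPrime]
    [HenselianLocalRing A] [IsSepClosed (ResidueField A)]
    (V : FEt.Cat ((SGA1.specBasicOpen A (∏ i, f i)) : Scheme.{u})) [ConnectedSpace V.left] (htame : SGA1.IsTameAlong f (((V.hom ≫ ((SGA1.specBasicOpen A (∏ i, f i))).ι).appTop).hom.comp (Scheme.ΓSpecIso (CommRingCat.of A)).inv.hom)) :
    ∃ n : Fin r → ℕ, (∀ i, 1 ≤ n i) ∧ (∀ i, IsUnit ((n i : ℕ) : ResidueField A)) ∧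
      ∃ φ : (↑((Spec.map (CommRingCat.ofHom (algebraMap A (SGA1.kummerAlg A f n)))) ⁻¹ᵁ (SGA1.specBasicOpen A (∏ i, f i))) : Scheme.{u}) ⟶ V.left, φ ≫ V.hom = (Spec.map (CommRingCat.ofHom (algebraMap A (SGA1.kummerAlg A f n)))) ∣_ (SGA1.specBasicOpen A (∏ i, f i)) ∧ Surjective φ := by
  classical
  let F := ∏ i, f i
  let U := SGA1.specBasicOpen A F
  let Af := Localization.Away F
  have hF : F ≠ 0 := Finset.prod_ne_zero_iff.2 fun i _ h0 => hf.ne_zero i (by
    have : (⟨f i, hm i⟩ : maximalIdeal A) = 0 := Subtype.ext h0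
    show (maximalIdeal A).toCotangent ⟨f i, hm i⟩ = 0
    rw [this, map_zero])
  haveI : IsIntegrallyClosed A := Groth.Agent.RegLoc6.isIntegrallyClosed_of_isRegularLocalRing A
  obtain ⟨u, hu⟩ := Groth.Agent.Abh24.exists_away_iso A F U rfl Af
  haveI : IsAffine (U : Scheme.{u}) := IsAffine.of_isIso u.inv
  haveI : IsDomain Af := IsLocalization.isDomain_of_le_nonZeroDivisors Af
    (Submonoid.powers_le.2 (mem_nonZeroDivisors_of_ne_zero hF))
  haveI : Nonempty (U : Scheme.{u}) := ⟨u.hom (Classical.arbitrary (PrimeSpectrum Af))⟩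
  haveI : IsIntegral (U : Scheme.{u}) := isIntegral_of_isOpenImmersion U.ι
  have hnorm : Pi1.IsNormalScheme (U : Scheme.{u}) := fun x => by
    let y : PrimeSpectrum A := U.ι x
    let e : (U : Scheme.{u}).presheaf.stalk x ≃+* Localization.AtPrime y.asIdeal :=
      ((U.stalkIso x).commRingCatIsoToRingEquiv).trans (StructureSheaf.stalkIso A y).symm.toRingEquiv
    haveI : IsIntegrallyClosed (Localization.AtPrime y.asIdeal) :=
      isIntegrallyClosed_of_isLocalization _ y.asIdeal.primeCompl y.asIdeal.primeCompl_le_nonZeroDivisors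
    exact ⟨e.toMulEquiv.isDomain (Localization.AtPrime y.asIdeal), IsIntegrallyClosed.of_equiv e.symm⟩
  let v : V.left ⟶ (U : Scheme.{u}) := V.hom
  haveI : IsFinite v := V.prop.1
  haveI : Etale v := V.prop.2
  haveI : IsAffine V.left := isAffine_of_isAffineHom v
  haveI : IsIntegral V.left := (Groth.Agent.S0246.result hnorm V).1
  let B := Γ(V.left, ⊤)
  haveI : IsDomain B := inferInstance
  let φ : CommRingCat.of Af ⟶ B := Spec.preimage (V.left.isoSpec.inv ≫ v ≫ u.inv)
  have hφ : Spec.map φ = V.left.isoSpec.inv ≫ v ≫ u.inv := Spec.map_preimage _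
  letI : Algebra Af B := φ.hom.toAlgebra
  letI : Algebra A B := (((v ≫ U.ι).appTop).hom.comp (Scheme.ΓSpecIso (CommRingCat.of A)).inv.hom).toAlgebra
  have hAB : Spec.map (CommRingCat.ofHom (algebraMap A B)) = V.left.isoSpec.inv ≫ v ≫ U.ι := by
    show Spec.map ((Scheme.ΓSpecIso (CommRingCat.of A)).inv ≫ (v ≫ U.ι).appTop) = _
    rw [← cancel_epi V.left.isoSpec.hom, Iso.hom_inv_id_assoc, Spec.map_comp, ← Category.assoc,
      Scheme.isoSpec_hom_naturality, Category.assoc]
    simp [Scheme.isoSpec, toSpecΓ_SpecMap_ΓSpecIso_inv]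
  haveI : IsScalarTower A Af B := IsScalarTower.of_algebraMap_eq' (by
    have h : CommRingCat.ofHom (algebraMap A Af) ≫ φ = CommRingCat.ofHom (algebraMap A B) := by
      refine Spec.map_injective ?_
      rw [Spec.map_comp, hφ, hAB, ← hu]
      simp
    exact (congrArg CommRingCat.Hom.hom h).symm)
  haveI : IsFinite (Spec.map φ) := by rw [hφ]; infer_instance
  haveI : Etale (Spec.map φ) := by rw [hφ]; infer_instance
  haveI : Module.Finite Af B := (IsFinite.SpecMap_iff φ).1 inferInstance
  haveI : Algebra.Etale Af B := RingHom.etale_algebraMap.1 ((HasRingHomProperty.Spec_iff (P := @Etale)).1 inferInstance)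
  obtain ⟨n, hn, hnu, hψ⟩ := Groth.Agent.Abh24.exists_dominating A f hm hf Af B htame
  refine ⟨n, hn, hnu, ?_⟩
  let A' := SGA1.kummerAlg A f n
  haveI : Algebra.IsIntegral A A' := Groth.Agent.KummerReg24.isIntegral A f hn
  obtain ⟨A'f, _, _, _, _, _, _, _, _⟩ := Groth.Agent.Abh24.exists_away_algebra A F Af A'
  obtain ⟨ψ, hinj⟩ := hψ A'f
  exact Groth.Agent.Abh24.exists_morphism A F V Af B u hu φ V.left.isoSpec hφ rfl A' A'f ψ hinj

end Groth.Agent.S2923
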