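import Groth.Statements.S2924
import Groth.Agent.KummerReg24.Tame
-- import your own Groth.Agent.* helpers here

set_option autoImplicit false
set_option backward.isDefEq.respectTransparency false
set_option backward.isDefEq.respectTransparency.types false
set_option linter.style.haveILetI false
universe u
open IsLocalRing
open SGA1

namespace Groth.Agent.S2924

/-- Let A be a regular local ring, f_1, …, f_r part of a regular system of parameters and n_i ≥ 1
invertible in the residue field. Then the Kummer algebra A[T_1, …, T_r]/(T_i^{n_i} − f_i) is tamely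
ramified along each f_i (at every point of its generic fibre, with respect to the discrete valuation
rings A_{(f_i)}). -/
theorem result (A : Type u) [CommRing A] [IsRegularLocalRing A] [IsDomain A] (r : ℕ) (f : Fin r → A)
    (hm : ∀ i, f i ∈ maximalIdeal A)
    (hf : LinearIndependent (ResidueField A) (fun i => (maximalIdeal A).toCotangent ⟨f i, hm i⟩))
    [∀ i, (Ideal.span {f i}).IsPrime] (n : Fin r → ℕ) (hn : ∀ i, 1 ≤ n i) (hu : ∀ i, IsUnit ((n i : ℕ) : ResidueField A)) :
    SGA1.IsTameAlong f (algebraMap A (SGA1.kummerAlg A f n)) := by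
  intro i q hq' hq
  classical
  have hfi : f i ≠ 0 := by
    intro h0
    have h1 := hf.ne_zero i
    apply h1
    have : (⟨f i, hm i⟩ : maximalIdeal A) = 0 := Subtype.ext h0
    rw [this, map_zero]
  have hnot : ∀ j, j ≠ i → f j ∉ Ideal.span {f i} := by
    intro j hji hmem
    obtain ⟨a, ha⟩ := Ideal.mem_span_singleton'.1 hmem
    have h1 : (maximalIdeal A).toCotangent ⟨f j, hm j⟩ = a • (maximalIdeal A).toCotangent ⟨f i, hm i⟩ := by
      rw [← map_smul]
      exact congrArg _ (Subtype.ext ha.symm)
    rw [← IsScalarTower.algebraMap_smul (ResidueField A) a] at h1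
    refine hf.notMem_span_image (s := {i}) (x := j) (by simpa using hji) ?_
    rw [h1]
    exact Submodule.smul_mem _ _ (Submodule.subset_span ⟨i, rfl, rfl⟩)
  let Ai := Localization.AtPrime (Ideal.span {f i})
  have hmax : maximalIdeal Ai = Ideal.span {algebraMap A Ai (f i)} := by
    rw [← Localization.AtPrime.map_eq_maximalIdeal, Ideal.map_span, Set.image_singleton]
  have hinjA : Function.Injective (algebraMap A Ai) :=
    IsLocalization.injective _ (Ideal.primeCompl_le_nonZeroDivisors (Ideal.span {f i}))
  haveI : IsDomain Ai := IsLocalization.isDomain_localization (Ideal.primeCompl_le_nonZeroDivisors (Ideal.span {f i}))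
  haveI : IsNoetherianRing Ai := IsLocalization.isNoetherianRing (Ideal.span {f i}).primeCompl Ai inferInstance
  have hnf : ¬ IsField Ai := by
    rw [IsLocalRing.isField_iff_maximalIdeal_eq, hmax, Ideal.span_singleton_eq_bot]
    exact fun h => hfi (hinjA (h.trans (map_zero _).symm))
  haveI : IsDiscreteValuationRing Ai :=
    ((IsDiscreteValuationRing.TFAE Ai hnf).out 0 4).2 (⟨⟨algebraMap A Ai (f i), hmax⟩⟩ : (maximalIdeal Ai).IsPrincipal)
  have hinj : Function.Injective (SGA1.genericResidueMap (algebraMap A (SGA1.kummerAlg A f n))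
      (Ideal.span {f i}) q hq) := by
    rw [injective_iff_map_eq_zero]
    intro x hx
    obtain ⟨a, s, rfl⟩ := IsLocalization.exists_mk'_eq (Ideal.span {f i}).primeCompl x
    rw [SGA1.genericResidueMap, IsLocalization.lift_mk', Units.mul_left_eq_zero, RingHom.comp_apply,
      ← RingHom.mem_ker, Ideal.ker_algebraMap_residueField, ← Ideal.mem_comap, hq, Ideal.mem_bot] at hx
    rw [hx, IsLocalization.mk'_zero]
  have hg : ∀ a, SGA1.genericResidueMap (algebraMap A (SGA1.kummerAlg A f n)) (Ideal.span {f i}) q hq
      (algebraMap A Ai a) = algebraMap _ q.ResidueField (algebraMap A (SGA1.kummerAlg A f n) a) :=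
    fun a => IsLocalization.lift_eq _ a
  have hu' : ∀ j, IsUnit (n j : A) := fun j => by
    have h := hu j
    rw [← map_natCast (IsLocalRing.residue A), isUnit_iff_ne_zero] at h
    by_contra hc
    exact h ((IsLocalRing.residue_eq_zero_iff _).2 hc)
  refine Groth.Agent.KummerReg24.isTamelyRamified_of_kummer _ hinj (fun j => algebraMap A Ai (f j)) n hn
    (fun j => by simpa using (hu' j).map (algebraMap A Ai)) i hmax
    (fun j hj => IsLocalization.map_units Ai (⟨f j, hnot j hj⟩ : (Ideal.span {f i}).primeCompl))
    (fun j => algebraMap _ q.ResidueField (Groth.Agent.KummerReg24.T A f n j)) (fun j => ?_) ?_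
  · rw [hg, ← map_pow, Groth.Agent.KummerReg24.T_pow]
  · refine top_le_iff.1 fun z _ => ?_
    set C := Subfield.closure (Set.range (SGA1.genericResidueMap (algebraMap A (SGA1.kummerAlg A f n))
        (Ideal.span {f i}) q hq) ∪
      Set.range fun j => algebraMap _ q.ResidueField (Groth.Agent.KummerReg24.T A f n j))
    have hmem : ∀ b : SGA1.kummerAlg A f n, algebraMap _ q.ResidueField b ∈ C := by
      intro b
      obtain ⟨p, rfl⟩ := Ideal.Quotient.mk_surjective b
      induction p using MvPolynomial.induction_on with
      | C a => exact Subfield.subset_closure (Or.inl ⟨algebraMap A Ai a, hg a⟩)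
      | add p p' h h' => rw [map_add, map_add]; exact C.add_mem h h'
      | mul_X p j h => rw [map_mul, map_mul]; exact C.mul_mem h (Subfield.subset_closure (Or.inr ⟨j, rfl⟩))
    obtain ⟨a, b, -, rfl⟩ := IsFractionRing.div_surjective (A := SGA1.kummerAlg A f n ⧸ q) z
    obtain ⟨a, rfl⟩ := Ideal.Quotient.mk_surjective a
    obtain ⟨b, rfl⟩ := Ideal.Quotient.mk_surjective b
    exact C.div_mem (hmem a) (hmem b)

end Groth.Agent.S2924
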