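import Groth.Statements.S2925
import Groth.Agent.SGA1Q.Orbits

set_option autoImplicit false
open CategoryTheory CategoryTheory.Limits AlgebraicGeometry
universe u
open SGA1

namespace Groth.Agent.S2925

/-- Let a finite group G act on a scheme X and let p : X ⟶ Y be a quotient of X by G. Then every
G-invariant morphism X ⟶ Z factors uniquely through p. -/
theorem result {X Y : Scheme.{u}} {G : Type u} [Group G] [Finite G] (ρ : G →* Aut X)
    (p : X ⟶ Y) (hp : SGA1.IsQuot ρ p) (Z : Scheme.{u}) (h : X ⟶ Z) (hh : ∀ g : G, (ρ g).hom ≫ h = h) :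
    ∃! h' : Y ⟶ Z, p ≫ h' = h := by
  exact SGA1Q.desc_existsUnique_isQuot hp h hh

end Groth.Agent.S2925
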