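import Groth.Statements.S2926
import Groth.Agent.Lib.PnDualExtPn
import Groth.Agent.Lib.PnDualSheafHom

set_option autoImplicit false
set_option backward.isDefEq.respectTransparency false
set_option backward.isDefEq.respectTransparency.types false
set_option linter.style.haveILetI false
set_option linter.unusedSectionVars false
set_option maxHeartbeats 400000
universe u
open CategoryTheory AlgebraicGeometry
attribute [local instance] HasDerivedCategory.standard
open ProjDual

namespace Groth.Agent.S2926

open Groth.Agent.PnDual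

open CategoryTheory AlgebraicGeometry

theorem hinv (k : Type u) [CommRing k] {X : Scheme.{u}} [X.Over (Spec (CommRingCat.of k))] {M N : X.Modules}
    (e : M ≅ N) (q : ℕ) (x : Coh.HH X M q) : Canon.HHlin k e.inv q (Canon.HHlin k e.hom q x) = x := by
  rw [HHlin_comp, e.hom_inv_id, HHlin_id]

/-- Cohomology of isomorphic modules. -/
noncomputable def hhIso (k : Type u) [CommRing k] {X : Scheme.{u}} [X.Over (Spec (CommRingCat.of k))]
    {M N : X.Modules} (e : M ≅ N) (q : ℕ) : Coh.HH X M q ≃ₗ[k] Coh.HH X N q :=
  { Canon.HHlin k e.hom q with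
    invFun := Canon.HHlin k e.inv q
    left_inv := hinv k e q
    right_inv := hinv k e.symm q }


/-- Serre duality on projective space, for a finite locally free module: let k be a field, X = P^r_k and
F a finite locally free O_X-module; assume the internal Hom functor Hom_{O_X}(F, −) exists as the
right adjoint of − ⊗ F (an instance binder). For every i ≤ r the k-dual of H^i(X, F) is k-linearly
isomorphic to H^{r−i}(X, Hom_{O_X}(F, O_X(−r−1))). (The published statement is for coherent F, with
Ext^{r−i}(F, O_X(−r−1)) on the right; stated here in the locally free case.) -/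
theorem result (k : Type u) [Field k] (r : ℕ) (F : (CohB1.ProjSpace r k).Modules) (hF : FlatMod.IsFinLocFree F) [DCoh.HasSheafHom F] (i : ℕ) (hi : i ≤ r) : Nonempty (Module.Dual k (Coh.HH (CohB1.ProjSpace r k) F i) ≃ₗ[k] Coh.HH (CohB1.ProjSpace r k) ((DCoh.sheafHom F).obj (Twist.twistProjSpace r k (-((r : ℤ) + 1)))) (r - i)) := by
  haveI : HasExt.{u} (CohB1.ProjSpace r k).Modules := IsGrothendieckAbelian.hasExt _
  have hG : GoodPn F := goodPn_of_isCoh
    ⟨Groth.Agent.QCoh.isQCoh_of_isFP (Groth.Agent.QCoh.isFP_of_isFinLocFree hF),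
      Groth.Agent.QCoh.isFT_of_isFP (Groth.Agent.QCoh.isFP_of_isFinLocFree hF)⟩
  obtain ⟨e⟩ := (serre_duality hG (r - i)).1 (Nat.sub_le r i)
  obtain ⟨e'⟩ := nonempty_ext_linearEquiv_HH (A := k) hF (Twist.twistProjSpace r k (-((r : ℤ) + 1))) (r - i)
  have hi' : r - (r - i) = i := by omega
  rw [hi'] at e
  exact ⟨(e.symm ≪≫ₗ e').trans (hhIso k ((Groth.Agent.AmpleVan.sheafHomIso F).app _).symm (r - i))⟩

end Groth.Agent.S2926
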