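import Groth.Statements.S2928
import Groth.Agent.Lib.NegVanStalk

set_option autoImplicit false
set_option backward.isDefEq.respectTransparency false
set_option backward.isDefEq.respectTransparency.types false
set_option linter.style.haveILetI false
set_option linter.unusedSectionVars false
set_option maxHeartbeats 400000
universe u
open CategoryTheory AlgebraicGeometry
open ProjDual

namespace Groth.Agent.S2928

open CategoryTheory CategoryTheory.Limits AlgebraicGeometry
open Filter

/-- (i)⇔(ii): Let k be a field, X = P^r_k, F a coherent O_X-module and n ≥ 0. Then H^i(X, F(−m)) = 0 for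
all i ≤ n and all sufficiently large m if and only if at every closed point x of X the stalk F_x has
depth greater than n over O_{X,x}. -/
theorem result (k : Type u) [Field k] (r : ℕ) (F : (CohB1.ProjSpace r k).Modules) (hF : Coh.IsCoh F) (n : ℕ) : (∃ m₀ : ℤ, ∀ m : ℤ, m₀ ≤ m → ∀ i : ℕ, i ≤ n → Subsingleton (Coh.HH (CohB1.ProjSpace r k) (Twist.twistBy _ F (-m)) i)) ↔ ∀ x : (CohB1.ProjSpace r k), IsClosed ({x} : Set (CohB1.ProjSpace r k)) → (n : ℕ∞) < LocCoh.depth ((CohB1.ProjSpace r k).presheaf.stalk x) (F.presheaf.stalk x) := by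
  have h1 : (∃ m₀ : ℤ, ∀ m : ℤ, m₀ ≤ m → ∀ i : ℕ, i ≤ n → Subsingleton (Coh.HH (CohB1.ProjSpace r k)
      (Twist.twistBy (CohB1.polyGrading r k) F (-m)) i)) ↔ ∀ i ∈ Finset.range (n + 1), PnNegVan.NegVan i F := by
    constructor
    · rintro ⟨m₀, h⟩ i hi
      exact (NegVanStalk.negVan_iff_exists i F).2 ⟨m₀, fun m hm => h m hm i (by simp at hi; omega)⟩
    · intro h
      obtain ⟨a, ha⟩ := eventually_atBot.1 ((eventually_all_finset (Finset.range (n + 1))).2 h)
      exact ⟨-a, fun m hm i hi => ha (-m) (by omega) i (Finset.mem_range.2 (by omega))⟩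
  refine h1.trans ⟨fun h x hx => ?_, fun h i hi => ?_⟩
  · haveI := NegVanStalk.isRegular_stalk x
    haveI := NegVanStalk.finite_stalk hF x
    have h3 : ((n + 1 : ℕ) : ℕ∞) ≤ LocCoh.depth ((CohB1.ProjSpace r k).presheaf.stalk x) (F.presheaf.stalk x) :=
      (LC.le_idealDepth_iff_H _ _ _).2 fun i hi =>
        (NegVanStalk.negVan_iff_H hF i).1 (h i (Finset.mem_range.2 hi)) x hx
    exact lt_of_lt_of_le (by exact_mod_cast Nat.lt_succ_self n) h3
  · refine (NegVanStalk.negVan_iff_H hF i).2 fun x hx => ?_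
    haveI := NegVanStalk.isRegular_stalk x
    haveI := NegVanStalk.finite_stalk hF x
    refine (LC.le_idealDepth_iff_H _ _ (n + 1)).1 ?_ i (Finset.mem_range.1 hi)
    have := Order.add_one_le_of_lt (h x hx)
    exact_mod_cast this

end Groth.Agent.S2928
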