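import Groth.Statements.S2929
import Groth.Agent.GrLib8.OneDeg.Compare

set_option autoImplicit false
universe u
open LocCoh

namespace Groth.Agent.S2929

/-- Let A be a Noetherian ring which is a quotient of a regular ring, I an ideal, M a finite A-module
and i ≥ 0. For a prime p write c(p) for the codimension of V(p) ∩ V(I) in V(p). Suppose that for
every prime p not containing I with c(p) finite, the local cohomology H^{i−c(p)} of M_p with support
in the maximal ideal of A_p vanishes (no condition when c(p) > i). Then the local cohomology module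
H^i_I(M) is a finite A-module. -/
theorem result (R : Type u) [CommRing R] [IsRegularRing R] (A : Type u) [CommRing A] [IsNoetherianRing A] (π : R →+* A) (hπ : Function.Surjective π) (I : Ideal A) (M : Type u) [AddCommGroup M] [Module A M] [Module.Finite A M] (i : ℕ) (h : ∀ p : PrimeSpectrum A, ¬ I ≤ p.asIdeal → ∀ (c j : ℕ), SGA2.relCodim I p = c → j + c = i → Subsingleton (LocCoh.H (IsLocalRing.maximalIdeal (Localization.AtPrime p.asIdeal)) j (LocalizedModule p.asIdeal.primeCompl M))) : Module.Finite A (LocCoh.H I i M) := by
  rcases i with _ | n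
  · exact Groth.Agent.LC.finite_H0 I M
  open Groth.Agent Groth.Agent.GrLib8.OneDeg in
  letI : Algebra R A := π.toAlgebra
  letI : Module R M := Module.compHom M π
  have : IsScalarTower R A M := IsScalarTower.of_algebraMap_smul fun _ _ => rfl
  have : Module.Finite R A := Module.Finite.of_surjective (Algebra.linearMap R A) hπ
  have : Module.Finite R M := Module.Finite.trans A M
  obtain ⟨P⟩ := GrLib8.OneDeg.nonempty_fres (R := R) (M := M)
  let J : Ideal R := I.comap (algebraMap R A)
  have hfin : Module.Finite R ((localCohomology J (n + 1)).obj (ModuleCat.of R M)) :=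
    finite_H_of_vanish P J n fun q φ hφ => hom_vanish P hπ I (n + 1) h q φ hφ
  open Groth.Agent in
  obtain ⟨ψ, hψ⟩ : ∃ ψ : LocCoh.H I (n + 1) M ≃+ (localCohomology J (n + 1)).obj (ModuleCat.of R M),
      ∀ (r : R) x, ψ (algebraMap R A r • x) = r • ψ x := by
    have e : J.map (algebraMap R A) = I := Ideal.map_comap_of_surjective _ hπ I
    rw [← e]
    exact LC.exists_indep (R := R) (R' := A) J (n + 1) M
  obtain ⟨s, hs⟩ := hfin.fg_top
  classical
  refine ⟨⟨s.image ψ.symm, eq_top_iff.2 fun x _ => ?_⟩⟩
  obtain ⟨y, rfl⟩ := ψ.symm.surjective x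
  have hy : y ∈ Submodule.span R (s : Set ((localCohomology J (n + 1)).obj (ModuleCat.of R M))) :=
    hs ▸ Submodule.mem_top
  induction hy using Submodule.span_induction with
  | mem y hy => exact Submodule.subset_span (Finset.mem_image_of_mem _ hy)
  | zero => rw [map_zero]; exact Submodule.zero_mem _
  | add a b _ _ ha hb =>
    rw [map_add]
    exact Submodule.add_mem _ (ha trivial) (hb trivial)
  | smul r a _ ha =>
    rw [show ψ.symm (r • a) = algebraMap R A r • ψ.symm a from
      ψ.injective (by rw [hψ, ψ.apply_symm_apply, ψ.apply_symm_apply])]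
    exact Submodule.smul_mem _ _ (ha trivial)

end Groth.Agent.S2929
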