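import Groth.Statements.S2936
import Groth.Agent.LC.DualDim
import Groth.Agent.S11639
-- import your own Groth.Agent.* helpers here

set_option autoImplicit false
universe u
open LocCoh

namespace Groth.Agent.S2936

/-- (iii), for a complete local ring. Let A be a complete Noetherian local ring with maximal ideal m, κ
→ E an injective hull of the residue field, and M a nonzero finite A-module whose support has
dimension n. Then for every i the A-module Hom_A(H^i_m(M), E) is finite with support of dimension at
most i; for i = n its support has dimension exactly n and its associated primes are exactly the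
associated primes p of M with dim A/p = n. -/
theorem result (A : Type u) [CommRing A] [IsLocalRing A] [IsNoetherianRing A] [IsAdicComplete (IsLocalRing.maximalIdeal A) A] (E : Type u) [AddCommGroup E] [Module A E] (f : IsLocalRing.ResidueField A →ₗ[A] E) (hf : InjHull.IsInjectiveHull f) (M : Type u) [AddCommGroup M] [Module A M] [Module.Finite A M] [Nontrivial M] (n : ℕ) (hn : Module.supportDim A M = n) : (∀ i : ℕ, Module.Finite A (LocCoh.H (IsLocalRing.maximalIdeal A) i M →ₗ[A] E) ∧ Module.supportDim A (LocCoh.H (IsLocalRing.maximalIdeal A) i M →ₗ[A] E) ≤ (i : WithBot ℕ∞)) ∧ Module.supportDim A (LocCoh.H (IsLocalRing.maximalIdeal A) n M →ₗ[A] E) = n ∧ associatedPrimes A (LocCoh.H (IsLocalRing.maximalIdeal A) n M →ₗ[A] E) = {p | p ∈ associatedPrimes A M ∧ ringKrullDim (A ⧸ p) = n} := by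
  open CategoryTheory CategoryTheory.Limits IsLocalRing Groth.Agent.LC Pointwise in
  classical
  obtain ⟨S, _, _, π, hπ⟩ := Canon.exists_gorenstein_surjection A
  letI : Algebra S A := π.toAlgebra
  have hπ' : Function.Surjective (algebraMap S A) := hπ
  have hfinite : ∀ i : ℕ, Module.Finite A (LocCoh.H (maximalIdeal A) i M →ₗ[A] E) := fun i => by
    have : IsArtinian A (LocCoh.H (maximalIdeal A) i M) := isArtinian_H i M
    exact (dual_finite_of_isArtinian hf (LocCoh.H (maximalIdeal A) i M)).1
  have hle : ∀ i : ℕ, Module.supportDim A (LocCoh.H (maximalIdeal A) i M →ₗ[A] E) ≤ (i : WithBot ℕ∞) := fun i => by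
    haveI := hfinite i
    rw [Module.supportDim_eq_ringKrullDim_quotient_annihilator, ← annihilator_dual hf (LocCoh.H (maximalIdeal A) i M)]
    exact Canon.ringKrullDim_quot_le_of_primes fun q hq hqle => by
      haveI := hq
      exact ringKrullDim_quot_le_of_annihilator_H_le M hπ' q i hqle
  let D := LocCoh.H (maximalIdeal A) n M →ₗ[A] E
  haveI := hfinite n
  have hannD : Module.annihilator A D = Module.annihilator A (LocCoh.H (maximalIdeal A) n M) :=
    (annihilator_dual hf (LocCoh.H (maximalIdeal A) n M)).symm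
  have hMD : Module.annihilator A M ≤ Module.annihilator A (LocCoh.H (maximalIdeal A) n M) := fun a ha => by
    refine Module.mem_annihilator.2 fun z => ?_
    have e : a • 𝟙 (ModuleCat.of A M) = (0 : A) • 𝟙 (ModuleCat.of A M) :=
      ModuleCat.hom_ext (LinearMap.ext fun m : M =>
        (Module.mem_annihilator.1 ha m).trans (zero_smul A m).symm)
    refine ((map_smul_id (maximalIdeal A) n (ModuleCat.of A M) a z).symm.trans ?_)
    rw [e]
    exact (map_smul_id (maximalIdeal A) n (ModuleCat.of A M) 0 z).trans (zero_smul A z)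
  -- the primes of dimension `n` are associated to both modules
  have hdimM : ringKrullDim (A ⧸ Module.annihilator A M) = n := by
    rw [← Module.supportDim_eq_ringKrullDim_quotient_annihilator, hn]
  have min_of : ∀ (X : Type u) [AddCommGroup X] [Module A X] [Module.Finite A X],
      Module.annihilator A M ≤ Module.annihilator A X → ∀ p : Ideal A, p.IsPrime →
      Module.annihilator A X ≤ p → ringKrullDim (A ⧸ p) = n → p ∈ associatedPrimes A X := by
    intro X _ _ _ hMX p hp hXp hdim
    obtain ⟨q, hq, hqp⟩ := Ideal.exists_minimalPrimes_le hXp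
    rcases eq_or_ne q p with rfl | hne
    · exact Module.associatedPrimes.minimalPrimes_annihilator_subset_associatedPrimes A X hq
    exfalso
    haveI := hq.1.1
    have hlt : (⟨q, hq.1.1⟩ : PrimeSpectrum A) < ⟨p, hp⟩ :=
      lt_of_le_of_ne hqp fun h => hne (congrArg PrimeSpectrum.asIdeal h)
    have h1 := Order.coheight_add_one_le hlt
    have h2 : ringKrullDim (A ⧸ q) ≤ n :=
      hdimM ▸ ringKrullDim_le_of_surjective (Ideal.Quotient.factor (hMX.trans hq.1.2))
        (Ideal.Quotient.factor_surjective _)
    rw [← coheight_eq_ringKrullDim_quotient ⟨q, hq.1.1⟩] at h2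
    have h2' : Order.coheight (⟨q, hq.1.1⟩ : PrimeSpectrum A) ≤ (n : ℕ∞) := WithBot.coe_le_coe.1 h2
    have h3 : Order.coheight (⟨p, hp⟩ : PrimeSpectrum A) = (n : ℕ∞) :=
      WithBot.coe_injective ((coheight_eq_ringKrullDim_quotient ⟨p, hp⟩).trans hdim)
    rw [h3] at h1
    exact absurd (h1.trans h2') (not_le.2 (by exact_mod_cast Nat.lt_succ_self n))
  have hsup : ∀ p ∈ associatedPrimes A M, ringKrullDim (A ⧸ p) = n → p ∈ associatedPrimes A D := by
    intro p hp hdim
    haveI := (AssociatedPrimes.mem_iff.1 hp).isPrime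
    refine min_of D (hannD.symm ▸ hMD) p inferInstance ?_ hdim
    rw [hannD]
    exact (exists_nontrivial_H_of_annihilator_le M hπ' p n).2
      ⟨0, by rw [hdim]; exact zero_add _, nontrivial_H0_localized_of_mem_ass p hp⟩
  have hsub : ∀ p ∈ associatedPrimes A D, p ∈ associatedPrimes A M ∧ ringKrullDim (A ⧸ p) = n := by
    intro p hp
    obtain ⟨hpp, φ, hφ⟩ := Alg6.mem_ass_iff.1 hp
    haveI := hpp
    have hDp : Module.annihilator A D ≤ p := fun a ha => (hφ a).2 (Module.mem_annihilator.1 ha φ)
    have hMp : Module.annihilator A M ≤ p := (hannD.symm ▸ hMD).trans hDp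
    have hdle : ringKrullDim (A ⧸ p) ≤ n :=
      ringKrullDim_quot_le_of_annihilator_H_le M hπ' p n (hannD ▸ hDp)
    have hdim : ringKrullDim (A ⧸ p) = n := by
      refine le_antisymm hdle (not_lt.1 fun hlt => ?_)
      haveI : Nontrivial (A ⧸ p) := Ideal.Quotient.nontrivial_iff.2 hpp.ne_top
      obtain ⟨d, hd⟩ := exists_supportDim_eq_nat (R := A) (A ⧸ p)
      rw [Module.supportDim_quotient_eq_ringKrullDim] at hd
      rw [hd] at hlt
      have hdn : d < n := by exact_mod_cast hlt
      obtain ⟨k, rfl⟩ : ∃ k, n = k + 1 := ⟨n - 1, by omega⟩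
      obtain ⟨x, hxp, hx⟩ := Canon.exists_mem_dim_lt (R := A) (m := k) hdimM.le (p := p) hMp
        (hd.le.trans (by exact_mod_cast Nat.lt_succ_iff.1 hdn))
      have hx' : Module.supportDim A (M ⧸ x • (⊤ : Submodule A M)) < ((k + 1 : ℕ) : WithBot ℕ∞) := by
        refine ((Canon.supportDim_le_quot (J := Module.annihilator A M ⊔ Ideal.span {x}) ?_).trans hx).trans_lt
          (by exact_mod_cast Nat.lt_succ_self k)
        intro r hr z
        obtain ⟨a, ha, b, hb, rfl⟩ := Submodule.mem_sup.1 hr
        obtain ⟨c, rfl⟩ := Ideal.mem_span_singleton'.1 hb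
        obtain ⟨m, rfl⟩ := Submodule.Quotient.mk_surjective _ z
        rw [add_smul, ← Submodule.Quotient.mk_smul, Module.mem_annihilator.1 ha m, Submodule.Quotient.mk_zero,
          zero_add, ← Submodule.Quotient.mk_smul, Submodule.Quotient.mk_eq_zero, mul_comm, mul_smul]
        exact Submodule.smul_mem_pointwise_smul _ _ _ trivial
      have hs := Canon.smul_surjective_H (maximalIdeal A) (i := k + 1) M hn.le hx'
      have hφ0 : φ = 0 := LinearMap.ext fun z => by
        obtain ⟨w, rfl⟩ := hs z
        show φ (x • w) = 0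
        rw [map_smul, ← LinearMap.smul_apply, (hφ x).1 hxp]
        rfl
      exact hpp.ne_top ((Ideal.eq_top_iff_one p).2 ((hφ 1).2 (by rw [hφ0, smul_zero])))
    exact ⟨min_of M le_rfl p hpp hMp hdim, hdim⟩
  refine ⟨fun i => ⟨hfinite i, hle i⟩, le_antisymm (hle n) ?_, Set.ext fun p => ⟨hsub p, fun h => hsup p h.1 h.2⟩⟩
  obtain ⟨N, -, -, hQ, -, hass, -⟩ := Groth.Agent.S11639.result A M n hn
  haveI : Nontrivial (M ⧸ N) := by
    by_contra hh
    rw [not_nontrivial_iff_subsingleton] at hh
    rw [Module.supportDim_eq_bot_of_subsingleton] at hQ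
    exact WithBot.bot_ne_coe hQ
  obtain ⟨p, hp⟩ := associatedPrimes.nonempty A (M ⧸ N)
  rw [hass] at hp
  obtain ⟨hpp, φ, hφ⟩ := Alg6.mem_ass_iff.1 (hsup p hp.1 hp.2)
  rw [← hp.2, Module.supportDim_eq_ringKrullDim_quotient_annihilator]
  exact ringKrullDim_le_of_surjective (Ideal.Quotient.factor fun a ha => (hφ a).2 (Module.mem_annihilator.1 ha φ))
    (Ideal.Quotient.factor_surjective _)

end Groth.Agent.S2936
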