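import Groth.Statements.S2937
import Groth.Agent.Pi1Ext.PureDescent

set_option autoImplicit false
universe u
open CategoryTheory AlgebraicGeometry
open Pi1

namespace Groth.Agent.S2937

open CategoryTheory.Limits Groth.Agent.Pi1Ext

set_option backward.isDefEq.respectTransparency false
set_option backward.isDefEq.respectTransparency.types false
set_option linter.style.haveILetI false

/-- Let X be a locally Noetherian scheme and U an open subscheme such that O_X → i_*O_U is an
isomorphism, equivalently, every local ring of X at a point outside U has depth ≥ 2. Let f : X_1 → X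
be faithfully flat and quasi-compact. If the pair (X_1, X_1 − f⁻¹U) is pure (restriction of finite
étale covers from every open V to V ∩ f⁻¹U is an equivalence), then so is (X, X − U). -/
theorem result (X X₁ : Scheme.{u}) [IsLocallyNoetherian X] (U : X.Opens) (hU : ∀ x : X, x ∉ U → (2 : ℕ∞) ≤ LocCoh.depth (X.presheaf.stalk x) (X.presheaf.stalk x)) (f : X₁ ⟶ X) [Flat f] [Surjective f] [QuasiCompact f] (h : SGA2.IsPurePair X₁ (f ⁻¹ᵁ U)) : SGA2.IsPurePair X U := by
  intro V
  let U₀ : (V : Scheme.{u}).Opens := V.ι ⁻¹ᵁ U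
  let f₀ := f ∣_ V
  haveI : Flat f₀ := IsZariskiLocalAtTarget.restrict (P := @Flat) inferInstance V
  haveI : Surjective f₀ := IsZariskiLocalAtTarget.restrict (P := @Surjective) inferInstance V
  haveI : IsLocallyNoetherian (V : Scheme.{u}) := LocallyOfFiniteType.isLocallyNoetherian V.ι
  have hdep : ∀ x : (V : Scheme.{u}), x ∉ U₀ →
      (2 : ℕ∞) ≤ LocCoh.depth ((V : Scheme.{u}).presheaf.stalk x) ((V : Scheme.{u}).presheaf.stalk x) := fun x hx => by
    rw [Groth.Agent.Synt29.SmoothProps.depth_congr_ring (V.stalkIso x).commRingCatIsoToRingEquiv]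
    exact hU _ hx
  have hdense : Dense (U₀ : Set (V : Scheme.{u})) := PureDescent.dense_of_depth U₀ hdep
  obtain ⟨hfull, hfaith⟩ := Groth.Agent.Pi1X.restrict_open_full_faithful U₀ hdense hdep
  -- the hypothesis on the preimage
  have he₁ : Set.range (f₀ ⁻¹ᵁ U₀).ι.base =
      Set.range (X₁.homOfLE (inf_le_left : f ⁻¹ᵁ V ⊓ f ⁻¹ᵁ U ≤ f ⁻¹ᵁ V)).base := by
    rw [Scheme.Opens.range_ι]
    ext z
    constructor
    · intro hz
      refine ⟨⟨z.1, z.2, ?_⟩, (f ⁻¹ᵁ V).ι.isOpenEmbedding.injective (by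
        rw [← Scheme.Hom.comp_apply, X₁.homOfLE_ι]; rfl)⟩
      have h1 : ((f ∣_ V) ≫ V.ι).base z ∈ U := hz
      rw [morphismRestrict_ι] at h1
      exact h1
    · rintro ⟨w, rfl⟩
      show ((f ∣_ V) ≫ V.ι).base _ ∈ U
      rw [morphismRestrict_ι, ← Scheme.Hom.comp_apply, X₁.homOfLE_ι_assoc]
      exact w.2.2
  haveI := PureDescent.isEquivalence_of_range_eq _ _ he₁ (h (f ⁻¹ᵁ V))
  haveI : (FEt.restrict U₀.ι).EssSurj := PureDescent.restrict_essSurj U₀ hdep f₀ inferInstance
  haveI := hfull
  haveI := hfaith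
  haveI : (FEt.restrict U₀.ι).IsEquivalence := {}
  have he : Set.range (X.homOfLE (inf_le_left : V ⊓ U ≤ V)).base = Set.range U₀.ι.base := by
    rw [Scheme.Opens.range_ι]
    ext z
    constructor
    · rintro ⟨w, rfl⟩
      show V.ι.base _ ∈ U
      rw [← Scheme.Hom.comp_apply, X.homOfLE_ι]
      exact w.2.2
    · intro hz
      exact ⟨⟨z.1, z.2, hz⟩, V.ι.isOpenEmbedding.injective (by
        rw [← Scheme.Hom.comp_apply, X.homOfLE_ι]; rfl)⟩
  exact PureDescent.isEquivalence_of_range_eq _ _ he inferInstance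

end Groth.Agent.S2937
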