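import Groth.Statements.S2938
import Groth.Agent.LC.DepthLoc

set_option autoImplicit false
universe u
open scoped TensorProduct
open LocCoh

namespace Groth.Agent.S2938

/-- Suppose A and B are Noetherian rings with a ring map A → B, I is an ideal of A and M is a finitely
generated A-module. When B is A-flat, depth_{IB}(B ⊗_A M) ≥ depth_I(M); when B is faithfully flat
over A, the two depths are equal. -/
theorem result (A B : Type u) [CommRing A] [CommRing B] [Algebra A B] [IsNoetherianRing A] [IsNoetherianRing B] (I : Ideal A) (M : Type u) [AddCommGroup M] [Module A M] [Module.Finite A M] : (Module.Flat A B → LocCoh.idealDepth I M ≤ LocCoh.idealDepth (I.map (algebraMap A B)) (B ⊗[A] M)) ∧ (Module.FaithfullyFlat A B → LocCoh.idealDepth (I.map (algebraMap A B)) (B ⊗[A] M) = LocCoh.idealDepth I M) := by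
  constructor
  · intro hflat
    refine ENat.forall_natCast_le_iff_le.1 fun n hn =>
      (Groth.Agent.LC.le_idealDepth_iff_H _ _ n).2 fun i hi => ?_
    obtain ⟨e⟩ := Groth.Agent.LC.exists_baseChange (R' := B) I i M
    have := (Groth.Agent.LC.le_idealDepth_iff_H I M n).1 hn i hi
    have : Subsingleton (B ⊗[A] (localCohomology I i).obj (ModuleCat.of A M)) :=
      subsingleton_of_forall_eq 0 fun z => by
        induction z with
        | zero => rfl
        | add a b ha hb => rw [ha, hb, add_zero]
        | tmul b m => rw [Subsingleton.elim m 0, TensorProduct.tmul_zero]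
    exact e.toEquiv.symm.subsingleton
  · intro hff
    refine Groth.Agent.LC.enat_eq_of_nat_le_iff fun n => ?_
    rw [Groth.Agent.LC.le_idealDepth_iff_H, Groth.Agent.LC.le_idealDepth_iff_H]
    refine forall₂_congr fun i _ => ?_
    obtain ⟨e⟩ := Groth.Agent.LC.exists_baseChange (R' := B) I i M
    exact e.toEquiv.subsingleton_congr.symm.trans
      (Module.FaithfullyFlat.subsingleton_tensorProduct_iff_right A B)

end Groth.Agent.S2938
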