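import Groth.Statements.S2939
import Groth.Agent.SGA10.FormalExt
-- import your own Groth.Agent.* helpers here

set_option autoImplicit false
set_option backward.isDefEq.respectTransparency false
set_option backward.isDefEq.respectTransparency.types false
set_option linter.style.haveILetI false
universe u
open Pi1

namespace Groth.Agent.S2939

/-- Let A be a Noetherian local ring and J a proper ideal such that A/J has depth ≥ 3 and each
J^n/J^{n+1} is a free A/J-module (gr_J(A) free over A/J). If every finite étale cover of the
punctured spectrum of A/J extends to Spec(A/J), then A has depth ≥ 3 and every finite étale cover of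
the punctured spectrum of A extends to Spec A (so restriction to the punctured spectrum is an
equivalence: A is pure). -/
theorem result (A : Type u) [CommRing A] [IsLocalRing A] [IsNoetherianRing A] (J : Ideal A) (hJ : J ≠ ⊤) [IsLocalRing (A ⧸ J)] (hd : (3 : ℕ∞) ≤ LocCoh.depth (A ⧸ J) (A ⧸ J)) (hgr : ∀ n : ℕ, Module.Free (A ⧸ J) (↥(J ^ n) ⧸ (J • (⊤ : Submodule A ↥(J ^ n))))) (h0 : FEt.PurityHolds (A ⧸ J)) : (3 : ℕ∞) ≤ LocCoh.depth A A ∧ FEt.PurityHolds A := by
  obtain ⟨h1, h2⟩ := Groth.Agent.SGA10.depth_of_gr_free J hJ (c := 3) (by exact_mod_cast hd) hgr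
  exact ⟨by exact_mod_cast h1, Groth.Agent.SGA10.purityHolds_of_formal J hJ
    (fun n => le_trans (by norm_num) (h2 n)) h0⟩

end Groth.Agent.S2939
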