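import Groth.Statements.S2942
import Groth.Agent.H26.LefAmple.Basic

set_option autoImplicit false
universe u
open CategoryTheory AlgebraicGeometry
open Lef

namespace Groth.Agent.S2942

/-- Over a field and for the structure sheaf. Let k be a field and X a proper k-scheme; let 𝓘 be a
quasi-coherent ideal sheaf whose ideal module is invertible with an ample inverse L (so 𝓘 defines an
effective Cartier divisor Y with O_X(Y) = L ample), and suppose that at every closed point x the
local ring O_{X,x} has depth greater than n. Then there is m₀ such that for all m ≥ m₀ the map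
H^i(X, O_X) → H^i(X, O_X/𝓘^{m+1}) induced by the quotient map is bijective for every i < n and
injective for i = n. -/
theorem result (k : Type u) [Field k] (X : Scheme.{u}) [X.Over (Spec (CommRingCat.of k))] [IsProper (X ↘ (Spec (CommRingCat.of k)))] (𝓘 : X.IdealSheafData) (L : X.Modules) (hL : ClSub.IsInverseOf L (ClSub.idealMod 𝓘)) (hamp : CohB1.IsAmple L) (n : ℕ) (hdepth : ∀ x : X, IsClosed ({x} : Set X) → (n : ℕ∞) < LocCoh.depth (X.presheaf.stalk x) (X.presheaf.stalk x)) : ∃ m₀ : ℕ, ∀ m : ℕ, m₀ ≤ m → (∀ i : ℕ, i < n → Function.Bijective (Sheaf.H.map ((SheafOfModules.toSheaf X.ringCatSheaf).map (ClSub.toSubscheme (𝓘 ^ (m + 1)))) i)) ∧ Function.Injective (Sheaf.H.map ((SheafOfModules.toSheaf X.ringCatSheaf).map (ClSub.toSubscheme (𝓘 ^ (m + 1)))) n) := by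
  obtain ⟨m₀, h⟩ := Groth.Agent.H26.LefAmple.exists_subsingleton_idealMod
    (X ↘ Spec (CommRingCat.of k)) hL hamp n hdepth
  refine ⟨m₀, fun m hm => ⟨fun i hi => ⟨?_, ?_⟩, ?_⟩⟩
  · exact Groth.Agent.H26.LefAmple.injective_toSub _ i (h m hm i hi.le)
  · exact Groth.Agent.H26.LefAmple.surjective_toSub _ i (h m hm (i + 1) hi)
  · exact Groth.Agent.H26.LefAmple.injective_toSub _ n (h m hm n le_rfl)

end Groth.Agent.S2942
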