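import Groth.Statements.S2945
import Groth.Agent.Synt29.LefPunctCond

set_option autoImplicit false
universe u
open CategoryTheory CategoryTheory.Limits AlgebraicGeometry
open Lef

namespace Groth.Agent.S2945

/-- Let A be a Noetherian local ring which is a quotient of a regular local ring, t an A-regular element
of the maximal ideal such that A is complete for the t-adic topology, X the punctured spectrum of A
and Y = V(t) ∩ X. If A_p has depth ≥ 2 for every prime p with dim A/p = 1 (the closed points of X),
then Lef(X, Y) holds: for every open U ⊇ Y of X and every finite locally free O_U-module D, Hom(D,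
O_U) → lim_n Hom(D, O_U/t^{n+1}O_U) is bijective. -/
theorem result (R : Type u) [CommRing R] [IsRegularLocalRing R] (A : Type u) [CommRing A] [IsLocalRing A] [IsNoetherianRing A] (π : R →+* A) (hπ : Function.Surjective π) (t : A) (ht : t ∈ IsLocalRing.maximalIdeal A) (hreg : IsSMulRegular A t) [IsAdicComplete (Ideal.span {t}) A] (hdepth : ∀ p : PrimeSpectrum A, ringKrullDim (A ⧸ p.asIdeal) = 1 → (2 : ℕ∞) ≤ LocCoh.depth (Localization.AtPrime p.asIdeal) (Localization.AtPrime p.asIdeal)) : Lef.LefCond (↑(FEt.puncturedSpec A) : Scheme.{u}) ((Spec.map (CommRingCat.ofHom (Ideal.Quotient.mk (Ideal.span {t})))).ker.comap (FEt.puncturedSpec A).ι) := by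
  exact Groth.Agent.Synt29.LefPunct.lefCond ⟨R, inferInstance, inferInstance, π, hπ⟩ t ht
    fun p hp h => hdepth ⟨p, hp⟩ h

end Groth.Agent.S2945
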