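import Groth.Statements.S2955
import Groth.Agent.RootData.Lengths

set_option autoImplicit false
open RootPairing
open scoped Pointwise Classical
universe u
open RootD

namespace Groth.Agent.S2955

open Groth.Agent.RootData

/-- Let P be a finite crystallographic reduced root pairing over a domain of characteristic zero, with a
base b, and write 2ρ for the sum of the positive roots with respect to b. Then for every simple root
β (an index in the support of b) the reflection in β sends 2ρ to 2ρ − 2β (equivalently, the coroot
of β pairs to 1 with ρ; only the reflection identity is asserted). -/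
theorem result {ι R M N : Type*} [CommRing R] [CharZero R] [IsDomain R] [AddCommGroup M] [Module R M]
    [AddCommGroup N] [Module R N] (P : RootPairing ι R M N) [Finite ι] [P.IsCrystallographic] [P.IsReduced]
    [Fintype ι] (b : P.Base) (j : ι) (hj : j ∈ b.support) :
    P.reflection j (∑ i, if b.IsPos i then P.root i else 0) =
      (∑ i, if b.IsPos i then P.root i else 0) - (2 : R) • P.root j := by
  classical
  have h := Simple.of_base b
  have hind : ∀ i, IsIndiv P i := isIndiv_of_reduced
  set s := Finset.univ.filter (fun k => k ∈ posOf P (b.support : Set ι) ∧ k ≠ j)
  have hsum : ∀ (G : ι → M), (∑ i, if b.IsPos i then G i else 0) = G j + ∑ k ∈ s, G k := by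
    intro G
    rw [← Finset.sum_filter, ← Finset.sum_insert (a := j) (by simp [s])]
    refine Finset.sum_congr ?_ fun _ _ => rfl
    ext k
    simp only [Finset.mem_filter, Finset.mem_univ, true_and, Finset.mem_insert, s, base_isPos_iff]
    exact ⟨fun hk => (em (k = j)).imp_right fun hne => ⟨hk, hne⟩,
      fun hk => hk.elim (fun e => e ▸ h.subset_posOf hj) And.left⟩
  rw [hsum P.root, map_add, map_sum, P.reflection_apply_self]
  simp_rw [← P.root_reflectionPerm]
  rw [h.sum_pos_refl hind hj P.root, two_smul]
  abel

end Groth.Agent.S2955
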