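import Groth.Statements.S2957
import Groth.Agent.RootCox.Tits
-- import your own Groth.Agent.* helpers here

set_option autoImplicit false
open RootPairing
open scoped Pointwise
universe u
open RootD

namespace Groth.Agent.S2957

/-- For a finite crystallographic reduced root pairing with a base b: let α, β be simple roots and w an
element of the Weyl group with w(α) = β. Then there are simple roots α = α_0, ..., α_m = β and Weyl
group elements w_0, ..., w_{m-1} with w = w_{m-1} ... w_0, w_i(α_i) = α_{i+1}, and each w_i lying in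
the subgroup generated by the reflections in α_i and in a simple root γ_i, where γ_i = α_{i+1}
whenever α_i ≠ α_{i+1}. -/
theorem result {ι R M N : Type*} [CommRing R] [CharZero R] [IsDomain R] [AddCommGroup M] [Module R M]
    [AddCommGroup N] [Module R N] (P : RootPairing ι R M N) [Finite ι] [P.IsCrystallographic] [P.IsReduced]
    (b : P.Base) (α β : ι) (hα : α ∈ b.support) (hβ : β ∈ b.support) (w : P.Aut) (hw : w ∈ P.weylGroup)
    (hwα : w • α = β) :
    ∃ (m : ℕ) (a : Fin (m + 1) → ι) (ws : Fin m → P.Aut),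
      (∀ i, a i ∈ b.support) ∧ a 0 = α ∧ a (Fin.last m) = β ∧
      (∀ i, ws i ∈ P.weylGroup) ∧
      w = (List.ofFn fun i : Fin m => ws (Fin.rev i)).prod ∧
      (∀ i : Fin m, ws i • a (Fin.castSucc i) = a (Fin.succ i)) ∧
      ∀ i : Fin m, ∃ γ ∈ b.support,
        ws i ∈ Subgroup.closure {Equiv.reflection P (a (Fin.castSucc i)), Equiv.reflection P γ} ∧
        (a (Fin.castSucc i) ≠ a (Fin.succ i) → γ = a (Fin.succ i)) := by
  haveI := Fintype.ofFinite ι
  obtain ⟨m, a, ws, h1, h2, h3, h4, h5, h6, h7⟩ := Groth.Agent.RootCox.tits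
    (Groth.Agent.RootData.Simple.of_base b) (Finset.mem_coe.mpr hα) (Finset.mem_coe.mpr hβ) hw hwα
  refine ⟨m, a, ws, fun i => Finset.mem_coe.mp (h1 i), h2, h3, h4, ?_, h6, fun i => ?_⟩
  · rw [h5]
    congr 1
    refine List.ext_getElem (by simp) fun n hn hn' => ?_
    simp only [List.getElem_reverse, List.getElem_ofFn, List.length_ofFn]
    congr 1
    ext
    simp only [Fin.val_rev]
    simp at hn
    omega
  · obtain ⟨γ, hγ, hv, hne⟩ := h7 i
    refine ⟨γ, Finset.mem_coe.mp hγ, ?_, hne⟩
    simpa [Groth.Agent.RootData.gen, Set.image_pair] using hv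

end Groth.Agent.S2957
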