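import Groth.Statements.S2964
import Mathlib.Algebra.Lie.BaseChange
import Mathlib.Algebra.Lie.Engel
import Mathlib.RingTheory.LocalRing.ResidueField.Ideal
import Mathlib.RingTheory.Localization.BaseChange
import Mathlib.LinearAlgebra.TensorProduct.Quotient
import Mathlib.Order.Zorn
-- import your own Groth.Agent.* helpers here

set_option autoImplicit false
universe u
open scoped TensorProduct
open SGA3t2b

namespace Groth.Agent.S2964

section Aux

open scoped TensorProduct

variable {A : Type u} [CommRing A] {L : Type u} [LieRing L] [LieAlgebra A L]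

/-- The bracket as a bilinear map. -/
noncomputable def ad₂ : L →ₗ[A] L →ₗ[A] L :=
  LinearMap.mk₂ A (fun x y => ⁅x, y⁆) add_lie (fun c x y => smul_lie c x y) lie_add (fun c x y => lie_smul c x y)

/-- The terms of the lower central series as submodules. -/
def lcsSub (n : ℕ) : Submodule A L := (LieModule.lowerCentralSeries A L L n).toSubmodule

theorem lcsSub_succ (n : ℕ) : lcsSub (A := A) (L := L) (n + 1) = Submodule.map₂ ad₂ ⊤ (lcsSub n) := by
  rw [lcsSub, LieModule.lowerCentralSeries_succ, LieSubmodule.lieIdeal_oper_eq_linear_span']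
  apply le_antisymm
  · refine Submodule.span_le.mpr ?_
    rintro _ ⟨x, -, m, hm, rfl⟩
    exact Submodule.apply_mem_map₂ ad₂ Submodule.mem_top hm
  · refine Submodule.map₂_le.mpr fun x _ m hm => Submodule.subset_span ⟨x, by simp, m, hm, rfl⟩

theorem lcsSub_fg [Module.Finite A L] (n : ℕ) : (lcsSub (A := A) (L := L) n).FG := by
  induction n with
  | zero => rw [lcsSub, LieModule.lowerCentralSeries_zero]; exact Module.Finite.fg_top
  | succ n ih => rw [lcsSub_succ]; exact Module.Finite.fg_top.map₂ _ ih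

theorem lcsSub_antitone {m n : ℕ} (h : m ≤ n) : lcsSub (A := A) (L := L) n ≤ lcsSub m :=
  LieModule.antitone_lowerCentralSeries A L L h

theorem map₂_smul_le (J : Ideal A) (Q : Submodule A L) :
    Submodule.map₂ ad₂ ⊤ (J • Q) ≤ J • Submodule.map₂ ad₂ ⊤ Q := by
  refine Submodule.map₂_le.mpr fun x _ m hm => ?_
  induction hm using Submodule.smul_induction_on' with
  | smul r hr q hq =>
    rw [map_smul]
    exact Submodule.smul_mem_smul hr (Submodule.apply_mem_map₂ _ Submodule.mem_top hq)
  | add a _ b _ ha hb => rw [map_add]; exact Submodule.add_mem _ ha hb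

theorem lcsSub_shift (J : Ideal A) {N : ℕ} (hN : lcsSub (A := A) (L := L) N ≤ J • ⊤) (M : ℕ) :
    lcsSub (A := A) (L := L) (N + M) ≤ J • lcsSub M := by
  induction M with
  | zero => simpa [lcsSub] using hN
  | succ M ih =>
    rw [← add_assoc, lcsSub_succ, lcsSub_succ]
    exact (Submodule.map₂_le_map₂_right ih).trans (map₂_smul_le _ _)

theorem exists_smul_mem_of_residue (p : Ideal A) [p.IsPrime] (g : L)
    (hg : (1 : p.ResidueField) ⊗ₜ[A] g = 0) : ∃ s ∉ p, s • g ∈ p • (⊤ : Submodule A L) := by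
  let e := TensorProduct.AlgebraTensorModule.cancelBaseChange A (A ⧸ p) p.ResidueField p.ResidueField L
  have h0 : (1 : p.ResidueField) ⊗ₜ[A ⧸ p] ((1 : A ⧸ p) ⊗ₜ[A] g) = 0 := by
    apply e.injective
    rw [map_zero]
    simpa [e] using hg
  have hloc : IsLocalizedModule (nonZeroDivisors (A ⧸ p))
      (TensorProduct.mk (A ⧸ p) p.ResidueField ((A ⧸ p) ⊗[A] L) 1) := inferInstance
  obtain ⟨⟨c, hc⟩, hcg⟩ := (IsLocalizedModule.eq_zero_iff (nonZeroDivisors (A ⧸ p))
    (TensorProduct.mk (A ⧸ p) p.ResidueField ((A ⧸ p) ⊗[A] L) 1)).mp h0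
  obtain ⟨s, rfl⟩ := Ideal.Quotient.mk_surjective c
  have hs : s ∉ p := fun h => nonZeroDivisors.ne_zero hc (Ideal.Quotient.eq_zero_iff_mem.mpr h)
  refine ⟨s, hs, ?_⟩
  change Ideal.Quotient.mk p s • ((1 : A ⧸ p) ⊗ₜ[A] g) = 0 at hcg
  rw [TensorProduct.smul_tmul', smul_eq_mul, mul_one] at hcg
  have h2 := congrArg (TensorProduct.quotTensorEquivQuotSMul L p) hcg
  rw [TensorProduct.quotTensorEquivQuotSMul_mk_tmul, map_zero] at h2
  exact (Submodule.Quotient.mk_eq_zero _).mp h2

theorem exists_smul_lcsSub_le [Module.Finite A L] (p : Ideal A) [p.IsPrime]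
    (h : LieRing.IsNilpotent (p.ResidueField ⊗[A] L)) :
    ∃ N, ∃ s ∉ p, ∀ g ∈ lcsSub (A := A) (L := L) N, s • g ∈ p • (⊤ : Submodule A L) := by
  classical
  obtain ⟨N, hN⟩ := (LieModule.isNilpotent_iff p.ResidueField (p.ResidueField ⊗[A] L)
    (p.ResidueField ⊗[A] L)).mp h
  obtain ⟨S, hS⟩ := lcsSub_fg (A := A) (L := L) N
  have hzero : ∀ g ∈ lcsSub (A := A) (L := L) N, (1 : p.ResidueField) ⊗ₜ[A] g = 0 := by
    intro g hg
    have h1 := LieSubmodule.tmul_mem_baseChange_of_mem (A := p.ResidueField) (1 : p.ResidueField)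
      (N := LieModule.lowerCentralSeries A L L N) hg
    rw [← LieSubmodule.lowerCentralSeries_tensor_eq_baseChange, hN] at h1
    exact (LieSubmodule.mem_bot _).mp h1
  choose! s hs hsg using fun g (hg : g ∈ lcsSub (A := A) (L := L) N) =>
    exists_smul_mem_of_residue p g (hzero g hg)
  have hmem : ∀ g ∈ S, g ∈ lcsSub (A := A) (L := L) N := fun g hg => hS ▸ Submodule.subset_span hg
  refine ⟨N, ∏ g ∈ S, s g, fun hprod => ?_, fun g hg => ?_⟩
  · obtain ⟨g, hg, hgp⟩ := Ideal.IsPrime.prod_mem_iff.mp hprod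
    exact hs g (hmem g hg) hgp
  · rw [← hS] at hg
    induction hg using Submodule.span_induction with
    | mem x hx =>
      rw [← Finset.prod_erase_mul _ _ (Finset.mem_coe.mp hx), mul_smul]
      exact Submodule.smul_mem _ _ (hsg x (hmem x hx))
    | zero => simp
    | add a b _ _ ha hb => rw [smul_add]; exact Submodule.add_mem _ ha hb
    | smul c a _ ha => rw [smul_comm]; exact Submodule.smul_mem _ _ ha

theorem isNilpotent_of_fibres [Module.Finite A L]
    (h : ∀ p : PrimeSpectrum A, LieRing.IsNilpotent (p.asIdeal.ResidueField ⊗[A] L)) :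
    LieRing.IsNilpotent L := by
  classical
  let S : Set (Ideal A) := {I | ∀ N, ¬ lcsSub (A := A) (L := L) N ≤ I • ⊤}
  by_contra hnil
  have hbot : (⊥ : Ideal A) ∈ S := by
    intro N hN
    apply hnil
    refine (LieModule.isNilpotent_iff A L L).mpr ⟨N, ?_⟩
    rw [← LieSubmodule.toSubmodule_eq_bot]
    exact le_bot_iff.mp (hN.trans (by simp))
  obtain ⟨P, -, hPS, hPmax⟩ := zorn_le_nonempty₀ S (by
    intro c hcS hc y hy
    refine ⟨sSup c, ?_, fun z hz => le_sSup hz⟩
    intro N hN
    have hd : DirectedOn (· ≤ ·) c := hc.directedOn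
    have hsmul : ∀ x ∈ sSup c • (⊤ : Submodule A L), ∃ I ∈ c, x ∈ I • (⊤ : Submodule A L) := by
      intro x hx
      induction hx using Submodule.smul_induction_on' with
      | smul r hr q hq =>
        obtain ⟨I, hI, hrI⟩ := (Submodule.mem_sSup_of_directed ⟨y, hy⟩ hd).mp hr
        exact ⟨I, hI, Submodule.smul_mem_smul hrI hq⟩
      | add a _ b _ ha hb =>
        obtain ⟨I, hI, haI⟩ := ha
        obtain ⟨J, hJ, hbJ⟩ := hb
        obtain ⟨K, hK, hIK, hJK⟩ := hd I hI J hJ
        exact ⟨K, hK, Submodule.add_mem _ (Submodule.smul_mono_left hIK haI)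
          (Submodule.smul_mono_left hJK hbJ)⟩
    obtain ⟨T, hT⟩ := lcsSub_fg (A := A) (L := L) N
    have hall : ∀ T' : Finset L, (T' : Set L) ⊆ (sSup c • (⊤ : Submodule A L) : Submodule A L) →
        ∃ I ∈ c, (T' : Set L) ⊆ (I • (⊤ : Submodule A L) : Submodule A L) := by
      intro T'
      induction T' using Finset.induction with
      | empty => intro _; exact ⟨y, hy, by simp⟩
      | @insert a T' ha ih =>
        intro hsub
        rw [Finset.coe_insert, Set.insert_subset_iff] at hsub
        obtain ⟨I, hI, haI⟩ := hsmul a hsub.1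
        obtain ⟨J, hJ, hJT⟩ := ih hsub.2
        obtain ⟨K, hK, hIK, hJK⟩ := hd I hI J hJ
        refine ⟨K, hK, ?_⟩
        rw [Finset.coe_insert, Set.insert_subset_iff]
        exact ⟨Submodule.smul_mono_left hIK haI, fun x hx => Submodule.smul_mono_left hJK (hJT hx)⟩
    obtain ⟨I, hI, hIT⟩ := hall T (fun x hx => hN (hT ▸ Submodule.subset_span hx))
    refine hcS hI N ?_
    rw [← hT]
    exact Submodule.span_le.mpr hIT) ⊥ hbot
  -- a maximal element is prime
  have hgt : ∀ a ∉ P, ∃ N, lcsSub (A := A) (L := L) N ≤ (P ⊔ Ideal.span {a}) • ⊤ := by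
    intro a ha
    by_contra hc
    push Not at hc
    exact ha (hPmax hc le_sup_left (Submodule.mem_sup_right (Ideal.mem_span_singleton_self a)))
  have hPtop : P ≠ ⊤ := by
    rintro rfl
    exact hPS 0 (by simp)
  have : P.IsPrime := by
    refine ⟨hPtop, fun {a b} hab => ?_⟩
    by_contra hc
    push Not at hc
    obtain ⟨N, hN⟩ := hgt a hc.1
    obtain ⟨M, hM⟩ := hgt b hc.2
    refine hPS (N + M) (((lcsSub_shift _ hN M).trans (Submodule.smul_mono le_rfl hM)).trans ?_)
    rw [← Submodule.mul_smul]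
    refine Submodule.smul_mono_left ?_
    rw [Ideal.sup_mul, Ideal.mul_sup, Ideal.mul_sup, Ideal.span_singleton_mul_span_singleton]
    refine sup_le (sup_le Ideal.mul_le_left Ideal.mul_le_left) (sup_le Ideal.mul_le_right ?_)
    exact (Ideal.span_singleton_le_iff_mem _).mpr hab
  obtain ⟨N, s, hs, hN⟩ := exists_smul_lcsSub_le P (h ⟨P, this⟩)
  obtain ⟨M, hM⟩ := hgt s hs
  refine hPS (M + N) ((lcsSub_shift _ hM N).trans ?_)
  rw [Submodule.sup_smul, sup_le_iff]
  refine ⟨Submodule.smul_mono le_rfl le_top, Submodule.smul_le.mpr fun r hr g hg => ?_⟩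
  obtain ⟨u, rfl⟩ := Ideal.mem_span_singleton'.mp hr
  rw [mul_smul]
  exact Submodule.smul_mem _ _ (hN g hg)

theorem exists_eq_tmul (p : Ideal A) [p.IsPrime] (y : p.ResidueField ⊗[A] L) :
    ∃ (c : p.ResidueField) (x : L), y = c ⊗ₜ[A] x := by
  have key : ∀ c : p.ResidueField, ∃ (a s : A), s ∉ p ∧
      c * algebraMap A p.ResidueField s = algebraMap A p.ResidueField a := by
    intro c
    obtain ⟨⟨a, ⟨s, hs⟩⟩, h⟩ := IsLocalization.surj (nonZeroDivisors (A ⧸ p)) c
    obtain ⟨a, rfl⟩ := Ideal.Quotient.mk_surjective a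
    obtain ⟨s, rfl⟩ := Ideal.Quotient.mk_surjective s
    exact ⟨a, s, fun h' => nonZeroDivisors.ne_zero hs (Ideal.Quotient.eq_zero_iff_mem.mpr h'), h⟩
  induction y using TensorProduct.induction_on with
  | zero => exact ⟨0, 0, by simp⟩
  | tmul c x => exact ⟨c, x, rfl⟩
  | add y z hy hz =>
    obtain ⟨c, x, rfl⟩ := hy
    obtain ⟨d, w, rfl⟩ := hz
    obtain ⟨a, s, hs, h1⟩ := key c
    obtain ⟨b, t, ht, h2⟩ := key d
    have hst : algebraMap A p.ResidueField (s * t) ≠ 0 := by
      rw [ne_eq, Ideal.algebraMap_residueField_eq_zero]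
      exact fun h' => (‹p.IsPrime›.mem_or_mem h').elim hs ht
    refine ⟨(algebraMap A p.ResidueField (s * t))⁻¹, (a * t) • x + (b * s) • w, ?_⟩
    rw [TensorProduct.tmul_add, ← TensorProduct.smul_tmul, ← TensorProduct.smul_tmul]
    rw [map_mul] at hst
    congr 2
    · rw [Algebra.smul_def, map_mul, map_mul, ← h1]
      field_simp
      rw [mul_assoc, mul_div_cancel_right₀ _ hst]
    · rw [Algebra.smul_def, map_mul, map_mul, ← h2]
      field_simp
      rw [mul_assoc, mul_comm (algebraMap A p.ResidueField t), mul_div_cancel_right₀ _ hst]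

theorem isNilpotent_fibre [Module.Finite A L] (h : ∀ x : L, IsNilpotent (LieAlgebra.ad A L x))
    (p : Ideal A) [p.IsPrime] : LieRing.IsNilpotent (p.ResidueField ⊗[A] L) := by
  refine (LieAlgebra.isNilpotent_iff_forall (R := p.ResidueField)).mpr fun y => ?_
  obtain ⟨c, x, rfl⟩ := exists_eq_tmul p y
  have he : LieAlgebra.ad p.ResidueField (p.ResidueField ⊗[A] L) (c ⊗ₜ[A] x) =
      c • Module.End.baseChangeHom A p.ResidueField L (LieAlgebra.ad A L x) := by
    ext w
    simp only [TensorProduct.AlgebraTensorModule.curry_apply, LinearMap.coe_restrictScalars,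
      TensorProduct.curry_apply, LinearMap.smul_apply, LieAlgebra.ad_apply,
      LieAlgebra.ExtendScalars.bracket_tmul]
    rw [mul_one]
    show c ⊗ₜ[A] ⁅x, w⁆ = c • ((LieAlgebra.ad A L x).baseChange p.ResidueField ((1 : p.ResidueField) ⊗ₜ[A] w))
    rw [LinearMap.baseChange_tmul, TensorProduct.smul_tmul', smul_eq_mul, mul_one]
    rfl
  rw [he]
  exact ((h x).map (Module.End.baseChangeHom A p.ResidueField L)).smul c

end Aux

/-- (i) ⇒ (iii): let d be a Lie algebra over a commutative ring A which is finitely presented as an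
A-module. If for every prime p of A the fibre Lie algebra κ(p) ⊗_A d is nilpotent, then d is
nilpotent (its lower central series vanishes, i.e. there is N with ad(x_1) ⋯ ad(x_N) = 0 for all
x_i); and the same conclusion holds if ad(x) is nilpotent for every x in d. -/
theorem result {A : Type u} [CommRing A] {L : Type u} [LieRing L] [LieAlgebra A L]
    [Module.FinitePresentation A L] :
    ((∀ p : PrimeSpectrum A, LieRing.IsNilpotent (p.asIdeal.ResidueField ⊗[A] L)) → LieRing.IsNilpotent L) ∧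
    ((∀ x : L, IsNilpotent (LieAlgebra.ad A L x)) → LieRing.IsNilpotent L) := ⟨fun h => isNilpotent_of_fibres h,
    fun h => isNilpotent_of_fibres fun p => isNilpotent_fibre h p.asIdeal⟩


end Groth.Agent.S2964
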