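import Groth.Statements.S2965
-- import your own Groth.Agent.* helpers here

set_option autoImplicit false
universe u
open SGA3t2b

namespace Groth.Agent.S2965

open Polynomial in
/-- Implication (iv) ⇒ (i) (global form, finite free module): let u be an endomorphism of a finite free
module M over a commutative ring A whose characteristic polynomial is X^r · Q with Q(0) invertible.
Then M is the direct sum of two u-stable submodules M', M'' such that u is nilpotent on M' and
bijective on M''. -/
theorem result {A : Type u} [CommRing A] {M : Type u} [AddCommGroup M] [Module A M]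
    [Module.Free A M] [Module.Finite A M] (u : M →ₗ[A] M) (r : ℕ) (Q : A[X]) (hQ : IsUnit (Q.coeff 0))
    (h : u.charpoly = X ^ r * Q) :
    ∃ M' M'' : Submodule A M, IsCompl M' M'' ∧ (∀ x ∈ M', u x ∈ M') ∧ (∀ x ∈ M'', u x ∈ M'') ∧
      (∃ n : ℕ, ∀ x ∈ M', (u ^ n) x = 0) ∧ Set.BijOn u M'' M'' := by
  obtain ⟨c, hc⟩ := hQ
  set g : M →ₗ[A] M := Polynomial.aeval u (-(Polynomial.C (↑c⁻¹ : A)) * Q.divX) with hg
  have hcop : IsCoprime Polynomial.X Q := by
    refine ⟨-(Polynomial.C (↑c⁻¹ : A)) * Q.divX, Polynomial.C (↑c⁻¹ : A), ?_⟩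
    conv_lhs => arg 2; arg 2; rw [← Polynomial.X_mul_divX_add Q, ← hc]
    rw [mul_add, ← Polynomial.C_mul, Units.inv_mul, Polynomial.C_1]
    ring
  have hcop' : IsCoprime (Polynomial.X ^ r) Q := hcop.pow_left
  refine ⟨LinearMap.ker (Polynomial.aeval u (Polynomial.X ^ r)), LinearMap.ker (Polynomial.aeval u Q),
    ⟨Polynomial.disjoint_ker_aeval_of_isCoprime u hcop', ?_⟩, ?_, ?_, ⟨r, ?_⟩, ?_⟩
  · rw [codisjoint_iff, Polynomial.sup_ker_aeval_eq_ker_aeval_mul_of_coprime u hcop', ← h,
      LinearMap.aeval_self_charpoly, LinearMap.ker_zero]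
  · intro x hx
    rw [LinearMap.mem_ker] at hx ⊢
    rw [map_pow, Polynomial.aeval_X] at hx ⊢
    rw [← Module.End.mul_apply, ← pow_succ, pow_succ', Module.End.mul_apply, hx, map_zero]
  · intro x hx
    rw [LinearMap.mem_ker] at hx ⊢
    have : Polynomial.aeval u Q * u = u * Polynomial.aeval u Q := by
      conv_lhs => arg 2; rw [← Polynomial.aeval_X (R := A) u]
      conv_rhs => arg 1; rw [← Polynomial.aeval_X (R := A) u]
      rw [← map_mul, ← map_mul, mul_comm]
    rw [← Module.End.mul_apply, this, Module.End.mul_apply, hx, map_zero]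
  · intro x hx
    rw [LinearMap.mem_ker, map_pow, Polynomial.aeval_X] at hx
    exact hx
  · -- `g` is inverse to `u` on the kernel of `Q(u)`
    have hkey : ∀ x, Polynomial.aeval u Q x = 0 → u (g x) = x ∧ g (u x) = x := by
      intro x hx
      have e : -(Polynomial.C (↑c⁻¹ : A)) * Q.divX * Polynomial.X + Polynomial.C (↑c⁻¹ : A) * Q = 1 := by
        conv_lhs => arg 2; arg 2; rw [← Polynomial.X_mul_divX_add Q, ← hc]
        rw [mul_add, ← Polynomial.C_mul, Units.inv_mul, Polynomial.C_1]
        ring
      have e' := e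
      rw [mul_comm (-(Polynomial.C (↑c⁻¹ : A)) * Q.divX) Polynomial.X] at e'
      have e1 := LinearMap.congr_fun (congrArg (Polynomial.aeval u) e) x
      have e2 := LinearMap.congr_fun (congrArg (Polynomial.aeval u) e') x
      rw [map_add, map_mul (Polynomial.aeval u) _ Polynomial.X, map_mul (Polynomial.aeval u) _ Q,
        Polynomial.aeval_X, map_one, LinearMap.add_apply, Module.End.mul_apply, Module.End.mul_apply,
        Module.End.one_apply, hx, map_zero, add_zero] at e1
      rw [map_add, map_mul (Polynomial.aeval u) Polynomial.X, map_mul (Polynomial.aeval u) _ Q,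
        Polynomial.aeval_X, map_one, LinearMap.add_apply, Module.End.mul_apply, Module.End.mul_apply,
        Module.End.one_apply, hx, map_zero, add_zero] at e2
      exact ⟨e2, e1⟩
    have hcomm : ∀ (P : Polynomial A) x, Polynomial.aeval u Q x = 0 →
        Polynomial.aeval u Q (Polynomial.aeval u P x) = 0 := by
      intro P x hx
      rw [← Module.End.mul_apply, ← map_mul, mul_comm, map_mul, Module.End.mul_apply, hx, map_zero]
    refine ⟨fun x hx => ?_, fun a ha b hb hab => ?_, fun x hx => ⟨g x, hcomm _ x hx, (hkey x hx).1⟩⟩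
    · have := hcomm Polynomial.X x hx
      rwa [Polynomial.aeval_X] at this
    · rw [← (hkey a ha).2, hab, (hkey b hb).2]


end Groth.Agent.S2965
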