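import Groth.Statements.S2967
-- import your own Groth.Agent.* helpers here

set_option autoImplicit false
universe u
open SGA3t2b

namespace Groth.Agent.S2967

/-- A commutative p-Lie algebra over a field k of characteristic p is recorded as a k-vector space g
together with its p-th power map φ, which is additive and Frobenius-semilinear. Let g be
finite-dimensional and non-zero, and assume every element of g is killed by some iterate of φ (g is
unipotent). Then the k-subspace of g spanned by the image φ(g) is a proper subspace. -/
theorem result {k : Type u} [Field k] (p : ℕ) [Fact p.Prime] [CharP k p]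
    {V : Type u} [AddCommGroup V] [Module k V] [FiniteDimensional k V] [Nontrivial V]
    (φ : V →ₛₗ[frobenius k p] V) (hφ : ∀ x : V, ∃ n : ℕ, φ^[n] x = 0) :
    Submodule.span k (Set.range φ) ≠ ⊤ := by
  classical
  intro htop
  -- iterates preserve zero and linear combinations (semilinearly)
  have hzero : ∀ n : ℕ, (φ^[n]) 0 = 0 := by
    intro n; induction n with
    | zero => simp
    | succ n ih => rw [Function.iterate_succ_apply', ih, map_zero]
  have hstab : ∀ (n m : ℕ) (x : V), n ≤ m → φ^[n] x = 0 → φ^[m] x = 0 := by
    intro n m x hnm hx
    obtain ⟨d, rfl⟩ := Nat.exists_eq_add_of_le hnm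
    rw [add_comm, Function.iterate_add_apply, hx, hzero]
  have hadd : ∀ (n : ℕ) (x y : V), φ^[n] (x + y) = φ^[n] x + φ^[n] y := by
    intro n x y; induction n with
    | zero => simp
    | succ n ih => simp only [Function.iterate_succ_apply', ih, map_add]
  have hsmul : ∀ (n : ℕ) (c : k) (x : V), ∃ c' : k, φ^[n] (c • x) = c' • φ^[n] x := by
    intro n c x; induction n with
    | zero => exact ⟨c, by simp⟩
    | succ n ih =>
      obtain ⟨c', hc'⟩ := ih
      exact ⟨frobenius k p c', by
        simp only [Function.iterate_succ_apply', hc', LinearMap.map_smulₛₗ]⟩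
  -- all iterates have spanning range
  have hspan : ∀ n : ℕ, Submodule.span k (Set.range (φ^[n])) = ⊤ := by
    intro n; induction n with
    | zero => simp
    | succ n ih =>
      apply top_le_iff.mp
      rw [← htop, Submodule.span_le]
      rintro _ ⟨x, rfl⟩
      have hx : x ∈ Submodule.span k (Set.range (φ^[n])) := ih ▸ Submodule.mem_top
      induction hx using Submodule.span_induction with
      | mem y hy =>
        obtain ⟨z, rfl⟩ := hy
        exact Submodule.subset_span ⟨z, Function.iterate_succ_apply' _ _ _⟩
      | zero => rw [map_zero]; exact Submodule.zero_mem _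
      | add a b _ _ ha hb => rw [map_add]; exact Submodule.add_mem _ ha hb
      | smul c a _ ha => rw [LinearMap.map_smulₛₗ]; exact Submodule.smul_mem _ _ ha
  -- a uniform exponent
  obtain ⟨s, hs⟩ := (Module.Finite.fg_top : (⊤ : Submodule k V).FG)
  choose N hN using hφ
  have hall : ∀ x : V, φ^[s.sup N] x = 0 := by
    intro x
    have hx : x ∈ Submodule.span k (s : Set V) := hs ▸ Submodule.mem_top
    induction hx using Submodule.span_induction with
    | mem y hy => exact hstab _ _ y (Finset.le_sup hy) (hN y)
    | zero => exact hzero _
    | add a b _ _ ha hb => rw [hadd, ha, hb, add_zero]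
    | smul c a _ ha =>
      obtain ⟨c', hc'⟩ := hsmul (s.sup N) c a
      rw [hc', ha, smul_zero]
  have h := hspan (s.sup N)
  have h0 : Submodule.span k (Set.range (φ^[s.sup N])) = ⊥ := by
    rw [Submodule.span_eq_bot]
    rintro _ ⟨x, rfl⟩
    exact hall x
  exact bot_ne_top (h0.symm.trans h)


end Groth.Agent.S2967
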