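import Groth.Statements.S2968
import Groth.Agent.ComodLib.Unitriangular

set_option autoImplicit false
universe u
open SGA3t2b

namespace Groth.Agent.S2968

open TensorProduct LieHopf

theorem conv_mul {k : Type u} [CommRing k] {A : Type u} [CommRing A] [HopfAlgebra k A]
    {ι ι' : Type*} (s : Finset ι) (t : Finset ι') (f : A →ₗ[k] k) (f₁ f₂ : ι → (A →ₗ[k] k))
    (g : A →ₗ[k] k) (g₁ g₂ : ι' → (A →ₗ[k] k))
    (hf : ∀ x y, f (x * y) = ∑ i ∈ s, f₁ i x * f₂ i y) (hg : ∀ x y, g (x * y) = ∑ j ∈ t, g₁ j x * g₂ j y)
    (a b : A) : conv f g (a * b) = ∑ i ∈ s, ∑ j ∈ t, conv (f₁ i) (g₁ j) a * conv (f₂ i) (g₂ j) b := by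
  simp only [conv, LinearMap.comp_apply, Bialgebra.comul_mul]
  generalize CoalgebraStruct.comul (R := k) a = x
  generalize CoalgebraStruct.comul (R := k) b = y
  induction x using TensorProduct.induction_on with
  | zero => simp
  | add p q hp hq => simp only [add_mul, map_add, hp, hq, Finset.sum_add_distrib]
  | tmul x₁ x₂ =>
    induction y using TensorProduct.induction_on with
    | zero => simp
    | add p q hp hq => simp only [mul_add, map_add, hp, hq, Finset.sum_add_distrib]
    | tmul y₁ y₂ =>
      simp only [Algebra.TensorProduct.tmul_mul_tmul, TensorProduct.map_tmul, LinearMap.mul'_apply, hf, hg,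
        Finset.sum_mul_sum]
      exact Finset.sum_congr rfl fun i _ => Finset.sum_congr rfl fun j _ => by ring

theorem conv_counit {k : Type u} [CommRing k] {A : Type u} [CommRing A] [HopfAlgebra k A]
    (f : A →ₗ[k] k) : conv f (Bialgebra.counitAlgHom k A).toLinearMap = f := by
  ext a
  simp only [conv, LinearMap.comp_apply]
  have h : ∀ z : A ⊗[k] A, LinearMap.mul' k k (TensorProduct.map f (Bialgebra.counitAlgHom k A).toLinearMap z) =
      f (TensorProduct.rid k A ((Coalgebra.counit (R := k) (A := A)).lTensor A z)) := fun z => by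
    induction z using TensorProduct.induction_on with
    | zero => simp
    | add p q hp hq => simp only [map_add, hp, hq]
    | tmul x y => simp [mul_comm]
  rw [h, Coalgebra.lTensor_counit_comul]
  simp

theorem convPow_mul {k : Type u} [CommRing k] {A : Type u} [CommRing A] [HopfAlgebra k A]
    (d : A →ₗ[k] k) (hd : ∀ x y, d (x * y) = Bialgebra.counitAlgHom k A x * d y + d x * Bialgebra.counitAlgHom k A y)
    (m : ℕ) : ∀ a b : A, convPow d m (a * b) =
      ∑ i ∈ Finset.range (m + 1), (m.choose i : k) * (convPow d i a * convPow d (m - i) b) := by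
  induction m with
  | zero => intro a b; simp [convPow]
  | succ m ih =>
    intro a b
    let g₁ : Bool → (A →ₗ[k] k) := fun j => if j then d else (Bialgebra.counitAlgHom k A).toLinearMap
    let g₂ : Bool → (A →ₗ[k] k) := fun j => if j then (Bialgebra.counitAlgHom k A).toLinearMap else d
    rw [convPow, conv_mul (Finset.range (m + 1)) Finset.univ (convPow d m)
      (fun i => (m.choose i : k) • convPow d i) (fun i => convPow d (m - i)) d g₁ g₂
      (fun x y => by rw [ih x y]; simp [mul_assoc]) (fun x y => by simp [g₁, g₂, hd]; ring) a b]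
    have hsm : ∀ (c : k) (f g : A →ₗ[k] k) (x : A), conv (c • f) g x = c * conv f g x := fun c f g x => by
      simp [conv, TensorProduct.map_smul_left]
    simp only [g₁, g₂, Fintype.sum_bool, if_true, Bool.false_eq_true, if_false, hsm, conv_counit]
    simp only [← convPow.eq_2]
    rw [Finset.sum_range_succ' (fun i => ((m + 1).choose i : k) * (convPow d i a * convPow d (m + 1 - i) b)),
      Finset.sum_add_distrib, Finset.sum_range_succ' (fun i => (m.choose i : k) * convPow d i a * convPow d (m - i + 1) b)]
    simp only [Nat.choose_succ_succ, Nat.cast_add, add_mul, Finset.sum_add_distrib, Nat.choose_zero_right,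
      Nat.succ_sub_succ]
    rw [Finset.sum_range_succ (fun i => (m.choose (i + 1) : k) * (convPow d (i + 1) a * convPow d (m - i) b))]
    have e : ∀ i ∈ Finset.range m, (m.choose (i + 1) : k) * convPow d (i + 1) a * convPow d (m - (i + 1) + 1) b =
        (m.choose (i + 1) : k) * (convPow d (i + 1) a * convPow d (m - i) b) := fun i hi => by
      rw [mul_assoc, show m - (i + 1) + 1 = m - i from by have := Finset.mem_range.mp hi; omega]
    rw [Finset.sum_congr rfl e, Nat.choose_succ_self, Nat.cast_zero, zero_mul, add_zero, Nat.sub_zero]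
    simp only [mul_assoc, Nat.cast_one]
    abel

/-- In characteristic p, in Hopf-algebra form (with unipotent in the representation-theoretic sense
`HopfRep.IsUnipotent`): let k be a field of characteristic p > 0 and A a finite-type commutative
Hopf algebra over k (the coordinate Hopf algebra of an affine algebraic k-group) which is unipotent.
Then the Lie algebra of the group is a unipotent p-Lie algebra: for every ε-derivation D : A -> k
there is n > 0 such that the iterated p-operation of D, computed here as the p^n-fold convolution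
power of D (this is how the p-operation is rendered in this statement; its axioms are not proved
here), vanishes. -/
theorem result {k : Type u} [Field k] (p : ℕ) [Fact p.Prime] [CharP k p] {A : Type u} [CommRing A]
    [HopfAlgebra k A] [Algebra.FiniteType k A] (hU : HopfRep.IsUnipotent k A) (D : LieHopf.Lie k A) :
    ∃ n : ℕ, 0 < n ∧ LieHopf.convPow (D.toLinearMap.restrictScalars k ∘ₗ LinearMap.id) (p ^ n) = 0 := by
  classical
  let d : A →ₗ[k] k := D.toLinearMap.restrictScalars k ∘ₗ LinearMap.id
  have hd : ∀ x y, d (x * y) = Bialgebra.counitAlgHom k A x * d y + d x * Bialgebra.counitAlgHom k A y :=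
    fun x y => by
      show (D (x * y) : K k A) = _
      rw [D.leibniz x y, smul_def, smul_def]
      exact congrArg (_ + ·) (mul_comm _ _)
  have hd1 : d 1 = 0 := D.map_one_eq_zero
  have hp : p.Prime := Fact.out
  have hkill : ∀ (n r : ℕ), r < n → ∀ a ∈ Groth.Agent.ComodLib.uniLevel k A r, convPow d n a = 0 := fun n => by
    induction n with
    | zero => intro r hr; omega
    | succ n ih =>
      intro r hr a ha
      refine Submodule.span_le (p := LinearMap.ker (convPow d (n + 1))).mpr ?_ ha
      rintro _ ⟨N, M, i, j, hM, hij, rfl⟩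
      rw [SetLike.mem_coe, LinearMap.mem_ker, convPow]
      simp only [conv, LinearMap.comp_apply, hM.2, map_sum, TensorProduct.map_tmul, LinearMap.mul'_apply]
      refine Finset.sum_eq_zero fun l _ => ?_
      by_cases hjl : j ≤ l
      · rw [hM.1 l j hjl]; split <;> simp [hd1]
      · have hlj : (l : ℕ) < j := Fin.lt_def.mp (not_le.mp hjl)
        by_cases hil : (l : ℕ) < i
        · rw [hM.1 i l (Fin.le_def.mpr hil.le), if_neg fun e => by subst e; omega, map_zero, zero_mul]
        · rw [ih ((l : ℕ) - i) (by omega) _ (Groth.Agent.ComodLib.mem_uniLevel hM (by omega)), zero_mul]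
  obtain ⟨s, hs⟩ := ‹Algebra.FiniteType k A›.out
  have hmem : ∀ a : A, ∃ r, a ∈ Groth.Agent.ComodLib.uniLevel k A r := fun a =>
    (Submodule.mem_iSup_of_directed _ Groth.Agent.ComodLib.uniLevel_mono.directed_le).mp
      (Groth.Agent.ComodLib.iSup_uniLevel_eq_top hU ▸ Submodule.mem_top)
  choose r hr using hmem
  refine ⟨s.sup r + 1, Nat.succ_pos _, ?_⟩
  set n := s.sup r + 1 with hn
  have hlt : ∀ a ∈ s, r a < p ^ n := fun a ha =>
    (Nat.lt_succ_of_le (Finset.le_sup ha)).trans (Nat.lt_pow_self hp.one_lt)
  have hder : ∀ a b : A, convPow d (p ^ n) (a * b) =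
      Bialgebra.counitAlgHom k A a * convPow d (p ^ n) b + convPow d (p ^ n) a * Bialgebra.counitAlgHom k A b := by
    intro a b
    rw [convPow_mul d hd, Finset.sum_range_succ, Finset.sum_eq_single_of_mem 0
      (Finset.mem_range.mpr (pow_pos hp.pos n)) fun i hi hi0 => ?_]
    · simp [convPow]
    · rw [(CharP.cast_eq_zero_iff k p _).mpr (Nat.Prime.dvd_choose_pow hp hi0 (Finset.mem_range.mp hi).ne), zero_mul]
  have h1 : convPow d (p ^ n) (1 : A) = 0 := by
    have h := hder 1 1
    rw [one_mul, map_one (Bialgebra.counitAlgHom k A), one_mul, mul_one] at h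
    exact left_eq_add.mp h
  refine LinearMap.ext fun a => ?_
  have ha : a ∈ Algebra.adjoin k (s : Set A) := hs ▸ Algebra.mem_top
  induction ha using Algebra.adjoin_induction with
  | mem x hx => exact hkill _ _ (hlt x hx) x (hr x)
  | algebraMap c => rw [Algebra.algebraMap_eq_smul_one, map_smul, h1, smul_zero, LinearMap.zero_apply]
  | add x y _ _ hx hy => rw [map_add, hx, hy, map_add]
  | mul x y _ _ hx hy => rw [hder, hx, hy]; simp

end Groth.Agent.S2968
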