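import Groth.Statements.S2972
import Groth.Agent.MultTypeLib.Complete
import Groth.Agent.Hensel.FiniteEtaleLift
import Groth.Agent.AdicLib.Basic
import Mathlib.RingTheory.Henselian
-- import your own Groth.Agent.* helpers here

set_option autoImplicit false
universe u
open TensorProduct SGA3b
open SGA3b

namespace Groth.Agent.S2972

/-- Let R be a Noetherian ring, separated and complete for the I-adic topology, and H = Spec A an
R-group of multiplicative type and of finite type. If the base change of H to R/I is isotrivial,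
then H is isotrivial. (Affine group schemes over an affine base are taken in Hopf-algebra form; base
change is the tensor product.) -/
theorem result (R : Type u) [CommRing R] (A : Type u) [CommRing A] [HopfAlgebra R A] [IsNoetherianRing R] (I : Ideal R) [IsAdicComplete I R]
    (hft : Algebra.FiniteType R A) (h : IsMultType R A) (h0 : IsIsotrivial (R ⧸ I) ((R ⧸ I) ⊗[R] A)) :
    IsIsotrivial R A := by
  obtain ⟨C, _, _, _, _, hffC, hd⟩ := h0
  obtain ⟨E, _, _, hfin, het, ⟨φ⟩⟩ := Groth.Agent.Hensel.exists_finite_etale_lift (I := I) C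
  let IE : Ideal E := I.map (algebraMap R E)
  have : IsNoetherianRing E := Algebra.FiniteType.isNoetherianRing R E
  have hEc : IsAdicComplete IE E := by
    have : IsAdicComplete I E := Groth.Agent.AdicLib.isAdicComplete_of_finite I E
    exact { toIsHausdorff := IsHausdorff.map_algebraMap_iff.mpr inferInstance
            toIsPrecomplete := IsPrecomplete.map_algebraMap_iff.mpr inferInstance }
  let ψ : (R ⧸ I) ⊗[R] E →ₐ[R] E ⧸ IE := Algebra.TensorProduct.lift
    (Groth.Agent.MultTypeLib.ofRed I E) (Ideal.Quotient.mkₐ R IE) fun _ _ => .all _ _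
  let _ : Algebra R C := ((algebraMap (R ⧸ I) C).comp (algebraMap R (R ⧸ I))).toAlgebra
  have : IsScalarTower R (R ⧸ I) C := IsScalarTower.of_algebraMap_eq fun _ => rfl
  let χ : C →ₐ[R] E ⧸ IE := ψ.comp (φ.symm.toAlgHom.restrictScalars R)
  let _ : Algebra C (E ⧸ IE) := χ.toRingHom.toAlgebra
  have : IsScalarTower R C (E ⧸ IE) := IsScalarTower.of_algebraMap_eq fun r => (χ.commutes r).symm
  have hd1 : SGA3b.IsDiag C (C ⊗[R] A) :=
    Groth.Agent.MultTypeLib.isDiag_congr (Groth.Agent.MultTypeLib.baseChangeTrans (R := R) (R ⧸ I) C A).symm hd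
  have hd2 : SGA3b.IsDiag (E ⧸ IE) ((E ⧸ IE) ⊗[E] (E ⊗[R] A)) :=
    Groth.Agent.MultTypeLib.isDiag_congr (Groth.Agent.MultTypeLib.baseChangeTrans (R := R) E (E ⧸ IE) A)
      (Groth.Agent.MultTypeLib.isDiag_baseChange C (E ⧸ IE) hd1)
  have : Module.Flat R E := inferInstance
  have hff : Module.FaithfullyFlat R E := Module.FaithfullyFlat.of_comap_surjective fun p => by
    obtain ⟨m, hm, hle⟩ := Ideal.exists_le_maximal p.asIdeal p.2.ne_top
    have hIm : I ≤ m := (IsAdicComplete.le_jacobson_bot I).trans (sInf_le ⟨bot_le, hm⟩)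
    let m' : Ideal (R ⧸ I) := m.map (Ideal.Quotient.mk I)
    have : m'.IsPrime := Ideal.map_isPrime_of_surjective Ideal.Quotient.mk_surjective
      (by rw [Ideal.mk_ker]; exact hIm)
    have : Module.FaithfullyFlat (R ⧸ I) ((R ⧸ I) ⊗[R] E) := Module.FaithfullyFlat.of_linearEquiv _ _ φ.toLinearEquiv
    obtain ⟨⟨r, hr⟩, hrm⟩ := PrimeSpectrum.comap_surjective_of_faithfullyFlat (A := R ⧸ I)
      (B := (R ⧸ I) ⊗[R] E) ⟨m', inferInstance⟩
    let q : Ideal E := r.comap (Algebra.TensorProduct.includeRight : E →ₐ[R] (R ⧸ I) ⊗[R] E)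
    have hqm : q.comap (algebraMap R E) = m := by
      have h1 : r.comap (algebraMap (R ⧸ I) ((R ⧸ I) ⊗[R] E)) = m' := congrArg PrimeSpectrum.asIdeal hrm
      have h2 : m'.comap (Ideal.Quotient.mk I) = m := by
        rw [Ideal.comap_map_of_surjective _ Ideal.Quotient.mk_surjective, ← RingHom.ker_eq_comap_bot,
          Ideal.mk_ker, sup_eq_left]
        exact hIm
      rw [← h2, ← h1]
      ext x
      show (1 : R ⧸ I) ⊗ₜ[R] algebraMap R E x ∈ r ↔ Ideal.Quotient.mk I x ⊗ₜ[R] (1 : E) ∈ r
      rw [show Ideal.Quotient.mk I x = x • (1 : R ⧸ I) by rw [Algebra.smul_def, mul_one]; rfl,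
        TensorProduct.smul_tmul, ← Algebra.algebraMap_eq_smul_one]
    have : q.IsPrime := Ideal.IsPrime.comap _
    have : q.LiesOver m := ⟨hqm.symm⟩
    obtain ⟨q', -, hq', hl⟩ := Ideal.exists_ideal_le_liesOver_of_le (p := p.asIdeal) (q := m) q hle
    exact ⟨⟨q', hq'⟩, PrimeSpectrum.ext hl.over.symm⟩
  exact ⟨E, inferInstance, inferInstance, het, hfin, hff,
    Groth.Agent.MultTypeLib.isDiag_of_complete IE inferInstance
      (Groth.Agent.MultTypeLib.isMultType_baseChange E h) hd2⟩

end Groth.Agent.S2972
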