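import Groth.Statements.S2976
import Groth.Agent.MultTypeLib.TorusFibre

set_option autoImplicit false
universe u
open TensorProduct SGA3b
open SGA3b

namespace Groth.Agent.S2976

/-- Let H = Spec A be an R-group with A flat and of finite presentation over R, such that for every
prime p of R the fibre of H over κ(p) is a torus. Then H is a torus (of locally constant rank).
(Affine group schemes over an affine base are taken in Hopf-algebra form; base change is the tensor
product.) -/
theorem result (R : Type u) [CommRing R] (A : Type u) [CommRing A] [HopfAlgebra R A] [Module.Flat R A] (hfp : Algebra.FinitePresentation R A)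
    (hfib : ∀ (p : Ideal R) [p.IsPrime], IsTorus p.ResidueField (p.ResidueField ⊗[R] A)) : IsTorus R A := by
  have := hfp
  refine Groth.Agent.MultTypeLib.isTorus_of_fibres (Groth.Agent.MultTypeLib.isMultType_of_connected_fibres fun p hp => ?_) hfib
  exact Groth.Agent.MultTypeLib.isMultType_connected_of_torus p.ResidueField (hfib p)

end Groth.Agent.S2976
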