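import Groth.Statements.S2978
-- import your own Groth.Agent.* helpers here

set_option autoImplicit false
universe u
open SGA3b

namespace Groth.Agent.S2978

/-- Let A be a Noetherian ring, M a set and a : M × M → A a family vanishing off the diagonal which is a
finite sum of decomposable families: a(m, m') = Σ_i b_i(m) c_i(m') for finitely many b_i, c_i : M →
A. Then a has finite support. -/
theorem result (A : Type u) [CommRing A] [IsNoetherianRing A] (M : Type u)
    (a : M × M → A) (hdiag : ∀ m m', m ≠ m' → a (m, m') = 0)
    (ι : Type u) [Fintype ι] (b c : ι → M → A) (hdec : ∀ m m', a (m, m') = ∑ i, b i m * c i m') :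
    Set.Finite {p : M × M | a p ≠ 0} := by
  classical
  let w : M → (M → A) := fun m => Pi.single m (a (m, m))
  let L : Submodule A (M → A) := Submodule.span A (Set.range c)
  have hw : Submodule.span A (Set.range w) ≤ L := by
    rw [Submodule.span_le]
    rintro _ ⟨m, rfl⟩
    have : w m = ∑ i, b i m • c i := by
      funext m'
      rw [Finset.sum_apply]
      simp only [Pi.smul_apply, smul_eq_mul, ← hdec]
      by_cases h : m' = m
      · subst h; simp [w]
      · simp [w, Pi.single_eq_of_ne h, hdiag m m' (Ne.symm h)]
    rw [this]
    exact Submodule.sum_mem _ fun i _ => Submodule.smul_mem _ _ (Submodule.subset_span ⟨i, rfl⟩)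
  have : IsNoetherian A L := isNoetherian_of_fg_of_noetherian _ (Submodule.fg_span (Set.finite_range c))
  have hfg : (Submodule.span A (Set.range w)).FG := by
    have h1 := (IsNoetherian.noetherian ((Submodule.span A (Set.range w)).comap L.subtype)).map L.subtype
    rwa [Submodule.map_comap_subtype, inf_eq_right.mpr hw] at h1
  obtain ⟨g, hg⟩ := hfg
  have hfin : ∀ x ∈ Submodule.span A (Set.range w), (Function.support x).Finite := by
    intro x hx
    induction hx using Submodule.span_induction with
    | mem x hx =>
      obtain ⟨m, rfl⟩ := hx
      exact (Set.finite_singleton m).subset Pi.support_single_subset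
    | zero => simp
    | add x y _ _ hx hy => exact (hx.union hy).subset (Function.support_add x y)
    | smul r x _ hx => exact hx.subset (Function.support_const_smul_subset r x)
  let T : Set M := ⋃ x ∈ (g : Set (M → A)), Function.support x
  have hT : T.Finite := g.finite_toSet.biUnion fun x hx => hfin x (hg ▸ Submodule.subset_span hx)
  have hsupp : ∀ x ∈ Submodule.span A (Set.range w), Function.support x ⊆ T := by
    intro x hx
    rw [← hg] at hx
    induction hx using Submodule.span_induction with
    | mem x hx => exact Set.subset_biUnion_of_mem (u := fun x => Function.support x) hx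
    | zero => simp
    | add x y _ _ hx hy => exact (Function.support_add x y).trans (Set.union_subset hx hy)
    | smul r x _ hx => exact (Function.support_const_smul_subset r x).trans hx
  refine (hT.image fun m => (m, m)).subset ?_
  rintro ⟨m, m'⟩ hp
  have hmm : m = m' := by
    by_contra h
    exact hp (hdiag m m' h)
  subst hmm
  exact ⟨m, hsupp (w m) (Submodule.subset_span ⟨m, rfl⟩) (by simpa [w] using hp), rfl⟩

end Groth.Agent.S2978
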