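import Groth.Statements.S2979
import Groth.Agent.MultTypeLib.NilLift

set_option autoImplicit false
universe u
open TensorProduct SGA3b
open SGA3b

namespace Groth.Agent.S2979

/-- Let R be a ring and I an ideal consisting of nilpotent elements. Every quasi-isotrivial (R/I)-group
of multiplicative type Spec A₀ is the base change of some quasi-isotrivial R-group of multiplicative
type Spec A. (Affine group schemes over an affine base are taken in Hopf-algebra form; base change
is the tensor product.) -/
theorem result (R : Type u) [CommRing R] (I : Ideal R) (hI : ∀ x ∈ I, IsNilpotent x)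
    (A₀ : Type u) [CommRing A₀] [HopfAlgebra (R ⧸ I) A₀] (h0 : IsQuasiIsotrivial (R ⧸ I) A₀) :
    ∃ (A : Type u) (_ : CommRing A) (_ : HopfAlgebra R A), IsQuasiIsotrivial R A ∧ Nonempty (((R ⧸ I) ⊗[R] A) ≃ₐc[R ⧸ I] A₀) := by
  exact Groth.Agent.MultTypeLib.exists_quasiIsotrivial_lift I hI A₀ h0

end Groth.Agent.S2979
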