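import Groth.Statements.S2982
import Groth.Agent.MultTypeLib.Kernel

set_option autoImplicit false
universe u
open TensorProduct SGA3b
open SGA3b

namespace Groth.Agent.S2982

/-- Let H = Spec A be an R-group of multiplicative type and of finite type, G = Spec C an affine R-group
with C of finite presentation over R, u : H ⟶ G a homomorphism given by the bialgebra map φ : C → A,
and J the ideal of the kernel of u (generated by the image of the augmentation ideal of C), a Hopf
ideal (the instance hypothesis holds automatically for this J). Then Ker u = Spec (A/J) is of
multiplicative type (with locally constant type). (Affine group schemes over an affine base are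
taken in Hopf-algebra form; base change is the tensor product.) -/
theorem result (R : Type u) [CommRing R] (A : Type u) [CommRing A] [HopfAlgebra R A] (hft : Algebra.FiniteType R A) (h : IsMultType R A)
    (C : Type u) [CommRing C] [HopfAlgebra R C] (hC : Algebra.FinitePresentation R C) (φ : C →ₐc[R] A)
    (J : Ideal A) [J.IsHopfIdeal R] (hJ : J = Ideal.map φ (RingHom.ker (Bialgebra.counitAlgHom R C))) :
    IsMultType R (A ⧸ J) := by
  have : Algebra.FiniteType R C := inferInstance
  exact Groth.Agent.MultTypeLib.isMultType_kernel J φ h hJ this

end Groth.Agent.S2982
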