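import Groth.Statements.S2986
import Groth.Agent.Lib.WeilInf12
import Mathlib.RingTheory.Smooth.NoetherianDescent
-- import your own Groth.Agent.* helpers here

set_option autoImplicit false
universe u
open TensorProduct
open SGA3b

namespace Groth.Agent.S2986

section Aux

variable {A R B₁ B : Type u} [CommRing A] [CommRing R] [CommRing B₁] [CommRing B] [Algebra A R]
  [Algebra A B₁] [Algebra R B] [Algebra A B] [IsScalarTower A R B]

theorem transfer [IsNoetherianRing A] [Algebra.Smooth A B₁] (ψ : B₁ →ₐ[A] B)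
    (hgen : ∀ b : B, b ∈ Submodule.span R (Set.range ψ))
    (huniv : ∀ (D : Type u) [CommRing D] [Algebra R D] [Algebra A D] [IsScalarTower A R D] (g : B₁ →ₐ[A] D),
      ∃ h : B →ₐ[R] D, ∀ y, h (ψ y) = g y)
    (hconn : ∀ (K : Type u) [Field K] [IsAlgClosed K] [Algebra R K], ConnectedSpace (PrimeSpectrum (K ⊗[R] B)))
    (e : B →ₐ[R] R) (e₁ : B₁ →ₐ[A] A) (he : ∀ y, algebraMap A R (e₁ y) = e (ψ y))
    (J : Ideal B) (T : Set B) (hT : J = Ideal.span T) (hTψ : ∀ x ∈ T, x ∈ Set.range ψ) :
    ∃ n : ℕ, ∀ (R' : Type u) [CommRing R'] [Algebra R R'],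
      (∀ x ∈ J, (1 : R') ⊗ₜ[R] x = (0 : R' ⊗[R] B)) ↔
        (∀ x ∈ J, (1 : R') ⊗ₜ[R] (Ideal.Quotient.mk (RingHom.ker e ^ (n + 1)) x) =
          (0 : R' ⊗[R] (B ⧸ RingHom.ker e ^ (n + 1)))) := by
  obtain ⟨n, hn⟩ := WeilInf12.exists_order e₁ (Ideal.span (ψ ⁻¹' T))
  refine ⟨n, fun R' _ _ => ⟨fun h x hx => ?_, fun h => ?_⟩⟩
  · have := congrArg (Algebra.TensorProduct.map (AlgHom.id R R')
      (Ideal.Quotient.mkₐ R (RingHom.ker e ^ (n + 1)))) (h x hx)
    rw [map_zero, Algebra.TensorProduct.map_tmul] at this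
    exact this
  letI : Algebra A R' := ((algebraMap R R').comp (algebraMap A R)).toAlgebra
  haveI : IsScalarTower A R R' := IsScalarTower.of_algebraMap_eq fun a => rfl
  let m₁ := RingHom.ker e₁ ^ (n + 1)
  have hV : WeilInf12.VInf e₁ (Ideal.span (ψ ⁻¹' T)) n R' := by
    let D := R' ⊗[A] (B₁ ⧸ m₁)
    haveI : IsScalarTower A R D := IsScalarTower.of_algebraMap_eq (R := A) (S := R) (A := D) fun a => rfl
    obtain ⟨h₁, hh₁⟩ := huniv D
      ((Algebra.TensorProduct.includeRight).comp (Ideal.Quotient.mkₐ A m₁))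
    have hm : RingHom.ker e ≤ ((RingHom.ker e₁).map ψ) := by
      intro b hb
      have key : ∀ b : B, b - algebraMap R B (e b) ∈ (RingHom.ker e₁).map ψ := by
        intro b
        induction hgen b using Submodule.span_induction with
        | mem z hz =>
          obtain ⟨y, rfl⟩ := hz
          rw [← he y, ← IsScalarTower.algebraMap_apply, ← ψ.commutes, ← map_sub]
          exact Ideal.mem_map_of_mem ψ (by rw [RingHom.mem_ker]; simp)
        | zero => simp
        | add u v _ _ hu hv =>
          rw [map_add, map_add, add_sub_add_comm]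
          exact add_mem hu hv
        | smul r u _ hu =>
          rw [map_smul, smul_eq_mul, map_mul, Algebra.smul_def, ← mul_sub]
          exact Ideal.mul_mem_left _ _ hu
      have := key b
      rwa [RingHom.mem_ker.1 hb, map_zero, sub_zero] at this
    have hkill : ∀ b ∈ RingHom.ker e ^ (n + 1), h₁ b = 0 := by
      intro b hb
      have h2 := Ideal.pow_right_mono hm (n + 1) hb
      rw [← Ideal.map_pow] at h2
      have h3 : (RingHom.ker e₁ ^ (n + 1)).map ψ ≤ RingHom.ker h₁ := by
        rw [Ideal.map_le_iff_le_comap]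
        intro y hy
        show h₁ (ψ y) = 0
        rw [hh₁, AlgHom.comp_apply, Ideal.Quotient.mkₐ_eq_mk, Ideal.Quotient.eq_zero_iff_mem.2 hy, map_zero]
      exact h3 h2
    let G : R' ⊗[R] (B ⧸ RingHom.ker e ^ (n + 1)) →ₐ[R] D :=
      Algebra.TensorProduct.lift (IsScalarTower.toAlgHom R R' D)
        (Ideal.Quotient.liftₐ _ h₁ hkill) fun _ _ => Commute.all _ _
    intro y hy
    induction hy using Submodule.span_induction with
    | mem z hz =>
      have h4 := congrArg G (h (ψ z) (hT ▸ Ideal.subset_span hz))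
      rw [map_zero, Algebra.TensorProduct.lift_tmul, map_one, one_mul] at h4
      rw [← h4]
      exact (hh₁ z).symm
    | zero => simp
    | add u v _ _ hu hv => rw [map_add, TensorProduct.tmul_add, hu, hv, add_zero]
    | smul r u _ hu =>
      rw [smul_eq_mul, map_mul, show (1 : R') ⊗ₜ[A] (Ideal.Quotient.mk m₁ r * Ideal.Quotient.mk m₁ u) =
        ((1 : R') ⊗ₜ[A] Ideal.Quotient.mk m₁ r) * ((1 : R') ⊗ₜ[A] Ideal.Quotient.mk m₁ u) by
          rw [Algebra.TensorProduct.tmul_mul_tmul, one_mul]]
      rw [hu, mul_zero]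
  have hidem : ∀ (K : Type u) [Field K] [IsAlgClosed K] [Algebra A K], (R' →ₐ[A] K) →
      ∀ z : K ⊗[A] B₁, IsIdempotentElem z → z = 0 ∨ z = 1 := by
    intro K _ _ _ φ
    letI : Algebra R K := (φ.toRingHom.comp (algebraMap R R')).toAlgebra
    haveI : IsScalarTower A R K := IsScalarTower.of_algebraMap_eq fun a => (φ.commutes a).symm
    let D := K ⊗[A] B₁
    haveI : IsScalarTower A R D := IsScalarTower.of_algebraMap_eq (R := A) (S := R) (A := D) fun a =>
      (congrArg (fun c : K => c ⊗ₜ[A] (1 : B₁)) (φ.commutes a).symm : _)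
    obtain ⟨h₁, hh₁⟩ := huniv D Algebra.TensorProduct.includeRight
    let F : K ⊗[A] B₁ →ₐ[A] K ⊗[R] B :=
      Algebra.TensorProduct.lift (IsScalarTower.toAlgHom A K (K ⊗[R] B))
        (((Algebra.TensorProduct.includeRight : B →ₐ[R] K ⊗[R] B).restrictScalars A).comp ψ)
        fun _ _ => Commute.all _ _
    let G : K ⊗[R] B →ₐ[R] D :=
      Algebra.TensorProduct.lift (IsScalarTower.toAlgHom R K D) h₁ fun _ _ => Commute.all _ _
    have hGF : ∀ z, G (F z) = z := by
      intro z
      induction z using TensorProduct.induction_on with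
      | zero => simp
      | tmul c y => simp [G, F, hh₁, D]
      | add u v hu hv => rw [map_add, map_add, hu, hv]
    intro z hz
    haveI := hconn K
    rcases PrimeSpectrum.isClopen_iff.2 ⟨F z, hz.map F, rfl⟩ |> isClopen_iff.1 with h | h
    · refine Or.inl ?_
      have h2 : F z = 0 :=
        PrimeSpectrum.basicOpen_injOn_isIdempotentElem (hz.map F) IsIdempotentElem.zero
          (SetLike.ext' (h.trans (by simp)))
      rw [← hGF z, h2, map_zero]
    · refine Or.inr ?_
      have h2 : F z = 1 :=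
        PrimeSpectrum.basicOpen_injOn_isIdempotentElem (hz.map F) IsIdempotentElem.one
          (SetLike.ext' (h.trans (by simp)))
      rw [← hGF z, h2, map_one]
  have h5 := hn R' hidem hV
  let G : R' ⊗[A] B₁ →ₐ[A] R' ⊗[R] B :=
    Algebra.TensorProduct.lift (IsScalarTower.toAlgHom A R' (R' ⊗[R] B))
      (((Algebra.TensorProduct.includeRight : B →ₐ[R] R' ⊗[R] B).restrictScalars A).comp ψ)
      fun _ _ => Commute.all _ _
  intro x hx
  rw [hT] at hx
  induction hx using Submodule.span_induction with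
  | mem z hz =>
    obtain ⟨y, rfl⟩ := hTψ z hz
    have h6 := congrArg G (h5 y (Ideal.subset_span hz))
    rw [map_zero, Algebra.TensorProduct.lift_tmul, map_one, one_mul] at h6
    exact h6
  | zero => simp
  | add u v _ _ hu hv => rw [TensorProduct.tmul_add, hu, hv, add_zero]
  | smul r u _ hu =>
    rw [smul_eq_mul, show (1 : R') ⊗ₜ[R] (r * u) = ((1 : R') ⊗ₜ[R] r) * ((1 : R') ⊗ₜ[R] u) by
      rw [Algebra.TensorProduct.tmul_mul_tmul, one_mul], hu, mul_zero]

end Aux

/-- Let R be a ring, B a smooth R-algebra whose geometric fibres are connected (for every algebraically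
closed field K under R, Spec (K ⊗_R B) is connected), e : B → R an R-algebra section with kernel 𝔪,
and J a finitely generated ideal of B (a finitely presented closed subscheme Y of X = Spec B). Then
there is n ≥ 0 such that for every R-algebra R': the base change of X to R' lies in Y (every element
of J becomes zero in R' ⊗_R B) if and only if the base change of the n-th infinitesimal
neighbourhood Spec (B/𝔪^(n+1)) of the section lies in Y. (The published statement is for a general
base and X; this is the affine case.) -/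
theorem result (R B : Type u) [CommRing R] [CommRing B] [Algebra R B]
    [Algebra.Smooth R B]
    (hconn : ∀ (K : Type u) [Field K] [IsAlgClosed K] [Algebra R K], ConnectedSpace (PrimeSpectrum (K ⊗[R] B)))
    (e : B →ₐ[R] R) (J : Ideal B) (hJ : J.FG) :
    ∃ n : ℕ, ∀ (R' : Type u) [CommRing R'] [Algebra R R'],
      (∀ x ∈ J, (1 : R') ⊗ₜ[R] x = (0 : R' ⊗[R] B)) ↔
        (∀ x ∈ J, (1 : R') ⊗ₜ[R] (Ideal.Quotient.mk (RingHom.ker e ^ (n + 1)) x) = (0 : R' ⊗[R] (B ⧸ RingHom.ker e ^ (n + 1)))) := by
  classical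
  obtain ⟨A₀, B₀, i1, i2, hA₀, hsm, ⟨φ⟩⟩ := Algebra.Smooth.exists_subalgebra_fg ℤ R B
  obtain ⟨s, hs⟩ := (inferInstance : Algebra.FiniteType A₀ B₀).out
  obtain ⟨T, hT⟩ := hJ
  choose S hS using fun x : B => TensorProduct.exists_finset (φ x)
  let E : Finset R := (s.image fun b => e (φ.symm (1 ⊗ₜ b))) ∪ T.biUnion fun x => (S x).image Prod.fst
  let A₁ : Subalgebra ℤ R := A₀ ⊔ Algebra.adjoin ℤ (E : Set R)
  have hA₁ : A₁.FG := hA₀.sup (Subalgebra.fg_adjoin_finset E)
  haveI : IsNoetherianRing A₁ := isNoetherianRing_of_fg hA₁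
  letI : Algebra A₀ A₁ := (Subalgebra.inclusion le_sup_left).toRingHom.toAlgebra
  haveI : IsScalarTower A₀ A₁ R := IsScalarTower.of_algebraMap_eq fun a => rfl
  haveI : IsScalarTower A₀ A₁ B := IsScalarTower.of_algebraMap_eq fun a => rfl
  have hE : ∀ a ∈ E, a ∈ A₁ := fun a ha =>
    (le_sup_right : Algebra.adjoin ℤ (E : Set R) ≤ A₁) (Algebra.subset_adjoin ha)
  let B₁ := A₁ ⊗[A₀] B₀
  let ψ : B₁ →ₐ[A₁] B :=
    Algebra.TensorProduct.lift (Algebra.ofId A₁ B)
      ((φ.symm.restrictScalars A₀).toAlgHom.comp Algebra.TensorProduct.includeRight) fun _ _ => Commute.all _ _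
  have hψ : ∀ (a : A₁) (b : B₀), ψ (a ⊗ₜ b) = algebraMap R B a * φ.symm (1 ⊗ₜ b) := fun a b => rfl
  have he : ∀ y : B₁, e (ψ y) ∈ A₁ := by
    intro y
    induction y using TensorProduct.induction_on with
    | zero => simp
    | tmul a b =>
      rw [hψ, map_mul, e.commutes]
      refine mul_mem a.2 ?_
      have hb : b ∈ Algebra.adjoin A₀ (s : Set B₀) := by rw [hs]; trivial
      induction hb using Algebra.adjoin_induction with
      | mem z hz =>
        refine hE _ (Finset.mem_union_left _ ?_)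
        exact Finset.mem_image_of_mem _ hz
      | algebraMap r =>
        have h0 : φ.symm ((1 : R) ⊗ₜ[A₀] algebraMap A₀ B₀ r) = algebraMap R B (r : R) := by
          rw [← φ.symm.commutes]
          congr 1
          rw [Algebra.algebraMap_eq_smul_one, ← TensorProduct.smul_tmul, Algebra.TensorProduct.algebraMap_apply]
          congr 1
          show (r : R) * 1 = _
          simp
        rw [h0, e.commutes]
        exact (le_sup_left : A₀ ≤ A₁) r.2
      | add u v _ _ hu hv => rw [TensorProduct.tmul_add, map_add, map_add]; exact add_mem hu hv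
      | mul u v _ _ hu hv =>
        rw [show (1 : R) ⊗ₜ[A₀] (u * v) = ((1 : R) ⊗ₜ[A₀] u) * ((1 : R) ⊗ₜ[A₀] v) by
          rw [Algebra.TensorProduct.tmul_mul_tmul, one_mul], map_mul, map_mul]
        exact mul_mem hu hv
    | add u v hu hv => rw [map_add, map_add]; exact add_mem hu hv
  let e₁ : B₁ →ₐ[A₁] A₁ :=
    { toRingHom := ((e : B →+* R).comp (ψ : B₁ →+* B)).codRestrict A₁ he
      commutes' := fun a => Subtype.ext (by
        show e (ψ (algebraMap A₁ B₁ a)) = _
        rw [ψ.commutes]
        exact e.commutes (a : R)) }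
  refine transfer ψ ?_ ?_ hconn e e₁ (fun y => rfl) J (T : Set B) hT.symm ?_
  · intro b
    have key : ∀ z, φ.symm z ∈ Submodule.span R (Set.range ψ) := by
      intro z
      induction z using TensorProduct.induction_on with
      | zero => simp
      | tmul r b =>
        have : φ.symm (r ⊗ₜ[A₀] b) = r • ψ (1 ⊗ₜ b) := by
          rw [hψ, OneMemClass.coe_one, map_one, one_mul, ← map_smul, TensorProduct.smul_tmul', smul_eq_mul, mul_one]
        rw [this]
        exact Submodule.smul_mem _ _ (Submodule.subset_span ⟨_, rfl⟩)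
      | add u v hu hv => rw [map_add]; exact add_mem hu hv
    simpa using key (φ b)
  · intro D _ _ _ _ g
    let g₀ : B₀ →ₐ[A₀] D :=
      { toRingHom := (g : B₁ →+* D).comp
          (Algebra.TensorProduct.includeRight (R := A₀) (A := A₁) (B := B₀)).toRingHom
        commutes' := fun r => by
          show g ((1 : A₁) ⊗ₜ[A₀] algebraMap A₀ B₀ r) = algebraMap R D (r : R)
          rw [Algebra.algebraMap_eq_smul_one, ← TensorProduct.smul_tmul, ← Algebra.algebraMap_eq_smul_one]
          exact (g.commutes _).trans (IsScalarTower.algebraMap_apply A₁ R D _) }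
    refine ⟨(Algebra.TensorProduct.lift (Algebra.ofId R D)
      g₀ fun _ _ => Commute.all _ _).comp
      φ.toAlgHom, fun y => ?_⟩
    induction y using TensorProduct.induction_on with
    | zero => simp
    | tmul a b =>
      rw [hψ, map_mul, AlgHom.commutes]
      have : (a ⊗ₜ[A₀] b : B₁) = algebraMap A₁ B₁ a * (1 ⊗ₜ b) := by
        rw [Algebra.TensorProduct.algebraMap_apply, Algebra.TensorProduct.tmul_mul_tmul, mul_one, one_mul]
        rfl
      rw [this, map_mul, g.commutes, IsScalarTower.algebraMap_apply A₁ R D]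
      simp
      rfl
    | add u v hu hv => simp only [map_add, hu, hv]
  · intro x hx
    have hx' : x = φ.symm (∑ i ∈ S x, i.1 ⊗ₜ i.2) := by rw [← hS x, φ.symm_apply_apply]
    refine ⟨∑ i ∈ (S x).attach, (⟨i.1.1, hE _ (Finset.mem_union_right _
      (Finset.mem_biUnion.2 ⟨x, hx, Finset.mem_image_of_mem _ i.2⟩))⟩ : A₁) ⊗ₜ i.1.2, ?_⟩
    conv_rhs => rw [hx']
    rw [map_sum, map_sum, ← Finset.sum_attach (S x) (fun i => φ.symm (i.1 ⊗ₜ i.2))]
    refine Finset.sum_congr rfl fun i _ => ?_
    rw [hψ, ← φ.symm.commutes, ← map_mul, Algebra.TensorProduct.algebraMap_apply,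
      Algebra.TensorProduct.tmul_mul_tmul]
    simp


end Groth.Agent.S2986
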