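import Groth.Statements.S2989
import Groth.Agent.SolvGrp.Reductive4
import Groth.Agent.SolvGrp.TorusSepClosed
import Groth.Agent.GrpSchLib.RankOneNonComm
-- import your own Groth.Agent.* helpers here

set_option autoImplicit false
open CategoryTheory MonoidalCategory CartesianMonoidalCategory MonObj GrpObj AlgebraicGeometry
universe u
open Red

namespace Groth.Agent.S2989


set_option backward.isDefEq.respectTransparency false
set_option backward.isDefEq.respectTransparency.types false
set_option synthInstance.maxHeartbeats 400000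
set_option maxHeartbeats 2000000

open Limits GrpSchLib

/-- A homomorphism out of a reductive group over an algebraically closed field killing all maximal tori is trivial. -/
theorem eq_one_of_kills_tori {K : Type u} [Field K] [IsAlgClosed K] {G A : Over (Spec (CommRingCat.of K))} [GrpObj G]
    [GrpObj A] [LocallyOfFiniteType A.hom] [IsAffine G.left] [Smooth G.hom] [ConnectedSpace G.left]
    (hG : Red.IsReductiveOver K G) (ψ : G ⟶ A) [IsMonHom ψ]
    (h0 : ∀ (T : Over (Spec (CommRingCat.of K))) [GrpObj T] (iT : T ⟶ G) [IsMonHom iT], Red.IsTorus T → iT ≫ ψ = 1) :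
    ψ = 1 := by
  haveI : IsReduced G.left := isReduced_of_smooth_field G.hom
  haveI := AntiAffine.isSeparated_grp A
  let N : Subgroup (𝟙_ (Over (Spec (CommRingCat.of K))) ⟶ G) :=
    (MonoidHom.mk' (fun g => g ≫ ψ) fun g g' => MonObj.mul_comp g g' ψ).ker
  have hmem : ∀ g, g ∈ N ↔ g ≫ ψ = 1 := fun g => Iff.rfl
  have hN : N = ⊤ := by
    refine SolvGrp.eq_top_of_ss hG N ?_ inferInstance fun g hg => (hmem g).mpr ?_
    · exact ⟨ψ.left ⁻¹' {AGFLib.Gen.cp (1 : 𝟙_ _ ⟶ A)}, (AGFLib.Gen.isClosed_cp _).preimage ψ.left.continuous,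
        fun g => ⟨fun h => congrArg AGFLib.Gen.cp ((hmem g).mp h), fun h => (hmem g).mpr (AGFLib.Gen.cp_injective h)⟩⟩
    · obtain ⟨T, _, iT, hT⟩ := SolvGrp.exists_maxTorus_closed G
      haveI := hT.1
      obtain ⟨x, t, ht⟩ := SolvGrp.exists_conj_maxTorus iT hT g hg
      have h1 : (x * g * x⁻¹) ≫ ψ = 1 := by
        rw [← show t ≫ iT = x * g * x⁻¹ from ht, Category.assoc, h0 T iT hT.2.2.1, MonObj.comp_one]
      rw [MonObj.mul_comp, MonObj.mul_comp, GrpObj.inv_comp] at h1
      exact conj_eq_one_iff.mp h1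
  refine AGFLib.BorelFixed.hom_ext_pts fun g => ?_
  rw [(hmem g).mp (hN ▸ Subgroup.mem_top g), MonObj.comp_one]

/-- The additive group commutes with base change of fields, on points. -/
theorem exists_gaBC {S : Scheme.{u}} {K : Type u} [Field K] (q : Spec (CommRingCat.of K) ⟶ S) :
    ∃ φ' : Red.bc q (Red.Ga S) ⟶ Red.Ga (Spec (CommRingCat.of K)), IsMonHom φ' ∧
      ∀ {Y : Over (Spec (CommRingCat.of K))} (a b : Y ⟶ Red.bc q (Red.Ga S)), a ≫ φ' = b ≫ φ' → a = b := by
  let φ : (Red.bc q (Red.Ga S)) ⟶ Red.Ga (Spec (CommRingCat.of K)) :=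
    GaPts.ptOfFn (T := (Red.bc q (Red.Ga S))) (Red.gaFn (X := (Over.map q).obj (Red.bc q (Red.Ga S))) (DSPtsLib.theta q (𝟙 (Red.bc q (Red.Ga S)))))
  have hval : ∀ {Y : Over (Spec (CommRingCat.of K))} (a : Y ⟶ (Red.bc q (Red.Ga S))),
      Red.gaFn (a ≫ φ) = Red.gaFn (X := (Over.map q).obj Y) (DSPtsLib.theta q a) := by
    intro Y a
    rw [GaPts.gaFn_comp, GaPts.gaFn_ptOfFn]
    refine Eq.trans ?_ (congrArg Red.gaFn (DSPtsLib.theta_comp q a (𝟙 (Red.bc q (Red.Ga S)))).symm |>.trans (by rw [Category.comp_id]))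
    exact (GaPts.gaFn_comp ((Over.map q).map a) _).symm
  refine ⟨φ, AGFLib.isMonHom_of_mul φ fun Y a b => GaPts.gaFn_injective (by
    show Red.gaFn _ = Red.gaFn _
    rw [GaPts.gaFn_mul, hval, hval, hval, DSPtsLib.theta_mul]
    exact GaPts.gaFn_mul _ _), fun a b h => (DSPtsLib.theta_bijective q).injective (GaPts.gaFn_injective ?_)⟩
  show Red.gaFn _ = Red.gaFn _
  rw [← hval, ← hval, h]


/-- First assertion (H¹(G, k) = 0 for k with trivial action). Let k be a field and G a reductive
k-group. Then every homomorphism of k-groups from G to the additive group is trivial. -/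
theorem result (k : Type u) [Field k] (G : Over (Spec (CommRingCat.of k))) [GrpObj G]
    (hG : Red.IsReductive G) (φ : G ⟶ Red.Ga (Spec (CommRingCat.of k))) [IsMonHom φ] :
    φ = toUnit G ≫ η[Red.Ga (Spec (CommRingCat.of k))] := by
  classical
  let s := AGFLib.GeomBC.pt k
  haveI := hG.2.1
  haveI := AGFLib.GeomBC.surjective_geomPt s
  haveI := AGFLib.GeomBC.flat_geomPt s
  haveI := AGFLib.GeomBC.isIntegralHom_geomPt s
  let F := Over.pullback (Red.geomPt s)
  obtain ⟨φ', hφ', hinj⟩ := exists_gaBC (S := Spec (CommRingCat.of k)) (Red.geomPt s)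
  haveI := hφ'
  haveI : IsAffine (Red.geomFibre s G).left := (hG.2.2 s).1
  haveI : Smooth (Red.geomFibre s G).hom := (hG.2.2 s).2.1
  haveI : ConnectedSpace (Red.geomFibre s G).left := (hG.2.2 s).2.2.1
  haveI : IsMonHom (F.map φ ≫ φ') := inferInstance
  have h1 : F.map φ = F.map (1 : G ⟶ Red.Ga (Spec (CommRingCat.of k))) := by
    refine hinj _ _ ?_
    haveI : Smooth (Red.Ga (Spec (CommRingCat.of (AlgebraicClosure ((Spec (CommRingCat.of k)).residueField s))))).hom :=
      RankOne.smooth_ga _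
    rw [eq_one_of_kills_tori (hG.2.2 s) (F.map φ ≫ φ') fun T _ iT _ hT =>
      S8392.result _ T (TorusQI.isMultTypeFT_of_isTorus hT) (iT ≫ F.map φ ≫ φ'), F.map_one, MonObj.one_comp]
  rw [← Hom.one_def]
  refine Over.OverMorphism.ext ?_
  haveI : Epi (Limits.pullback.fst G.hom (Red.geomPt s)) := Flat.epi_of_flat_of_surjective _
  refine (cancel_epi (Limits.pullback.fst G.hom (Red.geomPt s))).mp ?_
  have e : ∀ f : G ⟶ Red.Ga (Spec (CommRingCat.of k)), (F.map f).left ≫ Limits.pullback.fst (Red.Ga (Spec (CommRingCat.of k))).hom _ =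
      Limits.pullback.fst G.hom (Red.geomPt s) ≫ f.left := fun f => Limits.pullback.lift_fst _ _ _
  rw [← e, ← e, h1]

end Groth.Agent.S2989
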