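import Groth.Statements.S2993
import Groth.Agent.AffDimOne.Main
import Groth.Agent.RedImage.Proper
-- import your own Groth.Agent.* helpers here

set_option autoImplicit false
universe u
open Par

namespace Groth.Agent.S2993

open AlgebraicGeometry CategoryTheory in
/-- In the case proved in the text (G smooth over S; the editors note that flatness suffices): let S be
a locally Noetherian scheme of dimension ≤ 1, G and H two S-group schemes of finite type and f : G →
H a homomorphism of S-groups which is quasi-finite and separated. If G is smooth over S then f is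
affine. -/
theorem result {S : Scheme.{u}} [IsLocallyNoetherian S] (hS : topologicalKrullDim S ≤ 1)
    (G H : Over S) [GrpObj G] [GrpObj H] [LocallyOfFiniteType G.hom] [QuasiCompact G.hom] [LocallyOfFiniteType H.hom] [QuasiCompact H.hom]
    [Smooth G.hom] (f : G ⟶ H) [IsMonHom f] [LocallyQuasiFinite f.left] [QuasiCompact f.left] [IsSeparated f.left] :
    IsAffineHom f.left := by
  refine AffDimOne.isAffineHom f hS fun s => ?_
  let κ := S.fromSpecResidueField s
  let F := (Over.pullback κ).map f
  have sq : IsPullback (Limits.pullback.fst G.hom κ) F.left f.left (Limits.pullback.fst H.hom κ) := by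
    have h1 : F.left ≫ Limits.pullback.snd H.hom κ = Limits.pullback.snd G.hom κ := Over.w F
    refine IsPullback.of_bot ?_ (Limits.pullback.lift_fst _ _ _).symm (IsPullback.of_hasPullback H.hom κ)
    rw [h1, Over.w f]
    exact IsPullback.of_hasPullback G.hom κ
  haveI : LocallyQuasiFinite F.left := MorphismProperty.of_isPullback sq ‹_›
  haveI : QuasiCompact F.left := MorphismProperty.of_isPullback sq ‹_›
  haveI : IsSeparated F.left := MorphismProperty.of_isPullback sq ‹_›
  haveI : LocallyOfFiniteType (Red.bc κ G).hom := inferInstanceAs (LocallyOfFiniteType (Limits.pullback.snd G.hom κ))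
  haveI : LocallyOfFiniteType (Red.bc κ H).hom := inferInstanceAs (LocallyOfFiniteType (Limits.pullback.snd H.hom κ))
  haveI : LocallyOfFiniteType (F.left ≫ (Red.bc κ H).hom) := by rw [Over.w F]; infer_instance
  haveI : LocallyOfFiniteType F.left := locallyOfFiniteType_of_comp F.left (Red.bc κ H).hom
  let k₀ := Limits.pullback.snd F.left (MonObj.one (X := Red.bc κ H)).left
  haveI : Subsingleton ↥(Spec (S.residueField s)) := inferInstanceAs (Subsingleton (PrimeSpectrum (S.residueField s)))
  haveI : IsLocallyArtinian (MonoidalCategoryStruct.tensorUnit (Over (Spec (S.residueField s)))).left :=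
    inferInstanceAs (IsLocallyArtinian (Spec (S.residueField s)))
  haveI : IsFinite k₀ := IsFinite.of_locallyQuasiFinite k₀
  haveI : IsProper F.left := Groth.Agent.RedImage.isProper_of_isProper_ker (k := S.residueField s) F
  exact IsFinite.of_isProper_of_locallyQuasiFinite F.left

end Groth.Agent.S2993
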