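import Groth.Statements.S3002
import Groth.Agent.RedOpen.AffineCover

set_option autoImplicit false
set_option backward.isDefEq.respectTransparency false
set_option backward.isDefEq.respectTransparency.types false
set_option linter.style.haveILetI false
set_option synthInstance.maxHeartbeats 200000
set_option maxHeartbeats 2000000
universe u
open CategoryTheory MonoidalCategory CartesianMonoidalCategory MonObj GrpObj AlgebraicGeometry
open Red

namespace Groth.Agent.S3002

/-- The reductivity assertion of (i) and the split maximal torus of (ii): Let S be a scheme, G an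
S-group scheme which is affine, of finite presentation and flat over S (the source assumes flatness
only at the unit section over s₀), with connected fibres, and let s₀ ∈ S be a point whose geometric
fibre G_{s̄₀} is reductive. Then there are an affine open neighbourhood u : Spec A → S of s₀ over
which G is reductive, and an étale surjective morphism v : Spec B → Spec A such that the base change
of G to Spec B has a maximal torus which is split (isomorphic to D(ℤ^r) for some r). (The source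
also gives constancy of the reductive and semisimple ranks over U and finiteness of the Weyl group
over S'.) -/
theorem result (S : Scheme.{u}) (G : Over S) [GrpObj G] [IsAffineHom G.hom] [LocallyOfFinitePresentation G.hom] [Flat G.hom] (hconn : ∀ s : S, _root_.IsConnected (G.hom.base ⁻¹' {s})) (s₀ : S) (h₀ : Red.IsReductiveOver (AlgebraicClosure (S.residueField s₀)) (Red.geomFibre s₀ G)) : ∃ (A : Type u) (_ : CommRing A) (u : Spec (CommRingCat.of A) ⟶ S), IsOpenImmersion u ∧ s₀ ∈ Set.range u.base ∧ Red.IsReductive (Red.bc u G) ∧ ∃ (B : Type u) (_ : CommRing B) (v : Spec (CommRingCat.of B) ⟶ Spec (CommRingCat.of A)), Etale v ∧ Surjective v ∧ ∃ (T : Over (Spec (CommRingCat.of B))) (_ : GrpObj T) (i : T ⟶ Red.bc (v ≫ u) G), Red.IsMaximalTorus i ∧ ∃ r : ℕ, Red.IsSplitTorusWith (Fin r → ℤ) T := by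
  haveI : Smooth (Red.geomFibre s₀ G).hom := h₀.2.1
  obtain ⟨U, hsU, hU⟩ := RedOpen.exists_smooth_nhd G s₀ this
  obtain ⟨W, hW, hsW, hWU⟩ := exists_isAffineOpen_mem_and_subset hsU
  let l₀ : Spec (CommRingCat.of Γ(S, W)) ⟶ S := hW.fromSpec
  haveI : IsOpenImmersion l₀ := inferInstanceAs (IsOpenImmersion hW.fromSpec)
  let G₁ := Red.bc l₀ G
  haveI : IsAffineHom G₁.hom := MorphismProperty.pullback_snd (P := @IsAffineHom) _ _ inferInstance
  haveI : Smooth G₁.hom := by
    let l' : Spec (CommRingCat.of Γ(S, W)) ⟶ U := IsOpenImmersion.lift U.ι l₀ (by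
      rw [Scheme.Opens.range_ι]
      exact hW.range_fromSpec.trans_subset hWU)
    haveI : Smooth (Red.bc l' (Red.bc U.ι G)).hom :=
      MorphismProperty.pullback_snd (P := @Smooth) _ _ hU
    rw [show G₁.hom = (GrpLimLib.cmp (IsOpenImmersion.lift_fac U.ι l₀ _ : l' ≫ U.ι = l₀) G).inv.left ≫
      (Red.bc l' (Red.bc U.ι G)).hom from (Over.w (GrpLimLib.cmp _ G).inv).symm]
    infer_instance
  have hconn₁ : ∀ t, _root_.IsConnected (G₁.hom.base ⁻¹' {t}) := fun t =>
    SmoothWeilLib.isConnected_preimage_snd hconn l₀ t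
  have hs : s₀ ∈ Set.range l₀ := hW.range_fromSpec.symm ▸ hsW
  obtain ⟨s₁, hs₁⟩ := hs
  obtain ⟨b₁, hb₁⟩ := RedRank.exists_lift_geomPt l₀ s₀ ⟨s₁, hs₁⟩
  have hb₁c : b₁ (IsLocalRing.closedPoint _) = s₁ := l₀.isOpenEmbedding.injective (by
    rw [← Scheme.Hom.comp_apply, hb₁, hs₁]
    exact RedOpen.geomPt_closedPoint s₀)
  obtain ⟨e₁⟩ := GrpSchLib.MultTypeBC.bc_bc b₁ l₀ G
  obtain ⟨e₂⟩ := GrpSchLib.MultTypeBC.bc_congr hb₁ G
  have h₁ := RedOpen.reductive_geomFibre hconn₁ b₁ (SolvGrp.isReductiveOver_congr₀ (e₁ ≪≫ e₂).symm h₀) s₁ hb₁c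
  obtain ⟨A, _, u', hu', hsu', B, _, v', hv', hsv, hred, T, _, i, hi, r, hsplit⟩ :=
    RedOpen.exists_affine_cover hconn₁ s₁ h₁
  haveI := hu'
  let u : Spec (CommRingCat.of A) ⟶ S := u' ≫ l₀
  refine ⟨A, inferInstance, u, inferInstance, ?_, ?_, B, inferInstance, v', hv', hsv, ?_⟩
  · obtain ⟨a, ha⟩ := hsu'
    exact ⟨a, by rw [← hs₁, ← ha]; rfl⟩
  · refine ⟨MorphismProperty.pullback_snd (P := @IsAffineHom) _ _ inferInstance, ?_, fun a => ?_⟩
    · haveI : Smooth (Red.bc u' G₁).hom := inferInstanceAs (Smooth (Limits.pullback.snd G₁.hom u'))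
      rw [show (Red.bc u G).hom = (GrpLimLib.cmp (rfl : u' ≫ l₀ = u) G).inv.left ≫ (Red.bc u' G₁).hom from
        (Over.w (GrpLimLib.cmp _ G).inv).symm]
      infer_instance
    · obtain ⟨f₁⟩ := GrpSchLib.MultTypeBC.bc_bc (Red.geomPt a) u G
      obtain ⟨f₂⟩ := GrpSchLib.MultTypeBC.bc_bc (Red.geomPt a ≫ u') l₀ G
      obtain ⟨f₃⟩ := GrpSchLib.MultTypeBC.bc_congr (Category.assoc (Red.geomPt a) u' l₀) G
      exact SolvGrp.isReductiveOver_congr₀ (f₂ ≪≫ f₃ ≪≫ f₁.symm) (hred a)
  · haveI := GrpLimLib.isMonHom_cmp (Category.assoc v' u' l₀ : (v' ≫ u') ≫ l₀ = v' ≫ u) G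
    exact ⟨T, inferInstance, i ≫ (GrpLimLib.cmp (Category.assoc v' u' l₀ : (v' ≫ u') ≫ l₀ = v' ≫ u) G).hom,
      MaxTorCent.isMaximalTorus_comp_iso hi _, r, hsplit⟩

end Groth.Agent.S3002
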