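import Groth.Statements.S3003
import Groth.Agent.RedRank.SplitMax
-- import your own Groth.Agent.* helpers here

set_option autoImplicit false
universe u
open CategoryTheory MonoidalCategory CartesianMonoidalCategory MonObj GrpObj AlgebraicGeometry
open Red

namespace Groth.Agent.S3003

/-- Let S be a scheme, G an S-group scheme which is smooth and affine over S with connected fibres, and
s₀ ∈ S such that every maximal torus of the geometric fibre G_{s̄₀} is its own centralizer (every
point of G_{s̄₀} commuting with all points of the torus lies in it). Then there exist an étale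
morphism v : Spec B → S whose image contains s₀ and a maximal torus of the base change of G to Spec
B which is split. -/
theorem result (S : Scheme.{u}) (G : Over S) [GrpObj G] [IsAffineHom G.hom] [Smooth G.hom] (hconn : ∀ s : S, _root_.IsConnected (G.hom.base ⁻¹' {s})) (s₀ : S) (hc : ∀ (T : Over (Spec (CommRingCat.of (AlgebraicClosure (S.residueField s₀))))) [GrpObj T] (i : T ⟶ Red.geomFibre s₀ G), Red.IsMaximalTorus i → ∀ (X : Over _) (g : X ⟶ Red.geomFibre s₀ G), (∀ (X' : Over _) (x : X' ⟶ X) (t : X' ⟶ T), (x ≫ g) * (t ≫ i) = (t ≫ i) * (x ≫ g)) → ∃ t : X ⟶ T, g = t ≫ i) : ∃ (B : Type u) (_ : CommRing B) (v : Spec (CommRingCat.of B) ⟶ S), Etale v ∧ s₀ ∈ Set.range v.base ∧ ∃ (T : Over (Spec (CommRingCat.of B))) (_ : GrpObj T) (i : T ⟶ Red.bc v G), Red.IsMaximalTorus i ∧ ∃ r : ℕ, Red.IsSplitTorusWith (Fin r → ℤ) T := by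
  set_option backward.isDefEq.respectTransparency.types false in
  exact RedRank.exists_split_maximal hconn s₀ hc

end Groth.Agent.S3003
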