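import Groth.Statements.S3009
import Groth.Agent.RedOpen.Open
import Groth.Agent.S3022

set_option autoImplicit false
set_option backward.isDefEq.respectTransparency false
set_option backward.isDefEq.respectTransparency.types false
set_option linter.style.haveILetI false
set_option synthInstance.maxHeartbeats 200000
set_option maxHeartbeats 2000000
universe u
open CategoryTheory MonoidalCategory CartesianMonoidalCategory MonObj GrpObj AlgebraicGeometry
open Red

namespace Groth.Agent.S3009

/-- Let S be a scheme, G an S-group scheme smooth and affine over S with connected fibres, and i : T → G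
a closed subgroup scheme which is a torus. Then the set of points s ∈ S such that the geometric
fibre G_{s̄} is reductive, T_{s̄} is a maximal torus of it, and G_{s̄} has semisimple rank 1 —
written as dim G_{s̄} = dim T_{s̄} + 2 — is open in S. -/
theorem result (S : Scheme.{u}) (G T : Over S) [GrpObj G] [GrpObj T] [IsAffineHom G.hom] [Smooth G.hom] (hconn : ∀ s : S, _root_.IsConnected (G.hom.base ⁻¹' {s})) (i : T ⟶ G) [IsMonHom i] (hi : IsClosedImmersion i.left) (hT : Red.IsTorus T) : IsOpen {s : S | Red.IsReductiveOver (AlgebraicClosure (S.residueField s)) (Red.geomFibre s G) ∧ Red.IsMaximalTorus ((Over.pullback (Red.geomPt s)).map i) ∧ topologicalKrullDim ↥(Red.geomFibre s G).left = topologicalKrullDim ↥(Red.geomFibre s T).left + 2} := by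
  haveI := hi
  haveI : Mono i := (Over.forget _).mono_of_mono_map (inferInstanceAs (Mono i.left))
  haveI : Smooth T.hom := Groth.Agent.FixTorus.smooth_of_isTorus hT
  refine isOpen_iff_forall_mem_open.mpr fun s ⟨hs, hTs, hd⟩ => ?_
  obtain ⟨Z, _, z, hz, hzl, -⟩ :=
    MaxTorCent.exists_centralizer i (TorusQI.isMultTypeFT_of_isTorus hT)
  obtain ⟨f, hf⟩ := (hz.2.2 T i).mpr fun X' x h => by
    rw [← MonObj.mul_comp, ← MonObj.mul_comp,
      GrpSchLib.MultTypeComm.points_comm (TorusQI.isMultTypeFT_of_isTorus hT)]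
  obtain ⟨U, hsU, -, hmax⟩ := RedRank.ReductiveRank.exists_nhd_maximal hconn i hT z hz f hf s hs hTs
  let dG := fun t : S => topologicalKrullDim ↥(G.hom.base ⁻¹' {t})
  let dT := fun t : S => topologicalKrullDim ↥(T.hom.base ⁻¹' {t})
  refine ⟨{t | Red.IsReductiveOver (AlgebraicClosure (S.residueField t)) (Red.geomFibre t G)} ∩ (U : Set S) ∩
    ({t | dG t = dG s} ∩ {t | dT t = dT s}), ?_,
    ((RedOpen.isOpen_reductive hconn).inter U.2).inter
      (((Groth.Agent.S3022.result S G).isOpen_fiber (dG s)).inter ((Groth.Agent.S3022.result S T).isOpen_fiber (dT s))),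
    ⟨⟨hs, hsU⟩, rfl, rfl⟩⟩
  rintro t ⟨⟨ht, htU⟩, htG, htT⟩
  refine ⟨ht, ?_, ?_⟩
  · have hr : Set.range (Red.geomPt t) ⊆ Set.range U.ι := by
      rw [Scheme.Opens.range_ι]
      rintro _ ⟨x, rfl⟩
      haveI := FibDim.subsingleton_spec_field (AlgebraicClosure (S.residueField t))
      rw [Subsingleton.elim x (IsLocalRing.closedPoint _), RedOpen.geomPt_closedPoint]
      exact htU
    have hb := IsOpenImmersion.lift_fac U.ι (Red.geomPt t) hr
    let b := IsOpenImmersion.lift U.ι (Red.geomPt t) hr
    haveI : Smooth (Red.bc U.ι G).hom := inferInstanceAs (Smooth (Limits.pullback.snd G.hom U.ι))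
    haveI : IsAffineHom (Red.bc U.ι G).hom :=
      MorphismProperty.pullback_snd (P := @IsAffineHom) _ _ inferInstance
    have h1 := MaxTorCent.isMaximalTorus_comp_iso (MaxTorCent.isMaximalTorus_bc hmax b) (GrpLimLib.cmp hb G).hom
    haveI := MaxTorusBC.isMonHom_cmp_inv hb T
    have hn := MaxTorusBC.cmp_naturality hb i
    rw [← Iso.inv_comp_eq] at hn
    rw [← hn]
    exact RedOpen.isMaximalTorus_precomp h1 (GrpLimLib.cmp hb T).inv
  · rw [RedOpen.dim_bc G, RedOpen.dim_bc T] at hd ⊢
    rw [RedOpen.geomPt_closedPoint] at hd ⊢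
    exact (htG.trans hd).trans (congrArg (· + 2) htT.symm)

end Groth.Agent.S3009
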