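import Groth.Statements.S3014
import Groth.Agent.AlgClosedSpread.Basic
-- import your own Groth.Agent.* helpers here

set_option autoImplicit false
universe u
open CategoryTheory MonoidalCategory CartesianMonoidalCategory MonObj GrpObj AlgebraicGeometry
open Red

namespace Groth.Agent.S3014

set_option synthInstance.maxHeartbeats 200000 in
/-- (i)⇒(ii): Let G and G' be reductive S-groups and f : S' → S a surjective morphism such that the base
changes of G and G' to S' are isomorphic as group schemes. Then for every s ∈ S the geometric fibres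
G_{s̄} and G'_{s̄} are isomorphic. -/
theorem result (S : Scheme.{u}) (G G' : Over S) [GrpObj G] [GrpObj G'] (hG : Red.IsReductive G) (hG' : Red.IsReductive G') (S' : Scheme.{u}) (f : S' ⟶ S) [Surjective f] (hiso : Nonempty (Grp.mk (Red.bc f G) ≅ Grp.mk (Red.bc f G'))) (s : S) : Nonempty (Grp.mk (Red.geomFibre s G) ≅ Grp.mk (Red.geomFibre s G')) := by
  obtain ⟨s', hs'⟩ := f.surjective s
  obtain ⟨α⟩ := hiso
  let k := AlgebraicClosure (S.residueField s)
  let Ω := AlgebraicClosure (S'.residueField s')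
  let φ : S.residueField s ⟶ S'.residueField s' :=
    (S.residueFieldCongr hs'.symm).hom ≫ f.residueFieldMap s'
  let ψ : S.residueField s →+* Ω := (algebraMap (S'.residueField s') Ω).comp φ.hom
  letI : Algebra (S.residueField s) Ω := ψ.toAlgebra
  haveI : Module.IsTorsionFree (S.residueField s) Ω := (inferInstance : Module.IsTorsionFree (S.residueField s) Ω)
  let χ : k →ₐ[S.residueField s] Ω := IsAlgClosed.lift
  letI : Algebra k Ω := χ.toRingHom.toAlgebra
  let q : Spec (CommRingCat.of Ω) ⟶ S' :=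
    Spec.map (CommRingCat.ofHom (algebraMap (S'.residueField s') Ω)) ≫ S'.fromSpecResidueField s'
  let r : Spec (CommRingCat.of Ω) ⟶ Spec (CommRingCat.of k) := Spec.map (CommRingCat.ofHom (algebraMap k Ω))
  have hq : r ≫ Red.geomPt s = q ≫ f := by
    have h1 : CommRingCat.ofHom (algebraMap (S.residueField s) k) ≫ CommRingCat.ofHom (algebraMap k Ω) =
        φ ≫ CommRingCat.ofHom (algebraMap (S'.residueField s') Ω) := by
      ext x
      exact χ.commutes x
    simp only [r, q, Red.geomPt]
    rw [Category.assoc, ← f.SpecMap_residueFieldMap_fromSpecResidueField s', ← Category.assoc, ← Spec.map_comp, h1,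
      Spec.map_comp, Category.assoc, show φ = (S.residueFieldCongr hs'.symm).hom ≫ f.residueFieldMap s' from rfl,
      Spec.map_comp, Category.assoc]
    congr 2
    subst hs'
    simp only [Scheme.residueFieldCongr_refl, Iso.refl_hom]
    erw [Spec.map_id, Category.id_comp]
  haveI : ∀ (K : Over S) [GrpObj K], IsAffineHom K.hom → IsAffineHom (Red.geomFibre s K).hom := fun K _ h =>
    inferInstanceAs (IsAffineHom (Limits.pullback.snd _ _))
  haveI := hG.1
  haveI := hG'.1
  haveI := hG.2.1
  haveI := hG'.2.1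
  obtain ⟨a₁⟩ := Groth.Agent.GrpSchLib.MultTypeBC.bc_bc r (Red.geomPt s) G
  obtain ⟨a₂⟩ := Groth.Agent.GrpSchLib.MultTypeBC.bc_congr hq G
  obtain ⟨a₃⟩ := Groth.Agent.GrpSchLib.MultTypeBC.bc_bc q f G
  obtain ⟨b₁⟩ := Groth.Agent.GrpSchLib.MultTypeBC.bc_bc r (Red.geomPt s) G'
  obtain ⟨b₂⟩ := Groth.Agent.GrpSchLib.MultTypeBC.bc_congr hq G'
  obtain ⟨b₃⟩ := Groth.Agent.GrpSchLib.MultTypeBC.bc_bc q f G'
  obtain ⟨m⟩ := Groth.Agent.GrpSchLib.MultTypeBC.bc_iso q α
  haveI : IsAffineHom (Red.geomFibre s G).hom := inferInstanceAs (IsAffineHom (Limits.pullback.snd _ _))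
  haveI : IsAffineHom (Red.geomFibre s G').hom := inferInstanceAs (IsAffineHom (Limits.pullback.snd _ _))
  haveI : LocallyOfFinitePresentation (Red.geomFibre s G).hom :=
    inferInstanceAs (LocallyOfFinitePresentation (Limits.pullback.snd _ _))
  haveI : LocallyOfFinitePresentation (Red.geomFibre s G').hom :=
    inferInstanceAs (LocallyOfFinitePresentation (Limits.pullback.snd _ _))
  exact Groth.Agent.AlgClosedSpread.nonempty_iso_of_extension k Ω _ _
    (a₁ ≪≫ a₂ ≪≫ a₃.symm ≪≫ m ≪≫ b₃ ≪≫ b₂.symm ≪≫ b₁.symm)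

end Groth.Agent.S3014
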