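import Groth.Statements.S3017
import Groth.Agent.AlgSpGrp.Homog

set_option autoImplicit false
universe u
open CategoryTheory MonoidalCategory CartesianMonoidalCategory MonObj GrpObj AlgebraicGeometry TensorProduct
open SGA3

namespace Groth.Agent.S3017

/-- Let A be a local artinian ring, F and G group schemes flat and locally of finite type over A, and u
: F → G a homomorphism which is a quasi-compact monomorphism. Then there are an A-scheme X and a
morphism p : G → X over A (the quotient F\G) such that p is faithfully flat and locally of finite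
presentation, the square formed by (f, g) ↦ u(f) · g, the second projection F ×_A G → G and p is
cartesian, and X is separated and flat over A, and smooth over A when G is. -/
theorem result (A : Type u) [CommRing A] [IsArtinianRing A] [IsLocalRing A]
    (F G : Over (Spec (CommRingCat.of A))) [GrpObj F] [GrpObj G] [Flat F.hom] [LocallyOfFiniteType F.hom]
    [Flat G.hom] [LocallyOfFiniteType G.hom] (u : F ⟶ G) [IsMonHom u] [Mono u] [QuasiCompact u.left] :
    ∃ (X : Over (Spec (CommRingCat.of A))) (p : G ⟶ X),
      Flat p.left ∧ Surjective p.left ∧ LocallyOfFinitePresentation p.left ∧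
      IsPullback ((u ▷ G) ≫ μ[G]) (snd F G) p p ∧
      IsSeparated X.hom ∧ Flat X.hom ∧ (Smooth G.hom → Smooth X.hom) := by
  haveI := AlgSpGrp.isClosedImmersion_of_mono u
  obtain ⟨Q, q, hq, hsep⟩ := AlgSpGrp.exists_homog_artinian u
  obtain ⟨hf, hsm⟩ := AlgSpGrp.flat_smooth_of_isQuotient u q hq
  haveI : Surjective q.left := hq.1
  haveI : Flat q.left := hq.2.1
  haveI : LocallyOfFinitePresentation q.left := hq.2.2.1
  haveI : IsIso (ι[G]).left := inferInstanceAs (IsIso ((Over.forget _).map ι[G]))
  exact ⟨Q, ι[G] ≫ q, inferInstanceAs (Flat ((ι[G]).left ≫ q.left)), inferInstanceAs (Surjective ((ι[G]).left ≫ q.left)),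
    inferInstanceAs (LocallyOfFinitePresentation ((ι[G]).left ≫ q.left)), AlgSpGrp.isPullback_inv_comp u hq,
    hsep, hf ‹_›, hsm⟩

end Groth.Agent.S3017
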