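import Groth.Statements.S3019
import Groth.Agent.ComodLib.Chevalley
import Mathlib.RingTheory.HopfAlgebra.Quotient
-- import your own Groth.Agent.* helpers here

set_option autoImplicit false
universe u
open CategoryTheory MonoidalCategory CartesianMonoidalCategory MonObj GrpObj AlgebraicGeometry TensorProduct
open SGA3

namespace Groth.Agent.S3019

/-- Let A be a finitely generated commutative Hopf algebra over a field k (an affine algebraic k-group
G) and I a Hopf ideal (a closed subgroup scheme H). Then there are a finite-dimensional A-comodule V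
and a nonzero vector v ∈ V such that, for every k-algebra R, an R-point of G kills I exactly when it
carries v to an R-multiple of v: H is the stabilizer of the line through v. -/
theorem result (k : Type u) [Field k] (A : Type u) [CommRing A] [HopfAlgebra k A]
    [Algebra.FiniteType k A] (I : Ideal A) [I.IsHopfIdeal k] :
    ∃ (V : Type u) (_ : AddCommGroup V) (_ : Module k V) (_ : HopfRep.Comod k A V) (_ : Module.Finite k V) (v : V),
      v ≠ 0 ∧ Dyn.Represents k A I (fun R _ _ g => SGA3.StabilizesLine k A v R g) := by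
  classical
  let π : A →ₐc[k] (A ⧸ I) := Bialgebra.Quotient.mkBialgHom I
  have hπ : Function.Surjective π := Ideal.Quotient.mk_surjective
  obtain ⟨d, e, M, hM, hblock, hkill⟩ := ComodLib.exists_block_matrix π hπ
  let M₁ := ComodLib.powMatrix M d
  have hM₁ : ComodLib.IsComodMatrix k M₁ := hM.powMatrix d
  let v₁ := ComodLib.minorVec k (Sum.inl : Fin d → Fin d ⊕ Fin e)
  have hv₁ : v₁ Sum.inl = 1 := ComodLib.minorVec_self Sum.inl_injective
  obtain ⟨χ, -, heig⟩ := ComodLib.orbit_block hM π hblock
  obtain ⟨a, ha⟩ := hπ χ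
  refine ⟨_, inferInstance, inferInstance, ComodLib.ofMatrix M₁ hM₁, inferInstance, v₁,
    fun h => one_ne_zero (hv₁.symm.trans (congrFun h Sum.inl)), fun R _ _ g => ?_⟩
  constructor
  · refine fun hg => ⟨g a, (ComodLib.lTensor_ofMatrix_coact_eq_iff M₁ hM₁ v₁ g.toLinearMap (g a)).mpr fun x => ?_⟩
    have h0 := hg (ComodLib.orbit k M₁ v₁ x - v₁ x • a) (by
      refine Ideal.Quotient.eq_zero_iff_mem.mp ?_
      show π _ = 0
      rw [map_sub, map_smul, heig, ha, sub_self])
    rwa [map_sub, map_smul, sub_eq_zero] at h0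
  · rintro ⟨c, hc⟩
    replace hc := (ComodLib.lTensor_ofMatrix_coact_eq_iff M₁ hM₁ v₁ g.toLinearMap c).mp hc
    obtain ⟨α, hα⟩ := ComodLib.exists_sum_mul_orbit_eq_one hM₁ (v := v₁) (t := Sum.inl)
      (by rw [hv₁]; exact one_ne_zero) g
    have hu : IsUnit c := by
      refine IsUnit.of_mul_eq_one (∑ x, α x * algebraMap k R (v₁ x)) ?_
      rw [← hα, Finset.mul_sum]
      exact Finset.sum_congr rfl fun x _ => by
        rw [show g (ComodLib.orbit k M₁ v₁ x) = v₁ x • c from hc x, Algebra.smul_def]; ring
    intro b hb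
    refine hkill R g (fun r t => ComodLib.eq_zero_of_minors ((Matrix.of M).map g) c hu
      (fun i => (ComodLib.map_orbit_minorVec M g i).symm.trans (hc i)) r t) b ?_
    exact Ideal.Quotient.eq_zero_iff_mem.mpr hb

end Groth.Agent.S3019
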