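import Groth.Statements.S3021
import Groth.Agent.SubcomodGenLib.Basic
-- import your own Groth.Agent.* helpers here

set_option autoImplicit false
universe u
open CategoryTheory MonoidalCategory CartesianMonoidalCategory MonObj GrpObj AlgebraicGeometry TensorProduct
open SGA3

namespace Groth.Agent.S3021

open scoped TensorProduct

/-- Let A be a commutative ring, C an A-coalgebra which is projective as an A-module, V a C-comodule and
M an A-submodule of V. Then there is a smallest subcomodule of V containing M, and it is finitely
generated over A when M is. -/
theorem result (A : Type u) [CommRing A] (C : Type u) [AddCommGroup C] [Module A C]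
    [Coalgebra A C] [Module.Projective A C] (V : Type u) [AddCommGroup V] [Module A V] [HopfRep.Comod A C V]
    (M : Submodule A V) :
    ∃ W : Submodule A V, HopfRep.IsSubcomod (k := A) (A := C) W ∧ M ≤ W ∧
      (∀ W' : Submodule A V, HopfRep.IsSubcomod (k := A) (A := C) W' → M ≤ W' → W ≤ W') ∧
      (M.FG → W.FG) := by
  haveI : Module.Projective A (A ⊗[A] C) := Module.Projective.of_equiv (TensorProduct.lid A C).symm
  exact ⟨Groth.Agent.SubcomodGenLib.gen C A M, Groth.Agent.SubcomodGenLib.isSubcomod_gen A M,
    Groth.Agent.SubcomodGenLib.le_gen A M,
    fun W hW hM => Groth.Agent.SubcomodGenLib.gen_le A M hW hM,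
    Groth.Agent.SubcomodGenLib.fg_gen A M⟩


end Groth.Agent.S3021
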