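import Groth.Statements.S3032
import Mathlib.RingTheory.Flat.Basic
-- import your own Groth.Agent.* helpers here

set_option autoImplicit false
universe u
open CategoryTheory MonoidalCategory CartesianMonoidalCategory MonObj GrpObj AlgebraicGeometry TensorProduct
open SGA3

namespace Groth.Agent.S3032

open scoped TensorProduct

/-- Let R be a Noetherian commutative ring, C an R-coalgebra which is flat as an R-module, V a
C-comodule and M a finitely generated R-submodule of V. Then M is contained in a subcomodule of V
which is finitely generated over R. -/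
theorem result (R : Type u) [CommRing R] [IsNoetherianRing R] (C : Type u) [AddCommGroup C]
    [Module R C] [Coalgebra R C] [Module.Flat R C] (V : Type u) [AddCommGroup V] [Module R V] [HopfRep.Comod R C V]
    (M : Submodule R V) (hM : M.FG) :
    ∃ W : Submodule R V, HopfRep.IsSubcomod (k := R) (A := C) W ∧ M ≤ W ∧ W.FG := by
  classical
  obtain ⟨S, hS⟩ := hM
  choose Z hZ using fun m : V => TensorProduct.exists_finset (HopfRep.Comod.coact (k := R) (A := C) m)
  let W₀ : Submodule R V := Submodule.span R ((S.biUnion fun m => (Z m).image Prod.fst : Finset V) : Set V)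
  let θ : V →ₗ[R] (V ⧸ W₀) ⊗[R] C := W₀.mkQ.rTensor C ∘ₗ HopfRep.Comod.coact (k := R) (A := C)
  let W : Submodule R V := LinearMap.ker θ
  have hW₀ : W ≤ W₀ := by
    intro v hv
    have h0 : (W₀.mkQ.rTensor C) (HopfRep.Comod.coact (k := R) (A := C) v) = 0 := hv
    have h1 := congrArg ((CoalgebraStruct.counit (R := R) (A := C)).lTensor (V ⧸ W₀)) h0
    rw [map_zero, ← LinearMap.comp_apply, LinearMap.lTensor_comp_rTensor, ← LinearMap.rTensor_comp_lTensor,
      LinearMap.comp_apply] at h1
    have h2 := LinearMap.congr_fun (HopfRep.Comod.counit_comp (k := R) (A := C) (V := V)) v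
    simp only [LinearMap.comp_apply, LinearMap.flip_apply, TensorProduct.mk_apply] at h2
    rw [h2, LinearMap.rTensor_tmul] at h1
    have h3 := congrArg (TensorProduct.rid R (V ⧸ W₀)) h1
    simp only [TensorProduct.rid_tmul, one_smul, map_zero] at h3
    exact (Submodule.Quotient.mk_eq_zero W₀).mp h3
  refine ⟨W, ?_, ?_, ?_⟩
  · intro v hv
    have hex := Module.Flat.rTensor_exact C (LinearMap.exact_subtype_ker_map θ)
    refine (hex _).mp ?_
    have h := LinearMap.congr_fun (HopfRep.Comod.coassoc (k := R) (A := C) (V := V)) v
    simp only [LinearMap.comp_apply, LinearEquiv.coe_coe] at h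
    have h0 : (W₀.mkQ.rTensor C) (HopfRep.Comod.coact (k := R) (A := C) v) = 0 := hv
    apply (TensorProduct.assoc R (V ⧸ W₀) C C).injective
    rw [map_zero]
    have key : ∀ z : V ⊗[R] C, TensorProduct.assoc R (V ⧸ W₀) C C (θ.rTensor C z) =
        W₀.mkQ.rTensor (C ⊗[R] C)
          (TensorProduct.assoc R V C C ((HopfRep.Comod.coact (k := R) (A := C)).rTensor C z)) := by
      intro z
      induction z using TensorProduct.induction_on with
      | zero => simp
      | tmul a c =>
        simp only [LinearMap.rTensor_tmul, θ, LinearMap.comp_apply]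
        generalize HopfRep.Comod.coact (k := R) (A := C) a = x
        induction x using TensorProduct.induction_on with
        | zero => simp
        | tmul a' c' => simp
        | add p q hp hq => simp only [map_add, TensorProduct.add_tmul, hp, hq]
      | add p q hp hq => simp only [map_add, hp, hq]
    rw [key, h, ← LinearMap.comp_apply, LinearMap.rTensor_comp_lTensor, ← LinearMap.lTensor_comp_rTensor,
      LinearMap.comp_apply, h0, map_zero]
  · rw [← hS, Submodule.span_le]
    intro m hm
    show (W₀.mkQ.rTensor C) (HopfRep.Comod.coact (k := R) (A := C) m) = 0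
    rw [hZ m, map_sum]
    refine Finset.sum_eq_zero fun q hq => ?_
    have hq' : q.1 ∈ W₀ := Submodule.subset_span
      (Finset.mem_coe.mpr (Finset.mem_biUnion.mpr ⟨m, hm, Finset.mem_image_of_mem _ hq⟩))
    rw [LinearMap.rTensor_tmul, show W₀.mkQ q.1 = 0 from (Submodule.Quotient.mk_eq_zero W₀).mpr hq',
      TensorProduct.zero_tmul]
  · haveI : Module.Finite R W₀ := Module.Finite.iff_fg.mpr ⟨_, rfl⟩
    have hfg : (W.comap W₀.subtype).FG := IsNoetherian.noetherian _
    have := hfg.map W₀.subtype
    rwa [Submodule.map_comap_subtype, inf_eq_right.mpr hW₀] at this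


end Groth.Agent.S3032
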