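import Groth.Statements.S3033
import Groth.Agent.RedHomogTop.Dim
-- import your own Groth.Agent.* helpers here

set_option autoImplicit false
universe u
open CategoryTheory MonoidalCategory CartesianMonoidalCategory MonObj GrpObj AlgebraicGeometry TensorProduct
open SGA3

namespace Groth.Agent.S3033

/-- Let A be a local artinian ring and G a group scheme locally of finite type over A acting on a
nonempty A-scheme X locally of finite type, such that the morphism G ×_A X → X ×_A X, (g, x) ↦ (g·x,
x), is surjective. Then all connected components of X have the same dimension. The published
statement also asserts that the connected components are irreducible; that is not asserted here (it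
is stated separately). -/
theorem result (A : Type u) [CommRing A] [IsArtinianRing A] [IsLocalRing A]
    (G X : Over (Spec (CommRingCat.of A))) [GrpObj G] [LocallyOfFiniteType G.hom] [LocallyOfFiniteType X.hom] [Nonempty X.left]
    (a : AlgGrp.Action G X) (hΦ : Surjective (lift a.act (snd G X)).left) (x y : X.left) :
    topologicalKrullDim ↥(connectedComponent x) = topologicalKrullDim ↥(connectedComponent y) := by
  have : LocallyOfFiniteType (GrpSchLib.clFib G).hom := inferInstanceAs (LocallyOfFiniteType (Limits.pullback.snd G.hom _))
  have : LocallyOfFiniteType (GrpSchLib.clFib X).hom := inferInstanceAs (LocallyOfFiniteType (Limits.pullback.snd X.hom _))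
  have key := RedHomogTop.dim_connectedComponent_eq (a.bc (GrpSchLib.clPt A))
    (RedHomogTop.surjective_baseChange _ a hΦ) ((GrpSchLib.clHomeo X).symm x) ((GrpSchLib.clHomeo X).symm y)
  have h : ∀ z, topologicalKrullDim ↥(connectedComponent z) =
      topologicalKrullDim ↥(connectedComponent ((GrpSchLib.clHomeo X).symm z)) := fun z => by
    conv_lhs => rw [← (GrpSchLib.clHomeo X).apply_symm_apply z, ← GrpSchLib.image_connectedComponent]
    exact (IsHomeomorph.topologicalKrullDim_eq _
      ((GrpSchLib.clHomeo X).image (connectedComponent ((GrpSchLib.clHomeo X).symm z))).isHomeomorph).symm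
  rw [h x, h y, key]

end Groth.Agent.S3033
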