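import Groth.Statements.S3035
import Groth.Agent.RedImage.Proper
-- import your own Groth.Agent.* helpers here

set_option autoImplicit false
universe u
open CategoryTheory MonoidalCategory CartesianMonoidalCategory MonObj GrpObj AlgebraicGeometry TensorProduct
open SGA3

namespace Groth.Agent.S3035

/-- (i) ⟺ (iii): let A be a local artinian ring and u : G → H a quasi-compact homomorphism between group
schemes locally of finite type over A. Then u is proper if and only if the kernel of u (the fibre of
u over the unit section) is proper over A. -/
theorem result (A : Type u) [CommRing A] [IsArtinianRing A] [IsLocalRing A]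
    (G H : Over (Spec (CommRingCat.of A))) [GrpObj G] [GrpObj H] [LocallyOfFiniteType G.hom] [LocallyOfFiniteType H.hom]
    (u : G ⟶ H) [IsMonHom u] [QuasiCompact u.left] :
    IsProper u.left ↔ IsProper (Limits.pullback.snd u.left (η[H] : 𝟙_ (Over (Spec (CommRingCat.of A))) ⟶ H).left) := by
  constructor
  · intro h
    infer_instance
  · intro h
    exact RedImage.isProper_of_isProper_ker_artinian u

end Groth.Agent.S3035
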