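import Groth.Statements.S3037
import Groth.Agent.GrpSchLib.HomFinite

set_option autoImplicit false
universe u
open CategoryTheory MonoidalCategory CartesianMonoidalCategory MonObj GrpObj AlgebraicGeometry TensorProduct
open SGA3

namespace Groth.Agent.S3037

/-- (iii) ⟺ (v): let A be a local artinian ring and u : G → H a quasi-compact homomorphism between group
schemes locally of finite type over A. Then u is finite if and only if the kernel of u (the fibre of
u over the unit section) is a discrete space. -/
theorem result (A : Type u) [CommRing A] [IsArtinianRing A] [IsLocalRing A]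
    (G H : Over (Spec (CommRingCat.of A))) [GrpObj G] [GrpObj H] [LocallyOfFiniteType G.hom] [LocallyOfFiniteType H.hom]
    (u : G ⟶ H) [IsMonHom u] [QuasiCompact u.left] :
    IsFinite u.left ↔ DiscreteTopology ↥(Limits.pullback u.left (η[H] : 𝟙_ (Over (Spec (CommRingCat.of A))) ⟶ H).left) := by
  refine ⟨fun hu => ?_, Groth.Agent.GrpSchLib.HomFinite.isFinite_of_discrete_ker u⟩
  let k := Limits.pullback.snd u.left (η[H] : 𝟙_ (Over (Spec (CommRingCat.of A))) ⟶ H).left
  haveI : IsFinite k := MorphismProperty.pullback_snd _ _ hu
  haveI : Subsingleton ↥(𝟙_ (Over (Spec (CommRingCat.of A)))).left :=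
    inferInstanceAs (Subsingleton (PrimeSpectrum A))
  let p : ↥(𝟙_ (Over (Spec (CommRingCat.of A)))).left := IsLocalRing.closedPoint A
  have h : _root_.IsDiscrete (k ⁻¹' {p}) := k.isDiscrete_preimage_singleton p
  rw [Set.eq_univ_of_forall (s := k ⁻¹' {p}) fun z => Subsingleton.elim (k z) p] at h
  exact (Homeomorph.Set.univ _).symm.discreteTopology_iff.mpr h.to_subtype

end Groth.Agent.S3037
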