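import Groth.Statements.S3038
import Groth.Agent.GrpSchLib.HomFinite
import Groth.Agent.GrpSchLib.ArtinTop
import Groth.Agent.MorLib.Thickening

set_option autoImplicit false
universe u
open CategoryTheory MonoidalCategory CartesianMonoidalCategory MonObj GrpObj AlgebraicGeometry TensorProduct
open SGA3

namespace Groth.Agent.S3038

open CategoryTheory.Limits Groth.Agent.GrpSchLib TopologicalSpace

/-- A nonempty locally noetherian scheme has inside any nonempty open an open set with a generic
point. -/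
theorem exists_generic {Y : Scheme.{u}} [IsLocallyNoetherian Y] {R : Set Y} (hR : IsOpen R)
    (hne : R.Nonempty) : ∃ c : Y, ∃ W : Y.Opens, (W : Set Y) ⊆ R ∧ c ∈ W ∧
      ∀ O : Set Y, IsOpen O → (O ∩ W).Nonempty → c ∈ O := by
  obtain ⟨p₀, hp₀⟩ := hne
  obtain ⟨V, hV, hpV, hVR⟩ :=
    exists_isAffineOpen_mem_and_subset (U := (⟨R, hR⟩ : Y.Opens)) hp₀
  haveI : IsNoetherianRing Γ(Y, V) := IsLocallyNoetherian.component_noetherian ⟨V, hV⟩
  haveI : NoetherianSpace (V : Set Y) := noetherianSpace_of_isAffineOpen V hV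
  let Z : Set (V : Set Y) := irreducibleComponent (⟨p₀, hpV⟩ : (V : Set Y))
  obtain ⟨o, ho, hone, hoZ⟩ := NoetherianSpace.exists_isOpen_nonempty_subset_irreducibleComponent Z
    (irreducibleComponent_mem_irreducibleComponents _)
  let v : ((V : Set Y) : Type u) → Y := fun y => y.1
  have hZ : IsIrreducible (v '' Z) :=
    isIrreducible_irreducibleComponent.image _ continuous_subtype_val.continuousOn
  have hgen : ∀ O : Set Y, IsOpen O → (O ∩ v '' o).Nonempty → hZ.genericPoint ∈ O := fun O hO hOo =>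
    (IsGenericPoint.mem_open_set_iff hZ.isGenericPoint_genericPoint_closure hO).mpr (by
      obtain ⟨z, hz1, hz2⟩ := hOo
      exact ⟨z, subset_closure (Set.image_mono hoZ hz2), hz1⟩)
  have hvo : IsOpen (v '' o) := V.isOpen.isOpenMap_subtype_val o ho
  refine ⟨hZ.genericPoint, ⟨v '' o, hvo⟩, ?_, hgen _ hvo ?_, hgen⟩
  · rintro _ ⟨y, -, rfl⟩
    exact hVR y.2
  · show (v '' o ∩ v '' o).Nonempty
    rw [Set.inter_self]
    exact hone.image _

theorem universallyOpen_of_isAlgClosed {K : Type u} [Field K] [IsAlgClosed K]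
    {G H : Over (Spec (CommRingCat.of K))} [GrpObj G] [GrpObj H] [LocallyOfFiniteType G.hom]
    [LocallyOfFiniteType H.hom] (u : G ⟶ H) [IsMonHom u]
    (hu : IsOpen (Set.range u.left)) : UniversallyOpen u.left := by
  haveI : IsLocallyNoetherian H.left := LocallyOfFiniteType.isLocallyNoetherian H.hom
  haveI : IsLocallyNoetherian G.left := LocallyOfFiniteType.isLocallyNoetherian G.hom
  haveI : JacobsonSpace G.left := LocallyOfFiniteType.jacobsonSpace G.hom
  haveI : LocallyOfFiniteType u.left := by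
    have : LocallyOfFiniteType (u.left ≫ H.hom) := by rw [Over.w u]; infer_instance
    exact locallyOfFiniteType_of_comp u.left H.hom
  obtain ⟨η₀, W, hWR, hηW, hgen⟩ := exists_generic hu
    ⟨_, η[G].left (IsLocalRing.closedPoint K), rfl⟩
  obtain ⟨x, hx⟩ := hWR hηW
  obtain ⟨U, hU, hxU, hUW⟩ := exists_isAffineOpen_mem_and_subset
    (U := u.left ⁻¹ᵁ W) (show x ∈ u.left ⁻¹ᵁ W from (hx.symm ▸ hηW :))
  let g := u.left.resLE W U hUW
  let Y := W.toScheme.nilradical.subscheme
  let jY : Y ⟶ W.toScheme := W.toScheme.nilradical.subschemeι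
  haveI : Surjective jY := ⟨fun y => by
    have : y ∈ Set.range jY := by
      rw [Scheme.IdealSheafData.range_subschemeι, Scheme.support_nilradical]
      trivial
    exact this⟩
  let jX := pullback.fst g jY
  let f := pullback.snd g jY
  haveI : IsReduced Y := by
    have : IsReduced (Scheme.IdealSheafData.vanishingIdeal (X := W.toScheme) ⊤).subscheme := inferInstance
    rwa [Scheme.IdealSheafData.vanishingIdeal_top] at this
  haveI : LocallyOfFiniteType g := by
    have : LocallyOfFiniteType (g ≫ W.ι) := by rw [Scheme.Hom.resLE_comp_ι]; infer_instance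
    exact locallyOfFiniteType_of_comp g W.ι
  haveI : IsAffine U.toScheme := hU
  haveI : IsSeparated H.hom :=
    (isSeparated_iff H.hom).mpr ((diagonal_iff_unit @IsClosedImmersion).mpr inferInstance)
  haveI : QuasiCompact g := by
    have : QuasiCompact (g ≫ W.ι ≫ H.hom) := by
      haveI : IsAffineHom (g ≫ W.ι ≫ H.hom) := isAffineHom_of_isAffine _
      infer_instance
    exact QuasiCompact.of_comp g (W.ι ≫ H.hom)
  haveI : LocallyOfFiniteType jY := inferInstance
  haveI : IsLocallyNoetherian Y := LocallyOfFiniteType.isLocallyNoetherian jY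
  obtain ⟨yη, hyη⟩ := jY.surjective ⟨η₀, hηW⟩
  haveI : Nonempty Y := ⟨yη⟩
  obtain ⟨O, hOne, hflat⟩ := exists_opens_flat f
  have hηO : yη ∈ O := by
    obtain ⟨y, hy⟩ := hOne
    let e : Y → H.left := fun z => W.ι (jY z)
    have he : Topology.IsEmbedding e := W.ι.isOpenEmbedding.isEmbedding.comp jY.isEmbedding
    obtain ⟨O', hO', hOO'⟩ := he.isInducing.isOpen_iff.mp O.2
    have : η₀ ∈ O' := hgen O' hO' ⟨e y, (Set.ext_iff.mp hOO' y).mpr hy, (jY y).2⟩
    refine (Set.ext_iff.mp hOO' yη).mp ?_
    show W.ι (jY yη) ∈ O'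
    rw [hyη]
    exact this
  obtain ⟨xX, -, hxX⟩ := Scheme.Pullback.exists_preimage_pullback (f := g) (g := jY) ⟨x, hxU⟩ yη (by
    refine W.ι.isOpenEmbedding.injective ?_
    rw [← Scheme.Hom.comp_apply, Scheme.Hom.resLE_comp_ι, hyη]
    exact hx)
  let P := f ⁻¹ᵁ O
  haveI : Flat (P.ι ≫ f) := by
    refine Flat.of_stalkMap _ fun z => ?_
    rw [Scheme.Hom.stalkMap_comp]
    exact (hflat _ z.2).comp (RingHom.Flat.of_bijective (ConcreteCategory.bijective_of_isIso (P.ι.stalkMap z)))
  haveI : LocallyOfFinitePresentation (P.ι ≫ f) := inferInstance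
  haveI : UniversallyOpen (P.ι ≫ f) := inferInstance
  let hjX : MoreMor.IsThickening jX := ⟨inferInstance, inferInstance⟩
  haveI : UniversallyOpen jX := MorLib.universallyOpen_of_isThickening hjX
  let U₁ : U.toScheme.Opens := ⟨jX '' (P : Set _), jX.isOpenMap _ P.2⟩
  let m := U₁.ι ≫ U.ι
  have hqr : Set.range (P.ι ≫ jX) ⊆ Set.range U₁.ι := by
    rw [Scheme.Opens.range_ι]
    rintro _ ⟨z, rfl⟩
    exact ⟨P.ι z, z.2, rfl⟩
  let q := IsOpenImmersion.lift U₁.ι (P.ι ≫ jX) hqr
  haveI : Surjective q := ⟨fun w => by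
    obtain ⟨z, hz, hzw⟩ := w.2
    refine ⟨⟨z, hz⟩, U₁.ι.isOpenEmbedding.injective ?_⟩
    rw [← Scheme.Hom.comp_apply, IsOpenImmersion.lift_fac]
    exact hzw⟩
  haveI : UniversallyOpen (q ≫ m ≫ u.left) := by
    have e : q ≫ m ≫ u.left = (P.ι ≫ f) ≫ jY ≫ W.ι := by
      simp only [m, Category.assoc, q, IsOpenImmersion.lift_fac_assoc, jX, f]
      rw [← pullback.condition_assoc, Scheme.Hom.resLE_comp_ι]
    rw [e]
    haveI : UniversallyOpen jY := MorLib.universallyOpen_of_isThickening ⟨inferInstance, inferInstance⟩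
    infer_instance
  haveI hm : UniversallyOpen (m ≫ u.left) := MorLib.universallyOpen_of_comp_surjective q _
  let U₂ : G.left.Opens := m.opensRange
  have hU₂ : UniversallyOpen (U₂.ι ≫ u.left) := by
    have e : U₂.ι = m.isoOpensRange.inv ≫ m := by
      rw [Iso.eq_inv_comp, Scheme.Hom.isoOpensRange_hom_ι]
    rw [e, Category.assoc]
    infer_instance
  obtain ⟨c, hcU₂, hc⟩ := nonempty_inter_closedPoints (Z := (U₂ : Set G.left))
    ⟨U.ι (jX xX), ⟨⟨jX xX, ⟨xX, (hxX.symm ▸ hηO : f xX ∈ O), rfl⟩⟩, rfl⟩⟩ U₂.2.isLocallyClosed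
  let V : G.left.Opens := ⨆ V : {V : G.left.Opens // UniversallyOpen (V.ι ≫ u.left)}, V.1
  have hV : V = ⊤ := by
    by_contra hne
    obtain ⟨y, hy⟩ : ∃ y, y ∉ V := by
      by_contra h
      push Not at h
      exact hne (eq_top_iff.mpr fun z _ => h z)
    obtain ⟨d, hd1, hd⟩ := nonempty_inter_closedPoints (Z := (V : Set G.left)ᶜ) ⟨y, hy⟩
      V.2.isClosed_compl.isLocallyClosed
    refine hd1 ?_
    obtain ⟨a, ha⟩ := HomFinite.exists_trans (G := G) d c hd hc
    let T : H.left ≅ H.left := (Over.forget _).mapIso (HomFinite.trans (a ≫ u))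
    let S : G.left ≅ G.left := (Over.forget _).mapIso (HomFinite.trans a)
    have hS : UniversallyOpen ((S.hom ⁻¹ᵁ U₂).ι ≫ u.left) := by
      have h1 : UniversallyOpen (((S.hom ⁻¹ᵁ U₂).ι ≫ u.left) ≫ T.hom) := by
        have e : u.left ≫ T.hom = S.hom ≫ u.left := (HomFinite.trans_comm u a).symm
        rw [Category.assoc, e, ← morphismRestrict_ι_assoc]
        haveI := hU₂
        infer_instance
      exact (MorphismProperty.cancel_right_of_respectsIso @UniversallyOpen _ T.hom).mp h1
    refine le_iSup (fun V : {V : G.left.Opens // UniversallyOpen (V.ι ≫ u.left)} => V.1) ⟨_, hS⟩ ?_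
    show S.hom d ∈ U₂
    exact ha.symm ▸ hcU₂
  exact IsZariskiLocalAtSource.of_iSup_eq_top (P := @UniversallyOpen) _ hV fun V => V.2



/-- (ii) ⇒ (i): let A be a local artinian ring and u : G → H a homomorphism between group schemes
locally of finite type over A. If the underlying map of u is open, then u is universally open. -/
theorem result (A : Type u) [CommRing A] [IsArtinianRing A] [IsLocalRing A]
    (G H : Over (Spec (CommRingCat.of A))) [GrpObj G] [GrpObj H] [LocallyOfFiniteType G.hom] [LocallyOfFiniteType H.hom]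
    (u : G ⟶ H) [IsMonHom u] (hu : IsOpenMap u.left.base) : UniversallyOpen u.left := by
  let F := Over.pullback (HomFinite.geomPt A)
  haveI : LocallyOfFiniteType (F.obj G).hom :=
    inferInstanceAs (LocallyOfFiniteType (pullback.snd G.hom _))
  haveI : LocallyOfFiniteType (F.obj H).hom :=
    inferInstanceAs (LocallyOfFiniteType (pullback.snd H.hom _))
  let v := (F.map u).left
  let pG := pullback.fst G.hom (HomFinite.geomPt A)
  let pH := pullback.fst H.hom (HomFinite.geomPt A)
  have e : v ≫ pH = pG ≫ u.left := pullback.lift_fst _ _ _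
  have sq : IsPullback pG v u.left pH := by
    refine IsPullback.of_bot ?_ e.symm (IsPullback.of_hasPullback H.hom (HomFinite.geomPt A))
    have h1 : v ≫ pullback.snd H.hom (HomFinite.geomPt A) = pullback.snd G.hom (HomFinite.geomPt A) :=
      pullback.lift_snd _ _ _
    rw [h1, Over.w u]
    exact IsPullback.of_hasPullback G.hom (HomFinite.geomPt A)
  have hr : Set.range v = pH ⁻¹' Set.range u.left := by
    refine subset_antisymm ?_ fun y ⟨x, hx⟩ => ?_
    · rintro _ ⟨z, rfl⟩
      exact ⟨pG z, (congrArg (fun m : (F.obj G).left ⟶ H.left => m z) e).symm⟩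
    · obtain ⟨z, -, hz⟩ := Scheme.Pullback.exists_preimage_pullback (f := u.left) (g := pH) x y hx
      exact ⟨sq.isoPullback.inv z, by rw [← Scheme.Hom.comp_apply, IsPullback.isoPullback_inv_snd]; exact hz⟩
  haveI : UniversallyOpen v := universallyOpen_of_isAlgClosed (F.map u)
    (show IsOpen (Set.range v) from hr ▸ hu.isOpen_range.preimage pH.continuous)
  haveI : UniversallyOpen (HomFinite.geomPt A) := by
    have e : HomFinite.geomPt A = Spec.map (CommRingCat.ofHom (algebraMap (IsLocalRing.ResidueField A) _)) ≫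
        clPt A := by
      rw [← Spec.map_comp]; rfl
    rw [e]
    haveI : UniversallyOpen (clPt A) := MorLib.universallyOpen_of_isThickening ⟨inferInstance, inferInstance⟩
    infer_instance
  haveI : UniversallyOpen (pG ≫ u.left) := e ▸ inferInstanceAs (UniversallyOpen (v ≫ pH))
  exact MorLib.universallyOpen_of_comp_surjective pG u.left

end Groth.Agent.S3038
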