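import Groth.Statements.S3040
import Groth.Agent.SmoothWeilLib.Subgroups
-- import your own Groth.Agent.* helpers here

set_option autoImplicit false
universe u
open CategoryTheory MonoidalCategory CartesianMonoidalCategory MonObj GrpObj AlgebraicGeometry TensorProduct
open SGA3

namespace Groth.Agent.S3040

/-- Let S be a scheme, G a group scheme locally of finite type and quasi-separated over S, H a group
scheme smooth and of finite presentation over S with connected fibres, and i : H → G a homomorphism
which is a monomorphism. Then the normalizer of H in G (points g such that, after every base change,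
conjugation by g and by g⁻¹ carries points of H into H) and the centralizer of H in G (points
commuting with every point of H after every base change) are represented by closed subschemes of G
whose inclusions are of finite presentation. -/
theorem result (S : Scheme.{u}) (G H : Over S) [GrpObj G] [GrpObj H]
    [LocallyOfFiniteType G.hom] [QuasiSeparated G.hom] [Smooth H.hom] [QuasiCompact H.hom] [QuasiSeparated H.hom]
    (hconn : ∀ s : S, _root_.IsConnected (H.hom.base ⁻¹' {s})) (i : H ⟶ G) [IsMonHom i] [Mono i] :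
    (∃ (N : Over S) (n : N ⟶ G), IsClosedImmersion n.left ∧ LocallyOfFinitePresentation n.left ∧
      ∀ (T : Over S) (g : T ⟶ G), (∃ z : T ⟶ N, z ≫ n = g) ↔
        ∀ (T' : Over S) (t : T' ⟶ T) (h : T' ⟶ H),
          (∃ h' : T' ⟶ H, (t ≫ g) * (h ≫ i) * (t ≫ g)⁻¹ = h' ≫ i) ∧
          (∃ h' : T' ⟶ H, (t ≫ g)⁻¹ * (h ≫ i) * (t ≫ g) = h' ≫ i)) ∧
    (∃ (Z : Over S) (z : Z ⟶ G), IsClosedImmersion z.left ∧ LocallyOfFinitePresentation z.left ∧
      ∀ (T : Over S) (g : T ⟶ G), (∃ w : T ⟶ Z, w ≫ z = g) ↔
        ∀ (T' : Over S) (t : T' ⟶ T) (h : T' ⟶ H), (t ≫ g) * (h ≫ i) = (h ≫ i) * (t ≫ g)) := by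
  obtain ⟨N, _, n, hn, hn1, hn2⟩ := SmoothWeilLib.exists_normalizer hconn i
  obtain ⟨Z, _, z, hz, hz1, hz2⟩ := SmoothWeilLib.exists_centralizer hconn i
  exact ⟨⟨N, n, hn1, hn2, hn.2.2⟩, ⟨Z, z, hz1, hz2, hz.2.2⟩⟩

end Groth.Agent.S3040
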