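import Groth.Statements.S3042
import Groth.Agent.GrpSchLib.UnramifiedFibre
import Mathlib.AlgebraicGeometry.Morphisms.UniversallyInjective
-- import your own Groth.Agent.* helpers here

set_option autoImplicit false
universe u
open CategoryTheory MonoidalCategory CartesianMonoidalCategory MonObj GrpObj AlgebraicGeometry TensorProduct
open SGA3

namespace Groth.Agent.S3042

open CategoryTheory CategoryTheory.Limits AlgebraicGeometry

/-- Let f : X → Y be a morphism of schemes locally of finite type. Then f is a monomorphism if and only
if, for every point y of Y, the fibre X_y → Spec κ(y) is a monomorphism. -/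
theorem result (X Y : Scheme.{u}) (f : X ⟶ Y) [LocallyOfFiniteType f] :
    Mono f ↔ ∀ y : Y, Mono (f.fiberToSpecResidueField y) := by
  refine ⟨fun h y => ?_, fun h => ?_⟩
  · exact MorphismProperty.pullback_snd (P := MorphismProperty.monomorphisms Scheme) f
      (Y.fromSpecResidueField y) h
  have : FormallyUnramified f := Groth.Agent.GrpSchLib.formallyUnramified_of_fibres f fun y => by
    have := h y
    infer_instance
  have : UniversallyInjective f := by
    refine ((tfae_universallyInjective f).out 0 1 rfl rfl).mpr fun K _ a b hab => ?_
    dsimp only at hab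
    obtain ⟨y, φ, hφ⟩ : ∃ (y : Y) (φ : Y.residueField y ⟶ CommRingCat.of K),
        a ≫ f = Spec.map φ ≫ Y.fromSpecResidueField y :=
      ⟨_, _, ((Scheme.SpecToEquivOfField K Y).symm_apply_apply (a ≫ f)).symm⟩
    have := h y
    let a' : Spec (CommRingCat.of K) ⟶ f.fiber y := pullback.lift a (Spec.map φ) hφ
    let b' : Spec (CommRingCat.of K) ⟶ f.fiber y := pullback.lift b (Spec.map φ) (hab.symm.trans hφ)
    have e : a' = b' := by
      rw [← cancel_mono (f.fiberToSpecResidueField y)]
      exact (pullback.lift_snd _ _ _).trans (pullback.lift_snd _ _ _).symm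
    have h1 : a' ≫ f.fiberι y = a := pullback.lift_fst _ _ _
    have h2 : b' ≫ f.fiberι y = b := pullback.lift_fst _ _ _
    rw [← h1, ← h2, e]
  have : AlgebraicGeometry.Surjective (pullback.diagonal f) := (UniversallyInjective.iff_diagonal f).mp ‹_›
  have : IsIso (pullback.diagonal f) := by
    have : Epi (pullback.diagonal f).base :=
      (TopCat.epi_iff_surjective _).mpr (pullback.diagonal f).surjective
    have := IsOpenImmersion.isIso (pullback.diagonal f)
    exact this
  exact (pullback.isIso_diagonal_iff f).mp this


end Groth.Agent.S3042
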