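import Groth.Statements.S3044
import Groth.Agent.FinGrpLib.Order
-- import your own Groth.Agent.* helpers here

set_option autoImplicit false
universe u
open CategoryTheory MonoidalCategory CartesianMonoidalCategory MonObj GrpObj AlgebraicGeometry TensorProduct
open SGA3

namespace Groth.Agent.S3044

/-- Let A be a commutative Hopf algebra over a field k which is finite-dimensional, of dimension n (a
finite algebraic k-group G of rank n, not assumed commutative). Then the morphism g ↦ gⁿ of G is the
trivial morphism: in the convolution group of algebra endomorphisms of A, the n-th power of the
identity is the neutral element (the counit followed by the unit). -/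
theorem result (k : Type u) [Field k] (A : Type u) [CommRing A] [HopfAlgebra k A]
    [Module.Finite k A] :
    (WithConv.toConv (AlgHom.id k A)) ^ (Module.finrank k A) = 1 := by
  exact Groth.Agent.FinGrpLib.id_pow_finrank

end Groth.Agent.S3044
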