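import Groth.Statements.S3045
import Groth.Agent.HopfPtLib.Conv3
-- import your own Groth.Agent.* helpers here

set_option autoImplicit false
universe u
open TensorProduct
open SGA3

namespace Groth.Agent.S3045

open WithConv
open scoped TensorProduct

/-- Let A be a commutative Hopf algebra over a commutative ring k (the coordinate ring of an affine
group G = Spec A) and φ, ψ two k[ε]-valued points of G reducing to the unit point modulo ε (tangent
vectors at the identity). Then for every a ∈ A the ε-component of the product point φ · ψ at a — the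
product of points being convolution, formed here as the triple convolution of φ, ψ and the unit
point — is the sum of the ε-components of φ(a) and ψ(a): on tangent vectors at the identity the
group law of G induces addition. -/
theorem result (k : Type u) [CommRing k] (A : Type u) [CommRing A] [HopfAlgebra k A]
    (φ ψ : LieHopf.LiePts k A) (a : A) :
    TrivSqZeroExt.snd (Dyn.conv3 k A φ.1 ψ.1 ((Algebra.ofId k (DualNumber k)).comp (Bialgebra.counitAlgHom k A)) a) =
      LieHopf.LiePts.tangent k A φ a + LieHopf.LiePts.tangent k A ψ a := by
  obtain ⟨φ, hφ⟩ := φ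
  obtain ⟨ψ, hψ⟩ := ψ
  simp only [LieHopf.LiePts.tangent]
  rw [Groth.Agent.HopfPtLib.conv3_one, Groth.Agent.HopfPtLib.convMul_eval]
  let Tφ : A →ₗ[k] k := (TrivSqZeroExt.sndHom k k) ∘ₗ φ.toLinearMap
  let Tψ : A →ₗ[k] k := (TrivSqZeroExt.sndHom k k) ∘ₗ ψ.toLinearMap
  let ε : A →ₗ[k] k := CoalgebraStruct.counit
  have key : ∀ z : A ⊗[k] A,
      TrivSqZeroExt.snd (LinearMap.mul' k (DualNumber k)
        (TensorProduct.map φ.toLinearMap ψ.toLinearMap z)) =
      Tφ (TensorProduct.rid k A (ε.lTensor A z)) + Tψ (TensorProduct.lid k A (ε.rTensor A z)) := by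
    intro z
    induction z using TensorProduct.induction_on with
    | zero => simp
    | tmul p q =>
      simp [Tφ, Tψ, ε, hφ, hψ]
      ring
    | add p q hp hq => simp only [map_add, TrivSqZeroExt.snd_add, hp, hq]; ring
  rw [key]
  simp [Tφ, Tψ, ε]


end Groth.Agent.S3045
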