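import Groth.Statements.S3046
import Groth.Agent.HopfPtLib.Conv3
import Mathlib.Tactic.NoncommRing
-- import your own Groth.Agent.* helpers here

set_option autoImplicit false
universe u
open TensorProduct
open SGA3

namespace Groth.Agent.S3046

open WithConv
open scoped TensorProduct

/-- Let A be a commutative Hopf algebra over a commutative ring k, D and E two ε-derivations A → k
(tangent vectors at the identity of G = Spec A), R a commutative k-algebra and t, t' ∈ R with t² = 0
= t'². Let x = e + tD and y = e + t'E be the corresponding R-points of G. Then the commutator x y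
x⁻¹ y⁻¹ (product of points; the inverse of a point is its composite with the antipode) is the point
a ↦ ε(a) + [D, E](a) · t t', where [D, E] = D ⋆ E − E ⋆ D is the convolution commutator. -/
theorem result (k : Type u) [CommRing k] (A : Type u) [CommRing A] [HopfAlgebra k A]
    (D E : LieHopf.Lie k A) (R : Type u) [CommRing R] [Algebra k R] (t t' : R) (ht : t * t = 0) (ht' : t' * t' = 0)
    (a : A) :
    Dyn.conv3 k A
        (Dyn.conv3 k A (LieHopf.ptOfLie D R t ht) (LieHopf.ptOfLie E R t' ht')
          ((LieHopf.ptOfLie D R t ht).comp (HopfAlgebra.antipodeAlgHom k A)))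
        ((LieHopf.ptOfLie E R t' ht').comp (HopfAlgebra.antipodeAlgHom k A))
        ((Algebra.ofId k R).comp (Bialgebra.counitAlgHom k A)) a =
      algebraMap k R (Bialgebra.counitAlgHom k A a) + algebraMap k R (LieHopf.bracketLin D E a) * (t * t') := by
  -- the linear map `a ↦ L a * r`
  let P : (A →ₗ[k] k) → R → WithConv (A →ₗ[k] R) := fun L r =>
    toConv ((LinearMap.mulRight k r) ∘ₗ (Algebra.linearMap k R) ∘ₗ L)
  have hP : ∀ L M r s, P L r * P M s = P (LieHopf.conv L M) (r * s) := by
    intro L M r s
    apply WithConv.ofConv_injective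
    refine LinearMap.ext fun b => ?_
    simp only [P, LinearMap.convMul_def, ofConv_toConv, LieHopf.conv, LinearMap.comp_apply]
    induction CoalgebraStruct.comul (R := k) b using TensorProduct.induction_on with
    | zero => simp
    | tmul p q => simp; ring
    | add p q hp hq => simp only [map_add, LinearMap.mulRight_apply, add_mul] at hp hq ⊢; rw [hp, hq]
  have hP0 : ∀ L, P L 0 = 0 := by
    intro L
    apply WithConv.ofConv_injective
    refine LinearMap.ext fun b => ?_
    simp [P]
  -- algebra maps inside the convolution ring of linear maps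
  let Lm : WithConv (A →ₐ[k] R) →* WithConv (A →ₗ[k] R) :=
    { toFun := fun f => toConv f.ofConv.toLinearMap
      map_one' := AlgHom.toLinearMap_convOne
      map_mul' := AlgHom.toLinearMap_convMul }
  have hpt : ∀ (F : LieHopf.Lie k A) (s : R) (hs : s * s = 0),
      Lm (toConv (LieHopf.ptOfLie F R s hs)) = 1 + P (LieHopf.dlin F) s := by
    intro F s hs
    apply WithConv.ofConv_injective
    refine LinearMap.ext fun b => ?_
    simp [Lm, P, LieHopf.ptOfLie, LinearMap.convOne_def]
  have hinv : ∀ (F : LieHopf.Lie k A) (s : R) (hs : s * s = 0),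
      Lm (toConv ((LieHopf.ptOfLie F R s hs).comp (HopfAlgebra.antipodeAlgHom k A))) =
        1 - P (LieHopf.dlin F) s := by
    intro F s hs
    refine left_inv_eq_right_inv (a := Lm (toConv (LieHopf.ptOfLie F R s hs))) ?_ ?_
    · rw [← map_mul, Groth.Agent.HopfPtLib.antipode_comp_convMul, map_one]
    · rw [hpt]
      rw [add_mul, mul_sub, mul_sub, mul_one, mul_one, one_mul, hP, hs, hP0]
      abel
  rw [Groth.Agent.HopfPtLib.conv3_eq, Groth.Agent.HopfPtLib.conv3_eq, toConv_ofConv]
  change ((toConv (LieHopf.ptOfLie D R t ht) * toConv (LieHopf.ptOfLie E R t' ht') *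
      toConv ((LieHopf.ptOfLie D R t ht).comp (HopfAlgebra.antipodeAlgHom k A))) *
      toConv ((LieHopf.ptOfLie E R t' ht').comp (HopfAlgebra.antipodeAlgHom k A)) *
      (1 : WithConv (A →ₐ[k] R))).ofConv a = _
  rw [mul_one]
  set Z := toConv (LieHopf.ptOfLie D R t ht) * toConv (LieHopf.ptOfLie E R t' ht') *
      toConv ((LieHopf.ptOfLie D R t ht).comp (HopfAlgebra.antipodeAlgHom k A)) *
      toConv ((LieHopf.ptOfLie E R t' ht').comp (HopfAlgebra.antipodeAlgHom k A)) with hZ
  set u := P (LieHopf.dlin D) t with hu
  set v := P (LieHopf.dlin E) t' with hv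
  have huu : u * u = 0 := by rw [hu, hP, ht, hP0]
  have hvv : v * v = 0 := by rw [hv, hP, ht', hP0]
  have huvu : u * v * u = 0 := by
    rw [hu, hv, hP, hP, mul_comm t t', mul_assoc, ht, mul_zero, hP0]
  have hvuv : v * u * v = 0 := by
    rw [hu, hv, hP, hP, mul_comm t' t, mul_assoc, ht', mul_zero, hP0]
  have hkey : Lm Z = 1 + (u * v - v * u) := by
    rw [hZ, map_mul, map_mul, map_mul, hpt, hpt, hinv, hinv, ← hu, ← hv]
    calc (1 + u) * (1 + v) * (1 - u) * (1 - v)
        = 1 + (u * v - v * u) - u * u - v * v + u * u * v + v * u * v - u * v * u - u * (v * v)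
            + (u * v * u) * v := by noncomm_ring
      _ = 1 + (u * v - v * u) := by
        rw [huu, hvv, huvu, hvuv]; simp
  change (Lm Z).ofConv a = _
  rw [hkey, hu, hv, hP, hP, mul_comm t' t]
  simp [P, LinearMap.convOne_def, LieHopf.bracketLin, LieHopf.dlin, sub_mul]
  ring


end Groth.Agent.S3046
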