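import Groth.Statements.S3052
import Groth.Agent.BigSiteLib.EtDescSec.FlatLfp
-- import your own Groth.Agent.* helpers here

set_option autoImplicit false
open CategoryTheory CategoryTheory.Limits AlgebraicGeometry Opposite
universe u
open EtDesc

namespace Groth.Agent.S3052

/-- Let f : X' -> X be a surjective, flat morphism of schemes that is locally of finite presentation.
Descent of etale sheaves of sets along f is then effective: every sheaf F' on X'_et equipped with an
isomorphism pr_1^* F' = pr_2^* F' on X' x_X X' satisfying the cocycle condition on the triple fibre
product is, compatibly with that datum, the inverse image of a sheaf on X_et. -/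
theorem result {X' X : Scheme.{u}} (f : X' ⟶ X) [Surjective f] [Flat f] [LocallyOfFinitePresentation f]
    (F' : EtDesc.Sh X')
    (φ : (EtDesc.pullSh (pullback.fst f f)).obj F' ≅ (EtDesc.pullSh (pullback.snd f f)).obj F')
    (hφ : EtDesc.IsCocycle F' φ) : EtDesc.IsEffective f F' φ := by
  exact Groth.Agent.BigSiteLib.DescSec.isEffective_of_flat f φ hφ

end Groth.Agent.S3052
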