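import Groth.Statements.S3054
import Groth.Agent.EtFound.PushExact
import Mathlib.CategoryTheory.Abelian.RightDerived

set_option autoImplicit false
open CategoryTheory CategoryTheory.Limits AlgebraicGeometry Opposite
universe u
open EtDesc

namespace Groth.Agent.S3054

/-- For an integral morphism of schemes f : X -> Y and an abelian sheaf F on X_et, R^q f_* F = 0 for
every q > 0. -/
theorem result {X Y : Scheme.{u}} (f : X ⟶ Y) [IsIntegralHom f] (F : EtCoh.Ab X)
    (q : ℕ) (hq : 0 < q) : IsZero ((EtCoh.Rpush f q).obj F) := by
  have := EtFound.push_preservesFiniteColimits f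
  have := EtFound.push_preservesFiniteLimits f
  let R := injectiveResolution F
  refine IsZero.of_iso ?_ (R.isoRightDerivedObj (EtCoh.push f) q)
  show IsZero (HomologicalComplex.homology (((EtCoh.push f).mapHomologicalComplex _).obj R.cocomplex) q)
  rw [← HomologicalComplex.exactAt_iff_isZero_homology]
  obtain ⟨j, rfl⟩ := Nat.exists_eq_succ_of_ne_zero hq.ne'
  exact (R.cocomplex_exactAt_succ j).map (EtCoh.push f)

end Groth.Agent.S3054
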