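import Groth.Statements.S3058
import Groth.Agent.ToposFinLib.Partition

set_option autoImplicit false
set_option backward.isDefEq.respectTransparency false
set_option backward.isDefEq.respectTransparency.types false
open CategoryTheory CategoryTheory.Limits Opposite
universe u
open ToposFin

namespace Groth.Agent.S3058

/-- For a topos of sheaves of sets on a small site: the coproduct of a small family of objects is
quasi-compact if and only if every member is quasi-compact and all but finitely many members are
initial (empty) objects. -/
theorem result {C : Type u} [SmallCategory C] {J : GrothendieckTopology C} {ι : Type u}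
    (F : ι → ToposFin.Sh J) :
    ToposFin.IsQC (∐ F) ↔ (∀ i, ToposFin.IsQC (F i)) ∧ {i | IsEmpty (F i ≅ ⊥_ (ToposFin.Sh J))}.Finite := by
  open Groth.Agent.ToposFinLib in
  have hp := isPartition_sigma_ι F
  have hset : {i | IsEmpty (F i ≅ CategoryTheory.Limits.initial (ToposFin.Sh J))} = {i | ¬ IsNullObj (F i)} := by
    ext i
    show IsEmpty _ ↔ ¬ _
    rw [← not_nonempty_iff, nonempty_iso_initial_iff]
  rw [hset]
  exact ⟨fun h => ⟨hp.isQC_piece h, hp.finite_nonNull h⟩, fun h => isQC_of_partition hp h.1 h.2⟩

end Groth.Agent.S3058
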