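import Groth.Statements.S3068
import Groth.Agent.ToposFinLib.Separated

set_option autoImplicit false
set_option backward.isDefEq.respectTransparency false
set_option backward.isDefEq.respectTransparency.types false
open CategoryTheory CategoryTheory.Limits Opposite
universe u
open ToposFin

namespace Groth.Agent.S3068

/-- For a topos of sheaves of sets on a small site: given a generating family of quasi-compact objects
G_a, an object Y is quasi-separated if and only if every morphism G_a -> Y is quasi-compact. -/
theorem result {C : Type u} [SmallCategory C] {J : GrothendieckTopology C} {α : Type u} (G : α → ToposFin.Sh J) (hG : ∀ a, ToposFin.IsQC (G a))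
    (hgen : ∀ X : ToposFin.Sh J, ∃ (ι : Type u) (a : ι → α) (π : ∀ i, G (a i) ⟶ X), Epi (Sigma.desc π))
    (Y : ToposFin.Sh J) :
    ToposFin.IsQS Y ↔ ∀ (a : α) (s : G a ⟶ Y), ToposFin.IsQCHom s := by
  open Groth.Agent.ToposFinLib in
  refine ⟨fun h a s W t hW => h _ _ s t (hG a) hW, fun h => isQS_of_generators (gen_of_family hgen) ?_⟩
  rintro K s ⟨a, rfl⟩
  exact h a s

end Groth.Agent.S3068
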