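import Groth.Statements.S3071
import Groth.Agent.ToposFinLib.Separated

set_option autoImplicit false
set_option backward.isDefEq.respectTransparency false
set_option backward.isDefEq.respectTransparency.types false
open CategoryTheory CategoryTheory.Limits Opposite
universe u
open ToposFin

namespace Groth.Agent.S3071

/-- Implication (ii bis) => (i bis), for a topos of sheaves of sets on a small site: suppose given a
generating family of coherent objects G_a such that every product G_a x G_b is quasi-separated. Then
for every morphism f : X -> Y with X quasi-separated, f is quasi-separated. -/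
theorem result {C : Type u} [SmallCategory C] {J : GrothendieckTopology C} {α : Type u} (G : α → ToposFin.Sh J)
    (hG : ∀ a, ToposFin.IsCoherent (G a))
    (hgen : ∀ X : ToposFin.Sh J, ∃ (ι : Type u) (a : ι → α) (π : ∀ i, G (a i) ⟶ X), Epi (Sigma.desc π))
    (hprod : ∀ a b, ToposFin.IsQS (G a ⨯ G b)) {X Y : ToposFin.Sh J} (f : X ⟶ Y) (hX : ToposFin.IsQS X) :
    ToposFin.IsQSHom f := by
  open Groth.Agent.ToposFinLib in
  have hE : Gen (J := J) ToposFin.IsQC := (gen_of_family hgen).mono fun K ⟨a, h⟩ => h ▸ (hG a).1
  obtain ⟨ι, a, g, hg⟩ := hgen X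
  refine isQSHom_of_qs_products hE f (epi_desc_iff.1 hg) (fun i => (hG _).1) (fun i j => ?_) hX
  let k : pullback (g i ≫ f) (g j ≫ f) ⟶ G (a i) ⨯ G (a j) := prod.lift (pullback.fst _ _) (pullback.snd _ _)
  haveI : Mono k := ⟨fun x y e => by
    apply pullback.hom_ext
    · simpa [k] using congrArg (· ≫ prod.fst) e
    · simpa [k] using congrArg (· ≫ prod.snd) e⟩
  exact isQS_of_isQSHom (isQSHom_of_mono k) (hprod _ _)

end Groth.Agent.S3071
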