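import Groth.Statements.S3082
import Mathlib.CategoryTheory.Sites.LocallyBijective
import Mathlib.CategoryTheory.Sites.LeftExact
import Mathlib.CategoryTheory.Sites.Whiskering
import Mathlib.CategoryTheory.Sites.EpiMono
import Mathlib.CategoryTheory.Sites.Limits

set_option autoImplicit false
set_option backward.isDefEq.respectTransparency false
set_option backward.isDefEq.respectTransparency.types false
universe u
open CategoryTheory
open SGA4

namespace Groth.Agent.S3082

/-- Let (C, J) be a small site and G a set of objects of C such that each object of C has a covering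
family whose members all lie in G. Then the sheafifications of the presheaves represented by the
members of G form a detecting family in the category Sh(C, J) of set-valued sheaves on (C, J): any
morphism of sheaves that is bijective on sections over each member of G is an isomorphism. -/
theorem result {C : Type u} [SmallCategory C] (J : GrothendieckTopology C) (G : Set C)
    (hG : ∀ X : C, ∃ (ι : Type u) (Y : ι → C) (f : ∀ i, Y i ⟶ X), Sieve.ofArrows Y f ∈ J X ∧ ∀ i, Y i ∈ G) :
    (ObjectProperty.ofObj fun X : G => (presheafToSheaf J (Type u)).obj (yoneda.obj (X : C))).IsDetecting := by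
  open Opposite in
  intro F F' f hf
  have hbij : ∀ X : G, Function.Bijective (f.hom.app (op (X : C))) := fun X => by
    let e := fun (K : Sheaf J (Type u)) =>
      ((sheafificationAdjunction J (Type u)).homEquiv (yoneda.obj (X : C)) K).trans yonedaEquiv
    have he : ∀ h' : (presheafToSheaf J (Type u)).obj (yoneda.obj (X : C)) ⟶ F,
        e F' (h' ≫ f) = f.hom.app (op (X : C)) (e F h') := fun h' => by
      simp only [e, Equiv.trans_apply, Adjunction.homEquiv_naturality_right]
      rfl
    rw [Function.bijective_iff_existsUnique]
    intro b
    obtain ⟨h', hh', huniq⟩ := hf _ ⟨X⟩ ((e F').symm b)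
    refine ⟨e F h', ((he h').symm.trans (congrArg (e F') hh')).trans (Equiv.apply_symm_apply _ b), fun a ha => ?_⟩
    rw [← huniq ((e F).symm a) ((e F').injective (by rw [he, Equiv.apply_symm_apply, ha, Equiv.apply_symm_apply])),
      Equiv.apply_symm_apply]
  rw [← J.W_sheafToPresheaf_map_iff_isIso, GrothendieckTopology.W_iff_isLocallyBijective]
  constructor
  · refine ⟨fun {U} a b hab => ?_⟩
    obtain ⟨ι, Y, π, hcov, hY⟩ := hG U.unop
    refine J.superset_covering ?_ hcov
    rintro V _ ⟨W, k, π', ⟨i⟩, rfl⟩
    apply Sieve.downward_closed
    apply (hbij ⟨_, hY i⟩).1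
    exact (NatTrans.naturality_apply f.hom (π i).op a).trans
      ((congrArg _ hab).trans (NatTrans.naturality_apply f.hom (π i).op b).symm)
  · refine ⟨fun {U} s => ?_⟩
    obtain ⟨ι, Y, π, hcov, hY⟩ := hG U
    refine J.superset_covering ?_ hcov
    rintro V _ ⟨W, k, π', ⟨i⟩, rfl⟩
    apply Sieve.downward_closed
    exact (hbij ⟨_, hY i⟩).2 _

end Groth.Agent.S3082
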