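import Groth.Statements.S3084
import Groth.Agent.ToposFinLib.OpenClosed

set_option autoImplicit false
set_option backward.isDefEq.respectTransparency false
set_option backward.isDefEq.respectTransparency.types false
universe u
open CategoryTheory
open SGA4

namespace Groth.Agent.S3084

open CategoryTheory.Limits in
/-- For sheaves of sets on a small site: let U be an open, j^* = (X ↦ U × X over U) the restriction to
the open subtopos E/U and i^* any left adjoint of the inclusion of the closed complement of U. A
morphism m of E is an isomorphism if and only if both j^*(m) and i^*(m) are isomorphisms. -/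
theorem result {C : Type u} [SmallCategory C] (J : GrothendieckTopology C)
    (U : Sheaf J (Type u)) (hU : SGA4.IsOpen U)
    (L : Sheaf J (Type u) ⥤ (SGA4.closedCompl U).FullSubcategory) (adj : L ⊣ (SGA4.closedCompl U).ι)
    {X Y : Sheaf J (Type u)} (m : X ⟶ Y) :
    IsIso m ↔ IsIso ((Over.star U).map m) ∧ IsIso (L.map m) := by
  open Groth.Agent.ToposFinLib in
  haveI : Mono (terminal.from U) := hU
  refine ⟨fun h => ⟨inferInstance, inferInstance⟩, fun h => ?_⟩
  haveI := h.1
  haveI := h.2
  have h₁ : IsIso (prod.map (𝟙 U) m) := by
    have h' : IsIso ((Over.star U).map m).left := inferInstanceAs (IsIso ((Over.forget U).map ((Over.star U).map m)))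
    have e : ((Over.star U).map m).left = prod.map (𝟙 U) m := Over.star_map_left U m
    rwa [e] at h'
  have h₂ : IsIso ((away U).map m) := by
    haveI : IsIso ((closedReflector U).map m) :=
      (NatIso.isIso_map_iff (Adjunction.leftAdjointUniq (closedAdj U) adj) m).2 inferInstance
    exact inferInstanceAs (IsIso ((SGA4.closedCompl U).ι.map ((closedReflector U).map m)))
  exact MorphismProperty.of_isPullback (P := MorphismProperty.isomorphisms (Sheaf J (Type u)))
    (isPullback_away U m h₁).flip h₂

end Groth.Agent.S3084
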