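import Groth.Statements.S3886
import Groth.Agent.HyperLib.CechEl
import Mathlib.AlgebraicTopology.SimplicialObject.ChainHomotopy

set_option autoImplicit false
set_option backward.isDefEq.respectTransparency false
set_option backward.isDefEq.respectTransparency.types false
universe u
open CategoryTheory
open Hyper

namespace Groth.Agent.S3886

open Opposite CategoryTheory.Limits in
/-- Let a, b : L -> K be two morphisms of simplicial semi-representable objects over an object X of a
small category (simplicial objects in formal coproducts of objects over X), homotopic in the
combinatorial (simplicial) sense. Then for every presheaf of abelian groups P and every p, a and b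
induce the same map from the p-th Cech cohomology group of P with respect to K to that with respect
to L. -/
theorem result {C : Type u} [SmallCategory C] (X : C)
    {K L : SimplicialObject (FormalCoproduct.{u} (Over X))} (a b : L ⟶ K)
    (h : Nonempty (SimplicialObject.Homotopy a b)) (P : Cᵒᵖ ⥤ AddCommGrpCat.{u}) (p : ℕ) :
    Hyper.cechHMap X a P p = Hyper.cechHMap X b P p := by
  open AlgebraicTopology Opposite CategoryTheory.Limits in
  obtain ⟨H⟩ := h
  let G : FormalCoproduct.{u} (Over X) ⥤ AddCommGrpCat.{u}ᵒᵖ :=
    ((FormalCoproduct.evalOp.{u} (Over X) AddCommGrpCat.{u}).obj ((Over.forget X).op ⋙ P)).rightOp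
  let T := (H.whiskerRight G).toChainHomotopy
  have hd : ∀ (S : SimplicialObject (FormalCoproduct.{u} (Over X))) (n : ℕ),
      (((alternatingFaceMapComplex _).obj (((SimplicialObject.whiskering _ _).obj G).obj S)).d
        (n + 1) n).unop = (Hyper.cechCx X S P).d n (n + 1) := by
    intro S n
    simp only [alternatingFaceMapComplex_obj_d, AlternatingFaceMapComplex.objD]
    rw [CategoryTheory.unop_sum]
    simp only [Hyper.cechCx, FormalCoproduct.cochainComplexFunctor, Functor.comp_obj,
      alternatingCofaceMapComplex, AlternatingCofaceMapComplex.obj, CochainComplex.of_d,
      AlternatingCofaceMapComplex.objD]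
    refine Finset.sum_congr rfl fun i _ => ?_
    rw [CategoryTheory.unop_zsmul]
    rfl
  let T' : Homotopy (Hyper.cechMap X a P) (Hyper.cechMap X b P) :=
    { hom := fun i j => (T.hom j i).unop
      zero := fun i j hij => by rw [T.zero j i hij]; rfl
      comm := fun n => by
        have e := congrArg Quiver.Hom.unop (T.comm n)
        cases n with
        | zero =>
          rw [prevD_eq (j' := 1) (w := by simp), dNext_eq_zero _ _ (by simp), zero_add,
            unop_add, unop_comp, hd] at e
          rw [dNext_eq (i' := 1) (w := by simp), prevD_eq_zero _ _ (by simp), add_zero]
          exact e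
        | succ n =>
          rw [prevD_eq (j' := n + 2) (w := by simp), dNext_eq (i' := n) (w := by simp),
            unop_add, unop_add, unop_comp, unop_comp, hd, hd] at e
          rw [prevD_eq (j' := n) (w := by simp), dNext_eq (i' := n + 2) (w := by simp)]
          refine e.trans ?_
          exact congrArg (fun z => z + _) (add_comm _ _) }
  exact congrArg AddCommGrpCat.Hom.hom (T'.homologyMap_eq p)

end Groth.Agent.S3886
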