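import Groth.Statements.S3092
import Groth.Agent.HyperLib.Fibrations

set_option autoImplicit false
set_option backward.isDefEq.respectTransparency false
set_option backward.isDefEq.respectTransparency.types false
universe u
open CategoryTheory
open Hyper

namespace Groth.Agent.S3092

open Opposite CategoryTheory.Limits in
/-- In the topos of sheaves of sets on a small site; coskeleta assumed to exist: let v : K -> L be a
morphism of simplicial sheaves of sets and n ≥ 0 such that v_p is an isomorphism for p < n, v_n is
an epimorphism, and K, L are n-coskeletal (the units K -> cosk_n K, L -> cosk_n L are isomorphisms).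
Then every v_p is an epimorphism and v induces a quasi-isomorphism between the chain complexes of
free abelian sheaves Z[K] -> Z[L]. -/
theorem result {C : Type u} [SmallCategory C] (J : GrothendieckTopology C)
    [∀ (n : ℕ) (F : (SimplexCategory.Truncated n)ᵒᵖ ⥤ Sheaf J (Type u)),
      (SimplexCategory.Truncated.inclusion n).op.HasRightKanExtension F]
    {K L : SimplicialObject (Sheaf J (Type u))} (v : K ⟶ L) (n : ℕ)
    (h1 : ∀ p : ℕ, p < n → IsIso (v.app (op (SimplexCategory.mk p))))
    (h2 : Epi (v.app (op (SimplexCategory.mk n))))
    (h3 : IsIso ((SimplicialObject.coskAdj n).unit.app K) ∧ IsIso ((SimplicialObject.coskAdj n).unit.app L)) :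
    (∀ p : ℕ, Epi (v.app (op (SimplexCategory.mk p)))) ∧
    QuasiIso ((AlgebraicTopology.alternatingFaceMapComplex _).map
      (Functor.whiskerRight v (Sheaf.composeAndSheafify J AddCommGrpCat.free.{u}))) := by
  have : ∀ α : Type, Limits.HasColimitsOfShape (Discrete α) (Sheaf J (Type u)) := fun α => inferInstance
  let G := sheafToPresheaf J (Type u)
  let adj := sheafificationAdjunction J (Type u)
  let e : ∀ (U : C) (X : Sheaf J (Type u)),
      ((presheafToSheaf J (Type u)).obj (CategoryTheory.yoneda.obj U) ⟶ X) ≃
        (G.obj X).obj (Opposite.op U) :=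
    fun U X => (adj.homEquiv _ _).trans CategoryTheory.yonedaEquiv
  have he : ∀ (U : C) {X Y : Sheaf J (Type u)} (f : X ⟶ Y) z,
      e U Y (z ≫ f) = (G.map f).app (Opposite.op U) (e U X z) := fun U X Y f z => by
    simp only [e, Equiv.trans_apply, Adjunction.homEquiv_naturality_right]
    exact CategoryTheory.yonedaEquiv_comp _ _
  have h2' : Presheaf.IsLocallySurjective J (G.map (v.app (Opposite.op (SimplexCategory.mk n)))) :=
    (Sheaf.isLocallySurjective_iff_epi _).2 h2
  have hv := Groth.Agent.HyperLib.locFib_of_coskeletal J G _ e he v n h1 h2' h3.1 h3.2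
  refine ⟨fun p => (Sheaf.isLocallySurjective_iff_epi _).1 (hv.isLocallySurjective J p), ?_⟩
  refine ⟨fun p => (quasiIsoAt_iff_isIso_homologyMap _ _).2 ?_⟩
  exact Groth.Agent.HyperLib.isIso_homologyMap_scMap J _ hv p

end Groth.Agent.S3092
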