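import Groth.Statements.S3093
import Mathlib


set_option autoImplicit false
universe u
open CohTop

namespace Groth.Agent.S3093

/-- Let X be a topological space and K ⊆ X a compact subset such that any two distinct points of K have
disjoint open neighbourhoods in X. If A and B are subsets of K that are closed in K and W is an open
subset of X containing A ∩ B, then there are open subsets U ⊇ A and V ⊇ B of X with U ∩ V ⊆ W. -/
theorem result {X : Type u} [TopologicalSpace X] {K : Set X} (hK : IsCompact K)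
    (hsep : ∀ x ∈ K, ∀ y ∈ K, x ≠ y → ∃ U V : Set X, IsOpen U ∧ IsOpen V ∧ x ∈ U ∧ y ∈ V ∧ Disjoint U V)
    {A B W : Set X} (hA : A ⊆ K) (hB : B ⊆ K) (hAc : IsClosed (Subtype.val ⁻¹' A : Set K))
    (hBc : IsClosed (Subtype.val ⁻¹' B : Set K)) (hW : IsOpen W) (hABW : A ∩ B ⊆ W) :
    ∃ U V : Set X, IsOpen U ∧ IsOpen V ∧ A ⊆ U ∧ B ⊆ V ∧ U ∩ V ⊆ W := by
  have cpt : ∀ {S : Set X}, S ⊆ K → IsClosed (Subtype.val ⁻¹' S : Set K) → IsCompact (S \ W) := by
    intro S hS hSc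
    haveI := isCompact_iff_compactSpace.mp hK
    have h1 : IsCompact (Subtype.val ⁻¹' (S \ W) : Set K) :=
      (hSc.inter (hW.isClosed_compl.preimage continuous_subtype_val)).isCompact
    have h2 := h1.image continuous_subtype_val
    rwa [Set.image_preimage_eq_inter_range, Subtype.range_coe, Set.inter_eq_left.mpr (fun x hx => hS hx.1)] at h2
  have point : ∀ a ∈ K, a ∈ A \ W → ∃ U V : Set X, IsOpen U ∧ IsOpen V ∧ a ∈ U ∧ B \ W ⊆ V ∧ Disjoint U V := by
    intro a haK ha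
    refine (cpt hB hBc).induction_on (p := fun s => ∃ U V : Set X, IsOpen U ∧ IsOpen V ∧ a ∈ U ∧ s ⊆ V ∧ Disjoint U V)
      ⟨Set.univ, ∅, isOpen_univ, isOpen_empty, trivial, Set.empty_subset _, by simp⟩
      (fun s t hst ⟨U, V, hU, hV, haU, hsV, hd⟩ => ⟨U, V, hU, hV, haU, hst.trans hsV, hd⟩)
      (fun s t ⟨U, V, hU, hV, haU, hsV, hd⟩ ⟨U', V', hU', hV', haU', htV, hd'⟩ =>
        ⟨U ∩ U', V ∪ V', hU.inter hU', hV.union hV', ⟨haU, haU'⟩, Set.union_subset_union hsV htV,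
          Set.disjoint_union_right.mpr ⟨hd.mono_left Set.inter_subset_left, hd'.mono_left Set.inter_subset_right⟩⟩) ?_
    intro b hb
    have hne : a ≠ b := fun h => hb.2 (hABW ⟨h ▸ ha.1, hb.1⟩)
    obtain ⟨U, V, hU, hV, haU, hbV, hd⟩ := hsep a haK b (hB hb.1) hne
    exact ⟨V, mem_nhdsWithin_of_mem_nhds (hV.mem_nhds hbV), U, V, hU, hV, haU, subset_rfl, hd⟩
  obtain ⟨U, V, hU, hV, hAU, hBV, hd⟩ : ∃ U V : Set X, IsOpen U ∧ IsOpen V ∧ A \ W ⊆ U ∧ B \ W ⊆ V ∧ Disjoint U V := by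
    refine (cpt hA hAc).induction_on (p := fun s => ∃ U V : Set X, IsOpen U ∧ IsOpen V ∧ s ⊆ U ∧ B \ W ⊆ V ∧ Disjoint U V)
      ⟨∅, Set.univ, isOpen_empty, isOpen_univ, subset_rfl, Set.subset_univ _, by simp⟩
      (fun s t hst ⟨U, V, hU, hV, hsU, hBV, hd⟩ => ⟨U, V, hU, hV, hst.trans hsU, hBV, hd⟩)
      (fun s t ⟨U, V, hU, hV, hsU, hBV, hd⟩ ⟨U', V', hU', hV', htU, hBV', hd'⟩ =>
        ⟨U ∪ U', V ∩ V', hU.union hU', hV.inter hV', Set.union_subset_union hsU htU, Set.subset_inter hBV hBV',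
          Set.disjoint_union_left.mpr ⟨hd.mono_right Set.inter_subset_left, hd'.mono_right Set.inter_subset_right⟩⟩) ?_
    intro a ha
    obtain ⟨U, V, hU, hV, haU, hBV, hd⟩ := point a (hA ha.1) ha
    exact ⟨U, mem_nhdsWithin_of_mem_nhds (hU.mem_nhds haU), U, V, hU, hV, subset_rfl, hBV, hd⟩
  refine ⟨U ∪ W, V ∪ W, hU.union hW, hV.union hW, fun a ha => ?_, fun b hb => ?_, ?_⟩
  · exact (em (a ∈ W)).elim Or.inr fun h => Or.inl (hAU ⟨ha, h⟩)
  · exact (em (b ∈ W)).elim Or.inr fun h => Or.inl (hBV ⟨hb, h⟩)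
  · rw [← Set.inter_union_distrib_right, hd.inter_eq, Set.empty_union]


end Groth.Agent.S3093
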