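import Groth.Statements.S3103
import Groth.Agent.SmAcyc.KummerPunctured
-- import your own Groth.Agent.* helpers here

set_option autoImplicit false
universe u
open CategoryTheory CategoryTheory.Limits AlgebraicGeometry Opposite
open EtDual

namespace Groth.Agent.S3103

open Groth.Agent

set_option backward.isDefEq.respectTransparency.types false

/-- Let A be a regular local ring which is strictly henselian, x an element of the maximal ideal not in
its square, n an integer invertible in A, and U = Spec A[1/x]. Then H^1(U, mu_n) is isomorphic to
Z/n. (The source also computes H^0(U, mu_n) = mu_n(A) and gives a canonical isomorphism; only the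
existence of an isomorphism is stated here.) -/
theorem result (A : Type u) [CommRing A] [IsRegularLocalRing A]
    (hA : EtCoh.IsStrictlyHenselianLocalRing A) (x : A) (hx : x ∈ IsLocalRing.maximalIdeal A)
    (hx2 : x ∉ (IsLocalRing.maximalIdeal A) ^ 2) (n : ℕ) (hn : IsUnit (n : A)) :
    Nonempty (EtCoh.H (Spec (CommRingCat.of (Localization.Away x)))
      (EtCoh.mu (Spec (CommRingCat.of (Localization.Away x))) n) 1 ≃+ ZMod n) := SmAcyc.nonempty_H_mu_one_punctured A hA x hx hx2 n hn

end Groth.Agent.S3103
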