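import Groth.Statements.S3114
import Groth.Agent.EtFound.Cospec
-- import your own Groth.Agent.* helpers here

set_option autoImplicit false
universe u
open CategoryTheory CategoryTheory.Limits AlgebraicGeometry Opposite
open EtPBC

namespace Groth.Agent.S3114

/-- Abelian case on a locally noetherian scheme (locally noetherian schemes are 'locally arcwise
connected' in the sense of the source): let F be an abelian sheaf on the small etale site of X all
of whose geometric stalks are finite. Then F is finite locally constant if and only if for every two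
geometric points ξ, ξ' of X and every morphism of the corresponding points of the etale site from ξ'
to ξ (a specialization arrow), the induced specialization map on stalks F_ξ -> F_ξ' is an
isomorphism. -/
theorem result (X : Scheme.{u}) [IsLocallyNoetherian X] (F : EtCoh.Ab X)
    (hfin : ∀ (Ω : Type u) [Field Ω] [IsSepClosed Ω] (ξ : Spec (CommRingCat.of Ω) ⟶ X),
      Finite ((EtCoh.stalk ξ).obj F)) :
    EtCoh.IsFiniteLocallyConstant F ↔
      ∀ (Ω Ω' : Type u) [Field Ω] [IsSepClosed Ω] [Field Ω'] [IsSepClosed Ω']
        (ξ : Spec (CommRingCat.of Ω) ⟶ X) (ξ' : Spec (CommRingCat.of Ω') ⟶ X)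
        (φ : Scheme.pointSmallEtale ξ' ⟶ Scheme.pointSmallEtale ξ),
        IsIso ((GrothendieckTopology.Point.Hom.sheafFiber (A := AddCommGrpCat.{u + 1}) φ).app F) := by
  refine ⟨fun hF Ω Ω' _ _ _ _ ξ ξ' φ => ?_, fun h => EtFound.isFiniteLocallyConstant_of_bijective hfin
    fun Ω Ω' _ _ _ _ ξ ξ' φ => ?_⟩
  · exact (ConcreteCategory.isIso_iff_bijective _).2 (EtFound.bijective_sheafFiber hF φ)
  · exact (ConcreteCategory.isIso_iff_bijective _).1 (h Ω Ω' ξ ξ' φ)

end Groth.Agent.S3114
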