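import Groth.Statements.S3117
import Groth.Agent.AffLineAcyc.Main
-- import your own Groth.Agent.* helpers here

set_option autoImplicit false
universe u
open CategoryTheory CategoryTheory.Limits AlgebraicGeometry Opposite
open EtPBC

namespace Groth.Agent.S3117
open Groth.Agent
set_option backward.isDefEq.respectTransparency.types false

/-- Acyclicity of affine space, abelian form: let Y be a scheme, g : 𝔸^m_Y → Y the structure morphism of
affine m-space, n an integer invertible on Y and F an abelian sheaf on the small étale site of Y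
killed by n. Then the unit F → g_* g^* F is an isomorphism and R^q g_* (g^* F) = 0 for every q > 0.
(The published statement gives acyclicity for all torsion sheaves of orders prime to the residue
characteristics, and also 1-asphericity for sheaves of groups; only the form above is stated here.) -/
theorem result (Y : Scheme.{u}) (m : ℕ) [EtCoh.BCCont (𝔸(ULift.{u} (Fin m); Y) ↘ Y)]
    (n : ℕ) (hn : IsUnit (n : Γ(Y, ⊤))) (F : EtCoh.Ab Y) (hF : EtCoh.KilledBy n F) :
    IsIso ((EtCoh.pullPushAdj (𝔸(ULift.{u} (Fin m); Y) ↘ Y)).unit.app F) ∧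
      ∀ q : ℕ, 0 < q → IsZero ((EtCoh.Rpush (𝔸(ULift.{u} (Fin m); Y) ↘ Y) q).obj ((EtCoh.pull (𝔸(ULift.{u} (Fin m); Y) ↘ Y)).obj F)) := by
  have key : ∀ (x : Y), (n : Y.residueField x) ≠ 0 := fun x => by
    have h := (hn.map (Y.presheaf.germ ⊤ x trivial).hom).map (Y.residue x).hom
    rw [map_natCast, map_natCast] at h
    exact h.ne_zero
  have hF' : EtAcyc.IsLTorsion (EtAcyc.primesInvertibleOn Y) F := fun U s x => by
    have hn0 : 0 < n := Nat.pos_of_ne_zero fun h0 => key (U.hom.base x) (by rw [h0, Nat.cast_zero])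
    refine ⟨U, 𝟙 U, n, ⟨x, rfl⟩, ⟨hn0, fun p hp hpn => ⟨hp, fun y hy => ?_⟩⟩, hF U _⟩
    obtain ⟨c, rfl⟩ := hpn
    exact key y (by rw [Nat.cast_mul, hy, zero_mul])
  refine ⟨(AffLineAcyc.unit_of_isAcyclicN _ (AffLineAcyc.isAcyclicN_affineSpace Y 0 m) F hF').1, fun q hq => ?_⟩
  exact (AffLineAcyc.unit_of_isAcyclicN _ (AffLineAcyc.isAcyclicN_affineSpace Y q m) F hF').2 q hq le_rfl

end Groth.Agent.S3117
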