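import Groth.Statements.S3118
import Groth.Agent.CohCrit13.Main
-- import your own Groth.Agent.* helpers here

set_option autoImplicit false
universe u
open CategoryTheory CategoryTheory.Limits AlgebraicGeometry Opposite
open EtPBC

namespace Groth.Agent.S3118

/-- (b) ⇒ (a): let h : Y -> X be a morphism of quasi-compact quasi-separated schemes, ℓ a prime and n a
natural number. Suppose that for every finite morphism p : X' -> X, with h' : Y ×_X X' -> X' the
base change of h, and every ν, the pullback map H^i(X', Z/ℓ^ν) -> H^i(Y ×_X X', Z/ℓ^ν) is injective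
for i = 0 and surjective for all i ≤ n. Then for every abelian sheaf F on the small etale site of X
whose sections are killed by powers of ℓ, the pullback map H^i(X, F) -> H^i(Y, h^* F) is bijective
for i ≤ n and injective for i = n + 1. The pullback maps are EtCore.Hpull, which carry the exactness
of inverse image as an instance hypothesis (a known fact absent from Mathlib). -/
theorem result {X Y : Scheme.{u}} (h : Y ⟶ X)
    [CompactSpace X] [QuasiSeparatedSpace X] [CompactSpace Y] [QuasiSeparatedSpace Y]
    (ℓ : ℕ) (hℓ : ℓ.Prime) (n : ℕ)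
    (hb : ∀ (X' : Scheme.{u}) (p : X' ⟶ X) [IsFinite p] [EtCoh.BCCont (pullback.fst p h)]
      [PreservesFiniteLimits (EtCoh.pull (pullback.fst p h))] (ν : ℕ),
      Function.Injective (EtCore.Hpull (pullback.fst p h) (EtCoh.const X' (ZMod (ℓ ^ ν))) 0) ∧
      ∀ i ≤ n, Function.Surjective (EtCore.Hpull (pullback.fst p h) (EtCoh.const X' (ZMod (ℓ ^ ν))) i))
    [EtCoh.BCCont h] [PreservesFiniteLimits (EtCoh.pull h)]
    (F : EtCoh.Ab X) (hF : ∀ (U : X.Etale) (s : EtCoh.sect F U), ∃ k : ℕ, ℓ ^ k • s = 0) :
    (∀ i ≤ n, Function.Bijective (EtCore.Hpull h F i)) ∧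
      Function.Injective (EtCore.Hpull h F (n + 1)) :=
  CohCrit13.comparison_criterion h ℓ hℓ n hb F hF

end Groth.Agent.S3118
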