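import Groth.Statements.S3126
import Groth.Agent.LARest12.Bridge
import Groth.Agent.LARest12.Global
import Groth.Agent.GenAcyc.Main
import Groth.Agent.FibreAcyc.Main
-- import your own Groth.Agent.* helpers here

set_option autoImplicit false
set_option linter.style.haveILetI false
set_option backward.isDefEq.respectTransparency false
set_option backward.isDefEq.respectTransparency.types false
universe u
open CategoryTheory CategoryTheory.Limits AlgebraicGeometry
open SGA4h

namespace Groth.Agent.S3126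

/-- Let A be a strictly henselian Noetherian local ring, S = Spec A, n an integer invertible in A and f
: X → S a morphism which is locally acyclic (in the sense of vanishing cycles for ℤ/n-coefficients
prime to the residue characteristics), quasi-compact and quasi-separated (the last two are assumed
here in addition to the published hypotheses). Assume that every geometric fibre X_t of f has
H^0(X_t, ℤ/n) ≅ ℤ/n and H^q(X_t, ℤ/n) = 0 for q > 0. Then the unit ℤ/n → f_* f^* ℤ/n is an
isomorphism and R^q f_* (ℤ/n) = 0 for q > 0. (Local acyclicity and the fibre hypothesis are stated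
for all separably closed fields Ω, a priori more than algebraic geometric points; as hypotheses this
only weakens the statement.) -/
theorem result {X : Scheme.{u}} (A : Type u) [CommRing A] [IsNoetherianRing A]
    (hA : EtCoh.IsStrictlyHenselianLocalRing A) (n : ℕ) (hn : IsUnit (n : A)) (f : X ⟶ Spec (CommRingCat.of A))
    [QuasiCompact f] [QuasiSeparated f] (hf : EtRest.IsLocallyAcyclic f)
    (hfib : ∀ (Ω : Type u) [Field Ω] [IsSepClosed Ω] (t : Spec (CommRingCat.of Ω) ⟶ Spec (CommRingCat.of A)),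
      Nonempty (EtCoh.H (pullback f t) (EtCoh.const (pullback f t) (ZMod n)) 0 ≃+ ZMod n) ∧
      ∀ q : ℕ, 0 < q → Subsingleton (EtCoh.H (pullback f t) (EtCoh.const (pullback f t) (ZMod n)) q)) :
    IsIso ((EtCoh.pullPushAdj f).unit.app (EtCoh.const (Spec (CommRingCat.of A)) (ZMod n))) ∧
    ∀ q : ℕ, 0 < q → IsZero ((EtCoh.Rpush f q).obj (EtCoh.const X (ZMod n))) := by
  haveI : Nontrivial A := hA.1.toNontrivial
  let C := constantSheaf (Spec (CommRingCat.of A)).smallEtaleTopology AddCommGrpCat.{u + 1}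
  let F : EtCoh.Ab (Spec (CommRingCat.of A)) := EtCoh.const (Spec (CommRingCat.of A)) (ZMod n)
  let e := EtCore.pullConst f (ZMod n)
  obtain rfl | hn2 : n = 1 ∨ 2 ≤ n := by
    rcases n with _ | _ | m
    · rw [Nat.cast_zero] at hn
      exact absurd hn not_isUnit_zero
    · exact Or.inl rfl
    · exact Or.inr (by omega)
  · haveI : C.PreservesZeroMorphisms :=
      haveI := (EtCore.constAdj (Spec (CommRingCat.of A))).leftAdjoint_preservesColimits
      inferInstance
    have hz : IsZero F := C.map_isZero (AddCommGrpCat.isZero_of_subsingleton _)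
    have hzX : IsZero (EtCoh.const X (ZMod 1)) := ((EtCoh.pull f).map_isZero hz).of_iso e.symm
    exact ⟨FibreAcyc.isIso_of_isZero _ hz ((EtCoh.push f).map_isZero ((EtCoh.pull f).map_isZero hz)),
      fun q _ => (EtCoh.Rpush f q).map_isZero hzX⟩
  let L : Set ℕ := {ℓ | ℓ.Prime ∧ ℓ ∣ n}
  have hL : ∃ ℓ ∈ L, ℓ.Prime := ⟨n.minFac, ⟨Nat.minFac_prime (by omega), n.minFac_dvd⟩, Nat.minFac_prime (by omega)⟩
  have hfib' : ∀ k, EtAcyc.GeomFibresAcyclicN L k f := fun k y Ω _ _ _ _ => by
    obtain ⟨⟨e0⟩, hq⟩ := hfib Ω (EtAcyc.geomPt (Spec (CommRingCat.of A)) y Ω)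
    exact LARest12.isAcyclicSchemeN_of_vc hn2 ⟨hq, ⟨e0⟩⟩ L (fun ℓ hℓ _ => hℓ.2) k
  have hinv : ∀ ℓ ∈ L, ℓ.Prime → ∀ x : X, (ℓ : X.residueField x) ≠ 0 := fun ℓ hℓ _ x => by
    have hu : IsUnit (ℓ : A) := isUnit_of_dvd_unit (Nat.cast_dvd_cast hℓ.2) hn
    let z : CommRingCat.of A ⟶ X.residueField x :=
      (Scheme.ΓSpecIso (CommRingCat.of A)).inv ≫ f.app ⊤ ≫ X.presheaf.germ (f ⁻¹ᵁ ⊤) x trivial ≫ X.residue x
    exact (map_natCast z.hom ℓ) ▸ (hu.map z.hom).ne_zero
  have hloc : ∀ k, EtAcyc.IsLocAcyclicN f L k := fun k => LARest12.isLocAcyclicN_of_rest hf L hL hinv k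
  have hsurj : EtAcyc.OnStrictLocalizations f fun _ _ h => Surjective h := by
    intro x RY RX _ _ _ _ _ _ _ _ _ _ _ _ hc
    exact AcycCover.surjective_of_geomFibres ((S3471.result f L hL 0).1 (hloc 0) x RY RX hc)
  have hF : EtAcyc.IsLTorsion L F := GenAcyc.isLTorsion_const _ _ fun a =>
    ⟨n, ⟨by omega, fun p hp hpn => ⟨hp, hpn⟩⟩, by ext; simp⟩
  refine ⟨(LARest12.unit_and_Rpush_of_fibres f L 0 (hfib' 0) hsurj (fun m _ => hloc m) F hF).1, fun q hq => ?_⟩
  exact ((LARest12.unit_and_Rpush_of_fibres f L q (hfib' q) hsurj (fun m _ => hloc m) F hF).2 q hq le_rfl).of_iso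
    ((EtCoh.Rpush f q).mapIso e.symm)

end Groth.Agent.S3126
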