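import Groth.Statements.S3127
import Groth.Agent.LARest12.FieldExt
-- import your own Groth.Agent.* helpers here

set_option autoImplicit false
universe u
open CategoryTheory CategoryTheory.Limits AlgebraicGeometry
open SGA4h

namespace Groth.Agent.S3127

/-- Let f : X -> Y and g : Y -> Z be morphisms of locally noetherian schemes. If f and g are locally
acyclic (for ℤ/n-coefficients prime to the residue characteristics) then so is g ∘ f. (The notion of
local acyclicity used here quantifies over all separably closed fields Ω, not only over algebraic
geometric points; the published statement is phrased for geometric points.) -/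
theorem result {X Y Z : Scheme.{u}} [IsLocallyNoetherian X] [IsLocallyNoetherian Y] [IsLocallyNoetherian Z]
    (f : X ⟶ Y) (g : Y ⟶ Z) (hf : EtRest.IsLocallyAcyclic f) (hg : EtRest.IsLocallyAcyclic g) :
    EtRest.IsLocallyAcyclic (f ≫ g) :=
  Groth.Agent.LARest12.isLocallyAcyclic_comp Groth.Agent.LARest12.fieldExtInv hf hg

end Groth.Agent.S3127
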