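import Groth.Statements.S3128
import Mathlib.NumberTheory.LegendreSymbol.AddCharacter
import Mathlib.NumberTheory.MulChar.Basic
import Mathlib.FieldTheory.Finite.GaloisField
import Mathlib.RingTheory.Trace.Basic
import Mathlib.RingTheory.Norm.Transitivity
import Mathlib.RingTheory.UniqueFactorizationDomain.Multiplicity
import Mathlib.FieldTheory.Galois.Basic
import Mathlib.FieldTheory.Perfect
-- import your own Groth.Agent.* helpers here

set_option autoImplicit false
open BigOperators
open SGA4h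

namespace Groth.Agent.S3128

namespace Aux

open Polynomial IntermediateField

variable {F : Type} [Field F] [Fintype F] {R : Type} [CommRing R] (χ : MulChar F R) (ψ : AddChar F R)

/-- The multiplicative weight of a monic polynomial. -/
noncomputable def lam (f : F[X]) : R := χ ((-1) ^ f.natDegree * f.coeff 0) * ψ (-f.nextCoeff)

omit [Fintype F] in
theorem lam_one : lam χ ψ (1 : F[X]) = 1 := by simp [lam, nextCoeff]

omit [Fintype F] in
theorem lam_mul {f g : F[X]} (hf : f.Monic) (hg : g.Monic) :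
    lam χ ψ (f * g) = lam χ ψ f * lam χ ψ g := by
  have e : (-1 : F) ^ (f * g).natDegree * (f * g).coeff 0 =
      ((-1) ^ f.natDegree * f.coeff 0) * ((-1) ^ g.natDegree * g.coeff 0) := by
    rw [hf.natDegree_mul hg, mul_coeff_zero, pow_add]
    ring
  rw [lam, e, hf.nextCoeff_mul hg, neg_add, AddChar.map_add_eq_mul, map_mul]
  simp only [lam]
  ring

omit [Fintype F] in
theorem lam_pow {f : F[X]} (hf : f.Monic) (k : ℕ) : lam χ ψ (f ^ k) = lam χ ψ f ^ k := by
  induction k with
  | zero => simp [lam_one]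
  | succ k ih => rw [pow_succ, lam_mul χ ψ (hf.pow k) hf, ih, pow_succ]

/-- Monic polynomial with given lower coefficients. -/
noncomputable def ofCoeff (n : ℕ) (a : Fin n → F) : F[X] := X ^ n + ∑ i : Fin n, C (a i) * X ^ (i : ℕ)

omit [Fintype F] in
theorem coeff_ofCoeff (n : ℕ) (a : Fin n → F) (i : Fin n) : (ofCoeff n a).coeff i = a i := by
  rw [ofCoeff, coeff_add, coeff_X_pow, if_neg (ne_of_lt i.2), zero_add, finsetSum_coeff]
  rw [Finset.sum_eq_single i (fun j _ hj => by
    rw [coeff_C_mul, coeff_X_pow, if_neg (fun h => hj (Fin.ext h.symm)), mul_zero]) (by simp)]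
  simp

omit [Fintype F] in
theorem monic_ofCoeff (n : ℕ) (a : Fin n → F) : (ofCoeff n a).Monic ∧ (ofCoeff n a).natDegree = n := by
  have h : (∑ i : Fin n, C (a i) * X ^ (i : ℕ)).degree < ((n : ℕ) : WithBot ℕ) := degree_sum_fin_lt a
  exact ⟨monic_X_pow_add h, natDegree_eq_of_degree_eq_some (by
    rw [ofCoeff, degree_add_eq_left_of_degree_lt (by rwa [degree_X_pow]), degree_X_pow])⟩

/-- The monic polynomials of degree `n`. -/
noncomputable def monics (n : ℕ) : Finset F[X] := by
  classical exact Finset.univ.image (ofCoeff (F := F) n)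

theorem mem_monics {n : ℕ} {f : F[X]} : f ∈ monics n ↔ f.Monic ∧ f.natDegree = n := by
  classical
  rw [monics, Finset.mem_image]
  constructor
  · rintro ⟨a, -, rfl⟩
    exact monic_ofCoeff n a
  · rintro ⟨hf, hn⟩
    refine ⟨fun i => f.coeff i, Finset.mem_univ _, ?_⟩
    rw [ofCoeff]
    subst hn
    rw [Fin.sum_univ_eq_sum_range (fun i => C (f.coeff i) * X ^ i)]
    exact hf.as_sum.symm

/-- Sum of the weights in degree `n`. -/
noncomputable def cc (n : ℕ) : R := ∑ f ∈ monics n, lam χ ψ f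

theorem cc_zero : cc χ ψ 0 = 1 := by
  have : monics (F := F) 0 = {1} := by
    ext f
    rw [mem_monics, Finset.mem_singleton]
    exact ⟨fun ⟨h1, h2⟩ => h1.natDegree_eq_zero.mp h2, fun h => h ▸ ⟨monic_one, natDegree_one⟩⟩
  rw [cc, this, Finset.sum_singleton, lam_one]

theorem cc_one : cc χ ψ 1 = ∑ x : F, χ x * ψ x := by
  symm
  refine Finset.sum_bij (fun x _ => X - C x) (fun x _ => mem_monics.mpr ⟨monic_X_sub_C x, natDegree_X_sub_C x⟩)
    (fun a _ b _ h => C_injective (sub_right_injective h)) (fun f hf => ?_) (fun x _ => ?_)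
  · obtain ⟨h1, h2⟩ := mem_monics.mp hf
    refine ⟨-f.coeff 0, Finset.mem_univ _, ?_⟩
    rw [map_neg, sub_neg_eq_add]
    exact (h1.eq_X_add_C h2).symm
  · simp [lam, nextCoeff_X_sub_C]

theorem cc_eq_zero [IsDomain R] (hψ : ψ ≠ 1) {n : ℕ} (hn : 2 ≤ n) : cc χ ψ n = 0 := by
  obtain ⟨t, ht⟩ : ∃ t, ψ t ≠ 1 := DFunLike.ne_iff.mp hψ
  have key : ∀ f ∈ monics (F := F) n, f - C t * X ^ (n - 1) ∈ monics n ∧
      lam χ ψ (f - C t * X ^ (n - 1)) = ψ t * lam χ ψ f := by
    intro f hf
    obtain ⟨h1, h2⟩ := mem_monics.mp hf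
    have hd : (C t * X ^ (n - 1) : F[X]).degree < f.degree := by
      rw [degree_eq_natDegree h1.ne_zero, h2]
      exact lt_of_le_of_lt (degree_C_mul_X_pow_le _ _) (by exact_mod_cast (by omega : n - 1 < n))
    have h2' : (f - C t * X ^ (n - 1)).natDegree = n := by
      rw [natDegree_eq_of_degree_eq (degree_sub_eq_left_of_degree_lt hd), h2]
    refine ⟨mem_monics.mpr ⟨h1.sub_of_left hd, h2'⟩, ?_⟩
    have e : (f - C t * X ^ (n - 1)).nextCoeff = f.nextCoeff - t := by
      rw [nextCoeff_of_natDegree_pos (by omega), nextCoeff_of_natDegree_pos (by omega), h2', h2]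
      simp
    rw [lam, lam, e, h2', h2, show -(f.nextCoeff - t) = t + -f.nextCoeff by ring, AddChar.map_add_eq_mul, coeff_sub,
      coeff_C_mul, coeff_X_pow, if_neg (by omega : (0 : ℕ) ≠ n - 1)]
    simp only [mul_zero, sub_zero]
    ring
  have h : cc χ ψ n = ψ t * cc χ ψ n := by
    conv_rhs => rw [cc, Finset.mul_sum]
    rw [cc]
    symm
    refine Finset.sum_bij (fun f _ => f - C t * X ^ (n - 1)) (fun f hf => (key f hf).1)
      (fun a _ b _ h => sub_left_injective h) (fun g hg => ?_) (fun f hf => (key f hf).2.symm)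
    obtain ⟨h1, h2⟩ := mem_monics.mp hg
    have hd : (C t * X ^ (n - 1) : F[X]).degree < g.degree := by
      rw [degree_eq_natDegree h1.ne_zero, h2]
      exact lt_of_le_of_lt (degree_C_mul_X_pow_le _ _) (by exact_mod_cast (by omega : n - 1 < n))
    refine ⟨g + C t * X ^ (n - 1), mem_monics.mpr ⟨h1.add_of_left hd, ?_⟩, add_sub_cancel_right _ _⟩
    rw [natDegree_eq_of_degree_eq (degree_add_eq_left_of_degree_lt hd), h2]
  have h' : (ψ t - 1) * cc χ ψ n = 0 := by rw [sub_mul, one_mul, ← h, sub_self]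
  exact (mul_eq_zero.mp h').resolve_left (sub_ne_zero.mpr ht)

/-- The monic irreducible polynomials of degree at most `N`. -/
noncomputable def primes (N : ℕ) : Finset F[X] := by
  classical exact ((Finset.range (N + 1)).biUnion (monics (F := F))).filter Irreducible

theorem mem_primes {N : ℕ} {P : F[X]} :
    P ∈ primes N ↔ P.Monic ∧ P.natDegree ≤ N ∧ Irreducible P := by
  classical
  rw [primes, Finset.mem_filter, Finset.mem_biUnion]
  constructor
  · rintro ⟨⟨m, hm, hP⟩, hI⟩
    obtain ⟨h1, h2⟩ := mem_monics.mp hP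
    exact ⟨h1, by have := Finset.mem_range.mp hm; omega, hI⟩
  · rintro ⟨h1, h2, hI⟩
    exact ⟨⟨P.natDegree, Finset.mem_range.mpr (by omega), mem_monics.mpr ⟨h1, rfl⟩⟩, hI⟩

/-- The prime power sums in degree `m`. -/
noncomputable def ee (N m : ℕ) : R :=
  ∑ P ∈ primes (F := F) N, ∑ k ∈ Finset.Icc 1 N,
    if k * P.natDegree = m then (P.natDegree : R) * lam χ ψ P ^ k else 0

open scoped Classical in
theorem natDegree_eq_sum {N : ℕ} {f : F[X]} (hf : f.Monic) (hN : f.natDegree ≤ N) :
    f.natDegree = ∑ P ∈ primes (F := F) N, ∑ k ∈ Finset.Icc 1 N, if P ^ k ∣ f then P.natDegree else 0 := by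
  let M := UniqueFactorizationMonoid.normalizedFactors f
  have hprod : M.prod = f := by
    rw [UniqueFactorizationMonoid.prod_normalizedFactors_eq hf.ne_zero, hf.normalize_eq_self]
  have hmon : ∀ P ∈ M, P.Monic := fun P hP => by
    rw [← UniqueFactorizationMonoid.normalize_normalized_factor P hP]
    exact monic_normalize (UniqueFactorizationMonoid.irreducible_of_normalized_factor P hP).ne_zero
  have hle : ∀ P ∈ M, P.natDegree ≤ f.natDegree := fun P hP =>
    natDegree_le_of_dvd (UniqueFactorizationMonoid.dvd_of_mem_normalizedFactors hP) hf.ne_zero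
  have hdeg : f.natDegree = ∑ P ∈ M.toFinset, M.count P * P.natDegree := by
    conv_lhs => rw [← hprod, natDegree_multiset_prod _ (fun h0 => (hmon 0 h0).ne_zero rfl),
      Finset.sum_multiset_map_count]
    rfl
  refine hdeg.trans ((Finset.sum_subset (fun P hP => mem_primes.mpr ?_) fun P _ hP => ?_).trans
    (Finset.sum_congr rfl fun P hP => ?_))
  · have hP' := Multiset.mem_toFinset.mp hP
    exact ⟨hmon P hP', (hle P hP').trans hN, UniqueFactorizationMonoid.irreducible_of_normalized_factor P hP'⟩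
  · rw [Multiset.count_eq_zero.mpr fun h => hP (Multiset.mem_toFinset.mpr h), zero_mul]
  · obtain ⟨hPm, -, hPI⟩ := mem_primes.mp hP
    have hem := UniqueFactorizationMonoid.emultiplicity_eq_count_normalizedFactors hPI hf.ne_zero
    rw [hPm.normalize_eq_self] at hem
    have hiff : ∀ k, P ^ k ∣ f ↔ k ≤ M.count P := fun k => by
      rw [pow_dvd_iff_le_emultiplicity, hem]
      exact_mod_cast Iff.rfl
    have hc : M.count P ≤ N := by
      refine le_trans ?_ hN
      refine le_trans ?_ (natDegree_le_of_dvd ((hiff _).mpr le_rfl) hf.ne_zero)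
      rw [natDegree_pow]
      exact Nat.le_mul_of_pos_right _ hPI.natDegree_pos
    rw [← Finset.sum_filter, Finset.sum_const, smul_eq_mul]
    congr 1
    have e : (Finset.Icc 1 N).filter (fun k => P ^ k ∣ f) = Finset.Icc 1 (M.count P) := by
      ext k
      simp only [Finset.mem_filter, Finset.mem_Icc, hiff]
      omega
    rw [e, Nat.card_Icc]
    rfl

open scoped Classical in
theorem ee_rec [IsDomain R] (hψ : ψ ≠ 1) {N m : ℕ} (hm : 1 ≤ m) (hmN : m ≤ N) :
    (m : R) * cc χ ψ m = ee χ ψ N m + cc χ ψ 1 * ee χ ψ N (m - 1) := by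
  have h1 : (m : R) * cc χ ψ m = ∑ P ∈ primes (F := F) N, ∑ k ∈ Finset.Icc 1 N,
      ∑ f ∈ (monics (F := F) m).filter (fun f => P ^ k ∣ f), (P.natDegree : R) * lam χ ψ f := by
    calc (m : R) * cc χ ψ m = ∑ f ∈ monics (F := F) m, (m : R) * lam χ ψ f := by rw [cc, Finset.mul_sum]
      _ = ∑ f ∈ monics (F := F) m, ∑ P ∈ primes (F := F) N, ∑ k ∈ Finset.Icc 1 N,
          (if P ^ k ∣ f then (P.natDegree : R) * lam χ ψ f else 0) := by
        refine Finset.sum_congr rfl fun f hf => ?_
        obtain ⟨hfm, hfd⟩ := mem_monics.mp hf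
        have h := natDegree_eq_sum (N := N) hfm (hfd ▸ hmN)
        rw [hfd] at h
        conv_lhs => rw [h]
        push_cast
        simp only [Finset.sum_mul, Nat.cast_ite, Nat.cast_zero, ite_mul, zero_mul]
      _ = _ := by
        rw [Finset.sum_comm]
        refine Finset.sum_congr rfl fun P _ => ?_
        rw [Finset.sum_comm]
        exact Finset.sum_congr rfl fun k _ => (Finset.sum_filter _ _).symm
  rw [h1, ee, ee, Finset.mul_sum, ← Finset.sum_add_distrib]
  refine Finset.sum_congr rfl fun P hP => ?_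
  obtain ⟨hPm, -, hPI⟩ := mem_primes.mp hP
  rw [Finset.mul_sum, ← Finset.sum_add_distrib]
  refine Finset.sum_congr rfl fun k hk => ?_
  have hk1 : 1 ≤ k := (Finset.mem_Icc.mp hk).1
  have hkd : 1 ≤ k * P.natDegree := Nat.one_le_iff_ne_zero.mpr
    (Nat.mul_ne_zero (by omega) hPI.natDegree_pos.ne')
  have hdegk : (P ^ k).natDegree = k * P.natDegree := natDegree_pow _ _
  have h2 : ∑ f ∈ (monics (F := F) m).filter (fun f => P ^ k ∣ f), (P.natDegree : R) * lam χ ψ f =
      if k * P.natDegree ≤ m then (P.natDegree : R) * lam χ ψ P ^ k * cc χ ψ (m - k * P.natDegree) else 0 := by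
    split_ifs with hle
    · rw [cc, Finset.mul_sum]
      symm
      refine Finset.sum_bij (fun g _ => P ^ k * g) (fun g hg => ?_)
        (fun a _ b _ h => mul_left_cancel₀ (hPm.pow k).ne_zero h) (fun f hf => ?_) (fun g hg => ?_)
      · obtain ⟨g1, g2⟩ := mem_monics.mp hg
        refine Finset.mem_filter.mpr ⟨mem_monics.mpr ⟨(hPm.pow k).mul g1, ?_⟩, dvd_mul_right _ _⟩
        rw [(hPm.pow k).natDegree_mul g1, hdegk, g2]
        omega
      · obtain ⟨hf, g, rfl⟩ := Finset.mem_filter.mp hf
        obtain ⟨f1, f2⟩ := mem_monics.mp hf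
        have g1 : g.Monic := (hPm.pow k).of_mul_monic_left f1
        rw [(hPm.pow k).natDegree_mul g1, hdegk] at f2
        exact ⟨g, mem_monics.mpr ⟨g1, by omega⟩, rfl⟩
      · obtain ⟨g1, -⟩ := mem_monics.mp hg
        rw [lam_mul χ ψ (hPm.pow k) g1, lam_pow χ ψ hPm]
        ring
    · refine Finset.sum_eq_zero fun f hf => absurd ?_ hle
      obtain ⟨hf, hdvd⟩ := Finset.mem_filter.mp hf
      obtain ⟨f1, f2⟩ := mem_monics.mp hf
      rw [← hdegk, ← f2]
      exact natDegree_le_of_dvd hdvd f1.ne_zero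
  rw [h2]
  split_ifs with h3 h4 h5 h5 h4 h5 h5
  all_goals first
    | (exfalso; omega)
    | skip
  · rw [h4, Nat.sub_self, cc_zero]; ring
  · rw [show m - k * P.natDegree = 1 by omega]; ring
  · rw [cc_eq_zero χ ψ hψ (by omega)]; simp
  · simp

theorem neg_ee [IsDomain R] (hψ : ψ ≠ 1) {N : ℕ} :
    ∀ m, 1 ≤ m → m ≤ N → -ee χ ψ N m = (-∑ x : F, χ x * ψ x) ^ m := by
  have h0 : ee χ ψ N 0 = 0 := Finset.sum_eq_zero fun P hP => Finset.sum_eq_zero fun k hk => by
    have := (mem_primes.mp hP).2.2.natDegree_pos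
    rw [if_neg (Nat.mul_ne_zero (by have := (Finset.mem_Icc.mp hk).1; omega) this.ne')]
  intro m
  induction m with
  | zero => intro h; omega
  | succ m ih =>
    intro _ hN
    have h := ee_rec χ ψ hψ (N := N) (m := m + 1) (by omega) hN
    rcases Nat.eq_zero_or_pos m with rfl | hm
    · rw [Nat.sub_self, h0, mul_zero, add_zero, Nat.cast_one, one_mul] at h
      rw [← h, cc_one, pow_one]
    · rw [cc_eq_zero χ ψ hψ (by omega), mul_zero, cc_one, Nat.add_sub_cancel] at h
      rw [pow_succ, ← ih (by omega) (by omega)]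
      linear_combination h

variable (F' : Type) [Field F'] [Fintype F'] [Algebra F F']

omit [Fintype F] in
theorem apply_eq_lam_pow (x : F') :
    χ (Algebra.norm F x) * ψ (Algebra.trace F F' x) =
      lam χ ψ (minpoly F x) ^ Module.finrank F⟮x⟯ F' ∧
    (minpoly F x).natDegree * Module.finrank F⟮x⟯ F' = Module.finrank F F' := by
  haveI : Module.Finite F F' := Module.Finite.of_finite
  have hx : IsIntegral F x := IsIntegral.of_finite F x
  have hd : Module.finrank F F⟮x⟯ = (minpoly F x).natDegree := adjoin.finrank hx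
  refine ⟨?_, by rw [← hd]; exact Module.finrank_mul_finrank F F⟮x⟯ F'⟩
  have e : Algebra.norm F (AdjoinSimple.gen F x) =
      (-1) ^ (minpoly F x).natDegree * (minpoly F x).coeff 0 := by
    have h := Algebra.PowerBasis.norm_gen_eq_coeff_zero_minpoly (adjoin.powerBasis hx)
    simpa [minpoly_gen F x] using h
  rw [Algebra.norm_eq_norm_adjoin, trace_eq_finrank_mul_minpoly_nextCoeff, e, ← nsmul_eq_mul,
    AddChar.map_nsmul_eq_pow, map_pow, ← mul_pow]
  rfl

open scoped Classical in
theorem sum_eq_ee : ∑ x : F', χ (Algebra.norm F x) * ψ (Algebra.trace F F' x) =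
    ee χ ψ (Module.finrank F F') (Module.finrank F F') := by
  haveI : Module.Finite F F' := Module.Finite.of_finite
  haveI : IsGalois F F' := inferInstance
  set n := Module.finrank F F'
  have hn : 0 < n := Module.finrank_pos
  have hmem : ∀ x : F', minpoly F x ∈ primes (F := F) n := fun x => mem_primes.mpr
    ⟨minpoly.monic (IsIntegral.of_finite F x),
      Nat.le_of_dvd hn ⟨_, (apply_eq_lam_pow χ ψ F' x).2.symm⟩,
      minpoly.irreducible (IsIntegral.of_finite F x)⟩
  rw [← Finset.sum_fiberwise_of_maps_to (g := fun x : F' => minpoly F x) (fun x _ => hmem x), ee]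
  refine Finset.sum_congr rfl fun P hP => ?_
  obtain ⟨hPm, -, hPI⟩ := mem_primes.mp hP
  have hfib : ∀ x : F', minpoly F x = P ↔ aeval x P = 0 := fun x =>
    ⟨fun h => h ▸ minpoly.aeval F x, fun h => (minpoly.eq_of_irreducible_of_monic hPI h hPm).symm⟩
  by_cases hd : P.natDegree ∣ n
  · obtain ⟨r, hr⟩ := hd
    have hr0 : r ≠ 0 := fun h => by simp [h] at hr; omega
    have hrn : r ≤ n := hr ▸ Nat.le_mul_of_pos_left r hPI.natDegree_pos
    rw [Finset.sum_eq_single r (fun k _ hk => if_neg fun h => hk ?_)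
      (fun h => absurd (Finset.mem_Icc.mpr ⟨Nat.one_le_iff_ne_zero.mpr hr0, hrn⟩) h)]
    swap
    · exact Nat.eq_of_mul_eq_mul_right hPI.natDegree_pos (by rw [h, hr, mul_comm])
    rw [if_pos (by rw [hr, mul_comm])]
    have hcard : (Finset.univ.filter fun x : F' => minpoly F x = P).card = P.natDegree := by
      haveI := Fact.mk hPI
      haveI : Module.Finite F (AdjoinRoot P) := hPm.finite_adjoinRoot
      haveI : Finite (AdjoinRoot P) := Module.finite_of_finite F
      have hfr : Module.finrank F (AdjoinRoot P) = P.natDegree :=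
        (PowerBasis.finrank (AdjoinRoot.powerBasis hPI.ne_zero)).trans (AdjoinRoot.powerBasis_dim _)
      obtain ⟨σ⟩ : Nonempty (AdjoinRoot P →ₐ[F] F') :=
        FiniteField.nonempty_algHom_iff_finrank_dvd.mpr (by rw [hfr]; exact ⟨r, hr⟩)
      let x₀ := σ (AdjoinRoot.root P)
      have hx₀ : minpoly F x₀ = P := (hfib x₀).mpr (by
        rw [aeval_algHom_apply, AdjoinRoot.aeval_eq, AdjoinRoot.mk_self, map_zero])
      rw [← card_rootSet_eq_natDegree (K := F') (PerfectField.separable_of_irreducible hPI)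
        (hx₀ ▸ Normal.splits inferInstance x₀), ← Set.toFinset_card]
      congr 1
      ext x
      rw [Set.mem_toFinset, mem_rootSet, Finset.mem_filter, hfib]
      simp [hPI.ne_zero]
    rw [Finset.sum_congr rfl (g := fun _ => lam χ ψ P ^ r) fun x hx => ?_, Finset.sum_const, hcard, nsmul_eq_mul]
    obtain ⟨-, hx⟩ := Finset.mem_filter.mp hx
    obtain ⟨h1, h2⟩ := apply_eq_lam_pow χ ψ F' x
    rw [h1, hx]
    congr 1
    rw [hx] at h2
    exact Nat.eq_of_mul_eq_mul_left hPI.natDegree_pos (h2.trans hr)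
  · rw [Finset.sum_eq_zero fun x hx => ?_]
    · symm
      exact Finset.sum_eq_zero fun k _ => if_neg fun h => hd ⟨k, by rw [← h, mul_comm]⟩
    · obtain ⟨-, hx⟩ := Finset.mem_filter.mp hx
      refine absurd ⟨Module.finrank F⟮x⟯ F', ?_⟩ hd
      rw [← hx]
      exact (apply_eq_lam_pow χ ψ F' x).2.symm

end Aux

/-- Let F ⊂ F' be finite fields with [F' : F] = n, χ a multiplicative character of F and ψ a nontrivial
additive character of F, with values in a domain of characteristic zero. Writing τ(χ, ψ) = -Σ_x χ(x)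
ψ(x), one has τ(χ ∘ N_{F'/F}, ψ ∘ Tr_{F'/F}) = τ(χ, ψ)^n. (The source writes χ⁻¹ inside τ; replacing
χ by χ⁻¹ gives the same family of identities.) -/
theorem result (F F' : Type) [Field F] [Fintype F] [Field F'] [Fintype F'] [Algebra F F']
    (R : Type) [CommRing R] [IsDomain R] [CharZero R] (χ : MulChar F R) (ψ : AddChar F R) (hψ : ψ ≠ 1) :
    -(∑ x : F', χ (Algebra.norm F x) * ψ (Algebra.trace F F' x)) =
      (-(∑ x : F, χ x * ψ x)) ^ Module.finrank F F' := by
  haveI : Module.Finite F F' := Module.Finite.of_finite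
  rw [Aux.sum_eq_ee χ ψ F', Aux.neg_ee χ ψ hψ _ Module.finrank_pos le_rfl]

end Groth.Agent.S3128
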