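import Groth.Statements.S3129
import Mathlib.NumberTheory.LegendreSymbol.AddCharacter
import Mathlib.NumberTheory.MulChar.Basic
import Mathlib.Algebra.BigOperators.Fin
-- import your own Groth.Agent.* helpers here

set_option autoImplicit false
open BigOperators
open SGA4h

namespace Groth.Agent.S3129

/-- Let F be a finite field with q elements, N ≥ 1, χ₀, …, χ_N multiplicative characters of F with
values in a domain, not all trivial and with product 1, and Ψ a nontrivial additive character of F.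
Put τ(χ, Ψ) = −Σ_{x ∈ F} Ψ(x) χ⁻¹(x) and J(χ) = (−1)^{N−1} Σ χ₁⁻¹(x₁) ⋯ χ_N⁻¹(x_N), the sum over x₁,
…, x_N ∈ F^* with x₁ + ⋯ + x_N = −1. Then q · J(χ) = τ(χ₀, Ψ) ⋯ τ(χ_N, Ψ). -/
theorem result (F : Type) [Field F] [Fintype F] [DecidableEq F] (R : Type) [CommRing R] [IsDomain R]
    (N : ℕ) (hN : 1 ≤ N) (χ : Fin (N + 1) → MulChar F R) (hprod : ∏ i, χ i = 1) (hnt : ∃ i, χ i ≠ 1)
    (Ψ : AddChar F R) (hΨ : Ψ ≠ 1) :
    (Fintype.card F : R) * ((-1) ^ (N - 1) *
        ∑ x ∈ (Finset.univ : Finset (Fin N → Fˣ)).filter (fun x => ∑ i, ((x i : Fˣ) : F) = -1),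
          ∏ i : Fin N, (χ i.succ)⁻¹ ((x i : Fˣ) : F)) =
      ∏ i : Fin (N + 1), (-(∑ y : F, Ψ y * (χ i)⁻¹ y)) := by
  classical
  let c : Fin (N + 1) → Fˣ → R := fun i y => (χ i)⁻¹ (y : F)
  -- sums over `F` are sums over the units
  have hG : ∀ i, ∑ y : F, Ψ y * (χ i)⁻¹ y = ∑ y : Fˣ, Ψ (y : F) * c i y := by
    intro i
    refine (Finset.sum_bij_ne_zero (fun (y : Fˣ) _ _ => (y : F)) (fun _ _ _ => Finset.mem_univ _)
      (fun a _ _ b _ _ h => Units.ext h) (fun b _ hb => ?_) (fun a _ _ => rfl)).symm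
    rcases eq_or_ne b 0 with rfl | h0
    · exact absurd (by simp [MulChar.map_zero]) hb
    · exact ⟨Units.mk0 b h0, Finset.mem_univ _, hb, rfl⟩
  -- the trivial product
  have hc : ∀ y : Fˣ, ∏ i, c i y = 1 := by
    intro y
    have h1 : ∀ (s : Finset (Fin (N + 1))), (∏ i ∈ s, χ i) (y : F) = ∏ i ∈ s, χ i (y : F) := by
      intro s
      induction s using Finset.induction_on with
      | empty => simp [MulChar.one_apply_coe]
      | insert a s ha ih => rw [Finset.prod_insert ha, Finset.prod_insert ha, MulChar.mul_apply, ih]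
    have h2 := h1 Finset.univ
    rw [hprod, MulChar.one_apply_coe] at h2
    have h3 : ∀ i, c i y * χ i (y : F) = 1 := fun i => by
      show (χ i)⁻¹ (y : F) * χ i (y : F) = 1
      rw [← MulChar.mul_apply, inv_mul_cancel, MulChar.one_apply_coe]
    have h4 : (∏ i, c i y) * ∏ i, χ i (y : F) = 1 := by
      rw [← Finset.prod_mul_distrib]
      exact Finset.prod_eq_one fun i _ => h3 i
    rwa [← h2, mul_one] at h4
  -- some character other than `χ 0` is nontrivial
  obtain ⟨j, hj⟩ : ∃ j : Fin N, χ j.succ ≠ 1 := by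
    by_contra hcon
    push Not at hcon
    obtain ⟨i, hi⟩ := hnt
    apply hi
    induction i using Fin.cases with
    | zero => rwa [Fin.prod_univ_succ, Finset.prod_eq_one fun j _ => hcon j, mul_one] at hprod
    | succ j => exact hcon j
  let d : (Fin N → Fˣ) → R := fun w => ∏ i : Fin N, c i.succ (w i)
  have hd : ∑ w : Fin N → Fˣ, d w = 0 := by
    rw [← Fintype.prod_sum (fun i (y : Fˣ) => c (Fin.succ i) y)]
    refine Finset.prod_eq_zero (Finset.mem_univ j) ?_
    have h := MulChar.sum_eq_zero_of_ne_one (χ := (χ j.succ)⁻¹) (by simpa using hj)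
    rw [← h]
    refine Finset.sum_bij_ne_zero (fun (y : Fˣ) _ _ => (y : F)) (fun _ _ _ => Finset.mem_univ _)
      (fun a _ _ b _ _ h => Units.ext h) (fun b _ hb => ?_) (fun a _ _ => rfl)
    rcases eq_or_ne b 0 with rfl | h0
    · exact absurd (MulChar.map_zero _) hb
    · exact ⟨Units.mk0 b h0, Finset.mem_univ _, hb, rfl⟩
  -- the inner sum over the scaling parameter
  have hS : ∀ a : F, ∑ y : Fˣ, Ψ ((y : F) * a) = (if a = 0 then (Fintype.card F : R) else 0) - 1 := by
    intro a
    have h := AddChar.sum_mulShift a (AddChar.IsPrimitive.of_ne_one hΨ)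
    have h0 : ∑ y : F, Ψ (y * a) = ∑ y : Fˣ, Ψ ((y : F) * a) + 1 := by
      rw [← Finset.sum_erase_add Finset.univ (fun y : F => Ψ (y * a)) (Finset.mem_univ 0), zero_mul,
        AddChar.map_zero_eq_one]
      congr 1
      refine (Finset.sum_bij (fun (y : Fˣ) _ => (y : F)) (fun y _ => by simp)
        (fun a _ b _ h => Units.ext h) (fun b hb => ?_) (fun a _ => rfl)).symm
      exact ⟨Units.mk0 b (Finset.ne_of_mem_erase hb), Finset.mem_univ _, rfl⟩
    rw [h0] at h
    rw [eq_sub_iff_add_eq, h]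
    split_ifs <;> simp
  have key : (∏ i : Fin (N + 1), ∑ y : Fˣ, Ψ (y : F) * c i y) =
      (Fintype.card F : R) * ∑ x ∈ (Finset.univ : Finset (Fin N → Fˣ)).filter
        (fun x => ∑ i, ((x i : Fˣ) : F) = -1), d x := by
    rw [Fin.prod_univ_succ, Fintype.prod_sum (fun i (y : Fˣ) => Ψ (y : F) * c (Fin.succ i) y), Finset.sum_mul_sum]
    calc
      _ = ∑ y : Fˣ, ∑ w : Fin N → Fˣ, d w * Ψ ((y : F) * (1 + ∑ i, (w i : F))) := by
        refine Finset.sum_congr rfl fun y _ => ?_
        refine (Fintype.sum_equiv (Equiv.piCongrRight fun _ : Fin N => Equiv.mulLeft y) _ _ fun w => ?_).symm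
        rw [Finset.prod_mul_distrib]
        have e1 : ∏ i : Fin N, c i.succ (y * w i) = (∏ i : Fin N, c i.succ y) * d w := by
          rw [← Finset.prod_mul_distrib]
          exact Finset.prod_congr rfl fun i _ => by simp [c]
        have e2 : Ψ ((y : F) * (1 + ∑ i, (w i : F))) =
            Ψ (y : F) * ∏ i : Fin N, Ψ ((y * w i : Fˣ) : F) := by
          have hsum : ∀ (t : Finset (Fin N)) (g : Fin N → F), Ψ (∑ i ∈ t, g i) = ∏ i ∈ t, Ψ (g i) := by
            intro t g
            induction t using Finset.induction_on with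
            | empty => simp
            | insert a t ha ih => rw [Finset.sum_insert ha, Finset.prod_insert ha, AddChar.map_add_eq_mul, ih]
          rw [mul_add, mul_one, AddChar.map_add_eq_mul, Finset.mul_sum, hsum]
          rfl
        have e3 : c 0 y * ∏ i : Fin N, c i.succ y = 1 :=
          (Fin.prod_univ_succ (fun i => c i y)).symm.trans (hc y)
        simp only [Equiv.piCongrRight_apply, Equiv.coe_mulLeft, Pi.map_apply]
        rw [e1, e2]
        calc d w * (Ψ (y : F) * ∏ i : Fin N, Ψ ((y * w i : Fˣ) : F))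
            = (c 0 y * ∏ i : Fin N, c i.succ y) *
                (d w * (Ψ (y : F) * ∏ i : Fin N, Ψ ((y * w i : Fˣ) : F))) := by rw [e3, one_mul]
          _ = _ := by ring
      _ = ∑ w : Fin N → Fˣ, d w * ((if 1 + ∑ i, (w i : F) = 0 then (Fintype.card F : R) else 0) - 1) := by
        rw [Finset.sum_comm]
        exact Finset.sum_congr rfl fun w _ => by rw [← Finset.mul_sum, hS]
      _ = _ := by
        simp only [mul_sub, mul_one, Finset.sum_sub_distrib, hd, sub_zero, Finset.sum_filter, Finset.mul_sum]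
        refine Finset.sum_congr rfl fun w _ => ?_
        by_cases h : ∑ i, ((w i : Fˣ) : F) = -1
        · rw [if_pos h, if_pos (by rw [h, add_neg_cancel]), mul_comm]
        · simp [if_neg h, if_neg (fun h' => h (eq_neg_of_add_eq_zero_right h'))]
  have hsign : ((-1 : R)) ^ (N + 1) = (-1) ^ (N - 1) := by
    obtain ⟨M, rfl⟩ := Nat.exists_eq_add_of_le hN
    rw [show 1 + M + 1 = (1 + M - 1) + 2 by omega, pow_add]
    simp
  simp only [hG, Finset.prod_neg, Finset.card_univ, Fintype.card_fin, key, hsign]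
  ring

end Groth.Agent.S3129
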