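import Groth.Statements.S3131
import Groth.Agent.ProperLA12.Main
-- import your own Groth.Agent.* helpers here

set_option autoImplicit false
universe u
open CategoryTheory CategoryTheory.Limits AlgebraicGeometry
open SGA4h

namespace Groth.Agent.S3131

/-- Let f : X -> S be proper with S noetherian, n invertible on S and F a constructible abelian sheaf on
X killed by n such that every R^i f_* F is locally constant (equivalently finite locally constant,
these sheaves being constructible by finiteness for proper morphisms). Let T be a closed subscheme
of X, i : T -> X its closed immersion, with T finite over S such that f is locally acyclic relative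
to F at every point outside the image of T. Then f is locally acyclic relative to F. -/
theorem result {X S T : Scheme.{u}} [IsNoetherian S] (f : X ⟶ S) [IsProper f]
    (n : ℕ) (hn : IsUnit (n : Γ(S, ⊤))) (F : EtCoh.Ab X) (hF : EtPBC.IsConstructible F) (hFn : EtCoh.KilledBy n F)
    (hlc : ∀ i : ℕ, EtCoh.IsFiniteLocallyConstant ((EtCoh.Rpush f i).obj F))
    (i : T ⟶ X) [IsClosedImmersion i] [IsFinite (i ≫ f)]
    (hla : ∀ x : X, x ∉ Set.range i.base → SGA4h.IsLARelAt f F x) : SGA4h.IsLARel f F := by
  intro x
  have hn0 : n ≠ 0 := ProperLA12.ne_zero_of_isUnit_of_point n hn (f.base x)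
  exact ProperLA12.isLARel (EtModAb.isTorsion_of_killedBy' (Nat.pos_of_ne_zero hn0) hFn)
    (fun j => ProperLA12.isLocallyConstant_of_finite (hlc j)) i hla x

end Groth.Agent.S3131
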