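import Groth.Statements.S3133
-- import your own Groth.Agent.* helpers here

set_option autoImplicit false
open Polynomial
open SGA4h

namespace Groth.Agent.S3133

/-- Let A be a square matrix over a commutative ring and n ≥ 1, and let B be the matrix on n blocks of
the endomorphism (x_1, …, x_n) ↦ (A x_n, x_1, …, x_{n-1}). Then det(1 − B·T) = det(1 − A·Tⁿ), i.e.
the reverse characteristic polynomial of B is that of A expanded by n. -/
theorem result (R : Type) [CommRing R] (m : Type) [Fintype m] [DecidableEq m]
    (A : Matrix m m R) (n : ℕ) (hn : 1 ≤ n) :
    (Matrix.of fun (p q : Fin n × m) =>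
        if p.1.val = 0 then (if q.1.val = n - 1 then A p.2 q.2 else 0)
        else (if q.1.val + 1 = p.1.val ∧ p.2 = q.2 then 1 else 0)).charpolyRev =
      Polynomial.expand R n A.charpolyRev := by
  classical
  set B : Matrix (Fin n × m) (Fin n × m) R := Matrix.of fun (p q : Fin n × m) =>
        if p.1.val = 0 then (if q.1.val = n - 1 then A p.2 q.2 else 0)
        else (if q.1.val + 1 = p.1.val ∧ p.2 = q.2 then 1 else 0) with hB
  let U : Matrix (Fin n × m) (Fin n × m) R[X] := Matrix.of fun p q =>
    if q.1.val ≤ p.1.val ∧ p.2 = q.2 then X ^ (p.1.val - q.1.val) else 0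
  let T : Matrix (Fin n × m) (Fin n × m) R[X] := Matrix.of fun p q =>
    if p.1.val = 0 then (if q.1.val = 0 ∧ p.2 = q.2 then 1 else 0) - X ^ (n - q.1.val) * C (A p.2 q.2)
    else if p = q then 1 else 0
  -- `(1 - X B) U = T`
  have hMU : (1 - (X : R[X]) • B.map C) * U = T := by
    ext1 p q
    obtain ⟨p, i⟩ := p
    obtain ⟨q, j⟩ := q
    rw [sub_mul, one_mul, Matrix.smul_mul, Matrix.sub_apply, Matrix.smul_apply, Matrix.mul_apply,
      Fintype.sum_prod_type, smul_eq_mul]
    simp only [B, U, T, Matrix.map_apply, Matrix.of_apply]
    by_cases hp : p.val = 0
    · simp only [hp, if_true]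
      rw [Finset.sum_eq_single (⟨n - 1, by omega⟩ : Fin n)]
      · rw [Finset.sum_eq_single j]
        · have hq : q.val ≤ n - 1 := by omega
          have e1 : n - q.val = (n - 1 - q.val) + 1 := by omega
          simp only [hq, if_true, and_self, e1, pow_succ]
          have e2 : q.val ≤ 0 ↔ q.val = 0 := Nat.le_zero
          simp only [e2]
          by_cases h : q.val = 0 ∧ i = j
          · simp only [h, and_self, if_true, Nat.sub_zero, pow_zero]
            ring
          · simp only [h, if_false]
            ring
        · intro k _ hk
          simp [hk]
        · simp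
      · intro k _ hk
        have : ¬ k.val = n - 1 := fun h => hk (Fin.ext h)
        simp [this]
      · simp
    · simp only [hp, if_false]
      rw [Finset.sum_eq_single (⟨p.val - 1, by omega⟩ : Fin n)]
      · rw [Finset.sum_eq_single i]
        · have e0 : p.val - 1 + 1 = p.val := by omega
          simp only [e0, and_self, if_true, map_one, one_mul]
          by_cases hij : i = j
          · subst hij
            simp only [and_true]
            rcases lt_trichotomy q.val p.val with h | h | h
            · have h' : q.val ≤ p.val - 1 := by omega
              have e3 : p.val - q.val = (p.val - 1 - q.val) + 1 := by omega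
              have hne : ¬ (p, i) = (q, i) := fun e => by
                simp only [Prod.mk.injEq, and_true] at e; omega
              simp only [h.le, h', if_true, hne, if_false, e3, pow_succ]
              ring
            · have hh : ¬ q.val ≤ p.val - 1 := by omega
              have : p = q := Fin.ext h.symm
              subst this
              simp [hh]
            · have h' : ¬ q.val ≤ p.val := by omega
              have h'' : ¬ q.val ≤ p.val - 1 := by omega
              have hne : ¬ (p, i) = (q, i) := fun e => by
                simp only [Prod.mk.injEq, and_true] at e; omega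
              simp [h', h'', hne]
          · simp [hij]
        · intro k _ hk
          simp [Ne.symm hk]
        · simp
      · intro k _ hk
        have : ¬ k.val + 1 = p.val := fun h => hk (Fin.ext (by simp only; omega))
        simp [this]
      · simp
  have hU : U.det = 1 := by
    have ht : Matrix.BlockTriangular U (OrderDual.toDual ∘ (Prod.fst : Fin n × m → Fin n)) := by
      intro p q h
      have : ¬ q.1.val ≤ p.1.val := not_le.2 h
      simp only [U, Matrix.of_apply]
      exact if_neg fun h1 => this h1.1
    rw [ht.det_fintype]
    refine Finset.prod_eq_one fun k _ => ?_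
    have : U.toSquareBlock (OrderDual.toDual ∘ Prod.fst) k = 1 := by
      ext1 ⟨⟨p, i⟩, hp⟩ ⟨⟨q, j⟩, hq⟩
      have hpq : p = q := OrderDual.toDual.injective (hp.trans hq.symm)
      subst hpq
      by_cases hij : i = j <;> simp [Matrix.toSquareBlock_def, U, hij, Matrix.one_apply]
    rw [this, Matrix.det_one]
  have hTt : Matrix.BlockTriangular T (Prod.fst : Fin n × m → Fin n) := by
    intro p q h
    have h' : q.1.val < p.1.val := h
    have hne : ¬ p = q := fun e => by subst e; omega
    have : ¬ p.1.val = 0 := by omega
    simp [T, this, hne]
  have hblock : ∀ k : Fin n, (T.toSquareBlock Prod.fst k).det =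
      if k.val = 0 then Polynomial.expand R n A.charpolyRev else 1 := by
    intro k
    let e : m ≃ {p : Fin n × m // p.1 = k} :=
      { toFun := fun i => ⟨(k, i), rfl⟩
        invFun := fun p => p.1.2
        left_inv := fun i => rfl
        right_inv := fun p => Subtype.ext (Prod.ext p.2.symm rfl) }
    rw [← Matrix.det_submatrix_equiv_self e]
    by_cases hk : k.val = 0
    · rw [if_pos hk, Matrix.charpolyRev, AlgHom.map_det]
      congr 1
      ext1 i j
      simp [Matrix.toSquareBlock_def, T, e, hk, Matrix.one_apply, AlgHom.mapMatrix_apply,
        apply_ite (Polynomial.expand R n)]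
    · rw [if_neg hk]
      have : (T.toSquareBlock Prod.fst k).submatrix e e = 1 := by
        ext1 i j
        simp [Matrix.toSquareBlock_def, T, e, hk, Matrix.one_apply]
      rw [this, Matrix.det_one]
  calc B.charpolyRev = T.det := by rw [← hMU, Matrix.det_mul, hU, mul_one]; rfl
    _ = ∏ k : Fin n, (if k.val = 0 then Polynomial.expand R n A.charpolyRev else 1) := by
      rw [hTt.det_fintype]; exact Finset.prod_congr rfl fun k _ => hblock k
    _ = _ := by
      rw [Finset.prod_eq_single (⟨0, hn⟩ : Fin n)]
      · simp
      · intro k _ hk
        exact if_neg (fun h => hk (Fin.ext h))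
      · simp

end Groth.Agent.S3133
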