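import Groth.Statements.S3134
-- import your own Groth.Agent.* helpers here

set_option autoImplicit false
open Polynomial
open SGA4h

namespace Groth.Agent.S3134

open scoped Matrix in
/-- Jacobi's formula for polynomial matrices -/
theorem derivative_det {R : Type} [CommRing R] {m : Type} [Fintype m] [DecidableEq m]
    (M : Matrix m m R[X]) :
    Polynomial.derivative M.det = (M.adjugate * M.map Polynomial.derivative).trace := by
  have h1 : ∀ i, (M.adjugate * M.map Polynomial.derivative) i i =
      (M.updateCol i (fun j => Polynomial.derivative (M j i))).det := by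
    intro i
    rw [← Matrix.cramer_apply, Matrix.cramer_eq_adjugate_mulVec]
    rfl
  simp only [Matrix.trace, Matrix.diag, h1, Matrix.det_apply]
  rw [Finset.sum_comm, map_sum]
  refine Finset.sum_congr rfl fun σ _ => ?_
  rw [Units.smul_def, map_zsmul, Polynomial.derivative_prod_finset, Finset.smul_sum]
  refine Finset.sum_congr rfl fun i _ => ?_
  rw [Units.smul_def]
  congr 1
  rw [← Finset.mul_prod_erase Finset.univ _ (Finset.mem_univ i), Matrix.updateCol_self, mul_comm]
  congr 1
  refine Finset.prod_congr rfl fun j hj => ?_
  rw [Matrix.updateCol_ne (Finset.ne_of_mem_erase hj)]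


/-- For a square matrix A over a commutative ring, with P(T) = det(1 − A·T), one has −T·P′(T) = P(T) ·
Σ_{n ≥ 1} Tr(Aⁿ) Tⁿ as formal power series (equivalently T d/dT log P(T)⁻¹ = Σ_{n≥1} Tr(Aⁿ) Tⁿ). -/
theorem result (R : Type) [CommRing R] (m : Type) [Fintype m] [DecidableEq m]
    (A : Matrix m m R) :
    ((-(X * Polynomial.derivative A.charpolyRev) : R[X]) : PowerSeries R) =
      (A.charpolyRev : PowerSeries R) * PowerSeries.mk (fun n => if n = 0 then 0 else (A ^ n).trace) := by
  classical
  let ι : R[X] →+* PowerSeries R := Polynomial.coeToPowerSeries.ringHom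
  let M : Matrix m m R[X] := 1 - (X : R[X]) • A.map Polynomial.C
  let N : Matrix m m (PowerSeries R) :=
    Matrix.of fun i j => PowerSeries.mk fun n => (A ^ (n + 1)) i j
  have hMι : M.map ι = 1 - (PowerSeries.X : PowerSeries R) • A.map PowerSeries.C := by
    ext1 i j
    by_cases h : i = j <;>
      simp [M, ι, h, Matrix.one_apply, Polynomial.coeToPowerSeries.ringHom_apply] <;> exact mul_comm _ _
  have hMN : M.map ι * N = A.map PowerSeries.C := by
    rw [hMι, sub_mul, one_mul, Matrix.smul_mul]
    ext1 i j
    ext n
    simp only [Matrix.sub_apply, Matrix.smul_apply, Matrix.mul_apply, Matrix.map_apply, N,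
      Matrix.of_apply, smul_eq_mul, map_sub, PowerSeries.coeff_C]
    rcases n with _ | n
    · simp
    · rw [PowerSeries.coeff_succ_X_mul, map_sum]
      simp only [PowerSeries.coeff_C_mul, PowerSeries.coeff_mk, Nat.succ_ne_zero, if_false]
      rw [pow_succ' A (n + 1), Matrix.mul_apply, sub_self]
  have hder : M.map Polynomial.derivative = -(A.map Polynomial.C) := by
    ext1 i j
    by_cases h : i = j <;> simp [M, h, Matrix.one_apply]
  have hkey : ι (-(Polynomial.derivative A.charpolyRev)) = ι A.charpolyRev * N.trace := by
    have : Polynomial.derivative A.charpolyRev = -(M.adjugate * A.map Polynomial.C).trace := by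
      rw [show A.charpolyRev = M.det from rfl, derivative_det M, hder, Matrix.mul_neg, Matrix.trace_neg]
    rw [this, neg_neg]
    refine (AddMonoidHom.map_trace ι.toAddMonoidHom _).trans ?_
    have hA : (A.map Polynomial.C).map ι = A.map PowerSeries.C := by
      ext1 i j; simp [ι]
    change ((M.adjugate * A.map Polynomial.C).map ι).trace = _
    rw [Matrix.map_mul, ← RingHom.mapMatrix_apply, RingHom.map_adjugate, RingHom.mapMatrix_apply, hA,
      ← hMN, ← Matrix.mul_assoc, Matrix.adjugate_mul, Matrix.smul_mul, one_mul, Matrix.trace_smul,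
      smul_eq_mul]
    congr 1
    exact (RingHom.map_det ι M).symm
  have hlhs : ((-(X * Polynomial.derivative A.charpolyRev) : R[X]) : PowerSeries R) =
      PowerSeries.X * ι (-(Polynomial.derivative A.charpolyRev)) := by
    rw [← Polynomial.coe_X, ← mul_neg]
    exact Polynomial.coe_mul _ _
  rw [hlhs, hkey, mul_left_comm]
  congr 1
  ext n
  rcases n with _ | n
  · simp
  · simp [N, Matrix.trace, PowerSeries.coeff_succ_X_mul]

end Groth.Agent.S3134
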