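import Groth.Statements.S3139
import Mathlib.Algebra.Homology.DerivedCategory.KProjective
import Mathlib.Algebra.Category.ModuleCat.Projective
import Groth.Agent.CharSer12.Cone

set_option autoImplicit false
universe u
open CategoryTheory
attribute [local instance] HasDerivedCategory.standard
open SGA4h

namespace Groth.Agent.S3139

/-- Let A be a commutative ring, K and K' bounded cochain complexes of finite free A-modules with
endomorphisms u and u', and suppose (K, u) and (K', u') are isomorphic in the derived category D(A):
there is an isomorphism K ≅ K' in D(A) intertwining the images of u and u'. Then det(1 - u t, K) =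
det(1 - u' t, K'), where det(1 - u t, K) = ∏ᵢ det(1 - u t, Kⁱ)^{(-1)^i}; the equality is stated
cross-multiplied, as ∏_{i even} det(1 - u t, Kⁱ) · ∏_{i odd} det(1 - u' t, K'ⁱ) = ∏_{i odd} det(1 -
u t, Kⁱ) · ∏_{i even} det(1 - u' t, K'ⁱ) in A[t]. (The source works with finite projective modules;
finite free is the special case stated here.) -/
theorem result (A : Type u) [CommRing A]
    (K K' : CochainComplex (ModuleCat.{u} A) ℤ) (a b : ℤ) [K.IsStrictlyGE a] [K.IsStrictlyLE b] [K'.IsStrictlyGE a] [K'.IsStrictlyLE b]
    (hK : ∀ i : ℤ, Module.Finite A (K.X i) ∧ Module.Free A (K.X i)) (hK' : ∀ i : ℤ, Module.Finite A (K'.X i) ∧ Module.Free A (K'.X i))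
    (u : K ⟶ K) (u' : K' ⟶ K') (φ : DerivedCategory.Q.obj K ≅ DerivedCategory.Q.obj K')
    (hφ : DerivedCategory.Q.map u ≫ φ.hom = φ.hom ≫ DerivedCategory.Q.map u') :
    SGA4h.detEven K u * SGA4h.detOdd K' u' = SGA4h.detOdd K u * SGA4h.detEven K' u' := by
  haveI : ∀ n, Projective (K.X n) := fun n => by
    haveI := (hK n).2
    exact ModuleCat.projective_of_free (Module.Free.chooseBasis A (K.X n))
  haveI : K.IsKProjective := CochainComplex.isKProjective_of_projective K b
  let e := DerivedCategory.quotientCompQhIso (ModuleCat.{u} A)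
  obtain ⟨g, hg⟩ := (CochainComplex.IsKProjective.Qh_map_bijective K _).surjective
    (e.hom.app K ≫ φ.hom ≫ e.inv.app K')
  obtain ⟨h, rfl⟩ := (HomotopyCategory.quotient _ _).map_surjective g
  have hQ : DerivedCategory.Q.map h = φ.hom := by
    rw [← cancel_epi (e.hom.app K)]
    refine (DerivedCategory.quotientCompQhIso_hom_naturality h).symm.trans ?_
    rw [hg, Category.assoc, Category.assoc]
    simp [e]
  haveI : QuasiIso h := by
    rw [← DerivedCategory.isIso_Q_map_iff_quasiIso, hQ]
    infer_instance
  refine CharSer12.invariant_of_quasiIso (h := h) a b hK hK'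
    (HomotopyCategory.homotopyOfEq _ _
      ((CochainComplex.IsKProjective.Qh_map_bijective K _).injective ?_))
  rw [← cancel_mono (e.hom.app K')]
  refine (DerivedCategory.quotientCompQhIso_hom_naturality _).trans
    (Eq.trans ?_ (DerivedCategory.quotientCompQhIso_hom_naturality _).symm)
  rw [Functor.map_comp, Functor.map_comp, hQ, hφ]

end Groth.Agent.S3139
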