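import Groth.Statements.S3140
import Groth.Agent.RegExch.Basic
import Mathlib.Data.List.Chain

set_option autoImplicit false
universe u
open RingTheory.Sequence
open SGA4h

namespace Groth.Agent.S3140

open IsLocalRing

variable {A : Type u} [CommRing A] [IsLocalRing A]

private def Good (J : Ideal A) (w : List A) : Prop := IsWeaklyRegular A w ∧ Ideal.ofList w = J

private def Step (J : Ideal A) (w w' : List A) : Prop :=
  (w.Perm w' ∨ (w.length = w'.length ∧ w.dropLast = w'.dropLast)) ∧ Good J w'

private theorem last_not_mem {l : List A} {r : A} (h : IsWeaklyRegular A (l ++ [r]))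
    (hl : ∀ a ∈ l, a ∈ maximalIdeal A) : r ∉ Ideal.ofList l := by
  intro hr
  rw [isWeaklyRegular_append_iff, isWeaklyRegular_singleton_iff] at h
  have hle : Ideal.ofList l ≤ maximalIdeal A := Ideal.span_le.2 hl
  let one : A ⧸ (Ideal.ofList l • ⊤ : Submodule A A) := Submodule.Quotient.mk 1
  have h0 : r • one = r • (0 : A ⧸ (Ideal.ofList l • ⊤ : Submodule A A)) := by
    rw [smul_zero, ← Submodule.Quotient.mk_smul, Submodule.Quotient.mk_eq_zero]
    exact Submodule.smul_mem_smul hr Submodule.mem_top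
  have h1 : (1 : A) ∈ (Ideal.ofList l • ⊤ : Submodule A A) :=
    (Submodule.Quotient.mk_eq_zero _).1 (h.2 h0)
  simp only [smul_eq_mul, Ideal.mul_top] at h1
  exact (maximalIdeal.isMaximal A).ne_top ((Ideal.eq_top_iff_one _).2 (hle h1))

variable [IsNoetherianRing A]

private theorem exchangeSteps {J : Ideal A} (hJ : J ≤ maximalIdeal A) {xs rest : List A} {x : A}
    (h : Good J (xs ++ rest)) (hx : x ∈ J) (hx' : x ∉ Ideal.ofList xs ⊔ maximalIdeal A * J) :
    ∃ rest' : List A, rest'.length + 1 = rest.length ∧ Good J (xs ++ x :: rest') ∧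
      Relation.ReflTransGen (Step J) (xs ++ rest) (xs ++ x :: rest') := by
  obtain ⟨h, hspan⟩ := h
  have hx₀ := hx
  rw [← hspan, Ideal.ofList_append] at hx
  obtain ⟨y, hy, z, hz, rfl⟩ := Submodule.mem_sup.1 hx
  obtain ⟨l₁, r, l₂, c, rfl, hc, hmem⟩ := RegExch.exists_unit_coeff rest z
    (fun a ha => hspan ▸ RegExch.mem_ofList_of_mem (List.mem_append_right _ ha)) hz
    (fun h' => hx' (Submodule.add_mem_sup hy h'))
  have p1 : (xs ++ (l₁ ++ r :: l₂)).Perm ((xs ++ (l₁ ++ l₂)) ++ [r]) :=
    (List.Perm.append_left xs List.perm_middle).trans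
      (List.perm_middle.trans (List.perm_append_singleton r (xs ++ (l₁ ++ l₂))).symm)
  have hsub : ∀ a ∈ xs ++ (l₁ ++ r :: l₂), a ∈ maximalIdeal A := fun a ha =>
    hJ (hspan ▸ RegExch.mem_ofList_of_mem ha)
  have g1 : Good J ((xs ++ (l₁ ++ l₂)) ++ [r]) :=
    ⟨isWeaklyRegular_of_perm_of_subset_maximalIdeal h p1 hsub, (RegExch.ofList_perm p1).symm.trans hspan⟩
  obtain ⟨hw, he⟩ := RegExch.replace_last (x := y + z) hc (by
      rw [Ideal.ofList_append, add_sub_assoc]
      exact Submodule.add_mem_sup hy hmem) g1.1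
  have g2 : Good J ((xs ++ (l₁ ++ l₂)) ++ [y + z]) := ⟨hw, he.trans g1.2⟩
  have p2 : ((xs ++ (l₁ ++ l₂)) ++ [y + z]).Perm (xs ++ (y + z) :: (l₁ ++ l₂)) :=
    (List.perm_append_singleton (y + z) (xs ++ (l₁ ++ l₂))).trans List.perm_middle.symm
  have g3 : Good J (xs ++ (y + z) :: (l₁ ++ l₂)) :=
    ⟨isWeaklyRegular_of_perm_of_subset_maximalIdeal hw p2
      (fun a ha => hJ (g2.2 ▸ RegExch.mem_ofList_of_mem ha)), (RegExch.ofList_perm p2).symm.trans g2.2⟩
  exact ⟨l₁ ++ l₂, by simp; omega, g3,
    ((Relation.ReflTransGen.single ⟨Or.inl p1, g1⟩).tail ⟨Or.inr ⟨by simp, by simp⟩, g2⟩).tail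
      ⟨Or.inl p2, g3⟩⟩

private theorem reach {J : Ideal A} (hJ : J ≤ maximalIdeal A) : ∀ (post pre rest : List A),
    Good J (pre ++ post) → Good J (pre ++ rest) →
    Relation.ReflTransGen (Step J) (pre ++ rest) (pre ++ post) := by
  intro post
  induction post with
  | nil =>
    intro pre rest hv hw
    rcases rest with _ | ⟨r, t⟩
    · exact .refl
    · exfalso
      rw [List.append_nil] at hv
      have h2 : IsWeaklyRegular A ((pre ++ [r]) ++ t) := by simpa using hw.1
      refine last_not_mem ((isWeaklyRegular_append_iff A _ _).1 h2).1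
        (fun a ha => hJ (hv.2 ▸ RegExch.mem_ofList_of_mem ha)) ?_
      exact hv.2.symm ▸ hw.2 ▸ RegExch.mem_ofList_of_mem (List.mem_append_right _ List.mem_cons_self)
  | cons x t ih =>
    intro pre rest hv hw
    have hsub : ∀ a ∈ pre ++ x :: t, a ∈ maximalIdeal A := fun a ha =>
      hJ (hv.2 ▸ RegExch.mem_ofList_of_mem ha)
    have hp : (pre ++ x :: t).Perm ((pre ++ t) ++ [x]) :=
      List.perm_middle.trans (List.perm_append_singleton x (pre ++ t)).symm
    have hxJ : x ∈ J := hv.2 ▸ RegExch.mem_ofList_of_mem (List.mem_append_right _ List.mem_cons_self)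
    have hx' : x ∉ Ideal.ofList pre ⊔ maximalIdeal A * J := by
      intro hx
      refine last_not_mem (isWeaklyRegular_of_perm_of_subset_maximalIdeal hv.1 hp hsub)
        (fun a ha => hsub a (hp.symm.subset (List.mem_append_left _ ha))) ?_
      have hle : J ≤ Ideal.ofList (pre ++ t) := by
        refine Submodule.le_of_le_smul_of_le_jacobson_bot J.fg_of_isNoetherianRing
          (maximalIdeal_le_jacobson ⊥) ?_
        conv_lhs => rw [← hv.2, RegExch.ofList_perm hp]
        rw [Ideal.ofList_append, Ideal.ofList_singleton, smul_eq_mul]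
        refine sup_le le_sup_left ((Ideal.span_singleton_le_iff_mem _).2 ?_)
        exact (sup_le_sup_right (le_trans le_sup_left (Ideal.ofList_append pre t).ge) _) hx
      exact hle hxJ
    obtain ⟨rest', -, hg, hsteps⟩ := exchangeSteps hJ hw hxJ hx'
    have e : ∀ l : List A, pre ++ x :: l = (pre ++ [x]) ++ l := fun l => by simp
    rw [e] at hv hg hsteps ⊢
    exact hsteps.trans (ih (pre ++ [x]) rest' hv hg)

/-- Let A be a Noetherian local ring and u, v two regular sequences of elements of A generating the same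
ideal. Then there is a finite chain of regular sequences generating that same ideal, starting at u
and ending at v, in which each sequence is obtained from the previous one either by a permutation or
by changing only its last element. -/
theorem result (A : Type u) [CommRing A] [IsLocalRing A] [IsNoetherianRing A]
    (u v : List A) (hu : IsRegular A u) (hv : IsRegular A v) (huv : Ideal.span {x | x ∈ u} = Ideal.span {x | x ∈ v}) :
    ∃ ws : List (List A), ws.head? = some u ∧ ws.getLast? = some v ∧
      (∀ w ∈ ws, IsRegular A w ∧ Ideal.span {x | x ∈ w} = Ideal.span {x | x ∈ u}) ∧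
      List.IsChain (fun w w' : List A => w.Perm w' ∨ (w.length = w'.length ∧ w.dropLast = w'.dropLast)) ws := by
  have hJ : Ideal.ofList u ≤ IsLocalRing.maximalIdeal A := by
    refine IsLocalRing.le_maximalIdeal fun h => hu.top_ne_smul ?_
    rw [h, Submodule.top_smul]
  have hgu : Good (Ideal.ofList u) u := ⟨hu.toIsWeaklyRegular, rfl⟩
  have hgv : Good (Ideal.ofList u) v := ⟨hv.toIsWeaklyRegular, huv.symm⟩
  obtain ⟨l, hl, hlast⟩ := List.exists_isChain_cons_of_relationReflTransGen (reach hJ v [] u hgv hgu)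
  refine ⟨u :: l, rfl, by rw [List.getLast?_eq_some_getLast (List.cons_ne_nil _ _)]; exact congrArg some hlast, ?_, hl.imp fun _ _ h => h.1⟩
  have key : ∀ w ∈ u :: l, Good (Ideal.ofList u) w :=
    hl.induction _ (u :: l) (fun _ _ h _ => h.2) (fun _ => hgu)
  intro w hw
  refine ⟨⟨(key w hw).1, ?_⟩, (key w hw).2⟩
  rw [(key w hw).2]
  exact hu.top_ne_smul

end Groth.Agent.S3140
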