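import Groth.Statements.S3142
import Groth.Agent.Semipurity.Main
-- import your own Groth.Agent.* helpers here

set_option autoImplicit false
universe u
open CategoryTheory CategoryTheory.Limits AlgebraicGeometry Opposite
open EtDual

namespace Groth.Agent.S3142

/-- Let X be a Noetherian separated scheme, n an integer invertible on X, j : U ⟶ X an open immersion
with closed complement Y, and c a natural number. If the local cohomology sheaves H^p_Y(X, ℤ/n)
vanish for all p < 2c, then the local cohomology group H^{2c}_Y(X, ℤ/n(c)) is isomorphic to the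
group of global sections of the local cohomology sheaf H^{2c}_Y(X, ℤ/n(c)). (The source's
isomorphism is the edge map of the spectral sequence H^p(Y, R^q i^!) ⇒ H^{p+q}_Y; here only the
existence of an isomorphism is asserted.) -/
theorem result {X U : Scheme.{u}} [IsNoetherian X] [X.IsSeparated] (j : U ⟶ X) [IsOpenImmersion j] [EtCoh.BCCont j]
    (n : ℕ) (hn : IsUnit (n : Γ(X, ⊤))) (c : ℕ) (h : ∀ p : ℕ, p < 2 * c → IsZero ((EtDual.locCoh j p).obj (EtCoh.const X (ZMod n)))) :
    Nonempty ((EtDual.HY j (2 * c)).obj (EtDual.tate X n c) ≅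
      ((EtDual.locCoh j (2 * c)).obj (EtDual.tate X n c)).obj.obj (op (EtCoh.top X))) := by
  by_cases hn0 : n = 0
  · haveI : IsEmpty X := Semipurity.isEmpty_of_isUnit_zero (hn0 ▸ hn)
    haveI : (EtDual.HY j (2 * c)).Additive := by delta EtDual.HY; infer_instance
    haveI : (EtDual.locCoh j (2 * c)).Additive := by delta EtDual.locCoh; infer_instance
    have hz : IsZero (EtDual.tate X n c) := Semipurity.isZero_of_isEmpty _
    exact ⟨((EtDual.HY j (2 * c)).map_isZero hz).iso
      ((Semipurity.evalAt (EtCoh.top X)).map_isZero ((EtDual.locCoh j (2 * c)).map_isZero hz))⟩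
  haveI : NeZero n := ⟨hn0⟩
  exact Semipurity.nonempty_HY_iso_sections j (EtDual.tate X n c) (2 * c)
    fun p hp => Semipurity.isZero_locCoh_tate j n hn c p (h p hp)

end Groth.Agent.S3142
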