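import Groth.Statements.S3143
import Groth.Agent.Semipurity.Main
-- import your own Groth.Agent.* helpers here

set_option autoImplicit false
universe u
open CategoryTheory CategoryTheory.Limits AlgebraicGeometry Opposite
open EtDual

namespace Groth.Agent.S3143

/-- Let X be a Noetherian separated scheme, n a natural number invertible on X, c a natural number, Y ⊆
X a closed subset with open complement j : U → X, and Z ⊆ Y a closed subset of X with open
complement k' : X' → X, so that U ⊆ X' through an open immersion j' : U → X' with k' ∘ j' = j, and V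
= Y ∩ X' is closed in X' with complement U. If the local cohomology sheaves H^p_Z(ℤ/n) on X vanish
for all p ≤ 2c + 1, then H^{2c}_Y(X, ℤ/n(c)) and H^{2c}_V(X', ℤ/n(c)) are isomorphic. Only the
existence of an isomorphism is asserted; the published statement is that the restriction map is an
isomorphism (and that it is injective under vanishing for p ≤ 2c only). -/
theorem result {X X' U : Scheme.{u}} [IsNoetherian X] [X.IsSeparated]
    (n : ℕ) (hn : IsUnit (n : Γ(X, ⊤))) (c : ℕ)
    (j : U ⟶ X) [IsOpenImmersion j] (k' : X' ⟶ X) [IsOpenImmersion k'] (j' : U ⟶ X') [IsOpenImmersion j']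
    (hfac : j' ≫ k' = j) [EtCoh.BCCont j] [EtCoh.BCCont k'] [EtCoh.BCCont j']
    (hZ : ∀ p : ℕ, p ≤ 2 * c + 1 → IsZero ((EtDual.locCoh k' p).obj (EtCoh.const X (ZMod n)))) :
    Nonempty ((EtDual.HY j (2 * c)).obj (EtDual.tate X n c) ≅ (EtDual.HY j' (2 * c)).obj (EtDual.tate X' n c)) := by
  by_cases hn0 : n = 0
  · haveI : IsEmpty X := Semipurity.isEmpty_of_isUnit_zero (hn0 ▸ hn)
    haveI : IsEmpty X' := Function.isEmpty k'.base
    haveI : (EtDual.HY j (2 * c)).Additive := by delta EtDual.HY; infer_instance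
    haveI : (EtDual.HY j' (2 * c)).Additive := by delta EtDual.HY; infer_instance
    exact ⟨((EtDual.HY j (2 * c)).map_isZero (Semipurity.isZero_of_isEmpty (EtDual.tate X n c))).iso
      ((EtDual.HY j' (2 * c)).map_isZero (Semipurity.isZero_of_isEmpty (EtDual.tate X' n c)))⟩
  haveI : NeZero n := ⟨hn0⟩
  have happ : ∀ u : U, k'.base (j'.base u) = j.base u := fun u =>
    (Scheme.Hom.comp_apply j' k' u).symm.trans (congrArg (fun f : U ⟶ X => f.base u) hfac)
  have hU : Set.range j.base ⊆ Set.range k'.base := by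
    rintro _ ⟨u, rfl⟩
    exact ⟨j'.base u, happ u⟩
  have hU' : Set.range j'.base = k'.base ⁻¹' Set.range j.base := by
    ext x
    exact ⟨fun ⟨u, hu⟩ => ⟨u, (happ u).symm.trans (congrArg k'.base hu)⟩,
      fun ⟨u, hu⟩ => ⟨u, k'.isOpenEmbedding.injective ((happ u).trans hu)⟩⟩
  haveI := EtFound.jCont k'
  obtain ⟨a⟩ := Semipurity.nonempty_rightDerived_iso_off j k' hU (EtDual.tate X n c) (2 * c)
    fun p hp => Semipurity.isZero_locCoh_tate k' n hn c p (hZ p hp)
  obtain ⟨b⟩ := Semipurity.nonempty_suppC_iso j k' j' hU' (EtDual.tate X n c) (2 * c)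
  obtain ⟨t⟩ := Semipurity.nonempty_restr_tate_iso k' n c
  exact ⟨a ≪≫ b ≪≫ (EtDual.HY j' (2 * c)).mapIso t⟩

end Groth.Agent.S3143
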