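import Groth.Statements.S3198
import Groth.Agent.H28.FibGen
import Groth.Agent.H28.KvbLam
-- import your own Groth.Agent.* helpers here

set_option autoImplicit false
universe u
open CategoryTheory CategoryTheory.Limits AlgebraicGeometry
attribute [local instance] HasDerivedCategory.standard
open SGA6

namespace Groth.Agent.S3198

/-- Let f : X ⟶ S be a flat morphism of Noetherian schemes such that for every point s of S the map ℤ ⟶
K₀(Coh X_s), k ↦ k·[O_{X_s}], is bijective. Pullback along f is exact (instance hypotheses) and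
preserves coherence (hypothesis hf); the induced homomorphism f^* : K₀(Coh S) ⟶ K₀(Coh X) is
surjective. (The source adds that f^* is bijective when f has a section of finite tor-dimension.) -/
theorem result {X S : Scheme.{u}} [IsNoetherian X] [IsNoetherian S] (f : X ⟶ S) [Flat f]
    [(Scheme.Modules.pullback f).Additive] [PreservesFiniteLimits (Scheme.Modules.pullback f)] [PreservesFiniteColimits (Scheme.Modules.pullback f)]
    (hf : ∀ M : S.Modules, Coh.IsCoh M → Coh.IsCoh ((Scheme.Modules.pullback f).obj M))
    (hfib : ∀ s : S, Function.Bijective (fun k : ℤ => k • KZero.clSub (fun M : (f.fiber s).Modules => Coh.IsCoh M) (Coh.structureModule (f.fiber s)))) :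
    Function.Surjective (SGA6.mapSub (Scheme.Modules.pullback f) (fun M : (S).Modules => Coh.IsCoh M) (fun M : (X).Modules => Coh.IsCoh M) hf) := by
  intro y
  have htop : (SGA6.mapSub (Scheme.Modules.pullback f) (fun M : (S).Modules => Coh.IsCoh M)
      (fun M : (X).Modules => Coh.IsCoh M) hf).range = ⊤ := by
    refine Groth.Agent.H28.FibGen.eq_top f (fun _ : Fin 1 => Coh.structureModule X)
      (fun _ => Groth.Agent.H28.KvbLam.lf_O) _ (fun i N hN => ⟨KZero.clSub _ N, ?_⟩) (fun s => ?_)
    · exact (Groth.Agent.H28.GenBasis.mapSub_clSub _ _ _ hf hN).trans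
        (Groth.Agent.H28.PBCohPush.clc_iso (Groth.Agent.KFlatLib.structureTensorIso _).symm (hf N hN)
          (Groth.Agent.CurveTensor.isCoh_tensor (Groth.Agent.H28.KvbLam.lf_O) (hf N hN)))
    · refine eq_top_iff.2 fun z _ => ?_
      obtain ⟨k, rfl⟩ := (hfib s).2 z
      refine AddSubgroup.zsmul_mem _ (AddSubgroup.subset_closure (Set.mem_range.2 ⟨0, ?_⟩)) k
      obtain ⟨e⟩ := Groth.Agent.PicClLib.nonempty_pullback_structureModule (f.fiberι s)
      haveI : IsLocallyNoetherian (f.fiber s) := Groth.Agent.AssTensor5.isLocallyNoetherian_fiber f s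
      exact Groth.Agent.H28.PBCohPush.clc_iso e
        (Groth.Agent.ZClosLib.isCoh_pullback _ (Groth.Agent.QCoh.isCoh_structureModule')) Groth.Agent.QCoh.isCoh_structureModule'
  obtain ⟨x, hx⟩ := htop.ge (AddSubgroup.mem_top y)
  exact ⟨x, hx⟩

end Groth.Agent.S3198
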