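import Groth.Statements.S3199
import Groth.Agent.H28.BlowKperf
-- import your own Groth.Agent.* helpers here

set_option autoImplicit false
universe u
open CategoryTheory CategoryTheory.Limits AlgebraicGeometry
attribute [local instance] HasDerivedCategory.standard
open SGA6

namespace Groth.Agent.S3199

/-- Let X be a Noetherian scheme with an ample invertible module, i : Y ⟶ X a regular closed immersion
with Y regular, f : X' ⟶ X the blow-up of X along Y and j : Y' ⟶ X' the closed immersion of Y' = X'
×_X Y. On K^• = K₀ of perfect complexes, let j_* be induced by the exact direct image along j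
(exactness as instance hypotheses; it carries perfect complexes to perfect complexes — hypothesis
hj) and f^* by the derived pullback Lf^* (assumed to exist, with its triangulated structure as
instance hypotheses; it preserves perfect complexes — hypothesis hf). Then the map (y', x) ↦ j_*(y')
+ f^*(x) from K^•(Y') × K^•(X) to K^•(X') is surjective. (The full published statement is an exact
sequence 0 → K^•(Y) → K^•(Y') × K^•(X) → K^•(X') → 0 whose first map involves λ-operations; only
surjectivity of the last map is asserted here.) -/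
theorem result {X Y X' Y' : Scheme.{u}} [IsNoetherian X]
    (L : X.Modules) (hL : CohB1.IsAmple L)
    (i : Y ⟶ X) (hi : Mor2.IsRegularClosedImmersion i) (hYreg : ∀ y : Y, IsRegularLocalRing (Y.presheaf.stalk y))
    (f : X' ⟶ X) (hf₀ : BlowUp.IsBlowUp f i.ker) (j : Y' ⟶ X') (g : Y' ⟶ Y) [IsClosedImmersion j] (hsq : IsPullback j g f i)
    [(Scheme.Modules.pushforward j).Additive] [PreservesFiniteLimits (Scheme.Modules.pushforward j)] [PreservesFiniteColimits (Scheme.Modules.pushforward j)]
    (hj : ∀ K : DCoh.D Y', DCoh.IsPerfect K → DCoh.IsPerfect ((Scheme.Modules.pushforward j).mapDerivedCategory.obj K))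
    [DCoh.HasLpull f] [(DCoh.Lpull f).CommShift ℤ] [(DCoh.Lpull f).IsTriangulated]
    (hf : ∀ K : DCoh.D X, DCoh.IsPerfect K → DCoh.IsPerfect ((DCoh.Lpull f).obj K)) :
    Function.Surjective (fun p : SGA6.Kperf Y' × SGA6.Kperf X =>
      SGA6.mapTr ((Scheme.Modules.pushforward j).mapDerivedCategory) (SGA6.perfP Y') (SGA6.perfP X') hj p.1 +
      SGA6.mapTr (DCoh.Lpull f) (SGA6.perfP X) (SGA6.perfP X') hf p.2) := by
  intro z
  have h := Groth.Agent.H28.BlowKperf.surjective L hL i hi hYreg f hf₀ j g hsq hj hf
  obtain ⟨a, ⟨y, rfl⟩, b, ⟨x, rfl⟩, hab⟩ := AddSubgroup.mem_sup.1 (h.ge (AddSubgroup.mem_top z))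
  exact ⟨(y, x), hab⟩

end Groth.Agent.S3199
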