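import Groth.Statements.S3205
import Groth.Agent.H28.KvbLam
-- import your own Groth.Agent.* helpers here

set_option autoImplicit false
universe u
open CategoryTheory CategoryTheory.Limits AlgebraicGeometry
attribute [local instance] HasDerivedCategory.standard
open SGA6

namespace Groth.Agent.S3205

/-- Let X be a scheme and 0 → E' → E → E'' → 0 a short exact sequence of finite locally free
O_X-modules. Let L'_i, L_n, L''_j be finite locally free exterior powers of E', E, E'' (in the sense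
of the affine-local predicate ExtPow.IsExtPow). Then in K₀ of finite locally free modules, [L_n] =
Σ_{i=0}^{n} [L'_i ⊗ L''_{n-i}] for every n. (The source constructs a filtration of Λⁿ E with
successive quotients Λ^i E' ⊗ Λ^{n-i} E''; the equality of classes is its consequence in K₀.) -/
theorem result (X : Scheme.{u}) (S : ShortComplex X.Modules) (hS : S.ShortExact)
    (h₁ : FlatMod.IsFinLocFree S.X₁) (h₂ : FlatMod.IsFinLocFree S.X₂) (h₃ : FlatMod.IsFinLocFree S.X₃)
    (L' L L'' : ℕ → X.Modules)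
    (hL' : ∀ i, FlatMod.IsFinLocFree (L' i) ∧ ExtPow.IsExtPow i S.X₁ (L' i))
    (hL : ∀ i, FlatMod.IsFinLocFree (L i) ∧ ExtPow.IsExtPow i S.X₂ (L i))
    (hL'' : ∀ i, FlatMod.IsFinLocFree (L'' i) ∧ ExtPow.IsExtPow i S.X₃ (L'' i)) (n : ℕ) :
    KZero.clSub (fun M : X.Modules => FlatMod.IsFinLocFree M) (L n) =
      ∑ i ∈ Finset.range (n + 1), KZero.clSub (fun M : X.Modules => FlatMod.IsFinLocFree M) (((DCoh.tensorBi (X := X)).obj (L' i)).obj (L'' (n - i))) := by
  have hiso : ∀ {M W : X.Modules} {m : ℕ}, FlatMod.IsFinLocFree M → ExtPow.IsExtPow m M W →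
      Nonempty (Groth.Agent.H28.ExtBase.L M m ≅ W) := fun hM hW => Groth.Agent.H28.ExtSh.nonempty_iso_L hM hW
  obtain ⟨e⟩ := hiso h₂ (hL n).2
  refine (Groth.Agent.H28.KvbLam.cl_iso e (Groth.Agent.H28.ExtSh.isFinLocFree_L n h₂)).symm.trans ?_
  refine (Groth.Agent.H28.ExtFil.cl_extension hS h₁ h₃ n).trans (Finset.sum_congr rfl fun i _ => ?_)
  obtain ⟨e₁⟩ := hiso h₁ (hL' i).2
  obtain ⟨e₃⟩ := hiso h₃ (hL'' (n - i)).2
  exact Groth.Agent.H28.KvbLam.cl_iso ((DCoh.tensorBi.mapIso e₁).app _ ≪≫ (DCoh.tensorBi.obj (L' i)).mapIso e₃)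
    (Groth.Agent.H28.KvbLam.lf_tens (Groth.Agent.H28.ExtSh.isFinLocFree_L i h₁)
      (Groth.Agent.H28.ExtSh.isFinLocFree_L (n - i) h₃))

end Groth.Agent.S3205
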