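import Groth.Statements.S3206
import Mathlib
-- import your own Groth.Agent.* helpers here

set_option autoImplicit false
open SGA7

namespace Groth.Agent.S3206

section Morse

open MvPowerSeries Finsupp

variable {k : Type} [Field k] {n : ℕ}

/-- all coefficients in degree `< d` vanish -/
def Hi (d : ℕ) (g : MvPowerSeries (Fin n) k) : Prop :=
  ∀ m : Fin n →₀ ℕ, m.degree < d → coeff m g = 0

lemma Hi.zero (d : ℕ) : Hi d (0 : MvPowerSeries (Fin n) k) := fun m _ => coeff_zero m

lemma Hi.mono {d d' : ℕ} {g : MvPowerSeries (Fin n) k} (h : Hi d g) (hd : d' ≤ d) : Hi d' g :=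
  fun m hm => h m (lt_of_lt_of_le hm hd)

lemma Hi.add {d : ℕ} {f g : MvPowerSeries (Fin n) k} (hf : Hi d f) (hg : Hi d g) : Hi d (f + g) :=
  fun m hm => by rw [map_add, hf m hm, hg m hm, add_zero]

lemma Hi.sub {d : ℕ} {f g : MvPowerSeries (Fin n) k} (hf : Hi d f) (hg : Hi d g) : Hi d (f - g) :=
  fun m hm => by rw [map_sub, hf m hm, hg m hm, sub_zero]

lemma Hi.sum {ι : Type} (s : Finset ι) {d : ℕ} {f : ι → MvPowerSeries (Fin n) k}
    (hf : ∀ i ∈ s, Hi d (f i)) : Hi d (∑ i ∈ s, f i) := fun m hm => by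
  rw [map_sum]
  exact Finset.sum_eq_zero fun i hi => hf i hi m hm

lemma Hi.mul {a b : ℕ} {f g : MvPowerSeries (Fin n) k} (hf : Hi a f) (hg : Hi b g) :
    Hi (a + b) (f * g) := by
  classical
  intro m hm
  rw [coeff_mul]
  refine Finset.sum_eq_zero ?_
  rintro ⟨p, q⟩ hpq
  rw [Finset.HasAntidiagonal.mem_antidiagonal] at hpq
  replace hpq : p + q = m := hpq
  rw [← hpq, map_add] at hm
  show coeff p f * coeff q g = 0
  rcases lt_or_ge p.degree a with hp | hp
  · rw [hf p hp, zero_mul]
  · rw [hg q (by omega), mul_zero]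

lemma Hi.C_mul {d : ℕ} {g : MvPowerSeries (Fin n) k} (hg : Hi d g) (r : k) : Hi d (C r * g) :=
  fun m hm => by rw [coeff_C_mul, hg m hm, mul_zero]

/-- division by the variable `X j`, in the lexicographic splitting -/
noncomputable def D (j : Fin n) (h : MvPowerSeries (Fin n) k) : MvPowerSeries (Fin n) k :=
  fun m => if ∀ i, i < j → m i = 0 then coeff (m + single j 1) h else 0

lemma coeff_D (j : Fin n) (h : MvPowerSeries (Fin n) k) (m : Fin n →₀ ℕ) :
    coeff m (D j h) = if ∀ i, i < j → m i = 0 then coeff (m + single j 1) h else 0 := rfl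

lemma D_sub (j : Fin n) (g h : MvPowerSeries (Fin n) k) : D j (g - h) = D j g - D j h := by
  refine MvPowerSeries.ext fun m => ?_
  rw [map_sub, coeff_D, coeff_D, coeff_D, map_sub]
  split_ifs <;> simp

lemma Hi.D {d : ℕ} {h : MvPowerSeries (Fin n) k} (hh : Hi (d + 1) h) (j : Fin n) :
    Hi d (Groth.Agent.S3206.D j h) := by
  intro m hm
  rw [coeff_D]
  split_ifs
  · exact hh _ (by rw [map_add, degree_single]; omega)
  · rfl

lemma eq_sum_X_mul_D (h : MvPowerSeries (Fin n) k) (h0 : coeff 0 h = 0) :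
    h = ∑ j, X j * D j h := by
  classical
  refine MvPowerSeries.ext fun m => ?_
  rw [map_sum]
  have key : ∀ j, coeff m (X j * D j h) =
      if 1 ≤ m j ∧ ∀ i, i < j → m i = 0 then coeff m h else 0 := by
    intro j
    rw [X_def, coeff_monomial_mul, one_mul]
    have hle : single j 1 ≤ m ↔ 1 ≤ m j := single_le_iff
    by_cases hj : 1 ≤ m j
    · rw [if_pos (hle.2 hj), coeff_D, tsub_add_cancel_of_le (hle.2 hj)]
      refine if_congr ?_ rfl rfl
      refine ⟨fun H => ⟨hj, fun i hi => ?_⟩, fun H i hi => ?_⟩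
      · have := H i hi
        rwa [tsub_apply, single_apply, if_neg hi.ne', tsub_zero] at this
      · rw [tsub_apply, single_apply, if_neg hi.ne', tsub_zero]; exact H.2 i hi
    · rw [if_neg (mt hle.1 hj), if_neg (fun H => hj H.1)]
  simp only [key]
  by_cases hm : m = 0
  · subst hm
    simp [h0]
  · have hs : m.support.Nonempty := support_nonempty_iff.2 hm
    let j0 := m.support.min' hs
    have hj0 : m j0 ≠ 0 := mem_support_iff.1 (m.support.min'_mem hs)
    have hmin : ∀ i, i < j0 → m i = 0 := fun i hi => by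
      by_contra H
      exact absurd (m.support.min'_le i (mem_support_iff.2 H)) (not_le.2 hi)
    rw [Finset.sum_eq_single j0]
    · rw [if_pos ⟨Nat.one_le_iff_ne_zero.2 hj0, hmin⟩]
    · intro j _ hj
      rw [if_neg]
      rintro ⟨hj1, hj2⟩
      rcases lt_or_gt_of_ne hj with H | H
      · exact absurd (hmin j H) (by omega)
      · exact hj0 (hj2 j0 H)
    · simp

/-- the quadratic form with coefficient matrix `a` evaluated at `v` -/
noncomputable def Q (a : Fin n → Fin n → k) (v : Fin n → MvPowerSeries (Fin n) k) :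
    MvPowerSeries (Fin n) k := ∑ x, ∑ y, C (a x y) * v x * v y

lemma Q_add (a : Fin n → Fin n → k) (v w : Fin n → MvPowerSeries (Fin n) k) :
    Q a (fun i => v i + w i) =
      Q a v + ∑ l, w l * (∑ y, C (a l y + a y l) * v y) + Q a w := by
  have h1 : ∀ x y, C (a x y) * (v x + w x) * (v y + w y) =
      C (a x y) * v x * v y + w x * (C (a x y) * v y) + w y * (C (a x y) * v x)
        + C (a x y) * w x * w y := fun x y => by ring
  have h2 : ∀ l y, w l * (C (a l y + a y l) * v y) =
      w l * (C (a l y) * v y) + w l * (C (a y l) * v y) := fun l y => by rw [map_add]; ring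
  simp only [Q, h1, Finset.mul_sum, h2, Finset.sum_add_distrib]
  rw [Finset.sum_comm (f := fun x y => w y * (C (a x y) * v x))]
  abel

lemma Q_Hi (a : Fin n → Fin n → k) {d : ℕ} {v : Fin n → MvPowerSeries (Fin n) k}
    (hv : ∀ i, Hi d (v i)) : Hi (d + d) (Q a v) := by
  refine Hi.sum _ fun x _ => Hi.sum _ fun y _ => ?_
  rw [mul_assoc]
  exact ((hv x).mul (hv y)).C_mul _

lemma Q_sub_Hi (a : Fin n → Fin n → k) {e d : ℕ} {v w : Fin n → MvPowerSeries (Fin n) k}
    (hv : ∀ i, Hi e (v i)) (hw : ∀ i, Hi e (w i)) (hd : ∀ i, Hi d (v i - w i)) :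
    Hi (d + e) (Q a v - Q a w) := by
  have : Q a v - Q a w =
      ∑ x, ∑ y, C (a x y) * ((v x - w x) * v y + (v y - w y) * w x) := by
    simp only [Q, ← Finset.sum_sub_distrib]
    refine Finset.sum_congr rfl fun x _ => Finset.sum_congr rfl fun y _ => ?_
    ring
  rw [this]
  exact Hi.sum _ fun x _ => Hi.sum _ fun y _ => (((hd x).mul (hv y)).add ((hd y).mul (hw x))).C_mul _

/-- the linear change `η ↦ ε` -/
noncomputable def Lc (c : Fin n → Fin n → k) (η : Fin n → MvPowerSeries (Fin n) k) (l : Fin n) :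
    MvPowerSeries (Fin n) k := ∑ j, C (c j l) * η j

lemma Lc_Hi (c : Fin n → Fin n → k) {d : ℕ} {η : Fin n → MvPowerSeries (Fin n) k}
    (h : ∀ i, Hi d (η i)) (l : Fin n) : Hi d (Lc c η l) :=
  Hi.sum _ fun j _ => (h j).C_mul _

lemma Lc_sub_Hi (c : Fin n → Fin n → k) {d : ℕ} {η η' : Fin n → MvPowerSeries (Fin n) k}
    (h : ∀ i, Hi d (η i - η' i)) (l : Fin n) : Hi d (Lc c η l - Lc c η' l) := by
  simp only [Lc, ← Finset.sum_sub_distrib, ← mul_sub]
  exact Hi.sum _ fun j _ => (h j).C_mul _

section Fix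

variable (a c : Fin n → Fin n → k) (h : MvPowerSeries (Fin n) k)

noncomputable def F (η : Fin n → MvPowerSeries (Fin n) k) (j : Fin n) : MvPowerSeries (Fin n) k :=
  D j (h - Q a (Lc c η))

lemma F_Hi (hh : Hi 3 h) {η : Fin n → MvPowerSeries (Fin n) k} (hη : ∀ i, Hi 2 (η i)) (j : Fin n) :
    Hi 2 (F a c h η j) :=
  (hh.sub ((Q_Hi a (Lc_Hi c hη)).mono (by norm_num))).D j

lemma F_sub_Hi {d : ℕ} {η η' : Fin n → MvPowerSeries (Fin n) k} (hη : ∀ i, Hi 2 (η i))
    (hη' : ∀ i, Hi 2 (η' i)) (hd : ∀ i, Hi d (η i - η' i)) (j : Fin n) :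
    Hi (d + 1) (F a c h η j - F a c h η' j) := by
  rw [F, F, ← D_sub, sub_sub_sub_cancel_left]
  refine Hi.D ?_ j
  refine Hi.mono (Q_sub_Hi a (e := 2) (d := d) (Lc_Hi c hη') (Lc_Hi c hη) ?_) (by omega)
  exact Lc_sub_Hi c fun i m hm => by rw [← neg_sub, map_neg, hd i m hm, neg_zero]

noncomputable def seq : ℕ → Fin n → MvPowerSeries (Fin n) k
  | 0 => 0
  | i + 1 => F a c h (seq i)

lemma seq_Hi (hh : Hi 3 h) : ∀ i j, Hi 2 (seq a c h i j)
  | 0 => fun _ => Hi.zero 2
  | i + 1 => F_Hi a c h hh (seq_Hi hh i)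

lemma seq_step (hh : Hi 3 h) : ∀ i j, Hi (i + 2) (seq a c h (i + 1) j - seq a c h i j)
  | 0 => fun j => (seq_Hi a c h hh 1 j).sub (Hi.zero 2)
  | i + 1 => F_sub_Hi a c h (seq_Hi a c h hh (i + 1)) (seq_Hi a c h hh i) (seq_step hh i)

lemma seq_stable (hh : Hi 3 h) (j : Fin n) (m : Fin n →₀ ℕ) :
    ∀ i, m.degree ≤ i + 1 → coeff m (seq a c h i j) = coeff m (seq a c h (m.degree - 1) j) := by
  intro i hi
  have hle : m.degree - 1 ≤ i := by omega
  clear hi
  induction i, hle using Nat.le_induction with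
  | base => rfl
  | succ i hi ih =>
    have := seq_step a c h hh i j m (by omega)
    rw [map_sub, sub_eq_zero] at this
    rw [this, ih]

lemma exists_fix (hh : Hi 3 h) :
    ∃ η : Fin n → MvPowerSeries (Fin n) k, (∀ i, Hi 2 (η i)) ∧ ∀ j, η j = F a c h η j := by
  let η : Fin n → MvPowerSeries (Fin n) k := fun j m => coeff m (seq a c h (m.degree - 1) j)
  have hclose : ∀ i j, Hi (i + 2) (η j - seq a c h i j) := by
    intro i j m hm
    rw [map_sub, seq_stable a c h hh j m i (by omega)]
    exact sub_self _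
  have hη : ∀ j, Hi 2 (η j) := fun j m hm => seq_Hi a c h hh (m.degree - 1) j m hm
  refine ⟨η, hη, fun j => MvPowerSeries.ext fun m => ?_⟩
  have h1 := F_sub_Hi a c h hη (seq_Hi a c h hh m.degree) (hclose m.degree) j m (by omega)
  have h2 := hclose (m.degree + 1) j m (by omega)
  rw [map_sub, sub_eq_zero] at h1 h2
  rw [h1, h2]
  rfl

end Fix

lemma coeff_single_mul (p g : MvPowerSeries (Fin n) k) (hg : coeff 0 g = 0) (b : Fin n) :
    coeff (single b 1) (p * g) = constantCoeff p * coeff (single b 1) g := by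
  classical
  rw [coeff_mul, Finset.sum_eq_single ((0 : Fin n →₀ ℕ), single b 1)]
  · simp
  · rintro ⟨u, v⟩ huv hne
    rw [Finset.HasAntidiagonal.mem_antidiagonal] at huv
    replace huv : u + v = single b 1 := huv
    show coeff u p * coeff v g = 0
    have hv : v = 0 := by
      have hd := congrArg Finsupp.degree huv
      rw [map_add, degree_single] at hd
      by_contra hv
      have hv' : v.degree ≠ 0 := fun H => hv ((degree_eq_zero_iff v).1 H)
      have hu : u = 0 := (degree_eq_zero_iff u).1 (by omega)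
      subst hu
      rw [zero_add] at huv
      exact hne (by rw [huv])
    rw [hv, hg, mul_zero]
  · intro H
    exact absurd (Finset.HasAntidiagonal.mem_antidiagonal.2 (zero_add _)) H

lemma pair_inj {i j x y : Fin n} (hij : i ≤ j) (hxy : x ≤ y)
    (h : single i 1 + single j 1 = single x 1 + single y (1 : ℕ)) : i = x ∧ j = y := by
  have e1 := DFunLike.congr_fun h i
  have e2 := DFunLike.congr_fun h x
  have e3 := DFunLike.congr_fun h j
  simp only [Finsupp.add_apply, single_apply] at e1 e2 e3
  constructor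
  · split_ifs at e1 e2 e3 <;> omega
  · split_ifs at e1 e2 e3 <;> omega

lemma main (f : MvPowerSeries (Fin n) k) (hf0 : MvPowerSeries.constantCoeff f = 0)
    (hJ : Ideal.span (Set.range fun i : Fin n => MvPowerSeries.pderiv k i f) =
      IsLocalRing.maximalIdeal (MvPowerSeries (Fin n) k)) :
    ∃ (ε : Fin n → MvPowerSeries (Fin n) k) (a : Fin n → Fin n → k),
      (∀ i, Hi 2 (ε i)) ∧ f = Q a (fun i => X i + ε i) := by
  classical
  have hpd0 : ∀ i, coeff 0 (pderiv k i f) = 0 := by
    intro i
    have hmem : pderiv k i f ∈ IsLocalRing.maximalIdeal (MvPowerSeries (Fin n) k) :=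
      hJ ▸ Ideal.subset_span ⟨i, rfl⟩
    rw [IsLocalRing.mem_maximalIdeal, mem_nonunits_iff, isUnit_iff_constantCoeff,
      isUnit_iff_ne_zero, not_not] at hmem
    simpa using hmem
  have hlin : ∀ i, coeff (single i 1) f = 0 := fun i => by
    simpa [coeff_pderiv] using hpd0 i
  let a : Fin n → Fin n → k := fun x y => if x ≤ y then coeff (single x 1 + single y 1) f else 0
  have hM : ∀ i b, coeff (single b 1) (pderiv k i f) = a i b + a b i := by
    intro i b
    rw [coeff_pderiv]
    rcases lt_trichotomy i b with H | H | H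
    · simp [a, H.le, not_le.2 H, single_apply, H.ne', add_comm]
    · subst H
      simp [a, mul_add, mul_one, add_comm]
      try ring
    · simp [a, H.le, not_le.2 H, single_apply, H.ne]
  have hc : ∀ j, ∃ p : Fin n → MvPowerSeries (Fin n) k,
      ∑ i, p i * pderiv k i f = X j := by
    intro j
    rw [← Ideal.mem_span_range_iff_exists_fun, hJ, IsLocalRing.mem_maximalIdeal, mem_nonunits_iff,
      isUnit_iff_constantCoeff, constantCoeff_X]
    exact not_isUnit_zero
  choose p hp using hc
  let c : Fin n → Fin n → k := fun j i => constantCoeff (p j i)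
  have hinv : ∀ j, ∑ l, C (c j l) * (∑ y, C (a l y + a y l) * X y) =
      (X j : MvPowerSeries (Fin n) k) := by
    intro j
    have hb : ∀ b, ∑ l, c j l * (a l b + a b l) = if b = j then 1 else 0 := by
      intro b
      have := congrArg (coeff (single b 1)) (hp j)
      rw [map_sum, coeff_index_single_X] at this
      rw [← this]
      refine Finset.sum_congr rfl fun l _ => ?_
      rw [coeff_single_mul _ _ (hpd0 l), hM]
    simp only [Finset.mul_sum, ← mul_assoc, ← map_mul]
    rw [Finset.sum_comm]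
    simp only [← Finset.sum_mul, ← map_sum, hb]
    rw [Finset.sum_eq_single j]
    · simp
    · intro b _ hbj; simp [hbj]
    · simp
  have hh : Hi 3 (f - Q a X) := by
    intro m hm
    have hQ : ∀ x y, coeff m (C (a x y) * X x * X y) =
        if m = single x 1 + single y 1 then a x y else 0 := by
      intro x y
      rw [mul_assoc, coeff_C_mul, X_def, X_def, monomial_mul_monomial, coeff_monomial, one_mul]
      split_ifs <;> simp
    have hdeg : ∀ x y : Fin n, (single x 1 + single y (1 : ℕ)).degree = 2 := fun x y => by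
      rw [map_add, degree_single, degree_single]
    simp only [map_sub, Q, map_sum, hQ]
    rcases (by omega : m.degree = 0 ∨ m.degree = 1 ∨ m.degree = 2) with H | H | H
    · obtain rfl := (degree_eq_zero_iff m).1 H
      rw [Finset.sum_eq_zero fun x _ => Finset.sum_eq_zero fun y _ => if_neg ?_, sub_zero]
      · simpa using hf0
      · intro E; have := congrArg Finsupp.degree E; rw [hdeg, H] at this; omega
    · obtain ⟨b, rfl⟩ := (Finsupp.sum_eq_one_iff m).1 (by rw [← H, Finsupp.degree_apply]; rfl)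
      rw [Finset.sum_eq_zero fun x _ => Finset.sum_eq_zero fun y _ => if_neg ?_, sub_zero, hlin]
      intro E; have := congrArg Finsupp.degree E; rw [hdeg, H] at this; omega
    · have hm0 : m ≠ 0 := by rintro rfl; simp at H
      let x0 := m.support.min' (support_nonempty_iff.2 hm0)
      have hx0 : m x0 ≠ 0 := mem_support_iff.1 (Finset.min'_mem _ _)
      have hle : single x0 1 ≤ m := single_le_iff.2 (Nat.one_le_iff_ne_zero.2 hx0)
      have hdec : m - single x0 1 + single x0 1 = m := tsub_add_cancel_of_le hle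
      have hd1 : (m - single x0 1).degree = 1 := by
        have := congrArg Finsupp.degree hdec
        rw [map_add, degree_single, H] at this
        omega
      obtain ⟨y0, hy0⟩ := (Finsupp.sum_eq_one_iff _).1 (by rw [← hd1, Finsupp.degree_apply]; rfl)
      have hm2 : m = single x0 1 + single y0 1 := by rw [← hdec, hy0, add_comm]
      have hxy : x0 ≤ y0 := Finset.min'_le _ _ (mem_support_iff.2 (by rw [hm2]; simp))
      rw [Finset.sum_eq_single x0, Finset.sum_eq_single y0]
      · rw [if_pos hm2]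
        simp only [a, if_pos hxy, ← hm2]
        exact sub_self _
      · intro y _ hy
        split_ifs with E
        · simp only [a]
          split_ifs with hle'
          · exact absurd (pair_inj hxy hle' (hm2.symm.trans E)).2.symm hy
          · rfl
        · rfl
      · simp
      · intro x _ hx
        refine Finset.sum_eq_zero fun y _ => ?_
        split_ifs with E
        · simp only [a]
          split_ifs with hle'
          · exact absurd (pair_inj hxy hle' (hm2.symm.trans E)).1.symm hx
          · rfl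
        · rfl
      · simp
  obtain ⟨η, hη, hfix⟩ := exists_fix a c (f - Q a X) hh
  refine ⟨Lc c η, a, Lc_Hi c hη, ?_⟩
  rw [Q_add]
  have h1 : ∑ l, Lc c η l * (∑ y, C (a l y + a y l) * X y) = ∑ j, X j * η j := by
    simp only [Lc, Finset.sum_mul]
    rw [Finset.sum_comm]
    refine Finset.sum_congr rfl fun j _ => ?_
    rw [← hinv j, Finset.sum_mul]
    exact Finset.sum_congr rfl fun l _ => by ring
  have h2 := eq_sum_X_mul_D (f - Q a X - Q a (Lc c η)) (by
    rw [map_sub, hh 0 (by simp), (Q_Hi a (Lc_Hi c hη)) 0 (by simp), sub_zero])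
  rw [h1, show ∑ j, X j * η j = f - Q a X - Q a (Lc c η) from ?_]
  · ring
  · rw [h2]
    exact Finset.sum_congr rfl fun j _ => by rw [hfix j]; rfl

end Morse

/-- Let k be a field and f a formal power series in n variables over k without constant term whose
partial derivatives ∂f/∂x_1, …, ∂f/∂x_n generate the maximal ideal of k[[x_1, …, x_n]]. Then there
are power series ε_1, …, ε_n with no terms of degree < 2 and a quadratic form q such that f = q(x_1
+ ε_1, …, x_n + ε_n). -/
theorem result (k : Type) [Field k] (n : ℕ) (f : MvPowerSeries (Fin n) k)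
    (hf0 : MvPowerSeries.constantCoeff f = 0)
    (hJ : Ideal.span (Set.range fun i : Fin n => MvPowerSeries.pderiv k i f) = IsLocalRing.maximalIdeal (MvPowerSeries (Fin n) k)) :
    ∃ (ε : Fin n → MvPowerSeries (Fin n) k) (_ : ∀ i (m : Fin n →₀ ℕ), m.degree < 2 → MvPowerSeries.coeff m (ε i) = 0)
      (q : MvPolynomial (Fin n) k) (_ : q.IsHomogeneous 2)
      (_ : MvPowerSeries.HasSubst (fun i : Fin n => MvPowerSeries.X i + ε i)),
      f = MvPowerSeries.subst (fun i : Fin n => MvPowerSeries.X i + ε i) (q : MvPowerSeries (Fin n) k) := by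
  obtain ⟨ε, a, hε, hf⟩ := main f hf0 hJ
  refine ⟨ε, hε, ∑ x, ∑ y, MvPolynomial.C (a x y) * MvPolynomial.X x * MvPolynomial.X y, ?_, ?_, ?_⟩
  · refine MvPolynomial.IsHomogeneous.sum _ _ _ fun x _ => MvPolynomial.IsHomogeneous.sum _ _ _ fun y _ => ?_
    exact (((MvPolynomial.isHomogeneous_C _ (a x y)).mul (MvPolynomial.isHomogeneous_X k x)).mul
      (MvPolynomial.isHomogeneous_X k y))
  · refine MvPowerSeries.hasSubst_of_constantCoeff_zero fun i => ?_
    simpa using hε i 0 (by simp)
  · rw [MvPowerSeries.subst_coe]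
    simpa [Q, map_sum, MvPowerSeries.algebraMap_apply] using hf

end Groth.Agent.S3206
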