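import Groth.Statements.S3208
import Mathlib.LinearAlgebra.FreeModule.PID
import Mathlib.Algebra.EuclideanDomain.Int
import Mathlib.RingTheory.PrincipalIdealDomain
import Mathlib.LinearAlgebra.Dimension.Free
import Mathlib.Data.Nat.Choose.Dvd
import Mathlib.Data.Nat.Choose.Sum
import Mathlib.RingTheory.Coprime.Lemmas
import Mathlib.Tactic.LinearCombination
import Mathlib.Algebra.Ring.GeomSum
import Mathlib.Tactic.Ring

set_option autoImplicit false
open SGA7

namespace Groth.Agent.S3208

variable {E : Type} [CommRing E]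

theorem eq_zero_of_forall_dvd [NoZeroSMulDivisors ℤ E] [Module.Finite ℤ E] {m : ℕ} (hm : 2 ≤ m) {w : E}
    (h : ∀ j : ℕ, (m : E) ^ j ∣ w) : w = 0 := by
  have : Module.IsTorsionFree ℤ E := inferInstance
  let b := Module.Free.chooseBasis ℤ E
  refine b.forall_coord_eq_zero_iff.1 fun i => ?_
  by_contra hne
  obtain ⟨x, hx⟩ := h (b.coord i w).natAbs
  have h1 : b.coord i w = (m : ℤ) ^ (b.coord i w).natAbs * b.coord i x := by
    have : w = ((m : ℤ) ^ (b.coord i w).natAbs) • x := by
      rw [zsmul_eq_mul]; push_cast; exact hx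
    conv_lhs => rw [this]
    rw [map_zsmul, smul_eq_mul]
  have h2 := Nat.le_of_dvd (Int.natAbs_pos.2 hne)
    (Int.natAbs_dvd_natAbs.2 (Dvd.intro _ h1.symm))
  rw [Int.natAbs_pow, Int.natAbs_natCast] at h2
  exact absurd (Nat.lt_pow_self hm (n := (b.coord i w).natAbs)) (not_lt.2 h2)

theorem nat_cancel [NoZeroSMulDivisors ℤ E] {m : ℕ} (hm : m ≠ 0) {x y : E}
    (h : (m : E) * x = (m : E) * y) : x = y := by
  have : (m : ℤ) • (x - y) = 0 := by rw [zsmul_eq_mul]; push_cast; rw [mul_sub, h, sub_self]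
  rcases smul_eq_zero.1 this with h' | h'
  · exact absurd (Int.natCast_eq_zero.1 h') hm
  · exact sub_eq_zero.1 h'

theorem prime_order [NoZeroSMulDivisors ℤ E] [Module.Finite ℤ E] {q n : ℕ} (hq : q.Prime) (hn : 3 ≤ n)
    {z : E} (hz : (n : E) ∣ z) (h : (1 + z) ^ q = 1) : z = 0 := by
  have step : ∀ k : ℕ, 1 ≤ k → (n : E) ^ k ∣ z → (n : E) ^ (k + 1) ∣ z := by
    intro k hk ⟨w, hw⟩
    suffices (n : E) ∣ w by
      obtain ⟨t, rfl⟩ := this
      exact ⟨t, by rw [hw]; ring⟩
    obtain ⟨q', rfl⟩ : ∃ q', q = q' + 2 := ⟨q - 2, by have := hq.two_le; omega⟩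
    rw [add_comm (1 : E) z, add_pow, Finset.sum_range_succ, Finset.sum_range_succ'] at h
    simp only [one_pow, mul_one, pow_zero, Nat.choose_zero_right, Nat.choose_self, Nat.cast_one,
      zero_add] at h
    rw [Finset.sum_range_succ'] at h
    simp only [zero_add, pow_one, Nat.choose_one_right] at h
    let S : E := ∑ i ∈ Finset.range q', (n : E) ^ (k * i) * w ^ (i + 2) *
      (((q' + 2).choose (i + 1 + 1) / (q' + 2) : ℕ) : E)
    have hS : (∑ i ∈ Finset.range q', z ^ (i + 1 + 1) * ((q' + 2).choose (i + 1 + 1) : E)) =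
        (n : E) ^ (2 * k) * (((q' + 2 : ℕ) : E) * S) := by
      simp only [S, Finset.mul_sum]
      refine Finset.sum_congr rfl fun i hi => ?_
      have hdvd := hq.dvd_choose_self (show i + 1 + 1 ≠ 0 by omega)
        (show i + 1 + 1 < q' + 2 by have := Finset.mem_range.1 hi; omega)
      conv_lhs => rw [hw, ← Nat.mul_div_cancel' hdvd]
      rw [Nat.cast_mul]
      ring
    rw [hS, hw, mul_pow, ← pow_mul] at h
    have h1 : (((n ^ k : ℕ)) : E) * (((q' + 2 : ℕ) : E) * w + (n : E) ^ k * (((q' + 2 : ℕ) : E) * S)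
        + (n : E) ^ (k * (q' + 1)) * w ^ (q' + 2)) = ((n ^ k : ℕ) : E) * 0 := by
      push_cast at h ⊢
      linear_combination h
    have h2 := nat_cancel (pow_ne_zero _ (by omega)) h1
    obtain ⟨e, he⟩ : ∃ e, k * (q' + 1) = e + 1 := ⟨k * (q' + 1) - 1, by
      have : 1 ≤ k * (q' + 1) := Nat.mul_pos hk (by omega)
      omega⟩
    obtain ⟨k', rfl⟩ : ∃ k', k = k' + 1 := ⟨k - 1, by omega⟩
    by_cases hqn : q' + 2 ∣ n
    · obtain ⟨n', rfl⟩ := hqn
      rw [he] at h2
      have h3 : w + ((q' + 2) * n' : ℕ) ^ (k' + 1) * S + (n' : E) * ((q' + 2) * n' : ℕ) ^ e * w ^ (q' + 2) = 0 := by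
        refine nat_cancel (m := q' + 2) (by omega) ?_
        push_cast at h2 ⊢
        linear_combination h2
      by_cases he0 : e = 0
      · have hq0 : q' = 0 := by
          subst he0
          have := Nat.eq_one_of_mul_eq_one_left he
          omega
        have hn' : 2 ≤ n' := by subst hq0; omega
        subst hq0 he0
        have hk0 : k' = 0 := by omega
        subst hk0
        simp only [S, Finset.range_zero, Finset.sum_empty, mul_zero, add_zero, pow_zero, mul_one] at h3
        have : w = 0 := eq_zero_of_forall_dvd hn' fun j => by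
          induction j with
          | zero => exact ⟨w, by simp⟩
          | succ j ih =>
            obtain ⟨t, ht⟩ := ih
            exact ⟨-(t * w), by linear_combination h3 - (n' : E) * w * ht⟩
        rw [this]; exact dvd_zero _
      · obtain ⟨e', rfl⟩ : ∃ e', e = e' + 1 := ⟨e - 1, by omega⟩
        refine ⟨-((((q' + 2) * n' : ℕ) : E) ^ k' * S + (n' : E) * ((q' + 2) * n' : ℕ) ^ e' * w ^ (q' + 2)), ?_⟩
        linear_combination h3
    · obtain ⟨a, b, hab⟩ := ((Nat.isCoprime_iff_coprime.2 ((hq.coprime_iff_not_dvd).2 hqn)).map (Int.castRingHom E))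
      simp only [eq_intCast, Int.cast_natCast] at hab
      rw [he] at h2
      refine ⟨b * w - a * ((n : E) ^ k' * (((q' + 2 : ℕ) : E) * S) + (n : E) ^ e * w ^ (q' + 2)), ?_⟩
      push_cast at h2 hab ⊢
      linear_combination a * h2 - w * hab
  refine eq_zero_of_forall_dvd (m := n) (by omega) fun j => ?_
  have : ∀ j, (n : E) ^ (j + 1) ∣ z := by
    intro j
    induction j with
    | zero => simpa using hz
    | succ j ih => exact step _ (by omega) ih
  exact (pow_dvd_pow _ (Nat.le_succ j)).trans (this j)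

theorem eq_one [NoZeroSMulDivisors ℤ E] [Module.Finite ℤ E] {n : ℕ} (hn : 3 ≤ n) :
    ∀ m : ℕ, 0 < m → ∀ u : E, u ^ m = 1 → (n : E) ∣ u - 1 → u = 1 := by
  intro m
  induction m using Nat.strong_induction_on with
  | _ m ih =>
    intro hm u hu hd
    rcases eq_or_ne m 1 with rfl | h1
    · simpa using hu
    · obtain ⟨q, hq, r, rfl⟩ := Nat.exists_prime_and_dvd h1
      have hr : 0 < r := by
        rcases Nat.eq_zero_or_pos r with rfl | h
        · simp at hm
        · exact h
      refine ih r (lt_mul_of_one_lt_left hr hq.one_lt) hr u ?_ hd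
      have hz := prime_order hq hn (z := u ^ r - 1) (hd.trans (sub_one_dvd_pow_sub_one u r))
        (by rw [add_sub_cancel, ← pow_mul, mul_comm, hu])
      exact sub_eq_zero.1 hz

/-- Let E be a commutative ring which is finitely generated and torsion-free as an additive group, u an
element of E of finite multiplicative order (u^m = 1 for some m > 0), and n ≥ 2 an integer with u ≡
1 modulo nE (i.e. 1 - u = n·v for some v ∈ E). Then u² = 1, and if n ≥ 3 then u = 1. -/
theorem result (E : Type) [CommRing E] [NoZeroSMulDivisors ℤ E] [Module.Finite ℤ E] (u : E) (m : ℕ) (hm : 0 < m)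
    (hu : u ^ m = 1) (n : ℕ) (hn : 2 ≤ n) (hcong : ∃ v : E, 1 - u = (n : E) * v) :
    u ^ 2 = 1 ∧ (3 ≤ n → u = 1) := by
  obtain ⟨v, hv⟩ := hcong
  have h3 : 3 ≤ n → u = 1 := fun h =>
    eq_one h m hm u hu ⟨-v, by linear_combination -hv⟩
  refine ⟨?_, h3⟩
  rcases Nat.lt_or_ge n 3 with h | h
  · obtain rfl : n = 2 := by omega
    refine eq_one (n := 4) (by norm_num) m hm (u ^ 2) (by rw [← pow_mul, mul_comm, pow_mul, hu, one_pow]) ⟨v ^ 2 - v, ?_⟩
    have : u = 1 - 2 * v := by push_cast at hv; linear_combination -hv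
    rw [this]; push_cast; ring
  · rw [h3 h, one_pow]

end Groth.Agent.S3208
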