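import Groth.Statements.S3209
import Mathlib.LinearAlgebra.TensorProduct.RightExactness
-- import your own Groth.Agent.* helpers here

set_option autoImplicit false
universe u
open TensorProduct
open SGA7

namespace Groth.Agent.S3209

theorem map_id_apply {R S A A' : Type u} [CommRing R] [CommRing S] [CommRing A] [CommRing A']
    [Algebra R S] [Algebra R A] [Algebra R A'] (h : A →ₐ[R] A') (z : S ⊗[R] A) :
    Algebra.TensorProduct.map (AlgHom.id R S) h z = LinearMap.lTensor S h.toLinearMap z := by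
  induction z using TensorProduct.induction_on with
  | zero => simp
  | tmul a b => simp
  | add a b ha hb => simp [ha, hb]

theorem fibre_core {R S : Type u} [CommRing R] [AddCommGroup S] [Module R S]
    {J P B' C B : Type u} [AddCommGroup J] [AddCommGroup P] [AddCommGroup B'] [AddCommGroup C]
    [AddCommGroup B] [Module R J] [Module R P] [Module R B'] [Module R C] [Module R B]
    (ι : J →ₗ[R] B') (f : B' →ₗ[R] B) (g : C →ₗ[R] B) (j : J →ₗ[R] P) (p₁ : P →ₗ[R] B') (p₂ : P →ₗ[R] C)
    (hι : Function.Exact ι f) (hf : Function.Surjective f)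
    (hj : Function.Exact j p₂) (hp : Function.Surjective p₂) (hsq : f ∘ₗ p₁ = g ∘ₗ p₂) (hjι : p₁ ∘ₗ j = ι)
    (hinj : Function.Injective (ι.lTensor S)) :
    (∀ z : S ⊗[R] P, p₁.lTensor S z = 0 → p₂.lTensor S z = 0 → z = 0) ∧
    ∀ (x : S ⊗[R] B') (y : S ⊗[R] C), f.lTensor S x = g.lTensor S y →
      ∃ z, p₁.lTensor S z = x ∧ p₂.lTensor S z = y := by
  have hex := lTensor_exact S hj hp
  refine ⟨fun z h1 h2 => ?_, fun x y hxy => ?_⟩
  · obtain ⟨w, rfl⟩ := (hex z).1 h2
    rw [← LinearMap.comp_apply, ← LinearMap.lTensor_comp, hjι] at h1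
    rw [hinj (h1.trans (map_zero _).symm), map_zero]
  · obtain ⟨z, hz⟩ := LinearMap.lTensor_surjective S hp y
    have h3 : f.lTensor S (x - p₁.lTensor S z) = 0 := by
      rw [map_sub, ← LinearMap.lTensor_comp_apply, hsq, LinearMap.lTensor_comp_apply, hz, hxy, sub_self]
    obtain ⟨w, hw⟩ := (lTensor_exact S hι hf _).1 h3
    refine ⟨z + j.lTensor S w, ?_, ?_⟩
    · rw [map_add, ← LinearMap.lTensor_comp_apply, hjι, hw, add_sub_cancel]
    · rw [map_add, hz, (hex _).2 ⟨w, rfl⟩, add_zero]


/-- Let f : B' → B be a surjective map of R-algebras with kernel J, g : C → B a map of R-algebras, P =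
B' ×_B C their fibre product (the equalizer of f ∘ pr₁ and g ∘ pr₂ in B' × C) and S an R-algebra
such that S ⊗_R J → S ⊗_R B' is injective (this holds when Tor_1^R(B, S) = 0, the published
hypothesis, and in particular when S is flat). Then the canonical map S ⊗_R P → (S ⊗_R B') ×_{S ⊗_R
B} (S ⊗_R C) is bijective: it is injective, and every pair with the same image in S ⊗_R B comes from
S ⊗_R P. -/
theorem result (R B' B C S : Type u) [CommRing R] [CommRing B'] [CommRing B] [CommRing C]
    [CommRing S] [Algebra R B'] [Algebra R B] [Algebra R C] [Algebra R S]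
    (f : B' →ₐ[R] B) (hf : Function.Surjective f) (g : C →ₐ[R] B)
    (hJ : Function.Injective (LinearMap.lTensor S (LinearMap.ker f.toLinearMap).subtype)) :
    letI P := AlgHom.equalizer (f.comp (AlgHom.fst R B' C)) (g.comp (AlgHom.snd R B' C))
    letI φ₁ := Algebra.TensorProduct.map (AlgHom.id R S) ((AlgHom.fst R B' C).comp P.val)
    letI φ₂ := Algebra.TensorProduct.map (AlgHom.id R S) ((AlgHom.snd R B' C).comp P.val)
    Function.Injective (fun z : S ⊗[R] ↥P => (φ₁ z, φ₂ z)) ∧
    ∀ (x : S ⊗[R] B') (y : S ⊗[R] C),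
      Algebra.TensorProduct.map (AlgHom.id R S) f x = Algebra.TensorProduct.map (AlgHom.id R S) g y →
        ∃ z : S ⊗[R] ↥P, φ₁ z = x ∧ φ₂ z = y := by
  let P := AlgHom.equalizer (f.comp (AlgHom.fst R B' C)) (g.comp (AlgHom.snd R B' C))
  let p₁ : P →ₗ[R] B' := ((AlgHom.fst R B' C).comp P.val).toLinearMap
  let p₂ : P →ₗ[R] C := ((AlgHom.snd R B' C).comp P.val).toLinearMap
  let J := LinearMap.ker f.toLinearMap
  let j : J →ₗ[R] P :=
    { toFun := fun b => ⟨((b : B'), 0), show f (b : B') = g 0 from (LinearMap.mem_ker.1 b.2).trans (map_zero g).symm⟩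
      map_add' := fun a b => Subtype.ext (Prod.ext rfl (add_zero (0 : C)).symm)
      map_smul' := fun c a => Subtype.ext (Prod.ext rfl (smul_zero (A := C) c).symm) }
  have hj : Function.Exact j p₂ := by
    intro z
    constructor
    · intro hz
      have hz2 : (z : B' × C).2 = 0 := hz
      have h : f (z : B' × C).1 = g (z : B' × C).2 := z.2
      rw [hz2, map_zero] at h
      exact ⟨⟨(z : B' × C).1, h⟩, Subtype.ext (Prod.ext rfl hz2.symm)⟩
    · rintro ⟨b, rfl⟩; rfl
  have hp : Function.Surjective p₂ := fun c => by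
    obtain ⟨b, hb⟩ := hf (g c)
    exact ⟨⟨(b, c), hb⟩, rfl⟩
  obtain ⟨h1, h2⟩ := fibre_core (S := S) J.subtype f.toLinearMap g.toLinearMap j p₁ p₂
    (LinearMap.exact_subtype_ker_map _) hf hj hp (LinearMap.ext fun z => z.2) rfl hJ
  refine ⟨fun a b hab => ?_, fun x y hxy => ?_⟩
  · obtain ⟨e1, e2⟩ := Prod.ext_iff.1 hab
    refine sub_eq_zero.1 (h1 (a - b) ?_ ?_)
    · rw [← map_id_apply, map_sub, sub_eq_zero]; exact e1
    · rw [← map_id_apply, map_sub, sub_eq_zero]; exact e2
  · rw [map_id_apply, map_id_apply] at hxy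
    obtain ⟨z, hz1, hz2⟩ := h2 x y hxy
    exact ⟨z, (map_id_apply _ z).trans hz1, (map_id_apply _ z).trans hz2⟩

end Groth.Agent.S3209
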