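import Groth.Statements.S3213
import Groth.Agent.SGA7IILib.QLinear
-- import your own Groth.Agent.* helpers here

set_option autoImplicit false
universe u v
open SGA7II

namespace Groth.Agent.S3213

/-- Let k be a separably closed field of characteristic p > 0, q = p^r (r >= 1), V a finite-dimensional
k-vector space and phi : V -> V additive with phi(c v) = c^q phi(v). Then the additive map v |-> v -
phi(v) is surjective. -/
theorem result (k : Type u) [Field k] [IsSepClosed k] (p : ℕ) [Fact p.Prime] [CharP k p]
    (r : ℕ) (hr : 0 < r) (V : Type v) [AddCommGroup V] [Module k V] [FiniteDimensional k V] (φ : V →+ V)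
    (hφ : ∀ (c : k) (v : V), φ (c • v) = c ^ (p ^ r) • φ v) :
    Function.Surjective (fun v : V => v - φ v) := by
  obtain ⟨h0, h2⟩ := SGA7IILib.q_facts (k := k) p r hr
  exact SGA7IILib.surjective_sub h0 h2 hφ

end Groth.Agent.S3213
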