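import Groth.Statements.S3214
import Mathlib.RingTheory.Polynomial.Vieta
import Mathlib.Algebra.Polynomial.RingDivision
-- import your own Groth.Agent.* helpers here

set_option autoImplicit false
open Polynomial
universe u
open SGA7II

namespace Groth.Agent.S3214

/-- In the recursive form established in its proof: let A = Z[X_1, ..., X_a] (a >= 1), P = prod_i (T -
X_i) in A[T] and S_i the i-th elementary symmetric function. Writing a_j for the coefficient of
T^{a-1} in the remainder of T^{a-1+j} modulo P, one has a_0 = 1 and sum_{i=0}^{a} (-1)^i S_i a_{j-i}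
= 0 for every j > 0 (with a_m = 0 for m < 0); equivalently sum_j (-1)^j a_j is the inverse of sum_i
S_i. (The source works in formal power series; the identity involves only polynomials.) -/
theorem result (a : ℕ) (ha : 0 < a) :
    let P : (MvPolynomial (Fin a) ℤ)[X] := ∏ i : Fin a, (X - C (MvPolynomial.X i))
    let coef : ℤ → MvPolynomial (Fin a) ℤ := fun j =>
      if j < 0 then 0 else ((X : (MvPolynomial (Fin a) ℤ)[X]) ^ (a - 1 + j.toNat) %ₘ P).coeff (a - 1)
    coef 0 = 1 ∧ ∀ j : ℕ, 0 < j →
      (∑ i ∈ Finset.range (a + 1), (-1 : MvPolynomial (Fin a) ℤ) ^ i * MvPolynomial.esymm (Fin a) ℤ i *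
        coef ((j : ℤ) - i)) = 0 := by
  intro P coef
  have hP : P.Monic := monic_prod_of_monic _ _ fun i _ => monic_X_sub_C _
  have hdeg : P.natDegree = a := by simp [P]
  refine ⟨?_, fun j hj => ?_⟩
  · simp only [coef, lt_irrefl, if_false, Int.toNat_zero, add_zero]
    rw [(modByMonic_eq_self_iff hP).2]
    · simp
    · rw [degree_X_pow, degree_eq_natDegree hP.ne_zero, hdeg]
      exact_mod_cast (by omega : a - 1 < a)
  · have hsum : P = ∑ i ∈ Finset.range (a + 1),
        (-1 : (MvPolynomial (Fin a) ℤ)[X]) ^ i * (C (MvPolynomial.esymm (Fin a) ℤ i) * X ^ (a - i)) := by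
      have h := Multiset.prod_X_sub_X_eq_sum_esymm
        ((Finset.univ : Finset (Fin a)).val.map (fun i => (MvPolynomial.X i : MvPolynomial (Fin a) ℤ)))
      rw [Multiset.map_map, Multiset.card_map, Finset.card_val, Finset.card_univ, Fintype.card_fin] at h
      simp only [MvPolynomial.esymm_eq_multiset_esymm]
      exact h
    have h0 : (X ^ (j - 1) * P) %ₘ P = 0 :=
      (modByMonic_eq_zero_iff_dvd hP).2 (dvd_mul_left _ _)
    have h1 := congrArg (fun q : (MvPolynomial (Fin a) ℤ)[X] => (modByMonicHom P q).coeff (a - 1))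
      (congrArg (fun Q : (MvPolynomial (Fin a) ℤ)[X] => X ^ (j - 1) * Q) hsum)
    change ((X ^ (j - 1) * P) %ₘ P).coeff (a - 1) = _ at h1
    rw [h0, coeff_zero, Finset.mul_sum, map_sum, finsetSum_coeff] at h1
    refine (Finset.sum_congr rfl fun i hi => ?_).trans h1.symm
    have hi' := Finset.mem_range.1 hi
    have e : X ^ (j - 1) * ((-1 : (MvPolynomial (Fin a) ℤ)[X]) ^ i * (C (MvPolynomial.esymm (Fin a) ℤ i) * X ^ (a - i))) =
        ((-1 : MvPolynomial (Fin a) ℤ) ^ i * MvPolynomial.esymm (Fin a) ℤ i) • X ^ (j - 1 + (a - i)) := by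
      rw [smul_eq_C_mul, map_mul, map_pow, map_neg, map_one, pow_add]; ring
    rw [e, map_smul, coeff_smul, smul_eq_mul]
    congr 1
    simp only [coef]
    change _ = ((X : (MvPolynomial (Fin a) ℤ)[X]) ^ (j - 1 + (a - i)) %ₘ P).coeff (a - 1)
    by_cases hij : j < i
    · rw [if_pos (by omega), (modByMonic_eq_self_iff hP).2, coeff_X_pow, if_neg (by omega)]
      rw [degree_X_pow, degree_eq_natDegree hP.ne_zero, hdeg]
      exact_mod_cast (by omega : j - 1 + (a - i) < a)
    · rw [if_neg (by omega), show a - 1 + ((j : ℤ) - i).toNat = j - 1 + (a - i) by omega]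

end Groth.Agent.S3214
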