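import Groth.Statements.S3215
import Groth.Agent.QSplit.Even

set_option autoImplicit false
universe u
open SGA7II

namespace Groth.Agent.S3215

/-- Let A be a commutative ring and Q(x) = sum over pairs i <= j of a_{ij} x_i x_j a quadratic form in
2m variables on the free module A^{2m} (the source allows a locally free module, which is free
Zariski-locally; the variables indexed by two copies of Fin m, ordered first copy then second),
whose polar bilinear form (matrix entries 2a_{ii} on the diagonal, a_{ij} for i < j) has invertible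
determinant (Q is ordinary). Then there are finitely many etale A-algebras B_t whose spectra jointly
cover Spec A and, over each B_t, an invertible matrix g with Q(g x) = sum_j x_j x_{m+j}, the split
form. -/
theorem result (A : Type u) [CommRing A] (m : ℕ)
    (a : (Fin m ⊕ Fin m) → (Fin m ⊕ Fin m) → A) :
    let rk : Fin m ⊕ Fin m → ℕ := Sum.elim Fin.val (fun k => m + k.val)
    let QB : ∀ (B : Type u) [CommRing B] [Algebra A B], ((Fin m ⊕ Fin m) → B) → B :=
      fun B _ _ x => ∑ i, ∑ j, if rk i ≤ rk j then algebraMap A B (a i j) * x i * x j else 0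
    IsUnit (Matrix.det (Matrix.of fun i j : Fin m ⊕ Fin m =>
      if i = j then a i i + a i i else if rk i ≤ rk j then a i j else a j i)) →
    ∃ (n : ℕ) (B : Fin n → Type u) (_ : ∀ t, CommRing (B t)) (_ : ∀ t, Algebra A (B t)),
      (∀ t, Algebra.Etale A (B t)) ∧
      (∀ p : PrimeSpectrum A, ∃ (t : Fin n) (q : PrimeSpectrum (B t)),
        q.asIdeal.comap (algebraMap A (B t)) = p.asIdeal) ∧
      ∀ t, ∃ g : Matrix (Fin m ⊕ Fin m) (Fin m ⊕ Fin m) (B t), IsUnit g.det ∧
        ∀ x : Fin m ⊕ Fin m → B t, QB (B t) (g.mulVec x) = ∑ j : Fin m, x (Sum.inl j) * x (Sum.inr j) := by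
  intro rk QB hdet
  let C : Matrix (Fin m ⊕ Fin m) (Fin m ⊕ Fin m) A := Matrix.of fun i j => if rk i ≤ rk j then a i j else 0
  have hrk : Function.Injective rk := by
    rintro (i | i) (j | j) h <;> simp only [rk, Sum.elim_inl, Sum.elim_inr] at h
    · rw [Fin.ext h]
    · omega
    · omega
    · rw [Fin.ext (Nat.add_left_cancel h)]
  have hC : IsUnit (C + C.transpose).det := by
    convert hdet using 2
    ext i j
    simp only [C, Matrix.add_apply, Matrix.transpose_apply, Matrix.of_apply]
    by_cases h : i = j
    · subst h; simp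
    · have hne := hrk.ne h
      rw [if_neg h]
      by_cases h1 : rk i ≤ rk j
      · rw [if_pos h1, if_neg (by omega), if_pos h1, add_zero]
      · rw [if_neg h1, if_pos (by omega), if_neg h1, zero_add]
  obtain ⟨n, B, hB, hA, hE, hcov, hs⟩ := Groth.Agent.QSplit.exists_cover C hC m (by simp; omega)
  refine ⟨n, B, hB, hA, hE, hcov, fun t => ?_⟩
  obtain ⟨s⟩ := hs t
  obtain ⟨g, hg, hq⟩ := s.exists_matrix
  refine ⟨g, hg, fun x => (Eq.trans ?_ (hq x))⟩
  simp [QB, Groth.Agent.QSplit.Qf, Groth.Agent.QSplit.Bf, C, apply_ite (algebraMap A (B t)), ite_mul]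

end Groth.Agent.S3215
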