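import Groth.Statements.S3216
import Groth.Agent.PicSepSmooth.Proper

set_option autoImplicit false
open CategoryTheory CategoryTheory.Limits AlgebraicGeometry Opposite
universe u
open FGA

namespace Groth.Agent.S3216

/-- Let S be a locally Noetherian scheme, f : X ⟶ S proper and smooth, and suppose the relative Picard
functor of X/S (the étale sheafification of T ↦ Pic(X_T)) is represented by an S-scheme P. Then P is
separated over S, and every closed subscheme of P which is of finite type over S is proper over S. -/
theorem result {X S : Scheme.{u}} [IsLocallyNoetherian S] (f : X ⟶ S) [IsProper f] [Smooth f]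
    (P : Over S) (hP : PicRel.RepresentedBy f P) :
    IsSeparated P.hom ∧
    ∀ (Z : Scheme.{u}) (i : Z ⟶ P.left), IsClosedImmersion i → LocallyOfFiniteType (i ≫ P.hom) → QuasiCompact (i ≫ P.hom) →
      IsProper (i ≫ P.hom) := by
  obtain ⟨φ, hφ⟩ := hP
  refine ⟨PicSepSmooth.isSeparated (PicSepSmooth.of_isRelPic hφ), fun Z i hi hft hqc => ?_⟩
  haveI := hi
  haveI := hft
  haveI := hqc
  exact PicSepSmooth.isProper_of_closed (PicSepSmooth.of_isRelPic hφ) i

end Groth.Agent.S3216
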