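import Groth.Statements.S3240
import Groth.Agent.EtTrace.Torsion
import Groth.Prelude.Def_Dix
-- import your own Groth.Agent.* helpers here

set_option autoImplicit false
set_option backward.isDefEq.respectTransparency false
set_option backward.isDefEq.respectTransparency.types false
set_option linter.style.haveILetI false
universe u
open CategoryTheory AlgebraicGeometry
open Dix

open CategoryTheory CategoryTheory.Limits CategoryTheory.Abelian AlgebraicGeometry Groth.Agent.EtTrace

namespace Groth.Agent.S3240

/-- Let X be quasi-compact and quasi-separated, x a point of X with i_x : Spec κ(x) → X, and F an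
abelian étale sheaf on Spec κ(x). Then for every q ≥ 1 the sheaf R^q i_{x*} F is a torsion sheaf on
X_ét and the group H^q(X_ét, i_{x*} F) is a torsion group. -/
theorem result (X : Scheme.{u}) [CompactSpace X] [QuasiSeparatedSpace X] (x : X) (F : EtCoh.Ab (Spec (X.residueField x))) (q : ℕ) (hq : 1 ≤ q) : EtCoh.IsTorsion ((EtCoh.Rpush (X.fromSpecResidueField x) q).obj F) ∧ IsAddTorsion (EtCoh.H X ((Dix.skyPush X x).obj F) q) := by
  haveI : QuasiCompact (X.fromSpecResidueField x) := by
    haveI : QuasiCompact (X.fromSpecResidueField x ≫ Limits.terminal.from X) := inferInstance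
    exact QuasiCompact.of_comp _ (Limits.terminal.from X)
  haveI : QuasiSeparated (X.fromSpecResidueField x) := QuasiSeparated.of_comp _ (Limits.terminal.from X)
  have hk : ∀ (F : EtCoh.Ab (Spec (X.residueField x))) (n : ℕ) (W : (Spec (X.residueField x)).Etale),
      Groth.Agent.EtFound.IsQcqsObj W → ∀ x : Ext.{u + 1} (Groth.Agent.EtFound.freeOn W) F (n + 1), ∃ N : ℕ, 0 < N ∧ N • x = 0 :=
    fun F n W hW x => by
      haveI : CompactSpace W.left := hW.1
      exact exists_nsmul_ext F n x
  obtain ⟨p, rfl⟩ : ∃ p, q = p + 1 := ⟨q - 1, by omega⟩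
  refine ⟨isTorsion_Rpush_of _ hk F p, fun ξ => ?_⟩
  exact isOfFinAddOrder_iff_nsmul_eq_zero.2
    (exists_nsmul_H_push _ hk (fun F n x => exists_nsmul_H_field F (Nat.succ_pos n) x) p F ξ)

end Groth.Agent.S3240
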