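import Groth.Statements.S3242
import Groth.Agent.EtDiv.GenTorsion
-- import your own Groth.Agent.* helpers here

set_option autoImplicit false
set_option backward.isDefEq.respectTransparency false
set_option backward.isDefEq.respectTransparency.types false
set_option linter.style.haveILetI false
universe u
open CategoryTheory AlgebraicGeometry
open Dix

namespace Groth.Agent.S3242

/-- Let X be a reduced noetherian scheme of dimension ≤ 1. Then H^q(X_ét, G_m) is a torsion group for
every q ≥ 2 (the reducedness hypothesis is the standing assumption of the published statement, made
explicit here). -/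
theorem result (X : Scheme.{u}) [IsNoetherian X] [IsReduced X] (hdim : topologicalKrullDim X ≤ 1) (q : ℕ) (hq : 2 ≤ q) : IsAddTorsion (EtCoh.H X (EtCoh.Gm X) q) := by
  exact fun a => isOfFinAddOrder_iff_nsmul_eq_zero.2
    (Groth.Agent.EtDiv.exists_nsmul_H_Gm_of_dim_le_one hdim hq a)

end Groth.Agent.S3242
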