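import Groth.Statements.S3244
import Groth.Agent.EtTrace.Kummer
-- import your own Groth.Agent.* helpers here

set_option autoImplicit false
set_option backward.isDefEq.respectTransparency false
set_option backward.isDefEq.respectTransparency.types false
set_option linter.style.haveILetI false
universe u
open CategoryTheory AlgebraicGeometry
open Dix

open CategoryTheory CategoryTheory.Limits CategoryTheory.Abelian AlgebraicGeometry Groth.Agent.EtTrace

namespace Groth.Agent.S3244

/-- Kummer theory at finite level: let n > 0 be an integer invertible on the scheme X (nonzero in every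
residue field). Then for every i ≥ 1 the image of H^i(X_ét, μ_n) → H^i(X_ét, G_m), induced by the
inclusion μ_n → G_m, is exactly the subgroup of elements of H^i(X_ét, G_m) killed by n; in
particular H²(X_ét, μ_n) maps onto the n-torsion of the cohomological Brauer group H²(X_ét, G_m).
(The published statement gives exact sequences obtained as the colimit of these over the powers n =
ℓ^m of a prime ℓ.) -/
theorem result (X : Scheme.{u}) (n : ℕ) (hn : 0 < n) (hX : Dix.InvertibleOn X n) (i : ℕ) (hi : 1 ≤ i) : Set.range ⇑((EtCoh.HF X i).map (EtCoh.muι X n)) = {ξ : (EtCoh.HF X i).obj (EtCoh.Gm X) | n • ξ = 0} := by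
  haveI : Epi (EtCoh.powMap X n) := Groth.Agent.S0108.result X n (isUnit_of_invertibleOn hX)
  ext ξ
  exact range_mu i ξ

end Groth.Agent.S3244
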