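import Groth.Statements.S3246
import Groth.Agent.EtTrace.Kummer
-- import your own Groth.Agent.* helpers here

set_option autoImplicit false
set_option backward.isDefEq.respectTransparency false
set_option backward.isDefEq.respectTransparency.types false
set_option linter.style.haveILetI false
universe u
open CategoryTheory AlgebraicGeometry
open Dix

open CategoryTheory CategoryTheory.Limits CategoryTheory.Abelian AlgebraicGeometry Groth.Agent.EtTrace

namespace Groth.Agent.S3246

/-- Let X be a scheme, ℓ a prime and n an integer with cd_ℓ(X) ≤ n (étale cohomology of ℓ-primary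
torsion sheaves vanishes above degree n). Then the ℓ-primary torsion of H^i(X_ét, G_m) is zero for i
> n + 1; if moreover ℓ is invertible on X, it is zero for i > n. -/
theorem result (X : Scheme.{u}) (ℓ : ℕ) (hℓ : ℓ.Prime) (n : ℕ) (hcd : Dix.CohDimLEAt X ℓ n) : (∀ i : ℕ, n + 1 < i → ∀ ξ : EtCoh.H X (EtCoh.Gm X) i, (∃ k : ℕ, ℓ ^ k • ξ = 0) → ξ = 0) ∧ (Dix.InvertibleOn X ℓ → ∀ i : ℕ, n < i → ∀ ξ : EtCoh.H X (EtCoh.Gm X) i, (∃ k : ℕ, ℓ ^ k • ξ = 0) → ξ = 0) := by
  refine ⟨fun i hi ξ hξ => ?_, fun hinv i hi ξ hξ => ?_⟩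
  · obtain ⟨k, hk⟩ := hξ
    exact eq_zero_of_cohDimLEAt hcd _ hi ξ hk
  · obtain ⟨k, hk⟩ := hξ
    exact eq_zero_Gm hcd hinv hi ξ hk

end Groth.Agent.S3246
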