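import Groth.Statements.S3248
import Groth.Agent.CSALib.Basic
import Mathlib.LinearAlgebra.Matrix.ToLin

set_option autoImplicit false
universe u
open TensorProduct
open Dix

namespace Groth.Agent.S3248

/-- Stated for a commutative subalgebra: let A be a central simple algebra of dimension r² over a field
k and L a commutative k-algebra embedded in A by an injective k-algebra homomorphism ι, such that A
is free of rank r for the right L-module structure a · l = a ι(l) (given here as a module structure
together with that compatibility). Then L ⊗_k A is isomorphic as an L-algebra to the matrix algebra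
M_r(L). (Only the existence of an isomorphism is stated; the text names the map a ⊗ l ↦ (y ↦ a y
l).) -/
theorem result (k : Type u) [Field k] (A : Type u) [Ring A] [Algebra k A] [Algebra.IsCentral k A] [IsSimpleRing A] [FiniteDimensional k A] (L : Type u) [CommRing L] [Algebra k L] (ι : L →ₐ[k] A) (hι : Function.Injective ι) [Module L A] (hmod : ∀ (l : L) (a : A), l • a = a * ι l) [Module.Free L A] (r : ℕ) (hr : 0 < r) (hA : Module.finrank k A = r ^ 2) (hrank : Module.finrank L A = r) : Nonempty ((L ⊗[k] A) ≃ₐ[L] Matrix (Fin r) (Fin r) L) := by
  classical
  have htow : IsScalarTower k L A := ⟨fun c l a => by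
    rw [hmod, hmod, map_smul, Algebra.mul_smul_comm]⟩
  have hcomm : SMulCommClass L k A := ⟨fun l c a => by
    rw [hmod, hmod, Algebra.smul_mul_assoc]⟩
  haveI : FiniteDimensional k L := FiniteDimensional.of_injective ι.toLinearMap hι
  haveI : Module.Finite L A := Module.Finite.of_restrictScalars_finite k L A
  haveI : Nontrivial L := RingHom.domain_nontrivial (ι : L →+* A)
  have hL : Module.finrank k L = r := by
    have h := Module.finrank_mul_finrank k L A
    rw [hrank, hA, sq] at h
    exact Nat.eq_of_mul_eq_mul_right hr h
  let mulL : A →ₐ[k] Module.End L A :=
    { toFun := fun a =>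
        { toFun := fun x => a * x
          map_add' := fun x y => mul_add a x y
          map_smul' := fun l x => by simp only [hmod, RingHom.id_apply, mul_assoc] }
      map_one' := LinearMap.ext fun x => one_mul x
      map_mul' := fun a b => LinearMap.ext fun x => mul_assoc a b x
      map_zero' := LinearMap.ext fun x => zero_mul x
      map_add' := fun a b => LinearMap.ext fun x => add_mul a b x
      commutes' := fun c => LinearMap.ext fun x => by
        simp [Algebra.algebraMap_eq_smul_one] }
  let φ : L ⊗[k] A →ₐ[L] Module.End L A :=
    Algebra.TensorProduct.lift (Algebra.ofId L _) mulL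
      (fun l a => LinearMap.ext fun x => by
        change l • (a * x) = a * (l • x)
        simp only [hmod, mul_assoc])
  let j : L →ₐ[k] Aᵐᵒᵖ :=
    ι.toOpposite fun x y => (map_mul ι x y).symm.trans ((congrArg ι (mul_comm x y)).trans (map_mul ι y x))
  let ψ : L ⊗[k] A →ₗ[k] A ⊗[k] Aᵐᵒᵖ :=
    (TensorProduct.map LinearMap.id j.toLinearMap).comp (TensorProduct.comm k L A).toLinearMap
  have hψ : Function.Injective ψ := by
    have hj : Function.Injective j.toLinearMap := fun x y h => hι (congrArg MulOpposite.unop h)
    exact (Module.Flat.lTensor_preserves_injective_linearMap (M := A) j.toLinearMap hj).comp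
      (TensorProduct.comm k L A).injective
  have key : ∀ (t : L ⊗[k] A) (y : A), φ t y = AlgHom.mulLeftRight k A (ψ t) y := by
    intro t y
    induction t using TensorProduct.induction_on with
    | zero => simp
    | tmul l a =>
        simp only [φ, ψ, Algebra.TensorProduct.lift_tmul, LinearMap.comp_apply,
          LinearEquiv.coe_coe, TensorProduct.comm_tmul, TensorProduct.map_tmul,
          AlgHom.toLinearMap_apply, LinearMap.id_coe, id_eq, AlgHom.mulLeftRight_apply]
        change l • (a * y) = a * y * ι l
        exact hmod l (a * y)
    | add x y hx hy => simp [hx, hy]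
  have hinj : Function.Injective φ := by
    intro s t hst
    apply hψ
    apply (Groth.Agent.CSALib.mulLeftRight_bijective k A).1
    refine LinearMap.ext fun y => ?_
    rw [← key, ← key, hst]
  have hbij : Function.Bijective φ := by
    refine ⟨hinj, ?_⟩
    have hd : Module.finrank k (L ⊗[k] A) = Module.finrank k (Module.End L A) := by
      rw [Module.finrank_tensorProduct, ← Module.finrank_mul_finrank k L (Module.End L A), hA,
        show Module.finrank L (Module.End L A) = r ^ 2 from
          (Module.finrank_linearMap L L A A).trans (by rw [hrank, sq])]
    exact (LinearMap.injective_iff_surjective_of_finrank_eq_finrank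
      (f := φ.toLinearMap.restrictScalars k) hd).1 hinj
  exact ⟨(AlgEquiv.ofBijective φ hbij).trans
    (algEquivMatrix (Module.finBasisOfFinrankEq L A hrank))⟩

end Groth.Agent.S3248
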