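import Groth.Statements.S3252
import Groth.Agent.WeilLib.PairScale

set_option autoImplicit false
open Groth.Agent.WeilLib
universe u
open Zeta

namespace Groth.Agent.S3252

/-- Let V and W be finite-dimensional vector spaces over a field L, B : V × W -> L a perfect pairing, F
an endomorphism of V and G an endomorphism of W with B(F v, G w) = c · B(v, w) for all v, w, where c
is a scalar (in the application, V = H^i, W = H^{2d-i}, F and G Frobenius, c = q^d). Then det F ·
det G = c ^ dim V. -/
theorem result (L : Type u) [Field L] (V W : Type u)
    [AddCommGroup V] [Module L V] [FiniteDimensional L V] [AddCommGroup W] [Module L W] [FiniteDimensional L W]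
    (B : V →ₗ[L] W →ₗ[L] L) [B.IsPerfPair] (F : V →ₗ[L] V) (G : W →ₗ[L] W) (c : L)
    (hFG : ∀ (v : V) (w : W), B (F v) (G w) = c * B v w) :
    LinearMap.det F * LinearMap.det G = c ^ Module.finrank L V := by
  exact det_mul_det B F G c hFG

end Groth.Agent.S3252
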