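import Groth.Statements.S3256
import Groth.Agent.H26.DedMin.Exist

set_option autoImplicit false
universe u
open AlgebraicGeometry CategoryTheory CategoryTheory.Limits
open ArSurf

namespace Groth.Agent.S3256

/-- Let R be a Dedekind domain and X an arithmetic surface over Spec R. Then there are a relatively
minimal arithmetic surface Y over Spec R and an R-morphism X -> Y inducing an isomorphism on generic
fibres. -/
theorem result {R : Type u} [CommRing R] [IsDedekindDomain R]
    (X : Over (Spec (CommRingCat.of R))) (hX : ArSurf.IsArithSurface R X) :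
    ∃ (Y : Over (Spec (CommRingCat.of R))) (f : X ⟶ Y), ArSurf.IsArithSurface R Y ∧
      Neron.IsRelMinimalRegularModel R Y ∧ IsIso ((Neron.genericFibre R).map f) := by
  obtain ⟨Y, f, hY, hmin, hf, -⟩ := Groth.Agent.H26.DedMin.exists_relMinimal X hX
  exact ⟨Y, f, hY, hmin, hf⟩

end Groth.Agent.S3256
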