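import Groth.Statements.S3257
import Groth.Agent.SurfSeq.Irreducible
import Groth.Agent.H26.ArSurfProper
import Groth.Agent.H26.BiratFibre
import Groth.Agent.SchTop.Closed

set_option autoImplicit false
set_option backward.isDefEq.respectTransparency false
set_option backward.isDefEq.respectTransparency.types false
set_option linter.style.haveILetI false
set_option linter.unusedSectionVars false
set_option maxHeartbeats 800000
universe u
open AlgebraicGeometry CategoryTheory CategoryTheory.Limits
open ArSurf

namespace Groth.Agent.S3257

open CategoryTheory CategoryTheory.Limits Groth.Agent Groth.Agent.H23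
attribute [local instance] PicMul.clMonoid

/-- Let R be a Dedekind domain, X and Y arithmetic surfaces over Spec R, f : X -> Y an R-morphism and y
a closed point of Y such that f restricts to an isomorphism over Y minus y while the fibre of f over
y is irreducible and has more than one point (so the exceptional locus of the birational morphism f
is irreducible). Then f is the blowing-up of Y at y: it has the universal property of the blow-up
along the ideal of the reduced closed point y (BlowUp.IsBlowUp). (The factorization result of the
source says more generally that every birational morphism of regular fibered surfaces is a finite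
sequence of blow-ups of closed points.) -/
theorem result {R : Type u} [CommRing R] [IsDedekindDomain R]
    (X Y : Over (Spec (CommRingCat.of R))) (hX : ArSurf.IsArithSurface R X) (hY : ArSurf.IsArithSurface R Y)
    (f : X ⟶ Y) (y : Y.left) (hy : IsClosed ({y} : Set Y.left))
    (hiso : IsIso (f.left ∣_ (⟨{y}ᶜ, hy.isOpen_compl⟩ : Y.left.Opens)))
    (hirr : IsPreirreducible (f.left.base ⁻¹' {y}))
    (hbig : ∃ x x' : X.left, x ≠ x' ∧ f.left.base x = y ∧ f.left.base x' = y) :
    BlowUp.IsBlowUp f.left (Scheme.IdealSheafData.vanishingIdeal ⟨{y}, hy⟩) := by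
  obtain ⟨hX1, hX2, hX3, -, -⟩ := id hX
  obtain ⟨hY1, hY2, hY3, -, -⟩ := id hY
  haveI := hX2; haveI := hY2
  haveI := H26.isProper_of_isArithSurface hX
  haveI := H26.isProper_of_isArithSurface hY
  haveI : IsProper f.left := by
    haveI : IsProper (f.left ≫ Y.hom) := by rw [Over.w f]; infer_instance
    exact IsProper.of_comp f.left Y.hom
  haveI : IsNoetherianRing R := inferInstance
  haveI : IsLocallyNoetherian X.left := LocallyOfFiniteType.isLocallyNoetherian X.hom
  haveI : IsLocallyNoetherian Y.left := LocallyOfFiniteType.isLocallyNoetherian Y.hom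
  haveI : CompactSpace X.left := QuasiCompact.compactSpace_of_compactSpace X.hom
  haveI : CompactSpace Y.left := QuasiCompact.compactSpace_of_compactSpace Y.hom
  haveI : IsNoetherian X.left := {}
  haveI : IsNoetherian Y.left := {}
  set V : Y.left.Opens := ⟨{y}ᶜ, hy.isOpen_compl⟩
  haveI := hiso
  have hyg : genericPoint Y.left ≠ y := by
    intro h
    have huniv : ∀ z : Y.left, z = y := fun z => by
      have := (genericPoint_spec Y.left).def
      rw [h, hy.closure_eq] at this
      exact Set.mem_singleton_iff.1 (this ▸ Set.mem_univ z)
    haveI : Subsingleton Y.left := ⟨fun a b => (huniv a).trans (huniv b).symm⟩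
    haveI : Nonempty Y.left := ⟨y⟩
    have h0 : topologicalKrullDim Y.left ≤ 0 := topologicalKrullDim_zero_of_discreteTopology Y.left
    rw [hY3] at h0
    exact absurd h0 (by decide)
  have hV : (V : Set Y.left).Nonempty := ⟨_, hyg⟩
  have hgen := H26.BiratFibre.apply_genericPoint_eq f.left hV
  have hstalk : ∀ z : X.left, f.left z ≠ y → IsIso (f.left.stalkMap z) := fun z hz =>
    (MorphismProperty.isomorphisms CommRingCat).arrow_mk_iso_iff
      (morphismRestrictStalkMap f.left V ⟨z, hz⟩) |>.1 (inferInstanceAs (IsIso _))
  have hb : IsIso (f.left.stalkMap (genericPoint X.left)) := hstalk _ (by rw [hgen]; exact hyg)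
  obtain ⟨x, x', hne, hxy, hxy'⟩ := hbig
  have hx : ¬ IsIso (f.left.stalkMap x) := fun h =>
    hne (SurfSeq.eq_of_isIso f.left hb (hxy'.trans hxy.symm).symm h).symm
  exact SurfSeq.isBlowUp_of_irreducible_fibre (hX := hX1)
    (hdX := fun z => (SchTop.ringKrullDim_stalk_le z).trans hX3.le) f.left hb hY1
    (fun z => (SchTop.ringKrullDim_stalk_le z).trans hY3.le) y hy hstalk hirr hxy hx

end Groth.Agent.S3257
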