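import Groth.Statements.S3258
import Groth.Agent.H26.SmoothMinimal

set_option autoImplicit false
universe u
open AlgebraicGeometry CategoryTheory CategoryTheory.Limits
open ArSurf

namespace Groth.Agent.S3258

/-- Let R be a Dedekind domain and X an arithmetic surface over Spec R (a regular, integral scheme of
dimension 2, flat and projective over Spec R) which is smooth over Spec R. Then X is relatively
minimal: every R-morphism from X to a regular, projective, flat R-scheme that is an isomorphism on
generic fibres is an isomorphism. -/
theorem result {R : Type u} [CommRing R] [IsDedekindDomain R]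
    (X : Over (Spec (CommRingCat.of R))) (hX : ArSurf.IsArithSurface R X) [Smooth X.hom] :
    Neron.IsRelMinimalRegularModel R X := by
  refine Groth.Agent.H26.SmoothMinimal.isRelMinimal X hX fun s _ z => ?_
  haveI : Smooth (X.hom.fiberToSpecResidueField s) :=
    inferInstanceAs (Smooth (Limits.pullback.snd X.hom ((Spec (CommRingCat.of R)).fromSpecResidueField s)))
  haveI := Groth.Agent.SmoothReg.isRegularLocalRing_stalk_of_mem_smoothLocus
    (k := (Spec (CommRingCat.of R)).residueField s) (X.hom.fiberToSpecResidueField s) (x := z)
    (by rw [Scheme.Hom.smoothLocus_eq_top]; trivial)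
  exact Groth.Agent.RegLoc6.isDomain_of_isRegularLocalRing _

end Groth.Agent.S3258
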