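import Groth.Statements.S3259
import Groth.Agent.PnCoh.Chow.Proper

set_option autoImplicit false
universe u
open AlgebraicGeometry CategoryTheory CategoryTheory.Limits
open ArSurf

namespace Groth.Agent.S3259

/-- A property of stalk maps along equal morphisms. -/
theorem congr_stalk (P : ∀ {A B : CommRingCat.{u}}, (A ⟶ B) → Prop) {Y Z : Scheme.{u}} {a b : Y ⟶ Z} (e : a = b)
    (y : Y) : P (a.stalkMap y) ↔ P (b.stalkMap y) := by subst e; rfl

/-- Let R be a Dedekind domain with fraction field K and C a smooth projective curve over K (smooth,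
proper, of dimension 1, admitting a closed immersion into some P^n_K). Then there are a non-empty
open subscheme U of Spec R containing the generic point and a smooth proper morphism 𝒞 -> U whose
fibre over the generic point is K-isomorphic to C. In particular C has good reduction at every
closed point of U, that is, at all but finitely many closed points. (Stated in the form the
published proof gives.) -/
theorem result {R : Type u} [CommRing R] [IsDedekindDomain R]
    (C : Over (Spec (CommRingCat.of (FractionRing R)))) [Smooth C.hom] [IsProper C.hom]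
    (hdim : topologicalKrullDim C.left = 1) (hproj : Neron.IsProjectiveOver (FractionRing R) C) :
    ∃ (U : (Spec (CommRingCat.of R)).Opens) (ξ : Spec (CommRingCat.of (FractionRing R)) ⟶ (U : Scheme.{u}))
      (𝒞 : Scheme.{u}) (π : 𝒞 ⟶ (U : Scheme.{u})),
      ξ ≫ U.ι = Neron.genPt R ∧ Smooth π ∧ IsProper π ∧
      Nonempty (Over.mk (pullback.snd π ξ) ≅ C) := by
  classical
  obtain ⟨n, i, hi, hiw⟩ := hproj
  haveI := hi
  haveI := Groth.Agent.PnCoh.Chow.isProper_toSpec n (ULift.{u} ℤ)
  haveI : IsProper (CohB1.ProjSpaceOver.toBase n (Spec (CommRingCat.of R))) :=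
    MorphismProperty.of_isPullback (IsPullback.of_hasPullback (CohB1.ProjSpace.toSpec n (ULift.{u} ℤ))
      (AlgebraicGeometry.specULiftZIsTerminal.from (Spec (CommRingCat.of R)))) ‹_›
  haveI : IsPreimmersion (Neron.genPt R) := IsPreimmersion.of_isLocalization (nonZeroDivisors R)
  haveI : Flat (Neron.genPt R) := by
    rw [HasRingHomProperty.Spec_iff (P := @Flat)]
    exact RingHom.flat_algebraMap_iff.2 (IsLocalization.flat (FractionRing R) (nonZeroDivisors R))
  let j : C.left ⟶ CohB1.ProjSpaceOver n (Spec (CommRingCat.of R)) :=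
    pullback.lift (i ≫ pullback.fst _ _) (C.hom ≫ Neron.genPt R) (specULiftZIsTerminal.hom_ext _ _)
  have hjb : j ≫ CohB1.ProjSpaceOver.toBase n (Spec (CommRingCat.of R)) = C.hom ≫ Neron.genPt R :=
    pullback.lift_snd _ _ _
  haveI : IsProper (C.hom) := inferInstance
  haveI : QuasiCompact j := by
    haveI : QuasiCompact (j ≫ CohB1.ProjSpaceOver.toBase n (Spec (CommRingCat.of R))) := by
      rw [hjb]; infer_instance
    exact QuasiCompact.of_comp j (CohB1.ProjSpaceOver.toBase n (Spec (CommRingCat.of R)))
  let X : Scheme.{u} := j.image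
  let p : X ⟶ Spec (CommRingCat.of R) := j.imageι ≫ CohB1.ProjSpaceOver.toBase n _
  haveI : IsProper p := inferInstanceAs (IsProper (j.imageι ≫ _))
  haveI : IsNoetherianRing R := inferInstance
  haveI : IsLocallyNoetherian (Spec (CommRingCat.of R)) := inferInstance
  haveI : LocallyOfFinitePresentation p := inferInstance
  have hp : j.toImage ≫ p = C.hom ≫ Neron.genPt R := by
    show j.toImage ≫ j.imageι ≫ _ = _
    rw [j.toImage_imageι_assoc, hjb]
  let XK := pullback p (Neron.genPt R)
  let q : XK ⟶ X := pullback.fst p (Neron.genPt R)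
  let s : XK ⟶ Spec (CommRingCat.of (FractionRing R)) := pullback.snd p (Neron.genPt R)
  haveI : IsProper s := inferInstanceAs (IsProper (pullback.snd p (Neron.genPt R)))
  haveI : Flat q := inferInstanceAs (Flat (pullback.fst p (Neron.genPt R)))
  haveI : IsPreimmersion q := inferInstanceAs (IsPreimmersion (pullback.fst p (Neron.genPt R)))
  let t : C.left ⟶ XK := pullback.lift j.toImage C.hom hp
  have htq : t ≫ q = j.toImage := pullback.lift_fst _ _ _
  have hts : t ≫ s = C.hom := pullback.lift_snd _ _ _
  -- the closed immersion into the generic fibre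
  let w : XK ⟶ CohB1.ProjSpaceOver n (Spec (CommRingCat.of (FractionRing R))) :=
    pullback.lift (q ≫ j.imageι ≫ pullback.fst _ _) s (specULiftZIsTerminal.hom_ext _ _)
  have htw : t ≫ w = i := by
    refine pullback.hom_ext ?_ ?_
    · refine (Category.assoc _ _ _).trans ((congrArg (t ≫ ·) (pullback.lift_fst _ _ _)).trans ?_)
      refine (reassoc_of% htq) _ |>.trans ?_
      rw [j.toImage_imageι_assoc]
      exact pullback.lift_fst _ _ _
    · refine (Category.assoc _ _ _).trans ((congrArg (t ≫ ·) (pullback.lift_snd _ _ _)).trans ?_)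
      exact hts.trans hiw.symm
  haveI : IsSeparated w := by
    haveI : IsSeparated (w ≫ CohB1.ProjSpaceOver.toBase n _) := by
      rw [show w ≫ CohB1.ProjSpaceOver.toBase n _ = s from pullback.lift_snd _ _ _]; infer_instance
    exact IsSeparated.of_comp w (CohB1.ProjSpaceOver.toBase n _)
  haveI : IsClosedImmersion t := by
    haveI : IsClosedImmersion (t ≫ w) := by rw [htw]; exact hi
    exact IsClosedImmersion.of_comp t w
  have hqs : ∀ z : XK, Function.Bijective (q.stalkMap z) := fun z => by
    refine ⟨?_, q.stalkMap_surjective z⟩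
    letI : Algebra (X.presheaf.stalk (q z)) (XK.presheaf.stalk z) := (q.stalkMap z).hom.toAlgebra
    haveI : Module.Flat (X.presheaf.stalk (q z)) (XK.presheaf.stalk z) := Flat.stalkMap q z
    haveI : IsLocalHom (algebraMap (X.presheaf.stalk (q z)) (XK.presheaf.stalk z)) :=
      inferInstanceAs (IsLocalHom (q.stalkMap z).hom)
    haveI := Module.FaithfullyFlat.of_flat_of_isLocalHom (A := X.presheaf.stalk (q z)) (B := XK.presheaf.stalk z)
    exact FaithfulSMul.algebraMap_injective (X.presheaf.stalk (q z)) (XK.presheaf.stalk z)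
  have hind : Topology.IsInducing j.toImage := by
    rw [← htq]
    exact q.isEmbedding.isInducing.comp t.isEmbedding.isInducing
  have hinj : ∀ c : C.left, Function.Injective (j.toImage.stalkMap c) := by
    intro c
    haveI := TopCat.Presheaf.stalkPushforward.stalkPushforward_iso_of_isInducing (C := CommRingCat.{u}) hind C.left.presheaf c
    exact (ConcreteCategory.bijective_of_isIso
      (C.left.presheaf.stalkPushforward _ j.toImage.base c)).1.comp
      (j.stalkFunctor_toImage_injective (j.toImage c))
  haveI : IsIso t := by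
    have hsurj : Function.Surjective t := by
      rw [← Set.range_eq_univ]
      refine (t.isClosedEmbedding.isClosed_range.closure_eq.symm.trans ?_)
      rw [q.isEmbedding.closure_eq_preimage_closure_image, ← Set.range_comp,
        show (q ∘ t : C.left → X) = j.toImage from by rw [← htq]; rfl,
        (IsDominant.denseRange (f := j.toImage)).closure_range, Set.preimage_univ]
    have hb : IsIso t.base :=
      TopCat.isIso_of_bijective_of_isClosedMap _ ⟨t.isClosedEmbedding.injective, hsurj⟩ t.isClosedEmbedding.isClosedMap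
    refine (isIso_iff_isIso_stalkMap t).2 ⟨hb, fun c => ?_⟩
    refine (ConcreteCategory.isIso_iff_bijective _).2 ⟨?_, t.stalkMap_surjective c⟩
    have h := (Groth.Agent.S3259.congr_stalk (fun φ => Function.Injective φ) htq c).2 (hinj c)
    rw [Scheme.Hom.stalkMap_comp] at h
    exact fun a b hab => by
      obtain ⟨a, rfl⟩ := (hqs (t c)).2 a
      obtain ⟨b, rfl⟩ := (hqs (t c)).2 b
      exact congrArg (q.stalkMap (t c)) (h hab)
  -- the open set
  have hsm : ∀ x : X, p x = Neron.genPt R (IsLocalRing.closedPoint _) → x ∈ p.smoothLocus := by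
    intro x hx
    obtain ⟨z, hz⟩ : x ∈ Set.range q := by
      show x ∈ Set.range (pullback.fst p (Neron.genPt R))
      rw [Scheme.Pullback.range_fst]
      exact ⟨_, hx.symm⟩
    subst hz
    haveI : Smooth s := by
      have h : s = inv t ≫ C.hom := by rw [← hts, IsIso.inv_hom_id_assoc]
      rw [h]; infer_instance
    have h1 : (s.stalkMap z).hom.FormallySmooth :=
      Scheme.Hom.mem_smoothLocus.1 (by rw [s.smoothLocus_eq_top]; trivial)
    rw [Scheme.Hom.mem_smoothLocus]
    haveI : IsIso (q.stalkMap z) := (ConcreteCategory.isIso_iff_bijective _).2 (hqs z)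
    haveI : IsIso ((Neron.genPt R).stalkMap (s z)) := by
      refine (ConcreteCategory.isIso_iff_bijective _).2 ⟨?_, (Neron.genPt R).stalkMap_surjective _⟩
      letI := ((Neron.genPt R).stalkMap (s z)).hom.toAlgebra
      haveI : Module.Flat ((Spec (CommRingCat.of R)).presheaf.stalk (Neron.genPt R (s z)))
          ((Spec (CommRingCat.of (FractionRing R))).presheaf.stalk (s z)) := Flat.stalkMap (Neron.genPt R) (s z)
      haveI : IsLocalHom (algebraMap ((Spec (CommRingCat.of R)).presheaf.stalk (Neron.genPt R (s z)))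
          ((Spec (CommRingCat.of (FractionRing R))).presheaf.stalk (s z))) :=
        inferInstanceAs (IsLocalHom ((Neron.genPt R).stalkMap (s z)).hom)
      haveI := Module.FaithfullyFlat.of_flat_of_isLocalHom
        (A := (Spec (CommRingCat.of R)).presheaf.stalk (Neron.genPt R (s z)))
        (B := (Spec (CommRingCat.of (FractionRing R))).presheaf.stalk (s z))
      exact FaithfulSMul.algebraMap_injective _ ((Spec (CommRingCat.of (FractionRing R))).presheaf.stalk (s z))
    have h2 : ((q ≫ p).stalkMap z).hom.FormallySmooth := by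
      refine (Groth.Agent.S3259.congr_stalk (fun φ => RingHom.FormallySmooth φ.hom)
        (pullback.condition : q ≫ p = s ≫ Neron.genPt R) z).2 ?_
      erw [Scheme.Hom.stalkMap_comp, RingHom.FormallySmooth.respectsIso.cancel_left_isIso]
      exact h1
    erw [Scheme.Hom.stalkMap_comp, RingHom.FormallySmooth.respectsIso.cancel_right_isIso] at h2
    exact h2
  let U : (Spec (CommRingCat.of R)).Opens :=
    ⟨(p '' (p.smoothLocus : Set X)ᶜ)ᶜ, (p.isClosedMap _ p.smoothLocus.isOpen.isClosed_compl).isOpen_compl⟩
  have hU : Set.range (Neron.genPt R) ⊆ (U : Set (Spec (CommRingCat.of R))) := by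
    rintro _ ⟨a, rfl⟩ ⟨x, hx, hxa⟩
    refine hx (hsm x (hxa.trans (congrArg _ ?_)))
    exact Subsingleton.elim (α := PrimeSpectrum (FractionRing R)) _ _
  let ξ : Spec (CommRingCat.of (FractionRing R)) ⟶ (U : Scheme.{u}) :=
    IsOpenImmersion.lift U.ι (Neron.genPt R) (by rw [Scheme.Opens.range_ι]; exact hU)
  have hξ : ξ ≫ U.ι = Neron.genPt R := IsOpenImmersion.lift_fac _ _ _
  refine ⟨U, ξ, ↑(p ⁻¹ᵁ U), p ∣_ U, hξ, ?_, inferInstance, ?_⟩
  · haveI : Smooth (p.smoothLocus.ι ≫ p) := by
      rw [← Scheme.Hom.smoothLocus_eq_top_iff, ← Scheme.Hom.preimage_smoothLocus_eq p.smoothLocus.ι p, eq_top_iff]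
      intro x _
      exact x.2
    have hle : p ⁻¹ᵁ U ≤ p.smoothLocus := fun x hx => by
      by_contra h
      exact hx ⟨x, h, rfl⟩
    haveI : Smooth ((p ⁻¹ᵁ U).ι ≫ p) := by
      rw [← X.homOfLE_ι hle, Category.assoc]; infer_instance
    haveI : Smooth ((p ∣_ U) ≫ U.ι) := by rw [morphismRestrict_ι]; infer_instance
    exact MorphismProperty.of_postcomp @Smooth (p ∣_ U) U.ι (inferInstance : IsOpenImmersion U.ι) ‹_›
  · have hpb : IsPullback (pullback.fst (p ∣_ U) ξ ≫ (p ⁻¹ᵁ U).ι) (pullback.snd (p ∣_ U) ξ) p (Neron.genPt R) := by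
      rw [← hξ]
      exact (IsPullback.of_hasPullback (p ∣_ U) ξ).paste_horiz (isPullback_morphismRestrict p U).flip
    refine ⟨Over.isoMk (hpb.isoPullback ≪≫ (asIso t).symm) ?_⟩
    show (hpb.isoPullback.hom ≫ inv t) ≫ C.hom = pullback.snd (p ∣_ U) ξ
    rw [Category.assoc, show inv t ≫ C.hom = s by rw [← hts, IsIso.inv_hom_id_assoc]]
    exact hpb.isoPullback_hom_snd

end Groth.Agent.S3259
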