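import Groth.Statements.S3290
import Groth.Agent.Lambda.GammaPoly

set_option autoImplicit false
universe u
open Finset
open LambdaRing

namespace Groth.Agent.S3290

/-- For a positive element e of augmentation m in a λ-ring with positive structure, the polynomials
Σ_{i=0}^{m} γ^i(e − m) t^(m−i) and Σ_{i=0}^{m} λ^i(e) (t − 1)^(m−i) are equal. -/
theorem result (K : Type u) [CommRing K] [LambdaRing.LambdaOps K] (P : LambdaRing.PosStructure K) (e : K) (he : e ∈ P.pos) :
    (∑ i ∈ range ((P.aug e).toNat + 1),
        Polynomial.C (LambdaRing.gamma i (e - ((P.aug e).toNat : K))) * Polynomial.X ^ ((P.aug e).toNat - i)) =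
      ∑ i ∈ range ((P.aug e).toNat + 1),
        Polynomial.C (LambdaRing.LambdaOps.lam i e) * (Polynomial.X - 1) ^ ((P.aug e).toNat - i) := by
  exact Groth.Agent.Lambda.gamma_sub_aug_identity he

end Groth.Agent.S3290
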