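import Groth.Statements.S3324
import Groth.Agent.H26.ChainFibre

set_option autoImplicit false
universe u
open CategoryTheory CategoryTheory.Limits AlgebraicGeometry
open Models

namespace Groth.Agent.S3324

/-- In the following situation (R a discrete valuation ring with residue field k, C a smooth proper
curve over its fraction field K with H^0(C, O_C) = K, X a regular proper model, Γ_1, …, Γ_n the
irreducible components of the closed fibre with multiplicities m_i) let d = gcd(m_1, …, m_n) and let
D be the closed subscheme Σ (m_i/d) Γ_i, with ideal sheaf Π I(Γ_i)^{m_i/d}. Then κ = H^0(D, O_D) is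
a field and 1 - g_C = d [κ : k] (1 - g_D), where g_C = dim_K H^1(C, O_C) and g_D = dim_κ H^1(D,
O_D). Here the right hand side is written as d (dim_k H^0(D, O_D) - dim_k H^1(D, O_D)), the
k-dimensions being computed as R-lengths of the cohomology groups of O_D on X. -/
theorem result (R : Type u) [CommRing R] [IsDomain R] [IsDiscreteValuationRing R]
    (C X : Scheme.{u}) (f : C ⟶ Spec (CommRingCat.of (FractionRing R))) (p : X ⟶ Spec (CommRingCat.of R))
    (hC : Curve.IsSmoothProperCurve (FractionRing R) C f) (hH0 : IsIso f.appTop)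
    (hX : Models.IsRegularProperModel R X p C f)
    {n : ℕ} (Γ : Fin n → ArSurf.VertComp R (Over.mk p)) (hΓ : Models.IsComponentList R (Over.mk p) Γ) :
    IsField ↑(Γ((∏ i, (Γ i).ι.ker ^ (Models.mult R (Over.mk p) (Γ i) / Models.multGcd R (Over.mk p) Γ)).subscheme, ⊤)) ∧
      (1 : ℤ) - (Models.curveGenus (FractionRing R) C f : ℤ) =
        (Models.multGcd R (Over.mk p) Γ : ℤ) * ((Models.lengthH R (Over.mk p) (ClSub.quotMod (∏ i, (Γ i).ι.ker ^ (Models.mult R (Over.mk p) (Γ i) / Models.multGcd R (Over.mk p) Γ))) 0 : ℤ) -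
          (Models.lengthH R (Over.mk p) (ClSub.quotMod (∏ i, (Γ i).ι.ker ^ (Models.mult R (Over.mk p) (Γ i) / Models.multGcd R (Over.mk p) Γ))) 1 : ℤ)) := by
  obtain ⟨L, hL⟩ := Groth.Agent.H26.VertModel.exists_inverses hX hΓ
  let D := Groth.Agent.H26.VertModel.mkData hX hΓ L hL
  have hconn := Groth.Agent.H26.VertModel.isConnected hC hH0 hX
  obtain ⟨s, c, -, h1, -, h3⟩ := Groth.Agent.H26.Chain.exists_fibre_chain D hconn
  refine ⟨?_, ?_⟩
  · have h := (h3 (Fin.last s)).1
    rw [h1] at h
    exact h
  · obtain ⟨hfl, -, -, g, sq⟩ := hX.1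
    haveI : IsProper (Over.mk p).hom := hX.2.1
    haveI : Flat (Over.mk p).hom := hfl
    have hchi := Groth.Agent.H26.EulerFibre.chi_fibre_eq (X := Over.mk p) f g sq
      (Groth.Agent.H26.EulerFibre.good_fibre D).1
    rw [Groth.Agent.H26.EulerFibre.hRank_zero_eq_one f hH0, Groth.Agent.H26.Chain.chi_fibre_eq_mul D hconn] at hchi
    exact hchi.symm

end Groth.Agent.S3324
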