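import Groth.Statements.S3329
import Groth.Agent.H26.DedMin.Exist
import Groth.Agent.H26.DedMin.Proj

set_option autoImplicit false
universe u
open CategoryTheory CategoryTheory.Limits AlgebraicGeometry
open Models
open IsLocalRing

namespace Groth.Agent.S3329

/-- Let R be a discrete valuation ring with fraction field K, C a smooth proper curve over K with H^0(C,
O_C) = K, and Y a regular proper model of C with generic-fibre inclusion g_Y. Then there are a
minimal model X of C, with generic-fibre inclusion g_X, and a morphism of models Y → X (an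
R-morphism compatible with g_Y and g_X) which is a finite composite of contractions of exceptional
curves of the first kind. -/
theorem result (R : Type u) [CommRing R] [IsDomain R] [IsDiscreteValuationRing R]
    (C Y : Scheme.{u}) (f : C ⟶ Spec (CommRingCat.of (FractionRing R))) (q : Y ⟶ Spec (CommRingCat.of R))
    (hC : Curve.IsSmoothProperCurve (FractionRing R) C f) (hH0 : IsIso f.appTop)
    (hY : Models.IsRegularProperModel R Y q C f) (gY : C ⟶ Y) (hgY : IsPullback gY f q (Spec.map (CommRingCat.ofHom (algebraMap R (FractionRing R))))) :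
    ∃ (X : Scheme.{u}) (p : X ⟶ Spec (CommRingCat.of R)) (gX : C ⟶ X) (b : Y ⟶ X),
      Models.IsMinimalModel R X p C f ∧
      IsPullback gX f p (Spec.map (CommRingCat.ofHom (algebraMap R (FractionRing R)))) ∧
      b ≫ p = q ∧ gY ≫ b = gX ∧ Models.IsContractionSeq b := by
  haveI hCint : IsIntegral C := hC.2.2.1
  haveI : IsProper f := hC.1
  let M : Groth.Agent.MinModel.Model C f := ⟨Y, q, gY, hgY, hY⟩
  haveI : IsIntegral Y := M.isIntegral
  haveI : IsProper q := hY.2.1
  haveI : Flat q := hY.1.1
  haveI : IsOpenImmersion gY := M.isOpenImmersion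
  have hgen : ∀ c, q (gY c) = genericPoint (Spec (CommRingCat.of R)) := fun c => M.mem_range.1 ⟨c, rfl⟩
  have hne : closedPoint R ≠ genericPoint (Spec (CommRingCat.of R)) := by
    rw [genericPoint_eq_bot_of_affine (CommRingCat.of R)]
    intro h
    exact IsDiscreteValuationRing.not_a_field R (congrArg PrimeSpectrum.asIdeal h)
  obtain ⟨c, hc⟩ : ∃ c : C, c ≠ genericPoint C := by
    by_contra hall
    simp only [not_exists, not_not] at hall
    haveI : Subsingleton C := ⟨fun a b => (hall a).trans (hall b).symm⟩
    have h0 : topologicalKrullDim C ≤ 0 := topologicalKrullDim_zero_of_discreteTopology _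
    rw [hC.2.2.2] at h0
    exact absurd h0 (by decide)
  obtain ⟨x, hx, hxs⟩ : ∃ x : Y, gY c ⤳ x ∧ q x = closedPoint R :=
    q.isClosedMap.specializingMap (a := gY c)
      (show q (gY c) ⤳ closedPoint R from hgen c ▸ genericPoint_specializes _)
  have hdim : topologicalKrullDim Y = 2 := by
    refine le_antisymm ?_ ?_
    · rw [topologicalKrullDim, Order.krullDim_eq_of_orderIso irreducibleSetEquivPoints,
        Order.krullDim_eq_iSup_coheight_of_nonempty]
      refine WithBot.coe_le_coe.2 (iSup_le fun z => ?_)
      have h := M.dim_le hC.2.2.2 z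
      rw [ringKrullDim_stalk_eq_coheight] at h
      exact WithBot.coe_le_coe.1 h
    · rw [topologicalKrullDim, Order.krullDim_eq_of_orderIso (irreducibleSetEquivPoints (α := Y))]
      have l1 : gY c < genericPoint Y :=
        lt_of_le_of_ne (show gY c ≤ genericPoint Y from genericPoint_specializes _) fun h =>
          hc (gY.isOpenEmbedding.injective (h.trans M.genericPoint_eq.symm))
      have l2 : x < gY c := lt_of_le_of_ne (show x ≤ gY c from hx) fun h => hne (by rw [← hxs, h, hgen c])
      let s : LTSeries Y :=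
        ((RelSeries.singleton _ (genericPoint Y) : LTSeries Y).cons (gY c) l1).cons x l2
      exact le_of_eq_of_le (by simp [s]) (Order.LTSeries.length_le_krullDim s)
  haveI : IsProper (Over.mk q).hom := inferInstanceAs (IsProper q)
  haveI : Flat (Over.mk q).hom := inferInstanceAs (Flat q)
  haveI : IsIntegral (Over.mk q).left := inferInstanceAs (IsIntegral Y)
  have harith := Groth.Agent.H26.DedMin.isArithSurface_of_proper (Over.mk q) M.regular hdim
  obtain ⟨Z, b, hZ, hmin, hb, hseq⟩ := Groth.Agent.H26.DedMin.exists_relMinimal (Over.mk q) harith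
  haveI := hb
  haveI : IsProper Z.hom := Groth.Agent.H26.DedMin.isProper_arith Z hZ
  obtain ⟨hregZ, hintZ, -, hflatZ, -⟩ := id hZ
  let γ := ((Neron.genericFibre R).map b).left
  haveI : IsIso γ := inferInstanceAs (IsIso ((Over.forget _).map ((Neron.genericFibre R).map b)))
  have hsq : IsPullback (gY ≫ b.left) f Z.hom (Spec.map (CommRingCat.ofHom (algebraMap R (FractionRing R)))) := by
    refine IsPullback.of_iso (IsPullback.of_hasPullback Z.hom (Neron.genPt R))
      (hgY.isoPullback ≪≫ asIso γ).symm (Iso.refl _) (Iso.refl _) (Iso.refl _) ?_ ?_ (by simp) (by simp)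
    · have h1 : γ ≫ pullback.fst Z.hom (Neron.genPt R) = pullback.fst q (Neron.genPt R) ≫ b.left :=
        pullback.lift_fst _ _ _
      have h2 : hgY.isoPullback.hom ≫ pullback.fst q (Neron.genPt R) = gY := hgY.isoPullback_hom_fst
      rw [Iso.symm_hom, Iso.refl_hom, Category.comp_id, Iso.eq_inv_comp, Iso.trans_hom, asIso_hom, Category.assoc,
        h1, ← Category.assoc, h2]
    · have h1 : γ ≫ pullback.snd Z.hom (Neron.genPt R) = pullback.snd q (Neron.genPt R) := pullback.lift_snd _ _ _
      have h2 : hgY.isoPullback.hom ≫ pullback.snd q (Neron.genPt R) = f := hgY.isoPullback_hom_snd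
      rw [Iso.symm_hom, Iso.refl_hom, Category.comp_id, Iso.eq_inv_comp, Iso.trans_hom, asIso_hom, Category.assoc,
        h1, h2]
  refine ⟨Z.left, Z.hom, gY ≫ b.left, b.left,
    ⟨⟨⟨hflatZ, inferInstance, inferInstance, _, hsq⟩, inferInstance, hregZ⟩, fun Γ hΓ => ?_⟩,
    hsq, Over.w b, rfl, hseq⟩
  refine Groth.Agent.H26.DedMin.not_exc_of_relMinimal Z hZ hmin hne Γ.ι hΓ fun a => ?_
  show (Γ.ι ≫ Z.hom) a = closedPoint R
  rw [show Γ.ι ≫ Z.hom = _ from Γ.w, Scheme.Hom.comp_apply]
  generalize Γ.curve.hom a = w
  refine PrimeSpectrum.ext ?_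
  show Ideal.comap (IsLocalRing.residue R) w.asIdeal = IsLocalRing.maximalIdeal R
  rw [(Ideal.eq_bot_or_top w.asIdeal).resolve_right w.isPrime.ne_top, ← RingHom.ker_eq_comap_bot,
    IsLocalRing.ker_residue]

end Groth.Agent.S3329
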