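import Groth.Statements.S3334
import Groth.Agent.ConicPt.Split
import Groth.Agent.GeomField.GlobalFunctions

set_option autoImplicit false
universe u
open CategoryTheory CategoryTheory.Limits AlgebraicGeometry
open Models

namespace Groth.Agent.S3334
set_option backward.isDefEq.respectTransparency false
set_option backward.isDefEq.respectTransparency.types false
open Groth.Agent


/-- Let R be a discrete valuation ring with fraction field K and C a smooth proper curve over K with
H^0(C, O_C) = K and genus dim_K H^1(C, O_C) = 0. Then there is a finite separable field extension K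
→ K' of degree at most 2 such that C_{K'} is K'-isomorphic to the projective line over K' (so that
C_{K'} is the generic fibre of the projective line over the integral closure of R in K'). The
printed statement says degree 2; the argument produces an extension of degree at most 2, which is
what is asserted here. -/
theorem result (R : Type u) [CommRing R] [IsDomain R] [IsDiscreteValuationRing R]
    (C : Scheme.{u}) (f : C ⟶ Spec (CommRingCat.of (FractionRing R)))
    (hC : Curve.IsSmoothProperCurve (FractionRing R) C f) (hH0 : IsIso f.appTop)
    (hg : Models.curveGenus (FractionRing R) C f = 0) :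
    ∃ (K' : Type u) (_ : Field K') (ψ : FractionRing R →+* K'),
      Models.IsFiniteSeparable ψ ∧ Models.homDegree ψ ≤ 2 ∧
      ∃ e : (pullback f (Spec.map (CommRingCat.ofHom ψ))) ≅ CohB1.ProjSpace 1 K',
        e.hom ≫ CohB1.ProjSpace.toSpec 1 K' = (pullback.snd f (Spec.map (CommRingCat.ofHom ψ))) := by
  obtain ⟨hp, hs, hint, hdim⟩ := hC
  letI : C.Over (Spec (CommRingCat.of (FractionRing R))) := ⟨f⟩
  haveI : IsProper (C ↘ Spec (CommRingCat.of (FractionRing R))) := hp
  haveI : Smooth (C ↘ Spec (CommRingCat.of (FractionRing R))) := hs
  have h0 : Module.finrank (FractionRing R) (Coh.HH C (Coh.structureModule C) 0) = 1 := by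
    rw [GeomField.finrank_HH_zero]
    letI := GeomField.globalAlgebra (FractionRing R) C
    refine ((LinearEquiv.ofBijective (Algebra.linearMap (FractionRing R) Γ(C, ⊤)) ?_).finrank_eq).symm.trans
      (Module.finrank_self _)
    exact (ConcreteCategory.bijective_of_isIso f.appTop).comp
      (Scheme.ΓSpecIso (CommRingCat.of (FractionRing R))).symm.commRingCatIsoToRingEquiv.bijective
  obtain ⟨K, iF, iA, hfin, hsep, hfr, e⟩ := ConicPt.exists_splitting (FractionRing R) C hdim h0 hg
  have hA : (algebraMap (FractionRing R) K).toAlgebra = iA := Algebra.algebra_ext _ _ fun _ => rfl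
  refine ⟨K, iF, algebraMap (FractionRing R) K, ?_, ?_, e⟩
  · unfold Models.IsFiniteSeparable
    rw [hA]
    exact ⟨hfin, hsep⟩
  · unfold Models.homDegree
    rw [hA]
    exact hfr


end Groth.Agent.S3334
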