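import Groth.Statements.S3342
import Groth.Agent.H26.VertApply

set_option autoImplicit false
universe u
open CategoryTheory CategoryTheory.Limits AlgebraicGeometry
open Models

namespace Groth.Agent.S3342

open scoped Groth.Agent.H23.PicMul

/-- In the following situation (R a discrete valuation ring with residue field k, C a smooth proper
curve over its fraction field K with H^0(C, O_C) = K, X a regular proper model with generic-fibre
inclusion g, Γ_1, …, Γ_n the irreducible components of the closed fibre with multiplicities m_i, L_j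
⊗ I(Γ_j) ≅ O_X, a_ij = deg_k(L_j|Γ_i), w_i = dim_k H^0(Γ_i, O)) let d = gcd(m_i) and h ≥ 1 prime to
d. Let N be an invertible O_C-module with N^{⊗h} ≅ O_C which is the restriction of an invertible
O_X-module M whose degree vector (deg_k(M|Γ_i) / w_i)_i lies in the image of the matrix (a_ij / w_i)
(that is, the class of N maps to zero in the Picard group of the numerical type). Then N is the
restriction of an invertible O_X-module M' with M'^{⊗h} ≅ O_X. -/
theorem result (R : Type u) [CommRing R] [IsDomain R] [IsDiscreteValuationRing R]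
    (C X : Scheme.{u}) (f : C ⟶ Spec (CommRingCat.of (FractionRing R))) (p : X ⟶ Spec (CommRingCat.of R))
    (hC : Curve.IsSmoothProperCurve (FractionRing R) C f) (hH0 : IsIso f.appTop)
    (hX : Models.IsRegularProperModel R X p C f)
    {n : ℕ} (Γ : Fin n → ArSurf.VertComp R (Over.mk p)) (hΓ : Models.IsComponentList R (Over.mk p) Γ)
    (g : C ⟶ X) (hg : IsPullback g f p (Spec.map (CommRingCat.ofHom (algebraMap R (FractionRing R))))) (L : Fin n → X.Modules) (hL : ∀ i, ClSub.IsInverseOf (L i) (ClSub.idealMod (Γ i).ι.ker))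
    (h : ℕ) (hh : 0 < h) (hcop : Nat.Coprime h (Models.multGcd R (Over.mk p) Γ))
    (N : C.Modules) (hN : PicF.IsInvertible N) (hNt : Nonempty (CohB1.tensorPow N h ≅ Coh.structureModule C))
    (M : X.Modules) (hM : PicF.IsInvertible M) (hMN : Nonempty ((Scheme.Modules.pullback g).obj M ≅ N))
    (v : Fin n → ℤ)
    (hv : ∀ i, ArSurf.inter R (Over.mk p) M (Γ i) = ∑ j, ArSurf.inter R (Over.mk p) (L j) (Γ i) * v j) :
    ∃ M' : X.Modules, PicF.IsInvertible M' ∧ Nonempty (CohB1.tensorPow M' h ≅ Coh.structureModule X) ∧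
      Nonempty ((Scheme.Modules.pullback g).obj M' ≅ N) := by
  let D := Groth.Agent.H26.VertModel.mkData hX hΓ L hL
  have hconn := Groth.Agent.H26.VertModel.isConnected hC hH0 hX
  haveI : IsProper (Over.mk p).hom := hX.2.1
  obtain ⟨N0, a, ha⟩ := D.exists_shift (fun i => - v i)
  let M1 := CohB1.tensorMod M (FGA.multiTwist L a)
  have hinv : PicF.IsInvertible (FGA.multiTwist L a) :=
    Groth.Agent.H26.ArInter.isInvertible_multiTwist D.isInvertible a
  have hM1 : PicF.IsInvertible M1 := Groth.Agent.H23.PicMul.isInvertible_tensor hM hinv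
  have hcl1 : PicF.cl (FGA.multiTwist L a) = (Units.val (D.P fun i => - v i)) := (D.P_eq_of_shift ha).symm
  have hdeg1 : ∀ i, ArSurf.inter R (Over.mk p) M1 (Γ i) = 0 := fun i => by
    refine (Groth.Agent.H26.ArInter.inter_tensor (X := Over.mk p) (Γ i) hM hinv).trans ?_
    rw [hv i, show ArSurf.inter R (Over.mk p) (FGA.multiTwist L a) (Γ i) = _ from D.inter_eq hinv hcl1 i, ← Finset.sum_add_distrib]
    exact Finset.sum_eq_zero fun j _ => by
      show ArSurf.inter R (Over.mk p) (L j) (Γ i) * v j + -v j * ArSurf.inter R (Over.mk p) (L j) (Γ i) = 0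
      ring
  have hgen1 : PicF.cl ((Scheme.Modules.pullback g).obj M1) = PicF.cl N := by
    show Groth.Agent.H23.PicMul.pullHom g (PicF.cl M1) = _
    rw [show PicF.cl M1 = PicF.cl M * PicF.cl (FGA.multiTwist L a) from Groth.Agent.H23.PicMul.cl_tensor _ _,
      hcl1, map_mul]
    refine (congrArg (_ * ·) (D.pullback_P hg _)).trans ((mul_one _).trans ?_)
    exact Groth.Agent.H23.PicMul.cl_eq_iff.2 hMN
  have hN1 : PicF.cl N ^ h = 1 := by
    rw [← Groth.Agent.H23.PicMul.cl_tensorPow]
    exact Groth.Agent.H23.PicMul.cl_eq_iff.2 hNt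
  let M2 := CohB1.tensorPow M1 h
  have hM2 : PicF.IsInvertible M2 := Groth.Agent.H23.PicMul.isInvertible_tensorPow hM1 h
  obtain ⟨T, -, hkill⟩ := Groth.Agent.H26.VertClass.pow_gcd_eq_one D hconn hg hM2
    (Groth.Agent.H23.PicMul.cl_eq_iff.1 (by
      show Groth.Agent.H23.PicMul.pullHom g (PicF.cl (CohB1.tensorPow M1 h)) = _
      rw [Groth.Agent.H23.PicMul.cl_tensorPow, map_pow,
        show Groth.Agent.H23.PicMul.pullHom g (PicF.cl M1) = PicF.cl N from hgen1, hN1]
      rfl))
    fun i => by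
      show ArSurf.inter R (Over.mk p) (CohB1.tensorPow M1 h) (Γ i) = 0
      exact (Groth.Agent.H26.ArInter.inter_tensorPow (X := Over.mk p) (Γ i) hM1 h).trans (by rw [hdeg1 i, mul_zero])
  obtain ⟨s, q, hsq⟩ : ∃ s q : ℕ, Models.multGcd R (Over.mk p) Γ * s = 1 + h * q := by
    set d := Models.multGcd R (Over.mk p) Γ
    obtain ⟨x, y, hxy⟩ := Int.isCoprime_iff_nat_coprime.2
      (show Nat.Coprime (d : ℤ).natAbs (h : ℤ).natAbs by simpa using hcop.symm)
    have hd0 : (0 : ℤ) < d := Int.natCast_pos.2 (Groth.Agent.H26.VertClass.multGcd_pos D hconn)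
    have hh0 : (0 : ℤ) < h := Int.natCast_pos.2 hh
    have hs : 0 ≤ x + h * (|x| + |y| + 1) := by
      nlinarith [abs_nonneg x, abs_nonneg y, neg_abs_le x]
    have hq : 0 ≤ -y + d * (|x| + |y| + 1) := by
      nlinarith [abs_nonneg x, abs_nonneg y, le_abs_self y]
    refine ⟨(x + h * (|x| + |y| + 1)).toNat, (-y + d * (|x| + |y| + 1)).toNat, ?_⟩
    have : (d : ℤ) * (x + h * (|x| + |y| + 1)) = 1 + h * (-y + d * (|x| + |y| + 1)) := by
      linear_combination hxy
    rw [← Int.toNat_of_nonneg hs, ← Int.toNat_of_nonneg hq] at this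
    exact_mod_cast this
  refine ⟨CohB1.tensorPow M1 (Models.multGcd R (Over.mk p) Γ * s),
    Groth.Agent.H23.PicMul.isInvertible_tensorPow hM1 _, Groth.Agent.H23.PicMul.cl_eq_iff.1 ?_,
    Groth.Agent.H23.PicMul.cl_eq_iff.1 ?_⟩
  · rw [Groth.Agent.H23.PicMul.cl_tensorPow, Groth.Agent.H23.PicMul.cl_tensorPow, ← pow_mul, mul_comm (_ * s) h,
      ← mul_assoc, pow_mul, pow_mul, ← Groth.Agent.H23.PicMul.cl_tensorPow M1 h]
    rw [show PicF.cl (CohB1.tensorPow M1 h) ^ Models.multGcd R (Over.mk p) Γ = 1 from hkill, one_pow]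
    rfl
  · show Groth.Agent.H23.PicMul.pullHom g (PicF.cl (CohB1.tensorPow M1 _)) = _
    rw [Groth.Agent.H23.PicMul.cl_tensorPow, map_pow,
      show Groth.Agent.H23.PicMul.pullHom g (PicF.cl M1) = PicF.cl N from hgen1, hsq, pow_add, pow_one, pow_mul, hN1,
      one_pow, mul_one]

end Groth.Agent.S3342
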