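import Groth.Statements.S3343
import Groth.Agent.H26.TorsTriv

set_option autoImplicit false
universe u
open CategoryTheory CategoryTheory.Limits AlgebraicGeometry
open Models

namespace Groth.Agent.S3343

/-- Let R be a discrete valuation ring with fraction field K and residue field k, C a smooth proper
curve over K with H^0(C, O_C) = K and X a regular proper model of C. Let h ≥ 1 be an integer prime
to the characteristic of k and M an invertible O_X-module with M^{⊗h} ≅ O_X. If the pullback of M to
the reduced closed fibre (X_k)_red is trivial, then M is trivial. -/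
theorem result (R : Type u) [CommRing R] [IsDomain R] [IsDiscreteValuationRing R]
    (C X : Scheme.{u}) (f : C ⟶ Spec (CommRingCat.of (FractionRing R))) (p : X ⟶ Spec (CommRingCat.of R))
    (hC : Curve.IsSmoothProperCurve (FractionRing R) C f) (hH0 : IsIso f.appTop)
    (hX : Models.IsRegularProperModel R X p C f) (h : ℕ) (hh : 0 < h)
    (hchar : ∀ q : ℕ, q.Prime → CharP (IsLocalRing.ResidueField R) q → ¬ q ∣ h)
    (M : X.Modules) (hM : PicF.IsInvertible M)
    (htors : Nonempty (CohB1.tensorPow M h ≅ Coh.structureModule X))
    (htriv : Nonempty ((Scheme.Modules.pullback (Models.redFibreIdeal R (Over.mk p)).subschemeι).obj M ≅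
      Coh.structureModule (Models.redFibreIdeal R (Over.mk p)).subscheme)) :
    Nonempty (M ≅ Coh.structureModule X) := by
  haveI : IsProper p := hX.2.1
  exact Groth.Agent.H26.TorsTriv.iso_of_torsion p hh hchar hM htors _
    (fun x hx => (Groth.Agent.H23.RedSub.range_vanishingIdeal _).ge hx) htriv

end Groth.Agent.S3343
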