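import Groth.Statements.S3345
import Groth.Agent.H26.H1Strict

set_option autoImplicit false
universe u
open CategoryTheory CategoryTheory.Limits AlgebraicGeometry
open Models

namespace Groth.Agent.S3345

/-- In the following situation (R a discrete valuation ring with residue field k, C a smooth proper
curve over its fraction field K with H^0(C, O_C) = K, X a regular proper model, Γ_1, …, Γ_n the
irreducible components of the closed fibre with multiplicities m_i) assume X is a minimal model,
gcd(m_1, …, m_n) = 1 and H^0((X_k)_red, O) = k. Then dim_k H^1((X_k)_red, O) ≤ dim_k H^1(X_k, O),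
and the inequality is strict when X_k is not reduced (k-dimensions computed as R-lengths of the
cohomology on X of the structure sheaves of the two closed subschemes). The published statement is
the stronger one that H^1(X_k, O_{X_k}) → H^1((X_k)_red, O) is surjective, with non-zero kernel when
X_k is not reduced; this is its form in terms of dimensions. -/
theorem result (R : Type u) [CommRing R] [IsDomain R] [IsDiscreteValuationRing R]
    (C X : Scheme.{u}) (f : C ⟶ Spec (CommRingCat.of (FractionRing R))) (p : X ⟶ Spec (CommRingCat.of R))
    (hC : Curve.IsSmoothProperCurve (FractionRing R) C f) (hH0 : IsIso f.appTop)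
    (hX : Models.IsRegularProperModel R X p C f)
    {n : ℕ} (Γ : Fin n → ArSurf.VertComp R (Over.mk p)) (hΓ : Models.IsComponentList R (Over.mk p) Γ)
    (hmin : Models.IsMinimalModel R X p C f) (hgcd : Models.multGcd R (Over.mk p) Γ = 1)
    (hH0k : Models.lengthH R (Over.mk p) (ClSub.quotMod (Models.redFibreIdeal R (Over.mk p))) 0 = 1) :
    Models.lengthH R (Over.mk p) (ClSub.quotMod (Models.redFibreIdeal R (Over.mk p))) 1 ≤
        Models.lengthH R (Over.mk p) (ClSub.quotMod (Models.specialFibreIdeal R (Over.mk p))) 1 ∧
      (Models.specialFibreIdeal R (Over.mk p) ≠ Models.redFibreIdeal R (Over.mk p) →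
        Models.lengthH R (Over.mk p) (ClSub.quotMod (Models.redFibreIdeal R (Over.mk p))) 1 <
          Models.lengthH R (Over.mk p) (ClSub.quotMod (Models.specialFibreIdeal R (Over.mk p))) 1) := by
  obtain ⟨L, hL⟩ := Groth.Agent.H26.VertModel.exists_inverses hX hΓ
  obtain ⟨h1, h2⟩ := Groth.Agent.H26.H1Strict.h1_red_le (Groth.Agent.H26.VertModel.mkData hX hΓ L hL)
    (Groth.Agent.H26.VertModel.isConnected hC hH0 hX) hgcd hmin.2 hH0k
  exact ⟨h1, fun h => h2 (Or.inr h)⟩

end Groth.Agent.S3345
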