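import Groth.Statements.S3346
import Groth.Agent.MinModel.Contract

set_option autoImplicit false
set_option backward.isDefEq.respectTransparency false
set_option backward.isDefEq.respectTransparency.types false
set_option linter.style.haveILetI false
set_option linter.unusedSectionVars false
set_option maxHeartbeats 800000
universe u
open CategoryTheory CategoryTheory.Limits AlgebraicGeometry
open Models

namespace Groth.Agent.S3346

open CategoryTheory CategoryTheory.Limits Groth.Agent Groth.Agent.H23
attribute [local instance] PicMul.clMonoid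

/-- In the following situation (R a discrete valuation ring with residue field k, C a smooth proper
curve over its fraction field K with H^0(C, O_C) = K, X a regular proper model with generic-fibre
inclusion g, Γ_0, …, Γ_n the irreducible components of the closed fibre with multiplicities m_i, L_j
⊗ I(Γ_j) ≅ O_X, a_ij = deg_k(L_j|Γ_i)) assume the last component Γ_n is an exceptional curve of the
first kind and let b : X → X' be a contraction of Γ_n over R (X' Noetherian, p = b ≫ p'). Then X'
(with g ≫ b) is a regular proper model of C, the irreducible components of its closed fibre are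
exactly the images Γ'_i = b(Γ_i), i < n, and for any enumeration Γ' of them with these images and
any L'_j ⊗ I(Γ'_j) ≅ O_{X'} one has m'_i = m_i and a'_ij · a_nn = a_ij · a_nn - a_in · a_jn (that
is, a'_ij = a_ij - a_in a_jn / a_nn, cleared of the denominator a_nn ≠ 0). -/
theorem result (R : Type u) [CommRing R] [IsDomain R] [IsDiscreteValuationRing R]
    (C X X' : Scheme.{u}) (f : C ⟶ Spec (CommRingCat.of (FractionRing R))) (p : X ⟶ Spec (CommRingCat.of R))
    (p' : X' ⟶ Spec (CommRingCat.of R))
    (hC : Curve.IsSmoothProperCurve (FractionRing R) C f) (hH0 : IsIso f.appTop)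
    (hX : Models.IsRegularProperModel R X p C f) (g : C ⟶ X) (hg : IsPullback g f p (Spec.map (CommRingCat.ofHom (algebraMap R (FractionRing R)))))
    {n : ℕ} (Γ : Fin (n + 1) → ArSurf.VertComp R (Over.mk p)) (hΓ : Models.IsComponentList R (Over.mk p) Γ)
    (L : Fin (n + 1) → X.Modules) (hL : ∀ i, ClSub.IsInverseOf (L i) (ClSub.idealMod (Γ i).ι.ker))
    (hexc : Models.IsExcCurve (Γ (Fin.last n)).ι)
    (b : X ⟶ X') (hb : Models.IsContractionOf (Γ (Fin.last n)).ι b) (hcomm : b ≫ p' = p) :
    Models.IsRegularProperModel R X' p' C f ∧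
      Models.fibreComponents R (Over.mk p') =
        Set.range (fun i : Fin n => b.base '' Set.range ((Γ i.castSucc).ι.base : (Γ i.castSucc).curve.left → X)) ∧
      ∀ (Γ' : Fin n → ArSurf.VertComp R (Over.mk p')),
        (∀ i, Set.range ((Γ' i).ι.base : (Γ' i).curve.left → X') =
          b.base '' Set.range ((Γ i.castSucc).ι.base : (Γ i.castSucc).curve.left → X)) →
        (∀ i, Models.mult R (Over.mk p') (Γ' i) = Models.mult R (Over.mk p) (Γ i.castSucc)) ∧
        ∀ (L' : Fin n → X'.Modules), (∀ j, ClSub.IsInverseOf (L' j) (ClSub.idealMod (Γ' j).ι.ker)) →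
          ∀ i j : Fin n,
            ArSurf.inter R (Over.mk p') (L' j) (Γ' i) * ArSurf.inter R (Over.mk p) (L (Fin.last n)) (Γ (Fin.last n)) =
              ArSurf.inter R (Over.mk p) (L j.castSucc) (Γ i.castSucc) * ArSurf.inter R (Over.mk p) (L (Fin.last n)) (Γ (Fin.last n)) -
                ArSurf.inter R (Over.mk p) (L (Fin.last n)) (Γ i.castSucc) * ArSurf.inter R (Over.mk p) (L (Fin.last n)) (Γ j.castSucc) := by
  haveI := hC.1
  haveI := hC.2.2.1
  let M : MinModel.Model C f := ⟨X, p, g, hg, hX⟩
  haveI : IsIntegral X := M.isIntegral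
  haveI : IsProper p := M.isProper
  haveI : Flat p := M.flat
  have hreg : ∀ x : X, IsRegularLocalRing (X.presheaf.stalk x) := M.regular
  obtain ⟨hint, hreg', -, hbP, ⟨D⟩⟩ := MinModel.Contract.exists_data hreg hexc hb
  haveI := hint
  haveI := hbP
  haveI : IsProper p' := MinModel.Contract.isProper_target hreg hexc hb hcomm
  obtain ⟨-, hmodel⟩ := M.exists_of_contraction b p' hcomm hreg' D.y D.hy D.off
  haveI : Flat p' := hmodel.1.1
  have hcomp := MinModel.Contract.fibreComponents_eq hreg hΓ hexc hb hcomm L hL
  refine ⟨hmodel, hcomp, fun Γ' hr => ?_⟩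
  have hΓ' : Models.IsComponentList R (Over.mk p') Γ' := by
    refine ⟨fun i j hij => MinModel.Contract.eq_of_genPt_mem hΓ D (i := i) (j := j) ?_, ?_⟩
    · refine ((hr i).symm.trans (Eq.trans hij (hr j))) ▸ ?_
      exact ⟨_, ⟨_, rfl⟩, rfl⟩
    · rw [hcomp]
      exact congrArg Set.range (funext hr)
  exact ⟨fun i => MinModel.Contract.mult_eq hΓ hcomm D hΓ' hr i,
    fun L' hL' i j => MinModel.Contract.inter_eq hreg hΓ hexc hcomm D L hL hreg' hΓ' hr L' hL' i j⟩

end Groth.Agent.S3346
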