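import Groth.Statements.S3348
import Groth.Agent.H26.VertApply

set_option autoImplicit false
universe u
open CategoryTheory CategoryTheory.Limits AlgebraicGeometry
open Models

namespace Groth.Agent.S3348

open scoped Groth.Agent.H23.PicMul

/-- In the following situation (R a discrete valuation ring with residue field k, C a smooth proper
curve over its fraction field K with H^0(C, O_C) = K, X a regular proper model with generic-fibre
inclusion g, Γ_1, …, Γ_n the irreducible components of the closed fibre, L_j ⊗ I(Γ_j) ≅ O_X, a_ij =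
deg_k(L_j|Γ_i), w_i = dim_k H^0(Γ_i, O)) let N be an invertible O_C-module and M an invertible
O_X-module restricting to N. Then the degree vector (deg_k(M|Γ_i))_i is of the form (Σ_j a_ij v_j)_i
for an integer vector v (the class (deg_k(M|Γ_i)/w_i)_i vanishes in the Picard group of the
numerical type, which does not depend on the choice of M) if and only if N is the restriction of an
invertible O_X-module M' with deg_k(M'|Γ_i) = 0 for all i. -/
theorem result (R : Type u) [CommRing R] [IsDomain R] [IsDiscreteValuationRing R]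
    (C X : Scheme.{u}) (f : C ⟶ Spec (CommRingCat.of (FractionRing R))) (p : X ⟶ Spec (CommRingCat.of R))
    (hC : Curve.IsSmoothProperCurve (FractionRing R) C f) (hH0 : IsIso f.appTop)
    (hX : Models.IsRegularProperModel R X p C f)
    {n : ℕ} (Γ : Fin n → ArSurf.VertComp R (Over.mk p)) (hΓ : Models.IsComponentList R (Over.mk p) Γ)
    (g : C ⟶ X) (hg : IsPullback g f p (Spec.map (CommRingCat.ofHom (algebraMap R (FractionRing R))))) (L : Fin n → X.Modules) (hL : ∀ i, ClSub.IsInverseOf (L i) (ClSub.idealMod (Γ i).ι.ker))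
    (N : C.Modules) (hN : PicF.IsInvertible N)
    (M : X.Modules) (hM : PicF.IsInvertible M) (hMN : Nonempty ((Scheme.Modules.pullback g).obj M ≅ N)) :
    (∃ v : Fin n → ℤ, ∀ i, ArSurf.inter R (Over.mk p) M (Γ i) = ∑ j, ArSurf.inter R (Over.mk p) (L j) (Γ i) * v j) ↔
      ∃ M' : X.Modules, PicF.IsInvertible M' ∧ Nonempty ((Scheme.Modules.pullback g).obj M' ≅ N) ∧
        ∀ i, ArSurf.inter R (Over.mk p) M' (Γ i) = 0 := by
  let D := Groth.Agent.H26.VertModel.mkData hX hΓ L hL
  haveI : IsProper (Over.mk p).hom := hX.2.1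
  constructor
  · rintro ⟨v, hv⟩
    obtain ⟨N0, a, ha⟩ := D.exists_shift (fun i => - v i)
    have hinv : PicF.IsInvertible (FGA.multiTwist L a) :=
      Groth.Agent.H26.ArInter.isInvertible_multiTwist D.isInvertible a
    have hcl1 : PicF.cl (FGA.multiTwist L a) = (Units.val (D.P fun i => - v i)) := (D.P_eq_of_shift ha).symm
    refine ⟨CohB1.tensorMod M (FGA.multiTwist L a), Groth.Agent.H23.PicMul.isInvertible_tensor hM hinv,
      Groth.Agent.H23.PicMul.cl_eq_iff.1 ?_, fun i => ?_⟩
    · show Groth.Agent.H23.PicMul.pullHom g (PicF.cl (CohB1.tensorMod M _)) = _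
      rw [Groth.Agent.H23.PicMul.cl_tensor, hcl1, map_mul]
      refine (congrArg (_ * ·) (D.pullback_P hg _)).trans ((mul_one _).trans ?_)
      exact Groth.Agent.H23.PicMul.cl_eq_iff.2 hMN
    · refine (Groth.Agent.H26.ArInter.inter_tensor (X := Over.mk p) (Γ i) hM hinv).trans ?_
      rw [hv i, show ArSurf.inter R (Over.mk p) (FGA.multiTwist L a) (Γ i) = _ from D.inter_eq hinv hcl1 i, ← Finset.sum_add_distrib]
      exact Finset.sum_eq_zero fun j _ => by
        show ArSurf.inter R (Over.mk p) (L j) (Γ i) * v j + -v j * ArSurf.inter R (Over.mk p) (L j) (Γ i) = 0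
        ring
  · rintro ⟨M', hM', hM'N, hdeg⟩
    obtain ⟨I', hI', hI'e⟩ := Groth.Agent.H23.PicInv.exists_inverse hM'
    have hone : PicF.cl M' * PicF.cl I' = 1 := by
      rw [← Groth.Agent.H23.PicMul.cl_tensor]
      exact Groth.Agent.H23.PicMul.cl_eq_iff.2 hI'e
    have hMI := Groth.Agent.H23.PicMul.isInvertible_tensor hM hI'
    obtain ⟨a, ha⟩ := D.exists_P_of_trivial hg hMI (Groth.Agent.H23.PicMul.cl_eq_iff.1 (by
      show Groth.Agent.H23.PicMul.pullHom g (PicF.cl (CohB1.tensorMod M I')) = 1
      rw [Groth.Agent.H23.PicMul.cl_tensor, map_mul,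
        show Groth.Agent.H23.PicMul.pullHom g (PicF.cl M) = Groth.Agent.H23.PicMul.pullHom g (PicF.cl M') from
          (Groth.Agent.H23.PicMul.cl_eq_iff.2 hMN).trans (Groth.Agent.H23.PicMul.cl_eq_iff.2 hM'N).symm,
        ← map_mul, hone, map_one]))
    have hM2 : PicF.cl M = PicF.cl (CohB1.tensorMod M' (FGA.multiTwist L a)) := by
      rw [Groth.Agent.H23.PicMul.cl_tensor, show PicF.cl (FGA.multiTwist L a) = _ from ha.symm,
        Groth.Agent.H23.PicMul.cl_tensor, mul_left_comm, hone, mul_one]
    refine ⟨fun i => (a i : ℤ), fun i => ?_⟩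
    have hinv : PicF.IsInvertible (FGA.multiTwist L a) :=
      Groth.Agent.H26.ArInter.isInvertible_multiTwist D.isInvertible a
    rw [show ArSurf.inter R (Over.mk p) M (Γ i) = _ from Groth.Agent.H26.ArInter.inter_congr (X := Over.mk p) (Γ i) hM hM2]
    refine (Groth.Agent.H26.ArInter.inter_tensor (X := Over.mk p) (Γ i) hM' hinv).trans ?_
    rw [hdeg i, zero_add]
    refine (Groth.Agent.H26.ArInter.inter_multiTwist (X := Over.mk p) (Γ i) D.isInvertible a).trans ?_
    exact Finset.sum_congr rfl fun j _ => mul_comm _ _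

end Groth.Agent.S3348
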