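import Groth.Statements.S3349
import Groth.Agent.NumType.Genus
-- import your own Groth.Agent.* helpers here

set_option autoImplicit false
open Finset
open Models Models.NumericalType

namespace Groth.Agent.S3349

/-- Let T be a numerical type with exactly one index. Then a_11 = 0 and the genus of T is g = 1 + m_1
w_1 (g_1 - 1). Consequently: if g < 0 then g_1 = 0 (and m_1 w_1 = 1 - g); if g = 0 then m_1 = w_1 =
1 and g_1 = 0; if g = 1 then g_1 = 1; if g > 1 then g_1 > 1 (and m_1 w_1 (g_1 - 1) = g - 1). -/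
theorem result (T : Models.NumericalType 1) :
    T.a 0 0 = 0 ∧ T.genus = 1 + T.m 0 * T.w 0 * (T.g 0 - 1) ∧
      (T.genus < 0 → T.g 0 = 0) ∧ (T.genus = 0 → T.m 0 = 1 ∧ T.w 0 = 1 ∧ T.g 0 = 0) ∧
      (T.genus = 1 → T.g 0 = 1) ∧ (1 < T.genus → 1 < T.g 0) := by
  have hs := NumType.single_index T
  have hu : 0 < T.m 0 * T.w 0 := mul_pos (T.m_pos 0) (T.w_pos 0)
  have hg := T.g_nonneg 0
  refine ⟨NumType.a_eq_zero_of_one T, hs, fun h => ?_, fun h => ?_, fun h => ?_, fun h => ?_⟩
  · nlinarith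
  · have hmin : T.IsMinimal := by
      intro i hi
      have hi2 := hi.2
      rw [Subsingleton.elim i 0, NumType.a_eq_zero_of_one T] at hi2
      have := T.w_pos 0
      omega
    obtain ⟨-, h2⟩ := NumType.eq_trivial_of_minimal_genus_zero T hmin h
    exact ⟨(h2 0).1, (h2 0).2.2.1, (h2 0).2.2.2⟩
  · rw [h] at hs
    rcases mul_eq_zero.1 (by linarith : T.m 0 * T.w 0 * (T.g 0 - 1) = 0) with h | h
    · exact absurd h hu.ne'
    · linarith
  · nlinarith

end Groth.Agent.S3349
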