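import Groth.Statements.S3353
import Groth.Agent.SGA11.CI
-- import your own Groth.Agent.* helpers here

set_option autoImplicit false
set_option backward.isDefEq.respectTransparency false
set_option backward.isDefEq.respectTransparency.types false
set_option linter.style.haveILetI false
universe u
open AlgebraicGeometry
open ParaF

namespace Groth.Agent.S3353

/-- Let A be a Noetherian local ring of Krull dimension at least 4 which is a complete intersection: A
is isomorphic to the quotient of a regular local ring by an ideal generated by a regular sequence
contained in the maximal ideal. Then A is parafactorial: for every open V of Spec A, restriction of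
invertible modules from V to V minus the closed point is fully faithful and essentially surjective. -/
theorem result (A : Type u) [CommRing A] [IsLocalRing A] [IsNoetherianRing A] (hA : SGA2.IsAbsCompleteIntersection A) (hdim : (4 : WithBot ℕ∞) ≤ ringKrullDim A) : ParaF.IsParafactorialLocalRing A := by
  obtain ⟨B, _, _, rs, hmem, hreg, ⟨e⟩⟩ := hA
  exact SGA11.isParafactorial_ci hmem hreg.toIsWeaklyRegular e hdim

end Groth.Agent.S3353
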