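import Groth.Statements.S3354
import Groth.Agent.PicU24.Pull
import Groth.Agent.PicU24.Tower
import Groth.Agent.PicU24.Main
import Groth.Agent.PinchPO7.FramePull
import Groth.Agent.ParaFX.Ufd
-- import your own Groth.Agent.* helpers here

set_option autoImplicit false
set_option backward.isDefEq.respectTransparency false
set_option backward.isDefEq.respectTransparency.types false
set_option linter.style.haveILetI false
universe u
open CategoryTheory CategoryTheory.Limits AlgebraicGeometry
open ParaF

open CategoryTheory CategoryTheory.Limits AlgebraicGeometry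

namespace Groth.Agent.S3354

/-- Let A be a Noetherian local ring which is a quotient of a regular local ring, t an A-regular element
of the maximal ideal such that A is complete for the t-adic topology, X the punctured spectrum of A
and Y = V(t) ∩ X (the punctured spectrum of B = A/tA, as the closed subscheme of X cut out by t).
Assume (a) A_p has depth ≥ 2 for every prime p with dim A/p = 1 (the closed points of X) and (b) B
has depth ≥ 3. Then the map Pic(X) → Pic(Y) has trivial kernel: an invertible O_X-module whose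
pull-back to Y is trivial is trivial. In particular, if B is parafactorial then A is parafactorial. -/
theorem result (R : Type u) [CommRing R] [IsRegularLocalRing R] (A : Type u) [CommRing A] [IsLocalRing A] [IsNoetherianRing A] (π : R →+* A) (hπ : Function.Surjective π) (t : A) (ht : t ∈ IsLocalRing.maximalIdeal A) (hreg : IsSMulRegular A t) [IsAdicComplete (Ideal.span {t}) A] (ha : ∀ p : PrimeSpectrum A, ringKrullDim (A ⧸ p.asIdeal) = 1 → (2 : ℕ∞) ≤ LocCoh.depth (Localization.AtPrime p.asIdeal) (Localization.AtPrime p.asIdeal)) [IsLocalRing (A ⧸ Ideal.span {t})] (hb : (3 : ℕ∞) ≤ LocCoh.depth (A ⧸ Ideal.span {t}) (A ⧸ Ideal.span {t})) : Formal2.PicPullbackInjective (((Spec.map (CommRingCat.ofHom (Ideal.Quotient.mk (Ideal.span {t})))).ker.comap (FEt.puncturedSpec A).ι)).subschemeι ∧ (ParaF.IsParafactorialLocalRing (A ⧸ Ideal.span {t}) → ParaF.IsParafactorialLocalRing A) := by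
  classical
  let J₀ : Ideal A := Ideal.span {t ^ (0 + 1)}
  have hpow : Ideal.span {t} = Ideal.span {t ^ (0 + 1)} := by rw [zero_add, pow_one]
  haveI : IsLocalRing (A ⧸ Ideal.span {t ^ (0 + 1)}) := PicU24.isLocalRing_quot ht 0
  haveI : IsLocalHom (PicU24.πn t 0) := IsLocalHom.of_surjective _ Ideal.Quotient.mk_surjective
  have hd4 : (4 : ℕ∞) ≤ LocCoh.depth A A := (PicU24.depth_quotient_succ ht hreg 3).1 hb
  refine ⟨fun L hL ⟨θ⟩ => ?_, fun hpar => ?_⟩
  · let ψ : A ⧸ Ideal.span {t} →+* A ⧸ Ideal.span {t ^ (0 + 1)} := Ideal.Quotient.factor hpow.le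
    let g := Spec.map (CommRingCat.ofHom (Ideal.Quotient.mk (Ideal.span {t})))
    let p := Spec.map (CommRingCat.ofHom (PicU24.πn t 0))
    let U := FEt.puncturedSpec A
    let U₀ := FEt.puncturedSpec (A ⧸ Ideal.span {t ^ (0 + 1)})
    have hrange : Set.range (U₀.ι ≫ p).base ⊆ Set.range U.ι.base := by
      rw [Scheme.Opens.range_ι]
      rintro _ ⟨x, rfl⟩ (hx : PrimeSpectrum.comap (PicU24.πn t 0) x.1 = IsLocalRing.closedPoint A)
      exact x.2 (PrimeSpectrum.comap_injective_of_surjective _ Ideal.Quotient.mk_surjective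
        (hx.trans (IsLocalRing.comap_closedPoint (PicU24.πn t 0)).symm))
    let ρ : U₀.toScheme ⟶ U.toScheme := IsOpenImmersion.lift U.ι (U₀.ι ≫ p) hrange
    have hρ : ρ ≫ U.ι = U₀.ι ≫ p := IsOpenImmersion.lift_fac _ _ _
    have hψ : Spec.map (CommRingCat.ofHom ψ) ≫ g = p := by
      rw [← Spec.map_comp]; rfl
    let j₀ := U₀.ι ≫ Spec.map (CommRingCat.ofHom ψ) ≫ g.toImage
    have hj₀ : ρ ≫ U.ι = j₀ ≫ g.ker.subschemeι := by
      rw [hρ, ← hψ]
      simp only [j₀, Category.assoc]
      exact congrArg (fun q => U₀.ι ≫ Spec.map (CommRingCat.ofHom ψ) ≫ q) g.toImage_imageι.symm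
    let j := pullback.lift ρ j₀ hj₀ ≫ (g.ker.comapIso U.ι).inv
    have hj : j ≫ (g.ker.comap U.ι).subschemeι = ρ := by
      simp [j]
    let θ' : (Scheme.Modules.pullback ρ).obj L ≅ Coh.structureModule _ :=
      ((Scheme.Modules.pullbackComp j (g.ker.comap U.ι).subschemeι).app L ≪≫
        (Scheme.Modules.pullbackCongr hj).app L).symm ≪≫
        (Scheme.Modules.pullback j).mapIso θ ≪≫ PinchPO7.unitIso j
    obtain ⟨K, _, f, hf, e, he⟩ := PicU24.exists_frames hL
    obtain ⟨T, hT, hte⟩ := PicU24.exists_cocycle hf.mem e he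
    exact PicU24.nonempty_iso_of_triv hf e he hte (PicU24.triv_of_quotient ht hreg hd4 ha hf hT
      (PicU24.triv_push_of_pullback (PicU24.πn t 0) ρ hρ θ' hf e he hte))
  · have key : ∀ {I J : Ideal A} [IsLocalRing (A ⧸ I)] [IsLocalRing (A ⧸ J)], I = J →
        ParaF.IsParafactorialLocalRing (A ⧸ I) → ParaF.IsParafactorialLocalRing (A ⧸ J) := by
      intro I J _ _ h
      subst h
      exact id
    have h0 := ((ParaFX.isParafactorialLocalRing_iff _).1 (key hpow hpar)).2
    refine (ParaFX.isParafactorialLocalRing_iff A).2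
      ⟨ParaFX.punctured_bijective A (le_trans (by norm_num) hd4), PicU24.picTrivial_of_triv fun K _ f hf T hT => ?_⟩
    exact PicU24.triv_of_quotient ht hreg hd4 ha hf hT (PicU24.triv_of_picTrivial h0
      (PicU24.isCover_of_surjective _ Ideal.Quotient.mk_surjective hf) (PicU24.isCocycle_push _ _ hT))

end Groth.Agent.S3354
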