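import Groth.Statements.S3355
import Groth.Agent.SGA11.Pic
import Groth.Agent.S3354
-- import your own Groth.Agent.* helpers here

set_option autoImplicit false
set_option backward.isDefEq.respectTransparency false
set_option backward.isDefEq.respectTransparency.types false
set_option linter.style.haveILetI false
universe u
open CategoryTheory CategoryTheory.Limits AlgebraicGeometry
open ParaF

open AlgebraicGeometry

namespace Groth.Agent.S3355

/-- Let A be a Noetherian local ring which is a quotient of a regular local ring, t an A-regular element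
of the maximal ideal with A complete for the t-adic topology, X the punctured spectrum of A and Y =
V(t) ∩ X, and assume (a) depth A_p ≥ 2 for every prime p with dim A/p = 1. Assume moreover (c) depth
A_p ≥ 3 for every prime p containing t with dim A/p = 1 (the closed points of Y), (d) depth A/tA ≥
4, and (e) A_p is parafactorial for every prime p not containing t with dim A/p = 1, i.e. at the
closed points of X outside Y (the published statement places this hypothesis at the points of Y;
here it is taken at the closed points of X outside Y; the letters (a), (c), (d), (e) match the names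
of the hypotheses in the Lean statement). Then pull-back along Y → X induces a bijection Pic(X) →
Pic(Y) (trivial kernel and every invertible O_Y-module comes from an invertible O_X-module); in
particular A is parafactorial if and only if A/tA is. -/
theorem result (R : Type u) [CommRing R] [IsRegularLocalRing R] (A : Type u) [CommRing A] [IsLocalRing A] [IsNoetherianRing A] (π : R →+* A) (hπ : Function.Surjective π) (t : A) (ht : t ∈ IsLocalRing.maximalIdeal A) (hreg : IsSMulRegular A t) [IsAdicComplete (Ideal.span {t}) A] (ha : ∀ p : PrimeSpectrum A, ringKrullDim (A ⧸ p.asIdeal) = 1 → (2 : ℕ∞) ≤ LocCoh.depth (Localization.AtPrime p.asIdeal) (Localization.AtPrime p.asIdeal)) (hc : ∀ p : PrimeSpectrum A, t ∈ p.asIdeal → ringKrullDim (A ⧸ p.asIdeal) = 1 → (3 : ℕ∞) ≤ LocCoh.depth (Localization.AtPrime p.asIdeal) (Localization.AtPrime p.asIdeal)) [IsLocalRing (A ⧸ Ideal.span {t})] (hd : (4 : ℕ∞) ≤ LocCoh.depth (A ⧸ Ideal.span {t}) (A ⧸ Ideal.span {t})) (he : ∀ p : PrimeSpectrum A, t ∉ p.asIdeal → ringKrullDim (A ⧸ p.asIdeal) = 1 → ParaF.IsParafactorialLocalRing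 (Localization.AtPrime p.asIdeal)) : (Formal2.PicPullbackInjective (((Spec.map (CommRingCat.ofHom (Ideal.Quotient.mk (Ideal.span {t})))).ker.comap (FEt.puncturedSpec A).ι)).subschemeι ∧ Formal2.PicPullbackSurjective (((Spec.map (CommRingCat.ofHom (Ideal.Quotient.mk (Ideal.span {t})))).ker.comap (FEt.puncturedSpec A).ι)).subschemeι) ∧ (ParaF.IsParafactorialLocalRing A ↔ ParaF.IsParafactorialLocalRing (A ⧸ Ideal.span {t})) := by
  classical
  have hpow : Ideal.span {t} = Ideal.span {t ^ (0 + 1)} := by rw [zero_add, pow_one]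
  haveI : IsLocalRing (A ⧸ Ideal.span {t ^ (0 + 1)}) := PicU24.isLocalRing_quot ht 0
  have h3 := Groth.Agent.S3354.result R A π hπ t ht hreg ha (le_trans (by norm_num) hd)
  have hq : ∀ q : PrimeSpectrum A, t ∉ q.asIdeal → ringKrullDim (A ⧸ q.asIdeal) = 1 →
      (2 : ℕ∞) ≤ LocCoh.depth (Localization.AtPrime q.asIdeal) (Localization.AtPrime q.asIdeal) ∧
        ∀ (K : Type u) [Fintype K] (f : K → Localization.AtPrime q.asIdeal), PicU24.IsCover f →
          ∀ T, PicU24.IsCocycle f T → PicU24.Triv f T := fun q hqt hq1 => by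
    haveI : IsNoetherianRing (Localization.AtPrime q.asIdeal) :=
      IsLocalization.isNoetherianRing q.asIdeal.primeCompl _ inferInstance
    exact ⟨ha q hq1, fun _ _ _ hf _ hT =>
      PicU24.triv_of_picTrivial ((ParaFX.isParafactorialLocalRing_iff _).1 (he q hqt hq1)).2 hf hT⟩
  refine ⟨⟨h3.1, SGA11.picPullbackSurjective_hypersurface ht hreg _ hpow hd hq⟩, fun hA => ?_, h3.2⟩
  have key : ∀ {I J : Ideal A} [IsLocalRing (A ⧸ I)] [IsLocalRing (A ⧸ J)], I = J →
      ((4 : ℕ∞) ≤ LocCoh.depth (A ⧸ I) (A ⧸ I) → (4 : ℕ∞) ≤ LocCoh.depth (A ⧸ J) (A ⧸ J)) ∧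
        (ParaF.IsParafactorialLocalRing (A ⧸ I) → ParaF.IsParafactorialLocalRing (A ⧸ J)) := by
    intro I J _ _ h
    subst h
    exact ⟨id, id⟩
  have hd' := (key hpow).1 hd
  refine (key hpow.symm).2 ((ParaFX.isParafactorialLocalRing_iff _).2
    ⟨ParaFX.punctured_bijective _ (le_trans (by norm_num) hd'), SGA11.picTrivial_hypersurface ht hreg hd' hq
      fun _ _ _ hf _ hT => PicU24.triv_of_picTrivial ((ParaFX.isParafactorialLocalRing_iff A).1 hA).2 hf hT⟩)

end Groth.Agent.S3355
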