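import Groth.Statements.S3357
import Groth.Agent.S3356
import Groth.Agent.S3353
import Groth.Agent.S2834
import Groth.Agent.S2821

set_option autoImplicit false
universe u
open CategoryTheory CategoryTheory.Limits AlgebraicGeometry
open LefX

namespace Groth.Agent.S3357

/-- Let X be a locally Noetherian scheme, 𝓘 a coherent ideal with Y = V(𝓘), Y_p the closed subscheme
defined by 𝓘^(p+1), and n ≥ 0. Assume: (i) Leff(X, Y) holds; (ii) H^i(X, 𝓘^(p+1)/𝓘^(p+2)) = 0 for i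
= 1, 2 and every p ≥ n; (iii) for every open U ⊇ Y and every x outside U, the local ring O_{X,x} is
either regular of dimension ≥ 2 or a complete intersection (quotient of a regular local ring by a
regular sequence) of dimension ≥ 4. Then for every open U ⊇ Y and every p ≥ n the pull-back maps
Pic(X) → Pic(U) and Pic(U) → Pic(Y_p) are bijective. -/
theorem result (X : Scheme.{u}) [IsLocallyNoetherian X] (𝓘 : X.IdealSheafData) (n : ℕ) (h1 : LefX.LeffCond X 𝓘) (h2 : (∀ q : ℕ, n ≤ q → ∀ i : ℕ, (i = 1 ∨ i = 2) → Subsingleton (Coh.HH X (kernel (Lef.quotMap (Lef.pow_succ_le 𝓘 q))) i))) (h3 : ∀ U : X.Opens, (𝓘.support : Set X) ⊆ (U : Set X) → ∀ x : X, x ∉ U → (IsRegularLocalRing (X.presheaf.stalk x) ∧ (2 : WithBot ℕ∞) ≤ ringKrullDim (X.presheaf.stalk x)) ∨ (SGA2.IsAbsCompleteIntersection (X.presheaf.stalk x) ∧ (4 : WithBot ℕ∞) ≤ ringKrullDim (X.presheaf.stalk x))) (U : X.Opens) (hU : (𝓘.support : Set X) ⊆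 (U : Set X)) (p : ℕ) (hp : n ≤ p) : (Formal2.PicPullbackInjective U.ι ∧ Formal2.PicPullbackSurjective U.ι) ∧ (Formal2.PicPullbackInjective ((𝓘.comap U.ι) ^ (p + 1)).subschemeι ∧ Formal2.PicPullbackSurjective ((𝓘.comap U.ι) ^ (p + 1)).subschemeι) := by
  have h3' : ∀ V : X.Opens, (𝓘.support : Set X) ⊆ (V : Set X) → ∀ x : X, x ∉ V →
      ParaF.IsParafactorialLocalRing (X.presheaf.stalk x) := fun V hV x hx => by
    rcases h3 V hV x hx with ⟨hr, hd⟩ | ⟨hci, hd⟩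
    · haveI := hr
      obtain ⟨hdom, hufd⟩ := S2821.result (X.presheaf.stalk x)
      haveI := hdom
      exact S2834.result _ hufd hd
    · exact S3353.result _ hci hd
  obtain ⟨hUbij, hinj, hsurj⟩ := S3356.result X 𝓘 n h1 h2 h3' p hp U hU
  refine ⟨hUbij, fun L hL ⟨eL⟩ => ?_, fun M hM => ?_⟩
  all_goals
    haveI := H26.LefPic.isIso_gMap 𝓘 U hU p
  · obtain ⟨L', hL', ⟨e'⟩⟩ := hUbij.2 L hL
    let gm := H26.LefPic.gMap 𝓘 U p
    obtain ⟨c⟩ := GrLib8.LefPicColim.nonempty_pull_pull ((𝓘.comap U.ι) ^ (p + 1)).subschemeι U.ι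
      gm (𝓘 ^ (p + 1)).subschemeι (H26.LefPic.gMap_subschemeι 𝓘 U p).symm L'
    obtain ⟨c'⟩ := GrLib8.LefPicColim.nonempty_pull_comp (inv gm) gm (𝟙 _) (IsIso.inv_hom_id gm)
      ((Scheme.Modules.pullback (𝓘 ^ (p + 1)).subschemeι).obj L')
    obtain ⟨o⟩ := PicClLib.nonempty_pullback_structureModule (inv gm)
    obtain ⟨e0⟩ := hinj L' hL' ⟨((Scheme.Modules.pullbackId _).app _).symm ≪≫ c'.symm ≪≫
      (Scheme.Modules.pullback (inv gm)).mapIso
        (c.symm ≪≫ (Scheme.Modules.pullback _).mapIso e' ≪≫ eL) ≪≫ o⟩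
    obtain ⟨oU⟩ := PicClLib.nonempty_pullback_structureModule U.ι
    exact ⟨e'.symm ≪≫ (Scheme.Modules.pullback U.ι).mapIso e0 ≪≫ oU⟩
  · let gm := H26.LefPic.gMap 𝓘 U p
    obtain ⟨L', hL', ⟨e⟩⟩ := hsurj _ (PicClLib.isInvertible_pullback (inv gm) hM)
    obtain ⟨c⟩ := GrLib8.LefPicColim.nonempty_pull_pull ((𝓘.comap U.ι) ^ (p + 1)).subschemeι U.ι
      gm (𝓘 ^ (p + 1)).subschemeι (H26.LefPic.gMap_subschemeι 𝓘 U p).symm L'
    obtain ⟨c'⟩ := GrLib8.LefPicColim.nonempty_pull_comp gm (inv gm) (𝟙 _) (IsIso.hom_inv_id gm) M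
    exact ⟨(Scheme.Modules.pullback U.ι).obj L', PicClLib.isInvertible_pullback _ hL',
      ⟨c ≪≫ (Scheme.Modules.pullback gm).mapIso e ≪≫ c' ≪≫ (Scheme.Modules.pullbackId _).app M⟩⟩

end Groth.Agent.S3357
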