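import Groth.Statements.S3362
import Groth.Agent.LC.PuncturedDim

set_option autoImplicit false
universe u
open CategoryTheory CategoryTheory.Limits AlgebraicGeometry TopologicalSpace
open LefX

namespace Groth.Agent.S3362

/-- Let A be a complete Noetherian local ring, X' the punctured spectrum of A and k ≥ 1. Assume (a_k)
every irreducible component of X' has dimension ≥ k + 1, and (b_k) X' is connected in dimension ≥ k,
i.e. X' minus any closed subset of dimension < k is connected. Let 0 ≤ m ≤ k and let f_1, …, f_m be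
elements of the maximal ideal, B = A/(f_1, …, f_m), Y' the punctured spectrum of B. Then Y'
satisfies (a_{k−m}) and (b_{k−m}); in particular Y' is connected. -/
theorem result (A : Type u) [CommRing A] [IsNoetherianRing A] [IsLocalRing A] [IsAdicComplete (IsLocalRing.maximalIdeal A) A] (k : ℕ) (hk : 1 ≤ k) (ha : ∀ Z ∈ irreducibleComponents ↥(FEt.puncturedSpec A), ((k + 1 : ℕ) : WithBot ℕ∞) ≤ topologicalKrullDim ↥Z) (hb : LefX.ConnectedInDim ↥(FEt.puncturedSpec A) k) (m : ℕ) (hm : m ≤ k) (f : Fin m → A) (hf : ∀ i, f i ∈ IsLocalRing.maximalIdeal A) [IsLocalRing (A ⧸ Ideal.span (Set.range f))] : (∀ Z ∈ irreducibleComponents ↥(FEt.puncturedSpec (A ⧸ Ideal.span (Set.range f))), ((k - m + 1 : ℕ) : WithBot ℕ∞) ≤ topologicalKrullDim ↥Z) ∧ LefX.ConnectedInDim ↥(FEt.puncturedSpec (A ⧸ Ideal.span (Set.range f))) (k - m) := by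
  exact Groth.Agent.LC.linearSection_connectedInDim hk ha hb hm f hf

end Groth.Agent.S3362
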