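import Groth.Statements.S3363
import Groth.Agent.GrLib8.NormSection.Cover

set_option autoImplicit false
universe u
open CategoryTheory CategoryTheory.Limits AlgebraicGeometry TopologicalSpace
open LefX

namespace Groth.Agent.S3363

/-- Let A be a normal complete Noetherian local domain of dimension ≥ k + 2, X' its punctured spectrum,
f_1, …, f_k elements of the maximal ideal and Y' = X' ∩ V(f_1, …, f_k), the closed subscheme of X'
cut out by the f_i. Then Y' is connected and restriction of finite étale covers from X' to Y' is
fully faithful (for the fundamental groups: π₁(Y') → π₁(X') is surjective). -/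
theorem result (A : Type u) [CommRing A] [IsDomain A] [IsNoetherianRing A] [IsLocalRing A] [IsIntegrallyClosed A] [IsAdicComplete (IsLocalRing.maximalIdeal A) A] (k : ℕ) (hdim : ((k + 2 : ℕ) : WithBot ℕ∞) ≤ ringKrullDim A) (f : Fin k → A) (hf : ∀ i, f i ∈ IsLocalRing.maximalIdeal A) : ConnectedSpace ↥(((Spec.map (CommRingCat.ofHom (Ideal.Quotient.mk (Ideal.span (Set.range f))))).ker.comap (FEt.puncturedSpec A).ι).subscheme) ∧ (FEt.restrict ((Spec.map (CommRingCat.ofHom (Ideal.Quotient.mk (Ideal.span (Set.range f))))).ker.comap (FEt.puncturedSpec A).ι).subschemeι).Full ∧ (FEt.restrict ((Spec.map (CommRingCat.ofHom (Ideal.Quotient.mk (Ideal.span (Set.range f))))).ker.comap (FEt.puncturedSpec A).ι).subschemeι).Faithful := by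
  refine GrLib8.NormSection.full_faithful_section k hdim f hf _ ?_
  rw [Scheme.IdealSheafData.range_subschemeι, Scheme.IdealSheafData.support_comap, TopologicalSpace.Closeds.coe_preimage,
    Scheme.Hom.support_ker]
  refine congrArg (fun s => (FEt.puncturedSpec A).ι.base ⁻¹' s) ?_
  refine (congrArg closure (range_comap_of_surjective _ _ Ideal.Quotient.mk_surjective)).trans ?_
  refine (PrimeSpectrum.isClosed_zeroLocus _).closure_eq.trans ?_
  rw [Ideal.mk_ker, PrimeSpectrum.zeroLocus_span]

end Groth.Agent.S3363
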