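import Groth.Statements.S3372
import Groth.Agent.Synt29.FormalHH
import Groth.Agent.AssLib.OpenRestrict
import Groth.Agent.Hensel.DepthFlat
import Groth.Agent.Algz7.Canon2.Stalk
import Groth.Agent.LC.FiniteCrit

set_option autoImplicit false
universe u
open CategoryTheory CategoryTheory.Limits AlgebraicGeometry
open Formal

set_option linter.style.haveILetI false
set_option linter.unusedSectionVars false
set_option backward.isDefEq.respectTransparency false
set_option backward.isDefEq.respectTransparency.types false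
set_option maxHeartbeats 1000000
open Opposite TopologicalSpace
open Groth.Agent Groth.Agent.Synt29 Groth.Agent.LocCohDepth.Punct

namespace Groth.Agent.S3372

theorem depth_stalk_tilde {A : CommRingCat.{u}} [IsNoetherianRing A] (N : ModuleCat.{u} A) (q : PrimeSpectrum.Top A) :
    LocCoh.depth ((Spec A).presheaf.stalk q) ((tilde N).presheaf.stalk q) =
      LocCoh.depth (Localization.AtPrime q.asIdeal) (LocalizedModule q.asIdeal.primeCompl N) := by
  letI : Algebra A ((Spec A).presheaf.stalk q) := StructureSheaf.stalkAlgebra A q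
  haveI : IsLocalization.AtPrime ((Spec A).presheaf.stalk q) q.asIdeal := StructureSheaf.IsLocalization.to_stalk A q
  haveI : IsScalarTower A ((Spec A).presheaf.stalk q) ((tilde N).presheaf.stalk q) :=
    IsScalarTower.of_algebraMap_smul fun _ _ => rfl
  obtain ⟨i, j, hij⟩ := Groth.Agent.QCoh.exists_semilinear q.asIdeal.primeCompl ((Spec A).presheaf.stalk q)
    (Localization.AtPrime q.asIdeal) (tilde.toStalk N q).hom (LocalizedModule.mkLinearMap q.asIdeal.primeCompl N)
  exact Groth.Agent.Alg6.depth_eq_of_semilinear i.toRingHom i.surjective j hij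

theorem depth_stalk_G {A : CommRingCat.{u}} [IsNoetherianRing A] (U : (Spec A).Opens) (N : ModuleCat.{u} A)
    {F : (U : Scheme.{u}).Modules} (e : F ≅ (G U).obj N) (x : (U : Scheme.{u})) :
    LocCoh.depth ((U : Scheme.{u}).presheaf.stalk x) (F.presheaf.stalk x) =
      LocCoh.depth (Localization.AtPrime (U.ι.base x).asIdeal)
        (LocalizedModule (U.ι.base x).asIdeal.primeCompl N) := by
  haveI : Mono e.hom := inferInstance
  haveI : Epi e.hom := inferInstance
  rw [Hensel.depth_congr (LinearEquiv.ofBijective (Algz.stalkMapₗ e.hom x)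
    ⟨Algz7.Canon2.stalk_injective e.hom x, Algz7.Canon2.stalk_surjective e.hom x⟩)]
  obtain ⟨ε, hε⟩ := AssLib.exists_semilinear_restrict U.ι (tilde N) x
  have hσ := ConcreteCategory.bijective_of_isIso (U.ι.stalkMap x)
  refine Eq.trans ?_ (depth_stalk_tilde N (U.ι.base x))
  exact (Alg6.depth_eq_of_semilinear (U.ι.stalkMap x).hom hσ.2 ε.symm fun a z => by
    refine ε.injective ?_
    rw [hε, AddEquiv.apply_symm_apply, AddEquiv.apply_symm_apply]).symm

theorem main {R : Type u} [CommRing R] [IsRegularRing R] {A : Type u} [CommRing A] [IsLocalRing A]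
    [IsNoetherianRing A] (π : R →+* A) (hπ : Function.Surjective π) (t : A)
    (ht : t ∈ IsLocalRing.maximalIdeal A) [IsAdicComplete (Ideal.span {t}) A]
    (U : (Spec (CommRingCat.of A)).Opens) (hU : U = LocCoh.puncturedOpen A (IsLocalRing.maximalIdeal A))
    (F : (U : Scheme.{u}).Modules) (hF : Coh.IsCoh F) (n : ℕ)
    (hdepth : ∀ x : (U : Scheme.{u}), IsClosed ({x} : Set (U : Scheme.{u})) →
      ((n + 1 : ℕ) : ℕ∞) ≤ LocCoh.depth ((U : Scheme.{u}).presheaf.stalk x) (F.presheaf.stalk x)) (i : ℕ) :
    (i < n → Function.Bijective (Formal.toHHlim (Ideal.span {t}) F i)) ∧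
      (i = n → Function.Injective (Formal.toHHlim (Ideal.span {t}) F i)) := by
  subst hU
  let 𝔪 := IsLocalRing.maximalIdeal A
  obtain ⟨N₀, _, _, _, ⟨u⟩⟩ := GrLib8.PuncturedLC.exists_finite 𝔪 F hF
  let N : ModuleCat.{u} (CommRingCat.of A) := ModuleCat.of (CommRingCat.of A) N₀
  haveI : Module.Finite A N := inferInstanceAs (Module.Finite A N₀)
  haveI : IsNoetherianRing (CommRingCat.of A) := inferInstanceAs (IsNoetherianRing A)
  have hfin := (LC.finite_iff_depth_add_codim π hπ 𝔪 N₀ (n + 1)).2
    ((LC.forall_depth_add_codim_iff 𝔪 N₀ (n + 1)).2 fun p hp hc => by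
      obtain ⟨q, hq, hpq⟩ := (LC.covBy_iff_relCodim 𝔪 p hp).2 hc
      let x : (LocCoh.puncturedOpen A 𝔪 : Scheme.{u}) := ⟨p, hp⟩
      have hx : IsClosed ({x} : Set (LocCoh.puncturedOpen A 𝔪 : Scheme.{u})) := by
        have hset : ({x} : Set (LocCoh.puncturedOpen A 𝔪 : Scheme.{u})) =
            (LocCoh.puncturedOpen A 𝔪).ι.base ⁻¹' (closure {p}) := by
          refine Set.ext fun y => ⟨fun hy => ?_, fun hy => ?_⟩
          · rw [Set.mem_singleton_iff.1 hy]; exact subset_closure rfl
          · let py : PrimeSpectrum A := (LocCoh.puncturedOpen A 𝔪).ι.base y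
            have hle : p ≤ py := (PrimeSpectrum.le_iff_mem_closure p _).2 hy
            rcases eq_or_lt_of_le hle with h | h
            · exact Subtype.ext h.symm
            · exfalso
              have hne : ¬ 𝔪 ≤ py.asIdeal := y.2
              have hle' : py ≤ q := (IsLocalRing.le_maximalIdeal py.2.ne_top).trans hq
              have hyq : py < q := lt_of_le_of_ne hle' fun h' => hne (h' ▸ hq)
              exact hpq.2 h hyq
        rw [hset]
        exact isClosed_closure.preimage (LocCoh.puncturedOpen A 𝔪).ι.continuous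
      exact (hdepth x hx).trans (depth_stalk_G (A := CommRingCat.of A) _ N u x).le)
  have hk : ∀ j, j ≤ n + 1 → ∃ e, ∀ z : (localCohomology 𝔪 j).obj N, t ^ e • z = 0 := fun j hj => by
    haveI := hfin j hj
    obtain ⟨k, hk⟩ := LC.exists_pow_smul_eq_zero_of_finite 𝔪 (LocCoh.H 𝔪 j N₀)
      (LC.isPowerTorsion_obj 𝔪 j (ModuleCat.of A N₀))
    exact ⟨k, fun z => hk _ (Ideal.pow_mem_pow ht k) z⟩
  have inj : i ≤ n → Function.Injective (Formal.toHHlim (Ideal.span {t}) F i) := fun hi => by
    obtain ⟨e, he⟩ := hk (i + 1) (by omega)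
    exact (FormalHH.toHHlim_transfer 𝔪 t u i).1 (FormalHH.injective 𝔪 t N i e he)
  refine ⟨fun hi => ⟨inj hi.le, (FormalHH.toHHlim_transfer 𝔪 t u i).2 fun y hy => ?_⟩, fun hi => inj hi.le⟩
  rcases i with _ | i
  · obtain ⟨e₁, he₁⟩ := hk 1 (by omega)
    obtain ⟨e₂, he₂⟩ := hk 2 (by omega)
    exact (FormalSectU.bijective_limit (f := t) 𝔪 N e₁ he₁ e₂ he₂).2 y hy
  · obtain ⟨e₁, he₁⟩ := hk (i + 2) (by omega)
    obtain ⟨e₂, he₂⟩ := hk (i + 3) (by omega)
    exact FormalHH.surjective_succ 𝔪 t N i (max e₁ e₂)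
      (fun x => by rw [← Nat.sub_add_cancel (le_max_left e₁ e₂), pow_add, mul_smul, he₁, smul_zero])
      (fun x => by rw [← Nat.sub_add_cancel (le_max_right e₁ e₂), pow_add, mul_smul, he₂, smul_zero]) y hy


/-- Let A be a Noetherian local ring which is a quotient of a regular ring, and t a member of the
maximal ideal for which A is separated and complete in the t-adic topology; let X be the punctured
spectrum of A and F a coherent O_X-module on which multiplication by t is injective. Let n be a
natural number and assume that for every closed point x of X (the primes p with dim A/p = 1) the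
stalk F_x has depth ≥ n + 1 over O_{X,x}. Then the canonical map H^i(X, F) → lim_k H^i(X,
F/t^(k+1)F) is bijective for i < n and injective for i = n. -/
theorem result (R : Type u) [CommRing R] [IsRegularRing R] (A : Type u) [CommRing A] [IsLocalRing A] [IsNoetherianRing A] (π : R →+* A) (hπ : Function.Surjective π) (t : A) (ht : t ∈ IsLocalRing.maximalIdeal A) [IsAdicComplete (Ideal.span {t}) A] (F : (↑(FEt.puncturedSpec A) : Scheme.{u}).Modules) (hF : Coh.IsCoh F) (hreg : Mono (Formal.smulMod A F t)) (n : ℕ) (hdepth : ∀ x : (↑(FEt.puncturedSpec A) : Scheme.{u}), IsClosed ({x} : Set (↑(FEt.puncturedSpec A) : Scheme.{u})) → ((n + 1 : ℕ) : ℕ∞) ≤ LocCoh.depth ((↑(FEt.puncturedSpec A) : Scheme.{u}).presheaf.stalk x) (F.presheaf.stalk x)) (i : ℕ) : (i < n → Function.Bijective (Formal.toHHlim (Ideal.span {t}) F i)) ∧ (i = n → Function.Injective (Formal.toHHlim (Ideal.span {t}) F i)) := by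
  exact main π hπ t ht (FEt.puncturedSpec A) (TopologicalSpace.Opens.ext (Set.ext fun p => by
    refine not_congr (Iff.trans ?_ Iff.rfl)
    show p = IsLocalRing.closedPoint A ↔ p ∈ PrimeSpectrum.zeroLocus (IsLocalRing.maximalIdeal A : Set A)
    rw [PrimeSpectrum.mem_zeroLocus]
    refine ⟨fun h => h ▸ subset_rfl, fun h => PrimeSpectrum.ext ?_⟩
    exact le_antisymm (IsLocalRing.le_maximalIdeal p.2.ne_top) h)) F hF n hdepth i

end Groth.Agent.S3372
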