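import Groth.Statements.S3373
import Groth.Agent.Synt29.RegFormal

set_option autoImplicit false
universe u
open CategoryTheory CategoryTheory.Limits AlgebraicGeometry
open FSch

set_option linter.style.haveILetI false
set_option linter.unusedSectionVars false
set_option backward.isDefEq.respectTransparency false
set_option backward.isDefEq.respectTransparency.types false
set_option maxHeartbeats 1000000
open Opposite TopologicalSpace
open Groth.Agent Groth.Agent.Synt29

namespace Groth.Agent.S3373

/-- The points of codimension one are closed. -/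
theorem isClosed_singleton {A : Type u} [CommRing A] [IsLocalRing A] [IsNoetherianRing A]
    (U : (Spec (CommRingCat.of A)).Opens) (hU : U = LocCoh.puncturedOpen A (IsLocalRing.maximalIdeal A))
    (x : (U : Scheme.{u})) (hc : SGA2.relCodim (IsLocalRing.maximalIdeal A) (U.ι.base x) = 1) :
    IsClosed ({x} : Set (U : Scheme.{u})) := by
  subst hU
  let 𝔪 := IsLocalRing.maximalIdeal A
  let p : PrimeSpectrum A := (LocCoh.puncturedOpen A 𝔪).ι.base x
  obtain ⟨q, hq, hpq⟩ := (LC.covBy_iff_relCodim 𝔪 p x.2).2 hc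
  have hset : ({x} : Set (LocCoh.puncturedOpen A 𝔪 : Scheme.{u})) =
      (LocCoh.puncturedOpen A 𝔪).ι.base ⁻¹' (closure {p}) := by
    refine Set.ext fun y => ⟨fun hy => ?_, fun hy => ?_⟩
    · rw [Set.mem_singleton_iff.1 hy]; exact subset_closure rfl
    · let py : PrimeSpectrum A := (LocCoh.puncturedOpen A 𝔪).ι.base y
      have hle : p ≤ py := (PrimeSpectrum.le_iff_mem_closure p _).2 hy
      rcases eq_or_lt_of_le hle with h | h
      · exact Subtype.ext h.symm
      · exfalso
        have hne : ¬ 𝔪 ≤ py.asIdeal := y.2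
        have hle' : py ≤ q := (IsLocalRing.le_maximalIdeal py.2.ne_top).trans hq
        have hyq : py < q := lt_of_le_of_ne hle' fun h' => hne (h' ▸ hq)
        exact hpq.2 h hyq
  rw [hset]
  exact isClosed_closure.preimage (LocCoh.puncturedOpen A 𝔪).ι.continuous


/-- Let A be a Noetherian local ring which is a quotient of a regular ring, t a member of the maximal
ideal for which A is separated and complete in the t-adic topology, X the punctured spectrum of A,
and 𝔉 a coherent module on the formal completion of X along V(t) ∩ X, given as a system (F_N) of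
coherent modules on the closed subschemes X_N = V(t^(N+1)) ∩ X with F_{N+1}|_{X_N} ≅ F_N. Assume (1)
t is 𝔉-regular, expressed on the system by: for every N ≥ 1 the kernel of multiplication by t^N on
F_N equals the image of multiplication by t; and (2) for every closed point y of X_0 the stalk of
F_0 at y has depth ≥ 2 over O_{X_0,y}. Then there is a coherent O_X-module F whose completion along
V(t) ∩ X is isomorphic to 𝔉. -/
theorem result (R : Type u) [CommRing R] [IsRegularRing R] (A : Type u) [CommRing A] [IsLocalRing A] [IsNoetherianRing A] (π : R →+* A) (hπ : Function.Surjective π) (t : A) (ht : t ∈ IsLocalRing.maximalIdeal A) [IsAdicComplete (Ideal.span {t}) A] (𝔐 : FSch.ModSys (FSch.completionAlong (↑(FEt.puncturedSpec A) : Scheme.{u}) ((Spec.map (CommRingCat.ofHom (Ideal.Quotient.mk (Ideal.span {t})))).ker.comap (FEt.puncturedSpec A).ι))) (hcoh : 𝔐.IsCoh) (hreg : ∀ N : ℕ, 1 ≤ N → kernelSubobject (Formal.smulModΓ (𝔐.F N) ((((FSch.completionToX (↑(FEt.puncturedSpec A) : Scheme.{u}) ((Spec.map (CommRingCat.ofHom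 (Ideal.Quotient.mk (Ideal.span {t})))).ker.comap (FEt.puncturedSpec A).ι) N) ≫ (FEt.puncturedSpec A).ι).appTop.hom ((Scheme.ΓSpecIso (CommRingCat.of A)).inv t)) ^ N)) = imageSubobject (Formal.smulModΓ (𝔐.F N) (((FSch.completionToX (↑(FEt.puncturedSpec A) : Scheme.{u}) ((Spec.map (CommRingCat.ofHom (Ideal.Quotient.mk (Ideal.span {t})))).ker.comap (FEt.puncturedSpec A).ι) N) ≫ (FEt.puncturedSpec A).ι).appTop.hom ((Scheme.ΓSpecIso (CommRingCat.of A)).inv t)))) (hdepth : ∀ y : ↥((FSch.completionAlong (↑(FEt.puncturedSpec A) : Scheme.{u}) ((Spec.map (CommRingCat.ofHom (Ideal.Quotient.mk (Ideal.span {t})))).ker.comap (FEt.puncturedSpec A).ι)).X 0), IsClosed ({y} : Set ↥((FSch.completionAlong (↑(FEt.puncturedSpec A) : Scheme.{u}) ((Spec.map (CommRingCat.ofHom (Ideal.Quotient.mk (Ideal.span {t})))).ker.comap (FEt.puncturedSpec A).ι)).X 0)) → (2 : ℕ∞) ≤ LocCoh.depth (((FSch.completionAlong (↑(FEt.puncturedSpec A) : Scheme.{u}) ((Spec.map (CommRingCat.ofHom (Ideal.Quotient.mk (Ideal.span {t})))).ker.comap (FEt.puncturedSpec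 A).ι)).X 0).presheaf.stalk y) ((𝔐.F 0).presheaf.stalk y)) : ∃ F : (↑(FEt.puncturedSpec A) : Scheme.{u}).Modules, Coh.IsCoh F ∧ Nonempty (FSch.completionMod ((Spec.map (CommRingCat.ofHom (Ideal.Quotient.mk (Ideal.span {t})))).ker.comap (FEt.puncturedSpec A).ι) F ≅ 𝔐) := by
  have hU : FEt.puncturedSpec A = LocCoh.puncturedOpen A (IsLocalRing.maximalIdeal A) :=
    TopologicalSpace.Opens.ext (Set.ext fun p => by
      refine not_congr (Iff.trans ?_ Iff.rfl)
      show p = IsLocalRing.closedPoint A ↔ p ∈ PrimeSpectrum.zeroLocus (IsLocalRing.maximalIdeal A : Set A)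
      rw [PrimeSpectrum.mem_zeroLocus]
      refine ⟨fun h => h ▸ subset_rfl, fun h => PrimeSpectrum.ext ?_⟩
      exact le_antisymm (IsLocalRing.le_maximalIdeal p.2.ne_top) h)
  refine RegFormal.exists_completionMod π hπ t (IsLocalRing.maximalIdeal A) _ hU 𝔐 hcoh hreg fun y hy => hdepth y ?_
  let g := FSch.completionToX (↑(FEt.puncturedSpec A) : Scheme.{u}) ((Spec.map (CommRingCat.ofHom (Ideal.Quotient.mk (Ideal.span {t})))).ker.comap (FEt.puncturedSpec A).ι) 0
  have h : ({y} : Set _) = g.base ⁻¹' {g.base y} := Set.ext fun z => by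
    simp only [Set.mem_singleton_iff, Set.mem_preimage]
    exact ⟨fun h => by rw [h], fun h => g.isClosedEmbedding.injective h⟩
  rw [h]
  exact (isClosed_singleton _ hU (g.base y) hy).preimage g.continuous

end Groth.Agent.S3373
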