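import Groth.Statements.S3387
import Groth.Agent.FibDim.Basic

set_option autoImplicit false
open CategoryTheory AlgebraicGeometry
universe u
open EGA43

namespace Groth.Agent.S3387

/-- Let f : X ⟶ Y be locally of finite type and closed (as a map of underlying spaces). Then for every
natural number n the set of points y of Y whose fibre has dimension at least n is closed; that is,
the dimension of the fibre is upper semicontinuous on Y. -/
theorem result {X Y : Scheme.{u}} (f : X ⟶ Y) [LocallyOfFiniteType f]
    (hf : IsClosedMap f.base) (n : ℕ) :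
    IsClosed {y : Y | (n : WithBot ℕ∞) ≤ topologicalKrullDim ↥(f.fiber y)} := by
  have : {y : Y | (n : WithBot ℕ∞) ≤ topologicalKrullDim ↥(f.fiber y)} =
      f.base '' {x : X | (n : WithBot ℕ∞) ≤ FlatMor.fibreDimAt f x} := by
    ext y
    rw [Set.mem_ofPred_eq, FibDim.le_topologicalKrullDim_fiber_iff f]
    constructor
    · rintro ⟨z, hz, hn⟩
      refine ⟨z, le_trans ?_ (FibDim.rd_le_fibreDimAt f specializes_rfl rfl), hz⟩
      exact_mod_cast hn
    · rintro ⟨x, hx, rfl⟩
      obtain ⟨z, -, hfz, -, he⟩ := FibDim.exists_fibMax_generization f x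
      rw [Set.mem_ofPred_eq, he] at hx
      exact ⟨z, hfz, by exact_mod_cast hx⟩
  rw [this]
  exact hf _ (FibDim.isClosed_le_fibreDimAt f n)

end Groth.Agent.S3387
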