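import Groth.Statements.S3388
import Groth.Agent.FibDim.Basic

set_option autoImplicit false
open CategoryTheory AlgebraicGeometry
universe u
open EGA43

namespace Groth.Agent.S3388

/-- Let X and Y be irreducible schemes and f : X ⟶ Y a dominant morphism locally of finite type; let e
be the dimension of the fibre over the generic point of Y. Then for every point x of X the local
dimension at x of the fibre through x is at least e. -/
theorem result {X Y : Scheme.{u}} [IrreducibleSpace X] [IrreducibleSpace Y]
    (f : X ⟶ Y) [LocallyOfFiniteType f] [IsDominant f] (x : X) :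
    topologicalKrullDim ↥(f.fiber (genericPoint Y)) ≤ FlatMor.fibreDimAt f x := by
  obtain ⟨m, hm⟩ : ∃ η : X, f.base η = genericPoint Y ∧ ∀ z : X, η ⤳ z := by
    refine ⟨genericPoint X, ?_, fun z => genericPoint_specializes z⟩
    refine (IsGenericPoint.eq ?_ (genericPoint_spec Y))
    have h := (genericPoint_spec X).image f.continuous
    rwa [Set.image_univ, f.denseRange.closure_range] at h
  rw [FibDim.topologicalKrullDim_fiber f]
  refine iSup_le fun z => le_trans ?_ (FibDim.fibreDimAt_ge_rd f (hm.2 x))
  exact_mod_cast FibDim.rd_le_of_specializes f (hm.2 z.1) (hm.1.trans z.2.symm)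

end Groth.Agent.S3388
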