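import Groth.Statements.S3390
import Groth.Agent.DimFormula.Criteria

set_option autoImplicit false
open CategoryTheory AlgebraicGeometry
universe u
open EGA43

namespace Groth.Agent.S3390

/-- Let Y be an irreducible locally Noetherian scheme with generic point η and X an irreducible scheme,
and let f : X ⟶ Y be dominant and locally of finite type. Take a point x of X and write y = f x.
Suppose dim O_{X,x} = dim O_{Y,y} + dim O_{X_y,x}. Then the local dimension of the fibre X_y at x
(FlatMor.fibreDimAt f x) equals the dimension of the generic fibre X_η (i.e. f is equidimensional at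
x). -/
theorem result {X Y : Scheme.{u}} [IrreducibleSpace X] [IrreducibleSpace Y]
    [IsLocallyNoetherian Y] (f : X ⟶ Y) [LocallyOfFiniteType f] [IsDominant f] (x : X)
    (h : ringKrullDim (X.presheaf.stalk x) =
        ringKrullDim (Y.presheaf.stalk (f.base x)) + ringKrullDim ((f.fiber (f.base x)).presheaf.stalk (f.asFiber x))) :
    FlatMor.fibreDimAt f x = topologicalKrullDim ↥(f.fiber (genericPoint Y)) := by
  haveI := LocallyOfFiniteType.isLocallyNoetherian f
  obtain ⟨hg, hd⟩ := DimFormula.generic_fibre_dim f
  rw [DimFormula.formula_iff] at h
  have h1 := (DimFormula.cd_formula f ((genericPoint_spec X).specializes (Set.mem_univ x))).1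
  rw [hg, DimFormula.cd_eq_codim_of_irreducible, DimFormula.cd_eq_codim_of_irreducible] at h1
  have h2 := DimFormula.rd_le_of_specializes' f ((genericPoint_spec X).specializes (Set.mem_univ x))
  rw [DimFormula.fibreDimAt_eq_add, hd]
  norm_cast
  omega

end Groth.Agent.S3390
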