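import Groth.Statements.S3392
import Groth.Agent.DimFormula.Criteria

set_option autoImplicit false
open CategoryTheory AlgebraicGeometry
universe u
open EGA43

namespace Groth.Agent.S3392

/-- Let Y be an irreducible locally Noetherian scheme, f : X ⟶ Y a morphism of finite type and y a point
of Y. Condition (a): for every point x of the fibre over y, dim O_{X,x} = dim O_{Y,y} + dim
O_{X_y,x}. Condition (b): for every point z of the fibre over y at which the local ring of the fibre
has dimension 0 (the generic points of the irreducible components of the fibre), dim O_{X,z} = dim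
O_{Y,y}. Then (a) implies (b), and (b) implies (a) if O_{Y,y} is universally catenary. -/
theorem result {X Y : Scheme.{u}} [IrreducibleSpace Y] [IsLocallyNoetherian Y]
    (f : X ⟶ Y) [LocallyOfFiniteType f] [QuasiCompact f] (y : Y) :
    ((∀ x : X, f.base x = y → ringKrullDim (X.presheaf.stalk x) =
        ringKrullDim (Y.presheaf.stalk (f.base x)) + ringKrullDim ((f.fiber (f.base x)).presheaf.stalk (f.asFiber x))) →
      (∀ z : X, f.base z = y → ringKrullDim ((f.fiber (f.base z)).presheaf.stalk (f.asFiber z)) = 0 →
        ringKrullDim (X.presheaf.stalk z) = ringKrullDim (Y.presheaf.stalk (f.base z)))) ∧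
    (CAlg.IsUniversallyCatenary (Y.presheaf.stalk y) →
      (∀ z : X, f.base z = y → ringKrullDim ((f.fiber (f.base z)).presheaf.stalk (f.asFiber z)) = 0 →
        ringKrullDim (X.presheaf.stalk z) = ringKrullDim (Y.presheaf.stalk (f.base z))) →
      (∀ x : X, f.base x = y → ringKrullDim (X.presheaf.stalk x) =
        ringKrullDim (Y.presheaf.stalk (f.base x)) + ringKrullDim ((f.fiber (f.base x)).presheaf.stalk (f.asFiber x)))) := by
  haveI := LocallyOfFiniteType.isLocallyNoetherian f
  refine ⟨fun h z hz h0 => ?_, fun hcat h x hx => ?_⟩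
  · rw [DimFormula.fibre_stalk_zero_iff] at h0
    have h1 := h z hz
    rw [DimFormula.formula_iff, h0, add_zero] at h1
    exact (DimFormula.stalk_eq_iff f z _).2 h1
  · subst hx
    obtain ⟨z, hz, hfz, hzm, -, hrd⟩ := DimFormula.exists_fibMax_top f x
    have h0 := (DimFormula.fb_eq_zero_iff f z).2 hzm
    refine (DimFormula.formula_iff f x).2 (DimFormula.formula_of_top f hcat hz hfz h0 hrd ?_)
    exact (DimFormula.stalk_eq_iff f z _).1 (h z hfz ((DimFormula.fibre_stalk_zero_iff f z).2 h0))

end Groth.Agent.S3392
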