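import Groth.Statements.S3393
import Groth.Agent.DimFormula.Criteria

set_option autoImplicit false
open CategoryTheory AlgebraicGeometry
universe u
open EGA43

namespace Groth.Agent.S3393

/-- Let Y be an irreducible locally Noetherian scheme with generic point η, f : X ⟶ Y a morphism of
finite type and y a point of Y. Condition (b): for every point z of the fibre over y at which the
local ring of the fibre has dimension 0, dim O_{X,z} = dim O_{Y,y}. Condition (c): for every such z
there is an irreducible component X' of X containing z such that the dimension of X' ∩ f⁻¹(η)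
(topology induced from X) equals the local dimension at z of the fibre over y (the dimension of the
irreducible component of the fibre with generic point z). Then (b) implies (c), and (c) implies (b)
if O_{Y,y} is universally catenary. -/
theorem result {X Y : Scheme.{u}} [IrreducibleSpace Y] [IsLocallyNoetherian Y]
    (f : X ⟶ Y) [LocallyOfFiniteType f] [QuasiCompact f] (y : Y) :
    ((∀ z : X, f.base z = y → ringKrullDim ((f.fiber (f.base z)).presheaf.stalk (f.asFiber z)) = 0 →
        ringKrullDim (X.presheaf.stalk z) = ringKrullDim (Y.presheaf.stalk (f.base z))) →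
      (∀ z : X, f.base z = y → ringKrullDim ((f.fiber (f.base z)).presheaf.stalk (f.asFiber z)) = 0 →
        ∃ X' ∈ irreducibleComponents (X : Type u), z ∈ X' ∧
          topologicalKrullDim ↥(X' ∩ f.base ⁻¹' {genericPoint Y}) = FlatMor.fibreDimAt f z)) ∧
    (CAlg.IsUniversallyCatenary (Y.presheaf.stalk y) →
      (∀ z : X, f.base z = y → ringKrullDim ((f.fiber (f.base z)).presheaf.stalk (f.asFiber z)) = 0 →
        ∃ X' ∈ irreducibleComponents (X : Type u), z ∈ X' ∧
          topologicalKrullDim ↥(X' ∩ f.base ⁻¹' {genericPoint Y}) = FlatMor.fibreDimAt f z) →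
      (∀ z : X, f.base z = y → ringKrullDim ((f.fiber (f.base z)).presheaf.stalk (f.asFiber z)) = 0 →
        ringKrullDim (X.presheaf.stalk z) = ringKrullDim (Y.presheaf.stalk (f.base z)))) := by
  haveI := LocallyOfFiniteType.isLocallyNoetherian f
  refine ⟨fun h z hz h0 => ?_, fun hcat h z hz h0 => ?_⟩
  · subst hz
    obtain ⟨η, hη, hmax, -, hy, hr⟩ := DimFormula.exists_witness f ((DimFormula.fibre_stalk_zero_iff f z).1 h0)
      ((DimFormula.stalk_eq_iff f z _).1 (h z rfl h0))
    have hg := DimFormula.maximal_eq_genericPoint (DimFormula.maximal_of_cd_eq_codim (hη.map f.continuous) hy)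
    refine ⟨closure {η}, FDescent.closure_mem_irreducibleComponents hmax, specializes_iff_mem_closure.1 hη, ?_⟩
    rw [← hg, FibDim.dim_closure_inter, DimFormula.fibreDimAt_eq_add, hr, (DimFormula.fibre_stalk_zero_iff f z).1 h0]
    rfl
  · subst hz
    obtain ⟨X', hX', hzX', hd⟩ := h z rfl h0
    obtain ⟨η, rfl, hmax⟩ := FDescent.exists_maximal_of_mem_irreducibleComponents hX'
    have hη : η ⤳ z := specializes_iff_mem_closure.2 hzX'
    rw [DimFormula.fibreDimAt_eq_add, (DimFormula.fibre_stalk_zero_iff f z).1 h0, add_zero] at hd
    obtain ⟨w, hw, hfw⟩ : (closure {η} ∩ f.base ⁻¹' {genericPoint Y}).Nonempty := by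
      refine Set.nonempty_iff_ne_empty.2 fun he => ?_
      haveI : IsEmpty ↥(closure {η} ∩ f.base ⁻¹' {genericPoint Y}) := ⟨fun a => by
        have := a.2; simp only [he, Set.mem_empty_iff_false] at this⟩
      rw [topologicalKrullDim, Order.krullDim_eq_bot_iff.2 ⟨fun S => by
        obtain ⟨a, -⟩ := S.isIrreducible.nonempty; exact IsEmpty.false a⟩] at hd
      exact WithBot.bot_ne_coe hd
    have hg : f η = genericPoint Y := ((show f η ⤳ genericPoint Y from
      (Set.mem_singleton_iff.1 hfw) ▸ (specializes_iff_mem_closure.2 hw).map f.continuous).antisymm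
      ((genericPoint_spec Y).specializes (Set.mem_univ _))).eq
    rw [← hg, FibDim.dim_closure_inter] at hd
    norm_cast at hd
    refine (DimFormula.stalk_eq_iff f z _).2 ?_
    have h1 := (DimFormula.cd_formula f hη).2 hcat
    rw [hg, DimFormula.cd_eq_codim_of_irreducible, hd] at h1
    have h2 := DimFormula.cd_le_codim hη
    have h3 := DimFormula.codim_le_add f z
    rw [(DimFormula.fibre_stalk_zero_iff f z).1 h0] at h3
    omega

end Groth.Agent.S3393
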