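import Groth.Statements.S3395
import Groth.Agent.FibDim.AffineSpaceFibre
import Mathlib.AlgebraicGeometry.ZariskisMainTheorem

set_option autoImplicit false
open CategoryTheory AlgebraicGeometry
universe u
open EGA43

namespace Groth.Agent.S3395

open CategoryTheory

open CategoryTheory.Limits in
/-- Let X and Y be affine schemes, f : X ⟶ Y of finite type, y a point of f(X), e the dimension of the
fibre over y, and g a Y-morphism from X to the affine space of dimension e over Y whose base change
to the fibre of the affine space over y is finite. Then that base change is surjective, and g is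
locally quasi-finite on some open U ⊆ X that contains the fibre f⁻¹(y). -/
theorem result {X Y : Scheme.{u}} [IsAffine X] [IsAffine Y]
    (f : X ⟶ Y) [LocallyOfFiniteType f] (y : Y) (hy : y ∈ Set.range f.base) (e : ℕ)
    (he : topologicalKrullDim ↥(f.fiber y) = e) (g : X ⟶ 𝔸(ULift.{u} (Fin e); Y)) (hg : g ≫ (𝔸(ULift.{u} (Fin e); Y) ↘ Y) = f)
    (hfin : IsFinite (pullback.snd g ((𝔸(ULift.{u} (Fin e); Y) ↘ Y).fiberι y))) :
    Function.Surjective (pullback.snd g ((𝔸(ULift.{u} (Fin e); Y) ↘ Y).fiberι y)).base ∧
      ∃ U : X.Opens, f.base ⁻¹' {y} ⊆ (U : Set X) ∧ LocallyQuasiFinite (U.ι ≫ g) := by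
  let π := (𝔸(ULift.{u} (Fin e); Y) ↘ Y)
  let j := π.fiberι y
  let q := pullback.snd g j
  let p := pullback.fst g j
  haveI : LocallyOfFiniteType (g ≫ π) := by
    rw [hg]; infer_instance
  haveI : LocallyOfFiniteType g := locallyOfFiniteType_of_comp g π
  haveI : LocallyQuasiFinite q := inferInstance
  have hπy : ∀ w, π (j w) = y := fun w => FibDim.fiber_apply_fiberι π w
  have hfpq : ∀ v, f (p v) = y := fun v => by
    rw [← hg, Scheme.Hom.comp_apply, ← Scheme.Hom.comp_apply p g, pullback.condition]
    exact hπy _
  have hlift : ∀ x, f x = y → ∃ v, p v = x := fun x hx => by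
    obtain ⟨w, hw⟩ : g x ∈ Set.range j := by
      rw [Scheme.Hom.range_fiberι]
      show π (g x) = y
      rw [← Scheme.Hom.comp_apply, hg, hx]
    obtain ⟨v, hv, -⟩ := Scheme.Pullback.exists_preimage_pullback x w hw.symm
    exact ⟨v, hv⟩
  refine ⟨?_, g.quasiFiniteLocus, fun x hx => ?_, inferInstance⟩
  · obtain ⟨z, hz, hze⟩ := (FibDim.le_topologicalKrullDim_fiber_iff f y e).1 he.ge
    obtain ⟨v, rfl⟩ := hlift z hz
    have hrg : FibDim.rd g (p v) = 0 := by
      rw [← FibDim.rd_baseChange_eq_of_minimal (IsPullback.of_hasPullback g j) v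
        (fun w _ hw _ => p.isEmbedding.injective hw)]
      exact FibDim.rd_eq_zero_of_quasiFinite q v
    have hadd := FibDim.rd_comp g π (p v)
    rw [hrg, Nat.add_zero] at hadd
    have hπe : e ≤ FibDim.rd π (g (p v)) := by
      rw [← hadd]
      simp only [π, hg]
      exact hze
    have hmax : FibDim.FibMax π (g (p v)) := fun z' hz' hπz' => by
      by_contra hne
      have h1 := FibDim.rd_lt π hz' hne hπz'
      have h2 : FibDim.rd π z' ≤ e := FibDim.rd_affineSpace_le e z'
      omega
    have hgv : g (p v) = j (q v) := by rw [← Scheme.Hom.comp_apply, pullback.condition]; rfl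
    intro w
    have h := FibDim.fibMax_affineSpace e hmax (z' := j w)
      ((hπy w).trans (by rw [hgv]; exact (hπy _).symm))
    rw [hgv] at h
    exact (j.isEmbedding.isInducing.specializes_iff.1 h).mem_closed q.isClosedMap.isClosed_range ⟨v, rfl⟩
  · obtain ⟨v, rfl⟩ := hlift x hx
    show Scheme.Hom.QuasiFiniteAt g (p v)
    rw [Scheme.Hom.quasiFiniteAt_iff_isOpen_singleton_asFiber]
    have hd : _root_.IsDiscrete (g ⁻¹' {g (p v)}) := by
      have : g ⁻¹' {g (p v)} = p '' (q ⁻¹' {q v}) := by
        ext x
        constructor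
        · intro hxv
          obtain ⟨v', rfl⟩ := hlift x (by
            rw [← hg, Scheme.Hom.comp_apply, show g x = g (p v) from hxv, ← Scheme.Hom.comp_apply, hg]
            exact hfpq v)
          refine ⟨v', j.isEmbedding.injective ?_, rfl⟩
          show (q ≫ j) v' = (q ≫ j) v
          rw [← pullback.condition]
          exact hxv
        · rintro ⟨v', hv', rfl⟩
          show (p ≫ g) v' = (p ≫ g) v
          rw [pullback.condition]
          exact congrArg j hv'
      rw [this]
      exact (q.isDiscrete_preimage_singleton _).image p.isEmbedding.isInducing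
    haveI : DiscreteTopology ↥(g ⁻¹' {g (p v)}) := isDiscrete_iff_discreteTopology.1 hd
    rw [← (g.fiberHomeo (g (p v))).isOpen_image]
    exact isOpen_discrete _

end Groth.Agent.S3395
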