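import Groth.Statements.S3400
import Groth.Agent.EGA41Lib.ConsX
import Groth.Agent.EGA41Lib.PiField
import Mathlib.AlgebraicGeometry.Limits
import Mathlib.AlgebraicGeometry.ResidueField

set_option autoImplicit false
open CategoryTheory AlgebraicGeometry
universe u
open EGA41

namespace Groth.Agent.S3400

/-- Let X be a quasi-compact and quasi-separated scheme. A subset E of X is pro-constructible if and
only if there are an affine scheme X' and a morphism f : X' ⟶ X with f(X') = E. -/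
theorem result (X : Scheme.{u}) [CompactSpace X] [QuasiSeparatedSpace X]
    (E : Set X) :
    ProCons.IsProConstructible E ↔ ∃ (X' : Scheme.{u}) (f : X' ⟶ X), IsAffine X' ∧ Set.range f.base = E := by
  constructor
  · intro hE
    let 𝒰 := X.affineCover.finiteSubcover
    have hU : ∀ a, IsAffineOpen (𝒰.f a).opensRange := fun a => isAffineOpen_opensRange _
    let K : 𝒰.I₀ → Scheme.{u} := fun a => Spec (.of (Π x : {x : (𝒰.X a) // (𝒰.f a).base x ∈ E}, (𝒰.X a).residueField x.1))
    let γ : ∀ a, K a ⟶ X := fun a =>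
      Spec.map (CommRingCat.ofHom (Pi.ringHom fun x => ((𝒰.X a).presheaf.germ ⊤ x.1 trivial ≫ (𝒰.X a).residue x.1).hom)) ≫
        (𝒰.X a).isoSpec.inv ≫ 𝒰.f a
    refine ⟨∐ K, Limits.Sigma.desc γ, inferInstance, Set.Subset.antisymm ?_ ?_⟩
    · rintro _ ⟨p, rfl⟩
      obtain ⟨⟨a, p⟩, rfl⟩ := (sigmaMk K).surjective p
      rw [sigmaMk_mk, ← Scheme.Hom.comp_apply, Limits.Sigma.ι_desc]
      simp only [γ, Scheme.Hom.comp_apply]
      let A := Γ(𝒰.X a, ⊤)
      let ι' := {x : (𝒰.X a) // (𝒰.f a).base x ∈ E}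
      let R := Π x : ι', (𝒰.X a).residueField x.1
      let ψ : A →+* R := Pi.ringHom fun x => ((𝒰.X a).presheaf.germ ⊤ x.1 trivial ≫ (𝒰.X a).residue x.1).hom
      let e : PrimeSpectrum A → X := fun q => (𝒰.f a).base ((𝒰.X a).isoSpec.inv.base q)
      show e (PrimeSpectrum.comap ψ p) ∈ E
      have hspec : IsSpectralMap (fun q : PrimeSpectrum A => (⟨e q, ⟨_, rfl⟩⟩ : ((𝒰.f a).opensRange : Set X))) := by
        have hh : Topology.IsOpenEmbedding e := (𝒰.f a).isOpenEmbedding.comp (𝒰.X a).isoSpec.inv.isOpenEmbedding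
        refine ⟨Continuous.subtype_mk hh.continuous _, fun W hW hW' => ?_⟩
        rw [hh.isInducing.isCompact_iff]
        have : e '' ((fun q => (⟨e q, ⟨_, rfl⟩⟩ : ((𝒰.f a).opensRange : Set X))) ⁻¹' W) = Subtype.val '' W := by
          ext z
          constructor
          · rintro ⟨q, hq, rfl⟩; exact ⟨_, hq, rfl⟩
          · rintro ⟨⟨_, ⟨w, rfl⟩⟩, hw, rfl⟩
            refine ⟨(𝒰.X a).isoSpec.hom.base w, ?_, ?_⟩
            · show _ ∈ W
              convert hw using 1
              exact Subtype.ext <| congrArg (𝒰.f a).base (congr($((𝒰.X a).isoSpec.hom_inv_id).base w))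
            · exact congrArg (𝒰.f a).base (congr($((𝒰.X a).isoSpec.hom_inv_id).base w))
        rw [this]
        exact hW'.image continuous_subtype_val
      haveI := EGA41Lib.spectralSpace_affine (hU a)
      have hcc : SpecLib.CC (e ⁻¹' E) := SpecLib.CC.preimage hspec (EGA41Lib.pro_iff.mp hE _ (hU a))
      obtain ⟨S, hS, hES⟩ := EGA41Lib.cc_iff_sInter.mp hcc
      show PrimeSpectrum.comap ψ p ∈ e ⁻¹' E
      rw [hES]
      intro T hT
      refine EGA41Lib.range_comap_pi_subset ψ (hS T hT) (fun x => (Set.ext_iff.mp hES _).mp ?_ T hT) ⟨p, rfl⟩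
      show e _ ∈ E
      have hx : PrimeSpectrum.comap ψ (PrimeSpectrum.comap (Pi.evalRingHom (fun x : ι' => (𝒰.X a).residueField x.1) x) ⊥) =
          (𝒰.X a).isoSpec.hom.base x.1 := by
        refine PrimeSpectrum.ext (Ideal.ext fun g => ?_)
        show (𝒰.X a).residue x.1 ((𝒰.X a).presheaf.germ ⊤ x.1 trivial g) ∈ (⊥ : Ideal _) ↔ ¬ IsUnit ((𝒰.X a).presheaf.Γgerm x.1 g)
        rw [Ideal.mem_bot]
        exact IsLocalRing.residue_eq_zero_iff _
      rw [hx]
      have : e ((𝒰.X a).isoSpec.hom.base x.1) = (𝒰.f a).base x.1 := congrArg (𝒰.f a).base (congr($((𝒰.X a).isoSpec.hom_inv_id).base x.1))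
      rw [this]; exact x.2
    · intro z hz
      obtain ⟨a, w, rfl⟩ := 𝒰.exists_eq z
      let q : K a := PrimeSpectrum.comap (Pi.evalRingHom (fun x : {x : (𝒰.X a) // (𝒰.f a).base x ∈ E} => (𝒰.X a).residueField x.1) ⟨w, hz⟩) ⊥
      refine ⟨(Limits.Sigma.ι K a).base q, ?_⟩
      rw [← Scheme.Hom.comp_apply, Limits.Sigma.ι_desc]
      simp only [γ, Scheme.Hom.comp_apply]
      congr 1
      have hq : (𝒰.X a).isoSpec.hom.base w = (Spec.map (CommRingCat.ofHom (Pi.ringHom fun x : {x : (𝒰.X a) // (𝒰.f a).base x ∈ E} =>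
          ((𝒰.X a).presheaf.germ ⊤ x.1 trivial ≫ (𝒰.X a).residue x.1).hom))).base q := by
        refine PrimeSpectrum.ext (Ideal.ext fun g => ?_)
        show ¬ IsUnit ((𝒰.X a).presheaf.Γgerm w g) ↔ (𝒰.X a).residue w ((𝒰.X a).presheaf.germ ⊤ w trivial g) ∈ (⊥ : Ideal _)
        rw [Ideal.mem_bot]
        exact (IsLocalRing.residue_eq_zero_iff _).symm
      rw [← hq, ← Scheme.Hom.comp_apply, Iso.hom_inv_id]
      rfl
  · rintro ⟨X', f, hX', rfl⟩
    haveI : QuasiCompact f := by
      exact quasiCompact_of_compactSpace f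
    rw [← Set.image_univ]
    exact EGA41Lib.pro_image f (EGA41Lib.pro_iff.mpr fun V hV => by
      haveI := EGA41Lib.spectralSpace_affine hV
      exact @isClosed_univ _ (constructibleTopology _))

end Groth.Agent.S3400
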