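import Groth.Statements.S3401
import Groth.Agent.EGA41Lib.ConsX
import Mathlib.AlgebraicGeometry.Noetherian

set_option autoImplicit false
open CategoryTheory AlgebraicGeometry
universe u
open EGA41

namespace Groth.Agent.S3401

/-- Let X be a scheme and E a subset of X. If E is ind-constructible then for every point x of E the set
E ∩ cl{x} is a neighbourhood of x in cl{x}; when X is locally Noetherian the converse holds. (As
published, the necessity clause quantifies over all points x of X; for x outside E the condition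
cannot hold, and the argument uses x ∈ E, so it is stated here for x ∈ E.) Stated as an equivalence
for X locally Noetherian. -/
theorem result (X : Scheme.{u}) [IsLocallyNoetherian X]
    (E : Set X) :
    ProCons.IsIndConstructible E ↔
      ∀ x ∈ E, (Subtype.val ⁻¹' E : Set ↥(closure ({x} : Set X))) ∈ nhds (⟨x, subset_closure rfl⟩ : ↥(closure ({x} : Set X))) := by
  constructor
  · intro hE x hx
    obtain ⟨_, ⟨V, hV, rfl⟩, hxV, -⟩ :=
      X.isBasis_affineOpens.exists_subset_of_mem_open (Set.mem_univ x) isOpen_univ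
    haveI := EGA41Lib.spectralSpace_affine hV
    obtain ⟨S, hS, hEV⟩ := EGA41Lib.co_iff_sUnion.mp (EGA41Lib.ind_iff.mp hE V hV)
    obtain ⟨A, hA, hxA⟩ := Set.mem_sUnion.mp ((Set.ext_iff.mp hEV ⟨x, hxV⟩).mp hx)
    obtain ⟨n, Z, hZ, rfl⟩ := SpecLib.exists_lc_of_isConstructible (hS A hA)
    obtain ⟨i, hi⟩ := Set.mem_iUnion.mp hxA
    obtain ⟨O, C, hO, hC, hZi⟩ := hZ i
    have hxOC : (⟨x, hxV⟩ : (V : Set X)) ∈ O ∩ C := hZi ▸ hi
    obtain ⟨O', hO', rfl⟩ := isOpen_induced_iff.mp hO
    obtain ⟨C', hC', rfl⟩ := isClosed_induced_iff.mp hC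
    refine mem_nhds_iff.mpr ⟨Subtype.val ⁻¹' (O' ∩ V), ?_, (hO'.inter V.isOpen).preimage continuous_subtype_val,
      hxOC.1, hxV⟩
    rintro ⟨z, hz⟩ ⟨hzO, hzV⟩
    have hzC : z ∈ C' := closure_minimal (Set.singleton_subset_iff.mpr (show x ∈ C' from hxOC.2)) hC' hz
    have hzi : (⟨z, hzV⟩ : (V : Set X)) ∈ Z i := hZi ▸ ⟨hzO, hzC⟩
    exact (Set.ext_iff.mp hEV ⟨z, hzV⟩).mpr (Set.mem_sUnion.mpr ⟨_, hA, Set.mem_iUnion.mpr ⟨i, hzi⟩⟩)
  · intro h
    refine EGA41Lib.ind_iff.mpr fun V hV => ?_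
    haveI := EGA41Lib.spectralSpace_affine hV
    haveI : IsNoetherianRing Γ(X, V) := IsLocallyNoetherian.component_noetherian ⟨V, hV⟩
    haveI : IsAffine (V : Scheme) := hV
    haveI : TopologicalSpace.NoetherianSpace (V : Set X) := by
      haveI : IsNoetherianRing Γ((V : Scheme), ⊤) := isNoetherianRing_of_ringEquiv _ V.topIso.symm.commRingCatIsoToRingEquiv
      exact (V : Scheme).isoSpec.hom.homeomorph.isEmbedding.isInducing.noetherianSpace
    rw [EGA41Lib.co_iff_sUnion]
    refine ⟨{A | Topology.IsConstructible A ∧ A ⊆ Subtype.val ⁻¹' E}, fun A hA => hA.1,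
      Set.Subset.antisymm ?_ (Set.sUnion_subset fun A hA => hA.2)⟩
    intro v hv
    obtain ⟨O, hOE, hO, hxO⟩ := mem_nhds_iff.mp (h v.1 hv)
    obtain ⟨O', hO', rfl⟩ := isOpen_induced_iff.mp hO
    refine ⟨(Subtype.val ⁻¹' O') ∩ (Subtype.val ⁻¹' closure {v.1}), ⟨?_, ?_⟩, hxO, subset_closure rfl⟩
    · exact ((TopologicalSpace.NoetherianSpace.isCompact _).isConstructible (hO'.preimage continuous_subtype_val)).inter
        (SpecLib.isConstructible_of_isClosed (isClosed_closure.preimage continuous_subtype_val))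
    · rintro w ⟨hwO, hwC⟩
      exact hOE (show (⟨w.1, hwC⟩ : ↥(closure ({v.1} : Set X))) ∈ Subtype.val ⁻¹' O' from hwO)

end Groth.Agent.S3401
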