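import Groth.Statements.S3404
import Groth.Agent.EGA41Lib.ConsX

set_option autoImplicit false
open CategoryTheory AlgebraicGeometry
universe u
open EGA41

namespace Groth.Agent.S3404

/-- Let f : X ⟶ Y be a morphism of schemes, x a point of X and y = f x. If f is open at x then every
generization of y is the image of a generization of x; when f is locally of finite presentation the
converse holds. -/
theorem result {X Y : Scheme.{u}} (f : X ⟶ Y) (x : X) :
    (EGA43.IsOpenAt f.base x → ∀ y' : Y, y' ⤳ f.base x → ∃ x' : X, x' ⤳ x ∧ f.base x' = y') ∧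
    (LocallyOfFinitePresentation f →
      ((EGA43.IsOpenAt f.base x) ↔ ∀ y' : Y, y' ⤳ f.base x → ∃ x' : X, x' ⤳ x ∧ f.base x' = y')) := by
  refine ⟨fun h y' hy' => ?_, fun hlfp => ⟨fun h y' hy' => ?_, fun h U hU => ?_⟩⟩
  rotate_left 2
  · obtain ⟨O, hOU, hO, hxO⟩ := mem_nhds_iff.mp hU
    refine Filter.mem_of_superset ?_ (Set.image_mono hOU)
    have hind : ProCons.IsIndConstructible O :=
      EGA41Lib.ind_iff.mpr fun V hV => by
        haveI := EGA41Lib.spectralSpace_affine hV
        exact SpecLib.co_of_isOpen (hO.preimage continuous_subtype_val)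
    rw [mem_nhds_iff]
    refine ⟨interior (f.base '' O), interior_subset, isOpen_interior, ?_⟩
    by_contra hni
    rw [← Set.mem_compl_iff, ← closure_compl] at hni
    obtain ⟨z, hz, hzx⟩ := ProConsLib.exists_specializes_of_mem_closure
      (EGA41Lib.ind_iff_compl.mp (EGA41Lib.ind_image f hind)) hni
    obtain ⟨x', hx', rfl⟩ := h z hzx
    exact hz ⟨x', hx'.mem_open hO hxO, rfl⟩
  all_goals
    have hfib : ProCons.IsProConstructible (f.base ⁻¹' {y'}) :=
      ProConsLib.preimage (EGA41Lib.pro_iff.mpr fun V hV => by
        haveI := EGA41Lib.spectralSpace_affine hV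
        by_cases hy : y' ∈ V
        · have hs : (Subtype.val ⁻¹' {y'} : Set (V : Set Y)) = {⟨y', hy⟩} := by
            ext v; simp [Subtype.ext_iff]
          rw [hs]
          exact SpecLib.cc_singleton _
        · have hs : (Subtype.val ⁻¹' {y'} : Set (V : Set Y)) = ∅ := by
            ext v
            simp only [Set.mem_preimage, Set.mem_singleton_iff, Set.mem_empty_iff_false, iff_false]
            exact fun he => hy (he ▸ v.2)
          rw [hs]
          exact @isClosed_empty _ (constructibleTopology _)) f
    have hcl : x ∈ closure (f.base ⁻¹' {y'}) := by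
      rw [mem_closure_iff]
      intro O hO hxO
      obtain ⟨z, hzO, hz⟩ := hy'.mem_open isOpen_interior (mem_interior_iff_mem_nhds.mpr (h O (hO.mem_nhds hxO))) |> interior_subset
      exact ⟨z, hzO, hz⟩
    obtain ⟨x', hx', hx'x⟩ := ProConsLib.exists_specializes_of_mem_closure hfib hcl
    exact ⟨x', hx'x, hx'⟩

end Groth.Agent.S3404
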