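import Groth.Statements.S3406
import Groth.Agent.HSLib.Samuel

set_option autoImplicit false
universe u
open EGA41

namespace Groth.Agent.S3406

/-- The equality s(M) = dim(M): let A be a Noetherian ring with finitely many maximal ideals, r its
Jacobson radical and M a nonzero finitely generated A-module. Then the dimension of M (the Krull
dimension of its support) is the least n for which there are elements x_1, …, x_n of r such that
M/(x_1 M + ⋯ + x_n M) has finite length. -/
theorem result (A : Type u) [CommRing A] [IsNoetherianRing A]
    [Finite (MaximalSpectrum A)] (M : Type u) [AddCommGroup M] [Module A M] [Module.Finite A M] [Nontrivial M] :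
    Module.supportDim A M =
      sInf {k : WithBot ℕ∞ | ∃ (n : ℕ) (x : Fin n → A), k = n ∧ (∀ i, x i ∈ Ring.jacobson A) ∧
        IsFiniteLength A (M ⧸ (Ideal.span (Set.range x) • (⊤ : Submodule A M)))} := by
  obtain ⟨R, hR⟩ := Groth.Agent.HSLib.exists_poly_jacobson (A := A) M
  have heq := Groth.Agent.HSLib.supportDim_eq M R hR
  refine le_antisymm (le_sInf ?_) (sInf_le ?_)
  · rintro _ ⟨n, x, rfl, hx, hfin⟩
    rw [← heq]
    have hmax : Groth.Agent.HSLib.MaxSupp (Ideal.span (Set.range x)) M := fun p hp hle => by
      refine Groth.Agent.HSLib.isMaximal_of_isFiniteLength hfin ?_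
      rw [Module.support_quotient]
      exact ⟨hp, hle⟩
    exact_mod_cast Groth.Agent.HSLib.natDegree_le_of_params M R hR x hx hmax
  · obtain ⟨x, hx, hmax⟩ := Groth.Agent.HSLib.exists_params_module M (d := R.natDegree) heq.ge
    refine ⟨R.natDegree, x, heq.symm, hx, Module.length_ne_top_iff.mp ?_⟩
    exact Groth.Agent.HSLib.length_quot_ne_top hmax (t := 1) (by rw [pow_one])

end Groth.Agent.S3406
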