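import Groth.Statements.S3409
import Groth.Agent.Equidim5.Main
-- import your own Groth.Agent.* helpers here

set_option autoImplicit false
open CategoryTheory AlgebraicGeometry
universe u
open EGA43

namespace Groth.Agent.S3409

/-- Let Y be locally Noetherian, f : X ⟶ Y locally of finite type, x a point of X and y = f x. Suppose f
is universally open at the generic point of every irreducible component of X_y through x, X_y is
geometrically reduced at x, and all irreducible components of X_y passing through x have the same
dimension. Then f is equidimensional at x. -/
theorem result {X Y : Scheme.{u}} [IsLocallyNoetherian Y] (f : X ⟶ Y)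
    [LocallyOfFiniteType f] (x : X)
    (hopen : ∀ z : ↥(f.fiber (f.base x)), f.asFiber x ∈ closure {z} →
      (∀ z' : ↥(f.fiber (f.base x)), z ∈ closure {z'} → z' = z) →
      EGA43.IsUnivOpenAt f ((f.fiberι (f.base x)).base z))
    (hred : FBase.IsGeomReducedAt (f.fiberToSpecResidueField (f.base x)) (f.asFiber x))
    (heq : ∃ e : ℕ, ∀ Z ∈ irreducibleComponents (↥(f.fiber (f.base x)) : Type u), f.asFiber x ∈ Z →
      topologicalKrullDim (↥Z : Type u) = e) :
    EGA43.IsEquidimAt f x := by
  obtain ⟨e, he⟩ := heq
  exact Equidim5.isEquidimAt f x hopen hred e he

end Groth.Agent.S3409
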