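import Groth.Statements.S3411
import Groth.Agent.Lsc5.Main
-- import your own Groth.Agent.* helpers here

set_option autoImplicit false
open CategoryTheory AlgebraicGeometry
universe u
open EGA43

namespace Groth.Agent.S3411

open Groth.Agent CategoryTheory AlgebraicGeometry

/-- Let Y be locally Noetherian and f : X ⟶ Y separated and quasi-finite; for z in Y let n(z) be the
geometric number of points of the fibre over z (equivalently, since the fibres are finite, the
geometric number of its connected components). If y is a point such that f is universally open at
every point of the fibre over y, then n is lower semicontinuous at y: n(y) ≤ n(z) for all z in a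
neighbourhood of y. -/
theorem result {X Y : Scheme.{u}} [IsLocallyNoetherian Y] (f : X ⟶ Y)
    [IsSeparated f] [LocallyQuasiFinite f] [LocallyOfFiniteType f] [QuasiCompact f] (y : Y)
    (h : ∀ x : X, f.base x = y → EGA43.IsUnivOpenAt f x) :
    ∃ V ∈ nhds y, ∀ z ∈ V, MoreMor.nGeomConnComp f y ≤ MoreMor.nGeomConnComp f z := by
  exact Lsc5.lsc_at f y h

end Groth.Agent.S3411
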