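import Groth.Statements.S3413
import Groth.Agent.Lsc5.Main
import Groth.Agent.S1454
import Groth.Agent.FibDim.Open
import Groth.Agent.FibDim.GenerizeDim
import Groth.Agent.MorLib.GeomPts
import Mathlib
-- import your own Groth.Agent.* helpers here

set_option autoImplicit false
open CategoryTheory AlgebraicGeometry
universe u
open EGA43

namespace Groth.Agent.S3413

open Groth.Agent CategoryTheory.Limits

set_option backward.isDefEq.respectTransparency false
set_option backward.isDefEq.respectTransparency.types false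

theorem isOpenAt {X Y : Scheme.{u}} (f : X ⟶ Y) [UniversallyOpen f] (x : X) : EGA43.IsOpenAt f.base x := fun N hN => by
  obtain ⟨O, hON, hO, hxO⟩ := mem_nhds_iff.1 hN
  exact Filter.mem_of_superset ((f.isOpenMap _ hO).mem_nhds ⟨x, hxO, rfl⟩) (Set.image_mono hON)

theorem eq_of_maximal {Y : Scheme.{u}} {y a b : Y} (hy : CAlg2.IsGeomUnibranch (Y.presheaf.stalk y))
    (ha : a ⤳ y) (hb : b ⤳ y) (hma : ∀ c, c ⤳ a → c = a) (hmb : ∀ c, c ⤳ b → c = b) : a = b := by
  have hd : IsDomain ((Y.presheaf.stalk y : Type u) ⧸ nilradical (Y.presheaf.stalk y)) := hy.1.1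
  let P₀ : Spec (Y.presheaf.stalk y) := ⟨nilradical (Y.presheaf.stalk y), (Ideal.Quotient.isDomain_iff_prime _).1 hd⟩
  have key : ∀ c, c ⤳ y → (∀ d, d ⤳ c → d = c) → c = Y.fromSpecStalk y P₀ := fun c hc hm => by
    have : c ∈ Set.range (Y.fromSpecStalk y) := by rw [Scheme.range_fromSpecStalk]; exact hc
    obtain ⟨P, rfl⟩ := this
    refine (hm _ (Specializes.map ?_ (Y.fromSpecStalk y).continuous)).symm
    exact (PrimeSpectrum.le_iff_specializes P₀ P).1 (nilradical_le_prime P.asIdeal)
  rw [key a ha hma, key b hb hmb]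

theorem fibre_discrete {X Y : Scheme.{u}} (f : X ⟶ Y) [LocallyQuasiFinite f] {a b : X} (h : a ⤳ b)
    (he : f.base a = f.base b) : a = b := by
  have hd := f.isDiscrete_preimage_singleton (f.base b)
  haveI : DiscreteTopology ↥(f.base ⁻¹' {f.base b}) := hd.to_subtype
  have h2 : (⟨a, he⟩ : ↥(f.base ⁻¹' {f.base b})) ⤳ ⟨b, rfl⟩ := Topology.IsInducing.subtypeVal.specializes_iff.1 h
  exact congrArg Subtype.val h2.eq

theorem finite_geomFiber {X Y : Scheme.{u}} (f : X ⟶ Y) [LocallyQuasiFinite f] [QuasiCompact f] (y : Y) :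
    Finite ↥(MoreMor.geomFiber f y) := by
  haveI := MorLib.GP.discreteTopology_geomFiber f y
  haveI : QuasiCompact (pullback.snd (f.fiberToSpecResidueField y) (Lsc5.sepPt y)) :=
    MorphismProperty.pullback_snd _ _ (MorphismProperty.pullback_snd _ _ inferInstance)
  haveI : CompactSpace ↥(MoreMor.geomFiber f y) :=
    QuasiCompact.compactSpace_of_compactSpace (pullback.snd (f.fiberToSpecResidueField y) (Lsc5.sepPt y))
  exact finite_of_compact_of_discrete

theorem isPullback_geomπ {X Y : Scheme.{u}} (f : X ⟶ Y) (y : Y) :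
    IsPullback (Lsc5.geomπ f y) (pullback.snd (f.fiberToSpecResidueField y) (Lsc5.sepPt y)) f
      (Lsc5.sepPt y ≫ Y.fromSpecResidueField y) :=
  (IsPullback.of_hasPullback (f.fiberToSpecResidueField y) (Lsc5.sepPt y)).paste_horiz
    (IsPullback.of_hasPullback f (Y.fromSpecResidueField y))

theorem card_preimage {Z X Y : Scheme.{u}} (i : Z ⟶ X) [IsClosedImmersion i] (f : X ⟶ Y) (z : Y) :
    Nat.card ↥(MoreMor.geomFiber (i ≫ f) z) = Nat.card ↥(Lsc5.geomπ f z ⁻¹' Set.range i) := by
  let j : MoreMor.geomFiber (i ≫ f) z ⟶ MoreMor.geomFiber f z :=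
    (isPullback_geomπ f z).lift (Lsc5.geomπ (i ≫ f) z ≫ i)
      (pullback.snd ((i ≫ f).fiberToSpecResidueField z) (Lsc5.sepPt z))
      (by rw [Category.assoc]; exact (isPullback_geomπ (i ≫ f) z).w)
  have h1 : j ≫ Lsc5.geomπ f z = Lsc5.geomπ (i ≫ f) z ≫ i := (isPullback_geomπ f z).lift_fst _ _ _
  have h2 := (isPullback_geomπ f z).lift_snd (Lsc5.geomπ (i ≫ f) z ≫ i)
      (pullback.snd ((i ≫ f).fiberToSpecResidueField z) (Lsc5.sepPt z))
      (by rw [Category.assoc]; exact (isPullback_geomπ (i ≫ f) z).w)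
  have hsq : IsPullback (Lsc5.geomπ (i ≫ f) z) j i (Lsc5.geomπ f z) := by
    refine IsPullback.of_bot (v₂₁ := pullback.snd (f.fiberToSpecResidueField z) (Lsc5.sepPt z)) ?_ h1.symm (isPullback_geomπ f z)
    rw [h2]
    exact isPullback_geomπ (i ≫ f) z
  haveI : IsClosedImmersion j := MorphismProperty.of_isPullback hsq inferInstance
  have hr : Set.range j = Lsc5.geomπ f z ⁻¹' Set.range i := by
    rw [← hsq.isoPullback_hom_snd, Scheme.Hom.comp_base, TopCat.coe_comp, Set.range_comp,
      Set.range_eq_univ.mpr (hsq.isoPullback.hom.surjective), Set.image_univ]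
    exact Scheme.Pullback.range_snd _ _
  rw [← hr]
  exact Nat.card_congr (Equiv.ofInjective _ j.isClosedEmbedding.injective)

theorem piece_le {X Y : Scheme.{u}} [IsLocallyNoetherian Y]
    (hY : ∀ y : Y, CAlg2.IsGeomUnibranch (Y.presheaf.stalk y)) (f : X ⟶ Y)
    [IsSeparated f] [LocallyQuasiFinite f] [LocallyOfFiniteType f] [QuasiCompact f]
    (w : X) (hw : ∀ w', w' ⤳ w → w' = w) (hfw : ∀ b, b ⤳ f.base w → b = f.base w) (y η : Y) (hη : η ⤳ y) :
    Nat.card ↥(Lsc5.geomπ f y ⁻¹' closure {w}) ≤ Nat.card ↥(Lsc5.geomπ f η ⁻¹' closure {w}) := by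
  let T : TopologicalSpace.Closeds X := ⟨closure {w}, isClosed_closure⟩
  let i := (Scheme.IdealSheafData.vanishingIdeal T).subschemeι
  have hr : Set.range i = closure {w} := by
    rw [Scheme.IdealSheafData.range_subschemeι, Scheme.IdealSheafData.coe_support_vanishingIdeal]
    rfl
  haveI : UniversallyOpen (i ≫ f) := by
    refine S1454.result (i ≫ f) hY fun C hC v hv => ?_
    have hiv : i v = w := by
      obtain ⟨w₀, hw₀⟩ : w ∈ Set.range i := by rw [hr]; exact subset_closure rfl
      have h1 : i v ∈ Set.range i := ⟨v, rfl⟩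
      rw [hr] at h1
      have hs : w₀ ⤳ v := i.isClosedEmbedding.isInducing.specializes_iff.1 (hw₀ ▸ specializes_iff_mem_closure.2 h1)
      have : closure {w₀} = C := by
        refine subset_antisymm (hC.2 isIrreducible_singleton.closure ?_) ?_ <;>
        · rw [← hv.def]; exact hs.closure_subset
      rw [hv.eq (this : IsGenericPoint w₀ C), hw₀]
    refine ⟨closure {f.base w}, FDescent.closure_mem_irreducibleComponents hfw, ?_⟩
    show closure {(i ≫ f) v} = closure {f.base w}
    rw [Scheme.Hom.comp_apply, hiv]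
  haveI : QuasiCompact (i ≫ f) := inferInstance
  haveI : LocallyOfFiniteType (i ≫ f) := inferInstance
  obtain ⟨V, hV, hle⟩ := Lsc5.lsc_at (i ≫ f) y fun v _ => Lsc5.isUnivOpenAt_of_universallyOpen (i ≫ f) v
  obtain ⟨O, hOV, hO, hyO⟩ := mem_nhds_iff.1 hV
  have h := hle η (hOV (hη.mem_open hO hyO))
  haveI := MorLib.GP.discreteTopology_geomFiber (i ≫ f) η
  haveI := MorLib.GP.discreteTopology_geomFiber (i ≫ f) y
  haveI := finite_geomFiber (i ≫ f) η
  haveI := finite_geomFiber (i ≫ f) y
  rw [MoreMor.nGeomConnComp, MoreMor.nGeomConnComp, MorLib.GP.card_connectedComponents_of_discrete,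
    MorLib.GP.card_connectedComponents_of_discrete, ENat.card_eq_coe_natCard, ENat.card_eq_coe_natCard,
    Nat.cast_le, card_preimage, card_preimage, hr] at h
  exact h

/-- Let Y be locally Noetherian with all local rings geometrically unibranch, f : X ⟶ Y separated,
quasi-finite and universally open, and n(z) the geometric number of points of the fibre over z. If n
is locally constant on Y, then the irreducible components of X are pairwise disjoint. -/
theorem result {X Y : Scheme.{u}} [IsLocallyNoetherian Y]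
    (hY : ∀ y : Y, CAlg2.IsGeomUnibranch (Y.presheaf.stalk y)) (f : X ⟶ Y)
    [IsSeparated f] [LocallyQuasiFinite f] [LocallyOfFiniteType f] [QuasiCompact f] [UniversallyOpen f]
    (hn : IsLocallyConstant (fun z : Y => MoreMor.nGeomConnComp f z)) :
    ∀ Z ∈ irreducibleComponents (X : Type u), ∀ Z' ∈ irreducibleComponents (X : Type u), Z ≠ Z' → Disjoint Z Z' := by
  classical
  intro Z hZ Z' hZ' hne
  rw [Set.disjoint_left]
  intro x hxZ hxZ'
  let y := f.base x
  have hmaxim : ∀ w : X, (∀ w', w' ⤳ w → w' = w) → ∀ b, b ⤳ f.base w → b = f.base w := fun w hw b hb => by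
    obtain ⟨ζ, hζ, hfζ⟩ := FibDim.exists_generization_of_isOpenAt f (isOpenAt f w) hb
    rw [hw ζ hζ] at hfζ
    exact hfζ.symm
  have hgen : ∀ C ∈ irreducibleComponents (X : Type u), ∃ ζ, IsGenericPoint ζ C ∧ ∀ w', w' ⤳ ζ → w' = ζ := by
    intro C hC
    have hg : IsGenericPoint hC.1.genericPoint C := by
      simpa only [(isClosed_of_mem_irreducibleComponents C hC).closure_eq] using hC.1.isGenericPoint_genericPoint_closure
    refine ⟨_, hg, fun w' hw' => ?_⟩
    have hsub : C ⊆ closure {w'} := hg ▸ hw'.closure_subset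
    exact (isGenericPoint_closure (x := w')).eq
      ((hg : closure {_} = C).trans (subset_antisymm hsub (hC.2 isIrreducible_singleton.closure hsub)))
  obtain ⟨ζ, hζ, hζm⟩ := hgen Z hZ
  obtain ⟨ζ', hζ', hζm'⟩ := hgen Z' hZ'
  let η := f.base ζ
  have hη : η ⤳ y := (hζ.specializes hxZ).map f.continuous
  have hηuniq : ∀ w, (∀ w', w' ⤳ w → w' = w) → f.base w ⤳ y → f.base w = η := fun w hw hwy =>
    eq_of_maximal (hY y) hwy hη (hmaxim w hw) (hmaxim ζ hζm)
  -- the points over `η` are maximal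
  have hfibmax : ∀ w, f.base w = η → ∀ w', w' ⤳ w → w' = w := fun w hw w' hw' => by
    obtain ⟨m, hm, hmm⟩ := FibDim.exists_maximal_generization w'
    have h1 : f.base m = η := (hmaxim ζ hζm _ ((hm.trans hw').map f.continuous |>.trans (hw ▸ specializes_rfl))).trans rfl
    have h2 : m = w := fibre_discrete f (hm.trans hw') (h1.trans hw.symm)
    exact (hw'.antisymm (h2 ▸ hm)).eq
  let I := {w : X // f.base w = η}
  haveI : Finite I := (f.finite_preimage_singleton η).to_subtype
  let A := MoreMor.geomFiber f η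
  let B := MoreMor.geomFiber f y
  haveI hA : Finite ↥A := finite_geomFiber f η
  haveI hB : Finite ↥B := finite_geomFiber f y
  let Aw : I → Set ↥A := fun w => Lsc5.geomπ f η ⁻¹' closure {w.1}
  let Bw : I → Set ↥B := fun w => Lsc5.geomπ f y ⁻¹' closure {w.1}
  have hle : ∀ w, Nat.card (Bw w) ≤ Nat.card (Aw w) := fun w => piece_le hY f w.1 (hfibmax w.1 w.2) (hmaxim _ (hfibmax w.1 w.2)) y η hη
  have hAsum : ∑ᶠ w, Nat.card (Aw w) ≤ Nat.card ↥A := by
    let := Fintype.ofFinite I
    rw [finsum_eq_sum_of_fintype, ← Nat.card_sigma]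
    refine Nat.card_le_card_of_injective (fun p : Σ w, Aw w => (p.2.1 : ↥A)) ?_
    rintro ⟨w, a, ha⟩ ⟨w', a', ha'⟩ (rfl : a = a')
    have hfa : f.base (Lsc5.geomπ f η a) = η := by
      have : Lsc5.geomπ f η a ∈ Set.range (Lsc5.geomπ f η) := ⟨a, rfl⟩
      rw [Lsc5.range_geomπ] at this
      exact this
    have e1 : w.1 = Lsc5.geomπ f η a := hfibmax _ hfa _ (specializes_iff_mem_closure.2 ha)
    have e2 : w'.1 = Lsc5.geomπ f η a := hfibmax _ hfa _ (specializes_iff_mem_closure.2 ha')
    obtain rfl : w = w' := Subtype.ext (e1.trans e2.symm)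
    rfl
  have hBlt : Nat.card ↥B < ∑ᶠ w, Nat.card (Bw w) := by
    let := Fintype.ofFinite I
    rw [finsum_eq_sum_of_fintype, ← Nat.card_sigma]
    let p : (Σ w, Bw w) → ↥B := fun q => q.2.1
    have hsurj : Function.Surjective p := fun b => by
      obtain ⟨m, hm, hmm⟩ := FibDim.exists_maximal_generization (Lsc5.geomπ f y b)
      have hfb : f.base (Lsc5.geomπ f y b) = y := by
        have : Lsc5.geomπ f y b ∈ Set.range (Lsc5.geomπ f y) := ⟨b, rfl⟩
        rw [Lsc5.range_geomπ] at this
        exact this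
      exact ⟨⟨⟨m, hηuniq m hmm (hfb ▸ hm.map f.continuous)⟩, b, specializes_iff_mem_closure.1 hm⟩, rfl⟩
    have hninj : ¬ Function.Injective p := fun hinj => by
      obtain ⟨b, hb⟩ := Lsc5.exists_geomπ_eq f (show f x = y from rfl)
      have h1 : b ∈ Bw ⟨ζ, rfl⟩ := by
        show Lsc5.geomπ f y b ∈ closure {ζ}
        rw [hb, hζ.def]; exact hxZ
      have h2 : b ∈ Bw ⟨ζ', hηuniq ζ' hζm' ((hζ'.specializes hxZ').map f.continuous)⟩ := by
        show Lsc5.geomπ f y b ∈ closure {ζ'}
        rw [hb, hζ'.def]; exact hxZ'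
      have := congrArg (fun q : Σ w, Bw w => (q.1 : X)) (@hinj ⟨_, b, h1⟩ ⟨_, b, h2⟩ rfl)
      refine hne ?_
      rw [← hζ.def, ← hζ'.def]
      exact congrArg (fun z => closure {z}) this
    let := Fintype.ofFinite (Σ w, Bw w)
    let := Fintype.ofFinite ↥B
    rw [Nat.card_eq_fintype_card, Nat.card_eq_fintype_card]
    exact Fintype.card_lt_of_surjective_not_injective p hsurj hninj
  have hsum : ∑ᶠ w, Nat.card (Bw w) ≤ ∑ᶠ w, Nat.card (Aw w) := by
    let := Fintype.ofFinite I
    rw [finsum_eq_sum_of_fintype, finsum_eq_sum_of_fintype]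
    exact Finset.sum_le_sum fun w _ => hle w
  have hlc : MoreMor.nGeomConnComp f η = MoreMor.nGeomConnComp f y :=
    hη.mem_open (hn {MoreMor.nGeomConnComp f y}) rfl
  haveI := MorLib.GP.discreteTopology_geomFiber f η
  haveI := MorLib.GP.discreteTopology_geomFiber f y
  rw [MoreMor.nGeomConnComp, MoreMor.nGeomConnComp, MorLib.GP.card_connectedComponents_of_discrete,
    MorLib.GP.card_connectedComponents_of_discrete, ENat.card_eq_coe_natCard, ENat.card_eq_coe_natCard,
    Nat.cast_inj] at hlc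
  have hA' : Nat.card ↥A = Nat.card ↥B := hlc
  omega

end Groth.Agent.S3413
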