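import Groth.Statements.S3414
import Groth.Agent.Stein5.Main
import Groth.Agent.Lsc5.Main
import Groth.Agent.UnivOpen.Chevalley
import Groth.Agent.FibDim.AffineSpaceFibre
-- import your own Groth.Agent.* helpers here

set_option autoImplicit false
open CategoryTheory AlgebraicGeometry
universe u
open EGA43

namespace Groth.Agent.S3414

/-- Let Y be an irreducible locally Noetherian scheme, f : X ⟶ Y proper, n(y) the geometric number of
connected components of the fibre over y, and suppose every irreducible component of X dominates Y.
If y₀ is a point of Y whose local ring is geometrically unibranch, then n is lower semicontinuous at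
y₀. -/
theorem result {X Y : Scheme.{u}} [IrreducibleSpace Y]
    [IsLocallyNoetherian Y] (f : X ⟶ Y) [IsProper f]
    (hdom : ∀ Z ∈ irreducibleComponents (X : Type u), closure (f.base '' Z) = Set.univ) (y₀ : Y)
    (hy : CAlg2.IsGeomUnibranch (Y.presheaf.stalk y₀)) :
    ∃ V ∈ nhds y₀, ∀ z ∈ V, MoreMor.nGeomConnComp f y₀ ≤ MoreMor.nGeomConnComp f z := by
  haveI : IsFinite f.fromNormalization := Groth.Agent.S1297.result f
  haveI : IsLocallyNoetherian f.normalization := LocallyOfFiniteType.isLocallyNoetherian f.fromNormalization
  haveI := Stein5.geometricallyConnected_toNormalization f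
  let h := f.fromNormalization
  have hopen : ∀ p : f.normalization, h.base p = y₀ → EGA43.IsUnivOpenAt h p := by
    intro p hp
    have hfib : FibDim.FibMax h p := fun p' hs he => by
      have hd := h.isDiscrete_preimage_singleton (h p)
      haveI : DiscreteTopology ↥(h ⁻¹' {h p}) := hd.to_subtype
      have h2 : (⟨p', he⟩ : ↥(h ⁻¹' {h p})) ⤳ ⟨p, rfl⟩ := Topology.IsInducing.subtypeVal.specializes_iff.1 hs
      exact congrArg Subtype.val h2.eq
    obtain ⟨η, hη, hmax⟩ := FibDim.exists_maximal_generization p
    obtain ⟨x, hx⟩ := f.toNormalization.surjective η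
    obtain ⟨ξ, hξ, hξm⟩ := FibDim.exists_maximal_generization x
    have hgξ : f.toNormalization ξ = η := hmax _ (hx ▸ hξ.map f.toNormalization.continuous)
    have hfξ : closure {f.base ξ} = Set.univ := by
      have h1 := hdom _ (FDescent.closure_mem_irreducibleComponents hξm)
      rwa [closure_image_closure f.continuous, Set.image_singleton] at h1
    have he : h η = f.base ξ := by
      rw [← hgξ, ← Scheme.Hom.comp_apply, f.toNormalization_fromNormalization]
    refine UnivOpen.isUnivOpenAt_of_witness h (show CAlg2.IsGeomUnibranch (Y.presheaf.stalk (h p)) from hp ▸ hy) hfib hη hmax ?_ ?_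
    · intro b hb
      have hg : f.base ξ ⤳ b := specializes_iff_mem_closure.2 (hfξ ▸ Set.mem_univ b)
      exact (hb.antisymm (he ▸ hg)).eq
    · rw [FibDim.rd_eq_zero_of_quasiFinite, FibDim.rd_eq_zero_of_quasiFinite]
  obtain ⟨V, hV, hle⟩ := Lsc5.lsc_at h y₀ hopen
  refine ⟨V, hV, fun z hz => ?_⟩
  rw [Stein5.nGeomConnComp_fromNormalization f y₀, Stein5.nGeomConnComp_fromNormalization f z]
  exact hle z hz

end Groth.Agent.S3414
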