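import Groth.Statements.S3416
import Groth.Agent.Stein5.Const
-- import your own Groth.Agent.* helpers here

set_option autoImplicit false
open CategoryTheory AlgebraicGeometry
universe u
open EGA43

namespace Groth.Agent.S3416

/-- Let Y be locally Noetherian, f : X ⟶ Y proper and n(z) the geometric number of connected components
of the fibre over z. Let y be a point such that f is universally open at every point of the fibre
over y and that fibre is geometrically reduced over the residue field of y. Then n is constant on a
neighbourhood of y. -/
theorem result {X Y : Scheme.{u}} [IsLocallyNoetherian Y]
    (f : X ⟶ Y) [IsProper f] (y : Y) (h : ∀ x : X, f.base x = y → EGA43.IsUnivOpenAt f x)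
    (hred : GeometricallyReduced (f.fiberToSpecResidueField y)) :
    ∃ V ∈ nhds y, ∀ z ∈ V, MoreMor.nGeomConnComp f z = MoreMor.nGeomConnComp f y := by
  exact Stein5.const_nhd f y h hred

end Groth.Agent.S3416
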