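import Groth.Statements.S3420
import Groth.Agent.SecComp5.Nhd
-- import your own Groth.Agent.* helpers here

set_option autoImplicit false
open CategoryTheory AlgebraicGeometry
universe u
open EGA43

namespace Groth.Agent.S3420

set_option backward.isDefEq.respectTransparency false
set_option backward.isDefEq.respectTransparency.types false

/-- Let Y be locally Noetherian, f : X ⟶ Y locally of finite type, g a section of f, X⁰_y the connected
component of f⁻¹(y) containing g(y) and X⁰ the union of the X⁰_y. If y is a point such that the
fibre over y is geometrically reduced at every point of X⁰_y and f is universally open at every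
point of X⁰_y, then X⁰ is a neighbourhood of X⁰_y in X. In particular, if f is universally open and
every fibre is geometrically reduced at the points of X⁰, then X⁰ is open in X. -/
theorem result {X Y : Scheme.{u}} [IsLocallyNoetherian Y] (f : X ⟶ Y)
    [LocallyOfFiniteType f] (g : Y ⟶ X) (hg : g ≫ f = 𝟙 Y) :
    (∀ y : Y, (∀ x ∈ connectedComponentIn (f.base ⁻¹' {y}) (g.base y), EGA43.IsUnivOpenAt f x ∧
        FBase.IsGeomReducedAt (f.fiberToSpecResidueField (f.base x)) (f.asFiber x)) →
      connectedComponentIn (f.base ⁻¹' {y}) (g.base y) ⊆ interior (MoreMor.sectionComponents f g)) ∧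
    (UniversallyOpen f → (∀ x ∈ MoreMor.sectionComponents f g,
        FBase.IsGeomReducedAt (f.fiberToSpecResidueField (f.base x)) (f.asFiber x)) →
      IsOpen (MoreMor.sectionComponents f g)) := by
  have key : ∀ y : Y, (∀ x ∈ connectedComponentIn (f.base ⁻¹' {y}) (g.base y), EGA43.IsUnivOpenAt f x ∧
        FBase.IsGeomReducedAt (f.fiberToSpecResidueField (f.base x)) (f.asFiber x)) →
      connectedComponentIn (f.base ⁻¹' {y}) (g.base y) ⊆ interior (MoreMor.sectionComponents f g) := by
    intro y h
    refine SecComp5.component_subset_interior f g hg y fun z hz hzy => ?_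
    have hz' : z ∈ connectedComponentIn (f.base ⁻¹' {y}) (g.base y) := by
      rw [← hzy]
      exact hz
    exact SecComp5.good_of f z (h z hz').1 (h z hz').2
  refine ⟨key, fun hf hred => ?_⟩
  rw [← interior_eq_iff_isOpen]
  refine subset_antisymm interior_subset fun x hx => key (f.base x) (fun z hz => ⟨?_, ?_⟩) hx
  · intro Y' g' z' _
    have : UniversallyOpen (Limits.pullback.snd f g') := MorphismProperty.pullback_snd (P := @UniversallyOpen) _ _ hf
    exact fun U hU => (Limits.pullback.snd f g').isOpenMap.image_mem_nhds hU
  · refine hred z ?_
    have hzy : f.base z = f.base x := connectedComponentIn_subset (f.base ⁻¹' {f.base x}) (g.base (f.base x)) hz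
    show z ∈ connectedComponentIn (f.base ⁻¹' {f.base z}) (g.base (f.base z))
    rw [hzy]
    exact hz

end Groth.Agent.S3420
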