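import Groth.Statements.S3428
import Groth.Agent.ConsPropLib.FibreLoci

set_option autoImplicit false
open CategoryTheory AlgebraicGeometry
universe u
open EGA43

namespace Groth.Agent.S3428

/-- Let f : X ⟶ S be of finite presentation (locally of finite presentation, quasi-compact,
quasi-separated) and Z a locally constructible subset of X. Then the set of points s of S such that
Z ∩ f⁻¹(s) is closed in the fibre f⁻¹(s) (with the topology induced from X), the set of s such that
it is open in the fibre, and the set of s such that it is locally closed in the fibre, are locally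
constructible in S. -/
theorem result {X S : Scheme.{u}} (f : X ⟶ S)
    [LocallyOfFinitePresentation f] [QuasiCompact f] [QuasiSeparated f] (Z : Set X)
    (hZ : Topology.IsLocallyConstructible Z) :
    Topology.IsLocallyConstructible {s : S | IsClosed (Subtype.val ⁻¹' Z : Set ↥(f.base ⁻¹' {s}))} ∧
      Topology.IsLocallyConstructible {s : S | IsOpen (Subtype.val ⁻¹' Z : Set ↥(f.base ⁻¹' {s}))} ∧
      Topology.IsLocallyConstructible {s : S | IsLocallyClosed (Subtype.val ⁻¹' Z : Set ↥(f.base ⁻¹' {s}))} := by
  have hZc : Topology.IsLocallyConstructible Zᶜ := fun x =>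
    (hZ x).imp fun U hU => ⟨hU.1, hU.2.1, by rw [Set.preimage_compl]; exact hU.2.2.compl⟩
  refine ⟨?_, ?_, ?_⟩
  · convert Groth.Agent.ConsPropLib.isLocallyConstructible_setsLocus Groth.Agent.ConsPropLib.stable_closed Groth.Agent.ConsPropLib.dichotomy_closed f hZ hZ using 1
    exact Set.ext fun s => Groth.Agent.ConsPropLib.isClosed_iff_fiber f Z s
  · convert Groth.Agent.ConsPropLib.isLocallyConstructible_setsLocus Groth.Agent.ConsPropLib.stable_closed Groth.Agent.ConsPropLib.dichotomy_closed f hZc hZc using 1
    refine Set.ext fun s => ?_
    simp only [Groth.Agent.ConsPropLib.closedLocus, Set.mem_setOf_eq]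
    rw [Groth.Agent.ConsPropLib.isOpen_iff_fiber f Z s, Set.preimage_compl, isClosed_compl_iff]
  · convert Groth.Agent.ConsPropLib.isLocallyConstructible_setsLocus Groth.Agent.ConsPropLib.stable_lc Groth.Agent.ConsPropLib.dichotomy_lc f hZ hZ using 1
    refine Set.ext fun s => ?_
    simp only [Groth.Agent.ConsPropLib.lcLocus, Set.mem_setOf_eq]
    exact ⟨fun h => h.preimage (f.fiberHomeo s).continuous, fun h => by
      have := h.preimage (f.fiberHomeo s).symm.continuous
      convert this using 1
      ext y
      exact iff_of_eq (congrArg (· ∈ Z) (Scheme.Hom.fiberι_fiberHomeo_symm f s y).symm)⟩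

end Groth.Agent.S3428
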