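import Groth.Statements.S4862
import Groth.Agent.Goldman.Basic

set_option autoImplicit false
universe u
open EGA43

namespace Groth.Agent.S4862

open Groth.Agent.Goldman

/-- For a commutative ring A the following are equivalent: a) A is a Jacobson ring; b) for every prime
ideal p of A which is not maximal and every nonzero f of B = A/p, the localization B_f is not a
field; b′) every finitely generated A-algebra which is a field is a finite A-module. -/
theorem result (A : Type u) [CommRing A] :
    [IsJacobsonRing A,
      ∀ (p : Ideal A) [p.IsPrime], ¬ p.IsMaximal → ∀ f : A ⧸ p, f ≠ 0 → ¬ IsField (Localization.Away f),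
      ∀ (K : Type u) [Field K] [Algebra A K], Algebra.FiniteType A K → Module.Finite A K].TFAE := by
  classical
  tfae_have 1 → 2 := by
    intro hJ p _ hp f hf hF
    haveI : IsJacobsonRing (A ⧸ p) := isJacobsonRing_of_surjective ⟨Ideal.Quotient.mk p, Ideal.Quotient.mk_surjective⟩
    letI := hF.toField
    haveI : Module.Finite (A ⧸ p) (Localization.Away f) := finite_of_finite_type_of_isJacobsonRing _ _
    exact hp ((Ideal.Quotient.maximal_of_isField p) (isField_of_isIntegral_of_isField
      (IsLocalization.injective (Localization.Away f) (powers_le_nonZeroDivisors_of_noZeroDivisors hf)) hF))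
  tfae_have 1 → 3 := by
    intro hJ K _ _ hK
    haveI := hK
    exact finite_of_finite_type_of_isJacobsonRing A K
  tfae_have 3 → 2 := by
    intro h p _ hp f hf hF
    letI := hF.toField
    haveI : Algebra.FiniteType A (Localization.Away f) :=
      Algebra.FiniteType.trans (S := A ⧸ p) inferInstance inferInstance
    haveI := h (Localization.Away f) inferInstance
    haveI : Algebra.IsIntegral (A ⧸ p) (Localization.Away f) :=
      ⟨fun x => (Algebra.IsIntegral.isIntegral (R := A) x).tower_top⟩
    exact hp ((Ideal.Quotient.maximal_of_isField p) (isField_of_isIntegral_of_isField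
      (IsLocalization.injective (Localization.Away f) (powers_le_nonZeroDivisors_of_noZeroDivisors hf)) hF))
  tfae_have 2 → 1 := by
    intro h
    rw [isJacobsonRing_iff_prime_eq]
    intro P hP
    refine le_antisymm (fun a ha => ?_) Ideal.le_jacobson
    by_contra haP
    have hd : Disjoint (P : Set A) (Submonoid.powers a : Set A) := by
      rw [Set.disjoint_right]
      rintro _ ⟨n, rfl⟩ hn
      exact haP (hP.mem_of_pow_mem n hn)
    obtain ⟨q, hq, hqP, hqd, hmax⟩ : ∃ q : Ideal A, q.IsPrime ∧ P ≤ q ∧ a ∉ q ∧
        ∀ r : Ideal A, r.IsPrime → q ≤ r → a ∉ r → r = q := by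
      obtain ⟨m, hm, hle⟩ := Ideal.exists_le_maximal (P.map (algebraMap A (Localization.Away a)))
        ((IsLocalization.isPrime_of_isPrime_disjoint _ _ P hP hd.symm).ne_top)
      obtain ⟨hm1, hm2⟩ := (IsLocalization.isPrime_iff_isPrime_disjoint (Submonoid.powers a) _ m).mp hm.isPrime
      refine ⟨_, hm1, Ideal.map_le_iff_le_comap.mp hle, Set.disjoint_left.mp hm2 (Submonoid.mem_powers a),
        fun r hr hqr har => ?_⟩
      have hdr : Disjoint (Submonoid.powers a : Set A) (r : Set A) := by
        rw [Set.disjoint_left]
        rintro _ ⟨n, rfl⟩ hn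
        exact har (hr.mem_of_pow_mem n hn)
      have hrm : m ≤ r.map (algebraMap A (Localization.Away a)) := by
        rw [← IsLocalization.map_comap (Submonoid.powers a) (Localization.Away a) m]
        exact Ideal.map_mono hqr
      have := hm.eq_of_le (IsLocalization.isPrime_of_isPrime_disjoint _ _ r hr hdr).ne_top hrm
      refine le_antisymm ?_ hqr
      have h2 := Ideal.le_comap_map (f := algebraMap A (Localization.Away a)) (I := r)
      rwa [← this] at h2
    haveI := hq
    have hqm : ¬ q.IsMaximal := fun hm => hqd (Ideal.mem_sInf.mp ha ⟨hqP, hm⟩)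
    have hne : Ideal.Quotient.mk q a ≠ 0 := fun he => hqd (Ideal.Quotient.eq_zero_iff_mem.mp he)
    refine h q hqm _ hne (isField_away_of_inAll hne fun r hr hr0 => ?_)
    by_contra hnot
    refine hr0 ?_
    have hsame := hmax (r.comap (Ideal.Quotient.mk q)) (hr.comap _)
      (fun x hx => by simp [Ideal.mem_comap, Ideal.Quotient.eq_zero_iff_mem.mpr hx]) hnot
    rw [← Ideal.map_comap_of_surjective _ Ideal.Quotient.mk_surjective r, hsame, Ideal.map_quotient_self]
  tfae_finish

end Groth.Agent.S4862
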