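import Groth.Statements.S3431
import Groth.Agent.S4862
import Groth.Agent.Goldman.Basic

set_option autoImplicit false
universe u
open EGA43

namespace Groth.Agent.S3431

open Groth.Agent.Goldman

/-- Let A be a Noetherian ring. Then A is a Jacobson ring if and only if there is no prime ideal p of A
such that A/p is semi-local (finitely many maximal ideals) of Krull dimension 1. -/
theorem result (A : Type u) [CommRing A] [IsNoetherianRing A] :
    IsJacobsonRing A ↔
      ∀ (p : Ideal A) [p.IsPrime], ¬ (Finite (MaximalSpectrum (A ⧸ p)) ∧ ringKrullDim (A ⧸ p) = 1) := by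
  have T := Groth.Agent.S4862.result A
  have h01 : IsJacobsonRing A ↔ ∀ (p : Ideal A) [p.IsPrime], ¬ p.IsMaximal →
      ∀ f : A ⧸ p, f ≠ 0 → ¬ IsField (Localization.Away f) := T.out 0 1
  constructor
  · intro hJ p _ ⟨hfin, hdim⟩
    haveI := hfin
    obtain ⟨hnf, hmax⟩ := dim_eq_one_iff.mp hdim
    obtain ⟨f, hf, hF⟩ := isField_away_iff.mpr (exists_inAll_of_semilocal hmax)
    exact h01.mp hJ p (fun hm => hnf ((Ideal.Quotient.maximal_ideal_iff_isField_quotient p).mp hm)) f hf hF
  · intro h
    refine h01.mpr ?_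
    intro p _ hp f hf hF
    have hA := inAll_of_isField_away hf hF
    obtain ⟨hs, hfin⟩ := structure_of_inAll hf hA
    haveI := hfin
    refine h p ⟨Finite.of_injective MaximalSpectrum.toPrimeSpectrum MaximalSpectrum.toPrimeSpectrum_injective,
      dim_eq_one_iff.mpr ⟨fun hF' => hp ((Ideal.Quotient.maximal_ideal_iff_isField_quotient p).mpr hF'),
        fun q hq hq0 => (hs q hq hq0).2⟩⟩

end Groth.Agent.S3431
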