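import Groth.Statements.S3434
import Groth.Agent.ProperAt5.Field
import Groth.Agent.ProperAt5.Gen
-- import your own Groth.Agent.* helpers here

set_option autoImplicit false
open CategoryTheory AlgebraicGeometry
universe u
open EGA43

namespace Groth.Agent.S3434

set_option backward.isDefEq.respectTransparency false
set_option backward.isDefEq.respectTransparency.types false

/-- Let Y be an integral locally Noetherian scheme, X an integral scheme, f : X ⟶ Y separated, dominant
and of finite type, and y a point of Y; write K for the function field of X (the local ring at its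
generic point ξ), into which O_{Y,y} maps through O_{Y,f ξ}. Then f is proper over some open
neighbourhood of y if and only if every discrete valuation ring of K which dominates (the image of)
O_{Y,y} dominates (the image of) O_{X,x} for some point x of X; such an x lies over y. -/
theorem result {X Y : Scheme.{u}} [IsIntegral X] [IsIntegral Y] [IsLocallyNoetherian Y]
    (f : X ⟶ Y) [IsSeparated f] [IsDominant f] [LocallyOfFiniteType f] [QuasiCompact f] (y : Y)
    (hξ : f.base (genericPoint X) ⤳ y) :
    (∃ U : Y.Opens, y ∈ U ∧ IsProper (f ∣_ U)) ↔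
      ∀ A : ValuationSubring X.functionField, IsDiscreteValuationRing A →
        (∀ r : Y.presheaf.stalk y, A.valuation ((Y.presheaf.stalkSpecializes hξ ≫ f.stalkMap (genericPoint X)) r) ≤ 1) →
        (∀ r ∈ IsLocalRing.maximalIdeal (Y.presheaf.stalk y),
            A.valuation ((Y.presheaf.stalkSpecializes hξ ≫ f.stalkMap (genericPoint X)) r) < 1) →
        ∃ x : X, f.base x = y ∧
          (∀ r : X.presheaf.stalk x, A.valuation (X.presheaf.stalkSpecializes (genericPoint_specializes x) r) ≤ 1) ∧
          (∀ r ∈ IsLocalRing.maximalIdeal (X.presheaf.stalk x),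
            A.valuation (X.presheaf.stalkSpecializes (genericPoint_specializes x) r) < 1) := by
  classical
  have hXgen : f.base (genericPoint X) ⤳ y := hξ
  let χ := Y.presheaf.stalkSpecializes hξ ≫ f.stalkMap (genericPoint X)
  let ι₀ := X.fromSpecStalk (genericPoint X)
  have hχspec : Spec.map χ ≫ Y.fromSpecStalk y = ι₀ ≫ f := by
    show Spec.map (Y.presheaf.stalkSpecializes hξ ≫ f.stalkMap (genericPoint X)) ≫ _ = _
    rw [Spec.map_comp, Category.assoc, Scheme.SpecMap_stalkSpecializes_fromSpecStalk,
      Scheme.SpecMap_stalkMap_fromSpecStalk]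
  constructor
  · rintro ⟨U, hyU, hU⟩ A hA h1 h2
    haveI := hA
    have hmem : ∀ r, χ.hom r ∈ A := fun r => (A.valuation_le_one_iff _).1 (h1 r)
    let φ : Y.presheaf.stalk y ⟶ CommRingCat.of A := CommRingCat.ofHom (χ.hom.codRestrict A.toSubring hmem)
    haveI : IsLocalHom φ.hom := ⟨fun r hr => by
      by_contra hnu
      have h3 := h2 r ((IsLocalRing.mem_maximalIdeal r).2 hnu)
      exact (A.valuation_lt_one_iff (φ.hom r)).2 h3 |> fun h => (IsLocalRing.mem_maximalIdeal _).1 h hr⟩
    let sub : CommRingCat.of A ⟶ CommRingCat.of X.functionField := CommRingCat.ofHom A.subtype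
    have hφ : φ ≫ sub = χ := rfl
    let g := Spec.map φ ≫ Y.fromSpecStalk y
    have hg : g (IsLocalRing.closedPoint A : PrimeSpectrum A) = y := ProperAt5.spec_fromSpecStalk_closedPoint φ
    have hgU : ∀ v, g v ∈ U := fun v =>
      ((IsLocalRing.specializes_closedPoint (R := A) (v : PrimeSpectrum A)).map g.continuous).mem_open U.isOpen
        (by rw [SetLike.mem_coe, hg]; exact hyU)
    let gU : Spec (CommRingCat.of A) ⟶ U := IsOpenImmersion.lift U.ι g
      (by rw [Scheme.Opens.range_ι]; rintro _ ⟨v, rfl⟩; exact hgU v)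
    have hagen : Spec.map sub ≫ g = ι₀ ≫ f := by
      rw [← Category.assoc, ← Spec.map_comp, hφ, hχspec]
    have hr : Set.range ι₀ ⊆ Set.range (f ⁻¹ᵁ U).ι := by
      rw [Scheme.Opens.range_ι]
      rintro _ ⟨t, rfl⟩
      show f (ι₀ t) ∈ U
      rw [← Scheme.Hom.comp_apply, ← hagen, Scheme.Hom.comp_apply]
      exact hgU _
    obtain ⟨e, he, he'⟩ := Proj16.exists_fractionRing_spec A
    haveI := hU
    obtain ⟨l, hl, hla⟩ := Proj16.dvrExistence_of_universallyClosed (f ∣_ U) A
      (e ≫ IsOpenImmersion.lift (f ⁻¹ᵁ U).ι ι₀ hr) gU (by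
        rw [← cancel_mono U.ι]
        simp only [gU, Category.assoc, morphismRestrict_ι, IsOpenImmersion.lift_fac, IsOpenImmersion.lift_fac_assoc]
        rw [← hagen, reassoc_of% he'])
    let m := l ≫ (f ⁻¹ᵁ U).ι
    have hm : Spec.map sub ≫ m = ι₀ := by
      haveI := he
      rw [← cancel_epi e, reassoc_of% he']
      show Spec.map (CommRingCat.ofHom (algebraMap A (FractionRing A))) ≫ l ≫ _ = _
      rw [← Category.assoc, hla, Category.assoc, IsOpenImmersion.lift_fac]
    have hmf : m ≫ f = g := by
      rw [Category.assoc, ← morphismRestrict_ι, reassoc_of% hl, IsOpenImmersion.lift_fac]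
    let x := m (IsLocalRing.closedPoint A : PrimeSpectrum A)
    obtain ⟨ψ, hψl, hψ⟩ := ProperAt5.exists_stalkHom m (x := x) rfl
    have hψK : ψ ≫ sub = X.presheaf.stalkSpecializes (genericPoint_specializes x) := by
      apply Spec.map_injective
      rw [← cancel_mono (X.fromSpecStalk x), Spec.map_comp, Category.assoc, hψ, hm,
        Scheme.SpecMap_stalkSpecializes_fromSpecStalk]
    have hval : ∀ r, X.presheaf.stalkSpecializes (genericPoint_specializes x) r = (ψ.hom r : X.functionField) :=
      fun r => (congrArg (fun q => q.hom r) hψK).symm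
    refine ⟨x, ?_, fun r => ?_, fun r hr => ?_⟩
    · show f (m (IsLocalRing.closedPoint A : PrimeSpectrum A)) = y
      rw [← Scheme.Hom.comp_apply, hmf, hg]
    · rw [hval]; exact (A.valuation_le_one_iff _).2 (ψ.hom r).2
    · rw [hval]
      refine (A.valuation_lt_one_iff (ψ.hom r)).1 ((IsLocalRing.mem_maximalIdeal _).2 fun hu => ?_)
      exact (IsLocalRing.mem_maximalIdeal r).1 hr (hψl.map_nonunit r hu)
  · intro H
    refine ProperAt5.exists_isProper_restrict_gen f y fun ξ hξm D _ _ _ g hg σ hσξ hσ => ?_
    obtain rfl : genericPoint X = ξ := hξm _ (genericPoint_specializes ξ)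
    let L := FractionRing D
    let i := algebraMap D L
    have hi : Function.Injective i := IsFractionRing.injective D L
    obtain ⟨ψ, -, hψ⟩ := ProperAt5.exists_stalkHom σ (hσξ (IsLocalRing.closedPoint L : PrimeSpectrum L))
    obtain ⟨φ, hφl, hφ⟩ := ProperAt5.exists_stalkHom g hg
    have hcomm : χ ≫ ψ = φ ≫ CommRingCat.ofHom i := by
      apply Spec.map_injective
      rw [← cancel_mono (Y.fromSpecStalk y), Spec.map_comp χ ψ, Spec.map_comp φ, Category.assoc, Category.assoc, hχspec,
        hφ, ← Category.assoc, hψ, hσ]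
    have hcomm' : ∀ r, ψ.hom (χ.hom r) = i (φ.hom r) := fun r => congrArg (fun q => q.hom r) hcomm
    obtain ⟨A, e, he, hel, hA', hor⟩ := ProperAt5.exists_trace (K := X.functionField) (L := L) (D := D) ψ.hom
    have hχA : ∀ r, χ.hom r ∈ A := fun r => hA' _ ⟨φ.hom r, (hcomm' r).symm⟩
    have heφ : ∀ r, e ⟨χ.hom r, hχA r⟩ = φ.hom r := fun r => hi ((he _).trans (hcomm' r))
    have key : ∀ (x : X), f x = y → ∀ θ : X.presheaf.stalk x ⟶ CommRingCat.of D, IsLocalHom θ.hom →
        (∀ r, i (θ.hom r) = ψ.hom (X.presheaf.stalkSpecializes (genericPoint_specializes x) r)) →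
        ∃ s : Spec (CommRingCat.of D) ⟶ X, s ≫ f = g ∧ Spec.map (CommRingCat.ofHom i) ≫ s = σ := by
      intro x hx θ hθl hθ
      refine ⟨Spec.map θ ≫ X.fromSpecStalk x, ?_, ?_⟩
      · refine ProperAt5.eq_of_generic i hi _ g (x := y) ?_ hg ?_
        · rw [Scheme.Hom.comp_apply, ProperAt5.spec_fromSpecStalk_closedPoint θ, hx]
        · rw [← Category.assoc, ← Category.assoc, ← Spec.map_comp, show θ ≫ CommRingCat.ofHom i =
            X.presheaf.stalkSpecializes (genericPoint_specializes x) ≫ ψ from CommRingCat.hom_ext (RingHom.ext hθ),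
            Spec.map_comp, Category.assoc, Category.assoc, Scheme.SpecMap_stalkSpecializes_fromSpecStalk_assoc,
            ← Category.assoc, hψ, hσ]
      · rw [← Category.assoc, ← Spec.map_comp, show θ ≫ CommRingCat.ofHom i =
            X.presheaf.stalkSpecializes (genericPoint_specializes x) ≫ ψ from CommRingCat.hom_ext (RingHom.ext hθ),
            Spec.map_comp, Category.assoc, Scheme.SpecMap_stalkSpecializes_fromSpecStalk, hψ]
    rcases hor with hdvr | htop
    · obtain ⟨x, hx, hle, hlt⟩ := H A hdvr (fun r => (A.valuation_le_one_iff _).2 (hχA r)) (fun r hr => by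
        refine (A.valuation_lt_one_iff ⟨χ.hom r, hχA r⟩).1 ((IsLocalRing.mem_maximalIdeal _).2 fun hu => ?_)
        exact (IsLocalRing.mem_maximalIdeal r).1 hr (hφl.map_nonunit r (heφ r ▸ hu.map e)))
      let θ₀ : X.presheaf.stalk x →+* A :=
        (X.presheaf.stalkSpecializes (genericPoint_specializes x)).hom.codRestrict A.toSubring
          fun r => (A.valuation_le_one_iff _).1 (hle r)
      refine key x hx (CommRingCat.ofHom (e.comp θ₀)) ⟨fun r hr => ?_⟩ fun r => he (θ₀ r)
      by_contra hnu
      exact (IsLocalRing.mem_maximalIdeal _).1 ((A.valuation_lt_one_iff (θ₀ r)).2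
        (hlt r ((IsLocalRing.mem_maximalIdeal r).2 hnu))) (hel.map_nonunit _ hr)
    · -- the valuation is trivial on the function field
      let θ₀ : X.functionField →+* A := (RingHom.id X.functionField).codRestrict A.toSubring htop
      have hfy : f (genericPoint X) = y := by
        have hq : Spec.map χ (IsLocalRing.closedPoint X.functionField : PrimeSpectrum X.functionField) =
            IsLocalRing.closedPoint (Y.presheaf.stalk y) := by
          refine PrimeSpectrum.ext ((IsLocalRing.maximalIdeal.isMaximal _).eq_of_le ?_ fun r hr => ?_).symm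
          · exact Ideal.IsPrime.ne_top inferInstance
          · show χ.hom r ∈ IsLocalRing.maximalIdeal X.functionField
            refine (IsLocalRing.mem_maximalIdeal _).2 fun hu => (IsLocalRing.mem_maximalIdeal r).1 hr ?_
            exact hφl.map_nonunit r (heφ r ▸ (hu.map θ₀).map e)
        have h := congrArg (Y.fromSpecStalk y) hq
        rw [← Scheme.Hom.comp_apply, hχspec, Scheme.Hom.comp_apply] at h
        erw [Scheme.fromSpecStalk_closedPoint, Scheme.fromSpecStalk_closedPoint] at h
        exact h
      refine key (genericPoint X) hfy (CommRingCat.ofHom (e.comp θ₀)) ⟨fun r hr => ?_⟩ fun r => ?_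
      · have h0 : IsUnit (θ₀ r) := hel.map_nonunit _ hr
        exact h0.map A.subtype
      · rw [show X.presheaf.stalkSpecializes (genericPoint_specializes (genericPoint X)) = 𝟙 _ from
          TopCat.Presheaf.stalkSpecializes_refl (F := X.presheaf) (genericPoint X)]
        exact he (θ₀ r)

end Groth.Agent.S3434
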