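import Groth.Statements.S3435
import Groth.Agent.EGA41Lib.ExalInf
import Mathlib.LinearAlgebra.TensorProduct.RightExactness

set_option autoImplicit false
universe u
open EGA41

namespace Groth.Agent.S3435

open TensorProduct in
/-- Let Λ → A → B → C be ring homomorphisms. The homomorphism Ω_{B/Λ} ⊗_B C → Ω_{B/A} ⊗_B C maps the
imperfection module Υ_{C/B/Λ} (the kernel of Ω_{B/Λ} ⊗_B C → Ω_{C/Λ}) onto the imperfection module
Υ_{C/B/A} (the kernel of Ω_{B/A} ⊗_B C → Ω_{C/A}): every element of Υ_{C/B/A} is the image of some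
element of Υ_{C/B/Λ}. -/
theorem result (Λ A B C : Type u) [CommRing Λ] [CommRing A] [CommRing B] [CommRing C]
    [Algebra Λ A] [Algebra Λ B] [Algebra Λ C] [Algebra A B] [Algebra A C] [Algebra B C]
    [IsScalarTower Λ A B] [IsScalarTower Λ A C] [IsScalarTower Λ B C] [IsScalarTower A B C] :
    ∀ ω ∈ EGA41.imperfection A B C, ∃ η ∈ EGA41.imperfection Λ B C,
      (KaehlerDifferential.map Λ A B B).baseChange C η = ω := by
  intro ω hω
  have hω' : KaehlerDifferential.mapBaseChange A B C ω = 0 := hω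
  obtain ⟨η₀, hη₀⟩ := LinearMap.lTensor_surjective C (KaehlerDifferential.map_surjective Λ A B) ω
  let g : C ⊗[A] Ω[A⁄Λ] →ₗ[C] C ⊗[B] Ω[B⁄Λ] := LinearMap.liftBaseChange C
    (((TensorProduct.mk B C Ω[B⁄Λ] 1).restrictScalars A).comp (KaehlerDifferential.map Λ Λ A B))
  have ext' : ∀ {R S T M : Type u} [CommRing R] [CommRing S] [CommRing T] [Algebra R S] [Algebra S T]
      [AddCommGroup M] [Module T M] (f g : T ⊗[S] Ω[S⁄R] →ₗ[T] M),
      (∀ s, f (1 ⊗ₜ KaehlerDifferential.D R S s) = g (1 ⊗ₜ KaehlerDifferential.D R S s)) → f = g :=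
    fun f g h => EGA41Lib.ExalX.tensorKaehler_ext h
  have hg : ∀ a, g ((1 : C) ⊗ₜ KaehlerDifferential.D Λ A a) =
      (1 : C) ⊗ₜ[B] KaehlerDifferential.D Λ B (algebraMap A B a) := fun a => by
    simp [g, KaehlerDifferential.map_D]
  have h1 : (KaehlerDifferential.map Λ A C C).comp (KaehlerDifferential.mapBaseChange Λ B C) =
      (KaehlerDifferential.mapBaseChange A B C).comp ((KaehlerDifferential.map Λ A B B).baseChange C) :=
    ext' _ _ fun b => by simp [KaehlerDifferential.map_D]
  have h2 : (KaehlerDifferential.mapBaseChange Λ B C).comp g = KaehlerDifferential.mapBaseChange Λ A C :=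
    ext' _ _ fun a => by
      rw [LinearMap.comp_apply, hg]
      simp [KaehlerDifferential.map_D, ← IsScalarTower.algebraMap_apply]
  have h3 : ((KaehlerDifferential.map Λ A B B).baseChange C).comp g = 0 :=
    ext' _ _ fun a => by
      rw [LinearMap.comp_apply, hg]
      simp [KaehlerDifferential.map_D]
  have hmem : KaehlerDifferential.map Λ A C C (KaehlerDifferential.mapBaseChange Λ B C η₀) = 0 := by
    have := LinearMap.congr_fun h1 η₀
    rw [LinearMap.comp_apply, LinearMap.comp_apply] at this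
    rw [this]
    erw [hη₀]
    exact hω'
  obtain ⟨w, hw⟩ := (KaehlerDifferential.exact_mapBaseChange_map Λ A C _).mp hmem
  refine ⟨η₀ - g w, ?_, ?_⟩
  · show KaehlerDifferential.mapBaseChange Λ B C (η₀ - g w) = 0
    rw [map_sub, ← hw, show KaehlerDifferential.mapBaseChange Λ B C (g w) = _ from LinearMap.congr_fun h2 w, sub_self]
  · rw [map_sub, show (KaehlerDifferential.map Λ A B B).baseChange C (g w) = 0 from LinearMap.congr_fun h3 w, sub_zero]
    exact hη₀

end Groth.Agent.S3435
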