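import Groth.Statements.S3439
import Groth.Agent.EGA41Lib.ConsX
import Mathlib.AlgebraicGeometry.Morphisms.QuasiSeparated

set_option autoImplicit false
open CategoryTheory AlgebraicGeometry
universe u
open EGA41

namespace Groth.Agent.S3439

/-- Let X be a quasi-compact scheme, E an ind-constructible subset of X and (F_i) a family of
pro-constructible subsets of X whose intersection is contained in E. Then there is a finite set J of
indices such that the intersection of the F_i for i in J is already contained in E. (Taking E = ∅: a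
family of pro-constructible subsets with empty intersection has a finite subfamily with empty
intersection.) -/
theorem result (X : Scheme.{u}) [CompactSpace X] (E : Set X)
    (hE : ProCons.IsIndConstructible E) {ι : Type u} (F : ι → Set X) (hF : ∀ i, ProCons.IsProConstructible (F i))
    (h : ⋂ i, F i ⊆ E) :
    ∃ J : Finset ι, ⋂ i ∈ J, F i ⊆ E := by
  let 𝒰 := X.affineCover.finiteSubcover
  by_contra hne
  push Not at hne
  have hex : ∀ J : Finset ι, ∃ x, x ∈ (⋂ i ∈ J, F i) ∧ x ∉ E := fun J => Set.not_subset.mp (hne J)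
  have hU : ∀ a, IsAffineOpen (𝒰.f a).opensRange := fun a => isAffineOpen_opensRange _
  -- some chart meets every finite intersection outside `E`
  obtain ⟨a, ha⟩ : ∃ a, ∀ J : Finset ι, ∃ x ∈ (𝒰.f a).opensRange, x ∈ (⋂ i ∈ J, F i) ∧ x ∉ E := by
    by_contra hcon
    push Not at hcon
    choose J hJ using hcon
    classical
    haveI := Fintype.ofFinite 𝒰.I₀
    obtain ⟨x, hx, hxE⟩ := hex (Finset.univ.biUnion J)
    obtain ⟨a, y, rfl⟩ := 𝒰.exists_eq x
    refine hxE (hJ a _ ⟨y, rfl⟩ ?_)
    simp only [Set.mem_iInter] at hx ⊢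
    exact fun i hi => hx i (Finset.mem_biUnion.mpr ⟨a, Finset.mem_univ _, hi⟩)
  haveI := EGA41Lib.spectralSpace_affine (hU a)
  let G : Finset ι → Set ((𝒰.f a).opensRange : Set X) := fun J =>
    (Subtype.val ⁻¹' Eᶜ) ∩ ⋂ i ∈ J, Subtype.val ⁻¹' F i
  obtain ⟨z, hz⟩ := SpecLib.CC.nonempty_iInter G
    (fun J J' => by
      classical
      exact ⟨J ∪ J', fun z hz => ⟨hz.1, Set.mem_iInter₂.mpr fun i hi => Set.mem_iInter₂.mp hz.2 i (Finset.mem_union_left _ hi)⟩,
        fun z hz => ⟨hz.1, Set.mem_iInter₂.mpr fun i hi => Set.mem_iInter₂.mp hz.2 i (Finset.mem_union_right _ hi)⟩⟩)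
    (fun J => by
      obtain ⟨x, hxU, hx, hxE⟩ := ha J
      refine ⟨⟨x, hxU⟩, hxE, ?_⟩
      simp only [Set.mem_iInter, Set.mem_preimage] at hx ⊢
      exact hx)
    (fun J => (EGA41Lib.pro_iff.mp (EGA41Lib.ind_iff_compl.mp hE) _ (hU a)).inter
      (SpecLib.CC.iInter fun i => SpecLib.CC.iInter fun _ => EGA41Lib.pro_iff.mp (hF i) _ (hU a)))
  rw [Set.mem_iInter] at hz
  refine (hz ∅).1 (h (Set.mem_iInter.mpr fun i => ?_))
  exact Set.mem_iInter₂.mp (hz {i}).2 i (Finset.mem_singleton_self i)

end Groth.Agent.S3439
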