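import Groth.Statements.S3440
import Groth.Agent.S2599
import Groth.Agent.S0386
import Groth.Agent.Triage.CMMor
import Groth.Agent.DimFormula.Criteria
import Mathlib.AlgebraicGeometry.Morphisms.UniversallyOpen
-- import your own Groth.Agent.* helpers here

set_option autoImplicit false
open CategoryTheory AlgebraicGeometry
universe u
open EGA43

namespace Groth.Agent.S3440

open Groth.Agent
set_option backward.isDefEq.respectTransparency false
set_option backward.isDefEq.respectTransparency.types false

/-- Let Y be locally Noetherian, f : X ⟶ Y locally of finite type, x a point of X and y = f x; suppose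
O_{Y,y} is regular and O_{X,x} is Cohen–Macaulay. The following are equivalent: a) O_{Y,y} ⟶ O_{X,x}
is flat and the local ring of X_y at x is Cohen–Macaulay; b) O_{Y,y} ⟶ O_{X,x} is flat; c) the
restriction of f to some open neighbourhood of x is universally open; d) f is open at the generic
point of every irreducible component of X_y through x; e') dim O_{X,x} = dim O_{Y,y} + dim
O_{X_y,x}. -/
theorem result {X Y : Scheme.{u}} [IsLocallyNoetherian Y] (f : X ⟶ Y)
    [LocallyOfFiniteType f] (x : X) (hreg : IsRegularLocalRing (Y.presheaf.stalk (f.base x)))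
    (hCM : LocCoh.IsCohenMacaulayLocalRing (X.presheaf.stalk x)) :
    List.TFAE [
      (f.stalkMap x).hom.Flat ∧ LocCoh.IsCohenMacaulayLocalRing ((f.fiber (f.base x)).presheaf.stalk (f.asFiber x)),
      (f.stalkMap x).hom.Flat,
      ∃ U : X.Opens, x ∈ U ∧ UniversallyOpen (U.ι ≫ f),
      (∀ z : ↥(f.fiber (f.base x)), f.asFiber x ∈ closure {z} →
          (∀ z' : ↥(f.fiber (f.base x)), z ∈ closure {z'} → z' = z) →
          EGA43.IsOpenAt f.base ((f.fiberι (f.base x)).base z)),
      ringKrullDim (X.presheaf.stalk x) =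
        ringKrullDim (Y.presheaf.stalk (f.base x)) + ringKrullDim ((f.fiber (f.base x)).presheaf.stalk (f.asFiber x)) ] := by
  haveI := LocallyOfFiniteType.isLocallyNoetherian f
  haveI := hreg
  letI := (f.stalkMap x).hom.toAlgebra
  haveI : IsLocalHom (algebraMap (Y.presheaf.stalk (f.base x)) (X.presheaf.stalk x)) :=
    inferInstanceAs (IsLocalHom (f.stalkMap x).hom)
  tfae_have 1 → 2 := fun h => h.1
  tfae_have 2 → 1 := fun h => by
    haveI : Module.Flat (Y.presheaf.stalk (f.base x)) (X.presheaf.stalk x) := h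
    exact ⟨h, Triage.CMMor.isCM_of_equiv (Triage.CMMor.exists_equiv_fibre_stalk f x).some
      ((Triage.CMMor.isCM_iff (Y.presheaf.stalk (f.base x)) (X.presheaf.stalk x)).1 hCM).2⟩
  tfae_have 2 → 3 := fun h => by
    haveI : LocallyOfFinitePresentation f := inferInstance
    let W : X.Opens := ⟨_, Groth.Agent.S0386.result f⟩
    haveI : Flat (W.ι ≫ f) := Flat.of_stalkMap _ fun w => by
      erw [Scheme.Hom.stalkMap_comp, CommRingCat.hom_comp]
      exact RingHom.Flat.comp w.2 (Flat.stalkMap W.ι w)
    exact ⟨W, h, inferInstance⟩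
  tfae_have 3 → 4 := fun ⟨U, hxU, hU⟩ z hz _ => by
    haveI := hU
    have hsp : (f.fiberι (f.base x)).base z ⤳ x := by
      have h2 := (specializes_iff_mem_closure.2 hz).map (f.fiberι (f.base x)).continuous
      rwa [Scheme.Hom.fiberι_asFiber] at h2
    have hzU : (f.fiberι (f.base x)).base z ∈ U := hsp.mem_open U.isOpen hxU
    intro N hN
    obtain ⟨O, hON, hO, hzO⟩ := mem_nhds_iff.1 hN
    have himg : IsOpen ((U.ι ≫ f).base '' (U.ι.base ⁻¹' O)) :=
      (U.ι ≫ f).isOpenMap _ (hO.preimage U.ι.continuous)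
    refine Filter.mem_of_superset (himg.mem_nhds ⟨⟨_, hzU⟩, hzO, rfl⟩) ?_
    rintro _ ⟨w, hw, rfl⟩
    exact ⟨U.ι w, hON hw, rfl⟩
  tfae_have 4 → 5 := fun h => by
    rw [DimFormula.formula_iff]
    refine le_antisymm (DimFormula.codim_le_add f x) ?_
    obtain ⟨z, hz, hfz, hm, hle, -⟩ := DimFormula.codim_add_fb_le f x
    obtain ⟨w, rfl⟩ : z ∈ Set.range (f.fiberι (f x)) := by rw [Scheme.Hom.range_fiberι]; exact hfz
    have hop : EGA43.IsOpenAt f.base ((f.fiberι (f x)).base w) := by
      refine h w (specializes_iff_mem_closure.1 ?_) fun w' hw' => ?_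
      · rw [← FibDim.fiberι_specializes_iff, Scheme.Hom.fiberι_asFiber]; exact hz
      · exact (FibDim.fibMax_fiberι_iff' f w).1 hm w' hw'
    have h2 := DimFormula.codim_le_of_isOpenAt f hm hop
    rw [hfz] at h2
    omega
  tfae_have 5 → 2 := fun h => by
    have hfib := ringKrullDim_eq_of_ringEquiv (Triage.CMMor.exists_equiv_fibre_stalk f x).some
    refine Groth.Agent.S2599.result (Y.presheaf.stalk (f.base x)) (X.presheaf.stalk x) (X.presheaf.stalk x)
      hCM.supportDim_eq_depth ?_
    have heq : (EGA4.mB (Y.presheaf.stalk (f.base x)) (X.presheaf.stalk x) • ⊤ : Submodule (X.presheaf.stalk x) (X.presheaf.stalk x))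
        = EGA4.mB (Y.presheaf.stalk (f.base x)) (X.presheaf.stalk x) := by
      rw [Ideal.smul_eq_mul, Ideal.mul_top]
    rw [Module.supportDim_self_eq_ringKrullDim, h,
      Module.supportDim_eq_of_equiv (Submodule.quotEquivOfEq _ _ heq),
      Module.supportDim_quotient_eq_ringKrullDim]
    congr 1
    exact hfib.symm
  tfae_finish

end Groth.Agent.S3440
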