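import Groth.Statements.S3441
import Groth.Agent.FSRelLib.Twist
import Mathlib

set_option autoImplicit false
universe u
open EGA41

namespace Groth.Agent.S3441

open TensorProduct in
/-- Let A → B → C be ring homomorphisms. The canonical C-linear map Ω_{B/A} ⊗_B C → Ω_{C/A} is left
invertible (has a C-linear left inverse) if and only if C is a formally smooth B-algebra relative to
A for the discrete topologies: every B-algebra homomorphism from C to a quotient C'/J of a B-algebra
C' by an ideal J of square zero that lifts to C' as an A-algebra homomorphism also lifts to C' as a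
B-algebra homomorphism. (The published definition of relative formal smoothness tests every
nilpotent ideal J; its reduction to ideals of square zero does not carry over to the relative
setting, and the square-zero form, which is what the published proof of this statement uses, is the
one taken here.) -/
theorem result (A B C : Type u) [CommRing A] [CommRing B]
    [CommRing C] [Algebra A B] [Algebra B C] [Algebra A C] [IsScalarTower A B C] :
    (∃ l : Ω[C⁄A] →ₗ[C] C ⊗[B] Ω[B⁄A], l ∘ₗ KaehlerDifferential.mapBaseChange A B C = LinearMap.id) ↔
      EGA41.IsFormallySmoothRel A B C := by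
  constructor
  · rintro ⟨l, hl⟩ C' _ _ _ _ J hJ u₀ ⟨u, hu⟩
    letI : Module C J := Module.compHom J u.toRingHom
    have hsmul : ∀ (c : C) (x : J), ((c • x : J) : C') = u c * (x : C') := fun c x => rfl
    have hz : ∀ x y : C', x ∈ J → y ∈ J → x * y = 0 := fun x y hx hy => by
      have : x * y ∈ J ^ 2 := by rw [sq]; exact Ideal.mul_mem_mul hx hy
      rwa [hJ, Ideal.mem_bot] at this
    have hdiff : ∀ b : B, algebraMap B C' b - u (algebraMap B C b) ∈ J := fun b => by
      rw [← Ideal.Quotient.eq]
      have h1 := congrArg (fun φ : C →ₐ[A] C' ⧸ J => φ (algebraMap B C b)) hu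
      simp only [AlgHom.comp_apply, Ideal.Quotient.mkₐ_eq_mk, AlgHom.restrictScalars_apply] at h1
      rw [h1, u₀.commutes]
      rfl
    have hsm : ∀ (b : B) (x : J), ((b • x : J) : C') = algebraMap B C' b * (x : C') := fun b x => by
      rw [Submodule.coe_smul_of_tower, Algebra.smul_def]
    haveI : IsScalarTower B C J := ⟨fun b c x => Subtype.ext (by
      rw [hsmul, hsm, hsmul, Algebra.smul_def, map_mul, ← mul_assoc, ← sub_eq_zero, ← sub_mul]
      refine hz _ _ ?_ x.2
      rw [← sub_mul]
      refine J.mul_mem_right _ ?_
      rw [← neg_sub]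
      exact J.neg_mem (hdiff b))⟩
    let dlin : B →ₗ[A] J :=
      { toFun := fun b => ⟨algebraMap B C' b - u (algebraMap B C b), hdiff b⟩
        map_add' := fun b c => Subtype.ext (by simp [sub_add_sub_comm])
        map_smul' := fun a b => Subtype.ext (by
          simp only [RingHom.id_apply, Submodule.coe_smul_of_tower]
          rw [Algebra.smul_def, Algebra.smul_def, map_mul, map_mul, map_mul, ← IsScalarTower.algebraMap_apply,
            ← IsScalarTower.algebraMap_apply, u.commutes, mul_sub]) }
    let d : Derivation A B J := Derivation.mk' dlin (fun b c => Subtype.ext (by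
      rw [Submodule.coe_add, hsm, hsm]
      show algebraMap B C' (b * c) - u (algebraMap B C (b * c)) =
        algebraMap B C' b * (algebraMap B C' c - u (algebraMap B C c)) +
          algebraMap B C' c * (algebraMap B C' b - u (algebraMap B C b))
      have := hz _ _ (hdiff b) (hdiff c)
      simp only [map_mul]
      linear_combination -this))
    let g : C ⊗[B] Ω[B⁄A] →ₗ[C] J := d.liftKaehlerDifferential.liftBaseChange C
    let δ : C → J := fun c => g (l (KaehlerDifferential.D A C c))
    let v : C →ₐ[B] C' :=
      { toFun := fun c => u c + (δ c : C')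
        map_one' := by simp [δ]
        map_mul' := fun c e => by
          simp only [δ, map_mul, Derivation.leibniz, map_add, map_smul, Submodule.coe_add, hsmul]
          have := hz _ _ (g (l (KaehlerDifferential.D A C c))).2 (g (l (KaehlerDifferential.D A C e))).2
          linear_combination -this
        map_zero' := by simp [δ]
        map_add' := fun c e => by simp only [δ, map_add, Submodule.coe_add]; ring
        commutes' := fun b => by
          have h2 : l (KaehlerDifferential.D A C (algebraMap B C b)) = (1 : C) ⊗ₜ KaehlerDifferential.D A B b := by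
            have := LinearMap.congr_fun hl ((1 : C) ⊗ₜ KaehlerDifferential.D A B b)
            rwa [LinearMap.comp_apply, KaehlerDifferential.mapBaseChange_tmul, one_smul,
              KaehlerDifferential.map_D, LinearMap.id_apply] at this
          show u (algebraMap B C b) + (g (l (KaehlerDifferential.D A C (algebraMap B C b))) : C') = algebraMap B C' b
          rw [h2]
          simp only [g, LinearMap.liftBaseChange_tmul, one_smul, Derivation.liftKaehlerDifferential_comp_D]
          show u (algebraMap B C b) + (algebraMap B C' b - u (algebraMap B C b)) = algebraMap B C' b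
          ring }
    refine ⟨v, AlgHom.ext fun c => ?_⟩
    have h1 := congrArg (fun φ : C →ₐ[A] C' ⧸ J => φ c) hu
    simp only [AlgHom.comp_apply, Ideal.Quotient.mkₐ_eq_mk, AlgHom.restrictScalars_apply] at h1
    rw [AlgHom.comp_apply, Ideal.Quotient.mkₐ_eq_mk]
    show Ideal.Quotient.mk J (u c + (δ c : C')) = u₀ c
    rw [map_add, Ideal.Quotient.eq_zero_iff_mem.mpr (δ c).2, add_zero, h1]
  · intro h
    haveI : IsScalarTower A B C := ‹_›
    let τ := Groth.Agent.FSRelLib.Twist.toBase A B C
    let J : Ideal (Groth.Agent.FSRelLib.Twist A B C) := RingHom.ker τ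
    have hJmem : ∀ x, x ∈ J ↔ τ x = 0 := fun x => RingHom.mem_ker
    let u₀ : C →ₐ[B] Groth.Agent.FSRelLib.Twist A B C ⧸ J :=
      { (Ideal.Quotient.mk J).comp (Groth.Agent.FSRelLib.Twist.inl A B C) with
        commutes' := fun b => by
          show Ideal.Quotient.mk J (Groth.Agent.FSRelLib.Twist.inl A B C (algebraMap B C b)) =
            Ideal.Quotient.mk J (algebraMap B _ b)
          rw [Ideal.Quotient.eq, hJmem, map_sub, Groth.Agent.FSRelLib.Twist.toBase_inl,
            Groth.Agent.FSRelLib.Twist.toBase_algebraMap, sub_self] }
    let w : C →ₐ[A] Groth.Agent.FSRelLib.Twist A B C :=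
      { Groth.Agent.FSRelLib.Twist.inl A B C with
        commutes' := fun a => by
          show Groth.Agent.FSRelLib.Twist.inl A B C (algebraMap A C a) = algebraMap A _ a
          rw [IsScalarTower.algebraMap_apply A B (Groth.Agent.FSRelLib.Twist A B C)]
          refine Groth.Agent.FSRelLib.Twist.ext ?_ ?_
          · rw [Groth.Agent.FSRelLib.Twist.toBase_inl, Groth.Agent.FSRelLib.Twist.toBase_algebraMap,
              ← IsScalarTower.algebraMap_apply]
          · rw [Groth.Agent.FSRelLib.Twist.snd_inl, Groth.Agent.FSRelLib.Twist.snd_algebraMap,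
              Derivation.map_algebraMap, TensorProduct.tmul_zero] }
    obtain ⟨v, hv⟩ := h _ J Groth.Agent.FSRelLib.Twist.ker_sq u₀ ⟨w, AlgHom.ext fun c => rfl⟩
    have hfst : ∀ c, τ (v c) = c := fun c => by
      have h1 : Ideal.Quotient.mk J (v c) = Ideal.Quotient.mk J (Groth.Agent.FSRelLib.Twist.inl A B C c) :=
        DFunLike.congr_fun hv c
      rw [Ideal.Quotient.eq, hJmem, map_sub, sub_eq_zero] at h1
      exact h1
    have hb : ∀ b : B, (v (algebraMap B C b)).snd = (1 : C) ⊗ₜ KaehlerDifferential.D A B b := fun b => by
      rw [v.commutes, Groth.Agent.FSRelLib.Twist.snd_algebraMap]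
    let δlin : C →ₗ[A] C ⊗[B] Ω[B⁄A] :=
      { toFun := fun c => (v c).snd
        map_add' := fun c e => by rw [map_add, Groth.Agent.FSRelLib.Twist.snd_add]
        map_smul' := fun a c => by
          simp only [RingHom.id_apply]
          rw [Algebra.smul_def, map_mul, IsScalarTower.algebraMap_apply A B C, Groth.Agent.FSRelLib.Twist.snd_mul,
            hfst, hfst, hb, Derivation.map_algebraMap, TensorProduct.tmul_zero, smul_zero, add_zero,
            ← IsScalarTower.algebraMap_apply, algebraMap_smul] }
    let δ : Derivation A C (C ⊗[B] Ω[B⁄A]) := Derivation.mk' δlin (fun c e => by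
      show (v (c * e)).snd = c • (v e).snd + e • (v c).snd
      rw [map_mul, Groth.Agent.FSRelLib.Twist.snd_mul, hfst, hfst])
    refine ⟨δ.liftKaehlerDifferential, ?_⟩
    refine TensorProduct.AlgebraTensorModule.ext fun c ω => ?_
    rw [LinearMap.comp_apply, LinearMap.id_apply, KaehlerDifferential.mapBaseChange_tmul, map_smul]
    rw [show c ⊗ₜ[B] ω = c • ((1 : C) ⊗ₜ[B] ω) by rw [TensorProduct.smul_tmul', smul_eq_mul, mul_one]]
    congr 1
    have hspan : ω ∈ Submodule.span B (Set.range (KaehlerDifferential.D A B)) := by
      rw [KaehlerDifferential.span_range_derivation]; trivial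
    induction hspan using Submodule.span_induction with
    | mem x hx =>
      obtain ⟨b, rfl⟩ := hx
      rw [KaehlerDifferential.map_D, Derivation.liftKaehlerDifferential_comp_D]
      exact hb b
    | zero => simp
    | add x y _ _ hx hy => rw [map_add, map_add, hx, hy, TensorProduct.tmul_add]
    | smul r x _ hx =>
      rw [map_smul, LinearMap.map_smul_of_tower, hx, TensorProduct.tmul_smul]

end Groth.Agent.S3441
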