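import Groth.Statements.S3445
import Groth.Agent.ConsPropLib.PointwiseProps

set_option autoImplicit false
open CategoryTheory AlgebraicGeometry
universe u
open EGA43

namespace Groth.Agent.S3445

open CategoryTheory.Limits in
/-- Let g : Y ⟶ S and f : X ⟶ Y be such that X and Y are of finite presentation over S (locally of
finite presentation, quasi-compact and quasi-separated). For each point s of S let f_s be the
induced morphism from the fibre of f ≫ g over s to the fibre of g over s. Then the set of s for
which f_s is quasi-finite is locally constructible in S. -/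
theorem result {X Y S : Scheme.{u}} (f : X ⟶ Y) (g : Y ⟶ S)
    [LocallyOfFinitePresentation g] [QuasiCompact g] [QuasiSeparated g]
    [LocallyOfFinitePresentation (f ≫ g)] [QuasiCompact (f ≫ g)] [QuasiSeparated (f ≫ g)] :
    Topology.IsLocallyConstructible {s : S |
      LocallyQuasiFinite (pullback.lift (pullback.fst (f ≫ g) (S.fromSpecResidueField s) ≫ f) (pullback.snd (f ≫ g) (S.fromSpecResidueField s))
          ((Category.assoc _ _ _).trans pullback.condition) :
        pullback (f ≫ g) (S.fromSpecResidueField s) ⟶ pullback g (S.fromSpecResidueField s))} := by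
  have h := Groth.Agent.ConsPropLib.isLocallyConstructible_locusMor Groth.Agent.ConsPropLib.isConsMor_quasiFinite f g
  haveI : LocallyOfFiniteType f := locallyOfFiniteType_of_comp f g
  haveI : QuasiCompact f := QuasiCompact.of_comp f g
  have key : ∀ s, LocallyOfFiniteType (MoreMor.fiberMap f g s) ∧ QuasiCompact (MoreMor.fiberMap f g s) := fun s =>
    ⟨MorphismProperty.of_isPullback (Groth.Agent.ConsPropLib.isPullback_fiberMap f g s) inferInstance,
      MorphismProperty.of_isPullback (Groth.Agent.ConsPropLib.isPullback_fiberMap f g s) inferInstance⟩
  convert h using 2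
  exact Set.ext fun s => ⟨fun hs => ⟨(key s).1, (key s).2, hs⟩, fun hs => hs.2.2⟩

end Groth.Agent.S3445
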