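import Groth.Statements.S3450
import Groth.Agent.FlatDvrVC5.Family

set_option autoImplicit false
universe u
open EGA43

namespace Groth.Agent.S3450

/-- Let A be a Noetherian local ring which is reduced, complete (for the topology defined by its maximal
ideal m) and not a field. Then for every n there are finitely many local homomorphisms φ_i : A → V_i
into discrete valuation rings, each making V_i a finite A-algebra, such that the intersection of
their kernels is contained in mⁿ. (Equivalently: such finite intersections form a base of
neighbourhoods of 0 for the m-adic topology.) -/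
theorem result (A : Type u) [CommRing A] [IsNoetherianRing A]
    [IsLocalRing A] [IsReduced A] [IsAdicComplete (IsLocalRing.maximalIdeal A) A] (hA : ¬ IsField A) (n : ℕ) :
    ∃ (k : ℕ) (V : Fin k → Type u) (_ : ∀ i, CommRing (V i)) (_ : ∀ i, IsDomain (V i))
      (_ : ∀ i, IsDiscreteValuationRing (V i)) (φ : ∀ i, A →+* V i),
      (∀ i, IsLocalHom (φ i) ∧ (φ i).Finite) ∧
        ⨅ i, RingHom.ker (φ i) ≤ IsLocalRing.maximalIdeal A ^ n := by
  exact FlatDvrVC5.exists_finite_dvr_family A hA n

end Groth.Agent.S3450
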