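import Groth.Statements.S3451
import Groth.Agent.Codepth5.EquiFib

set_option autoImplicit false
open CategoryTheory AlgebraicGeometry
universe u
open EGA43

namespace Groth.Agent.S3451

/-- Let f : X ⟶ S be locally of finite presentation. The set of points x of X such that the fibre of f
through x is equidimensional at x (all irreducible components of that fibre passing through x have
the same dimension) is locally constructible in X. -/
theorem result {X S : Scheme.{u}} (f : X ⟶ S)
    [LocallyOfFinitePresentation f] :
    Topology.IsLocallyConstructible {x : X | ∃ e : ℕ,
      ∀ Z ∈ irreducibleComponents (↥(f.fiber (f.base x)) : Type u), f.asFiber x ∈ Z →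
        topologicalKrullDim (↥Z : Type u) = e} := by
    convert Groth.Agent.Codepth5.isLC_equiFib f using 1
    ext x
    exact (exists_congr fun e => Groth.Agent.Codepth5.component_iff f x e).trans
      (Groth.Agent.Codepth5.equiFib_iff f x).symm

end Groth.Agent.S3451
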