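import Groth.Statements.S3456
import Groth.Agent.FibDim.Comp

set_option autoImplicit false
open CategoryTheory AlgebraicGeometry
universe u
open EGA43

namespace Groth.Agent.S3456

/-- Let Y be locally Noetherian, f : X ⟶ Y locally of finite type and x a point of X; let X_j run over
the (finitely many) irreducible components of X containing x. Then f is equidimensional at x if and
only if there is a natural number e such that for every X_j: the closure Y_j of f(X_j) is an
irreducible component of Y; for every point η of Y whose closure equals Y_j (i.e. the generic point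
of Y_j), the fibre X_j ∩ f⁻¹(η) has topological Krull dimension e; and the local dimension at x of
X_j ∩ f⁻¹(f x) is e. All subsets of X carry the induced topology. -/
theorem result {X Y : Scheme.{u}} [IsLocallyNoetherian Y] (f : X ⟶ Y)
    [LocallyOfFiniteType f] (x : X) :
    EGA43.IsEquidimAt f x ↔
      ∃ e : ℕ, ∀ Xj ∈ irreducibleComponents (X : Type u), ∀ hx : x ∈ Xj,
        closure (f.base '' Xj) ∈ irreducibleComponents (Y : Type u) ∧
        (∀ η : Y, closure ({η} : Set Y) = closure (f.base '' Xj) →
          topologicalKrullDim ↥(Xj ∩ f.base ⁻¹' {η}) = e) ∧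
        FlatMor.localDim ↥(Xj ∩ f.base ⁻¹' {f.base x}) ⟨x, ⟨hx, Set.mem_singleton (f.base x)⟩⟩ = e := by
  haveI : IsLocallyNoetherian X := LocallyOfFiniteType.isLocallyNoetherian f
  constructor
  · intro hx
    obtain ⟨e, U, hxU, hgen, hfib⟩ := (FibDim.isEquidimAt_iff f x).1 hx
    refine ⟨e, fun Xj hXj hxj => ?_⟩
    obtain ⟨η, rfl, hη⟩ := FDescent.exists_maximal_of_mem_irreducibleComponents hXj
    have hηx : η ⤳ x := specializes_iff_mem_closure.2 hxj
    have hηU : η ∈ U := hηx.mem_open U.isOpen hxU
    have hrd : FibDim.rd f η = e := hfib η hηU (FibDim.fibMax_of_maximal f hη)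
    have hcl : closure (f.base '' closure {η}) = closure {f η} := by
      rw [closure_image_closure f.continuous, Set.image_singleton]
    refine ⟨?_, fun y hy => ?_, ?_⟩
    · rw [hcl]; exact FDescent.closure_mem_irreducibleComponents (hgen η hηU hη).1
    · have hy' : y = f η := IsGenericPoint.eq hy hcl.symm
      rw [hy']
      refine (FibDim.dim_closure_inter f η).trans ?_
      rw [hrd]; rfl
    · obtain ⟨z, hz, hzx, hfz, he, hmax⟩ := FibDim.exists_localDim_inter_eq f isClosed_closure x hxj
      refine he.trans ?_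
      obtain ⟨w, hwz, hfw, hwmax, hwe⟩ := FibDim.exists_fibMax_generization f z
      have h1 := FibDim.rd_le_fibreDimAt f (specializes_refl z) rfl
      rw [hwe] at h1
      have h2 : FibDim.rd f z ≤ FibDim.rd f w := by exact_mod_cast h1
      rw [hfib w ((hwz.trans hzx).mem_open U.isOpen hxU) hwmax] at h2
      obtain ⟨u, hηu, hux, hfu, hge⟩ := FibDim.exists_rd_ge f hηx
      have h3 := hmax u (specializes_iff_mem_closure.1 hηu) hux hfu
      rw [hrd] at hge
      rw [le_antisymm h2 (hge.trans h3)]
      rfl
  · rintro ⟨e, he⟩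
    have hcomp : ∀ η, η ⤳ x → (∀ z, z ⤳ η → z = η) →
        (∀ y, y ⤳ f η → y = f η) ∧ f η ⤳ f x ∧ FibDim.rd f η = e ∧
          ∀ z, η ⤳ z → z ⤳ x → f z = f x → FibDim.rd f z ≤ e := fun η hηx hη => by
      obtain ⟨h1, h2, h3⟩ := he _ (FDescent.closure_mem_irreducibleComponents hη)
        (specializes_iff_mem_closure.1 hηx)
      have hcl : closure (f.base '' closure {η}) = closure {f η} := by
        rw [closure_image_closure f.continuous, Set.image_singleton]
      rw [hcl] at h1 h2
      refine ⟨fun y hy => FDescent.maximal_of_closure_mem_irreducibleComponents h1 hy,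
        hηx.map f.continuous, ?_, fun z h4 h5 h6 => ?_⟩
      · have := (FibDim.dim_closure_inter f η).symm.trans (h2 (f η) rfl)
        exact_mod_cast this
      · obtain ⟨u, -, -, -, heq, hmax⟩ := FibDim.exists_localDim_inter_eq f isClosed_closure x
          (specializes_iff_mem_closure.1 hηx)
        have h7 := heq.symm.trans h3
        norm_cast at h7
        exact h7 ▸ hmax z (specializes_iff_mem_closure.1 h4) h5 h6
    have hle : FlatMor.fibreDimAt f x ≤ e := (FibDim.fibreDimAt_le_iff f x e).2 fun z hz hfz => by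
      obtain ⟨η, hηz, hη⟩ := FibDim.exists_maximal_generization z
      exact (hcomp η (hηz.trans hz) hη).2.2.2 z hηz hz hfz
    obtain ⟨U₁, hxU₁, hU₁⟩ := FibDim.exists_nhd_rd_le f x e hle
    obtain ⟨U₂, hxU₂, hU₂⟩ := FibDim.exists_nhd_generizing (X := X) isClosed_univ x
    refine (FibDim.isEquidimAt_iff f x).2 ⟨e, U₁ ⊓ U₂, ⟨hxU₁, hxU₂⟩, fun η hηU hη => ?_, fun z hzU hmax => ?_⟩
    · obtain ⟨η', -, h1, h2⟩ := hU₂ η hηU.2 trivial
      obtain ⟨h3, h4, -⟩ := hcomp η (hη η' h2 ▸ h1) hη
      exact ⟨h3, h4⟩
    · obtain ⟨η', -, h1, h2⟩ := hU₂ z hzU.2 trivial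
      obtain ⟨η, hη1, hη2⟩ := FibDim.exists_maximal_generization η'
      refine le_antisymm (hU₁ z hzU.1) ?_
      have := FibDim.fibreDimAt_ge_rd f (hη1.trans h2)
      rw [FibDim.fibreDimAt_eq_rd f hmax, (hcomp η (hη1.trans h1) hη2).2.2.1] at this
      exact_mod_cast this

end Groth.Agent.S3456
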