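import Groth.Statements.S3457
import Groth.Agent.DimFormula.Stalk

set_option autoImplicit false
open CategoryTheory AlgebraicGeometry
universe u
open EGA43

namespace Groth.Agent.S3457

/-- Let Y be locally Noetherian, f : X ⟶ Y locally of finite type, x a point of X with y = f x, and
suppose f is equidimensional at x and O_{Y,y} is universally catenary. Let e be the local dimension
at x of the fibre X_y. Then for every minimal prime 𝔭 of O_{X,x} (that is, for every irreducible
component X_j of X through x, with O_{X_j,x} = O_{X,x}/𝔭 and O_{Y_j,y} = O_{Y,y}/(𝔭 ∩ O_{Y,y})) one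
has dim(O_{X,x}/𝔭) + trdeg_{κ(y)} κ(x) = dim(O_{Y,y}/(𝔭 ∩ O_{Y,y})) + e. -/
theorem result {X Y : Scheme.{u}} [IsLocallyNoetherian Y] (f : X ⟶ Y)
    [LocallyOfFiniteType f] (x : X) (h : EGA43.IsEquidimAt f x)
    (hcat : CAlg.IsUniversallyCatenary (Y.presheaf.stalk (f.base x))) :
    letI : Algebra (Y.residueField (f.base x)) (X.residueField x) := (f.residueFieldMap x).hom.toAlgebra
    ∀ 𝔭 ∈ minimalPrimes (X.presheaf.stalk x),
      ringKrullDim (X.presheaf.stalk x ⧸ 𝔭) +
          (Cardinal.toNat (Algebra.trdeg (Y.residueField (f.base x)) (X.residueField x)) : WithBot ℕ∞) =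
        ringKrullDim (Y.presheaf.stalk (f.base x) ⧸ 𝔭.comap (f.stalkMap x).hom) + FlatMor.fibreDimAt f x := by
  intro 𝔭 h𝔭
  haveI := h𝔭.1.1
  haveI := LocallyOfFiniteType.isLocallyNoetherian f
  let a : PrimeSpectrum (X.presheaf.stalk x) := ⟨𝔭, h𝔭.1.1⟩
  have hrd : Cardinal.toNat (VarDim.rdeg f x) = FibDim.rd f x := by
    rw [← FibDim.rd_eq_rdeg, Cardinal.toNat_natCast]
  obtain ⟨-, hr⟩ := DimFormula.equidim_spec f h (DimFormula.fromSpecStalk_specializes x a)
    (DimFormula.maximal_of_minimalPrime x h𝔭)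
  have h2 := (DimFormula.cd_formula f (DimFormula.fromSpecStalk_specializes x a)).2 hcat
  show ringKrullDim (X.presheaf.stalk x ⧸ a.asIdeal) + (Cardinal.toNat (VarDim.rdeg f x) : WithBot ℕ∞) =
    ringKrullDim (Y.presheaf.stalk (f x) ⧸ (PrimeSpectrum.comap (f.stalkMap x).hom a).asIdeal) + _
  rw [hrd, DimFormula.ringKrullDim_stalk_quotient, DimFormula.ringKrullDim_stalk_quotient,
    DimFormula.fromSpecStalk_comm, DimFormula.fibreDimAt_eq_add]
  norm_cast
  omega

end Groth.Agent.S3457
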