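import Groth.Statements.S3459
import Groth.Agent.Equidim5.Trait
-- import your own Groth.Agent.* helpers here

set_option autoImplicit false
open CategoryTheory AlgebraicGeometry
universe u
open EGA43

namespace Groth.Agent.S3459

set_option backward.isDefEq.respectTransparency false
set_option backward.isDefEq.respectTransparency.types false

/-- Let Y be an irreducible locally Noetherian scheme with generic point η, f : X ⟶ Y locally of finite
type, x a point of X and y = f x. Suppose (1) x lies on exactly one irreducible component Z of the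
fibre X_y, and (2) X_y is geometrically reduced at the generic point of Z. Call an irreducible
component X' of X containing x admissible when the local dimension at x of X' ∩ f⁻¹(y) equals that
of f⁻¹(y) and the restriction of f to X' (with its reduced structure) is universally open at the
generic points of the irreducible components of X' ∩ f⁻¹(y) containing x. Then there is at most one
admissible X'; and if X' is admissible, the fibre X_η is geometrically reduced at the generic point
of X'. -/
theorem result {X Y : Scheme.{u}} [IrreducibleSpace Y]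
    [IsLocallyNoetherian Y] (f : X ⟶ Y) [LocallyOfFiniteType f] (x : X)
    (h1 : ∃! Zc : Set ↥(f.fiber (f.base x)), Zc ∈ irreducibleComponents (↥(f.fiber (f.base x)) : Type u) ∧ f.asFiber x ∈ Zc)
    (h2 : ∀ z : ↥(f.fiber (f.base x)), f.asFiber x ∈ closure {z} →
      (∀ z' : ↥(f.fiber (f.base x)), z ∈ closure {z'} → z' = z) →
      FBase.IsGeomReducedAt (f.fiberToSpecResidueField (f.base x)) z) :
    letI adm : TopologicalSpace.Closeds X → Prop := fun X' =>
      (X' : Set X) ∈ irreducibleComponents (X : Type u) ∧ ∃ hx : x ∈ X',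
        FlatMor.localDim ↥((X' : Set X) ∩ f.base ⁻¹' {f.base x}) ⟨x, ⟨hx, Set.mem_singleton (f.base x)⟩⟩ =
          FlatMor.fibreDimAt f x ∧
        ∀ w : ↥(Scheme.IdealSheafData.vanishingIdeal X').subscheme,
          f.base ((Scheme.IdealSheafData.vanishingIdeal X').subschemeι.base w) = f.base x →
          x ∈ closure {(Scheme.IdealSheafData.vanishingIdeal X').subschemeι.base w} →
          (∀ t : X, t ∈ (X' : Set X) → f.base t = f.base x →
              (Scheme.IdealSheafData.vanishingIdeal X').subschemeι.base w ∈ closure {t} →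
              t = (Scheme.IdealSheafData.vanishingIdeal X').subschemeι.base w) →
          EGA43.IsUnivOpenAt ((Scheme.IdealSheafData.vanishingIdeal X').subschemeι ≫ f) w
    {X' : TopologicalSpace.Closeds X | adm X'}.Subsingleton ∧
      ∀ X' : TopologicalSpace.Closeds X, adm X' →
        ∀ ζ : ↥(f.fiber (genericPoint Y)), closure {(f.fiberι (genericPoint Y)).base ζ} = (X' : Set X) →
          FBase.IsGeomReducedAt (f.fiberToSpecResidueField (genericPoint Y)) ζ := by
  haveI := LocallyOfFiniteType.isLocallyNoetherian f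
  obtain ⟨z, hzx, hfz, hzmax, hze⟩ := FibDim.exists_fibMax_generization f x
  have hclos : ∀ z', z' ⤳ x → f z' = f x → FibDim.FibMax f z' →
      ∃ v, (f.fiberι (f.base x)) v = z' ∧ closure {v} ∈ irreducibleComponents (↥(f.fiber (f.base x)) : Type u) ∧
        f.asFiber x ∈ closure {v} := fun z' hz' hfz' hm => by
    obtain ⟨v, rfl⟩ : z' ∈ Set.range (f.fiberι (f.base x)) := by rw [Scheme.Hom.range_fiberι]; exact hfz'
    exact ⟨v, rfl, FDescent.closure_mem_irreducibleComponents ((FibDim.fibMax_fiberι_iff f v).1 hm),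
      specializes_iff_mem_closure.1 ((f.fiberι (f.base x)).isEmbedding.isInducing.specializes_iff.1
        (by rw [Scheme.Hom.fiberι_asFiber]; exact hz'))⟩
  have huniq : ∀ z', z' ⤳ x → f z' = f x → FibDim.FibMax f z' → z' = z := fun z' hz' hfz' hm => by
    obtain ⟨v, rfl, hv⟩ := hclos z' hz' hfz' hm
    obtain ⟨v₀, rfl, hv₀⟩ := hclos z hzx hfz hzmax
    exact congrArg _ (IsGenericPoint.eq isGenericPoint_closure (h1.unique hv hv₀ ▸ isGenericPoint_closure))
  obtain ⟨v₀, hv₀, hv₀c, hv₀x⟩ := hclos z hzx hfz hzmax
  have hEz : GeomRedFlat5.E f z := by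
    have h := h2 v₀ hv₀x fun z' hz' => ((FibDim.fibMax_fiberι_iff f v₀).1 (hv₀.symm ▸ hzmax)) z'
      (specializes_iff_mem_closure.2 hz')
    have key : ∀ (y : Y) (v : ↥(f.fiber y)), f.fiberι y v = z →
        FBase.IsGeomReducedAt (f.fiberToSpecResidueField y) v → GeomRedFlat5.E f z := by
      intro y v hv hh
      have hy : y = f z := by rw [← hv, FlatDvr.fiberι_apply_eq]
      subst hy
      rwa [(f.fiberι _).isEmbedding.injective (hv.trans (f.fiberι_asFiber z).symm)] at hh
    exact key _ v₀ hv₀ h
  have main : ∀ X' : TopologicalSpace.Closeds X, ((X' : Set X) ∈ irreducibleComponents (X : Type u) ∧ ∃ hx : x ∈ X',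
        FlatMor.localDim ↥((X' : Set X) ∩ f.base ⁻¹' {f.base x}) ⟨x, ⟨hx, Set.mem_singleton (f.base x)⟩⟩ =
          FlatMor.fibreDimAt f x ∧
        ∀ w : ↥(Scheme.IdealSheafData.vanishingIdeal X').subscheme,
          f.base ((Scheme.IdealSheafData.vanishingIdeal X').subschemeι.base w) = f.base x →
          x ∈ closure {(Scheme.IdealSheafData.vanishingIdeal X').subschemeι.base w} →
          (∀ t : X, t ∈ (X' : Set X) → f.base t = f.base x →
              (Scheme.IdealSheafData.vanishingIdeal X').subschemeι.base w ∈ closure {t} →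
              t = (Scheme.IdealSheafData.vanishingIdeal X').subschemeι.base w) →
          EGA43.IsUnivOpenAt ((Scheme.IdealSheafData.vanishingIdeal X').subschemeι ≫ f) w) →
      ∃ U : X.Opens, z ∈ U ∧ (∀ v ∈ U, GeomRedFlat5.E f v) ∧ z ∈ (X' : Set X) ∧
        ∀ η, η ⤳ z → (∀ v, v ⤳ η → v = η) → η ∈ (X' : Set X) := by
    rintro X' ⟨-, hx, hdim, hw⟩
    let i := (Scheme.IdealSheafData.vanishingIdeal X').subschemeι
    have hr : Set.range i = (X' : Set X) := by
      rw [Scheme.IdealSheafData.range_subschemeι, Scheme.IdealSheafData.coe_support_vanishingIdeal]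
    obtain ⟨z', hz'X, hz'x, hfz', hd, -⟩ := FibDim.exists_localDim_inter_eq f X'.isClosed x hx
    have hzX : z ∈ (X' : Set X) := by
      obtain ⟨u, hu, hfu, humax, -⟩ := FibDim.exists_fibMax_generization f z'
      have huz := huniq u (hu.trans hz'x) (hfu.trans hfz') humax
      subst huz
      by_cases hne : u = z'
      · exact hne ▸ hz'X
      · have hlt := FibDim.rd_lt f hu hne hfu
        have hd' := hd.symm.trans (hdim.trans hze)
        exact absurd (by exact_mod_cast hd' : FibDim.rd f z' = FibDim.rd f u) hlt.ne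
    obtain ⟨w, hwz⟩ : z ∈ Set.range i := hr.symm ▸ hzX
    have hop : EGA43.IsUnivOpenAt (i ≫ f) w := by
      refine hw w ?_ ?_ fun t _ hft hwt => ?_
      · show f (i w) = f x
        rw [hwz, hfz]
      · show x ∈ closure {i w}
        rw [hwz]; exact specializes_iff_mem_closure.1 hzx
      · show t = i w
        change i w ∈ closure {t} at hwt
        rw [hwz] at hwt ⊢
        exact hzmax t (specializes_iff_mem_closure.2 hwt) (hft.trans hfz.symm)
    have hopen : ∀ v : ↥(f.fiber (f.base z)), f.asFiber z ∈ closure {v} →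
        (∀ v' : ↥(f.fiber (f.base z)), v ∈ closure {v'} → v' = v) →
        EGA43.IsUnivOpenAt f ((f.fiberι (f.base z)).base v) := fun v hv _ => by
      have h' := (specializes_iff_mem_closure.2 hv).map (f.fiberι (f.base z)).continuous
      rw [Scheme.Hom.fiberι_asFiber] at h'
      rw [hzmax _ h' (FlatDvr.fiberι_apply_eq f v), ← hwz]
      exact QHomeo.univOpenAt_of_comp hop
    obtain ⟨U, hzU, hUo, hUE⟩ := GeomRedFlat5.exists_univOpen_nhd f z hopen hEz
    exact ⟨U, hzU, hUE, hzX, fun η hη hηmax => hr ▸
      Equidim5.mem_range_of_univOpenAt f i U hUE hzU hzmax w hwz hop hη hηmax⟩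

  refine ⟨?_, ?_⟩
  · intro A hA B hB
    obtain ⟨_, _, _, hzA, -⟩ := main A hA
    obtain ⟨_, _, _, _, hB'⟩ := main B hB
    obtain ⟨η, hη, hηmax⟩ := FDescent.exists_maximal_of_mem_irreducibleComponents hA.1
    have hηB : η ∈ (B : Set X) := hB' η (specializes_iff_mem_closure.2 (hη.symm ▸ hzA)) hηmax
    have hle : (A : Set X) ⊆ B := hη.symm ▸ B.isClosed.closure_subset_iff.2 (Set.singleton_subset_iff.2 hηB)
    exact SetLike.coe_injective (Set.Subset.antisymm hle (hA.1.2 hB.1.1 hle))
  · intro X' hX' ζ hζ
    obtain ⟨U, hzU, hUE, hzX, -⟩ := main X' hX'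
    refine Equidim5.geomReducedAt_of_eq f ζ (hUE _ ?_)
    exact (specializes_iff_mem_closure.2 (show z ∈ closure {(f.fiberι (genericPoint Y)) ζ} from hζ.symm ▸ hzX)).mem_open
      U.isOpen hzU

end Groth.Agent.S3459
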