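import Groth.Statements.S3460
import Mathlib

set_option autoImplicit false
open CategoryTheory AlgebraicGeometry
universe u
open EGA43

namespace Groth.Agent.S3460

/-- Let Y be locally Noetherian and f : X ⟶ Y of finite type. Then there exist a scheme Z, a proper
morphism g : X ⟶ Z and an immersion h : Z ⟶ Y with f = g ≫ h if and only if f is proper at every
point of f(X), i.e. every point of f(X) has an open neighbourhood U in Y over which the restriction
of f is proper. -/
theorem result {X Y : Scheme.{u}} [IsLocallyNoetherian Y]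
    (f : X ⟶ Y) [LocallyOfFiniteType f] [QuasiCompact f] :
    (∃ (Z : Scheme.{u}) (g : X ⟶ Z) (h : Z ⟶ Y), IsProper g ∧ IsImmersion h ∧ g ≫ h = f) ↔
      ∀ x : X, ∃ U : Y.Opens, f.base x ∈ U ∧ IsProper (f ∣_ U) := by
  constructor
  · rintro ⟨Z, g, h, hg, hh, rfl⟩ x
    refine ⟨h.coborderRange, ?_, ?_⟩
    · show h (g x) ∈ h.coborderRange
      have e1 : h (g x) = h.coborderRange.ι (h.liftCoborder (g x)) := by
        rw [← Scheme.Hom.comp_apply h.liftCoborder, h.liftCoborder_ι]
      rw [e1]
      exact (h.liftCoborder (g x)).2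
    · have htop : (g ≫ h) ⁻¹ᵁ h.coborderRange = ⊤ := top_le_iff.1 fun z _ => by
        show h (g z) ∈ h.coborderRange
        have e1 : h (g z) = h.coborderRange.ι (h.liftCoborder (g z)) := by
          rw [← Scheme.Hom.comp_apply h.liftCoborder, h.liftCoborder_ι]
        rw [e1]
        exact (h.liftCoborder (g z)).2
      have e : (g ≫ h) ∣_ h.coborderRange = ((g ≫ h) ⁻¹ᵁ h.coborderRange).ι ≫ g ≫ h.liftCoborder := by
        rw [← cancel_mono h.coborderRange.ι, morphismRestrict_ι, Category.assoc, Category.assoc, h.liftCoborder_ι]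
      haveI : IsIso ((g ≫ h) ⁻¹ᵁ h.coborderRange).ι := by rw [htop]; exact (Scheme.topIso X).isIso_hom
      rw [e]
      infer_instance
  · intro h
    choose U hU hP using h
    let W : Y.Opens := iSup U
    have hfW : Set.range f ⊆ Set.range W.ι := by
      rintro _ ⟨x, rfl⟩
      rw [Scheme.Opens.range_ι]
      exact TopologicalSpace.Opens.mem_iSup.2 ⟨x, hU x⟩
    have hWp : IsProper (f ∣_ W) := by
      refine (IsZariskiLocalAtTarget.iff_of_iSup_eq_top (P := @IsProper) (fun x => W.ι ⁻¹ᵁ U x) ?_).2 fun x => ?_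
      · rw [← Scheme.Hom.preimage_iSup]
        exact top_le_iff.1 fun w _ => w.2
      · refine (MorphismProperty.arrow_mk_iso_iff @IsProper
          (morphismRestrictRestrict f W (W.ι ⁻¹ᵁ U x) ≪≫ morphismRestrictEq f ?_)).2 (hP x)
        rw [Scheme.Hom.image_preimage_eq_opensRange_inf, Scheme.Opens.opensRange_ι]
        exact inf_eq_right.2 (le_iSup U x)
    refine ⟨W, IsOpenImmersion.lift W.ι f hfW, W.ι, ?_, inferInstance, IsOpenImmersion.lift_fac _ _ _⟩
    have htop : f ⁻¹ᵁ W = ⊤ := top_le_iff.1 fun z _ => by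
      show f z ∈ W
      exact (Set.ext_iff.1 (Scheme.Opens.range_ι W) (f z)).1 (hfW ⟨z, rfl⟩)
    haveI : IsIso (f ⁻¹ᵁ W).ι := by rw [htop]; exact (Scheme.topIso X).isIso_hom
    have e : IsOpenImmersion.lift W.ι f hfW = inv (f ⁻¹ᵁ W).ι ≫ (f ∣_ W) := by
      rw [IsIso.eq_inv_comp, ← cancel_mono W.ι, Category.assoc, IsOpenImmersion.lift_fac, morphismRestrict_ι]
    rw [e]
    infer_instance

end Groth.Agent.S3460
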