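import Groth.Statements.S3469
import Groth.Agent.UBC.Main
import Groth.Agent.BcBridge.Single
-- import your own Groth.Agent.* helpers here

set_option autoImplicit false
universe u
open CategoryTheory CategoryTheory.Limits AlgebraicGeometry Opposite
attribute [local instance] HasDerivedCategory.standard
open EtBC

namespace Groth.Agent.S3469

open Groth.Agent

set_option backward.isDefEq.respectTransparency.types false

/-- Let X' = X ×_Y Y' be a cartesian square of schemes with projections f' : X' → Y' and g' : X' → X,
where f : X → Y is quasi-compact and quasi-separated and g : Y' → Y is universally locally n-acyclic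
for the set of primes L, and let F be an abelian L-torsion sheaf on X. Then the base change map in
degree n + 1, g⁻¹ R^{n+1} f_* F → R^{n+1} f'_* g'⁻¹ F, is a monomorphism (stated on the (n+1)-st
cohomology sheaf of the derived base change morphism). (Only the published statement's assertion for
abelian sheaves is stated here.) -/
theorem result {X Y X' Y' : Scheme.{u}} (f : X ⟶ Y) (g : Y' ⟶ Y)
    (f' : X' ⟶ Y') (g' : X' ⟶ X) (h : IsPullback g' f' f g) [QuasiCompact f] [QuasiSeparated f]
    (L : Set ℕ) (n : ℕ) (hg : EtAcyc.IsULocAcyclicN g L n)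
    [PreservesFiniteLimits (EtCoh.pull g)] [PreservesFiniteLimits (EtCoh.pull g')]
    [DCoh.HasRpushEt X f] [DCoh.HasRpushEt X' f'] [DCoh.HasRpushEt Y' g]
    (adj : EtBC.pullD g ⊣ DCoh.RpushEt Y' g) (F : EtCoh.Ab X) (hF : EtAcyc.IsLTorsion L F) :
    Mono ((DerivedCategory.homologyFunctor (EtCoh.Ab Y') ((n : ℤ) + 1)).map
      (EtBC.bcMap f g f' g' h.w adj (EtBC.single X F))) := (BcBridge.mono_homology_bcMap_iff f g f' g' h.w F adj (n + 1)).2 (UBC.bcQ_of_uLocAcyclic h hg F hF).2

end Groth.Agent.S3469
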