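import Groth.Statements.S3473
import Groth.Agent.EtFound.Detect
import Groth.Agent.EtFound.PointFun
-- import your own Groth.Agent.* helpers here

set_option autoImplicit false
universe u
open CategoryTheory CategoryTheory.Limits AlgebraicGeometry Opposite
open EtAcyc

namespace Groth.Agent.S3473

/-- Let g : X → Y be a morphism of schemes. If g is surjective then g is (-1)-acyclic (for every etale V
→ Y and every sheaf of sets F on V, F → g'_* g'^* F is a monomorphism, g' the projection X ×_Y V →
V); conversely, if g is quasi-compact, quasi-separated and (-1)-acyclic then g is surjective. -/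
theorem result {X Y : Scheme.{u}} (g : X ⟶ Y) :
    (Function.Surjective g.base → EtAcyc.IsMinusOneAcyclic g) ∧
      (∀ [QuasiCompact g] [QuasiSeparated g], EtAcyc.IsMinusOneAcyclic g → Function.Surjective g.base) := by
  refine ⟨fun hs V F => ?_, fun {_ _} H y => ?_⟩
  · haveI : Surjective g := ⟨hs⟩
    haveI := EtFound.pullback_faithful (A := Type (u + 1)) (EtAcyc.prj g V)
    exact Adjunction.unit_mono_of_L_faithful (EtDesc.adjSh (EtAcyc.prj g V)) F
  by_contra hy
  obtain ⟨O, hyO, hO⟩ := EtFound.exists_open_closure_avoiding g (y := y) (by simpa [Set.mem_range] using hy)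
  let V : Y.Etale := Scheme.Etale.mk O.ι
  let f := EtAcyc.prj g V
  let C : Set V.left := O.ι.base ⁻¹' closure {y}
  have hC : IsClosed C := isClosed_closure.preimage O.ι.continuous
  let G := EtFound.pointFun C
  have := H V G
  have hout : ∀ x, f.base x ∉ C := by
    intro x hx
    have e : O.ι.base (f.base x) = g.base ((pullback.snd V.hom g).base x) :=
      ((Scheme.Hom.comp_apply _ _ _).symm.trans
        (congrArg (fun a : pullback V.hom g ⟶ Y => a.base x) pullback.condition)).trans
        (Scheme.Hom.comp_apply _ _ _)
    have hmem : O.ι.base (f.base x) ∈ O := (f.base x).2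
    exact hO _ (e ▸ hmem) (e ▸ hx)
  have hsub : ∀ (W : (pullback V.hom g).Etale)
      (a b : ToType (((EtDesc.pullSh f).obj G).obj.obj (op W))), a = b := by
    intro W a b
    refine EtFound.eq_of_cover ((EtDesc.pullSh f).obj G) a b
      (EtFound.equalizerSieve_mem_of_germs _ W a b fun k _ _ ξ u => ?_)
    obtain ⟨hu⟩ := EtFound.nonempty_unique_stalk hC G (fun U hU => EtFound.nonempty_unique_pointFun C hU) (ξ ≫ f)
      (fun h => hout (ξ.base default) (Set.mem_of_eq_of_mem (Scheme.Hom.comp_apply _ _ _).symm h))
    have hb := (CategoryTheory.isIso_iff_bijective _).1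
      (inferInstance : IsIso ((EtFound.sheafFiberPullIso (A := Type (u + 1)) f ξ).hom.app G))
    exact hb.1 ((hu.eq_default _).trans (hu.eq_default _).symm)
  let η := (EtDesc.adjSh f).unit.app G
  have hη : Mono η := this
  have : Mono η.hom := (sheafToPresheaf _ _).map_mono η
  have hinj : Function.Injective (η.hom.app (op (EtCoh.top V.left))) :=
    (CategoryTheory.mono_iff_injective _).1 inferInstance
  let s : ToType (G.obj.obj (op (EtCoh.top V.left))) := fun _ => ULift.up true
  let t : ToType (G.obj.obj (op (EtCoh.top V.left))) := fun _ => ULift.up false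
  have hst : s = t := hinj (hsub _ _ _)
  have := congrArg ULift.down (congrFun hst ⟨⟨y, hyO⟩, subset_closure rfl⟩)
  exact Bool.noConfusion this

end Groth.Agent.S3473
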