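import Groth.Statements.S3481
import Groth.Agent.GenAcyc.Main
-- import your own Groth.Agent.* helpers here

set_option autoImplicit false
universe u
open CategoryTheory CategoryTheory.Limits AlgebraicGeometry Opposite
open EtAcyc

namespace Groth.Agent.S3481

/-- Abelian case: let Y be a normal integral scheme whose generic point y₁ has separably closed residue
field, f : X → Y a morphism locally n-acyclic for the set of primes L, X₁ = X ×_Y Spec κ(y₁) the
generic fibre with projection g₁ : X₁ → X, and F a locally constant abelian L-torsion sheaf on the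
small étale site of X. Then H^q(X, F) → H^q(X₁, g₁⁻¹F) is bijective for q ≤ n and injective for q =
n + 1. (The published text says bijective for q = n; bijectivity holds for every q ≤ n, which is
what is stated. Exactness of the inverse image along g₁ is carried as an instance hypothesis.) -/
theorem result {X Y : Scheme.{u}} [IsIntegral Y]
    (hY : Pi1.IsNormalScheme Y) [IsSepClosed (Y.residueField (genericPoint Y))]
    (f : X ⟶ Y) (L : Set ℕ) (n : ℕ) (hf : EtAcyc.IsLocAcyclicN f L n)
    (F : EtCoh.Ab X) (hF : EtAcyc.IsLTorsion L F) (hlc : EtRest.IsLocallyConstant F)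
    [PreservesFiniteLimits (EtCoh.pull (pullback.fst f (Y.fromSpecResidueField (genericPoint Y))))] :
    (∀ q : ℕ, q ≤ n →
      Function.Bijective (EtCore.Hpull (pullback.fst f (Y.fromSpecResidueField (genericPoint Y))) F q)) ∧
    Function.Injective (EtCore.Hpull (pullback.fst f (Y.fromSpecResidueField (genericPoint Y))) F (n + 1)) := by
  by_cases hL : ∃ ℓ ∈ L, ℓ.Prime
  · exact GenAcyc.Hpull_genericFibre hY f L hL n hf F hF hlc
  · have hZ := GenAcyc.isZero_of_no_prime L F hF hL
    let g := pullback.fst f (Y.fromSpecResidueField (genericPoint Y))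
    have : (EtCoh.pull g).PreservesZeroMorphisms :=
      haveI := (EtCoh.pullPushAdj g).leftAdjoint_preservesColimits
      Functor.preservesZeroMorphisms_of_preserves_initial_object
    have h1 : ∀ q, Subsingleton (EtCoh.H X F q) := fun q =>
      AddCommGrpCat.subsingleton_of_isZero ((EtCoh.HF X q).map_isZero hZ)
    have h2 : ∀ q, Subsingleton (EtCoh.H _ ((EtCoh.pull g).obj F) q) := fun q =>
      AddCommGrpCat.subsingleton_of_isZero ((EtCoh.HF _ q).map_isZero ((EtCoh.pull g).map_isZero hZ))
    exact ⟨fun q _ => ⟨fun z z' _ => (h1 q).elim z z', fun z => ⟨0, (h2 q).elim _ z⟩⟩, fun z z' _ => (h1 _).elim z z'⟩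

end Groth.Agent.S3481
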