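import Groth.Statements.S3482
import Groth.Agent.GalCd13.TrdegPrimary

set_option autoImplicit false
universe u
open CategoryTheory CategoryTheory.Limits AlgebraicGeometry Opposite
open EtCd

namespace Groth.Agent.S3482

/-- Let k'/k be a finitely generated field extension of transcendence degree t and ℓ a prime. Then
cd_ℓ(k') ≤ cd_ℓ(k) + t: if the etale cohomology of every ℓ-primary torsion sheaf on Spec k vanishes
above degree d, the same holds on Spec k' above degree d + t. -/
theorem result (k k' : Type u) [Field k] [Field k'] [Algebra k k']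
    (hfg : ∃ s : Finset k', IntermediateField.adjoin k (s : Set k') = ⊤) (ℓ : ℕ) (hℓ : ℓ.Prime)
    (t : ℕ) (ht : Algebra.trdeg k k' = t) (d : ℕ) (hd : Dix.CohDimLEAt (Spec (CommRingCat.of k)) ℓ d) :
    Dix.CohDimLEAt (Spec (CommRingCat.of k')) ℓ (d + t) := by
  exact GalCd13.cohDimLEAt_of_killedVanish hℓ
    (GalCd13.killedVanish_of_trdeg hℓ.pos t k k' d (GalCd13.killedVanish_of_cohDimLEAt hd) ht.le)

end Groth.Agent.S3482
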