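import Groth.Statements.S3485
import Groth.Agent.RigFEt7.Main
-- import your own Groth.Agent.* helpers here

set_option autoImplicit false
universe u
open CategoryTheory CategoryTheory.Limits AlgebraicGeometry Opposite
open EtCd

namespace Groth.Agent.S3485

/-- Let R be a henselian discrete valuation ring with fraction field K, let R^ be its completion (adic
completion at the maximal ideal) and K^ the fraction field of R^. Then base change along Spec K^ →
Spec K is an equivalence from the category of finite etale schemes over Spec K to that over Spec K^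
(equivalently the absolute Galois groups agree). -/
theorem result (R K Khat : Type u) [CommRing R] [IsDomain R]
    [IsDiscreteValuationRing R] [HenselianLocalRing R] [Field K] [Algebra R K] [IsFractionRing R K]
    [Field Khat] [Algebra (AdicCompletion (IsLocalRing.maximalIdeal R) R) Khat]
    [IsFractionRing (AdicCompletion (IsLocalRing.maximalIdeal R) R) Khat]
    [Algebra R Khat] [IsScalarTower R (AdicCompletion (IsLocalRing.maximalIdeal R) R) Khat]
    [Algebra K Khat] [IsScalarTower R K Khat] :
    (FEt.restrict (Spec.map (CommRingCat.ofHom (algebraMap K Khat)))).IsEquivalence := by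
  let I := IsLocalRing.maximalIdeal R
  obtain ⟨t, ht⟩ := IsDiscreteValuationRing.exists_irreducible R
  have hI : I = Ideal.span {t} := ht.maximalIdeal_eq
  let Ah := AdicCompletion I R
  have hfg : I.FG := IsNoetherian.noetherian _
  have hIt : I.map (algebraMap R Ah) = Ideal.span {algebraMap R Ah t} :=
    (congrArg (Ideal.map (algebraMap R Ah)) hI).trans (by rw [Ideal.map_span, Set.image_singleton])
  haveI : IsAdicComplete (Ideal.span {algebraMap R Ah t}) Ah := hIt ▸ AdicCompletion.isAdicComplete_self I hfg
  haveI : HenselianRing R (Ideal.span {t}) := hI ▸ inferInstance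
  have hpow : ∀ n : ℕ, I ^ n = Ideal.span {t ^ n} := fun n => by rw [hI, Ideal.span_singleton_pow]
  have hR : RigFEt7.RigidPair R Ah t := by
    refine ⟨inferInstance, inferInstance, fun n a ha => ?_, fun n z => ?_⟩
    · obtain ⟨w, hw⟩ := Ideal.mem_span_singleton'.1 ha
      have h1 := congrArg (AdicCompletion.evalₐ I n) hw
      rw [map_mul, map_pow, Rig7.eval_algebraMap, Rig7.eval_algebraMap, ← map_pow,
        Ideal.Quotient.eq_zero_iff_mem.2 (by rw [hpow]; exact Ideal.mem_span_singleton_self _), mul_zero] at h1
      rw [← hpow]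
      exact Ideal.Quotient.eq_zero_iff_mem.1 h1.symm
    · obtain ⟨a, ha⟩ := Ideal.Quotient.mk_surjective (AdicCompletion.evalₐ I n z)
      refine ⟨a, ?_⟩
      rw [← map_pow, ← Set.image_singleton, ← Ideal.map_span, ← hpow]
      exact Rig7.mem_map_pow_of_eval_eq_zero _ hfg n (by rw [map_sub, Rig7.eval_algebraMap, ha, sub_self])
  haveI : IsLocalization.Away t K := by
    refine IsLocalization.Away.mk t (IsUnit.mk0 _ fun h => ht.ne_zero (IsFractionRing.injective R K (h.trans (map_zero _).symm)))
      (fun z => ?_) fun a b hab => ⟨0, by rw [IsFractionRing.injective R K hab]⟩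
    obtain ⟨a, b, hb, rfl⟩ := IsFractionRing.div_surjective R z
    have hb0 : b ≠ 0 := nonZeroDivisors.ne_zero hb
    obtain ⟨n, u, rfl⟩ := IsDiscreteValuationRing.eq_unit_mul_pow_irreducible hb0 ht
    refine ⟨n, a * ((u⁻¹ : Rˣ) : R), ?_⟩
    have h1 : algebraMap R K (↑u * t ^ n) ≠ 0 := fun h => hb0 (IsFractionRing.injective R K (h.trans (map_zero _).symm))
    rw [div_mul_eq_mul_div, div_eq_iff h1, ← map_pow, ← map_mul, ← map_mul]
    congr 1
    calc a * t ^ n = a * t ^ n * (((u⁻¹ : Rˣ) : R) * (u : R)) := by rw [Units.inv_mul, mul_one]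
      _ = _ := by ring
  haveI : IsLocalization.Away (algebraMap R Ah t) Khat := by
    let th := algebraMap R Ah t
    have hinj := IsFractionRing.injective Ah Khat
    have hmax : IsLocalRing.maximalIdeal Ah = Ideal.span {th} :=
      (AdicCompletion.maximalIdeal_eq_map_of_fg hfg).trans hIt
    have hne : algebraMap Ah Khat th ≠ 0 := fun h => by
      have h0 : th = 0 := hinj (h.trans (map_zero _).symm)
      have h2 := hR.inj 2 t (by rw [show algebraMap R Ah t = 0 from h0]; exact Submodule.zero_mem _)
      obtain ⟨c, hc⟩ := Ideal.mem_span_singleton'.1 h2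
      exact ht.not_isUnit (IsUnit.of_mul_eq_one c (mul_left_cancel₀ ht.ne_zero (by
        rw [mul_one]; linear_combination hc)))
    have hdec : ∀ z : Ah, z ≠ 0 → ∃ (n : ℕ) (w : Ah), IsUnit w ∧ z = th ^ n * w := by
      intro z hz
      classical
      have hex : ∃ n, z ∉ Ideal.span {th ^ n} := by
        by_contra hall
        push Not at hall
        refine hz (IsHausdorff.haus (inferInstance : IsHausdorff (Ideal.span {th}) Ah) z fun n => ?_)
        rw [SModEq.zero, smul_eq_mul, Ideal.mul_top, Ideal.span_singleton_pow]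
        exact hall n
      obtain ⟨m, hm⟩ : ∃ m, Nat.find hex = m + 1 := by
        refine Nat.exists_eq_succ_of_ne_zero fun h0 => ?_
        have := Nat.find_spec hex
        rw [h0, pow_zero, Ideal.span_singleton_one] at this
        exact this Submodule.mem_top
      have hm' : z ∈ Ideal.span {th ^ m} := not_not.1 (Nat.find_min hex (by omega))
      obtain ⟨w, rfl⟩ := Ideal.mem_span_singleton'.1 hm'
      refine ⟨m, w, ?_, mul_comm _ _⟩
      by_contra hw
      have hw' : w ∈ Ideal.span {th} := hmax ▸ (IsLocalRing.mem_maximalIdeal w).2 hw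
      obtain ⟨v, rfl⟩ := Ideal.mem_span_singleton'.1 hw'
      refine Nat.find_spec hex (Ideal.mem_span_singleton'.2 ⟨v, ?_⟩)
      rw [hm, pow_succ]
      ring
    refine IsLocalization.Away.mk th (IsUnit.mk0 _ hne) (fun z => ?_) fun a b hab => ⟨0, by rw [hinj hab]⟩
    obtain ⟨a, b, hb, rfl⟩ := IsFractionRing.div_surjective Ah z
    have hb0 : b ≠ 0 := fun h => by
      subst h
      have h1 := hb.1 1 (by rw [zero_mul])
      exact one_ne_zero ((map_one (algebraMap Ah Khat)).symm.trans ((congrArg _ h1).trans (map_zero _)))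
    obtain ⟨n, w, hw, rfl⟩ := hdec b hb0
    obtain ⟨u, rfl⟩ := hw
    refine ⟨n, a * ((u⁻¹ : Ahˣ) : Ah), ?_⟩
    have h1 : algebraMap Ah Khat (th ^ n * (u : Ah)) ≠ 0 := fun h => hb0 (hinj (h.trans (map_zero _).symm))
    rw [div_mul_eq_mul_div, div_eq_iff h1, ← map_pow, ← map_mul, ← map_mul]
    congr 1
    calc a * th ^ n = a * th ^ n * (((u⁻¹ : Ahˣ) : Ah) * (u : Ah)) := by rw [Units.inv_mul, mul_one]
      _ = _ := by ring
  exact hR.restrict_isEquivalence (K' := Khat) K

end Groth.Agent.S3485
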