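import Groth.Statements.S3492
import Groth.Agent.CdFin.DimFnUse
-- import your own Groth.Agent.* helpers here

set_option autoImplicit false
universe u
open CategoryTheory CategoryTheory.Limits AlgebraicGeometry Opposite
open EtCd

namespace Groth.Agent.S3492

/-- Let X be a Noetherian scheme, ℓ a prime and n a natural number such that (i) for every point y of
codimension c (dimension of the local ring) one has 2c ≤ n and cd_ℓ(κ(y)) ≤ n - 2c, and (ii) for all
points x, y with y in the closure of x and every strict henselization R of the local ring at y,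
putting A = R / p_x R (a strict localization of the closure of x with its reduced structure),
cd_ℓ(Frac(R/P)) ≤ dim A for every prime P of R minimal over p_x R. Then for every ℓ-primary torsion
abelian sheaf F whose geometric stalks vanish at all points of codimension < s, H^q(X, F) = 0 for q
> n - 2s; in particular (s = 0) cd_ℓ(X) ≤ n. -/
theorem result (X : Scheme.{u}) [IsNoetherian X] (ℓ : ℕ) (hℓ : ℓ.Prime) (n : ℕ)
    (h1 : ∀ (y : X) (c : ℕ), ringKrullDim (X.presheaf.stalk y) = c →
      2 * c ≤ n ∧ Dix.CohDimLEAt (Spec (X.residueField y)) ℓ (n - 2 * c))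
    (h2 : ∀ (x y : X) (hxy : x ⤳ y), ∀ (R : Type u) [CommRing R] [IsLocalRing R] [Algebra (X.presheaf.stalk y) R]
      [IsLocalHom (algebraMap (X.presheaf.stalk y) R)] [Hensel.IsStrictHenselization (X.presheaf.stalk y) R],
      ∀ P ∈ ((RingHom.ker (Cyc.specMap y x hxy)).map (algebraMap (X.presheaf.stalk y) R)).minimalPrimes,
        ∀ e : ℕ, ringKrullDim (R ⧸ (RingHom.ker (Cyc.specMap y x hxy)).map (algebraMap (X.presheaf.stalk y) R)) = e →
          Dix.CohDimLEAt (Spec (CommRingCat.of (FractionRing (R ⧸ P)))) ℓ e)
    (s : ℕ) (F : EtCoh.Ab X) (hF : Dix.IsPrimaryTorsion ℓ F)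
    (hs : ∀ y ∈ EtPBC.supp F, (s : WithBot ℕ∞) ≤ ringKrullDim (X.presheaf.stalk y))
    (q : ℕ) (hq : n < q + 2 * s) :
    Subsingleton (EtCoh.H X F q) :=
  by
    let c : X → ℕ := fun y => DimFormula.codim y
    have hc : ∀ y : X, ringKrullDim (X.presheaf.stalk y) = c y := fun y => DimFormula.ringKrullDim_stalk y
    have hb : ∀ y : X, 2 * c y ≤ n := fun y => (h1 y (c y) (hc y)).1
    have hlt : ∀ x y : X, x ⤳ y → x ≠ y → c x < c y := fun x y h hne => by
      have h' := FibDim.ringKrullDim_stalk_lt h hne
      rw [hc, hc] at h'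
      exact_mod_cast h'
    refine CdFin.subsingleton_H_primary hℓ (φ := fun y => n - 2 * c y)
      ⟨fun y => GalCd13.killedVanish_of_cohDimLEAt (h1 y (c y) (hc y)).2, fun x y h hne => ?_, fun x y h hne => ?_⟩
      hF q fun y hy => ?_
    · have := hlt x y h hne; have := hb y; omega
    · have hle : DimFormula.cd x y + c x ≤ c y := DimFormula.codim_mono_add h
      have := hlt x y h hne
      have := hb y
      refine ⟨c y - c x, by omega, fun R _ _ _ _ _ P hP => ?_⟩
      exact CdFin.killedVanish_mono (GalCd13.killedVanish_of_cohDimLEAt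
        (h2 x y h R P hP (DimFormula.cd x y) (CdFin.ringKrullDim_quotient_map h R))) (by omega)
    · have h' := hs y hy
      rw [hc] at h'
      have : s ≤ c y := by exact_mod_cast h'
      have := hb y
      omega

end Groth.Agent.S3492
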