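import Groth.Statements.S3497
import Groth.Agent.ArtinVan.StrictVanish
-- import your own Groth.Agent.* helpers here

set_option autoImplicit false
set_option linter.style.haveILetI false
set_option backward.isDefEq.respectTransparency false
set_option backward.isDefEq.respectTransparency.types false
universe u
open CategoryTheory CategoryTheory.Limits AlgebraicGeometry Opposite
open EtCd

namespace Groth.Agent.S3497

/-- Let Y be a scheme locally of finite type over a field k, y a point of Y, R a strict henselization of
the local ring of Y at y (so Y' = Spec R is a strict localization of an algebraic scheme), f' : X' →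
Spec R an affine morphism of finite type, and F' a torsion abelian sheaf on the small etale site of
X' such that δ(F') ≤ d, where for a point x of X' over the prime y' of R one puts δ(x) = dim(R/y') +
trdeg(κ(x)/κ(y')) and δ(F') is the supremum of δ(x) over the points x at which F' has a nonzero
geometric stalk. Then H^q(X', F') = 0 for q > d. -/
theorem result (k : Type u) [Field k] (Y : Scheme.{u})
    (g : Y ⟶ Spec (CommRingCat.of k)) [LocallyOfFiniteType g] (y : Y)
    (R : Type u) [CommRing R] [IsLocalRing R] [Algebra (Y.presheaf.stalk y) R]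
    [IsLocalHom (algebraMap (Y.presheaf.stalk y) R)] [Hensel.IsStrictHenselization (Y.presheaf.stalk y) R]
    (X' : Scheme.{u}) (f' : X' ⟶ Spec (CommRingCat.of R)) [IsAffineHom f'] [LocallyOfFiniteType f']
    (F : EtCoh.Ab X') (hF : EtCoh.IsTorsion F) (d : ℕ)
    (hδ : ∀ x ∈ EtPBC.supp F, ∃ a b : ℕ,
      ringKrullDim (R ⧸ (f'.base x).asIdeal) = a ∧
      (letI := (f'.residueFieldMap x).hom.toAlgebra
       Algebra.trdeg ((Spec (CommRingCat.of R)).residueField (f'.base x)) (X'.residueField x)) = b ∧ a + b ≤ d)
    (q : ℕ) (hq : d < q) : Subsingleton (EtCoh.H X' F q) := by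
  haveI : IsSepClosed (IsLocalRing.ResidueField R) :=
    (Hensel.IsStrictHenselization.isSepClosure (R := Y.presheaf.stalk y) (S := R)).sep_closed
  haveI : IsAffine X' := isAffine_of_isAffineHom f'
  let C := Γ(X', ⊤)
  let φ : CommRingCat.of R ⟶ C := Spec.preimage (X'.isoSpec.inv ≫ f')
  have hφ : Spec.map φ = X'.isoSpec.inv ≫ f' := Spec.map_preimage _
  letI : Algebra R C := φ.hom.toAlgebra
  haveI : LocallyOfFiniteType (Spec.map φ) := by rw [hφ]; infer_instance
  haveI : Algebra.FiniteType R C :=
    RingHom.finiteType_algebraMap.1 ((HasRingHomProperty.Spec_iff (P := @LocallyOfFiniteType)).1 ‹_›)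
  let e : Spec (CommRingCat.of C) ⟶ X' := X'.isoSpec.inv
  refine ArtinVan.subsingleton_H_of_isIso e F q (ArtinVan.subsingleton_H_strict g y R C _
    (ArtinVan.isTorsion_pull' e hF) (fun x hx => ?_) hq)
  obtain ⟨a, b, ha, hb, hab⟩ := hδ (e x) (ArtinVan.mem_supp_of_pull e F hx)
  have he : e ≫ f' = Spec.map (CommRingCat.ofHom (algebraMap R C)) := hφ.symm
  refine ⟨a, b, ?_, ?_, hab⟩
  · rw [← he, Scheme.Hom.comp_apply]
    exact ha
  · rw [← VarDim.rdeg_congr he, VarDim.rdeg_comp, VarDim.rdeg_preimmersion e x, add_zero]
    exact hb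

end Groth.Agent.S3497
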