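import Groth.Statements.S3498
import Groth.Agent.S3497
-- import your own Groth.Agent.* helpers here

set_option autoImplicit false
set_option linter.style.haveILetI false
set_option backward.isDefEq.respectTransparency false
set_option backward.isDefEq.respectTransparency.types false
universe u
open CategoryTheory CategoryTheory.Limits AlgebraicGeometry Opposite
open EtCd

namespace Groth.Agent.S3498

/-- Let Y be a scheme locally of finite type over a field k, y a point of Y, R a strict henselization of
the local ring of Y at y with dim R ≤ d, and U an affine open subscheme of Spec R. Then cd(U) ≤ d: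
the etale cohomology of every torsion abelian sheaf on U vanishes above degree d. -/
theorem result (k : Type u) [Field k] (Y : Scheme.{u})
    (g : Y ⟶ Spec (CommRingCat.of k)) [LocallyOfFiniteType g] (y : Y)
    (R : Type u) [CommRing R] [IsLocalRing R] [Algebra (Y.presheaf.stalk y) R]
    [IsLocalHom (algebraMap (Y.presheaf.stalk y) R)] [Hensel.IsStrictHenselization (Y.presheaf.stalk y) R]
    (d : ℕ) (hd : ringKrullDim R ≤ d) (U : (Spec (CommRingCat.of R)).Opens) (hU : IsAffineOpen U) :
    EtCoh.CohDimLE (U : Scheme.{u}) d := by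
  haveI : IsLocallyNoetherian Y := LocallyOfFiniteType.isLocallyNoetherian g
  haveI : IsNoetherianRing R := (S0540.result (Y.presheaf.stalk y) R).1 inferInstance
  haveI : IsAffine (U : Scheme.{u}) := hU
  haveI : IsAffineHom U.ι := inferInstance
  haveI : LocallyOfFiniteType U.ι := inferInstance
  intro F hF q hq
  refine S3497.result k Y g y R (U : Scheme.{u}) U.ι F hF d (fun x _ => ?_) q hq
  let I := (U.ι.base x).asIdeal
  haveI : Nontrivial (R ⧸ I) := Ideal.Quotient.nontrivial_iff.2 (U.ι.base x).isPrime.ne_top
  have h1 : ringKrullDim (R ⧸ I) ≤ d := (ringKrullDim_quotient_le I).trans hd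
  obtain ⟨a, ha⟩ : ∃ a : ℕ, ringKrullDim (R ⧸ I) = a := by
    have h0 : (0 : WithBot ℕ∞) ≤ ringKrullDim (R ⧸ I) := ringKrullDim_nonneg_of_nontrivial
    cases hI : ringKrullDim (R ⧸ I) with
    | bot => simp [hI] at h0
    | coe m =>
      rw [hI] at h1
      obtain ⟨a, rfl⟩ := ENat.ne_top_iff_exists.1
        (ne_top_of_le_ne_top (ENat.coe_ne_top d) (WithBot.coe_le_coe.1 h1))
      exact ⟨a, rfl⟩
  exact ⟨a, 0, ha, (VarDim.rdeg_preimmersion U.ι x).trans Nat.cast_zero.symm, by
    rw [ha] at h1
    exact_mod_cast h1⟩

end Groth.Agent.S3498
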