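import Groth.Statements.S3503
import Groth.Agent.EtBC.CompNDescent
-- import your own Groth.Agent.* helpers here

set_option autoImplicit false
universe u
open CategoryTheory CategoryTheory.Limits AlgebraicGeometry Opposite
attribute [local instance] HasDerivedCategory.standard
open EtBC

namespace Groth.Agent.S3503

/-- Let h : Y → X be a morphism of quasi-compact quasi-separated schemes, p : X̄ → X a surjective
morphism, Ȳ = Y ×_X X̄ with projections h̄ : Ȳ → X̄ and p_Y : Ȳ → Y, L a set of primes and n ≥ 1.
Consider, for a morphism u, the comparison condition: for every abelian L-torsion sheaf on the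
target of u, pullback along u is bijective on cohomology in degrees ≤ n and injective in degree n +
1. Suppose that h̄ satisfies this condition, and that for every abelian L-torsion sheaf F̄ on X̄ the
base change maps h⁻¹ R^i p_* F̄ → R^i p_{Y*} h̄⁻¹ F̄ are isomorphisms for i ≤ n - 1 and a
monomorphism for i = n (stated on the cohomology sheaves of the derived base change morphism). Then
h satisfies the comparison condition as well. -/
theorem result {X Y Xb Yb : Scheme.{u}}
    [CompactSpace X] [QuasiSeparatedSpace X] [CompactSpace Y] [QuasiSeparatedSpace Y]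
    (h : Y ⟶ X) (p : Xb ⟶ X) (hb : Yb ⟶ Xb) (pY : Yb ⟶ Y)
    (sq : IsPullback hb pY p h) (hp : Function.Surjective p.base) (L : Set ℕ) (n : ℕ) (hn : 1 ≤ n)
    (hhb : EtAcyc.CompN hb L n)
    [PreservesFiniteLimits (EtCoh.pull h)] [PreservesFiniteLimits (EtCoh.pull hb)]
    [DCoh.HasRpushEt Xb p] [DCoh.HasRpushEt Yb pY] [DCoh.HasRpushEt Y h]
    (adj : EtBC.pullD h ⊣ DCoh.RpushEt Y h)
    (hbc : ∀ Fb : EtCoh.Ab Xb, EtAcyc.IsLTorsion L Fb →
      (∀ i : ℤ, i ≤ (n : ℤ) - 1 → IsIso ((DerivedCategory.homologyFunctor (EtCoh.Ab Y) i).map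
        (EtBC.bcMap p h pY hb sq.w adj (EtBC.single Xb Fb)))) ∧
      Mono ((DerivedCategory.homologyFunctor (EtCoh.Ab Y) (n : ℤ)).map
        (EtBC.bcMap p h pY hb sq.w adj (EtBC.single Xb Fb)))) :
    EtAcyc.CompN h L n := by
  haveI : Surjective p := ⟨hp⟩
  intro F hF _
  exact EtBC.compN_descent h p hb pY sq.w L n hn hhb adj (fun Fb hFb => (hbc Fb hFb).1) F hF

end Groth.Agent.S3503
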