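import Groth.Statements.S3511
import Groth.Agent.AcycConst.Fwd
import Groth.Agent.AcycConst.Bwd
import Groth.Agent.S8534
import Groth.Agent.AcycCover.Local
-- import your own Groth.Agent.* helpers here

set_option autoImplicit false
universe u
open CategoryTheory CategoryTheory.Limits AlgebraicGeometry Opposite
open EtAcyc

namespace Groth.Agent.S3511

open Groth.Agent
set_option backward.isDefEq.respectTransparency.types false

/-- Let g : X → Y be quasi-compact and quasi-separated, L a set of primes containing at least one prime,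
and n a natural number. (The published statement does not ask that L contain a prime; with L empty
the equivalence fails, e.g. for the empty scheme over a field, so that hypothesis is added here.)
Then g is n-acyclic for L if and only if g is surjective and, for every locally quasi-finite
morphism (locally of finite type with discrete fibres) Y' → Y with base change g' : X' = X ×_Y Y' →
Y', every prime ℓ ∈ L and every ν ≥ 1, the pullback map H^q(Y', Z/ℓ^ν) → H^q(X', g'⁻¹(Z/ℓ^ν)) is
surjective for 0 ≤ q ≤ n. -/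
theorem result {X Y : Scheme.{u}} (g : X ⟶ Y)
    [QuasiCompact g] [QuasiSeparated g] (L : Set ℕ) (hL : ∃ ℓ ∈ L, ℓ.Prime) (n : ℕ) :
    EtAcyc.IsAcyclicN g L n ↔
      Function.Surjective g.base ∧
        ∀ (Y' : Scheme.{u}) (i : Y' ⟶ Y) [LocallyQuasiFinite i] [LocallyOfFiniteType i] (ℓ : ℕ), ℓ.Prime → ℓ ∈ L →
          ∀ (ν : ℕ), 1 ≤ ν → ∀ [PreservesFiniteLimits (EtCoh.pull (pullback.snd g i))] (q : ℕ), q ≤ n →
            Function.Surjective (EtCore.Hpull (pullback.snd g i) (EtCoh.const Y' (ZMod (ℓ ^ ν))) q) := by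
  refine ⟨fun hg => ⟨?_, ?_⟩, fun ⟨hs, H⟩ => ?_⟩
  · exact (AcycCover.surjective_of_geomFibres (S8534.result g L hL n hg)).surj
  · intro Y' i _ _ ℓ hℓ hℓL ν hν _ q hq
    refine ((AcycConst.Hpull_baseChange g i L n hg _ ?_).1 q hq).2
    intro U s x
    refine ⟨U, 𝟙 U, ℓ ^ ν, ⟨x, rfl⟩, ⟨pow_pos hℓ.pos _, fun p hp hd => ?_⟩, ?_⟩
    · rwa [(Nat.prime_dvd_prime_iff_eq hp hℓ).1 (hp.dvd_of_dvd_pow hd)]
    · rw [op_id, CategoryTheory.Functor.map_id]
      exact (EtFound.killedBy_iff_nsmul _ _).2 (CohCrit13.nsmul_const_zmod Y' (ℓ ^ ν)) U s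
  · haveI : Surjective g := ⟨hs⟩
    exact AcycConst.isAcyclicN_of_const g L n H hL

end Groth.Agent.S3511
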