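import Groth.Statements.S3515
import Groth.Agent.AcycBase.Fwd
import Groth.Agent.AcycBase.Fibres
import Groth.Agent.AcycBase.Point
import Groth.Agent.AcycBase.Adj
import Groth.Agent.BcBridge.Single
-- import your own Groth.Agent.* helpers here

set_option autoImplicit false
set_option linter.style.haveILetI false
universe u
open CategoryTheory CategoryTheory.Limits AlgebraicGeometry Opposite
attribute [local instance] HasDerivedCategory.standard
open EtAcyc

namespace Groth.Agent.S3515

open Groth.Agent

set_option backward.isDefEq.respectTransparency.types false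

/-- (i) ⇔ (iv): let g : X → Y be a morphism of schemes, L a set of primes, n a natural number. Then g is
locally n-acyclic for L (every induced morphism of strict localizations is n-acyclic for L) if and
only if: for every locally quasi-finite i : Y' → Y (locally of finite type with discrete fibres)
with base change g' : X' = X ×_Y Y' → Y', every quasi-compact open immersion i' : Y'' → Y' with base
change j' : X'' = X' ×_{Y'} Y'' → X' and g'' : X'' → Y'', and every abelian L-torsion sheaf F on
Y'', the base change maps g'⁻¹ R^q i'_* F → R^q j'_* g''⁻¹ F (cohomology sheaves of the derived base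
change morphism) are isomorphisms for q ≤ n and a monomorphism for q = n + 1. -/
theorem result {X Y : Scheme.{u}} (g : X ⟶ Y) (L : Set ℕ) (n : ℕ) :
    EtAcyc.IsLocAcyclicN g L n ↔
      ∀ (Y' : Scheme.{u}) (i : Y' ⟶ Y) [LocallyQuasiFinite i] [LocallyOfFiniteType i]
        (Y'' : Scheme.{u}) (i' : Y'' ⟶ Y') [IsOpenImmersion i'] [QuasiCompact i']
        [PreservesFiniteLimits (EtCoh.pull (pullback.snd g i))]
        [PreservesFiniteLimits (EtCoh.pull (pullback.snd (pullback.snd g i) i'))]
        [DCoh.HasRpushEt Y'' i'] [DCoh.HasRpushEt (pullback (pullback.snd g i) i') (pullback.fst (pullback.snd g i) i')]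
        [DCoh.HasRpushEt (pullback g i) (pullback.snd g i)]
        (adj : EtBC.pullD (pullback.snd g i) ⊣ DCoh.RpushEt (pullback g i) (pullback.snd g i))
        (F : EtCoh.Ab Y''), EtAcyc.IsLTorsion L F →
        (∀ q : ℤ, q ≤ n → IsIso ((DerivedCategory.homologyFunctor (EtCoh.Ab (pullback g i)) q).map
          (EtBC.bcMap i' (pullback.snd g i) (pullback.fst (pullback.snd g i) i') (pullback.snd (pullback.snd g i) i')
            pullback.condition.symm adj (EtBC.single Y'' F)))) ∧
        Mono ((DerivedCategory.homologyFunctor (EtCoh.Ab (pullback g i)) ((n : ℤ) + 1)).map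
          (EtBC.bcMap i' (pullback.snd g i) (pullback.fst (pullback.snd g i) i') (pullback.snd (pullback.snd g i) i')
            pullback.condition.symm adj (EtBC.single Y'' F))) := by
  constructor
  · intro hg Y' i _ _ Y'' i' _ _ _ _ _ _ _ adj F hF
    let g₁ := pullback.snd g i
    let j' := pullback.fst g₁ i'
    let g'' := pullback.snd g₁ i'
    have c : IsPullback g'' j' i' g₁ := (IsPullback.of_hasPullback g₁ i').flip
    have key : (∀ q : ℕ, q ≤ n → IsIso (EtBC.bcQ i' g₁ j' g'' c.w q F)) ∧
        Mono (EtBC.bcQ i' g₁ j' g'' c.w (n + 1) F) := by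
      by_cases hL : ∃ ℓ ∈ L, ℓ.Prime
      · exact AcycBase.bcQ_immersion g₁
          (AcycBase.isLocAcyclicN_baseChange (IsPullback.of_hasPullback g i) hL hg) i' c F hF
      · haveI : (EtCoh.push i').Additive := (EtCoh.pullPushAdj i').right_adjoint_additive
        haveI : (EtCoh.push j').Additive := (EtCoh.pullPushAdj j').right_adjoint_additive
        have hz := AcycBase.isZero_of_isLTorsion hL hF
        have z1 : ∀ q, IsZero ((EtCoh.pull g₁).obj ((EtCoh.Rpush i' q).obj F)) := fun q =>
          (EtCoh.pull g₁).map_isZero ((EtCoh.Rpush i' q).map_isZero hz)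
        exact ⟨fun q _ => FibreAcyc.isIso_of_isZero _ (z1 q)
            ((EtCoh.Rpush j' q).map_isZero ((EtCoh.pull g'').map_isZero hz)),
          ⟨fun a b _ => (z1 (n + 1)).eq_of_tgt a b⟩⟩
    refine ⟨fun q hq => ?_, ?_⟩
    · obtain ⟨k, rfl⟩ | hneg : (∃ k : ℕ, q = k) ∨ q < 0 := by
        rcases le_or_gt 0 q with h | h
        · exact Or.inl ⟨q.toNat, (Int.toNat_of_nonneg h).symm⟩
        · exact Or.inr h
      · exact (BcBridge.isIso_homology_bcMap_iff i' g₁ j' g'' pullback.condition.symm F adj k).2
          (key.1 k (by exact_mod_cast hq))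
      · exact BcBridge.isIso_homology_bcMap_neg i' g₁ j' g'' pullback.condition.symm F adj q hneg
    · exact (BcBridge.mono_homology_bcMap_iff i' g₁ j' g'' pullback.condition.symm F adj (n + 1)).2 key.2
  · intro hBC
    by_cases hL : ∃ ℓ ∈ L, ℓ.Prime
    · refine (S3471.result g L hL n).2 ?_
      intro x RS RX _ _ _ _ _ _ _ _ _ _ _ _ hc
      refine AcycBase.geomFibres (n := n) (g := g) ?_ x RS RX (algebraMap RS RX)
        (EtBC.specOf_map x RS RX (algebraMap RS RX) hc) hL
      intro Y' i _ _ Y'' i' _ _ _ F hF q hq
      haveI := EtFound.pull_preservesFiniteLimits (pullback.snd g i)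
      haveI := DescCrit.hasRpushEt i'
      haveI := DescCrit.hasRpushEt (pullback.fst (pullback.snd g i) i')
      haveI := DescCrit.hasRpushEt (pullback.snd g i)
      obtain ⟨adj⟩ := AcycBase.nonempty_pullD_adj (pullback.snd g i)
      exact (BcBridge.isIso_homology_bcMap_iff i' (pullback.snd g i) (pullback.fst (pullback.snd g i) i')
        (pullback.snd (pullback.snd g i) i') pullback.condition.symm F adj q).1
        ((hBC Y' i Y'' i' adj F hF).1 q (by exact_mod_cast hq))
    · intro x RS RX _ _ _ _ _ _ _ _ _ _ _ _ hc V G hG _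
      have hz := AcycBase.isZero_of_isLTorsion hL hG
      have h1 : ∀ q, Subsingleton (EtCoh.H V.left G q) := fun q =>
        AddCommGrpCat.subsingleton_of_isZero ((EtCoh.HF V.left q).map_isZero hz)
      let hh := Spec.map (CommRingCat.ofHom (algebraMap RS RX))
      have h2 : ∀ q, Subsingleton
          (EtCoh.H (pullback V.hom hh) ((EtCoh.pull (EtAcyc.prj hh V)).obj G) q) := fun q =>
        AddCommGrpCat.subsingleton_of_isZero
          ((EtCoh.HF (pullback V.hom hh) q).map_isZero ((EtCoh.pull (EtAcyc.prj hh V)).map_isZero hz))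
      exact ⟨fun q _ => ⟨fun a b _ => (h1 q).elim a b,
          fun b => ⟨0, (h2 q).elim _ _⟩⟩, fun a b _ => (h1 (n + 1)).elim a b⟩

end Groth.Agent.S3515
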