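import Groth.Statements.S3516
import Groth.Agent.AcycBase.ProperFibre
import Groth.Agent.S3481
-- import your own Groth.Agent.* helpers here

set_option autoImplicit false
universe u
open CategoryTheory CategoryTheory.Limits AlgebraicGeometry Opposite
open EtAcyc

namespace Groth.Agent.S3516

open Groth.Agent

set_option backward.isDefEq.respectTransparency.types false

/-- Let R be a strictly henselian local ring, Y = Spec R, f : X → Y a proper morphism that is locally
n-acyclic for a set of primes L, and F a locally constant abelian L-torsion sheaf on the small étale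
site of X. Then for every point y₁ of Y and every separably closed field Ω algebraic over the
residue field κ(y₁), the pullback map H^q(X_ét, F) → H^q((X ×_Y Spec Ω)_ét, F|_{X ×_Y Spec Ω}) to
the cohomology of the geometric fibre over y₁ is bijective for q ≤ n and injective for q = n + 1.
The published statement also covers non-abelian coefficients and is the specialization statement
over an arbitrary base; it is stated here for abelian sheaves over a strictly local base, where the
specialization map is this pullback map. The hypothesis that pullback along the projection of the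
geometric fibre preserves finite limits is carried as an instance binder. -/
theorem result (R : Type u) [CommRing R]
    (hR : EtCoh.IsStrictlyHenselianLocalRing R) {X : Scheme.{u}} (f : X ⟶ Spec (CommRingCat.of R)) [IsProper f]
    (L : Set ℕ) (n : ℕ) (hf : EtAcyc.IsLocAcyclicN f L n) (F : EtCoh.Ab X) (hF : EtAcyc.IsLTorsion L F)
    (hlc : EtRest.IsLocallyConstant F) (y₁ : Spec (CommRingCat.of R)) (Ω : Type u) [Field Ω] [IsSepClosed Ω]
    [Algebra ((Spec (CommRingCat.of R)).residueField y₁) Ω] [Algebra.IsAlgebraic ((Spec (CommRingCat.of R)).residueField y₁) Ω]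
    [PreservesFiniteLimits (EtCoh.pull (pullback.fst f (EtAcyc.geomPt (Spec (CommRingCat.of R)) y₁ Ω)))] :
    (∀ q : ℕ, q ≤ n →
      Function.Bijective (EtCore.Hpull (pullback.fst f (EtAcyc.geomPt (Spec (CommRingCat.of R)) y₁ Ω)) F q)) ∧
    Function.Injective (EtCore.Hpull (pullback.fst f (EtAcyc.geomPt (Spec (CommRingCat.of R)) y₁ Ω)) F (n + 1)) := by
  obtain ⟨_, _⟩ := hR
  by_cases hL : ∃ ℓ ∈ L, ℓ.Prime
  · exact AcycBase.Hpull_geomFibre f hL hf F hF hlc y₁ Ω
  · have hZ := GenAcyc.isZero_of_no_prime L F hF hL
    let g := pullback.fst f (EtAcyc.geomPt (Spec (CommRingCat.of R)) y₁ Ω)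
    have : (EtCoh.pull g).PreservesZeroMorphisms :=
      haveI := (EtCoh.pullPushAdj g).leftAdjoint_preservesColimits
      Functor.preservesZeroMorphisms_of_preserves_initial_object
    have h1 : ∀ q, Subsingleton (EtCoh.H X F q) := fun q =>
      AddCommGrpCat.subsingleton_of_isZero ((EtCoh.HF X q).map_isZero hZ)
    have h2 : ∀ q, Subsingleton (EtCoh.H _ ((EtCoh.pull g).obj F) q) := fun q =>
      AddCommGrpCat.subsingleton_of_isZero ((EtCoh.HF _ q).map_isZero ((EtCoh.pull g).map_isZero hZ))
    exact ⟨fun q _ => ⟨fun z z' _ => (h1 q).elim z z', fun z => ⟨0, (h2 q).elim _ z⟩⟩, fun z z' _ => (h1 _).elim z z'⟩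

end Groth.Agent.S3516
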