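import Groth.Statements.S3517
import Groth.Agent.BigSiteLib.EtDescSec.SecBC
-- import your own Groth.Agent.* helpers here

set_option autoImplicit false
universe u
open CategoryTheory CategoryTheory.Limits AlgebraicGeometry Opposite
open EtBC

namespace Groth.Agent.S3517

/-- Let h : Y → X and p : X̄ → X be morphisms of schemes with p surjective, Ȳ = Y ×_X X̄ with
projections h̄ : Ȳ → X̄ and p_Y : Ȳ → Y. If for every sheaf of sets F̄ on X̄ the pullback map on
global sections Γ(X̄, F̄) → Γ(Ȳ, h̄^* F̄) is injective, then for every sheaf of sets F on X the map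
Γ(X, F) → Γ(Y, h^* F) is injective. If those maps for h̄ are bijective and moreover the base change
morphism h^* p_* F̄ → p_{Y*} h̄^* F̄ is a monomorphism for every sheaf of sets F̄ on X̄, then the
maps Γ(X, F) → Γ(Y, h^* F) are bijective. -/
theorem result {X Y Xb Yb : Scheme.{u}} (h : Y ⟶ X) (p : Xb ⟶ X)
    (hb : Yb ⟶ Xb) (pY : Yb ⟶ Y) (sq : IsPullback hb pY p h) (hp : Function.Surjective p.base) :
    ((∀ Fb : EtDesc.Sh Xb, Function.Injective (EtDesc.secPull hb Fb)) →
      ∀ F : EtDesc.Sh X, Function.Injective (EtDesc.secPull h F)) ∧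
    ((∀ Fb : EtDesc.Sh Xb, Function.Bijective (EtDesc.secPull hb Fb)) →
      (∀ Fb : EtDesc.Sh Xb, Mono (EtBC.baseChange0Sh p h pY hb sq.w Fb)) →
      ∀ F : EtDesc.Sh X, Function.Bijective (EtDesc.secPull h F)) := by
  exact ⟨fun hi => Groth.Agent.BigSiteLib.DescSec.secPull_injective_of_cover h p hb pY sq.w hp hi, fun hb' hm => Groth.Agent.BigSiteLib.DescSec.secPull_bijective_of_cover h p hb pY sq.w hp hb' hm⟩

end Groth.Agent.S3517
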