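import Groth.Statements.S3521
import Groth.Agent.DescCrit.Main
-- import your own Groth.Agent.* helpers here

set_option autoImplicit false
universe u
open CategoryTheory CategoryTheory.Limits AlgebraicGeometry Opposite
attribute [local instance] HasDerivedCategory.standard
open EtBC

namespace Groth.Agent.S3521

/-- Let h : Y → X be a morphism of quasi-compact quasi-separated schemes, L a set of primes and n a
natural number, and suppose that for every abelian L-torsion sheaf F on X the map H^i(X, F) → H^i(Y,
h⁻¹F) is bijective for i ≤ n and injective for i = n + 1. Let F be an abelian L-torsion sheaf on X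
and ξ ∈ H^{n+1}(Y, h⁻¹F). Then ξ lies in the image of H^{n+1}(X, F) if and only if for every
nonempty closed subset X' of X there is a morphism p : X̄ → X such that (1) the image of p is
contained in X' and contains a nonempty open subset of X'; (2) for every abelian L-torsion sheaf F̄
on X̄ the base change maps h⁻¹ R^i p_* F̄ → R^i p_{Y*} h̄⁻¹ F̄ (Ȳ = X̄ ×_X Y with projections h̄,
p_Y; cohomology sheaves of the derived base change morphism) are isomorphisms for i ≤ n + 1; (3) the
image of ξ in H^{n+1}(Ȳ, p_Y⁻¹ h⁻¹ F) lies in the image of H^{n+1}(X̄, p⁻¹F). (The published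
statement phrases (2)–(3) as a single condition indexed by a degree i, taken with i = n + 1; here
(2) is read with the degree bound n + 1. The standing assumption of the published statement,
injectivity on sections of sheaves of sets along h, is omitted: when L contains a prime it follows
from the hypothesis applied to direct images of constant sheaves Z/ℓ along finite morphisms, and
when L is empty the statement is trivial. The case n = -1 of the published statement is not stated.) -/
theorem result {X Y : Scheme.{u}} [CompactSpace X] [QuasiSeparatedSpace X]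
    [CompactSpace Y] [QuasiSeparatedSpace Y] (h : Y ⟶ X) (L : Set ℕ) (n : ℕ) (hcomp : EtAcyc.CompN h L n)
    [PreservesFiniteLimits (EtCoh.pull h)] [DCoh.HasRpushEt Y h] (adj : EtBC.pullD h ⊣ DCoh.RpushEt Y h)
    (F : EtCoh.Ab X) (hF : EtAcyc.IsLTorsion L F) (ξ : EtCoh.H Y ((EtCoh.pull h).obj F) (n + 1)) :
    ξ ∈ Set.range (EtCore.Hpull h F (n + 1)) ↔
      ∀ X' : Set X, IsClosed X' → X'.Nonempty →
        ∃ (Xb : Scheme.{u}) (p : Xb ⟶ X),
          Set.range p.base ⊆ X' ∧
          (∃ V : Set X, IsOpen V ∧ (V ∩ X').Nonempty ∧ V ∩ X' ⊆ Set.range p.base) ∧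
          (∀ [PreservesFiniteLimits (EtCoh.pull (pullback.fst p h))] [DCoh.HasRpushEt Xb p]
            [DCoh.HasRpushEt (pullback p h) (pullback.snd p h)] (Fb : EtCoh.Ab Xb), EtAcyc.IsLTorsion L Fb →
            ∀ i : ℤ, i ≤ (n : ℤ) + 1 → IsIso ((DerivedCategory.homologyFunctor (EtCoh.Ab Y) i).map
              (EtBC.bcMap p h (pullback.snd p h) (pullback.fst p h) pullback.condition adj (EtBC.single Xb Fb)))) ∧
          (∀ [PreservesFiniteLimits (EtCoh.pull (pullback.snd p h))] [PreservesFiniteLimits (EtCoh.pull (pullback.fst p h))],
            EtCore.HpullVia (pullback.snd p h) h (pullback.snd p h ≫ h) rfl F (n + 1) ξ ∈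
              Set.range (EtCore.HpullVia (pullback.fst p h) p (pullback.snd p h ≫ h) pullback.condition F (n + 1))) := Groth.Agent.DescCrit.descent_criterion hcomp adj hF

end Groth.Agent.S3521
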