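import Groth.Statements.S6317
import Mathlib
import Groth.Agent.FlatCxLib.HomologyColim

set_option autoImplicit false
universe u
open CategoryTheory
open CAlg

namespace Groth.Agent.S6317

/-- Let R be a ring, N an R-module and n ≥ 0. Then M ↦ Tor_nᴿ(M, N) commutes with filtered colimits:
Tor_n(colim Mᵢ, N) = colim Tor_n(Mᵢ, N). -/
theorem result (R : Type u) [CommRing R] (N : ModuleCat.{u} R) (n : ℕ) : Limits.PreservesFilteredColimits ((CategoryTheory.Tor (ModuleCat.{u} R) n).flip.obj N) := by
  let P : ProjectiveResolution N := ProjectiveResolution.of _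
  let T : ModuleCat.{u} R → (ModuleCat.{u} R ⥤ ModuleCat.{u} R) := fun X =>
    (MonoidalCategory.tensoringLeft (ModuleCat.{u} R)).obj X
  let c := ComplexShape.down ℕ
  let Φ : ModuleCat.{u} R ⥤ ChainComplex (ModuleCat.{u} R) ℕ :=
    { obj := fun X => ((T X).mapHomologicalComplex c).obj P.complex
      map := fun f => (NatTrans.mapHomologicalComplex ((MonoidalCategory.tensoringLeft (ModuleCat.{u} R)).map f) c).app P.complex
      map_id := fun X => HomologicalComplex.hom_ext _ _ fun j => MonoidalCategory.id_whiskerRight X (P.complex.X j)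
      map_comp := fun f g => HomologicalComplex.hom_ext _ _ fun j => MonoidalCategory.comp_whiskerRight f g (P.complex.X j) }
  have key : ∀ (F G : ModuleCat.{u} R ⥤ ModuleCat.{u} R) [F.Additive] [G.Additive] (α : F ⟶ G),
      (NatTrans.leftDerived α n).app N ≫ (P.isoLeftDerivedObj G n).hom =
        (P.isoLeftDerivedObj F n).hom ≫ (HomologicalComplex.homologyFunctor (ModuleCat.{u} R) c n).map
          ((NatTrans.mapHomologicalComplex α c).app P.complex) := by
    intro F G _ _ α
    simp only [P.leftDerived_app_eq, Category.assoc, Iso.inv_hom_id, Category.comp_id]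
    rfl
  let e : (CategoryTheory.Tor (ModuleCat.{u} R) n).flip.obj N ≅ Φ ⋙ HomologicalComplex.homologyFunctor (ModuleCat.{u} R) c n :=
    NatIso.ofComponents (fun X => P.isoLeftDerivedObj (T X) n)
      (fun {X Y} f => key (T X) (T Y) ((MonoidalCategory.tensoringLeft (ModuleCat.{u} R)).map f))
  refine ⟨fun J _ _ => ?_⟩
  haveI : Limits.PreservesColimitsOfShape J Φ := by
    refine HomologicalComplex.preservesColimitsOfShape_of_eval Φ fun j => ?_
    exact Limits.preservesColimitsOfShape_of_natIso
      (F := MonoidalCategory.tensorRight (P.complex.X j))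
      (NatIso.ofComponents (fun X => Iso.refl _) (fun f => by simp; rfl))
  haveI := FlatCxLib.preservesColimitsOfShape_complexHomology (C := ModuleCat.{u} R) (J := J) c n
  exact Limits.preservesColimitsOfShape_of_natIso e.symm

end Groth.Agent.S6317
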