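import Groth.Statements.S3526
import Groth.Agent.H9Misc.TorBalance
import Groth.Agent.FlatCxLib.HomologyColim

set_option autoImplicit false
universe u
open HTor

namespace Groth.Agent.S3526

open CategoryTheory CategoryTheory.Limits in
/-- In the case of single modules, second variable: for an A-module M and p ≥ 0, the functor N ↦
Tor_p^A(M, N) preserves filtered colimits. (Tor is Mathlib's, left derived in the second variable.) -/
theorem result (A : Type u) [CommRing A] (p : ℕ) (M : ModuleCat.{u} A)
    (J : Type u) [SmallCategory J] [IsFiltered J] :
    PreservesColimitsOfShape J ((CategoryTheory.Tor (ModuleCat.{u} A) p).obj M) := by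
  let P : ProjectiveResolution M := ProjectiveResolution.of _
  let c := ComplexShape.down ℕ
  let Φ : ModuleCat.{u} A ⥤ ChainComplex (ModuleCat.{u} A) ℕ :=
    { obj := fun X => (((MonoidalCategory.tensoringRight (ModuleCat.{u} A)).obj X).mapHomologicalComplex c).obj P.complex
      map := fun f => (NatTrans.mapHomologicalComplex ((MonoidalCategory.tensoringRight (ModuleCat.{u} A)).map f) c).app P.complex
      map_id := fun X => HomologicalComplex.hom_ext _ _ fun j => MonoidalCategory.whiskerLeft_id (P.complex.X j) X
      map_comp := fun f g => HomologicalComplex.hom_ext _ _ fun j => MonoidalCategory.whiskerLeft_comp (P.complex.X j) f g }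
  let e : (CategoryTheory.Tor (ModuleCat.{u} A) p).obj M ≅ Φ ⋙ HomologicalComplex.homologyFunctor (ModuleCat.{u} A) c p :=
    NatIso.ofComponents (fun X => Groth.Agent.H9Misc.TorBalance.torIso' P X p)
      (fun f => Groth.Agent.H9Misc.TorBalance.torIso'_natural P f p)
  haveI : Limits.PreservesColimitsOfShape J Φ := by
    refine HomologicalComplex.preservesColimitsOfShape_of_eval Φ fun j => ?_
    haveI := Limits.preservesColimitsOfShape_of_natIso (J := J)
      (F := MonoidalCategory.tensorRight (P.complex.X j))
      (BraidedCategory.tensorLeftIsoTensorRight (P.complex.X j)).symm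
    exact Limits.preservesColimitsOfShape_of_natIso
      (F := MonoidalCategory.tensorLeft (P.complex.X j))
      (NatIso.ofComponents (fun X => Iso.refl _) (fun f => by simp; rfl))
  haveI := Groth.Agent.FlatCxLib.preservesColimitsOfShape_complexHomology (C := ModuleCat.{u} A) (J := J) c p
  exact Limits.preservesColimitsOfShape_of_natIso e.symm

end Groth.Agent.S3526
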