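import Groth.Statements.S3529
import Groth.Agent.H9Misc.CechKunneth
import Groth.Agent.H9Misc.CechCover

set_option autoImplicit false
universe u
attribute [local instance] HasDerivedCategory.standard
open HTor

namespace Groth.Agent.S3529

set_option maxHeartbeats 1000000 in
open CategoryTheory CategoryTheory.Limits AlgebraicGeometry in
/-- Let A be a ring, X₁, X₂ quasi-compact separated schemes over Spec A and P₁, P₂ complexes of
quasi-coherent modules on them vanishing in large degrees, every term of P₁ being flat over Spec A.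
If L₁, L₂ are complexes of projective A-modules vanishing in large degrees that compute RΓ(X₁, P₁)
and RΓ(X₂, P₂) in D(A), then L₁ ⊗_A L₂ computes RΓ(X₁ ×_A X₂, pr₁^*P₁ ⊗ pr₂^*P₂): the global
hypertor of P₁ and P₂ over Spec A is the hypercohomology of their external tensor product. (The
published statement, over a general base and pair of base schemes, gives a canonical isomorphism;
here the base is affine and equal to both, and only the existence of an isomorphism in D(A) is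
asserted.) -/
theorem result (A : Type u) [CommRing A] (X₁ X₂ : Scheme.{u})
    (f₁ : X₁ ⟶ Spec (CommRingCat.of A)) (f₂ : X₂ ⟶ Spec (CommRingCat.of A))
    [QuasiCompact f₁] [IsSeparated f₁] [QuasiCompact f₂] [IsSeparated f₂]
    [HTor.HasRΓA f₁] [HTor.HasRΓA f₂] [HTor.HasRΓA (pullback.fst f₁ f₂ ≫ f₁)]
    (P₁ : CochainComplex X₁.Modules ℤ) (P₂ : CochainComplex X₂.Modules ℤ)
    (hq₁ : ∀ i : ℤ, Coh.IsQCoh (P₁.X i)) (hq₂ : ∀ i : ℤ, Coh.IsQCoh (P₂.X i))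
    (b₁ : ∃ b : ℤ, ∀ i : ℤ, b < i → IsZero (P₁.X i)) (b₂ : ∃ b : ℤ, ∀ i : ℤ, b < i → IsZero (P₂.X i))
    (hfl : ∀ i : ℤ, FlatMod.IsFlatOver f₁ (P₁.X i))
    (L₁ L₂ : DRing.Cx A) (hL₁ : ∀ i : ℤ, Projective (L₁.X i)) (hL₂ : ∀ i : ℤ, Projective (L₂.X i))
    (c₁ : ∃ c : ℤ, DRing.VanishesAbove L₁ c) (c₂ : ∃ c : ℤ, DRing.VanishesAbove L₂ c)
    (e₁ : HTor.Computes f₁ L₁ (DCoh.toD X₁ P₁)) (e₂ : HTor.Computes f₂ L₂ (DCoh.toD X₂ P₂)) :
    HTor.Computes (pullback.fst f₁ f₂ ≫ f₁) (HTor.tensorCx L₁ L₂)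
      (DCoh.toD (pullback f₁ f₂) (HTor.extTensorCx f₁ f₂ P₁ P₂)) := by
  obtain ⟨c₁, hc₁⟩ := c₁
  obtain ⟨c₂, hc₂⟩ := c₂
  obtain ⟨b₁, hb₁⟩ := b₁
  obtain ⟨b₂, hb₂⟩ := b₂
  obtain ⟨e₁⟩ := e₁
  obtain ⟨e₂⟩ := e₂
  let p := pullback.fst f₁ f₂
  let q := pullback.snd f₁ f₂
  have h : IsPullback p q f₁ f₂ := IsPullback.of_hasPullback _ _
  obtain ⟨n, U, hcov, hU⟩ := Groth.Agent.H9Misc.CechCover.exists_cover f₁
  obtain ⟨m, V, hcov', hV⟩ := Groth.Agent.H9Misc.CechCover.exists_cover f₂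
  obtain ⟨hK₁, ⟨eK₁⟩⟩ := Groth.Agent.H9Misc.CechCover.exists_flat_computing f₁ U hcov hU P₁ hq₁ hfl b₁ hb₁
  obtain ⟨eK₂⟩ := Groth.Agent.H9Misc.CechCompute.nonempty_rgammaA_iso f₂ V (List.finRange m) List.mem_finRange
    hcov' hV P₂ hq₂
  rw [List.length_finRange] at eK₂
  have haff : ∀ (S : Finset (Fin n)) (T : Finset (Fin m)), S.Nonempty → T.Nonempty →
      IsAffineOpen (Groth.Agent.H9Misc.CechSys.interU (fun i => p ⁻¹ᵁ U i) S ⊓
        Groth.Agent.H9Misc.CechSys.interU (fun j => q ⁻¹ᵁ V j) T) := fun S T hS hT => by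
    rw [Groth.Agent.H9Misc.CechThetaBC.preimage_interU p U S, Groth.Agent.H9Misc.CechThetaBC.preimage_interU q V T]
    let Z : (Spec (CommRingCat.of A)).Opens := ⊤
    have H := Scheme.Hom.isPullback_resLE h (US := Z) (UT := Groth.Agent.H9Misc.CechSys.interU V T)
      (UX := Groth.Agent.H9Misc.CechSys.interU U S) (fun _ _ => trivial) (fun _ _ => trivial) rfl
    haveI : IsAffine (Z : Scheme.{u}) := isAffineOpen_top _
    haveI : IsAffine (Groth.Agent.H9Misc.CechSys.interU U S : Scheme.{u}) := hU S hS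
    haveI : IsAffine (Groth.Agent.H9Misc.CechSys.interU V T : Scheme.{u}) := hV T hT
    exact IsAffine.of_isPullback H
  have hq : ∀ i : ℤ, Coh.IsQCoh ((HTor.extTensorCx f₁ f₂ P₁ P₂).X i) := fun i =>
    Groth.Agent.KFlatLib.isQCoh_tensorCx_X _ _ (fun j => Groth.Agent.QCoh.isQCoh_pullback p (hq₁ j))
      (fun j => Groth.Agent.QCoh.isQCoh_pullback q (hq₂ j)) i
  obtain ⟨eT⟩ := Groth.Agent.H9Misc.CechPsi.nonempty_rgammaA_psi_iso (p ≫ f₁) (fun i => p ⁻¹ᵁ U i)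
    (fun j => q ⁻¹ᵁ V j) (List.finRange n) List.mem_finRange (fun x => hcov (p.base x))
    (List.finRange m) List.mem_finRange (fun x => hcov' (q.base x)) haff (HTor.extTensorCx f₁ f₂ P₁ P₂) hq
  rw [List.length_finRange, List.length_finRange] at eT
  obtain ⟨e₃⟩ := Groth.Agent.H9Misc.CechKunneth.nonempty_cechCx_psi_iso (p ≫ f₁) rfl h.w P₁ P₂ U V h hU hV
    hq₁ hq₂ hb₁ hb₂ (List.finRange n) (List.finRange m)
  let a : ℤ := 1 - n
  let b : ℤ := 1 - m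
  let K₁ := Groth.Agent.H9Misc.CechCompute.cechCx f₁ U (List.finRange n) P₁
  let K₂ := Groth.Agent.H9Misc.CechCompute.cechCx f₂ V (List.finRange m) P₂
  obtain ⟨e₄⟩ := Groth.Agent.H9Misc.CechTensorD.nonempty_tensor_iso hL₁ hc₁ hK₁ (e₁ ≪≫ eK₁.symm) ⟨c₂, hc₂⟩
  haveI := Groth.Agent.H9Misc.CechTensorD.isKProjective_of_bdd hL₂ hc₂
  obtain ⟨s, hs⟩ := Groth.Agent.H9Misc.CechTensorD.exists_quasiIso (K := K₂⟦b⟧) (e₂ ≪≫ eK₂.symm)
  haveI := hs
  let T := MonoidalCategory.curriedTensor (ModuleCat.{u} A)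
  have hk : IsIso (DerivedCategory.Q.map ((T.map₂CochainComplex.obj (K₁⟦a⟧)).map s)) :=
    (DerivedCategory.isIso_Q_map_iff_quasiIso (C := ModuleCat.{u} A) _).2
      (Groth.Agent.KFlatLib.quasiIso_tensorHom_id s
        (Groth.Agent.KFlatLib.kFlat_of_termwiseFlat hK₁.1 hK₁.2))
  exact ⟨e₄ ≪≫ @asIso _ _ _ _ (DerivedCategory.Q.map ((T.map₂CochainComplex.obj (K₁⟦a⟧)).map s)) hk ≪≫
    DerivedCategory.Q.mapIso (CochainComplex.mapBifunctorShift₁Iso K₁ (K₂⟦b⟧) T a ≪≫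
      (shiftFunctor (DRing.Cx A) a).mapIso (CochainComplex.mapBifunctorShift₂Iso K₁ K₂ T b) ≪≫
      ((shiftFunctorAdd' (DRing.Cx A) b a (a + b) (add_comm b a)).app _).symm ≪≫
      (shiftFunctor (DRing.Cx A) (a + b)).mapIso e₃.symm) ≪≫ eT⟩

end Groth.Agent.S3529
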