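import Groth.Statements.S3530
import Groth.Agent.H9Misc.CechThetaBC

set_option autoImplicit false
universe u
attribute [local instance] HasDerivedCategory.standard
open HTor

namespace Groth.Agent.S3530

open CategoryTheory CategoryTheory.Limits AlgebraicGeometry in
/-- Cohomology and base change for a complex flat over an affine base, in derived form. Let X be
quasi-compact and separated over Spec A, P a complex of quasi-coherent O_X-modules vanishing in
large degrees with every term flat over Spec A, and A → A′ any ring map; put X′ = X ×_A A′ and let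
P′ be the pulled-back complex on X′. If a complex L of projective A-modules vanishing in large
degrees computes RΓ(X, P) in D(A), then L ⊗_A A′ computes RΓ(X′, P′) in D(A′). No flatness of A′
over A is assumed. The published statement gives a canonical isomorphism; here only the existence of
an isomorphism in D(A′) is asserted. -/
theorem result (A A' : Type u) [CommRing A] [CommRing A'] (φ : A →+* A')
    (X : Scheme.{u}) (f : X ⟶ Spec (CommRingCat.of A)) [QuasiCompact f] [IsSeparated f] [HTor.HasRΓA f]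
    [HTor.HasRΓA (pullback.snd f (Spec.map (CommRingCat.ofHom φ)))]
    (P : CochainComplex X.Modules ℤ) (hq : ∀ i : ℤ, Coh.IsQCoh (P.X i))
    (bP : ∃ b : ℤ, ∀ i : ℤ, b < i → IsZero (P.X i)) (hfl : ∀ i : ℤ, FlatMod.IsFlatOver f (P.X i))
    (L : DRing.Cx A) (hL : ∀ i : ℤ, Projective (L.X i)) (c : ∃ c : ℤ, DRing.VanishesAbove L c)
    (e : HTor.Computes f L (DCoh.toD X P)) :
    HTor.Computes (pullback.snd f (Spec.map (CommRingCat.ofHom φ))) (CohIII.bcCx φ L)
      (DCoh.toD _ ((HTor.pullCx (pullback.fst f (Spec.map (CommRingCat.ofHom φ)))).obj P)) := by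
  obtain ⟨c₀, hc₀⟩ := c
  obtain ⟨b, hb⟩ := bP
  let f' := pullback.snd f (Spec.map (CommRingCat.ofHom φ))
  let p := pullback.fst f (Spec.map (CommRingCat.ofHom φ))
  have h : IsPullback p f' f (Spec.map (CommRingCat.ofHom φ)) := IsPullback.of_hasPullback _ _
  haveI : QuasiCompact f' := inferInstanceAs (QuasiCompact (pullback.snd f (Spec.map (CommRingCat.ofHom φ))))
  haveI : IsSeparated f' := inferInstanceAs (IsSeparated (pullback.snd f (Spec.map (CommRingCat.ofHom φ))))
  haveI : IsAffineHom p := MorphismProperty.of_isPullback h.flip inferInstance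
  obtain ⟨n, U, hcov, hU⟩ := Groth.Agent.H9Misc.CechCover.exists_cover f
  obtain ⟨hK, ⟨eK⟩⟩ := Groth.Agent.H9Misc.CechCover.exists_flat_computing f U hcov hU P hq hfl b hb
  obtain ⟨e₀⟩ := e
  obtain ⟨e₁⟩ := Groth.Agent.H9Misc.CechThetaBC.nonempty_bc_iso φ hL hc₀ hK (e₀ ≪≫ eK.symm)
  have hU' : ∀ S : Finset (Fin n), S.Nonempty →
      IsAffineOpen (Groth.Agent.H9Misc.CechSys.interU (fun i => p ⁻¹ᵁ U i) S) := fun S hS => by
    rw [Groth.Agent.H9Misc.CechThetaBC.preimage_interU p U S]
    exact (hU S hS).preimage p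
  obtain ⟨eT⟩ := Groth.Agent.H9Misc.CechCompute.nonempty_rgammaA_iso f' (fun i => p ⁻¹ᵁ U i) (List.finRange n)
    List.mem_finRange (fun x => hcov (p.base x)) hU' ((HTor.pullCx p).obj P)
    (fun i => Groth.Agent.QCoh.isQCoh_pullback p (hq i))
  rw [List.length_finRange] at eT
  obtain ⟨e₂⟩ := Groth.Agent.H9Misc.CechThetaBC.nonempty_cechCx_bc_iso φ f f' p U P hq hU h (List.finRange n)
  exact ⟨e₁ ≪≫ DerivedCategory.Q.mapIso
    (((Groth.Agent.H9Misc.CechThetaBC.bcF φ).commShiftIso (1 - n : ℤ)).app
        (Groth.Agent.H9Misc.CechCompute.cechCx f U (List.finRange n) P) ≪≫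
      (shiftFunctor (DRing.Cx A') (1 - n : ℤ)).mapIso e₂.symm) ≪≫ eT⟩

end Groth.Agent.S3530
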