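import Groth.Statements.S3531
import Groth.Agent.H9Misc.CechCover
import Groth.Agent.H9Misc.CechThetaA

set_option autoImplicit false
universe u
attribute [local instance] HasDerivedCategory.standard
open HTor

namespace Groth.Agent.S3531

open CategoryTheory CategoryTheory.Limits AlgebraicGeometry in
/-- (One factor, base Spec A, in derived form.) Let X be quasi-compact and separated over Spec A via f,
and P a complex of quasi-coherent O_X-modules vanishing in large degrees, with every term flat over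
Spec A. If a complex L of projective A-modules vanishing in large degrees computes RΓ(X, P), then
for every complex Q of A-modules vanishing in large degrees, L ⊗_A Q computes RΓ(X, P ⊗_A Q), where
P ⊗_A Q is the total complex of the P^i ⊗_{O_X} f^*(Q^j)~. (The published statement gives a
canonical isomorphism; here only the existence of an isomorphism in D(A) is asserted.) -/
theorem result (A : Type u) [CommRing A] (X : Scheme.{u})
    (f : X ⟶ Spec (CommRingCat.of A)) [QuasiCompact f] [IsSeparated f] [HTor.HasRΓA f]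
    (P : CochainComplex X.Modules ℤ) (hq : ∀ i : ℤ, Coh.IsQCoh (P.X i))
    (bP : ∃ b : ℤ, ∀ i : ℤ, b < i → IsZero (P.X i)) (hfl : ∀ i : ℤ, FlatMod.IsFlatOver f (P.X i))
    (L : DRing.Cx A) (hL : ∀ i : ℤ, Projective (L.X i)) (c : ∃ c : ℤ, DRing.VanishesAbove L c)
    (e : HTor.Computes f L (DCoh.toD X P)) (Q : DRing.Cx A) (bQ : ∃ b : ℤ, DRing.VanishesAbove Q b) :
    HTor.Computes f (HTor.tensorCx L Q) (DCoh.toD X (HTor.tensorACx f P Q)) := by
  obtain ⟨c₀, hc₀⟩ := c
  obtain ⟨b, hb⟩ := bP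
  obtain ⟨d, hd⟩ := bQ
  letI : X.Over (Spec (CommRingCat.of A)) := ⟨f⟩
  obtain ⟨n, U, hcov, hU⟩ := Groth.Agent.H9Misc.CechCover.exists_cover f
  obtain ⟨hK, ⟨eK⟩⟩ := Groth.Agent.H9Misc.CechCover.exists_flat_computing f U hcov hU P hq hfl b hb
  obtain ⟨e₀⟩ := e
  obtain ⟨e₁⟩ := Groth.Agent.H9Misc.CechTensorD.nonempty_tensor_iso hL hc₀ hK (e₀ ≪≫ eK.symm) ⟨d, hd⟩
  have hq' : ∀ i : ℤ, Coh.IsQCoh ((HTor.tensorACx f P Q).X i) := fun i =>
    Groth.Agent.KFlatLib.isQCoh_tensorCx_X _ _ hq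
      (fun j => Groth.Agent.QCoh.isQCoh_pullTilde (A := A) (X := X) (Q.X j)) i
  obtain ⟨eT⟩ := Groth.Agent.H9Misc.CechCompute.nonempty_rgammaA_iso f U (List.finRange n) List.mem_finRange
    hcov hU (HTor.tensorACx f P Q) hq'
  rw [List.length_finRange] at eT
  obtain ⟨e₂⟩ := Groth.Agent.H9Misc.CechTensorD.nonempty_cechT_tensor_iso _ _ Q
    (Groth.Agent.H9Misc.CechThetaA.theta U P Q)
    (fun S hS => Groth.Agent.H9Misc.CechThetaA.isIso_theta_app U P Q hq hb hd (hU S hS)) (List.finRange n)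
  obtain ⟨e₃⟩ := Groth.Agent.H9Misc.CechTensorD.nonempty_shift_tensor_iso
    (Groth.Agent.H9Misc.CechCompute.cechCx f U (List.finRange n) P) Q (1 - n : ℤ)
  exact ⟨e₁ ≪≫ DerivedCategory.Q.mapIso (e₃ ≪≫ (shiftFunctor (DRing.Cx A) (1 - n : ℤ)).mapIso e₂.symm) ≪≫ eT⟩

end Groth.Agent.S3531
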