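import Groth.Statements.S3532
import Mathlib
import Groth.Agent.H9Misc.MLSeq

set_option autoImplicit false
universe u
open HomAlg3

namespace Groth.Agent.S3532

open CategoryTheory in
/-- Category of abelian groups, system indexed by the natural numbers: Let (A_k)_{k ≥ 0} be an inverse
system of abelian groups. For p ≤ k write Im_k(A_p) for the image of A_k → A_p, and K_p for the
kernel of A_p → A_{p-1} (K_0 = A_0). Then (A_k) satisfies the Mittag-Leffler condition (for each p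
the subgroups Im_k(A_p) are eventually constant in k) if and only if for each p the subgroups
Im_k(A_p) ∩ K_p are eventually constant in k. -/
theorem result (F : ℕᵒᵖ ⥤ AddCommGrpCat.{u}) :
    (F ⋙ forget AddCommGrpCat).IsMittagLeffler ↔
      ((∃ k₀ : ℕ, ∀ (k : ℕ) (hk : k₀ ≤ k),
          (F.map (homOfLE (Nat.zero_le k)).op).hom.range = (F.map (homOfLE (Nat.zero_le k₀)).op).hom.range) ∧
        ∀ p : ℕ, ∃ k₀ : ℕ, ∃ h₀ : p + 1 ≤ k₀, ∀ (k : ℕ) (hk : k₀ ≤ k),
          (F.map (homOfLE (h₀.trans hk)).op).hom.range ⊓ (F.map (homOfLE (Nat.le_succ p)).op).hom.ker =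
            (F.map (homOfLE h₀).op).hom.range ⊓ (F.map (homOfLE (Nat.le_succ p)).op).hom.ker) := by
  have hcomp : ∀ {a b c : ℕ} (h : a ≤ b) (h' : b ≤ c) (x : F.obj (Opposite.op c)),
      (F.map (homOfLE (h.trans h')).op).hom x =
        (F.map (homOfLE h).op).hom ((F.map (homOfLE h').op).hom x) := fun h h' x =>
    ConcreteCategory.congr_hom (F.map_comp (homOfLE h').op (homOfLE h).op) x
  have mono : ∀ {n a b : ℕ} (h : n ≤ a) (h' : a ≤ b),
      (F.map (homOfLE (h.trans h')).op).hom.range ≤ (F.map (homOfLE h).op).hom.range := by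
    rintro n a b h h' _ ⟨x, rfl⟩
    exact ⟨_, (hcomp h h' x).symm⟩
  constructor
  · intro hML
    have stab : ∀ n : ℕ, ∃ (m : ℕ) (h : n ≤ m), ∀ (l : ℕ) (hl : m ≤ l),
        (F.map (homOfLE (h.trans hl)).op).hom.range = (F.map (homOfLE h).op).hom.range := by
      intro n
      obtain ⟨m, h, hm⟩ := Groth.Agent.TowerLib.ml_apply F hML n
      refine ⟨m, h, fun l hl => le_antisymm (mono h hl) ?_⟩
      rintro _ ⟨x, rfl⟩
      obtain ⟨y, hy⟩ := hm x l (h.trans hl)
      exact ⟨y, hy⟩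
    refine ⟨?_, fun p => ?_⟩
    · obtain ⟨m, h, hm⟩ := stab 0
      exact ⟨m, fun k hk => hm k hk⟩
    · obtain ⟨m, h, hm⟩ := stab (p + 1)
      exact ⟨m, h, fun k hk => by rw [hm k hk]⟩
  · rintro ⟨⟨k₀, h0⟩, hp⟩
    suffices stab : ∀ n : ℕ, ∃ (m : ℕ) (h : n ≤ m), ∀ (l : ℕ) (hl : m ≤ l),
        (F.map (homOfLE h).op).hom.range ≤ (F.map (homOfLE (h.trans hl)).op).hom.range by
      rintro ⟨n⟩
      obtain ⟨m, h, hm⟩ := stab n
      refine ⟨Opposite.op m, (homOfLE h).op, ?_⟩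
      rintro ⟨l⟩ g
      rintro _ ⟨x, rfl⟩
      obtain ⟨y, hy⟩ := hm _ (le_max_left m l) ⟨x, rfl⟩
      refine ⟨(F.map (homOfLE (le_max_right m l)).op).hom y, ?_⟩
      refine (hcomp (leOfHom g.unop) (le_max_right m l) y).symm.trans ?_
      exact hy
    intro n
    induction n with
    | zero => exact ⟨k₀, Nat.zero_le _, fun l hl => (h0 l hl).ge⟩
    | succ p ih =>
      obtain ⟨m₁, h₁, hm₁⟩ := ih
      obtain ⟨m₂, h₂, hm₂⟩ := hp p
      refine ⟨max m₁ m₂, h₂.trans (le_max_right m₁ m₂), fun l hl => ?_⟩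
      rintro _ ⟨x, rfl⟩
      set hM := h₂.trans (le_max_right m₁ m₂)
      obtain ⟨z, hz⟩ := hm₁ l ((le_max_left m₁ m₂).trans hl)
        (mono h₁ (le_max_left m₁ m₂) ⟨x, rfl⟩)
      let y := (F.map (homOfLE hM).op).hom x - (F.map (homOfLE (hM.trans hl)).op).hom z
      have hy : y ∈ (F.map (homOfLE hM).op).hom.range ⊓
          (F.map (homOfLE (Nat.le_succ p)).op).hom.ker := by
        refine AddSubgroup.mem_inf.2 ⟨sub_mem ⟨x, rfl⟩ (mono hM hl ⟨z, rfl⟩), ?_⟩
        show (F.map (homOfLE (Nat.le_succ p)).op).hom y = 0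
        rw [map_sub, sub_eq_zero]
        refine (hcomp (Nat.le_succ p) hM x).symm.trans ?_
        exact hz.symm.trans (hcomp (Nat.le_succ p) (hM.trans hl) z)
      rw [hm₂ _ (le_max_right m₁ m₂), ← hm₂ l ((le_max_right m₁ m₂).trans hl)] at hy
      have := add_mem hy.1 (⟨z, rfl⟩ : (F.map (homOfLE (hM.trans hl)).op).hom z ∈
        (F.map (homOfLE (hM.trans hl)).op).hom.range)
      simpa [y] using this

end Groth.Agent.S3532
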