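import Groth.Statements.S3533
import Groth.Agent.S6498
import Groth.Agent.H9Misc.CohLpull

set_option autoImplicit false
universe u
attribute [local instance] HasDerivedCategory.standard
open HTor
open Groth.Agent Groth.Agent.H9Misc

namespace Groth.Agent.S3533

open CategoryTheory CategoryTheory.Limits AlgebraicGeometry in
/-- Let f : X ⟶ S be a flat morphism with X locally Noetherian, g : Y ⟶ S a morphism, and suppose Z = X
×_S Y is locally Noetherian. As X is flat over S, the local hypertor sheaves Tor_n^S(F, G) on Z are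
taken to be the cohomology sheaves in degree −n of L pr₁^* F ⊗^L pr₂^* G, where pr₂^* G is the plain
pullback of G viewed as a complex in degree 0 and the derived pullback L pr₁^* and the derived
tensor product are taken under their existence binders; the statement is made in that form. Then for
F a coherent O_X-module and G a coherent O_Y-module, every cohomology sheaf of L pr₁^* F ⊗^L pr₂^* G
is a coherent O_Z-module. -/
theorem result (X Y S : Scheme.{u}) (f : X ⟶ S) (g : Y ⟶ S) [Flat f]
    [IsLocallyNoetherian X] [IsLocallyNoetherian (pullback f g)] (F : X.Modules) (G : Y.Modules)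
    (hF : Coh.IsCoh F) (hG : Coh.IsCoh G) [DCoh.HasLpull (pullback.fst f g)]
    [DCoh.HasLTensorCx ((HTor.pullCx (pullback.snd f g)).obj
      ((HomologicalComplex.single Y.Modules (ComplexShape.up ℤ) 0).obj G))] (n : ℤ) :
    Coh.IsCoh (DCoh.HD ((DCoh.LTensorCx ((HTor.pullCx (pullback.snd f g)).obj
      ((HomologicalComplex.single Y.Modules (ComplexShape.up ℤ) 0).obj G))).obj
        ((DCoh.Lpull (pullback.fst f g)).obj (DCoh.inD X F))) n) := by
  haveI : Flat (pullback.snd f g) := inferInstance
  let SX := (HomologicalComplex.single X.Modules (ComplexShape.up ℤ) 0).obj F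
  let SY := (HomologicalComplex.single Y.Modules (ComplexShape.up ℤ) 0).obj G
  let e : DCoh.toD X SX ≅ DCoh.inD X F :=
    ((DerivedCategory.singleFunctorIsoCompQ X.Modules 0).app F).symm
  have hz : ∀ {C : Type (u+1)} [Category.{u} C] [Abelian C] (M : C) (i : ℤ), 0 < i →
      IsZero (((HomologicalComplex.single C (ComplexShape.up ℤ) 0).obj M).X i) :=
    fun M i hi => HomologicalComplex.isZero_single_obj_X _ _ _ _ (by omega)
  have hX : ∀ i, 0 < i → IsZero (SX.X i) := fun i hi => hz F i hi
  have hY : ∀ i, 0 < i → IsZero (SY.X i) := fun i hi => hz G i hi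
  have hP : DCoh.IsCohD (DCoh.toD X SX) := CohLpull.isCohD_toD_single F hF
  haveI := (DerivedCategory.isLE_iff (DCoh.toD X SX) 0).2 (CohLpull.isZero_hd_toD SX 0 hX)
  refine KFlatLib.isCohD_of_iso ((DCoh.LTensorCx _).mapIso ((DCoh.Lpull _).mapIso e))
    ((Groth.Agent.S6498.result _ _ _
      (CohLpull.isCohD_lpull _ hP 0 (CohLpull.isZero_hd_toD SX 0 hX)) ⟨0, fun i hi => ?_⟩
      (CohLpull.isCohD_pullCx_single _ G hG) ⟨0, CohLpull.isZero_hd_toD _ 0 fun i hi =>
        (Scheme.Modules.pullback _).map_isZero (hY i hi)⟩).1) n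
  exact (DerivedCategory.isLE_iff _ 0).1 (KFlatLib.isLE_lpull (pullback.fst f g) (DCoh.toD X SX) 0) i hi

end Groth.Agent.S3533
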