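import Groth.Statements.S3542
import Groth.Agent.S6498
import Groth.Agent.H9Misc.CohLpull

set_option autoImplicit false
universe u
attribute [local instance] HasDerivedCategory.standard
open HTor
open Groth.Agent Groth.Agent.H9Misc

namespace Groth.Agent.S3542

open CategoryTheory CategoryTheory.Limits AlgebraicGeometry in
/-- Let f : X ⟶ S be flat with X locally Noetherian, g : Y ⟶ S any morphism, and suppose Z = X ×_S Y is
locally Noetherian. Let P (resp. Q) be a complex of quasi-coherent O_X-modules (resp. O_Y-modules)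
vanishing in large degrees, all of whose cohomology sheaves are coherent. Since X is flat over S,
the local hypertor sheaves Tor_n^S(P, Q) on Z are the cohomology sheaves of L pr₁^*P ⊗^L pr₂^*Q
(derived pullback and derived tensor product under their existence binders; pr₂ is flat, so pr₂^*Q
is the termwise pullback). Then all these cohomology sheaves are coherent O_Z-modules. -/
theorem result (X Y S : Scheme.{u}) (f : X ⟶ S) (g : Y ⟶ S) [Flat f]
    [IsLocallyNoetherian X] [IsLocallyNoetherian (pullback f g)]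
    (P : CochainComplex X.Modules ℤ) (Q : CochainComplex Y.Modules ℤ)
    (hqP : ∀ i : ℤ, Coh.IsQCoh (P.X i)) (hqQ : ∀ i : ℤ, Coh.IsQCoh (Q.X i))
    (bP : ∃ b : ℤ, ∀ i : ℤ, b < i → IsZero (P.X i)) (bQ : ∃ b : ℤ, ∀ i : ℤ, b < i → IsZero (Q.X i))
    (hP : DCoh.IsCohD (DCoh.toD X P)) (hQ : DCoh.IsCohD (DCoh.toD Y Q))
    [DCoh.HasLpull (pullback.fst f g)] [DCoh.HasLTensorCx ((HTor.pullCx (pullback.snd f g)).obj Q)] :
    DCoh.IsCohD ((DCoh.LTensorCx ((HTor.pullCx (pullback.snd f g)).obj Q)).obj
      ((DCoh.Lpull (pullback.fst f g)).obj (DCoh.toD X P))) := by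
  obtain ⟨b, hb⟩ := bP
  obtain ⟨c, hc⟩ := bQ
  haveI : Flat (pullback.snd f g) := inferInstance
  refine (Groth.Agent.S6498.result _ _ _
    (CohLpull.isCohD_lpull _ hP b (CohLpull.isZero_hd_toD P b hb)) ⟨b, fun i hi => ?_⟩
    (CohLpull.isCohD_pullCx _ Q hQ) ⟨c, CohLpull.isZero_hd_toD _ c fun i hi =>
      (Scheme.Modules.pullback _).map_isZero (hc i hi)⟩).1
  haveI := (DerivedCategory.isLE_iff (DCoh.toD X P) b).2 (CohLpull.isZero_hd_toD P b hb)
  exact (DerivedCategory.isLE_iff _ b).1 (KFlatLib.isLE_lpull (pullback.fst f g) (DCoh.toD X P) b) i hi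

end Groth.Agent.S3542
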