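import Groth.Statements.S3544
import Groth.Agent.H9Misc.SSLength

set_option autoImplicit false
universe u
open HomAlg3

namespace Groth.Agent.S3544

open CategoryTheory CategoryTheory.Limits in
/-- Let E be a cohomological spectral sequence of modules over a ring A, starting at page 2, such that
the E₂ terms have finite length and only finitely many of them (all inside the finite set s of
bidegrees) are nonzero. Then for every r ≥ 2 the Euler–Poincaré characteristic of page r, the
alternating sum over s of (-1)^{p+q} times the length of E_r^{pq}, equals that of page 2. -/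
theorem result {A : Type u} [Ring A]
    (E : E₂CohomologicalSpectralSequence (ModuleCat.{u} A)) (s : Finset (ℤ × ℤ))
    (hs : ∀ pq : ℤ × ℤ, pq ∉ s → IsZero ((E.page 2).X pq))
    (hfl : ∀ pq : ℤ × ℤ, IsFiniteLength A ((E.page 2).X pq)) (r : ℤ) (hr : 2 ≤ r) :
    (s.sum fun pq => (((pq.1 + pq.2).negOnePow : ℤˣ) : ℤ) * ((Module.length A ((E.page r hr).X pq)).toNat : ℤ)) =
      s.sum fun pq => (((pq.1 + pq.2).negOnePow : ℤˣ) : ℤ) * ((Module.length A ((E.page 2).X pq)).toNat : ℤ) := by
  open Groth.Agent.H9Misc.SSLength in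
  exact by
    have key : ∀ k : ℕ, (∀ x, Module.length A ((E.page (2 + k) (by lia)).X x) ≠ ⊤) ∧
        ∑ x ∈ s, sgn x * len (A := A) ((E.page (2 + k) (by lia)).X x) =
          ∑ x ∈ s, sgn x * len (A := A) ((E.page 2 le_rfl).X x) := by
      intro k
      induction k with
      | zero =>
        let e := fun x => (E.pageXIsoOfEq x (2 + ((0 : ℕ) : ℤ)) 2 (by simp) (by lia)).toLinearEquiv.length_eq
        refine ⟨fun x => (e x).trans_ne (Module.length_ne_top_iff.2 (hfl x)), Finset.sum_congr rfl fun x _ => ?_⟩
        simp only [len, e x]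
      | succ k ih =>
        obtain ⟨h₁, h₂⟩ := euler_succ E (2 + k) (by lia) s
          (fun x hx => Groth.Agent.H9Misc.SSBasic.isZero_le E 2 _ le_rfl (by lia) x (hs x hx)) ih.1
        let e := fun x => (E.pageXIsoOfEq x (2 + ((k + 1 : ℕ) : ℤ)) (2 + k + 1) (by omega) (by lia)).toLinearEquiv.length_eq
        refine ⟨fun x => (e x).trans_ne (h₁ x), (Finset.sum_congr rfl fun x _ => ?_).trans (h₂.trans ih.2)⟩
        simp only [len, e x]
    obtain ⟨k, rfl⟩ := Int.le.dest hr
    exact (key k).2

end Groth.Agent.S3544
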