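import Groth.Statements.S3548


set_option autoImplicit false
universe u
open CategoryTheory CategoryTheory.Limits AlgebraicGeometry
open EGA2

namespace Groth.Agent.S3548

/-- Let S be a graded ring, M a graded S-module and X = Proj S. If for every z in M and every
homogeneous f of positive degree some power of f annihilates z, then the O_X-module M~ is zero. -/
theorem result {R A : Type u} [CommRing R] [CommRing A] [Algebra R A] (𝒜 : ℕ → Submodule R A) [GradedAlgebra 𝒜]
    {M : Type u} [AddCommGroup M] [Module R M] [Module A M] [IsScalarTower R A M] (ℳ : ℕ → Submodule R M) [DirectSum.Decomposition ℳ] [SetLike.GradedSMul 𝒜 ℳ]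
    (h : ∀ (z : M) (d : ℕ) (f : A), 0 < d → f ∈ 𝒜 d → ∃ k : ℕ, f ^ k • z = 0) :
    IsZero (GrTilde.tilde 𝒜 ℳ 0) := by
  have key : ∀ (x : ProjectiveSpectrum 𝒜) (q : GrTilde.LocMod 𝒜 (M := M) x), q = 0 := by
    intro x q
    obtain ⟨⟨z, s⟩, rfl⟩ := Quotient.exists_rep q
    obtain ⟨f, hf, hfx⟩ := SetLike.not_le_iff_exists.1 x.not_irrelevant_le
    classical
    obtain ⟨d, hd⟩ : ∃ d, (DirectSum.decompose 𝒜 f d : A) ∉ x.asHomogeneousIdeal := by
      by_contra hall
      push_neg at hall
      exact hfx (by rw [← DirectSum.sum_support_decompose 𝒜 f]; exact Ideal.sum_mem _ fun i _ => hall i)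
    have hd0 : 0 < d := by
      rcases Nat.eq_zero_or_pos d with rfl | h0
      · exfalso
        apply hd
        rw [show (DirectSum.decompose 𝒜 f 0 : A) = 0 from hf]
        exact zero_mem _
      · exact h0
    obtain ⟨k, hk⟩ := h z d _ hd0 (SetLike.coe_mem (DirectSum.decompose 𝒜 f d))
    change LocalizedModule.mk z s = 0
    rw [← LocalizedModule.zero_mk 1]
    refine LocalizedModule.mk_eq.2 ⟨⟨_, x.asHomogeneousIdeal.toIdeal.primeCompl.pow_mem hd k⟩, ?_⟩
    simp only [Submonoid.smul_def, OneMemClass.coe_one, one_smul, smul_zero]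
    exact hk
  rw [IsZero.iff_id_eq_zero]
  apply Scheme.Modules.hom_ext
  intro U
  ext s
  apply Subtype.ext
  funext x
  apply Subtype.ext
  exact (key x.1 _).trans (key x.1 _).symm

end Groth.Agent.S3548
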