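import Groth.Statements.S3549
import Groth.Agent.GrModX.Finite

set_option autoImplicit false
universe u
open CategoryTheory CategoryTheory.Limits AlgebraicGeometry
open EGA2

namespace Groth.Agent.S3549

/-- Let S be a graded ring whose irrelevant ideal S_+ is generated by the degree-one elements, M a
graded S-module and X = Proj S. If the O_X-module M~ is zero, then for every z in M and every
homogeneous f of positive degree some power of f annihilates z. -/
theorem result {R A : Type u} [CommRing R] [CommRing A] [Algebra R A] (𝒜 : ℕ → Submodule R A) [GradedAlgebra 𝒜]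
    (hgen : (HomogeneousIdeal.irrelevant 𝒜).toIdeal = Ideal.span (𝒜 1 : Set A))
    {M : Type u} [AddCommGroup M] [Module R M] [Module A M] [IsScalarTower R A M] (ℳ : ℕ → Submodule R M) [DirectSum.Decomposition ℳ] [SetLike.GradedSMul 𝒜 ℳ]
    (h : IsZero (GrTilde.tilde 𝒜 ℳ 0)) (z : M) (d : ℕ) (f : A) (hd : 0 < d) (hf : f ∈ 𝒜 d) :
    ∃ k : ℕ, f ^ k • z = 0 := by
  exact GrModX.exists_pow_smul_of_isZero 𝒜 ℳ hgen h z (HomogeneousIdeal.mem_irrelevant_of_mem 𝒜 hd hf)

end Groth.Agent.S3549
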