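import Groth.Statements.S3550
import Groth.Agent.ProjGamma.Iso

set_option autoImplicit false
set_option synthInstance.maxHeartbeats 400000
set_option maxHeartbeats 800000
universe u
open CategoryTheory CategoryTheory.Limits AlgebraicGeometry
open EGA2

namespace Groth.Agent.S3550

/-- Let S be a graded ring whose irrelevant ideal S_+ is generated by finitely many elements of degree
one, and X = Proj S. Then every quasi-coherent O_X-module F is isomorphic to M~ for some graded
S-module M (graded in nonnegative degrees). -/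
theorem result {R A : Type u} [CommRing R] [CommRing A] [Algebra R A] (𝒜 : ℕ → Submodule R A) [GradedAlgebra 𝒜]
    (s : Finset A) (hs1 : ∀ f ∈ s, f ∈ 𝒜 1)
    (hs : (HomogeneousIdeal.irrelevant 𝒜).toIdeal = Ideal.span (s : Set A))
    (F : (Proj 𝒜).Modules) (hF : Coh.IsQCoh F) :
    ∃ (M : Type u) (_ : AddCommGroup M) (_ : Module R M) (_ : Module A M) (_ : IsScalarTower R A M)
      (ℳ : ℕ → Submodule R M) (_ : DirectSum.Decomposition ℳ) (_ : SetLike.GradedSMul 𝒜 ℳ),
      Nonempty (GrTilde.tilde 𝒜 ℳ 0 ≅ F) := by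
  have hcov : ∀ y : Proj 𝒜, ∃ i : (s : Set A), y ∈ Groth.Agent.ProjGamma.D 𝒜 (fun i : (s : Set A) => i.1) i := fun y => by
    by_contra! h
    refine y.not_irrelevant_le (show (HomogeneousIdeal.irrelevant 𝒜).toIdeal ≤ y.asHomogeneousIdeal.toIdeal from ?_)
    rw [hs, Ideal.span_le]
    intro a ha
    by_contra h'
    exact h ⟨a, ha⟩ h'
  obtain ⟨e⟩ := Groth.Agent.ProjGamma.nonempty_iso_gamma (fun i : (s : Set A) => hs1 i.1 i.2) hF hcov
  exact ⟨Groth.Agent.ProjGamma.gamma 𝒜 (fun i : (s : Set A) => hs1 i.1 i.2) F, inferInstance, inferInstance, inferInstance,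
    inferInstance, Groth.Agent.ProjGamma.grade 𝒜 (fun i : (s : Set A) => hs1 i.1 i.2) F, inferInstance, inferInstance,
    ⟨e⟩⟩

end Groth.Agent.S3550
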