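import Groth.Statements.S3554
import Groth.Agent.ProjQX.AwayBC
import Mathlib.AlgebraicGeometry.ProjectiveSpectrum.Functor
import Mathlib.AlgebraicGeometry.Morphisms.Basic
import Mathlib.AlgebraicGeometry.Morphisms.IsIso
import Mathlib.AlgebraicGeometry.PullbackCarrier

set_option backward.isDefEq.respectTransparency false
set_option backward.isDefEq.respectTransparency.types false
set_option linter.style.haveILetI false

set_option autoImplicit false
universe u
open CategoryTheory CategoryTheory.Limits AlgebraicGeometry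
open EGA2

namespace Groth.Agent.S3554

open Groth.Agent.ProjQX

theorem isPullback_of_cover {P P' Y Y' : Scheme.{u}} {h : P' ⟶ P} {p' : P' ⟶ Y'} {p : P ⟶ Y} {g : Y' ⟶ Y}
    (comm : h ≫ p = p' ≫ g)
    (H : ∀ x : P, ∃ (Z W : Scheme.{u}) (a : Z ⟶ P) (c : W ⟶ P') (φ : W ⟶ Z), IsOpenImmersion a ∧ x ∈ Set.range a ∧
      IsPullback φ c a h ∧ IsPullback φ (c ≫ p') (a ≫ p) g) :
    IsPullback h p' p g := by
  choose Z W a c φ hopen hmem hl ho using H
  let j : ∀ x, pullback (a x ≫ p) g ⟶ pullback p g := fun x =>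
    pullback.map (a x ≫ p) g p g (a x) (𝟙 _) (𝟙 _) (by simp) (by simp)
  have hj : ∀ x, IsPullback (pullback.fst (a x ≫ p) g) (j x) (a x) (pullback.fst p g) := fun x =>
    IsPullback.of_bot (by simpa [j] using IsPullback.of_hasPullback (a x ≫ p) g) (by simp [j])
      (IsPullback.of_hasPullback p g)
  have hjo : ∀ x, IsOpenImmersion (j x) := fun x =>
    MorphismProperty.of_isPullback (P := @IsOpenImmersion) (hj x) (hopen x)
  refine IsPullback.of_iso_pullback ⟨comm⟩ (@asIso _ _ _ _ (pullback.lift h p' comm) ?_)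
    (pullback.lift_fst _ _ _) (pullback.lift_snd _ _ _)
  show MorphismProperty.isomorphisms Scheme.{u} (pullback.lift h p' comm)
  refine IsZariskiLocalAtTarget.of_iSup_eq_top (P := MorphismProperty.isomorphisms Scheme.{u})
    (fun x => haveI := hjo x; (j x).opensRange) ?_ fun x => ?_
  · refine top_le_iff.mp fun t _ => TopologicalSpace.Opens.mem_iSup.mpr ⟨pullback.fst p g t, ?_⟩
    obtain ⟨z, hz⟩ := hmem (pullback.fst p g t)
    obtain ⟨w, -, hw⟩ := Scheme.exists_preimage_of_isPullback (hj (pullback.fst p g t)) z t hz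
    exact ⟨w, hw⟩
  haveI := hjo x
  let e := (ho x).isoPullback
  have hcomm : e.hom ≫ j x = c x ≫ pullback.lift h p' comm :=
    pullback.hom_ext (by simp [e, j, (hl x).w]) (by simp [e, j])
  have h2 : IsPullback e.hom (c x) (j x) (pullback.lift h p' comm) :=
    IsPullback.of_right (by simpa [e] using hl x) hcomm (hj x)
  have : IsIso (pullback.snd (pullback.lift h p' comm) (j x)) := by
    rw [← h2.flip.isoPullback_inv_snd]
    infer_instance
  exact (MorphismProperty.arrow_mk_iso_iff (MorphismProperty.isomorphisms Scheme.{u})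
    (morphismRestrictOpensRange _ _)).2 this

/-- Let A' → A be a ring homomorphism, S' a graded A'-algebra and S = S' ⊗_{A'} A with the induced
grading (here: any graded A-algebra S with a graded homomorphism S' → S exhibiting S as the base
change of S'). Then the square formed by Proj S → Proj S', the structure morphisms to Spec A and
Spec A', and Spec A → Spec A' is cartesian. -/
theorem result {R R' A B : Type u} [CommRing R'] [CommRing R] [Algebra R' R]
    [CommRing B] [Algebra R' B] (ℬ : ℕ → Submodule R' B) [GradedAlgebra ℬ]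
    [CommRing A] [Algebra R A] [Algebra R' A] [IsScalarTower R' R A] (𝒜 : ℕ → Submodule R A) [GradedAlgebra 𝒜]
    [Algebra B A] [IsScalarTower R' B A] [Algebra.IsPushout R' R B A]
    (φ : ℬ →+*ᵍ 𝒜) (hφA : ∀ b : B, φ b = algebraMap B A b)
    (hφ : HomogeneousIdeal.irrelevant 𝒜 ≤ (HomogeneousIdeal.irrelevant ℬ).map φ) :
    IsPullback (Proj.map φ hφ)
      (Proj.toSpecZero 𝒜 ≫ Spec.map (CommRingCat.ofHom (algebraMap R (𝒜 0))))
      (Proj.toSpecZero ℬ ≫ Spec.map (CommRingCat.ofHom (algebraMap R' (ℬ 0))))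
      (Spec.map (CommRingCat.ofHom (algebraMap R' R))) := by
  have hA : ∀ r, algebraMap R' B r ∈ ℬ 0 := fun r => SetLike.algebraMap_mem_graded ℬ r
  have hB : ∀ r, algebraMap R A r ∈ 𝒜 0 := fun r => SetLike.algebraMap_mem_graded 𝒜 r
  have hφ' : ∀ r, φ (algebraMap R' B r) = algebraMap R' A r := fun r => by
    rw [hφA, ← IsScalarTower.algebraMap_apply]
  have hpo : Algebra.IsPushout R' R B A := inferInstance
  have hΦ : Function.Bijective (AwayBC.Φ (R' := R) φ hφ') := by
    have he : ∀ x, AwayBC.Φ (R' := R) φ hφ' x = hpo.out.equiv x := by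
      intro x
      induction x using TensorProduct.induction_on with
      | zero => simp
      | tmul r a => rw [AwayBC.Φ_tmul, IsBaseChange.equiv_tmul, Algebra.smul_def, hφA]; rfl
      | add x y hx hy => simp only [map_add, hx, hy]
    exact (funext he : ⇑(AwayBC.Φ (R' := R) φ hφ') = hpo.out.equiv) ▸ hpo.out.equiv.bijective
  have hsA : ∀ (f : B) {d : ℕ} (hf : f ∈ ℬ d) (hd : 0 < d),
      Proj.awayι ℬ f hf hd ≫ Proj.toSpecZero ℬ ≫ Spec.map (CommRingCat.ofHom (algebraMap R' (ℬ 0))) =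
        Spec.map (CommRingCat.ofHom (AwayBC.strA hA)) := fun f d hf hd => by
    rw [Proj.awayι_toSpecZero_assoc, ← Spec.map_comp]
    rfl
  have hsB : ∀ (f : B) {d : ℕ} (hf : f ∈ ℬ d) (hd : 0 < d),
      Proj.awayι 𝒜 (φ f) (φ.2 hf) hd ≫ Proj.toSpecZero 𝒜 ≫ Spec.map (CommRingCat.ofHom (algebraMap R (𝒜 0))) =
        Spec.map (CommRingCat.ofHom (AwayBC.strB (f := f) φ hB)) := fun f d hf hd => by
    rw [Proj.awayι_toSpecZero_assoc, ← Spec.map_comp]
    rfl
  have hout : ∀ (f : B) {d : ℕ} (hf : f ∈ ℬ d),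
      IsPullback (Spec.map (CommRingCat.ofHom (HomogeneousLocalization.Away.map φ f)))
        (Spec.map (CommRingCat.ofHom (AwayBC.strB (f := f) φ hB))) (Spec.map (CommRingCat.ofHom (AwayBC.strA hA)))
        (Spec.map (CommRingCat.ofHom (algebraMap R' R))) := fun f d hf =>
    (isPullback_SpecMap_of_isPushout _ _ _ _ (AwayBC.isPushout φ hA hB hφ' hΦ hf)).flip
  refine isPullback_of_cover ?_ fun x => ?_
  · refine (Proj.mapAffineOpenCover φ hφ).openCover.hom_ext _ _ fun i => ?_
    show Proj.awayι 𝒜 (φ i.2) _ i.1.2 ≫ _ = Proj.awayι 𝒜 (φ i.2) _ i.1.2 ≫ _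
    rw [reassoc_of% (Proj.awayι_comp_map φ hφ i.1.2 i.2.1 i.2.2), hsA _ i.2.2 i.1.2]
    simp only [Category.assoc]
    erw [reassoc_of% (hsB _ i.2.2 i.1.2)]
    exact (hout _ i.2.2).w
  obtain ⟨i, w, hx⟩ := (Proj.affineOpenCover ℬ).openCover.exists_eq x
  obtain ⟨⟨d, hd⟩, f, hf⟩ := i
  have hx : x ∈ Proj.basicOpen ℬ f := (Proj.opensRange_awayι ℬ f hf hd).le ⟨w, hx⟩
  refine ⟨_, _, Proj.awayι ℬ f hf hd, Proj.awayι 𝒜 (φ f) (φ.2 hf) hd,
    Spec.map (CommRingCat.ofHom (HomogeneousLocalization.Away.map φ f)), inferInstance,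
    (Proj.opensRange_awayι ℬ f hf hd).ge hx, ?_, ?_⟩
  · refine IsOpenImmersion.isPullback _ _ _ _ (Proj.awayι_comp_map φ hφ hd f hf) ?_
    rw [Proj.opensRange_awayι, Proj.opensRange_awayι, Proj.map_preimage_basicOpen]
  · rw [hsA f hf hd, hsB f hf hd]
    exact hout f hf

end Groth.Agent.S3554
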