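import Groth.Statements.S3557
import Groth.Agent.Proj16.Map

set_option autoImplicit false
universe u
open CategoryTheory CategoryTheory.Limits AlgebraicGeometry
open EGA2

namespace Groth.Agent.S3557

/-- Let S be a graded ring which is essentially reduced (S_+ contains no nonzero nilpotent). Then Proj S
is an integral scheme if and only if S is essentially integral, i.e. S_+ is nonzero and the product
of two nonzero elements of S_+ is nonzero. -/
theorem result {R A : Type u} [CommRing R] [CommRing A] [Algebra R A] (𝒜 : ℕ → Submodule R A) [GradedAlgebra 𝒜]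
    (hred : ∀ f ∈ (HomogeneousIdeal.irrelevant 𝒜).toIdeal, IsNilpotent f → f = 0) :
    AlgebraicGeometry.IsIntegral (Proj 𝒜) ↔
      ((∃ f ∈ (HomogeneousIdeal.irrelevant 𝒜).toIdeal, f ≠ 0) ∧
        ∀ f ∈ (HomogeneousIdeal.irrelevant 𝒜).toIdeal, ∀ g ∈ (HomogeneousIdeal.irrelevant 𝒜).toIdeal,
          f * g = 0 → f = 0 ∨ g = 0) := by
  exact Groth.Agent.Proj16.isIntegral_proj_iff 𝒜 hred

end Groth.Agent.S3557
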