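import Groth.Statements.S3560
import Groth.Agent.Proj16.Points

set_option autoImplicit false
universe u
open CategoryTheory CategoryTheory.Limits AlgebraicGeometry
open EGA2

namespace Groth.Agent.S3560

/-- Let S be a graded ring whose irrelevant ideal S_+ is finitely generated. Then Proj S is empty if and
only if there is n such that S_k = 0 for all k ≥ n. -/
theorem result {R A : Type u} [CommRing R] [CommRing A] [Algebra R A] (𝒜 : ℕ → Submodule R A) [GradedAlgebra 𝒜]
    (hfg : (HomogeneousIdeal.irrelevant 𝒜).toIdeal.FG) :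
    IsEmpty (Proj 𝒜) ↔ ∃ n : ℕ, ∀ k : ℕ, n ≤ k → 𝒜 k = ⊥ := by
  constructor
  · intro h
    have hnil := (Groth.Agent.Proj16.isEmpty_iff_forall_isNilpotent 𝒜).mp h
    have hle : (HomogeneousIdeal.irrelevant 𝒜).toIdeal ≤ (⊥ : Ideal A).radical :=
      fun f hf ↦ mem_nilradical.mpr (hnil f hf)
    obtain ⟨N, hN⟩ := Ideal.exists_pow_le_of_le_radical_of_fg hle hfg
    have := (Groth.Agent.Proj16.irrelevant_fg_iff 𝒜).mp hfg
    obtain ⟨m₀, hm⟩ := Groth.Agent.Proj16.exists_mem_irrelevant_pow 𝒜 N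
    exact ⟨m₀, fun k hk ↦ (Submodule.eq_bot_iff _).mpr fun x hx ↦ by simpa using hN (hm k hk x hx)⟩
  · rintro ⟨n, hn⟩
    refine (Groth.Agent.Proj16.isEmpty_iff_forall_isNilpotent 𝒜).mpr fun f hf ↦ ?_
    refine mem_nilradical.mp (Groth.Agent.Proj16.mem_of_forall_proj_mem 𝒜 fun i ↦ ?_)
    rcases i.eq_zero_or_pos with rfl | hi
    · rw [(HomogeneousIdeal.mem_irrelevant_iff 𝒜 f).mp hf]; exact zero_mem _
    refine mem_nilradical.mpr ⟨n, ?_⟩
    have := SetLike.pow_mem_graded n (Groth.Agent.Proj16.proj_mem 𝒜 i f)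
    rw [hn (n • i) (Nat.le_mul_of_pos_right n hi)] at this
    simpa using this

end Groth.Agent.S3560
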