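import Groth.Statements.S3568
import Groth.Agent.Proj16.NormalExt
import Groth.Agent.MorLib.UnivHomeo

set_option autoImplicit false
universe u
open CategoryTheory CategoryTheory.Limits AlgebraicGeometry
open EGA2

namespace Groth.Agent.S3568

/-- Let U be an integral scheme, V a normal integral scheme (all local rings integrally closed domains)
and h : U → V a morphism which is universally closed, radicial (universally injective) and
birational (it sends the generic point of U to that of V and induces an isomorphism of the residue
fields there). Then h is an isomorphism. (The source assumes only V normal; integrality of V, needed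
here to speak of its generic point, follows from the other hypotheses.) -/
theorem result {U V : Scheme.{u}} [AlgebraicGeometry.IsIntegral U] [AlgebraicGeometry.IsIntegral V]
    (hN : Pi1.IsNormalScheme V) (h : U ⟶ V) [UniversallyClosed h]
    [UniversallyInjective h] (hgen : h.base (genericPoint U) = genericPoint V)
    (hbir : Function.Bijective (h.residueFieldMap (genericPoint U)).hom) :
    IsIso h := by
  have : Surjective h := by
    refine ⟨Set.range_eq_univ.mp (Set.univ_subset_iff.mp ?_)⟩
    rw [← genericPoint_spec V]
    exact closure_minimal (Set.singleton_subset_iff.mpr ⟨_, hgen⟩) h.isClosedMap.isClosed_range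
  have : IsIntegralHom h := Groth.Agent.MorLib.isIntegralHom_of_isUnivHomeo
    (Groth.Agent.MorLib.isUnivHomeo_of_universallyClosed h)
  have : IsIso (h.residueFieldMap (genericPoint U)) :=
    (ConcreteCategory.isIso_iff_bijective _).mpr hbir
  obtain ⟨d, hd⟩ : ∃ d : Spec V.functionField ⟶ Spec (V.residueField (h (genericPoint U))),
      d ≫ V.fromSpecResidueField _ = V.fromSpecStalk (genericPoint V) := by
    have he : V.fromSpecStalk (genericPoint V) (IsLocalRing.closedPoint V.functionField) =
        h (genericPoint U) := hgen.symm ▸ V.fromSpecStalk_closedPoint
    rw [← he]
    exact ⟨_, Scheme.descResidueField_stalkClosedPointTo_fromSpecResidueField V.functionField V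
      (V.fromSpecStalk (genericPoint V))⟩
  refine Groth.Agent.Proj16.isIso_of_isIntegralHom hN h
    (d ≫ inv (Spec.map (h.residueFieldMap (genericPoint U))) ≫
      U.fromSpecResidueField (genericPoint U)) ?_
  simp only [Category.assoc]
  rw [← Scheme.Hom.SpecMap_residueFieldMap_fromSpecResidueField, IsIso.inv_hom_id_assoc, hd]

end Groth.Agent.S3568
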