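import Groth.Statements.S3570
import Groth.Agent.RelSpecX.AffHom

set_option autoImplicit false
universe u
open CategoryTheory CategoryTheory.Limits AlgebraicGeometry
open EGA2

namespace Groth.Agent.S3570

/-- Let f : X → S and g : Y → S be affine morphisms and h : Y → X an S-morphism. Then h is an
isomorphism if and only if A(h) : f_*O_X → g_*O_Y is an isomorphism (of presheaves of rings on S). -/
theorem result {X Y S : Scheme.{u}} (f : X ⟶ S) [IsAffineHom f] (g : Y ⟶ S)
    [IsAffineHom g] (h : Y ⟶ X) (w : h ≫ f = g) :
    IsIso h ↔ IsIso (AffAlg.algHom f g h w) := by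
  exact RelSpecX.isIso_iff f g h w

end Groth.Agent.S3570
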