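import Groth.Statements.S3575
import Groth.Agent.Proj16.ConeData

set_option backward.isDefEq.respectTransparency false
set_option backward.isDefEq.respectTransparency.types false
set_option linter.style.haveILetI false

set_option autoImplicit false
universe u
open CategoryTheory CategoryTheory.Limits AlgebraicGeometry
open EGA2

namespace Groth.Agent.S3575

/-- Let S be a commutative ℕ-graded R-algebra, E the pointed affine cone (the open complement of the
vertex V(S_+) in Spec S) and X = Proj S, and let π : E → X be the canonical retraction,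
characterised (hypothesis hπ) by its agreement on each chart Spec S_f → E, f homogeneous of positive
degree, with Spec of S_(f) → S_f followed by the standard open immersion Spec S_(f) → X. Then π is
an affine and surjective morphism; the inverse image under π of D_+(f) is the open D(f) ∩ E = D(f)
of E for every homogeneous f of positive degree; and π sends a point of E, a prime p of S not
containing S_+, to the homogeneous prime whose homogeneous elements are those of p. -/
theorem result {R A : Type u} [CommRing R] [CommRing A] [Algebra R A] (𝒜 : ℕ → Submodule R A) [GradedAlgebra 𝒜]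
    (π : (Cone.pointed 𝒜 : Scheme.{u}) ⟶ Proj 𝒜)
    (hπ : ∀ (d : ℕ) (f : A) (hd : 0 < d) (hf : f ∈ 𝒜 d),
        Cone.chart hf hd ≫ π =
          Spec.map (CommRingCat.ofHom (algebraMap (HomogeneousLocalization.Away 𝒜 f) (Localization.Away f))) ≫
            Proj.awayι 𝒜 f hf hd) :
    IsAffineHom π ∧ Surjective π ∧
      (∀ (d : ℕ) (f : A), 0 < d → f ∈ 𝒜 d →
        π ⁻¹ᵁ Proj.basicOpen 𝒜 f = (Cone.pointed 𝒜).ι ⁻¹ᵁ Cone.coneOpen f) ∧
      ∀ p : (Cone.pointed 𝒜 : Scheme.{u}),
        (π.base p).asHomogeneousIdeal = (((Cone.pointed 𝒜).ι.base p).asIdeal).homogeneousCore 𝒜 := by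
  classical
  open Groth.Agent.Proj16 in
  obtain rfl : π = (coneData 𝒜).map := (coneData 𝒜).eq_map hπ
  open Groth.Agent.Proj16 in
  have hpre : ∀ {d : ℕ} {f : A} (hf : f ∈ 𝒜 d) (hd : 0 < d),
      (coneData 𝒜).map ⁻¹ᵁ Proj.basicOpen 𝒜 f = ((coneData 𝒜).chart hf hd).opensRange := by
    intro d f hf hd
    refine (coneData 𝒜).preimage_basicOpen (fun {d e f g} hf hd hg he z hz ↦ ?_) hf hd
    refine (cone_range_chart 𝒜 hf hd).ge ?_
    have h1 : ((Cone.pointed 𝒜).ι (Cone.chart hg he z)) =
        PrimeSpectrum.comap (algebraMap A (Localization.Away g)) z := by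
      rw [← Scheme.Hom.comp_apply, Cone.chart, IsOpenImmersion.lift_fac]
      rfl
    show f ∉ ((Cone.pointed 𝒜).ι (Cone.chart hg he z)).asIdeal
    rw [h1]
    intro hfz
    change algebraMap A (Localization.Away g) f ∈ z.asIdeal at hfz
    apply hz
    show algebraMap (HomogeneousLocalization.Away 𝒜 g) (Localization.Away g)
      (HomogeneousLocalization.Away.isLocalizationElem hg hf) ∈ z.asIdeal
    rw [HomogeneousLocalization.algebraMap_apply, HomogeneousLocalization.Away.val_mk, Localization.mk_eq_mk',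
      IsLocalization.mk'_eq_mul_mk'_one, map_pow]
    exact z.asIdeal.mul_mem_right _ (Ideal.pow_mem_of_mem _ hfz _ he)
  open Groth.Agent.Proj16 in
  have hopen : ∀ (d : ℕ) (f : A), 0 < d → f ∈ 𝒜 d →
      (coneData 𝒜).map ⁻¹ᵁ Proj.basicOpen 𝒜 f = (Cone.pointed 𝒜).ι ⁻¹ᵁ Cone.coneOpen f := fun d f hd hf ↦ by
    rw [hpre hf hd]
    exact TopologicalSpace.Opens.ext (cone_range_chart 𝒜 hf hd)
  open Groth.Agent.Proj16 in
  have hcore : ∀ z : (Cone.pointed 𝒜 : Scheme.{u}),
      ((coneData 𝒜).map z).asHomogeneousIdeal = ((Cone.pointed 𝒜).ι z).asIdeal.homogeneousCore 𝒜 := fun z ↦ by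
    set x := (coneData 𝒜).map z
    set P := ((Cone.pointed 𝒜).ι z).asIdeal with hP
    have hpos : ∀ (d : ℕ) (g : A), 0 < d → g ∈ 𝒜 d → (g ∈ x.asHomogeneousIdeal ↔ g ∈ P) := fun d g hd hg ↦ by
      have h1 := congrArg (fun O : (Cone.pointed 𝒜 : Scheme.{u}).Opens ↦ z ∈ O) (hopen d g hd hg)
      exact not_iff_not.1 (Iff.of_eq h1)
    refine HomogeneousIdeal.ext' fun i g hg ↦ ?_
    have hcore' : g ∈ P.homogeneousCore 𝒜 ↔ g ∈ P :=
      ⟨fun h ↦ Ideal.homogeneousCore'_le 𝒜 P h, Ideal.mem_homogeneousCore_of_homogeneous_of_mem ⟨i, hg⟩⟩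
    rw [hcore']
    by_cases hi : 0 < i
    · exact hpos i g hi hg
    obtain rfl : i = 0 := by omega
    obtain ⟨d, f, hd, hf, hfx⟩ := exists_homogeneous_notMem 𝒜 (I := x.asHomogeneousIdeal.toIdeal) x.not_irrelevant_le
    have hgf : g * f ∈ 𝒜 d := by simpa using SetLike.mul_mem_graded hg hf
    have h2 := hpos d (g * f) hd hgf
    have hfP : f ∉ P := fun h ↦ hfx ((hpos d f hd hf).2 h)
    constructor
    · intro h
      exact (((Cone.pointed 𝒜).ι z).isPrime.mem_or_mem (h2.1 (Ideal.mul_mem_right _ _ h))).resolve_right hfP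
    · intro h
      exact (x.isPrime.mem_or_mem (h2.2 (Ideal.mul_mem_right _ _ h))).resolve_right hfx
  refine ⟨(Groth.Agent.Proj16.coneData 𝒜).isAffineHom_map hpre, ⟨fun x ↦ ?_⟩, hopen, hcore⟩
  let z : (Cone.pointed 𝒜 : Scheme.{u}) :=
    ⟨⟨x.asHomogeneousIdeal.toIdeal, x.isPrime⟩, fun h ↦ x.not_irrelevant_le h⟩
  refine ⟨z, ProjectiveSpectrum.ext ?_⟩
  rw [hcore z]
  exact HomogeneousIdeal.toIdeal_injective x.asHomogeneousIdeal.isHomogeneous.toIdeal_homogeneousCore_eq_self

end Groth.Agent.S3575
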