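import Groth.Statements.S3576
import Groth.Agent.ConeFib17.Fibre

set_option backward.isDefEq.respectTransparency false
set_option backward.isDefEq.respectTransparency.types false
set_option linter.style.haveILetI false

set_option autoImplicit false
universe u
open CategoryTheory CategoryTheory.Limits AlgebraicGeometry
open EGA2

namespace Groth.Agent.S3576

/-- Over an affine base Spec R: let S be a graded R-algebra whose irrelevant ideal is generated by its
degree-one elements, E the pointed affine cone of S and π : E → X = Proj S the canonical retraction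
(the morphism restricting on each chart D(f), f homogeneous of positive degree, to Spec S_f → Spec
S_(f) → Proj S). Then π is of finite type, and for every point x of X the fibre of π at x is
isomorphic over the residue field κ(x) to Spec κ(x)[T, T⁻¹]. -/
theorem result {R A : Type u} [CommRing R] [CommRing A] [Algebra R A] (𝒜 : ℕ → Submodule R A) [GradedAlgebra 𝒜]
    (hgen : (HomogeneousIdeal.irrelevant 𝒜).toIdeal = Ideal.span (𝒜 1 : Set A))
    (π : (Cone.pointed 𝒜 : Scheme.{u}) ⟶ Proj 𝒜)
    (hπ : ∀ (d : ℕ) (f : A) (hd : 0 < d) (hf : f ∈ 𝒜 d),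
        Cone.chart hf hd ≫ π =
          Spec.map (CommRingCat.ofHom (algebraMap (HomogeneousLocalization.Away 𝒜 f) (Localization.Away f))) ≫
            Proj.awayι 𝒜 f hf hd)
    (x : Proj 𝒜) :
    LocallyOfFiniteType π ∧ QuasiCompact π ∧
      ∃ e : pullback π ((Proj 𝒜).fromSpecResidueField x) ≅
          Spec (CommRingCat.of (LaurentPolynomial ((Proj 𝒜).residueField x))),
        e.hom ≫ Spec.map (CommRingCat.ofHom (algebraMap ((Proj 𝒜).residueField x)
          (LaurentPolynomial ((Proj 𝒜).residueField x)))) = pullback.snd π ((Proj 𝒜).fromSpecResidueField x) := by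
  obtain rfl : π = (Groth.Agent.Proj16.coneData 𝒜).map := (Groth.Agent.Proj16.coneData 𝒜).eq_map hπ
  have hpre := @Groth.Agent.ConeFib17.coneData_preimage R A _ _ _ 𝒜 _
  have hbij : ∀ f ∈ 𝒜 1, ∃ e : LaurentPolynomial (HomogeneousLocalization.Away 𝒜 f) ≃+* Localization.Away f,
      ∀ r, e (LaurentPolynomial.C r) = algebraMap (HomogeneousLocalization.Away 𝒜 f) (Localization.Away f) r :=
    fun f hf ↦ ⟨RingEquiv.ofBijective _ (Groth.Agent.ConeFib17.fromLaurent_bijective hf),
      fun r ↦ LaurentPolynomial.eval₂_C _ _ r⟩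
  obtain ⟨hlft, hqc⟩ := Groth.Agent.ConeFib17.isAffine_lft (Groth.Agent.Proj16.coneData 𝒜)
    (fun {d f} hf hd ↦ hpre hf hd) hgen fun f hf ↦ by
      obtain ⟨e, he⟩ := hbij f hf
      exact Groth.Agent.ConeFib17.finiteType_of_equiv inferInstance _ e he
  refine ⟨hlft, hqc, ?_⟩
  obtain ⟨f, hf, hx⟩ := Groth.Agent.ConeFib17.exists_mem_degOne hgen x
  obtain ⟨e, he⟩ := hbij f hf
  refine Groth.Agent.ConeFib17.exists_fibre_iso _ _ (Proj.awayι 𝒜 f hf one_pos) _
    (Groth.Agent.ConeFib17.isPullback_chart (Groth.Agent.Proj16.coneData 𝒜) (fun {d f} hf hd ↦ hpre hf hd) hf one_pos)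
    (by rw [← Scheme.Hom.coe_opensRange, Proj.opensRange_awayι]; exact hx) _ _
    fun ρ ↦ Groth.Agent.ConeFib17.exists_pushout_laurent _ e he ρ

end Groth.Agent.S3576
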