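import Groth.Statements.S3577
import Groth.Agent.NormAmpleX.Normal
import Groth.Agent.AmpleX.Comp
import Groth.Agent.QCoh.LocFree

set_option autoImplicit false
universe u
open CategoryTheory CategoryTheory.Limits AlgebraicGeometry
open EGA2

namespace Groth.Agent.S3577

/-- Let Y be an affine scheme, X a Noetherian reduced scheme, f : X → Y a quasi-compact morphism and g :
X' → X a finite surjective morphism. Assume that at every point x of X either the local ring of X at
x is an integrally closed domain, or the direct image of the structure sheaf of X' is locally free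
on some open neighbourhood of x. Then an invertible O_X-module L is ample relative to f if and only
if its inverse image on X' is ample relative to f ∘ g. -/
theorem result {X X' Y : Scheme.{u}} [IsAffine Y]
    [IsNoetherian X] [IsReduced X] (f : X ⟶ Y) [QuasiCompact f] (g : X' ⟶ X) [IsFinite g] [Surjective g]
    (hW : ∀ x : X, (IsDomain (X.presheaf.stalk x) ∧ IsIntegrallyClosed (X.presheaf.stalk x)) ∨
      ∃ T : X.Opens, x ∈ T ∧ FlatMod.IsFinLocFree (((Coh.push g).obj (Coh.structureModule X')).restrict T.ι))
    (L : X.Modules) (hL : PicF.IsInvertible L) :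
    RelAmple.IsRelAmple f L ↔ RelAmple.IsRelAmple (g ≫ f) ((Scheme.Modules.pullback g).obj L) := by
  refine ⟨fun h => ?_, fun h => ?_⟩
  · refine Groth.Agent.AmpleX.isRelAmple_pullback_quasiAffine f g ⟨inferInstance, fun V hV => ?_⟩ h
    haveI : IsAffine (g ⁻¹ᵁ V : Scheme) := hV.preimage g
    infer_instance
  · have hG : (genericPoints (X : Type u)).Finite :=
      genericPoints.finite TopologicalSpace.NoetherianSpace.finite_irreducibleComponents
    refine Groth.Agent.NormAmpleX.isRelAmple_of_normData f g hL
      (fun V => Groth.Agent.NormAmpleX.nonempty_normData_of_normal hG (fun x => ?_) _) h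
    rcases hW x with h1 | ⟨T, hxT, hT⟩
    · exact Or.inl h1
    · right
      obtain ⟨U, n, hxU, ⟨e⟩⟩ := hT ⟨x, hxT⟩
      let e' : (Groth.Agent.NormAmpleX.pushO g).restrict (T.ι ''ᵁ U).ι ≅
          FlatMod.freeMod (T.ι ''ᵁ U : Scheme.{u}) n :=
        (Scheme.Modules.restrictFunctorCongr (show (T.ι ''ᵁ U).ι = ((T.ι.isoImage U).inv ≫ U.ι) ≫ T.ι by
          rw [Category.assoc, Scheme.Hom.isoImage_inv_ι])).app _ ≪≫
          (Groth.Agent.QCoh.restrictRestrict _ _ _).symm ≪≫
          (Scheme.Modules.restrictFunctorComp (T.ι.isoImage U).inv U.ι).app _ ≪≫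
          (Scheme.Modules.restrictFunctor (T.ι.isoImage U).inv).mapIso e ≪≫
          Groth.Agent.QCoh.freeModRestrict _ n
      obtain ⟨s, hs⟩ := Groth.Agent.H23.Frame.exists_frame e'
      exact ⟨T.ι ''ᵁ U, n, s, ⟨⟨x, hxT⟩, hxU, rfl⟩, hs⟩

end Groth.Agent.S3577
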