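import Groth.Statements.S3578
import Groth.Agent.Proj16.Points

set_option autoImplicit false
universe u
open EGA2

namespace Groth.Agent.S3578

/-- Via the correspondence between closed subsets of Proj S and radical graded ideals of S_+: let S be a
graded ring and Z a closed subset of Proj S, with J = S_+ ∩ (vanishing ideal of Z). Then Z is
irreducible if and only if J is a prime ideal of the ring-without-unit S_+: J ≠ S_+ and a product of
two elements of S_+ lies in J only if one factor does. -/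
theorem result {R A : Type u} [CommRing R] [CommRing A] [Algebra R A] (𝒜 : ℕ → Submodule R A) [GradedAlgebra 𝒜]
    (Z : Set (ProjectiveSpectrum 𝒜)) (hZ : IsClosed Z) :
    IsIrreducible Z ↔
      (¬ (HomogeneousIdeal.irrelevant 𝒜).toIdeal ≤ (ProjectiveSpectrum.vanishingIdeal Z).toIdeal ∧
        ∀ f ∈ (HomogeneousIdeal.irrelevant 𝒜).toIdeal, ∀ g ∈ (HomogeneousIdeal.irrelevant 𝒜).toIdeal,
          f * g ∈ (ProjectiveSpectrum.vanishingIdeal Z).toIdeal →
            f ∈ (ProjectiveSpectrum.vanishingIdeal Z).toIdeal ∨ g ∈ (ProjectiveSpectrum.vanishingIdeal Z).toIdeal) := by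
  have hmem : ∀ {x : ProjectiveSpectrum 𝒜}, x ∈ Z → ∀ {a : A},
      a ∈ (ProjectiveSpectrum.vanishingIdeal Z).toIdeal → a ∈ x.asHomogeneousIdeal :=
    fun hx _ ha ↦ (ProjectiveSpectrum.mem_vanishingIdeal _ _).mp ha _ hx
  constructor
  · intro hirr
    obtain ⟨z, hz⟩ := hirr.nonempty
    refine ⟨fun hle ↦ z.not_irrelevant_le fun a ha ↦ hmem hz (hle ha), fun f _ g _ hfg ↦ ?_⟩
    have hsub : Z ⊆ ProjectiveSpectrum.zeroLocus 𝒜 {f} ∪ ProjectiveSpectrum.zeroLocus 𝒜 {g} := by
      intro x hx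
      rcases x.isPrime.mem_or_mem (hmem hx hfg) with h | h
      · exact Or.inl (Set.singleton_subset_iff.mpr h)
      · exact Or.inr (Set.singleton_subset_iff.mpr h)
    rcases isPreirreducible_iff_isClosed_union_isClosed.mp hirr.isPreirreducible _ _
        (ProjectiveSpectrum.isClosed_zeroLocus 𝒜 _) (ProjectiveSpectrum.isClosed_zeroLocus 𝒜 _)
        hsub with h | h
    · exact Or.inl ((ProjectiveSpectrum.mem_vanishingIdeal _ _).mpr fun x hx ↦
        h hx (Set.mem_singleton f))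
    · exact Or.inr ((ProjectiveSpectrum.mem_vanishingIdeal _ _).mpr fun x hx ↦
        h hx (Set.mem_singleton g))
  · rintro ⟨hne, hprime⟩
    refine ⟨?_, isPreirreducible_iff_isClosed_union_isClosed.mpr fun z₁ z₂ h₁ h₂ hsub ↦ ?_⟩
    · rw [Set.nonempty_iff_ne_empty]
      rintro rfl
      exact hne fun a _ ↦ (ProjectiveSpectrum.mem_vanishingIdeal _ _).mpr fun x hx ↦ hx.elim
    have key : ∀ C : Set (ProjectiveSpectrum 𝒜), IsClosed C → ¬ Z ⊆ C →
        ∃ a ∈ (HomogeneousIdeal.irrelevant 𝒜).toIdeal, (∀ x ∈ C, a ∈ x.asHomogeneousIdeal) ∧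
          a ∉ (ProjectiveSpectrum.vanishingIdeal Z).toIdeal := by
      intro C hC hnot
      obtain ⟨S, rfl⟩ := (ProjectiveSpectrum.isClosed_iff_zeroLocus 𝒜 C).mp hC
      obtain ⟨z, hz, hzC⟩ := Set.not_subset.mp hnot
      obtain ⟨a, haS, haz⟩ := Set.not_subset.mp hzC
      obtain ⟨t, ht, htz⟩ := SetLike.not_le_iff_exists.mp z.not_irrelevant_le
      refine ⟨a * t, Ideal.mul_mem_left _ _ ht, fun x hx ↦ Ideal.mul_mem_right _ _ (hx haS),
        fun h ↦ ?_⟩
      rcases z.isPrime.mem_or_mem (hmem hz h) with h' | h'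
      exacts [haz h', htz h']
    by_contra hcon
    push Not at hcon
    obtain ⟨a, ha, haC, haZ⟩ := key z₁ h₁ hcon.1
    obtain ⟨b, hb, hbC, hbZ⟩ := key z₂ h₂ hcon.2
    refine (hprime a ha b hb ((ProjectiveSpectrum.mem_vanishingIdeal _ _).mpr fun x hx ↦ ?_)).elim
      haZ hbZ
    rcases hsub hx with h | h
    exacts [Ideal.mul_mem_right _ _ (haC x h), Ideal.mul_mem_left _ _ (hbC x h)]

end Groth.Agent.S3578
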