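import Groth.Statements.S3582
import Groth.Agent.ProjPt.Poly

set_option autoImplicit false
universe u
open CategoryTheory CategoryTheory.Limits AlgebraicGeometry
open EGA2

namespace Groth.Agent.S3582

/-- For every scheme Y and every r ≥ 0 the structure morphism from projective r-space over Y to Y is
surjective. -/
theorem result (r : ℕ) (Y : Scheme.{u}) :
    Surjective (CohB1.ProjSpaceOver.toBase r Y) := by
  have hs : Surjective (CohB1.ProjSpace.toSpec r (ULift.{u} ℤ)) := by
    let R := ULift.{u} ℤ
    let f : MvPolynomial (Fin (r + 1)) R →+* R := MvPolynomial.eval (fun k => if k = 0 then 1 else 0)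
    have hf : f (MvPolynomial.X 0) = 1 := by simp [f]
    have hu : IsUnit (f (MvPolynomial.X 0)) := hf ▸ isUnit_one
    let ρ : HomogeneousLocalization.Away (CohB1.polyGrading r R) (MvPolynomial.X 0) →+* R :=
      ProjPt.coordHom (CohB1.polyGrading r R) f hu
    let s : Spec (CommRingCat.of R) ⟶ CohB1.ProjSpace r R :=
      Spec.map (CommRingCat.ofHom ρ) ≫ Proj.awayι (CohB1.polyGrading r R) _ (ProjPt.X_mem 0) one_pos
    have hid : s ≫ CohB1.ProjSpace.toSpec r R = 𝟙 _ := by
      simp only [s, CohB1.ProjSpace.toSpec, Category.assoc]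
      erw [Proj.awayι_toSpecZero_assoc, ← Spec.map_comp, ← Spec.map_comp, ← Spec.map_id]
      congr 1
      ext1
      refine RingHom.ext fun a => ?_
      change ρ (ProjPt.cst 0 a) = a
      rw [ProjPt.coordHom_cst]
      simp [f]
    refine ⟨fun y => ⟨s y, ?_⟩⟩
    rw [← Scheme.Hom.comp_apply, hid]
    rfl
  exact MorphismProperty.pullback_snd (P := @Surjective) _ _ hs

end Groth.Agent.S3582
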