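import Groth.Statements.S3586
import Groth.Agent.GrModX.QCohTilde

set_option autoImplicit false
universe u
open CategoryTheory AlgebraicGeometry Opposite TopologicalSpace
open EGA2

namespace Groth.Agent.S3586

/-- Let S be a graded ring, M a graded S-module, f homogeneous of degree d > 0 and n an integer. Then
every section of the sheaf M(n)~ over D_+(f) is given on all of D_+(f) by one fraction m/f^k with m
homogeneous of degree kd + n. (This is the surjectivity half of the identification of the sections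
of M(n)~ over D_+(f) with M(n)_(f).) -/
theorem result {R A : Type u} [CommRing R] [CommRing A] [Algebra R A] (𝒜 : ℕ → Submodule R A) [GradedAlgebra 𝒜]
    {M : Type u} [AddCommGroup M] [Module R M] [Module A M] [IsScalarTower R A M] (ℳ : ℕ → Submodule R M) [DirectSum.Decomposition ℳ] [SetLike.GradedSMul 𝒜 ℳ] (n : ℤ) {d : ℕ} (hd : 0 < d) {f : A} (hf : f ∈ 𝒜 d)
    (s : GrTilde.sect 𝒜 ℳ n (op (ProjectiveSpectrum.basicOpen 𝒜 f))) :
    ∃ (k i : ℕ) (m : ℳ i), (i : ℤ) = k * d + n ∧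
      ∀ x : ProjectiveSpectrum.basicOpen 𝒜 f,
        ((s.1 x : GrTilde.tildeAt 𝒜 ℳ n x.1) : GrTilde.LocMod 𝒜 (M := M) x.1) =
          (LocalizedModule.mk m.1 ⟨f ^ k, fun h => (ProjectiveSpectrum.mem_basicOpen 𝒜 f x.1).mp x.2
            (x.1.isPrime.mem_of_pow_mem k h)⟩ : GrTilde.LocMod 𝒜 (M := M) x.1) := by
  obtain ⟨k, m, hm, hs⟩ := GrModX.exists_frac 𝒜 ℳ hd hf n s
  let q : ℕ := n.natAbs
  have hm' := hm.smul 𝒜 (GrModX.pow_mem_deg 𝒜 hf q)
  have hge : 0 ≤ ((q * d : ℕ) : ℤ) + ((k : ℤ) * d + n) := by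
    push_cast
    have h1 : (q : ℤ) ≤ (q : ℤ) * d := le_mul_of_one_le_right (by positivity) (by exact_mod_cast hd)
    have h2 : -n ≤ (q : ℤ) := by simp only [q]; omega
    have h3 : (0 : ℤ) ≤ (k : ℤ) * d := by positivity
    linarith
  obtain ⟨i, hi, him⟩ := hm'.exists_mem hge
  refine ⟨q + k, i, ⟨_, him⟩, by rw [hi]; push_cast; ring, fun x => ?_⟩
  refine (hs x).trans ?_
  rw [LocalizedModule.mk_eq]
  refine ⟨1, ?_⟩
  simp only [one_smul, Submonoid.smul_def, smul_smul]
  congr 1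
  rw [← pow_add, add_comm]

end Groth.Agent.S3586
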