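import Groth.Statements.S3588
import Groth.Agent.Proj16.Map

set_option autoImplicit false
universe u
open CategoryTheory CategoryTheory.Limits AlgebraicGeometry
open EGA2

namespace Groth.Agent.S3588

/-- Let S be a graded ring, N_+ the set of nilpotent elements of S_+ (an ideal of S), and S → S/N_+ the
quotient (here: any surjective homomorphism of graded rings φ : S → S' whose kernel is N_+). Then
the induced morphism Proj S' → Proj S is a closed immersion which is a homeomorphism of the
underlying spaces, and Proj S' is reduced; thus Proj S' is the reduced closed subscheme (Proj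
S)_red. -/
theorem result {R A : Type u} [CommRing R] [CommRing A] [Algebra R A] (𝒜 : ℕ → Submodule R A) [GradedAlgebra 𝒜]
    {B : Type u} [CommRing B] [Algebra R B] (ℬ : ℕ → Submodule R B) [GradedAlgebra ℬ]
    (φ : 𝒜 →+*ᵍ ℬ) (hsurj : Function.Surjective φ)
    (hker : ∀ a : A, φ a = 0 ↔ a ∈ (HomogeneousIdeal.irrelevant 𝒜).toIdeal ∧ IsNilpotent a)
    (hφ : HomogeneousIdeal.irrelevant ℬ ≤ (HomogeneousIdeal.irrelevant 𝒜).map φ) :
    IsClosedImmersion (Proj.map φ hφ) ∧ IsHomeomorph (Proj.map φ hφ).base ∧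
      AlgebraicGeometry.IsReduced (Proj ℬ) := by
  have := Groth.Agent.Proj16.isClosedImmersion_map φ hφ hsurj
  refine ⟨this, ?_, Groth.Agent.Proj16.isReduced_proj ℬ fun b hb ⟨n, hn⟩ ↦ ?_⟩
  · have hd : DenseRange (Proj.map φ hφ) :=
      Groth.Agent.Proj16.denseRange_map φ hφ fun a ha ↦ ((hker a).mp ha).2
    have hce := (Proj.map φ hφ).isClosedEmbedding
    rw [isHomeomorph_iff_isEmbedding_surjective]
    refine ⟨hce.isEmbedding, Set.range_eq_univ.mp ?_⟩
    rw [← hce.isClosed_range.closure_eq]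
    exact hd.closure_range
  · obtain ⟨a, rfl⟩ := hsurj b
    have h0 : GradedRing.proj 𝒜 0 a ∈ RingHom.ker (φ : A →+* B) := by
      change φ _ = 0
      rw [Groth.Agent.Proj16.proj_map_commutes, (HomogeneousIdeal.mem_irrelevant_iff ℬ _).mp hb]
    have hp : φ (GradedRing.proj 𝒜 0 a) = 0 := h0
    have ha : a ∈ (HomogeneousIdeal.irrelevant 𝒜).toIdeal := by
      have h1 := ((hker _).mp hp).1
      rw [HomogeneousIdeal.mem_iff, HomogeneousIdeal.mem_irrelevant_iff,
        Groth.Agent.Proj16.proj_of_mem 𝒜 (Groth.Agent.Proj16.proj_mem 𝒜 0 a)] at h1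
      exact (HomogeneousIdeal.mem_irrelevant_iff 𝒜 a).mpr h1
    have hn' : φ (a ^ n) = 0 := by rw [map_pow]; exact hn
    obtain ⟨m, hm⟩ := ((hker _).mp hn').2
    exact (hker a).mpr ⟨ha, n * m, by rw [pow_mul, hm]⟩

end Groth.Agent.S3588
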