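import Groth.Statements.S3589
import Groth.Agent.ProjUPX.Sections

set_option autoImplicit false
universe u
open CategoryTheory CategoryTheory.Limits AlgebraicGeometry
open EGA2

namespace Groth.Agent.S3589

/-- For E = O_Y^{n+1} over an affine base Y = Spec R (injectivity of the correspondence): a section s of
projective n-space over R is determined by the submodule F(s) of R^{n+1} formed by the R-linear
relations among the pulled-back coordinates s^*T_0, …, s^*T_n in the global sections of s^*O(1). -/
theorem result {R : Type u} [CommRing R] (n : ℕ)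
    (s₁ s₂ : Spec (CommRingCat.of R) ⟶ CohB1.ProjSpace n R)
    (h₁ : s₁ ≫ CohB1.ProjSpace.toSpec n R = 𝟙 _) (h₂ : s₂ ≫ CohB1.ProjSpace.toSpec n R = 𝟙 _)
    (h : ProjUP.secKernel n R s₁ = ProjUP.secKernel n R s₂) :
    s₁ = s₂ := by
  letI := ProjUPX.specModule ((Scheme.Modules.pullback s₁).obj (Twist.twistProjSpace n R 1))
  letI := ProjUPX.specModule ((Scheme.Modules.pullback s₂).obj (Twist.twistProjSpace n R 1))
  let l₁ := Fintype.linearCombination R (fun i => (ProjUP.pullSec s₁ (Twist.twistProjSpace n R 1) (ProjUP.coord n R i) :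
        Γ((Scheme.Modules.pullback s₁).obj (Twist.twistProjSpace n R 1), ⊤)))
  let l₂ := Fintype.linearCombination R (fun i => (ProjUP.pullSec s₂ (Twist.twistProjSpace n R 1) (ProjUP.coord n R i) :
        Γ((Scheme.Modules.pullback s₂).obj (Twist.twistProjSpace n R 1), ⊤)))
  have h' : LinearMap.ker l₁ = LinearMap.ker l₂ := h
  let e := (l₁.quotKerEquivOfSurjective (ProjUPX.linearCombination_secPull_surjective s₁)).symm ≪≫ₗ
    Submodule.quotEquivOfEq _ _ h' ≪≫ₗ l₂.quotKerEquivOfSurjective (ProjUPX.linearCombination_secPull_surjective s₂)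
  obtain ⟨τ, hτ⟩ := ProjUPX.exists_iso_of_linearEquiv
    (ProjUPX.isQCoh_of_isInvertible (ProjUPX.isInvertible_secPull s₁))
    (ProjUPX.isQCoh_of_isInvertible (ProjUPX.isInvertible_secPull s₂)) e
  refine ProjUPX.eq_of_iso_pullback (𝒜 := CohB1.polyGrading n R) (T := fun i : Fin (n + 1) => MvPolynomial.X i)
    (fun i => ProjPt.X_mem i) ProjUPX.adjoin_X ProjUPX.cov_X s₁ s₂ (h₁.trans h₂.symm) τ fun i => ?_
  have key : ∀ a, e (l₁ a) = l₂ a := fun a => by
    have hmk : (l₁.quotKerEquivOfSurjective (ProjUPX.linearCombination_secPull_surjective s₁)).symm (l₁ a) =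
        Submodule.Quotient.mk a := (LinearEquiv.symm_apply_eq _).2 rfl
    refine (congrArg (fun z => l₂.quotKerEquivOfSurjective (ProjUPX.linearCombination_secPull_surjective s₂)
      (Submodule.quotEquivOfEq _ _ h' z)) hmk).trans rfl
  refine (hτ _).trans ?_
  have h3 := key (Pi.single i 1)
  simp only [l₁, l₂, Fintype.linearCombination_apply_single, one_smul] at h3
  exact h3

end Groth.Agent.S3589
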