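import Groth.Statements.S3591
import Groth.Agent.ProjUPX.Make
import Groth.Agent.Proj16.ConeData

set_option autoImplicit false
universe u
open CategoryTheory CategoryTheory.Limits AlgebraicGeometry
open EGA2

namespace Groth.Agent.S3591

/-- Universal property of the projective bundle of a quasi-coherent module over an affine base,
existence part. Let A be a ring, M an A-module and S a graded A-algebra with an A-linear map ι : M →
S_1 making S a symmetric algebra of M (so Proj S = P(M~)). Let q : X → Spec A be a scheme over A, L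
an invertible O_X-module and v : M → Γ(X, L) an A-linear map whose image generates L (these
correspond to the surjections q^*(M~) → L). Then there are an A-morphism r : X → Proj S and an
isomorphism r^*O(1) ≅ L carrying, for every m ∈ M, the pullback of the global section ι(m) of O(1)
to v(m). -/
theorem result {A : Type u} [CommRing A] {S : Type u} [CommRing S] [Algebra A S] (𝒮 : ℕ → Submodule A S) [GradedAlgebra 𝒮]
    {M : Type u} [AddCommGroup M] [Module A M] (ι : M →ₗ[A] S) (hι : ∀ m : M, ι m ∈ 𝒮 1)
    (hsym : IsSymmetricAlgebra ι)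
    {X : Scheme.{u}} (q : X ⟶ Spec (CommRingCat.of A)) (L : X.Modules) (hL : PicF.IsInvertible L)
    (v : M →+ ProjUP.Γm L) (hv : ∀ (a : A) (m : M), v (a • m) = ProjUP.toGlobal q a • v m)
    (hgen : ProjUP.GeneratedBy L v) :
    ∃ (r : X ⟶ Proj 𝒮) (_ : r ≫ Proj.toSpecZero 𝒮 ≫ Spec.map (CommRingCat.ofHom (algebraMap A (𝒮 0))) = q)
      (τ : (Scheme.Modules.pullback r).obj (Twist.twist 𝒮 1) ≅ L),
      ∀ m : M, τ.hom.app ⊤ (ProjUP.pullSec r (Twist.twist 𝒮 1) (Twist.globalOf 𝒮 ⟨ι m, hι m⟩)) = v m := by
  have hadj : Algebra.adjoin A (Set.range ι) = ⊤ := by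
    refine eq_top_iff.2 fun x hx => ?_
    clear hx
    induction x using hsym.induction with
    | algebraMap r => exact Subalgebra.algebraMap_mem _ r
    | ι m => exact Algebra.subset_adjoin ⟨m, rfl⟩
    | mul a b ha hb => exact mul_mem ha hb
    | add a b ha hb => exact add_mem ha hb
  obtain ⟨r, hr, τ, hτ⟩ := ProjUPX.exists_map 𝒮 q hL M ι hι hadj
    (fun y => by
      by_contra! h
      obtain ⟨d, f, hd, hf, hfy⟩ := Proj16.exists_homogeneous_notMem 𝒮
        (I := y.asHomogeneousIdeal.toIdeal) y.not_irrelevant_le
      obtain ⟨p, hp, rfl⟩ := ProjUPX.exists_homogeneous_preimage 𝒮 hι hadj hf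
      refine hfy ?_
      rw [MvPolynomial.aeval_def, MvPolynomial.eval₂_eq]
      refine Ideal.sum_mem _ fun e he => Ideal.mul_mem_left _ _ ?_
      obtain ⟨k, hk⟩ : e.support.Nonempty := by
        rw [Finsupp.support_nonempty_iff]
        rintro rfl
        have := hp (MvPolynomial.mem_support_iff.mp he)
        simp at this
        omega
      refine Ideal.prod_mem _ hk ?_
      exact Ideal.pow_mem_of_mem _ (not_not.1 (h k)) _ (Nat.pos_of_ne_zero (Finsupp.mem_support_iff.1 hk)))
    v hgen
    (fun V w k hk hw => by
      letI : Algebra A Γ(X, V) := ((AModX.resR (le_top : V ≤ ⊤)).comp (ProjUP.toGlobal q)).toAlgebra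
      let g : M →ₗ[A] Γ(X, V) :=
        { toFun := w
          map_add' := fun a b => hk.coord_unique le_rfl (by
            rw [AModX.res_self, add_smul, ← hw, ← hw, ← hw, map_add, map_add])
          map_smul' := fun a m => hk.coord_unique le_rfl (by
            rw [AModX.res_self, ← hw, hv, AModX.res_smul, RingHom.id_apply, Algebra.smul_def,
              mul_smul, ← hw]
            rfl) }
      exact ⟨(hsym.lift g).toRingHom, fun l => hsym.lift_eq g l, fun x => (hsym.lift g).commutes x⟩)
  exact ⟨r, hr, τ, hτ⟩

end Groth.Agent.S3591
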