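import Groth.Statements.S3593
import Groth.Agent.Proj16.DegOneQuot

set_option autoImplicit false
universe u
open CategoryTheory CategoryTheory.Limits AlgebraicGeometry
open EGA2

namespace Groth.Agent.S3593

/-- Let S be a graded R-algebra, Ŝ a graded R-algebra with a graded homomorphism φ : S → Ŝ making Ŝ an
S-algebra, and z an element of Ŝ of degree one such that the S-algebra map S[X] → Ŝ, X ↦ z, is
bijective (so Ŝ = S[z] with z in degree one, the graded ring of the projective cone of S). Then
there is a ring isomorphism S ≅ Ŝ_(z) onto the degree-zero localization at z, sending a homogeneous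
a of degree n to φ(a)/z^n. (This is the isomorphism that identifies the affine cone Spec S with the
open D_+(z) of the projective cone Proj Ŝ; that identification itself is not asserted here.) -/
theorem result {R A : Type u} [CommRing R] [CommRing A] [Algebra R A] (𝒜 : ℕ → Submodule R A) [GradedAlgebra 𝒜]
    {B : Type u} [CommRing B] [Algebra R B] (ℬ : ℕ → Submodule R B) [GradedAlgebra ℬ]
    [Algebra A B] [IsScalarTower R A B] (φ : 𝒜 →+*ᵍ ℬ) (hφ : ∀ a : A, φ a = algebraMap A B a)
    (z : B) (hz : z ∈ ℬ 1) (hhat : Function.Bijective (Polynomial.aeval (R := A) z)) :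
    ∃ θ : A ≃+* HomogeneousLocalization.Away ℬ z,
      ∀ (n : ℕ) (a : A), a ∈ 𝒜 n → (θ a).val = Localization.mk (φ a) ⟨z ^ n, pow_mem (Submonoid.mem_powers z) n⟩ := by
  let q := RingEquiv.ofBijective _ (Groth.Agent.Proj16.awayToQuot_bijective ℬ hz)
  let π : A →+* B ⧸ Ideal.span {z - 1} := (Ideal.Quotient.mk _).comp (algebraMap A B)
  have hπ : Function.Bijective π := by
    constructor
    · rw [injective_iff_map_eq_zero]
      intro a ha
      obtain ⟨b, hb⟩ := Ideal.mem_span_singleton.mp (Ideal.Quotient.eq_zero_iff_mem.mp ha)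
      obtain ⟨p, rfl⟩ := hhat.2 b
      have hp : Polynomial.C a = (Polynomial.X - 1) * p := hhat.1 (by simpa using hb)
      have := congrArg (Polynomial.eval 1) hp
      simpa using this
    · intro x
      obtain ⟨b, rfl⟩ := Ideal.Quotient.mk_surjective x
      obtain ⟨p, rfl⟩ := hhat.2 b
      refine ⟨p.eval 1, ?_⟩
      rw [eq_comm]
      refine Ideal.Quotient.eq.mpr ?_
      have : algebraMap A B (p.eval 1) = Polynomial.aeval (R := A) z (Polynomial.C (p.eval 1)) := by simp
      rw [this, ← map_sub, Ideal.mem_span_singleton]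
      have h2 : (Polynomial.X - Polynomial.C (1 : A)) ∣ p - Polynomial.C (p.eval 1) :=
        Polynomial.X_sub_C_dvd_sub_C_eval
      simpa using map_dvd (Polynomial.aeval (R := A) z) h2
  refine ⟨(RingEquiv.ofBijective π hπ).trans q.symm, fun n a ha ↦ ?_⟩
  have hm : φ a ∈ ℬ (n • 1) := by simpa using φ.2 ha
  have : q.symm (Ideal.Quotient.mk (Ideal.span {z - 1}) (φ a)) =
      HomogeneousLocalization.Away.mk ℬ hz n (φ a) hm := by
    rw [RingEquiv.symm_apply_eq]
    exact (Groth.Agent.Proj16.awayToQuot_mk ℬ hz n (φ a) hm).symm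
  change (q.symm (Ideal.Quotient.mk (Ideal.span {z - 1}) (algebraMap A B a))).val = _
  rw [← hφ a, this, HomogeneousLocalization.Away.val_mk]

end Groth.Agent.S3593
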