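import Groth.Statements.S3594
import Mathlib.AlgebraicGeometry.ProjectiveSpectrum.Functor
-- import your own Groth.Agent.* helpers here

set_option autoImplicit false
universe u
open CategoryTheory CategoryTheory.Limits AlgebraicGeometry
open EGA2

namespace Groth.Agent.S3594

/-- The closed immersion at infinity of a projective cone: let S be a graded R-algebra and Ŝ a graded
R-algebra over S such that the structure map φ : S → Ŝ is a graded homomorphism and Ŝ = S[z] is the
polynomial algebra on an element z of degree one (evaluation at z is a bijection S[T] → Ŝ); let ψ :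
Ŝ → S be a graded homomorphism retracting φ and killing z, with S₊ contained in the ideal generated
by ψ(Ŝ₊) so that j = Proj(ψ) : X = Proj S → Ĉ = Proj Ŝ is defined (it is the canonical closed
immersion). Then the image of j is exactly the complement of the open subset D₊(z) of Proj Ŝ (which
is the affine cone C = Spec S). -/
theorem result {R A : Type u} [CommRing R] [CommRing A] [Algebra R A] (𝒜 : ℕ → Submodule R A) [GradedAlgebra 𝒜]
    {B : Type u} [CommRing B] [Algebra R B] (ℬ : ℕ → Submodule R B) [GradedAlgebra ℬ]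
    [Algebra A B] [IsScalarTower R A B] (φ : 𝒜 →+*ᵍ ℬ) (hφ : ∀ a : A, φ a = algebraMap A B a)
    (z : B) (hz : z ∈ ℬ 1) (hhat : Function.Bijective (Polynomial.aeval (R := A) z))
    (ψ : ℬ →+*ᵍ 𝒜) (hψφ : ∀ a : A, ψ (φ a) = a) (hψz : ψ z = 0)
    (hψ : HomogeneousIdeal.irrelevant 𝒜 ≤ (HomogeneousIdeal.irrelevant ℬ).map ψ) :
    Set.range (Proj.map ψ hψ).base = ((Proj.basicOpen ℬ z : Set (Proj ℬ)))ᶜ := by
  ext q
  constructor
  · rintro ⟨p, rfl⟩ h
    apply h
    show ψ z ∈ p.asHomogeneousIdeal
    rw [hψz]
    exact zero_mem _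
  · intro hq
    have hzq : z ∈ q.asHomogeneousIdeal.toIdeal := not_not.mp hq
    have hker : ∀ b : B, b - φ (ψ b) ∈ q.asHomogeneousIdeal.toIdeal := by
      intro b
      obtain ⟨P, rfl⟩ := hhat.2 b
      have h1 : ψ (Polynomial.aeval z P) = P.coeff 0 := by
        conv_lhs => rw [← Polynomial.X_mul_divX_add P]
        rw [map_add, map_mul, Polynomial.aeval_X, Polynomial.aeval_C, map_add, map_mul, hψz, zero_mul, zero_add,
          ← hφ, hψφ]
      rw [h1, hφ]
      have h2 : Polynomial.aeval z P = z * Polynomial.aeval z P.divX + algebraMap A B (P.coeff 0) := by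
        conv_lhs => rw [← Polynomial.X_mul_divX_add P]
        rw [map_add, map_mul, Polynomial.aeval_X, Polynomial.aeval_C]
      rw [h2, add_sub_cancel_right]
      exact Ideal.mul_mem_right _ _ hzq
    have hmem : ∀ b : B, φ (ψ b) ∈ q.asHomogeneousIdeal.toIdeal ↔ b ∈ q.asHomogeneousIdeal.toIdeal := fun b =>
      ⟨fun h => by simpa using add_mem (hker b) h, fun h => by simpa using sub_mem h (hker b)⟩
    refine ⟨⟨q.asHomogeneousIdeal.comap φ, Ideal.IsPrime.comap (f := (φ : A →+* B)), fun h => q.not_irrelevant_le ?_⟩, ?_⟩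
    · exact fun b hb => (hmem b).mp (h (by
        change b ∈ HomogeneousIdeal.irrelevant ℬ at hb
        show ψ b ∈ HomogeneousIdeal.irrelevant 𝒜
        rw [HomogeneousIdeal.mem_irrelevant_iff] at hb ⊢
        simpa [map_directSumDecompose] using congrArg ψ hb))
    · refine ProjectiveSpectrum.ext (HomogeneousIdeal.ext (Ideal.ext fun b => ?_))
      exact hmem b

end Groth.Agent.S3594
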