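import Groth.Statements.S3597
import Groth.Agent.Proj16.ConeData

set_option backward.isDefEq.respectTransparency false
set_option backward.isDefEq.respectTransparency.types false
set_option linter.style.haveILetI false

set_option autoImplicit false
universe u
open CategoryTheory CategoryTheory.Limits AlgebraicGeometry
open EGA2

namespace Groth.Agent.S3597

/-- Let S be a graded algebra over a ring and Ŝ = S[z] the graded S-algebra obtained by adjoining a
variable z in degree 1 (an S-algebra with an element z of degree 1 such that S[T] → Ŝ, T ↦ z, is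
bijective), with φ : S → Ŝ the graded structure map and ψ : Ŝ → S the graded retraction with ψ ∘ φ =
id and ψ(z) = 0 (the irrelevant-ideal containment needed to define Proj(ψ) on all of X = Proj S
carried as a hypothesis). Let Ê ⊆ Ĉ = Proj Ŝ be the pointed projective cone, the open union of the
D_+(φ f) for f ∈ S homogeneous of positive degree, and p : Ê → X a morphism which on each chart
D_+(φ f) = Spec Ŝ_{(φ f)} is induced by S_{(f)} → Ŝ_{(φ f)} (the canonical retraction). Then p is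
surjective, and the closed immersion j = Proj(ψ) : X → Ĉ factors through Ê with p ∘ j = id_X. -/
theorem result {R A : Type u} [CommRing R] [CommRing A] [Algebra R A] (𝒜 : ℕ → Submodule R A) [GradedAlgebra 𝒜]
    {B : Type u} [CommRing B] [Algebra R B] (ℬ : ℕ → Submodule R B) [GradedAlgebra ℬ]
    [Algebra A B] [IsScalarTower R A B] (φ : 𝒜 →+*ᵍ ℬ) (hφ : ∀ a : A, φ a = algebraMap A B a)
    (z : B) (hz : z ∈ ℬ 1) (hhat : Function.Bijective (Polynomial.aeval (R := A) z))
    (ψ : ℬ →+*ᵍ 𝒜) (hψφ : ∀ a : A, ψ (φ a) = a) (hψz : ψ z = 0)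
    (hψ : HomogeneousIdeal.irrelevant 𝒜 ≤ (HomogeneousIdeal.irrelevant ℬ).map ψ)
    (p : (PCone.dom φ : Scheme.{u}) ⟶ Proj 𝒜) (hp : ∀ (d : ℕ) (f : A) (hd : 0 < d) (hf : f ∈ 𝒜 d),
        PCone.chart φ hf hd ≫ p =
          Spec.map (CommRingCat.ofHom (HomogeneousLocalization.Away.map φ f)) ≫ Proj.awayι 𝒜 f hf hd) :
    Surjective p ∧ ∃ j : Proj 𝒜 ⟶ (PCone.dom φ : Scheme.{u}), j ≫ (PCone.dom φ).ι = Proj.map ψ hψ ∧ j ≫ p = 𝟙 (Proj 𝒜) := by
  classical
  open Groth.Agent.Proj16 in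
  obtain rfl : p = (pconeData 𝒜 ℬ φ).map := (pconeData 𝒜 ℬ φ).eq_map hp
  have hle : Set.range (Proj.map ψ hψ) ⊆ Set.range (PCone.dom φ).ι := by
    rw [Scheme.Opens.range_ι]
    rintro _ ⟨x, rfl⟩
    obtain ⟨d, f, hd, hf, hfx⟩ := Groth.Agent.Proj16.exists_homogeneous_notMem 𝒜
      (I := x.asHomogeneousIdeal.toIdeal) x.not_irrelevant_le
    refine TopologicalSpace.Opens.mem_iSup.2 ⟨⟨f, d, hd, hf⟩, ?_⟩
    show x ∈ Proj.map ψ hψ ⁻¹ᵁ Proj.basicOpen ℬ (φ f)
    rw [Proj.map_preimage_basicOpen, hψφ]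
    exact hfx
  let j := IsOpenImmersion.lift (PCone.dom φ).ι (Proj.map ψ hψ) hle
  have hjι : j ≫ (PCone.dom φ).ι = Proj.map ψ hψ := IsOpenImmersion.lift_fac _ _ _
  have hjp : j ≫ (Groth.Agent.Proj16.pconeData 𝒜 ℬ φ).map = 𝟙 (Proj 𝒜) := by
    refine (Proj.affineOpenCover 𝒜).openCover.hom_ext _ _ fun i ↦ ?_
    obtain ⟨⟨d, hd⟩, f, hf⟩ := i
    show Proj.awayι 𝒜 f hf hd ≫ j ≫ _ = Proj.awayι 𝒜 f hf hd ≫ 𝟙 _
    have key : ∀ (f' : A) (e : ψ (φ f) = f') (hf' : f' ∈ 𝒜 d),
        ∃ r : CommRingCat.of (HomogeneousLocalization.Away ℬ (φ f)) ⟶ CommRingCat.of (HomogeneousLocalization.Away 𝒜 f'),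
          Proj.awayι 𝒜 f' hf' hd ≫ j = Spec.map r ≫ PCone.chart φ hf hd ∧
          ∀ a, (r.hom a).val = HomogeneousLocalization.val (e ▸ HomogeneousLocalization.Away.map ψ (φ f) a) := by
      intro f' e hf'
      subst e
      refine ⟨CommRingCat.ofHom (HomogeneousLocalization.Away.map ψ (φ f)), ?_, fun a ↦ rfl⟩
      rw [← cancel_mono (PCone.dom φ).ι, Category.assoc, hjι, Category.assoc, PCone.chart,
        IsOpenImmersion.lift_fac]
      exact Proj.awayι_comp_map ψ hψ hd (φ f) (φ.2 hf)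
    obtain ⟨r, hr1, hr2⟩ := key f (hψφ f) hf
    rw [reassoc_of% hr1, Category.comp_id]
    erw [(Groth.Agent.Proj16.pconeData 𝒜 ℬ φ).chart_map hf hd]
    have hid : CommRingCat.ofHom (HomogeneousLocalization.Away.map φ f) ≫ r = 𝟙 _ := by
      refine CommRingCat.hom_ext (RingHom.ext fun a ↦ HomogeneousLocalization.val_injective _ ?_)
      obtain ⟨n, b, hb, rfl⟩ := a.mk_surjective 𝒜 hf
      refine (hr2 _).trans ?_
      have hcast : ∀ (f' : A) (e : ψ (φ f) = f') (w : HomogeneousLocalization.Away 𝒜 (ψ (φ f))) (hf'' : f' ∈ 𝒜 d)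
          (hw : w = HomogeneousLocalization.Away.mk 𝒜 (ψ.2 (φ.2 hf)) n (ψ (φ b)) (ψ.2 (φ.2 hb))),
          HomogeneousLocalization.val (e ▸ w) =
            (HomogeneousLocalization.Away.mk 𝒜 hf'' n (ψ (φ b)) (ψ.2 (φ.2 hb))).val := by
        intro f' e w hf'' hw
        subst e
        rw [hw]
      rw [hcast f (hψφ f) _ hf (by
        show HomogeneousLocalization.Away.map ψ (φ f) (HomogeneousLocalization.Away.map φ f
          (HomogeneousLocalization.Away.mk 𝒜 hf n b hb)) = _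
        rw [HomogeneousLocalization.Away.map_mk, HomogeneousLocalization.Away.map_mk])]
      simp only [HomogeneousLocalization.Away.val_mk, hψφ]
      rfl
    show Spec.map r ≫ Spec.map (CommRingCat.ofHom (HomogeneousLocalization.Away.map φ f)) ≫ _ = _
    rw [← Spec.map_comp_assoc, hid, Spec.map_id, Category.id_comp]
  exact ⟨⟨fun x ↦ ⟨j x, congr($hjp x)⟩⟩, j, hjι, hjp⟩

end Groth.Agent.S3597
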