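import Groth.Statements.S3598
import Groth.Agent.ConeFib17.Fibre

set_option backward.isDefEq.respectTransparency false
set_option backward.isDefEq.respectTransparency.types false
set_option linter.style.haveILetI false

set_option autoImplicit false
universe u
open CategoryTheory CategoryTheory.Limits AlgebraicGeometry
open EGA2

namespace Groth.Agent.S3598

/-- Let S be a graded algebra over a ring (an affine base) whose irrelevant ideal is generated by its
degree-one elements, and let Ŝ = S[z] be the graded S-algebra obtained by adjoining a variable z of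
degree 1 (given as a graded S-algebra together with z of degree 1 such that S[T] → Ŝ, T ↦ z, is
bijective). Let Ê be the pointed projective cone, covered by the charts Spec Ŝ_(f) for f ∈ S
homogeneous of positive degree, and p : Ê → X = Proj S the canonical retraction, i.e. the morphism
which on each chart Spec Ŝ_(f) is induced by S_(f) → Ŝ_(f). Then p is of finite type (locally of
finite type and quasi-compact) and its fibre at every point x of X is isomorphic over k(x) to the
affine line Spec k(x)[T]. -/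
theorem result {R A : Type u} [CommRing R] [CommRing A] [Algebra R A] (𝒜 : ℕ → Submodule R A) [GradedAlgebra 𝒜]
    {B : Type u} [CommRing B] [Algebra R B] (ℬ : ℕ → Submodule R B) [GradedAlgebra ℬ]
    [Algebra A B] [IsScalarTower R A B] (φ : 𝒜 →+*ᵍ ℬ) (hφ : ∀ a : A, φ a = algebraMap A B a)
    (z : B) (hz : z ∈ ℬ 1) (hhat : Function.Bijective (Polynomial.aeval (R := A) z))
    (hgen : (HomogeneousIdeal.irrelevant 𝒜).toIdeal = Ideal.span (𝒜 1 : Set A))
    (p : (PCone.dom φ : Scheme.{u}) ⟶ Proj 𝒜) (hp : ∀ (d : ℕ) (f : A) (hd : 0 < d) (hf : f ∈ 𝒜 d),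
        PCone.chart φ hf hd ≫ p =
          Spec.map (CommRingCat.ofHom (HomogeneousLocalization.Away.map φ f)) ≫ Proj.awayι 𝒜 f hf hd) (x : Proj 𝒜) :
    LocallyOfFiniteType p ∧ QuasiCompact p ∧
      ∃ e : pullback p ((Proj 𝒜).fromSpecResidueField x) ≅
          Spec (CommRingCat.of (Polynomial ((Proj 𝒜).residueField x))),
        e.hom ≫ Spec.map (CommRingCat.ofHom (algebraMap ((Proj 𝒜).residueField x)
          (Polynomial ((Proj 𝒜).residueField x)))) = pullback.snd p ((Proj 𝒜).fromSpecResidueField x) := by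
  obtain rfl : p = (Groth.Agent.Proj16.pconeData 𝒜 ℬ φ).map := (Groth.Agent.Proj16.pconeData 𝒜 ℬ φ).eq_map hp
  have hpre := @Groth.Agent.Proj16.pconeData_preimage R A _ _ _ 𝒜 _ B _ _ ℬ _ φ
  have hhat' : Function.Bijective (Polynomial.eval₂RingHom (φ : A →+* B) z) := by
    convert hhat using 1
    funext P
    show Polynomial.eval₂ _ _ P = _
    rw [Polynomial.aeval_def, show (φ : A →+* B) = algebraMap A B from RingHom.ext hφ]
  have hbij : ∀ f ∈ 𝒜 1, ∃ e : Polynomial (HomogeneousLocalization.Away 𝒜 f) ≃+* HomogeneousLocalization.Away ℬ (φ f),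
      ∀ r, e (Polynomial.C r) = HomogeneousLocalization.Away.map φ f r :=
    fun f hf ↦ ⟨RingEquiv.ofBijective _ (Groth.Agent.ConeFib17.fromPoly_bijective hf φ hz hhat'),
      fun r ↦ Polynomial.eval₂_C _ _⟩
  obtain ⟨hlft, hqc⟩ := Groth.Agent.ConeFib17.isAffine_lft (Groth.Agent.Proj16.pconeData 𝒜 ℬ φ)
    (fun {d f} hf hd ↦ hpre hf hd) hgen fun f hf ↦ by
      obtain ⟨e, he⟩ := hbij f hf
      exact Groth.Agent.ConeFib17.finiteType_of_equiv inferInstance _ e he
  refine ⟨hlft, hqc, ?_⟩
  obtain ⟨f, hf, hx⟩ := Groth.Agent.ConeFib17.exists_mem_degOne hgen x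
  obtain ⟨e, he⟩ := hbij f hf
  refine Groth.Agent.ConeFib17.exists_fibre_iso _ _ (Proj.awayι 𝒜 f hf one_pos) _
    (Groth.Agent.ConeFib17.isPullback_chart (Groth.Agent.Proj16.pconeData 𝒜 ℬ φ) (fun {d f} hf hd ↦ hpre hf hd) hf one_pos)
    (by rw [← Scheme.Hom.coe_opensRange, Proj.opensRange_awayι]; exact hx) _ _
    fun ρ ↦ Groth.Agent.ConeFib17.exists_pushout_polynomial _ e he ρ

end Groth.Agent.S3598
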