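import Groth.Statements.S3599
import Groth.Agent.NormAmpleX.ModelNorm
import Groth.Agent.QCoh.LocFree

set_option backward.isDefEq.respectTransparency false
set_option backward.isDefEq.respectTransparency.types false
set_option linter.style.haveILetI false

set_option autoImplicit false
universe u
open CategoryTheory CategoryTheory.Limits AlgebraicGeometry
open EGA2

namespace Groth.Agent.S3599

/-- Let Y be an affine scheme, X a Noetherian reduced scheme, f : X → Y a quasi-compact morphism, g : X'
→ X a finite surjective morphism, and W an open subset of X such that at every point x of W either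
the local ring of X is an integrally closed domain or the direct image of the structure sheaf of X'
is locally free on some open neighbourhood of x inside W. Then there are a reduced scheme Z and a
finite birational morphism h : Z → X (birational in the sense that h is an isomorphism over some
dense open of X whose inverse image is dense in Z) which is an isomorphism over W, such that for
every invertible O_X-module L whose inverse image on X' is ample relative to f ∘ g, the inverse
image of L on Z is ample relative to f ∘ h. -/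
theorem result {X X' Y : Scheme.{u}} [IsAffine Y]
    [IsNoetherian X] [IsReduced X] (f : X ⟶ Y) [QuasiCompact f] (g : X' ⟶ X) [IsFinite g] [Surjective g]
    (W : X.Opens)
    (hW : ∀ x ∈ W, (IsDomain (X.presheaf.stalk x) ∧ IsIntegrallyClosed (X.presheaf.stalk x)) ∨
      ∃ T : X.Opens, x ∈ T ∧ T ≤ W ∧ FlatMod.IsFinLocFree (((Coh.push g).obj (Coh.structureModule X')).restrict T.ι)) :
    ∃ (Z : Scheme.{u}) (_ : IsReduced Z) (h : Z ⟶ X) (_ : IsFinite h),
      IsIso (h ∣_ W) ∧
        (∃ V : X.Opens, Dense (V : Set X) ∧ Dense ((h ⁻¹ᵁ V : Z.Opens) : Set Z) ∧ IsIso (h ∣_ V)) ∧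
        ∀ L : X.Modules, PicF.IsInvertible L →
          RelAmple.IsRelAmple (g ≫ f) ((Scheme.Modules.pullback g).obj L) →
            RelAmple.IsRelAmple (h ≫ f) ((Scheme.Modules.pullback h).obj L) := by
  classical
  haveI : Finite (irreducibleComponents (X : Type u)) :=
    (TopologicalSpace.NoetherianSpace.finite_irreducibleComponents (α := X)).to_subtype
  haveI : Finite (genericPoints (X : Type u)) := Finite.of_equiv _ (genericPoints.equiv (α := X)).symm
  have hG : (genericPoints (X : Type u)).Finite := Set.toFinite _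
  let D := ∏ η ∈ hG.toFinset, Groth.Agent.NormAmpleX.deg g η
  have hD : 0 < D := Finset.prod_pos fun η hη => Groth.Agent.NormAmpleX.deg_pos (hG.mem_toFinset.1 hη)
  have hdvd : ∀ η ∈ genericPoints (X : Type u), Groth.Agent.NormAmpleX.deg g η ∣ D := fun η hη =>
    Finset.dvd_prod_of_mem _ (hG.mem_toFinset.2 hη)
  refine ⟨Groth.Agent.NormAmpleX.model g hdvd, Groth.Agent.NormAmpleX.isReduced_model g hdvd,
    Groth.Agent.NormAmpleX.modelπ g hdvd, inferInstance, ?_, Groth.Agent.NormAmpleX.exists_dense_iso g hdvd,
    fun L hL h => Groth.Agent.NormAmpleX.isRelAmple_model g hdvd hD f hL h⟩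
  refine Groth.Agent.NormAmpleX.isIso_restrict_normal g hdvd fun x hx => ?_
  rcases hW x hx with h | ⟨T, hxT, -, hfree⟩
  · exact Or.inl h
  · obtain ⟨U, n, hxU, ⟨e⟩⟩ := hfree ⟨x, hxT⟩
    let U' : X.Opens := T.ι ''ᵁ U
    let k : (U' : Scheme.{u}) ⟶ U := IsOpenImmersion.lift (U.ι ≫ T.ι) U'.ι (by
      rintro _ ⟨a, rfl⟩
      obtain ⟨b, hb, hba⟩ := a.2
      exact ⟨⟨b, hb⟩, hba⟩)
    have hk : k ≫ U.ι ≫ T.ι = U'.ι := IsOpenImmersion.lift_fac _ _ _
    haveI : IsOpenImmersion (k ≫ U.ι ≫ T.ι) := by rw [hk]; infer_instance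
    haveI : IsOpenImmersion k := IsOpenImmersion.of_comp k (U.ι ≫ T.ι)
    let M : X.Modules := (Coh.push g).obj (Coh.structureModule X')
    have e' : M.restrict U'.ι ≅ FlatMod.freeMod (U' : Scheme.{u}) n :=
      (Scheme.Modules.restrictFunctorCongr hk.symm).app M ≪≫
        (Groth.Agent.QCoh.restrictRestrict M k (U.ι ≫ T.ι)).symm ≪≫
        (Scheme.Modules.restrictFunctor k).mapIso ((Groth.Agent.QCoh.restrictRestrict M U.ι T.ι).symm ≪≫ e) ≪≫
          Groth.Agent.QCoh.freeModRestrict k n
    obtain ⟨s, hs⟩ := Groth.Agent.H23.Frame.exists_frame e'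
    exact Or.inr ⟨U', n, s, ⟨⟨x, hxT⟩, hxU, rfl⟩, hs⟩

end Groth.Agent.S3599
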