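import Groth.Statements.S3600
import Groth.Agent.KFlatLib.Scheme.ProperFlatPerfect
import Groth.Agent.KFlatLib.Scheme.AdjointCoproduct
-- import your own Groth.Agent.* helpers here

set_option autoImplicit false
universe u
open CategoryTheory CategoryTheory.Limits AlgebraicGeometry
attribute [local instance] HasDerivedCategory.standard
open Dual3

open Groth.Agent.KFlatLib

namespace Groth.Agent.S3600

/-- Let Y be a quasi-compact quasi-separated scheme and f : X → Y a morphism which is proper, flat and
of finite presentation. Assume the derived direct image Rf_* exists and preserves quasi-coherence of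
cohomology sheaves (both known results), so that it restricts to a functor D_QCoh(O_X) →
D_QCoh(O_Y), and let a : D_QCoh(O_Y) → D_QCoh(O_X) be a right adjoint of this restricted functor.
Then a commutes with direct sums: it preserves all coproducts indexed by types in the ambient
universe. -/
theorem result (X Y : Scheme.{u}) [CompactSpace Y] [QuasiSeparatedSpace Y] (f : X ⟶ Y) [IsProper f] [Flat f] [LocallyOfFinitePresentation f] [DCoh.HasRpush f] (hf : DCoh.RpushPreservesQCoh f) (a : DCoh.DQCoh Y ⥤ DCoh.DQCoh X) (adj : DCoh.RpushQ f hf ⊣ a) (J : Type u) : PreservesColimitsOfShape (Discrete J) a := by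
  haveI : CompactSpace X := QuasiCompact.compactSpace_of_compactSpace f
  haveI : QuasiSeparatedSpace X := quasiSeparatedSpace_of_quasiSeparated f
  haveI : (DCoh.Rpush f).Additive :=
    (KFlatLib.exists_rightDerived_triangle (Scheme.Modules.pushforward f) _
      (Pretriangulated.contractible_distinguished (DCoh.toD X ((HomologicalComplex.single X.Modules (ComplexShape.up ℤ) 0).obj (Coh.structureModule X))))).1
  haveI : (DCoh.RpushQ f hf).Additive :=
    ⟨fun {_ _ g g'} => ObjectProperty.hom_ext _ ((DCoh.Rpush f).map_add (f := g.hom) (g := g'.hom))⟩
  exact KFlatLib.AdjCoprod.preservesCoproducts_rightAdjoint adj (fun P hP => KFlatLib.TorBC.locSP_rpush_properFlat f hP) J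

end Groth.Agent.S3600
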