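import Groth.Statements.S3601
import Groth.Agent.KFlatLib.Scheme.ProperFlatPerfect
import Groth.Agent.KFlatLib.Scheme.SupportProper
-- import your own Groth.Agent.* helpers here

set_option autoImplicit false
universe u
open CategoryTheory CategoryTheory.Limits AlgebraicGeometry
attribute [local instance] HasDerivedCategory.standard
open Dual3

open Groth.Agent.KFlatLib

namespace Groth.Agent.S3601

/-- Let Y be a quasi-compact quasi-separated scheme and f : X → Y a morphism which is proper, flat and
of finite presentation. Assume the derived direct image Rf_* exists and preserves quasi-coherence of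
cohomology sheaves (both known results), so that it restricts to a functor D_QCoh(O_X) →
D_QCoh(O_Y), and let a : D_QCoh(O_Y) → D_QCoh(O_X) be a right adjoint of this restricted functor.
Let V ⊆ Y be any open subset, with closed complement T. If Q in D_QCoh(O_Y) has all its cohomology
sheaves restricting to zero on V (Q is supported on T), then all cohomology sheaves of a(Q) restrict
to zero on f⁻¹V (a(Q) is supported on f⁻¹T). No boundedness of Q is required. (The published
statement has further parts, which are not asserted here.) -/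
theorem result (X Y : Scheme.{u}) [CompactSpace Y] [QuasiSeparatedSpace Y] (f : X ⟶ Y) [IsProper f] [Flat f] [LocallyOfFinitePresentation f] [DCoh.HasRpush f] (hf : DCoh.RpushPreservesQCoh f) (a : DCoh.DQCoh Y ⥤ DCoh.DQCoh X) (adj : DCoh.RpushQ f hf ⊣ a) (V : Y.Opens) (Q : DCoh.DQCoh Y) (hQV : ∀ i : ℤ, IsZero ((DCoh.HD Q.obj i).restrict V.ι)) (i : ℤ) : IsZero ((DCoh.HD (a.obj Q).obj i).restrict (f ⁻¹ᵁ V).ι) := by
  haveI : CompactSpace X := QuasiCompact.compactSpace_of_compactSpace f
  haveI : QuasiSeparatedSpace X := quasiSeparatedSpace_of_quasiSeparated f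
  letI := HasDerivedCategory.standard Y.Modules
  have hW : ∀ W : Y.Opens, IsAffineOpen W → W ≤ V →
      IsZero ((DCoh.HD (a.obj Q).obj i).restrict (f ⁻¹ᵁ W).ι) := fun W hW hle => by
    refine SupportAdj.isZero_restrict_of_rho _ _ ?_ i
    refine SupportAdj.isZero_rho_rightAdjoint f hf a adj W
      (QuasiCompact.isCompact_preimage (f := f) _ W.2 hW.isCompact) Q ?_ ?_
    · have h0 := SupportAdj.isZero_rho_of_restrict _ _ hQV
      obtain ⟨r⟩ := AffineLift.nonempty_rhoCompNat (Y.homOfLE hle) V.ι W.ι (Y.homOfLE_ι hle)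
      exact ((rho (Y.homOfLE hle)).map_isZero h0).of_iso (r.app Q.obj).symm
    · intro E hE P J hP hJ hJi ⟨eP⟩ ⟨eJ⟩
      haveI := hJ
      haveI := hJi
      exact SupportAdj.isQCohD_iHom_of_locSP hP
        ((TorBC.locSP_rpush_properFlat f hE).of_iso eP.symm) Q.property eJ
  refine isZero_of_stalk _ fun z => ?_
  obtain ⟨_, ⟨W, hWa, rfl⟩, hzW, hle⟩ :=
    Y.isBasis_affineOpens.exists_subset_of_mem_open (show f.base z.1 ∈ V from z.2) V.2
  have h2 := isZero_stalk_of_restrict (f ⁻¹ᵁ W).ι (M := DCoh.HD (a.obj Q).obj i) ⟨z.1, hzW⟩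
    ((DerSch.stalkFunctor _ _).map_isZero (hW W hWa hle))
  refine @ModuleCat.isZero_of_subsingleton _ _ _ ?_
  haveI : Subsingleton ((DCoh.HD (a.obj Q).obj i).presheaf.stalk ((f ⁻¹ᵁ V).ι.base z)) :=
    ModuleCat.subsingleton_of_isZero h2
  exact @Function.Injective.subsingleton _ _ _ (((Scheme.Modules.restrictStalkNatIso (f ⁻¹ᵁ V).ι z).app (DCoh.HD (a.obj Q).obj i)).addCommGroupIsoToAddEquiv).injective ‹_›

end Groth.Agent.S3601
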