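import Groth.Statements.S3602
import Groth.Agent.KExact.TorBCData
-- import your own Groth.Agent.* helpers here

set_option autoImplicit false
set_option linter.style.haveILetI false
set_option backward.isDefEq.respectTransparency false
set_option backward.isDefEq.respectTransparency.types false

universe u
open CategoryTheory CategoryTheory.Limits AlgebraicGeometry
attribute [local instance] HasDerivedCategory.standard
open Dual3

namespace Groth.Agent.S3602

open Groth.Agent Groth.Agent.KFlatLib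


/-- In the cases g flat or f flat (both are Tor independent squares). Consider a cartesian square of
quasi-compact quasi-separated schemes X' = Y' ×_Y X with maps f : X → Y, g : Y' → Y, f' : X' → Y',
g' : X' → X. Let the derived direct images on D_QCoh of all four maps be given (assumed to exist and
to preserve quasi-coherence of cohomology), with right adjoints a of Rf_* and a' of Rf'_*. Then
there is an identification e : Rf_* ∘ Rg'_* ≅ Rg_* ∘ Rf'_* of the two composite derived direct
images for which the induced transformation ξ : Rg'_* ∘ a' → a ∘ Rg_* (adjoint to Rf_* Rg'_* a' ≅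
Rg_* Rf'_* a' → Rg_*) is an isomorphism on every object. -/
theorem result (X Y X' Y' : Scheme.{u}) [CompactSpace X] [QuasiSeparatedSpace X] [CompactSpace Y] [QuasiSeparatedSpace Y] [CompactSpace X'] [QuasiSeparatedSpace X'] [CompactSpace Y'] [QuasiSeparatedSpace Y'] (f : X ⟶ Y) (g : Y' ⟶ Y) (f' : X' ⟶ Y') (g' : X' ⟶ X) (hsq : IsPullback g' f' f g) (hflat : Flat f ∨ Flat g) [DCoh.HasRpush f] [DCoh.HasRpush f'] [DCoh.HasRpush g] [DCoh.HasRpush g'] (hf : DCoh.RpushPreservesQCoh f) (hf' : DCoh.RpushPreservesQCoh f') (hg : DCoh.RpushPreservesQCoh g) (hg' : DCoh.RpushPreservesQCoh g') (a : DCoh.DQCoh Y ⥤ DCoh.DQCoh X) (a' : DCoh.DQCoh Y' ⥤ DCoh.DQCoh X') (adj : DCoh.RpushQ f hf ⊣ a) (adj' : DCoh.RpushQ f' hf' ⊣ a') : ∃ e : (DCoh.RpushQ g' hg' ⋙ DCoh.RpushQ f hf ≅ DCoh.RpushQ f' hf' ⋙ DCoh.RpushQ g hg), ∀ M : DCoh.DQCoh Y', IsIso (Dual3.xi adj adj' e M) := by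
  haveI := hasLpull g
  haveI := hasLpull g'
  let hLg : Dual3.LpullPreservesQCoh g := fun K hK => isQCohD_lpull g hK
  let hLg' : Dual3.LpullPreservesQCoh g' := fun K hK => isQCohD_lpull g' hK
  let ff := fun (Z : Scheme.{u}) => ObjectProperty.fullyFaithfulι (DCoh.IsQCohD (X := Z))
  obtain ⟨A⟩ := nonempty_lpull_rpush_adj g
  obtain ⟨A'⟩ := nonempty_lpull_rpush_adj g'
  let adjg : Dual3.LpullQ g hLg ⊣ DCoh.RpushQ g hg :=
    A.restrictFullyFaithful (ff Y) (ff Y') (Iso.refl _) (Iso.refl _)
  let adjg' : Dual3.LpullQ g' hLg' ⊣ DCoh.RpushQ g' hg' :=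
    A'.restrictFullyFaithful (ff X) (ff X') (Iso.refl _) (Iso.refl _)
  obtain ⟨e, he⟩ := KExact.TorBCData.exists_e_tor hf hf' adjg adjg' hsq
    (hflat.elim (fun _ => KExact.TorBCGen.torIndepG_of_flat f g)
      (fun _ => KExact.TorBCGen.torIndepG_of_flat_right f g))
  exact ⟨e, fun M => KFlatLib.BCData.isIso_xi adjg adjg' adj adj' e he M⟩
end Groth.Agent.S3602
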