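import Groth.Statements.S3605
import Groth.Agent.KExact.PushShriek
import Groth.Agent.KExact.DualAmp
import Groth.Agent.KExact.H0Split
-- import your own Groth.Agent.* helpers here

set_option autoImplicit false
set_option linter.style.haveILetI false
set_option backward.isDefEq.respectTransparency false
set_option backward.isDefEq.respectTransparency.types false

universe u
open CategoryTheory CategoryTheory.Limits AlgebraicGeometry
attribute [local instance] HasDerivedCategory.standard
open Dual3

namespace Groth.Agent.S3605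

set_option linter.style.haveILetI false
set_option backward.isDefEq.respectTransparency false
set_option backward.isDefEq.respectTransparency.types false
open Groth.Agent.KFlatLib


/-- Let Y be a quasi-compact quasi-separated scheme and f : X → Y a morphism which is proper, flat and
of finite presentation. Assume the derived direct image Rf_* exists and preserves quasi-coherence of
cohomology sheaves (both known results), so that it restricts to a functor D_QCoh(O_X) →
D_QCoh(O_Y), and let a : D_QCoh(O_Y) → D_QCoh(O_X) be a right adjoint of this restricted functor.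
Let O be an object of D_QCoh(O_Y) isomorphic to the structure sheaf placed in degree 0, so that a(O)
is the relative dualizing complex of f. Then the cohomology sheaves of Rf_*a(O) vanish in all
positive degrees. (The published statement has further parts, which are not asserted here.) -/
theorem result (X Y : Scheme.{u}) [CompactSpace Y] [QuasiSeparatedSpace Y] (f : X ⟶ Y) [IsProper f] [Flat f] [LocallyOfFinitePresentation f] [DCoh.HasRpush f] (hf : DCoh.RpushPreservesQCoh f) (a : DCoh.DQCoh Y ⥤ DCoh.DQCoh X) (adj : DCoh.RpushQ f hf ⊣ a) (O : DCoh.DQCoh Y) (hO : Nonempty (O.obj ≅ DCoh.inD Y (Coh.structureModule Y))) (i : ℤ) (hi : 0 < i) : IsZero (DCoh.HD ((DCoh.RpushQ f hf).obj (a.obj O)).obj i) := by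
  obtain ⟨eO⟩ := hO
  haveI : CompactSpace X := QuasiCompact.compactSpace_of_compactSpace f
  haveI : QuasiSeparatedSpace X := quasiSeparatedSpace_of_quasiSeparated f
  haveI : O.obj.IsGE 0 := DerivedCategory.TStructure.t.isGE_of_iso eO.symm 0
  haveI : O.obj.IsLE 0 := DerivedCategory.TStructure.t.isLE_of_iso eO.symm 0
  let O' := DCoh.inD X (Coh.structureModule X)
  let K := (DCoh.Rpush f).obj O'
  have hO' : LocSP O' := locSP_structure.of_iso ((DerivedCategory.singleFunctorIsoCompQ X.Modules 0).app _).symm
  have hK : LocSP K := TorBC.locSP_rpush_properFlat f hO'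
  obtain ⟨N, hN⟩ := exists_Rpush_bound f
  have hOamp : DCoh.HasTorAmplitudeIn 0 0 O' := torAmplitude_of_flatAmplitude
    ⟨(HomologicalComplex.single X.Modules (ComplexShape.up ℤ) 0).obj (Coh.structureModule X),
      fun i hi => HomologicalComplex.isZero_single_obj_X _ _ _ _ (by omega), isFlat_single 0 isFlat_structureModule,
      ⟨((DerivedCategory.singleFunctorIsoCompQ X.Modules 0).app _).symm⟩⟩
  have hKamp : DCoh.HasTorAmplitudeIn 0 (0 + ((N + 1 : ℕ) : ℤ)) K :=
    torAmplitude_rpush' f (N + 1) (fun M hM p hp => hN M hM p (by omega)) O'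
      (AffineLift.isQCohD_of_locSP hO') 0 0 hOamp
  let E := (kRes Y).obj (DerivedCategory.Q.objPreimage K)
  haveI := (flatCover Y).quasiIso_ψ (DerivedCategory.Q.objPreimage K)
  haveI := isIso_Q_map ((flatCover Y).ψ.app (DerivedCategory.Q.objPreimage K)) inferInstance
  let eE : DCoh.toD Y E ≅ K :=
    asIso (DerivedCategory.Q.map ((flatCover Y).ψ.app (DerivedCategory.Q.objPreimage K))) ≪≫ repIso K
  haveI := hasLTensorCx E
  haveI := hasRSheafHom_of_isKFlat E (isKFlat_kRes _)
  have hq : DCoh.IsQCohD ((DCoh.RSheafHom E).obj O.obj) :=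
    isQCohD_RSheafHom_of_pseudoCoherent E
      (fun m => (isPseudoCoherentD_iff _ _).2 ((hK.locPC m).of_iso eE.symm)) O.obj O.property 0
  obtain ⟨η⟩ := KExact.PushShriek.nonempty_push_rightAdjoint_iso f hf a adj E eE
    (Functor.fromPUnit.{0} O) fun _ => hq
  refine (KExact.DualAmp.isZero_HD_RSheafHom E (0 + ((N + 1 : ℕ) : ℤ)) (fun x => ?_) O.obj i hi).of_iso
    ((DerivedCategory.homologyFunctor Y.Modules i).mapIso (η.app ⟨⟨⟩⟩))
  obtain ⟨U, j, hj, hx, P, hv, hP, ⟨e⟩⟩ := (perfectAmplitude_iff K 0 (0 + ((N + 1 : ℕ) : ℤ)) (by omega)).2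
    ⟨hK.locPC _, flatAmplitude_of_torAmplitude (fun G => hasLTensorMod G) (by omega) hKamp⟩ x
  exact ⟨U, j, hj, hx, P, hv, hP, ⟨e ≪≫ (rho j).mapIso eE.symm⟩⟩
end Groth.Agent.S3605
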