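import Groth.Statements.S3606
import Groth.Agent.KExact.BCNat
-- import your own Groth.Agent.* helpers here

set_option autoImplicit false
set_option linter.style.haveILetI false
set_option backward.isDefEq.respectTransparency false
set_option backward.isDefEq.respectTransparency.types false

universe u
open CategoryTheory CategoryTheory.Limits AlgebraicGeometry
attribute [local instance] HasDerivedCategory.standard
open Dual3

namespace Groth.Agent.S3606

open Groth.Agent.KExact Groth.Agent.KFlatLib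
set_option linter.style.haveILetI false
set_option backward.isDefEq.respectTransparency false


/-- Let S be a Noetherian scheme and X, Y schemes separated and of finite type over S, f : X → Y a
morphism over S. Take two compactifications of f, that is factorisations f = j_1 ∘ p_1 = j_2 ∘ p_2
with j_i : X → X_i open immersions and p_i : X_i → Y proper; let Rp_{i,*} on D_QCoh be given
(assumed to exist and to preserve quasi-coherence of cohomology) with right adjoints a_i, and assume
restriction of modules to the opens X ⊆ X_i is exact. Then the two functors K ↦ a_1(K)|_X and K ↦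
a_2(K)|_X from D^+_QCoh(O_Y) to D(O_X) are isomorphic: the upper shriek functor does not depend on
the compactification. -/
theorem result (S X Y : Scheme.{u}) [IsNoetherian S] (p : X ⟶ S) (q : Y ⟶ S) [Dual3.IsSepFT p] [Dual3.IsSepFT q] (f : X ⟶ Y) (w : f ≫ q = p) (c₁ c₂ : DEt.Compactification f) [DCoh.HasRpush c₁.fbar] [DCoh.HasRpush c₂.fbar] (h₁ : DCoh.RpushPreservesQCoh c₁.fbar) (h₂ : DCoh.RpushPreservesQCoh c₂.fbar) (a₁ : DCoh.DQCoh Y ⥤ DCoh.DQCoh c₁.Xbar) (a₂ : DCoh.DQCoh Y ⥤ DCoh.DQCoh c₂.Xbar) (adj₁ : DCoh.RpushQ c₁.fbar h₁ ⊣ a₁) (adj₂ : DCoh.RpushQ c₂.fbar h₂ ⊣ a₂) [PreservesFiniteLimits (Scheme.Modules.restrictFunctor c₁.j)] [PreservesFiniteLimits (Scheme.Modules.restrictFunctor c₂.j)] : Nonempty (Dual3.bddι Y ⋙ Dual3.shriekC c₁ a₁ ≅ Dual3.bddι Y ⋙ Dual3.shriekC c₂ a₂) := by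
  haveI : IsNoetherian Y := BCNat.isNoetherian_of_ft q
  haveI : IsNoetherian X := BCNat.isNoetherian_of_ft p
  let k : X ⟶ pullback c₁.fbar c₂.fbar := pullback.lift c₁.j c₂.j (c₁.fac.trans c₂.fac.symm)
  haveI : IsImmersion (k ≫ pullback.fst c₁.fbar c₂.fbar) := by
    rw [show k ≫ pullback.fst c₁.fbar c₂.fbar = c₁.j from pullback.lift_fst _ _ _]; infer_instance
  haveI : IsImmersion k := IsImmersion.of_comp k (pullback.fst c₁.fbar c₂.fbar)
  haveI : IsNoetherian c₁.Xbar := BCNat.isNoetherian_of_ft c₁.fbar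
  haveI : IsNoetherian (pullback c₁.fbar c₂.fbar) := BCNat.isNoetherian_of_ft (pullback.fst c₁.fbar c₂.fbar)
  haveI : QuasiCompact k := inferInstance
  let π₁ := k.imageι ≫ pullback.fst c₁.fbar c₂.fbar
  let π₂ := k.imageι ≫ pullback.snd c₁.fbar c₂.fbar
  have hj₁ : k.toImage ≫ π₁ = c₁.j := by
    rw [Scheme.Hom.toImage_imageι_assoc]; exact pullback.lift_fst _ _ _
  have hj₂ : k.toImage ≫ π₂ = c₂.j := by
    rw [Scheme.Hom.toImage_imageι_assoc]; exact pullback.lift_snd _ _ _
  let t := π₁ ≫ c₁.fbar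
  have ht : π₂ ≫ c₂.fbar = t := by
    simp only [π₁, π₂, t, Category.assoc, pullback.condition]
  haveI := hasRpush_scheme t
  have h : DCoh.RpushPreservesQCoh t := fun K hK => isQCohD_rpush t hK
  haveI : IsNoetherian k.image := BCNat.isNoetherian_of_ft t
  obtain ⟨aZ, ⟨adjZ⟩⟩ := BCNat.exists_adj t h
  obtain ⟨e₁⟩ := BCNat.nonempty_dominate k.toImage π₁ c₁.j hj₁ c₁.fbar t rfl adj₁ adjZ
  obtain ⟨e₂⟩ := BCNat.nonempty_dominate k.toImage π₂ c₂.j hj₂ c₂.fbar t ht adj₂ adjZ
  exact ⟨Functor.isoWhiskerRight (e₁ ≪≫ e₂.symm) (ObjectProperty.ι _)⟩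
end Groth.Agent.S3606
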