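import Groth.Statements.S3612
import Groth.Agent.KExact.ViaAmp
import Groth.Agent.S1790
-- import your own Groth.Agent.* helpers here

set_option autoImplicit false
set_option linter.style.haveILetI false
set_option backward.isDefEq.respectTransparency false
set_option backward.isDefEq.respectTransparency.types false

universe u
open CategoryTheory CategoryTheory.Limits AlgebraicGeometry
attribute [local instance] HasDerivedCategory.standard
open Dual3

namespace Groth.Agent.S3612

attribute [local instance] HasDerivedCategory.standard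
open Groth.Agent.KExact Groth.Agent.KFlatLib


/-- Let S be a Noetherian scheme, X and Y schemes separated and of finite type over S and f : X → Y a
morphism over S; compute f^! through a compactification f = j ∘ p (j : X → X' an open immersion, p :
X' → Y proper, Rp_* on D_QCoh assumed to exist and to preserve quasi-coherence of cohomology, a a
right adjoint of Rp_*, restriction of modules to opens assumed exact), so that f^!K = a(K)|_X.
Assume f is flat and let O be the structure sheaf of Y in degree 0. (i) For a point x and n ≥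
dim_x(X_{f(x)}): if the stalk of H^i(f^!O) at x is nonzero then -n ≤ i ≤ 0. (ii) If every fibre of f
has dimension at most d, then f^!O has tor amplitude in [-d, 0] relative to Y: it is represented by
a complex of O_X-modules flat over Y placed in degrees [-d, 0]. -/
theorem result (S X Y : Scheme.{u}) [IsNoetherian S] (p : X ⟶ S) (q : Y ⟶ S) [Dual3.IsSepFT p] [Dual3.IsSepFT q] (f : X ⟶ Y) (w : f ≫ q = p) [Flat f] (c : DEt.Compactification f) [DCoh.HasRpush c.fbar] (hc : DCoh.RpushPreservesQCoh c.fbar) (a : DCoh.DQCoh Y ⥤ DCoh.DQCoh c.Xbar) (adj : DCoh.RpushQ c.fbar hc ⊣ a) [∀ (U V : Scheme.{u}) (j : U ⟶ V) [IsOpenImmersion j], PreservesFiniteLimits (Scheme.Modules.restrictFunctor j)] (O : DCoh.DQCoh Y) (hO : Nonempty (O.obj ≅ DCoh.inD Y (Coh.structureModule Y))) : (∀ (x : X) (n : ℕ), Dual3.localFibreDim f x ≤ (n : WithBot ℕ∞) → ∀ i : ℤ, Nontrivial ((DCoh.HD ((Dual3.shriekC c a).obj O) i).presheaf.stalk x) → -(n : ℤ) ≤ i ∧ i ≤ 0) ∧ ∀ d : ℕ, Dual3.FibreDimLE f d → DCoh.HasRelFlatAmplitudeIn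 f (-(d : ℤ)) 0 ((Dual3.shriekC c a).obj O) := by
  haveI : ∀ (R : CommRingCat.{u}), PreservesFiniteLimits (tilde.functor R) := fun R => QCoh.tilde_preservesFiniteLimits
  haveI : IsNoetherian Y := BCNat.isNoetherian_of_ft q
  haveI : IsNoetherian X := BCNat.isNoetherian_of_ft p
  obtain ⟨eO⟩ := hO
  haveI : LocallyOfFiniteType f := by
    have : LocallyOfFiniteType (f ≫ q) := by rw [w]; infer_instance
    exact locallyOfFiniteType_of_comp f q
  have key : ∀ (x : X) (n : ℕ), Dual3.localFibreDim f x ≤ (n : WithBot ℕ∞) → ∀ i : ℤ,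
      Nontrivial ((DCoh.HD ((Dual3.shriekC c a).obj O) i).presheaf.stalk x) → -(n : ℤ) ≤ i ∧ i ≤ 0 := by
    intro x n hn i hi
    obtain ⟨ch⟩ := ViaApp.exists_chart c.j c.fbar adj f c.fac O eO x
    haveI := ch.flat inferInstance
    obtain ⟨d, hdn, hd⟩ := ViaApp.exists_nat_fibreDimAt f x n (by rw [← ViaApp.localFibreDim_eq]; exact hn)
    have hd' := ch.fibreDimAt_eq ch.p
    rw [ch.hp, hd] at hd'
    have := (Groth.Agent.S1790.result ch.R ch.A ch.n ch.ψ ch.hψ ch.Rψ ch.adj d).1 ch.p hd' i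
      ((ch.nontrivial_iff_at i).1 hi)
    omega
  refine ⟨key, fun d hd => ?_⟩
  have hdx : ∀ x : X, Dual3.localFibreDim f x ≤ (d : WithBot ℕ∞) := fun x =>
    (iInf₂_le (⊤ : (f.fiber (f x)).Opens) trivial).trans
      ((topologicalKrullDim_subspace_le _ _).trans (hd (f x)))
  have hz : ∀ i : ℤ, (i < -(d : ℤ) ∨ 0 < i) → IsZero (DCoh.HD ((Dual3.shriekC c a).obj O) i) := fun i hi =>
    isZero_of_stalk _ fun x => by
      refine @ModuleCat.isZero_of_subsingleton _ _ _ (not_nontrivial_iff_subsingleton.1 fun h => ?_)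
      have := key x d (hdx x) i h
      omega
  refine ViaAmp.relAmp_of_local f _ _ _ hz fun x => ?_
  obtain ⟨ch⟩ := ViaApp.exists_chart c.j c.fbar adj f c.fac O eO x
  haveI := ch.flat inferInstance
  have hdq : ∀ q : PrimeSpectrum ch.A,
      FlatMor.fibreDimAt (Spec.map (CommRingCat.ofHom (algebraMap ch.R ch.A))) q ≤ (d : WithBot ℕ∞) := fun q =>
    (ch.fibreDimAt_eq q).le.trans ((ViaApp.localFibreDim_eq f _).ge.trans (hdx _))
  haveI : (Dual2.shriekVia ch.n ch.Rψ (Dual.inD ch.R ch.R)).IsLE 0 := (DerivedCategory.isLE_iff _ _).2 fun i hi => by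
    refine @ModuleCat.isZero_of_subsingleton _ _ _ ((Module.support_eq_empty_iff (R := ch.A)).1 (Set.eq_empty_iff_forall_notMem.2 ?_))
    intro q hq
    obtain ⟨e, he, hqd⟩ := ViaApp.exists_nat_fibreDimAt (Spec.map (CommRingCat.ofHom (algebraMap ch.R ch.A))) q d (hdq q)
    have := (Groth.Agent.S1790.result ch.R ch.A ch.n ch.ψ ch.hψ ch.Rψ ch.adj e).1 q hqd i (Module.mem_support_iff.1 hq)
    omega
  have hT := (Groth.Agent.S1790.result ch.R ch.A ch.n ch.ψ ch.hψ ch.Rψ ch.adj d).2 hdq
  refine ⟨_, ch.k, inferInstance, -(d : ℤ), 0, ⟨ch.p, ch.hp⟩, le_rfl,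
    RelTor.relAmp_of_iso ch.e.symm ?_⟩
  rw [ch.comm]
  obtain ⟨E, hE, hfl, hiso⟩ := ViaAmp.relAmp_tilde_of_torAmp (Dual2.shriekVia ch.n ch.Rψ (Dual.inD ch.R ch.R))
    (-(d : ℤ)) 0 (by omega) _ hT
  exact ⟨E, hE, fun i v => (RelTor.flatOverAt_comp_iff _ ch.i (E.X i) v).1 (hfl i v), hiso⟩
end Groth.Agent.S3612
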