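import Groth.Statements.S3613
import Groth.Agent.KExact.ViaCoh
import Groth.Agent.S3612
-- import your own Groth.Agent.* helpers here

set_option autoImplicit false
set_option linter.style.haveILetI false
set_option backward.isDefEq.respectTransparency false
set_option backward.isDefEq.respectTransparency.types false

universe u
open CategoryTheory CategoryTheory.Limits AlgebraicGeometry
attribute [local instance] HasDerivedCategory.standard
open Dual3

namespace Groth.Agent.S3613

attribute [local instance] HasDerivedCategory.standard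
open Groth.Agent.KExact Groth.Agent.KFlatLib


/-- Let S be a Noetherian scheme, X and Y schemes separated and of finite type over S and f : X → Y a
morphism over S; compute f^! through a compactification f = j ∘ p (j : X → X' an open immersion, p :
X' → Y proper, Rp_* on D_QCoh assumed to exist and to preserve quasi-coherence of cohomology, a a
right adjoint of Rp_*, restriction of modules to opens assumed exact), so that f^!K = a(K)|_X.
Assume f is flat and quasi-finite and let O be the structure sheaf of Y in degree 0. Then H^i(f^!O)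
= 0 for i ≠ 0 and H^0(f^!O) is a coherent O_X-module which is flat over Y; that is, f^!O = ω[0] for
a coherent Y-flat module ω. -/
theorem result (S X Y : Scheme.{u}) [IsNoetherian S] (p : X ⟶ S) (q : Y ⟶ S) [Dual3.IsSepFT p] [Dual3.IsSepFT q] (f : X ⟶ Y) (w : f ≫ q = p) [Flat f] [LocallyQuasiFinite f] (c : DEt.Compactification f) [DCoh.HasRpush c.fbar] (hc : DCoh.RpushPreservesQCoh c.fbar) (a : DCoh.DQCoh Y ⥤ DCoh.DQCoh c.Xbar) (adj : DCoh.RpushQ c.fbar hc ⊣ a) [∀ (U V : Scheme.{u}) (j : U ⟶ V) [IsOpenImmersion j], PreservesFiniteLimits (Scheme.Modules.restrictFunctor j)] (O : DCoh.DQCoh Y) (hO : Nonempty (O.obj ≅ DCoh.inD Y (Coh.structureModule Y))) : (∀ i : ℤ, i ≠ 0 → IsZero (DCoh.HD ((Dual3.shriekC c a).obj O) i)) ∧ Coh.IsCoh (DCoh.HD ((Dual3.shriekC c a).obj O) 0) ∧ FlatMod.IsFlatOver f (DCoh.HD ((Dual3.shriekC c a).obj O) 0) := by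
  haveI : ∀ (R : CommRingCat.{u}), PreservesFiniteLimits (tilde.functor R) := fun R => QCoh.tilde_preservesFiniteLimits
  haveI : IsNoetherian Y := BCNat.isNoetherian_of_ft q
  haveI : IsNoetherian X := BCNat.isNoetherian_of_ft p
  have h := Groth.Agent.S3612.result S X Y p q f w c hc a adj O hO
  obtain ⟨eO⟩ := hO
  haveI : LocallyOfFiniteType f := by
    have : LocallyOfFiniteType (f ≫ q) := by rw [w]; infer_instance
    exact locallyOfFiniteType_of_comp f q
  have h0 : Dual3.FibreDimLE f 0 := fun s => by
    haveI : DiscreteTopology ↥(f.fiber s) := inferInstance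
    exact_mod_cast topologicalKrullDim_zero_of_discreteTopology _
  obtain ⟨E, hE, hfl, ⟨e⟩⟩ := h.2 0 h0
  haveI : CochainComplex.IsStrictlyGE E 0 := (CochainComplex.isStrictlyGE_iff _ _).2 fun i hi => hE i (Or.inl (by omega))
  haveI : CochainComplex.IsStrictlyLE E 0 := (CochainComplex.isStrictlyLE_iff _ _).2 fun i hi => hE i (Or.inr (by omega))
  obtain ⟨A₀, ⟨es⟩⟩ := CochainComplex.exists_iso_single E 0
  let eD : (DerivedCategory.singleFunctor X.Modules 0).obj A₀ ≅ (Dual3.shriekC c a).obj O :=
    (DerivedCategory.singleFunctorIsoCompQ X.Modules 0).app A₀ ≪≫ DerivedCategory.Q.mapIso es.symm ≪≫ e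
  let eH : A₀ ≅ DCoh.HD ((Dual3.shriekC c a).obj O) 0 :=
    ((DerivedCategory.singleFunctorCompHomologyFunctorIso X.Modules 0).app A₀).symm ≪≫
      (DerivedCategory.homologyFunctor _ 0).mapIso eD
  refine ⟨fun i hi => ?_, ?_, ?_⟩
  · haveI : ((DerivedCategory.singleFunctor X.Modules 0).obj A₀).IsGE 0 := inferInstance
    haveI : ((DerivedCategory.singleFunctor X.Modules 0).obj A₀).IsLE 0 := inferInstance
    refine IsZero.of_iso ?_ ((DerivedCategory.homologyFunctor _ i).mapIso eD.symm)
    rcases lt_or_gt_of_ne hi with hi | hi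
    · exact DerivedCategory.isZero_of_isGE _ 0 i hi
    · exact DerivedCategory.isZero_of_isLE _ 0 i hi
  · exact CohShriek.isCohD_shriek c.j c.fbar adj O (ViaApp.isBddBelowQ_O eO)
      (isCohD_of_iso eO.symm (ViaCoh.isCohD_structure Y)) 0
  · exact isFlatOver_of_iso' f
      (((HomologicalComplex.eval X.Modules (ComplexShape.up ℤ) 0).mapIso es ≪≫
        HomologicalComplex.singleObjXSelf (ComplexShape.up ℤ) 0 A₀ ≪≫ eH)) (hfl 0)
end Groth.Agent.S3613
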