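import Groth.Statements.S3614
import Groth.Agent.KExact.ViaDeg
import Groth.Agent.KExact.ViaCoh
import Groth.Agent.S3612
import Groth.Agent.FibDim.Comp
-- import your own Groth.Agent.* helpers here

set_option autoImplicit false
set_option linter.style.haveILetI false
set_option backward.isDefEq.respectTransparency false
set_option backward.isDefEq.respectTransparency.types false

universe u
open CategoryTheory CategoryTheory.Limits AlgebraicGeometry
attribute [local instance] HasDerivedCategory.standard
open Dual3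

namespace Groth.Agent.S3614

attribute [local instance] HasDerivedCategory.standard
open Groth.Agent.KExact Groth.Agent.KFlatLib Groth.Agent


/-- Let S be a Noetherian scheme, X and Y schemes separated and of finite type over S and f : X → Y a
morphism over S; compute f^! through a compactification f = j ∘ p (j : X → X' an open immersion, p :
X' → Y proper, Rp_* on D_QCoh assumed to exist and to preserve quasi-coherence of cohomology, a a
right adjoint of Rp_*, restriction of modules to opens assumed exact), so that f^!K = a(K)|_X.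
Assume f is Cohen–Macaulay at every point and every irreducible component of every fibre of f has
dimension d, and let O be the structure sheaf of Y in degree 0. Then H^i(f^!O) = 0 for i ≠ -d and
H^{-d}(f^!O) is a coherent O_X-module flat over Y; that is, f^!O = ω[d] for a coherent Y-flat module
ω. -/
theorem result (S X Y : Scheme.{u}) [IsNoetherian S] (p : X ⟶ S) (q : Y ⟶ S) [Dual3.IsSepFT p] [Dual3.IsSepFT q] (f : X ⟶ Y) (w : f ≫ q = p) (hCM : ∀ x : X, MoreMor.IsCMAt f x) (d : ℕ) (hd : ∀ (y : Y) (Z : Set ↥(f.fiber y)), Z ∈ irreducibleComponents ↥(f.fiber y) → topologicalKrullDim ↥Z = (d : WithBot ℕ∞)) (c : DEt.Compactification f) [DCoh.HasRpush c.fbar] (hc : DCoh.RpushPreservesQCoh c.fbar) (a : DCoh.DQCoh Y ⥤ DCoh.DQCoh c.Xbar) (adj : DCoh.RpushQ c.fbar hc ⊣ a) [∀ (U V : Scheme.{u}) (j : U ⟶ V) [IsOpenImmersion j], PreservesFiniteLimits (Scheme.Modules.restrictFunctor j)] (O : DCoh.DQCoh Y) (hO : Nonempty (O.obj ≅ DCoh.inD Y (Coh.structureModule Y))) : (∀ i : ℤ, i ≠ -(d : ℤ) → IsZero (DCoh.HD ((Dual3.shriekC c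 a).obj O) i)) ∧ Coh.IsCoh (DCoh.HD ((Dual3.shriekC c a).obj O) (-(d : ℤ))) ∧ FlatMod.IsFlatOver f (DCoh.HD ((Dual3.shriekC c a).obj O) (-(d : ℤ))) := by
  haveI : ∀ (R : CommRingCat.{u}), PreservesFiniteLimits (tilde.functor R) := fun R => QCoh.tilde_preservesFiniteLimits
  haveI : IsNoetherian Y := BCNat.isNoetherian_of_ft q
  haveI : IsNoetherian X := BCNat.isNoetherian_of_ft p
  haveI : LocallyOfFiniteType f := by
    have : LocallyOfFiniteType (f ≫ q) := by rw [w]; infer_instance
    exact locallyOfFiniteType_of_comp f q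
  haveI : Flat f := (Flat.iff_flat_stalkMap f).2 fun x => (hCM x).1
  have hrel : Cyc.HasRelDim f d := hd
  have h2 := (Groth.Agent.S3612.result S X Y p q f w c hc a adj O hO).2
  obtain ⟨eO⟩ := hO
  have hz : ∀ i : ℤ, i ≠ -(d : ℤ) → IsZero (DCoh.HD ((Dual3.shriekC c a).obj O) i) := fun i hi => by
    refine KFlatLib.isZero_of_stalk _ fun x => ?_
    refine @ModuleCat.isZero_of_subsingleton _ _ _ (not_nontrivial_iff_subsingleton.1 fun h => hi ?_)
    obtain ⟨ch⟩ := ViaApp.exists_chart c.j c.fbar adj f c.fac O eO x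
    exact ViaDeg.degree ch d hrel hCM i (Module.mem_support_iff.2 ((ch.nontrivial_iff_at i).1 h))
  refine ⟨hz, CohShriek.isCohD_shriek c.j c.fbar adj O (ViaApp.isBddBelowQ_O eO)
    (isCohD_of_iso eO.symm (ViaCoh.isCohD_structure Y)) _, ?_⟩
  refine ViaDeg.isFlatOver_hd_of_amp _ _ 0 (h2 d fun s => ?_) fun i hi => hz i (ne_of_gt hi)
  refine (FibDim.topologicalKrullDim_fiber_le_iff (f := f) s d).2 fun z _ => ?_
  have h := FibDim.fibreDimAt_eq_of_hasRelDim f hrel z
  have h' := FibDim.rd_le_fibreDimAt (f := f) (specializes_rfl (x := z)) rfl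
  rw [h] at h'
  exact_mod_cast h'
end Groth.Agent.S3614
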