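import Groth.Statements.S3615
import Groth.Agent.KExact.ViaPoint
import Groth.Agent.CxSuppLib.Basic
-- import your own Groth.Agent.* helpers here

set_option autoImplicit false
set_option linter.style.haveILetI false
set_option backward.isDefEq.respectTransparency false
set_option backward.isDefEq.respectTransparency.types false

universe u
open CategoryTheory CategoryTheory.Limits AlgebraicGeometry
attribute [local instance] HasDerivedCategory.standard
open Dual3

namespace Groth.Agent.S3615

attribute [local instance] HasDerivedCategory.standard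
open Groth.Agent.KExact Groth.Agent.KFlatLib Groth.Agent


/-- Let S be a Noetherian scheme, X and Y schemes separated and of finite type over S and f : X → Y a
morphism over S; compute f^! through a compactification f = j ∘ p (j : X → X' an open immersion, p :
X' → Y proper, Rp_* on D_QCoh assumed to exist and to preserve quasi-coherence of cohomology, a a
right adjoint of Rp_*, restriction of modules to opens assumed exact), so that f^!K = a(K)|_X.
Assume f is flat and let O be the structure sheaf of Y in degree 0 and x a point of X. Then f is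
Cohen–Macaulay at x if and only if there are an open neighbourhood U of x and an integer n such that
H^i(f^!O) restricts to zero on U for every i ≠ n while H^n(f^!O) does not. -/
theorem result (S X Y : Scheme.{u}) [IsNoetherian S] (p : X ⟶ S) (q : Y ⟶ S) [Dual3.IsSepFT p] [Dual3.IsSepFT q] (f : X ⟶ Y) (w : f ≫ q = p) [Flat f] (c : DEt.Compactification f) [DCoh.HasRpush c.fbar] (hc : DCoh.RpushPreservesQCoh c.fbar) (a : DCoh.DQCoh Y ⥤ DCoh.DQCoh c.Xbar) (adj : DCoh.RpushQ c.fbar hc ⊣ a) [∀ (U V : Scheme.{u}) (j : U ⟶ V) [IsOpenImmersion j], PreservesFiniteLimits (Scheme.Modules.restrictFunctor j)] (O : DCoh.DQCoh Y) (hO : Nonempty (O.obj ≅ DCoh.inD Y (Coh.structureModule Y))) (x : X) : MoreMor.IsCMAt f x ↔ ∃ (U : X.Opens) (n : ℤ), x ∈ U ∧ (∀ i : ℤ, i ≠ n → IsZero ((DCoh.HD ((Dual3.shriekC c a).obj O) i).restrict U.ι)) ∧ ¬ IsZero ((DCoh.HD ((Dual3.shriekC c a).obj O) n).restrict U.ι) := by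
  haveI : ∀ (R : CommRingCat.{u}), PreservesFiniteLimits (tilde.functor R) := fun R => QCoh.tilde_preservesFiniteLimits
  haveI : IsNoetherian Y := BCNat.isNoetherian_of_ft q
  haveI : IsNoetherian X := BCNat.isNoetherian_of_ft p
  obtain ⟨eO⟩ := hO
  obtain ⟨ch⟩ := ViaApp.exists_chart c.j c.fbar adj f c.fac O eO x
  set K := (Dual3.shriekC c a).obj O with hK
  have hst : ∀ (q : PrimeSpectrum ch.A) (i : ℤ), Nontrivial ((DCoh.HD K i).presheaf.stalk (ch.k.base q)) ↔
      q ∈ Module.support ch.A (Dual.HD ch.A (ViaPoint.om ch) i) := fun q i =>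
    (ch.nontrivial_iff q i).trans Module.mem_support_iff.symm
  constructor
  · intro hcm
    obtain ⟨n, hn, hu⟩ := (ViaPoint.isCMAt_iff ch).1.1 hcm
    obtain ⟨⟨a₀, b₀, hab⟩, hfin⟩ := ViaPoint.bounds ch
    have hcl : IsClosed (⋃ i ∈ (Set.Icc a₀ b₀ \ {n}), Module.support ch.A (Dual.HD ch.A (ViaPoint.om ch) i)) :=
      ((Set.finite_Icc a₀ b₀).diff).isClosed_biUnion fun i _ => by
        haveI := hfin i
        rw [Module.support_eq_zeroLocus]
        exact PrimeSpectrum.isClosed_zeroLocus _
    have hopen := hcl.isOpen_compl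
    refine ⟨⟨ch.k.base '' (_ᶜ), ch.k.isOpenEmbedding.isOpenMap _ hopen⟩, n, ⟨ViaPoint.pt ch, ?_, ch.hp⟩, ?_, ?_⟩
    · simp only [Set.mem_compl_iff, Set.mem_iUnion, not_exists]
      exact fun i hi hm => hi.2 (hu i hm)
    · intro i hi
      refine (CxSuppLib.isZero_restrict_iff _ _).2 fun y hy hy' => ?_
      rw [Scheme.Opens.range_ι] at hy'
      obtain ⟨q, hq, rfl⟩ := hy'
      have hnt : Nontrivial ((DCoh.HD K i).presheaf.stalk (ch.k.base q)) :=
        not_subsingleton_iff_nontrivial.1 hy
      have hm := (hst q i).1 hnt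
      simp only [Set.mem_compl_iff, Set.mem_iUnion, not_exists] at hq
      refine hq i ⟨⟨?_, ?_⟩, hi⟩ hm
      · by_contra h
        haveI := hab i (Or.inl (not_le.1 h))
        exact not_subsingleton_iff_nontrivial.2 (Module.mem_support_iff.1 hm) inferInstance
      · by_contra h
        haveI := hab i (Or.inr (not_le.1 h))
        exact not_subsingleton_iff_nontrivial.2 (Module.mem_support_iff.1 hm) inferInstance
    · intro h
      refine ((CxSuppLib.isZero_restrict_iff _ _).1 h (?_ : ch.k.base (ViaPoint.pt ch) ∈ _)) ?_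
      · exact not_subsingleton_iff_nontrivial.2 ((hst _ n).2 hn)
      · rw [Scheme.Opens.range_ι]
        refine ⟨ViaPoint.pt ch, ?_, rfl⟩
        simp only [Set.mem_compl_iff, Set.mem_iUnion, not_exists]
        exact fun i hi hm => hi.2 (hu i hm)
  · rintro ⟨U, n, hxU, hz, -⟩
    refine (ViaPoint.isCMAt_iff ch).1.2 ?_
    obtain ⟨i, hi⟩ := ViaPoint.exists_mem ch (ViaPoint.pt ch)
    have huniq : ∀ j, ViaPoint.pt ch ∈ Module.support ch.A (Dual.HD ch.A (ViaPoint.om ch) j) → j = n := by
      intro j hj
      by_contra hne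
      refine ((CxSuppLib.isZero_restrict_iff _ _).1 (hz j hne) (?_ : x ∈ _)) ?_
      · have h' := (hst _ j).2 hj
        erw [ch.hp] at h'
        exact not_subsingleton_iff_nontrivial.2 h'
      · rw [Scheme.Opens.range_ι]
        exact hxU
    exact ⟨i, hi, fun j hj => (huniq j hj).trans (huniq i hi).symm⟩
end Groth.Agent.S3615
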