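import Groth.Statements.S3618
import Groth.Agent.KFlatLib.Scheme.BCMapMain
import Groth.Agent.KFlatLib.Scheme.SupportProper
import Groth.Agent.KFlatLib.Scheme.PerfMorTor
import Groth.Agent.S1513
-- import your own Groth.Agent.* helpers here

set_option autoImplicit false
universe u
open CategoryTheory CategoryTheory.Limits AlgebraicGeometry
attribute [local instance] HasDerivedCategory.standard
open Dual3

namespace Groth.Agent.S3618

/-- Consider a cartesian square of schemes X' = Y' ×_Y X with projections f' : X' → Y' and g' : X' → X,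
in which X, Y and Y' are Noetherian, X' is quasi-compact and quasi-separated, f : X → Y is perfect
and proper, and g : Y' → Y is flat. Assume the derived direct images along f, f', g and g' exist and
preserve quasi-coherence of cohomology, giving functors Rf_*, Rf'_*, Rg_*, Rg'_* between the
categories D_QCoh; let a and a' be right adjoints of Rf_* and Rf'_* on D_QCoh; and assume the
derived pullbacks Lg^* and Lg'^* exist, preserve D_QCoh and are left adjoint there to Rg_* and
Rg'_*. Then there is an identification e : Rf_* ∘ Rg'_* ≅ Rg_* ∘ Rf'_* with the following two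
properties. First, for every M in D_QCoh(O_{Y'}) the map ξ_M : Rg'_* a'(M) → a(Rg_* M), adjoint
under Rf_* ⊣ a to the composite Rf_* Rg'_* a'(M) ≅ Rg_* Rf'_* a'(M) → Rg_* M of e with Rg_* of the
counit of Rf'_* ⊣ a', is an isomorphism. Second, for every K in D_QCoh(O_Y) the base change map
Lg'^* a(K) → a'(Lg^* K), the composite Lg'^* a(K) → Lg'^* a(Rg_* Lg^* K) → Lg'^* Rg'_* a'(Lg^* K) →
a'(Lg^* K) of the unit of Lg^* ⊣ Rg_*, the inverse of ξ and the counit of Lg'^* ⊣ Rg'_*, is an
isomorphism. (The published statement is for Tor-independent base change; a flat g is a special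
case, and only that case is stated here.) -/
theorem result (X Y X' Y' : Scheme.{u}) [IsNoetherian X] [IsNoetherian Y] [IsNoetherian Y'] [CompactSpace X'] [QuasiSeparatedSpace X'] (f : X ⟶ Y) (g : Y' ⟶ Y) (f' : X' ⟶ Y') (g' : X' ⟶ X) (hsq : IsPullback g' f' f g) [IsProper f] (hperf : MoreMor.IsPerfectMor f) [Flat g] [DCoh.HasRpush f] [DCoh.HasRpush f'] [DCoh.HasRpush g] [DCoh.HasRpush g'] (hf : DCoh.RpushPreservesQCoh f) (hf' : DCoh.RpushPreservesQCoh f') (hg : DCoh.RpushPreservesQCoh g) (hg' : DCoh.RpushPreservesQCoh g') (a : DCoh.DQCoh Y ⥤ DCoh.DQCoh X) (a' : DCoh.DQCoh Y' ⥤ DCoh.DQCoh X') (adj : DCoh.RpushQ f hf ⊣ a) (adj' : DCoh.RpushQ f' hf' ⊣ a') [DCoh.HasLpull g] [DCoh.HasLpull g'] (hLg : Dual3.LpullPreservesQCoh g) (hLg' : Dual3.LpullPreservesQCoh g') (adjg : Dual3.LpullQ g hLg ⊣ DCoh.RpushQ g hg) (adjg' : Dual3.LpullQ g' hLg' ⊣ DCoh.RpushQ g' hg') : ∃ (e : (DCoh.RpushQ g' hg' ⋙ DCoh.RpushQ f hf ≅ DCoh.RpushQ f' hf' ⋙ DCoh.RpushQ g hg)) (hξ : ∀ M : DCoh.DQCoh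 Y', IsIso (Dual3.xi adj adj' e M)), ∀ K : DCoh.DQCoh Y, IsIso (Dual3.bcMap adj adj' e adjg adjg' K (hξ _)) := by
  haveI : Flat g' := MorphismProperty.of_isPullback (P := @Flat) hsq.flip ‹Flat g›
  haveI : IsProper f' := MorphismProperty.of_isPullback (P := @IsProper) hsq ‹IsProper f›
  haveI : QuasiCompact g := inferInstance
  haveI : QuasiSeparated g := inferInstance
  haveI : QuasiCompact g' := MorphismProperty.of_isPullback (P := @QuasiCompact) hsq.flip ‹QuasiCompact g›
  haveI : QuasiSeparated g' := MorphismProperty.of_isPullback (P := @QuasiSeparated) hsq.flip ‹QuasiSeparated g›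
  obtain ⟨e, hbc⟩ := KFlatLib.BCData.exists_e hf hf' adjg adjg' hsq
  refine ⟨e, KFlatLib.BCData.isIso_xi adjg adjg' adj adj' e hbc, fun K => ?_⟩
  refine KFlatLib.BCData.isIso_bcMap adjg adjg' adj adj' e hbc K _ ?_
  have hperf' : MoreMor.IsPerfectMor f' := S1513.result f f' g' g hsq hperf
  refine KFlatLib.BCMapMain.isIso_mMap adj adj' _ hsq K fun y' => ?_
  obtain ⟨_, ⟨V, hV, rfl⟩, hyV, -⟩ :=
    Y.isBasis_affineOpens.exists_subset_of_mem_open (Set.mem_univ (g.base y')) isOpen_univ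
  obtain ⟨_, ⟨V', hV', rfl⟩, hyV', hle⟩ :=
    Y'.isBasis_affineOpens.exists_subset_of_mem_open (show y' ∈ g ⁻¹ᵁ V from hyV) (g ⁻¹ᵁ V).2
  let V₀ : Y.Opens := V
  refine ⟨V, V', hV, hV', hyV', hle, inferInstance, inferInstance, fun u hu => ?_, fun u hu => ?_, fun R hR => ?_⟩
  · exact KFlatLib.BCLoc.isIso_rho_a f adj
      (fun E hE Q P J hP hJ hJi e₁ e₂ => KFlatLib.SupportAdj.isQCohD_iHom_of_locSP hP
        ((KFlatLib.PerfMorTor.locSP_rpush_of_perfMor f hperf hE).of_iso e₁.some.symm) Q.property e₂.some) u hu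
  · exact KFlatLib.BCLoc.isIso_rho_a f' adj'
      (fun E hE Q P J hP hJ hJi e₁ e₂ => KFlatLib.SupportAdj.isQCohD_iHom_of_locSP hP
        ((KFlatLib.PerfMorTor.locSP_rpush_of_perfMor f' hperf' hE).of_iso e₁.some.symm) Q.property e₂.some) u hu
  · have h1 := KFlatLib.PerfMorTor.locSP_rpush_of_perfMor f hperf hR
    exact Or.inl (KFlatLib.LocSP.restrict' h1 V₀.ι)


end Groth.Agent.S3618
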