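import Groth.Statements.S3639
import Groth.Agent.KExact.RHomOCartier
-- import your own Groth.Agent.* helpers here

set_option autoImplicit false
set_option linter.style.haveILetI false
set_option backward.isDefEq.respectTransparency false
set_option backward.isDefEq.respectTransparency.types false

universe u
open CategoryTheory CategoryTheory.Limits AlgebraicGeometry
attribute [local instance] HasDerivedCategory.standard
open Dual3

namespace Groth.Agent.S3639

attribute [local instance] HasDerivedCategory.standard


/-- Let X be a scheme and D ⊆ X an effective Cartier divisor, given by its ideal sheaf I (locally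
generated by one nonzerodivisor) with closed immersion i : D → X; let L be an O_X-module inverse to
I for the tensor product (the module O_X(D)) and N = i^*L the normal sheaf. Let R Hom(O_D, -) :
D^+(O_X) → D^+(O_D) be the right derived functor of the right adjoint of i_* (assumed to exist,
injective resolutions assumed) and O an object of D^+(O_X) isomorphic to the structure sheaf in
degree 0. Then H^j(R Hom(O_D, O)) = 0 for j ≠ 1 and H^1(R Hom(O_D, O)) is isomorphic to N; that is,
R Hom(O_D, O_X) = N[-1]. -/
theorem result (X : Scheme.{u}) (I : X.IdealSheafData) (hI : BlowUp.IsEffCartierIdeal I) [Dual3.HasHomO I.subschemeι] [EnoughInjectives X.Modules] (L : X.Modules) (hL : ClSub.IsInverseOf L (ClSub.idealMod I)) (O : DerivedCategory.Plus X.Modules) (hO : Nonempty (O.obj ≅ DCoh.inD X (Coh.structureModule X))) : (∀ j : ℤ, j ≠ 1 → IsZero (DCoh.HD ((Dual3.RHomOPlus I.subschemeι).obj O).obj j)) ∧ Nonempty (DCoh.HD ((Dual3.RHomOPlus I.subschemeι).obj O).obj 1 ≅ (Scheme.Modules.pullback I.subschemeι).obj L) := by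
  obtain ⟨eO⟩ := hO
  exact KExact.RHomOCartier.main hI hL O eO
end Groth.Agent.S3639
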