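import Groth.Statements.S3643
import Groth.Agent.KExact.ViaPoint
import Groth.Agent.KFlatLib.Scheme.RelPerfectBC
-- import your own Groth.Agent.* helpers here

set_option autoImplicit false
set_option linter.style.haveILetI false
set_option backward.isDefEq.respectTransparency false
set_option backward.isDefEq.respectTransparency.types false

universe u
open CategoryTheory CategoryTheory.Limits AlgebraicGeometry
attribute [local instance] HasDerivedCategory.standard
open Dual3

namespace Groth.Agent.S3643

attribute [local instance] HasDerivedCategory.standard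
open Groth.Agent.KExact Groth.Agent.KFlatLib Groth.Agent
open scoped TensorProduct


/-- Let S be a Noetherian scheme, X and Y schemes separated and of finite type over S and f : X → Y a
morphism over S; compute f^! through a compactification f = j ∘ p (j : X → X' an open immersion, p :
X' → Y proper, Rp_* on D_QCoh assumed to exist and to preserve quasi-coherence of cohomology, a a
right adjoint of Rp_*, restriction of modules to opens assumed exact), so that f^!K = a(K)|_X.
Assume f is flat, let O be the structure sheaf of Y in degree 0 and ω = f^!O. For a point y of Y let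
h : X_y → X be the inclusion of the fibre and Lh^* its derived pullback (assumed to exist; exactness
instances as in the definition of dualizing complexes). Then Lh^*ω is a dualizing complex on the
fibre X_y. -/
theorem result (S X Y : Scheme.{u}) [IsNoetherian S] (p : X ⟶ S) (q : Y ⟶ S) [Dual3.IsSepFT p] [Dual3.IsSepFT q] (f : X ⟶ Y) (w : f ≫ q = p) [Flat f] (c : DEt.Compactification f) [DCoh.HasRpush c.fbar] (hc : DCoh.RpushPreservesQCoh c.fbar) (a : DCoh.DQCoh Y ⥤ DCoh.DQCoh c.Xbar) (adj : DCoh.RpushQ c.fbar hc ⊣ a) [∀ (U V : Scheme.{u}) (j : U ⟶ V) [IsOpenImmersion j], PreservesFiniteLimits (Scheme.Modules.restrictFunctor j)] [∀ (R : CommRingCat.{u}), PreservesFiniteLimits (tilde.functor R)] (O : DCoh.DQCoh Y) (hO : Nonempty (O.obj ≅ DCoh.inD Y (Coh.structureModule Y))) (y : Y) [DCoh.HasLpull (f.fiberι y)] : Dual2.IsDualizingSch (f.fiber y) ((DCoh.Lpull (f.fiberι y)).obj ((Dual3.shriekC c a).obj O)) := by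
  haveI : IsNoetherian Y := BCNat.isNoetherian_of_ft q
  haveI : IsNoetherian X := BCNat.isNoetherian_of_ft p
  haveI : LocallyOfFiniteType f := by
    have : LocallyOfFiniteType (f ≫ q) := by rw [w]; infer_instance
    exact locallyOfFiniteType_of_comp f q
  haveI : IsLocallyNoetherian (f.fiber y) := DimFormula.isLocallyNoetherian_fiber f y
  obtain ⟨eO⟩ := hO
  intro B _ j _
  refine DualizingCharts.exists_isDualizing_of_charts _ (fun z => ?_) B j
  obtain ⟨ch⟩ := ViaApp.exists_chart c.j c.fbar adj f c.fac O eO (f.fiberι y z)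
  haveI : Module.Flat ch.R ch.A := ch.flat ‹_›
  let k := Y.residueField y
  have hy : f (f.fiberι y z) = y := FlatDvr.fiberι_apply_eq f z
  have hr : Set.range (Y.fromSpecResidueField y).base ⊆ Set.range ch.i.base := by
    rw [Scheme.range_fromSpecResidueField, Set.singleton_subset_iff]
    refine ⟨(Spec.map (CommRingCat.ofHom (algebraMap ch.R ch.A))).base ch.p, ?_⟩
    rw [← Scheme.Hom.comp_apply, ← ch.comm, Scheme.Hom.comp_apply, ch.hp, hy]
  let l := IsOpenImmersion.lift ch.i (Y.fromSpecResidueField y) hr
  letI : Algebra ch.R k := (Spec.preimage l).hom.toAlgebra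
  have hl : Spec.map (CommRingCat.ofHom (algebraMap ch.R k)) ≫ ch.i = 𝟙 _ ≫ Y.fromSpecResidueField y := by
    rw [show CommRingCat.ofHom (algebraMap ch.R k) = Spec.preimage l from rfl, Spec.map_preimage, Category.id_comp]
    exact IsOpenImmersion.lift_fac _ _ _
  haveI : IsOpenImmersion (𝟙 (Spec (CommRingCat.of (k : Type u)))) := inferInstance
  obtain ⟨j', hj', hfst, -, hrange⟩ := RelPerfectBC.exists_pullback_chart f (Y.fromSpecResidueField y)
    (R := ch.R) (A := ch.A) (R' := (k : Type u)) ch.k ch.i ch.comm.symm (𝟙 _) hl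
  haveI := hj'
  haveI := H9Misc.DRingLBase.hasLBaseChange
    (Algebra.TensorProduct.includeRight : ch.A →ₐ[ch.R] (k : Type u) ⊗[ch.R] ch.A).toRingHom
  haveI : DCoh.HasLpull (pullback.fst f (Y.fromSpecResidueField y)) := ‹DCoh.HasLpull (f.fiberι y)›
  obtain ⟨e⟩ := RelPerfectBC.nonempty_rho_lpull_iso
    (Algebra.TensorProduct.includeRight : ch.A →ₐ[ch.R] (k : Type u) ⊗[ch.R] ch.A).toRingHom
    (pullback.fst f (Y.fromSpecResidueField y)) ch.k j' hfst _ ch.e
  refine ⟨_, inferInstance, j', hj', _, ?_,
    (Groth.Agent.S1801.result ch.R ch.A ch.n ch.ψ ch.hψ ch.Rψ ch.adj).2.2.2.2 (k : Type u), inferInstance, ⟨e⟩⟩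
  exact hrange.ge ⟨⟨ch.p, ch.hp⟩, ⟨(pullback.snd f (Y.fromSpecResidueField y)).base z, rfl⟩⟩
end Groth.Agent.S3643
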