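import Groth.Statements.S3644
import Groth.Agent.KExact.ViaApp
import Groth.Agent.KExact.ViaCoh
import Groth.Agent.KExact.ViaPerf
import Groth.Agent.KExact.SelfHomSch
import Groth.Agent.KExact.DualizingS2
-- import your own Groth.Agent.* helpers here

set_option autoImplicit false
set_option linter.style.haveILetI false
set_option backward.isDefEq.respectTransparency false
set_option backward.isDefEq.respectTransparency.types false

universe u
open CategoryTheory CategoryTheory.Limits AlgebraicGeometry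
attribute [local instance] HasDerivedCategory.standard
open Dual3

namespace Groth.Agent.S3644

attribute [local instance] HasDerivedCategory.standard
open Groth.Agent.KExact Groth.Agent.KFlatLib Groth.Agent


/-- Let S be a Noetherian scheme, X and Y schemes separated and of finite type over S and f : X → Y a
morphism over S; compute f^! through a compactification f = f̄ ∘ j (j : X → X̄ an open immersion, f̄
: X̄ → Y proper, Rf̄_* on D_QCoh assumed to exist and to preserve quasi-coherence of cohomology, a a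
right adjoint of Rf̄_*, and restriction of modules to opens assumed exact), so that f^!K = a(K)|_X.
Assume f is perfect (affine-locally given by perfect ring maps) and let O be the structure sheaf of
Y placed in degree 0. Then: for every K in D_QCoh(O_Y) with bounded and coherent cohomology, f^!K
has bounded and coherent cohomology; and for any complex E representing f^!O, with − ⊗^L E ⊣ RHom(E,
−) assumed, and any identification υ : O_X ⊗^L E ≅ E, the map O_X → RHom(E, E) adjoint to υ is an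
isomorphism. -/
theorem result (S X Y : Scheme.{u}) [IsNoetherian S] (p : X ⟶ S) (q : Y ⟶ S) [Dual3.IsSepFT p] [Dual3.IsSepFT q] (f : X ⟶ Y) (w : f ≫ q = p) (hf : MoreMor.IsPerfectMor f) (c : DEt.Compactification f) [DCoh.HasRpush c.fbar] (hc : DCoh.RpushPreservesQCoh c.fbar) (a : DCoh.DQCoh Y ⥤ DCoh.DQCoh c.Xbar) (adj : DCoh.RpushQ c.fbar hc ⊣ a) [∀ (U V : Scheme.{u}) (j : U ⟶ V) [IsOpenImmersion j], PreservesFiniteLimits (Scheme.Modules.restrictFunctor j)] (O : DCoh.DQCoh Y) (hO : Nonempty (O.obj ≅ DCoh.inD Y (Coh.structureModule Y))) : (∀ (K : DCoh.DQCoh Y) (lo hi : ℤ), (∀ i : ℤ, (i < lo ∨ hi < i) → IsZero (DCoh.HD K.obj i)) → (∀ i : ℤ, Coh.IsCoh (DCoh.HD K.obj i)) → (∃ lo' hi' : ℤ, ∀ i : ℤ, (i < lo' ∨ hi' < i) → IsZero (DCoh.HD ((Dual3.shriekC c a).obj K) i)) ∧ ∀ i : ℤ, Coh.IsCoh (DCoh.HD ((Dual3.shriekC c a).obj K) i)) ∧ ∀ (E : CochainComplex X.Modules ℤ) (hE : Nonempty (DCoh.toD X E ≅ (Dual3.shriekC c a).obj O)) [DCoh.HasLTensorCx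 E] [DCoh.HasRSheafHom E] (υ : (DCoh.LTensorCx E).obj (DCoh.inD X (Coh.structureModule X)) ≅ DCoh.toD X E), IsIso (((DCoh.RSheafHomAdj E).homEquiv (DCoh.inD X (Coh.structureModule X)) (DCoh.toD X E)) υ.hom) := by
  haveI : ∀ (R : CommRingCat.{u}), PreservesFiniteLimits (tilde.functor R) := fun R => QCoh.tilde_preservesFiniteLimits
  haveI : IsNoetherian Y := BCNat.isNoetherian_of_ft q
  haveI : IsNoetherian X := BCNat.isNoetherian_of_ft p
  haveI : LocallyOfFiniteType f := by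
    have : LocallyOfFiniteType (f ≫ q) := by rw [w]; infer_instance
    exact locallyOfFiniteType_of_comp f q
  have hc0 : c.j ≫ c.fbar = f := c.fac
  have hperf : MoreMor.IsPerfectMor (c.j ≫ c.fbar) := hc0.symm ▸ hf
  -- charts for any bounded below object
  have hchart : ∀ (K : DCoh.DQCoh Y), Dual3.IsBddBelowQ Y K → ∀ x : X,
      ∃ (V : Y.Opens) (hV : IsAffineOpen V) (U : X.Opens) (hU : IsAffineOpen U) (hUV : U ≤ (c.j ≫ c.fbar) ⁻¹ᵁ V) (n : ℕ)
        (ψ : MvPolynomial (Fin n) Γ(Y, V) →+* Γ(X, U)) (_ : DRing.HasLBaseChange (algebraMap Γ(Y, V) (MvPolynomial (Fin n) Γ(Y, V))))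
        (Rψ : Dual.D (MvPolynomial (Fin n) Γ(Y, V)) ⥤ Dual.D Γ(X, U)) (_ : DRing.restrictD ψ ⊣ Rψ) (ω : Dual.D Γ(Y, V)),
        x ∈ U ∧ Function.Surjective ψ ∧ ψ.comp MvPolynomial.C = ((c.j ≫ c.fbar).appLE V U hUV).hom ∧
        DRing.IsPerfect (MvPolynomial (Fin n) Γ(Y, V)) ((DRing.restrictD ψ).obj (DTen.unit Γ(X, U))) ∧
        Nonempty ((rho hV.fromSpec).obj K.obj ≅ (DCoh.tildeD Γ(Y, V)).obj ω) ∧
        Nonempty ((rho hU.fromSpec).obj ((Dual3.shriekC c a).obj K) ≅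
          (DCoh.tildeD Γ(X, U)).obj (Dual2.shriekVia n Rψ ω)) := fun K hb x => by
    obtain ⟨V, hV, U, hU, hUV, n, ψ, hxU, hψ, hψC⟩ := ViaChart.exists_presentation (c.j ≫ c.fbar) x
    haveI : IsNoetherianRing Γ(Y, V) := IsLocallyNoetherian.component_noetherian ⟨V, hV⟩
    haveI : IsNoetherianRing Γ(X, U) := IsLocallyNoetherian.component_noetherian ⟨U, hU⟩
    haveI := H9Misc.DRingLBase.hasLBaseChange (algebraMap Γ(Y, V) (MvPolynomial (Fin n) Γ(Y, V)))
    obtain ⟨Rψ, ⟨adjψ⟩⟩ := exists_shriek ψ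
    obtain ⟨ω, ⟨eω⟩⟩ := exists_tildeD_iso (R := Γ(Y, V)) (isQCohD_rho hV.fromSpec K.property)
    refine ⟨V, hV, U, hU, hUV, n, ψ, inferInstance, Rψ, adjψ, ω, hxU, hψ, hψC, ?_, ⟨eω.symm⟩,
      ViaChart.nonempty_chart_iso c.j c.fbar adj hU hV hUV ψ hψ hψC adjψ K hb ω eω.symm⟩
    letI := ((c.j ≫ c.fbar).appLE V U hUV).hom.toAlgebra
    exact ViaPerf.isPerfect_unit { ψ with commutes' := fun r => RingHom.congr_fun hψC r } hψ (hperf U V hU hV hUV)
  refine ⟨fun K lo hi hz hcoh => ?_, fun E hE _ _ υ => ?_⟩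
  · have hb : Dual3.IsBddBelowQ Y K := ⟨lo, (DerivedCategory.isGE_iff _ _).2 fun i hi => hz i (Or.inl hi)⟩
    have hloc : ∀ x : X, ∃ (U : X.Opens) (l h : ℤ), x ∈ U ∧ ∀ i, (i < l ∨ h < i) → ∀ y ∈ U,
        Subsingleton ((DCoh.HD ((Dual3.shriekC c a).obj K) i).presheaf.stalk y) := fun x => by
      obtain ⟨V, hV, U, hU, hUV, n, ψ, _, Rψ, adjψ, ω, hxU, hψ, hψC, hP, ⟨eω⟩, ⟨e⟩⟩ := hchart K hb x
      haveI : IsNoetherianRing Γ(Y, V) := IsLocallyNoetherian.component_noetherian ⟨V, hV⟩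
      let P := MvPolynomial (Fin n) Γ(Y, V)
      have hω : ∀ i, (i < lo ∨ hi < i) → Subsingleton (Dual.HD Γ(Y, V) ω i) := fun i hi => by
        obtain ⟨eH⟩ := exists_restrict_hd_iso hV.fromSpec eω i
        haveI : (moduleSpecΓFunctor (R := Γ(Y, V))).Additive := (tilde.adjunction (R := Γ(Y, V))).right_adjoint_additive
        have h0 := ((Scheme.Modules.restrictFunctor hV.fromSpec).map_isZero (hz i hi)).of_iso eH.symm
        exact ModuleCat.subsingleton_of_isZero ((moduleSpecΓFunctor.map_isZero h0).of_iso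
          ((asIso (tilde.toTildeΓNatIso.hom.app _)) : _ ≅ _))
      haveI := Groth.Agent.KFlatLib.hasLBase (algebraMap Γ(Y, V) P)
      obtain ⟨e₁⟩ := nonempty_LBaseChange_iso (algebraMap Γ(Y, V) P)
      have hN : ∀ i, (i < lo ∨ hi < i) → Subsingleton (Dual.HD P ((DRing.LBaseChange (algebraMap Γ(Y, V) P)).obj ω) i) := fun i hi => by
        obtain ⟨l⟩ := exists_hdLBaseLEquiv (B := P) ω i
        haveI := hω i hi
        haveI : Subsingleton (Dual.HD P ((DTen.LBase (algebraMap Γ(Y, V) P)).obj ω) i) := l.toEquiv.subsingleton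
        exact subsingleton_hd_of_iso (e₁.app ω).symm i inferInstance
      haveI : ((DRing.LBaseChange (algebraMap Γ(Y, V) P)).obj ω).IsGE lo := (DerivedCategory.isGE_iff _ _).2 fun i hi => by
        haveI := hN i (Or.inl hi); exact @ModuleCat.isZero_of_subsingleton _ _ _ this
      haveI : ((DRing.LBaseChange (algebraMap Γ(Y, V) P)).obj ω).IsLE hi := (DerivedCategory.isLE_iff _ _).2 fun i hi => by
        haveI := hN i (Or.inr hi); exact @ModuleCat.isZero_of_subsingleton _ _ _ this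
      obtain ⟨l, h, hlh⟩ := ViaPerf.exists_bounds ψ adjψ hP ((DRing.LBaseChange (algebraMap Γ(Y, V) P)).obj ω) lo hi
      refine ⟨U, l - n, h - n, hxU, fun i hi y hy => ?_⟩
      obtain ⟨v, rfl⟩ : y ∈ Set.range hU.fromSpec := by rw [hU.range_fromSpec]; exact hy
      haveI : Subsingleton (Dual.HD Γ(X, U) (Dual2.shriekVia n Rψ ω) i) := by
        haveI : Subsingleton (((DerivedCategory.homologyFunctor (ModuleCat.{u} Γ(X, U)) 0).shift ((n : ℤ) + i)).obj
            (Rψ.obj ((DRing.LBaseChange (algebraMap Γ(Y, V) P)).obj ω))) := hlh ((n : ℤ) + i) (by omega)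
        exact (((DerivedCategory.homologyFunctor (ModuleCat.{u} Γ(X, U)) 0).shiftIso (n : ℤ) i ((n : ℤ) + i) rfl).app
          (Rψ.obj ((DRing.LBaseChange (algebraMap Γ(Y, V) P)).obj ω))).toLinearEquiv.toEquiv.subsingleton
      refine not_nontrivial_iff_subsingleton.1 fun hn => ?_
      have := Module.mem_support_iff.1 ((DualizingCM.nontrivial_stalk_iff hU.fromSpec e v i).1 hn)
      exact not_subsingleton_iff_nontrivial.2 this inferInstance
    choose U l h hxU hU using hloc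
    obtain ⟨t, ht⟩ := isCompact_univ.elim_finite_subcover (fun x => (U x : Set X)) (fun x => (U x).2)
      fun x _ => Set.mem_iUnion.2 ⟨x, hxU x⟩
    obtain ⟨L, hL⟩ : ∃ L : ℤ, ∀ x ∈ t, L ≤ l x := by
      obtain ⟨L, hL⟩ := (t.image l).bddBelow
      exact ⟨L, fun x hx => hL (Finset.mem_image_of_mem l hx)⟩
    obtain ⟨H, hH⟩ : ∃ H : ℤ, ∀ x ∈ t, h x ≤ H := by
      obtain ⟨H, hH⟩ := (t.image h).bddAbove
      exact ⟨H, fun x hx => hH (Finset.mem_image_of_mem h hx)⟩
    refine ⟨⟨L, H, fun i hi => isZero_of_stalk _ fun y => ?_⟩,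
      CohShriek.isCohD_shriek c.j c.fbar adj K hb hcoh⟩
    obtain ⟨x, hx, hy⟩ := Set.mem_iUnion₂.1 (ht (Set.mem_univ y))
    refine @ModuleCat.isZero_of_subsingleton _ _ _ (hU x i ?_ y hy)
    have := hL x hx
    have := hH x hx
    omega
  · obtain ⟨eE⟩ := hE
    obtain ⟨eO⟩ := hO
    refine SelfHom.isIso_homEquiv_self (K := (Dual3.shriekC c a).obj O) (fun x => ?_) E eE υ
    obtain ⟨V, hV, U, hU, hUV, n, ψ, _, Rψ, adjψ, ω, hxU, hψ, hψC, hP, ⟨eω⟩, ⟨e⟩⟩ :=
      hchart O (ViaApp.isBddBelowQ_O eO) x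
    haveI : IsNoetherianRing Γ(Y, V) := IsLocallyNoetherian.component_noetherian ⟨V, hV⟩
    haveI : IsNoetherianRing Γ(X, U) := IsLocallyNoetherian.component_noetherian ⟨U, hU⟩
    obtain ⟨t⟩ := ViaChart.nonempty_rho_structure (R := Γ(Y, V)) hV.fromSpec eO
    obtain ⟨e'⟩ := DualNormalized.nonempty_iso_of_tildeD (eω.symm ≪≫ t)
    let P := MvPolynomial (Fin n) Γ(Y, V)
    haveI := Groth.Agent.KFlatLib.hasLBase (algebraMap Γ(Y, V) P)
    obtain ⟨e₁⟩ := nonempty_LBaseChange_iso (algebraMap Γ(Y, V) P)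
    obtain ⟨u⟩ := nonempty_LBase_unit (algebraMap Γ(Y, V) P)
    let eV : Dual2.shriekVia n Rψ ω ≅ (Rψ.obj (DTen.unit P))⟦(n : ℤ)⟧ :=
      (shiftFunctor _ (n : ℤ)).mapIso (Rψ.mapIso (e₁.app _ ≪≫ (DTen.LBase (algebraMap Γ(Y, V) P)).mapIso
        (e' ≪≫ (DerivedCategory.singleFunctorIsoCompQ (ModuleCat Γ(Y, V)) 0).app (ModuleCat.of Γ(Y, V) Γ(Y, V))) ≪≫ u))
    letI := ((c.j ≫ c.fbar).appLE V U hUV).hom.toAlgebra
    obtain ⟨⟨l, h, hlh⟩, hfin⟩ := ViaPerf.bounded_finite_shriek_unit ψ hψ hψC adjψ hP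
    obtain ⟨hb, hs⟩ := ViaPerf.bijective_smul_shriek_unit ψ hψ hψC adjψ hP
    haveI : ((Rψ.obj (DTen.unit P))⟦(n : ℤ)⟧).IsGE l := (DerivedCategory.isGE_iff _ _).2 fun i hi => by
      haveI := hlh i (Or.inl hi); exact @ModuleCat.isZero_of_subsingleton _ _ _ this
    haveI : ((Rψ.obj (DTen.unit P))⟦(n : ℤ)⟧).IsLE h := (DerivedCategory.isLE_iff _ _).2 fun i hi => by
      haveI := hlh i (Or.inr hi); exact @ModuleCat.isZero_of_subsingleton _ _ _ this
    exact ⟨Γ(X, U), hU.fromSpec, inferInstance, _, l, h, by rw [hU.range_fromSpec]; exact hxU, inferInstance,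
      hfin, inferInstance, inferInstance, ⟨hb, hs⟩, ⟨e ≪≫ (DCoh.tildeD Γ(X, U)).mapIso eV⟩⟩
end Groth.Agent.S3644
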