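import Groth.Statements.S3656
import Groth.Agent.KExact.ShriekBidual
import Groth.Agent.KExact.BCNat
-- import your own Groth.Agent.* helpers here

set_option autoImplicit false
set_option linter.style.haveILetI false
set_option backward.isDefEq.respectTransparency false
set_option backward.isDefEq.respectTransparency.types false

universe u
open CategoryTheory CategoryTheory.Limits AlgebraicGeometry
attribute [local instance] HasDerivedCategory.standard
open Dual3

attribute [-instance] CategoryTheory.catToReflQuiver Int.instConditionallyCompleteLinearOrder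

namespace Groth.Agent.S3656

open Groth.Agent
attribute [local instance] HasDerivedCategory.standard


/-- Let S be a Noetherian scheme, X and Y schemes separated and of finite type over S and f : X → Y a
morphism over S; compute f^! through a compactification f = j ∘ p (j : X → X' an open immersion, p :
X' → Y proper, Rp_* on D_QCoh assumed to exist and to preserve quasi-coherence of cohomology, a a
right adjoint of Rp_*, restriction of modules to opens assumed exact), so that f^!K = a(K)|_X. Let K
be a bounded below object of D_QCoh(O_Y) which is a dualizing complex on Y (exactness instances as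
in the definition), and M in D_QCoh(O_Y) bounded below with coherent cohomology sheaves, represented
by a complex M' with - ⊗^L M' ⊣ RHom(M', -) assumed; let N' be a complex representing Lf^*RHom(M',
K) (derived pullback assumed to exist) with - ⊗^L N' ⊣ RHom(N', -) assumed. Then f^!M ≅ RHom(N',
f^!K) in D(O_X); that is, f^!M = D_X(Lf^* D_Y(M)) for the dualities D_Y = RHom(-, K) and D_X =
RHom(-, f^!K). -/
theorem result (S X Y : Scheme.{u}) [IsNoetherian S] (p : X ⟶ S) (q : Y ⟶ S) [Dual3.IsSepFT p] [Dual3.IsSepFT q] (f : X ⟶ Y) (w : f ≫ q = p) (c : DEt.Compactification f) [DCoh.HasRpush c.fbar] (hc : DCoh.RpushPreservesQCoh c.fbar) (a : DCoh.DQCoh Y ⥤ DCoh.DQCoh c.Xbar) (adj : DCoh.RpushQ c.fbar hc ⊣ a) [∀ (U V : Scheme.{u}) (j : U ⟶ V) [IsOpenImmersion j], PreservesFiniteLimits (Scheme.Modules.restrictFunctor j)] [∀ (R : CommRingCat.{u}), PreservesFiniteLimits (tilde.functor R)] [DCoh.HasLpull f] (K : DCoh.DQCoh Y) (c₀ : ℤ) (hK : ∀ i : ℤ, i < c₀ → IsZero (DCoh.HD K.obj i)) (hKd : Dual2.IsDualizingSch Y K.obj) (M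 : DCoh.DQCoh Y) (c₁ : ℤ) (hM : ∀ i : ℤ, i < c₁ → IsZero (DCoh.HD M.obj i)) (hMc : ∀ i : ℤ, Coh.IsCoh (DCoh.HD M.obj i)) (M' : CochainComplex Y.Modules ℤ) (hM' : Nonempty (DCoh.toD Y M' ≅ M.obj)) [DCoh.HasLTensorCx M'] [DCoh.HasRSheafHom M'] (N' : CochainComplex X.Modules ℤ) (hN' : Nonempty (DCoh.toD X N' ≅ (DCoh.Lpull f).obj ((DCoh.RSheafHom M').obj K.obj))) [DCoh.HasLTensorCx N'] [DCoh.HasRSheafHom N'] : Nonempty ((Dual3.shriekC c a).obj M ≅ (DCoh.RSheafHom N').obj ((Dual3.shriekC c a).obj K)) := by
  haveI : IsNoetherian Y := KExact.BCNat.isNoetherian_of_ft q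
  haveI : CompactSpace c.Xbar := QuasiCompact.compactSpace_of_compactSpace c.fbar
  haveI : QuasiSeparatedSpace c.Xbar := quasiSeparatedSpace_of_quasiSeparated c.fbar
  haveI : DerivedCategory.IsGE K.obj c₀ := (DerivedCategory.isGE_iff _ _).2 hK
  haveI : DerivedCategory.IsGE M.obj c₁ := (DerivedCategory.isGE_iff _ _).2 hM
  obtain ⟨eM'⟩ := hM'
  obtain ⟨eN'⟩ := hN'
  exact KExact.ShriekBidual.nonempty_shriek_bidual c.j c.fbar hc a adj f c.fac K c₀ hKd M c₁ hMc M' eM' N' eN'
end Groth.Agent.S3656
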