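import Groth.Statements.S3657
import Groth.Agent.KExact.PushShriek
import Groth.Agent.H9Misc.AffineHomAcyclic
import Groth.Agent.KExact.RHomOClosed
-- import your own Groth.Agent.* helpers here

set_option autoImplicit false
set_option linter.style.haveILetI false
set_option backward.isDefEq.respectTransparency false
set_option backward.isDefEq.respectTransparency.types false

universe u
open CategoryTheory CategoryTheory.Limits AlgebraicGeometry
attribute [local instance] HasDerivedCategory.standard
open Dual3

namespace Groth.Agent.S3657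

set_option linter.style.haveILetI false
set_option backward.isDefEq.respectTransparency false
set_option backward.isDefEq.respectTransparency.types false
open Groth.Agent.KFlatLib


/-- Let f : Y → X be a finite morphism of Noetherian schemes, with derived direct image Rf_* on D_QCoh
(assumed to exist and to preserve quasi-coherence) and a right adjoint a of Rf_* : D_QCoh(O_Y) →
D_QCoh(O_X). Let E be a complex of O_X-modules representing f_*O_Y placed in degree 0, with − ⊗^L E
and RHom(E, −) assumed to exist. Then Rf_* ∘ a ≅ RHom(E, −) = RHom_{O_X}(f_*O_Y, −) as functors on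
D^+_QCoh(O_X) (the form f_* f^! = RHom(f_*O_Y, −) of duality for a finite morphism). -/
theorem result (Y X : Scheme.{u}) [IsNoetherian X] [IsNoetherian Y] (f : Y ⟶ X) [IsFinite f] [DCoh.HasRpush f] (hf : DCoh.RpushPreservesQCoh f) (a : DCoh.DQCoh X ⥤ DCoh.DQCoh Y) (adj : DCoh.RpushQ f hf ⊣ a) (E : CochainComplex X.Modules ℤ) (hE : Nonempty (DCoh.toD X E ≅ DCoh.inD X ((Scheme.Modules.pushforward f).obj (Coh.structureModule Y)))) [DCoh.HasLTensorCx E] [DCoh.HasRSheafHom E] : Nonempty (Dual3.bddι X ⋙ a ⋙ DCoh.RpushQ f hf ⋙ ObjectProperty.ι _ ≅ Dual3.bddι X ⋙ ObjectProperty.ι _ ⋙ DCoh.RSheafHom E) := by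
  obtain ⟨eE⟩ := hE
  obtain ⟨e1⟩ := H9Misc.AffineHomAcyclic.nonempty_rpush_inD_iso f (M := Coh.structureModule Y)
    QCoh.isQCoh_structureModule
  refine KExact.PushShriek.nonempty_push_rightAdjoint_iso f hf a adj E (eE ≪≫ e1.symm) _ fun K => ?_
  obtain ⟨n, hn⟩ := K.property
  haveI := hn
  refine isQCohD_RSheafHom_of_pseudoCoherent E (fun m => ?_) K.obj.obj K.obj.property n
  let M := (Scheme.Modules.pushforward f).obj (Coh.structureModule Y)
  let eQ : DCoh.inD X M ≅ DerivedCategory.Q.obj
      ((HomologicalComplex.single X.Modules (ComplexShape.up ℤ) 0).obj M) :=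
    ((SingleFunctors.evaluation _ _ 0).mapIso
      (DerivedCategory.singleFunctorsPostcompQIso X.Modules)).app M
  have hO : Coh.IsCoh M := QCoh.isCoh_pushforward_finite f QCoh.isCoh_structureModule'
  have hz : ∀ k : ℤ, k ≠ 0 → IsZero (DCoh.HD (DCoh.inD X M) k) := fun k hk =>
    ((HomologicalComplex.exactAt_iff_isZero_homology _ k).1
      (HomologicalComplex.exactAt_single_obj _ 0 _ k hk)).of_iso
        ((DerivedCategory.homologyFunctor X.Modules k).mapIso eQ ≪≫
          (DerivedCategory.homologyFunctorFactors X.Modules k).app _)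
  have hc : DCoh.IsCohD (DCoh.inD X M) := fun k => by
    by_cases hk : k = 0
    · subst hk
      exact isCoh_of_iso ((DerivedCategory.homologyFunctor X.Modules 0).mapIso eQ ≪≫
        (DerivedCategory.homologyFunctorFactors X.Modules 0).app _ ≪≫
        HomologicalComplex.singleObjHomologySelfIso _ 0 _).symm hO
    · exact isCoh_of_isZero (hz k hk)
  exact (isPseudoCoherentD_iff _ _).2 ((locPC_of_coh (isCohD_isQCohD hc) (fun k _ => hc k) 0
    fun k hk => hz k (by omega)).of_iso eE.symm)
end Groth.Agent.S3657
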