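import Groth.Statements.S3661
import Groth.Agent.KExact.DualizingTwist
import Groth.Agent.KExact.InvertibleCharts
-- import your own Groth.Agent.* helpers here

set_option autoImplicit false
set_option linter.style.haveILetI false
set_option backward.isDefEq.respectTransparency false
set_option backward.isDefEq.respectTransparency.types false

universe u
open CategoryTheory CategoryTheory.Limits AlgebraicGeometry
attribute [local instance] HasDerivedCategory.standard
open Dual3

namespace Groth.Agent.S3661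

open KFlatLib KExact

attribute [local instance] HasDerivedCategory.standard

set_option backward.isDefEq.respectTransparency false
set_option backward.isDefEq.respectTransparency.types false
set_option linter.style.haveILetI false


/-- Let X be a locally Noetherian scheme and K, K' dualizing complexes on X (exactness instances as in
the definition). Then there are an invertible object L of D(O_X) and a complex E representing L,
with - ⊗^L E existing, such that K' ≅ K ⊗^L L in D(O_X). -/
theorem result (X : Scheme.{u}) [IsLocallyNoetherian X] [∀ (U V : Scheme.{u}) (j : U ⟶ V) [IsOpenImmersion j], PreservesFiniteLimits (Scheme.Modules.restrictFunctor j)] [∀ (R : CommRingCat.{u}), PreservesFiniteLimits (tilde.functor R)] (K K' : DCoh.D X) (hK : Dual2.IsDualizingSch X K) (hK' : Dual2.IsDualizingSch X K') : ∃ (E : CochainComplex X.Modules ℤ) (hL : DCoh.HasLTensorCx E), Dual3.IsInvertibleD (DCoh.toD X E) ∧ Nonempty (K' ≅ (DCoh.LTensorCx E).obj K) := by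
  obtain ⟨J, hJi, hJn, ⟨eK⟩⟩ := exists_kInjective_rep K
  obtain ⟨J', hJi', hJn', ⟨eK'⟩⟩ := exists_kInjective_rep K'
  haveI := hJi
  haveI := hJi'
  haveI := hJn
  haveI := hJn'
  have hJ : Dual2.IsDualizingSch X (DerivedCategory.Q.obj J) := fun A _ j _ =>
    let ⟨ω, hω, ⟨e⟩⟩ := hK A j
    ⟨ω, hω, ⟨(DCoh.restrictD j).mapIso eK.symm ≪≫ e⟩⟩
  have hJ' : Dual2.IsDualizingSch X (DerivedCategory.Q.obj J') := fun A _ j _ =>
    let ⟨ω, hω, ⟨e⟩⟩ := hK' A j
    ⟨ω, hω, ⟨(DCoh.restrictD j).mapIso eK'.symm ≪≫ e⟩⟩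
  let P := (kRes X).obj J
  have hP : DCoh.IsKFlat P := isKFlat_kRes J
  let π : P ⟶ J := (flatCover X).ψ.app J
  haveI : QuasiIso π := (flatCover X).quasiIso_ψ J
  let H : CochainComplex X.Modules ℤ := (iHom P).obj J'
  let E := (kRes X).obj H
  let ρ : E ⟶ H := (flatCover X).ψ.app H
  haveI : QuasiIso ρ := (flatCover X).quasiIso_ψ H
  haveI := isIso_Q_map ρ inferInstance
  haveI := isIso_Q_map π inferInstance
  refine ⟨E, hasLTensorCx E, isInvertibleD_of_charts fun U hU => ?_, ⟨?_⟩⟩
  · obtain ⟨ω, ω', hω, hω', _, _, _, ⟨e⟩, -⟩ := DualTwist.exists_chart_twist π hP hJ hJ'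
      (R := CommRingCat.of Γ(X, U)) hU.fromSpec
    obtain ⟨a, b, hab, _, _⟩ := exists_bounds_of_isDualizing hω
    obtain ⟨a', b', hab', _, _⟩ := exists_bounds_of_isDualizing hω'
    haveI := isLE_RHomR ω ω' a a' b' hab'
    haveI := isGE_RHomR ω ω' b a'
    haveI := isLE_RHomR ω' ω a' a b hab
    obtain ⟨h⟩ := nonempty_ten_RHom_iso_unit hω hω'
    have hL := finite_hd_RHom_of_finite_hd hω.finite_cohomology hω'.finite_cohomology ⟨a', b', hab'⟩
    have hQ := finite_hd_RHom_of_finite_hd hω'.finite_cohomology hω.finite_cohomology ⟨a, b, hab⟩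
    exact ⟨_, a' - b, b' - a, inferInstance, inferInstance, hL,
      ⟨(DCoh.restrictD hU.fromSpec).mapIso (asIso (DerivedCategory.Q.map ρ)) ≪≫ e⟩,
      exists_degree_of_ten_iso_unit hL hQ (b' - a) (b - a') h⟩
  · haveI := DualTwist.quasiIso_eval π hP hJ hJ'
    haveI := isIso_Q_map ((iHomAdj P).counit.app J') inferInstance
    haveI : QuasiIso ((DCoh.tensorCx.obj P).map ρ) := KFlat.quasiIso_map' (tensorBiFlipIso X) hP ρ
    haveI := isIso_Q_map ((DCoh.tensorCx.obj P).map ρ) inferInstance
    haveI := hasLTensorCx E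
    exact eK' ≪≫ (asIso (DerivedCategory.Q.map ((iHomAdj P).counit.app J'))).symm ≪≫
      DerivedCategory.Q.mapIso ((symmIso (tensorBiFlipIso X) P).app H) ≪≫
      (asIso (DerivedCategory.Q.map ((DCoh.tensorCx.obj P).map ρ))).symm ≪≫
      (ltensorCxIso E hP).symm ≪≫
      (DCoh.LTensorCx E).mapIso (asIso (DerivedCategory.Q.map π) ≪≫ eK.symm)
end Groth.Agent.S3661
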