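import Groth.Statements.S3664
import Groth.Agent.KExact.DeligneLift
import Groth.Agent.S11161
import Groth.Agent.H9Misc.QCohDerivedFun
import Groth.Agent.QCoh.Extension
import Groth.Agent.QCohAb.Basic


set_option autoImplicit false
universe u
open CategoryTheory CategoryTheory.Limits AlgebraicGeometry
attribute [local instance] HasDerivedCategory.standard
attribute [-instance] CategoryTheory.catToReflQuiver
open Dual3
open Groth.Agent.KExact

namespace Groth.Agent.S3664

/-- Let j : U → X be an open immersion of Noetherian schemes (restriction to U assumed exact), I a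
quasi-coherent ideal whose vanishing locus is X ∖ U, F a bounded complex of coherent O_X-modules
with Deligne system K_n = I^n F (inclusions ι_n : K_n → F), and L an object of D(O_X) with coherent
cohomology sheaves vanishing below some degree (L is allowed to be bounded below rather than
bounded). Then colim_n Hom_X(K_n, L) = Hom_U(F|_U, L|_U): (surjectivity) every map α : F|_U → L|_U
satisfies ι_n|_U ≫ α = φ|_U for some n and some φ : K_n → L; (injectivity) if φ, ψ : K_n → L agree
after restriction to U then for some m ≥ n they agree after composition with any map K_m → K_n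
compatible with the inclusions into F. -/
theorem result (U X : Scheme.{u}) [IsNoetherian U] [IsNoetherian X] (j : U ⟶ X) [IsOpenImmersion j] [∀ (U V : Scheme.{u}) (j : U ⟶ V) [IsOpenImmersion j], PreservesFiniteLimits (Scheme.Modules.restrictFunctor j)] (I : X.IdealSheafData) (hI : I.supportSetᶜ = Set.range j) (F : CochainComplex X.Modules ℤ) (lo hi : ℤ) (hF : DCoh.VanishesOutside F lo hi) (hFc : ∀ q : ℤ, Coh.IsCoh (F.X q)) (L : DCoh.D X) (hLc : DCoh.IsCohD L) (c₀ : ℤ) (hK : ∀ i : ℤ, i < c₀ → IsZero (DCoh.HD L i)) : (∀ α : (DCoh.restrictD j).obj (DCoh.toD X F) ⟶ (DCoh.restrictD j).obj L, ∃ (n : ℕ) (φ : DCoh.toD X ((Dual3.deligne I n).obj F) ⟶ L), (DCoh.restrictD j).map (DerivedCategory.Q.map (Dual3.deligneι I n F)) ≫ α = (DCoh.restrictD j).map φ) ∧ ∀ (n : ℕ) (φ ψ : DCoh.toD X ((Dual3.deligne I n).obj F) ⟶ L), (DCoh.restrictD j).map φ = (DCoh.restrictD j).map ψ → ∃ m : ℕ, n ≤ m ∧ ∀ t : (Dual3.deligne I m).obj F ⟶ (Dual3.deligne I n).obj F, t ≫ Dual3.deligneι I n F = Dual3.deligneι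 I m F → DerivedCategory.Q.map t ≫ φ = DerivedCategory.Q.map t ≫ ψ := by
  set_option backward.isDefEq.respectTransparency false in
  set_option backward.isDefEq.respectTransparency.types false in
  letI : Abelian (QCohCat.QCoh X) := QCohAb.abelian X
  let ι := (QCohCat.isQCoh X).ι
  have hess : ∀ {N : X.Modules}, ι.essImage N → Coh.IsQCoh N := by
    rintro N ⟨M', ⟨e⟩⟩
    exact (QCoh.isQCoh_iff_iso e).1 M'.2
  have hext : ∀ S : ShortComplex X.Modules, S.ShortExact → ι.essImage S.X₁ → ι.essImage S.X₃ → ι.essImage S.X₂ :=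
    fun S hS h1 h3 => ⟨⟨S.X₂, QCoh.isQCoh_X₂ hS (hess h1) (hess h3)⟩, ⟨Iso.refl _⟩⟩
  have hinj : ∀ X' : QCohCat.QCoh X, ∃ (Y' : QCohCat.QCoh X) (i : X' ⟶ Y'), Mono i ∧ Injective (ι.obj Y') :=
    fun X' => by
    obtain ⟨E, m, hm, hE, hq, -⟩ := H9Misc.QCohDerivedFun.exists_emb X'.1 X'.2
    refine ⟨⟨E, hq⟩, ObjectProperty.homMk m, ?_, hE⟩
    haveI : Mono (ι.map (ObjectProperty.homMk m : X' ⟶ ⟨E, hq⟩)) := hm
    exact ι.mono_of_mono_map inferInstance
  haveI hLge : L.IsGE c₀ := (DerivedCategory.isGE_iff L c₀).2 hK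
  obtain ⟨J₀, hJge, hJinj, ⟨e₀⟩⟩ := S11161.result ι hext hinj L c₀
    (fun i => ⟨⟨_, (hLc i).1⟩, ⟨Iso.refl _⟩⟩)
  let J : CochainComplex X.Modules ℤ := (ι.mapHomologicalComplex _).obj J₀
  let e : L ≅ DerivedCategory.Q.obj J := e₀.symm ≪≫ (ι.mapDerivedCategoryFactors).app J₀
  haveI : ∀ q, Injective (J.X q) := hJinj
  have hJq : ∀ q, Coh.IsQCoh (J.X q) := fun q => (J₀.X q).2
  haveI := hJge
  haveI : J.IsStrictlyGE c₀ := inferInstance
  haveI hRP : PreservesFiniteLimits (Scheme.Modules.restrictFunctor j) := inferInstance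
  let RJ := (DeligneLift.resC j).obj J
  haveI : ∀ q, Injective (RJ.X q) := fun q => H9Misc.StalkInjective.injective_restrict j (J.X q)
  haveI : RJ.IsStrictlyGE c₀ := inferInstance
  haveI : CochainComplex.IsKInjective J := CochainComplex.isKInjective_of_injective J c₀
  haveI : CochainComplex.IsKInjective RJ := CochainComplex.isKInjective_of_injective RJ c₀
  let fac := (Scheme.Modules.restrictFunctor j).mapDerivedCategoryFactors
  have hnat : ∀ {A B : CochainComplex X.Modules ℤ} (f : A ⟶ B),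
      (DCoh.restrictD j).map (DerivedCategory.Q.map f) ≫ fac.hom.app B =
        fac.hom.app A ≫ DerivedCategory.Q.map ((DeligneLift.resC j).map f) := fun f => fac.hom.naturality f
  refine ⟨fun α => ?_, fun n φ ψ hφψ => ?_⟩
  · obtain ⟨a, ha⟩ := DeligneLift.exists_Q_map (L := RJ)
      (fac.inv.app F ≫ α ≫ (DCoh.restrictD j).map e.hom ≫ fac.hom.app J)
    obtain ⟨n, φ, hφ⟩ := DeligneLift.exists_map j I hI F lo hi hF hFc J hJq a
    refine ⟨n, DerivedCategory.Q.map φ ≫ e.inv, ?_⟩
    rw [← cancel_mono ((DCoh.restrictD j).map e.hom ≫ fac.hom.app J)]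
    have h1 : (DCoh.restrictD j).map (DerivedCategory.Q.map φ ≫ e.inv) ≫ (DCoh.restrictD j).map e.hom ≫
        fac.hom.app J = (DCoh.restrictD j).map (DerivedCategory.Q.map φ) ≫ fac.hom.app J := by
      rw [← Functor.map_comp_assoc, Category.assoc, e.inv_hom_id, Category.comp_id]
    rw [h1, hnat, hφ, Functor.map_comp, ha, ← Category.assoc (fac.hom.app _), ← hnat]
    simp
  · obtain ⟨h, hh⟩ := DeligneLift.exists_Q_map (L := J) ((φ - ψ) ≫ e.hom)
    have h0 : DerivedCategory.Q.map ((DeligneLift.resC j).map h) = 0 := by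
      rw [← cancel_epi (fac.hom.app ((Dual3.deligne I n).obj F)), ← hnat, hh, Functor.map_comp,
        Functor.map_sub, hφψ, sub_self]
      simp
    obtain ⟨H⟩ := DeligneLift.nonempty_homotopy_zero (L := RJ) _ h0
    obtain ⟨m, hnm, hm⟩ := DeligneLift.exists_null j I hI F lo hi hF hFc J hJq h H
    refine ⟨m, hnm, fun t ht => ?_⟩
    obtain ⟨K⟩ := hm t ht
    rw [← cancel_mono e.hom, ← sub_eq_zero, ← Preadditive.sub_comp, ← Preadditive.comp_sub, Category.assoc, ← hh,
      ← Functor.map_comp, DerivedCategory.Q_map_eq_of_homotopy (C := X.Modules) K]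
    simp

end Groth.Agent.S3664
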