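import Groth.Statements.S3665
import Groth.Agent.QCoh.SubCompare
import Groth.Agent.QCoh.Support
import Groth.Agent.QCoh.FT
-- import your own Groth.Agent.* helpers here

set_option autoImplicit false
set_option linter.style.haveILetI false
set_option backward.isDefEq.respectTransparency false
set_option backward.isDefEq.respectTransparency.types false

universe u
open CategoryTheory CategoryTheory.Limits AlgebraicGeometry
attribute [local instance] HasDerivedCategory.standard
open Dual3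

namespace Groth.Agent.S3665

open TopologicalSpace Opposite

theorem notMem_supportSet_iff {X : Scheme.{u}} (I : X.IdealSheafData) {U : X.Opens} (hU : IsAffineOpen U)
    {x : X} (hx : x ∈ U) :
    x ∈ I.supportSet ↔ I.ideal ⟨U, hU⟩ ≤ (hU.primeIdealOf ⟨x, hx⟩).asIdeal := by
  show x ∈ (I.support : Set X) ↔ _
  rw [SetLike.mem_coe, Scheme.IdealSheafData.mem_support_iff_of_mem (U := ⟨U, hU⟩) hx, Scheme.mem_zeroLocus_iff]
  constructor
  · intro h a ha
    by_contra hc
    exact h a ha ((QCoh.mem_basicOpen_iff_notMem hU hx a).2 hc)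
  · exact fun h a ha hb => (QCoh.mem_basicOpen_iff_notMem hU hx a).1 hb (h ha)

theorem krull_iff {X : Scheme.{u}} [IsLocallyNoetherian X] (I : X.IdealSheafData) {F : X.Modules}
    (hF : Coh.IsCoh F) (s : Γ(F, ⊤)) :
    (∀ n : ℕ, ∃ t : Γ((Dual3.idealMul (I ^ n)).obj F, ⊤), (Dual3.idealMulι (I ^ n) F).app ⊤ t = s) ↔
      ∃ V : X.Opens, I.supportSet ⊆ (V : Set X) ∧ F.presheaf.map (homOfLE le_top : V ⟶ ⊤).op s = 0 := by
  constructor
  · intro h
    have key : ∀ x ∈ I.supportSet, ∃ W : X.Opens, x ∈ W ∧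
        F.presheaf.map (homOfLE le_top : W ⟶ ⊤).op s = 0 := by
      intro x hx
      obtain ⟨U, hU, hxU⟩ := QCoh.exists_affine_mem x
      haveI : IsNoetherianRing Γ(X, U) := QCoh.noetherian_sections ⟨U, hU⟩
      haveI := QCoh.finite_of_isFT hF.1 hF.2 hU
      let p := (hU.primeIdealOf ⟨x, hxU⟩).asIdeal
      have hIp : I.ideal ⟨U, hU⟩ ≤ p := (notMem_supportSet_iff I hU hxU).1 hx
      let m : Γ(F, U) := F.presheaf.map (homOfLE le_top : U ⟶ ⊤).op s
      have hm : m ∈ (⨅ i : ℕ, I.ideal ⟨U, hU⟩ ^ i • ⊤ : Submodule Γ(X, U) Γ(F, U)) := by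
        rw [Submodule.mem_iInf]
        intro n
        obtain ⟨t, ht⟩ := h n
        have hr := QCoh.range_idealMul (I ^ n) hF.1 hU
        rw [Scheme.IdealSheafData.ideal_pow, Pi.pow_apply] at hr
        rw [← hr]
        refine ⟨_, (QCoh.map_app_comm (Dual3.idealMulι (I ^ n) F) (homOfLE le_top : U ⟶ ⊤) t).trans ?_⟩
        rw [ht]
      obtain ⟨r, hr⟩ := ((I.ideal ⟨U, hU⟩).mem_iInf_smul_pow_eq_bot_iff m).1 hm
      have hg : (1 - r.1) • m = 0 := by rw [sub_smul, one_smul, hr, sub_self]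
      have hnot : (1 - r.1) ∉ p := fun h1 => (hU.primeIdealOf ⟨x, hxU⟩).isPrime.ne_top
        ((Ideal.eq_top_iff_one p).2 (by simpa using p.add_mem h1 (hIp r.2)))
      have h0 := (QCoh.germ_eq_zero_iff hF.1 hU hxU m).2
        ⟨_, (QCoh.mem_basicOpen_iff_notMem hU hxU _).2 hnot, hg⟩
      obtain ⟨W, hxW, i, j, hW⟩ := F.presheaf.germ_eq x hxU hxU m 0 (h0.trans (map_zero _).symm)
      refine ⟨W, hxW, ?_⟩
      have h1 := hW.trans (map_zero _)
      show (F.presheaf.map (homOfLE le_top : W ⟶ ⊤).op) s = 0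
      rw [show (homOfLE le_top : W ⟶ ⊤).op = (homOfLE le_top : U ⟶ ⊤).op ≫ i.op from Subsingleton.elim _ _,
        F.presheaf.map_comp]
      exact h1
    choose W hW hW0 using key
    refine ⟨⨆ x : I.supportSet, W x.1 x.2, fun x hx => Opens.mem_iSup.2 ⟨⟨x, hx⟩, hW x hx⟩, ?_⟩
    refine QCoh.eq_zero_of_locally _ _ fun q hq => ?_
    obtain ⟨x, hqx⟩ := Opens.mem_iSup.1 hq
    refine ⟨W x.1 x.2, homOfLE (le_iSup (fun x : I.supportSet => W x.1 x.2) x), hqx, ?_⟩
    rw [← ConcreteCategory.comp_apply, ← F.presheaf.map_comp]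
    exact hW0 x.1 x.2
  · rintro ⟨V, hV, hs⟩ n
    suffices h : (cokernel.π (Dual3.idealMulι (I ^ n) F)).app ⊤ s = 0 from
      (QCoh.mem_range_iff_cokernel _ ⊤ s).1 h
    refine QCoh.eq_zero_of_locally _ _ fun q _ => ?_
    obtain ⟨U, hU, hqU⟩ := QCoh.exists_affine_mem q
    refine ⟨U, homOfLE le_top, hqU, ?_⟩
    rw [← QCoh.map_app_comm (cokernel.π (Dual3.idealMulι (I ^ n) F)) (homOfLE le_top : U ⟶ ⊤) s,
      QCoh.mem_range_iff_cokernel, QCoh.range_idealMul (I ^ n) hF.1 hU, Scheme.IdealSheafData.ideal_pow,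
      Pi.pow_apply]
    let J := I.ideal ⟨U, hU⟩
    let m : Γ(F, U) := F.presheaf.map (homOfLE le_top : U ⟶ ⊤).op s
    let c : Ideal Γ(X, U) := (J ^ n • (⊤ : Submodule Γ(X, U) Γ(F, U))).comap (LinearMap.toSpanSingleton _ _ m)
    suffices hc : c = ⊤ by
      have h1 : (1 : Γ(X, U)) ∈ c := hc ▸ Submodule.mem_top
      simpa [c] using h1
    by_contra hc
    obtain ⟨p, hp, hle⟩ := Ideal.exists_le_maximal c hc
    by_cases hJ : J ≤ p
    · let P : PrimeSpectrum Γ(X, U) := ⟨p, hp.isPrime⟩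
      have hyU : hU.fromSpec P ∈ U := by
        have h1 : hU.fromSpec P ∈ Set.range hU.fromSpec := ⟨P, rfl⟩
        rwa [hU.range_fromSpec] at h1
      have hP : (hU.primeIdealOf ⟨_, hyU⟩).asIdeal = p := by
        rw [show hU.primeIdealOf ⟨_, hyU⟩ = P from
          hU.fromSpec.isOpenEmbedding.injective (hU.fromSpec_primeIdealOf _)]
      have hy : hU.fromSpec P ∈ I.supportSet := (notMem_supportSet_iff I hU hyU).2 (by rw [hP]; exact hJ)
      have hyV := hV hy
      have h0 : F.presheaf.germ U _ hyU m = 0 := by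
        rw [F.presheaf.germ_res_apply, ← F.presheaf.germ_res_apply (homOfLE le_top : V ⟶ ⊤) _ hyV s, hs, map_zero]
      obtain ⟨a, ha, ham⟩ := (QCoh.germ_eq_zero_iff hF.1 hU hyU m).1 h0
      have han := (QCoh.mem_basicOpen_iff_notMem hU hyU a).1 ha
      rw [hP] at han
      refine han (hle ?_)
      show a • m ∈ (J ^ n • (⊤ : Submodule Γ(X, U) Γ(F, U)))
      rw [ham]
      exact Submodule.zero_mem _
    · obtain ⟨a, haJ, hap⟩ := SetLike.not_le_iff_exists.1 hJ
      exact hap (hp.isPrime.mem_of_pow_mem n (hle (Submodule.smul_mem_smul (Ideal.pow_mem_pow haJ n) Submodule.mem_top)))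


/-- Let X be proper over a field k, I a quasi-coherent ideal with vanishing locus Z and F a coherent
O_X-module, so that H^0_c(X ∖ Z, F) = lim_n H^0(X, I^n F) = ⋂_n Γ(X, I^n F) inside Γ(X, F). Then a
global section s of F lies in the image of Γ(X, I^n F) for every n if and only if s restricts to
zero on some open neighbourhood of Z. -/
theorem result (k : Type u) [Field k] (X : Scheme.{u}) (f : X ⟶ Spec (CommRingCat.of k)) [IsProper f] (I : X.IdealSheafData) (F : X.Modules) (hF : Coh.IsCoh F) (s : F.val.obj (Opposite.op ⊤)) : (∀ n : ℕ, ∃ t : ((Dual3.idealMul (I ^ n)).obj F).val.obj (Opposite.op ⊤), (Dual3.idealMulι (I ^ n) F).val.app (Opposite.op ⊤) t = s) ↔ ∃ V : X.Opens, I.supportSet ⊆ (V : Set X) ∧ F.val.map (homOfLE le_top : V ⟶ ⊤).op s = 0 := by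
  haveI : IsLocallyNoetherian X := LocallyOfFiniteType.isLocallyNoetherian f
  exact krull_iff I hF s
end Groth.Agent.S3665
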