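import Groth.Statements.S3669
import Groth.Agent.Lib.HomPushSections
import Groth.Agent.H9Misc.ClosedPushFull
-- import your own Groth.Agent.* helpers here

set_option autoImplicit false
set_option linter.style.haveILetI false
set_option backward.isDefEq.respectTransparency false
set_option backward.isDefEq.respectTransparency.types false

universe u
open CategoryTheory CategoryTheory.Limits AlgebraicGeometry
attribute [local instance] HasDerivedCategory.standard
open Dual3

namespace Groth.Agent.S3669

open CategoryTheory CategoryTheory.Limits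


/-- Let i : Z → X be a closed immersion of schemes with ideal sheaf I, Hom(O_Z, -) a right adjoint of
i_* on modules (it exists; here the chosen one) with counit i_* Hom(O_Z, F) → F. Then for every
O_X-module F and every affine open U ⊆ X, the counit on sections over U, Γ(i⁻¹U, Hom(O_Z, F)) → Γ(U,
F), is injective with image exactly the sections s of F over U with I(U) · s = 0. -/
theorem result (Z X : Scheme.{u}) (i : Z ⟶ X) [IsClosedImmersion i] [Dual3.HasHomO i] (F : X.Modules) (U : X.affineOpens) : Function.Injective ⇑(ConcreteCategory.hom (((Dual3.homOAdj i).counit.app F).val.app (Opposite.op U.1))) ∧ Set.range ⇑(ConcreteCategory.hom (((Dual3.homOAdj i).counit.app F).val.app (Opposite.op U.1))) = ((LocCoh.torsionBy (i.ker.ideal U) (F.val.obj (Opposite.op U.1)) : Submodule Γ(X, U.1) (F.val.obj (Opposite.op U.1))) : Set (F.val.obj (Opposite.op U.1))) := by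
  let c := (Dual3.homOAdj i).counit.app F
  let ε := HomPushSections.eps i F
  haveI := HomPushSections.mono_eps i F
  have hle : ∀ {W : X.Opens} (hW : IsAffineOpen W)
      (t : Γ((Scheme.Modules.pushforward i).obj ((Dual3.homO i).obj F), W)),
      ∀ a ∈ RingHom.ker (i.app W).hom, a • c.app W t = 0 := fun {W} hW t a ha => by
    rw [← Scheme.Modules.Hom.app_smul, KZ.ClosedDev.killed_push i _ ⟨W, hW⟩ a
      (by rw [Scheme.Hom.ker_apply]; exact ha) t, map_zero]
  -- the counit and the evaluation at one factor through each other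
  have hc : c ≫ cokernel.π ε = 0 := QCoh.hom_eq_zero_of_affine _ fun W hW t => by
    obtain ⟨s, hs⟩ := HomPushSections.exists_eps i F hW (c.app W t) (hle hW t)
    show (cokernel.π ε).app W (c.app W t) = 0
    rw [← hs]
    exact congr(($(cokernel.condition ε)).app W s)
  let y := Abelian.monoLift ε c hc
  let h := (ClosedShriek.shriekPushIso i).app F
  let g := (Dual3.homOAdj i).homEquiv _ _ (h.inv ≫ ε)
  have hg : (Scheme.Modules.pushforward i).map g ≫ c = h.inv ≫ ε :=
    ((Dual3.homOAdj i).homEquiv_counit _ _ _).symm.trans (((Dual3.homOAdj i).homEquiv _ _).symm_apply_apply _)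
  obtain ⟨a, ha⟩ := H9Misc.ClosedPushFull.exists_map i (y ≫ h.hom)
  have hac : (Scheme.Modules.pushforward i).map (a ≫ g) ≫ c = c := by
    rw [Functor.map_comp, Category.assoc, hg, ha, Category.assoc, Iso.hom_inv_id_assoc,
      Abelian.monoLift_comp]
  have hag : a ≫ g = 𝟙 _ := by
    have h1 : ((Dual3.homOAdj i).homEquiv _ F).symm (a ≫ g) = ((Dual3.homOAdj i).homEquiv _ F).symm (𝟙 _) := by
      rw [Adjunction.homEquiv_counit, Adjunction.homEquiv_counit, CategoryTheory.Functor.map_id, Category.id_comp]
      exact hac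
    exact ((Dual3.homOAdj i).homEquiv _ F).symm.injective h1
  haveI : IsSplitMono a := IsSplitMono.mk' ⟨g, hag⟩
  haveI : Mono c := by
    rw [show c = (Scheme.Modules.pushforward i).map a ≫ h.inv ≫ ε by
      rw [ha, Category.assoc, Iso.hom_inv_id_assoc, Abelian.monoLift_comp]]
    infer_instance
  refine ⟨QCoh.app_injective c U.1, Set.ext fun x => ⟨?_, fun hx => ?_⟩⟩
  · rintro ⟨t, rfl⟩
    refine (Submodule.mem_torsionBySet_iff _ _).2 fun r => ?_
    have hr : (r : Γ(X, U.1)) ∈ RingHom.ker (i.app U.1).hom := by rw [← Scheme.Hom.ker_apply]; exact r.2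
    exact hle U.2 t r hr
  · obtain ⟨s, hs⟩ := HomPushSections.exists_eps i F U.2 x fun r hr =>
      (Submodule.mem_torsionBySet_iff _ _).1 hx ⟨r, by rw [SetLike.mem_coe, Scheme.Hom.ker_apply]; exact hr⟩
    refine ⟨((h.hom ≫ (Scheme.Modules.pushforward i).map g)).app U.1 s, ?_⟩
    refine Eq.trans ?_ hs
    show ((h.hom ≫ (Scheme.Modules.pushforward i).map g) ≫ c).app U.1 s = ε.app U.1 s
    rw [Category.assoc, hg, Iso.hom_inv_id_assoc]
    rfl
end Groth.Agent.S3669
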