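import Groth.Statements.S3681
import Groth.Agent.Pi1Ext.GDesc.Const
-- import your own Groth.Agent.* helpers here

set_option autoImplicit false
set_option backward.isDefEq.respectTransparency false
set_option backward.isDefEq.respectTransparency.types false
set_option linter.style.haveILetI false
universe u
open Pi1

namespace Groth.Agent.S3681

open AlgebraicGeometry CategoryTheory CategoryTheory.Limits in
/-- Let k be an algebraically closed field, X and Y locally Noetherian k-schemes with Y connected and X
or Y proper over k, and Z' a finite etale cover of the product of X and Y over k. For a k-rational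
point y of Y write j_y : X -> X x_k Y for the induced morphism. Then for any two k-rational points
y, y' of Y the finite etale covers of X obtained by pulling Z' back along j_y and j_{y'} are
isomorphic. -/
theorem result (k : Type u) [Field k] [IsAlgClosed k] {X Y : Scheme.{u}}
    (pX : X ⟶ Spec (CommRingCat.of k)) (pY : Y ⟶ Spec (CommRingCat.of k))
    [IsLocallyNoetherian X] [IsLocallyNoetherian Y] [ConnectedSpace Y] (hprop : IsProper pX ∨ IsProper pY)
    (Z' : FEt.Cat (pullback pX pY))
    (y y' : Spec (CommRingCat.of k) ⟶ Y) (hy : 𝟙 X ≫ pX = (pX ≫ y) ≫ pY) (hy' : 𝟙 X ≫ pX = (pX ≫ y') ≫ pY) :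
    Nonempty ((FEt.restrict (pullback.lift (𝟙 X) (pX ≫ y) hy)).obj Z' ≅
      (FEt.restrict (pullback.lift (𝟙 X) (pX ≫ y') hy')).obj Z') := by
  exact Groth.Agent.Pi1Ext.GDesc.Const.nonempty_iso pX pY hprop Z' y y' hy hy'

end Groth.Agent.S3681
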