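import Groth.Statements.S3698
import Groth.Agent.AVGal24.Dominate
-- import your own Groth.Agent.* helpers here

set_option autoImplicit false
set_option backward.isDefEq.respectTransparency false
set_option backward.isDefEq.respectTransparency.types false
set_option linter.style.haveILetI false
universe u
open CategoryTheory MonoidalCategory CartesianMonoidalCategory MonObj GrpObj AlgebraicGeometry
open Pi1

namespace Groth.Agent.S3698

/-- The fundamental group of an abelian variety, in the form underlying its computation: let k be an
algebraically closed field and A an abelian variety over k (a proper, geometrically integral group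
scheme over k). Then every connected finite étale cover Z → A is dominated by a multiplication map:
for some integer d ≥ 1 there is a morphism A → Z over A, where A is viewed as a scheme over A
through multiplication by d. (Multiplication by d is the d-th power of the identity in the group
Hom(A, A); consequently the fundamental group of A is the inverse limit of the groups of k-points of
the kernels of these multiplications.) -/
theorem result (k : Type u) [Field k] [IsAlgClosed k]
    (A : Over (Spec (CommRingCat.of k))) [GrpObj A] [IsProper A.hom] [GeometricallyIntegral A.hom]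
    (Z : FEt.Cat A.left) [ConnectedSpace Z.left] :
    ∃ d : ℕ, 1 ≤ d ∧ ∃ ψ : A.left ⟶ Z.left, ψ ≫ Z.hom = ((𝟙 A) ^ (d : ℤ)).left := by
  haveI : IsIntegral A.left := GeometricallyIntegral.isIntegral_of_subsingleton A.hom
  haveI : ConnectedSpace A.left := inferInstance
  obtain ⟨z⟩ := (inferInstance : Nonempty Z.left)
  haveI : IsFinite Z.hom := Z.prop.1
  haveI : Etale Z.hom := Z.prop.2
  haveI : PreconnectedSpace ↥((Functor.fromPUnit A.left).obj Z.right) :=
    (inferInstance : ConnectedSpace A.left).toPreconnectedSpace
  obtain ⟨c, hc⟩ := (IsClopen.eq_univ (Groth.Agent.Pi1X.isClopen_range Z.prop) ⟨_, z, rfl⟩).ge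
    (Set.mem_univ ((Groth.Agent.AVGal24.org A).base (IsLocalRing.closedPoint k)))
  obtain ⟨s, -⟩ := Groth.Agent.Pi1X.exists_lift_at (Groth.Agent.AVGal24.org A) Z.hom c hc
  obtain ⟨d, ψ, hd, hψ⟩ := Groth.Agent.AVGal24.exists_mulN_factor Z s
  exact ⟨d, hd, ψ, by rw [zpow_natCast]; exact hψ⟩

end Groth.Agent.S3698
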