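import Groth.Statements.S3700
import Groth.Agent.SmoothImmX.Basic
import Groth.Agent.S3829

set_option autoImplicit false
universe u
open SGA1

namespace Groth.Agent.S3700

open AlgebraicGeometry CategoryTheory CategoryTheory.Limits in
/-- Let S be locally Noetherian, f : X -> S locally of finite type, Y the closed subscheme of X defined
by a quasi-coherent ideal, and x a point of Y at which Y is smooth over S. Then X is smooth over S
at x if and only if the closed immersion of Y in X is regular at x, that is, the kernel of O_{X,x}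
-> O_{Y,x} is generated by a regular sequence. (Smoothness at a point is membership in Mathlib's
smooth locus, the set of points where the map of local rings is formally smooth.) -/
theorem result {X S : Scheme.{u}} [IsLocallyNoetherian S] (f : X ⟶ S)
    [LocallyOfFiniteType f] [LocallyOfFinitePresentation f] (I : X.IdealSheafData)
    [LocallyOfFinitePresentation (I.subschemeι ≫ f)] (x : ↥I.subscheme) (hY : x ∈ (I.subschemeι ≫ f).smoothLocus) :
    I.subschemeι.base x ∈ f.smoothLocus ↔ CInt.IsRegularIdeal (RingHom.ker (I.subschemeι.stalkMap x).hom) := by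
  haveI : IsLocallyNoetherian X := LocallyOfFiniteType.isLocallyNoetherian f
  rw [← RegNear6.regNear_iff]
  constructor
  · intro hx
    let g := I.subschemeι
    let C : Set X := g '' ((g ≫ f).smoothLocus : Set I.subscheme)ᶜ
    have hC : IsClosed C := g.isClosedEmbedding.isClosedMap _ (g ≫ f).smoothLocus.2.isClosed_compl
    let W : X.Opens := f.smoothLocus ⊓ ⟨Cᶜ, hC.isOpen_compl⟩
    have hxW : g x ∈ W := by
      refine ⟨hx, ?_⟩
      rintro ⟨y, hy, hyx⟩
      rw [g.isClosedEmbedding.injective hyx] at hy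
      exact hy hY
    haveI : Smooth (W.ι ≫ f) := by
      rw [← Scheme.Hom.smoothLocus_eq_top_iff, ← Scheme.Hom.preimage_smoothLocus_eq]
      exact top_le_iff.1 fun w _ => w.2.1
    haveI : Smooth ((g ∣_ W) ≫ W.ι ≫ f) := by
      rw [morphismRestrict_ι_assoc, ← Scheme.Hom.smoothLocus_eq_top_iff, ← Scheme.Hom.preimage_smoothLocus_eq]
      refine top_le_iff.1 fun w _ => ?_
      by_contra hw
      exact w.2.2 ⟨w.1, hw, rfl⟩
    exact ⟨W, hxW, SmoothImmX.regClosed_of_smooth (W.ι ≫ f) (g ∣_ W)⟩
  · rintro ⟨V, hxV, hV⟩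
    obtain ⟨U, hU, hxU, rs, hrs, hker⟩ := hV.2 ⟨x, hxV⟩
    rw [RegNear6.ker_ideal_restrict I.subschemeι V hU] at hker
    have hxU' : I.subschemeι x ∈ V.ι ''ᵁ U :=
      ⟨_, hxU, morphismRestrict_base_coe I.subschemeι V ⟨x, hxV⟩⟩
    have hsm : ∃ V : I.subscheme.Opens, x ∈ V ∧ Smooth (V.ι ≫ I.subschemeι ≫ f) := by
      refine ⟨(I.subschemeι ≫ f).smoothLocus, hY, ?_⟩
      rw [← Scheme.Hom.smoothLocus_eq_top_iff, ← Scheme.Hom.preimage_smoothLocus_eq (f := (I.subschemeι ≫ f).smoothLocus.ι)]
      exact Scheme.Opens.ι_preimage_self _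
    obtain ⟨W, hW, hWs⟩ := S3829.result f (I.subschemeι ≫ f) I.subschemeι rfl x hsm
      ⟨V.ι ''ᵁ U, hU.image_of_isOpenImmersion V.ι, hxU', rs, hrs,
        by rw [Scheme.Hom.ker_apply]; exact hker⟩
    have h : (⟨_, hW⟩ : (W : Scheme.{u})) ∈ W.ι ⁻¹ᵁ f.smoothLocus := by
      rw [Scheme.Hom.preimage_smoothLocus_eq, Scheme.Hom.smoothLocus_eq_top]; trivial
    exact h

end Groth.Agent.S3700
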