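import Groth.Statements.S3707
import Groth.Agent.Pi1X.FEtBasic
import Mathlib.AlgebraicGeometry.Morphisms.UnderlyingMap

set_option autoImplicit false
universe u
open SGA1

namespace Groth.Agent.S3707

open AlgebraicGeometry CategoryTheory CategoryTheory.Limits in
/-- Let g : S' -> S be a surjective morphism of schemes, X and Y schemes over S with Y unramified over S
(formally unramified and locally of finite type), and X', Y' their base changes to S'. Then the map
sending an S-morphism X -> Y to the induced S'-morphism X' -> Y' is injective. -/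
theorem result {S S' X Y : Scheme.{u}} (g : S' ⟶ S) [Surjective g]
    (p : X ⟶ S) (q : Y ⟶ S) [FormallyUnramified q] [LocallyOfFiniteType q]
    (u v : X ⟶ Y) (hu : p ≫ 𝟙 S = u ≫ q) (hv : p ≫ 𝟙 S = v ≫ q)
    (h : pullback.map p g q g u (𝟙 S') (𝟙 S) hu ((Category.comp_id _).trans (Category.id_comp _).symm) =
      pullback.map p g q g v (𝟙 S') (𝟙 S) hv ((Category.comp_id _).trans (Category.id_comp _).symm)) :
    u = v := by
  have hz : pullback.fst p g ≫ u = pullback.fst p g ≫ v := by
    have h1 := congrArg (fun t => t ≫ pullback.fst q g) h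
    simpa only [pullback.map, pullback.lift_fst] using h1
  rw [Category.comp_id] at hu hv
  let X' : Over S := Over.mk p
  let Y' : Over S := Over.mk q
  let u' : X' ⟶ Y' := Over.homMk u hu.symm
  let v' : X' ⟶ Y' := Over.homMk v hv.symm
  haveI : FormallyUnramified Y'.hom := ‹_›
  haveI : LocallyOfFiniteType Y'.hom := ‹_›
  haveI := Groth.Agent.Pi1X.isOpenImmersion_equalizer_ι_left u' v'
  let T : Over S := Over.mk (pullback.fst p g ≫ p)
  let z : T ⟶ X' := Over.homMk (pullback.fst p g)
  have hzz : z ≫ u' = z ≫ v' := by ext1; exact hz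
  haveI : Surjective (equalizer.ι u' v').left := by
    refine ⟨fun x => ?_⟩
    obtain ⟨y, hy⟩ := (pullback.fst p g).surjective x
    refine ⟨(equalizer.lift z hzz).left y, ?_⟩
    rw [← Scheme.Hom.comp_apply, ← Over.comp_left, equalizer.lift_ι]
    exact hy
  haveI : IsIso (equalizer.ι u' v').left :=
    (isIso_iff_isOpenImmersion_and_surjective _).2 ⟨inferInstance, inferInstance⟩
  rw [← cancel_epi (equalizer.ι u' v').left]
  exact congr($(equalizer.condition u' v').left)

end Groth.Agent.S3707
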