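import Groth.Statements.S3708
import Groth.Agent.Obs15.Projective
import Groth.Agent.S1551
import Groth.Agent.Snapper.DimVanish
import Groth.Agent.DefTan29.HH
import Groth.Agent.SheafHomX.Coherent
import Groth.Agent.H28.PushLocFree
set_option autoImplicit false
universe u
open SGA1

namespace Groth.Agent.S3708
set_option backward.isDefEq.respectTransparency false
set_option backward.isDefEq.respectTransparency.types false
open Groth.Agent


open AlgebraicGeometry CategoryTheory CategoryTheory.Limits in
/-- Let A be a Noetherian local ring that is complete, with residue field k, and let X₀ be a smooth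
proper k-scheme of dimension one. Then there exist a smooth proper A-scheme X and an isomorphism of
k-schemes between X₀ and the closed fibre X ×_A k. -/
theorem result (A : Type u) [CommRing A] [IsLocalRing A] [IsNoetherianRing A]
    [IsAdicComplete (IsLocalRing.maximalIdeal A) A] {X₀ : Scheme.{u}}
    (f₀ : X₀ ⟶ Spec (CommRingCat.of (IsLocalRing.ResidueField A))) [Smooth f₀] [IsProper f₀]
    (hdim : topologicalKrullDim X₀ = 1) :
    ∃ (X : Scheme.{u}) (f : X ⟶ Spec (CommRingCat.of A)) (_ : Smooth f) (_ : IsProper f)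
      (e : X₀ ≅ pullback f (Spec.map (CommRingCat.ofHom (IsLocalRing.residue A)))),
      e.hom ≫ pullback.snd f _ = f₀ := by
  letI : X₀.Over (Spec (CommRingCat.of (IsLocalRing.ResidueField A))) := ⟨f₀⟩
  haveI : Smooth (X₀ ↘ Spec (CommRingCat.of (IsLocalRing.ResidueField A))) := ‹Smooth f₀›
  haveI : IsProper (X₀ ↘ Spec (CommRingCat.of (IsLocalRing.ResidueField A))) := ‹IsProper f₀›
  haveI : X₀.IsSeparated := ⟨by
    rw [show Limits.terminal.from X₀ = f₀ ≫ Limits.terminal.from _ from Limits.terminal.hom_ext _ _]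
    infer_instance⟩
  haveI : CompactSpace X₀ := QuasiCompact.compactSpace_of_compactSpace f₀
  haveI : IsLocallyNoetherian X₀ := LocallyOfFiniteType.isLocallyNoetherian f₀
  haveI : IsNoetherian X₀ := ⟨⟩
  haveI : HasExt.{u} X₀.Modules := IsGrothendieckAbelian.hasExt _
  have hΩ : FlatMod.IsFinLocFree (Omega.sheaf (X₀ ↘ Spec (CommRingCat.of (IsLocalRing.ResidueField A)))) :=
    DefTan29.isFinLocFree_omega' (k := IsLocalRing.ResidueField A) (X := X₀)
  have hdim' : topologicalKrullDim X₀ ≤ ((1 : ℕ) : WithBot ℕ∞) := hdim.le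
  have hO : Subsingleton (Coh.HH X₀ (Coh.structureModule X₀) 2) :=
    Snapper.subsingleton_HH_of_dim_le hdim' QCoh.isQCoh_structureModule (by norm_num)
  have hT : Subsingleton (Abelian.Ext.{u} (Omega.sheaf (X₀ ↘ Spec (CommRingCat.of (IsLocalRing.ResidueField A))))
      (Coh.structureModule X₀) 2) := by
    obtain ⟨ε⟩ := PnDual.nonempty_ext_linearEquiv_HH (A := IsLocalRing.ResidueField A) hΩ (Coh.structureModule X₀) 2
    haveI := Snapper.subsingleton_HH_of_dim_le hdim'
      (SheafHomX.isCoh_hom (H28.PushLocFree.isCoh_of_isFinLocFree hΩ) QCoh.isCoh_structureModule').1 (i := 2) (by norm_num)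
    exact ε.toEquiv.subsingleton
  obtain ⟨X, f, i, hf, hp, -, hsq⟩ := Obs15.exists_smooth_projective_lift A X₀ (S1551.result X₀ hdim) hT hO
  exact ⟨X, f, hf, hp, hsq.isoPullback, hsq.isoPullback_hom_snd⟩

end Groth.Agent.S3708
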