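import Groth.Statements.S3718
import Groth.Agent.AVGal24.Basic
-- import your own Groth.Agent.* helpers here

set_option autoImplicit false
set_option backward.isDefEq.respectTransparency false
set_option backward.isDefEq.respectTransparency.types false
set_option linter.style.haveILetI false
universe u
open CategoryTheory MonoidalCategory CartesianMonoidalCategory MonObj GrpObj AlgebraicGeometry
open Pi1

namespace Groth.Agent.S3718

/-- The covers that compute the prime-to-p part of the fundamental group of an abelian variety: let k be
algebraically closed, A an abelian variety over k (a proper, geometrically integral group scheme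
over k) and n ≥ 1 an integer invertible in k. Granted that multiplication by n (the n-th power of
the identity in the group Hom(A, A)) is a finite etale cover of A, it is a Galois cover, and its
automorphisms over A are exactly the translations x -> x + a by the k-points a of A with n a = 0,
each such a giving exactly one automorphism. (With the domination row this identifies the maximal
prime-to-p quotient of the fundamental group with the inverse limit of the prime-to-p torsion
points.) -/
theorem result (k : Type u) [Field k] [IsAlgClosed k]
    (A : Over (Spec (CommRingCat.of k))) [GrpObj A] [IsProper A.hom] [GeometricallyIntegral A.hom]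
    (n : ℕ) (hn1 : 1 ≤ n) (hn : IsUnit ((n : ℕ) : k)) :
    ∀ [hF : IsFinite ((𝟙 A) ^ (n : ℤ)).left] [hE : Etale ((𝟙 A) ^ (n : ℤ)).left],
      PiSp.IsGaloisCover (MorphismProperty.Over.mk ⊤ ((𝟙 A) ^ (n : ℤ)).left ⟨hF, hE⟩ : FEt.Cat A.left) ∧
      (∀ θ : Aut (MorphismProperty.Over.mk ⊤ ((𝟙 A) ^ (n : ℤ)).left ⟨hF, hE⟩ : FEt.Cat A.left),
        ∃! a : 𝟙_ (Over (Spec (CommRingCat.of k))) ⟶ A, a ^ (n : ℤ) = 1 ∧
          θ.hom.left = ((𝟙 A) * (toUnit A ≫ a)).left) ∧
      (∀ a : 𝟙_ (Over (Spec (CommRingCat.of k))) ⟶ A, a ^ (n : ℤ) = 1 →
        ∃ θ : Aut (MorphismProperty.Over.mk ⊤ ((𝟙 A) ^ (n : ℤ)).left ⟨hF, hE⟩ : FEt.Cat A.left),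
          θ.hom.left = ((𝟙 A) * (toUnit A ≫ a)).left) := by
  intro hF hE
  exact Groth.Agent.AVGal24.main n hn1

end Groth.Agent.S3718
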