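import Groth.Statements.S3719
import Groth.Agent.CurveInAV.Slice
import Groth.Agent.Pi1X.NormalCover
import Groth.Agent.GrpSchLib.IsogSub
import Groth.Agent.H23.TwistAmple
import Groth.Agent.S0388
import Groth.Agent.S1297
import Groth.Agent.LefPenLib.Bertini

set_option autoImplicit false
set_option backward.isDefEq.respectTransparency false
set_option backward.isDefEq.respectTransparency.types false
set_option linter.style.haveILetI false
set_option maxHeartbeats 1000000
universe u
open Pi1

namespace Groth.Agent.S3719

open AlgebraicGeometry CategoryTheory CategoryTheory.Limits in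
/-- Let k be algebraically closed, X a proper, irreducible, normal k-scheme, g : X -> P^r_k a k-morphism
whose image has closure of dimension at least 2, H the hyperplane where a nonzero linear form ℓ
vanishes, and X' a connected finite etale cover of X. Then the inverse image of H in X' is
connected. (For X' = X this is the connectedness of the hyperplane section Y = g⁻¹(H), and the
general case is the surjectivity of the fundamental group of Y onto that of X.) -/
theorem result (k : Type u) [Field k] [IsAlgClosed k] (X : Scheme.{u})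
    [X.Over (Spec (CommRingCat.of k))] [IsProper (X ↘ Spec (CommRingCat.of k))] [IrreducibleSpace X]
    (hN : Pi1.IsNormalScheme X) (r : ℕ) (g : X ⟶ CohB1.ProjSpace r k)
    (hg : g ≫ CohB1.ProjSpace.toSpec r k = X ↘ Spec (CommRingCat.of k))
    (hdim : 2 ≤ topologicalKrullDim ↥(closure (Set.range g.base)))
    (ℓ : MvPolynomial (Fin (r + 1)) k) (hℓ : ℓ ∈ CohB1.polyGrading r k 1) (hℓ0 : ℓ ≠ 0)
    (X' : FEt.Cat X) [ConnectedSpace X'.left] :
    IsConnected (((X'.hom ≫ g).base ⁻¹' (Proj.basicOpen (CohB1.polyGrading r k) ℓ).carrier)ᶜ) := by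
  haveI : IsReduced X := by
    haveI : ∀ x : X, _root_.IsReduced (X.presheaf.stalk x) := fun x => by
      haveI := (hN x).1
      infer_instance
    exact isReduced_of_isReduced_stalk X
  haveI : IsIntegral X := (isIntegral_iff_irreducibleSpace_and_isReduced X).2 ⟨inferInstance, inferInstance⟩
  obtain ⟨hfin, het⟩ := X'.prop
  let π : X'.left ⟶ X := X'.hom
  haveI : IsFinite π := hfin
  haveI : Etale π := het
  haveI := Pi1X.isIntegral_of_connected hN π
  haveI : Surjective π := ⟨fun x => (IsClopen.eq_univ ⟨π.isClosedMap.isClosed_range, π.isOpenMap.isOpen_range⟩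
      (Set.range_nonempty _)).ge (Set.mem_univ x)⟩
  haveI := PnCoh.Chow.isProper_toSpec r k
  haveI : IsLocallyNoetherian (CohB1.ProjSpace r k) :=
    LocallyOfFiniteType.isLocallyNoetherian (CohB1.ProjSpace.toSpec r k)
  let φ : X'.left ⟶ CohB1.ProjSpace r k := π ≫ g
  haveI : IsProper φ := by
    haveI : IsProper (φ ≫ CohB1.ProjSpace.toSpec r k) := by
      rw [Category.assoc, hg]
      infer_instance
    exact IsProper.of_comp φ (CohB1.ProjSpace.toSpec r k)
  haveI := S1297.result φ
  haveI := (S0388.result φ).1
  let q : φ.normalization ⟶ CohB1.ProjSpace r k := φ.fromNormalization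
  let τ : X'.left ⟶ φ.normalization := φ.toNormalization
  haveI : IsProper τ := by
    haveI : IsProper (τ ≫ q) := by
      show IsProper (φ.toNormalization ≫ φ.fromNormalization)
      rw [φ.toNormalization_fromNormalization]
      infer_instance
    exact IsProper.of_comp τ q
  have hτq : τ ≫ q = φ := φ.toNormalization_fromNormalization
  have hrange : Set.range φ.base = Set.range g.base := by
    show Set.range (fun x => g (π x)) = Set.range g.base
    exact Function.Surjective.range_comp π.surjective g.base
  have hrange' : Set.range q.base = Set.range φ.base := by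
    have e : (φ.base : X'.left → CohB1.ProjSpace r k) = fun x => q (τ x) := by
      funext x
      rw [← Scheme.Hom.comp_apply, hτq]
    rw [e]
    exact (Function.Surjective.range_comp τ.surjective q.base).symm
  have hdN : (2 : WithBot ℕ∞) ≤ topologicalKrullDim φ.normalization := by
    haveI : IsFinite q.toImage := by
      haveI : IsFinite (q.toImage ≫ q.imageι) := by
        rw [q.toImage_imageι]
        infer_instance
      exact IsFinite.of_comp q.toImage q.imageι
    haveI : Surjective q.toImage := ⟨fun y => by
      have h := q.toImage.denseRange.closure_range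
      rw [q.toImage.isClosedMap.isClosed_range.closure_eq] at h
      exact h.ge trivial⟩
    rw [GrpSchLib.IsogSub.topologicalKrullDim_eq_of_isIntegralHom q.toImage]
    have hr : Set.range q.imageι.base = closure (Set.range g.base) := by
      rw [← hrange, ← hrange', q.isClosedMap.isClosed_range.closure_eq]
      conv_rhs => rw [← q.toImage_imageι]
      exact (Function.Surjective.range_comp q.toImage.surjective q.imageι.base).symm
    refine hdim.trans (le_of_eq ?_)
    rw [← hr]
    exact (IsHomeomorph.topologicalKrullDim_eq _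
      q.imageι.isClosedEmbedding.isEmbedding.toHomeomorph.isHomeomorph).symm
  have hcov : (⨆ a : CohB1.polyGrading r k 1, Proj.basicOpen (CohB1.polyGrading r k) (a : MvPolynomial (Fin (r + 1)) k)) = ⊤ := by
    refine top_le_iff.1 fun x _ => ?_
    have hx : x ∈ (⨆ i, LefPen.chart r k i : (CohB1.ProjSpace r k).Opens) := by
      rw [LefPenLib.iSup_chart]; trivial
    obtain ⟨i, hi⟩ := TopologicalSpace.Opens.mem_iSup.1 hx
    exact TopologicalSpace.Opens.mem_iSup.2 ⟨⟨_, LefPen.X_mem r k i⟩, hi⟩
  have hamp := S10872.isAmple_twist_one_pn (k := k) r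
  let t : Γ(Twist.twistProjSpace r k 1, ⊤) := H23.TwistAmple.sec (𝒜 := CohB1.polyGrading r k) hℓ 1
  have hloc : H23.TrivBasic.locus t = Proj.basicOpen (CohB1.polyGrading r k) ℓ :=
    H23.TwistAmple.genLocus_sec hcov hℓ Nat.one_pos
  have hpre : ((φ.base ⁻¹' (Proj.basicOpen (CohB1.polyGrading r k) ℓ).carrier)ᶜ : Set X'.left) =
      τ.base ⁻¹' ((q ⁻¹ᵁ H23.TrivBasic.locus t : φ.normalization.Opens) : Set φ.normalization)ᶜ := by
    rw [hloc]
    ext x
    show ¬ (φ x ∈ Proj.basicOpen (CohB1.polyGrading r k) ℓ) ↔ ¬ (q (τ x) ∈ Proj.basicOpen (CohB1.polyGrading r k) ℓ)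
    rw [← Scheme.Hom.comp_apply, hτq]
  show IsConnected (φ.base ⁻¹' (Proj.basicOpen (CohB1.polyGrading r k) ℓ).carrier)ᶜ
  rw [hpre]
  have hC : _root_.IsConnected ((q ⁻¹ᵁ H23.TrivBasic.locus t : φ.normalization.Opens) : Set φ.normalization)ᶜ ∧
      IsClosed ((q ⁻¹ᵁ H23.TrivBasic.locus t : φ.normalization.Opens) : Set φ.normalization)ᶜ := by
    refine ⟨?_, (q ⁻¹ᵁ H23.TrivBasic.locus t).isOpen.isClosed_compl⟩
    by_cases hne : ∃ w, q w ∈ H23.TrivBasic.locus t
    · obtain ⟨w, hw⟩ := hne
      haveI : CompactSpace φ.normalization :=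
        QuasiCompact.compactSpace_of_compactSpace (q ≫ CohB1.ProjSpace.toSpec r k)
      have h := S16202.isConnected_zero k (q ≫ CohB1.ProjSpace.toSpec r k) hdN
        (AmpleVan.FiniteSurj.isAmple_pullback_of_isAffineHom q hamp)
        (CurveInAV.pullElt_ne_zero hamp.1 q t w hw)
      rwa [H23.TrivBasic.locus_pullElt hamp.1 q t] at h
    · have he : ((q ⁻¹ᵁ H23.TrivBasic.locus t : φ.normalization.Opens) : Set φ.normalization)ᶜ = Set.univ :=
        Set.eq_univ_of_forall fun w hw => hne ⟨w, hw⟩
      rw [he]
      exact isConnected_univ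
  exact Topology.IsCoinducing.isConnected_preimage_of_isClosed τ.isConnected_preimage_singleton
    (τ.isClosedMap.isQuotientMap τ.continuous τ.surjective).isCoinducing hC.2 hC.1

end Groth.Agent.S3719
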