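import Groth.Statements.S3720
import Groth.Agent.Pi1Ext.Principal.Kummer
-- import your own Groth.Agent.* helpers here

set_option autoImplicit false
set_option backward.isDefEq.respectTransparency false
set_option backward.isDefEq.respectTransparency.types false
set_option linter.style.haveILetI false
open CategoryTheory CategoryTheory.Limits AlgebraicGeometry
universe u
open SGA1t

namespace Groth.Agent.S3720

/-- Kummer theory over a local ring: let A be a local ring, n ≥ 1 an integer invertible in A, and
suppose A contains a primitive n-th root of unity (so that the group μ_n(A) of n-th roots of unity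
in A is cyclic of order n). Then every principal μ_n(A)-cover P of Spec A is isomorphic over Spec A
to a Kummer cover Spec A[T]/(Tⁿ − a) for some unit a of A, compatibly with the actions: the given
action of a root of unity ζ on P corresponds to the automorphism of A[T]/(Tⁿ − a) induced by T ↦ ζT. -/
theorem result (A : Type u) [CommRing A] [IsLocalRing A] (n : ℕ) (hn1 : 1 ≤ n)
    (hn : IsUnit ((n : ℕ) : A)) (ζ₀ : A) (hζ₀ : IsPrimitiveRoot ζ₀ n)
    (P : FEt.Cat (Spec (CommRingCat.of A))) (ρ : ↥(rootsOfUnity n A) →* Aut P)
    (hP : SGA1t.IsPrincipal ↥(rootsOfUnity n A) P ρ) :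
    ∃ (a : Aˣ) (e : P.left ≅ Spec (CommRingCat.of (SGA1t.kummer A (fun _ : Unit => (a : A)) (fun _ => n)))),
      e.hom ≫ Spec.map (CommRingCat.ofHom (algebraMap A (SGA1t.kummer A (fun _ : Unit => (a : A)) (fun _ => n)))) = P.hom ∧
      ∀ ζ : ↥(rootsOfUnity n A), (ρ ζ).hom.left ≫ e.hom =
        e.hom ≫ Spec.map (CommRingCat.ofHom (SGA1t.kummerTwist A (fun _ : Unit => (a : A)) (fun _ => n) (fun _ => ζ))) := by
  exact Groth.Agent.Pi1Ext.Principal.scheme_kummer hn1 hn ζ₀ hζ₀ P ρ hP

end Groth.Agent.S3720
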