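import Groth.Statements.S3723
import Groth.Agent.EtModAb.ShriekPlus
-- import your own Groth.Agent.* helpers here

set_option autoImplicit false
universe u
open CategoryTheory CategoryTheory.Limits AlgebraicGeometry Opposite
attribute [local instance] HasDerivedCategory.standard
open EtDl

namespace Groth.Agent.S3723
open Groth.Agent
set_option backward.isDefEq.respectTransparency.types false

/-- Let f : X -> S be a morphism of quasi-compact quasi-separated schemes with a compactification c, all
of whose fibres have dimension at most d, and Λ a commutative ring with n·1 = 0 for some n ≥ 1. Let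
Rf^! be a right adjoint of Rf_! : D^+(X_et, Λ) -> D^+(S_et, Λ) (such a right adjoint exists; here
any adjunction is allowed). If L in D^+(S_et, Λ) has H^i(L) = 0 for i < k, then H^i(Rf^! L) = 0 for
i < k - 2d. -/
theorem result {X S : Scheme.{u}} [CompactSpace ↥X] [QuasiSeparatedSpace ↥X] [CompactSpace ↥S] [QuasiSeparatedSpace ↥S]
    {f : X ⟶ S} (c : DEt.Compactification f) (d : ℕ)
    (hdim : ∀ s : S, topologicalKrullDim ↥(f.fiber s) ≤ d)
    (Λ : Type (u + 1)) [CommRing Λ] (n : ℕ) (hn : 0 < n) (hΛ : (n : Λ) = 0)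
    (G : DerivedCategory.Plus (EtModW.Mod Λ S) ⥤ DerivedCategory.Plus (EtModW.Mod Λ X))
    (adj : EtDl.RshriekPlus Λ c ⊣ G) (L : DerivedCategory.Plus (EtModW.Mod Λ S)) (k : ℤ) (hL : L.IsGE k) :
    (G.obj L).IsGE (k - 2 * (d : ℤ)) := by
  haveI := c.isOpenImmersion
  haveI := c.isProper
  haveI : LocallyOfFiniteType f := c.fac ▸ (inferInstance : LocallyOfFiniteType (c.j ≫ c.fbar))
  refine (DerivedCategory.Plus.isGE_ι_obj_iff _ _).1
    (EtModAb.PlusRD.isGE_of_single_hom _ _ fun q hq M φ => ?_)
  let S₁ := (DerivedCategory.Plus.singleFunctor (EtModW.Mod Λ X) q).obj M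
  let ψ : S₁ ⟶ G.obj L := DerivedCategory.Plus.ι.preimage φ
  haveI : DerivedCategory.Plus.IsLE ((EtDl.RshriekPlus Λ c).obj S₁) (q + 2 * (d : ℤ)) :=
    (EtModAb.ShriekPlus.amplitude Λ c d hn hΛ (EtModAb.ShriekPlus.rd_le c d hdim) S₁ q q
      inferInstance inferInstance).1
  haveI := hL
  have h : ψ = 0 := (adj.homEquiv _ _).symm.injective
    ((DerivedCategory.Plus.TStructure.t.zero _ (q + 2 * (d : ℤ)) k (by omega)).trans
      (DerivedCategory.Plus.TStructure.t.zero _ (q + 2 * (d : ℤ)) k (by omega)).symm)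
  refine (DerivedCategory.Plus.ι.map_preimage (X := S₁) (Y := G.obj L) φ).symm.trans ?_
  exact (congrArg DerivedCategory.Plus.ι.map h).trans (Functor.map_zero _ _ _)

end Groth.Agent.S3723
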