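import Groth.Statements.S3724
import Groth.Agent.EtModAb.ShriekPlus
-- import your own Groth.Agent.* helpers here

set_option autoImplicit false
universe u
open CategoryTheory CategoryTheory.Limits AlgebraicGeometry Opposite
attribute [local instance] HasDerivedCategory.standard
open EtDl

namespace Groth.Agent.S3724
open Groth.Agent
set_option backward.isDefEq.respectTransparency.types false

/-- Let f : X -> S be a morphism of quasi-compact quasi-separated schemes with a compactification c, Λ a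
commutative ring with n·1 = 0 for some n ≥ 1, and Rf^! any right adjoint of Rf_! : D^+(X_et, Λ) ->
D^+(S_et, Λ). Let L in D^b(S_et, Λ) have injective dimension at most m, in the sense that Hom(F,
L[i]) = 0 for every sheaf of Λ-modules F on S_et and every i > m. Then Rf^! L has injective
dimension at most m in the same sense on X_et. -/
theorem result {X S : Scheme.{u}} [CompactSpace ↥X] [QuasiSeparatedSpace ↥X] [CompactSpace ↥S] [QuasiSeparatedSpace ↥S]
    {f : X ⟶ S} (c : DEt.Compactification f)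
    (Λ : Type (u + 1)) [CommRing Λ] (n : ℕ) (hn : 0 < n) (hΛ : (n : Λ) = 0)
    (G : DerivedCategory.Plus (EtModW.Mod Λ S) ⥤ DerivedCategory.Plus (EtModW.Mod Λ X))
    (adj : EtDl.RshriekPlus Λ c ⊣ G) (L : DerivedCategory.Plus (EtModW.Mod Λ S)) (a b : ℤ)
    (ha : L.IsGE a) (hb : L.IsLE b) (m : ℤ)
    (hL : ∀ (F : EtModW.Mod Λ S) (i : ℤ), m < i →
      Subsingleton ((DerivedCategory.Plus.singleFunctor (EtModW.Mod Λ S) 0).obj F ⟶ L⟦i⟧))
    (F : EtModW.Mod Λ X) (i : ℤ) (hi : m < i) :
    Subsingleton ((DerivedCategory.Plus.singleFunctor (EtModW.Mod Λ X) 0).obj F ⟶ (G.obj L)⟦i⟧) := by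
  haveI := c.isOpenImmersion
  haveI := c.isProper
  obtain ⟨N, hN⟩ := S3389.result c.fbar
  have hdim : ∀ x : X, FibDim.rd c.fbar (c.j x) ≤ N := fun x =>
    (FibDim.topologicalKrullDim_fiber_le_iff c.fbar _ N).1 (hN _) (c.j x) rfl
  refine ⟨fun φ φ' => ?_⟩
  suffices h : ∀ φ : (DerivedCategory.Plus.singleFunctor (EtModW.Mod Λ X) 0).obj F ⟶ (G.obj L)⟦i⟧, φ = 0 from (h φ).trans (h φ').symm
  clear φ φ'
  intro φ
  let S₁ := (DerivedCategory.Plus.singleFunctor (EtModW.Mod Λ X) 0).obj F
  haveI := DerivedCategory.Plus.TStructure.t.isLE_shift S₁ 0 (-i) i (by omega)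
  haveI := DerivedCategory.Plus.TStructure.t.isGE_shift S₁ 0 (-i) i (by omega)
  obtain ⟨hR, hR'⟩ := EtModAb.ShriekPlus.amplitude Λ c N hn hΛ hdim (S₁⟦-i⟧) i i inferInstance inferInstance
  have h0 : ∀ θ : S₁⟦-i⟧ ⟶ G.obj L, θ = 0 := fun θ => by
    refine (adj.homEquiv _ _).symm.injective ?_
    haveI := (DerivedCategory.Plus.isLE_ι_obj_iff _ _).2 hR
    haveI := (DerivedCategory.Plus.isGE_ι_obj_iff _ _).2 hR'
    refine DerivedCategory.Plus.ι.map_injective ?_
    exact (EtModAb.ShriekPlus.hom_eq_zero L m hL _ i (i + 2 * (N : ℤ)) hi _).trans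
      (EtModAb.ShriekPlus.hom_eq_zero L m hL _ i (i + 2 * (N : ℤ)) hi _).symm
  refine (shiftFunctor (DerivedCategory.Plus (EtModW.Mod Λ X)) (-i)).map_injective ?_
  rw [Functor.map_zero]
  exact (cancel_mono ((shiftFunctorCompIsoId _ i (-i) (by omega)).hom.app (G.obj L))).1
    ((h0 _).trans zero_comp.symm)

end Groth.Agent.S3724
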