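import Groth.Statements.S3731
import Groth.Agent.EtFound.HomologyZero
-- import your own Groth.Agent.* helpers here

set_option autoImplicit false
universe u v
open CategoryTheory CategoryTheory.Limits
attribute [local instance] HasDerivedCategory.standard
open EtDl

namespace Groth.Agent.S3731

/-- Let A be an abelian category, k ≥ 0, and K_0 -> K_1 -> ... -> K_{2k} a chain of 2k morphisms in the
derived category of A such that every K_i has H^p(K_i) = 0 for p outside [0, k] and every morphism
K_i -> K_{i+1} induces the zero map on H^p for all p < k. Let π : K_0 -> H^k(K_0)[-k] be the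
morphism to the top cohomology object placed in degree k that induces the identity on H^k. Then the
composite K_0 -> K_{2k} factors through π. -/
theorem result {A : Type u} [Category.{v} A] [Abelian A] (k : ℕ)
    (K : ComposableArrows (DerivedCategory A) (2 * k))
    (hK : ∀ (i : ℕ) (hi : i ≤ 2 * k) (p : ℤ), p < 0 ∨ (k : ℤ) < p →
      IsZero ((DerivedCategory.homologyFunctor A p).obj (K.obj' i)))
    (hf : ∀ (i : ℕ) (hi : i < 2 * k) (p : ℤ), p < (k : ℤ) →
      (DerivedCategory.homologyFunctor A p).map (K.map' i (i + 1)) = 0)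
    (π : K.obj' 0 ⟶ (DerivedCategory.singleFunctor A (k : ℤ)).obj
      ((DerivedCategory.homologyFunctor A (k : ℤ)).obj (K.obj' 0)))
    (hπ : (DerivedCategory.homologyFunctor A (k : ℤ)).map π ≫
      (DerivedCategory.singleFunctorCompHomologyFunctorIso A (k : ℤ)).hom.app
        ((DerivedCategory.homologyFunctor A (k : ℤ)).obj (K.obj' 0)) = 𝟙 _) :
    ∃ φ : (DerivedCategory.singleFunctor A (k : ℤ)).obj
        ((DerivedCategory.homologyFunctor A (k : ℤ)).obj (K.obj' 0)) ⟶ K.obj' (2 * k),
      K.map' 0 (2 * k) = π ≫ φ := by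
  let H := DerivedCategory.homologyFunctor A
  have hK' : ∀ (i : ℕ) (hi : i ≤ 2 * k), (K.obj' i).IsGE 0 := fun i hi =>
    (DerivedCategory.isGE_iff _ 0).2 fun p hp => hK i hi p (Or.inl hp)
  let S := (DerivedCategory.singleFunctor A (k : ℤ)).obj ((H (k : ℤ)).obj (K.obj' 0))
  let ι := (DerivedCategory.singleFunctorCompHomologyFunctorIso A (k : ℤ)).hom.app ((H (k : ℤ)).obj (K.obj' 0))
  have hIso : IsIso ((H (k : ℤ)).map π) := by
    have e : (H (k : ℤ)).map π = inv ι := IsIso.eq_inv_of_inv_hom_id (by exact hπ) |>.trans rfl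
    rw [e]
    infer_instance
  obtain ⟨F, i, δ, hT⟩ := Pretriangulated.distinguished_cocone_triangle₁ π
  have hS : ∀ p : ℤ, p ≠ k → IsZero ((H p).obj S) := fun p hp => by
    rcases lt_or_gt_of_ne hp with hp | hp
    · exact (DerivedCategory.isGE_iff _ (k : ℤ)).1 inferInstance p hp
    · exact (DerivedCategory.isLE_iff _ (k : ℤ)).1 inferInstance p hp
  haveI : F.IsLE ((k : ℤ) - 1) := (DerivedCategory.isLE_iff _ _).2 fun p hp => by
    refine (DerivedCategory.HomologySequence.exact₁ _ hT (p - 1) p (by lia)).isZero_of_both_zeros ?_ ?_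
    · by_cases h : p - 1 = k
      · refine (DerivedCategory.HomologySequence.epi_homologyMap_mor₂_iff _ hT (p - 1) p (by lia)).1 ?_
        rw [h]
        exact @IsIso.epi_of_iso _ _ _ _ _ hIso
      · exact (hS _ h).eq_of_src _ _
    · by_cases h : p = k
      · subst h
        exact (DerivedCategory.HomologySequence.mono_homologyMap_mor₂_iff _ hT (k : ℤ)).1
          (@IsIso.mono_of_iso _ _ _ _ _ hIso)
      · exact (hK 0 (by lia) p (Or.inr (by lia))).eq_of_tgt _ _
  have h0 := EtFound.comp_eq_zero_of_homology_zero (k : ℤ) K hK' hf k le_rfl 0 k (by lia) (by lia) F i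
  have h1 : i ≫ K.map' 0 (2 * k) = 0 := by
    rw [K.map'_comp 0 k (2 * k) (by lia) (by lia) (by lia), reassoc_of% h0, zero_comp]
  obtain ⟨φ, hφ⟩ := Pretriangulated.Triangle.yoneda_exact₂ _ hT (K.map' 0 (2 * k)) h1
  exact ⟨φ, hφ⟩

end Groth.Agent.S3731
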