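import Groth.Statements.S3744
import Groth.Agent.H28.KTower
-- import your own Groth.Agent.* helpers here

set_option autoImplicit false
universe v u
open CategoryTheory CategoryTheory.Limits AlgebraicGeometry
attribute [local instance] HasDerivedCategory.standard
open KRR

namespace Groth.Agent.S3744

/-- Let X be a connected Noetherian scheme with an ample invertible module, of dimension at most d
(Krull dimension of the underlying topological space), and (K, P, φ) a model of the λ-ring K(X).
Then the γ-filtration of K(X) satisfies F^{d+1} K(X) = 0. -/
theorem result (X : Scheme.{u}) [IsNoetherian X] [ConnectedSpace ↥X]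
    (L : X.Modules) (hL : CohB1.IsAmple L) (d : ℕ) (hd : topologicalKrullDim ↥X ≤ (d : WithBot ℕ∞))
    (K : Type v) [CommRing K] [LambdaRing.LambdaOps K] (P : LambdaRing.PosStructure K) (φ : SGA6.Kvb X →+ K) (hK : KRR.IsModel X K P φ) :
    LambdaRing.gammaFiltration P (d + 1) = ⊥ := by
  exact Groth.Agent.H28.KTower.gammaFiltration_eq_bot hL hd hK

end Groth.Agent.S3744
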