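import Groth.Statements.S3753
import Groth.Agent.H28.AdamsReg
-- import your own Groth.Agent.* helpers here

set_option autoImplicit false
universe v u
open CategoryTheory CategoryTheory.Limits AlgebraicGeometry
attribute [local instance] HasDerivedCategory.standard
open scoped TensorProduct
open KRR

namespace Groth.Agent.S3753

/-- Let S be affine Noetherian, Y connected and quasi-projective over S, and f = i ≫ p : X ⟶ Y with i :
X ⟶ P = P^n_Y a regular closed imbedding (X connected, conormal module C finite locally free of rank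
c) and p the projection. With models of K(X), K(P), K(Y), the pull-back i^K, and push-forwards i_K
(via resolutions) and p_K (via regular sheaves), put f_K = p_K ∘ i_K and R = ℤ[1/j]. The source's
multiplier θ^j(T_f^∨)^{-1}, where T_f = [i^* T_{P/Y}] - [N_{X/P}] is the tangent element, equals j ·
θ^j([C]) · θ^j(i^K q)^{-1} with q = [p^*O_Y^{n+1} ⊗ O_P(-1)]. Then 1 ⊗ θ^j(i^K q) is invertible in R
⊗ K(X) and, for every x ∈ K(X) and every inverse w of it: 1 ⊗ ψ^j(f_K x) = (R ⊗ f_K)(j · (1 ⊗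
θ^j([C]) ψ^j(x)) · w). -/
theorem result (S : Scheme.{u}) [IsAffine S] [IsNoetherian S] (n : ℕ) {X Y : Scheme.{u}} [IsNoetherian Y] [ConnectedSpace ↥Y] (qY : Y ⟶ S) (hqY : KRR.IsQProjOver qY)
    (i : X ⟶ KRR.PY n Y) (hi : Mor2.IsRegularClosedImmersion i) [ConnectedSpace ↥X] (c : ℕ)
    (hC : FlatMod.IsFinLocFreeOfRank c (Omega.conormal i))
    (KX : Type v) [CommRing KX] [LambdaRing.LambdaOps KX] (PX : LambdaRing.PosStructure KX) (φX : SGA6.Kvb X →+ KX) (hKX : KRR.IsModel X KX PX φX)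
    (KP : Type v) [CommRing KP] [LambdaRing.LambdaOps KP] (PP : LambdaRing.PosStructure KP) (φP : SGA6.Kvb (KRR.PY n Y) →+ KP) (hKP : KRR.IsModel (KRR.PY n Y) KP PP φP)
    (KY : Type v) [CommRing KY] [LambdaRing.LambdaOps KY] (PY : LambdaRing.PosStructure KY) (φY : SGA6.Kvb Y →+ KY) (hKY : KRR.IsModel Y KY PY φY)
    (gi : KP →+ KX) (hgi : KRR.IsPull i φP φX gi)
    (a : KX →+ KP) (ha : KRR.IsPushCl i φX φP a) (b : KP →+ KY) (hb : KRR.IsPushPr n Y φP φY b)
    (j : ℕ) (hj : 1 ≤ j) (x : KX)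
    :
    (∃ w : TensorProduct ℤ (Localization.Away (j : ℤ)) KX, w * ((1 : Localization.Away (j : ℤ)) ⊗ₜ[ℤ] KRR.bott PX j (gi (φP (KRR.cl (KRR.PY n Y)
      (KRR.twF n Y (-1) ((Scheme.Modules.pullback (KRR.pr n Y)).obj (FlatMod.freeMod Y (n + 1)))))))) = 1) ∧
    ∀ w : TensorProduct ℤ (Localization.Away (j : ℤ)) KX, w * ((1 : Localization.Away (j : ℤ)) ⊗ₜ[ℤ] KRR.bott PX j (gi (φP (KRR.cl (KRR.PY n Y)
      (KRR.twF n Y (-1) ((Scheme.Modules.pullback (KRR.pr n Y)).obj (FlatMod.freeMod Y (n + 1)))))))) = 1 →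
    (1 : Localization.Away (j : ℤ)) ⊗ₜ[ℤ] LambdaRing.adams PY j (b (a x)) =
      LinearMap.lTensor (Localization.Away (j : ℤ)) (b.comp a).toIntLinearMap
        ((j : TensorProduct ℤ (Localization.Away (j : ℤ)) KX) *
          ((1 : Localization.Away (j : ℤ)) ⊗ₜ[ℤ] (KRR.bott PX j (φX (KRR.cl X (Omega.conormal i))) * LambdaRing.adams PX j x)) * w) := by
  exact Groth.Agent.H28.AdamsReg.result n (Groth.Agent.H28.QProjEnough.enough qY hqY) i hi c hC hKX hKP hKY gi hgi a ha b hb j hj x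

end Groth.Agent.S3753
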