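import Groth.Statements.S3755
import Groth.Agent.H28.PnBox
import Groth.Agent.H28.KRREpi
-- import your own Groth.Agent.* helpers here

set_option autoImplicit false
universe v u
open CategoryTheory CategoryTheory.Limits AlgebraicGeometry
attribute [local instance] HasDerivedCategory.standard
open KRR

namespace Groth.Agent.S3755

/-- Let Y be a Noetherian scheme, p : P = P^n_Y ⟶ Y, and F a coherent O_P-module regular relative to p.
Then the canonical homomorphism p^* p_* F ⟶ F (counit of the adjunction between pullback and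
pushforward of modules) is an epimorphism, and if Z denotes its kernel then Z(1) is regular. -/
theorem result (n : ℕ) (Y : Scheme.{u}) [IsNoetherian Y]
    (F : (KRR.PY n Y).Modules) (hF : Coh.IsCoh F) (hreg : KRR.IsRegSheaf n Y F) :
    Epi ((Scheme.Modules.pullbackPushforwardAdjunction (KRR.pr n Y)).counit.app F) ∧
    KRR.IsRegSheaf n Y (KRR.twF n Y 1 (kernel ((Scheme.Modules.pullbackPushforwardAdjunction (KRR.pr n Y)).counit.app F))) := by
  let adj := Scheme.Modules.pullbackPushforwardAdjunction (KRR.pr n Y)
  let ε := adj.counit.app F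
  haveI hε : Epi ε := H28.KRREpi.epi_counit F hF.1 hreg
  haveI : IsProper (KRR.pr n Y) :=
    MorphismProperty.pullback_snd _ _ (PnCoh.Chow.isProper_toSpec n (ULift.{u} ℤ))
  refine ⟨hε, H28.KRRReg.isReg_sub (S := ShortComplex.mk (kernel.ι ε) ε (kernel.condition ε))
    (ShortComplex.ShortExact.mk' (ShortComplex.exact_of_f_is_kernel _ (kernelIsKernel ε)) inferInstance hε)
    ?_ hreg ?_⟩
  · exact H28.KRRTw.isReg_twF _ (H28.PnBox.isReg_pullback _ (QCoh.isQCoh_pushforward _ hF.1)) 1
  · haveI : IsSplitEpi ((Scheme.Modules.pushforward (KRR.pr n Y)).map ε) :=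
      ⟨⟨⟨adj.unit.app _, adj.right_triangle_components F⟩⟩⟩
    exact (inferInstance : Epi ((Scheme.Modules.pushforward (KRR.pr n Y)).map ε))

end Groth.Agent.S3755
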