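import Groth.Statements.S3759
import Groth.Agent.H28.PushK
-- import your own Groth.Agent.* helpers here

set_option autoImplicit false
universe v u
open CategoryTheory CategoryTheory.Limits AlgebraicGeometry
attribute [local instance] HasDerivedCategory.standard
open KRR

namespace Groth.Agent.S3759

/-- With R5, R6; the degree-0 case: let Y be a connected Noetherian scheme, p : P = P^n_Y ⟶ Y, and (KP,
PP, φP), (KY, PY, φY) models of K(P), K(Y) with g = p_K the push-forward ([F] ↦ [p_*F] for regular
finite locally free F). Then p_K [O_P] = 1. -/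
theorem result (n : ℕ) (Y : Scheme.{u}) [IsNoetherian Y] [ConnectedSpace ↥Y]
    (KP : Type v) [CommRing KP] [LambdaRing.LambdaOps KP] (PP : LambdaRing.PosStructure KP) (φP : SGA6.Kvb (KRR.PY n Y) →+ KP) (hKP : KRR.IsModel (KRR.PY n Y) KP PP φP)
    (KY : Type v) [CommRing KY] [LambdaRing.LambdaOps KY] (PY : LambdaRing.PosStructure KY) (φY : SGA6.Kvb Y →+ KY) (hKY : KRR.IsModel Y KY PY φY)
    (g : KP →+ KY) (hg : KRR.IsPushPr n Y φP φY g) :
    g (φP (KRR.cl (KRR.PY n Y) (Coh.structureModule (KRR.PY n Y)))) = 1 := by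
  have h := Groth.Agent.H28.PushK.push_twist hg hKY.map_one 0
  rw [Nat.add_zero, Nat.choose_self, Nat.cast_one] at h
  refine Eq.trans ?_ h
  exact congrArg (fun c => g (φP c)) (Groth.Agent.H28.PushK.cl_iso
    (Groth.Agent.H28.KRRReg.twF_zero _).some.symm (Groth.Agent.H28.PushK.isFinLocFree_structure _)
    (Groth.Agent.H28.KRegK0.vp_twF 0 (Groth.Agent.H28.PushK.isFinLocFree_structure _)))

end Groth.Agent.S3759
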