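import Groth.Statements.S3762
import Groth.Agent.H28.GenProj
-- import your own Groth.Agent.* helpers here

set_option autoImplicit false
universe v u
open CategoryTheory CategoryTheory.Limits AlgebraicGeometry
attribute [local instance] HasDerivedCategory.standard
open KRR

namespace Groth.Agent.S3762

/-- Let Y be a connected Noetherian scheme, p : P = P^n_Y ⟶ Y, with models of K(P), K(Y), g = p_K the
push-forward and q = p^K the pull-back. Then p_K (x · p^K y) = p_K (x) · y for all x ∈ K(P), y ∈
K(Y). -/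
theorem result (n : ℕ) (Y : Scheme.{u}) [IsNoetherian Y] [ConnectedSpace ↥Y]
    (KP : Type v) [CommRing KP] [LambdaRing.LambdaOps KP] (PP : LambdaRing.PosStructure KP) (φP : SGA6.Kvb (KRR.PY n Y) →+ KP) (hKP : KRR.IsModel (KRR.PY n Y) KP PP φP)
    (KY : Type v) [CommRing KY] [LambdaRing.LambdaOps KY] (PY : LambdaRing.PosStructure KY) (φY : SGA6.Kvb Y →+ KY) (hKY : KRR.IsModel Y KY PY φY)
    (g : KP →+ KY) (hg : KRR.IsPushPr n Y φP φY g) (q : KY →+ KP) (hq : KRR.IsPull (KRR.pr n Y) φY φP q) (x : KP) (y : KY) :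
    g (x * q y) = g x * y := by
  exact Groth.Agent.H28.GenProj.push_mul_pull φP hKP.bijective.2 φY hKY.bijective.2
    (fun E F hE hF => hKP.map_mul E F hE hF) (fun E F hE hF => hKY.map_mul E F hE hF) g hg q hq x y

end Groth.Agent.S3762
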