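import Groth.Statements.S3763
import Groth.Agent.H28.GRR
import Groth.Agent.H28.GrMap
import Groth.Agent.H28.ModelIso
import Groth.Agent.H23.Chern.Dual
-- import your own Groth.Agent.* helpers here

set_option autoImplicit false
universe v u
open CategoryTheory CategoryTheory.Limits AlgebraicGeometry
attribute [local instance] HasDerivedCategory.standard
open KRR

namespace Groth.Agent.S3763

/-- Grothendieck–Riemann–Roch. Let S be an affine Noetherian scheme, Y a connected Noetherian scheme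
quasi-projective over S of dimension at most dY, and f = i ≫ p : X ⟶ Y with i : X ⟶ P = P^n_Y a
regular closed imbedding (X connected of dimension at most dX, conormal module C finite locally free
of rank c) and p : P ⟶ Y the projection; f has codimension c − n. Let (KX, PX, φX), (KP, PP, φP),
(KY, PY, φY) be models of the λ-rings K(X), K(P), K(Y), and f_K = p_K ∘ i_K the push-forward, i_K
being the push-forward along the closed imbedding i and p_K that along the projection. The tangent
element is T_f = [i^* T_{P/Y}] − [N_{X/P}] = ((n+1)·[i^* O_P(1)] − 1) − [C^∨] ∈ K(X). Let ℚGr denote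
the graded ring of the γ-filtration tensored with ℚ, and ch and td the Chern character and Todd
class with values in it (built from the Chern classes c^i(x) = γ^i(x − ε(x)) mod F^{i+1} by the
Hirzebruch polynomials of exp(t) and t·e^t/(e^t − 1); the truncations at dX, dY are exact because
F^{d+1} K = 0 in dimension ≤ d). Then f_K induces a homomorphism f_G : ℚGr K(X) ⟶ ℚGr K(Y) of graded
degree c − n, and for every x ∈ K(X): ch(f_K x) = f_G(td(T_f) · ch(x)). -/
theorem result (S : Scheme.{u}) [IsAffine S] [IsNoetherian S] (n : ℕ) {X Y : Scheme.{u}} [IsNoetherian Y] [ConnectedSpace ↥Y] (qY : Y ⟶ S) (hqY : KRR.IsQProjOver qY)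
    (dY : ℕ) (hdY : topologicalKrullDim ↥Y ≤ (dY : WithBot ℕ∞))
    (i : X ⟶ KRR.PY n Y) (hi : Mor2.IsRegularClosedImmersion i) [ConnectedSpace ↥X]
    (dX : ℕ) (hdX : topologicalKrullDim ↥X ≤ (dX : WithBot ℕ∞)) (c : ℕ)
    (hC : FlatMod.IsFinLocFreeOfRank c (Omega.conormal i)) [DCoh.HasSheafHom (Omega.conormal i)]
    (KX : Type v) [CommRing KX] [LambdaRing.LambdaOps KX] (PX : LambdaRing.PosStructure KX) (φX : SGA6.Kvb X →+ KX) (hKX : KRR.IsModel X KX PX φX)
    (KP : Type v) [CommRing KP] [LambdaRing.LambdaOps KP] (PP : LambdaRing.PosStructure KP) (φP : SGA6.Kvb (KRR.PY n Y) →+ KP) (hKP : KRR.IsModel (KRR.PY n Y) KP PP φP)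
    (KY : Type v) [CommRing KY] [LambdaRing.LambdaOps KY] (PY : LambdaRing.PosStructure KY) (φY : SGA6.Kvb Y →+ KY) (hKY : KRR.IsModel Y KY PY φY)
    (a : KX →+ KP) (ha : KRR.IsPushCl i φX φP a) (b : KP →+ KY) (hb : KRR.IsPushPr n Y φP φY b)
    :
    ∃ fG : KGr.Gr PX →+ KGr.Gr PY, KGr.IsGrPush PX PY (b.comp a) ((c : ℤ) - n) fG ∧
      ∀ x : KX, KGr.chK PY dY (b (a x)) =
        fG (KGr.tdK PX dX (((n + 1 : ℕ) : KX) * φX (KRR.cl X ((Scheme.Modules.pullback i).obj (Twist.twistOver n Y 1))) - 1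
              - φX (KRR.cl X ((DCoh.sheafHom (Omega.conormal i)).obj (Coh.structureModule X))))
            * KGr.chK PX dX x) := by
  classical
  haveI := hi.1
  haveI := H28.QProjEnough.isNoetherian_PY n Y
  haveI := H28.QProjEnough.connectedSpace_PY n Y
  haveI := H28.PushComp.isNoetherian_of_closed i
  obtain ⟨KX', _, _, PX', φX', hX'⟩ := H28.KvbModel.exists_isModel (X := X)
  obtain ⟨KP', _, _, PP', φP', hP'⟩ := H28.KvbModel.exists_isModel (X := KRR.PY n Y)
  obtain ⟨KY', _, _, PY', φY', hY'⟩ := H28.KvbModel.exists_isModel (X := Y)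
  obtain ⟨eX, heX, hlX, haX⟩ := H28.ModelIso.exists_iso hKX hX'
  obtain ⟨eP, heP, hlP, haP⟩ := H28.ModelIso.exists_iso hKP hP'
  obtain ⟨eY, heY, hlY, haY⟩ := H28.ModelIso.exists_iso hKY hY'
  have ha' := H28.ModelIso.isPushCl_conj eX heX eP heP ha
  set b' : KP' →+ KY' := (eY.toAddEquiv.toAddMonoidHom.comp b).comp eP.symm.toAddEquiv.toAddMonoidHom with hb'def
  have hb' : KRR.IsPushPr n Y φP' φY' b' := by
    intro F hF hreg
    show eY (b (eP.symm (φP' (KRR.cl (KRR.PY n Y) F)))) = _
    rw [← heP, RingEquiv.symm_apply_apply, hb F hF hreg, heY]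
  set a' : KX' →+ KP' := (eP.toAddEquiv.toAddMonoidHom.comp a).comp eX.symm.toAddEquiv.toAddMonoidHom with ha'def
  obtain ⟨fG', hfG', hmain⟩ := H28.GRR.big n qY hqY dY hdY i hi dX hdX c hC hX' hP' hY' a' ha' b' hb'
  have hlX' : ∀ m x, eX.symm.toRingHom (LambdaRing.LambdaOps.lam m x) = LambdaRing.LambdaOps.lam m (eX.symm.toRingHom x) :=
    fun m z => eX.injective (by
      change eX (eX.symm _) = eX (LambdaRing.LambdaOps.lam m (eX.symm z))
      rw [hlX, eX.apply_symm_apply, eX.apply_symm_apply])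
  have haX' : ∀ x, PX.aug (eX.symm.toRingHom x) = PX'.aug x := fun z => by
    change PX.aug (eX.symm z) = PX'.aug z
    rw [← haX, eX.apply_symm_apply]
  have hlY' : ∀ m x, eY.symm.toRingHom (LambdaRing.LambdaOps.lam m x) = LambdaRing.LambdaOps.lam m (eY.symm.toRingHom x) :=
    fun m z => eY.injective (by
      change eY (eY.symm _) = eY (LambdaRing.LambdaOps.lam m (eY.symm z))
      rw [hlY, eY.apply_symm_apply, eY.apply_symm_apply])
  have haY' : ∀ x, PY.aug (eY.symm.toRingHom x) = PY'.aug x := fun z => by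
    change PY.aug (eY.symm z) = PY'.aug z
    rw [← haY, eY.apply_symm_apply]
  let gY : KGr.Gr PY' →ₐ[ℚ] KGr.Gr PY := H28.GrMap.grMap eY.symm.toRingHom hlY' haY'
  let gX : KGr.Gr PX →ₐ[ℚ] KGr.Gr PX' := H28.GrMap.grMap eX.toRingHom hlX haX
  refine ⟨(gY.toLinearMap.toAddMonoidHom.comp fG').comp gX.toLinearMap.toAddMonoidHom, ?_, ?_⟩
  · intro m x hx
    show gY (fG' (gX (KGr.grK PX (m : ℤ) x))) = _
    rw [H28.GrMap.grMap_grK eX.toRingHom hlX haX eX.symm.toRingHom hlX' haX' eX.symm_apply_apply,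
      hfG' m _ (H28.PBFil.map_mem_gammaFiltration (f := eX.toRingHom) hlX haX hx),
      H28.GrMap.grMap_grK eY.symm.toRingHom hlY' haY' eY.toRingHom hlY haY eY.apply_symm_apply]
    show KGr.grK PY _ (eY.symm (eY (b (eP.symm (eP (a (eX.symm (eX x)))))))) = _
    rw [eX.symm_apply_apply, eP.symm_apply_apply, eY.symm_apply_apply]
    rfl
  · intro x
    show _ = gY (fG' (gX _))
    have hL : eX (φX (KRR.cl X ((Scheme.Modules.pullback i).obj (Twist.twistOver n Y 1)))) =
        φX' (KRR.cl X ((Scheme.Modules.pullback i).obj (Twist.twistOver n Y 1))) := heX _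
    have hD : eX (φX (KRR.cl X ((DCoh.sheafHom (Omega.conormal i)).obj (Coh.structureModule X)))) =
        φX' (KRR.cl X (H23.Chern.dual (Omega.conormal i))) := by
      rw [heX]
      refine congrArg φX' (H28.GenPush.cl_iso (H23.Chern.sheafHomDual (Omega.conormal i)) ?_ ?_)
      · exact H23.PullPush.isFinLocFree_of_iso (H23.Chern.sheafHomDual (Omega.conormal i)).symm
          (H28.DualCh.lf_dual (H28.KvbModel.lf_of_rank hC))
      · exact H28.DualCh.lf_dual (H28.KvbModel.lf_of_rank hC)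
    rw [map_mul gX, H28.GrMap.grMap_chK eX.toRingHom hlX haX eX.symm.toRingHom hlX' haX' eX.symm_apply_apply,
      H28.GrMap.grMap_tdK eX.toRingHom hlX haX eX.symm.toRingHom hlX' haX' eX.symm_apply_apply]
    simp only [RingEquiv.toRingHom_eq_coe, RingEquiv.coe_toRingHom, map_sub, map_mul eX, map_natCast, map_one, hL, hD]
    rw [← hmain, H28.GrMap.grMap_chK eY.symm.toRingHom hlY' haY' eY.toRingHom hlY haY eY.apply_symm_apply]
    show KGr.chK PY dY (b (a x)) = KGr.chK PY dY (eY.symm (eY (b (eP.symm (eP (a (eX.symm (eX x))))))))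
    rw [eX.symm_apply_apply, eP.symm_apply_apply, eY.symm_apply_apply]

end Groth.Agent.S3763
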