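import Groth.Statements.S3765
import Groth.Agent.H28.SectPush
-- import your own Groth.Agent.* helpers here

set_option autoImplicit false
universe v u
open CategoryTheory CategoryTheory.Limits AlgebraicGeometry
attribute [local instance] HasDerivedCategory.standard
open KRR

namespace Groth.Agent.S3765

/-- For the trivial bundle P = P^n_Y: let Y be a connected Noetherian scheme, p : P ⟶ Y the projection
and s : Y ⟶ P a section of p (s ≫ p = 𝟙); assume every coherent module on P is a quotient of a
finite locally free one. Then s is a regular closed imbedding (of codimension n), and with models of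
K(Y), K(P), the push-forward s_K (via finite locally free resolutions of s_*F) and p_K (via regular
sheaves) satisfy p_K ∘ s_K = id. -/
theorem result (n : ℕ) (Y : Scheme.{u}) [IsNoetherian Y] [ConnectedSpace ↥Y]
    (hPe : KRR.HasEnoughLocFree (KRR.PY n Y)) (s : Y ⟶ KRR.PY n Y) (hs : s ≫ KRR.pr n Y = 𝟙 Y)
    (KP : Type v) [CommRing KP] [LambdaRing.LambdaOps KP] (PP : LambdaRing.PosStructure KP) (φP : SGA6.Kvb (KRR.PY n Y) →+ KP) (hKP : KRR.IsModel (KRR.PY n Y) KP PP φP)
    (KY : Type v) [CommRing KY] [LambdaRing.LambdaOps KY] (PY : LambdaRing.PosStructure KY) (φY : SGA6.Kvb Y →+ KY) (hKY : KRR.IsModel Y KY PY φY)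
    (gs : KY →+ KP) (hgs : KRR.IsPushCl s φY φP gs) (gp : KP →+ KY) (hgp : KRR.IsPushPr n Y φP φY gp) :
    Mor2.IsRegularClosedImmersion s ∧ gp.comp gs = AddMonoidHom.id KY := by
  have hreg := Groth.Agent.H28.SectPush.isRegular_section s hs
  haveI := Groth.Agent.H28.SectPush.isClosedImmersion_section s hs
  exact ⟨hreg, Groth.Agent.H28.SectPush.comp_eq_id s hs hKP hKY gs hgs gp hgp⟩

end Groth.Agent.S3765
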