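import Groth.Statements.S3772
import Groth.Agent.H28.ExcBundle
import Groth.Agent.H28.PBSplit
import Groth.Agent.H28.LamLine
-- import your own Groth.Agent.* helpers here

set_option autoImplicit false
universe v u
open CategoryTheory CategoryTheory.Limits AlgebraicGeometry
attribute [local instance] HasDerivedCategory.standard
open KRR

namespace Groth.Agent.S3772

/-- Let S be affine Noetherian, Y connected and quasi-projective over S, f : X ⟶ Y a regular closed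
imbedding of codimension d ≥ 1 (conormal module C finite locally free of rank d) with X connected, φ
: Y₁ ⟶ Y the blowing up of Y along X and X₁ = Y₁ ×_Y X the exceptional divisor with f₁ : X₁ ⟶ Y₁, ψ
: X₁ ⟶ X (X₁, Y₁ connected). Put c = [C] ∈ K(X), ℓ = [C₁] ∈ K(X₁) the class of the conormal
(invertible) module of f₁, e = ψ^K c - ℓ (the class of the universal sub-bundle, rank d - 1) and
λ_{-1}(e) = Σ_{i ≤ ε(e)} (-1)^i λ^i(e). With models and the maps φ^K, ψ^K, f_K, (f₁)_K, define u :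
K(X) ⟶ K(X₁) ⊕ K(Y), u(x) = (-λ_{-1}(e) ψ^K x, f_K x) and v : K(X₁) ⊕ K(Y) ⟶ K(Y₁), v(x₁, y) =
(f₁)_K x₁ + φ^K y. Then u is injective (this part needs no regularity of X or Y: it is split by
-ψ_K). -/
theorem result (S : Scheme.{u}) [IsAffine S] [IsNoetherian S] {X Y X₁ Y₁ : Scheme.{u}} [IsNoetherian Y] [ConnectedSpace ↥Y] (qY : Y ⟶ S) (hqY : KRR.IsQProjOver qY)
    (f : X ⟶ Y) (hf : Mor2.IsRegularClosedImmersion f) [ConnectedSpace ↥X] (d : ℕ) (hd : 1 ≤ d)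
    (hC : FlatMod.IsFinLocFreeOfRank d (Omega.conormal f))
    (φ : Y₁ ⟶ Y) (hφ : BlowUp.IsBlowUp φ f.ker) (f₁ : X₁ ⟶ Y₁) (ψ : X₁ ⟶ X) (hsq : IsPullback f₁ ψ φ f)
    [IsClosedImmersion f₁] (hC₁ : FlatMod.IsFinLocFreeOfRank 1 (Omega.conormal f₁)) [ConnectedSpace ↥X₁] [ConnectedSpace ↥Y₁]
    (KX : Type v) [CommRing KX] [LambdaRing.LambdaOps KX] (PX : LambdaRing.PosStructure KX) (φX : SGA6.Kvb X →+ KX) (hKX : KRR.IsModel X KX PX φX)
    (KY : Type v) [CommRing KY] [LambdaRing.LambdaOps KY] (PY : LambdaRing.PosStructure KY) (φY : SGA6.Kvb Y →+ KY) (hKY : KRR.IsModel Y KY PY φY)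
    (KX₁ : Type v) [CommRing KX₁] [LambdaRing.LambdaOps KX₁] (PX₁ : LambdaRing.PosStructure KX₁) (φX₁ : SGA6.Kvb X₁ →+ KX₁) (hKX₁ : KRR.IsModel X₁ KX₁ PX₁ φX₁)
    (KY₁ : Type v) [CommRing KY₁] [LambdaRing.LambdaOps KY₁] (PY₁ : LambdaRing.PosStructure KY₁) (φY₁ : SGA6.Kvb Y₁ →+ KY₁) (hKY₁ : KRR.IsModel Y₁ KY₁ PY₁ φY₁)
    (gφ : KY →+ KY₁) (hgφ : KRR.IsPull φ φY φY₁ gφ) (gψ : KX →+ KX₁) (hgψ : KRR.IsPull ψ φX φX₁ gψ)
    (gf : KX →+ KY) (hgf : KRR.IsPushCl f φX φY gf) (gf₁ : KX₁ →+ KY₁) (hgf₁ : KRR.IsPushCl f₁ φX₁ φY₁ gf₁) :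
    Function.Injective (fun x : KX => (-(KRR.lamAlt PX₁ (gψ (φX (KRR.cl X (Omega.conormal f))) - φX₁ (KRR.cl X₁ (Omega.conormal f₁))) * gψ x), gf x)) := by
  haveI := hf.1
  haveI : IsNoetherian X := by
    haveI : IsLocallyNoetherian X := LocallyOfFiniteType.isLocallyNoetherian f
    haveI : CompactSpace X := QuasiCompact.compactSpace_of_compactSpace f
    exact {}
  obtain ⟨q, -, hPB⟩ := Groth.Agent.H28.ExcBundle.exists_isProjBundle hf hd hC hφ hsq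
  obtain ⟨r, rfl⟩ : ∃ r, d = r + 1 := Nat.exists_eq_add_of_le' hd
  haveI := Groth.Agent.H28.PBSplit.isNoetherian hPB hC
  have hlam := Groth.Agent.H28.KvbPull.map_lam hKX₁ hKX hgψ
  have hbasis := Groth.Agent.S3789.result X X₁ r (Omega.conormal f) hC ψ (Omega.conormal f₁) q hPB KX PX φX hKX
    KX₁ PX₁ φX₁ hKX₁ gψ hgψ
  set c := φX (KRR.cl X (Omega.conormal f)) with hc
  set ℓ := φX₁ (KRR.cl X₁ (Omega.conormal f₁)) with hℓ
  have hl1 : ∀ i, 2 ≤ i → LambdaRing.LambdaOps.lam i ℓ = 0 := fun i hi =>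
    PX₁.lam_eq_zero ℓ ((hKX₁.mem_pos_iff ℓ).2 ⟨1, _, le_rfl, hC₁, rfl⟩) i (by
      rw [hℓ, hKX₁.aug_cl 1 _ hC₁]; omega)
  have haug : (PX₁.aug (gψ c - ℓ)).toNat = r := by
    rw [map_sub, Groth.Agent.H28.LineTwist.aug_pull hKX₁ hKX hgψ, hc, hℓ, hKX.aug_cl _ _ hC, hKX₁.aug_cl 1 _ hC₁]
    simp
  let R := Groth.Agent.H28.KvbPull.ringHom hKX₁ hKX hgψ
  let A : ℕ → KX := fun k => ∑ a ∈ Finset.range (r + 1 - k), (-1 : KX) ^ a * LambdaRing.LambdaOps.lam a c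
  have hpoly : KRR.lamAlt PX₁ (gψ c - ℓ) = ∑ i : Fin (r + 1), gψ (A i) * ℓ ^ (i : ℕ) := by
    rw [KRR.lamAlt, haug, Groth.Agent.H28.LamLine.alt_sum_sub_line hl1,
      Fin.sum_univ_eq_sum_range (fun k => gψ (A k) * ℓ ^ k)]
    refine Finset.sum_congr rfl fun k _ => ?_
    congr 1
    show _ = R (A k)
    rw [map_sum]
    refine Finset.sum_congr rfl fun a _ => ?_
    rw [map_mul, map_pow, map_neg, map_one]
    exact congrArg _ (hlam a c).symm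
  intro x y hxy
  have h1 : KRR.lamAlt PX₁ (gψ c - ℓ) * gψ x = KRR.lamAlt PX₁ (gψ c - ℓ) * gψ y :=
    neg_injective (Prod.ext_iff.1 hxy).1
  have h3 : (fun i : Fin (r + 1) => A i * x) = fun i : Fin (r + 1) => A i * y := by
    refine hbasis.1 ?_
    show ∑ i : Fin (r + 1), gψ (A i * x) * ℓ ^ (i : ℕ) = ∑ i : Fin (r + 1), gψ (A i * y) * ℓ ^ (i : ℕ)
    have hz : ∀ z, ∑ i : Fin (r + 1), gψ (A i * z) * ℓ ^ (i : ℕ) = KRR.lamAlt PX₁ (gψ c - ℓ) * gψ z := fun z => by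
      rw [hpoly, Finset.sum_mul]
      refine Finset.sum_congr rfl fun i _ => ?_
      rw [show gψ (A i * z) = gψ (A i) * gψ z from map_mul R _ _]
      ring
    rw [hz, hz, h1]
  have h4 := congrFun h3 ⟨r, Nat.lt_succ_self r⟩
  have hA : A r = 1 := by
    show ∑ a ∈ Finset.range (r + 1 - r), (-1 : KX) ^ a * LambdaRing.LambdaOps.lam a c = 1
    rw [Nat.add_sub_cancel_left]
    simp [LambdaRing.LambdaOps.lam_zero]
  simpa [hA] using h4

end Groth.Agent.S3772
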