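import Groth.Statements.S3774
import Groth.Agent.H28.BlowReg
import Groth.Agent.H28.QProjEnough
-- import your own Groth.Agent.* helpers here

set_option autoImplicit false
universe v u
open CategoryTheory CategoryTheory.Limits AlgebraicGeometry
attribute [local instance] HasDerivedCategory.standard
open KRR

namespace Groth.Agent.S3774

/-- Let S be affine Noetherian, Y connected and quasi-projective over S, f : X ⟶ Y a regular closed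
imbedding of codimension d ≥ 1 (conormal module C finite locally free of rank d) with X connected, X
and Y regular (all local rings regular), φ : Y₁ ⟶ Y the blowing up of Y along X and X₁ = Y₁ ×_Y X
the exceptional divisor with f₁ : X₁ ⟶ Y₁, ψ : X₁ ⟶ X (X₁, Y₁ connected). Put c = [C] ∈ K(X), ℓ =
[C₁] ∈ K(X₁) the class of the conormal (invertible) module of f₁, e = ψ^K c - ℓ (the class of the
universal sub-bundle, rank d - 1) and λ_{-1}(e) = Σ_{i ≤ ε(e)} (-1)^i λ^i(e). With models and the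
maps φ^K, ψ^K, f_K, (f₁)_K, define u : K(X) ⟶ K(X₁) ⊕ K(Y), u(x) = (-λ_{-1}(e) ψ^K x, f_K x) and v :
K(X₁) ⊕ K(Y) ⟶ K(Y₁), v(x₁, y) = (f₁)_K x₁ + φ^K y. Then v is surjective, so 0 ⟶ K(X) ⟶ K(X₁) ⊕ K(Y)
⟶ K(Y₁) ⟶ 0 is exact. -/
theorem result (S : Scheme.{u}) [IsAffine S] [IsNoetherian S] {X Y X₁ Y₁ : Scheme.{u}} [IsNoetherian Y] [ConnectedSpace ↥Y] (qY : Y ⟶ S) (hqY : KRR.IsQProjOver qY)
    (hYreg : ∀ y : Y, IsRegularLocalRing (Y.presheaf.stalk y))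
    (f : X ⟶ Y) (hf : Mor2.IsRegularClosedImmersion f) [ConnectedSpace ↥X] (d : ℕ) (hd : 1 ≤ d)
    (hC : FlatMod.IsFinLocFreeOfRank d (Omega.conormal f)) (hXreg : ∀ x : X, IsRegularLocalRing (X.presheaf.stalk x))
    (φ : Y₁ ⟶ Y) (hφ : BlowUp.IsBlowUp φ f.ker) (f₁ : X₁ ⟶ Y₁) (ψ : X₁ ⟶ X) (hsq : IsPullback f₁ ψ φ f)
    [IsClosedImmersion f₁] (hC₁ : FlatMod.IsFinLocFreeOfRank 1 (Omega.conormal f₁)) [ConnectedSpace ↥X₁] [ConnectedSpace ↥Y₁]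
    (KX : Type v) [CommRing KX] [LambdaRing.LambdaOps KX] (PX : LambdaRing.PosStructure KX) (φX : SGA6.Kvb X →+ KX) (hKX : KRR.IsModel X KX PX φX)
    (KY : Type v) [CommRing KY] [LambdaRing.LambdaOps KY] (PY : LambdaRing.PosStructure KY) (φY : SGA6.Kvb Y →+ KY) (hKY : KRR.IsModel Y KY PY φY)
    (KX₁ : Type v) [CommRing KX₁] [LambdaRing.LambdaOps KX₁] (PX₁ : LambdaRing.PosStructure KX₁) (φX₁ : SGA6.Kvb X₁ →+ KX₁) (hKX₁ : KRR.IsModel X₁ KX₁ PX₁ φX₁)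
    (KY₁ : Type v) [CommRing KY₁] [LambdaRing.LambdaOps KY₁] (PY₁ : LambdaRing.PosStructure KY₁) (φY₁ : SGA6.Kvb Y₁ →+ KY₁) (hKY₁ : KRR.IsModel Y₁ KY₁ PY₁ φY₁)
    (gφ : KY →+ KY₁) (hgφ : KRR.IsPull φ φY φY₁ gφ) (gψ : KX →+ KX₁) (hgψ : KRR.IsPull ψ φX φX₁ gψ)
    (gf : KX →+ KY) (hgf : KRR.IsPushCl f φX φY gf) (gf₁ : KX₁ →+ KY₁) (hgf₁ : KRR.IsPushCl f₁ φX₁ φY₁ gf₁) :
    ∀ y₁ : KY₁, ∃ (x₁ : KX₁) (y : KY), gf₁ x₁ + gφ y = y₁ := by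
  exact fun y₁ => Groth.Agent.H28.BlowReg.surjective f φ f₁ ψ (Groth.Agent.H28.QProjEnough.enough qY hqY) hf hd hC hYreg hXreg
    hφ hsq φY φX₁ φY₁ hKY₁.bijective gφ hgφ gf₁ hgf₁ y₁

end Groth.Agent.S3774
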