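import Groth.Statements.S3775
import Groth.Agent.H28.PushFil
-- import your own Groth.Agent.* helpers here

set_option autoImplicit false
universe v u
open CategoryTheory CategoryTheory.Limits AlgebraicGeometry
attribute [local instance] HasDerivedCategory.standard
open KRR

namespace Groth.Agent.S3775

/-- Let S be affine Noetherian, Y connected and quasi-projective over S, f : X ⟶ Y a regular closed
imbedding with X connected and conormal module finite locally free of rank d. With models and f_K
the push-forward: for every n and x ∈ F^n K(X) (γ-filtration) there is an integer N ≥ 1 with N ·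
f_K(x) ∈ F^{n+d} K(Y); that is, f_K(ℚF^n K(X)) ⊆ ℚF^{n+d} K(Y). (The source warns that tensoring
with ℚ is essential here.) -/
theorem result (S : Scheme.{u}) [IsAffine S] [IsNoetherian S] {X Y : Scheme.{u}} [IsNoetherian Y] [ConnectedSpace ↥Y] (qY : Y ⟶ S) (hqY : KRR.IsQProjOver qY)
    (f : X ⟶ Y) (hf : Mor2.IsRegularClosedImmersion f) [ConnectedSpace ↥X] (d : ℕ)
    (hC : FlatMod.IsFinLocFreeOfRank d (Omega.conormal f))
    (KX : Type v) [CommRing KX] [LambdaRing.LambdaOps KX] (PX : LambdaRing.PosStructure KX) (φX : SGA6.Kvb X →+ KX) (hKX : KRR.IsModel X KX PX φX)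
    (KY : Type v) [CommRing KY] [LambdaRing.LambdaOps KY] (PY : LambdaRing.PosStructure KY) (φY : SGA6.Kvb Y →+ KY) (hKY : KRR.IsModel Y KY PY φY)
    (h : KX →+ KY) (hh : KRR.IsPushCl f φX φY h) (n : ℕ) (x : KX) (hx : x ∈ LambdaRing.gammaFiltration PX n) :
    ∃ N : ℕ, 1 ≤ N ∧ (N : KY) * h x ∈ LambdaRing.gammaFiltration PY (n + d) := by
  obtain ⟨L, hL⟩ := Groth.Agent.H28.PushFil.exists_ample qY hqY
  exact Groth.Agent.H28.PushFil.main (Groth.Agent.H28.QProjEnough.enough qY hqY) hL f hf hC hKX hKY h hh n x hx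

end Groth.Agent.S3775
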