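import Groth.Statements.S3780
import Groth.Agent.Lambda.Elem
-- import your own Groth.Agent.* helpers here

set_option autoImplicit false
universe v u
open CategoryTheory CategoryTheory.Limits AlgebraicGeometry
attribute [local instance] HasDerivedCategory.standard
open KRR

namespace Groth.Agent.S3780

/-- Let K be a λ-ring with positive structure admitting a splitting, e a positive element of
augmentation ε(e) = r + 1, K_e = K[T]/(p_e(T)) the elementary extension of K with ℓ the class of T,
and f : K_e → K a K-linear functional with f(ℓ^i) = σ^i(e) for i ≤ r. For any λ-operations on K_e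
extending those of K with λ^i(ℓ) = 0 for i ≥ 2, and q = e − ℓ ∈ K_e, one has f(λ^0(q)) = 1 and
f(λ^i(q)) = 0 for all i ≥ 1; that is, f(λ_t(q)) = 1. -/
theorem result (K : Type v) [CommRing K] [LambdaRing.LambdaOps K] (P : LambdaRing.PosStructure K) (hK : LambdaRing.HasSplitting K P) (e : K) (he : e ∈ P.pos) (r : ℕ) (hr : P.aug e = r + 1)
    (inst : LambdaRing.LambdaOps (AdjoinRoot (KRR.extPoly P e)))
    (hext : ∀ (i : ℕ) (x : K), @LambdaRing.LambdaOps.lam _ _ inst i (AdjoinRoot.of (KRR.extPoly P e) x) =
      AdjoinRoot.of (KRR.extPoly P e) (LambdaRing.LambdaOps.lam i x))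
    (hroot : ∀ i : ℕ, 2 ≤ i → @LambdaRing.LambdaOps.lam _ _ inst i (AdjoinRoot.root (KRR.extPoly P e)) = 0)
    (f : AdjoinRoot (KRR.extPoly P e) →ₗ[K] K)
    (hf : ∀ i : ℕ, i ≤ r → f (AdjoinRoot.root (KRR.extPoly P e) ^ i) = KRR.sigma i e) (i : ℕ) :
    f (@LambdaRing.LambdaOps.lam _ _ inst i (AdjoinRoot.of (KRR.extPoly P e) e - AdjoinRoot.root (KRR.extPoly P e))) =
      if i = 0 then 1 else 0 := by
  exact Groth.Agent.Lambda.functional_lam_sub_root he hr hf inst hext hroot i

end Groth.Agent.S3780
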