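import Groth.Statements.S3784
import Groth.Agent.H28.PBSplit
-- import your own Groth.Agent.* helpers here

set_option autoImplicit false
universe v u
open CategoryTheory CategoryTheory.Limits AlgebraicGeometry
attribute [local instance] HasDerivedCategory.standard
open KRR

namespace Groth.Agent.S3784

/-- Let X be a connected Noetherian scheme, (K, P, φ) a model of the λ-ring K(X), and E a finite locally
free O_X-module of rank m. Then there are a connected Noetherian scheme X', a morphism f : X' ⟶ X, a
model (K', P', φ') of K(X') and the pull-back g = f^K : K ⟶ K' such that g is injective, g⁻¹(F^k K')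
= F^k K for all k (γ-filtrations), and g[E] = [L₁] + ⋯ + [L_m] for invertible O_{X'}-modules L_i. -/
theorem result (X : Scheme.{u}) [IsNoetherian X] [ConnectedSpace ↥X]
    (K : Type v) [CommRing K] [LambdaRing.LambdaOps K] (P : LambdaRing.PosStructure K) (φ : SGA6.Kvb X →+ K) (hK : KRR.IsModel X K P φ) (m : ℕ) (E : X.Modules) (hE : FlatMod.IsFinLocFreeOfRank m E) :
    ∃ (X' : Scheme.{u}) (_ : IsNoetherian X') (_ : ConnectedSpace ↥X') (f : X' ⟶ X)
      (K' : Type (u + 1)) (_ : CommRing K') (_ : LambdaRing.LambdaOps K') (P' : LambdaRing.PosStructure K')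
      (φ' : SGA6.Kvb X' →+ K') (_ : KRR.IsModel X' K' P' φ') (g : K →+ K') (_ : KRR.IsPull f φ φ' g),
      Function.Injective g ∧ (∀ k : ℕ, (LambdaRing.gammaFiltration P' k).comap g = LambdaRing.gammaFiltration P k) ∧
      ∃ L : Fin m → X'.Modules, (∀ j, FlatMod.IsFinLocFreeOfRank 1 (L j)) ∧ g (φ (KRR.cl X E)) = ∑ j, φ' (KRR.cl X' (L j)) := by
  exact Groth.Agent.H28.PBSplit.split' hK hE

end Groth.Agent.S3784
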