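import Groth.Statements.S3786
import Groth.Agent.H28.PushBC
-- import your own Groth.Agent.* helpers here

set_option autoImplicit false
universe v u
open CategoryTheory CategoryTheory.Limits AlgebraicGeometry
attribute [local instance] HasDerivedCategory.standard
open KRR

namespace Groth.Agent.S3786

/-- Let Y be a connected Noetherian scheme in which every coherent module on Y and on P^n_Y is a
quotient of a finite locally free one, and f = i ≫ p : X ⟶ Y with i : X ⟶ P^n_Y a regular closed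
imbedding (X connected) and p the projection. Let δ_X : K₀(bundles on X) ⟶ K₀(Coh X) and δ_Y be the
maps induced by the inclusions (arguments hX, hY), f_K = p_K ∘ i_K the push-forward on K of bundles
(through models (KX, PX, φX), (KP, PP, φP), (KY, PY, φY)), and g the push-forward on K₀ of coherent
modules, g[F] = Σ_{i ≤ N} (-1)^i [R^i f_* F]. Then δ_Y ∘ f_K = g ∘ δ_X: for x ∈ K₀(bundles on X) and
y ∈ K₀(bundles on Y) with φY y = f_K (φX x), δ_Y y = g (δ_X x). -/
theorem result (n : ℕ) {X Y : Scheme.{u}} [IsNoetherian X] [ConnectedSpace ↥X] [IsNoetherian Y] [ConnectedSpace ↥Y] (hYe : KRR.HasEnoughLocFree Y)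
    (hPe : KRR.HasEnoughLocFree (KRR.PY n Y)) [HasInjectiveResolutions X.Modules]
    (i : X ⟶ KRR.PY n Y) (hi : Mor2.IsRegularClosedImmersion i)
    (hX : ∀ M : X.Modules, FlatMod.IsFinLocFree M → Coh.IsCoh M) (hY : ∀ M : Y.Modules, FlatMod.IsFinLocFree M → Coh.IsCoh M)
    (KX : Type v) [CommRing KX] [LambdaRing.LambdaOps KX] (PX : LambdaRing.PosStructure KX) (φX : SGA6.Kvb X →+ KX) (hKX : KRR.IsModel X KX PX φX)
    (KP : Type v) [CommRing KP] [LambdaRing.LambdaOps KP] (PP : LambdaRing.PosStructure KP) (φP : SGA6.Kvb (KRR.PY n Y) →+ KP) (hKP : KRR.IsModel (KRR.PY n Y) KP PP φP)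
    (KY : Type v) [CommRing KY] [LambdaRing.LambdaOps KY] (PY : LambdaRing.PosStructure KY) (φY : SGA6.Kvb Y →+ KY) (hKY : KRR.IsModel Y KY PY φY)
    (a : KX →+ KP) (ha : KRR.IsPushCl i φX φP a) (b : KP →+ KY) (hb : KRR.IsPushPr n Y φP φY b)
    (N : ℕ) (g : SGA6.Kcoh X →+ SGA6.Kcoh Y) (hg : KRR.IsPushCoh (i ≫ KRR.pr n Y) N g)
    (x : SGA6.Kvb X) (y : SGA6.Kvb Y) (hxy : φY y = b (a (φX x))) :
    SGA6.mapSub (𝟭 Y.Modules) (KRR.vbP Y) (fun M : Y.Modules => Coh.IsCoh M) hY y =
      g (SGA6.mapSub (𝟭 X.Modules) (KRR.vbP X) (fun M : X.Modules => Coh.IsCoh M) hX x) := by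
  exact Groth.Agent.H28.PushBC.comm_push hYe hPe i hi hX hY hKX hKY.bijective ha hb hg x y hxy

end Groth.Agent.S3786
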