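import Groth.Statements.S3787
import Groth.Agent.H28.KFilt
import Groth.Agent.H28.ModelIso
-- import your own Groth.Agent.* helpers here

set_option autoImplicit false
universe v u
open CategoryTheory CategoryTheory.Limits AlgebraicGeometry
attribute [local instance] HasDerivedCategory.standard
open KRR

namespace Groth.Agent.S3787

/-- The key step of its last assertion: let X be a connected Noetherian scheme with an ample invertible
module, all of whose local rings are regular, and (K, P, φ) a model of K(X); let δ : K₀(bundles) ⟶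
K₀(Coh X) be induced by the inclusion (argument hX). Let ι : V ⟶ X be a closed immersion with V
integral, whose generic point maps to a point ξ with dim O_{X,ξ} = n (V has codimension n). Then
[O_V] ∈ ℚF^n K(X): there are N ≥ 1 and z ∈ K₀(bundles) with φ z ∈ F^n K(X) (γ-filtration) and N ·
[ι_* O_V] = δ z in K₀(Coh X). -/
theorem result (X : Scheme.{u}) [IsNoetherian X] [ConnectedSpace ↥X]
    (L : X.Modules) (hL : CohB1.IsAmple L) (hreg : ∀ x : X, IsRegularLocalRing (X.presheaf.stalk x))
    (K : Type v) [CommRing K] [LambdaRing.LambdaOps K] (P : LambdaRing.PosStructure K) (φ : SGA6.Kvb X →+ K) (hK : KRR.IsModel X K P φ)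
    (hX : ∀ M : X.Modules, FlatMod.IsFinLocFree M → Coh.IsCoh M)
    {V : Scheme.{u}} (ι : V ⟶ X) [IsClosedImmersion ι] [IsIntegral V] (n : ℕ)
    (hn : ringKrullDim (X.presheaf.stalk (ι (genericPoint V))) = n) :
    ∃ (N : ℕ) (z : SGA6.Kvb X), 1 ≤ N ∧ φ z ∈ LambdaRing.gammaFiltration P n ∧
      N • KZero.clSub (fun M : X.Modules => Coh.IsCoh M) ((Scheme.Modules.pushforward ι).obj (Coh.structureModule V)) =
        SGA6.mapSub (𝟭 X.Modules) (KRR.vbP X) (fun M : X.Modules => Coh.IsCoh M) hX z := by
  obtain ⟨K', _, _, P', φ', hK'⟩ := H28.KvbModel.exists_isModel (X := X)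
  obtain ⟨e, he, hel, hea⟩ := H28.ModelIso.exists_iso hK' hK
  obtain ⟨N, z, hN, hz, hc⟩ := H28.KFilt.struct_mem P' φ' hL hK' hreg n ⟨Set.range ι, ι.isClosedEmbedding.isClosed_range⟩
    ι subset_rfl hn.ge
  exact ⟨N, z, hN, he z ▸ H28.PBFil.map_mem_gammaFiltration (f := e.toRingHom) hel hea hz, hc⟩

end Groth.Agent.S3787
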