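import Groth.Statements.S3791
import Groth.Agent.Lambda.Misc

set_option autoImplicit false
universe v u
open CategoryTheory CategoryTheory.Limits AlgebraicGeometry
attribute [local instance] HasDerivedCategory.standard
open KRR

namespace Groth.Agent.S3791

/-- Let K be a λ-ring with positive structure P and u an ample line element (for every x, u^n x is a
positive element minus a natural number for all large n). Then for every line element v, the element
v - 1 is nilpotent. -/
theorem result (K : Type v) [CommRing K] [LambdaRing.LambdaOps K] (P : LambdaRing.PosStructure K)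
    (u : K) (hu : KRR.IsAmpleElt P u) (w : K) (hw : P.IsLine w) : IsNilpotent (w - 1) := by
  obtain ⟨⟨huP, hu1⟩, hamp⟩ := hu
  have hline : P.IsLine u := ⟨huP, hu1⟩
  have key : ∀ v : K, P.IsLine v → ∃ n₀ : ℕ, ∀ n : ℕ, n₀ ≤ n → IsNilpotent (u ^ n * v - 1) := by
    intro v hv
    obtain ⟨n₀, hn₀⟩ := hamp (-v)
    refine ⟨n₀, fun n hn => ?_⟩
    obtain ⟨e, m, he, hem⟩ := hn₀ n hn
    refine Groth.Agent.Lambda.isNilpotent_of_add_eq_natCast
      (Groth.Agent.Lambda.isLine_mul (Groth.Agent.Lambda.isLine_pow hline n) hv) he (m := m) ?_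
    linear_combination -hem
  obtain ⟨n₁, h₁⟩ := key w hw
  obtain ⟨n₂, h₂⟩ := key 1 (Groth.Agent.Lambda.isLine_one P)
  have hu0 : IsNilpotent (u ^ (n₁ + n₂) * 1 - 1) := h₂ _ (by omega)
  have hw0 : IsNilpotent (u ^ (n₁ + n₂) * w - 1) := h₁ _ (by omega)
  have hunit : IsUnit (u ^ (n₁ + n₂)) := (Groth.Agent.Lambda.isUnit_line hline).pow _
  have hd : IsNilpotent ((u ^ (n₁ + n₂) * w - 1) - w * (u ^ (n₁ + n₂) * 1 - 1)) :=
    (Commute.all _ _).isNilpotent_sub hw0 ((Commute.all _ _).isNilpotent_mul_left hu0)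
  have heq : w - 1 = (u ^ (n₁ + n₂) * w - 1) - w * (u ^ (n₁ + n₂) * 1 - 1) := by ring
  rw [heq]; exact hd

end Groth.Agent.S3791
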