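import Groth.Statements.S3798
import Groth.Agent.H28.PushK
-- import your own Groth.Agent.* helpers here

set_option autoImplicit false
universe v u
open CategoryTheory CategoryTheory.Limits AlgebraicGeometry
attribute [local instance] HasDerivedCategory.standard
open KRR

namespace Groth.Agent.S3798

/-- Let Y be a connected Noetherian scheme, p : P^n_Y ⟶ Y, and (KP, PP, φP), (KY, PY, φY) models of
K(P^n_Y), K(Y). Then there is a unique additive map g : K(P^n_Y) ⟶ K(Y) with g[F] = [p_* F] for
every finite locally free F which is regular relative to p (the push-forward p_K). -/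
theorem result (n : ℕ) (Y : Scheme.{u}) [IsNoetherian Y] [ConnectedSpace ↥Y]
    (KP : Type v) [CommRing KP] [LambdaRing.LambdaOps KP] (PP : LambdaRing.PosStructure KP) (φP : SGA6.Kvb (KRR.PY n Y) →+ KP) (hKP : KRR.IsModel (KRR.PY n Y) KP PP φP)
    (KY : Type v) [CommRing KY] [LambdaRing.LambdaOps KY] (PY : LambdaRing.PosStructure KY) (φY : SGA6.Kvb Y →+ KY) (hKY : KRR.IsModel Y KY PY φY) :
    ∃! g : KP →+ KY, KRR.IsPushPr n Y φP φY g := by
  exact Groth.Agent.H28.PushK.existsUnique_push φP hKP.bijective φY

end Groth.Agent.S3798
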