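import Groth.Statements.S3800
import Groth.Agent.H28.PnBC
-- import your own Groth.Agent.* helpers here

set_option autoImplicit false
universe v u
open CategoryTheory CategoryTheory.Limits AlgebraicGeometry
attribute [local instance] HasDerivedCategory.standard
open KRR

namespace Groth.Agent.S3800

/-- Case of a projection (excess dimension 0), for the trivial bundle: let Y, Y₁ be connected Noetherian
schemes, φ : Y₁ ⟶ Y, p : P^n_Y ⟶ Y and p₁ : P^n_{Y₁} ⟶ Y₁ the projections and ψ : P^n_{Y₁} ⟶ P^n_Y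
the induced morphism. With models of the four K-rings, pull-backs φ^K, ψ^K and push-forwards p_K,
(p₁)_K (via regular sheaves): φ^K (p_K z) = (p₁)_K (ψ^K z) for every z ∈ K(P^n_Y). -/
theorem result (n : ℕ) {Y Y₁ : Scheme.{u}} [IsNoetherian Y] [ConnectedSpace ↥Y] [IsNoetherian Y₁] [ConnectedSpace ↥Y₁]
    (φ : Y₁ ⟶ Y)
    (KP : Type v) [CommRing KP] [LambdaRing.LambdaOps KP] (PP : LambdaRing.PosStructure KP) (φP : SGA6.Kvb (KRR.PY n Y) →+ KP) (hKP : KRR.IsModel (KRR.PY n Y) KP PP φP)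
    (KY : Type v) [CommRing KY] [LambdaRing.LambdaOps KY] (PY : LambdaRing.PosStructure KY) (φY : SGA6.Kvb Y →+ KY) (hKY : KRR.IsModel Y KY PY φY)
    (KP₁ : Type v) [CommRing KP₁] [LambdaRing.LambdaOps KP₁] (PP₁ : LambdaRing.PosStructure KP₁) (φP₁ : SGA6.Kvb (KRR.PY n Y₁) →+ KP₁) (hKP₁ : KRR.IsModel (KRR.PY n Y₁) KP₁ PP₁ φP₁)
    (KY₁ : Type v) [CommRing KY₁] [LambdaRing.LambdaOps KY₁] (PY₁ : LambdaRing.PosStructure KY₁) (φY₁ : SGA6.Kvb Y₁ →+ KY₁) (hKY₁ : KRR.IsModel Y₁ KY₁ PY₁ φY₁)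
    (gφ : KY →+ KY₁) (hgφ : KRR.IsPull φ φY φY₁ gφ)
    (gψ : KP →+ KP₁) (hgψ : KRR.IsPull (KRR.projSpaceMap n φ) φP φP₁ gψ)
    (b : KP →+ KY) (hb : KRR.IsPushPr n Y φP φY b) (b₁ : KP₁ →+ KY₁) (hb₁ : KRR.IsPushPr n Y₁ φP₁ φY₁ b₁)
    (z : KP) : gφ (b z) = b₁ (gψ z) := by
  obtain ⟨w, rfl⟩ := hKP.bijective.2 z
  exact Groth.Agent.H28.PnBC.pull_push φ φP φY φP₁ φY₁ gφ hgφ gψ hgψ b hb b₁ hb₁ w

end Groth.Agent.S3800
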