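import Groth.Statements.S3801
import Groth.Agent.H28.ExcessModel
import Groth.Agent.H28.QProjEnough
import Groth.Agent.H28.GrOps
import Groth.Agent.H28.PushFil
import Groth.Agent.Lambda.LamAlt
-- import your own Groth.Agent.* helpers here

set_option autoImplicit false
universe v u
open CategoryTheory CategoryTheory.Limits AlgebraicGeometry
attribute [local instance] HasDerivedCategory.standard
open KRR

namespace Groth.Agent.S3801

/-- Graded excess intersection formula, for a regular imbedding. Let S be an affine Noetherian scheme;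
Y, Y₁ connected Noetherian schemes quasi-projective over S; f : X → Y and f₁ : X₁ → Y₁ regular
closed imbeddings with X, X₁ connected and with conormal sheaves C, C₁ locally free of ranks d and
d₁ ≤ d, fitting in a fibre square with φ : Y₁ → Y and ψ : X₁ → X. Work in models of the K-theory of
vector bundles on the four schemes as λ-rings with positive structure, with φ^K, ψ^K induced by
pull-back and f_K, (f₁)_K by push-forward, and let φ^G, ψ^G and f_G, (f₁)_G be the induced maps on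
the associated graded rings ℚGr of the γ-filtrations (the push-forwards of graded degrees d, d₁).
Let e = ψ^K[C] − [C₁] be the excess class and m = d − d₁. Then for every x ∈ F^k K(X):
(f₁)_G(c_m(e^∨) · ψ^G [x]_k) = φ^G(f_G [x]_k), where c_m(e^∨) = (−1)^m c_m(e) is the top Chern class
of the dual of the excess bundle. -/
theorem result (S : Scheme.{u}) [IsAffine S] [IsNoetherian S] {X Y X₁ Y₁ : Scheme.{u}} [IsNoetherian Y] [ConnectedSpace ↥Y] (qY : Y ⟶ S) (hqY : KRR.IsQProjOver qY)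
    [IsNoetherian Y₁] [ConnectedSpace ↥Y₁] (qY₁ : Y₁ ⟶ S) (hqY₁ : KRR.IsQProjOver qY₁)
    (f : X ⟶ Y) (hf : Mor2.IsRegularClosedImmersion f) [ConnectedSpace ↥X] (d : ℕ)
    (hC : FlatMod.IsFinLocFreeOfRank d (Omega.conormal f))
    (φ : Y₁ ⟶ Y) (f₁ : X₁ ⟶ Y₁) (ψ : X₁ ⟶ X) (hsq : IsPullback f₁ ψ φ f)
    (hf₁ : Mor2.IsRegularClosedImmersion f₁) [ConnectedSpace ↥X₁] (d₁ : ℕ) (hd : d₁ ≤ d)
    (hC₁ : FlatMod.IsFinLocFreeOfRank d₁ (Omega.conormal f₁))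
    (KX : Type v) [CommRing KX] [LambdaRing.LambdaOps KX] (PX : LambdaRing.PosStructure KX) (φX : SGA6.Kvb X →+ KX) (hKX : KRR.IsModel X KX PX φX)
    (KY : Type v) [CommRing KY] [LambdaRing.LambdaOps KY] (PY : LambdaRing.PosStructure KY) (φY : SGA6.Kvb Y →+ KY) (hKY : KRR.IsModel Y KY PY φY)
    (KX₁ : Type v) [CommRing KX₁] [LambdaRing.LambdaOps KX₁] (PX₁ : LambdaRing.PosStructure KX₁) (φX₁ : SGA6.Kvb X₁ →+ KX₁) (hKX₁ : KRR.IsModel X₁ KX₁ PX₁ φX₁)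
    (KY₁ : Type v) [CommRing KY₁] [LambdaRing.LambdaOps KY₁] (PY₁ : LambdaRing.PosStructure KY₁) (φY₁ : SGA6.Kvb Y₁ →+ KY₁) (hKY₁ : KRR.IsModel Y₁ KY₁ PY₁ φY₁)
    (gφ : KY →+ KY₁) (hgφ : KRR.IsPull φ φY φY₁ gφ) (gψ : KX →+ KX₁) (hgψ : KRR.IsPull ψ φX φX₁ gψ)
    (gf : KX →+ KY) (hgf : KRR.IsPushCl f φX φY gf) (gf₁ : KX₁ →+ KY₁) (hgf₁ : KRR.IsPushCl f₁ φX₁ φY₁ gf₁)
    (φG : KGr.Gr PY →+ KGr.Gr PY₁) (hφG : KGr.IsGrPull PY PY₁ gφ φG)
    (ψG : KGr.Gr PX →+ KGr.Gr PX₁) (hψG : KGr.IsGrPull PX PX₁ gψ ψG)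
    (fG : KGr.Gr PX →+ KGr.Gr PY) (hfG : KGr.IsGrPush PX PY gf d fG)
    (f₁G : KGr.Gr PX₁ →+ KGr.Gr PY₁) (hf₁G : KGr.IsGrPush PX₁ PY₁ gf₁ d₁ f₁G)
    (k : ℕ) (x : KX) (hx : x ∈ LambdaRing.gammaFiltration PX k) :
    f₁G ((-1 : KGr.Gr PX₁) ^ (d - d₁) *
        KGr.chern PX₁ (d - d₁) (gψ (φX (KRR.cl X (Omega.conormal f))) - φX₁ (KRR.cl X₁ (Omega.conormal f₁))) *
        ψG (KGr.grK PX (k : ℤ) x)) = φG (fG (KGr.grK PX (k : ℤ) x)) := by
  have hexcess := H28.ExcessModel.main (H28.QProjEnough.enough qY hqY) (H28.QProjEnough.enough qY₁ hqY₁) f hf hC φ f₁ ψ hsq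
    hf₁ hC₁ hKX hKY hKX₁ hKY₁ gφ hgφ gψ hgψ gf hgf gf₁ hgf₁ x
  obtain ⟨LY, hLY⟩ := H28.PushFil.exists_ample qY hqY
  obtain ⟨N, hN, hNx⟩ := H28.PushFil.main (H28.QProjEnough.enough qY hqY) hLY f hf hC hKX hKY gf hgf k x hx
  let Rψ := H28.KvbPull.ringHom hKX₁ hKX hgψ
  let Rφ := H28.KvbPull.ringHom hKY₁ hKY hgφ
  have hψx : gψ x ∈ LambdaRing.gammaFiltration PX₁ k :=
    H28.PBFil.map_mem_gammaFiltration (f := Rψ) (H28.KvbPull.map_lam hKX₁ hKX hgψ) (H28.LineTwist.aug_pull hKX₁ hKX hgψ) hx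
  set e := gψ (φX (KRR.cl X (Omega.conormal f))) - φX₁ (KRR.cl X₁ (Omega.conormal f₁)) with he
  have haug : PX₁.aug e = ((d - d₁ : ℕ) : ℤ) := by
    rw [he, map_sub, H28.LineTwist.aug_pull hKX₁ hKX hgψ, hKX.aug_cl d _ hC, hKX₁.aug_cl d₁ _ hC₁, Nat.cast_sub hd]
  set γ := LambdaRing.gamma (d - d₁) (e - (PX₁.aug e : KX₁)) with hγ
  have hγm : γ ∈ LambdaRing.gammaFiltration PX₁ (d - d₁) :=
    Lambda.gamma_mem (by rw [map_sub, map_intCast]; simp) _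
  have hlam : KRR.lamAlt PX₁ e = (-1 : KX₁) ^ (d - d₁) * γ := by
    rw [hγ, KRR.lamAlt, haug, Int.toNat_natCast]
    obtain hm | ⟨m', hm⟩ : d - d₁ = 0 ∨ ∃ m', d - d₁ = m' + 1 :=
      (Nat.eq_zero_or_pos _).imp_right fun h => ⟨d - d₁ - 1, by omega⟩
    · rw [hm]
      simp [LambdaRing.LambdaOps.lam_zero, Lambda.gamma_zero]
    · rw [hm, Lambda.lamAlt_eq_gamma (Lambda.lam_one_eq_zero PX₁), Int.cast_natCast]
  have hz : γ * gψ x ∈ LambdaRing.gammaFiltration PX₁ (d - d₁ + k) := Lambda.mul_mem_add hγm hψx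
  have hleft : (-1 : KGr.Gr PX₁) ^ (d - d₁) * KGr.chern PX₁ (d - d₁) e * ψG (KGr.grK PX (k : ℤ) x) =
      KGr.grK PX₁ ((d - d₁ + k : ℕ) : ℤ) (KRR.lamAlt PX₁ e * gψ x) := by
    rw [hψG k x hx, KGr.chern, ← hγ, mul_assoc, ← Lambda.grK_mul hγm hψx, hlam, mul_assoc]
    have hneg : ∀ (g : KGr.Gr PX₁) (j : ℕ), (-1 : KGr.Gr PX₁) ^ (j + 2) * g = (-1 : KGr.Gr PX₁) ^ j * g := fun g j => by ring
    have heven : ∀ (g : KGr.Gr PX₁) (r : ℕ), (-1 : KGr.Gr PX₁) ^ (r + r) * g = g := fun g r => by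
      induction r with
      | zero => exact one_mul g
      | succ r ih => rw [show r + 1 + (r + 1) = r + r + 2 by omega, hneg, ih]
    have hodd : ∀ (g : KGr.Gr PX₁) (r : ℕ), (-1 : KGr.Gr PX₁) ^ (2 * r + 1) * g = -g := fun g r => by
      induction r with
      | zero => ring
      | succ r ih => rw [show 2 * (r + 1) + 1 = 2 * r + 1 + 2 by omega, hneg, ih]
    rcases Nat.even_or_odd (d - d₁) with ⟨r, hp⟩ | ⟨r, hp⟩
    · rw [hp, show (-1 : KX₁) ^ (r + r) = 1 from Even.neg_one_pow ⟨r, rfl⟩, one_mul]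
      exact heven _ r
    · rw [hp, show (-1 : KX₁) ^ (2 * r + 1) = -1 from Odd.neg_one_pow ⟨r, rfl⟩, neg_one_mul]
      rw [hp] at hz
      exact (hodd _ r).trans (Lambda.grK_neg hz).symm
  rw [hleft]
  have hz' : KRR.lamAlt PX₁ e * gψ x ∈ LambdaRing.gammaFiltration PX₁ (d - d₁ + k) := by
    rw [hlam, mul_assoc]
    exact Lambda.mul_mem_left _ hz
  rw [hf₁G _ _ hz', hfG k x hx, ← hexcess,
    show ((d - d₁ + k : ℕ) : ℤ) + (d₁ : ℤ) = ((k + d : ℕ) : ℤ) by omega,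
    show (k : ℤ) + (d : ℤ) = ((k + d : ℕ) : ℤ) by omega]
  have hφN : (N : KY₁) * gφ (gf x) ∈ LambdaRing.gammaFiltration PY₁ (k + d) := by
    have h := H28.PBFil.map_mem_gammaFiltration (f := Rφ) (H28.KvbPull.map_lam hKY₁ hKY hgφ)
      (H28.LineTwist.aug_pull hKY₁ hKY hgφ) hNx
    rwa [map_mul, map_natCast] at h
  refine (inv_smul_smul₀ (show (N : ℚ) ≠ 0 from Nat.cast_ne_zero.2 (by omega)) _).symm.trans
    ((congrArg ((N : ℚ)⁻¹ • ·) ?_).trans (inv_smul_smul₀ (show (N : ℚ) ≠ 0 from Nat.cast_ne_zero.2 (by omega)) _))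
  show (N : ℚ) • KGr.grK PY₁ _ (gφ (gf x)) = (N : ℚ) • φG (KGr.grK PY _ (gf x))
  rw [H28.GrOps.grK_nat_mul hN hφN, Nat.cast_smul_eq_nsmul, ← map_nsmul φG, ← Nat.cast_smul_eq_nsmul ℚ,
    H28.GrOps.grK_nat_mul hN hNx, hφG (k + d) _ hNx]
  refine congrArg _ ?_
  show _ = Rφ ((N : KY) * gf x)
  rw [map_mul, map_natCast]
  rfl

end Groth.Agent.S3801
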