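import Groth.Statements.S3809
import Groth.Agent.PPLib.Basic

set_option autoImplicit false
universe u
open scoped TensorProduct
open PP16

namespace Groth.Agent.S3809

/-- Let A → B → C be ring maps. Then the canonical map P^n_{C/A} → P^n_{C/B} is surjective, and its
kernel is the ideal generated by the image, under the canonical map P^n_{B/A} → P^n_{C/A}, of the
augmentation ideal of P^n_{B/A}. -/
theorem result (n : ℕ) (A B C : Type u) [CommRing A] [CommRing B] [CommRing C]
    [Algebra A B] [Algebra B C] [Algebra A C] [IsScalarTower A B C] :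
    Function.Surjective (PP16.map n A C B C) ∧
      RingHom.ker (PP16.map n A C B C) = (PP16.augIdeal n A B).map (PP16.map n A B A C) := by
  refine ⟨fun y => ?_, le_antisymm (fun x hx => ?_) ?_⟩
  · induction y using Groth.Agent.PPLib.induction with
    | h0 => exact ⟨0, map_zero _⟩
    | hmul b c => exact ⟨algebraMap C _ b * PP16.dn n A C c, by
        rw [map_mul, PP16.map_algebraMap, PP16.map_dn, Algebra.algebraMap_self_apply,
          Algebra.algebraMap_self_apply]⟩
    | hadd x y hx hy =>
      obtain ⟨a, ha⟩ := hx
      obtain ⟨a', ha'⟩ := hy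
      exact ⟨a + a', by rw [map_add, ha, ha']⟩
  · obtain ⟨K, hK⟩ : ∃ K : Ideal (PP16.P n A C), K = (PP16.augIdeal n A B).map (PP16.map n A B A C) :=
      ⟨_, rfl⟩
    rw [← hK]
    suffices h : x ∈ RingHom.ker (Ideal.Quotient.mk K) by rwa [Ideal.mk_ker] at h
    exact (Groth.Agent.PPLib.ker_le_ker (n := n) (T := PP16.P n A C ⧸ K) id (PP16.map n A C B C).toRingHom (Ideal.Quotient.mk K)
        (fun c => (PP16.map_algebraMap n A C B C c).trans (by rw [Algebra.algebraMap_self_apply]; rfl))
        (fun c => (PP16.map_dn n A C B C c).trans (by rw [Algebra.algebraMap_self_apply]; rfl))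
        ((Ideal.Quotient.mk K).comp (algebraMap C (PP16.P n A C)))
        ((Ideal.Quotient.mk K).comp (PP16.dn n A C).toRingHom)
        (fun b => by
          change Ideal.Quotient.mk K (PP16.dn n A C (algebraMap B C b)) =
            Ideal.Quotient.mk K (algebraMap C (PP16.P n A C) (algebraMap B C b))
          rw [Ideal.Quotient.eq, ← PP16.map_dn n A B A C, ← PP16.map_algebraMap n A B A C, ← map_sub]
          rw [hK]
          exact Ideal.mem_map_of_mem _ (Groth.Agent.PPLib.dn_sub_mem b))
        (fun c => rfl) (fun c => rfl) Function.surjective_id hx)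
  · rw [Groth.Agent.PPLib.augIdeal_eq_span, Ideal.map_span, Ideal.span_le]
    rintro _ ⟨_, ⟨b, rfl⟩, rfl⟩
    rw [SetLike.mem_coe, RingHom.mem_ker, map_sub, PP16.map_dn, PP16.map_algebraMap, map_sub,
      PP16.map_dn, PP16.map_algebraMap, Algebra.algebraMap_self_apply, AlgHom.commutes,
      IsScalarTower.algebraMap_apply B C (PP16.P n B C), sub_self]

end Groth.Agent.S3809
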