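import Groth.Statements.S3810
import Groth.Agent.PPLib.Basic

set_option autoImplicit false
universe u
open scoped TensorProduct
open PP16

namespace Groth.Agent.S3810

/-- Let B be an A-algebra, K an ideal of B and C = B/K. Then the canonical map P^n_{B/A} → P^n_{C/A} is
surjective and its kernel is the ideal generated by the image of K under the structure map B →
P^n_{B/A} together with the image of K under the principal-part map d^n (the latter is an additive
subgroup, not a B-submodule, in general). -/
theorem result (n : ℕ) (A B : Type u) [CommRing A] [CommRing B] [Algebra A B]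
    (K : Ideal B) :
    Function.Surjective (PP16.map n A B A (B ⧸ K)) ∧
      RingHom.ker (PP16.map n A B A (B ⧸ K)) =
        K.map (algebraMap B (PP16.P n A B)) ⊔ K.map (PP16.dn n A B) := by
  refine ⟨fun y => ?_, le_antisymm (fun x hx => ?_) ?_⟩
  · induction y using Groth.Agent.PPLib.induction with
    | h0 => exact ⟨0, map_zero _⟩
    | hmul b c =>
      obtain ⟨b, rfl⟩ := Ideal.Quotient.mk_surjective b
      obtain ⟨c, rfl⟩ := Ideal.Quotient.mk_surjective c
      exact ⟨algebraMap B _ b * PP16.dn n A B c, by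
        rw [map_mul, PP16.map_algebraMap, PP16.map_dn]; rfl⟩
    | hadd x y hx hy =>
      obtain ⟨a, ha⟩ := hx
      obtain ⟨a', ha'⟩ := hy
      exact ⟨a + a', by rw [map_add, ha, ha']⟩
  · obtain ⟨N, hN⟩ : ∃ N : Ideal (PP16.P n A B), N = K.map (algebraMap B (PP16.P n A B)) ⊔ K.map (PP16.dn n A B) :=
      ⟨_, rfl⟩
    rw [← hN]
    suffices h : x ∈ RingHom.ker (Ideal.Quotient.mk N) by rwa [Ideal.mk_ker] at h
    exact (Groth.Agent.PPLib.ker_le_ker (n := n) (T := PP16.P n A B ⧸ N) (Ideal.Quotient.mk K) (PP16.map n A B A (B ⧸ K)).toRingHom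
        (Ideal.Quotient.mk N) (fun c => PP16.map_algebraMap n A B A (B ⧸ K) c)
        (fun c => PP16.map_dn n A B A (B ⧸ K) c)
        (Ideal.Quotient.lift K ((Ideal.Quotient.mk N).comp (algebraMap B (PP16.P n A B)))
          (fun k hk => Ideal.Quotient.eq_zero_iff_mem.2 (hN ▸ Ideal.mem_sup_left (Ideal.mem_map_of_mem _ hk))))
        (Ideal.Quotient.lift K ((Ideal.Quotient.mk N).comp (PP16.dn n A B).toRingHom)
          (fun k hk => Ideal.Quotient.eq_zero_iff_mem.2 (hN ▸ Ideal.mem_sup_right (Ideal.mem_map_of_mem _ hk))))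
        (fun a => by
          change Ideal.Quotient.mk N (PP16.dn n A B (algebraMap A B a)) =
            Ideal.Quotient.mk N (algebraMap B (PP16.P n A B) (algebraMap A B a))
          rw [AlgHom.commutes, ← IsScalarTower.algebraMap_apply])
        (fun c => rfl) (fun c => rfl) Ideal.Quotient.mk_surjective hx)
  · refine sup_le ?_ ?_ <;> refine Ideal.map_le_iff_le_comap.2 fun k hk => ?_
    · rw [Ideal.mem_comap, RingHom.mem_ker, PP16.map_algebraMap]
      simp [Ideal.Quotient.algebraMap_eq, Ideal.Quotient.eq_zero_iff_mem.2 hk]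
    · rw [Ideal.mem_comap, RingHom.mem_ker, PP16.map_dn]
      simp [Ideal.Quotient.algebraMap_eq, Ideal.Quotient.eq_zero_iff_mem.2 hk]

end Groth.Agent.S3810
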