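import Groth.Statements.S3811
import Groth.Agent.PPLib.Basic

set_option autoImplicit false
universe u
open scoped TensorProduct
open PP16

namespace Groth.Agent.S3811

/-- Let B be an A-algebra with an A-algebra retraction g : B → A, and K the kernel of g. The composite
of d^n : B → P^n_{B/A} with the projection P^n_{B/A} → P^n_{B/A} / K P^n_{B/A} (base change of
P^n_{B/A} along g) is surjective with kernel K^(n+1); thus P^n_{B/A} ⊗_B A is identified with
B/K^(n+1), the class of d^n t corresponding to the class of t. -/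
theorem result (n : ℕ) (A B : Type u) [CommRing A] [CommRing B] [Algebra A B]
    (g : B →ₐ[A] A) :
    Function.Surjective ((Ideal.Quotient.mk ((RingHom.ker g).map (algebraMap B (PP16.P n A B)))).comp
        (PP16.dn n A B).toRingHom) ∧
      RingHom.ker ((Ideal.Quotient.mk ((RingHom.ker g).map (algebraMap B (PP16.P n A B)))).comp
        (PP16.dn n A B).toRingHom) = RingHom.ker g ^ (n + 1) := by
  set J : Ideal (PP16.P n A B) := (RingHom.ker g).map (algebraMap B (PP16.P n A B)) with hJ
  have hleft : ∀ x : B, Ideal.Quotient.mk J (algebraMap B (PP16.P n A B) x) =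
      Ideal.Quotient.mk J (PP16.dn n A B (algebraMap A B (g x))) := fun x => by
    rw [AlgHom.commutes, IsScalarTower.algebraMap_apply A B (PP16.P n A B) (g x), Ideal.Quotient.eq,
      ← map_sub]
    exact Ideal.mem_map_of_mem _ (by simp [RingHom.mem_ker])
  constructor
  · intro y
    obtain ⟨y, rfl⟩ := Ideal.Quotient.mk_surjective y
    induction y using Groth.Agent.PPLib.induction with
    | h0 => exact ⟨0, by simp⟩
    | hmul b c => exact ⟨algebraMap A B (g b) * c, by simp [hleft]⟩
    | hadd x y hx hy =>
      obtain ⟨a, ha⟩ := hx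
      obtain ⟨a', ha'⟩ := hy
      exact ⟨a + a', by rw [map_add, ha, ha', map_add]⟩
  · refine le_antisymm (fun x hx => ?_) ?_
    · let f : B →ₐ[A] B ⧸ RingHom.ker g ^ (n + 1) :=
        ((Ideal.Quotient.mkₐ A _).comp (Algebra.ofId A B)).comp g
      let ψ := Groth.Agent.PPLib.liftP (n := n) f (Ideal.Quotient.mkₐ A (RingHom.ker g ^ (n + 1)))
        ((RingHom.ker g).map (Ideal.Quotient.mk _)) (fun b => by
          change Ideal.Quotient.mk _ b - Ideal.Quotient.mk _ (algebraMap A B (g b)) ∈ _
          rw [← map_sub]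
          exact Ideal.mem_map_of_mem _ (by simp [RingHom.mem_ker]))
        (Groth.Agent.PPLib.quot_pow _ _)
      have hψ : J ≤ RingHom.ker ψ := Ideal.map_le_iff_le_comap.2 fun k hk => by
        rw [Ideal.mem_comap, RingHom.mem_ker]
        simp [ψ, f, RingHom.mem_ker.1 hk]
      rw [RingHom.mem_ker, RingHom.comp_apply, Ideal.Quotient.eq_zero_iff_mem] at hx
      have h := RingHom.mem_ker.1 (hψ hx)
      rw [AlgHom.toRingHom_eq_coe, RingHom.coe_coe, Groth.Agent.PPLib.liftP_dn] at h
      exact Ideal.Quotient.eq_zero_iff_mem.1 h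
    · have hle : (RingHom.ker g).map ((Ideal.Quotient.mk J).comp (PP16.dn n A B).toRingHom) ≤
          (PP16.augIdeal n A B).map (Ideal.Quotient.mk J) := Ideal.map_le_iff_le_comap.2 fun k hk => by
        rw [Ideal.mem_comap, RingHom.comp_apply]
        change Ideal.Quotient.mk J (PP16.dn n A B k) ∈ _
        have : Ideal.Quotient.mk J (PP16.dn n A B k) =
            Ideal.Quotient.mk J (PP16.dn n A B k - algebraMap B _ k) := by
          rw [map_sub, Ideal.Quotient.eq_zero_iff_mem.2 (Ideal.mem_map_of_mem _ hk), sub_zero]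
        rw [this]
        exact Ideal.mem_map_of_mem _ (Groth.Agent.PPLib.dn_sub_mem k)
      refine (Ideal.map_eq_bot_iff_le_ker _).1 (le_bot_iff.1 ?_)
      have key : ∀ (T : Type u) [CommRing T] (h : B →+* T) (q : PP16.P n A B →+* T),
          (RingHom.ker g).map h ≤ (PP16.augIdeal n A B).map q → (RingHom.ker g ^ (n + 1)).map h ≤ ⊥ := by
        intro T _ h q hle'
        rw [Ideal.map_pow]
        exact (Ideal.pow_right_mono hle' _).trans (Groth.Agent.PPLib.augIdeal_map_pow q).le
      exact key (PP16.P n A B ⧸ J) _ (Ideal.Quotient.mk J) hle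

end Groth.Agent.S3811
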