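import Groth.Statements.S3812
import Groth.Agent.PPLib.Basic
import Mathlib.Tactic.Ring

set_option autoImplicit false
universe u
open scoped TensorProduct
open PP16

namespace Groth.Agent.S3812

/-- Let B = A[T_i] be a polynomial algebra. There is an isomorphism of B-algebras from P^n_{B/A} onto
B[U_i]/(U)^(n+1), where (U) is the ideal generated by the new indeterminates, sending the principal
part d^n T_i to the class of T_i + U_i for every i (so d^n F(T) goes to the class of F(T + U)). -/
theorem result (n : ℕ) (A : Type u) [CommRing A] (σ : Type u) :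
    ∃ e : PP16.P n A (MvPolynomial σ A) ≃ₐ[MvPolynomial σ A]
        (MvPolynomial σ (MvPolynomial σ A) ⧸
          Ideal.span (Set.range (MvPolynomial.X : σ → MvPolynomial σ (MvPolynomial σ A))) ^ (n + 1)),
      ∀ i : σ, e (PP16.dn n A (MvPolynomial σ A) (MvPolynomial.X i)) =
        Ideal.Quotient.mk _ (MvPolynomial.C (MvPolynomial.X i : MvPolynomial σ A) +
          (MvPolynomial.X i : MvPolynomial σ (MvPolynomial σ A))) := by
  classical
  let K : Ideal (MvPolynomial σ (MvPolynomial σ A)) :=
    Ideal.span (Set.range (MvPolynomial.X : σ → MvPolynomial σ (MvPolynomial σ A)))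
  let f : MvPolynomial σ A →ₐ[A] (MvPolynomial σ (MvPolynomial σ A) ⧸ K ^ (n + 1)) :=
    IsScalarTower.toAlgHom A _ _
  let g : MvPolynomial σ A →ₐ[A] (MvPolynomial σ (MvPolynomial σ A) ⧸ K ^ (n + 1)) :=
    MvPolynomial.aeval fun i : σ => Ideal.Quotient.mk (K ^ (n + 1))
      (MvPolynomial.C (MvPolynomial.X i : MvPolynomial σ A) + (MvPolynomial.X i : MvPolynomial σ (MvPolynomial σ A)))
  have hfg : ∀ b, g b - f b ∈ K.map (Ideal.Quotient.mk (K ^ (n + 1))) := fun b => by
    induction b using MvPolynomial.induction_on with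
    | C a => simp [f, g]
    | add p q hp hq => rw [map_add, map_add, add_sub_add_comm]; exact add_mem hp hq
    | mul_X p i hp =>
      rw [map_mul, map_mul]
      have : g (MvPolynomial.X i) - f (MvPolynomial.X i) ∈ K.map (Ideal.Quotient.mk (K ^ (n + 1))) := by
        have e : g (MvPolynomial.X i) - f (MvPolynomial.X i) =
            Ideal.Quotient.mk (K ^ (n + 1)) (MvPolynomial.X i) := by
          rw [show g (MvPolynomial.X i) = _ from MvPolynomial.aeval_X _ i, map_add]
          exact add_sub_cancel_left _ _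
        rw [e]
        exact Ideal.mem_map_of_mem _ (Ideal.subset_span ⟨i, rfl⟩)
      convert add_mem (Ideal.mul_mem_right (g (MvPolynomial.X i)) _ hp)
        (Ideal.mul_mem_left _ (f p) this) using 1
      ring
  obtain ⟨ψ', hψdn⟩ := Groth.Agent.PPLib.exists_algHom (n := n)
    (T := MvPolynomial σ (MvPolynomial σ A) ⧸ K ^ (n + 1)) g _ hfg (Groth.Agent.PPLib.quot_pow _ _)
  let χ₀ : MvPolynomial σ (MvPolynomial σ A) →ₐ[MvPolynomial σ A] PP16.P n A (MvPolynomial σ A) :=
    MvPolynomial.aeval fun i : σ => PP16.dn n A (MvPolynomial σ A) (MvPolynomial.X i) -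
      algebraMap (MvPolynomial σ A) (PP16.P n A (MvPolynomial σ A)) (MvPolynomial.X i)
  have hχ : ∀ x ∈ K ^ (n + 1), χ₀ x = 0 := fun x hx => by
    have h : K.map χ₀ ≤ PP16.augIdeal n A (MvPolynomial σ A) := by
      rw [Ideal.map_span, Ideal.span_le]
      rintro _ ⟨_, ⟨i, rfl⟩, rfl⟩
      rw [MvPolynomial.aeval_X]
      exact Groth.Agent.PPLib.dn_sub_mem _
    refine Groth.Agent.PPLib.prod_eq_zero (Ideal.pow_right_mono h (n + 1) ?_)
    rw [← Ideal.map_pow]; exact Ideal.mem_map_of_mem _ hx
  let χ := Ideal.Quotient.liftₐ (K ^ (n + 1)) χ₀ hχ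
  refine ⟨AlgEquiv.ofAlgHom ψ' χ ?_ ?_, fun i => (hψdn _).trans (MvPolynomial.aeval_X _ i)⟩
  · refine Ideal.Quotient.algHom_ext _ (MvPolynomial.algHom_ext fun i => ?_)
    change ψ' (χ₀ (MvPolynomial.X i)) = Ideal.Quotient.mk _ (MvPolynomial.X i)
    rw [MvPolynomial.aeval_X, map_sub, hψdn, AlgHom.commutes,
      show g (MvPolynomial.X i) = _ from MvPolynomial.aeval_X _ i, map_add]
    exact add_sub_cancel_left _ _
  · refine Groth.Agent.PPLib.algHom_ext fun b => ?_
    change χ (ψ' (PP16.dn n A _ b)) = PP16.dn n A _ b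
    rw [hψdn]
    have hh : ((χ.restrictScalars A).comp g) = PP16.dn n A (MvPolynomial σ A) :=
      MvPolynomial.algHom_ext fun i => by
        change χ (g (MvPolynomial.X i)) = _
        rw [show g (MvPolynomial.X i) = _ from MvPolynomial.aeval_X _ i]
        change χ₀ (MvPolynomial.C (MvPolynomial.X i) + MvPolynomial.X i) = _
        rw [map_add, MvPolynomial.aeval_C, MvPolynomial.aeval_X, add_sub_cancel]
    exact AlgHom.congr_fun hh b

end Groth.Agent.S3812
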