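import Groth.Statements.S3813
import Groth.Agent.PPLib.Basic

set_option autoImplicit false
universe u
open scoped TensorProduct
open PP16

namespace Groth.Agent.S3813

theorem aux (n : ℕ) {A E B Q : Type u} [CommRing A] [AddCommGroup E] [Module A E] [CommRing B] [Algebra A B]
    [CommRing Q] [Algebra A Q] (ιE : E →ₗ[A] B) (K : Ideal B) (mkC : B →ₐ[A] Q)
    (hsurj : Function.Surjective mkC) (C : Ideal Q) (hC : C ^ (n + 1) = ⊥)
    (hιC : ∀ t, mkC (ιE t) ∈ C) (ε : B →ₐ[A] A) (hε : ∀ t, ε (ιE t) = 0) (hK : ∀ x ∈ K, ε x = 0)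
    (hlift : ∀ (T : Type u) [CommRing T] [Algebra A T] (φ : E →ₗ[A] T), ∃ F : B →ₐ[A] T, ∀ t, F (ιE t) = φ t)
    (hext : ∀ (T : Type u) [CommRing T] [Algebra A T] (F G : B →ₐ[A] T), (∀ t, F (ιE t) = G (ιE t)) → F = G)
    (hQ : ∀ (T : Type u) [CommRing T] [Algebra A T] (F : B →ₐ[A] T), (∀ x ∈ K ^ (n + 1), F x = 0) →
      ∃ F' : Q →ₐ[A] T, ∀ x, F' (mkC x) = F x) :
    ∃ e : PP16.P n A B ≃ₐ[B] (B ⊗[A] Q), ∀ t : E, e (PP16.dn n A B (ιE t)) =
      ιE t ⊗ₜ[A] (1 : Q) + (1 : B) ⊗ₜ[A] mkC (ιE t) := by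
  let f : B →ₐ[A] B ⊗[A] Q := Algebra.TensorProduct.includeLeft
  let inR : Q →ₐ[A] B ⊗[A] Q := Algebra.TensorProduct.includeRight
  obtain ⟨g, hg⟩ := hlift (B ⊗[A] Q) (f.toLinearMap ∘ₗ ιE + (inR.comp mkC).toLinearMap ∘ₗ ιE)
  replace hg : ∀ t, g (ιE t) = f (ιE t) + inR (mkC (ιE t)) := hg
  have hJ : ∀ b, g b - f b ∈ C.map inR := fun b => by
    rw [← Ideal.Quotient.eq]
    refine AlgHom.congr_fun (hext ((B ⊗[A] Q) ⧸ C.map inR) ((Ideal.Quotient.mkₐ A (C.map inR)).comp g)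
      ((Ideal.Quotient.mkₐ A (C.map inR)).comp f) fun t => ?_) b
    refine Ideal.Quotient.eq.2 ?_
    change g (ιE t) - f (ιE t) ∈ _
    rw [hg, add_sub_cancel_left]
    exact Ideal.mem_map_of_mem _ (hιC t)
  obtain ⟨Φ, hΦf, hΦg⟩ : ∃ Φ : P n A B →+* B ⊗[A] Q,
      (∀ b, Φ (algebraMap B _ b) = f b) ∧ ∀ b, Φ (dn n A B b) = g b :=
    ⟨(PPLib.liftP (n := n) f g (C.map inR) hJ (PPLib.map_le_pow_eq_bot inR.toRingHom hC)).toRingHom,
      PPLib.liftP_algebraMap _ _ _ _ _, PPLib.liftP_dn _ _ _ _ _⟩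
  obtain ⟨h₀, hh₀ι⟩ := hlift (P n A B) ((dn n A B).toLinearMap ∘ₗ ιE -
    (IsScalarTower.toAlgHom A B (P n A B)).toLinearMap ∘ₗ ιE)
  replace hh₀ι : ∀ t, h₀ (ιE t) = dn n A B (ιE t) - algebraMap B _ (ιE t) := hh₀ι
  have hh₀ : ∀ x ∈ K ^ (n + 1), h₀ x = 0 := fun x hx => by
    have hle : K.map h₀ ≤ augIdeal n A B := by
      rw [Ideal.map_le_iff_le_comap]
      intro y hy
      rw [Ideal.mem_comap, ← Ideal.Quotient.eq_zero_iff_mem]
      have hh := hext (P n A B ⧸ augIdeal n A B) ((Ideal.Quotient.mkₐ A (augIdeal n A B)).comp h₀) ((Algebra.ofId A _).comp ε)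
        fun t => by
          rw [AlgHom.comp_apply, AlgHom.comp_apply, hε, map_zero, hh₀ι]
          exact Ideal.Quotient.eq_zero_iff_mem.2 (PPLib.dn_sub_mem _)
      refine (AlgHom.congr_fun hh y).trans ?_
      rw [AlgHom.comp_apply, hK y hy, map_zero]
    have h1 := Ideal.pow_right_mono hle (n + 1)
    rw [← Ideal.map_pow] at h1
    exact PPLib.prod_eq_zero (h1 (Ideal.mem_map_of_mem _ hx))
  obtain ⟨h, hh⟩ := hQ _ h₀ hh₀
  let Ψ : B ⊗[A] Q →ₐ[B] P n A B :=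
    Algebra.TensorProduct.lift (Algebra.ofId B _) h (fun a b => Commute.all (Algebra.ofId B (P n A B) a) _)
  have hΨf : ∀ b, Ψ (f b) = algebraMap _ _ b := fun b => by simp [Ψ, f, Algebra.ofId_apply]
  have hΨR : ∀ q, Ψ (inR q) = h q := fun q => by simp [Ψ, inR]
  have hg' : ∀ b, Ψ (g b) = dn n A B b := fun b => by
    refine AlgHom.congr_fun (hext _ ((Ψ.restrictScalars A).comp g) (dn n A B) fun t => ?_) b
    change Ψ (g _) = _
    rw [hg, map_add, hΨf, hΨR, hh, hh₀ι, add_sub_cancel]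
  have h₁ : Ψ.toRingHom.comp Φ = RingHom.id _ :=
    PPLib.ringHom_ext (fun b => by change Ψ (Φ _) = _; rw [hΦf, hΨf]; rfl)
      (fun b => by change Ψ (Φ _) = dn n A B b; rw [hΦg, hg'])
  have hR : ∀ y, Φ (h₀ y) = inR (mkC y) := by
    let ΦA : P n A B →ₐ[A] B ⊗[A] Q :=
      { Φ with
        commutes' := fun a => by
          change Φ (algebraMap A _ a) = _
          rw [IsScalarTower.algebraMap_apply A B (P n A B), hΦf, AlgHom.commutes] }
    intro y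
    refine AlgHom.congr_fun (hext _ (ΦA.comp h₀) (inR.comp mkC) fun t => ?_) y
    change Φ (h₀ (ιE t)) = inR (mkC (ιE t))
    rw [hh₀ι, map_sub, hΦf, hΦg, hg, add_sub_cancel_left]
  have h₂ : Φ.comp Ψ.toRingHom = RingHom.id _ := by
    refine RingHom.ext fun x => ?_
    induction x using TensorProduct.induction_on with
    | zero => simp
    | add x y hx hy => rw [map_add, map_add, hx, hy]
    | tmul b q =>
      obtain ⟨y, rfl⟩ := hsurj q
      have hbq : b ⊗ₜ[A] mkC y = f b * inR (mkC y) := by simp [f, inR]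
      change Φ (Ψ _) = _
      rw [hbq, map_mul, map_mul, hΨf, hΨR, hh, hΦf, hR]
      rfl
  let e : P n A B ≃+* B ⊗[A] Q := RingEquiv.ofRingHom Φ Ψ.toRingHom h₂ h₁
  refine ⟨AlgEquiv.ofRingEquiv (f := e) fun b => hΦf b, fun t => ?_⟩
  change Φ _ = _
  rw [hΦg, hg]
  rfl

/-- Let E be an A-module, B = Sym_A(E) its symmetric algebra and K the augmentation ideal of B (the
kernel of the A-algebra map B → A killing E). For every n there is an isomorphism of B-algebras from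
P^n_{B/A} onto B ⊗_A (B/K^(n+1)) sending the principal part d^n t of an element t of E to t ⊗ 1 + 1
⊗ (class of t). -/
theorem result (n : ℕ) (A : Type u) [CommRing A] (E : Type u) [AddCommGroup E]
    [Module A E] :
    ∃ e : PP16.P n A (SymmetricAlgebra A E) ≃ₐ[SymmetricAlgebra A E]
        (SymmetricAlgebra A E ⊗[A] (SymmetricAlgebra A E ⧸
          RingHom.ker (SymmetricAlgebra.lift (0 : E →ₗ[A] A)) ^ (n + 1))),
      ∀ t : E, e (PP16.dn n A (SymmetricAlgebra A E) (SymmetricAlgebra.ι A E t)) =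
        SymmetricAlgebra.ι A E t ⊗ₜ 1 + 1 ⊗ₜ Ideal.Quotient.mk _ (SymmetricAlgebra.ι A E t) :=
  aux n (SymmetricAlgebra.ι A E) (RingHom.ker (SymmetricAlgebra.lift (0 : E →ₗ[A] A)))
    (Ideal.Quotient.mkₐ A _) Ideal.Quotient.mk_surjective
    ((RingHom.ker (SymmetricAlgebra.lift (0 : E →ₗ[A] A))).map (Ideal.Quotient.mk _)) (PPLib.quot_pow _ _)
    (fun t => Ideal.mem_map_of_mem _ (by simp [RingHom.mem_ker]))
    (SymmetricAlgebra.lift (0 : E →ₗ[A] A)) (fun t => by simp) (fun _ hx => hx)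
    (fun _ _ _ φ => ⟨SymmetricAlgebra.lift φ, SymmetricAlgebra.lift_ι_apply φ⟩)
    (fun _ _ _ F G h => SymmetricAlgebra.algHom_ext (LinearMap.ext h))
    (fun _ _ _ F hF => ⟨Ideal.Quotient.liftₐ _ F hF, fun _ => rfl⟩)

end Groth.Agent.S3813
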