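import Groth.Statements.S3822
import Groth.Agent.PPLib.SmoothBaseChange
import Groth.Agent.AzumayaX.Descent

set_option autoImplicit false
set_option linter.style.haveILetI false
universe u
open scoped TensorProduct
open PP16

open PP16 TensorProduct
open Groth.Agent.PPLib (phi phi_tprod_D phi_surjective phi_bijective_of_isDiffSmooth symLift symLift_tprod symMap symMap_tprod symPoly symPoly_tprod symPoly_symMap_injective sym_ext_span map_linForm_mapRange)

namespace Groth.Agent.S3822

/-- Let B be an A-algebra, A → A' a faithfully flat ring map and B' = B ⊗_A A'. If B' is differentially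
smooth over A' and its module of differentials is finitely generated, then B is differentially
smooth over A and its module of differentials is finitely generated. -/
theorem result (A B A' B' : Type u) [CommRing A] [CommRing B] [Algebra A B]
    [CommRing A'] [CommRing B'] [Algebra A' B'] [Algebra A A'] [Algebra B B'] [Algebra A B']
    [IsScalarTower A A' B'] [IsScalarTower A B B'] [Algebra.IsPushout A B A' B'] [Module.FaithfullyFlat A A']
    (h : PP16.IsDiffSmooth A' B') (hfin : Module.Finite B' (KaehlerDifferential A' B')) :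
    PP16.IsDiffSmooth A B ∧ Module.Finite B (KaehlerDifferential A B) := by
  classical
  haveI : Algebra.IsPushout A A' B B' := Algebra.IsPushout.symm inferInstance
  haveI : Module.FaithfullyFlat B B' := Module.FaithfullyFlat.of_linearEquiv B (B ⊗[A] A')
    (Algebra.IsPushout.equiv A B A' B').toLinearEquiv.symm
  let e := KaehlerDifferential.tensorKaehlerEquiv A A' B B'
  haveI := h.1
  haveI : Module.Projective B' (B' ⊗[B] Ω[B⁄A]) := Module.Projective.of_equiv e.symm
  haveI : Module.Finite B' (B' ⊗[B] Ω[B⁄A]) := Module.Finite.equiv e.symm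
  haveI hfinB : Module.Finite B Ω[B⁄A] := Module.Finite.of_finite_tensorProduct_of_faithfullyFlat B'
  haveI hprojB : Module.Projective B Ω[B⁄A] := Groth.Agent.AzumayaX.projective_descent B' Ω[B⁄A]
  refine ⟨⟨hprojB, fun ι _ => ⟨phi A B, phi_tprod_D A B, ?_, phi_surjective A B⟩⟩, hfinB⟩
  obtain ⟨s, hs⟩ := Module.projective_def'.1 hprojB
  let σ := Ω[B⁄A]
  let eσ : B' ⊗[B] (σ →₀ B) ≃ₗ[B'] (σ →₀ B') := TensorProduct.finsuppScalarRight B B' B' σ
  let j' : Ω[B'⁄A'] →ₗ[B'] σ →₀ B' := eσ.toLinearMap ∘ₗ s.baseChange B' ∘ₗ e.symm.toLinearMap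
  have hj' : ∀ b : B, j' (KaehlerDifferential.D A' B' (algebraMap B B' b)) =
      (s (KaehlerDifferential.D A B b)).mapRange (algebraMap B B') (map_zero _) := by
    intro b
    have he : e ((1 : B') ⊗ₜ[B] KaehlerDifferential.D A B b) =
        KaehlerDifferential.D A' B' (algebraMap B B' b) := by simp [e]
    rw [← he]
    simp only [j', LinearMap.comp_apply, LinearEquiv.coe_coe, LinearEquiv.symm_apply_apply,
      LinearMap.baseChange_tmul]
    ext i
    simp [eσ, Algebra.smul_def]
  -- the semilinear map of symmetric powers
  let S' := SymmetricPower B' ι Ω[B'⁄A']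
  letI : Module B S' := Module.compHom _ (algebraMap B B')
  let m : Ω[B⁄A] →ₗ[B] Ω[B'⁄A'] := KaehlerDifferential.map A A' B B'
  let fMul : MultilinearMap B (fun _ : ι => Ω[B⁄A]) S' :=
    { toFun := fun x => SymmetricPower.tprod B' (fun i => m (x i))
      map_update_add' := fun {inst} x i ω η => by
        have h1 : ∀ t, (fun j => m (Function.update x i t j)) = Function.update (fun j => m (x j)) i (m t) := fun t =>
          Function.comp_update m x i t
        simp only [h1, map_add]
        exact MultilinearMap.map_update_add (SymmetricPower.tprod B' (ι := ι) (M := Ω[B'⁄A'])) _ i _ _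
      map_update_smul' := fun {inst} x i b ω => by
        have h1 : ∀ t, (fun j => m (Function.update x i t j)) = Function.update (fun j => m (x j)) i (m t) := fun t =>
          Function.comp_update m x i t
        simp only [h1, m.map_smul]
        rw [← algebraMap_smul B' b (m ω)]
        exact MultilinearMap.map_update_smul (SymmetricPower.tprod B' (ι := ι) (M := Ω[B'⁄A'])) _ i _ _ }
  let μ := symLift fMul fun e x => SymmetricPower.tprod_equiv e fun i => m (x i)
  -- the map on graded pieces
  let T : B ⊗[A] B →ₐ[A] B' ⊗[A'] B' := Algebra.TensorProduct.lift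
    (((Algebra.TensorProduct.includeLeft : B' →ₐ[A'] B' ⊗[A'] B').restrictScalars A).comp (IsScalarTower.toAlgHom A B B'))
    (((Algebra.TensorProduct.includeRight : B' →ₐ[A'] B' ⊗[A'] B').restrictScalars A).comp (IsScalarTower.toAlgHom A B B'))
    (fun _ _ => Commute.all _ _)
  have hTI : (KaehlerDifferential.ideal A B).map T.toRingHom ≤ KaehlerDifferential.ideal A' B' := by
    rw [← KaehlerDifferential.span_range_eq_ideal A B, Ideal.map_span, Ideal.span_le]
    rintro _ ⟨_, ⟨b, rfl⟩, rfl⟩
    simpa [T] using KaehlerDifferential.one_smul_sub_smul_one_mem_ideal A' (algebraMap B B' b)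
  have hTpow : ∀ n, ∀ x ∈ KaehlerDifferential.ideal A B ^ n, T x ∈ KaehlerDifferential.ideal A' B' ^ n := fun n x hx =>
    Ideal.pow_right_mono hTI n (by rw [← Ideal.map_pow]; exact Ideal.mem_map_of_mem _ hx)
  let G : grI A B (Fintype.card ι) →+ grI A' B' (Fintype.card ι) :=
    QuotientAddGroup.map _ _ ⟨⟨fun x => ⟨T x.1, hTpow _ _ x.2⟩, Subtype.ext (map_zero T)⟩,
      fun x y => Subtype.ext (map_add T _ _)⟩ (fun x hx => AddSubgroup.mem_comap.2 (show T x.1 ∈ KaehlerDifferential.ideal A' B' ^ (Fintype.card ι + 1) from hTpow _ _ hx))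
  have hD : Submodule.span B (Set.range (SymmetricPower.tprod B (ι := ι) (M := Ω[B⁄A]))) = ⊤ :=
    SymmetricPower.span_tprod_eq_top B ι Ω[B⁄A]
  have hμ : ∀ c : ι → B, μ (SymmetricPower.tprod B fun i => KaehlerDifferential.D A B (c i)) =
      SymmetricPower.tprod B' (fun i => KaehlerDifferential.D A' B' (algebraMap B B' (c i))) := fun c => by
    rw [symLift_tprod]
    exact congrArg (SymmetricPower.tprod B') (funext fun i => KaehlerDifferential.map_D A A' B B' (c i))
  -- the two squares
  letI : Module B (grI A' B' (Fintype.card ι)) := Module.compHom _ (algebraMap B B')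
  let gB : grI A B (Fintype.card ι) →ₗ[B] grI A' B' (Fintype.card ι) :=
    { G with
      map_smul' := fun b z => by
        obtain ⟨⟨v, hv⟩, rfl⟩ := Submodule.Quotient.mk_surjective _ z
        show G (Submodule.Quotient.mk (b • (⟨v, hv⟩ : ↥((KaehlerDifferential.ideal A B ^ Fintype.card ι).restrictScalars B)))) = _
        refine congrArg Submodule.Quotient.mk (Subtype.ext ?_)
        show T (b • v) = algebraMap B B' b • T v
        simp [Algebra.smul_def, Algebra.TensorProduct.algebraMap_apply, T] }
  let μL : SymmetricPower B ι Ω[B⁄A] →ₗ[B] S' := μ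
  let φ'L : S' →ₗ[B] grI A' B' (Fintype.card ι) :=
    { toFun := phi A' B', map_add' := map_add _, map_smul' := fun b z => map_smul (phi A' B') (algebraMap B B' b) z }
  have sq1 : φ'L ∘ₗ μL = gB ∘ₗ phi A B := by
    refine sym_ext_span _ (KaehlerDifferential.span_range_derivation A B) fun c => ?_
    show phi A' B' (μ (SymmetricPower.tprod B fun i => KaehlerDifferential.D A B (c i))) = G (phi A B (SymmetricPower.tprod B fun i => KaehlerDifferential.D A B (c i)))
    rw [hμ, phi_tprod_D, phi_tprod_D]
    refine congrArg Submodule.Quotient.mk (Subtype.ext ?_)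
    show ∏ i, _ = T (∏ i, _)
    rw [map_prod]
    exact Finset.prod_congr rfl fun i _ => by simp [T]
  let P := MvPolynomial σ B'
  letI : Module B P := Module.compHom _ (algebraMap B B')
  let pL : S' →ₗ[B] P :=
    { toFun := fun z => symPoly (symMap j' z), map_add' := fun x y => by simp,
      map_smul' := fun b z => map_smul ((symPoly (ι := ι)).comp (symMap j')) (algebraMap B B' b) z }
  let mL : MvPolynomial σ B →ₗ[B] P :=
    { toFun := MvPolynomial.map (algebraMap B B'), map_add' := map_add _,
      map_smul' := fun b z => by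
        show MvPolynomial.map (algebraMap B B') (b • z) = algebraMap B B' b • MvPolynomial.map (algebraMap B B') z
        simp [MvPolynomial.smul_eq_C_mul] }
  have sq2 : pL ∘ₗ μL = mL ∘ₗ (symPoly ∘ₗ symMap s) := by
    refine sym_ext_span _ (KaehlerDifferential.span_range_derivation A B) fun c => ?_
    show symPoly (symMap j' (μ (SymmetricPower.tprod B fun i => KaehlerDifferential.D A B (c i)))) = MvPolynomial.map (algebraMap B B') (symPoly (symMap s (SymmetricPower.tprod B fun i => KaehlerDifferential.D A B (c i))))
    rw [hμ, symMap_tprod, symPoly_tprod, symMap_tprod, symPoly_tprod, map_prod]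
    exact Finset.prod_congr rfl fun i _ => by rw [hj', map_linForm_mapRange]
  refine (injective_iff_map_eq_zero _).2 fun y hy => ?_
  have h1 : phi A' B' (μ y) = 0 := (LinearMap.congr_fun sq1 y).trans ((congrArg G hy).trans (map_zero G))
  have h2 : μ y = 0 := (phi_bijective_of_isDiffSmooth A' B' h ι).1 (h1.trans (map_zero _).symm)
  have h3 : MvPolynomial.map (algebraMap B B') (symPoly (symMap s y)) = 0 := by
    refine ((LinearMap.congr_fun sq2 y).symm.trans ?_)
    show symPoly (symMap j' (μ y)) = 0
    rw [h2, map_zero, map_zero]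
  have h4 : symPoly (symMap s y) = 0 :=
    MvPolynomial.map_injective _ (FaithfulSMul.algebraMap_injective B B') (h3.trans (map_zero _).symm)
  exact (symPoly_symMap_injective s (Finsupp.linearCombination B id) hs) (h4.trans (map_zero _).symm)

end Groth.Agent.S3822
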