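import Groth.Statements.S3826
import Groth.Agent.AdicFS4.Graded
import Groth.Agent.LinType.QReg
import Groth.Agent.Synt29.QRDescent
import Mathlib.RingTheory.Localization.Free
import Mathlib.RingTheory.LocalProperties.FinitePresentation
import Mathlib.RingTheory.Flat.Localization
import Mathlib.RingTheory.Flat.EquationalCriterion

set_option autoImplicit false
universe u
open scoped TensorProduct
open QReg16

namespace Groth.Agent.S3826
open MvPolynomial Groth.Agent.PPLib

/-- A chart of a quasi-regular ideal at `g`, with denominators cleared. -/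
def Chart {R : Type u} [CommRing R] (J : Ideal R) (g : R) {r : ℕ} (f : Fin r → R) : Prop :=
  (∀ i, f i ∈ J) ∧ (∀ x ∈ J, ∃ N : ℕ, g ^ N * x ∈ Ideal.span (Set.range f)) ∧
    ∀ (n : ℕ) (P : MvPolynomial (Fin r) R), P.IsHomogeneous n → eval f P ∈ J ^ (n + 1) →
      ∀ d, ∃ N : ℕ, g ^ N * P.coeff d ∈ J

theorem alg_mem_map_iff {R : Type u} [CommRing R] (I : Ideal R) (g x : R) :
    algebraMap R (Localization.Away g) x ∈ I.map (algebraMap R (Localization.Away g)) ↔
      ∃ N : ℕ, g ^ N * x ∈ I := by
  rw [IsLocalization.algebraMap_mem_map_algebraMap_iff (Submonoid.powers g)]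
  exact ⟨fun ⟨_, ⟨N, rfl⟩, h⟩ => ⟨N, h⟩, fun ⟨N, h⟩ => ⟨_, ⟨N, rfl⟩, h⟩⟩

theorem exists_chart {R : Type u} [CommRing R] {J : Ideal R} (h : PP16.IsLocallyQuasiRegular R J)
    (P : Ideal R) [P.IsPrime] (hJP : J ≤ P) :
    ∃ g : R, g ∉ P ∧ ∃ (r : ℕ) (f : Fin r → R), Chart J g f := by
  obtain ⟨g, hg, r, f, hqr, hsp⟩ := h P hJP
  have hu : ∀ k : ℕ, IsUnit (algebraMap R (Localization.Away g) (g ^ k)) := fun k => by
    rw [map_pow]; exact (IsLocalization.Away.algebraMap_isUnit g).pow k
  have : ∀ i, ∃ (a : R) (k : ℕ), a ∈ J ∧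
      algebraMap R (Localization.Away g) a = f i * algebraMap R (Localization.Away g) (g ^ k) := fun i => by
    have hfi : f i ∈ J.map (algebraMap R (Localization.Away g)) := hsp ▸ Ideal.subset_span ⟨i, rfl⟩
    obtain ⟨⟨⟨a, ha⟩, ⟨_, k, rfl⟩⟩, e⟩ :=
      (IsLocalization.mem_map_algebraMap_iff (Submonoid.powers g) (Localization.Away g)).1 hfi
    exact ⟨a, k, ha, e.symm⟩
  choose a k ha hak using this
  have hspan : Ideal.span (Set.range fun i => algebraMap R (Localization.Away g) (a i)) =
      J.map (algebraMap R (Localization.Away g)) := by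
    rw [← hsp]
    refine le_antisymm (Ideal.span_le.2 ?_) (Ideal.span_le.2 ?_)
    · rintro _ ⟨i, rfl⟩
      show algebraMap R _ (a i) ∈ _
      rw [hak]; exact Ideal.mul_mem_right _ _ (Ideal.subset_span ⟨i, rfl⟩)
    · rintro _ ⟨i, rfl⟩
      have : algebraMap R (Localization.Away g) (a i) ∈
          Ideal.span (Set.range fun i => algebraMap R (Localization.Away g) (a i)) := Ideal.subset_span ⟨i, rfl⟩
      rwa [hak, Ideal.mul_unit_mem_iff_mem _ (hu (k i))] at this
  have hq := LinType.isQuasiRegular_of_span_eq f (fun i => algebraMap R (Localization.Away g) (a i)) hqr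
    (hspan.trans hsp.symm)
  refine ⟨g, hg, r, a, ha, fun x hx => ?_, fun n P hP he d => ?_⟩
  · rw [← alg_mem_map_iff, Ideal.map_span, ← Set.range_comp]
    show _ ∈ Ideal.span (Set.range fun i => algebraMap R (Localization.Away g) (a i))
    rw [hspan]
    exact Ideal.mem_map_of_mem _ hx
  · rw [← alg_mem_map_iff, ← coeff_map, ← hspan]
    refine hq n _ (hP.map _) ?_ d
    rw [hspan, ← Ideal.map_pow]
    have := Ideal.mem_map_of_mem (algebraMap R (Localization.Away g)) he
    rwa [map_eval] at this

theorem free_cotangent_of_chart {R : Type u} [CommRing R] {J : Ideal R} {g : R} {r : ℕ} {f : Fin r → R}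
    (h : Chart J g f) :
    Module.Free (Localization.Away (Ideal.Quotient.mk J g))
        (LocalizedModule (Submonoid.powers (Ideal.Quotient.mk J g)) J.Cotangent) ∧
      Module.Finite (Localization.Away (Ideal.Quotient.mk J g))
        (LocalizedModule (Submonoid.powers (Ideal.Quotient.mk J g)) J.Cotangent) := by
  classical
  obtain ⟨hf, hgen, hcoeff⟩ := h
  let gS := Ideal.Quotient.mk J g
  let T := Localization.Away gS
  let lm := LocalizedModule.mkLinearMap (Submonoid.powers gS) J.Cotangent
  let v : Fin r → LocalizedModule (Submonoid.powers gS) J.Cotangent := fun i => lm (J.toCotangent ⟨f i, hf i⟩)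
  have hli : LinearIndependent T v := by
    rw [Fintype.linearIndependent_iff]
    intro c hc i
    obtain ⟨⟨b, hb⟩, hint⟩ := IsLocalization.exist_integer_multiples_of_finite (Submonoid.powers gS) c
    choose e he using hint
    choose a ha using fun i => Ideal.Quotient.mk_surjective (e i)
    have h0 : lm (∑ i, e i • J.toCotangent ⟨f i, hf i⟩) = 0 := by
      rw [map_sum, show (∑ i, lm (e i • J.toCotangent ⟨f i, hf i⟩)) = b • ∑ i, c i • v i from ?_, hc,
        smul_zero]
      rw [Finset.smul_sum]
      exact Finset.sum_congr rfl fun i _ => by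
        rw [map_smul, ← algebraMap_smul T (e i), he i, smul_assoc]
    obtain ⟨⟨_, k, rfl⟩, hk⟩ := (IsLocalizedModule.eq_zero_iff (Submonoid.powers gS) lm).1 h0
    have h1 : J.toCotangent (∑ i, (g ^ k * a i) • (⟨f i, hf i⟩ : J)) = 0 := by
      rw [map_sum, ← hk, Submonoid.smul_def, Finset.smul_sum]
      exact Finset.sum_congr rfl fun i _ => by
        rw [map_smul, ← ha i, ← mul_smul]
        show _ = (Ideal.Quotient.mk J g ^ k * Ideal.Quotient.mk J (a i)) • _
        rw [← map_pow, ← map_mul]
        rfl
    rw [Ideal.toCotangent_eq_zero] at h1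
    have hP : (∑ i, C (g ^ k * a i) * X i : MvPolynomial (Fin r) R).IsHomogeneous 1 :=
      IsHomogeneous.sum _ _ _ fun i _ => isHomogeneous_C_mul_X _ i
    obtain ⟨N, hN⟩ := hcoeff 1 _ hP (by simpa [map_sum] using h1) (Finsupp.single i 1)
    rw [coeff_sum, Finset.sum_eq_single i] at hN
    · rw [coeff_C_mul, coeff_X', if_pos rfl, mul_one] at hN
      have h2 : algebraMap (R ⧸ J) T (e i) = 0 := by
        rw [IsLocalization.map_eq_zero_iff (Submonoid.powers gS)]
        refine ⟨⟨gS ^ (N + k), _, rfl⟩, ?_⟩
        show Ideal.Quotient.mk J g ^ (N + k) * e i = 0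
        rw [← ha i, ← map_pow, ← map_mul, Ideal.Quotient.eq_zero_iff_mem, pow_add, mul_assoc]
        exact hN
      rw [he i, Algebra.smul_def] at h2
      exact (IsLocalization.map_units T (⟨b, hb⟩ : Submonoid.powers gS)).mul_right_eq_zero.1 h2
    · intro j _ hji
      rw [coeff_C_mul, coeff_X', if_neg, mul_zero]
      exact fun e => hji ((Finsupp.single_left_inj one_ne_zero).1 e)
    · simp
  have hsp : ⊤ ≤ Submodule.span T (Set.range v) := by
    intro z _
    obtain ⟨⟨c, s⟩, hs⟩ := IsLocalizedModule.surj (Submonoid.powers gS) lm z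
    obtain ⟨⟨x, hx⟩, rfl⟩ := J.toCotangent_surjective c
    obtain ⟨N, hN⟩ := hgen x hx
    obtain ⟨a, ha⟩ := (Submodule.mem_span_range_iff_exists_fun R).1 hN
    have h1 : lm (gS ^ N • J.toCotangent ⟨x, hx⟩) ∈ Submodule.span T (Set.range v) := by
      rw [show gS ^ N • J.toCotangent ⟨x, hx⟩ = ∑ i, Ideal.Quotient.mk J (a i) • J.toCotangent ⟨f i, hf i⟩ from ?_,
        map_sum]
      · refine Submodule.sum_mem _ fun i _ => ?_
        rw [map_smul, ← algebraMap_smul T]
        exact Submodule.smul_mem _ _ (Submodule.subset_span ⟨i, rfl⟩)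
      · calc gS ^ N • J.toCotangent ⟨x, hx⟩ = J.toCotangent (g ^ N • ⟨x, hx⟩) := by
              rw [map_smul, ← map_pow]; rfl
          _ = J.toCotangent (∑ i, a i • (⟨f i, hf i⟩ : J)) := by
              congr 1; apply Subtype.ext; simp [← ha]
          _ = _ := by
              rw [map_sum]
              exact Finset.sum_congr rfl fun i _ => by rw [map_smul]; rfl
    rw [map_smul, ← hs, Submonoid.smul_def, ← mul_smul, ← algebraMap_smul T] at h1
    refine (Submodule.smul_mem_iff_of_isUnit _ ?_).1 h1
    exact IsLocalization.map_units T ((⟨gS ^ N, N, rfl⟩ : Submonoid.powers gS) * s)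
  exact ⟨Module.Free.of_basis (Module.Basis.mk hli hsp), Module.Finite.of_basis (Module.Basis.mk hli hsp)⟩

theorem projective_of_charts {R : Type u} [CommRing R] {J : Ideal R}
    (h : ∀ (P : Ideal R) [P.IsPrime], J ≤ P → ∃ g : R, g ∉ P ∧ ∃ (r : ℕ) (f : Fin r → R), Chart J g f) :
    Module.Projective (R ⧸ J) J.Cotangent := by
  let t : Set (R ⧸ J) := {s | Module.Free (Localization.Away s) (LocalizedModule (Submonoid.powers s) J.Cotangent) ∧
    Module.Finite (Localization.Away s) (LocalizedModule (Submonoid.powers s) J.Cotangent)}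
  have ht : Ideal.span t = ⊤ := by
    by_contra hne
    obtain ⟨m, hm, hle⟩ := Ideal.exists_le_maximal _ hne
    haveI := hm.isPrime
    obtain ⟨g, hg, r, f, hc⟩ := h (m.comap (Ideal.Quotient.mk J)) (fun x hx => by
      rw [Ideal.mem_comap, Ideal.Quotient.eq_zero_iff_mem.2 hx]; exact zero_mem _)
    exact hg (hle (Ideal.subset_span (free_cotangent_of_chart hc)))
  haveI : Module.FinitePresentation (R ⧸ J) J.Cotangent :=
    Module.FinitePresentation.of_localizationSpan t ht fun s => by
      haveI := s.2.1
      haveI := s.2.2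
      exact Module.finitePresentation_of_projective _ _
  haveI : Module.Flat (R ⧸ J) J.Cotangent :=
    Module.flat_of_localized_span (R ⧸ J) J.Cotangent t ht fun s => by
      haveI := s.2.1
      exact Module.Flat.trans (R ⧸ J) (Localization.Away s.1) _
  exact Module.Flat.projective_of_finitePresentation

theorem symGr_of_charts {R : Type u} [CommRing R] {J : Ideal R}
    (h : ∀ (P : Ideal R) [P.IsPrime], J ≤ P → ∃ g : R, g ∉ P ∧ ∃ (r : ℕ) (f : Fin r → R), Chart J g f) :
    PP16.SymGrBijective R J := by
  classical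
  intro ι _ _
  obtain ⟨φ, hφ, hsur⟩ := Groth.Agent.AdicFS4.exists_gr_map J ι
  refine ⟨φ, hφ, (injective_iff_map_eq_zero _).2 fun y hy => ?_, hsur⟩
  by_contra hy0
  have hne : LinearMap.ker (LinearMap.toSpanSingleton R _ y) ≠ ⊤ := fun e => by
    have : (1 : R) ∈ LinearMap.ker (LinearMap.toSpanSingleton R _ y) := e ▸ Submodule.mem_top
    simp [hy0] at this
  obtain ⟨m, hm, hle⟩ := Ideal.exists_le_maximal _ hne
  haveI := hm.isPrime
  have hkill : ∀ a ∈ J, a • y = 0 := fun a ha => Groth.Agent.AdicFS4.smul_tprod_eq_zero ha y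
  obtain ⟨g, hg, r, f, hf, hgen, hcoeff⟩ := h m fun a ha => hle (LinearMap.mem_ker.2 (hkill a ha))
  let T : (ι → Fin r) → SymmetricPower R ι J.Cotangent := fun c =>
    SymmetricPower.tprod R fun i => J.toCotangent ⟨f (c i), hf (c i)⟩
  have hV : ∀ w, ∃ N : ℕ, g ^ N • w ∈ Submodule.span R (Set.range T) := fun w => by
    have hw : w ∈ Submodule.span R (Set.range (SymmetricPower.tprod R (ι := ι) (M := J.Cotangent))) :=
      SymmetricPower.span_tprod_eq_top R ι J.Cotangent ▸ Submodule.mem_top
    induction hw using Submodule.span_induction with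
    | mem w hw =>
      obtain ⟨x, rfl⟩ := hw
      choose x' hx' using fun i => J.toCotangent_surjective (x i)
      choose N hN using fun i => hgen _ (x' i).2
      choose a ha using fun i => (Submodule.mem_span_range_iff_exists_fun R).1 (hN i)
      refine ⟨∑ i, N i, ?_⟩
      have key : ∀ i, g ^ N i • x i = ∑ j, a i j • J.toCotangent ⟨f j, hf j⟩ := fun i => by
        calc g ^ N i • x i = J.toCotangent (g ^ N i • x' i) := by rw [map_smul, hx']
          _ = J.toCotangent (∑ j, a i j • (⟨f j, hf j⟩ : J)) := by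
              congr 1; apply Subtype.ext; simp [← ha i]
          _ = _ := by
              rw [map_sum]
              exact Finset.sum_congr rfl fun j _ => map_smul _ _ _
      rw [← Finset.prod_pow_eq_pow_sum, ← MultilinearMap.map_smul_univ, funext key, MultilinearMap.map_sum]
      refine Submodule.sum_mem _ fun c _ => ?_
      rw [MultilinearMap.map_smul_univ]
      exact Submodule.smul_mem _ _ (Submodule.subset_span ⟨c, rfl⟩)
    | zero => exact ⟨0, by rw [smul_zero]; exact zero_mem _⟩
    | add a b _ _ ha hb =>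
      obtain ⟨N, hN⟩ := ha
      obtain ⟨M, hM⟩ := hb
      refine ⟨N + M, ?_⟩
      rw [smul_add]
      refine add_mem ?_ ?_
      · rw [add_comm N M, pow_add, mul_smul]; exact Submodule.smul_mem _ _ hN
      · rw [pow_add, mul_smul]; exact Submodule.smul_mem _ _ hM
    | smul c a _ ha =>
      obtain ⟨N, hN⟩ := ha
      exact ⟨N, by rw [smul_comm]; exact Submodule.smul_mem _ _ hN⟩
  obtain ⟨N, hN⟩ := hV y
  obtain ⟨a, ha⟩ := (Submodule.mem_span_range_iff_exists_fun R).1 hN
  let P : MvPolynomial (Fin r) R := ∑ c : ι → Fin r, monomial (mult c) (a c)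
  have hP : P.IsHomogeneous (Fintype.card ι) := IsHomogeneous.sum _ _ _ fun c _ =>
    isHomogeneous_monomial _ (by simp [mult, map_sum, Finsupp.degree_single])
  have heval : eval f P ∈ J ^ (Fintype.card ι + 1) := by
    have h1 : φ (∑ c, a c • T c) = 0 := by rw [ha, map_smul, hy, smul_zero]
    let z : (ι → Fin r) → ↥(J ^ Fintype.card ι) := fun c => ⟨∏ i, f (c i), by
      simpa using PP16.prod_mem_pow J Finset.univ (fun i => f (c i)) fun i _ => hf (c i)⟩
    have h1' : (Submodule.Quotient.mk (∑ c, a c • z c) : PP16.grJ R J (Fintype.card ι)) = 0 := by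
      rw [← Submodule.mkQ_apply, map_sum, ← h1, map_sum]
      exact Finset.sum_congr rfl fun c _ => by rw [map_smul, map_smul, hφ]; rfl
    rw [Submodule.Quotient.mk_eq_zero] at h1'
    have h2 : eval f P = ∑ c, a c * ∏ i, f (c i) := by
      rw [map_sum]
      refine Finset.sum_congr rfl fun c _ => ?_
      rw [← mul_one (a c), ← smul_eq_mul, ← smul_monomial, ← prod_X_eq_monomial, smul_eval, map_prod]
      simp
    rw [h2]
    simpa [z] using h1'
  choose M hM using fun d => hcoeff _ P hP heval d
  let D : Finset (Fin r →₀ ℕ) := Finset.univ.image fun c : ι → Fin r => mult c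
  have hMtot : g ^ ((∑ d ∈ D, M d) + N) • y = 0 := by
    rw [pow_add, mul_smul, ← ha, ← Finset.sum_fiberwise_of_maps_to (t := D) (g := fun c => mult c)
      (fun c _ => Finset.mem_image_of_mem _ (Finset.mem_univ c)), Finset.smul_sum]
    refine Finset.sum_eq_zero fun d hd => ?_
    obtain ⟨c₀, -, rfl⟩ := Finset.mem_image.1 hd
    have h1 : ∀ c ∈ Finset.univ.filter (fun c : ι → Fin r => mult c = mult c₀), a c • T c = a c • T c₀ := by
      intro c hc
      obtain ⟨e, rfl⟩ := exists_perm_of_mult_eq (Finset.mem_filter.1 hc).2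
      exact congrArg _ (SymmetricPower.tprod_equiv e fun i => J.toCotangent ⟨f (c₀ i), hf (c₀ i)⟩)
    rw [Finset.sum_congr rfl h1, ← Finset.sum_smul, ← mul_smul]
    have h2 : P.coeff (mult c₀) = ∑ c ∈ Finset.univ.filter (fun c : ι → Fin r => mult c = mult c₀), a c := by
      rw [Finset.sum_filter, coeff_sum]
      exact Finset.sum_congr rfl fun c _ => by rw [coeff_monomial]
    rw [← h2, ← Finset.sum_erase_add D M hd, pow_add, mul_assoc]
    refine Groth.Agent.AdicFS4.smul_tprod_eq_zero (Ideal.mul_mem_left _ _ (hM _)) _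
  exact hg (hm.isPrime.mem_of_pow_mem _ (hle (LinearMap.mem_ker.2 hMtot)))

theorem coeff_mem_of_symGr {R : Type u} [CommRing R] {J : Ideal R} (hgr : PP16.SymGrBijective R J)
    {g : R} {r : ℕ}
    (b : Module.Basis (Fin r) (Localization.Away (Ideal.Quotient.mk J g))
      (LocalizedModule (Submonoid.powers (Ideal.Quotient.mk J g)) J.Cotangent))
    (f : Fin r → J) (hb : ∀ i, b i = LocalizedModule.mkLinearMap _ _ (J.toCotangent (f i)))
    (n : ℕ) (P : MvPolynomial (Fin r) R) (hP : P.IsHomogeneous n)
    (he : eval (fun i => (f i : R)) P ∈ J ^ (n + 1)) (d : Fin r →₀ ℕ) :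
    ∃ N : ℕ, g ^ N * P.coeff d ∈ J := by
  classical
  by_cases hd : P.coeff d = 0
  · exact ⟨0, by rw [hd, mul_zero]; exact zero_mem _⟩
  rcases Nat.eq_zero_or_pos n with rfl | hn
  · have hd0 : d = 0 := by
      exact (Finsupp.degree_eq_zero_iff d).1 (by simpa [Finsupp.degree_eq_weight_one, Pi.one_def] using hP hd)
    subst hd0
    refine ⟨0, ?_⟩
    have hC : P = C (P.coeff 0) := by
      ext e
      rw [coeff_C]
      split_ifs with he0
      · rw [← he0]
      · by_contra hne
        exact he0 ((Finsupp.degree_eq_zero_iff e).1 (by simpa [Finsupp.degree_eq_weight_one, Pi.one_def] using hP hne)).symm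
    rw [hC, eval_C, zero_add, pow_one] at he
    simpa using he
  let gS := Ideal.Quotient.mk J g
  let T := Localization.Away gS
  let L : J.Cotangent →ₗ[R] MvPolynomial (Fin r) T :=
    { toFun := fun x => linForm (b.repr (LocalizedModule.mkLinearMap (Submonoid.powers gS) J.Cotangent x))
      map_add' := fun x y => by simp only [map_add]
      map_smul' := fun c x => by
        rw [← algebraMap_smul (R ⧸ J) c x, map_smul, ← algebraMap_smul T (algebraMap R (R ⧸ J) c), map_smul,
          map_smul, RingHom.id_apply, ← algebraMap_smul T c, ← IsScalarTower.algebraMap_apply] }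
  let ι := ULift.{u} (Fin n)
  haveI : Nonempty ι := ⟨⟨⟨0, hn⟩⟩⟩
  let p : SymmetricPower R ι J.Cotangent →ₗ[R] MvPolynomial (Fin r) T :=
    symLift ((MultilinearMap.mkPiAlgebra R ι _).compLinearMap fun _ => L) fun e x => by
      simp only [MultilinearMap.compLinearMap_apply, MultilinearMap.mkPiAlgebra_apply]
      exact Equiv.prod_comp e fun i => L (x i)
  have hp : ∀ x : ι → J.Cotangent, p (SymmetricPower.tprod R x) = ∏ i, L (x i) := fun x => by simp [p]
  have hL : ∀ i, L (J.toCotangent (f i)) = X i := fun i => by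
    show linForm (b.repr _) = _
    rw [← hb, b.repr_self, linForm_single, one_smul]
  obtain ⟨φ, hφ, hinj, -⟩ := hgr ι
  have hcard : Fintype.card ι = n := by simp [ι]
  have hc : ∀ e : P.support, ∃ c : ι → Fin r, mult c = e.1 := fun e => by
    have hcard' : Fintype.card (Σ s : e.1.support, Fin (e.1 s)) = Fintype.card ι := by
      have h := hP (mem_support_iff.1 e.2)
      rw [hcard, ← h, Fintype.card_sigma, Finsupp.weight_apply]
      simp only [Fintype.card_fin, Finsupp.sum, Pi.one_apply, smul_eq_mul, mul_one]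
      exact Finset.sum_coe_sort e.1.support fun s => e.1 s
    let eq : ι ≃ Σ s : e.1.support, Fin (e.1 s) := (Fintype.equivOfCardEq hcard').symm
    refine ⟨fun i => (eq i).1, Finsupp.ext fun s => ?_⟩
    rw [mult, eq.sum_comp (fun x : Σ s : e.1.support, Fin (e.1 s) => Finsupp.single (x.1 : Fin r) 1),
      Fintype.sum_sigma, Finsupp.finsetSum_apply]
    simp only [Finset.sum_const, Finset.card_univ, Fintype.card_fin, Finsupp.smul_apply, smul_eq_mul,
      Finsupp.single_apply, mul_ite, mul_one, mul_zero]
    rw [Finset.sum_coe_sort e.1.support (fun t => if t = s then e.1 t else 0), Finset.sum_ite_eq']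
    split_ifs with hs
    · rfl
    · exact (Finsupp.notMem_support_iff.1 hs).symm
  choose c hc using hc
  let y : SymmetricPower R ι J.Cotangent :=
    ∑ e : P.support, P.coeff e.1 • SymmetricPower.tprod R fun i => J.toCotangent (f (c e i))
  let z : P.support → ↥(J ^ Fintype.card ι) := fun e => ⟨∏ i, (f (c e i) : R), by
    simpa using PP16.prod_mem_pow J Finset.univ (fun i => (f (c e i) : R)) fun i _ => (f (c e i)).2⟩
  have hy : y = 0 := hinj (by
    rw [map_zero]
    have h1' : φ y = Submodule.Quotient.mk (∑ e, P.coeff e.1 • z e) := by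
      rw [← Submodule.mkQ_apply, map_sum, map_sum]
      exact Finset.sum_congr rfl fun e _ => by rw [map_smul, map_smul, hφ]; rfl
    rw [h1', Submodule.Quotient.mk_eq_zero]
    have h2 : eval (fun i => (f i : R)) P = ∑ e : P.support, P.coeff e.1 * ∏ i, (f (c e i) : R) := by
      conv_lhs => rw [P.as_sum, ← Finset.sum_coe_sort]
      rw [map_sum]
      refine Finset.sum_congr rfl fun e _ => ?_
      rw [← mul_one (P.coeff e.1), ← smul_eq_mul, ← smul_monomial, ← hc e, ← prod_X_eq_monomial, smul_eval, map_prod]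
      simp
    rw [h2] at he
    simpa [hcard, z] using he)
  have h3 : P.map (algebraMap R T) = 0 := by
    have h4 : p y = P.map (algebraMap R T) := by
      conv_rhs => rw [P.as_sum, ← Finset.sum_coe_sort, map_sum]
      rw [map_sum]
      refine Finset.sum_congr rfl fun e _ => ?_
      rw [map_smul, hp, map_monomial, ← hc e]
      simp only [hL]
      rw [prod_X_eq_monomial, Algebra.smul_def, IsScalarTower.algebraMap_apply R T (MvPolynomial (Fin r) T),
        MvPolynomial.algebraMap_eq, C_mul_monomial, mul_one, hc e]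
    rw [← h4, hy, map_zero]
  have h5 := congrArg (coeff d) h3
  rw [coeff_map, coeff_zero, IsScalarTower.algebraMap_apply R (R ⧸ J) T,
    IsLocalization.map_eq_zero_iff (Submonoid.powers gS)] at h5
  obtain ⟨⟨_, N, rfl⟩, hN⟩ := h5
  refine ⟨N, Ideal.Quotient.eq_zero_iff_mem.1 ?_⟩
  rw [map_mul, map_pow]
  exact hN

theorem isLocallyQuasiRegular_of {R : Type u} [CommRing R] {J : Ideal R} (hfg : J.FG)
    [Module.Projective (R ⧸ J) J.Cotangent] (hgr : PP16.SymGrBijective R J) :
    PP16.IsLocallyQuasiRegular R J := by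
  classical
  intro P _ hJP
  haveI : Module.Finite R J := ⟨(Submodule.fg_top _).2 hfg⟩
  haveI : Module.Finite R J.Cotangent := Module.Finite.of_surjective J.toCotangent J.toCotangent_surjective
  haveI : Module.Finite (R ⧸ J) J.Cotangent := Module.Finite.of_restrictScalars_finite R _ _
  haveI : Module.FinitePresentation (R ⧸ J) J.Cotangent := Module.finitePresentation_of_projective _ _
  let p := P.map (Ideal.Quotient.mk J)
  haveI : p.IsPrime := Ideal.map_isPrime_of_surjective Ideal.Quotient.mk_surjective (by rwa [Ideal.mk_ker])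
  haveI : Module.Free (Localization.AtPrime p) (LocalizedModule p.primeCompl J.Cotangent) :=
    Module.free_of_flat_of_isLocalRing
  obtain ⟨s, hs, b', -⟩ := Module.FinitePresentation.exists_basis_localizedModule_powers p.primeCompl
    (LocalizedModule.mkLinearMap p.primeCompl J.Cotangent) (Localization.AtPrime p)
    (Module.finBasis (Localization.AtPrime p) (LocalizedModule p.primeCompl J.Cotangent))
  generalize Module.finrank (Localization.AtPrime p) (LocalizedModule p.primeCompl J.Cotangent) = r at b'
  obtain ⟨g, rfl⟩ := Ideal.Quotient.mk_surjective s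
  let gS := Ideal.Quotient.mk J g
  let T := Localization.Away gS
  let lm := LocalizedModule.mkLinearMap (Submonoid.powers gS) J.Cotangent
  choose c hc using fun i => IsLocalizedModule.surj (Submonoid.powers gS) lm (b' i)
  choose f hf using fun i => J.toCotangent_surjective (c i).1
  let w : Fin r → Tˣ := fun i => (IsLocalization.map_units T (c i).2).unit
  have hb : ∀ i, b'.unitsSMul w i = lm (J.toCotangent (f i)) := fun i => by
    rw [Module.Basis.unitsSMul_apply, hf, ← hc i, Submonoid.smul_def, ← algebraMap_smul T ((c i).2 : R ⧸ J)]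
    rfl
  let A := Localization.Away g
  let F : Ideal A := Ideal.span (Set.range fun i => algebraMap R A (f i))
  have hFJ : F ≤ J.map (algebraMap R A) := Ideal.span_le.2 (by
    rintro _ ⟨i, rfl⟩; exact Ideal.mem_map_of_mem _ (f i).2)
  have hle : J.map (algebraMap R A) ≤ F ⊔ J.map (algebraMap R A) ^ 2 := by
    rw [Ideal.map_le_iff_le_comap]
    intro x hx
    obtain ⟨⟨_, N, rfl⟩, hN⟩ : ∃ s : Submonoid.powers gS,
        s • J.toCotangent ⟨x, hx⟩ ∈ Submodule.span (R ⧸ J) (Set.range fun i => J.toCotangent (f i)) := by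
      have h1 : lm (J.toCotangent ⟨x, hx⟩) ∈ Submodule.span T (Set.range fun i => lm (J.toCotangent (f i))) := by
        rw [← funext hb, (b'.unitsSMul w).span_eq]; trivial
      rw [show (Set.range fun i => lm (J.toCotangent (f i))) = lm '' Set.range fun i => J.toCotangent (f i) from
        (Set.range_comp lm _), ← Submodule.localized'_span T (Submonoid.powers gS) lm,
        Submodule.mem_localized'] at h1
      obtain ⟨m, hm, s, hms⟩ := h1
      rw [← IsLocalizedModule.mk'_one (Submonoid.powers gS) lm, IsLocalizedModule.mk'_eq_mk'_iff] at hms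
      obtain ⟨u, hu⟩ := hms
      refine ⟨u * s, ?_⟩
      rw [one_smul] at hu
      rw [mul_smul, hu]
      exact Submodule.smul_of_tower_mem _ u hm
    obtain ⟨a, ha⟩ := (Submodule.mem_span_range_iff_exists_fun _).1 hN
    choose a' ha' using fun i => Ideal.Quotient.mk_surjective (a i)
    have h2 : J.toCotangent (g ^ N • ⟨x, hx⟩) = J.toCotangent (∑ i, a' i • f i) := by
      rw [map_smul, map_sum]
      calc g ^ N • J.toCotangent ⟨x, hx⟩ = gS ^ N • J.toCotangent ⟨x, hx⟩ := by rw [← map_pow]; rfl
        _ = ∑ i, a i • J.toCotangent (f i) := ha.symm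
        _ = _ := Finset.sum_congr rfl fun i _ => by rw [map_smul, ← ha' i]; rfl
    rw [Ideal.toCotangent_eq] at h2
    rw [Ideal.mem_comap]
    have h3 : algebraMap R A (g ^ N) * algebraMap R A x ∈ F ⊔ J.map (algebraMap R A) ^ 2 := by
      rw [← map_mul, ← sub_add_cancel (g ^ N * x) (∑ i, a' i * (f i : R)), map_add, add_comm]
      refine Submodule.add_mem_sup ?_ ?_
      · rw [map_sum]
        refine Ideal.sum_mem _ fun i _ => ?_
        rw [map_mul]
        exact Ideal.mul_mem_left _ _ (Ideal.subset_span ⟨i, rfl⟩)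
      · rw [← Ideal.map_pow]
        refine Ideal.mem_map_of_mem _ ?_
        simpa using h2
    exact (Ideal.unit_mul_mem_iff_mem _ (by rw [map_pow]; exact (IsLocalization.Away.algebraMap_isUnit g).pow N)).1 h3
  obtain ⟨u, hu1, hu2⟩ := Submodule.exists_sub_one_mem_and_smul_le_of_fg_of_le_sup (Ideal.FG.map hfg (algebraMap R A)) le_rfl
    (show J.map (algebraMap R A) ≤ F ⊔ J.map (algebraMap R A) • J.map (algebraMap R A) by
      rwa [smul_eq_mul, ← pow_two])
  obtain ⟨⟨a, ⟨_, K, rfl⟩⟩, hau⟩ := IsLocalization.surj (Submonoid.powers g) u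
  have hgP : g ∉ P := fun hgP => hs (Ideal.mem_map_of_mem _ hgP)
  have haP : a ∉ P := fun haP => by
    obtain ⟨N, hN⟩ := (alg_mem_map_iff J g (a - g ^ K)).1 (by
      rw [map_sub, ← hau]
      have := Ideal.mul_mem_right (algebraMap R A (g ^ K)) _ hu1
      rwa [sub_mul, one_mul] at this)
    have h1 : g ^ N * g ^ K ∈ P := by
      have := sub_mem (P.mul_mem_left (g ^ N) haP) (hJP hN)
      rwa [← mul_sub, sub_sub_cancel] at this
    rw [← pow_add] at h1
    exact hgP (Ideal.IsPrime.mem_of_pow_mem inferInstance _ h1)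
  let G := g * a
  have hgu : IsUnit (algebraMap R (Localization.Away G) g) :=
    isUnit_of_mul_isUnit_left (y := algebraMap R (Localization.Away G) a)
      (by rw [← map_mul]; exact IsLocalization.Away.algebraMap_isUnit G)
  have hau' : IsUnit (algebraMap R (Localization.Away G) a) :=
    isUnit_of_mul_isUnit_right (x := algebraMap R (Localization.Away G) g)
      (by rw [← map_mul]; exact IsLocalization.Away.algebraMap_isUnit G)
  let F' : Ideal (Localization.Away G) := Ideal.span (Set.range fun i => algebraMap R (Localization.Away G) (f i))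
  have hspan : F' = J.map (algebraMap R (Localization.Away G)) := by
    refine le_antisymm (Ideal.span_le.2 (by rintro _ ⟨i, rfl⟩; exact Ideal.mem_map_of_mem _ (f i).2)) ?_
    rw [Ideal.map_le_iff_le_comap]
    intro x hx
    let π : A →+* Localization.Away G := IsLocalization.Away.lift g hgu
    have h1 : π (u * algebraMap R A x) ∈ F.map π :=
      Ideal.mem_map_of_mem π (hu2 (Submodule.smul_mem_pointwise_smul _ u _ (Ideal.mem_map_of_mem _ hx)))
    have h2 : π (algebraMap R A (g ^ K)) * π (u * algebraMap R A x) ∈ F.map π := Ideal.mul_mem_left _ _ h1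
    rw [← map_mul, show algebraMap R A (g ^ K) * (u * algebraMap R A x) = algebraMap R A (a * x) by
      rw [map_mul, ← hau]; ring, Ideal.map_span, ← Set.range_comp] at h2
    simp only [π, Function.comp_def, IsLocalization.Away.lift_eq, map_mul] at h2
    exact (Ideal.unit_mul_mem_iff_mem _ hau').1 h2
  refine ⟨G, fun h => (Ideal.IsPrime.mem_or_mem inferInstance h).elim hgP haP, r,
    fun i => algebraMap R (Localization.Away G) (f i), fun n Q hQ hev d => ?_, hspan⟩
  change MvPolynomial.eval _ Q ∈ F' ^ (n + 1) at hev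
  show Q.coeff d ∈ F'
  rw [hspan] at hev ⊢
  obtain ⟨⟨_, k, rfl⟩, hint⟩ := IsLocalization.exist_integer_multiples (Submonoid.powers G) Q.support (fun e => Q.coeff e)
  choose e he using hint
  let P0 : MvPolynomial (Fin r) R := ∑ x : Q.support, monomial x.1 (e x.1 x.2)
  have hP0 : P0.IsHomogeneous n := IsHomogeneous.sum _ _ _ fun x _ =>
    isHomogeneous_monomial _ (by
      have := hQ (mem_support_iff.1 x.2)
      rwa [Finsupp.degree_eq_weight_one])
  have hmap : P0.map (algebraMap R (Localization.Away G)) = C (algebraMap R (Localization.Away G) (G ^ k)) * Q := by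
    conv_rhs => rw [Q.as_sum, Finset.mul_sum, ← Finset.sum_coe_sort]
    rw [map_sum]
    refine Finset.sum_congr rfl fun x _ => ?_
    rw [map_monomial, C_mul_monomial, he x.1 x.2, Algebra.smul_def]
  have h1 : algebraMap R (Localization.Away G) (eval (fun i => (f i : R)) P0) ∈
      (J ^ (n + 1)).map (algebraMap R (Localization.Away G)) := by
    rw [map_eval, hmap, map_mul, eval_C, Ideal.map_pow]
    exact Ideal.mul_mem_left _ _ hev
  obtain ⟨M, hM⟩ := (alg_mem_map_iff _ _ _).1 h1
  obtain ⟨N, hN⟩ := coeff_mem_of_symGr hgr (b'.unitsSMul w) f hb n (C (G ^ M) * P0) (hP0.C_mul _)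
    (by rw [map_mul, eval_C]; exact hM) d
  have h2 : algebraMap R (Localization.Away G) (g ^ N * (C (G ^ M) * P0).coeff d) ∈
      J.map (algebraMap R (Localization.Away G)) := Ideal.mem_map_of_mem _ hN
  rw [coeff_C_mul, map_mul, map_mul, Ideal.unit_mul_mem_iff_mem _ (by rw [map_pow]; exact hgu.pow N),
    Ideal.unit_mul_mem_iff_mem _ (by rw [map_pow]; exact (IsLocalization.Away.algebraMap_isUnit G).pow M),
    ← coeff_map, hmap, coeff_C_mul,
    Ideal.unit_mul_mem_iff_mem _ (by rw [map_pow]; exact (IsLocalization.Away.algebraMap_isUnit G).pow k)] at h2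
  exact h2


/-- Affine form, X = Spec R: an ideal J of a ring R is quasi-regular (locally on Spec R generated by a
quasi-regular sequence) if and only if (i) J is finitely generated, (ii) J/J² is a locally free
R/J-module of finite type, here: finitely generated projective, and (iii) the canonical surjections
Sym^n(J/J²) → J^n/J^(n+1) are bijective for every n. -/
theorem result (R : Type u) [CommRing R] (J : Ideal R) :
    PP16.IsLocallyQuasiRegular R J ↔
      J.FG ∧ Module.Projective (R ⧸ J) J.Cotangent ∧ PP16.SymGrBijective R J := by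
  refine ⟨fun h => ⟨Groth.Agent.Synt29.QRDescent.fg_of_isLocallyQuasiRegular J h,
    projective_of_charts fun P _ => exists_chart h P, symGr_of_charts fun P _ => exists_chart h P⟩, ?_⟩
  rintro ⟨hfg, hproj, hgr⟩
  exact isLocallyQuasiRegular_of hfg hgr


end Groth.Agent.S3826
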