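import Groth.Statements.S3823
import Groth.Agent.S3826
import Groth.Agent.PPLib.Graded
import Groth.Agent.AdicFS4.Graded

set_option autoImplicit false
set_option linter.style.haveILetI false
universe u
open scoped TensorProduct
open PP16

namespace Groth.Agent.S3823

open PP16 KaehlerDifferential

section
variable (A B : Type u) [CommRing A] [CommRing B] [Algebra A B]

local notation "RR" => B ⊗[A] B
local notation "JJ" => KaehlerDifferential.ideal A B
local notation "lm" => (Algebra.TensorProduct.lmul' A : B ⊗[A] B →ₐ[A] B)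

theorem smul_eq_lmul (x : RR) (ω : (JJ).Cotangent) :
    x • ω = ((lm x) ⊗ₜ[A] (1 : B) : RR) • ω := by
  rw [← sub_eq_zero, ← sub_smul]
  obtain ⟨⟨y, hy⟩, rfl⟩ := Ideal.toCotangent_surjective _ ω
  rw [← map_smul, Ideal.toCotangent_eq_zero, pow_two]
  refine Ideal.mul_mem_mul ?_ hy
  simp [RingHom.mem_ker]

theorem smul_kaehler (b : B) (ω : (JJ).Cotangent) :
    ((b ⊗ₜ[A] (1 : B) : RR) • ω : Ω[B⁄A]) = b • (ω : Ω[B⁄A]) := by
  rw [← algebraMap_smul RR b (ω : Ω[B⁄A])]
  rfl

/-- The two symmetric powers of the differentials agree in positive degree. -/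
theorem exists_theta (ι : Type u) [Fintype ι] [Nonempty ι] :
    ∃ θ : SymmetricPower RR ι (JJ).Cotangent →+ SymmetricPower B ι Ω[B⁄A],
      Function.Bijective θ ∧
        (∀ x : ι → (JJ).Cotangent, θ (SymmetricPower.tprod RR x) = SymmetricPower.tprod B (fun i => (x i : Ω[B⁄A]))) ∧
        ∀ (r : RR) y, θ (r • y) = lm r • θ y := by
  classical
  letI : Module RR (SymmetricPower B ι Ω[B⁄A]) := Module.compHom _ (lm).toRingHom
  letI : Module B (SymmetricPower RR ι (JJ).Cotangent) :=
    Module.compHom _ (Algebra.TensorProduct.includeLeftRingHom : B →+* RR)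
  let fMul : MultilinearMap RR (fun _ : ι => (JJ).Cotangent) (SymmetricPower B ι Ω[B⁄A]) :=
    { toFun := fun x => SymmetricPower.tprod B (fun i => (x i : Ω[B⁄A]))
      map_update_add' := fun {inst} x i ω η => by
        exact MultilinearMap.map_update_add (SymmetricPower.tprod B (ι := ι) (M := Ω[B⁄A])) x i ω η
      map_update_smul' := fun {inst} x i r ω => by
        refine Eq.trans ?_ (MultilinearMap.map_update_smul (SymmetricPower.tprod B (ι := ι) (M := Ω[B⁄A])) x i (lm r) ω)
        exact congrArg (fun t => SymmetricPower.tprod B (Function.update (fun j => (x j : Ω[B⁄A])) i t))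
          ((smul_eq_lmul A B r ω).trans (smul_kaehler A B _ ω)) }
  let θ := Groth.Agent.PPLib.symLift fMul fun e x => SymmetricPower.tprod_equiv e _
  let gMul : MultilinearMap B (fun _ : ι => Ω[B⁄A]) (SymmetricPower RR ι (JJ).Cotangent) :=
    { toFun := fun x => SymmetricPower.tprod RR (fun i => (x i : (JJ).Cotangent))
      map_update_add' := fun {inst} x i ω η => by
        exact MultilinearMap.map_update_add (SymmetricPower.tprod RR (ι := ι) (M := (JJ).Cotangent)) x i ω η
      map_update_smul' := fun {inst} x i b ω => by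
        refine Eq.trans ?_ (MultilinearMap.map_update_smul (SymmetricPower.tprod RR (ι := ι) (M := (JJ).Cotangent)) x i
          (b ⊗ₜ[A] (1 : B)) ω)
        exact congrArg (fun t => SymmetricPower.tprod RR (Function.update (fun j => (x j : (JJ).Cotangent)) i t))
          (smul_kaehler A B b ω).symm }
  let ρ := Groth.Agent.PPLib.symLift gMul fun e x => SymmetricPower.tprod_equiv e _
  have hρθ : ∀ y, ρ (θ y) = y := fun y => by
    have hy : y ∈ Submodule.span RR (Set.range (SymmetricPower.tprod RR (ι := ι) (M := (JJ).Cotangent))) :=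
      by rw [SymmetricPower.span_tprod_eq_top RR ι (JJ).Cotangent]; exact Submodule.mem_top
    induction hy using Submodule.span_induction with
    | mem z hz =>
      obtain ⟨x, rfl⟩ := hz
      rw [Groth.Agent.PPLib.symLift_tprod]
      exact Groth.Agent.PPLib.symLift_tprod gMul _ _
    | zero => simp
    | add a b _ _ ha hb => rw [map_add, map_add, ha, hb]
    | smul r a _ ha =>
      rw [θ.map_smul, show (r • θ a : SymmetricPower B ι Ω[B⁄A]) = lm r • θ a from rfl, ρ.map_smul, ha]
      show ((lm r) ⊗ₜ[A] (1 : B) : RR) • a = r • a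
      rw [eq_comm, ← sub_eq_zero, ← sub_smul]
      exact Groth.Agent.AdicFS4.smul_tprod_eq_zero (by simp [RingHom.mem_ker]) a
  have hθρ : ∀ y, θ (ρ y) = y := fun y => by
    have hy : y ∈ Submodule.span B (Set.range (SymmetricPower.tprod B (ι := ι) (M := Ω[B⁄A]))) :=
      by rw [SymmetricPower.span_tprod_eq_top B ι Ω[B⁄A]]; exact Submodule.mem_top
    induction hy using Submodule.span_induction with
    | mem z hz =>
      obtain ⟨x, rfl⟩ := hz
      rw [Groth.Agent.PPLib.symLift_tprod]
      exact Groth.Agent.PPLib.symLift_tprod fMul _ _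
    | zero => simp
    | add a b _ _ ha hb => rw [map_add, map_add, ha, hb]
    | smul b a _ ha =>
      rw [ρ.map_smul, show (b • ρ a : SymmetricPower RR ι (JJ).Cotangent) = (b ⊗ₜ[A] (1 : B) : RR) • ρ a from rfl,
        θ.map_smul, ha]
      show lm (b ⊗ₜ[A] (1 : B)) • a = b • a
      simp
  exact ⟨θ.toAddMonoidHom, ⟨Function.LeftInverse.injective hρθ, fun y => ⟨ρ y, hθρ y⟩⟩,
    fun x => Groth.Agent.PPLib.symLift_tprod fMul (fun e x => SymmetricPower.tprod_equiv e _) x, fun r y => θ.map_smul r y⟩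

theorem projective_iff :
    Module.Projective (RR ⧸ JJ) (JJ).Cotangent ↔ Module.Projective B Ω[B⁄A] := by
  let e : (RR ⧸ JJ) ≃+* B := RingHom.quotientKerEquivOfSurjective (f := (lm).toRingHom)
    (fun b => ⟨b ⊗ₜ 1, by simp⟩)
  letI := RingHomInvPair.of_ringEquiv e
  letI := RingHomInvPair.of_ringEquiv e.symm
  haveI : RingHomInvPair (e : (RR ⧸ JJ) →+* B) (e.symm : B →+* (RR ⧸ JJ)) := RingHomInvPair.of_ringEquiv e
  haveI : RingHomInvPair (e.symm : B →+* (RR ⧸ JJ)) (e : (RR ⧸ JJ) →+* B) := RingHomInvPair.of_ringEquiv e.symm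
  let ψ : (JJ).Cotangent ≃ₛₗ[(e : (RR ⧸ JJ) →+* B)] Ω[B⁄A] :=
    { toFun := fun x => x
      map_add' := fun _ _ => rfl
      map_smul' := fun c x => by
        obtain ⟨r, rfl⟩ := Ideal.Quotient.mk_surjective c
        exact (smul_eq_lmul A B r x).trans (smul_kaehler A B _ x)
      invFun := fun x => x
      left_inv := fun _ => rfl
      right_inv := fun _ => rfl }
  exact ⟨fun _ => Module.Projective.of_equiv ψ, fun _ => Module.Projective.of_equiv ψ.symm⟩

theorem phiB_injective_of_isEmpty (ι : Type u) [Fintype ι] [IsEmpty ι] :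
    Function.Injective (Groth.Agent.PPLib.phi A B (ι := ι)) := by
  rw [injective_iff_map_eq_zero]
  intro y hy
  let x0 : ι → Ω[B⁄A] := fun i => isEmptyElim i
  have hr : Set.range (SymmetricPower.tprod B (ι := ι) (M := Ω[B⁄A])) = {SymmetricPower.tprod B x0} :=
    Set.eq_singleton_iff_unique_mem.2 ⟨⟨x0, rfl⟩, by rintro _ ⟨x, rfl⟩; rw [Subsingleton.elim x x0]⟩
  obtain ⟨b, rfl⟩ : ∃ b : B, b • SymmetricPower.tprod B x0 = y :=
    Submodule.mem_span_singleton.1 (by rw [← hr, SymmetricPower.span_tprod_eq_top]; exact Submodule.mem_top)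
  rw [map_smul, Groth.Agent.PPLib.phi_tprod, Groth.Agent.PPLib.cls, ← Submodule.Quotient.mk_smul,
    Submodule.Quotient.mk_eq_zero] at hy
  have h2 : b • (1 : RR) ∈ JJ ^ 1 := by
    have := hy
    simp only [Submodule.mem_comap, Submodule.restrictScalars_mem] at this
    simpa using this
  rw [pow_one] at h2
  have h3 : lm (b • (1 : RR)) = 0 := h2
  rw [show b = 0 by simpa [Algebra.smul_def, Algebra.TensorProduct.algebraMap_apply] using h3, zero_smul]

/-- The comparison of graded pieces. -/
noncomputable def grMap (n : ℕ) : grJ RR JJ n →+ grI A B n :=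
  QuotientAddGroup.map _ _ ⟨⟨fun x => ⟨x.1, x.2⟩, rfl⟩, fun _ _ => rfl⟩ (fun _ hx => hx)

theorem grMap_bijective (n : ℕ) : Function.Bijective (grMap A B n) := by
  refine ⟨(injective_iff_map_eq_zero _).2 fun x hx => ?_, fun y => ?_⟩
  · obtain ⟨⟨v, hv⟩, rfl⟩ := Submodule.Quotient.mk_surjective _ x
    exact (Submodule.Quotient.mk_eq_zero _).2 ((Submodule.Quotient.mk_eq_zero _).1 hx)
  · obtain ⟨⟨v, hv⟩, rfl⟩ := Submodule.Quotient.mk_surjective _ y
    exact ⟨Submodule.Quotient.mk ⟨v, hv⟩, rfl⟩

/-- Compatibility of the canonical maps. -/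
theorem grMap_comp {ι : Type u} [Fintype ι] [Nonempty ι]
    (θ : SymmetricPower RR ι (JJ).Cotangent →+ SymmetricPower B ι Ω[B⁄A])
    (hθ : ∀ x : ι → (JJ).Cotangent, θ (SymmetricPower.tprod RR x) = SymmetricPower.tprod B (fun i => (x i : Ω[B⁄A])))
    (hs : ∀ (r : RR) y, θ (r • y) = lm r • θ y)
    (φ : SymmetricPower RR ι (JJ).Cotangent →ₗ[RR] grJ RR JJ (Fintype.card ι))
    (hφ : ∀ x : ι → ↥(JJ), φ (SymmetricPower.tprod RR (fun i => (JJ).toCotangent (x i))) = zetaJ RR JJ x)
    (y : SymmetricPower RR ι (JJ).Cotangent) :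
    Groth.Agent.PPLib.phi A B (θ y) = grMap A B _ (φ y) := by
  have hy : y ∈ Submodule.span RR (Set.range (SymmetricPower.tprod RR (ι := ι) (M := (JJ).Cotangent))) :=
    by rw [SymmetricPower.span_tprod_eq_top RR ι (JJ).Cotangent]; exact Submodule.mem_top
  induction hy using Submodule.span_induction with
  | mem z hz =>
    obtain ⟨x, rfl⟩ := hz
    choose x' hx' using fun i => Ideal.toCotangent_surjective JJ (x i)
    obtain rfl : x = fun i => (JJ).toCotangent (x' i) := funext fun i => (hx' i).symm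
    rw [hθ, hφ]
    refine (Groth.Agent.PPLib.phi_tprod A B (fun i => (show Ω[B⁄A] from (JJ).toCotangent (x' i)))).trans ?_
    refine Groth.Agent.PPLib.cls_eq A B (Groth.Agent.PPLib.prod_sub_prod_mem (fun i => ?_) (fun i => (x' i).2) Finset.univ)
    refine Groth.Agent.PPLib.sub_mem_sq A B (Groth.Agent.PPLib.rep_mem A B _) (x' i).2 ?_
    rw [Groth.Agent.PPLib.tensorProductTo_rep, KaehlerDifferential.D_tensorProductTo]
  | zero => simp
  | add a b _ _ ha hb => simp [ha, hb]
  | smul r a _ ha =>
    rw [hs, map_smul, map_smul, ha]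
    obtain ⟨⟨v, hv⟩, hveq⟩ := Submodule.Quotient.mk_surjective _ (φ a)
    rw [← hveq]
    refine (Submodule.Quotient.eq _).2 ?_
    show lm r • v - r * v ∈ JJ ^ (Fintype.card ι + 1)
    rw [Algebra.smul_def, ← sub_mul, pow_succ']
    exact Ideal.mul_mem_mul (by simp [RingHom.mem_ker, Algebra.TensorProduct.algebraMap_apply]) hv

end

/-- Let B be an A-algebra of finite type. Then B is differentially smooth over A if and only if the
diagonal immersion is quasi-regular, that is, the kernel I of B ⊗_A B → B is a quasi-regular ideal: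
every prime of B ⊗_A B containing I has a basic open neighbourhood on which I is generated by a
quasi-regular sequence. -/
theorem result (A B : Type u) [CommRing A] [CommRing B] [Algebra A B]
    [Algebra.FiniteType A B] :
    PP16.IsDiffSmooth A B ↔ PP16.IsLocallyQuasiRegular (B ⊗[A] B) (KaehlerDifferential.ideal A B) := by
  haveI : Algebra.EssFiniteType A B := inferInstance
  rw [Groth.Agent.S3826.result, and_iff_right (KaehlerDifferential.ideal_fg A B), projective_iff A B]
  constructor
  · rintro ⟨hproj, h⟩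
    refine ⟨hproj, fun ι _ _ => ?_⟩
    obtain ⟨φ, hφ, hbij⟩ := h ι
    obtain ⟨θ, hθb, hθ, hs⟩ := exists_theta A B ι
    obtain ⟨ψ, hψ, hψs⟩ := Groth.Agent.AdicFS4.exists_gr_map (KaehlerDifferential.ideal A B) ι
    refine ⟨ψ, hψ, (injective_iff_map_eq_zero _).2 fun y hy => ?_, hψs⟩
    have h1 := grMap_comp A B θ hθ hs ψ hψ y
    rw [hy, map_zero] at h1
    have hphi : φ = Groth.Agent.PPLib.phi A B :=
      Groth.Agent.PPLib.sym_ext_span _ (KaehlerDifferential.span_range_derivation A B) fun c =>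
        (hφ c).trans (Groth.Agent.PPLib.phi_tprod_D A B c).symm
    exact hθb.1 ((hphi ▸ hbij.1) (h1.trans (map_zero _).symm) |>.trans (map_zero θ).symm)
  · rintro ⟨hproj, h⟩
    refine ⟨hproj, fun ι _ => ⟨Groth.Agent.PPLib.phi A B, Groth.Agent.PPLib.phi_tprod_D A B, ?_,
      Groth.Agent.PPLib.phi_surjective A B⟩⟩
    rcases isEmpty_or_nonempty ι with hι | hι
    · exact phiB_injective_of_isEmpty A B ι
    obtain ⟨ψ, hψ, hbij⟩ := h ι
    obtain ⟨θ, hθb, hθ, hs⟩ := exists_theta A B ι
    refine (injective_iff_map_eq_zero _).2 fun z hz => ?_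
    obtain ⟨y, rfl⟩ := hθb.2 z
    rw [grMap_comp A B θ hθ hs ψ hψ y] at hz
    have : ψ y = 0 := (grMap_bijective A B _).1 (hz.trans (map_zero _).symm)
    rw [(injective_iff_map_eq_zero _).1 hbij.1 y this, map_zero]

end Groth.Agent.S3823
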