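import Groth.Statements.S3825
import Groth.Agent.LinType.QReg
import Mathlib.RingTheory.Nakayama

set_option autoImplicit false
universe u
open QReg16

namespace Groth.Agent.S3825

theorem basis_of_qr {A : Type u} [CommRing A] (I : Ideal A) {m : ℕ} (f : Fin m → I)
    (hq : CAlgX.IsQuasiRegular (fun i => (f i : A))) (hs : Ideal.span (Set.range fun i => (f i : A)) = I) :
    LinearIndependent (A ⧸ I) (fun i => I.toCotangent (f i)) ∧
      Submodule.span (A ⧸ I) (Set.range fun i => I.toCotangent (f i)) = ⊤ := by
  constructor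
  · rw [Fintype.linearIndependent_iff]
    intro c hc i
    choose a ha using fun i => Ideal.Quotient.mk_surjective (c i)
    have h1 : I.toCotangent (∑ i, a i • f i) = 0 := by
      rw [map_sum, ← hc]
      exact Finset.sum_congr rfl fun i _ => by rw [map_smul, ← ha i]; rfl
    rw [Ideal.toCotangent_eq_zero] at h1
    have hP : (∑ i, MvPolynomial.C (a i) * MvPolynomial.X i : MvPolynomial (Fin m) A).IsHomogeneous 1 :=
      MvPolynomial.IsHomogeneous.sum _ _ _ fun i _ => MvPolynomial.isHomogeneous_C_mul_X (a i) i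
    have h2 := hq 1 _ hP (by
      rw [hs]
      simpa [map_sum] using h1) (Finsupp.single i 1)
    rw [hs, MvPolynomial.coeff_sum, Finset.sum_eq_single i] at h2
    · rw [← ha i, Ideal.Quotient.eq_zero_iff_mem]
      simpa [MvPolynomial.coeff_C_mul] using h2
    · intro j _ hji
      rw [MvPolynomial.coeff_C_mul, MvPolynomial.coeff_X', if_neg, mul_zero]
      exact fun e => hji ((Finsupp.single_left_inj one_ne_zero).1 e)
    · simp
  · rw [eq_top_iff]
    intro z _
    obtain ⟨⟨x, hx⟩, rfl⟩ := Ideal.toCotangent_surjective I z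
    have hx' : x ∈ Submodule.span A (Set.range fun i => (f i : A)) := by
      rw [← Ideal.span, hs]; exact hx
    obtain ⟨c, hc⟩ := (Submodule.mem_span_range_iff_exists_fun A).1 hx'
    have : (⟨x, hx⟩ : I) = ∑ i, c i • f i := by
      apply Subtype.ext; simp [← hc]
    rw [this, map_sum]
    refine Submodule.sum_mem _ fun i _ => ?_
    rw [map_smul, ← IsScalarTower.algebraMap_smul (A ⧸ I)]
    exact Submodule.smul_mem _ _ (Submodule.subset_span ⟨i, rfl⟩)


/-- a) iff c) (affine local form): let A be a local ring and I a proper ideal generated by some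
quasi-regular sequence. For a finite family (f_i) of elements of I, the following are equivalent:
(a) (f_i) is a quasi-regular sequence generating I; (c) the classes of the f_i form a basis of the
A/I-module I/I² (equivalently, b): (f_i) is a minimal system of generators of I). -/
theorem result {A : Type u} [CommRing A] [IsLocalRing A]
    (I : Ideal A) (hI : I ≤ IsLocalRing.maximalIdeal A)
    (hq : ∃ (r : ℕ) (g : Fin r → A), CAlgX.IsQuasiRegular g ∧ Ideal.span (Set.range g) = I)
    {m : ℕ} (f : Fin m → I) :
    (CAlgX.IsQuasiRegular (fun i => (f i : A)) ∧ Ideal.span (Set.range fun i => (f i : A)) = I) ↔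
      (LinearIndependent (A ⧸ I) (fun i => I.toCotangent (f i)) ∧
        Submodule.span (A ⧸ I) (Set.range fun i => I.toCotangent (f i)) = ⊤) := by
  refine ⟨fun h => basis_of_qr I f h.1 h.2, fun ⟨hli, hsp⟩ => ?_⟩
  obtain ⟨r, g, hg, hgI⟩ := hq
  have hle : Ideal.span (Set.range fun i => (f i : A)) ≤ I :=
    Ideal.span_le.2 (by rintro _ ⟨i, rfl⟩; exact (f i).2)
  have hspan : Ideal.span (Set.range fun i => (f i : A)) = I := by
    refine le_antisymm hle (Submodule.le_of_le_smul_of_le_jacobson_bot ?_
      (hI.trans (IsLocalRing.maximalIdeal_le_jacobson _)) ?_)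
    · rw [← hgI]; exact Submodule.fg_span (Set.finite_range g)
    · intro x hx
      have h1 : I.toCotangent ⟨x, hx⟩ ∈ Submodule.span (A ⧸ I) (Set.range fun i => I.toCotangent (f i)) := by
        rw [hsp]; trivial
      obtain ⟨c, hc⟩ := (Submodule.mem_span_range_iff_exists_fun _).1 h1
      choose a ha using fun i => Ideal.Quotient.mk_surjective (c i)
      have h2 : I.toCotangent (∑ i, a i • f i) = I.toCotangent ⟨x, hx⟩ := by
        rw [map_sum, ← hc]
        exact Finset.sum_congr rfl fun i _ => by rw [map_smul, ← ha i]; rfl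
      rw [Ideal.toCotangent_eq, AddSubmonoidClass.coe_finsetSum] at h2
      have h3 : (∑ i, a i * (f i : A)) ∈ Ideal.span (Set.range fun i => (f i : A)) :=
        Ideal.sum_mem _ fun i _ => Ideal.mul_mem_left _ _ (Ideal.subset_span ⟨i, rfl⟩)
      rw [← sub_sub_cancel (∑ i, a i * (f i : A)) x, sub_eq_add_neg]
      refine Submodule.add_mem_sup h3 (neg_mem ?_)
      rw [smul_eq_mul, ← pow_two]
      exact h2
  haveI : Nontrivial (A ⧸ I) :=
    Ideal.Quotient.nontrivial_iff.2 fun h => (IsLocalRing.maximalIdeal.isMaximal A).ne_top (top_le_iff.1 (h ▸ hI))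
  obtain ⟨h1, h2⟩ := basis_of_qr I (fun i => (⟨g i, hgI ▸ Ideal.subset_span ⟨i, rfl⟩⟩ : I)) hg hgI
  obtain rfl : m = r := by
    simpa using Fintype.card_congr ((Module.Basis.mk hli hsp.ge).indexEquiv (Module.Basis.mk h1 h2.ge))
  exact ⟨LinType.isQuasiRegular_of_span_eq g _ hg (hspan.trans hgI.symm), hspan⟩


end Groth.Agent.S3825
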