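import Groth.Statements.S3828
import Groth.Agent.RegPow.Basic

set_option autoImplicit false
universe u
open QReg16

namespace Groth.Agent.S3828

/-- Let A be a Noetherian ring, J an ideal of A, and f_1, …, f_r elements of A forming a weakly regular
sequence on A/J (each f_i a nonzerodivisor on A/(J + (f_1, …, f_{i−1}))) and generating an ideal R
contained in the Jacobson radical of A; put Q = J + R. Then J ∩ Rⁿ = J·Rⁿ for every n > 0, and J ∩
Q² = J·Q (equivalently, the canonical map J/JQ → Q/Q² is injective). -/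
theorem result {A : Type u} [CommRing A] [IsNoetherianRing A] (J : Ideal A)
    {r : ℕ} (f : Fin r → A) (hf : RingTheory.Sequence.IsWeaklyRegular (A ⧸ J) (List.ofFn f))
    (hrad : Ideal.span (Set.range f) ≤ (⊥ : Ideal A).jacobson) :
    (∀ n : ℕ, 0 < n → J ⊓ Ideal.span (Set.range f) ^ n = J * Ideal.span (Set.range f) ^ n) ∧
      J ⊓ (J ⊔ Ideal.span (Set.range f)) ^ 2 = J * (J ⊔ Ideal.span (Set.range f)) := by
  have h := RegPow.inter_pow_eq_mul (RegPow.of_isWeaklyRegular J hf)
  refine ⟨fun n _ => h n, ?_⟩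
  set I := Ideal.span (Set.range f)
  refine le_antisymm ?_ (le_inf Ideal.mul_le_left ?_)
  · rintro x ⟨hxJ, hx⟩
    rw [SetLike.mem_coe, sq, Ideal.sup_mul] at hx
    obtain ⟨a, ha, b, hb, rfl⟩ := Submodule.mem_sup.1 hx
    rw [Ideal.mul_sup] at hb
    obtain ⟨c, hc, d, hd, rfl⟩ := Submodule.mem_sup.1 hb
    have hc' : c ∈ J * (J ⊔ I) := by
      rw [mul_comm I J] at hc
      exact Ideal.mul_mono le_rfl le_sup_right hc
    have hdJ : d ∈ J := by
      have := J.sub_mem (J.sub_mem hxJ (Ideal.mul_le_left ha : a ∈ J)) (Ideal.mul_le_left hc' : c ∈ J)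
      simpa using this
    have h1 : d ∈ J ⊓ I ^ 2 := ⟨hdJ, by rw [SetLike.mem_coe, sq]; exact hd⟩
    rw [h 2] at h1
    refine Ideal.add_mem _ ha (Ideal.add_mem _ hc' (Ideal.mul_mono le_rfl ?_ h1))
    exact (Ideal.pow_le_self two_ne_zero).trans le_sup_right
  · rw [sq]; exact Ideal.mul_mono le_sup_left le_rfl


end Groth.Agent.S3828
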