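import Groth.Statements.S3835
import Groth.Agent.SchDenseLib.FlatLFP
import Groth.Agent.SchDenseLib.Hom
import Mathlib.AlgebraicGeometry.Morphisms.UniversallyOpen

set_option autoImplicit false
universe u
open CategoryTheory CategoryTheory.Limits AlgebraicGeometry TopologicalSpace
open Rat20

namespace Groth.Agent.S3835

/-- Let Y be separated over S, X an S-scheme with a schematically dense open subscheme U, h : U → Y an
S-morphism (a representative of a pseudo-morphism from X to Y over S), and f : X' → X a flat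
morphism locally of finite presentation, X' being regarded as an S-scheme through f. Let x' be a
point of X' with image x = f(x'). If there is an S-morphism from an open neighbourhood V' of x' to Y
agreeing with h ∘ f on f⁻¹(U) ∩ V' (the pulled-back pseudo-morphism is defined at x'), then there is
an S-morphism from an open neighbourhood V of x to Y agreeing with h on U ∩ V (the pseudo-morphism
is defined at x). -/
theorem result {X X' Y S : Scheme.{u}} (pX : X ⟶ S) (pY : Y ⟶ S)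
    [IsSeparated pY] (U : X.Opens) (hU : CInt.IsSchematicallyDense U) (h : (U : Scheme.{u}) ⟶ Y)
    (hh : h ≫ pY = U.ι ≫ pX) (f : X' ⟶ X) [Flat f] [LocallyOfFinitePresentation f] (x' : ↥X')
    (V' : X'.Opens) (hx' : x' ∈ V') (v' : (V' : Scheme.{u}) ⟶ Y) (hv'S : v' ≫ pY = V'.ι ≫ f ≫ pX)
    (hv' : X'.homOfLE (inf_le_right : f ⁻¹ᵁ U ⊓ V' ≤ V') ≫ v' =
      X'.homOfLE (inf_le_left : f ⁻¹ᵁ U ⊓ V' ≤ f ⁻¹ᵁ U) ≫ (f ∣_ U) ≫ h) :
    ∃ (V : X.Opens) (v : (V : Scheme.{u}) ⟶ Y), f x' ∈ V ∧ v ≫ pY = V.ι ≫ pX ∧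
      X.homOfLE (inf_le_right : U ⊓ V ≤ V) ≫ v = X.homOfLE (inf_le_left : U ⊓ V ≤ U) ≫ h := by
  let V : X.Opens := ⟨f '' (V' : Set X'), f.isOpenMap _ V'.isOpen⟩
  have hle : V' ≤ f ⁻¹ᵁ V := fun y hy => ⟨y, hy, rfl⟩
  let f' : (V' : Scheme.{u}) ⟶ V := X'.homOfLE hle ≫ f ∣_ V
  have : LocallyOfFinitePresentation (f ∣_ V) :=
    MorphismProperty.of_isPullback (isPullback_morphismRestrict f V).flip inferInstance
  have hfι : f' ≫ V.ι = V'.ι ≫ f := by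
    simp only [f', Category.assoc, morphismRestrict_ι, Scheme.homOfLE_ι_assoc]
  have : Surjective f' := ⟨fun y => by
    obtain ⟨y', hy', hyy⟩ := (y.2 : y.1 ∈ f '' (V' : Set X'))
    refine ⟨⟨y', hy'⟩, V.ι.isOpenEmbedding.injective ?_⟩
    exact (congrArg (fun m : (V' : Scheme.{u}) ⟶ X => m ⟨y', hy'⟩) hfι).trans hyy⟩
  let UV : (V : Scheme.{u}).Opens := V.ι ⁻¹ᵁ U
  have hUV : CInt.IsSchematicallyDense UV := Groth.Agent.SchDenseLib.preimage_of_flat_lfp V.ι U hU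
  have : Surjective (f' ∣_ UV) := IsZariskiLocalAtTarget.restrict ‹_› UV
  have hlf' : LocallyOfFinitePresentation f' := inferInstance
  have : LocallyOfFinitePresentation (f' ∣_ UV) :=
    MorphismProperty.of_isPullback (isPullback_morphismRestrict f' UV).flip hlf'
  have hdense : CInt.IsSchematicallyDense ((CategoryTheory.Limits.pullback.fst f' f') ⁻¹ᵁ (f' ⁻¹ᵁ UV)) := by
    rw [← Scheme.Hom.comp_preimage]
    exact Groth.Agent.SchDenseLib.preimage_of_flat_lfp _ UV hUV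
  let j : ((f' ⁻¹ᵁ UV : (V' : Scheme.{u}).Opens) : Scheme.{u}) ⟶ (f ⁻¹ᵁ U ⊓ V' : X'.Opens) :=
    IsOpenImmersion.lift (f ⁻¹ᵁ U ⊓ V' : X'.Opens).ι ((f' ⁻¹ᵁ UV).ι ≫ V'.ι) (by
      rintro _ ⟨y, rfl⟩
      rw [Scheme.Opens.range_ι]
      refine ⟨?_, y.1.2⟩
      show f (V'.ι y.1) ∈ U
      have h1 : V.ι (f' y.1) ∈ U := y.2
      rwa [show V.ι (f' y.1) = f (V'.ι y.1) from congrArg (fun m : (V' : Scheme.{u}) ⟶ X => m y.1) hfι] at h1)
  have hjι : j ≫ (f ⁻¹ᵁ U ⊓ V' : X'.Opens).ι = (f' ⁻¹ᵁ UV).ι ≫ V'.ι := IsOpenImmersion.lift_fac _ _ _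
  have hg' : (f' ⁻¹ᵁ UV).ι ≫ v' = (f' ∣_ UV) ≫ (V.ι ∣_ U) ≫ h := by
    have h1 : (f' ⁻¹ᵁ UV).ι = j ≫ X'.homOfLE (inf_le_right : f ⁻¹ᵁ U ⊓ V' ≤ V') := by
      rw [← cancel_mono V'.ι, Category.assoc, Scheme.homOfLE_ι, hjι]
    have h2 : j ≫ X'.homOfLE (inf_le_left : f ⁻¹ᵁ U ⊓ V' ≤ f ⁻¹ᵁ U) ≫ f ∣_ U =
        (f' ∣_ UV) ≫ (V.ι ∣_ U) := by
      rw [← cancel_mono U.ι]
      simp only [Category.assoc, morphismRestrict_ι, Scheme.homOfLE_ι_assoc, reassoc_of% hjι]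
      rw [morphismRestrict_ι_assoc, hfι]
    rw [h1, Category.assoc, hv']
    simpa only [Category.assoc] using congrArg (· ≫ h) h2
  obtain ⟨v, hv, hvS⟩ := Groth.Agent.SchDenseLib.extends_of_effectiveEpi (V.ι ≫ pX) pY f' UV hdense
    ((V.ι ∣_ U) ≫ h) v' (by rw [hv'S, reassoc_of% hfι]) hg'
  refine ⟨V, v, ⟨x', hx', rfl⟩, hvS, ?_⟩
  let k : ((U ⊓ V : X.Opens) : Scheme.{u}) ⟶ UV :=
    IsOpenImmersion.lift UV.ι (X.homOfLE (inf_le_right : U ⊓ V ≤ V)) (by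
      rintro _ ⟨y, rfl⟩
      rw [Scheme.Opens.range_ι]
      show V.ι (X.homOfLE (inf_le_right : U ⊓ V ≤ V) y) ∈ U
      have : V.ι (X.homOfLE (inf_le_right : U ⊓ V ≤ V) y) = (U ⊓ V).ι y :=
        congrArg (fun m : ((U ⊓ V : X.Opens) : Scheme.{u}) ⟶ X => m y) (Scheme.homOfLE_ι _ _)
      rw [this]; exact y.2.1)
  have hk : k ≫ UV.ι = X.homOfLE (inf_le_right : U ⊓ V ≤ V) := IsOpenImmersion.lift_fac _ _ _
  have hk' : k ≫ (V.ι ∣_ U) = X.homOfLE (inf_le_left : U ⊓ V ≤ U) := by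
    rw [← cancel_mono U.ι, Category.assoc, morphismRestrict_ι, reassoc_of% hk]
    simp
  rw [← hk, Category.assoc, hv, ← Category.assoc, hk']

end Groth.Agent.S3835
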