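import Groth.Statements.S3837
import Groth.Agent.Rat20Lib.Graph
import Mathlib.AlgebraicGeometry.Morphisms.UniversallyOpen
import Mathlib.AlgebraicGeometry.Morphisms.ClosedImmersion

set_option autoImplicit false
universe u
open CategoryTheory CategoryTheory.Limits AlgebraicGeometry TopologicalSpace
open Rat20

namespace Groth.Agent.S3837

/-- Let X be a normal S-scheme (locally integral with integrally closed local rings), Y an S-scheme
locally of finite type and separated over S, h : U → Y an S-morphism on a dense open subset (a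
rational S-map ω), and f : X' → X a morphism locally of finite type and universally open with X'
reduced, so that f⁻¹(U) is dense and ω ∘ f is defined. Then for x' in X' with image x, ω is defined
at x if and only if ω ∘ f is defined at x': some S-morphism on an open neighbourhood of x agrees
with h on U if and only if some S-morphism on an open neighbourhood of x' agrees with h ∘ f on the
preimage of U. -/
theorem result {X X' Y S : Scheme.{u}} (pX : X ⟶ S) (pY : Y ⟶ S)
    [LocallyOfFiniteType pY] [IsSeparated pY] (hX : ∀ y : ↥X, ∃ W : X.Opens, y ∈ W ∧ IsIntegral (W : Scheme.{u}))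
    (hXn : ∀ y : ↥X, IsIntegrallyClosed (X.presheaf.stalk y))
    (U : X.Opens) (hU : Dense (U : Set ↥X)) (h : (U : Scheme.{u}) ⟶ Y) (hh : h ≫ pY = U.ι ≫ pX)
    (f : X' ⟶ X) [LocallyOfFiniteType f] [UniversallyOpen f] [IsReduced X'] (x' : ↥X') :
    (∃ (V : X.Opens) (v : (V : Scheme.{u}) ⟶ Y), f x' ∈ V ∧ v ≫ pY = V.ι ≫ pX ∧
        X.homOfLE (inf_le_right : U ⊓ V ≤ V) ≫ v = X.homOfLE (inf_le_left : U ⊓ V ≤ U) ≫ h) ↔
      ∃ (V' : X'.Opens) (v' : (V' : Scheme.{u}) ⟶ Y), x' ∈ V' ∧ v' ≫ pY = V'.ι ≫ f ≫ pX ∧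
        X'.homOfLE (inf_le_right : f ⁻¹ᵁ U ⊓ V' ≤ V') ≫ v' =
          X'.homOfLE (inf_le_left : f ⁻¹ᵁ U ⊓ V' ≤ f ⁻¹ᵁ U) ≫ (f ∣_ U) ≫ h := by
  constructor
  · rintro ⟨V, v, hxV, hvS, hv⟩
    refine ⟨f ⁻¹ᵁ V, (f ∣_ V) ≫ v, hxV, ?_, ?_⟩
    · rw [Category.assoc, hvS, morphismRestrict_ι_assoc]
    · let k := X'.homOfLE (le_of_eq (by ext; rfl) : f ⁻¹ᵁ U ⊓ f ⁻¹ᵁ V ≤ f ⁻¹ᵁ (U ⊓ V)) ≫ (f ∣_ (U ⊓ V))
      have h1 : X'.homOfLE (inf_le_right : f ⁻¹ᵁ U ⊓ f ⁻¹ᵁ V ≤ f ⁻¹ᵁ V) ≫ (f ∣_ V) =
          k ≫ X.homOfLE inf_le_right := by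
        rw [← cancel_mono V.ι]
        simp only [k, Category.assoc, morphismRestrict_ι, Scheme.homOfLE_ι_assoc, Scheme.homOfLE_ι]
      have h2 : X'.homOfLE (inf_le_left : f ⁻¹ᵁ U ⊓ f ⁻¹ᵁ V ≤ f ⁻¹ᵁ U) ≫ (f ∣_ U) =
          k ≫ X.homOfLE inf_le_left := by
        rw [← cancel_mono U.ι]
        simp only [k, Category.assoc, morphismRestrict_ι, Scheme.homOfLE_ι_assoc, Scheme.homOfLE_ι]
      rw [reassoc_of% h1, hv, reassoc_of% h2]
  · rintro ⟨V', v', hx', hv'S, hv'⟩
    obtain ⟨W₀, hxW₀, hW₀⟩ := hX (f x')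
    have hh' : U.ι ≫ pX = h ≫ pY := hh.symm
    let γ := pullback.lift U.ι h hh'
    let L : (V' : Scheme.{u}) ⟶ pullback pX pY := pullback.lift (V'.ι ≫ f) v' (by rw [hv'S, Category.assoc])
    let p' := pullback.fst f (pullback.fst pX pY)
    let q := pullback.snd f (pullback.fst pX pY)
    let G : (V' : Scheme.{u}) ⟶ pullback f (pullback.fst pX pY) :=
      pullback.lift V'.ι L (pullback.lift_fst (V'.ι ≫ f) v' _).symm
    have hGp : G ≫ p' = V'.ι := pullback.lift_fst _ _ _
    have hGq : G ≫ q = L := pullback.lift_snd _ _ _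
    let x₀ : (V' : Scheme.{u}) := ⟨x', hx'⟩
    have hL : ∀ w : (V' : Scheme.{u}), w.1 ∈ f ⁻¹ᵁ U → L w ∈ Set.range γ := by
      intro w hw
      let w' : ((f ⁻¹ᵁ U ⊓ V' : X'.Opens) : Scheme.{u}) := ⟨w.1, hw, w.2⟩
      have e : X'.homOfLE (inf_le_right : f ⁻¹ᵁ U ⊓ V' ≤ V') ≫ L =
          X'.homOfLE (inf_le_left : f ⁻¹ᵁ U ⊓ V' ≤ f ⁻¹ᵁ U) ≫ (f ∣_ U) ≫ γ := by
        apply pullback.hom_ext
        · simp only [L, γ, Category.assoc, pullback.lift_fst, morphismRestrict_ι, Scheme.homOfLE_ι_assoc]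
        · simp only [L, γ, Category.assoc, pullback.lift_snd, hv']
      refine ⟨(f ∣_ U) (X'.homOfLE inf_le_left w'), ?_⟩
      have e2 := congrArg (fun m : ((f ⁻¹ᵁ U ⊓ V' : X'.Opens) : Scheme.{u}) ⟶ pullback pX pY => m w') e
      have e3 : X'.homOfLE (inf_le_right : f ⁻¹ᵁ U ⊓ V' ≤ V') w' = w :=
        V'.ι.isOpenEmbedding.injective
          (congrArg (fun m : ((f ⁻¹ᵁ U ⊓ V' : X'.Opens) : Scheme.{u}) ⟶ X' => m w') (Scheme.homOfLE_ι _ _))
      rw [← e3]
      exact e2.symm
    have hfd : Dense ((f ⁻¹ᵁ U : X'.Opens) : Set X') := hU.preimage f.isOpenMap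
    refine Groth.Agent.Rat20Lib.extends_of_isolated pX pY W₀ U hU h hh' (f x') hxW₀ (hXn _)
      (L x₀) ?_ ?_ ⟨⊤, ?_⟩
    · exact congrArg (fun m : (V' : Scheme.{u}) ⟶ X => m x₀) (pullback.lift_fst (V'.ι ≫ f) v' _)
    · have h1 : x₀ ∈ closure (V'.ι ⁻¹' ((f ⁻¹ᵁ U : X'.Opens) : Set X')) := by
        rw [(hfd.preimage V'.ι.isOpenEmbedding.isOpenMap).closure_eq]; trivial
      refine closure_mono ?_ (image_closure_subset_closure_image L.continuous ⟨x₀, h1, rfl⟩)
      rintro _ ⟨w, hw, rfl⟩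
      exact hL w hw
    · refine Set.Subset.antisymm ?_ ?_
      · rintro z₁ ⟨⟨-, hz₁⟩, hz₁x⟩
        obtain ⟨y, hyp, hyq⟩ := Scheme.Pullback.exists_preimage_pullback (f := f)
          (g := pullback.fst pX pY) x' z₁ hz₁x.symm
        have hsub : (p' ⁻¹ᵁ V' : Set _) ∩ q ⁻¹' Set.range γ ⊆ Set.range G := by
          rintro y₁ ⟨hy₁V, hy₁γ⟩
          rw [← Scheme.Pullback.range_fst] at hy₁γ
          obtain ⟨c, rfl⟩ := hy₁γ
          let P := (pullback.fst q γ) ⁻¹ᵁ (p' ⁻¹ᵁ V')
          let a := P.ι ≫ pullback.fst q γ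
          let b := P.ι ≫ pullback.snd q γ
          have hab : a ≫ q = b ≫ γ := by simp only [a, b, Category.assoc, pullback.condition]
          let d := IsOpenImmersion.lift V'.ι (a ≫ p') (by
            rw [Scheme.Opens.range_ι]; rintro _ ⟨i, rfl⟩; exact i.2)
          have hd : d ≫ V'.ι = a ≫ p' := IsOpenImmersion.lift_fac _ _ _
          have hU' : a ≫ p' ≫ f = b ≫ U.ι := by
            have := congrArg (· ≫ pullback.fst pX pY) hab
            simp only [Category.assoc, γ, pullback.lift_fst] at this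
            rw [← this, ← pullback.condition]
          let d₂ := IsOpenImmersion.lift (f ⁻¹ᵁ U ⊓ V' : X'.Opens).ι (a ≫ p') (by
            rw [Scheme.Opens.range_ι]; rintro _ ⟨i, rfl⟩
            refine ⟨?_, i.2⟩
            show f ((a ≫ p') i) ∈ U
            have hi : f ((a ≫ p') i) = U.ι (b i) :=
              congrArg (fun m : (P : Scheme.{u}) ⟶ X => m i) hU'
            rw [hi]; exact (b i).2)
          have hd₂ : d₂ ≫ (f ⁻¹ᵁ U ⊓ V' : X'.Opens).ι = a ≫ p' := IsOpenImmersion.lift_fac _ _ _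
          have hd₂V : d₂ ≫ X'.homOfLE (inf_le_right : f ⁻¹ᵁ U ⊓ V' ≤ V') = d := by
            rw [← cancel_mono V'.ι, Category.assoc, Scheme.homOfLE_ι, hd₂, hd]
          have hd₂U : d₂ ≫ X'.homOfLE (inf_le_left : f ⁻¹ᵁ U ⊓ V' ≤ f ⁻¹ᵁ U) ≫ (f ∣_ U) = b := by
            rw [← cancel_mono U.ι]
            simp only [Category.assoc, morphismRestrict_ι, Scheme.homOfLE_ι_assoc]
            rw [reassoc_of% hd₂, hU']
          have key : d ≫ G = a := by
            apply pullback.hom_ext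
            · rw [Category.assoc, show G ≫ pullback.fst f _ = V'.ι from hGp, hd]
            · rw [Category.assoc, show G ≫ pullback.snd f _ = L from hGq]
              refine Eq.trans ?_ hab.symm
              apply pullback.hom_ext
              · simp only [L, γ, Category.assoc, pullback.lift_fst]
                rw [reassoc_of% hd, hU']
              · simp only [L, γ, Category.assoc, pullback.lift_snd]
                rw [← hd₂V, Category.assoc, hv', reassoc_of% hd₂U]
          exact ⟨d ⟨c, hy₁V⟩,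
            congrArg (fun m : (P : Scheme.{u}) ⟶ pullback f (pullback.fst pX pY) => m ⟨c, hy₁V⟩) key⟩
        let O := p' ⁻¹ᵁ V'
        let G' := IsOpenImmersion.lift O.ι G (by
          rw [Scheme.Opens.range_ι]; rintro _ ⟨w, rfl⟩
          show p' (G w) ∈ V'
          rw [show p' (G w) = V'.ι w from congrArg (fun m : (V' : Scheme.{u}) ⟶ X' => m w) hGp]
          exact w.2)
        have hG' : G' ≫ O.ι = G := IsOpenImmersion.lift_fac _ _ _
        have hG'p : G' ≫ (p' ∣_ V') = 𝟙 _ := by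
          rw [← cancel_mono V'.ι, Category.assoc, morphismRestrict_ι, reassoc_of% hG', hGp, Category.id_comp]
        have hsep : IsSeparated p' := inferInstance
        have : IsSeparated (p' ∣_ V') :=
          MorphismProperty.of_isPullback (isPullback_morphismRestrict p' V').flip hsep
        have : IsClosedImmersion (G' ≫ (p' ∣_ V')) := by rw [hG'p]; infer_instance
        have hG'c : IsClosedImmersion G' := IsClosedImmersion.of_comp G' (p' ∣_ V')
        have hyV : y ∈ O := show p' y ∈ V' by rw [show p' y = x' from hyp]; exact hx'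
        have hy1 : y ∈ closure (q ⁻¹' Set.range γ) := by
          refine q.isOpenMap.preimage_closure_subset_closure_preimage ?_
          show q y ∈ closure (Set.range γ)
          rw [show q y = z₁ from hyq]; exact hz₁
        have hy2 : y ∈ closure (Set.range G) := closure_mono hsub (O.isOpen.inter_closure ⟨hyV, hy1⟩)
        have hy3 : (⟨y, hyV⟩ : O) ∈ closure (Set.range G') := by
          rw [O.ι.isOpenEmbedding.toIsInducing.closure_eq_preimage_closure_image]
          refine closure_mono ?_ hy2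
          rintro _ ⟨w, rfl⟩
          exact ⟨G' w, ⟨w, rfl⟩, congrArg (fun m : (V' : Scheme.{u}) ⟶ _ => m w) hG'⟩
        rw [G'.isClosedEmbedding.isClosed_range.closure_eq] at hy3
        obtain ⟨w, hw⟩ := hy3
        have hwy : G w = y :=
          (congrArg (fun m : (V' : Scheme.{u}) ⟶ _ => m w) hG').symm.trans (congrArg Subtype.val hw)
        have hw0 : w = x₀ := V'.ι.isOpenEmbedding.injective
          (((congrArg (fun m : (V' : Scheme.{u}) ⟶ X' => m w) hGp).symm.trans
            (show p' (G w) = x' by rw [hwy]; exact hyp)))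
        show z₁ = L x₀
        rw [← hyq, ← hwy, hw0]
        exact congrArg (fun m : (V' : Scheme.{u}) ⟶ _ => m x₀) hGq
      · rintro _ rfl
        refine ⟨⟨trivial, ?_⟩, congrArg (fun m : (V' : Scheme.{u}) ⟶ X => m x₀) (pullback.lift_fst (V'.ι ≫ f) v' _)⟩
        have h1 : x₀ ∈ closure (V'.ι ⁻¹' ((f ⁻¹ᵁ U : X'.Opens) : Set X')) := by
          rw [(hfd.preimage V'.ι.isOpenEmbedding.isOpenMap).closure_eq]; trivial
        refine closure_mono ?_ (image_closure_subset_closure_image L.continuous ⟨x₀, h1, rfl⟩)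
        rintro _ ⟨w, hw, rfl⟩
        exact hL w hw

end Groth.Agent.S3837
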