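import Groth.Statements.S3839
import Groth.Agent.H23.CartierFlatNormal
-- import your own Groth.Agent.* helpers here

set_option autoImplicit false
universe u
open CategoryTheory CategoryTheory.Limits AlgebraicGeometry TopologicalSpace
open Div21

namespace Groth.Agent.S3839

/-- Case of effective divisors: let f : X → Y be a faithfully flat morphism between locally Noetherian
schemes, with f quasi-compact or open; assume Y is normal and that the fibre X_y is integral
whenever y is a point of Y whose local ring has dimension 1. An effective Cartier divisor D' on X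
with ideal sheaf 𝓙 is then the pullback of some effective Cartier divisor on Y if and only if, at
each maximal point η of Y, the pullback of D' to the fibre X_η is zero (its ideal is the unit
ideal). -/
theorem result {X Y : Scheme.{u}} [IsLocallyNoetherian X]
    [IsLocallyNoetherian Y] (f : X ⟶ Y) [Flat f] [Surjective f] (hf : QuasiCompact f ∨ IsOpenMap f)
    (hY : Pi1.IsNormalScheme Y)
    (hfib : ∀ y : ↥Y, ringKrullDim ↑(Y.presheaf.stalk y) = 1 → IsIntegral (f.fiber y))
    (𝓙 : X.IdealSheafData) (hJ : BlowUp.IsEffCartierIdeal 𝓙) :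
    (∃ 𝓘 : Y.IdealSheafData, BlowUp.IsEffCartierIdeal 𝓘 ∧ 𝓘.comap f = 𝓙) ↔
      ∀ η : ↥Y, (∀ z : ↥Y, z ⤳ η → z = η) → 𝓙.comap (f.fiberι η) = ⊤ := by
  
  constructor
  · rintro ⟨𝓘, h𝓘, rfl⟩ η hη
    refine H23.CartierFlatNormal.comap_fiberι_eq_top f _ fun x hx => ?_
    subst hx
    rw [H23.StalkIdeal.sI_comap, H23.CartierFlatNormal.eq_top_of_max hY h𝓘 hη, Ideal.map_top]
  · intro h
    have h1 : ∀ x : X, (∀ z, z ⤳ f x → z = f x) → H23.StalkIdeal.sI 𝓙 x = ⊤ := fun x hx => by
      have := H23.CartierFlatNormal.sI_top_of_fibre f 𝓙 (f.asFiber x) (h _ hx)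
      rwa [Scheme.Hom.fiberι_asFiber] at this
    refine H23.CartierFlatNormal.exists_descent_normal hY hJ h1 hf fun y hy => ?_
    haveI := hfib y hy
    have hmax : ∀ z : ↥(f.fiber y), AssLib.DepthZero ((f.fiber y).presheaf.stalk z) →
        z = genericPoint ↥(f.fiber y) := fun z ⟨e, he0, he⟩ => by
      refine ((AssLib.dimZero_iff z).1 (fun P hP => ?_) _ (genericPoint_specializes z)).symm
      refine le_antisymm (IsLocalRing.le_maximalIdeal hP.ne_top) fun r hr => ?_
      rw [(mul_eq_zero.1 (he r hr)).resolve_right he0]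
      exact P.zero_mem
    refine ⟨fun z hz z' _ hz' => (hmax z' hz').trans (hmax z hz).symm, ?_⟩
    let w₀ : ↥(f.fiber y) := genericPoint ↥(f.fiber y)
    haveI := (hY (f (f.fiberι y w₀))).1
    haveI := (hY (f (f.fiberι y w₀))).2
    haveI := CDiv6.isDVR_of_dim_eq_one (Y.presheaf.stalk (f (f.fiberι y w₀)))
      (by rw [FlatDvr.fiberι_apply_eq]; exact hy)
    obtain ⟨n, hn⟩ := H23.CartierFlatNormal.exists_pow (f := f) hJ w₀
      fun w' hw' => (hw'.antisymm (genericPoint_specializes w')).eq
    refine ⟨n, fun w hw => ?_⟩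
    obtain rfl : w₀ = w := hw _ (genericPoint_specializes w)
    exact hn


end Groth.Agent.S3839
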