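import Groth.Statements.S3841
import Groth.Agent.H23.PrincipalGlobal
-- import your own Groth.Agent.* helpers here

set_option autoImplicit false
universe u
open CategoryTheory CategoryTheory.Limits AlgebraicGeometry TopologicalSpace
open Div21

namespace Groth.Agent.S3841

/-- Let X be a Noetherian (locally Noetherian and quasi-compact) integral scheme; points of codimension
1 are the points of coheight 1 in the specialization order. The following are equivalent. (1) For
every point ζ of codimension 1 there is a global section g of O_X cutting out the closure of ζ with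
its reduced structure: at each specialization x of ζ the ideal of that closure in O_{X,x} (the prime
ideal of O_{X,x} corresponding to ζ, the preimage of the maximal ideal of O_{X,ζ}) is generated by
the germ of g, and g is invertible at the points outside the closure. (2) X is normal and every
prime cycle of codimension 1 is principal: for every point x₀ of codimension 1 there is a nonzero
rational function with order of vanishing 1 at x₀ and 0 at every other point of codimension 1. (3)
Every local ring of X is a unique factorisation domain and every invertible O_X-module is trivial.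
(4) X is normal and for every open subset U of X every invertible O_U-module is trivial. (The
published statement assumes X only locally Noetherian; quasi-compactness, which its published proof
uses, is added here.) -/
theorem result (X : Scheme.{u}) [IsIntegral X]
    [IsLocallyNoetherian X] [CompactSpace X] :
    List.TFAE [
      ∀ ζ : ↥X, Order.coheight ζ = 1 → ∃ g : Γ(X, ⊤),
        (∀ (x : ↥X) (h : ζ ⤳ x),
          (IsLocalRing.maximalIdeal ↑(X.presheaf.stalk ζ)).comap (X.presheaf.stalkSpecializes h).hom =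
            Ideal.span {X.presheaf.germ ⊤ x trivial g}) ∧
        ∀ x : ↥X, ¬ ζ ⤳ x → IsUnit (X.presheaf.germ ⊤ x trivial g),
      Pi1.IsNormalScheme X ∧ ∀ x₀ : ↥X, Order.coheight x₀ = 1 → ∃ f : ↑X.functionField, f ≠ 0 ∧
        Scheme.ord f x₀ = 1 ∧ ∀ x : ↥X, x ≠ x₀ → Order.coheight x = 1 → Scheme.ord f x = 0,
      (∀ x : ↥X, UniqueFactorizationMonoid ↑(X.presheaf.stalk x)) ∧
        ∀ L : X.Modules, PicF.IsInvertible L → Nonempty (L ≅ Coh.structureModule X),
      Pi1.IsNormalScheme X ∧ ∀ (U : X.Opens) (L : (U : Scheme.{u}).Modules),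
        PicF.IsInvertible L → Nonempty (L ≅ Coh.structureModule (U : Scheme.{u}))] := by
  classical
  have hs : ∀ z₀ : ↥X, ∀ f : ↑X.functionField, (Scheme.ord f z₀ = 1 ∧
      ∀ z : ↥X, z ≠ z₀ → Order.coheight z = 1 → Scheme.ord f z = 0) → ∀ z : ↥X, Order.coheight z = 1 →
      Groth.Agent.H23.PrincipalAt.single z₀ z = Scheme.ord f z := by
    rintro z₀ f ⟨h1, h2⟩ z hz
    by_cases e : z = z₀
    · subst e; rw [Groth.Agent.H23.PrincipalAt.single, if_pos rfl, h1]
    · rw [Groth.Agent.H23.PrincipalAt.single, if_neg e, h2 z e hz]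
  have hs' : ∀ z₀ : ↥X, Order.coheight z₀ = 1 → ∀ f : ↑X.functionField,
      (∀ z : ↥X, Order.coheight z = 1 → Groth.Agent.H23.PrincipalAt.single z₀ z = Scheme.ord f z) →
      Scheme.ord f z₀ = 1 ∧ ∀ z : ↥X, z ≠ z₀ → Order.coheight z = 1 → Scheme.ord f z = 0 :=
    fun z₀ h₀ f h => ⟨by rw [← h z₀ h₀, Groth.Agent.H23.PrincipalAt.single, if_pos rfl],
      fun z hne hz => by rw [← h z hz, Groth.Agent.H23.PrincipalAt.single, if_neg hne]⟩
  tfae_have 1 → 3 := fun h =>
    ⟨Groth.Agent.H23.PrincipalGlobal.ufd_of_hasEquations h,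
      Groth.Agent.H23.PrincipalGlobal.picTrivial_of_hasEquations h⟩
  tfae_have 3 → 2 := fun ⟨hU, hP⟩ => ⟨Groth.Agent.H23.PrincipalGlobal.normal_of_ufd hU, fun z₀ h₀ => by
    obtain ⟨f, hf, hfz⟩ := Groth.Agent.H23.PrincipalGlobal.exists_ord_single_of_trivial hU hP z₀ h₀
    exact ⟨f, hf, hs' z₀ h₀ f hfz⟩⟩
  tfae_have 2 → 1 := fun ⟨hX, h⟩ =>
    Groth.Agent.H23.PrincipalGlobal.hasEquations_of_ord_single hX fun z₀ h₀ => by
      obtain ⟨f, hf, hfz⟩ := h z₀ h₀
      exact ⟨f, hf, hs z₀ f hfz⟩
  tfae_have 1 → 4 := fun h => ⟨Groth.Agent.H23.PrincipalGlobal.normal_of_ufd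
      (Groth.Agent.H23.PrincipalGlobal.ufd_of_hasEquations h),
    Groth.Agent.H23.PrincipalGlobal.open_picTrivial h⟩
  tfae_have 4 → 2 := fun ⟨hX, hP⟩ => ⟨hX, fun z₀ h₀ => by
    obtain ⟨f, hf, hfz⟩ := Groth.Agent.H23.PrincipalGlobal.exists_ord_single_of_open_trivial hX hP z₀
    exact ⟨f, hf, hs' z₀ h₀ f hfz⟩⟩
  tfae_finish

end Groth.Agent.S3841
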