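import Groth.Statements.S3842
import Groth.Agent.SchDenseLib.Basic
import Mathlib.AlgebraicGeometry.Properties

set_option autoImplicit false
universe u
open CategoryTheory CategoryTheory.Limits AlgebraicGeometry TopologicalSpace
open Rat20

namespace Groth.Agent.S3842

/-- For the open subset U = X; the general case is the same statement over the open subscheme U: let f :
X' → X be a morphism of schemes with X' reduced, suppose the irreducible components of X form a
locally finite family and that every irreducible component of X' dominates an irreducible component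
of X (the closure of its image is an irreducible component of X). Then for every schematically dense
open subset V of X, the preimage f⁻¹(V) is schematically dense in X'. -/
theorem result {X X' : Scheme.{u}} (f : X' ⟶ X) [IsReduced X']
    (hfin : ∀ x : ↥X, ∃ W : X.Opens, x ∈ W ∧ {Z ∈ irreducibleComponents ↥X | (Z ∩ (W : Set ↥X)).Nonempty}.Finite)
    (hdom : ∀ Z' ∈ irreducibleComponents ↥X', closure (f '' Z') ∈ irreducibleComponents ↥X)
    (V : X.Opens) (hV : CInt.IsSchematicallyDense V) : CInt.IsSchematicallyDense (f ⁻¹ᵁ V) := by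
  have hVd : Dense (V : Set ↥X) := by
    rw [dense_iff_inter_open]
    rintro O hO ⟨y, hy⟩
    by_contra hne
    rw [Set.not_nonempty_iff_eq_empty] at hne
    have h0 : (1 : Γ(X, ⟨O, hO⟩)) = 0 := (Groth.Agent.SchDenseLib.iff_eq_zero V).1 hV ⟨O, hO⟩ 1
      (Groth.Agent.SchDenseLib.eq_zero_of_germ _ fun z hz => absurd (hne ▸ (⟨hz.1, hz.2⟩ : z ∈ O ∩ (V : Set ↥X))) (Set.notMem_empty z))
    have := congrArg (X.presheaf.germ ⟨O, hO⟩ y hy).hom h0
    rw [map_one, map_zero] at this
    exact one_ne_zero this
  have hgen : ∀ η : ↥X, closure {η} ∈ irreducibleComponents ↥X → η ∈ V := by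
    intro η hη
    obtain ⟨W, hηW, hWfin⟩ := hfin η
    let others := {Z ∈ irreducibleComponents ↥X | (Z ∩ (W : Set ↥X)).Nonempty} \ {closure {η}}
    have hcl : IsClosed (⋃₀ others) := by
      rw [Set.sUnion_eq_biUnion]
      exact hWfin.sdiff.isClosed_biUnion fun Z hZ => isClosed_of_mem_irreducibleComponents Z hZ.1.1
    have hη' : η ∈ (W : Set ↥X) \ ⋃₀ others := by
      refine ⟨hηW, ?_⟩
      rintro ⟨Z, hZ, hηZ⟩
      have hle : closure {η} ⊆ Z :=
        (isClosed_of_mem_irreducibleComponents Z hZ.1.1).closure_subset_iff.2 (Set.singleton_subset_iff.2 hηZ)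
      exact hZ.2 (le_antisymm (hη.2 hZ.1.1.1 hle) hle)
    obtain ⟨y, ⟨hyW, hyo⟩, hyV⟩ := hVd.inter_open_nonempty _ (W.isOpen.sdiff hcl) ⟨η, hη'⟩
    have hy : y ∈ closure {η} := by
      by_contra hy
      refine hyo ⟨irreducibleComponent y, ⟨⟨irreducibleComponent_mem_irreducibleComponents y,
        y, mem_irreducibleComponent, hyW⟩, ?_⟩, mem_irreducibleComponent⟩
      intro he
      exact hy (he ▸ mem_irreducibleComponent)
    exact (specializes_iff_mem_closure.2 hy).mem_open V.isOpen hyV
  refine Groth.Agent.SchDenseLib.of_local _ fun O x hx => ⟨O, le_rfl, hx, fun b hb => ?_⟩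
  rw [← AlgebraicGeometry.basicOpen_eq_bot_iff]
  by_contra hne
  obtain ⟨y, hy⟩ : ((X'.basicOpen b : X'.Opens) : Set ↥X').Nonempty :=
    Set.nonempty_iff_ne_empty.2 fun he => hne (TopologicalSpace.Opens.ext he)
  let η' := (isIrreducible_irreducibleComponent (x := y)).genericPoint
  have hη' : closure {η'} = irreducibleComponent y :=
    ((isIrreducible_irreducibleComponent (x := y)).isGenericPoint_genericPoint isClosed_irreducibleComponent)
  have hη'b : η' ∈ X'.basicOpen b :=
    (specializes_iff_mem_closure.2 (hη' ▸ mem_irreducibleComponent : y ∈ closure {η'})).mem_open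
      (X'.basicOpen b).isOpen hy
  have hfη : f η' ∈ V := by
    refine hgen _ ?_
    have h1 := hdom _ (irreducibleComponent_mem_irreducibleComponents y)
    rwa [← hη', closure_image_closure f.continuous, Set.image_singleton] at h1
  have h2 := congrArg (X'.presheaf.germ (O ⊓ f ⁻¹ᵁ V) η' ⟨X'.basicOpen_le b hη'b, hfη⟩).hom hb
  rw [map_zero] at h2
  erw [X'.presheaf.germ_res_apply] at h2
  exact not_isUnit_zero (h2 ▸ (X'.mem_basicOpen b η' (X'.basicOpen_le b hη'b)).1 hη'b)

end Groth.Agent.S3842
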