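import Groth.Statements.S3849
import Groth.Agent.Rat20Lib.Criterion
import Mathlib.AlgebraicGeometry.Morphisms.QuasiFinite

set_option autoImplicit false
universe u
open CategoryTheory CategoryTheory.Limits AlgebraicGeometry TopologicalSpace
open Rat20

namespace Groth.Agent.S3849

/-- In the case S = X (sections of q : Y → X): let X be a locally Noetherian scheme, q : Y → X
separated, locally of finite type and locally quasi-finite, U a dense open subset of X, h : U → Y a
section of q over U, and x a point of X outside U whose local ring is an integrally closed domain.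
Then h extends to a section of q over an open subset containing U and x if and only if there exist a
discrete valuation ring R, a morphism u : Spec R → X sending the closed point to x and the generic
point into U, and a morphism Spec R → Y over X agreeing with h at the generic point. -/
theorem result {X Y : Scheme.{u}} [IsLocallyNoetherian X] (q : Y ⟶ X)
    [LocallyOfFiniteType q] [IsSeparated q] [LocallyQuasiFinite q] (U : X.Opens) (hU : Dense (U : Set ↥X))
    (h : (U : Scheme.{u}) ⟶ Y) (hh : h ≫ q = U.ι) (x : ↥X) (hxU : x ∉ U) [IsDomain ↑(X.presheaf.stalk x)]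
    (hx : IsIntegrallyClosed ↑(X.presheaf.stalk x)) :
    (∃ (U' : X.Opens) (hUU' : U ≤ U') (h' : (U' : Scheme.{u}) ⟶ Y),
        x ∈ U' ∧ h' ≫ q = U'.ι ∧ X.homOfLE hUU' ≫ h' = h) ↔
      ∃ (R : Type u) (_ : CommRing R) (_ : IsDomain R) (_ : IsDiscreteValuationRing R)
        (u : Spec (CommRingCat.of R) ⟶ X) (ub : Spec (CommRingCat.of (FractionRing R)) ⟶ (U : Scheme.{u}))
        (h₁ : Spec (CommRingCat.of R) ⟶ Y),
        u (IsLocalRing.closedPoint R) = x ∧
          ub ≫ U.ι = Spec.map (CommRingCat.ofHom (algebraMap R (FractionRing R))) ≫ u ∧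
          h₁ ≫ q = u ∧ Spec.map (CommRingCat.ofHom (algebraMap R (FractionRing R))) ≫ h₁ = ub ≫ h := by
  obtain ⟨W, hW, hxW, hdom, hN⟩ := Groth.Agent.Rat20Lib.exists_noetherian_domain_nhd x
  constructor
  · rintro ⟨U', hUU', h', hxU', hh', hres⟩
    obtain ⟨w, hwW, hwU⟩ := hU.inter_open_nonempty _ W.isOpen ⟨x, hxW⟩
    let pt : Spec (CommRingCat.of (FractionRing Γ(X, W))) := ⟨⊥, Ideal.isPrime_bot⟩
    have hgU : Groth.Agent.Rat20Lib.genPt hW pt ∈ U :=
      (Groth.Agent.Rat20Lib.genPt_specializes hW pt hwW).mem_open U.isOpen hwU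
    obtain ⟨R, i1, i2, i3, u, ub, hu, hub, -⟩ := Groth.Agent.Rat20Lib.exists_dvr_point hW hxW U hgU
      (Groth.Agent.Rat20Lib.genPt_specializes hW pt hxW) (fun e => hxU (e ▸ hgU))
    let u' := IsOpenImmersion.lift U'.ι u (by
      rw [Scheme.Opens.range_ι]
      exact Groth.Agent.Rat20Lib.range_subset_of_closedPoint u (hu ▸ hxU'))
    have hu' : u' ≫ U'.ι = u := IsOpenImmersion.lift_fac _ _ _
    refine ⟨R, i1, i2, i3, u, ub, u' ≫ h', hu, hub, by rw [Category.assoc, hh', hu'], ?_⟩
    have h1 : Spec.map (CommRingCat.ofHom (algebraMap R (FractionRing R))) ≫ u' = ub ≫ X.homOfLE hUU' := by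
      rw [← cancel_mono U'.ι, Category.assoc, Category.assoc, hu', Scheme.homOfLE_ι, hub]
    rw [reassoc_of% h1, hres]
  · rintro ⟨R, i1, i2, i3, u, ub, h₁, hu, hub, hq, hgen⟩
    let y₀ := h₁ (IsLocalRing.closedPoint R)
    have hy₀ : q y₀ = x :=
      (congrArg (fun m : Spec (CommRingCat.of R) ⟶ X => m (IsLocalRing.closedPoint R)) hq).trans hu
    have : IsAffine (W : Scheme.{u}) := hW
    have : IsDomain Γ((W : Scheme.{u}), ⊤) := W.topIso.commRingCatIsoToRingEquiv.toMulEquiv.isDomain
    have : Nonempty (W : Scheme.{u}) := ⟨⟨x, hxW⟩⟩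
    have : IsIntegral (W : Scheme.{u}) := isIntegral_of_isAffine_of_isDomain _
    have hh' : U.ι ≫ 𝟙 X = h ≫ q := by rw [Category.comp_id, hh]
    let e : Y ⟶ pullback (𝟙 X) q := pullback.lift q (𝟙 Y) (by simp)
    have he : h ≫ e = pullback.lift U.ι h hh' := by
      apply pullback.hom_ext
      · exact (Category.assoc _ _ _).trans
          (((congrArg (h ≫ ·) (pullback.lift_fst q (𝟙 Y) _)).trans hh).trans (pullback.lift_fst U.ι h hh').symm)
      · exact (Category.assoc _ _ _).trans
          (((congrArg (h ≫ ·) (pullback.lift_snd q (𝟙 Y) _)).trans (Category.comp_id h)).trans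
            (pullback.lift_snd U.ι h hh').symm)
    have he2 : e ≫ pullback.snd (𝟙 X) q = 𝟙 Y := pullback.lift_snd _ _ _
    have hes : pullback.snd (𝟙 X) q (e y₀) = y₀ := congrArg (fun m : Y ⟶ Y => m y₀) he2
    have hzx : pullback.fst (𝟙 X) q (e y₀) = x :=
      (congrArg (fun m : Y ⟶ X => m y₀) (pullback.lift_fst q (𝟙 Y) _)).trans hy₀
    have hzc : e y₀ ∈ closure (Set.range (pullback.lift U.ι h hh')) := by
      let pt : Spec (CommRingCat.of (FractionRing R)) := ⟨⊥, Ideal.isPrime_bot⟩
      have h1 : h₁ (Spec.map (CommRingCat.ofHom (algebraMap R (FractionRing R))) pt) ⤳ y₀ :=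
        ((PrimeSpectrum.le_iff_specializes _ (IsLocalRing.closedPoint R)).1
          (IsLocalRing.le_maximalIdeal (PrimeSpectrum.isPrime _).ne_top)).map h₁.continuous
      have h2 : h₁ (Spec.map (CommRingCat.ofHom (algebraMap R (FractionRing R))) pt) = h (ub pt) :=
        congrArg (fun m : Spec (CommRingCat.of (FractionRing R)) ⟶ Y => m pt) hgen
      rw [h2] at h1
      refine closure_mono ?_ (specializes_iff_mem_closure.1 (h1.map e.continuous))
      rintro _ rfl
      exact ⟨ub pt, congrArg (fun m : (U : Scheme.{u}) ⟶ _ => m (ub pt)) he.symm⟩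
    obtain ⟨O, hO, hOy⟩ : ∃ O : Set Y, IsOpen O ∧ O ∩ q ⁻¹' {x} = {y₀} := by
      obtain ⟨O, hO, hO'⟩ := isDiscrete_iff_forall_mem_exists_isOpen.1 (q.isDiscrete_preimage_singleton x) y₀ hy₀
      exact ⟨O, hO, hO'⟩
    obtain ⟨V, v, hxV, hvq, hv⟩ := Groth.Agent.Rat20Lib.extends_of_isolated (𝟙 X) q W U hU h hh' x hxW hx
      (e y₀) hzx hzc ⟨pullback.snd (𝟙 X) q ⁻¹ᵁ ⟨O, hO⟩, by
        refine Set.Subset.antisymm ?_ ?_
        · rintro z ⟨⟨hzO, -⟩, hz⟩
          have h3 : pullback.snd (𝟙 X) q z = y₀ := by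
            refine hOy.le ⟨hzO, ?_⟩
            have := congrArg (fun m : pullback (𝟙 X) q ⟶ X => m z) (pullback.condition (f := 𝟙 X) (g := q))
            exact this.symm.trans hz
          exact (pullback.snd (𝟙 X) q).isOpenEmbedding.injective (h3.trans hes.symm)
        · rintro _ rfl
          refine ⟨⟨?_, hzc⟩, hzx⟩
          show pullback.snd (𝟙 X) q (e y₀) ∈ O
          rw [hes]; exact (hOy.ge rfl).1⟩
    rw [Category.comp_id] at hvq
    obtain ⟨F, hF1, hF2⟩ := Groth.Agent.Rat20Lib.exists_glue U V h v hv.symm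
    refine ⟨U ⊔ V, le_sup_left, F, Or.inr hxV, ?_, hF1⟩
    refine Groth.Agent.Rat20Lib.hom_ext_sup _ _ ?_ ?_
    · rw [reassoc_of% hF1, hh, Scheme.homOfLE_ι]
    · rw [reassoc_of% hF2, hvq, Scheme.homOfLE_ι]

end Groth.Agent.S3849
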