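import Groth.Statements.S3851
import Groth.Agent.CplKaehler4.CTensorTfae
-- import your own Groth.Agent.* helpers here

set_option autoImplicit false
universe u
open scoped TensorProduct
open EGA418

namespace Groth.Agent.S3851

/-- a) iff a') iff b), and b) implies d): let k be a field, A a complete Noetherian local k-algebra
whose residue field is finite over k, p a non-maximal prime of A, n the largest dimension of an
irreducible component of Spec A containing p, and Ω̂ the completion of the module of differentials
of A over k for the topology of the maximal ideal. For a field extension k' of k write A' = A ⊗̂_k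
k' (the completion of A ⊗_k k' for the extension of the maximal ideal). The following are
equivalent: (a) for every extension k' and every prime p' of A' over p, A'_{p'} is regular; (a') for
some perfect extension k' and some prime p' of A' over p, A'_{p'} is regular; (b) Ω̂_p is a free
A_p-module of rank n. Moreover (b) implies (d): A_p is geometrically regular over k. (The converse
of the last implication, valid when [k : k^p] is finite, is not stated.) -/
theorem result (k A : Type u) [Field k] [CommRing A]
    [IsLocalRing A] [IsNoetherianRing A] [Algebra k A] [IsAdicComplete (IsLocalRing.maximalIdeal A) A]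
    [Module.Finite k (IsLocalRing.ResidueField A)] (p : Ideal A) [p.IsPrime] (hp : p ≠ IsLocalRing.maximalIdeal A)
    (n : ℕ) (hn₁ : ∀ q ∈ minimalPrimes A, q ≤ p → ringKrullDim (A ⧸ q) ≤ n)
    (hn₂ : ∃ q ∈ minimalPrimes A, q ≤ p ∧ ringKrullDim (A ⧸ q) = n) :
    List.TFAE [
      ∀ (k' : Type u) [Field k'] [Algebra k k']
        (p' : Ideal (AdicCompletion ((IsLocalRing.maximalIdeal A).map
          (Algebra.TensorProduct.includeLeft : A →ₐ[k] A ⊗[k] k')) (A ⊗[k] k'))) [p'.IsPrime],
        (p'.comap (algebraMap (A ⊗[k] k') _)).comap
            (Algebra.TensorProduct.includeLeft : A →ₐ[k] A ⊗[k] k').toRingHom = p →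
          IsRegularLocalRing (Localization.AtPrime p'),
      ∃ (k' : Type u) (_ : Field k') (_ : Algebra k k') (_ : PerfectField k')
        (p' : Ideal (AdicCompletion ((IsLocalRing.maximalIdeal A).map
          (Algebra.TensorProduct.includeLeft : A →ₐ[k] A ⊗[k] k')) (A ⊗[k] k'))) (_ : p'.IsPrime),
        (p'.comap (algebraMap (A ⊗[k] k') _)).comap
            (Algebra.TensorProduct.includeLeft : A →ₐ[k] A ⊗[k] k').toRingHom = p ∧
          IsRegularLocalRing (Localization.AtPrime p'),
      Module.Free (Localization.AtPrime p)
          (LocalizedModule p.primeCompl (AdicCompletion (IsLocalRing.maximalIdeal A) (KaehlerDifferential k A))) ∧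
        Module.finrank (Localization.AtPrime p)
          (LocalizedModule p.primeCompl (AdicCompletion (IsLocalRing.maximalIdeal A) (KaehlerDifferential k A))) = n] ∧
    ((Module.Free (Localization.AtPrime p)
          (LocalizedModule p.primeCompl (AdicCompletion (IsLocalRing.maximalIdeal A) (KaehlerDifferential k A))) ∧
        Module.finrank (Localization.AtPrime p)
          (LocalizedModule p.primeCompl (AdicCompletion (IsLocalRing.maximalIdeal A) (KaehlerDifferential k A))) = n) →
      CAlg.IsGeometricallyRegular k (Localization.AtPrime p)) := by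
  classical
  have hJ : ∀ (k' : Type u) [Field k'] [Algebra k k'],
      ((IsLocalRing.maximalIdeal A).map (Algebra.TensorProduct.includeLeft : A →ₐ[k] A ⊗[k] k')) =
        EGA4.cTensorIdeal k A k' := fun k' _ _ =>
    (Groth.Agent.CplKaehler4.cTensorIdeal_field k A k').symm
  refine ⟨?_, fun h => Groth.Agent.CplKaehler4.geomRegular_of_free p n hp hn₁ hn₂ h⟩
  tfae_have 1 → 2 := by
    intro h
    let K := AlgebraicClosure k
    have key : ∀ J : Ideal (A ⊗[k] K), J = EGA4.cTensorIdeal k A K →
        ∃ (p' : Ideal (AdicCompletion J (A ⊗[k] K))) (_ : p'.IsPrime),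
          p'.comap ((algebraMap (A ⊗[k] K) _).comp (algebraMap A (A ⊗[k] K))) = p := by
      intro J hJ
      subst hJ
      obtain ⟨p', i, hp'⟩ := Groth.Agent.CplKaehler4.exists_prime_over k A K p
      refine ⟨p', i, ?_⟩
      rw [← IsScalarTower.algebraMap_eq]
      exact hp'
    obtain ⟨p', i, hp'⟩ := key _ (hJ K)
    refine ⟨K, inferInstance, inferInstance, inferInstance, p', i, ?_⟩
    haveI := i
    have e := (Ideal.comap_comap _ _).trans hp'
    exact ⟨e, h K p' e⟩
  tfae_have 2 → 3 := by
    rintro ⟨K, i1, i2, i3, p', i4, hp', hreg⟩
    exact Groth.Agent.CplKaehler4.free_of_regular (k := k) (A := A) K p n hn₁ hn₂ _ (hJ K) p'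
      (by rw [← Ideal.comap_comap]; exact hp') hreg
  tfae_have 3 → 1 := by
    intro h K _ _ p' _ hp'
    exact Groth.Agent.CplKaehler4.regular_of_free (k := k) (A := A) K p n hp hn₁ hn₂ h _ (hJ K) p'
      (by rw [← Ideal.comap_comap]; exact hp')
  tfae_finish

end Groth.Agent.S3851
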