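import Groth.Statements.S3855
import Groth.Agent.FComplLib.Spf
-- import your own Groth.Agent.* helpers here

set_option autoImplicit false
universe u
open FCompl

namespace Groth.Agent.S3855

open AlgebraicGeometry in
/-- Sufficiency (the formal spectrum presented as the system Spec(A/J) -> Spec(A/J^2) -> ...). For a
Noetherian ring A and an ideal J this system is a locally Noetherian adic formal system: the
transition maps are surjective closed immersions, the kernel ideal of Spec(A/J^(n+1)) ->
Spec(A/J^(n+2)) is the (n+1)-st power of that of Spec(A/J) -> Spec(A/J^(n+2)), and every level is
locally Noetherian. -/
theorem result (A : Type u) [CommRing A] [IsNoetherianRing A] (J : Ideal A) :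
    (FSch.spf A J).IsLocNoethFormal := by
    exact FComplLib.isLocNoethFormal_spf A J

end Groth.Agent.S3855
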