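import Groth.Statements.S3856
import Groth.Agent.LocalCrit.Complete


set_option autoImplicit false
universe u
open AdicRing

namespace Groth.Agent.S3856

/-- Let A be a ring that is complete and separated for the J-adic topology of an ideal J. If A/J² is
Noetherian (equivalently, A/J is Noetherian and J/J² is a finitely generated A/J-module), then A is
Noetherian. The published statement is phrased for a formal spectrum Spf(A) all of whose levels
Spec(A/J^(n+1)) are Noetherian; it is stated here with the weaker hypothesis that A/J² is
Noetherian. -/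
theorem result (A : Type u) [CommRing A]
    (J : Ideal A) [IsAdicComplete J A] [IsNoetherianRing (A ⧸ J ^ 2)] : IsNoetherianRing A := by
  classical
  have h := IsNoetherian.noetherian (J.map (Ideal.Quotient.mk (J ^ 2)))
  obtain ⟨r, g, hg⟩ := Submodule.fg_iff_exists_fin_generating_family.mp h
  have hg' : ∀ i, ∃ a ∈ J, Ideal.Quotient.mk (J ^ 2) a = g i := fun i =>
    (Ideal.mem_map_iff_of_surjective _ Ideal.Quotient.mk_surjective).mp
      (hg ▸ Submodule.subset_span ⟨i, rfl⟩)
  choose f hfJ hfg using hg'
  have hJ : J ≤ Ideal.span (Set.range f) ⊔ J ^ 2 := by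
    intro x hx
    have : Ideal.Quotient.mk (J ^ 2) x ∈ (Ideal.span (Set.range f)).map (Ideal.Quotient.mk (J ^ 2)) := by
      rw [Ideal.map_span, ← Set.range_comp, show Ideal.Quotient.mk (J ^ 2) ∘ f = g from funext hfg,
        Ideal.span, hg]
      exact Ideal.mem_map_of_mem _ hx
    rwa [Ideal.mem_quotient_iff_mem_sup] at this
  have hle : J ^ 2 ≤ J := Ideal.pow_le_self two_ne_zero
  have : IsNoetherianRing (A ⧸ J) :=
    isNoetherianRing_of_surjective _ _ (Ideal.Quotient.factor hle) (Ideal.Quotient.factor_surjective hle)
  exact LocalCrit.isNoetherianRing_of_isAdicComplete J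
    (LocalCrit.fg_of_isAdicComplete_of_le_sup_sq J f hfJ hJ)

end Groth.Agent.S3856
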