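import Groth.Statements.S3860
import Groth.Agent.FComplLib.SpfMap
-- import your own Groth.Agent.* helpers here

set_option autoImplicit false
universe u
open FCompl

namespace Groth.Agent.S3860

open AlgebraicGeometry in
/-- (Affine adic case; the formal spectra presented as the systems Spec(A/I^(n+1)) and Spec(B/K^(n+1)).)
Let I be an ideal of a ring A which is complete and separated for the I-adic topology, and K an
ideal of a ring B. Then φ ↦ (Spec of the induced maps B/K^(n+1) -> A/I^(n+1)) is a bijection from
the ring homomorphisms φ : B -> A with φ(K) ⊆ I onto the morphisms of systems from Spf(A) to Spf(B),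
i.e. the compatible families of morphisms Spec(A/I^(n+1)) -> Spec(B/K^(n+1)). -/
theorem result (A B : Type u) [CommRing A] [CommRing B] (I : Ideal A) (K : Ideal B)
    [IsAdicComplete I A] :
    Function.Bijective (fun φ : {φ : B →+* A // K ≤ I.comap φ} ↦ FSch.spfMap I K φ.1 φ.2) := by
    refine ⟨fun φ ψ h => Subtype.ext (FComplLib.spfMap_injective I K φ.1 ψ.1 φ.2 ψ.2 h), fun f => ?_⟩
    obtain ⟨φ, hφ, h⟩ := FComplLib.spfMap_surjective I K f
    exact ⟨⟨φ, hφ⟩, h⟩

end Groth.Agent.S3860
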