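import Groth.Statements.S3863
import Groth.Agent.FComplLib.AffSysCompl
-- import your own Groth.Agent.* helpers here

set_option autoImplicit false
universe u
open FCompl

namespace Groth.Agent.S3863

open AlgebraicGeometry in
open CategoryTheory in
/-- The formal spectrum of A is presented as the system of closed subschemes of Spec A cut out by the
powers of J, and for an A-module M the system of modules M^Δ is the family of pullbacks of the sheaf
M̃ associated to M to these subschemes, with its canonical transition isomorphisms. Let A be a
Noetherian ring, complete and separated for the J-adic topology, and M, N finite A-modules. Then u ↦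
u^Δ is a bijection from Hom_A(M, N) onto the set of morphisms of systems of modules M^Δ → N^Δ. -/
theorem result (A : Type u) [CommRing A] [IsNoetherianRing A]
    (J : Ideal A) [IsAdicComplete J A] (M N : ModuleCat.{u} A) [Module.Finite A M] [Module.Finite A N] :
    Function.Bijective (fun u : M ⟶ N ↦
      FSch.complModMap (FSch.idealSpec A J) ((tilde.functor (CommRingCat.of A)).map u)) := by
    obtain ⟨hinj, hsurj⟩ := (FComplLib.complData A J).bijective_map M N
    have key : ∀ {S T : FSch.ModSys _}, (FComplLib.complData A J).sys M = S → (FComplLib.complData A J).sys N = T →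
        ∀ φ : S ⟶ T, ∃ u : M ⟶ N, ∀ n, HEq
          ((Scheme.Modules.pullback ((FComplLib.complData A J).p n)).map ((tilde.functor (CommRingCat.of A)).map u))
          ((φ : FSch.ModSys.Hom _ _).app n) := by
      rintro _ _ rfl rfl φ
      obtain ⟨u, hu⟩ := hsurj φ
      exact ⟨u, fun n => heq_of_eq (hu n)⟩
    refine ⟨fun u v h => hinj u v fun n x => ?_, fun φ => ?_⟩
    · have h' := congrArg (fun t : FSch.ModSys.Hom _ _ => t.app n) h
      refine ((FComplLib.complData A J).sec_naturality M u n x).symm.trans
        (Eq.trans ?_ ((FComplLib.complData A J).sec_naturality M v n x))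
      exact congrArg (fun t => Scheme.Modules.Hom.app t ⊤ ((FComplLib.complData A J).sec M n x)) h'
    · obtain ⟨u, hu⟩ := key (FComplLib.sys_complData A J M) (FComplLib.sys_complData A J N) φ
      exact ⟨u, FSch.ModSys.Hom.ext (funext fun n => eq_of_heq (hu n))⟩

end Groth.Agent.S3863
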