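import Groth.Statements.S3867
import Groth.Agent.FComplLib.SpfMap
-- import your own Groth.Agent.* helpers here

set_option autoImplicit false
universe u
open FCompl

namespace Groth.Agent.S3867

open AlgebraicGeometry in
/-- Formal spectra are presented as the systems Spec(A/I^(n+1)) and Spec(B/K^(n+1)), a morphism of
systems being adic when all its squares are cartesian. Let A be a Noetherian ring, complete and
separated for the I-adic topology of an ideal I, K an ideal of a ring B and φ : B → A a ring
homomorphism with φ(K) ⊆ I. Then the induced morphism Spf(A) → Spf(B) is adic if and only if the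
ideal of A generated by φ(K) is I. -/
theorem result (A B : Type u) [CommRing A] [CommRing B] [IsNoetherianRing A]
    (I : Ideal A) (K : Ideal B) [IsAdicComplete I A] (φ : B →+* A) (h : K ≤ I.comap φ) :
    FSch.IsAdicHom (FSch.spfMap I K φ h) ↔ K.map φ = I := by
    exact FComplLib.isAdicHom_spfMap_iff I K φ h

end Groth.Agent.S3867
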