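import Groth.Statements.S3873
import Groth.Agent.ModPairLib.Basic
-- import your own Groth.Agent.* helpers here

set_option autoImplicit false
universe u
open FCompl

namespace Groth.Agent.S3873

open AlgebraicGeometry in
/-- Its content on the affine schemes underlying the formal spectra: the inverse image ideal of b^Δ is
(bA)^Δ, read on Spec: For a ring homomorphism φ : B -> A and an ideal b of B, the inverse image
along Spec(φ) of the ideal sheaf of b on Spec B is the ideal sheaf on Spec A of the ideal generated
by φ(b). -/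
theorem result (A B : Type u) [CommRing A] [CommRing B] (φ : B →+* A) (𝔟 : Ideal B) :
    (FSch.idealSpec B 𝔟).comap (Spec.map (CommRingCat.ofHom φ)) = FSch.idealSpec A (𝔟.map φ) := by
  apply Scheme.IdealSheafData.ext_of_isAffine
  rw [ModPairLib.comap_ideal_affine]
  have key : ∀ (R : Type u) [CommRing R] (I : Ideal R), (FSch.idealSpec R I).ideal ⟨⊤, isAffineOpen_top _⟩ =
      I.map (Scheme.ΓSpecIso (CommRingCat.of R)).inv.hom := by
    intro R _ I
    rw [FSch.idealSpec, Scheme.Hom.ker_apply]
    rw [show RingHom.ker ((Spec.map (CommRingCat.ofHom (Ideal.Quotient.mk I))).app ⊤).hom =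
      (RingHom.ker (Ideal.Quotient.mk I)).map (Scheme.ΓSpecIso (CommRingCat.of R)).inv.hom from ?_, Ideal.mk_ker]
    have hb : Function.Bijective (Scheme.ΓSpecIso (CommRingCat.of R)).inv.hom :=
      (Scheme.ΓSpecIso (CommRingCat.of R)).symm.commRingCatIsoToRingEquiv.bijective
    have hb' : Function.Injective (Scheme.ΓSpecIso (CommRingCat.of (R ⧸ I))).inv.hom :=
      (Scheme.ΓSpecIso (CommRingCat.of (R ⧸ I))).symm.commRingCatIsoToRingEquiv.injective
    refine le_antisymm (fun z hz => ?_) (Ideal.map_le_iff_le_comap.2 fun a ha => ?_)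
    · obtain ⟨a, rfl⟩ := hb.2 z
      refine Ideal.mem_map_of_mem _ ?_
      rw [RingHom.mem_ker] at hz ⊢
      refine hb' ?_
      rw [map_zero]
      have h := congrArg (fun g => g.hom a) (Scheme.ΓSpecIso_inv_naturality (CommRingCat.ofHom (Ideal.Quotient.mk I)))
      simp only [CommRingCat.hom_comp, RingHom.comp_apply, CommRingCat.hom_ofHom] at h
      exact h.trans hz
    · rw [Ideal.mem_comap, RingHom.mem_ker]
      have h := congrArg (fun g => g.hom a) (Scheme.ΓSpecIso_inv_naturality (CommRingCat.ofHom (Ideal.Quotient.mk I)))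
      simp only [CommRingCat.hom_comp, RingHom.comp_apply, CommRingCat.hom_ofHom] at h
      rw [show Ideal.Quotient.mk I a = 0 from ha, map_zero] at h
      exact h.symm
  rw [key, key, Ideal.map_map, Ideal.map_map]
  congr 1
  have h := congrArg CommRingCat.Hom.hom (Scheme.ΓSpecIso_inv_naturality (CommRingCat.ofHom φ))
  simp only [CommRingCat.hom_comp, CommRingCat.hom_ofHom] at h
  exact h.symm

end Groth.Agent.S3873
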