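import Groth.Statements.S3874
import Groth.Agent.FComplLib.AwayQuot
-- import your own Groth.Agent.* helpers here

set_option autoImplicit false
universe u
open FCompl

namespace Groth.Agent.S3874

/-- Let A be a Noetherian ring, J an ideal, f ∈ A and n ≥ 0, and let A_{f} be the completion of the
localization A_f for the topology defined by the extension of J. There is a ring isomorphism from
the localization of A/J^(n+1) away from the class of f onto A_{f} modulo the (n+1)-st power of the
extension of J to A_{f}, compatible with the canonical maps from A (and hence unique). In terms of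
formal spectra: the open D(f) of Spf(A) is Spf(A_{f}), and at level n its ring is the ring
(A/J^(n+1))_f of the open D(f) of Spec(A/J^(n+1)). -/
theorem result (A : Type u) [CommRing A] [IsNoetherianRing A] (J : Ideal A)
    (f : A) (n : ℕ) :
    ∃ e : Localization.Away (Ideal.Quotient.mk (J ^ (n + 1)) f) ≃+*
        FSch.cAway A J f ⧸ (J.map (algebraMap A (FSch.cAway A J f))) ^ (n + 1),
      ∀ a : A, e (algebraMap (A ⧸ J ^ (n + 1)) _ (Ideal.Quotient.mk (J ^ (n + 1)) a)) =
        Ideal.Quotient.mk _ (algebraMap A (FSch.cAway A J f) a) := by
    exact FComplLib.exists_ringEquiv_cAway A J f n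

end Groth.Agent.S3874
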