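import Groth.Statements.S3876
import Groth.Agent.ToposFinLib.Algebraic2

set_option autoImplicit false
set_option backward.isDefEq.respectTransparency false
set_option backward.isDefEq.respectTransparency.types false
open CategoryTheory CategoryTheory.Limits Opposite
universe u
open ToposFin

namespace Groth.Agent.S3876

/-- Let E be the topos of sheaves on a small site, assumed algebraic (E admits a generating set of
quasi-compact objects stable under fibre products and equalizers), and let K be a coherent object of
E. Then for every q the functor F ↦ H^q(K, F) on abelian sheaves (Ext groups out of the free abelian
sheaf on K) preserves colimits indexed by any small filtered category. -/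
theorem result {C : Type u} [SmallCategory C]
    {J : GrothendieckTopology C} (hE : ToposFin.IsAlgebraic J) (K : ToposFin.Sh J) (hK : ToposFin.IsCoherent K)
    (Λ : Type u) [SmallCategory Λ] [IsFiltered Λ] (q : ℕ) :
    PreservesColimitsOfShape Λ (ToposFin.HKFunctor K q) := by
  open Groth.Agent.ToposFinLib in
  exact ⟨fun {D} => (comm_of_algebraic hE hK q D).preservesColimit⟩

end Groth.Agent.S3876
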