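import Groth.Statements.S3877
import Groth.Agent.ToposFinLib.Algebraic2

set_option autoImplicit false
set_option backward.isDefEq.respectTransparency false
set_option backward.isDefEq.respectTransparency.types false
open CategoryTheory CategoryTheory.Limits Opposite
universe u
open ToposFin

namespace Groth.Agent.S3877

/-- Let E be the topos of sheaves on a small site and assume E is coherent, i.e. an algebraic topos
whose final object is coherent. Then for every q the functor F ↦ H^q(E, F) on abelian sheaves (Ext
groups out of the constant sheaf Z) preserves colimits indexed by any small filtered category. -/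
theorem result {C : Type u} [SmallCategory C]
    {J : GrothendieckTopology C} (hE : ToposFin.IsAlgebraic J) (hT : ToposFin.IsCoherent (⊤_ (ToposFin.Sh J)))
    (Λ : Type u) [SmallCategory Λ] [IsFiltered Λ] (q : ℕ) :
    PreservesColimitsOfShape Λ (Sheaf.functorH J q : Sheaf J AddCommGrpCat.{u} ⥤ AddCommGrpCat.{u}) := by
  open Groth.Agent.ToposFinLib in
  haveI h : PreservesColimitsOfShape Λ ((Abelian.extFunctor.{u} q).obj
      (Opposite.op ((constantSheaf J AddCommGrpCat.{u}).obj (AddCommGrpCat.of (ULift.{u} ℤ))))) :=
    ⟨fun {D} => ((comm_of_algebraic hE hT q D).of_iso nonempty_freeSh_terminal_iso_const.some).preservesColimit⟩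
  exact preservesColimitsOfShape_of_natIso (NatIso.ofComponents (fun F => Iso.refl _) (fun {F G} f => by
    ext x
    rfl) : (Abelian.extFunctor.{u} q).obj
      (Opposite.op ((constantSheaf J AddCommGrpCat.{u}).obj (AddCommGrpCat.of (ULift.{u} ℤ)))) ≅ Sheaf.functorH J q)

end Groth.Agent.S3877
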