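import Groth.Statements.S3878
import Groth.Agent.ToposFinLib.Algebraic2
import Groth.Agent.SiteBase.Rpush
import Groth.Agent.SiteBase.HKRep

set_option autoImplicit false
set_option backward.isDefEq.respectTransparency false
set_option backward.isDefEq.respectTransparency.types false
open CategoryTheory CategoryTheory.Limits Opposite
universe u
open ToposFin

namespace Groth.Agent.S3878

/-- Let (C, J) and (D, K) be small sites and u : D ⥤ C a continuous functor, giving a morphism of topoi
whose direct image on sheaves is F ↦ F ∘ u, with right derived functors R^q on abelian sheaves.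
Assume that the topos of sheaves on (C, J) is algebraic and that for every object V of D the sheaf
on C attached to u(V), which is the inverse image of the sheaf attached to V, is coherent. Then for
every q the higher direct image functor R^q on abelian sheaves preserves colimits indexed by any
small filtered category. The published hypotheses (a coherent morphism from an algebraic topos to a
locally coherent topos) give this situation with D the site of coherent algebraic objects of the
target. -/
theorem result {C D : Type u} [SmallCategory C]
    [SmallCategory D] (J : GrothendieckTopology C) (K : GrothendieckTopology D) (hE : ToposFin.IsAlgebraic J)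
    (u : D ⥤ C) [u.IsContinuous K J] (hu : ∀ V : D, ToposFin.IsCoherent (ToposFin.eps J (u.obj V)))
    (Λ : Type u) [SmallCategory Λ] [IsFiltered Λ] (q : ℕ) :
    PreservesColimitsOfShape Λ (CohSite.Rpush J K u q) := by
  open Groth.Agent.ToposFinLib Groth.Agent.SiteBase in
  haveI : ∀ V : Dᵒᵖ, PreservesColimitsOfShape Λ
      ((Sheaf.cohomologyPresheafFunctor.{u} J q ⋙ precomp u) ⋙ (evaluation Dᵒᵖ AddCommGrpCat.{u}).obj V) := by
    intro V
    haveI : PreservesColimitsOfShape Λ
        ((Abelian.extFunctor.{u} q).obj (Opposite.op (CohCx.freeSheaf J (u.obj V.unop)))) :=
      ⟨fun {F} => ((comm_of_algebraic hE (hu V.unop) q F).of_iso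
        ((freeSheafifyIso J).app (yoneda.obj (u.obj V.unop)))).preservesColimit⟩
    exact preservesColimitsOfShape_of_natIso (NatIso.ofComponents (fun F => Iso.refl _) (fun {F G} f => by
      ext x
      rfl) : (Abelian.extFunctor.{u} q).obj (Opposite.op (CohCx.freeSheaf J (u.obj V.unop))) ≅
        (Sheaf.cohomologyPresheafFunctor.{u} J q ⋙ precomp u) ⋙ (evaluation Dᵒᵖ AddCommGrpCat.{u}).obj V)
  haveI : PreservesColimitsOfShape Λ (Sheaf.cohomologyPresheafFunctor.{u} J q ⋙ precomp u) :=
    preservesColimitsOfShape_of_evaluation _ _ fun V => inferInstance
  exact preservesColimitsOfShape_of_natIso (rpushIso J K u q).symm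

end Groth.Agent.S3878
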