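import Groth.Statements.S3881
import Groth.Agent.HyperLib.Refine

set_option autoImplicit false
set_option backward.isDefEq.respectTransparency false
set_option backward.isDefEq.respectTransparency.types false
universe u
open CategoryTheory
open Hyper

namespace Groth.Agent.S3881

open Opposite CategoryTheory.Limits in
/-- For hypercoverings of an object X of a small site with fibre products (coskeleta assumed to exist):
let K be a hypercovering of X, n ≥ 0 and u : Z -> K_n a covering morphism of semi-representable
objects over X. Then there are a hypercovering L of X, a morphism f : L -> K and a morphism g : L_n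
-> Z with g followed by u equal to f_n. -/
theorem result {C : Type u} [SmallCategory C] [HasPullbacks C]
    (J : GrothendieckTopology C) (X : C)
    [∀ (n : ℕ) (F : (SimplexCategory.Truncated n)ᵒᵖ ⥤ Limits.FormalCoproduct.{u} (Over X)),
      (SimplexCategory.Truncated.inclusion n).op.HasRightKanExtension F]
    (K : SimplicialObject (FormalCoproduct.{u} (Over X))) (hK : Hyper.IsHypercovering J X K) (n : ℕ)
    (Z : FormalCoproduct.{u} (Over X)) (u : Z ⟶ K.obj (op (SimplexCategory.mk n)))
    (hu : Hyper.IsSRCovering (J.over X) u) :
    ∃ (L : SimplicialObject (FormalCoproduct.{u} (Over X))) (f : L ⟶ K)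
      (g : L.obj (op (SimplexCategory.mk n)) ⟶ Z),
      Hyper.IsHypercovering J X L ∧ g ≫ u = f.app (op (SimplexCategory.mk n)) := by
  obtain ⟨L, f, g, hL, hg⟩ := Groth.Agent.HyperLib.exists_refinement (J.over X) K
    ((Groth.Agent.HyperLib.isHypercovering_iff J X K).1 hK) n u hu
  exact ⟨L, f, g, (Groth.Agent.HyperLib.isHypercovering_iff J X L).2 hL, hg⟩

end Groth.Agent.S3881
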