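import Groth.Statements.S3882
import Groth.Agent.HyperLib.CechEl

set_option autoImplicit false
set_option backward.isDefEq.respectTransparency false
set_option backward.isDefEq.respectTransparency.types false
universe u
open CategoryTheory
open Hyper

namespace Groth.Agent.S3882

open Opposite CategoryTheory.Limits in
/-- The statement its proof reduces the result to (hypercoverings of an object X of a small site with
fibre products; coskeleta assumed to exist): let N be a presheaf of abelian groups whose associated
sheaf is zero, K a hypercovering of X and ξ a class in the p-th Cech cohomology group of N with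
respect to K. Then there is a morphism of hypercoverings f : L -> K such that ξ maps to zero in the
p-th Cech cohomology group of N with respect to L. (So Cech cohomology over all hypercoverings up to
homotopy kills such presheaves in every degree.) -/
theorem result {C : Type u} [SmallCategory C] [HasPullbacks C]
    (J : GrothendieckTopology C) (X : C)
    [∀ (n : ℕ) (F : (SimplexCategory.Truncated n)ᵒᵖ ⥤ Limits.FormalCoproduct.{u} (Over X)),
      (SimplexCategory.Truncated.inclusion n).op.HasRightKanExtension F]
    (K : SimplicialObject (FormalCoproduct.{u} (Over X))) (hK : Hyper.IsHypercovering J X K)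
    (N : Cᵒᵖ ⥤ AddCommGrpCat.{u}) (hN : IsZero ((presheafToSheaf J AddCommGrpCat.{u}).obj N))
    (p : ℕ) (ξ : Hyper.cechH X K N p) :
    ∃ (L : SimplicialObject (FormalCoproduct.{u} (Over X))) (f : L ⟶ K),
      Hyper.IsHypercovering J X L ∧ Hyper.cechHMap X f N p ξ = 0 := by
  obtain ⟨z, rfl⟩ := Groth.Agent.HyperLib.exists_cycle K N p ξ
  obtain ⟨Z, v, hv, hvc⟩ := Groth.Agent.HyperLib.exists_covering_killing J N hN _
    ((Hyper.cechCx X K N).iCycles p z)
  obtain ⟨L, f, g, hL, hg⟩ := Groth.Agent.HyperLib.exists_refinement (J.over X) K
    ((Groth.Agent.HyperLib.isHypercovering_iff J X K).1 hK) p v hv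
  refine ⟨L, f, (Groth.Agent.HyperLib.isHypercovering_iff J X L).2 hL,
    Groth.Agent.HyperLib.cechHMap_eq_zero_of_cycle f N p z ?_⟩
  rw [Groth.Agent.HyperLib.cechMap_f_eq, ← hg, op_comp, CategoryTheory.Functor.map_comp,
    ConcreteCategory.comp_apply]
  exact (congrArg _ hvc).trans (map_zero _)

end Groth.Agent.S3882
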