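import Groth.Statements.S3883
import Groth.Agent.EtFound.PushOutside

set_option autoImplicit false
open CategoryTheory CategoryTheory.Limits AlgebraicGeometry Opposite
universe u
open EtDesc

namespace Groth.Agent.S3883

/-- Let i : Y -> X be a closed immersion and j : U -> X an open immersion whose image is the complement
of the image of i. Then the direct image functor i_* on etale sheaves of sets is fully faithful, and
a sheaf of sets F on X is isomorphic to some i_* G if and only if j^* F is a final object. -/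
theorem result {Y X U : Scheme.{u}} (i : Y ⟶ X)
    [IsClosedImmersion i] (j : U ⟶ X) [IsOpenImmersion j]
    (hU : Set.range j.base = (Set.range i.base)ᶜ) :
    (EtDesc.pushSh i).Full ∧ (EtDesc.pushSh i).Faithful ∧
    ∀ F : EtDesc.Sh X, (EtDesc.pushSh i).essImage F ↔ IsIso (terminal.from ((EtDesc.pullSh j).obj F)) := by
  have hl := EtFound.liftable_of_isClosedImmersion i
  have : IsIso (EtDesc.adjSh i).counit := by
    have : ∀ G, IsIso ((EtDesc.adjSh i).counit.app G) := fun G => EtFound.counit_isIso i hl G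
    exact NatIso.isIso_of_isIso_app _
  have ff := (EtDesc.adjSh i).fullyFaithfulROfIsIsoCounit
  refine ⟨ff.full, ff.faithful, fun F => ?_⟩
  have hcl := i.isClosedEmbedding.isClosed_range
  have htermS : ∀ {S : Scheme.{u}} (W : S.Etale), Nonempty (Unique (ToType ((⊤_ EtDesc.Sh S).obj.obj (op W)))) :=
    fun W => ⟨Types.isTerminalEquivUnique _ (IsTerminal.isTerminalObj
      (sheafToPresheaf _ (Type (u + 1)) ⋙ (evaluation _ _).obj (op W)) _ terminalIsTerminal)⟩
  have hterm : ∀ (k : Type u) [Field k] [IsSepClosed k] (η : Spec (CommRingCat.of k) ⟶ U),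
      Nonempty (Unique (ToType ((Scheme.pointSmallEtale η).sheafFiber.obj (⊤_ EtDesc.Sh U)))) := fun k _ _ η => by
    refine EtFound.nonempty_unique_stalk (C := (∅ : Set U)) isClosed_empty _ (fun W _ => htermS W) η (fun h => h)
  constructor
  · rintro ⟨G, ⟨e⟩⟩
    refine EtFound.isIso_of_stalks _ fun k _ _ η => ?_
    have hη : (η ≫ j).base (default : Spec (CommRingCat.of k)) ∉ Set.range i.base := by
      rw [← Set.mem_compl_iff, ← hU]
      exact ⟨_, (Scheme.Hom.comp_apply _ _ _).symm⟩
    obtain ⟨h1⟩ := EtFound.nonempty_unique_stalk hcl ((EtDesc.pushSh i).obj G)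
      (fun V hV => EtFound.push_unique_of_disjoint i G V hV) (η ≫ j) hη
    let ee : ToType ((Scheme.pointSmallEtale η).sheafFiber.obj ((EtDesc.pullSh j).obj F)) ≃
        ToType ((Scheme.pointSmallEtale (η ≫ j)).sheafFiber.obj ((EtDesc.pushSh i).obj G)) :=
      (((EtFound.sheafFiberPullIso j η).app F) ≪≫ (Scheme.pointSmallEtale (η ≫ j)).sheafFiber.mapIso e.symm).toEquiv
    obtain ⟨h2⟩ := hterm k η
    exact ⟨fun a b _ => ee.injective ((h1.eq_default (ee a)).trans (h1.eq_default (ee b)).symm),
      fun b => ⟨ee.symm h1.default, (h2.eq_default _).trans (h2.eq_default b).symm⟩⟩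
  · intro hF
    have : IsIso ((EtDesc.adjSh i).unit.app F) := by
      refine EtFound.unit_isIso_of_outside i hl hcl F fun k _ _ ξ hξ => ?_
      obtain ⟨x, hx⟩ : ξ.base (default : Spec (CommRingCat.of k)) ∈ Set.range j.base := by rw [hU]; exact hξ
      have hr : Set.range ξ.base ⊆ Set.range j.base := by
        rintro _ ⟨w, rfl⟩
        exact ⟨x, hx.trans (congrArg ξ.base (Subsingleton.elim _ _))⟩
      have hlift := IsOpenImmersion.lift_fac j ξ hr
      obtain ⟨h2⟩ := hterm k (IsOpenImmersion.lift j ξ hr)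
      let e1 : (Scheme.pointSmallEtale (IsOpenImmersion.lift j ξ hr ≫ j)).sheafFiber.obj F ≅
          (Scheme.pointSmallEtale (IsOpenImmersion.lift j ξ hr)).sheafFiber.obj (⊤_ EtDesc.Sh U) :=
        ((EtFound.sheafFiberPullIso j _).app F).symm ≪≫ (Scheme.pointSmallEtale _).sheafFiber.mapIso (asIso (terminal.from _))
      let e2 : (Scheme.pointSmallEtale ξ).sheafFiber.obj F ≅
          (Scheme.pointSmallEtale (IsOpenImmersion.lift j ξ hr)).sheafFiber.obj (⊤_ EtDesc.Sh U) :=
        eqToIso (by rw [hlift]) ≪≫ e1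
      exact ⟨e2.toEquiv.unique⟩
    exact ⟨_, ⟨(asIso ((EtDesc.adjSh i).unit.app F)).symm⟩⟩

end Groth.Agent.S3883
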