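import Groth.Statements.S3887
import Groth.Agent.EtFound.IntegralBaseChange

set_option backward.isDefEq.respectTransparency false
set_option backward.isDefEq.respectTransparency.types false

set_option autoImplicit false
open CategoryTheory CategoryTheory.Limits AlgebraicGeometry Opposite
universe u
attribute [local instance] HasDerivedCategory.standard
open EtDesc

namespace Groth.Agent.S3887

/-- Let f : X -> Y be an integral morphism of schemes and X' = X x_Y Y' a cartesian square with
projections f' : X' -> Y' and g' : X' -> X over g : Y' -> Y. Then for every sheaf of sets F on the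
small etale site of X the base change map g^* f_* F -> f'_* g'^* F is an isomorphism. -/
theorem result {X Y X' Y' : Scheme.{u}} (f : X ⟶ Y) [IsIntegralHom f] (g : Y' ⟶ Y)
    (f' : X' ⟶ Y') (g' : X' ⟶ X) (h : IsPullback g' f' f g) (F : EtDesc.Sh X) :
    IsIso (EtBC.baseChange0Sh f g f' g' h.w F) := by
  refine EtFound.isIso_baseChange_of_integral (A := Type (u + 1)) h F _ fun V => ?_
  have hu := ((EtDesc.adjSh g).homEquiv _ _).apply_symm_apply
    ((EtDesc.pushSh f).map ((EtDesc.adjSh g').unit.app F) ≫ (EtDesc.pushCompSh f g').hom.app _ ≫
      (EtBC.pushCongrSh h.w).hom.app _ ≫ (EtDesc.pushCompSh g f').inv.app _)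
  rw [Adjunction.homEquiv_unit] at hu
  refine (congr(($hu).hom.app (op V))).trans ?_
  simp [EtFound.bcSquare, EtDesc.pushCompSh, EtBC.pushCongrSh]

end Groth.Agent.S3887
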