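import Groth.Statements.S3894
import Mathlib

set_option autoImplicit false
universe u
open CategoryTheory CategoryTheory.Limits Opposite
open Tors

namespace Groth.Agent.S3894

/-- A torsor P under an abelian sheaf G is trivial, i.e. equivariantly isomorphic to G acting on itself
by translations, if and only if P has a global section (a morphism from the final sheaf of sets). -/
theorem result {C : Type u} [SmallCategory C] {J : GrothendieckTopology C}
    {G : Sheaf J AddCommGrpCat.{u}} (T : Tors.Torsor G) : T.IsTrivial ↔ T.HasSection := by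
  constructor
  · rintro ⟨e, he⟩
    refine ⟨⟨{ app := fun U => TypeCat.ofHom fun _ => e.hom.hom.app U (0 : G.obj.obj U), naturality := ?_ }⟩⟩
    intro U V f
    ext x
    have := CategoryTheory.NatTrans.naturality_apply e.hom.hom f (0 : G.obj.obj U)
    refine Eq.trans ?_ this
    exact congrArg _ (map_zero (G.obj.map f).hom).symm
  · rintro ⟨s⟩
    let K : Sheaf J (Type u) := ⟨(Functor.const Cᵒᵖ).obj PUnit.{u+1}, by
      rw [isSheaf_iff_isSheaf_of_type]
      intro X S hS x hx
      exact ⟨PUnit.unit, fun _ _ _ => rfl, fun _ _ => rfl⟩⟩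
    let σ : K ⟶ T.P := terminal.from K ≫ s
    let p : ∀ U, T.P.obj.obj U := fun U => σ.hom.app U PUnit.unit
    have hp : ∀ {U V : Cᵒᵖ} (f : U ⟶ V), T.P.obj.map f (p U) = p V := fun f =>
      (CategoryTheory.NatTrans.naturality_apply σ.hom f PUnit.unit).symm
    let η : ((sheafCompose J (forget AddCommGrpCat.{u})).obj G).obj ⟶ T.P.obj :=
      { app := fun U => TypeCat.ofHom fun g => T.vadd g (p U)
        naturality := fun U V f => by
          ext g
          exact ((T.map_vadd f g (p U)).trans (by rw [hp]; rfl)).symm }
    haveI : ∀ U, IsIso (η.app U) := fun U => (CategoryTheory.isIso_iff_bijective _).mpr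
      ⟨fun g h hgh => (T.free_transitive (p U) (T.vadd h (p U))).unique hgh rfl,
       fun q => (T.free_transitive (p U) q).exists⟩
    haveI : IsIso η := NatIso.isIso_of_isIso_app η
    refine ⟨(fullyFaithfulSheafToPresheaf J (Type u)).preimageIso (asIso η), fun U g h => ?_⟩
    exact T.add_vadd g h (p U)

end Groth.Agent.S3894
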