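import Groth.Statements.S3896
import Groth.Agent.EtFound.OpenSubterminal
-- import your own Groth.Agent.* helpers here

set_option autoImplicit false
open CategoryTheory CategoryTheory.Limits AlgebraicGeometry Opposite
universe u
open EtDesc
set_option backward.isDefEq.respectTransparency.types false

namespace Groth.Agent.S3896

/-- Let X be a scheme. Sending a Zariski open U of X to the etale sheaf of sets attached to the open
immersion U -> X gives an isomorphism of ordered sets from the opens of X onto the subobjects of the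
final object of the etale topos of X: (a) each such sheaf is a subobject of the final sheaf; (b) U ≤
V if and only if there is a morphism between the attached sheaves; (c) every subobject of the final
sheaf is isomorphic to the sheaf attached to some open. -/
theorem result (X : Scheme.{u}) :
    (∀ U : X.Opens, Mono (terminal.from (EtDesc.repSh (EtDesc.ofOpen U)))) ∧
    (∀ U V : X.Opens, U ≤ V ↔ Nonempty (EtDesc.repSh (EtDesc.ofOpen U) ⟶ EtDesc.repSh (EtDesc.ofOpen V))) ∧
    (∀ F : EtDesc.Sh X, Mono (terminal.from F) → ∃ U : X.Opens, Nonempty (F ≅ EtDesc.repSh (EtDesc.ofOpen U))) := by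
  have hsub : ∀ (U : X.Opens) (V : X.Etaleᵒᵖ),
      Subsingleton ((EtDesc.repSh (EtDesc.ofOpen U)).obj.obj V) := fun U V =>
    have := EtFound.subsingleton_openPre U V
    @Equiv.subsingleton _ _ (((sheafToPresheaf _ _).mapIso (EtFound.repShOpenIso U)).app V).toEquiv this
  refine ⟨fun U => EtFound.mono_terminal_from (hsub U), fun U V => ⟨fun h => ?_, fun ⟨φ⟩ => ?_⟩,
    fun F hF => ?_⟩
  · obtain ⟨g⟩ := (EtFound.nonempty_hom_ofOpen_iff V (EtDesc.ofOpen U)).2 (fun v => h v.2)
    exact ⟨(EtFound.repShOpenIso U).hom ≫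
      ObjectProperty.homMk (Functor.whiskerRight (yoneda.map g) _) ≫ (EtFound.repShOpenIso V).inv⟩
  · intro x hx
    let ψ := (EtFound.repShOpenIso U).inv ≫ φ ≫ (EtFound.repShOpenIso V).hom
    have g := (ψ.hom.app (op (EtDesc.ofOpen U)) (ULift.up (𝟙 _))).down
    exact (EtFound.nonempty_hom_ofOpen_iff V (EtDesc.ofOpen U)).1 ⟨g⟩ ⟨x, hx⟩
  · obtain ⟨U, ⟨e⟩⟩ := EtFound.exists_open_iso F (EtFound.subsingleton_of_mono_terminal_from hF)
    exact ⟨U, ⟨e ≪≫ (EtFound.repShOpenIso U).symm⟩⟩

end Groth.Agent.S3896
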