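import Groth.Statements.S4121
import Groth.Agent.TorusField.Main

set_option autoImplicit false
universe u
open CategoryTheory MonoidalCategory CartesianMonoidalCategory MonObj GrpObj AlgebraicGeometry CategoryTheory.Limits
open SGA3x

namespace Groth.Agent.S4121

/-- Let G be a smooth algebraic group over a field k (a k-group scheme smooth and of finite type). Then
G has a maximal torus T defined over k (a subtorus whose base change to an algebraic closure is a
maximal torus). -/
theorem result (k : Type u) [Field k] (G : Over (Spec (CommRingCat.of k))) [GrpObj G]
    [Smooth G.hom] [QuasiCompact G.hom] :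
    ∃ (T : Over (Spec (CommRingCat.of k))) (_ : GrpObj T) (i : T ⟶ G), Red.IsMaximalTorus i := by
  exact Groth.Agent.TorusField.exists_isMaximalTorus G

end Groth.Agent.S4121
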