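import Groth.Statements.S4148
import Groth.Agent.TorusQI.MaxSubtorus
-- import your own Groth.Agent.* helpers here

set_option autoImplicit false
universe u
open CategoryTheory MonoidalCategory CartesianMonoidalCategory MonObj GrpObj AlgebraicGeometry CategoryTheory.Limits
open SGA3x

namespace Groth.Agent.S4148

/-- Let H be an S-group scheme of multiplicative type and of finite type (fpqc-locally, then
Zariski-locally, of the form D_S(M) with M finitely generated). Then H has a maximal torus T and
every subtorus of H is contained in T; in particular T is the unique maximal torus. -/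
theorem result (S : Scheme.{u}) (H : Over S) [GrpObj H] (hH : SGA3x.IsMultTypeFT H) :
    ∃ (T : Over S) (_ : GrpObj T) (i : T ⟶ H), Red.IsMaximalTorus i ∧
      ∀ (R : Over S) [GrpObj R] (j : R ⟶ H) [IsMonHom j] [Mono j], Red.IsTorus R → ∃ f : R ⟶ T, f ≫ i = j := by
  exact Groth.Agent.TorusQI.exists_maximalTorus hH

end Groth.Agent.S4148
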