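import Groth.Statements.S7519
import Groth.Agent.GrpSchLib.Coincidence
import Groth.Agent.S0346
import Mathlib.AlgebraicGeometry.Group.Abelian
-- import your own Groth.Agent.* helpers here

set_option autoImplicit false
universe u
open CategoryTheory MonoidalCategory CartesianMonoidalCategory MonObj GrpObj AlgebraicGeometry
open GrpSch

namespace Groth.Agent.S7519

/-- Let G be a group scheme locally of finite type over a field k. Then the centre of G is
(representable by) a closed subgroup scheme of G: there are a scheme Z over k and a closed immersion
Z -> G over k such that for every scheme T over k, a T-valued point g of G factors through Z if and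
only if g is central, i.e. for every T' -> T over k and every T'-valued point g' of G, the
restriction of g to T' commutes with g' in the group G(T'). -/
theorem result (K : Type u) [Field K] (G : Over (Spec (CommRingCat.of K))) [GrpObj G] [LocallyOfFiniteType G.hom] : ∃ (Z : Over (Spec (CommRingCat.of K))) (incl : Z ⟶ G), IsClosedImmersion incl.left ∧ ∀ (T : Over (Spec (CommRingCat.of K))) (g : T ⟶ G), (∃ z : T ⟶ Z, z ≫ incl = g) ↔ ∀ (T' : Over (Spec (CommRingCat.of K))) (h : T' ⟶ T) (g' : T' ⟶ G), (h ≫ g) * g' = g' * (h ≫ g) := by
  have : IsSeparated G.hom := (Groth.Agent.S0346.result _ G).1.mpr inferInstance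
  obtain ⟨Z, j, hj, h⟩ := GrpSchLib.exists_coincidence_field
    (CartesianMonoidalCategory.fst G G * CartesianMonoidalCategory.snd G G)
    (CartesianMonoidalCategory.snd G G * CartesianMonoidalCategory.fst G G)
  refine ⟨Z, j, hj, fun T g => (h T g).trans ⟨fun e T' t g' => ?_, fun e => ?_⟩⟩
  · have e' := congrArg (fun f => CartesianMonoidalCategory.lift g' t ≫ f) e
    simp [MonObj.comp_mul] at e'
    exact e'.symm
  · simpa [MonObj.comp_mul] using
      (e _ (CartesianMonoidalCategory.snd G T) (CartesianMonoidalCategory.fst G T)).symm

end Groth.Agent.S7519
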