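import Groth.Statements.S8393
import Groth.Agent.UniPart.Centre
import Groth.Agent.S7519
-- import your own Groth.Agent.* helpers here

set_option autoImplicit false
universe u
open CategoryTheory MonoidalCategory CartesianMonoidalCategory MonObj GrpObj AlgebraicGeometry
open SGA3x
open Groth.Agent.GrpSchLib Groth.Agent.GrpSchLib.AffineHopf Groth.Agent.UniPart

namespace Groth.Agent.S8393

/-- Let G be an affine algebraic group over a field k (an affine k-group scheme of finite type). Then G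
admits a reductive centre: a subgroup scheme Z of G which is central and of multiplicative type, and
such that for every k-scheme S′ and every central homomorphism v : H → G ×_k S′ from an S′-group H
of multiplicative type and of finite type, v factors through Z ×_k S′. -/
theorem result (k : Type u) [Field k]
    (G : Over (Spec (CommRingCat.of k))) [GrpObj G] [IsAffine G.left] [QuasiCompact G.hom] [LocallyOfFiniteType G.hom] :
    ∃ (Z : Over (Spec (CommRingCat.of k))) (_ : GrpObj Z) (z : Z ⟶ G), IsMonHom z ∧ Mono z ∧ SGA3x.IsMultTypeFT Z ∧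
      (∀ (X : Over (Spec (CommRingCat.of k))) (x : X ⟶ Z) (g : X ⟶ G), (x ≫ z) * g = g * (x ≫ z)) ∧
      ∀ (S' : Scheme.{u}) (f : S' ⟶ (Spec (CommRingCat.of k))) (H : Over S') [GrpObj H] (v : H ⟶ Red.bc f G) [IsMonHom v],
        SGA3x.IsMultTypeFT H →
        (∀ (X : Over S') (x : X ⟶ H) (g : X ⟶ Red.bc f G), (x ≫ v) * g = g * (x ≫ v)) →
        ∃ w : H ⟶ Red.bc f Z, w ≫ (Over.pullback f).map z = v := by
  classical
  obtain ⟨Zc, ic, _, hZ⟩ := S7519.result k G
  haveI : Mono ic := (Over.forget _).mono_of_mono_map (inferInstanceAs (Mono ic.left))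
  have hcen : ∀ {T : Over (Spec (CommRingCat.of k))} (t : T ⟶ Zc) (g' : T ⟶ G), (t ≫ ic) * g' = g' * (t ≫ ic) :=
    fun {T} t g' => by simpa using (hZ T (t ≫ ic)).mp ⟨t, rfl⟩ T (𝟙 T) g'
  obtain ⟨e₀, he₀⟩ := (hZ (𝟙_ _) (1 : 𝟙_ _ ⟶ G)).mpr fun T' h g' => by
    rw [MonObj.comp_one, _root_.one_mul, _root_.mul_one]
  obtain ⟨m₀, hm₀⟩ := (hZ (Zc ⊗ Zc) ((fst Zc Zc ≫ ic) * (snd Zc Zc ≫ ic))).mpr fun T' h g' => by
    rw [MonObj.comp_mul, ← Category.assoc, ← Category.assoc]
    exact Commute.mul_left (hcen _ g') (hcen _ g')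
  obtain ⟨v₀, hv₀⟩ := (hZ Zc ic⁻¹).mpr fun T' h g' => by
    rw [GrpObj.comp_inv]
    exact Commute.inv_left (hcen h g')
  letI : GrpObj Zc := grpObjOfFactor ic e₀ (by rw [he₀, MonObj.one_eq_one]) m₀ hm₀ v₀ hv₀
  haveI : IsMonHom ic := ⟨(show e₀ ≫ ic = η[G] by rw [he₀, MonObj.one_eq_one]), by
    show m₀ ≫ ic = _
    rw [hm₀]
    simp [Hom.mul_def]⟩
  haveI : IsAffine Zc.left := isAffine_of_isAffineHom ic.left
  haveI : LocallyOfFiniteType Zc.hom := by rw [← Over.w ic]; infer_instance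
  obtain ⟨A, _, _, ⟨eA⟩⟩ := exists_hopf Zc
  let a : sp k A ≅ Zc := (Grp.forget _).mapIso eA
  haveI : IsMonHom a.hom := eA.hom.hom.isMonHom_hom
  haveI : IsIso a.hom.left := ((Over.forget _).mapIso a).isIso_hom
  haveI : Algebra.FiniteType k A :=
    RingHom.finiteType_algebraMap.mp ((HasRingHomProperty.Spec_iff (P := @LocallyOfFiniteType)).mp (by
      show LocallyOfFiniteType (sp k A).hom
      rw [← Over.w a.hom]; infer_instance))
  haveI : Coalgebra.IsCocomm k A := MultTypeExtension.isCocomm_of_isCommMonObj fun T x y => by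
    rw [← cancel_mono (a.hom ≫ ic), MonObj.mul_comp, MonObj.mul_comp, ← Category.assoc, ← Category.assoc]
    exact hcen _ _
  let q : sp k (A ⧸ multIdeal k A) ⟶ sp k A := spMap (Ideal.Quotient.mkₐ k (multIdeal k A))
  haveI : IsMonHom q := isMonHom_spMap (Bialgebra.Quotient.mkBialgHom (R := k) (multIdeal k A))
  haveI : IsClosedImmersion q.left :=
    IsClosedImmersion.spec_of_surjective (CommRingCat.ofHom (Ideal.Quotient.mk (multIdeal k A))) Ideal.Quotient.mk_surjective
  haveI : Mono q := (Over.forget _).mono_of_mono_map (inferInstanceAs (Mono q.left))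
  refine ⟨sp k (A ⧸ multIdeal k A), inferInstance, q ≫ a.hom ≫ ic, inferInstance, inferInstance,
    isMultTypeFT_multPart, fun X x g => ?_, ?_⟩
  · rw [← Category.assoc, ← Category.assoc]
    exact hcen _ _
  intro S' f H _ v _ hH hv
  obtain ⟨c₁, hc₁⟩ := (hZ _ (DSPtsLib.theta f v)).mpr fun T' h g' => by
    let X : Over S' := Over.mk (h.left ≫ H.hom)
    let x : X ⟶ H := Over.homMk h.left rfl
    have hT : h.left ≫ H.hom ≫ f = T'.hom := Over.w h
    let j : T' ⟶ (Over.map f).obj X := Over.homMk (𝟙 _) (by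
      show 𝟙 _ ≫ (h.left ≫ H.hom) ≫ f = T'.hom
      rw [Category.id_comp, Category.assoc, hT])
    let j' : (Over.map f).obj X ⟶ T' := Over.homMk (𝟙 _) (by
      show 𝟙 _ ≫ T'.hom = (h.left ≫ H.hom) ≫ f
      rw [Category.id_comp, Category.assoc, hT])
    obtain ⟨g'', hg''⟩ := (DSPtsLib.theta_bijective f (Y := X) (H := G)).2 (j' ≫ g')
    have e := congrArg (fun m => j ≫ DSPtsLib.theta f m) (hv X x g'')
    simp only [DSPtsLib.theta_mul, DSPtsLib.theta_comp, hg'', MonObj.comp_mul] at e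
    have h1 : j ≫ (Over.map f).map x = h := Over.OverMorphism.ext (Category.id_comp _)
    have h2 : j ≫ j' = 𝟙 T' := Over.OverMorphism.ext (Category.id_comp _)
    rwa [← Category.assoc, h1, ← Category.assoc, h2, Category.id_comp] at e
  obtain ⟨c₀, hc₀⟩ := exists_factor_multIdeal f H hH (c₁ ≫ a.inv) fun X x y => by
    rw [← cancel_mono (a.hom ≫ ic), MonObj.mul_comp]
    simp only [Category.assoc, Iso.inv_hom_id_assoc, hc₁]
    rw [← DSPtsLib.theta_comp, ← DSPtsLib.theta_comp, ← DSPtsLib.theta_comp, ← DSPtsLib.theta_mul, MonObj.mul_comp]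
  refine ⟨(Over.mapPullbackAdj f).homEquiv _ _ c₀, ?_⟩
  rw [← Adjunction.homEquiv_naturality_right]
  apply (DSPtsLib.theta_bijective f).1
  refine (Equiv.symm_apply_apply _ _).trans ?_
  show c₀ ≫ q ≫ a.hom ≫ ic = _
  rw [reassoc_of% hc₀, Iso.inv_hom_id_assoc, hc₁]


end Groth.Agent.S8393
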