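import Groth.Statements.S3962
import Groth.Agent.CartanIn.BorelNorm
-- import your own Groth.Agent.* helpers here

set_option autoImplicit false
set_option backward.isDefEq.respectTransparency false
set_option backward.isDefEq.respectTransparency.types false
open CategoryTheory MonoidalCategory CartesianMonoidalCategory MonObj GrpObj AlgebraicGeometry
universe u
open RedSub

namespace Groth.Agent.S3962

/-- Let G be a reductive S-group and B ⟶ G a Borel subgroup in the following sense: a sub-group-scheme
of type (R) whose geometric fibres are Borel subgroups (closedness is not assumed). Then B is closed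
in G and B is its own normaliser: a point of G normalises B (after every base change) if and only if
it lies in B. -/
theorem result {S : Scheme.{u}} {G B : Over S} [GrpObj G] [GrpObj B]
    (hG : Red.IsReductive G) (i : B ⟶ G) (hB : RedSub.IsBorelSub i) :
    IsClosedImmersion i.left ∧ Red.IsNormalizerOf i i := by
  haveI : IsAffineHom G.hom := hG.1
  haveI : Smooth G.hom := hG.2.1
  haveI := hB.1.1.1
  haveI := hB.1.1.2
  haveI : Smooth B.hom := hB.1.2.1
  haveI : Mono i.left := inferInstance
  haveI : Mono i := (Over.forget S).mono_of_mono_map (by show Mono i.left; infer_instance)
  have hconn : ∀ s : S, _root_.IsConnected (G.hom.base ⁻¹' {s}) := fun s => by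
    haveI : ConnectedSpace ↥(Red.geomFibre s G).left := (hG.2.2 s).2.2.1
    exact FixTorus.isConnected_preimage_of_geomFibre G s
  exact (CartanIn.borel_normalizer hconn i hB.2).symm

end Groth.Agent.S3962
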