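import Groth.Statements.S4020
import Groth.Agent.LefPenLib.CharZeroEmb
-- import your own Groth.Agent.* helpers here

set_option autoImplicit false
universe u
open CategoryTheory CategoryTheory.Limits AlgebraicGeometry
open LefPen

namespace Groth.Agent.S4020

/-- Let k be an algebraically closed field and X an irreducible smooth proper k-scheme of dimension n ≥
1 embedded in projective r-space by a closed immersion i; assume k has characteristic zero. Then i
itself is a Lefschetz embedding: the pairs of linear forms spanning a Lefschetz pencil of hyperplane
sections of X contain the non-vanishing locus of a not identically zero polynomial function of their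
coefficients. -/
theorem result (k : Type u) [Field k] [IsAlgClosed k] (r n : ℕ) (hn : 1 ≤ n)
    {X : Scheme.{u}} (i : X ⟶ CohB1.ProjSpace r k) [IsClosedImmersion i] [IrreducibleSpace X]
    [SmoothOfRelativeDimension n (i ≫ CohB1.ProjSpace.toSpec r k)]
    [CharZero k] : LefPen.IsLefschetzEmb k n i 1 := by
  exact LefPenLib.isLefschetzEmb_charZero (n := n) i hn le_rfl

end Groth.Agent.S4020
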