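import Groth.Statements.S4023
import Groth.Agent.LefPenLib.Exist
-- import your own Groth.Agent.* helpers here

set_option autoImplicit false
universe u
open CategoryTheory CategoryTheory.Limits AlgebraicGeometry
open LefPen

namespace Groth.Agent.S4023

/-- Let k be an algebraically closed field and X an irreducible smooth proper k-scheme of dimension n ≥
1 embedded in projective r-space by a closed immersion i. For every closed point x₀ of X and every d
≥ 2 there is a degree-d form H such that x₀ lies on X ∩ V(H) and is an ordinary quadratic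
singularity of it. -/
theorem result (k : Type u) [Field k] [IsAlgClosed k] (r n : ℕ) (hn : 1 ≤ n)
    {X : Scheme.{u}} (i : X ⟶ CohB1.ProjSpace r k) [IsClosedImmersion i] [IrreducibleSpace X]
    [SmoothOfRelativeDimension n (i ≫ CohB1.ProjSpace.toSpec r k)]
    (x₀ : X) (hx₀ : IsClosed ({x₀} : Set X)) (d : ℕ) (hd : 2 ≤ d) :
    ∃ (H : LefPen.Form r k d) (y : LefPen.Sec i ({H} : Set (LefPen.Form r k d))),
      LefPen.secι i ({H} : Set (LefPen.Form r k d)) y = x₀ ∧
      LefPen.IsOrdQuadSing k (n - 1) (LefPen.secToSpec i ({H} : Set (LefPen.Form r k d))) y := by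
  obtain ⟨j, hj⟩ : ∃ j, x₀ ∈ LefPenLib.wOpen i j := by
    have hy : i x₀ ∈ (⨆ j, LefPen.chart r k j : (CohB1.ProjSpace r k).Opens) := by rw [LefPenLib.iSup_chart]; trivial
    obtain ⟨j, hj⟩ := TopologicalSpace.Opens.mem_iSup.1 hy
    exact ⟨j, hj⟩
  letI := LefPenLib.wAlgebra i j
  haveI : Smooth (i ≫ CohB1.ProjSpace.toSpec r k) := SmoothOfRelativeDimension.smooth n _
  haveI : LocallyOfFiniteType (i ≫ CohB1.ProjSpace.toSpec r k) := inferInstance
  obtain ⟨ev, hev⟩ := LefPenLib.exists_pointOf_eq i j x₀ hx₀ hj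
  obtain ⟨H, hb, hnd⟩ := LefPenLib.exists_bad_nondeg (n := n) i j ev d hd
  obtain ⟨y, hy, hpt⟩ := LefPenLib.exists_secPoint (n := n) i H j ev hb.eval_eq_zero
  exact ⟨H, y, hpt.trans hev,
    (LefPenLib.isOrdQuadSing_iff (n := n) i H j (n - 1) (by omega) y ev hy hpt hb).2 hnd⟩

end Groth.Agent.S4023
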