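import Groth.Statements.S4024
import Mathlib.RingTheory.MvPolynomial.EulerIdentity
import Mathlib.LinearAlgebra.Basis.VectorSpace
import Mathlib.LinearAlgebra.Dual.Lemmas
import Mathlib.LinearAlgebra.FiniteDimensional.Lemmas
import Mathlib.RingTheory.MvPolynomial.Basic

set_option autoImplicit false
universe u
open CategoryTheory CategoryTheory.Limits AlgebraicGeometry
open LefPen

namespace Groth.Agent.S4024

open MvPolynomial

variable {k : Type u} [Field k] {r : ℕ}

abbrev V (k : Type u) (r : ℕ) := Fin (r + 1) → k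

/-- Directional derivative at `v` in direction `w`. -/
noncomputable def D (v w : V k r) (P : MvPolynomial (Fin (r + 1)) k) : k :=
  ∑ i, w i * aeval v (pderiv i P)

theorem D_mul (v w : V k r) (P Q : MvPolynomial (Fin (r + 1)) k) :
    D v w (P * Q) = aeval v P * D v w Q + aeval v Q * D v w P := by
  simp only [D, pderiv_mul, map_add, map_mul, Finset.mul_sum, ← Finset.sum_add_distrib]
  exact Finset.sum_congr rfl fun i _ => by ring

theorem D_pow (v w : V k r) (P : MvPolynomial (Fin (r + 1)) k) (n : ℕ) :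
    D v w (P ^ n) = (n : k) * aeval v P ^ (n - 1) * D v w P := by
  simp only [D, pderiv_pow, map_mul, map_pow, map_natCast, Finset.mul_sum]
  exact Finset.sum_congr rfl fun i _ => by ring

theorem D_add (v w : V k r) (P Q : MvPolynomial (Fin (r + 1)) k) :
    D v w (P + Q) = D v w P + D v w Q := by
  simp only [D, map_add, mul_add, Finset.sum_add_distrib]

/-- The linear polynomial of a functional. -/
noncomputable def lin (ℓ : Module.Dual k (V k r)) : MvPolynomial (Fin (r + 1)) k :=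
  ∑ i, C (ℓ (Pi.single i 1)) * X i

theorem apply_eq_sum (ℓ : Module.Dual k (V k r)) (w : V k r) :
    ℓ w = ∑ i, w i * ℓ (Pi.single i 1) := by
  conv_lhs => rw [pi_eq_sum_univ' w]
  simp [map_sum]

theorem aeval_lin (ℓ : Module.Dual k (V k r)) (v : V k r) : aeval v (lin ℓ) = ℓ v := by
  rw [apply_eq_sum ℓ v]
  simp [lin, map_sum, mul_comm]

theorem D_lin (ℓ : Module.Dual k (V k r)) (v w : V k r) : D v w (lin ℓ) = ℓ w := by
  classical
  rw [apply_eq_sum ℓ w]
  refine Finset.sum_congr rfl fun i _ => ?_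
  simp [lin, map_sum, pderiv_X, Pi.single_apply]

theorem lin_isHomogeneous (ℓ : Module.Dual k (V k r)) : (lin ℓ).IsHomogeneous 1 :=
  IsHomogeneous.sum _ _ _ fun i _ => (isHomogeneous_X k i).C_mul _

theorem pderiv_comm' (i j : Fin (r + 1)) (P : MvPolynomial (Fin (r + 1)) k) :
    pderiv i (pderiv j P) = pderiv j (pderiv i P) := by
  classical
  induction P using MvPolynomial.induction_on with
  | C a => simp
  | add p q hp hq => simp [hp, hq]
  | mul_X p n hp =>
    simp only [pderiv_mul, pderiv_X, map_add, hp, Pi.single_apply]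
    split_ifs <;> simp <;> ring

theorem D_symm (v w : V k r) (G : LefPen.Form r k 2) : D v w G.1 = D w v G.1 := by
  have h : ∀ (x : V k r) (i : Fin (r + 1)),
      aeval x (pderiv i G.1) = ∑ j, x j * constantCoeff (pderiv j (pderiv i G.1)) := by
    intro x i
    have h1 : (pderiv i G.1).IsHomogeneous 1 := (show G.1.IsHomogeneous 2 from G.2).pderiv
    have h2 := congrArg (aeval x) h1.sum_X_mul_pderiv
    rw [one_smul] at h2
    rw [← h2, map_sum]
    refine Finset.sum_congr rfl fun j _ => ?_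
    have h3 : (pderiv j (pderiv i G.1)).IsHomogeneous 0 := h1.pderiv
    rw [map_mul, aeval_X]
    congr 1
    rw [← totalDegree_zero_iff_isHomogeneous, totalDegree_eq_zero_iff_eq_C] at h3
    rw [h3, aeval_C, constantCoeff_C]
    rfl
  simp only [D, h, Finset.mul_sum]
  rw [Finset.sum_comm]
  refine Finset.sum_congr rfl fun i _ => Finset.sum_congr rfl fun j _ => ?_
  rw [pderiv_comm' i j]
  ring

theorem tangLin_apply {d : ℕ} (W : Submodule k (V k r)) (v : V k r) (G : LefPen.Form r k d) :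
    LefPen.tangLin k W v G = (aeval v G.1, fun w : ↥W => D v w.1 G.1) := by
  refine Prod.ext rfl (funext fun w => ?_)
  simp [LefPen.tangLin, D, LinearMap.sum_apply]

/-- The possible values of the tangency map. -/
noncomputable def psi (W : Submodule k (V k r)) (v : ↥W) (d : ℕ) (a : Module.Dual k (V k r)) :
    Module.Dual k ↥W →ₗ[k] k × (↥W → k) where
  toFun ψ := (ψ v, fun w => ψ w + ((d : k) - 1) * ψ v * a w.1)
  map_add' ψ φ := Prod.ext rfl (funext fun w => by simp; ring)
  map_smul' c ψ := Prod.ext rfl (funext fun w => by simp; ring)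

theorem psi_injective (W : Submodule k (V k r)) (v : ↥W) (d : ℕ) (a : Module.Dual k (V k r)) :
    Function.Injective (psi W v d a) := by
  rw [injective_iff_map_eq_zero]
  intro ψ h
  obtain ⟨h1, h2⟩ := Prod.ext_iff.1 h
  refine LinearMap.ext fun w => ?_
  have := congrFun h2 w
  simp only [psi, LinearMap.coe_mk, AddHom.coe_mk, Prod.fst_zero, Prod.snd_zero, Pi.zero_apply] at h1 this
  rw [h1] at this
  simpa using this

/-- The linear form attached to a form at a point. -/
noncomputable def coord {d : ℕ} (W : Submodule k (V k r)) (v : V k r) (a : Module.Dual k (V k r))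
    (G : LefPen.Form r k d) : Module.Dual k ↥W where
  toFun w := D v w.1 G.1 - ((d : k) - 1) * aeval v G.1 * a w.1
  map_add' x y := by simp [D, add_mul, Finset.sum_add_distrib]; ring
  map_smul' c x := by
    simp only [D, Submodule.coe_smul_of_tower, Pi.smul_apply, smul_eq_mul, map_smul, RingHom.id_apply,
      mul_sub, Finset.mul_sum]
    congr 1
    · exact Finset.sum_congr rfl fun i _ => by ring
    · ring

theorem coord_self {d : ℕ} (W : Submodule k (V k r)) (v : ↥W) (a : Module.Dual k (V k r)) (ha : a v.1 = 1)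
    (G : LefPen.Form r k d) : coord W v.1 a G v = aeval v.1 G.1 := by
  have h := congrArg (aeval v.1) (show G.1.IsHomogeneous d from G.2).sum_X_mul_pderiv
  simp only [map_sum, map_mul, aeval_X, map_nsmul, nsmul_eq_mul] at h
  show D v.1 v.1 G.1 - _ = _
  rw [D, h, ha, map_natCast]
  ring

theorem tangLin_eq_psi {d : ℕ} (W : Submodule k (V k r)) (v : ↥W) (a : Module.Dual k (V k r)) (ha : a v.1 = 1)
    (G : LefPen.Form r k d) : LefPen.tangLin k W v.1 G = psi W v d a (coord W v.1 a G) := by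
  rw [tangLin_apply]
  refine Prod.ext (coord_self W v a ha G).symm (funext fun w => ?_)
  show _ = coord W v.1 a G w + _ * coord W v.1 a G v * _
  rw [coord_self W v a ha G]
  show _ = D v.1 w.1 G.1 - _ + _
  ring

/-- The form `a^(e+1) ℓ + b^(e+1) m`. -/
noncomputable def test (e : ℕ) (a b ℓ m : Module.Dual k (V k r)) : LefPen.Form r k (e + 2) :=
  ⟨lin a ^ (e + 1) * lin ℓ + lin b ^ (e + 1) * lin m, by
    have h : ∀ x y : Module.Dual k (V k r), (lin x ^ (e + 1) * lin y).IsHomogeneous (e + 2) := fun x y => by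
      simpa [add_assoc] using ((lin_isHomogeneous x).pow (e + 1)).mul (lin_isHomogeneous y)
    exact (h a ℓ).add (h b m)⟩

theorem coord_test (e : ℕ) (W : Submodule k (V k r)) (v : V k r) (a b ℓ m : Module.Dual k (V k r))
    (ha : a v = 1) (hb : b v = 0) (w : ↥W) :
    coord W v a (test e a b ℓ m) w = ℓ w.1 + (0 : k) ^ e * ((e : k) + 1) * m v * b w.1 := by
  show D v w.1 (_ + _) - _ * aeval v (_ + _) * _ = _
  rw [D_add, D_mul, D_mul, D_pow, D_pow]
  simp only [D_lin, aeval_lin, map_add, map_mul, map_pow, ha, hb, one_pow, Nat.add_sub_cancel,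
    zero_pow (Nat.succ_ne_zero e)]
  push_cast
  ring

theorem test_swap (e : ℕ) (a b ℓ m : Module.Dual k (V k r)) : test e a b ℓ m = test e b a m ℓ :=
  Subtype.ext (add_comm _ _)

theorem exists_extend_zero (W : Submodule k (V k r)) (ψ : Module.Dual k ↥W) :
    ∃ ℓ : Module.Dual k (V k r), ∀ w : ↥W, ℓ w.1 = ψ w := by
  obtain ⟨g, hg⟩ := LinearMap.exists_extend ψ
  exact ⟨g, fun w => LinearMap.congr_fun hg w⟩

theorem exists_extend_vanish (W : Submodule k (V k r)) {x : V k r} (hx : x ∉ W) (ψ : Module.Dual k ↥W) :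
    ∃ ℓ : Module.Dual k (V k r), (∀ w : ↥W, ℓ w.1 = ψ w) ∧ ℓ x = 0 := by
  obtain ⟨g, hg, hgx⟩ := LinearMap.exists_extend_of_notMem ψ hx 0
  exact ⟨g, fun w => LinearMap.congr_fun hg w, hgx⟩

theorem exists_dual_pair {v₁ v₂ : V k r} (hv : LinearIndependent k ![v₁, v₂]) :
    ∃ a : Module.Dual k (V k r), a v₁ = 1 ∧ a v₂ = 0 := by
  have hn : v₁ ∉ k ∙ v₂ := by
    rw [Submodule.mem_span_singleton]
    rintro ⟨c, hc⟩
    have := LinearIndependent.pair_iff.1 hv 1 (-c) (by rw [one_smul, neg_smul, hc, add_neg_cancel])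
    exact one_ne_zero this.1
  obtain ⟨g, hg, hgx⟩ := LinearMap.exists_extend_of_notMem (0 : ↥(k ∙ v₂) →ₗ[k] k) hn 1
  exact ⟨g, hgx, LinearMap.congr_fun hg ⟨v₂, Submodule.mem_span_singleton_self v₂⟩⟩


/-- Let k be a field (the source works over an algebraically closed field; the count is the same over
any field), d ≥ 2, x₁ = [v₁] and x₂ = [v₂] two distinct points of projective r-space and P(W₁) ∋ x₁,
P(W₂) ∋ x₂ linear subspaces. In the space of degree-d forms, those whose hypersurface passes through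
x₁ tangentially to P(W₁) and through x₂ tangentially to P(W₂) form a linear subspace of codimension
dim P(W₁) + dim P(W₂) + 2 = dim W₁ + dim W₂ when d ≥ 3 or when the line x₁x₂ is not contained in
both P(W₁) and P(W₂), and of codimension dim W₁ + dim W₂ - 1 when d = 2 and the line x₁x₂ lies in
P(W₁) ∩ P(W₂). -/
theorem result (k : Type u) [Field k] (r d : ℕ) (hd : 2 ≤ d)
    (W₁ W₂ : Submodule k (Fin (r + 1) → k)) (v₁ v₂ : Fin (r + 1) → k) (h₁ : v₁ ∈ W₁) (h₂ : v₂ ∈ W₂)
    (hv : LinearIndependent k ![v₁, v₂]) :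
    ((3 ≤ d ∨ ¬ (v₂ ∈ W₁ ∧ v₁ ∈ W₂)) →
      Module.finrank k (LefPen.Form r k d) =
        Module.finrank k ↥(LefPen.tangentForms k d W₁ v₁ W₂ v₂) + (Module.finrank k ↥W₁ + Module.finrank k ↥W₂)) ∧
    ((d = 2 ∧ v₂ ∈ W₁ ∧ v₁ ∈ W₂) →
      Module.finrank k (LefPen.Form r k d) + 1 =
        Module.finrank k ↥(LefPen.tangentForms k d W₁ v₁ W₂ v₂) + (Module.finrank k ↥W₁ + Module.finrank k ↥W₂)) := by
  classical
  obtain ⟨e, rfl⟩ := Nat.exists_eq_add_of_le' hd
  obtain ⟨a, ha1, ha2⟩ := exists_dual_pair hv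
  obtain ⟨b, hb2, hb1⟩ := exists_dual_pair (v₁ := v₂) (v₂ := v₁) (LinearIndependent.pair_symm_iff.1 hv)
  let T : LefPen.Form r k (e + 2) →ₗ[k] (k × (↥W₁ → k)) × (k × (↥W₂ → k)) :=
    LinearMap.prod (LefPen.tangLin k W₁ v₁) (LefPen.tangLin k W₂ v₂)
  have hT : LinearMap.ker T = LefPen.tangentForms k (e + 2) W₁ v₁ W₂ v₂ := LinearMap.ker_prod _ _
  let Ψ := LinearMap.prodMap (psi W₁ ⟨v₁, h₁⟩ (e + 2) a) (psi W₂ ⟨v₂, h₂⟩ (e + 2) b)
  have hΨ : Function.Injective Ψ := Function.Injective.prodMap (psi_injective _ _ _ _) (psi_injective _ _ _ _)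
  have hTΨ : ∀ G, T G = Ψ (coord W₁ v₁ a G, coord W₂ v₂ b G) := fun G =>
    Prod.ext (tangLin_eq_psi W₁ ⟨v₁, h₁⟩ a ha1 G) (tangLin_eq_psi W₂ ⟨v₂, h₂⟩ b hb2 G)
  have hfin : FiniteDimensional k (LefPen.Form r k (e + 2)) := by
    refine Submodule.finiteDimensional_of_le (show CohB1.polyGrading r k (e + 2) ≤
      MvPolynomial.restrictTotalDegree (Fin (r + 1)) k (e + 2) from fun P hP =>
        (MvPolynomial.mem_restrictTotalDegree _ _ _).2 (MvPolynomial.IsHomogeneous.totalDegree_le hP))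
  have hrn : Module.finrank k (LefPen.Form r k (e + 2)) = Module.finrank k ↥(LinearMap.range T) +
      Module.finrank k ↥(LefPen.tangentForms k (e + 2) W₁ v₁ W₂ v₂) := by
    rw [← T.finrank_range_add_finrank_ker, hT]
  have hdim : ∀ S : Submodule k (Module.Dual k ↥W₁ × Module.Dual k ↥W₂),
      Module.finrank k ↥(S.map Ψ) = Module.finrank k ↥S := fun S =>
    (Submodule.equivMapOfInjective Ψ hΨ S).finrank_eq.symm
  have hD : Module.finrank k (Module.Dual k ↥W₁ × Module.Dual k ↥W₂) =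
      Module.finrank k ↥W₁ + Module.finrank k ↥W₂ := by
    rw [Module.finrank_prod, Subspace.dual_finrank_eq, Subspace.dual_finrank_eq]
  have hrange : ∀ S : Submodule k (Module.Dual k ↥W₁ × Module.Dual k ↥W₂),
      (∀ G : LefPen.Form r k (e + 2), (coord W₁ v₁ a G, coord W₂ v₂ b G) ∈ S) →
      (∀ p ∈ S, ∃ ℓ m : Module.Dual k (V k r),
        (∀ w : ↥W₁, ℓ w.1 + (0 : k) ^ e * ((e : k) + 1) * m v₁ * b w.1 = p.1 w) ∧
        (∀ w : ↥W₂, m w.1 + (0 : k) ^ e * ((e : k) + 1) * ℓ v₂ * a w.1 = p.2 w)) →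
      LinearMap.range T = S.map Ψ := by
    intro S h1 h2
    refine le_antisymm ?_ ?_
    · rintro _ ⟨G, rfl⟩
      exact ⟨_, h1 G, (hTΨ G).symm⟩
    · rintro _ ⟨p, hp, rfl⟩
      obtain ⟨ℓ, m, hl, hm⟩ := h2 p hp
      refine ⟨test e a b ℓ m, (hTΨ _).trans (congrArg Ψ (Prod.ext (LinearMap.ext fun w => ?_) (LinearMap.ext fun w => ?_)))⟩
      · exact (coord_test e W₁ v₁ a b ℓ m ha1 hb1 w).trans (hl w)
      · rw [test_swap]
        exact (coord_test e W₂ v₂ b a m ℓ hb2 ha2 w).trans (hm w)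
  constructor
  · intro hcase
    rw [hrn, hrange ⊤ (fun _ => trivial) ?_, hdim, finrank_top, hD, add_comm]
    rintro ⟨p, q⟩ -
    rcases Nat.eq_zero_or_pos e with he | he
    · subst he
      simp only [pow_zero, one_mul, Nat.cast_zero, zero_add]
      have hc : v₂ ∉ W₁ ∨ v₁ ∉ W₂ := by
        rcases hcase with h | h
        · omega
        · exact not_and_or.1 h
      rcases hc with hn | hn
      · obtain ⟨m, hm⟩ := exists_extend_zero W₂ q
        obtain ⟨ℓ, hl, hl0⟩ := exists_extend_vanish W₁ hn (p - m v₁ • b.comp W₁.subtype)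
        refine ⟨ℓ, m, fun w => ?_, fun w => ?_⟩
        · simp [hl w]
        · simp [hm w, hl0]
      · obtain ⟨ℓ, hl⟩ := exists_extend_zero W₁ p
        obtain ⟨m, hm, hm0⟩ := exists_extend_vanish W₂ hn (q - ℓ v₂ • a.comp W₂.subtype)
        refine ⟨ℓ, m, fun w => ?_, fun w => ?_⟩
        · simp [hl w, hm0]
        · simp [hm w]
    · obtain ⟨ℓ, hl⟩ := exists_extend_zero W₁ p
      obtain ⟨m, hm⟩ := exists_extend_zero W₂ q
      exact ⟨ℓ, m, fun w => by simp [hl w, zero_pow he.ne'], fun w => by simp [hm w, zero_pow he.ne']⟩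
  · rintro ⟨hd2, hw1, hw2⟩
    obtain rfl : e = 0 := by omega
    let lam : Module.Dual k (Module.Dual k ↥W₁ × Module.Dual k ↥W₂) :=
      LinearMap.coprod (Module.Dual.eval k ↥W₁ ⟨v₂, hw1⟩) (-(Module.Dual.eval k ↥W₂ ⟨v₁, hw2⟩))
    have hne : lam ≠ 0 := by
      intro h
      have := LinearMap.congr_fun h (b.comp W₁.subtype, 0)
      simp [lam, hb2] at this
    have hk := Module.Dual.finrank_ker_add_one_of_ne_zero hne
    rw [hD] at hk
    rw [hrn, hrange (LinearMap.ker lam) ?_ ?_, hdim]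
    · omega
    · intro G
      rw [LinearMap.mem_ker]
      simp [lam, coord, ha2, hb1, D_symm v₁ v₂ G]
    · rintro ⟨p, q⟩ hpq
      rw [LinearMap.mem_ker] at hpq
      simp only [pow_zero, one_mul, Nat.cast_zero, zero_add]
      obtain ⟨m, hm⟩ := exists_extend_zero W₂ q
      obtain ⟨ℓ, hl⟩ := exists_extend_zero W₁ (p - m v₁ • b.comp W₁.subtype)
      have hl0 : ℓ v₂ = 0 := by
        have h := hl ⟨v₂, hw1⟩
        have h' := hm ⟨v₁, hw2⟩
        simp only at h h'
        rw [h]
        simp [hb2, h']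
        simpa [lam, sub_eq_add_neg] using hpq
      refine ⟨ℓ, m, fun w => ?_, fun w => ?_⟩
      · simp [hl w]
      · simp [hm w, hl0]

end Groth.Agent.S4024
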