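import Groth.Statements.S4025
import Groth.Agent.LefPenLib.Ord
import Groth.Agent.LefPenLib.Pair
-- import your own Groth.Agent.* helpers here

set_option autoImplicit false
universe u
open CategoryTheory CategoryTheory.Limits AlgebraicGeometry
open LefPen

namespace Groth.Agent.S4025

/-- Let k be an algebraically closed field and X an irreducible smooth proper k-scheme of dimension n ≥
1 embedded in projective r-space by a closed immersion i, and let d ≥ 1. Inside the dual variety
(the forms whose hypersurface does not cut X transversally), the forms H such that X ∩ V(H) is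
smooth except at exactly one point which is an ordinary quadratic singularity form an open subset:
around each such H₀ there is a polynomial function on the space of forms, non-zero at H₀, whose
non-vanishing locus meets the dual variety only in such forms. -/
theorem result (k : Type u) [Field k] [IsAlgClosed k] (r n : ℕ) (hn : 1 ≤ n)
    {X : Scheme.{u}} (i : X ⟶ CohB1.ProjSpace r k) [IsClosedImmersion i] [IrreducibleSpace X]
    [SmoothOfRelativeDimension n (i ≫ CohB1.ProjSpace.toSpec r k)]
    (d : ℕ) (hd : 1 ≤ d) (H₀ : LefPen.Form r k d) (hH₀ : LefPen.OneOrdQuad k n i H₀) :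
    ∃ f : LefPen.Form r k d → k, LefPen.IsPolyFun k f ∧ f H₀ ≠ 0 ∧
      ∀ H : LefPen.Form r k d, ¬ LefPen.Transversal k n 1 (LefPen.secToSpec i ({H} : Set (LefPen.Form r k d))) →
        f H ≠ 0 → LefPen.OneOrdQuad k n i H := by
  classical
  obtain ⟨j0, ev0, hb0, hnd, huniq⟩ := (LefPenLib.oneOrdQuad_iff (n := n) i H₀ hn).1 hH₀
  obtain ⟨D, hD0, hD⟩ := LefPenLib.exists_open_oneTangency (n := n) i H₀ j0 ev0 hnd
    fun i' ev' hb' => ((LefPenLib.pointOf_eq_iff i).2 (huniq i' ev' hb')).symm
  refine ⟨_, LefPenLib.isPolyFun_eval_coeff D, hD0, fun H hH hne => ?_⟩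
  rw [LefPenLib.transversal_iff (n := n) i hn H] at hH
  push Not at hH
  obtain ⟨j, ev, hb⟩ := hH
  refine (LefPenLib.oneOrdQuad_iff (n := n) i H hn).2 ⟨j, ev, hb, fun h => hD H hne j ev ⟨hb, Or.inl h⟩,
    fun j' ev' hb' => (LefPenLib.pointOf_eq_iff i).1 ?_⟩
  by_contra hc
  exact hD H hne j ev ⟨hb, Or.inr ⟨j', ev', hb', Ne.symm hc⟩⟩

end Groth.Agent.S4025
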