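import Groth.Statements.S4027
import Mathlib.RingTheory.Polynomial.GaussLemma
import Mathlib.RingTheory.Polynomial.UniqueFactorization
import Mathlib.RingTheory.UniqueFactorizationDomain.GCDMonoid
import Mathlib.Algebra.Polynomial.Laurent
import Mathlib.RingTheory.MvPolynomial.Basic
import Mathlib.Algebra.MvPolynomial.Nilpotent
import Mathlib.Algebra.Group.UniqueProds.Basic
import Mathlib.Algebra.MonoidAlgebra.NoZeroDivisors
import Mathlib.RingTheory.Localization.FractionRing

set_option autoImplicit false
universe u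
open LefPen

namespace Groth.Agent.S4027

attribute [-simp] LaurentPolynomial.single_eq_C_mul_T

open AddMonoidAlgebra in
/-- A factor of a monomial is a monomial. -/
theorem factor_single {A : Type u} [CommRing A] [IsDomain A] (f g : AddMonoidAlgebra A ℤ) {c : A} (hc : c ≠ 0)
    (h : f * g = single 0 c) : ∃ (a : ℤ) (d : A), f = single a d := by
  classical
  have hf : f ≠ 0 := by rintro rfl; simp [eq_comm, hc] at h
  have hg : g ≠ 0 := by rintro rfl; simp [eq_comm, hc] at h
  have hfs : f.coeff.support.Nonempty :=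
    Finsupp.support_nonempty_iff.2 fun h0 => hf (AddMonoidAlgebra.ext h0)
  have hgs : g.coeff.support.Nonempty :=
    Finsupp.support_nonempty_iff.2 fun h0 => hg (AddMonoidAlgebra.ext h0)
  by_cases hcard : 1 < f.coeff.support.card * g.coeff.support.card
  · exfalso
    obtain ⟨p1, hp1, p2, hp2, hne, u1, u2⟩ := TwoUniqueSums.uniqueAdd_of_one_lt_card hcard
    have key : ∀ p ∈ f.coeff.support ×ˢ g.coeff.support, UniqueAdd f.coeff.support g.coeff.support p.1 p.2 →
        p.1 + p.2 = 0 := by
      intro p hp u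
      by_contra hne0
      have h1 := AddMonoidAlgebra.coeff_mul_add_of_uniqueAdd (f := f) (g := g) u
      rw [h, AddMonoidAlgebra.coeff_single, Finsupp.single_eq_of_ne hne0] at h1
      obtain ⟨hp₁, hp₂⟩ := Finset.mem_product.1 hp
      exact mul_ne_zero (Finsupp.mem_support_iff.1 hp₁) (Finsupp.mem_support_iff.1 hp₂) h1.symm
    obtain ⟨e1, e2⟩ := u1 (Finset.mem_product.1 hp2).1 (Finset.mem_product.1 hp2).2
      ((key p2 hp2 u2).trans (key p1 hp1 u1).symm)
    exact hne (Prod.ext e1 e2).symm
  · have : f.coeff.support.card = 1 := by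
      have h1 := hfs.card_pos
      have h2 := hgs.card_pos
      have h3 := Nat.le_mul_of_pos_right f.coeff.support.card h2
      omega
    obtain ⟨a, d, -, hfc⟩ := Finsupp.card_support_eq_one'.1 this
    exact ⟨a, d, AddMonoidAlgebra.ext (by rw [hfc, AddMonoidAlgebra.coeff_single])⟩

section
open AddMonoidAlgebra
variable {k : Type u} [Field k] {σ : Type}

local notation "A" => MvPolynomial σ k
local notation "AT" => Polynomial (MvPolynomial σ k)

/-- weight `1` for the variables and `-1` for `T`. -/
noncomputable def Phi : AT →+* AddMonoidAlgebra AT ℤ :=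
  Polynomial.eval₂RingHom
    (MvPolynomial.eval₂Hom (singleZeroRingHom.comp (Polynomial.C.comp MvPolynomial.C)) fun i => single 1 (Polynomial.C (MvPolynomial.X i)))
    (single (-1) Polynomial.X)

theorem Phi_C (a : k) : Phi (σ := σ) (Polynomial.C (MvPolynomial.C a)) = single 0 (Polynomial.C (MvPolynomial.C a)) := by
  simp [Phi, singleZeroRingHom]

theorem Phi_var (i : σ) : Phi (k := k) (Polynomial.C (MvPolynomial.X i)) = single 1 (Polynomial.C (MvPolynomial.X i)) := by
  simp [Phi]

theorem Phi_T : Phi (k := k) (σ := σ) Polynomial.X = single (-1) Polynomial.X := by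
  simp [Phi]

noncomputable def at1 : AddMonoidAlgebra AT ℤ →+* AT :=
  AddMonoidAlgebra.liftNCRingHom (RingHom.id AT) 1 fun _ _ => Commute.all _ _

noncomputable def pi0 : AT →+* k := (MvPolynomial.eval (fun _ : σ => (0 : k))).comp Polynomial.constantCoeff

noncomputable def Psi : AddMonoidAlgebra AT ℤ →+* LaurentPolynomial A :=
  AddMonoidAlgebra.liftNCRingHom Polynomial.toLaurent (AddMonoidAlgebra.of A ℤ) fun _ _ => Commute.all _ _

noncomputable def nu : A →+* LaurentPolynomial A :=
  MvPolynomial.eval₂Hom (singleZeroRingHom.comp MvPolynomial.C) fun i => single 1 (MvPolynomial.X i)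

theorem hom_ext {S : Type u} [CommRing S] {f g : AT →+* S} (hC : ∀ a, f (Polynomial.C (MvPolynomial.C a)) = g (Polynomial.C (MvPolynomial.C a)))
    (hX : ∀ i, f (Polynomial.C (MvPolynomial.X i)) = g (Polynomial.C (MvPolynomial.X i))) (hT : f Polynomial.X = g Polynomial.X) : f = g :=
  Polynomial.ringHom_ext' (MvPolynomial.ringHom_ext (fun a => hC a) (fun i => hX i)) hT

theorem at1_Phi (P : AT) : at1 (Phi P) = P := by
  refine RingHom.congr_fun (f := at1.comp Phi) (g := RingHom.id AT) (hom_ext (fun a => ?_) (fun i => ?_) ?_) P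
  · simp [Phi_C, at1]
  · simp [Phi_var, at1]
  · simp [Phi_T, at1]

theorem pi0_Phi (P : AT) : mapRingHom ℤ pi0 (Phi P) = single 0 (pi0 P) := by
  refine RingHom.congr_fun (f := (mapRingHom ℤ pi0).comp Phi) (g := singleZeroRingHom.comp (pi0 (σ := σ) (k := k))) (hom_ext (fun a => ?_) (fun i => ?_) ?_) P
  · simp [Phi_C, singleZeroRingHom]
  · simp [Phi_var, singleZeroRingHom, pi0]
  · simp [Phi_T, singleZeroRingHom, pi0]

theorem Psi_single (n : ℤ) (P : AT) : Psi (single n P) = Polynomial.toLaurent P * single n 1 := by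
  simp [Psi, AddMonoidAlgebra.of]

theorem Psi_Phi (P : AT) : Psi (Phi P) = nu (P.eval 1) := by
  refine RingHom.congr_fun (f := (Psi).comp Phi) (g := (nu (σ := σ) (k := k)).comp (Polynomial.evalRingHom 1)) (hom_ext (fun a => ?_) (fun i => ?_) ?_) P
  · simp [Phi_C, Psi_single, nu, singleZeroRingHom, LaurentPolynomial.C, ← AddMonoidAlgebra.one_def]
  · simp [Phi_var, Psi_single, nu, LaurentPolynomial.C, single_mul_single]
  · simp [Phi_T, Psi_single, LaurentPolynomial.T, single_mul_single, ← AddMonoidAlgebra.one_def]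

theorem eq_C_of_factor {P Q G : AT} (hG : Phi G = single 0 G) (h : G = P * Q) (hG0 : pi0 G ≠ 0)
    (hP : IsUnit (P.eval 1)) : IsUnit P := by
  obtain ⟨c, hc, hPc⟩ := MvPolynomial.isUnit_iff_eq_C_of_isReduced.1 hP
  have hne : G ≠ 0 := by rintro rfl; simp at hG0
  obtain ⟨m, P', hm⟩ := factor_single (Phi P) (Phi Q) hne (by rw [← map_mul, ← h, hG])
  have hP' : P' = P := by
    have h1 := at1_Phi P
    rw [hm] at h1
    simpa [at1] using h1
  subst hP'
  have hm0 : m = 0 := by
    have h1 := pi0_Phi P'
    rw [hm, mapRingHom_single] at h1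
    have hp : pi0 P' ≠ 0 := fun h0 => hG0 (by rw [h, map_mul, h0, zero_mul])
    have h2 := congrArg (fun x : AddMonoidAlgebra k ℤ => x.coeff m) h1
    simp only [AddMonoidAlgebra.coeff_single, Finsupp.single_eq_same] at h2
    by_contra hne'
    rw [Finsupp.single_eq_of_ne hne'] at h2
    exact hp h2
  subst hm0
  have h3 := Psi_Phi P'
  rw [hm, Psi_single, hPc, ← AddMonoidAlgebra.one_def, mul_one] at h3
  have h4 : P' = Polynomial.C (MvPolynomial.C c) := by
    refine Polynomial.toLaurent_injective (h3.trans ?_)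
    simp [nu, singleZeroRingHom, LaurentPolynomial.C]
  rw [h4]
  exact (hc.map MvPolynomial.C).map Polynomial.C

end



/-- Let k be an algebraically closed field, r ≥ 2, and F ∈ k[X_1, …, X_r] an irreducible polynomial with
F(0) ≠ 0 (in the source the origin is the base point of the lines considered and lies off the
hypersurface F = 0; without this the claim fails, e.g. for X_1 - X_2^2). Then the polynomial G(T) =
F(X_1 T, …, X_r T), with coefficients in the field of rational functions k(X_1, …, X_r), is
irreducible. -/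
theorem result (k : Type u) [Field k] [IsAlgClosed k] (r : ℕ) (hr : 2 ≤ r)
    (F : MvPolynomial (Fin r) k) (hF : Irreducible F) (hF0 : MvPolynomial.eval (fun _ => (0 : k)) F ≠ 0) :
    Irreducible ((MvPolynomial.eval₂ (Polynomial.C.comp MvPolynomial.C)
        (fun j => Polynomial.C (MvPolynomial.X j) * Polynomial.X) F).map
      (algebraMap (MvPolynomial (Fin r) k) (FractionRing (MvPolynomial (Fin r) k)))) := by
  classical
  set G : Polynomial (MvPolynomial (Fin r) k) := MvPolynomial.eval₂ (Polynomial.C.comp MvPolynomial.C)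
        (fun j => Polynomial.C (MvPolynomial.X j) * Polynomial.X) F with hG
  have e0 : ∀ F' : MvPolynomial (Fin r) k, Phi (MvPolynomial.eval₂Hom (Polynomial.C.comp MvPolynomial.C)
      (fun j => Polynomial.C (MvPolynomial.X j) * Polynomial.X) F') = AddMonoidAlgebra.single 0 (MvPolynomial.eval₂Hom (Polynomial.C.comp MvPolynomial.C)
      (fun j => Polynomial.C (MvPolynomial.X j) * Polynomial.X) F') := fun F' => by
    let θ := MvPolynomial.eval₂Hom (Polynomial.C.comp (MvPolynomial.C (σ := Fin r) (R := k))) (fun j => Polynomial.C (MvPolynomial.X j) * Polynomial.X)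
    refine RingHom.congr_fun (f := Phi.comp θ) (g := AddMonoidAlgebra.singleZeroRingHom.comp θ)
      (MvPolynomial.ringHom_ext (fun a => ?_) (fun i => ?_)) F'
    · simp [θ, Phi_C, AddMonoidAlgebra.singleZeroRingHom]
    · simp [θ, Phi_var, Phi_T, AddMonoidAlgebra.singleZeroRingHom, AddMonoidAlgebra.single_mul_single]
  have hPhiG : Phi G = AddMonoidAlgebra.single 0 G := e0 F
  have hG1 : G.eval 1 = F := by
    let θ := MvPolynomial.eval₂Hom (Polynomial.C.comp (MvPolynomial.C (σ := Fin r) (R := k))) (fun j => Polynomial.C (MvPolynomial.X j) * Polynomial.X)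
    refine RingHom.congr_fun (f := (Polynomial.evalRingHom 1).comp θ) (g := RingHom.id _)
      (MvPolynomial.ringHom_ext (fun a => ?_) (fun i => ?_)) F
    · simp [θ]
    · simp [θ]
  have hG0 : G.coeff 0 = MvPolynomial.C (MvPolynomial.eval (fun _ => (0 : k)) F) := by
    let θ := MvPolynomial.eval₂Hom (Polynomial.C.comp (MvPolynomial.C (σ := Fin r) (R := k))) (fun j => Polynomial.C (MvPolynomial.X j) * Polynomial.X)
    refine RingHom.congr_fun (f := Polynomial.constantCoeff.comp θ) (g := MvPolynomial.C.comp (MvPolynomial.eval (fun _ => (0 : k))))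
      (MvPolynomial.ringHom_ext (fun a => ?_) (fun i => ?_)) F
    · simp [θ]
    · simp [θ]
  have hπ : pi0 G ≠ 0 := by simpa [pi0, hG0] using hF0
  have hu : IsUnit (G.coeff 0) := by rw [hG0]; exact (Ne.isUnit hF0).map MvPolynomial.C
  have hprim : G.IsPrimitive := fun a ha => isUnit_of_dvd_unit ((Polynomial.C_dvd_iff_dvd_coeff _ _).1 ha 0) hu
  refine hprim.irreducible_iff_irreducible_map_fraction_map.1 ⟨fun h => hF.not_isUnit ?_, fun P Q h => ?_⟩
  · rw [← hG1]; exact h.map (Polynomial.evalRingHom 1)
  · have h1 : F = P.eval 1 * Q.eval 1 := by rw [← hG1, h, Polynomial.eval_mul]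
    rcases hF.isUnit_or_isUnit h1 with hP | hQ
    · exact Or.inl (eq_C_of_factor hPhiG h hπ hP)
    · exact Or.inr (eq_C_of_factor (P := Q) (Q := P) hPhiG (by rw [h, mul_comm]) hπ hQ)

end Groth.Agent.S4027
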