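import Groth.Statements.S4040
import Groth.Agent.H28.CIHodge.Geom
-- import your own Groth.Agent.* helpers here

set_option autoImplicit false
set_option backward.isDefEq.respectTransparency false
set_option backward.isDefEq.respectTransparency.types false
universe u
open CategoryTheory CategoryTheory.Limits AlgebraicGeometry
open LefPen

namespace Groth.Agent.S4040

/-- Over a field (base Spec k): let k be a field and Y ⊆ P^{n+d}_k the common zero scheme of d ≥ 1 forms
of degrees a_j ≥ 1, smooth over k of relative dimension n (a smooth complete intersection of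
dimension n); let Ω = Ω^1_{Y/k} (the conormal sheaf of the diagonal) and L an O_Y-module which is a
j-th exterior power of Ω. Then H^i(Y, L) = 0 for all i, j with i ≠ j and i + j ≠ n. -/
theorem result (k : Type u) [Field k] (n d : ℕ) (hd : 1 ≤ d) (a : Fin d → ℕ) (ha : ∀ j, 1 ≤ a j)
    (G : ∀ j : Fin d, LefPen.Form (n + d) k (a j))
    [SmoothOfRelativeDimension n ((LefPen.ciIdeal G).subschemeι ≫ CohB1.ProjSpace.toSpec (n + d) k)]
    (j : ℕ) (L : (LefPen.ciIdeal G).subscheme.Modules) (hL : ExtPow.IsExtPow j (Omega.sheaf ((LefPen.ciIdeal G).subschemeι ≫ CohB1.ProjSpace.toSpec (n + d) k)) L)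
    (i : ℕ) (hij : i ≠ j) (hijn : i + j ≠ n) :
    Subsingleton (Coh.HH (LefPen.ciIdeal G).subscheme L i) := by
  letI : (LefPen.ciIdeal G).subscheme.Over (Spec (CommRingCat.of k)) :=
    ⟨(LefPen.ciIdeal G).subschemeι ≫ CohB1.ProjSpace.toSpec (n + d) k⟩
  haveI : IsProper (CohB1.ProjSpace.toSpec (n + d) k) := PnCoh.Chow.isProper_toSpec.{u} (n + d) k
  rcases Nat.eq_zero_or_pos n with hn | hn
  · have hΩ := KExact.DiagCodim.rank_omega ((LefPen.ciIdeal G).subschemeι ≫ CohB1.ProjSpace.toSpec (n + d) k) n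
    rcases Nat.eq_zero_or_pos i with hi | hi
    · obtain ⟨e⟩ := H28.ExtSh.nonempty_iso_L (H28.KvbModel.lf_of_rank hΩ) hL
      exact Euler.subsingleton_HH_of_isZero ((H28.KvbModel.isZero_L hΩ (show n < j by omega)).of_iso e.symm) i
    · exact H28.CIHodge.subsingleton_HH G rfl
        (Synt29.ExtPowPull.isQCoh_of_isExtPow (QCoh.isQCoh_of_isFinLocFree (H28.KvbModel.lf_of_rank hΩ)) hL) i (by omega)
  · exact (H28.CIHodge.hodge G rfl ha hn hL i hijn).1 hij

end Groth.Agent.S4040
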