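import Groth.Statements.S4064
import Mathlib.Algebra.Homology.DerivedCategory.Ext.ExactSequences
import Mathlib.Algebra.Homology.DerivedCategory.TStructure
import Mathlib.Algebra.Homology.DerivedCategory.FullyFaithful
-- import your own Groth.Agent.* helpers here

set_option autoImplicit false
universe w v v'
open CategoryTheory CategoryTheory.Abelian
open SGA7

namespace Groth.Agent.S4064

/-- Let P -> F -> R and R -> E -> Q be short exact sequences in an abelian category (F an extension of R
by P, E an extension of Q by R). A blended extension of E by F is an object X with a monomorphism i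
: F -> X and an epimorphism p : X -> E such that P -> X -> E (via i) and F -> X -> Q (via p) are
short exact and F -> X -> E is the composite F -> R -> E. Such an X exists if and only if the
composite of the two extension classes, an element of Ext^2(Q, P), is zero. -/
theorem result {C : Type w} [Category.{v} C] [Abelian C]
    [HasExt.{v'} C] {P F R E Q : C} (a : P ⟶ F) (b : F ⟶ R) (wF : a ≫ b = 0)
    (hF : (ShortComplex.mk a b wF).ShortExact) (c : R ⟶ E) (d : E ⟶ Q) (wE : c ≫ d = 0)
    (hE : (ShortComplex.mk c d wE).ShortExact) :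
    (∃ (X : C) (i : F ⟶ X) (p : X ⟶ E), i ≫ p = b ≫ c ∧
        (∃ w : (a ≫ i) ≫ p = 0, (ShortComplex.mk (a ≫ i) p w).ShortExact) ∧
        (∃ w : i ≫ (p ≫ d) = 0, (ShortComplex.mk i (p ≫ d) w).ShortExact)) ↔
      hE.extClass.comp hF.extClass (rfl : 1 + 1 = 2) = 0 := by
  let D := HasDerivedCategory.standard C
  let e := hE.extClass
  let f := hF.extClass
  constructor
  · rintro ⟨X, i, p, hip, -, w, hX⟩
    let φ : ShortComplex.mk i (p ≫ d) w ⟶ ShortComplex.mk c d wE :=
      { τ₁ := b, τ₂ := p, τ₃ := 𝟙 Q
        comm₁₂ := hip.symm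
        comm₂₃ := (Category.comp_id _).symm }
    have h := ShortComplex.ShortExact.extClass_naturality hX hE φ
    rw [Abelian.Ext.mk₀_id_comp] at h
    rw [← h, Abelian.Ext.comp_assoc (a₁₂ := 1) (a₂₃ := 1) _ _ _ rfl rfl rfl]
    have hb := hF.comp_extClass
    simp only [φ] at hb ⊢
    rw [hb, Abelian.Ext.comp_zero]
  · intro h0
    obtain ⟨x₀, hx₀⟩ := Abelian.Ext.covariant_sequence_exact₃ Q hF hE.extClass rfl h0
    let x : Abelian.Ext.{v'} Q F 1 := x₀
    have hx : x.comp (Abelian.Ext.mk₀ b) (add_zero 1) = hE.extClass := hx₀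
    -- realise `x` as an extension
    let S0 := DerivedCategory.singleFunctor C 0
    obtain ⟨Z, f', g', mem⟩ := Pretriangulated.distinguished_cocone_triangle₂ (x.hom : S0.obj Q ⟶ (S0.obj F)⟦(1 : ℤ)⟧)
    let T := Pretriangulated.Triangle.mk f' g' x.hom
    let H := fun n => DerivedCategory.homologyFunctor C n
    have hz : ∀ (A : C) (n : ℤ), n ≠ 0 → Limits.IsZero ((H n).obj (S0.obj A)) := by
      intro A n hn
      rcases lt_or_gt_of_ne hn with hn | hn
      · exact (DerivedCategory.isGE_iff _ 0).1 inferInstance n hn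
      · exact (DerivedCategory.isLE_iff _ 0).1 inferInstance n hn
    have hZ : ∀ n : ℤ, n ≠ 0 → Limits.IsZero ((H n).obj Z) := fun n hn =>
      (DerivedCategory.HomologySequence.exact₂ T mem n).isZero_of_both_zeros
        ((hz F n hn).eq_of_src _ _) ((hz Q n hn).eq_of_tgt _ _)
    haveI : Z.IsGE 0 := (DerivedCategory.isGE_iff _ 0).2 fun n hn => hZ n hn.ne
    haveI : Z.IsLE 0 := (DerivedCategory.isLE_iff _ 0).2 fun n hn => hZ n hn.ne'
    obtain ⟨X, ⟨eX⟩⟩ := DerivedCategory.exists_iso_singleFunctor_obj_of_isGE_of_isLE Z 0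
    let i : F ⟶ X := S0.preimage (f' ≫ eX.hom)
    let q : X ⟶ Q := S0.preimage (eX.inv ≫ g')
    have hi : S0.map i = f' ≫ eX.hom := S0.map_preimage _
    have hq : S0.map q = eX.inv ≫ g' := S0.map_preimage _
    have hfg : f' ≫ g' = 0 := Pretriangulated.comp_distTriang_mor_zero₁₂ T mem
    have wiq : i ≫ q = 0 := S0.map_injective (by
      rw [Functor.map_comp, hi, hq, Category.assoc, Iso.hom_inv_id_assoc, hfg, Functor.map_zero])
    haveI : Mono ((H 0).map f') := by
      refine (DerivedCategory.HomologySequence.mono_homologyMap_mor₁_iff T mem (-1) 0 (by lia)).2 ?_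
      exact (hz Q (-1) (by lia)).eq_of_src _ _
    haveI : Epi ((H 0).map g') := by
      refine (DerivedCategory.HomologySequence.epi_homologyMap_mor₂_iff T mem 0 1 (by lia)).2 ?_
      exact (hz F 1 (by lia)).eq_of_tgt _ _
    have hX : (ShortComplex.mk i q wiq).ShortExact := by
      let ι := DerivedCategory.singleFunctorCompHomologyFunctorIso C 0
      have w0 : (H 0).map f' ≫ (H 0).map g' = 0 := by rw [← Functor.map_comp, hfg, Functor.map_zero]
      have hse : (ShortComplex.mk ((H 0).map f') ((H 0).map g') w0).ShortExact :=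
        { exact := DerivedCategory.HomologySequence.exact₂ T mem 0, mono_f := ‹_›, epi_g := ‹_› }
      refine (ShortComplex.shortExact_iff_of_iso (ShortComplex.isoMk (ι.app F) ((H 0).mapIso eX ≪≫ ι.app X) (ι.app Q) ?_ ?_)).1 hse
      · have := ι.hom.naturality i
        simp only [Functor.comp_map, Functor.id_map] at this
        change ι.hom.app F ≫ i = (H 0).map f' ≫ (H 0).map eX.hom ≫ ι.hom.app X
        rw [← this, ← Category.assoc, ← Functor.map_comp]
        exact congrArg (fun m => (H 0).map m ≫ _) hi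
      · have := ι.hom.naturality q
        simp only [Functor.comp_map, Functor.id_map] at this
        change ((H 0).map eX.hom ≫ ι.hom.app X) ≫ q = (H 0).map g' ≫ ι.hom.app Q
        rw [Category.assoc, ← this, ← Category.assoc]
        refine congrArg (· ≫ _) ?_
        refine (Functor.map_comp _ _ _).symm.trans (congrArg (H 0).map ?_)
        erw [hq]
        rw [Iso.hom_inv_id_assoc]
    -- the map to `E`
    have hcomm : x.hom ≫ (S0.map b)⟦(1 : ℤ)⟧' = 𝟙 _ ≫ hE.singleδ := by
      rw [Category.id_comp, ← ShortComplex.ShortExact.extClass_hom, ← hx, Abelian.Ext.comp_hom,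
        Abelian.Ext.mk₀_hom, ShiftedHom.comp_mk₀]
      rfl
    obtain ⟨t', ht1', ht2'⟩ := Pretriangulated.complete_distinguished_triangle_morphism₂ T _ mem
      hE.singleTriangle_distinguished (S0.map b) (𝟙 _) hcomm
    let t : Z ⟶ S0.obj E := t'
    have ht1 : f' ≫ t = S0.map b ≫ S0.map c := ht1'
    have ht2 : g' ≫ 𝟙 _ = t ≫ S0.map d := ht2'
    let p : X ⟶ E := S0.preimage (eX.inv ≫ t)
    have hp : S0.map p = eX.inv ≫ t := S0.map_preimage _
    have hip : i ≫ p = b ≫ c := S0.map_injective (by
      rw [Functor.map_comp, Functor.map_comp, hi, hp, Category.assoc]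
      rw [Iso.hom_inv_id_assoc]
      exact ht1)
    have hpd : p ≫ d = q := S0.map_injective (by
      rw [Functor.map_comp, hp, hq, Category.assoc]
      refine congrArg (eX.inv ≫ ·) ?_
      exact (Category.comp_id _).symm.trans ht2 |>.symm)
    haveI : Mono a := hF.mono_f
    haveI : Epi b := hF.epi_g
    haveI : Mono c := hE.mono_f
    haveI : Mono i := hX.mono_f
    haveI : Epi q := hX.epi_g
    have w1 : (a ≫ i) ≫ p = 0 := by rw [Category.assoc, hip, reassoc_of% wF, Limits.zero_comp]
    have hex : (ShortComplex.mk (a ≫ i) p w1).Exact := by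
      refine ShortComplex.exact_of_f_is_kernel _ (Limits.KernelFork.IsLimit.ofι' (a ≫ i) w1 fun {A} t ht => ?_)
      have htq : t ≫ q = 0 := by rw [← hpd, reassoc_of% ht, Limits.zero_comp]
      let s := hX.exact.lift t htq
      have hs : s ≫ i = t := hX.exact.lift_f t htq
      have hsb : s ≫ b = 0 := (cancel_mono c).1 (by rw [Limits.zero_comp, Category.assoc, ← hip, reassoc_of% hs, ht])
      refine ⟨hF.exact.lift s hsb, ?_⟩
      have hr : hF.exact.lift s hsb ≫ a = s := hF.exact.lift_f s hsb
      show hF.exact.lift s hsb ≫ a ≫ i = t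
      rw [reassoc_of% hr, hs]
    haveI : Epi p := Preadditive.epi_of_cancel_zero p fun {A} k hk => by
      have hck : c ≫ k = 0 := (cancel_epi b).1 (by rw [Limits.comp_zero, ← Category.assoc, ← hip, Category.assoc, hk, Limits.comp_zero])
      haveI : Epi d := hE.epi_g
      let k' := hE.exact.desc k hck
      have hk' : d ≫ k' = k := hE.exact.g_desc k hck
      have : k' = 0 := (cancel_epi q).1 (by rw [Limits.comp_zero, ← hpd, Category.assoc, hk', hk])
      rw [← hk', this, Limits.comp_zero]
    have wX : i ≫ (p ≫ d) = 0 := by rw [hpd]; exact wiq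
    refine ⟨X, i, p, hip, ⟨w1, { exact := hex, mono_f := inferInstanceAs (Mono (a ≫ i)), epi_g := ‹Epi p› }⟩, wX, ?_⟩
    simpa only [hpd] using hX

end Groth.Agent.S4064
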