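import Groth.Statements.S4087
import Groth.Agent.GrpdLib.QuasiSection

set_option backward.isDefEq.respectTransparency false
set_option backward.isDefEq.respectTransparency.types false
-- import your own Groth.Agent.* helpers here

set_option autoImplicit false
universe u
open CategoryTheory MonoidalCategory CartesianMonoidalCategory MonObj GrpObj AlgebraicGeometry CategoryTheory.Limits
open GrpQ

namespace Groth.Agent.S4087

/-- Let (U, R, s, t, c) be a groupoid scheme over S and u : U' → U an immersion which is a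
quasi-section: writing V = R ×_{t, U} U' for the arrows with target in U', the morphism V → U
induced by s is finite locally free and surjective, and every subset of U' whose points are pairwise
equivalent (any two are the target and the source of one arrow) lies in an affine open of U'. Then
(t, s) has a coequalizer p : U → Y in schemes; p is surjective, open if t is open, universally
closed if t is; R → U ×_Y U is surjective; and if j = (t, s) is a monomorphism, R ≅ U ×_Y U, and p
is flat when t is flat. -/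
theorem result (S : Scheme.{u}) (G : Grpd.GroupoidScheme S)
    (U' : Scheme.{u}) (u : U' ⟶ G.U) [IsImmersion u]
    (h1 : Mor2.IsFinLocFree (pullback.fst G.t u ≫ G.s) ∧ Surjective (pullback.fst G.t u ≫ G.s))
    (h2 : ∀ E : Set U', (∀ x ∈ E, ∀ y ∈ E, ∃ r : G.R, G.t.base r = u.base x ∧ G.s.base r = u.base y) →
      ∃ W : U'.Opens, IsAffineOpen W ∧ E ⊆ (W : Set U')) :
    ∃ (Y : Scheme.{u}) (p : G.U ⟶ Y) (w : G.t ≫ p = G.s ≫ p),
      Nonempty (IsColimit (Cofork.ofπ p w)) ∧ Surjective p ∧
      (IsOpenMap G.t.base → IsOpenMap p.base) ∧ (UniversallyClosed G.t → UniversallyClosed p) ∧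
      Function.Surjective (pullback.lift G.t G.s w).base ∧
      (Mono G.j → IsPullback G.t G.s p p ∧ (Flat G.t → Flat p)) := by
  obtain ⟨⟨i₁, i₂, i₃⟩, i₄⟩ := h1
  have : IsFinite (GrpdLib.srcMap G u) := i₁
  have : Flat (GrpdLib.srcMap G u) := i₂
  have : LocallyOfFinitePresentation (GrpdLib.srcMap G u) := i₃
  have : Surjective (GrpdLib.srcMap G u) := i₄
  let G' := GrpdLib.pullBackGrpd G u
  have : IsFinite G'.s := inferInstanceAs (IsFinite (pullback.snd (GrpdLib.srcMap G u) u))
  have : Flat G'.s := inferInstanceAs (Flat (pullback.snd (GrpdLib.srcMap G u) u))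
  have : LocallyOfFinitePresentation G'.s :=
    inferInstanceAs (LocallyOfFinitePresentation (pullback.snd (GrpdLib.srcMap G u) u))
  have hb : ∀ x : G'.U, ∃ V : G'.U.Opens, IsAffineOpen V ∧ G'.t.base '' (G'.s.base ⁻¹' {x}) ⊆ (V : Set G'.U) := by
    intro x
    refine h2 _ ?_
    rintro _ ⟨r₁, hr₁, rfl⟩ _ ⟨r₂, hr₂, rfl⟩
    have hr₁' : G'.s r₁ = x := hr₁
    have hr₂' : G'.s r₂ = x := hr₂
    obtain ⟨r, ht, hs⟩ := GrpdLib.exists_comp G' r₁ (G'.i r₂) (by
      rw [← Scheme.Hom.comp_apply, G'.i_t, hr₁', hr₂'])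
    rw [← Scheme.Hom.comp_apply, G'.i_s] at hs
    refine ⟨GrpdLib.pbMid G u r, ?_, ?_⟩
    · show G.t (GrpdLib.pbMid G u r) = u (G'.t r₁)
      rw [← Scheme.Hom.comp_apply, GrpdLib.pbMid_t, Scheme.Hom.comp_apply]
      exact congrArg u ht
    · show G.s (GrpdLib.pbMid G u r) = u (G'.t r₂)
      rw [← Scheme.Hom.comp_apply, GrpdLib.pbMid_s, Scheme.Hom.comp_apply]
      exact congrArg u hs
  have hc := GrpdLib.exists_invAff hb
  obtain ⟨q, hq⟩ := GrpdLib.exists_quotMap G' hc
  have wq : GrpdLib.pbT G u ≫ q = GrpdLib.pbS G u ≫ q := GrpdLib.quotMap_w hq hc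
  obtain ⟨p, hp, hup⟩ := GrpdLib.exists_descend wq
  have wp := GrpdLib.desc_w hp
  obtain ⟨hcol⟩ := GrpdLib.exists_isColimit_quotMap hq hc (GrpdLib.quotMap_w hq hc)
  have hqsurj := GrpdLib.surjective_quotMap hq hc
  have hlift := GrpdLib.surjective_lift_desc wq hp (GrpdLib.surjective_lift_quotMap hq hc _) wp
  have hint := GrpdLib.isIntegralHom_quotMap hq hc
  have hpsurj : Surjective p := ⟨fun y => by
    obtain ⟨x, rfl⟩ := hqsurj y
    exact ⟨u x, (Scheme.Hom.comp_apply u p x).symm.trans (congrArg (fun φ => φ x) hup)⟩⟩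
  refine ⟨_, p, wp, GrpdLib.isColimit_desc wq hp hup hcol wp, hpsurj, fun hopen A hA => ?_,
    fun huc => ?_, hlift, fun hmono => ⟨?_, fun hflat => ?_⟩⟩
  · have hpre : p ⁻¹' (p '' A) = G.t '' (G.s ⁻¹' A) := by
      ext x
      constructor
      · rintro ⟨a, ha, e⟩
        obtain ⟨z, hz₁, hz₂⟩ := Scheme.Pullback.exists_preimage_pullback x a e.symm
        obtain ⟨r, hr⟩ := hlift z
        refine ⟨r, ?_, ?_⟩
        · show G.s r ∈ A
          rw [← pullback.lift_snd (f := p) (g := p) G.t G.s wp, Scheme.Hom.comp_apply, hr, hz₂]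
          exact ha
        · rw [← pullback.lift_fst (f := p) (g := p) G.t G.s wp, Scheme.Hom.comp_apply, hr, hz₁]
      · rintro ⟨r, hr, rfl⟩
        exact ⟨G.s r, hr, by rw [← Scheme.Hom.comp_apply, ← wp, Scheme.Hom.comp_apply]⟩
    have ho : IsOpen (p ⁻¹' (p '' A)) := by rw [hpre]; exact hopen _ (hA.preimage G.s.continuous)
    have hoq : IsOpen (q ⁻¹' (p '' A)) := by
      have e : q ⁻¹' (p '' A) = u ⁻¹' (p ⁻¹' (p '' A)) := by
        rw [← Set.preimage_comp, ← hup]
        rfl
      rw [e]
      exact ho.preimage u.continuous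
    rw [← isClosed_compl_iff, ← Set.image_preimage_eq (p '' A)ᶜ hqsurj, Set.preimage_compl]
    exact q.isClosedMap _ hoq.isClosed_compl
  · have : UniversallyClosed (GrpdLib.srcMap G u ≫ p) := by
      rw [hp]
      infer_instance
    exact UniversallyClosed.of_comp_surjective (GrpdLib.srcMap G u) p
  · have : Mono G'.j := GrpdLib.mono_j_pullBackGrpd G u
    exact GrpdLib.isPullback_desc hp (GrpdLib.isPullback_quotMap hq hc (GrpdLib.quotMap_w hq hc)) wp
  · have : Mono G'.j := GrpdLib.mono_j_pullBackGrpd G u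
    have := (GrpdLib.isFinLocFree_quotMap hq hc).2.1
    refine GrpdLib.flat_of_flat_comp (GrpdLib.srcMap G u) p ?_
    rw [hp]
    infer_instance
end Groth.Agent.S4087
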