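import Groth.Statements.S4092
import Groth.Agent.AlgStLib.MonoQuotGrp

set_option backward.isDefEq.respectTransparency false
set_option backward.isDefEq.respectTransparency.types false
-- import your own Groth.Agent.* helpers here

set_option autoImplicit false
universe u
open CategoryTheory MonoidalCategory CartesianMonoidalCategory MonObj GrpObj AlgebraicGeometry CategoryTheory.Limits
open GrpQ

namespace Groth.Agent.S4092

/-- Let f : X → Y be a morphism of schemes which is locally of finite presentation. Then f factors as f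
= f'' ∘ f' with f' : X → X' surjective, flat and locally of finite presentation and f'' : X' → Y a
monomorphism if and only if the first projection X ×_Y X → X is flat. Moreover two such
factorisations are isomorphic: there is an isomorphism of the middle schemes compatible with both
maps. -/
theorem result {X Y : Scheme.{u}} (f : X ⟶ Y) [LocallyOfFinitePresentation f] :
    ((∃ (X' : Scheme.{u}) (f' : X ⟶ X') (f'' : X' ⟶ Y),
        Surjective f' ∧ Flat f' ∧ LocallyOfFinitePresentation f' ∧ Mono f'' ∧ f' ≫ f'' = f) ↔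
      Flat (pullback.fst f f)) ∧
    (∀ (X₁ X₂ : Scheme.{u}) (g₁ : X ⟶ X₁) (h₁ : X₁ ⟶ Y) (g₂ : X ⟶ X₂) (h₂ : X₂ ⟶ Y),
      Surjective g₁ → Flat g₁ → LocallyOfFinitePresentation g₁ → Mono h₁ → g₁ ≫ h₁ = f →
      Surjective g₂ → Flat g₂ → LocallyOfFinitePresentation g₂ → Mono h₂ → g₂ ≫ h₂ = f →
      ∃ φ : X₁ ≅ X₂, g₁ ≫ φ.hom = g₂ ∧ φ.hom ≫ h₂ = h₁) :=  by
  refine ⟨⟨fun ⟨X', f', f'', _, hf, _, hm, e⟩ => Groth.Agent.AlgStLib.MonoFactor.flat_fst_of_factor f' f'' e,
    fun _ => Groth.Agent.AlgStLib.MonoFactor.exists_factor f⟩, ?_⟩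
  intro X₁ X₂ g₁ h₁ g₂ h₂ _ _ _ _ e₁ _ _ _ _ e₂
  exact Groth.Agent.AlgStLib.MonoFactor.exists_iso_factor g₁ h₁ g₂ h₂ e₁ e₂
end Groth.Agent.S4092
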