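import Groth.Statements.S4094
import Groth.Agent.AlgStLib.MonoQuotGrp

set_option backward.isDefEq.respectTransparency false
set_option backward.isDefEq.respectTransparency.types false
-- import your own Groth.Agent.* helpers here

set_option autoImplicit false
universe u
open CategoryTheory MonoidalCategory CartesianMonoidalCategory MonObj GrpObj AlgebraicGeometry CategoryTheory.Limits
open GrpQ

namespace Groth.Agent.S4094

/-- Let u : G → H be a homomorphism of S-group schemes with G locally of finite presentation and H
locally of finite type over S, whose kernel K is flat over S. Then there are an S-group scheme Q,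
locally of finite presentation over S, and homomorphisms p : G → Q, i : Q → H with p ≫ i = u, p
surjective, flat and locally of finite presentation with kernel K, and i a monomorphism. -/
theorem result (S : Scheme.{u}) (G H : Over S) [GrpObj G] [GrpObj H]
    [LocallyOfFinitePresentation G.hom] [LocallyOfFiniteType H.hom] (u : G ⟶ H) [IsMonHom u]
    (hK : Flat (pullback u η[H]).hom) :
    ∃ (Q : Over S) (_ : GrpObj Q) (p : G ⟶ Q) (i : Q ⟶ H), IsMonHom p ∧ IsMonHom i ∧ p ≫ i = u ∧
      Surjective p.left ∧ Flat p.left ∧ LocallyOfFinitePresentation p.left ∧ Mono i ∧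
      LocallyOfFinitePresentation Q.hom ∧ AlgGrp.IsKernel (pullback.fst u η[H]) p :=  by
  have hu : μ[G] ≫ u = (fst G G ≫ u) * (snd G G ≫ u) := by
    rw [IsMonHom.mul_hom, Hom.mul_def]
    congr 1
    
  let a : AlgGrp.Action G H :=
    { act := (fst G H ≫ u) * snd G H
      one_act := by
        rw [MonObj.comp_mul, whiskerRight_fst_assoc, whiskerRight_snd, IsMonHom.one_hom,
          toUnit_unique (fst (𝟙_ (Over S)) H) (toUnit _), ← Hom.one_def, _root_.one_mul, leftUnitor_hom]
      mul_act := by
        simp only [MonObj.comp_mul, whiskerRight_fst_assoc, whiskerRight_snd, whiskerLeft_fst_assoc,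
          whiskerLeft_snd, whiskerLeft_snd_assoc, associator_hom_fst_assoc, associator_hom_snd_fst_assoc,
          associator_hom_snd_snd, hu, _root_.mul_assoc] }
  have ho : a.orbitMap η[H] = u := by
    show lift (𝟙 G) (toUnit G ≫ η[H]) ≫ ((fst G H ≫ u) * snd G H) = u
    rw [MonObj.comp_mul, lift_fst_assoc, lift_snd, Category.id_comp, ← Hom.one_def, _root_.mul_one]
  obtain ⟨Q, p, i, hpi, hs, hf, hl, hm, hQ, -⟩ :=
    Groth.Agent.AlgStLib.MonoFactor.exists_quot_stab a η[H] (by rw [ho]; exact hK)
  rw [ho] at hpi
  obtain ⟨inst, hp, hi⟩ := Groth.Agent.AlgStLib.MonoFactor.exists_grpObj_of_image u p i hpi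
  refine ⟨Q, inst, p, i, hp, hi, hpi, hs, hf, hl, hm, hQ, ?_⟩
  refine Groth.Agent.AlgStLib.MonoFactor.isPullback_of_mono (i := i) hpi hi.one_hom ?_
  have e : pullback.snd u η[H] = toUnit (pullback u η[H]) := toUnit_unique _ _
  rw [← e]
  exact IsPullback.of_hasPullback u η[H]
end Groth.Agent.S4094
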