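import Groth.Statements.S4096
import Groth.Agent.AlgStLib.MonoQuotGraph

set_option backward.isDefEq.respectTransparency false
set_option backward.isDefEq.respectTransparency.types false
-- import your own Groth.Agent.* helpers here

set_option autoImplicit false
universe u
open CategoryTheory MonoidalCategory CartesianMonoidalCategory MonObj GrpObj AlgebraicGeometry CategoryTheory.Limits
open GrpQ

namespace Groth.Agent.S4096

/-- Let S be noetherian, G an S-group scheme flat and of finite type acting on an S-scheme X of finite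
type, d = (d₀, d₁) : G ×_S X → X ×_S X, and F the stabilizer of the diagonal. Then a) d factors as ψ
: G ×_S X → Y surjective, flat and locally of finite presentation followed by a monomorphism τ : Y →
X ×_S X (Y represents the sheaf image of d) if and only if F is flat over X; b) in that case the two
morphisms Y → X induced by the projections are surjective, flat and of finite presentation. -/
theorem result (S : Scheme.{u}) [IsNoetherian S] (G X : Over S) [GrpObj G]
    [Flat G.hom] [LocallyOfFiniteType G.hom] [QuasiCompact G.hom] [LocallyOfFiniteType X.hom] [QuasiCompact X.hom]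
    (a : AlgGrp.Action G X) :
    ((∃ (Y : Over S) (ψ : G ⊗ X ⟶ Y) (τ : Y ⟶ X ⊗ X), ψ ≫ τ = lift a.act (snd G X) ∧
        Surjective ψ.left ∧ Flat ψ.left ∧ LocallyOfFinitePresentation ψ.left ∧ Mono τ) ↔
      Flat (pullback.snd (lift a.act (snd G X)) (lift (𝟙 X) (𝟙 X))).left) ∧
    (∀ (Y : Over S) (ψ : G ⊗ X ⟶ Y) (τ : Y ⟶ X ⊗ X), ψ ≫ τ = lift a.act (snd G X) →
      Surjective ψ.left → Flat ψ.left → LocallyOfFinitePresentation ψ.left → Mono τ →
      (Surjective (τ ≫ fst X X).left ∧ Flat (τ ≫ fst X X).left ∧ LocallyOfFinitePresentation (τ ≫ fst X X).left ∧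
        QuasiCompact (τ ≫ fst X X).left ∧ QuasiSeparated (τ ≫ fst X X).left ∧
       Surjective (τ ≫ snd X X).left ∧ Flat (τ ≫ snd X X).left ∧ LocallyOfFinitePresentation (τ ≫ snd X X).left ∧
        QuasiCompact (τ ≫ snd X X).left ∧ QuasiSeparated (τ ≫ snd X X).left)) :=  by
  let d := Groth.Agent.AlgStLib.MonoFactor.graph a
  refine ⟨⟨fun ⟨Y, ψ, τ, h, _, hf, _, hm⟩ => ?_, fun hF => ?_⟩, fun Y ψ τ h _ _ _ _ => ?_⟩
  · have : Mono τ.left := inferInstanceAs (Mono ((Over.forget S).map τ))
    exact (Groth.Agent.AlgStLib.MonoFactor.flat_fst_graph_iff a).1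
      (Groth.Agent.AlgStLib.MonoFactor.flat_fst_of_factor ψ.left τ.left (congrArg CommaMorphism.left h))
  · have := (Groth.Agent.AlgStLib.MonoFactor.flat_fst_graph_iff a).2 hF
    obtain ⟨⟨⟨⟨_, hp⟩, _⟩, _⟩, -⟩ := Groth.Agent.AlgStLib.MonoFactor.act_props a
    have : LocallyOfFiniteType (fst X X).left := MorphismProperty.pullback_fst _ _ ‹LocallyOfFiniteType X.hom›
    have : LocallyOfFinitePresentation ((lift a.act (snd G X)).left ≫ (fst X X).left) := by
      rw [← Over.comp_left, lift_fst]; exact hp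
    have : LocallyOfFinitePresentation (lift a.act (snd G X)).left :=
      Groth.Agent.AlgSpPts.locallyOfFinitePresentation_of_comp _ (fst X X).left
    obtain ⟨Y', f', f'', h₁, h₂, h₃, h₄, hf⟩ :=
      Groth.Agent.AlgStLib.MonoFactor.exists_factor (lift a.act (snd G X)).left
    refine ⟨Over.mk (f'' ≫ (X ⊗ X).hom), CategoryTheory.Over.homMk f' ?_, CategoryTheory.Over.homMk f'' rfl,
      Over.OverMorphism.ext hf, h₁, h₂, h₃, ?_⟩
    · show f' ≫ f'' ≫ (X ⊗ X).hom = _
      rw [reassoc_of% hf, Over.w]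
    · have : Mono (CategoryTheory.Over.homMk f'' rfl : Over.mk (f'' ≫ (X ⊗ X).hom) ⟶ X ⊗ X).left := h₄
      exact Over.mono_of_mono_left _
  · obtain ⟨ha, hs⟩ := Groth.Agent.AlgStLib.MonoFactor.act_props a
    obtain ⟨a₁, a₂, a₃, a₄, a₅⟩ := Groth.Agent.AlgStLib.MonoFactor.graph_proj_props ψ (τ ≫ fst X X)
      (by rw [← Category.assoc, h, lift_fst]; exact ha)
    exact ⟨a₁, a₂, a₃, a₄, a₅, Groth.Agent.AlgStLib.MonoFactor.graph_proj_props ψ (τ ≫ snd X X)
      (by rw [← Category.assoc, h, lift_snd]; exact hs)⟩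
end Groth.Agent.S4096
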