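import Groth.Statements.S4101
import Groth.Agent.TransLib.EssFree

set_option autoImplicit false
universe u
open CategoryTheory MonoidalCategory CartesianMonoidalCategory MonObj GrpObj AlgebraicGeometry CategoryTheory.Limits
open SGA3

namespace Groth.Agent.S4101

/-- Let f : Z → S be essentially free (every point of S has an affine open neighbourhood U and a flat
surjective morphism S' → U from an affine scheme S' such that Z ×_S S' is covered by affine opens
whose rings of sections are projective Γ(S')-modules) and j : Y → Z a closed immersion. Then there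
is a closed immersion t : T → S such that a morphism g : S' → S factors through T exactly when the
closed immersion Y ×_Z Z_{S'} → Z_{S'} deduced from j by base change is an isomorphism; if moreover
Z is quasi-compact over S and j is of finite presentation, then t is of finite presentation. (The
published statement omits the quasi-compactness of Z over S in the last clause; it is stated here
with it.) -/
theorem result (S Z Y : Scheme.{u}) (f : Z ⟶ S)
    (hf : SGA3x.IsEssentiallyFree f) (j : Y ⟶ Z) [IsClosedImmersion j] :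
    ∃ (T : Scheme.{u}) (t : T ⟶ S), IsClosedImmersion t ∧
      (∀ (S' : Scheme.{u}) (g : S' ⟶ S),
        (∃ g' : S' ⟶ T, g' ≫ t = g) ↔ IsIso (pullback.snd j (pullback.fst f g))) ∧
      (QuasiCompact f → LocallyOfFinitePresentation j → LocallyOfFinitePresentation t) := by
  -- charts of `S` with a universal ideal
  have hchart : ∀ s : S, ∃ (R : Type u) (_ : CommRing R) (a : Spec (CommRingCat.of R) ⟶ S),
      IsOpenImmersion a ∧ s ∈ Set.range a ∧ ∃ I : Ideal R, GrpSchLib.HasIdeal f j a I ∧
        (QuasiCompact f → LocallyOfFinitePresentation j → I.FG) := fun s => by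
    obtain ⟨U, hsU, hU, S', hS', g, hgf, hgs, hV⟩ := hf s
    obtain ⟨φ, hφ⟩ := Spec.map_surjective (S'.isoSpec.inv ≫ g ≫ hU.isoSpec.hom)
    letI : Algebra Γ(S, U) Γ(S', ⊤) := φ.hom.toAlgebra
    haveI : Module.FaithfullyFlat Γ(S, U) Γ(S', ⊤) := by
      rw [← RingHom.faithfullyFlat_algebraMap_iff, RingHom.algebraMap_toAlgebra,
        RingHom.FaithfullyFlat.iff_flat_and_comap_surjective]
      have h1 : Flat (Spec.map φ) := by rw [hφ]; infer_instance
      have h2 : Surjective (Spec.map φ) := by rw [hφ]; infer_instance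
      exact ⟨(HasRingHomProperty.Spec_iff (P := @Flat)).mp h1, h2.surj⟩
    let a' : Spec (CommRingCat.of Γ(S', ⊤)) ⟶ S :=
      Spec.map (CommRingCat.ofHom (algebraMap Γ(S, U) Γ(S', ⊤))) ≫ hU.fromSpec
    have ha' : a' = S'.isoSpec.inv ≫ g ≫ U.ι := by
      simp only [a', RingHom.algebraMap_toAlgebra, CommRingCat.ofHom_hom, hφ, Category.assoc]
      rw [← hU.isoSpec_inv_ι, Iso.hom_inv_id_assoc]
    let P := pullback f (g ≫ U.ι)
    let e : pullback a' f ≅ P :=
      asIso (pullback.map a' f (g ≫ U.ι) f S'.isoSpec.inv (𝟙 Z) (𝟙 S)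
        (by rw [Category.comp_id, ha']) (by simp)) ≪≫ pullbackSymmetry (g ≫ U.ι) f
    choose V hxV hVa hproj using hV
    let Q : (V' : P.Opens) → Prop := fun V' => IsAffineOpen V' ∧
      (letI := (V'.ι ≫ pullback.snd f (g ≫ U.ι)).appTop.hom.toAlgebra
       Module.Projective Γ(S', ⊤) Γ(↑V', ⊤))
    have hQ : ∀ x, Q (V x) := fun x => ⟨hVa x, hproj x⟩
    have hκ : ∃ (κ : Type u) (W : κ → P.Opens), (∀ k, Q (W k)) ∧ (∀ x, ∃ k, x ∈ W k) ∧
        (QuasiCompact f → Finite κ) := by
      by_cases hqc : QuasiCompact f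
      · haveI : QuasiCompact (pullback.snd f (g ≫ U.ι)) := inferInstance
        haveI : CompactSpace P := QuasiCompact.compactSpace_of_compactSpace (pullback.snd f (g ≫ U.ι))
        obtain ⟨t, ht⟩ := isCompact_univ.elim_finite_subcover (fun x => (V x : Set P)) (fun x => (V x).2)
          fun x _ => Set.mem_iUnion.mpr ⟨x, hxV x⟩
        refine ⟨t, fun k => V k, fun k => hQ k, fun x => ?_, fun _ => inferInstance⟩
        obtain ⟨k, hk, hxk⟩ := Set.mem_iUnion₂.mp (ht (Set.mem_univ x))
        exact ⟨⟨k, hk⟩, hxk⟩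
      · exact ⟨P, V, hQ, fun x => ⟨x, hxV x⟩, fun h => absurd h hqc⟩
    obtain ⟨κ, W, hW, hWcov, hfin⟩ := hκ
    letI : ∀ k, Algebra Γ(S', ⊤) Γ((W k).toScheme, ⊤) := fun k =>
      ((W k).ι ≫ pullback.snd f (g ≫ U.ι)).appTop.hom.toAlgebra
    haveI : ∀ k, Module.Projective Γ(S', ⊤) Γ((W k).toScheme, ⊤) := fun k => (hW k).2
    haveI : ∀ k, IsAffine (W k).toScheme := fun k => (hW k).1
    let v : ∀ k, Spec (CommRingCat.of Γ((W k).toScheme, ⊤)) ⟶ pullback a' f := fun k =>
      (W k).toScheme.isoSpec.inv ≫ (W k).ι ≫ e.inv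
    have hv : ∀ k, v k ≫ pullback.fst a' f =
        Spec.map (CommRingCat.ofHom (algebraMap Γ(S', ⊤) Γ((W k).toScheme, ⊤))) := fun k => by
      have he : e.inv ≫ pullback.fst a' f = pullback.snd f (g ≫ U.ι) ≫ S'.isoSpec.hom := by
        rw [Iso.inv_comp_eq]
        simp [e, pullback.map]
        erw [pullback.lift_fst_assoc]
        simp
      simp only [v, Category.assoc, he]
      rw [RingHom.algebraMap_toAlgebra, CommRingCat.ofHom_hom, ← cancel_epi (W k).toScheme.isoSpec.hom,
        Iso.hom_inv_id_assoc, Scheme.isoSpec_hom_naturality, Category.assoc]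
    have hcov : ∀ x, ∃ k y, v k y = x := fun x => by
      obtain ⟨k, hk⟩ := hWcov (e.hom x)
      refine ⟨k, (W k).toScheme.isoSpec.hom ⟨e.hom x, hk⟩, ?_⟩
      show ((W k).toScheme.isoSpec.hom ≫ (W k).toScheme.isoSpec.inv ≫ (W k).ι ≫ e.inv) ⟨e.hom x, hk⟩ = x
      rw [Iso.hom_inv_id_assoc, Scheme.Hom.comp_apply, Scheme.Opens.ι_apply, ← Scheme.Hom.comp_apply, e.hom_inv_id]
      rfl
    obtain ⟨I', hI', hfg⟩ := TransLib.hasIdeal_of_charts_fg (π := f) (i := j) a'
      (fun k => Γ((W k).toScheme, ⊤)) v hv hcov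
    obtain ⟨I, hI, hfg'⟩ := TransLib.hasIdeal_of_faithfullyFlat (π := f) (i := j) hU.fromSpec I' hI'
    exact ⟨Γ(S, U), inferInstance, hU.fromSpec, inferInstance, hU.range_fromSpec.ge hsU, I, hI,
      fun hqc hj => hfg' (hfg (hfin hqc) hj)⟩
  have hideals : GrpSchLib.HasIdeals f j := by
    intro U
    choose R _ a ha hra I hI hfg using hchart
    let good : Set Γ(S, U) := {r | ∃ s : S, (S.basicOpen r : Set S) ⊆ Set.range (a s)}
    have hspan : Ideal.span good = ⊤ := by
      rw [← U.2.self_le_iSup_basicOpen_iff]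
      intro x hx
      obtain ⟨r, hr, hxr⟩ := U.2.exists_basicOpen_le (V := (a x).opensRange) ⟨x, hra x⟩ hx
      exact TopologicalSpace.Opens.mem_iSup.mpr ⟨⟨r, x, hr⟩, hxr⟩
    refine GrpSchLib.hasIdeal_of_span U.2.fromSpec good hspan fun ⟨r, s, hrs⟩ => ?_
    haveI := ha s
    let ar : Spec (CommRingCat.of (Localization.Away r)) ⟶ S :=
      Spec.map (CommRingCat.ofHom (algebraMap Γ(S, U) (Localization.Away r))) ≫ U.2.fromSpec
    have hr : Set.range ar ⊆ Set.range (a s) := by
      rintro _ ⟨p, rfl⟩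
      refine hrs ?_
      rw [← U.2.fromSpec_image_basicOpen r]
      exact ⟨Spec.map (CommRingCat.ofHom (algebraMap Γ(S, U) (Localization.Away r))) p,
        (PrimeSpectrum.localization_away_comap_range (Localization.Away r) r).le ⟨p, rfl⟩, rfl⟩
    obtain ⟨ψ, hψ⟩ := Spec.map_surjective (IsOpenImmersion.lift (a s) ar hr)
    refine ⟨(I s).map ψ.hom, ?_⟩
    have := (hI s).map ψ.hom
    rwa [CommRingCat.ofHom_hom, hψ, IsOpenImmersion.lift_fac] at this
  obtain ⟨T, t, ht, htf⟩ := GrpSchLib.exists_weilRestriction hideals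
  refine ⟨T, t, ht, fun S' g => (htf S' g).trans ((TransLib.good_iff_isIso g).trans ?_), fun hqc hj => ?_⟩
  · let q := pullback.snd j (pullback.fst f g)
    let σ : pullback g f ≅ pullback f g := pullbackSymmetry g f
    have hσ : σ.hom ≫ pullback.fst f g = pullback.snd g f := pullbackSymmetry_hom_comp_fst g f
    let μ' := pullback.map j (pullback.snd g f) j (pullback.fst f g) (𝟙 Y) σ.hom (𝟙 Z) (by simp) (by simp [hσ])
    have hμ : μ' ≫ q = pullback.snd j (pullback.snd g f) ≫ σ.hom := pullback.lift_snd _ _ _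
    refine ⟨fun h => ?_, fun h => ?_⟩
    · haveI : IsIso (μ' ≫ q) := by rw [hμ]; haveI := h; infer_instance
      exact IsIso.of_isIso_comp_left μ' q
    · haveI : IsIso q := h
      haveI : IsIso (pullback.snd j (pullback.snd g f) ≫ σ.hom) := by rw [← hμ]; infer_instance
      exact IsIso.of_isIso_comp_right _ σ.hom
  · refine GrpSchLib.locallyOfFinitePresentation_of_hasIdeal htf fun s => ?_
    obtain ⟨R, i₁, a, ha, hra, I, hI, hfg⟩ := hchart s
    exact ⟨R, i₁, a, ha, hra, I, hI, hfg hqc hj⟩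

end Groth.Agent.S4101
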