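import Groth.Statements.S4104
import Groth.Agent.S4103
import Groth.Agent.GrpSchLib.HopfGalois
-- import your own Groth.Agent.* helpers here

set_option autoImplicit false
universe u
open scoped TensorProduct
open SGA3

namespace Groth.Agent.S4104

/-- Let φ : A' → A be a bialgebra map between commutative Hopf algebras over a field k (a homomorphism
of affine k-groups Spec A → Spec A', not necessarily of finite type). If the corresponding morphism
of schemes is a monomorphism, i.e. φ is an epimorphism in the category of commutative rings, then φ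
is surjective (the homomorphism is a closed immersion). -/
theorem result (k : Type u) [Field k] (A' A : Type u) [CommRing A'] [HopfAlgebra k A']
    [CommRing A] [HopfAlgebra k A] (φ : A' →ₐc[k] A)
    (hepi : ∀ (R : Type u) [CommRing R] (f g : A →+* R), f.comp (φ : A' →+* A) = g.comp (φ : A' →+* A) → f = g) :
    Function.Surjective φ := by
  classical
  let φa : A' →ₐ[k] A := (φ : A' →ₐ[k] A)
  let B : Subalgebra k A := φa.range
  have hB : SGA3.IsHopfSubalgebra k A B := by
    refine ⟨?_, ?_⟩
    · rintro _ ⟨x, rfl⟩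
      refine ⟨TensorProduct.map φa.rangeRestrict.toLinearMap φa.rangeRestrict.toLinearMap
        (CoalgebraStruct.comul (R := k) x), ?_⟩
      rw [← LinearMap.comp_apply, ← TensorProduct.map_comp]
      exact CoalgHomClass.map_comp_comul_apply φ x
    · rintro _ ⟨x, rfl⟩
      exact ⟨HopfAlgebraStruct.antipode (R := k) x, (GrpSchLib.HopfGalois.antipode_bialgHom φ x).symm⟩
  haveI : Module.FaithfullyFlat B A := S4103.result k A B hB
  have hfg : (Algebra.TensorProduct.includeLeftRingHom : A →+* A ⊗[B] A) =
      (Algebra.TensorProduct.includeRight : A →ₐ[B] A ⊗[B] A).toRingHom := by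
    refine hepi _ _ _ (RingHom.ext fun x => ?_)
    show φ x ⊗ₜ[B] (1 : A) = (1 : A) ⊗ₜ[B] φ x
    rw [show φ x = (⟨φ x, x, rfl⟩ : B) • (1 : A) from (mul_one _).symm, TensorProduct.smul_tmul]
  intro a
  let N := LinearMap.range (Algebra.linearMap B A)
  have h0 : (1 : A) ⊗ₜ[B] N.mkQ a = 0 := by
    have e : (a : A) ⊗ₜ[B] (1 : A) = (1 : A) ⊗ₜ[B] a := congrArg (fun h : A →+* A ⊗[B] A => h a) hfg
    have := congrArg (N.mkQ.lTensor A) e
    rw [LinearMap.lTensor_tmul, LinearMap.lTensor_tmul,
      show N.mkQ (1 : A) = 0 from (Submodule.Quotient.mk_eq_zero N).mpr ⟨1, (algebraMap B A).map_one⟩,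
      TensorProduct.tmul_zero] at this
    exact this.symm
  rw [Module.FaithfullyFlat.one_tmul_eq_zero_iff B] at h0
  obtain ⟨⟨_, x, rfl⟩, hb⟩ := (Submodule.Quotient.mk_eq_zero _).mp h0
  exact ⟨x, hb⟩

end Groth.Agent.S4104
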