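import Groth.Statements.S4114
import Groth.Agent.FinGrpLib.Order
import Mathlib.AlgebraicGeometry.Group.Affine
import Mathlib.AlgebraicGeometry.Morphisms.FlatRank
import Mathlib.LinearAlgebra.Dual.Lemmas
import Mathlib.RingTheory.FiniteType
import Mathlib.RingTheory.Spectrum.Prime.RingHom
-- import your own Groth.Agent.* helpers here

set_option autoImplicit false
universe u
open CategoryTheory MonoidalCategory CartesianMonoidalCategory MonObj GrpObj AlgebraicGeometry CategoryTheory.Limits
open SGA3

namespace Groth.Agent.S4114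

open CategoryTheory Limits AlgebraicGeometry MonoidalCategory CartesianMonoidalCategory MonObj
open scoped Obj TensorProduct

/-- An affine group scheme over a field, finite of rank `n`, is killed by `n`. -/
theorem field_case (K : Type u) [Field K] (X : Over (Spec (CommRingCat.of K))) [GrpObj X]
    [IsFinite X.hom] [Flat X.hom] (n : ℕ) (hn : ∀ y, X.hom.finrank y = n) : (𝟙 X) ^ n = 1 := by
  have : IsAffine X.left := isAffine_of_isAffineHom X.hom
  obtain ⟨⟨H⟩, ⟨e⟩⟩ := (essImage_hopfSpec (R := CommRingCat.of K) (G := Grp.mk X)).mpr this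
  let X' := (Spec (CommRingCat.of H)).asOver (Spec (CommRingCat.of K))
  let eh : X' ⟶ X := e.hom.hom.hom
  let ei : X ⟶ X' := e.inv.hom.hom
  have : IsMonHom eh := e.hom.hom.isMonHom_hom
  have hei : ei ≫ eh = 𝟙 X := congrArg (fun g => g.hom.hom) e.inv_hom_id
  have hei' : eh ≫ ei = 𝟙 X' := congrArg (fun g => g.hom.hom) e.hom_inv_id
  have : IsIso eh.left :=
    ⟨ei.left, congrArg (fun g => g.left) hei', congrArg (fun g => g.left) hei⟩
  have hw : eh.left ≫ X.hom = Spec.map (CommRingCat.ofHom (algebraMap K H)) := Over.w eh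
  have : IsFinite (eh.left ≫ X.hom) := inferInstance
  have : Module.Finite K H := by
    rw [← RingHom.finite_algebraMap]
    exact (IsFinite.SpecMap_iff _).mp (hw ▸ this)
  have hrank : Module.finrank K H = n := by
    have h := congrFun (Scheme.Hom.finrank_comp_left_of_isIso eh.left X.hom) ⟨⊥, Ideal.isPrime_bot⟩
    rw [hw] at h
    have h2 : (Spec.map (CommRingCat.ofHom (algebraMap K H))).finrank ⟨⊥, Ideal.isPrime_bot⟩ =
        Module.rankAtStalk H ⟨⊥, Ideal.isPrime_bot⟩ :=
      Scheme.Hom.finrank_SpecMap_algebraMap K H _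
    have h3 := (h2.symm.trans h).trans (hn _)
    rw [Module.rankAtStalk_eq_finrank_of_free] at h3
    simpa using h3
  have hid := congrArg (Spec.mapMulEquiv (R := K) (S := H) (T := H))
    (Groth.Agent.FinGrpLib.id_pow_finrank (k := K) (A := H))
  rw [map_pow, map_one, hrank] at hid
  have hone : Spec.mapMulEquiv (R := K) (S := H) (T := H) (WithConv.toConv (AlgHom.id K H)) = 𝟙 X' := by
    refine Over.OverMorphism.ext ?_
    show Spec.map (CommRingCat.ofHom (RingHom.id H)) = 𝟙 _
    simp
  rw [hone] at hid
  let E := IsMonHom.monoidHom eh X'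
  have h2 : eh ^ n = 1 := by
    have := congrArg E hid
    rw [map_pow, map_one] at this
    have e1 : E (𝟙 X') = eh := Category.id_comp eh
    rwa [e1] at this
  calc (𝟙 X) ^ n = ei ≫ (eh ^ n) := by rw [MonObj.comp_pow, hei]
    _ = 1 := by rw [h2, MonObj.comp_one]

theorem fst_pow_eq {S : Scheme.{u}} (G : Over S) [GrpObj G] (n : ℕ)
    (hG : Mor2.IsFinLocFreeOfDeg n G.hom) (K : Type u) [Field K] (s : Spec (CommRingCat.of K) ⟶ S) :
    pullback.fst G.hom s ≫ ((𝟙 G : G ⟶ G) ^ n).left = pullback.fst G.hom s ≫ (1 : G ⟶ G).left := by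
  obtain ⟨⟨hfin, hflat, _⟩, hd⟩ := hG
  let X := (Over.pullback s).obj G
  have : IsFinite X.hom := inferInstanceAs (IsFinite (pullback.snd G.hom s))
  have : Flat X.hom := inferInstanceAs (Flat (pullback.snd G.hom s))
  have h := field_case K X n fun y => (Scheme.Hom.finrank_pullback_snd G.hom s y).trans (hd _)
  have h1 : (Over.pullback s).map ((𝟙 G : G ⟶ G) ^ n) = (Over.pullback s).map (1 : G ⟶ G) := by
    have := map_pow ((Over.pullback s).homMonoidHom (X := G) (M := G)) (𝟙 G) n
    simp only [Functor.homMonoidHom_apply, CategoryTheory.Functor.map_id] at this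
    rw [Functor.map_one, this]
    exact h
  have hφ : ∀ φ : G ⟶ G, ((Over.pullback s).map φ).left ≫ pullback.fst G.hom s =
      pullback.fst G.hom s ≫ φ.left := fun φ => pullback.lift_fst _ _ _
  rw [← hφ, h1, hφ]

/-- Elements of a projective algebra over a reduced ring vanishing in all fibres vanish. -/
theorem eq_zero_of_fibres {R : Type u} [CommRing R] [IsReduced R] {A : Type u} [CommRing A]
    [Algebra R A] [Module.Projective R A] (d : A)
    (h : ∀ p : PrimeSpectrum R, d ⊗ₜ[R] (1 : p.asIdeal.ResidueField) = 0) : d = 0 := by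
  rw [← Module.forall_dual_apply_eq_zero_iff R]
  intro l
  refine IsNilpotent.eq_zero ?_
  rw [← mem_nilradical, nilradical_eq_sInf, Ideal.mem_sInf]
  intro (p : Ideal R) hp
  have : p.IsPrime := hp
  have h' := congrArg (fun z => TensorProduct.lid R p.ResidueField (LinearMap.rTensor p.ResidueField l z))
    (h ⟨p, hp⟩)
  simp only [LinearMap.rTensor_tmul, TensorProduct.lid_tmul, map_zero] at h'
  rw [Algebra.smul_def, _root_.mul_one, Ideal.algebraMap_residueField_eq_zero] at h'
  exact h'


/-- Let S be a reduced scheme and G an S-group scheme which is finite locally free of constant rank n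
over S. Then the n-th power morphism of G is the trivial endomorphism (g ↦ gⁿ factors through the
unit section). -/
theorem result (S : Scheme.{u}) [IsReduced S] (G : Over S) [GrpObj G] (n : ℕ)
    (hG : Mor2.IsFinLocFreeOfDeg n G.hom) : (𝟙 G : G ⟶ G) ^ n = 1 := by
  obtain ⟨hfl, hd⟩ := id hG
  obtain ⟨hfin, hflat, hlfp⟩ := id hfl
  refine Over.OverMorphism.ext ?_
  refine Scheme.Cover.hom_ext (S.affineOpenCover.openCover.pullback₁ G.hom) _ _ fun i => ?_
  let R := S.affineOpenCover.X i
  let j : Spec R ⟶ S := S.affineOpenCover.f i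
  show pullback.fst G.hom j ≫ _ = pullback.fst G.hom j ≫ _
  have : IsOpenImmersion j := S.affineOpenCover.map_prop i
  have hR : IsReduced (Spec R) := isReduced_of_isOpenImmersion j
  have : _root_.IsReduced R := (affine_isReduced_iff R).mp hR
  let P := pullback G.hom j
  have hsndfin : IsFinite (pullback.snd G.hom j) := inferInstance
  have : IsAffine P := isAffine_of_isAffineHom (pullback.snd G.hom j)
  let A := Γ(P, ⊤)
  obtain ⟨ψ, hψ⟩ := Spec.map_surjective (P.isoSpec.inv ≫ pullback.snd G.hom j)
  have h1 : IsFinite (Spec.map ψ) := hψ ▸ inferInstance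
  have h2 : Flat (Spec.map ψ) := hψ ▸ inferInstance
  have h3 : LocallyOfFinitePresentation (Spec.map ψ) := hψ ▸ inferInstance
  algebraize [ψ.hom]
  have : Module.Finite R A := (IsFinite.SpecMap_iff _).mp h1
  have : Module.Flat R A := (HasRingHomProperty.Spec_iff (P := @Flat)).mp h2
  have : Algebra.FinitePresentation R A :=
    (HasRingHomProperty.Spec_iff (P := @LocallyOfFinitePresentation)).mp h3
  have : Module.FinitePresentation R A := Module.FinitePresentation.of_finite_of_finitePresentation R A
  have : Module.Projective R A := Module.Flat.projective_of_finitePresentation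
  have lw : ∀ φ : G ⟶ G, (pullback.fst G.hom j ≫ φ.left) ≫ G.hom = pullback.snd G.hom j ≫ j :=
    fun φ => by rw [Category.assoc, Over.w φ, pullback.condition]
  let lft : (G ⟶ G) → (P ⟶ P) := fun φ => pullback.lift _ (pullback.snd G.hom j) (lw φ)
  suffices hEq : lft ((𝟙 G : G ⟶ G) ^ n) = lft 1 by
    have := congrArg (fun g => g ≫ pullback.fst G.hom j) hEq
    exact ((pullback.lift_fst _ _ _).symm.trans this).trans (pullback.lift_fst _ _ _)
  obtain ⟨α, hα⟩ := Spec.map_surjective (P.isoSpec.inv ≫ lft ((𝟙 G : G ⟶ G) ^ n) ≫ P.isoSpec.hom)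
  obtain ⟨β, hβ⟩ := Spec.map_surjective (P.isoSpec.inv ≫ lft 1 ≫ P.isoSpec.hom)
  suffices hαβ : α = β by
    rw [← cancel_epi P.isoSpec.inv, ← cancel_mono P.isoSpec.hom, Category.assoc, Category.assoc, ← hα, ← hβ,
      hαβ]
  ext a
  rw [← sub_eq_zero]
  refine eq_zero_of_fibres (R := R) _ fun p => ?_
  let κ := p.asIdeal.ResidueField
  let inc : A ⟶ CommRingCat.of (A ⊗[R] κ) :=
    CommRingCat.ofHom (Algebra.TensorProduct.includeLeftRingHom (R := R) (A := A) (B := κ))
  let r : CommRingCat.of κ ⟶ CommRingCat.of (A ⊗[R] κ) :=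
    CommRingCat.ofHom (Algebra.TensorProduct.includeRight (R := R) (A := A) (B := κ)).toRingHom
  let s : Spec (CommRingCat.of κ) ⟶ S := Spec.map (CommRingCat.ofHom (algebraMap R κ)) ≫ j
  let t := Spec.map inc ≫ P.isoSpec.inv ≫ pullback.fst G.hom j
  have hsq : ψ ≫ inc = CommRingCat.ofHom (algebraMap R κ) ≫ r := by
    ext x
    exact ((Algebra.TensorProduct.includeLeft (R := R) (S := R) (A := A) (B := κ)).commutes x).trans
      ((Algebra.TensorProduct.includeRight (R := R) (A := A) (B := κ)).commutes x).symm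
  have ht : t ≫ G.hom = Spec.map r ≫ s := by
    show (Spec.map inc ≫ P.isoSpec.inv ≫ pullback.fst G.hom j) ≫ G.hom = _
    rw [Category.assoc, Category.assoc, pullback.condition, ← Category.assoc P.isoSpec.inv, ← hψ,
      ← Category.assoc, ← Spec.map_comp, hsq, Spec.map_comp, Category.assoc]
  have key : t ≫ ((𝟙 G : G ⟶ G) ^ n).left = t ≫ (1 : G ⟶ G).left := by
    rw [← pullback.lift_fst t (Spec.map r) ht, Category.assoc, Category.assoc, fst_pow_eq G n hG κ s]
  have hcomp : Spec.map inc ≫ Spec.map α = Spec.map inc ≫ Spec.map β := by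
    rw [hα, hβ]
    simp only [← Category.assoc, cancel_mono P.isoSpec.hom]
    refine pullback.hom_ext ?_ ?_
    · simp only [Category.assoc, lft]
      erw [pullback.lift_fst, pullback.lift_fst]
      simpa [t, Category.assoc] using key
    · simp only [Category.assoc, lft]
      erw [pullback.lift_snd, pullback.lift_snd]
  rw [← Spec.map_comp, ← Spec.map_comp] at hcomp
  have h4 := congrArg (fun g => g.hom a) (Spec.map_injective hcomp)
  simp only [CommRingCat.hom_comp, RingHom.comp_apply] at h4
  rw [TensorProduct.sub_tmul, sub_eq_zero]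
  exact h4

end Groth.Agent.S4114
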