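import Groth.Statements.S4118
import Groth.Agent.MaxTorCent.Cartan

set_option autoImplicit false
universe u
open CategoryTheory MonoidalCategory CartesianMonoidalCategory MonObj GrpObj AlgebraicGeometry CategoryTheory.Limits
open SGA3x

namespace Groth.Agent.S4118

/-- Let G be an S-group scheme, smooth, separated and of finite type over S, and i : T → G a maximal
torus. Then the centralizer of T is represented by a closed subgroup scheme c : C → G which is a
Cartan subgroup of G (smooth over S with Cartan geometric fibres); T factors through C as a maximal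
torus of C, and every maximal torus of C coincides with T (as a subgroup of C). -/
theorem result (S : Scheme.{u}) (G : Over S) [GrpObj G]
    [Smooth G.hom] [IsSeparated G.hom] [QuasiCompact G.hom]
    (T : Over S) [GrpObj T] (i : T ⟶ G) (hT : Red.IsMaximalTorus i) :
    ∃ (C : Over S) (_ : GrpObj C) (c : C ⟶ G), Red.IsCentralizerOf i c ∧ IsClosedImmersion c.left ∧ SGA3x.IsCartan c ∧
      ∃ i' : T ⟶ C, i' ≫ c = i ∧ Red.IsMaximalTorus i' ∧
        ∀ (T' : Over S) [GrpObj T'] (j : T' ⟶ C), Red.IsMaximalTorus j → ∃ φ : T' ≅ T, φ.hom ≫ i' = j := by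
  set_option backward.isDefEq.respectTransparency.types false in
  obtain ⟨C, _, c, hc, hcl, hcart, i', hi', hmax, hcen⟩ := Groth.Agent.MaxTorCent.exists_cartan G hT
  haveI := hcl
  haveI := hcart.2.2.1
  haveI : QuasiCompact C.hom := by rw [← Over.w c]; infer_instance
  haveI : IsSeparated C.hom := by rw [← Over.w c]; infer_instance
  exact ⟨C, inferInstance, c, hc, hcl, hcart, i', hi', hmax, fun T' _ j hj =>
    Groth.Agent.MaxTorCent.exists_iso hmax hj hcen⟩

end Groth.Agent.S4118
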