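import Groth.Statements.S4130
import Groth.Agent.UniPart.Split
import Groth.Agent.S16065
import Groth.Agent.MultTypeLib.HopfKer
-- import your own Groth.Agent.* helpers here

set_option autoImplicit false
universe u
open TensorProduct
open SGA3

namespace Groth.Agent.S4130

open Groth.Agent.UniPart Groth.Agent.CoradFil

/-- The component of the unit maps to the scalars of a diagonalisable quotient. -/
theorem map_W_eq (k : Type u) [Field k] {A Q : Type u} [CommRing A] [Bialgebra k A] [CommRing Q] [HopfAlgebra k Q]
    (f : A →ₐc[k] Q) (R' : Type u) [CommRing R'] [Algebra k R'] [Module.FaithfullyFlat k R']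
    {M : Type u} [CommGroup M] (e : R' ⊗[k] Q ≃ₐc[R'] MonoidAlgebra R' M) :
    ∀ (r : ℕ) (a : A), a ∈ W k A r → f a = algebraMap k Q (Coalgebra.counit (R := k) a)
  | 0, a, h => by
    obtain ⟨c, rfl⟩ := exists_eq_of_mem_zero h
    rw [map_smul, map_one, map_smul, Bialgebra.counit_one, Algebra.algebraMap_eq_smul_one, smul_eq_mul, _root_.mul_one]
  | r + 1, a, h => by
    classical
    obtain ⟨z, hz⟩ := mem_W_succ.1 h
    set c := f a with hc
    have hd : ∃ d : Q, Coalgebra.comul (R := k) c - c ⊗ₜ[k] (1 : Q) = (1 : Q) ⊗ₜ[k] d := by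
      have h1 : Coalgebra.comul (R := k) c - c ⊗ₜ[k] (1 : Q) =
          TensorProduct.map (f : A →ₗ[k] Q) (f : A →ₗ[k] Q) ((W k A r).subtype.rTensor A z) := by
        rw [hz, map_sub, hc, ← CoalgHomClass.map_comp_comul_apply f a, TensorProduct.map_tmul]
        congr 2
        exact (map_one f).symm
      rw [h1]
      clear h1 hz
      induction z using TensorProduct.induction_on with
      | zero => exact ⟨0, by simp⟩
      | add x y hx hy =>
        obtain ⟨d, hd⟩ := hx; obtain ⟨d', hd'⟩ := hy
        exact ⟨d + d', by rw [map_add, map_add, hd, hd', TensorProduct.tmul_add]⟩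
      | tmul x y =>
        refine ⟨Coalgebra.counit (R := k) x.1 • f y, ?_⟩
        show f x.1 ⊗ₜ[k] f y = _
        rw [map_W_eq k f R' e r x.1 x.2, Algebra.algebraMap_eq_smul_one, TensorProduct.smul_tmul]
    obtain ⟨d, hd⟩ := hd
    -- over the extension only the coefficient at the unit survives
    let y := e ((1 : R') ⊗ₜ[k] c)
    have hy : Coalgebra.comul (R := R') y = y ⊗ₜ[R'] 1 + 1 ⊗ₜ[R'] e ((1 : R') ⊗ₜ[k] d) := by
      have h1 : Coalgebra.comul (R := R') ((1 : R') ⊗ₜ[k] c) =
          ((1 : R') ⊗ₜ[k] c) ⊗ₜ[R'] (1 : R' ⊗[k] Q) + (1 : R' ⊗[k] Q) ⊗ₜ[R'] ((1 : R') ⊗ₜ[k] d) := by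
        rw [comul_one_tmul, sub_eq_iff_eq_add'.1 hd, map_add, bcPair_tmul, bcPair_tmul]
        rfl
      show Coalgebra.comul (R := R') (e ((1 : R') ⊗ₜ[k] c)) = _
      rw [← CoalgHomClass.map_comp_comul_apply e, h1, map_add, TensorProduct.map_tmul, TensorProduct.map_tmul]
      congr 1 <;> congr 1 <;> exact map_one e
    have hsupp : ∀ m : M, m ≠ 1 → y.coeff m = 0 := by
      intro m hm
      let φ : MonoidAlgebra R' M →ₗ[R'] R' :=
        { toFun := fun x => x.coeff m, map_add' := fun _ _ => by simp, map_smul' := fun _ _ => by simp }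
      have hΦ : ∀ x, LinearMap.mul' R' R' (TensorProduct.map φ φ (Coalgebra.comul (R := R') x)) = x.coeff m := by
        intro x
        induction x using MonoidAlgebra.induction_linear with
        | zero => simp
        | add u v hu hv => simp only [map_add, hu, hv, MonoidAlgebra.coeff_add, Finsupp.add_apply]
        | single n s =>
          rw [MonoidAlgebra.comul_single, CommSemiring.comul_apply]
          simp only [TensorProduct.map_tmul, LinearMap.mul'_apply, φ, LinearMap.coe_mk, AddHom.coe_mk,
            MonoidAlgebra.lsingle_apply, MonoidAlgebra.coeff_single, Finsupp.single_apply]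
          split <;> simp
      have h1 := hΦ y
      rw [hy, map_add, map_add, TensorProduct.map_tmul, TensorProduct.map_tmul] at h1
      simp only [LinearMap.mul'_apply, φ, LinearMap.coe_mk, AddHom.coe_mk, MonoidAlgebra.one_def,
        MonoidAlgebra.coeff_single, Finsupp.single_apply, if_neg (Ne.symm hm), mul_zero, zero_mul, add_zero] at h1
      exact h1.symm
    have hy1 : y = algebraMap R' _ (y.coeff 1) := by
      refine MonoidAlgebra.ext (Finsupp.ext fun m => ?_)
      rw [MonoidAlgebra.coe_algebraMap, Function.comp_apply]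
      rcases eq_or_ne m 1 with rfl | hm
      · simp
      · simp [hsupp m hm, Ne.symm hm]
    have h2 : ((1 : R') ⊗ₜ[k] c) = algebraMap R' (R' ⊗[k] Q) (y.coeff 1) :=
      (EquivLike.injective e) (hy1.trans (AlgHomClass.commutes e _).symm)
    have h3 : y.coeff 1 = algebraMap k R' (Coalgebra.counit (R := k) a) := by
      have := congrArg (Coalgebra.counit (R := R')) h2
      rw [TensorProduct.counit_tmul, Bialgebra.counit_algebraMap, CommSemiring.counit_apply, hc,
        CoalgHomClass.counit_comp_apply, ← Algebra.algebraMap_eq_smul_one] at this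
      exact this.symm
    refine Module.FaithfullyFlat.tensorProduct_mk_injective (A := k) (B := R') Q ?_
    show (1 : R') ⊗ₜ[k] c = (1 : R') ⊗ₜ[k] algebraMap k Q (Coalgebra.counit (R := k) a)
    rw [h2, h3, ← IsScalarTower.algebraMap_apply, Algebra.TensorProduct.algebraMap_apply]
    simp [Algebra.algebraMap_eq_smul_one, TensorProduct.smul_tmul]


/-- Let A be a finitely generated commutative and cocommutative Hopf algebra over a field k (a
commutative affine algebraic group G = Spec A). Then G has a largest subgroup M of multiplicative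
type and G/M is unipotent: there is a Hopf ideal J of A (defining M) such that A/J is of
multiplicative type (diagonalizable after a faithfully flat extension of k), J is contained in every
Hopf ideal I with A/I of multiplicative type, and J is the ideal generated by the augmentation ideal
of the image of an injective bialgebra map φ : B → A from a Hopf algebra B (so Spec B = G/M) which
is unipotent in the fixed-vector sense. -/
theorem result (k : Type u) [Field k]
    (A : Type u) [CommRing A] [HopfAlgebra k A] [Algebra.FiniteType k A] [Coalgebra.IsCocomm k A] :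
    ∃ (J : Ideal A) (_ : J.IsHopfIdeal k), SGA3b.IsMultTypeConst k (A ⧸ J) ∧
      (∀ (I : Ideal A) [I.IsHopfIdeal k], SGA3b.IsMultTypeConst k (A ⧸ I) → J ≤ I) ∧
      ∃ (B : Type u) (_ : CommRing B) (_ : HopfAlgebra k B) (φ : B →ₐc[k] A), Function.Injective φ ∧
        J = Ideal.map (φ : B →+* A) (RingHom.ker (Bialgebra.counitAlgHom k B)) ∧ HopfRep.IsUnipotent k B := by
  classical
  letI := hopfU k A
  let φ : U k A →ₐc[k] A := BialgHom.ofAlgHom (U k A).val rfl
    (AlgHom.ext fun b => GrpSchLib.HopfTransfer.map_comulRes (U k A).val Subtype.val_injective comul_U b)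
  let J : Ideal A := Ideal.map (φ : U k A →+* A) (RingHom.ker (Bialgebra.counitAlgHom k (U k A)))
  haveI hJ : J.IsHopfIdeal k := MultTypeLib.isHopfIdeal_map_ker φ
  have hmem : ∀ (b : A) (r : ℕ), b ∈ W k A r → b - algebraMap k A (Coalgebra.counit (R := k) b) ∈ J := by
    intro b r hb
    let b' : U k A := ⟨b, r, hb⟩
    have h1 : φ (b' - algebraMap k (U k A) (Coalgebra.counit (R := k) b)) =
        b - algebraMap k A (Coalgebra.counit (R := k) b) := rfl
    rw [← h1]
    show (φ : U k A →+* A) (b' - algebraMap k (U k A) (Coalgebra.counit (R := k) b)) ∈ J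
    refine Ideal.mem_map_of_mem (φ : U k A →+* A) ?_
    rw [RingHom.mem_ker, map_sub, AlgHom.commutes, sub_eq_zero]
    rfl
  refine ⟨J, hJ, ?_, ?_, U k A, inferInstance, hopfU k A, φ, Subtype.val_injective, rfl, isUnipotent_U⟩
  · -- the quotient is diagonalisable over an algebraic closure
    let K := AlgebraicClosure k
    refine ⟨K, inferInstance, inferInstance, inferInstance, S16065.isDiag_of_isDiagonalizable ?_⟩
    haveI : Coalgebra.IsCocomm K (K ⊗[k] A) := inferInstance
    let π : K ⊗[k] A →ₐc[K] K ⊗[k] (A ⧸ J) :=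
      Bialgebra.TensorProduct.map (BialgHom.id K K) (Bialgebra.Quotient.mkBialgHom (R := k) J)
    have hπ : ∀ (c : K) (a : A), π (c ⊗ₜ[k] a) = c ⊗ₜ[k] Ideal.Quotient.mk J a := fun c a => rfl
    show Submodule.span K {g : K ⊗[k] (A ⧸ J) | IsGroupLikeElem K g} = ⊤
    rw [eq_top_iff]
    rintro q -
    obtain ⟨x, rfl⟩ : ∃ x, π x = q := by
      induction q using TensorProduct.induction_on with
      | zero => exact ⟨0, map_zero π⟩
      | add u v hu hv =>
        obtain ⟨u', rfl⟩ := hu; obtain ⟨v', rfl⟩ := hv
        exact ⟨u' + v', map_add π _ _⟩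
      | tmul c a =>
        obtain ⟨a, rfl⟩ := Ideal.Quotient.mk_surjective a
        exact ⟨c ⊗ₜ[k] a, hπ c a⟩
    have hx := mem_span_translates (K := K) x
    induction hx using Submodule.span_induction with
    | mem y hy =>
      obtain ⟨g, b, hg, ⟨r, hb⟩, rfl⟩ := hy
      have hb' := wedge_le_baseChange (A := A) K r hb
      rw [WK, Submodule.baseChange_eq_span] at hb'
      obtain ⟨c, hc⟩ : ∃ c : K, π b = algebraMap K _ c := by
        clear hb
        induction hb' using Submodule.span_induction with
        | mem z hz =>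
          obtain ⟨w, hw, rfl⟩ := hz
          refine ⟨algebraMap k K (Coalgebra.counit (R := k) w), ?_⟩
          rw [TensorProduct.mk_apply, hπ]
          rw [show Ideal.Quotient.mk J w = algebraMap k (A ⧸ J) (Coalgebra.counit (R := k) w) from
            Ideal.Quotient.eq.2 (hmem w r hw)]
          rw [← IsScalarTower.algebraMap_apply, Algebra.TensorProduct.algebraMap_apply]
          simp [Algebra.algebraMap_eq_smul_one, TensorProduct.smul_tmul]
        | zero => exact ⟨0, by rw [map_zero, map_zero]⟩
        | add u v _ _ hu hv =>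
          obtain ⟨c, hc⟩ := hu; obtain ⟨c', hc'⟩ := hv
          exact ⟨c + c', by rw [map_add, map_add, hc, hc']⟩
        | smul s u _ hu =>
          obtain ⟨c, hc⟩ := hu
          exact ⟨s * c, by rw [map_smul, hc, Algebra.algebraMap_eq_smul_one, Algebra.algebraMap_eq_smul_one, mul_smul]⟩
      rw [map_mul, hc, ← Algebra.commutes, ← Algebra.smul_def]
      exact Submodule.smul_mem _ _ (Submodule.subset_span (hg.map π))
    | zero => rw [map_zero]; exact Submodule.zero_mem _
    | add u v _ _ hu hv => rw [map_add]; exact Submodule.add_mem _ hu hv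
    | smul s u _ hu => rw [map_smul]; exact Submodule.smul_mem _ _ hu
  · intro I _ hI
    obtain ⟨R', _, _, hff, M, _, ⟨e⟩⟩ := hI
    refine Ideal.map_le_iff_le_comap.2 fun b hb => ?_
    obtain ⟨r, hr⟩ := b.2
    show b.1 ∈ I
    refine Ideal.Quotient.eq_zero_iff_mem.1 ?_
    show (Bialgebra.Quotient.mkBialgHom (R := k) I) b.1 = 0
    rw [map_W_eq k _ R' e r b.1 hr, show Coalgebra.counit (R := k) b.1 = 0 from hb, map_zero]

end Groth.Agent.S4130
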