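import Groth.Statements.S4131
import Groth.Agent.RankOneComm.Main

set_option autoImplicit false
universe u
open CategoryTheory MonoidalCategory CartesianMonoidalCategory MonObj GrpObj AlgebraicGeometry CategoryTheory.Limits
open Red

namespace Groth.Agent.S4131

open Groth.Agent.GrpSchLib Groth.Agent.GrpSchLib.RankOne Groth.Agent.RankOneComm

/-- Let G be an S-group scheme, i : T → G a subtorus, α : T → 𝔾_m a character which is non-trivial on
every geometric fibre, and p₊, p₋ : 𝔾_a → G homomorphisms which are monomorphisms normalised by T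
with multipliers α and α⁻¹ (i(t) p₊(x) i(t)⁻¹ = p₊(α(t)x), i(t) p₋(y) i(t)⁻¹ = p₋(α(t)⁻¹y)). Assume
(i) the morphism 𝔾_a ×_S T ×_S 𝔾_a → G, (y, t, x) ↦ p₋(y)·i(t)·p₊(x), is an open immersion, with
image Ω, and (ii) on every geometric fibre the images of p₊ and p₋ do not commute. Then there is
exactly one pair (a, α*) consisting of an S-point a of 𝔾_m and a homomorphism α* : 𝔾_m → T such that
for every S-scheme X and all points x, y of 𝔾_a with values in X: p₊(x)p₋(y) lies in Ω if and only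
if 1 + a·x·y is a unit (as a function on X), and in that case p₊(x)p₋(y) = p₋(y')·i(α*(z))·p₊(x')
where z = 1 + axy, y'·z = y and x'·z = x; moreover α ∘ α* is the squaring map of 𝔾_m. -/
theorem result (S : Scheme.{u}) (G T : Over S) [GrpObj G] [GrpObj T] (i : T ⟶ G)
    [IsMonHom i] [Mono i] (hT : Red.IsTorus T) (α : T ⟶ Red.Gm S) [IsMonHom α]
    (hα : ∀ s : S, (Over.pullback (Red.geomPt s)).map α ≠ 1)
    (pp pm : Red.Ga S ⟶ G) [IsMonHom pp] [Mono pp] [IsMonHom pm] [Mono pm]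
    (hpp : ∀ (X : Over S) (t : X ⟶ T) (x : X ⟶ Red.Ga S), ∃ x' : X ⟶ Red.Ga S,
      x' ≫ pp = (t ≫ i) * (x ≫ pp) * (t ≫ i)⁻¹ ∧ Red.gaFn x' = Red.gmFn (t ≫ α) * Red.gaFn x)
    (hpm : ∀ (X : Over S) (t : X ⟶ T) (y : X ⟶ Red.Ga S), ∃ y' : X ⟶ Red.Ga S,
      y' ≫ pm = (t ≫ i) * (y ≫ pm) * (t ≫ i)⁻¹ ∧ Red.gaFn y' * Red.gmFn (t ≫ α) = Red.gaFn y)
    (hΩ : IsOpenImmersion (((pm ⊗ₘ i) ⊗ₘ pp) ≫ (μ[G] ▷ G) ≫ μ[G]).left)
    (hnc : ∀ s : S, ∃ (X : Over (Spec (CommRingCat.of (AlgebraicClosure (S.residueField s)))))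
      (x y : X ⟶ Red.bc (Red.geomPt s) (Red.Ga S)),
      (x ≫ (Over.pullback (Red.geomPt s)).map pp) * (y ≫ (Over.pullback (Red.geomPt s)).map pm) ≠
        (y ≫ (Over.pullback (Red.geomPt s)).map pm) * (x ≫ (Over.pullback (Red.geomPt s)).map pp)) :
    ∃! q : (𝟙_ (Over S) ⟶ Red.Gm S) × (Red.Gm S ⟶ T), IsMonHom q.2 ∧ q.2 ≫ α = (𝟙 (Red.Gm S)) ^ 2 ∧
      ∀ (X : Over S) (x y : X ⟶ Red.Ga S),
        ((∃ w : X ⟶ (Red.Ga S ⊗ T) ⊗ Red.Ga S, w ≫ (((pm ⊗ₘ i) ⊗ₘ pp) ≫ (μ[G] ▷ G) ≫ μ[G]) = (x ≫ pp) * (y ≫ pm)) ↔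
          IsUnit (1 + Red.gmFn (toUnit X ≫ q.1) * Red.gaFn x * Red.gaFn y)) ∧
        (IsUnit (1 + Red.gmFn (toUnit X ≫ q.1) * Red.gaFn x * Red.gaFn y) →
          ∃ (x' y' : X ⟶ Red.Ga S) (z : X ⟶ Red.Gm S),
            Red.gmFn z = 1 + Red.gmFn (toUnit X ≫ q.1) * Red.gaFn x * Red.gaFn y ∧
            Red.gaFn x' * Red.gmFn z = Red.gaFn x ∧ Red.gaFn y' * Red.gmFn z = Red.gaFn y ∧
            (x ≫ pp) * (y ≫ pm) = (y' ≫ pm) * (z ≫ q.2 ≫ i) * (x' ≫ pp)) := by
  let D : Dat S := { G := G, T := T, i := i, α := α, pp := pp, pm := pm, hT := hT, hα := hα, hpp := hpp, hpm := hpm, hΩ := hΩ }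
  have hn : D.NonComm := fun s => by
    obtain ⟨X, x, y, hxy⟩ := hnc s
    by_contra hcon
    push Not at hcon
    refine hxy ((DSPtsLib.theta_bijective (Red.geomPt s)).injective ?_)
    rw [DSPtsLib.theta_mul, DSPtsLib.theta_mul, theta_pullback_map, theta_pullback_map]
    refine ext_spec fun A b j => ?_
    rw [MonObj.comp_mul, MonObj.comp_mul, ← Category.assoc, ← Category.assoc]
    have hb : Spec.map (CommRingCat.ofHom (Spec.preimage (j.left ≫ X.hom)).hom) ≫ Red.geomPt s = b := by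
      rw [CommRingCat.ofHom_hom, Spec.map_preimage]
      exact (Category.assoc _ _ _).trans (Over.w j)
    have key := hcon A inferInstance b (Spec.preimage (j.left ≫ X.hom)).hom hb
      (vl b (j ≫ DSPtsLib.theta _ x)) (vl b (j ≫ DSPtsLib.theta _ y))
    unfold Dat.P Dat.M at key
    rw [pt_vl, pt_vl] at key
    exact key
  obtain ⟨c, av, hav, hsq, hc, hRV⟩ := exists_pair D hn
  haveI := hav
  have hcv : ∀ {X : Over S} {A : CommRingCat.{u}} {b : Spec A ⟶ S} (j : Over.mk b ⟶ X),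
      sval b (j.left.appTop (Red.gmFn (toUnit X ≫ c))) = D.ca b := fun {X A b} j => by
    rw [← GmPts.gmFn_comp, ← Category.assoc, toUnit_unique (j ≫ toUnit X) (toUnit _)]
    exact hc A b
  have hv : ∀ {X : Over S} {A : CommRingCat.{u}} {b : Spec A ⟶ S} (j : Over.mk b ⟶ X) (v : X ⟶ Red.Ga S),
      vl b (j ≫ v) = sval b (j.left.appTop (Red.gaFn v)) := fun {X A b} j v => by
    rw [vl, GaPts.gaFn_comp]
  have hz' : ∀ {X : Over S} {A : CommRingCat.{u}} {b : Spec A ⟶ S} (j : Over.mk b ⟶ X) (x y : X ⟶ Red.Ga S),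
      sval b (j.left.appTop (1 + Red.gmFn (toUnit X ≫ c) * Red.gaFn x * Red.gaFn y)) =
        1 + D.ca b * (vl b (j ≫ x) * vl b (j ≫ y)) := fun {X A b} j x y => by
    rw [map_add, map_mul, map_mul, map_one, map_add, map_mul, map_mul, map_one, hcv, ← hv, ← hv, _root_.mul_assoc]
  have hprod : ∀ {X : Over S} {A : CommRingCat.{u}} {b : Spec A ⟶ S} (j : Over.mk b ⟶ X) (x y : X ⟶ Red.Ga S),
      j ≫ ((x ≫ pp) * (y ≫ pm)) = D.P b (vl b (j ≫ x)) * D.M b (vl b (j ≫ y)) := fun {X A b} j x y => by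
    rw [MonObj.comp_mul, ← Category.assoc, ← Category.assoc]
    unfold Dat.P Dat.M
    rw [pt_vl, pt_vl]
  refine ⟨(c, av), ⟨hav, hsq, fun X x y => ⟨⟨?_, ?_⟩, ?_⟩⟩, ?_⟩
  · rintro ⟨w, hw⟩
    let v := 1 + Red.gmFn (toUnit X ≫ c) * Red.gaFn x * Red.gaFn y
    refine X.left.toRingedSpace.isUnit_of_isUnit_germ ⊤ v fun p _ => ?_
    suffices h : p ∈ X.left.basicOpen (U := ⊤) v from (Scheme.mem_basicOpen X.left v p trivial).mp h
    let bres : Spec (CommRingCat.of (X.left.residueField p)) ⟶ S := X.left.fromSpecResidueField p ≫ X.hom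
    let j : Over.mk bres ⟶ X := Over.homMk (X.left.fromSpecResidueField p) rfl
    have hL : D.L bres (vl bres (j ≫ x)) (vl bres (j ≫ y)) := by
      refine ⟨vl bres (j ≫ w ≫ fst _ _ ≫ fst _ _), j ≫ w ≫ fst _ _ ≫ snd _ _, vl bres (j ≫ w ≫ snd _ _), ?_⟩
      have h1 := congrArg (j ≫ ·) hw
      have ew : w ≫ cellMap i pp pm =
          ((w ≫ fst _ _ ≫ fst _ _) ≫ pm) * ((w ≫ fst _ _ ≫ snd _ _) ≫ i) * ((w ≫ snd _ _) ≫ pp) := by
        rw [← cell_comp]
        congr 1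
        refine CartesianMonoidalCategory.hom_ext _ _ (CartesianMonoidalCategory.hom_ext _ _ ?_ ?_) ?_
        all_goals simp only [Category.assoc, lift_fst, lift_snd]
      simp only [hprod] at h1
      refine h1.symm.trans ((congrArg (j ≫ ·) ew).trans ?_)
      unfold Dat.M Dat.P Dat.I
      rw [pt_vl, pt_vl]
      simp only [MonObj.comp_mul, Category.assoc]
      rfl
    have hu := (hn.L_iff _ _).mp hL
    rw [← hz' j x y] at hu
    have hu' : IsUnit ((X.left.fromSpecResidueField p).appTop v) :=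
      (MulEquiv.isUnit_map (sval (X.left.fromSpecResidueField p ≫ X.hom)).toMulEquiv).mp hu
    have h6 : IsLocalRing.closedPoint (X.left.residueField p) ∈ (X.left.fromSpecResidueField p) ⁻¹ᵁ X.left.basicOpen v := by
      rw [Scheme.preimage_basicOpen_top, Scheme.basicOpen_of_isUnit _ hu']
      trivial
    exact Eq.mp (congrArg (· ∈ X.left.basicOpen v) (Scheme.fromSpecResidueField_apply p _)) h6
  · intro hu
    obtain ⟨a, t, d, h⟩ := exists_coords (hΩ) ((x ≫ pp) * (y ≫ pm)) fun K _ b j _ => by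
      obtain ⟨a, t, d, h⟩ := (hn.L_iff (vl b (j ≫ x)) (vl b (j ≫ y))).mpr
        (by rw [← hz' j x y]; exact (hu.map j.left.appTop.hom).map (sval b))
      exact ⟨pt b a, t, pt b d, (hprod j x y).trans h⟩
    exact ⟨lift (lift a t) d, (cell_comp i pp pm a t d).trans h.symm⟩
  · intro hu
    obtain ⟨u, hu⟩ := hu
    refine ⟨GaPts.ptOfFn ((↑u⁻¹ : Γ(X.left, ⊤)) * Red.gaFn x), GaPts.ptOfFn ((↑u⁻¹ : Γ(X.left, ⊤)) * Red.gaFn y),
      GmPts.ptOfUnit u, (GmPts.gmFn_ptOfUnit u).trans hu, ?_, ?_, ?_⟩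
    · rw [GaPts.gaFn_ptOfFn, GmPts.gmFn_ptOfUnit, mul_right_comm, Units.inv_mul, _root_.one_mul]
    · rw [GaPts.gaFn_ptOfFn, GmPts.gmFn_ptOfUnit, mul_right_comm, Units.inv_mul, _root_.one_mul]
    refine ext_spec fun A b j => ?_
    let z := uv b (j ≫ GmPts.ptOfUnit u)
    have hz : (z : A) = sval b (j.left.appTop u) := by
      show (uv b _ : A) = _
      rw [val_uv, GmPts.gmFn_comp, GmPts.gmFn_ptOfUnit]
    have hzi : ((z⁻¹ : Aˣ) : A) = sval b (j.left.appTop (↑u⁻¹ : Γ(X.left, ⊤))) := by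
      rw [← Units.mul_left_inj z, Units.inv_mul, hz, ← map_mul, ← map_mul, Units.inv_mul, map_one, map_one]
    have key := hRV A b (j ≫ GmPts.ptOfUnit u) (vl b (j ≫ x)) (vl b (j ≫ y)) (by
      rw [hz, hu, hz', add_sub_cancel_left])
    have e : ∀ v : X ⟶ Red.Ga S, pt b ((z⁻¹ : Aˣ) * vl b (j ≫ v)) =
        j ≫ GaPts.ptOfFn ((↑u⁻¹ : Γ(X.left, ⊤)) * Red.gaFn v) := fun v => by
      refine (congrArg (pt b) ?_).trans (pt_vl b _)
      rw [hv j v, hv j, GaPts.gaFn_ptOfFn, map_mul, map_mul, hzi]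
    rw [hprod, key, MonObj.comp_mul, MonObj.comp_mul]
    unfold Dat.M Dat.P Dat.I
    rw [e, e]
    simp only [Category.assoc]
    rfl
  · rintro ⟨c', av'⟩ ⟨hav', -, hr⟩
    have hca : ∀ (A : CommRingCat.{u}) (b : Spec A ⟶ S), (uv b (toUnit (Over.mk b) ≫ c') : A) = D.ca b := fun A b => by
      obtain ⟨r, hε, -⟩ := D.eps_scale b 1
      let E : CommRingCat.{u} := CommRingCat.of (Eps A)
      let a' : Eps A := uv (dbase b) (toUnit (Over.mk (dbase b)) ≫ c')
      have hu : IsUnit (1 + Red.gmFn (toUnit (Over.mk (dbase b)) ≫ c') *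
          Red.gaFn (pt (dbase b) (1 : Eps A)) * Red.gaFn (pt (dbase b) (TrivSqZeroExt.inr 1 : Eps A))) := by
        refine (MulEquiv.isUnit_map (sval (dbase b)).toMulEquiv).mp ?_
        show IsUnit (sval (dbase b) _)
        rw [map_add, map_mul, map_mul, map_one]
        change IsUnit ((1 : Eps A) + a' * vl _ (pt (dbase b) (1 : Eps A)) * vl _ (pt (dbase b) (TrivSqZeroExt.inr 1 : Eps A)))
        rw [vl_pt, vl_pt, TrivSqZeroExt.isUnit_iff_isUnit_fst]
        simp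
      obtain ⟨x', y', z, hz, hx', hy', h⟩ := (hr _ _ _).2 hu
      have hrel : D.Rel (dbase b) 1 (TrivSqZeroExt.inr 1) (vl _ y') (z ≫ av') (vl _ x') := by
        show _ = _
        unfold Dat.M Dat.P Dat.I
        rw [pt_vl, pt_vl]
        refine h.trans ?_
        simp only [Category.assoc]
        rfl
      have hd := (hrel.unique hε.rel_left).2.2
      have hz2 := congrArg (sval (dbase b)) hz
      have hx2 := congrArg (sval (dbase b)) hx'
      rw [map_mul] at hx2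
      change vl _ x' * sval (dbase b) (Red.gmFn z) = vl _ (pt (dbase b) (1 : Eps A)) at hx2
      rw [hz2, map_add, map_mul, map_mul, map_one, vl_pt] at hx2
      change vl _ x' * ((1 : Eps A) + a' * vl _ (pt (dbase b) (1 : Eps A)) *
        vl _ (pt (dbase b) (TrivSqZeroExt.inr 1 : Eps A))) = 1 at hx2
      rw [vl_pt, vl_pt, hd] at hx2
      have h3 := congrArg TrivSqZeroExt.snd hx2
      simp at h3
      have ha : a' = TrivSqZeroExt.inl (uv b (toUnit (Over.mk b) ≫ c') : A) := by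
        have h4 := uv_map b (TrivSqZeroExt.inlHom A A) (dbase_inl b) (toUnit (Over.mk b) ≫ c')
        rw [← Category.assoc, toUnit_unique (res b _ (dbase_inl b) ≫ toUnit _) (toUnit _)] at h4
        exact h4
      rw [ha, TrivSqZeroExt.fst_inl] at h3
      linear_combination h3
    have hcc : c' = c := ext_spec fun A b j => uv_injective b (Units.ext (by
      rw [toUnit_unique j (toUnit _), hca, hc]))
    subst hcc
    refine Prod.ext rfl (ext_spec fun A b j => ?_)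
    obtain ⟨ua, hua⟩ := (hn.isUnit_ca (b := b)).1
    let v : A := (ua⁻¹ : Aˣ) * ((uv b j : A) - 1)
    have hv' : D.ca b * (1 * v) = uv b j - 1 := by
      rw [_root_.one_mul, ← hua]; exact Units.mul_inv_cancel_left _ _
    have hval : sval b (1 + Red.gmFn (toUnit (Over.mk b) ≫ c') * Red.gaFn (pt b (1 : A)) * Red.gaFn (pt b v)) =
        uv b j := by
      rw [map_add, map_mul, map_mul, map_one]
      change (1 : A) + (uv b (toUnit (Over.mk b) ≫ c') : A) * vl b (pt b (1 : A)) * vl b (pt b v) = _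
      rw [vl_pt, vl_pt, hca, _root_.mul_assoc, hv', add_sub_cancel]
    obtain ⟨x', y', z, hz, hx', hy', h⟩ := (hr _ (pt b (1 : A)) (pt b v)).2
      ((MulEquiv.isUnit_map (sval b).toMulEquiv).mp (hval ▸ (uv b j).isUnit))
    have hzj : z = j := uv_injective b (Units.ext (by rw [val_uv, hz, hval]))
    subst hzj
    have hrel : D.Rel b 1 v (vl _ y') (z ≫ av') (vl _ x') := by
      show _ = _
      unfold Dat.M Dat.P Dat.I
      rw [pt_vl, pt_vl]
      refine h.trans ?_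
      simp only [Category.assoc]
      rfl
    exact (hrel.unique (hRV A b z 1 v hv')).2.1

end Groth.Agent.S4131
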