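import Groth.Statements.S4135
import Mathlib
import Groth.Agent.MilnorMoore.Span

set_option autoImplicit false
universe u
open TensorProduct
attribute [local instance] LieRing.ofAssociativeRing
open SGA3y

namespace Groth.Agent.S4135

/-- Let k be a field of characteristic zero and H a cocommutative bialgebra over k which is connected
(every nonzero subcoalgebra contains 1). Then the canonical algebra homomorphism from the universal
enveloping algebra of the Lie algebra of primitive elements of H to H is bijective. -/
theorem result (k : Type u) [Field k] [CharZero k] (H : Type u) [Ring H]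
    [Bialgebra k H] [Coalgebra.IsCocomm k H] (hconn : SGA3y.IsConnectedCoalg k H) :
    Function.Bijective (UniversalEnvelopingAlgebra.lift k (SGA3y.primLie k H).incl) := by
  classical
  let g := SGA3y.primLie k H
  let b := Module.Basis.ofVectorSpace k g
  let ι := Module.Basis.ofVectorSpaceIndex k g
  let : LinearOrder ι := linearOrderOfSTO WellOrderingRel
  let v : ι → H := fun i => (b i : H)
  have hv : ∀ i, Coalgebra.comul (R := k) (v i) = v i ⊗ₜ[k] (1 : H) + (1 : H) ⊗ₜ[k] v i := fun i => (b i).2
  have hli : LinearIndependent k v :=
    b.linearIndependent.map' (g.toSubmodule.subtype) (Submodule.ker_subtype _)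
  have hspan : ∀ z : H, Coalgebra.comul (R := k) z = z ⊗ₜ[k] (1 : H) + (1 : H) ⊗ₜ[k] z →
      z ∈ Submodule.span k (Set.range v) := fun z hz => by
    have := Submodule.apply_mem_span_image_iff_mem_span (Submodule.injective_subtype g.toSubmodule)
      |>.2 (b.mem_span (⟨z, hz⟩ : g))
    rw [← Set.range_comp] at this
    exact this
  let L := UniversalEnvelopingAlgebra.lift k (SGA3y.primLie k H).incl
  let x : ι → UniversalEnvelopingAlgebra k g := fun i => UniversalEnvelopingAlgebra.ι k (b i)
  have hιspan : ∀ z : g, UniversalEnvelopingAlgebra.ι k z ∈ Submodule.span k (Set.range x) := fun z => by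
    have := Submodule.mem_map_of_mem (f := (UniversalEnvelopingAlgebra.ι k (L := g)).toLinearMap) (b.mem_span z)
    rw [Submodule.map_span, ← Set.range_comp] at this
    exact this
  have hcomm : ∀ i j, x i * x j - x j * x i ∈ Submodule.span k (Set.range x) := fun i j => by
    have := hιspan ⁅b i, b j⁆
    rwa [LieHom.map_lie] at this
  have hgen : Algebra.adjoin k (Set.range x) = ⊤ := by
    let A' := Algebra.adjoin k (Set.range x)
    have hA' : ∀ z : g, UniversalEnvelopingAlgebra.ι k z ∈ A' := fun z =>
      (Submodule.span_le (p := Subalgebra.toSubmodule A')).2 Algebra.subset_adjoin (hιspan z)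
    let φ : g →ₗ⁅k⁆ A' :=
      { toFun := fun z => ⟨UniversalEnvelopingAlgebra.ι k z, hA' z⟩
        map_add' := fun a c => Subtype.ext ((UniversalEnvelopingAlgebra.ι k).map_add a c)
        map_smul' := fun r a => Subtype.ext ((UniversalEnvelopingAlgebra.ι k).map_smul r a)
        map_lie' := fun {a c} => Subtype.ext ((UniversalEnvelopingAlgebra.ι k).map_lie a c) }
    have hid : A'.val.comp (UniversalEnvelopingAlgebra.lift k φ) = AlgHom.id k _ := by
      apply UniversalEnvelopingAlgebra.hom_ext
      ext z
      show ((UniversalEnvelopingAlgebra.lift k φ) (UniversalEnvelopingAlgebra.ι k z) : UniversalEnvelopingAlgebra k g) = _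
      rw [UniversalEnvelopingAlgebra.lift_ι_apply]
      rfl
    rw [eq_top_iff]
    intro z _
    rw [← AlgHom.id_apply (R := k) z, ← hid]
    exact ((UniversalEnvelopingAlgebra.lift k φ) z).2
  have htop := MilnorMoore.span_mon_eq_top_of_adjoin hcomm hgen
  have hmon : ∀ s, L (MilnorMoore.mon x s) = MilnorMoore.mon v s := fun s => by
    simp only [MilnorMoore.mon, map_list_prod, List.map_map]
    refine congrArg List.prod (List.map_congr_left fun i _ => ?_)
    exact UniversalEnvelopingAlgebra.lift_ι_apply k (SGA3y.primLie k H).incl (b i)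
  refine ⟨?_, ?_⟩
  · rw [injective_iff_map_eq_zero]
    intro a ha
    obtain ⟨c, rfl⟩ := Finsupp.mem_span_range_iff_exists_finsupp.1 (htop ▸ Submodule.mem_top : a ∈ Submodule.span k (Set.range (MilnorMoore.mon x)))
    have hz : Finsupp.linearCombination k (MilnorMoore.mon v) c = 0 := by
      rw [← ha, Finsupp.linearCombination_apply]
      change _ = L _
      rw [map_finsuppSum]
      simp only [map_smul, hmon]
    rw [(linearIndependent_iff.1 (MilnorMoore.linearIndependent_mon hv hli) c hz), Finsupp.sum_zero_index]
  · intro z
    have hz : z ∈ Submodule.span k (Set.range (MilnorMoore.mon v)) :=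
      (MilnorMoore.span_mon_eq_top hv hli hspan hconn).symm ▸ Submodule.mem_top
    obtain ⟨c, rfl⟩ := Finsupp.mem_span_range_iff_exists_finsupp.1 hz
    refine ⟨c.sum fun s r => r • MilnorMoore.mon x s, ?_⟩
    change L _ = _
    rw [map_finsuppSum]
    simp only [map_smul, hmon]


end Groth.Agent.S4135
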