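import Groth.Statements.S4137
import Groth.Agent.GenTransporter.Centralizer
import Groth.Agent.GenTransporter.Spread
-- import your own Groth.Agent.* helpers here

set_option autoImplicit false
universe u
open CategoryTheory MonoidalCategory CartesianMonoidalCategory MonObj GrpObj AlgebraicGeometry CategoryTheory.Limits
open SGA3

namespace Groth.Agent.S4137

/-- Let S be an integral scheme, G and H S-group schemes of finite presentation over S and i : H → G a
homomorphism which is a quasi-compact monomorphism. Then there is a non-empty open U of S over which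
i becomes a closed immersion and the centralizer and the normalizer of H_U in G_U are representable
by closed subgroup schemes of G_U of finite presentation over U. -/
theorem result (S : Scheme.{u}) [IsIntegral S] (G H : Over S)
    [GrpObj G] [GrpObj H] [LocallyOfFinitePresentation G.hom] [QuasiCompact G.hom] [QuasiSeparated G.hom]
    [LocallyOfFinitePresentation H.hom] [QuasiCompact H.hom] [QuasiSeparated H.hom]
    (i : H ⟶ G) [IsMonHom i] [Mono i] [QuasiCompact i.left] :
    ∃ U : S.Opens, (U : Set S).Nonempty ∧ IsClosedImmersion ((Over.pullback U.ι).map i).left ∧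
      ∃ (C N : Over (U : Scheme.{u})) (_ : GrpObj C) (_ : GrpObj N) (c : C ⟶ Red.bc U.ι G) (n : N ⟶ Red.bc U.ι G),
        Red.IsCentralizerOf ((Over.pullback U.ι).map i) c ∧ IsClosedImmersion c.left ∧
          LocallyOfFinitePresentation C.hom ∧ QuasiCompact C.hom ∧
        Red.IsNormalizerOf ((Over.pullback U.ι).map i) n ∧ IsClosedImmersion n.left ∧
          LocallyOfFinitePresentation N.hom ∧ QuasiCompact N.hom := by
  obtain ⟨U₁, hU₁, hsep⟩ := Groth.Agent.GenTransporter.exists_open_isSeparated G
  obtain ⟨U₂, hU₂, -, hU₂le, hci⟩ := Groth.Agent.GenTransporter.exists_open_isClosedImmersion i U₁ hU₁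
  obtain ⟨U, hU, -, hUle, hfree⟩ := Groth.Agent.GenTransporter.exists_open_essFree H.hom U₂ hU₂
  haveI : IsClosedImmersion ((Over.pullback U.ι).map i).left :=
    Groth.Agent.GenTransporter.of_model i (P := @IsClosedImmersion) (IsPullback.of_hasPullback G.hom U₂.ι)
      (Groth.Agent.GenTransporter.isPullback_map_left i U₂.ι) (S.homOfLE hUle) (Scheme.homOfLE_ι S hUle) hci
  haveI : IsSeparated (Red.bc U.ι G).hom := hsep U (hUle.trans hU₂le)
  haveI : LocallyOfFinitePresentation (Red.bc U.ι G).hom :=
    MorphismProperty.pullback_snd (P := @LocallyOfFinitePresentation) _ _ ‹_›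
  haveI : QuasiCompact (Red.bc U.ι G).hom := MorphismProperty.pullback_snd (P := @QuasiCompact) _ _ ‹_›
  haveI : LocallyOfFinitePresentation (Red.bc U.ι H).hom :=
    MorphismProperty.pullback_snd (P := @LocallyOfFinitePresentation) _ _ ‹_›
  haveI : QuasiCompact (Red.bc U.ι H).hom := MorphismProperty.pullback_snd (P := @QuasiCompact) _ _ ‹_›
  obtain ⟨C, hCg, c, hC, hc, hCf, hCq⟩ := Groth.Agent.GenTransporter.exists_centralizer (H := Red.bc U.ι H)
    hfree inferInstance ((Over.pullback U.ι).map i)
  obtain ⟨N, hNg, n, hN, hn, hNf, hNq⟩ := Groth.Agent.GenTransporter.exists_normalizer (H := Red.bc U.ι H)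
    hfree ((Over.pullback U.ι).map i)
  exact ⟨U, hU, inferInstance, C, N, hCg, hNg, c, n, hC, hc, hCf, hCq, hN, hn, hNf, hNq⟩
end Groth.Agent.S4137
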