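import Groth.Statements.S4140
import Groth.Agent.GeomIrrSpread.NeutralTranslate
-- import your own Groth.Agent.* helpers here

set_option autoImplicit false
universe u
open CategoryTheory MonoidalCategory CartesianMonoidalCategory MonObj GrpObj AlgebraicGeometry CategoryTheory.Limits
open SGA3

namespace Groth.Agent.S4140

/-- Let G be an S-group scheme locally of finite presentation over S such that s ↦ dim G_s is locally
constant, and σ, τ two S-points of G with values in the neutral component G⁰ (their images lie in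
the union of the neutral components of the fibres). Then the subscheme of coincidences of σ and τ
(the pullback of the diagonal of G along (σ, τ)) is a closed subscheme of S. -/
theorem result (S : Scheme.{u}) (G : Over S) [GrpObj G]
    [LocallyOfFinitePresentation G.hom]
    (hdim : IsLocallyConstant (fun s : S => topologicalKrullDim ↥(G.hom.base ⁻¹' {s})))
    (σ τ : 𝟙_ (Over S) ⟶ G) (hσ : Set.range σ.left.base ⊆ SGA3x.neutralSet G)
    (hτ : Set.range τ.left.base ⊆ SGA3x.neutralSet G) :
    IsClosedImmersion (pullback.fst (lift σ τ) (lift (𝟙 G) (𝟙 G))).left := by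
  let L : 𝟙_ (Over S) ⟶ G ⊗ G := lift σ τ
  let Δ : G ⟶ G ⊗ G := lift (𝟙 G) (𝟙 G)
  have hsq : IsPullback (pullback.fst L Δ).left (pullback.snd L Δ).left L.left Δ.left :=
    (IsPullback.of_hasPullback L Δ).map (Over.forget S)
  haveI : IsPreimmersion Δ.left := by
    have : IsPreimmersion (pullback.diagonal G.hom) := inferInstance
    exact this
  haveI : IsPreimmersion (pullback.fst L Δ).left := MorphismProperty.of_isPullback (P := @IsPreimmersion) hsq.flip inferInstance
  refine IsClosedImmersion.of_isPreimmersion _ ?_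
  have hr : Set.range (pullback.fst L Δ).left = L.left ⁻¹' Set.range Δ.left := by
    ext x
    constructor
    · rintro ⟨y, rfl⟩
      exact ⟨(pullback.snd L Δ).left y, by rw [← Scheme.Hom.comp_apply, ← hsq.w]; rfl⟩
    · rintro ⟨b, hb⟩
      obtain ⟨y, hy, -⟩ := Scheme.exists_preimage_of_isPullback hsq x b hb.symm
      exact ⟨y, hy⟩
  rw [hr, ← closure_subset_iff_isClosed]
  intro s hs
  let e : S ⟶ G.left := (η[G]).left
  obtain ⟨U, hU, heU, -⟩ := exists_isAffineOpen_mem_and_subset (show e s ∈ (⊤ : G.left.Opens) from trivial)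
  haveI : IsAffine (U : Scheme.{u}) := hU
  haveI : IsSeparated (U.ι ≫ G.hom) := by
    haveI : IsSeparated ((U.ι ≫ G.hom) ≫ terminal.from S) := by
      rw [terminal.hom_ext ((U.ι ≫ G.hom) ≫ terminal.from S) (terminal.from _)]
      infer_instance
    exact IsSeparated.of_comp _ (terminal.from S)
  let act : AlgGrp.Action G G := ⟨μ[G], MonObj.one_mul G, MonObj.mul_assoc G⟩
  have key : ∀ ρ : 𝟙_ (Over S) ⟶ G, ρ.left s ∈ SGA3x.neutralSet G → ρ.left s ∈ GeomIrrSpread.translate act U := by
    intro ρ hρ
    refine ⟨(lift ρ η[G]).left s, ⟨?_, ?_⟩, ?_⟩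
    · show (fst G G).left ((lift ρ η[G]).left s) ∈ _
      rw [← GrpSchLib.left_comp_apply, lift_fst]
      exact hρ
    · show (snd G G).left ((lift ρ η[G]).left s) ∈ U
      rw [← GrpSchLib.left_comp_apply, lift_snd]
      exact heU
    · show μ[G].left ((lift ρ η[G]).left s) = _
      rw [← GrpSchLib.left_comp_apply]
      have h : lift ρ η[G] ≫ μ[G] = ρ := by
        have h1 : (η[G] : 𝟙_ (Over S) ⟶ G) = 1 := by rw [Hom.one_def, toUnit_unit, Category.id_comp]
        rw [← Hom.mul_def, h1, _root_.mul_one]
      rw [h]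
  refine GeomIrrSpread.mem_range_diag_of_translate act U hdim (map_mem_closure L.left.continuous hs fun _ h => h) ?_ ?_
  · rw [← GrpSchLib.left_comp_apply, lift_fst]
    exact key σ (hσ ⟨s, rfl⟩)
  · rw [← GrpSchLib.left_comp_apply, lift_snd]
    exact key τ (hτ ⟨s, rfl⟩)

end Groth.Agent.S4140
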