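import Groth.Statements.S4147
import Groth.Agent.MultTypeImage.MaxTorus
-- import your own Groth.Agent.* helpers here

set_option autoImplicit false
universe u
open CategoryTheory MonoidalCategory CartesianMonoidalCategory MonObj GrpObj AlgebraicGeometry CategoryTheory.Limits
open SGA3x

namespace Groth.Agent.S4147

/-- Let G and G' be S-group schemes, smooth, separated and of finite type over S, G acquiring a maximal
torus after an fpqc covering base change, and u : G → G' a homomorphism which is surjective on every
geometric fibre. Then for every maximal torus i : T → G there is a maximal torus i' : T' → G' of G'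
and a surjective flat homomorphism v : T → T' with v ≫ i' = i ≫ u (T' is the image u(T)). -/
theorem result (S : Scheme.{u}) (G G' : Over S) [GrpObj G] [GrpObj G']
    [Smooth G.hom] [IsSeparated G.hom] [QuasiCompact G.hom] [Smooth G'.hom] [IsSeparated G'.hom] [QuasiCompact G'.hom]
    (hG : SGA3x.HasMaxTorusFpqcLocally G) (u : G ⟶ G') [IsMonHom u]
    (hu : ∀ s : S, Surjective ((Over.pullback (Red.geomPt s)).map u).left)
    (T : Over S) [GrpObj T] (i : T ⟶ G) (hT : Red.IsMaximalTorus i) :
    ∃ (T' : Over S) (_ : GrpObj T') (i' : T' ⟶ G') (v : T ⟶ T'), Red.IsMaximalTorus i' ∧ IsMonHom v ∧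
      v ≫ i' = i ≫ u ∧ Surjective v.left ∧ Flat v.left := by
  set_option backward.isDefEq.respectTransparency.types false in
  obtain ⟨T', _, i', v, h1, h2, h3, -, h4, h5⟩ := MultTypeImage.exists_maximalTorus_image u hu hT
  exact ⟨T', inferInstance, i', v, h1, h2, h3, h4, h5⟩

end Groth.Agent.S4147
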