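import Groth.Statements.S4149
import Groth.Agent.S8393
import Groth.Agent.UniPart.Rigid
import Groth.Agent.UniPart.IterComm
import Groth.Agent.GrpSchLib.AdjointQuot
import Groth.Agent.MultTypeLib.SubgroupTransporter
-- import your own Groth.Agent.* helpers here

set_option autoImplicit false
universe u
open CategoryTheory MonoidalCategory CartesianMonoidalCategory MonObj GrpObj AlgebraicGeometry CategoryTheory.Limits
open SGA3x

namespace Groth.Agent.S4149


open Groth.Agent.UniPart

/-- The powers of a group scheme. -/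
noncomputable def pw {k : Type u} [Field k] (G : Over (Spec (CommRingCat.of k))) : ℕ → Over (Spec (CommRingCat.of k))
  | 0 => 𝟙_ _
  | i + 1 => G ⊗ pw G i

/-- The coordinate points of a power. -/
noncomputable def uni {k : Type u} [Field k] (G : Over (Spec (CommRingCat.of k))) : ∀ i : ℕ, List (pw G i ⟶ G)
  | 0 => []
  | i + 1 => (fst G (pw G i) : pw G (i + 1) ⟶ G) :: (uni G i).map fun p => (snd G (pw G i) ≫ p : pw G (i + 1) ⟶ G)

theorem uni_spec {k : Type u} [Field k] (G : Over (Spec (CommRingCat.of k))) {X : Over (Spec (CommRingCat.of k))} :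
    ∀ (i : ℕ) (gs : List (X ⟶ G)), gs.length = i → ∃ t : X ⟶ pw G i, (uni G i).map (t ≫ ·) = gs
  | 0, gs, h => ⟨toUnit X, by rw [List.eq_nil_of_length_eq_zero h]; rfl⟩
  | i + 1, [], h => by simp at h
  | i + 1, g :: gs, h => by
    obtain ⟨t, ht⟩ := uni_spec G i gs (by simpa using h)
    refine ⟨lift g t, ?_⟩
    simp only [uni, List.map_cons, List.map_map]
    congr 1
    · exact lift_fst g t
    · rw [← ht]
      exact List.map_congr_left fun p _ => (Category.assoc _ _ _).symm.trans (congrArg (· ≫ p) (lift_snd g t))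

/-- The unit point of a power. -/
noncomputable def lastPt {k : Type u} [Field k] (G : Over (Spec (CommRingCat.of k))) [GrpObj G] :
    ∀ i : ℕ, 𝟙_ (Over (Spec (CommRingCat.of k))) ⟶ pw G i
  | 0 => 𝟙 _
  | i + 1 => lift (1 : 𝟙_ _ ⟶ G) (lastPt G i)

theorem map_lastPt {k : Type u} [Field k] (G : Over (Spec (CommRingCat.of k))) [GrpObj G]
    {Y : Over (Spec (CommRingCat.of k))} : ∀ i : ℕ,
    (uni G i).map ((toUnit Y ≫ lastPt G i) ≫ ·) = List.replicate i (1 : Y ⟶ G)
  | 0 => rfl
  | i + 1 => by
    simp only [uni, List.map_cons, List.map_map, List.replicate_succ]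
    congr 1
    · show (toUnit Y ≫ lift (1 : 𝟙_ _ ⟶ G) (lastPt G i)) ≫ fst G (pw G i) = 1
      rw [Category.assoc, lift_fst, MonObj.comp_one]
    · rw [← map_lastPt G i]
      refine List.map_congr_left fun p _ => ?_
      show (toUnit Y ≫ lift (1 : 𝟙_ _ ⟶ G) (lastPt G i)) ≫ snd G (pw G i) ≫ p = _
      simp

theorem iterComm_one {Γ : Type*} [Group Γ] : ∀ gs : List Γ, iterComm (1 : Γ) gs = 1
  | [] => rfl
  | g :: gs => by rw [iterComm, commutatorElement_one_left, iterComm_one gs]

theorem length_uni {k : Type u} [Field k] (G : Over (Spec (CommRingCat.of k))) : ∀ i, (uni G i).length = i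
  | 0 => rfl
  | i + 1 => by simp [uni, length_uni G i]

/-- Precomposition as a homomorphism of groups of points. -/
noncomputable def pre {C : Type*} [Category C] [CartesianMonoidalCategory C] {G X Y : C} [GrpObj G] (f : X ⟶ Y) :
    (Y ⟶ G) →* (X ⟶ G) where
  toFun a := f ≫ a
  map_one' := MonObj.comp_one f
  map_mul' a b := MonObj.comp_mul f a b

theorem iterComm_comp {C : Type*} [Category C] [CartesianMonoidalCategory C] {G X Y : C} [GrpObj G] (f : X ⟶ Y)
    (x : Y ⟶ G) (gs : List (Y ⟶ G)) : f ≫ iterComm x gs = iterComm (f ≫ x) (gs.map (f ≫ ·)) :=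
  map_iterComm (pre f) gs x

/-- A subgroup of multiplicative type of a connected nilpotent group is central. -/
theorem central_of_nilpotent {k : Type u} [Field k] {G M' : Over (Spec (CommRingCat.of k))} [GrpObj G] [GrpObj M']
    [IsAffine G.left] [LocallyOfFiniteType G.hom] [QuasiCompact G.hom] [ConnectedSpace G.left]
    (hnil : ∃ n : ℕ, ∀ X : Over (Spec (CommRingCat.of k)), (⊤ : Subgroup (X ⟶ G)).lowerCentralSeries n = ⊥)
    (m' : M' ⟶ G) [IsMonHom m'] (hM : SGA3x.IsMultTypeFT M') (X : Over (Spec (CommRingCat.of k))) (x : X ⟶ M')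
    (g : X ⟶ G) : (x ≫ m') * g = g * (x ≫ m') := by
  obtain ⟨n, hn⟩ := hnil
  haveI := GrpSchLib.Adjoint.geometricallyIrreducible (G := G)
  haveI : Flat G.hom := inferInstance
  haveI : UniversallyOpen G.hom := inferInstance
  have hirr : ∀ i, IrreducibleSpace (pw G i).left := by
    intro i
    induction i with
    | zero => exact inferInstanceAs (IrreducibleSpace (PrimeSpectrum k))
    | succ i ih =>
      haveI := ih
      exact inferInstanceAs (IrreducibleSpace ↥(Limits.pullback G.hom (pw G i).hom))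
  have key : ∀ i : ℕ, 1 ≤ i → (∀ (X : Over (Spec (CommRingCat.of k))) (x : X ⟶ M') (gs : List (X ⟶ G)),
      gs.length = i + 1 → iterComm (x ≫ m') gs = 1) →
      ∀ (X : Over (Spec (CommRingCat.of k))) (x : X ⟶ M') (gs : List (X ⟶ G)), gs.length = i →
        iterComm (x ≫ m') gs = 1 := by
    intro i hi h X x gs hgs
    obtain ⟨t, ht⟩ := uni_spec G i gs hgs
    haveI := hirr i
    let F : M' ⊗ pw G i ⟶ G := iterComm (fst M' (pw G i) ≫ m') ((uni G i).map (snd M' (pw G i) ≫ ·))
    have hF : ∀ {Y : Over (Spec (CommRingCat.of k))} (y : Y ⟶ M') (s : Y ⟶ pw G i),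
        lift y s ≫ F = iterComm (y ≫ m') ((uni G i).map (s ≫ ·)) := by
      intro Y y s
      show lift y s ≫ iterComm _ _ = _
      rw [iterComm_comp, lift_fst_assoc, List.map_map]
      congr 1
      exact List.map_congr_left fun p _ => lift_snd_assoc y s p
    have hF1 : F = 1 := by
      refine family_eq_one hM F (fun Y a b s => ?_) (lastPt G i) fun Y a => ?_
      · rw [hF, hF, hF, MonObj.mul_comp]
        refine iterComm_mul _ _ _ ?_ ?_
        all_goals
          rw [mem_upperCentralSeries_iff, List.length_map, length_uni]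
          exact h Y _
      · rw [hF]
        obtain ⟨i, rfl⟩ := Nat.exists_eq_succ_of_ne_zero (by omega : i ≠ 0)
        rw [map_lastPt, List.replicate_succ, iterComm, commutatorElement_one_right, iterComm_one]
    rw [← ht, ← hF, hF1, MonObj.comp_one]
  have htop : ∀ j : ℕ, ∀ (X : Over (Spec (CommRingCat.of k))) (x : X ⟶ M') (gs : List (X ⟶ G)),
      gs.length = j + n → iterComm (x ≫ m') gs = 1 := by
    intro j X x gs hgs
    have h := iterComm_mem_lowerCentralSeries gs 0 (x ≫ m') (Subgroup.mem_top _)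
    have hle : (⊤ : Subgroup (X ⟶ G)).lowerCentralSeries (0 + gs.length) ≤
        (⊤ : Subgroup (X ⟶ G)).lowerCentralSeries n := Subgroup.lowerCentralSeries_antitone _ (by omega)
    exact Subgroup.mem_bot.1 (hn X ▸ hle h)
  have hone : ∀ j : ℕ, j ≤ n → ∀ (X : Over (Spec (CommRingCat.of k))) (x : X ⟶ M') (gs : List (X ⟶ G)),
      gs.length = n + 1 - j → iterComm (x ≫ m') gs = 1 := by
    intro j hj
    induction j with
    | zero => exact fun X x gs hgs => htop 1 X x gs (by omega)
    | succ j ih =>
      intro X x gs hgs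
      exact key (n + 1 - (j + 1)) (by omega) (fun X x gs hgs => ih (by omega) X x gs (by omega)) X x gs hgs
  have h1 := hone n le_rfl X x [g] (by simp)
  exact commutatorElement_eq_one_iff_mul_comm.1 h1

/-- Let G be an affine, connected algebraic group over a field k which is nilpotent (for some n the n-th
term of the lower central series of G(X) is trivial for every k-scheme X). Then G has a largest
subgroup of multiplicative type M — a closed subgroup scheme of multiplicative type and of finite
type through which every such subgroup factors — and M is central in G. (The source adds that M is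
characteristic and G/M unipotent.) -/
theorem result (k : Type u) [Field k] (G : Over (Spec (CommRingCat.of k)))
    [GrpObj G] [IsAffine G.left] [LocallyOfFiniteType G.hom] [ConnectedSpace ↥G.left]
    (hnil : ∃ n : ℕ, ∀ X : Over (Spec (CommRingCat.of k)), (⊤ : Subgroup (X ⟶ G)).lowerCentralSeries n = ⊥) :
    ∃ (M : Over (Spec (CommRingCat.of k))) (_ : GrpObj M) (m : M ⟶ G), IsMonHom m ∧ IsClosedImmersion m.left ∧
      SGA3x.IsMultTypeFT M ∧
      (∀ (M' : Over (Spec (CommRingCat.of k))) [GrpObj M'] (m' : M' ⟶ G) [IsMonHom m'] [Mono m'],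
        SGA3x.IsMultTypeFT M' → ∃ f : M' ⟶ M, f ≫ m = m') ∧
      ∀ (X : Over (Spec (CommRingCat.of k))) (x : X ⟶ M) (g : X ⟶ G), (x ≫ m) * g = g * (x ≫ m) := by
  haveI : QuasiCompact G.hom := inferInstance
  obtain ⟨M, iM, m, hm, hmono, hMT, hcen, huniv⟩ := S8393.result k G
  haveI : IsAffineHom G.hom := inferInstance
  refine ⟨M, iM, m, hm, MultTypeLib.SubgroupTransporter.isClosedImmersion_of_mono hMT m, hMT, ?_, hcen⟩
  intro M' _ m' _ _ hM'
  let ι₀ := 𝟙 (Spec (CommRingCat.of k))
  have hv : ∀ (X : Over (Spec (CommRingCat.of k))) (x : X ⟶ Red.bc ι₀ M') (g : X ⟶ Red.bc ι₀ G),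
      (x ≫ (Over.pullback ι₀).map m') * g = g * (x ≫ (Over.pullback ι₀).map m') := by
    intro X x g
    apply (DSPtsLib.theta_bijective ι₀).1
    rw [DSPtsLib.theta_mul, DSPtsLib.theta_mul, GrpSchLib.HomUnitLocus.theta_comp_map]
    exact central_of_nilpotent hnil m' hM' _ _ _
  obtain ⟨w, hw⟩ := huniv _ ι₀ (Red.bc ι₀ M') ((Over.pullback ι₀).map m')
    (GrpSchLib.MultTypeBC.isMultTypeFT_bc ι₀ hM') hv
  let s : M' ⟶ (Over.map ι₀).obj (Red.bc ι₀ M') :=
    Over.homMk (Limits.pullback.lift (𝟙 M'.left) M'.hom (by rw [Category.id_comp, Category.comp_id]))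
      ((congrArg (Limits.pullback.lift (𝟙 M'.left) M'.hom _ ≫ ·) (Category.comp_id _)).trans
        (Limits.pullback.lift_snd _ _ _))
  refine ⟨s ≫ DSPtsLib.theta ι₀ w, ?_⟩
  rw [Category.assoc, ← GrpSchLib.HomUnitLocus.theta_comp_map, hw]
  refine Over.OverMorphism.ext ?_
  show Limits.pullback.lift _ _ _ ≫ Limits.pullback.lift _ _ _ ≫ Limits.pullback.fst _ _ = m'.left
  rw [Limits.pullback.lift_fst, Limits.pullback.lift_fst_assoc, Category.id_comp]


end Groth.Agent.S4149
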