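import Groth.Statements.S4151
import Groth.Agent.CartanIn.CartanLocal
import Groth.Agent.CartanIn.CartanConj
import Groth.Agent.S3025
-- import your own Groth.Agent.* helpers here

set_option autoImplicit false
set_option backward.isDefEq.respectTransparency false
set_option backward.isDefEq.respectTransparency.types false
universe u
open CategoryTheory MonoidalCategory CartesianMonoidalCategory MonObj GrpObj AlgebraicGeometry CategoryTheory.Limits
open SGA3x

namespace Groth.Agent.S4151

/-- (d) ⟹ (c), and the first assertion of (ii): let G be an S-group scheme, smooth and of finite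
presentation over S with connected fibres, which acquires a Cartan subgroup after a flat surjective
base change that is an fpqc covering. Then G acquires a Cartan subgroup after an etale surjective
base change, and any two Cartan subgroups C₁, C₂ of G are conjugate locally for the etale topology. -/
theorem result (S : Scheme.{u}) (G : Over S) [GrpObj G]
    [Smooth G.hom] [QuasiCompact G.hom] [QuasiSeparated G.hom]
    (hconn : ∀ s : S, _root_.IsConnected (G.hom.base ⁻¹' {s}))
    (hC : ∃ (S' : Scheme.{u}) (f : S' ⟶ S), Flat f ∧ Surjective f ∧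
      (∀ V : S.Opens, IsAffineOpen V → ∃ W : S'.Opens, IsCompact (W : Set S') ∧ f.base '' (W : Set S') = (V : Set S)) ∧
      ∃ (C : Over S') (_ : GrpObj C) (c : C ⟶ Red.bc f G), SGA3x.IsCartan c) :
    (∃ (S' : Scheme.{u}) (f : S' ⟶ S), Etale f ∧ Surjective f ∧
      ∃ (C : Over S') (_ : GrpObj C) (c : C ⟶ Red.bc f G), SGA3x.IsCartan c) ∧
    ∀ (C₁ C₂ : Over S) [GrpObj C₁] [GrpObj C₂] (c₁ : C₁ ⟶ G) (c₂ : C₂ ⟶ G),
      SGA3x.IsCartan c₁ → SGA3x.IsCartan c₂ →
      ∃ (S' : Scheme.{u}) (f : S' ⟶ S), Etale f ∧ Surjective f ∧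
        ∃ g : 𝟙_ (Over S') ⟶ Red.bc f G, SGA3x.ConjBy ((Over.pullback f).map c₁) ((Over.pullback f).map c₂) g := by
  haveI : IsSeparated G.hom := (S3025.result S G hconn).1
  obtain ⟨S', f, hf, hfs, hfc, C', _, c', hC'⟩ := hC
  haveI := hf; haveI := hfs
  exact ⟨CartanIn.exists_cartan_etale hconn f hfc hC',
    fun C₁ C₂ _ _ c₁ c₂ h₁ h₂ => CartanIn.exists_etale_conj_cartan hconn c₁ c₂ h₁ h₂⟩

end Groth.Agent.S4151
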