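import Groth.Statements.S4187
import Groth.Agent.AnPts.Separated

set_option autoImplicit false
open CategoryTheory AlgebraicGeometry Topology TopologicalSpace
open An

namespace Groth.Agent.S4187

/-- For X locally of finite type over ℂ, the underlying space of X is discrete if and only if the space
X(ℂ) (complex topology) is discrete. -/
theorem result (X : Scheme.{0}) [X.Over An.SC] [LocallyOfFiniteType (X ↘ An.SC)] :
    DiscreteTopology ↥X ↔ DiscreteTopology (An.Pts X) := by
  exact Groth.Agent.AnPts.discreteTopology_iff

end Groth.Agent.S4187
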