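import Groth.Statements.S4203
import Groth.Agent.AnPts.FiniteCrit

set_option autoImplicit false
open CategoryTheory AlgebraicGeometry Topology TopologicalSpace
open An

namespace Groth.Agent.S4203

/-- Let f : X → Y be quasi-compact with X, Y locally of finite type over ℂ. Then f is finite if and only
if X(ℂ) → Y(ℂ) is proper (universally closed), separated and has finite fibres. -/
theorem result (X Y : Scheme.{0}) [X.Over An.SC] [LocallyOfFiniteType (X ↘ An.SC)]
    [Y.Over An.SC] [LocallyOfFiniteType (Y ↘ An.SC)] (f : X ⟶ Y) [f.IsOver An.SC] [QuasiCompact f] :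
    IsFinite f ↔ IsProperMap (An.Pts.map f) ∧ IsSeparatedMap (An.Pts.map f) ∧
      ∀ y : An.Pts Y, (An.Pts.map f ⁻¹' {y}).Finite := by
  exact Groth.Agent.AnPts.isFinite_iff_map f

end Groth.Agent.S4203
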