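import Groth.Statements.S4204
import Groth.Agent.AnPts.Separated

set_option autoImplicit false
open CategoryTheory AlgebraicGeometry Topology TopologicalSpace
open An

namespace Groth.Agent.S4204

/-- Let X be a scheme locally of finite type over ℂ. Then X is separated over ℂ if and only if X(ℂ) with
the complex topology is Hausdorff. -/
theorem result (X : Scheme.{0}) [X.Over An.SC] [LocallyOfFiniteType (X ↘ An.SC)] :
    IsSeparated (X ↘ An.SC) ↔ T2Space (An.Pts X) := by
  exact Groth.Agent.AnPts.isSeparated_iff_t2Space

end Groth.Agent.S4204
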