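import Groth.Statements.S4205
import Groth.Agent.AnPts.ProperCrit

set_option autoImplicit false
open CategoryTheory AlgebraicGeometry Topology TopologicalSpace
open An

namespace Groth.Agent.S4205

/-- Let X be a scheme of finite type over ℂ (locally of finite type and quasi-compact over ℂ, carried as
two instance hypotheses). Then X is proper over ℂ if and only if X(ℂ) with the complex topology is
compact and Hausdorff. -/
theorem result (X : Scheme.{0}) [X.Over An.SC] [LocallyOfFiniteType (X ↘ An.SC)] [QuasiCompact (X ↘ An.SC)] :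
    IsProper (X ↘ An.SC) ↔ CompactSpace (An.Pts X) ∧ T2Space (An.Pts X) := by
  letI : An.SC.Over An.SC := ⟨𝟙 _⟩
  haveI : (X ↘ An.SC).IsOver An.SC := ⟨Category.comp_id _⟩
  haveI : LocallyOfFiniteType (An.SC ↘ An.SC) := inferInstanceAs (LocallyOfFiniteType (𝟙 An.SC))
  haveI : Subsingleton (An.Pts An.SC) := ⟨fun a b => Subtype.ext (by
    have ha := a.2
    have hb := b.2
    change a.1 ≫ 𝟙 An.SC = 𝟙 An.SC at ha
    change b.1 ≫ 𝟙 An.SC = 𝟙 An.SC at hb
    rw [Category.comp_id] at ha hb
    rw [ha, hb])⟩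
  rw [Groth.Agent.AnPts.isProper_iff_map (X ↘ An.SC)]
  have hs : IsSeparatedMap (An.Pts.map (X ↘ An.SC)) ↔ T2Space (An.Pts X) :=
    ⟨fun h => ⟨fun x y hxy => h x y (Subsingleton.elim _ _) hxy⟩, fun h x y _ hxy => h.t2 hxy⟩
  rw [hs]
  refine and_congr_left fun _ => ⟨fun h => ?_, fun h => ?_⟩
  · rw [← isCompact_univ_iff, ← Set.preimage_univ (f := An.Pts.map (X ↘ An.SC))]
    exact h.isCompact_preimage (Set.subsingleton_of_subsingleton).isCompact
  · exact (An.Pts.continuous_map (X ↘ An.SC)).isProperMap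

end Groth.Agent.S4205
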