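import Groth.Statements.S4208
import Groth.Agent.AnPts.Full

set_option autoImplicit false
open CategoryTheory AlgebraicGeometry Topology TopologicalSpace
open An

namespace Groth.Agent.S4208

/-- For X locally of finite type over ℂ, the functor U ↦ U(ℂ) from etale X-schemes to spaces over X(ℂ)
is faithful, and it is full towards etale X-schemes V that are separated over X: every continuous
map U(ℂ) → V(ℂ) over X(ℂ) is induced by a unique X-morphism U → V. Finite etale X-schemes are
separated over X, so this contains the full faithfulness of the passage from finite etale covers of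
X to finite covering spaces of X(ℂ). The statement assumes that every etale morphism of schemes
locally of finite type over ℂ induces a local homeomorphism on ℂ-points (this holds and is stated
separately). (The published statement asserts fullness for all etale X-schemes V; its published
proof treats affine, hence separated, V, and fullness is stated here for targets separated over X
only.) -/
theorem result (X : Scheme.{0}) [X.Over An.SC] [LocallyOfFiniteType (X ↘ An.SC)]
    [Fact An.EtaleLH] :
    (∀ (U V : X.Etale) [IsSeparated (V.left ↘ X)],
        Function.Surjective ((An.eps X).map : (U ⟶ V) → ((An.eps X).obj U ⟶ (An.eps X).obj V))) ∧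
      (An.eps X).Faithful := by
  refine ⟨fun U V _ g => ?_, ⟨fun {U V} g g' h => ?_⟩⟩
  · haveI : Etale (U.left ↘ X) := U.prop
    haveI : Etale (V.left ↘ X) := V.prop
    haveI : LocallyOfFiniteType (U.left ↘ An.SC) :=
      inferInstanceAs (LocallyOfFiniteType ((U.left ↘ X) ≫ X ↘ An.SC))
    haveI : LocallyOfFiniteType (V.left ↘ An.SC) :=
      inferInstanceAs (LocallyOfFiniteType ((V.left ↘ X) ≫ X ↘ An.SC))
    obtain ⟨k, hk, hk'⟩ := Groth.Agent.AnPts.exists_hom_of_continuous (U.left ↘ X) (V.left ↘ X)
      g.toFun g.continuous g.over
    exact ⟨MorphismProperty.Over.homMk k hk, An.Cl.hom_ext (_root_.funext fun a => Subtype.ext (hk' a))⟩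
  · haveI : Etale (V.left ↘ X) := V.prop
    haveI : LocallyOfFiniteType (U.left ↘ An.SC) := by
      haveI : Etale (U.left ↘ X) := U.prop
      exact inferInstanceAs (LocallyOfFiniteType ((U.left ↘ X) ≫ X ↘ An.SC))
    refine MorphismProperty.Over.Hom.ext ?_
    exact Groth.Agent.AnPts.eq_of_map_eq (V.left ↘ X) g.left g'.left
      ((Over.w g.hom).trans (Over.w g'.hom).symm) fun a => congrFun (congrArg An.Cl.Hom.toFun h) a

end Groth.Agent.S4208
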