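import Groth.Statements.S4243
import Mathlib.FieldTheory.Finite.Polynomial
-- import your own Groth.Agent.* helpers here

set_option autoImplicit false
open SGA4h

namespace Groth.Agent.S4243

/-- Let k be a finite field with q elements and P a nonzero homogeneous polynomial of degree d in r+1
variables over k. If P vanishes at every point of k^{r+1} (that is, the hypersurface P = 0 in
projective r-space passes through every rational point), then d ≥ q + 1. -/
theorem result (k : Type) [Field k] [Fintype k] (r d : ℕ)
    (P : MvPolynomial (Fin (r + 1)) k) (hP : P.IsHomogeneous d) (hP0 : P ≠ 0)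
    (hvan : ∀ x : Fin (r + 1) → k, MvPolynomial.eval x P = 0) :
    Fintype.card k + 1 ≤ d := by
  classical
  by_contra hd
  replace hd : d ≤ Fintype.card k := Nat.lt_succ_iff.1 (not_le.1 hd)
  have hq : 1 < Fintype.card k := Fintype.one_lt_card
  have hdeg : ∀ e ∈ P.support, ∑ i, e i = d := by
    intro e he
    have := hP (MvPolynomial.mem_support_iff.1 he)
    rw [Finsupp.weight_apply, Finsupp.sum_fintype _ _ (fun _ => by simp)] at this
    simpa using this
  refine hP0 (MvPolynomial.eq_zero_of_eval_eq_zero _ _ P hvan ?_)
  rw [MvPolynomial.mem_restrictDegree]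
  intro e he i
  by_contra hi
  replace hi : Fintype.card k ≤ e i := by omega
  have h1 : ∀ j, j ≠ i → e j = 0 := by
    intro j hj
    have h2 := hdeg e he
    rw [← Finset.add_sum_erase _ _ (Finset.mem_univ i)] at h2
    have h3 : e j ≤ ∑ x ∈ Finset.univ.erase i, e x :=
      Finset.single_le_sum (f := fun x => e x) (fun x _ => Nat.zero_le _) (Finset.mem_erase.2 ⟨hj, Finset.mem_univ j⟩)
    omega
  have he' : e = Finsupp.single i d := by
    have h2 := hdeg e he
    rw [Finset.sum_eq_single i (fun j _ hj => h1 j hj) (fun h => absurd (Finset.mem_univ i) h)] at h2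
    ext j
    by_cases hj : j = i
    · subst hj; simp [h2]
    · rw [h1 j hj, Finsupp.single_eq_of_ne hj]
  refine MvPolynomial.mem_support_iff.1 he ?_
  have h4 := hvan (Pi.single i 1)
  rw [MvPolynomial.eval_eq', Finset.sum_eq_single e] at h4
  · rw [he'] at h4 ⊢
    rw [Finset.prod_eq_single i (fun j _ hj => by simp [Finsupp.single_eq_of_ne hj])
      (fun h => absurd (Finset.mem_univ i) h)] at h4
    simpa using h4
  · intro e2 he2 hne
    obtain ⟨j, hji, hj⟩ : ∃ j, j ≠ i ∧ e2 j ≠ 0 := by
      by_contra hc
      push Not at hc
      apply hne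
      have h2 := hdeg e2 he2
      rw [Finset.sum_eq_single i (fun j _ hj => hc j hj) (fun h => absurd (Finset.mem_univ i) h)] at h2
      rw [he']
      ext j
      by_cases hj : j = i
      · subst hj; simp [h2]
      · rw [hc j hj, Finsupp.single_eq_of_ne hj]
    rw [Finset.prod_eq_zero (Finset.mem_univ j) (by rw [Pi.single_eq_of_ne hji, zero_pow hj]), mul_zero]
  · exact fun h => absurd he h

end Groth.Agent.S4243
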