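import Groth.Statements.S8619
import Groth.Agent.H9Misc.ConstrResolve
-- import your own Groth.Agent.* helpers here

set_option autoImplicit false
universe u
open CategoryTheory CategoryTheory.Limits AlgebraicGeometry
open SGA4h

namespace Groth.Agent.S8619

section Aux

open CategoryTheory CategoryTheory.Limits AlgebraicGeometry Opposite Groth.Agent.EtFound

variable {Λ : Type (u + 1)} [CommRing Λ]

theorem flat_of_colim {κ : Type u} {Z : κ → ModuleCat.{u + 1} Λ} {c : Cofan Z} (hc : IsColimit c)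
    (h : ∀ k, Module.Flat Λ (Z k)) : Module.Flat Λ c.pt := by
  classical
  exact Module.Flat.of_linearEquiv
    ((hc.coconePointUniqueUpToIso (coproductIsCoproduct Z)) ≪≫
      ModuleCat.coprodIsoDirectSum.{u + 1, u, u + 1} Z).toLinearEquiv

theorem flat_stalk_const {U : Scheme.{u}} {Ω : Type u} [Field Ω] [IsSepClosed Ω]
    (ξ : Spec (CommRingCat.of Ω) ⟶ U) : Module.Flat Λ ((EtModW.stalk Λ ξ).obj (EtSix.constΛ Λ U)) := by
  obtain ⟨z⟩ : Nonempty ((Scheme.pointSmallEtale ξ).fiber.obj (H9Misc.ConstrCover.topE U)) :=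
    ⟨CategoryTheory.Over.homMk ξ (Category.comp_id ξ)⟩
  have hb := toSheafify_const_germ_bijective ξ (ModuleCat.{u + 1} Λ) (ModuleCat.of Λ Λ) (H9Misc.ConstrCover.topE U) z
  let g : ModuleCat.of Λ Λ ⟶ (EtModW.stalk Λ ξ).obj (EtSix.constΛ Λ U) :=
    (toSheafify U.smallEtaleTopology ((Functor.const U.Etaleᵒᵖ).obj (ModuleCat.of Λ Λ))).app (op (H9Misc.ConstrCover.topE U)) ≫
      (Scheme.pointSmallEtale ξ).toPresheafFiber _ z _
  exact Module.Flat.of_linearEquiv (LinearEquiv.ofBijective g.hom hb).symm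

theorem flat_stalk_free {U X : Scheme.{u}} (j : U ⟶ X) [Etale j] [EtShriek.JCont j]
    {Ω : Type u} [Field Ω] [IsSepClosed Ω] (ξ : Spec (CommRingCat.of Ω) ⟶ X) :
    Module.Flat Λ ((EtModW.stalk Λ ξ).obj ((EtSix.extZeroMod Λ j).obj (EtSix.constΛ Λ U))) := by
  exact flat_of_colim (extZeroCofanIsColimit j ξ (EtSix.constΛ Λ U)) fun z => flat_stalk_const z.1

theorem flat_stalk_sigma {X : Scheme.{u}} {m : ℕ} (F : Fin m → EtModW.Mod Λ X)
    {Ω : Type u} [Field Ω] [IsSepClosed Ω] (ξ : Spec (CommRingCat.of Ω) ⟶ X)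
    (h : ∀ k, Module.Flat Λ ((EtModW.stalk Λ ξ).obj (F k))) : Module.Flat Λ ((EtModW.stalk Λ ξ).obj (∐ F)) := by
  haveI : (EtModW.stalk Λ ξ).IsLeftAdjoint := (Scheme.pointSmallEtale ξ).skyscraperSheafAdjunction.isLeftAdjoint
  haveI : PreservesColimitsOfShape (Discrete (Fin m)) (EtModW.stalk Λ ξ) := inferInstance
  let G : ULift.{u} (Fin m) → ModuleCat.{u + 1} Λ := fun k => (EtModW.stalk Λ ξ).obj (F k.down)
  have e : (∐ G) ≅ (EtModW.stalk Λ ξ).obj (∐ F) :=
    Sigma.reindex Equiv.ulift (fun k => (EtModW.stalk Λ ξ).obj (F k)) ≪≫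
      (PreservesCoproduct.iso (EtModW.stalk Λ ξ) F).symm
  haveI : Module.Flat Λ ↑(∐ G) := flat_of_colim (coproductIsCoproduct G) fun k => h k.down
  exact Module.Flat.of_linearEquiv e.symm.toLinearEquiv

end Aux

/-- Let X be a Noetherian scheme, Λ a commutative Noetherian ring and K a cochain complex of etale
sheaves of Λ-modules on X whose cohomology sheaves are constructible and vanish in large degrees.
Then there are a cochain complex K', zero in large degrees, whose components are constructible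
sheaves of Λ-modules with flat geometric stalks, and a quasi-isomorphism K' → K. (The published
statement allows a left-Noetherian, possibly non-commutative Λ.) -/
theorem result {Λ : Type (u + 1)} [CommRing Λ]
    [IsNoetherianRing Λ] {X : Scheme.{u}} [IsNoetherian X]
    (K : CochainComplex (EtModW.Mod Λ X) ℤ)
    (hK : ∀ i : ℤ, EtModW.IsConstructible Λ (K.homology i))
    (hb : ∃ m : ℤ, ∀ i : ℤ, m ≤ i → IsZero (K.homology i)) :
    ∃ (K' : CochainComplex (EtModW.Mod Λ X) ℤ) (φ : K' ⟶ K), QuasiIso φ ∧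
      (∃ m : ℤ, ∀ i : ℤ, m ≤ i → IsZero (K'.X i)) ∧
      (∀ i : ℤ, EtModW.IsConstructible Λ (K'.X i)) ∧
      ∀ (i : ℤ) (Ω : Type u) [Field Ω] [IsSepClosed Ω] (ξ : Spec (CommRingCat.of Ω) ⟶ X),
        Module.Flat Λ ((EtModW.stalk Λ ξ).obj (K'.X i)) := by
  obtain ⟨m, hm⟩ := hb
  obtain ⟨E, α, hE, hmem, hα⟩ := H9Misc.ClassResolve.exists_resolution
    (H9Misc.ConstrResolve.cover (Λ := Λ) (X := X)) hK m (fun i hi => by
      rw [HomologicalComplex.exactAt_iff_isZero_homology]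
      exact hm i hi.le)
  refine ⟨E, α, hα, ⟨m + 1, fun i hi => hE i (by omega)⟩,
    fun i => H9Misc.ConstrResolve.isConstructible_of_isSum (hmem i), fun i Ω _ _ ξ => ?_⟩
  obtain ⟨r, U, j, he, ha, hF⟩ := hmem i
  haveI : ∀ k, EtShriek.JCont (j k) := fun k => Groth.Agent.EtFound.jCont (j k)
  obtain ⟨e⟩ := hF
  haveI := flat_stalk_sigma (fun k => (EtSix.extZeroMod Λ (j k)).obj (EtSix.constΛ Λ (U k))) ξ
    fun k => flat_stalk_free (j k) ξ
  exact Module.Flat.of_linearEquiv ((EtModW.stalk Λ ξ).mapIso e).toLinearEquiv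


end Groth.Agent.S8619
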