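import Groth.Statements.S4256
-- import your own Groth.Agent.* helpers here

set_option autoImplicit false
open scoped BigOperators
open SGA4h

namespace Groth.Agent.S4256

/-- Let k be a finite field, ψ a nontrivial additive character of k with values in a domain R, and n ≥
1. Then the generalised Kloosterman sum with parameter 0, Σ ψ(x_1 + ⋯ + x_n) over all (x_1, …, x_n)
∈ k^n with x_1 ⋯ x_n = 0, equals (-1)^{n-1}. -/
theorem result (k : Type) [Field k] [Fintype k] [DecidableEq k] (R : Type) [CommRing R] [IsDomain R]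
    (ψ : AddChar k R) (hψ : ψ ≠ 1) (n : ℕ) (hn : 1 ≤ n) :
    ∑ x ∈ (Finset.univ : Finset (Fin n → k)).filter (fun x => ∏ i, x i = 0), ψ (∑ i, x i) = (-1) ^ (n - 1) := by
  classical
  have h0 : ∑ t, ψ t = 0 := by
    exact AddChar.sum_eq_zero_of_ne_one hψ
  have h1 : ∑ t ∈ Finset.univ.erase (0 : k), ψ t = -1 := by
    rw [← Finset.add_sum_erase _ _ (Finset.mem_univ (0 : k)), AddChar.map_zero_eq_one] at h0
    exact eq_neg_of_add_eq_zero_right h0
  have hp : ∀ x : Fin n → k, ψ (∑ i, x i) = ∏ i, ψ (x i) := fun x => by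
    induction (Finset.univ : Finset (Fin n)) using Finset.induction_on with
    | empty => simp
    | insert a s ha ih => rw [Finset.sum_insert ha, Finset.prod_insert ha, AddChar.map_add_eq_mul, ih]
  have htot : ∑ x : Fin n → k, ψ (∑ i, x i) = 0 := by
    simp only [hp, ← Fintype.prod_sum, h0]
    simp [zero_pow (by omega : n ≠ 0)]
  have hne : ∑ x ∈ (Finset.univ : Finset (Fin n → k)).filter (fun x => ¬ ∏ i, x i = 0), ψ (∑ i, x i)
      = (-1) ^ n := by
    have : (Finset.univ : Finset (Fin n → k)).filter (fun x => ¬ ∏ i, x i = 0) =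
        Fintype.piFinset (fun _ => Finset.univ.erase (0 : k)) := by
      ext x; simp [Finset.prod_eq_zero_iff, Fintype.mem_piFinset]
    rw [this, Finset.sum_congr rfl (fun x _ => hp x), ← Finset.prod_univ_sum]
    simp [h1]
  rw [← Finset.sum_filter_add_sum_filter_not Finset.univ (fun x : Fin n → k => ∏ i, x i = 0), hne] at htot
  rw [eq_neg_of_add_eq_zero_left htot]
  obtain ⟨n, rfl⟩ : ∃ m, n = m + 1 := ⟨n - 1, by omega⟩
  simp [pow_succ]

end Groth.Agent.S4256
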