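import Groth.Statements.S4265
import Groth.Agent.KExact.ProjBound
-- import your own Groth.Agent.* helpers here

set_option autoImplicit false
set_option linter.style.haveILetI false
set_option backward.isDefEq.respectTransparency false
set_option backward.isDefEq.respectTransparency.types false

universe u
open CategoryTheory CategoryTheory.Limits AlgebraicGeometry
attribute [local instance] HasDerivedCategory.standard
open KSix

namespace Groth.Agent.S4265

open Groth.Agent.KFlatLib Groth.Agent.KExact Groth.Agent.RelPC17

set_option linter.style.haveILetI false
set_option backward.isDefEq.respectTransparency false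
set_option backward.isDefEq.respectTransparency.types false


/-- Let Y be an affine scheme, X = P^r_Y with projection f : X ⟶ Y, and E an object of D(O_X) which is
pseudo-coherent with bounded cohomology, acyclic in degrees > a. Assuming the total derived functor
Rf_* exists, Rf_*E is acyclic in degrees > a + r. -/
theorem result (Y : Scheme.{u}) [IsAffine Y] (r : ℕ)
    [DCoh.HasRpush (CohB1.ProjSpaceOver.toBase r Y)]
    (E : DCoh.D (CohB1.ProjSpaceOver r Y)) (hE : ∀ m : ℤ, DCoh.IsPseudoCoherentD m E)
    (a b : ℤ) [E.IsGE b] [E.IsLE a] :
    ((DCoh.Rpush (CohB1.ProjSpaceOver.toBase r Y)).obj E).IsLE (a + r) := by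
  exact ProjBound.isLE_rpush r E (TorBC.isQCohD_of_locPC' fun k => (isPseudoCoherentD_iff _ _).1 (hE k)) a b
end Groth.Agent.S4265
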