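import Groth.Statements.S4267
import Groth.Agent.KFlatLib.Scheme.PerfMorTor
import Groth.Agent.KFlatLib.Perfect.Corollaries
-- import your own Groth.Agent.* helpers here

set_option autoImplicit false
universe u
open CategoryTheory CategoryTheory.Limits AlgebraicGeometry
attribute [local instance] HasDerivedCategory.standard
open KSix

namespace Groth.Agent.S4267

/-- In the case where the base is locally Noetherian: let f : X ⟶ Y be a proper morphism which is
perfect (affine-locally of finite tor-dimension and pseudo-coherent), with Y locally Noetherian, and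
E a bounded below perfect object of D(O_X). Assuming Rf_* exists, Rf_*E is a perfect object of
D(O_Y). -/
theorem result {X Y : Scheme.{u}} [IsLocallyNoetherian Y] (f : X ⟶ Y) [IsProper f]
    (hf : MoreMor.IsPerfectMor f) [DCoh.HasRpush f] (E : DCoh.D X) (b : ℤ) [E.IsGE b] (hE : DCoh.IsPerfect E) :
    DCoh.IsPerfect ((DCoh.Rpush f).obj E) := by
  letI := HasDerivedCategory.standard Y.Modules
  refine (KFlatLib.isPerfect_iff _).2 (KFlatLib.LocSP.of_local fun y => ?_)
  obtain ⟨W, hW, hyW, -⟩ := exists_isAffineOpen_mem_and_subset (U := (⊤ : Y.Opens)) (x := y) trivial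
  haveI : IsAffine (W : Scheme.{u}) := hW
  haveI : IsLocallyNoetherian (W : Scheme.{u}) := isLocallyNoetherian_of_isOpenImmersion W.ι
  haveI : IsNoetherian (W : Scheme.{u}) := {}
  haveI := KFlatLib.hasRpush_scheme (f ∣_ W)
  obtain ⟨e⟩ := KFlatLib.nonempty_rpush_restrictD_iso f W
  refine ⟨_, W.ι, inferInstance, ⟨⟨y, hyW⟩, rfl⟩, KFlatLib.LocSP.of_iso (e.app E).symm
    (KFlatLib.PerfMorTor.locSP_rpush_of_perfMor (f ∣_ W)
      (PerfMor.perfMor_baseChange f (f ∣_ W) (f ⁻¹ᵁ W).ι W.ι (isPullback_morphismRestrict f W).flip hf)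
      (((KFlatLib.isPerfect_iff E).1 hE).restrict' (f ⁻¹ᵁ W).ι))⟩

end Groth.Agent.S4267
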