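import Groth.Statements.S4268
import Groth.Agent.KExact.TorPushLocal2
-- import your own Groth.Agent.* helpers here

set_option autoImplicit false
set_option linter.style.haveILetI false
set_option backward.isDefEq.respectTransparency false
set_option backward.isDefEq.respectTransparency.types false

universe u
open CategoryTheory CategoryTheory.Limits AlgebraicGeometry
attribute [local instance] HasDerivedCategory.standard
open KSix

namespace Groth.Agent.S4268

open Groth.Agent.KFlatLib Groth.Agent.KExact Groth.Agent.RelPC17

set_option linter.style.haveILetI false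
set_option backward.isDefEq.respectTransparency false
set_option backward.isDefEq.respectTransparency.types false


/-- In the case where f is projective, over an arbitrary base: let Y be a scheme, i : X ⟶ P^r_Y a closed
immersion and f : X ⟶ Y the composite with the projection; suppose f is a perfect morphism and let E
be a bounded below perfect object of D(O_X). Assuming Rf_* exists, Rf_*E is perfect on Y. (The
source allows a closed immersion into any P(F) with F quasi-coherent of finite type on Y.) -/
theorem result {X Y : Scheme.{u}} (r : ℕ)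
    (i : X ⟶ CohB1.ProjSpaceOver r Y) [IsClosedImmersion i]
    (hf : MoreMor.IsPerfectMor (i ≫ CohB1.ProjSpaceOver.toBase r Y)) [DCoh.HasRpush (i ≫ CohB1.ProjSpaceOver.toBase r Y)]
    (E : DCoh.D X) (b : ℤ) [E.IsGE b] (hE : DCoh.IsPerfect E) :
    DCoh.IsPerfect ((DCoh.Rpush (i ≫ CohB1.ProjSpaceOver.toBase r Y)).obj E) := by
  let f := i ≫ CohB1.ProjSpaceOver.toBase r Y
  have hE' := (isPerfect_iff E).1 hE
  let F := DerivedCategory.Q.objPreimage E
  let eF : DCoh.toD X F ≅ E := repIso E
  have hsp : LocSP (DCoh.toD X F) := hE'.of_iso eF.symm
  have hrel : DerSch.IsPseudoCoherentRelAll f (DCoh.toD X F) := fun k =>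
    (rel_iff_locPC f (chartsPC_of_perfMor f hf) k _).2 (hsp.locPC k)
  let K := (DCoh.Rpush f).obj (DCoh.toD X F)
  let F' := DerivedCategory.Q.objPreimage K
  let eF' : DCoh.toD Y F' ≅ K := repIso K
  have htor := locFiniteTorAmplitude_rpush' (p := f) (𝟙 Y) f (Category.comp_id f) F
    (AffineLift.isQCohD_of_locSP hsp) (locFiniteTorAmplitude_of_perfMor f hf F hsp) F' eF'
  exact (isPerfect_iff _).2 ((locSP_of_locFiniteTorAmplitude_id F' htor
    fun m => (ProjPush.locPC_rpush_proj r i _ hrel m).of_iso eF'.symm).of_iso
      (eF' ≪≫ (DCoh.Rpush f).mapIso eF))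
end Groth.Agent.S4268
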