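import Groth.Statements.S4269
import Groth.Agent.KExact.AmpleFamily
-- import your own Groth.Agent.* helpers here

set_option autoImplicit false
set_option linter.style.haveILetI false
set_option backward.isDefEq.respectTransparency false
set_option backward.isDefEq.respectTransparency.types false

universe u
open CategoryTheory CategoryTheory.Limits AlgebraicGeometry
attribute [local instance] HasDerivedCategory.standard
open KSix

namespace Groth.Agent.S4269

/-- Let X be a quasi-compact quasi-separated scheme and (L_i) an ample family of invertible O_X-modules
(the affine opens X_s, for s a global section of some L_i^{⊗ n}, n ≥ 1, cover X). Then every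
quasi-coherent O_X-module of finite type F receives an epimorphism from a finite direct sum of
modules of the form L_i^{⊗ -n} with n > 0. (The printed statement uses a single exponent n_i for
each member L_i; the form here, allowing several powers of the same member, is slightly weaker.) -/
theorem result (X : Scheme.{u}) {ι : Type u} (L : ι → X.Modules)
    (hL : KSix.IsAmpleFamily L) (F : X.Modules) (hF : Coh.IsQCoh F) (hF' : CohB1.IsFT F) :
    ∃ (M : X.Modules) (π : M ⟶ F), KSix.InAddL L M ∧ Epi π := by
  obtain ⟨M, π, h, -, hπ⟩ := KExact.AmpleFamily.exists_epi_inAddL L hL F hF hF'
  exact ⟨M, π, h, hπ⟩
end Groth.Agent.S4269
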