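import Groth.Statements.S4273
import Groth.Agent.KExact.SPerfectFamily
-- import your own Groth.Agent.* helpers here

set_option autoImplicit false
set_option linter.style.haveILetI false
set_option backward.isDefEq.respectTransparency false
set_option backward.isDefEq.respectTransparency.types false

universe u
open CategoryTheory CategoryTheory.Limits AlgebraicGeometry
attribute [local instance] HasDerivedCategory.standard
open KSix

namespace Groth.Agent.S4273

open scoped ZeroObject


/-- The converse is immediate): let X be a scheme with an ample family (L_i) of invertible modules, and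
assume X separated or Noetherian. If E ∈ D(O_X) has perfect amplitude in [m, n], then E is
isomorphic in D(O_X) to (the image of) a complex F with F^i = 0 for i outside [m, n], F^i a finite
direct sum of modules L_j^{⊗ -k} (k > 0) for i > m, and F^m finite locally free. -/
theorem result (X : Scheme.{u}) {ι : Type u} (L : ι → X.Modules)
    (hL : KSix.IsAmpleFamily L) (hX : X.IsSeparated ∨ IsNoetherian X)
    (E : DCoh.D X) (m n : ℤ) (hE : KSix.HasPerfectAmplitudeIn m n E) :
    ∃ F : CochainComplex X.Modules ℤ, DCoh.VanishesOutside F m n ∧ (∀ i : ℤ, m < i → KSix.InAddL L (F.X i)) ∧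
      FlatMod.IsFinLocFree (F.X m) ∧ Nonempty (DCoh.toD X F ≅ E) := by
  haveI := hL.1
  haveI := hL.2.1
  have hcov : ∀ M : X.Modules, Coh.IsQCoh M → CohB1.IsFT M → ∃ (E : X.Modules) (π : E ⟶ M),
      KSix.InAddL L E ∧ FlatMod.IsFinLocFree E ∧ Epi π := fun M h h' =>
    KExact.AmpleFamily.exists_epi_inAddL L hL M h h'
  have hRP : PerfAux.HasResolutionProperty X := fun M h h' =>
    let ⟨E, π, _, hE', hπ⟩ := hcov M h h'
    ⟨E, π, hE', hπ⟩
  by_cases hmn : m ≤ n
  · have hloc : ∀ x : X, ∃ (U : Scheme.{u}) (j : U ⟶ X) (_ : IsOpenImmersion j), x ∈ Set.range j.base ∧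
        ∃ P : CochainComplex U.Modules ℤ, DCoh.VanishesOutside P m n ∧
          (∀ i, FlatMod.IsFinLocFree (P.X i)) ∧
          Nonempty (DerivedCategory.Q.obj P ≅ (KFlatLib.rho j).obj E) := fun x => by
      obtain ⟨V, hx, hV⟩ := hE x
      obtain ⟨P, hv, hf, ⟨e⟩⟩ := hV (DerivedCategory.Q.objPreimage E) ⟨DerivedCategory.Q.objObjPreimageIso E⟩
      exact ⟨_, V.ι, inferInstance, ⟨⟨x, hx⟩, rfl⟩, P, hv, hf, ⟨e.symm ≪≫ ((KFlatLib.rhoQ V.ι).app _).symm ≪≫
        (KFlatLib.rho V.ι).mapIso (DerivedCategory.Q.objObjPreimageIso E)⟩⟩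
    have hsp : KFlatLib.LocSP E := fun x => by
      obtain ⟨U, j, hj, hx, P, hv, hf, he⟩ := hloc x
      exact ⟨U, j, hj, hx, P, ⟨⟨m, n, hv⟩, hf⟩, he⟩
    obtain ⟨P, hv, hcl, hfa, he⟩ := KExact.SPerfect.exists_rep' hRP (KSix.InAddL L)
      (fun M hM => by
        obtain ⟨M', π, hM', hf, hπ⟩ := hcov M (QCoh.isQCoh_of_isFinLocFree hM)
          (QCoh.isFT_of_isFP (QCoh.isFP_of_isFinLocFree hM))
        exact ⟨M', π, hf, hπ, hM'⟩)
      (fun e h => KExact.SPerfect.inAddL_of_iso e h) (fun h => KExact.SPerfect.inAddL_of_isZero h) hsp hmn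
      ((KFlatLib.perfectAmplitude_iff E m n hmn).1 hloc).2
    exact ⟨P, hv, hcl, hfa, he⟩
  · refine ⟨0, fun i _ => ?_, fun i hi => KExact.SPerfect.inAddL_of_isZero ?_, KFlatLib.isFinLocFree_of_isZero ?_, ⟨?_⟩⟩
    all_goals first
      | exact (HomologicalComplex.eval X.Modules (ComplexShape.up ℤ) _).map_isZero (isZero_zero _)
      | skip
    refine (DerivedCategory.Q.map_isZero (isZero_zero _)).iso ?_
    have hsupp : ∀ i, IsZero (DCoh.HD E i) := fun i => by
      refine KFlatLib.isZero_of_stalk _ fun x => ?_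
      obtain ⟨V, hx, hV⟩ := hE x
      obtain ⟨P, hv, -, ⟨e⟩⟩ := hV (DerivedCategory.Q.objPreimage E) ⟨DerivedCategory.Q.objObjPreimageIso E⟩
      have h0 : IsZero ((DCoh.HD E i).restrict V.ι) := by
        refine IsZero.of_iso ?_ (KFlatLib.hdRhoIso V.ι E i).symm
        exact (ShortComplex.isZero_homology_of_isZero_X₂ _ (hv i (by omega))).of_iso
          ((DerivedCategory.homologyFunctor _ i).mapIso (((KFlatLib.rho V.ι).mapIso
            (DerivedCategory.Q.objObjPreimageIso E)).symm ≪≫ (KFlatLib.rhoQ V.ι).app _ ≪≫ e) ≪≫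
            (DerivedCategory.homologyFunctorFactors _ i).app P)
      exact KFlatLib.isZero_stalk_of_restrict V.ι ⟨x, hx⟩ ((DerSch.stalkFunctor _ _).map_isZero h0)
    haveI : DerivedCategory.IsLE E 0 := (DerivedCategory.isLE_iff _ _).2 fun i _ => hsupp i
    haveI : DerivedCategory.IsGE E 1 := (DerivedCategory.isGE_iff _ _).2 fun i _ => hsupp i
    rw [IsZero.iff_id_eq_zero]
    haveI : (DerivedCategory.TStructure.t : Triangulated.TStructure (DCoh.D X)).IsLE E 0 := ⟨(inferInstance : DerivedCategory.IsLE E 0).1⟩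
    haveI : (DerivedCategory.TStructure.t : Triangulated.TStructure (DCoh.D X)).IsGE E 1 := ⟨(inferInstance : DerivedCategory.IsGE E 1).1⟩
    exact (DerivedCategory.TStructure.t : Triangulated.TStructure (DCoh.D X)).zero _ 0 1 (by omega)
end Groth.Agent.S4273
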