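import Groth.Statements.S4274
import Groth.Agent.KExact.SPerfectInfinite
-- import your own Groth.Agent.* helpers here

set_option autoImplicit false
set_option linter.style.haveILetI false
set_option backward.isDefEq.respectTransparency false
set_option backward.isDefEq.respectTransparency.types false

universe u
open CategoryTheory CategoryTheory.Limits AlgebraicGeometry
attribute [local instance] HasDerivedCategory.standard
open KSix

namespace Groth.Agent.S4274

/-- Existence of global resolutions: let X be a scheme with an ample family (L_i) of invertible modules,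
and assume X separated or Noetherian. Every pseudo-coherent object E of D(O_X) with bounded
cohomology is isomorphic in D(O_X) to (the image of) a bounded above complex F all of whose terms
are finite direct sums of modules L_j^{⊗ -k} with k > 0. -/
theorem result (X : Scheme.{u}) {ι : Type u} (L : ι → X.Modules)
    (hL : KSix.IsAmpleFamily L) (hX : X.IsSeparated ∨ IsNoetherian X)
    (E : DCoh.D X) (hE : ∀ k : ℤ, DCoh.IsPseudoCoherentD k E) (a b : ℤ) [E.IsGE a] [E.IsLE b] :
    ∃ (F : CochainComplex X.Modules ℤ) (c : ℤ), (∀ i : ℤ, c < i → IsZero (F.X i)) ∧ (∀ i : ℤ, KSix.InAddL L (F.X i)) ∧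
      Nonempty (DCoh.toD X F ≅ E) := by
  haveI := hL.1
  haveI := hL.2.1
  have hcov : ∀ M : X.Modules, Coh.IsQCoh M → CohB1.IsFT M → ∃ (E : X.Modules) (π : E ⟶ M),
      KSix.InAddL L E ∧ FlatMod.IsFinLocFree E ∧ Epi π := fun M h h' =>
    KExact.AmpleFamily.exists_epi_inAddL L hL M h h'
  have hRP : PerfAux.HasResolutionProperty X := fun M h h' =>
    let ⟨E, π, _, hE', hπ⟩ := hcov M h h'
    ⟨E, π, hE', hπ⟩
  have hpc : ∀ m, KFlatLib.LocPC m E := fun m => (KFlatLib.isPseudoCoherentD_iff _ _).1 (hE m)
  obtain ⟨F, hv, hcl, he⟩ := KExact.SPerfect.exists_resolution hRP (KSix.InAddL L)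
    (fun M hM => by
      obtain ⟨M', π, hM', hf, hπ⟩ := hcov M (QCoh.isQCoh_of_isFinLocFree hM)
        (QCoh.isFT_of_isFP (QCoh.isFP_of_isFinLocFree hM))
      exact ⟨M', π, hf, hπ, hM'⟩)
    (fun e h => KExact.SPerfect.inAddL_of_iso e h) (fun h => KExact.SPerfect.inAddL_of_isZero h)
    (KFlatLib.TorBC.isQCohD_of_locPC' hpc) (a := a) (b := b) (fun i hi => DerivedCategory.isZero_of_isLE E b i hi) hpc
  exact ⟨F, b, hv, hcl, he⟩
end Groth.Agent.S4274
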