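import Groth.Statements.S4275
import Groth.Agent.KFlatLib.Perfect.Amplitude
-- import your own Groth.Agent.* helpers here

set_option autoImplicit false
universe u
open CategoryTheory CategoryTheory.Limits AlgebraicGeometry
attribute [local instance] HasDerivedCategory.standard
open KSix

namespace Groth.Agent.S4275

/-- For the ringed space underlying a scheme: let E ∈ D(O_X) and m ≤ n. Then E has perfect amplitude in
[m, n] (locally isomorphic to a complex of finite locally free modules placed in degrees [m, n]) if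
and only if E is (m-1)-pseudo-coherent and has tor amplitude in [m, n] (is isomorphic to a complex
of flat modules placed in degrees [m, n]). (The source states this on an arbitrary ringed topos,
with tor amplitude defined through Tor sheaves.) -/
theorem result (X : Scheme.{u}) (E : DCoh.D X) (m n : ℤ) (hmn : m ≤ n) :
    KSix.HasPerfectAmplitudeIn m n E ↔ DCoh.IsPseudoCoherentD (m - 1) E ∧ DCoh.HasFlatAmplitudeIn m n E := by
  rw [Groth.Agent.KFlatLib.isPseudoCoherentD_iff, ← Groth.Agent.KFlatLib.perfectAmplitude_iff E m n hmn]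
  constructor
  · intro h x
    obtain ⟨V, hx, hV⟩ := h x
    obtain ⟨P, hv, hf, ⟨e⟩⟩ := hV (DerivedCategory.Q.objPreimage E) ⟨Groth.Agent.KFlatLib.repIso E⟩
    exact ⟨_, V.ι, inferInstance, ⟨⟨x, hx⟩, rfl⟩, P, hv, hf,
      ⟨e.symm ≪≫ ((Groth.Agent.KFlatLib.rhoQ V.ι).app _).symm ≪≫ (Groth.Agent.KFlatLib.rho V.ι).mapIso (Groth.Agent.KFlatLib.repIso E)⟩⟩
  · intro h x
    obtain ⟨U, j, _, hx, P, hv, hf, ⟨e⟩⟩ := h x
    refine ⟨j.opensRange, hx, fun F ⟨eF⟩ =>
      ⟨(Groth.Agent.KFlatLib.rCx (Groth.Agent.KFlatLib.rangeHom j)).obj P,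
        fun i hi => (Scheme.Modules.restrictFunctor _).map_isZero (hv i hi),
        fun i => (Groth.Agent.KFlatLib.isStrictlyPerfect_restrict (Groth.Agent.KFlatLib.rangeHom j) ⟨⟨m, n, hv⟩, hf⟩).2 i, ⟨?_⟩⟩⟩
    exact ((Groth.Agent.KFlatLib.rhoQ j.opensRange.ι).app F).symm ≪≫ (Groth.Agent.KFlatLib.rho _).mapIso eF ≪≫
      (Groth.Agent.KFlatLib.rhoComp (Groth.Agent.KFlatLib.rangeHom j) j _ (Groth.Agent.KFlatLib.rangeHom_fac j) E).symm ≪≫
      (Groth.Agent.KFlatLib.rho (Groth.Agent.KFlatLib.rangeHom j)).mapIso e.symm ≪≫ (Groth.Agent.KFlatLib.rhoQ (Groth.Agent.KFlatLib.rangeHom j)).app P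

end Groth.Agent.S4275
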