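import Groth.Statements.S4278
import Groth.Agent.Pic13Lib.AlgEqEuler
import Groth.Agent.CycCov7.Inverse
set_option autoImplicit false
universe u
open CategoryTheory CategoryTheory.Limits AlgebraicGeometry
open Pic13

namespace Groth.Agent.S4278
open scoped Groth.Agent.H23.PicMul

/-- Let k be an algebraically closed field, X a proper k-scheme and L an invertible O_X-module which is
τ-equivalent to zero. Then L is numerically equivalent to zero: its restriction to every integral
closed curve Y ⊆ X has degree χ(L|_Y) - χ(O_Y) = 0. -/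
theorem result (k : Type u) [Field k] [IsAlgClosed k] (X : Scheme.{u}) [X.Over (Spec (CommRingCat.of k))]
    [IsProper (X ↘ Spec (CommRingCat.of k))]
    (L : X.Modules) (hL : PicF.IsInvertible L) (hτ : Pic13.IsTauEquivZero k X L) : Pic13.IsNumEquivZero k X L := by
    intro Y i _ hY hdim
    letI : Y.Over (Spec (CommRingCat.of k)) := ⟨i ≫ (X ↘ Spec (CommRingCat.of k))⟩
    haveI : IsProper (Y ↘ Spec (CommRingCat.of k)) :=
      (inferInstance : IsProper (i ≫ (X ↘ Spec (CommRingCat.of k))))
    haveI : IsNoetherian Y := Groth.Agent.CurveCohLib.isNoetherian_of_proper (k := k)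
    have hLY := Groth.Agent.PicClLib.isInvertible_pullback i hL
    have hO : Coh.IsCoh (Coh.structureModule Y) :=
      Groth.Agent.AmpleVan.isCoh_invertible Groth.Agent.InvX.isInvertible_structureModule
    unfold Pic13.curveDeg
    rw [sub_eq_zero, Groth.Agent.Pic13Lib.eulerCharLE_eq (k := k) (hdim.le.trans (le_of_eq Nat.cast_one.symm))
        (Groth.Agent.AmpleVan.isCoh_invertible hLY).1,
      Groth.Agent.Pic13Lib.eulerCharLE_eq (k := k) (hdim.le.trans (le_of_eq Nat.cast_one.symm)) hO.1]
    refine Eq.trans (Groth.Agent.Pic13Lib.euler_of_cl ?_)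
      (Groth.Agent.Pic13Lib.euler_tensor_of_isTauEquivZero hLY
        (Groth.Agent.Pic13Lib.isTauEquivZero_pullback (Y := Y) i rfl hτ) hO)
    rw [Groth.Agent.H23.PicMul.cl_tensor]
    exact (one_mul _).symm

end Groth.Agent.S4278
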