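import Groth.Statements.S4279
import Groth.Agent.Pic13Lib.NumTrivProj

set_option autoImplicit false
universe u
open CategoryTheory CategoryTheory.Limits AlgebraicGeometry
open Pic13

namespace Groth.Agent.S4279
open Groth.Agent Groth.Agent.H23 Groth.Agent.H23.PicMul
attribute [local instance] PicMul.clMonoid
set_option backward.isDefEq.respectTransparency false
set_option backward.isDefEq.respectTransparency.types false
set_option linter.style.haveILetI false


/-- Let k be an algebraically closed field, X a proper k-scheme carrying an ample invertible module H,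
and L an invertible O_X-module with inverse L' (L ⊗ L' ≅ O_X). If L^{⊗ m} ⊗ H and L'^{⊗ m} ⊗ H are
ample for every m ≥ 0 (that is, L^{⊗ m}(1) is ample for every integer m), then L is τ-equivalent to
zero. -/
theorem result (k : Type u) [Field k] [IsAlgClosed k] (X : Scheme.{u}) [X.Over (Spec (CommRingCat.of k))]
    [IsProper (X ↘ Spec (CommRingCat.of k))]
    (H : X.Modules) (hH : CohB1.IsAmple H) (L L' : X.Modules) (hL : PicF.IsInvertible L)
    (hLL' : Nonempty (CohB1.tensorMod L L' ≅ Coh.structureModule X))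
    (hamp : ∀ m : ℕ, CohB1.IsAmple (CohB1.tensorMod (CohB1.tensorPow L m) H) ∧ CohB1.IsAmple (CohB1.tensorMod (CohB1.tensorPow L' m) H)) :
    Pic13.IsTauEquivZero k X L := by
  haveI := CurveCohLib.isNoetherian_of_proper (k := k) (X := X)
  have hL' : PicF.cl L * PicF.cl L' = 1 :=
    (cl_tensor _ _).symm.trans ((cl_eq_iff.2 hLL').trans PicMul.one_def.symm)
  obtain ⟨M, hM, hLM⟩ : ∃ M, PicF.IsInvertible M ∧ PicF.cl L * PicF.cl M = 1 := by
    obtain ⟨M, hM, ⟨e⟩⟩ := PicInv.exists_inverse hL
    exact ⟨M, hM, (cl_tensor _ _).symm.trans ((cl_eq_iff.2 ⟨e⟩).trans PicMul.one_def.symm)⟩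
  have hM' : PicF.cl L' = PicF.cl M := by
    rw [← mul_one (PicF.cl L'), ← hLM, ← mul_assoc, mul_comm (PicF.cl L'), hL', one_mul]
  have hL'i : PicF.IsInvertible L' := PicMul.isInvertible_of_iso (cl_eq_iff.1 hM'.symm).some hM
  refine Pic13Lib.NumTriv.isTauEquivZero_proj hH ⟨hL, fun Y ι _ hY hd => ?_⟩
  haveI := hY
  letI : Y.Over (Spec (CommRingCat.of k)) := ⟨ι ≫ (X ↘ Spec (CommRingCat.of k))⟩
  haveI : IsProper (Y ↘ Spec (CommRingCat.of k)) :=
    show IsProper (ι ≫ (X ↘ Spec (CommRingCat.of k))) from inferInstance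
  haveI : CompactSpace Y := ι.isClosedEmbedding.compactSpace
  let D : X.Modules → ℤ := fun A =>
    Pic13.curveDeg k (ι ≫ (X ↘ Spec (CommRingCat.of k))) ((Scheme.Modules.pullback ι).obj A)
  have hpos : ∀ A, CohB1.IsAmple A → 0 < D A := fun A hA => by
    have hA' := AmpleVan.FiniteSurj.isAmple_pullback_of_isAffineHom ι hA
    show 0 < Pic13.curveDeg k (Y ↘ Spec (CommRingCat.of k)) _
    rw [Pic13Lib.NumTriv.curveDeg_eq_deg k hd.le hA'.1]
    exact CurveAmple.deg_pos_of_ample hd hA'
  have hlin : ∀ A, PicF.IsInvertible A → ∀ m : ℕ, D (CohB1.tensorMod (CohB1.tensorPow A m) H) = m * D A + D H := by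
    intro A hA m
    show Pic13.curveDeg k _ _ = _
    rw [Pic13Lib.NumTriv.curveDeg_tensor k ι hd (PicMul.isInvertible_tensorPow hA m) hH.1,
      Pic13Lib.NumTriv.curveDeg_pow ι hd hA m]
  have hsum : D L + D L' = 0 := by
    show Pic13.curveDeg k _ _ + Pic13.curveDeg k _ _ = 0
    rw [← Pic13Lib.NumTriv.curveDeg_tensor k ι hd hL hL'i,
      Pic13Lib.NumTriv.curveDeg_of_cl k ι (show PicF.cl (CohB1.tensorMod L L') = PicF.cl (Coh.structureModule X) by
        rw [cl_tensor, hL', PicMul.one_def])]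
    exact Pic13Lib.curveDeg_structure ι
  show D L = 0
  have h1 := hpos _ (hamp (D H).natAbs).1
  have h2 := hpos _ (hamp (D H).natAbs).2
  rw [hlin L hL] at h1
  rw [hlin L' hL'i, show D L' = - D L by omega] at h2
  have h0 := hpos H hH
  rw [Int.natCast_natAbs, abs_of_pos h0] at h1 h2
  rcases lt_trichotomy (D L) 0 with h | h | h
  · nlinarith
  · exact h
  · nlinarith

end Groth.Agent.S4279
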