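import Groth.Statements.S4280
import Groth.Agent.Pic13Lib.TwistAmple
set_option autoImplicit false
universe u
open CategoryTheory CategoryTheory.Limits AlgebraicGeometry
open Pic13

namespace Groth.Agent.S4280

/-- Let k be an algebraically closed field, X a proper k-scheme carrying an ample invertible module H,
and L an invertible O_X-module, with inverse L', which is τ-equivalent to zero. Then L^{⊗ m} ⊗ H and
L'^{⊗ m} ⊗ H are ample for every m ≥ 0. -/
theorem result (k : Type u) [Field k] [IsAlgClosed k] (X : Scheme.{u}) [X.Over (Spec (CommRingCat.of k))]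
    [IsProper (X ↘ Spec (CommRingCat.of k))]
    (H : X.Modules) (hH : CohB1.IsAmple H) (L L' : X.Modules) (hL : PicF.IsInvertible L)
    (hLL' : Nonempty (CohB1.tensorMod L L' ≅ Coh.structureModule X)) (hτ : Pic13.IsTauEquivZero k X L) (m : ℕ) :
    CohB1.IsAmple (CohB1.tensorMod (CohB1.tensorPow L m) H) ∧ CohB1.IsAmple (CohB1.tensorMod (CohB1.tensorPow L' m) H) := by
    obtain ⟨e⟩ := hLL'
    exact Groth.Agent.Pic13Lib.twists_ample hH hL e hτ m

end Groth.Agent.S4280
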