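import Groth.Statements.S4285
import Groth.Agent.Pic13Lib.RegKernel
import Groth.Agent.QCoh.PushLin
import Groth.Agent.ArtFunLib.HilbObsMain
import Groth.Agent.Lib.Pic13Regular
import Groth.Agent.QCoh.ClosedPush

set_option autoImplicit false
universe u
open CategoryTheory CategoryTheory.Limits AlgebraicGeometry
open Pic13

namespace Groth.Agent.S4285
open Groth.Agent Groth.Agent.H23 Groth.Agent.H23.PicMul CategoryTheory CategoryTheory.Limits AlgebraicGeometry
open Groth.Agent.Pic13Lib

attribute [local instance] PicMul.clMonoid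

theorem isIso_counit_closed {X S : Scheme.{u}} (i : X ⟶ S) [IsClosedImmersion i] (F : X.Modules)
    (hF : Coh.IsQCoh ((Scheme.Modules.pushforward i).obj F)) :
    IsIso ((Scheme.Modules.pullbackPushforwardAdjunction i).counit.app F) := by
  have h1 := (QCoh.isIso_unit_closed_iff i hF).2 fun U a ha s => by
    rw [Scheme.Hom.ker_apply, RingHom.mem_ker] at ha
    refine (Eq.trans ?_ (zero_smul Γ(X, i ⁻¹ᵁ U.1) (show Γ(F, i ⁻¹ᵁ U.1) from s)))
    show ((i.app U.1) a) • (show Γ(F, i ⁻¹ᵁ U.1) from s) = _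
    rw [ha]
  haveI := h1
  haveI : IsIso ((Scheme.Modules.pushforward i).map ((Scheme.Modules.pullbackPushforwardAdjunction i).counit.app F)) := by
    have h2 := (Scheme.Modules.pullbackPushforwardAdjunction i).right_triangle_components F
    haveI : IsIso ((Scheme.Modules.pullbackPushforwardAdjunction i).unit.app ((Scheme.Modules.pushforward i).obj F) ≫
      (Scheme.Modules.pushforward i).map ((Scheme.Modules.pullbackPushforwardAdjunction i).counit.app F)) :=
        h2 ▸ inferInstance
    exact IsIso.of_isIso_comp_left ((Scheme.Modules.pullbackPushforwardAdjunction i).unit.app _) _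
  exact AmpleVan.isIso_of_push i _

theorem finrank_push {k : Type u} [Field k] {X S : Scheme.{u}} [X.Over (Spec (CommRingCat.of k))]
    [S.Over (Spec (CommRingCat.of k))] (f : X ⟶ S) [IsAffineHom f]
    (hf : f ≫ (S ↘ Spec (CommRingCat.of k)) = X ↘ Spec (CommRingCat.of k)) {M : X.Modules} (hM : Coh.IsQCoh M) :
    Module.finrank k (Coh.HH S ((Coh.push f).obj M) 0) = Module.finrank k (Coh.HH X M 0) := by
  obtain ⟨e⟩ := QCoh.HH_push_linear f (Coh.toGlobal (S ↘ Spec (CommRingCat.of k)))
    (Coh.toGlobal (X ↘ Spec (CommRingCat.of k))) (fun a => by rw [← hf]; rfl) hM 0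
  exact e.finrank_eq.symm


/-- (iii) implies (i), over the base S = Spec k with k algebraically closed: let X ⊆ P^n_k be a closed
subscheme, m an integer and φ a polynomial. The family of coherent O_X-modules F which are m-regular
(H^q(X, F(m - q)) = 0 for q ≥ 1) and have Hilbert polynomial φ (χ(F(d)) = φ(d) for all integers d)
is bounded. (The source allows a finite set of Hilbert polynomials and a projective X over a
Noetherian base with O_X(1) generated by global sections on the fibres.) -/
theorem result (k : Type u) [Field k] [IsAlgClosed k] (n : ℕ) (X : Scheme.{u}) [X.Over (Spec (CommRingCat.of k))]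
    (i : X ⟶ CohB1.ProjSpace n k) [IsClosedImmersion i] (hi : i ≫ CohB1.ProjSpace.toSpec n k = X ↘ Spec (CommRingCat.of k))
    (m : ℤ) (φ : Polynomial ℚ) :
    Pic13.IsBounded k X (fun F : X.Modules => Coh.IsCoh F ∧ Pic13.IsMRegular k i F m ∧
      ∀ d : ℤ, (FGA.eulerCharLE k X (Pic13.twistOn k i F d) n : ℚ) = φ.eval (d : ℚ)) := by
  classical
  haveI := Pic13Lib.isProper_of_closed i hi
  haveI := CurveCohLib.isNoetherian_of_proper (k := k) (X := X)
  letI : (Proj (CohB1.polyGrading n k)).Over (Spec (CommRingCat.of k)) := ⟨CohB1.ProjSpace.toSpec n k⟩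
  haveI : IsProper ((Proj (CohB1.polyGrading n k)) ↘ Spec (CommRingCat.of k)) := PnCoh.Chow.isProper_toSpec n _
  haveI hP : IsNoetherian (Proj (CohB1.polyGrading n k)) := Proj16.isNoetherian_proj _
  let N : ℕ := ⌊φ.eval ((m : ℤ) : ℚ)⌋.toNat
  let EP := (RegEpi.twF (k := k) (n := n) 1).obj (FlatMod.freeMod (Proj (CohB1.polyGrading n k)) N)
  let L' := (Scheme.Modules.pullback i).obj (Twist.twistProjSpace n k (-(m + 1)))
  let E : X.Modules := (Scheme.Modules.pullback i).obj EP
  have hEP : Coh.IsCoh EP := ProjRegular.isCoh_twistBy (k := k) (n := n) (Syzygy.isCoh_sigma_O N) 1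
  have hE : Coh.IsCoh E := by
    haveI : IsLocallyNoetherian (CohB1.ProjSpace n k) := hP.toIsLocallyNoetherian
    exact ZClosLib.isCoh_pullback i hEP
  refine isBounded_mono ?_ (isBounded_tensor (PicClLib.isInvertible_pullback i (DualRange.isInvertible_pn (-(m + 1))))
    (isBounded_coker (k := k) hE (Module.finrank k (Coh.HH (Proj (CohB1.polyGrading n k)) EP 0))))
  rintro F ⟨hF, hreg, hχ⟩
  let M := Pic13.twistOn k i F m
  let iF := (Scheme.Modules.pushforward i).obj F
  let G : (CohB1.ProjSpace n k).Modules := CohB1.tensorMod iF (Twist.twistProjSpace n k m)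
  have hiF : Coh.IsCoh iF := Pic13Regular.isCoh_pushF i hF
  have hG : Coh.IsCoh G := ProjRegular.isCoh_twistBy hiF m
  have hR : ProjRegular.Reg0 (𝒜 := CohB1.polyGrading n k) G := Pic13Regular.reg0_of_isMRegular i hF hreg
  have hh : FGA.eulerCharLE k X M n = (Module.finrank k (Coh.HH X M 0) : ℤ) := by
    refine (Finset.sum_eq_single 0 (fun j _ hj => ?_) (by simp)).trans (by simp)
    haveI := Pic13Regular.vanish i hF hreg j (Nat.one_le_iff_ne_zero.2 hj) m (by omega)
    rw [Module.finrank_zero_of_subsingleton, Nat.cast_zero, mul_zero]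
  have hN : Module.finrank k (Coh.HH (Proj (CohB1.polyGrading n k)) G 0) ≤ N := by
    obtain ⟨e⟩ := Pic13Regular.push_twistOn i F m
    have h1 : Module.finrank k (Coh.HH (CohB1.ProjSpace n k) G 0) = Module.finrank k (Coh.HH X M 0) :=
      (NormalLib.hhIso (A := k) e.symm 0).finrank_eq.trans (finrank_push i hi (Pic13Regular.isCoh_twistOn i hF m).1)
    refine le_of_eq (h1.trans ?_)
    show _ = ⌊φ.eval ((m : ℤ) : ℚ)⌋.toNat
    rw [← hχ m, Int.floor_intCast]
    exact (congrArg Int.toNat hh).symm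
  obtain ⟨τ, ⟨e₁⟩⟩ := exists_presentation hG hR hN
  obtain ⟨e₂⟩ := nonempty_coker_pullback i τ
  refine ⟨(Scheme.Modules.pullback i).obj ((RegEpi.twF (k := k) (n := n) 1).obj G), ⟨_, ⟨e₂.symm ≪≫ (Scheme.Modules.pullback i).mapIso e₁⟩⟩, ?_⟩
  obtain ⟨t1⟩ := PnCoh.Finite.twist_tensor_iso (ProjRegular.coords k n) ProjRegular.coords_mem ProjRegular.coords_cover m 1
  obtain ⟨t2⟩ := DualRange.nonempty_twist_inverse i (m + 1)
  have h1 : PicF.cl (Twist.twistProjSpace n k m) * PicF.cl (Twist.twistProjSpace n k 1) =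
      PicF.cl (Twist.twistProjSpace n k (m + 1)) := (cl_tensor _ _).symm.trans (cl_eq_iff.2 ⟨t1⟩)
  have h2 : PicF.pullCl i (PicF.cl (Twist.twistProjSpace n k (m + 1))) * PicF.cl L' = 1 :=
    (cl_tensor _ _).symm.trans (cl_eq_iff.2 ⟨t2⟩)
  haveI := AmpleVan.faithful_push i
  rw [← cl_eq_iff]
  show PicF.cl (CohB1.tensorMod _ L') = _
  rw [cl_tensor]
  show PicF.pullCl i (PicF.cl (CohB1.tensorMod (CohB1.tensorMod iF (Twist.twistProjSpace n k m)) (Twist.twistProjSpace n k 1))) * _ = _
  rw [cl_tensor, cl_tensor, mul_assoc (PicF.cl iF), h1, PicMul.pullCl_mul, mul_assoc, h2, mul_one]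
  haveI := isIso_counit_closed i F hiF.1
  exact cl_eq_iff.2 ⟨asIso ((Scheme.Modules.pullbackPushforwardAdjunction i).counit.app F)⟩

end Groth.Agent.S4285
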