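import Groth.Statements.S4287
import Groth.Agent.Pic13Lib.Hodge.Classes
import Groth.Agent.Pic13Lib.MixedPos
import Groth.Agent.AmpleX.Generated
import Groth.Agent.Pic13Lib.TwistAmple
set_option autoImplicit false
universe u
open CategoryTheory CategoryTheory.Limits AlgebraicGeometry
open Pic13

namespace Groth.Agent.S4287
open Groth.Agent Groth.Agent.H23 Groth.Agent.H23.PicMul
open Groth.Agent.H23.IntNumCycle (alt)
attribute [local instance] PicMul.clMonoid

theorem exists_nat_dim (k : Type u) [Field k] (X : Scheme.{u}) [X.Over (Spec (CommRingCat.of k))]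
    [IsProper (X ↘ Spec (CommRingCat.of k))] [IsIntegral X] : ∃ g : ℕ, topologicalKrullDim X = (g : ℕ) :=
  ⟨_, VarDim.topologicalKrullDim_eq_deg_genericPoint (X ↘ Spec (CommRingCat.of k))⟩

/-- Bounded families have uniformly ample twists. -/
theorem twists_of_bounded (k : Type u) [Field k] [IsAlgClosed k] {X : Scheme.{u}} [X.Over (Spec (CommRingCat.of k))]
    [IsProper (X ↘ Spec (CommRingCat.of k))] {H : X.Modules} (hH : CohB1.IsAmple H) {P : X.Modules → Prop}
    (hP : ∀ L, P L → PicF.IsInvertible L) (hb : Pic13.IsBounded k X P) :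
    ∃ N : ℕ, ∀ L L' : X.Modules, P L → Nonempty (CohB1.tensorMod L L' ≅ Coh.structureModule X) →
      CohB1.IsAmple (CohB1.tensorMod (CohB1.tensorPow H N) L) ∧
        CohB1.IsAmple (CohB1.tensorMod (CohB1.tensorPow H N) L') := by
  classical
  haveI := CurveCohLib.isNoetherian_of_proper (k := k) (X := X)
  haveI : X.IsSeparated := AmpleVan.isSeparated_of_proper (A := k)
  obtain ⟨κ, hκ, R, hR, hcov⟩ := Pic13Lib.Bdd.exists_algEq_classes hb hP
  haveI := Fintype.ofFinite κ
  choose R' hR' eR using fun c => PicInv.exists_inverse (hR c)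
  choose n hn0 hn using fun c => AmpleX.eventually_ample_tensor hH (hR c)
  choose n' hn0' hn' using fun c => AmpleX.eventually_ample_tensor hH (hR' c)
  refine ⟨Finset.univ.sup fun c => n c + n' c, fun L L' hL hLL' => ?_⟩
  obtain ⟨c, N, hN, hNa, e⟩ := hcov L hL
  obtain ⟨N', hN', ⟨eN⟩⟩ := PicInv.exists_inverse hN
  have hτ := Pic13Lib.Hodge.isTau_of_alg hNa
  have hle := Finset.le_sup (f := fun c => n c + n' c) (Finset.mem_univ c)
  have h1 := (hn c _ (show n c ≤ Finset.univ.sup (fun c => n c + n' c) by omega)).1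
  have h2 := (hn' c _ (show n' c ≤ Finset.univ.sup (fun c => n c + n' c) by omega)).1
  have a1 := (Pic13Lib.twists_ample (k := k) h1 hN eN hτ 1).1
  have a2 := (Pic13Lib.twists_ample (k := k) h2 hN eN hτ 1).2
  have hcl : ∀ {A B : X.Modules}, Nonempty (CohB1.tensorMod A B ≅ Coh.structureModule X) →
      PicF.cl A * PicF.cl B = 1 := fun h => (cl_tensor _ _).symm.trans ((cl_eq_iff.2 h).trans PicMul.one_def.symm)
  constructor
  · obtain ⟨w⟩ := cl_eq_iff.1 (show PicF.cl (CohB1.tensorMod (CohB1.tensorPow N 1)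
        (CohB1.tensorMod (CohB1.tensorPow H (Finset.univ.sup fun c => n c + n' c)) (R c))) =
        PicF.cl (CohB1.tensorMod (CohB1.tensorPow H (Finset.univ.sup fun c => n c + n' c)) L) by
      simp only [cl_tensor, cl_tensorPow, pow_one, e]
      ac_rfl)
    exact AmpleX.isAmple_of_iso w a1
  · have he : PicF.cl L' = PicF.cl (R' c) * PicF.cl N' := by
      calc PicF.cl L' = PicF.cl L' * ((PicF.cl (R c) * PicF.cl (R' c)) * (PicF.cl N * PicF.cl N')) := by
            rw [hcl (eR c), hcl ⟨eN⟩, mul_one, mul_one]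
        _ = (PicF.cl (R c) * PicF.cl N * PicF.cl L') * (PicF.cl (R' c) * PicF.cl N') := by ac_rfl
        _ = _ := by rw [← e, hcl hLL', one_mul]
    obtain ⟨w⟩ := cl_eq_iff.1 (show PicF.cl (CohB1.tensorMod (CohB1.tensorPow N' 1)
        (CohB1.tensorMod (CohB1.tensorPow H (Finset.univ.sup fun c => n c + n' c)) (R' c))) =
        PicF.cl (CohB1.tensorMod (CohB1.tensorPow H (Finset.univ.sup fun c => n c + n' c)) L') by
      simp only [cl_tensor, cl_tensorPow, pow_one, he]
      ac_rfl)
    exact AmpleX.isAmple_of_iso w a2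

/-- The numbers of a twist. -/
theorem first_factor {k : Type u} [Field k] {X : Scheme.{u}} [X.Over (Spec (CommRingCat.of k))]
    [IsProper (X ↘ Spec (CommRingCat.of k))] {r : ℕ} (hd : topologicalKrullDim X ≤ ((r + 1 : ℕ) : WithBot ℕ∞))
    {H : X.Modules} (hH : PicF.IsInvertible H) {M : Fin r → X.Modules} (hM : ∀ i, PicF.IsInvertible (M i))
    (N : ℕ) {L : X.Modules} (hL : PicF.IsInvertible L) :
    alt k (r + 1) (Fin.cons (CohB1.tensorMod (CohB1.tensorPow H N) L) M) (Coh.structureModule X) =
      N * alt k (r + 1) (Fin.cons H M) (Coh.structureModule X) +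
        alt k (r + 1) (Fin.cons L M) (Coh.structureModule X) := by
  have hle := TopInt.cohLe_structure (X := X) k hd
  rw [TopInt.alt_cons_mul k hM (PicMul.isInvertible_tensorPow hH N) hL hle, Pic13Lib.alt_cons_pow hM hH hle N]

theorem first_inverse {k : Type u} [Field k] {X : Scheme.{u}} [X.Over (Spec (CommRingCat.of k))]
    [IsProper (X ↘ Spec (CommRingCat.of k))] {r : ℕ} (hd : topologicalKrullDim X ≤ ((r + 1 : ℕ) : WithBot ℕ∞))
    {M : Fin r → X.Modules} (hM : ∀ i, PicF.IsInvertible (M i)) {L L' : X.Modules} (hL : PicF.IsInvertible L)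
    (hL' : PicF.IsInvertible L') (h : PicF.cl L * PicF.cl L' = 1) :
    alt k (r + 1) (Fin.cons L' M) (Coh.structureModule X) =
      - alt k (r + 1) (Fin.cons L M) (Coh.structureModule X) := by
  have hle := TopInt.cohLe_structure (X := X) k hd
  have h1 := TopInt.alt_cons_mul k hM hL hL' hle
  have h2 := Pic13Lib.alt_cons_pow hM hL hle 0
  rw [Nat.cast_zero, zero_mul] at h2
  have h3 : alt k (r + 1) (Fin.cons (CohB1.tensorMod L L') M) (Coh.structureModule X) =
      alt k (r + 1) (Fin.cons (CohB1.tensorPow L 0) M) (Coh.structureModule X) := by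
    refine IntAlt.alt_congr_cl (X := X) k (fun i => ?_) _
    induction i using Fin.cases with
    | zero => simp only [Fin.cons_zero, cl_tensor, h, cl_tensorPow, pow_zero]
    | succ j => simp only [Fin.cons_succ]
  linarith

/-- Ample twists on both sides bound the numbers. -/
theorem numbers_bound {k : Type u} [Field k] {X : Scheme.{u}} [X.Over (Spec (CommRingCat.of k))]
    [IsProper (X ↘ Spec (CommRingCat.of k))] [IsIntegral X] {r : ℕ}
    (hdim : topologicalKrullDim X = ((r + 1 : ℕ) : WithBot ℕ∞)) {H L L' : X.Modules} (hH : CohB1.IsAmple H)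
    (hL : PicF.IsInvertible L) (hL' : PicF.IsInvertible L') (h : PicF.cl L * PicF.cl L' = 1) (N : ℕ)
    (h1 : CohB1.IsAmple (CohB1.tensorMod (CohB1.tensorPow H N) L))
    (h2 : CohB1.IsAmple (CohB1.tensorMod (CohB1.tensorPow H N) L')) :
    |alt k (r + 1) (Fin.cons L fun _ => H) (Coh.structureModule X)| ≤
      N * |alt k (r + 1) (Fin.cons H fun _ => H) (Coh.structureModule X)| := by
  have hM : ∀ _ : Fin r, PicF.IsInvertible H := fun _ => hH.1
  have p1 := Pic13Lib.alt_structure_pos (k := k) (r + 1) X hdim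
    (Fin.cons (CohB1.tensorMod (CohB1.tensorPow H N) L) fun _ => H) fun i => by
      induction i using Fin.cases with
      | zero => simpa using h1
      | succ j => simpa using hH
  have p2 := Pic13Lib.alt_structure_pos (k := k) (r + 1) X hdim
    (Fin.cons (CohB1.tensorMod (CohB1.tensorPow H N) L') fun _ => H) fun i => by
      induction i using Fin.cases with
      | zero => simpa using h2
      | succ j => simpa using hH
  rw [first_factor hdim.le hH.1 hM N hL] at p1
  rw [first_factor hdim.le hH.1 hM N hL', first_inverse hdim.le hM hL hL' h] at p2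
  generalize alt k (r + 1) (Fin.cons H fun _ => H) (Coh.structureModule X) = a at p1 p2 ⊢
  generalize alt k (r + 1) (Fin.cons L fun _ => H) (Coh.structureModule X) = x at p1 p2 ⊢
  have hN : (0 : ℤ) ≤ N := Int.natCast_nonneg N
  have hs1 := le_abs_self a
  have hs2 := neg_abs_le a
  rcases neg_one_pow_eq_or ℤ (r + 1) with e | e <;> rw [e] at p1 p2 <;> exact abs_le.2 ⟨by nlinarith, by nlinarith⟩

theorem square_bound {k : Type u} [Field k] {X : Scheme.{u}} [X.Over (Spec (CommRingCat.of k))]
    [IsProper (X ↘ Spec (CommRingCat.of k))] [IsIntegral X] {s : ℕ}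
    (hdim : topologicalKrullDim X = ((s + 2 : ℕ) : WithBot ℕ∞)) {H L : X.Modules} (hH : CohB1.IsAmple H)
    (hL : PicF.IsInvertible L) (N : ℕ)
    (h1 : CohB1.IsAmple (CohB1.tensorMod (CohB1.tensorPow H N) L)) :
    -((N : ℤ) * N * |alt k (s + 2) (Fin.cons H fun _ => H) (Coh.structureModule X)| +
        2 * N * |alt k (s + 2) (Fin.cons L fun _ => H) (Coh.structureModule X)|) ≤
      (-1 : ℤ) ^ s * alt k (s + 2) (Fin.cons L (Fin.cons L fun _ => H)) (Coh.structureModule X) := by
  let A := CohB1.tensorMod (CohB1.tensorPow H N) L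
  have hM : ∀ (Z : X.Modules), PicF.IsInvertible Z → ∀ i,
      PicF.IsInvertible ((Fin.cons Z fun _ : Fin s => H : Fin (s + 1) → X.Modules) i) := fun Z hZ i => by
    induction i using Fin.cases with
    | zero => simpa using hZ
    | succ j => simpa using hH.1
  have hHH : (Fin.cons H fun _ : Fin s => H : Fin (s + 1) → X.Modules) = fun _ => H := funext fun i => by
    induction i using Fin.cases <;> rfl
  have hA : PicF.IsInvertible A := h1.1
  have p := Pic13Lib.alt_structure_pos (k := k) (s + 2) X hdim (Fin.cons A (Fin.cons A fun _ => H)) fun i => by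
    induction i using Fin.cases with
    | zero => simpa [A] using h1
    | succ j => induction j using Fin.cases with
      | zero => simpa [A] using h1
      | succ j => simpa using hH
  rw [first_factor hdim.le hH.1 (hM A hA) N hL, Pic13Lib.Hodge.alt_swap H A, Pic13Lib.Hodge.alt_swap L A,
    first_factor hdim.le hH.1 (hM H hH.1) N hL, first_factor hdim.le hH.1 (hM L hL) N hL, hHH,
    Pic13Lib.Hodge.alt_swap H L, hHH, pow_add, neg_one_sq, mul_one] at p
  generalize alt k (s + 2) (Fin.cons H fun _ => H) (Coh.structureModule X) = a at p ⊢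
  generalize alt k (s + 2) (Fin.cons L fun _ => H) (Coh.structureModule X) = x at p ⊢
  generalize alt k (s + 2) (Fin.cons L (Fin.cons L fun _ => H)) (Coh.structureModule X) = y at p ⊢
  have hN : (0 : ℤ) ≤ N := Int.natCast_nonneg N
  have hN2 : (0 : ℤ) ≤ (N : ℤ) * N := mul_nonneg hN hN
  rcases neg_one_pow_eq_or ℤ s with e | e <;> rw [e] at p ⊢ <;>
    nlinarith [mul_le_mul_of_nonneg_left (le_abs_self a) hN2, mul_le_mul_of_nonneg_left (neg_abs_le a) hN2,
      mul_le_mul_of_nonneg_left (le_abs_self x) hN, mul_le_mul_of_nonneg_left (neg_abs_le x) hN]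

/-- Uniformly ample twists bound a family. -/
theorem bounded_of_twists (k : Type u) [Field k] [IsAlgClosed k] {X : Scheme.{u}} [X.Over (Spec (CommRingCat.of k))]
    [IsProper (X ↘ Spec (CommRingCat.of k))] [IsIntegral X] {H : X.Modules} (hH : CohB1.IsAmple H)
    {P : X.Modules → Prop} (hP : ∀ L, P L → PicF.IsInvertible L) (N : ℕ)
    (hN : ∀ L L' : X.Modules, P L → Nonempty (CohB1.tensorMod L L' ≅ Coh.structureModule X) →
      CohB1.IsAmple (CohB1.tensorMod (CohB1.tensorPow H N) L) ∧
        CohB1.IsAmple (CohB1.tensorMod (CohB1.tensorPow H N) L')) :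
    Pic13.IsBounded k X P := by
  classical
  haveI := CurveCohLib.isNoetherian_of_proper (k := k) (X := X)
  obtain ⟨g, hg⟩ := exists_nat_dim k X
  match g, hg with
  | 0, hg =>
    refine Pic13Lib.Bdd.isBounded_of_classes hP (κ := PUnit.{u + 1}) (fun _ _ => True) (fun L _ => ⟨⟨⟩, trivial⟩)
      fun _ L L' L'' _ _ hL _ hL'' _ => ⟨InvX.isInvertible_tensorMod (hP L hL) hL'', fun C ι _ _ hC => ?_⟩
    have h := ι.isClosedEmbedding.isInducing.topologicalKrullDim_le
    rw [hC, hg] at h
    exact absurd h (by decide)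
  | 1, hg =>
    let B : ℤ := N * |alt k 1 (Fin.cons H fun _ : Fin 0 => H) (Coh.structureModule X)|
    have he : ∀ L : X.Modules, (Fin.cons L fun _ : Fin 0 => H : Fin 1 → X.Modules) = Fin.cons L Fin.elim0 :=
      fun L => funext fun i => by fin_cases i; rfl
    have hmem : ∀ L, P L → alt k 1 (Fin.cons L Fin.elim0) (Coh.structureModule X) ∈ Finset.Icc (-B) B := fun L hL => by
      obtain ⟨L', hL', e⟩ := PicInv.exists_inverse (hP L hL)
      obtain ⟨a1, a2⟩ := hN L L' hL e
      rw [← he, Finset.mem_Icc]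
      exact abs_le.1 (numbers_bound (k := k) (r := 0) hg hH (hP L hL) hL'
        ((cl_tensor _ _).symm.trans ((cl_eq_iff.2 e).trans PicMul.one_def.symm)) N a1 a2)
    refine Pic13Lib.Bdd.isBounded_of_classes hP (κ := ULift.{u} (Finset.Icc (-B) B))
      (fun c L => alt k 1 (Fin.cons L Fin.elim0) (Coh.structureModule X) = (c.down : ℤ))
      (fun L hL => ⟨⟨⟨_, hmem L hL⟩⟩, rfl⟩) fun c L L' L'' hc hc' hL hL' hL'' h =>
        ⟨InvX.isInvertible_tensorMod (hP L hL) hL'', ?_⟩
    refine Pic13Lib.Hodge.isNumEquivZero_dim_one (by rw [hg, Nat.cast_one]) (InvX.isInvertible_tensorMod (hP L hL) hL'') ?_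
    rw [TopInt.alt_cons_mul k (fun i => i.elim0) (hP L hL) hL'' (TopInt.cohLe_structure (X := X) k hg.le),
      first_inverse (k := k) (r := 0) hg.le (fun i => i.elim0) (hP L' hL') hL'' h, hc, hc']
    ring
  | s + 2, hg =>
    let a := |alt k (s + 2) (Fin.cons H fun _ => H) (Coh.structureModule X)|
    refine Pic13Lib.isBounded_mono (fun L hL => ?_)
      (Pic13Lib.Hodge.isBounded_deg_sq (k := k) s hg hH (3 * (N : ℤ) * N * a + N * a))
    obtain ⟨L', hL', e⟩ := PicInv.exists_inverse (hP L hL)
    obtain ⟨a1, a2⟩ := hN L L' hL e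
    have hx := numbers_bound (k := k) (r := s + 1) hg hH (hP L hL) hL'
      ((cl_tensor _ _).symm.trans ((cl_eq_iff.2 e).trans PicMul.one_def.symm)) N a1 a2
    have hy := square_bound (k := k) hg hH (hP L hL) N a1
    have hNN : (0 : ℤ) ≤ N := Int.natCast_nonneg N
    have ha : 0 ≤ a := abs_nonneg _
    refine ⟨hP L hL, hx.trans ?_, le_trans ?_ hy⟩
    · nlinarith [mul_nonneg (mul_nonneg hNN hNN) ha]
    · nlinarith [mul_le_mul_of_nonneg_left hx hNN, mul_nonneg hNN ha]



/-- (i) if and only if (iv), over the base S = Spec k with k algebraically closed: let X be a proper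
integral k-scheme carrying an ample invertible module H, and P a family of invertible O_X-modules.
Then P is bounded if and only if there is an integer N such that H^{⊗ N} ⊗ L and H^{⊗ N} ⊗ L' are
ample for every member L of P and every inverse L' of L (L ⊗ L' ≅ O_X). (The source: X projective
over a Noetherian S with integral geometric fibres of dimension r, H relatively ample.) -/
theorem result (k : Type u) [Field k] [IsAlgClosed k] (X : Scheme.{u}) [X.Over (Spec (CommRingCat.of k))]
    [IsProper (X ↘ Spec (CommRingCat.of k))] [IsIntegral X]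
    (H : X.Modules) (hH : CohB1.IsAmple H) (P : X.Modules → Prop) (hP : ∀ L, P L → PicF.IsInvertible L) :
    Pic13.IsBounded k X P ↔ ∃ N : ℕ, ∀ L L' : X.Modules, P L → Nonempty (CohB1.tensorMod L L' ≅ Coh.structureModule X) →
      CohB1.IsAmple (CohB1.tensorMod (CohB1.tensorPow H N) L) ∧ CohB1.IsAmple (CohB1.tensorMod (CohB1.tensorPow H N) L') := by
  refine ⟨fun hb => twists_of_bounded k hH hP hb, ?_⟩
  rintro ⟨N, hN⟩
  exact bounded_of_twists k hH hP N hN

end Groth.Agent.S4287
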