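import Groth.Statements.S4290
import Groth.Agent.Pic13Lib.Hodge.Inter

set_option autoImplicit false
universe u
open CategoryTheory CategoryTheory.Limits AlgebraicGeometry
open Pic13

namespace Groth.Agent.S4290
open Groth.Agent Groth.Agent.Pic13Lib Groth.Agent.H23 Groth.Agent.H23.PicMul
attribute [local instance] PicMul.clMonoid
set_option backward.isDefEq.respectTransparency false
set_option backward.isDefEq.respectTransparency.types false


/-- Let k be an algebraically closed field, X an irreducible proper k-scheme of dimension r = s + 2 ≥ 2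
carrying an ample invertible module H, and L an invertible module with (c₁(L)·c₁(H)^{r-1}) = 0 and
(c₁(L)²·c₁(H)^{r-2}) ≥ 0. Then L is numerically equivalent to zero. Intersection numbers are those
of FGA.intNum, which takes inverses H', L' of H, L as arguments. -/
theorem result (k : Type u) [Field k] [IsAlgClosed k] (X : Scheme.{u}) [X.Over (Spec (CommRingCat.of k))]
    [IsProper (X ↘ Spec (CommRingCat.of k))] [IrreducibleSpace X] (s : ℕ) (hdim : topologicalKrullDim X = (s + 2 : ℕ))
    (H H' L L' : X.Modules) (hH : CohB1.IsAmple H) (hL : PicF.IsInvertible L)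
    (hHH' : Nonempty (CohB1.tensorMod H H' ≅ Coh.structureModule X)) (hLL' : Nonempty (CohB1.tensorMod L L' ≅ Coh.structureModule X))
    (horth : FGA.intNum k X (s + 2) (Matrix.vecCons L' (fun _ : Fin (s + 1) => H')) (Coh.structureModule X) = 0)
    (hsq : 0 ≤ FGA.intNum k X (s + 2) (Matrix.vecCons L' (Matrix.vecCons L' (fun _ : Fin s => H'))) (Coh.structureModule X)) :
    Pic13.IsNumEquivZero k X L := by
  obtain ⟨e1, e2⟩ := Hodge.intNum_pair (k := k) hdim.le hH.1 hL hHH' hLL'
  rw [e1, mul_eq_zero, or_iff_right (pow_ne_zero s (by norm_num : (-1 : ℤ) ≠ 0))] at horth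
  rw [e2] at hsq
  exact Hodge.index_irreducible hdim hH hL horth hsq

end Groth.Agent.S4290
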