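import Groth.Statements.S4291
import Groth.Agent.Pic13Lib.Bdd.Consequences
import Groth.Agent.Lib.AVDual

set_option autoImplicit false
universe u
open CategoryTheory CategoryTheory.Limits AlgebraicGeometry
open Pic13

namespace Groth.Agent.S4291
open CategoryTheory AlgebraicGeometry
open Groth.Agent Groth.Agent.Pic13Lib Groth.Agent.H23 Groth.Agent.H23.PicMul
attribute [local instance] PicMul.clMonoid
set_option backward.isDefEq.respectTransparency false
set_option backward.isDefEq.respectTransparency.types false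

/-- Let k be an algebraically closed field, f : X ⟶ Y a surjective k-morphism of proper k-schemes, and P
a bounded family of O_X-modules. Then the family of invertible O_Y-modules M whose pullback f^*M is
isomorphic to a member of P is bounded. -/
theorem result (k : Type u) [Field k] [IsAlgClosed k] (X Y : Scheme.{u})
    [X.Over (Spec (CommRingCat.of k))] [Y.Over (Spec (CommRingCat.of k))]
    [IsProper (X ↘ Spec (CommRingCat.of k))] [IsProper (Y ↘ Spec (CommRingCat.of k))]
    (f : X ⟶ Y) (hf : f ≫ (Y ↘ Spec (CommRingCat.of k)) = X ↘ Spec (CommRingCat.of k)) [Surjective f]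
    (P : X.Modules → Prop) (hP : Pic13.IsBounded k X P) :
    Pic13.IsBounded k Y (fun M : Y.Modules => PicF.IsInvertible M ∧ ∃ L : X.Modules, P L ∧ Nonempty ((Scheme.Modules.pullback f).obj M ≅ L)) := by
  classical
  obtain ⟨T, q, h₁, h₂, G, hG, hmem⟩ := hP
  have hP' : Pic13.IsBounded k X (fun L => P L ∧ PicF.IsInvertible L) :=
    ⟨T, q, h₁, h₂, G, hG, fun L hL => hmem L hL.1⟩
  obtain ⟨κ, hκ, R, hR, h⟩ := Bdd.exists_algEq_classes hP' fun L hL => hL.2
  refine Bdd.isBounded_of_classes (fun M hM => hM.1)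
    (fun c M => ∃ N, PicF.IsInvertible N ∧ Pic13.IsAlgEquivZero k X N ∧
      PicF.pullCl f (PicF.cl M) = PicF.cl (R c) * PicF.cl N) (fun M ⟨hM, L, hL, ⟨e⟩⟩ => ?_) ?_
  · obtain ⟨c, N, hN, hN', he⟩ := h L ⟨hL, isInvertible_of_iso e (PicClLib.isInvertible_pullback f hM)⟩
    exact ⟨c, N, hN, hN', (cl_eq_iff.2 ⟨e⟩).trans he⟩
  rintro c L L' L'' ⟨N, hN, hN', he⟩ ⟨N', hN'i, hN'a, he'⟩ hL hL' hL'' hinv
  have hNT : ∀ {Z : X.Modules}, PicF.IsInvertible Z → Pic13.IsAlgEquivZero k X Z → NumTriv.IsNT k Z :=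
    fun hZ hZa => Bdd.isNT_of_tau hZ ⟨1, one_pos, (AVDual.algEquivZero_of_iso (cl_eq_iff.1 (Eq.symm
      (by rw [cl_tensorPow, pow_one]))).some hZa)⟩
  obtain ⟨V, hV, hVinv⟩ := (hNT hN'i hN'a).exists_inverse k
  refine Bdd.isNT_of_pullback f hf (InvX.isInvertible_tensorMod hL.1 hL'') ?_
  refine ((hNT hN hN').mul k hV).of_cl k ?_
  show PicF.cl (CohB1.tensorMod N V) = PicF.pullCl f (PicF.cl (CohB1.tensorMod L L''))
  have hp : PicF.pullCl f (PicF.cl L') * PicF.pullCl f (PicF.cl L'') = 1 := by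
    rw [← PicMul.pullCl_mul, hinv]
    exact PicMul.pullCl_one f
  rw [cl_tensor, cl_tensor, PicMul.pullCl_mul, he]
  rw [he'] at hp
  calc PicF.cl N * PicF.cl V = PicF.cl N * PicF.cl V * (PicF.cl (R c) * PicF.cl N' * PicF.pullCl f (PicF.cl L'')) := by
        rw [hp, mul_one]
    _ = PicF.cl (R c) * PicF.cl N * PicF.pullCl f (PicF.cl L'') * (PicF.cl N' * PicF.cl V) := by ac_rfl
    _ = _ := by rw [hVinv, mul_one]

end Groth.Agent.S4291
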