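import Groth.Statements.S4292
import Groth.Agent.Pic13Lib.Bdd.Consequences
import Groth.Agent.Lib.AVDual

set_option autoImplicit false
universe u
open CategoryTheory CategoryTheory.Limits AlgebraicGeometry
open Pic13

namespace Groth.Agent.S4292
open CategoryTheory AlgebraicGeometry
open Groth.Agent Groth.Agent.Pic13Lib Groth.Agent.H23 Groth.Agent.H23.PicMul
attribute [local instance] PicMul.clMonoid
set_option backward.isDefEq.respectTransparency false
set_option backward.isDefEq.respectTransparency.types false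

/-- The n-th power map on the Picard functor is of finite type: over S = Spec k with k algebraically
closed and for n > 0: let X be a proper k-scheme and P a bounded family of O_X-modules. Then the
family of invertible O_X-modules M such that M^{⊗ n} is isomorphic to a member of P is bounded. (The
source allows every integer n ≠ 0.) -/
theorem result (k : Type u) [Field k] [IsAlgClosed k] (X : Scheme.{u}) [X.Over (Spec (CommRingCat.of k))]
    [IsProper (X ↘ Spec (CommRingCat.of k))] (n : ℕ) (hn : 0 < n)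
    (P : X.Modules → Prop) (hP : Pic13.IsBounded k X P) :
    Pic13.IsBounded k X (fun M : X.Modules => PicF.IsInvertible M ∧ ∃ L : X.Modules, P L ∧ Nonempty (CohB1.tensorPow M n ≅ L)) := by
  classical
  obtain ⟨T, q, h₁, h₂, G, hG, hmem⟩ := hP
  have hP' : Pic13.IsBounded k X (fun L => P L ∧ PicF.IsInvertible L) :=
    ⟨T, q, h₁, h₂, G, hG, fun L hL => hmem L hL.1⟩
  obtain ⟨κ, hκ, R, hR, h⟩ := Bdd.exists_algEq_classes hP' fun L hL => hL.2
  refine Bdd.isBounded_of_classes (fun M hM => hM.1)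
    (fun c M => ∃ N, PicF.IsInvertible N ∧ Pic13.IsAlgEquivZero k X N ∧
      PicF.cl M ^ n = PicF.cl (R c) * PicF.cl N) (fun M ⟨hM, L, hL, ⟨e⟩⟩ => ?_) ?_
  · obtain ⟨c, N, hN, hN', he⟩ := h L ⟨hL, isInvertible_of_iso e (InvX.isInvertible_tensorPow hM n)⟩
    exact ⟨c, N, hN, hN', (cl_tensorPow M n).symm.trans ((cl_eq_iff.2 ⟨e⟩).trans he)⟩
  rintro c L L' L'' ⟨N, hN, hN', he⟩ ⟨N', hN'i, hN'a, he'⟩ hL hL' hL'' hinv
  have hNT : ∀ {Z : X.Modules}, PicF.IsInvertible Z → Pic13.IsAlgEquivZero k X Z → NumTriv.IsNT k Z :=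
    fun hZ hZa => Bdd.isNT_of_tau hZ ⟨1, one_pos, (AVDual.algEquivZero_of_iso (cl_eq_iff.1 (Eq.symm
      (by rw [cl_tensorPow, pow_one]))).some hZa)⟩
  obtain ⟨V, hV, hVinv⟩ := (hNT hN'i hN'a).exists_inverse k
  have hinvLL := InvX.isInvertible_tensorMod hL.1 hL''
  have h1 : NumTriv.IsNT k (CohB1.tensorPow (CohB1.tensorMod L L'') n) := by
    refine ((hNT hN hN').mul k hV).of_cl k ?_
    have hp : PicF.cl L' ^ n * PicF.cl L'' ^ n = 1 := by rw [← mul_pow, hinv, one_pow]
    rw [he'] at hp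
    rw [cl_tensor, cl_tensorPow, cl_tensor, mul_pow, he]
    calc PicF.cl N * PicF.cl V = PicF.cl N * PicF.cl V * (PicF.cl (R c) * PicF.cl N' * PicF.cl L'' ^ n) := by
          rw [hp, mul_one]
      _ = PicF.cl (R c) * PicF.cl N * PicF.cl L'' ^ n * (PicF.cl N' * PicF.cl V) := by ac_rfl
      _ = _ := by rw [hVinv, mul_one]
  refine ⟨hinvLL, fun Y ι hι hY hd => ?_⟩
  haveI := hY
  have h2 := h1.2 Y ι hY hd
  rw [NumTriv.curveDeg_pow ι hd hinvLL n] at h2
  exact (mul_eq_zero.1 h2).resolve_left (by exact_mod_cast hn.ne')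

end Groth.Agent.S4292
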