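import Groth.Statements.S4303
import Groth.Agent.Pic13Lib.MixedPos
import Groth.Agent.Pic13Lib.FibreFinite
import Groth.Agent.Lib.CurveOnSurf

set_option autoImplicit false
universe u
open CategoryTheory CategoryTheory.Limits AlgebraicGeometry
open Pic13

namespace Groth.Agent.S4303
open Groth.Agent Groth.Agent.H23 Groth.Agent.H23.PicMul
attribute [local instance] PicMul.clMonoid

theorem exists_bound (k : Type u) [Field k] {X : Scheme.{u}} [X.Over (Spec (CommRingCat.of k))]
    [IsProper (X ↘ Spec (CommRingCat.of k))] {T : Scheme.{u}} (q : T ⟶ Spec (CommRingCat.of k))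
    [LocallyOfFiniteType q] [QuasiCompact q] {F : (Pic13.prodK k X q).Modules} (hF : Coh.IsCoh F)
    {H : X.Modules} (hH : PicF.IsInvertible H) (a l : ℕ) :
    ∃ B : ℤ, ∀ (L : X.Modules) (t : Spec (CommRingCat.of k) ⟶ T) (ht : t ≫ q = 𝟙 _),
      Nonempty (Pic13.fibreMod k X q t ht F ≅ L) →
        |IntNumCycle.alt k l (fun _ : Fin l => H) (CohB1.tensorPow L a)| ≤ B := by
  haveI := CurveCohLib.isNoetherian_of_proper (k := k) (X := X)
  haveI : IsLocallyNoetherian T := LocallyOfFiniteType.isLocallyNoetherian q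
  haveI : CompactSpace T := QuasiCompact.compactSpace_of_compactSpace q
  haveI : IsNoetherian T := ⟨⟩
  let p := pullback.fst (X ↘ Spec (CommRingCat.of k)) q
  let f := pullback.snd (X ↘ Spec (CommRingCat.of k)) q
  haveI : IsProper f := MorphismProperty.pullback_snd _ _ inferInstance
  haveI : IsLocallyNoetherian (Pic13.prodK k X q) := LocallyOfFiniteType.isLocallyNoetherian f
  haveI : CompactSpace (Pic13.prodK k X q) := QuasiCompact.compactSpace_of_compactSpace f
  haveI : IsNoetherian (Pic13.prodK k X q) := ⟨⟩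
  have hpow : ∀ n, Coh.IsCoh (CohB1.tensorPow F n) := fun n => by
    induction n with
    | zero => exact QCoh.isCoh_structureModule'
    | succ n ih => exact AmpleVan.isCoh_tensor ih hF
  let G : ℕ → (Pic13.prodK k X q).Modules := fun c =>
    CohB1.tensorMod (CohB1.tensorPow F a) ((Scheme.Modules.pullback p).obj (CohB1.tensorPow H c))
  have hG : ∀ c, Coh.IsCoh (G c) := fun c => AmpleVan.isCoh_tensor (hpow a)
    (ZClosLib.isCoh_pullback p (AmpleVan.isCoh_invertible (PicMul.isInvertible_tensorPow hH c)))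
  choose S hS hmem using fun c => Pic13Lib.finite_euler_fibres q (hG c)
  have hb : ∀ c, ∃ b : ℤ, 0 ≤ b ∧ ∀ v ∈ S c, |v| ≤ b := fun c =>
    ⟨∑ v ∈ (hS c).toFinset, |v|, Finset.sum_nonneg fun v _ => abs_nonneg v, fun v hv =>
      Finset.single_le_sum (f := fun v : ℤ => |v|) (fun w _ => abs_nonneg w) ((hS c).mem_toFinset.2 hv)⟩
  choose b hb0 hb using hb
  refine ⟨∑ I : Finset (Fin l), b I.card, fun L t ht hL => ?_⟩
  rw [IntAlt.alt_eq_sum]
  refine (Finset.abs_sum_le_sum_abs _ _).trans (Finset.sum_le_sum fun I _ => ?_)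
  rw [abs_mul, abs_pow, abs_neg, abs_one, one_pow, one_mul, Finset.prod_const]
  refine hb I.card _ ?_
  have hcl : PicF.cl (Pic13.fibreMod k X q t ht (G I.card)) = PicF.cl (CohB1.tensorPow L a) * PicF.cl H ^ I.card := by
    show PicF.pullCl (Pic13.sliceAt k X q t ht) (PicF.cl (CohB1.tensorMod _ _)) = _
    rw [cl_tensor, cl_tensorPow, PicMul.pullCl_mul, PicMul.pullCl_pow, cl_tensorPow]
    congr 1
    · exact congrArg (· ^ a) (cl_eq_iff.2 hL)
    · obtain ⟨e⟩ : Nonempty ((Scheme.Modules.pullback (Pic13.sliceAt k X q t ht)).obj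
          ((Scheme.Modules.pullback p).obj (CohB1.tensorPow H I.card)) ≅ CohB1.tensorPow H I.card) :=
        ⟨(Scheme.Modules.pullbackComp _ _).app _ ≪≫
          (Scheme.Modules.pullbackCongr (Pic13Lib.sliceAt_fst q t ht)).app _ ≪≫
          (Scheme.Modules.pullbackId X).app _⟩
      rw [← cl_tensorPow]
      exact cl_eq_iff.2 ⟨e⟩
  rw [← hcl, SurfPairing.χ_cl]
  exact hmem I.card t ht


/-- (i) implies (iii), over S = Spec k with k algebraically closed: let X be a proper integral k-scheme
of dimension r = s + 2 ≥ 2 carrying an ample invertible module H with inverse H', and P a family of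
invertible O_X-modules. Condition (iii): as L runs through P (with inverse L'), the degree
(c₁(L)·c₁(H)^{r-1}) stays bounded and (c₁(L)²·c₁(H)^{r-2}) stays bounded below; condition (i): P is
bounded. Intersection numbers are those of FGA.intNum, taking the inverse modules as arguments. -/
theorem result (k : Type u) [Field k] [IsAlgClosed k] (X : Scheme.{u})
    [X.Over (Spec (CommRingCat.of k))] [IsProper (X ↘ Spec (CommRingCat.of k))] [IsIntegral X] (s : ℕ)
    (hdim : topologicalKrullDim X = (s + 2 : ℕ)) (H H' : X.Modules) (hH : CohB1.IsAmple H)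
    (hHH' : Nonempty (CohB1.tensorMod H H' ≅ Coh.structureModule X))
    (P : X.Modules → Prop) (hP : ∀ L, P L → PicF.IsInvertible L)
    (hb : Pic13.IsBounded k X P) :
    ∃ B : ℤ, ∀ L L' : X.Modules, P L → Nonempty (CohB1.tensorMod L L' ≅ Coh.structureModule X) →
      |FGA.intNum k X (s + 2) (Matrix.vecCons L' (fun _ : Fin (s + 1) => H')) (Coh.structureModule X)| ≤ B ∧
      -B ≤ FGA.intNum k X (s + 2) (Matrix.vecCons L' (Matrix.vecCons L' (fun _ : Fin s => H'))) (Coh.structureModule X) := by
  haveI := CurveCohLib.isNoetherian_of_proper (k := k) (X := X)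
  obtain ⟨T, q, hq, hq', F, hF, hfib⟩ := hb
  haveI := hq
  haveI := hq'
  obtain ⟨B0, hB0⟩ := exists_bound k q hF hH.1 0 (s + 1)
  obtain ⟨B1, hB1⟩ := exists_bound k q hF hH.1 1 (s + 1)
  obtain ⟨C0, hC0⟩ := exists_bound k q hF hH.1 0 s
  obtain ⟨C1, hC1⟩ := exists_bound k q hF hH.1 1 s
  obtain ⟨C2, hC2⟩ := exists_bound k q hF hH.1 2 s
  refine ⟨max (B0 + B1) (C0 + 2 * C1 + C2), fun L L' hPL hLL' => ?_⟩
  obtain ⟨t, ht, hiso⟩ := hfib L hPL
  have b0 := hB0 L t ht hiso
  have b1 := hB1 L t ht hiso
  have c0 := hC0 L t ht hiso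
  have c1 := hC1 L t ht hiso
  have c2 := hC2 L t ht hiso
  have hL := hP L hPL
  have hL' : PicF.IsInvertible L' := (CurveOnSurf.isInvertible_of_inverse hL
    ⟨(PicMul.comm L' L).some ≪≫ hLL'.some⟩).1
  have hH' : PicF.IsInvertible H' := (CurveOnSurf.isInvertible_of_inverse hH.1
    ⟨(PicMul.comm H' H).some ≪≫ hHH'.some⟩).1
  have hO : Coh.IsCoh (Coh.structureModule X) := QCoh.isCoh_structureModule'
  have hle := TopInt.cohLe_structure (X := X) k hdim.le
  have e0 : ∀ l, IntNumCycle.alt k l (fun _ : Fin l => H) (CohB1.tensorPow L 0) =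
      IntNumCycle.alt k l (fun _ : Fin l => H) (Coh.structureModule X) := fun l => rfl
  have e1 : ∀ l, IntNumCycle.alt k l (fun _ : Fin l => H) (CohB1.tensorPow L 1) =
      IntNumCycle.alt k l (fun _ : Fin l => H) (CohB1.tensorMod (Coh.structureModule X) L) := fun l => rfl
  have e2 : ∀ l, IntNumCycle.alt k l (fun _ : Fin l => H) (CohB1.tensorPow L 2) =
      IntNumCycle.alt k l (fun _ : Fin l => H) (CohB1.tensorMod (CohB1.tensorMod (Coh.structureModule X) L) L) := fun l => rfl
  let A : Fin (s + 2) → X.Modules := Fin.cons L fun _ => H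
  let A' : Fin (s + 2) → X.Modules := Fin.cons L' fun _ => H'
  let Q : Fin (s + 2) → X.Modules := Fin.cons L (Fin.cons L fun _ => H)
  let Q' : Fin (s + 2) → X.Modules := Fin.cons L' (Fin.cons L' fun _ => H')
  have hA : ∀ j, PicF.IsInvertible (A j) := fun j => by
    induction j using Fin.cases with
    | zero => exact hL
    | succ j => exact hH.1
  have hA' : ∀ j, PicF.IsInvertible (A' j) := fun j => by
    induction j using Fin.cases with
    | zero => exact hL'
    | succ j => exact hH'
  have hAA : ∀ j, Nonempty (CohB1.tensorMod (A j) (A' j) ≅ Coh.structureModule X) := fun j => by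
    induction j using Fin.cases with
    | zero => exact hLL'
    | succ j => exact hHH'
  have hQ : ∀ j, PicF.IsInvertible (Q j) := fun j => by
    induction j using Fin.cases with
    | zero => exact hL
    | succ j =>
      induction j using Fin.cases with
      | zero => exact hL
      | succ j => exact hH.1
  have hQ' : ∀ j, PicF.IsInvertible (Q' j) := fun j => by
    induction j using Fin.cases with
    | zero => exact hL'
    | succ j =>
      induction j using Fin.cases with
      | zero => exact hL'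
      | succ j => exact hH'
  have hQQ : ∀ j, Nonempty (CohB1.tensorMod (Q j) (Q' j) ≅ Coh.structureModule X) := fun j => by
    induction j using Fin.cases with
    | zero => exact hLL'
    | succ j =>
      induction j using Fin.cases with
      | zero => exact hLL'
      | succ j => exact hHH'
  constructor
  · show |FGA.intNum k X (s + 2) A' _| ≤ _
    rw [IntAlt.intNum_eq_alt k hdim.le hA' hO, Pic13Lib.alt_inverse hA hA' hAA hle, abs_mul, abs_pow, abs_neg,
      abs_one, one_pow, one_mul, IntAlt.alt_succ]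
    simp only [A, Fin.cons_zero, Fin.cons_succ]
    rw [← e0, ← e1]
    exact ((abs_sub _ _).trans (add_le_add b0 b1)).trans (le_max_left _ _)
  · show _ ≤ FGA.intNum k X (s + 2) Q' _
    rw [IntAlt.intNum_eq_alt k hdim.le hQ' hO, Pic13Lib.alt_inverse hQ hQ' hQQ hle]
    have hbd : |IntNumCycle.alt k (s + 1 + 1) Q (Coh.structureModule X)| ≤ C0 + 2 * C1 + C2 := by
      rw [IntAlt.alt_succ, IntAlt.alt_succ, IntAlt.alt_succ]
      simp only [Q, Fin.cons_zero, Fin.cons_succ]
      rw [← e0, ← e1, ← e2]
      refine (abs_sub _ _).trans ((add_le_add (abs_sub _ _) (abs_sub _ _)).trans ?_)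
      linarith
    have h1 : |(-1 : ℤ) ^ (s + 2) * IntNumCycle.alt k (s + 2) Q (Coh.structureModule X)| ≤
        max (B0 + B1) (C0 + 2 * C1 + C2) := by
      rw [abs_mul, abs_pow, abs_neg, abs_one, one_pow, one_mul]
      exact hbd.trans (le_max_right _ _)
    exact (abs_le.1 h1).1

end Groth.Agent.S4303
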