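import Groth.Statements.S4293
import Groth.Agent.Pic13Lib.Hodge.Classes
import Groth.Agent.Pic13Lib.Hodge.Restrict
import Groth.Agent.Pic13Lib.MixedPos
import Groth.Agent.S4303
set_option autoImplicit false
universe u
open CategoryTheory CategoryTheory.Limits AlgebraicGeometry
open Pic13

namespace Groth.Agent.S4293
open Groth.Agent Groth.Agent.H23 Groth.Agent.H23.PicMul Groth.Agent.H23.TrivBasic
open Groth.Agent.H23.IntNumCycle (alt)
attribute [local instance] PicMul.clMonoid

variable {k : Type u} [Field k] {Y : Scheme.{u}} [Y.Over (Spec (CommRingCat.of k))]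
  [IsProper (Y ↘ Spec (CommRingCat.of k))]

/-- A bounded family has bounded degree and square. -/
theorem bounded_numbers {H : Y.Modules} (hH : PicF.IsInvertible H) {P : Y.Modules → Prop}
    (hP : Pic13.IsBounded k Y P) (r : ℕ) : ∃ B : ℤ, ∀ L, P L →
      |alt k (r + 1) (Fin.cons L fun _ : Fin r => H) (Coh.structureModule Y)| ≤ B ∧
      |alt k (r + 2) (Fin.cons L (Fin.cons L fun _ : Fin r => H)) (Coh.structureModule Y)| ≤ B := by
  obtain ⟨T, q, hq, hq', F, hF, hfib⟩ := hP
  haveI := hq
  haveI := hq'
  obtain ⟨B0, hB0⟩ := S4303.exists_bound k q hF hH 0 r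
  obtain ⟨B1, hB1⟩ := S4303.exists_bound k q hF hH 1 r
  obtain ⟨B2, hB2⟩ := S4303.exists_bound k q hF hH 2 r
  refine ⟨B0 + 2 * B1 + B2, fun L hL => ?_⟩
  obtain ⟨t, ht, hiso⟩ := hfib L hL
  have b0 := hB0 L t ht hiso
  have b1 := hB1 L t ht hiso
  have b2 := hB2 L t ht hiso
  have e0 : alt k r (fun _ : Fin r => H) (CohB1.tensorPow L 0) =
      alt k r (fun _ : Fin r => H) (Coh.structureModule Y) := rfl
  have e1 : alt k r (fun _ : Fin r => H) (CohB1.tensorPow L 1) =
      alt k r (fun _ : Fin r => H) (CohB1.tensorMod (Coh.structureModule Y) L) := rfl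
  have e2 : alt k r (fun _ : Fin r => H) (CohB1.tensorPow L 2) =
      alt k r (fun _ : Fin r => H) (CohB1.tensorMod (CohB1.tensorMod (Coh.structureModule Y) L) L) := rfl
  have n0 := abs_nonneg (alt k r (fun _ : Fin r => H) (CohB1.tensorPow L 0))
  have n1 := abs_nonneg (alt k r (fun _ : Fin r => H) (CohB1.tensorPow L 1))
  have n2 := abs_nonneg (alt k r (fun _ : Fin r => H) (CohB1.tensorPow L 2))
  constructor
  · rw [IntAlt.alt_succ]
    simp only [Fin.cons_zero, Fin.cons_succ]
    rw [← e0, ← e1]
    refine (abs_sub _ _).trans ?_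
    linarith
  · rw [IntAlt.alt_succ, IntAlt.alt_succ, IntAlt.alt_succ]
    simp only [Fin.cons_zero, Fin.cons_succ]
    rw [← e0, ← e1, ← e2]
    refine (abs_sub _ _).trans ((add_le_add (abs_sub _ _) (abs_sub _ _)).trans ?_)
    linarith

variable {H : Y.Modules} (φ : Coh.structureModule Y ⟶ H)

/-- The modules whose restriction to the zero scheme lies in the family. -/
def Pre (P : ((PicF2.zeroScheme H φ).subscheme).Modules → Prop) (M : Y.Modules) : Prop :=
  PicF.IsInvertible M ∧ ∃ L, P L ∧ Nonempty ((Scheme.Modules.pullback (PicF2.zeroScheme H φ).subschemeι).obj M ≅ L)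

/-- On a closed point set inside the zero scheme the family is bounded. -/
theorem bounded_closure (hH : CohB1.IsAmple H) {P : ((PicF2.zeroScheme H φ).subscheme).Modules → Prop}
    (hP : @Pic13.IsBounded k _ (PicF2.zeroScheme H φ).subscheme
      ⟨(PicF2.zeroScheme H φ).subschemeι ≫ (Y ↘ Spec (CommRingCat.of k))⟩ P)
    {z : Y} (hz : z ∉ CohB1.genLocus H φ) :
    @Pic13.IsBounded k _ (IntMult.ptIdeal z).subscheme
      ⟨(IntMult.ptIdeal z).subschemeι ≫ (Y ↘ Spec (CommRingCat.of k))⟩
      (fun A => ∃ M, Pre φ P M ∧ Nonempty ((Scheme.Modules.pullback (IntMult.ptIdeal z).subschemeι).obj M ≅ A)) := by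
  let K := PicF2.zeroScheme H φ
  let j := (IntMult.ptIdeal z).subschemeι
  letI : K.subscheme.Over (Spec (CommRingCat.of k)) := ⟨K.subschemeι ≫ (Y ↘ Spec (CommRingCat.of k))⟩
  letI : (IntMult.ptIdeal z).subscheme.Over (Spec (CommRingCat.of k)) := ⟨j ≫ (Y ↘ Spec (CommRingCat.of k))⟩
  haveI : IsProper (K.subscheme ↘ Spec (CommRingCat.of k)) :=
    show IsProper (K.subschemeι ≫ (Y ↘ Spec (CommRingCat.of k))) from inferInstance
  haveI : IsProper ((IntMult.ptIdeal z).subscheme ↘ Spec (CommRingCat.of k)) :=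
    show IsProper (j ≫ (Y ↘ Spec (CommRingCat.of k))) from inferInstance
  have hkle : K.subschemeι.ker ≤ j.ker := by
    rw [Scheme.IdealSheafData.ker_subschemeι, Scheme.IdealSheafData.ker_subschemeι, IntMult.ptIdeal,
      ← Scheme.IdealSheafData.le_support_iff_le_vanishingIdeal]
    intro y hy
    have h1 : y ∈ closure ({z} : Set Y) := hy
    refine closure_minimal ?_ K.support.isClosed h1
    intro w hw
    rw [Set.mem_singleton_iff] at hw
    subst hw
    have h2 := (Pic13Lib.Hodge.mem_range_zeroScheme_iff hH.1 φ _).2 hz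
    rw [Scheme.IdealSheafData.range_subschemeι] at h2
    exact h2
  let g := IsClosedImmersion.lift K.subschemeι j hkle
  have hg : g ≫ K.subschemeι = j := IsClosedImmersion.lift_fac _ _ _
  refine Pic13Lib.isBounded_mono ?_ (Pic13Lib.Bdd.isBounded_pullback (k := k) g (by
    show g ≫ K.subschemeι ≫ _ = _
    rw [← Category.assoc, hg]
    rfl) hP)
  rintro A ⟨M, ⟨-, L, hL, ⟨e⟩⟩, ⟨e'⟩⟩
  exact ⟨L, hL, ⟨(Scheme.Modules.pullback g).mapIso e.symm ≪≫ (Scheme.Modules.pullbackComp g K.subschemeι).app M ≪≫
    (Scheme.Modules.pullbackCongr hg).app M ≪≫ e'⟩⟩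

/-- Bounded numbers on a closed point set inside the zero scheme. -/
theorem closure_numbers (hH : CohB1.IsAmple H) {P : ((PicF2.zeroScheme H φ).subscheme).Modules → Prop}
    (hP : @Pic13.IsBounded k _ (PicF2.zeroScheme H φ).subscheme
      ⟨(PicF2.zeroScheme H φ).subschemeι ≫ (Y ↘ Spec (CommRingCat.of k))⟩ P)
    {T : Scheme.{u}} [T.Over (Spec (CommRingCat.of k))] [IsProper (T ↘ Spec (CommRingCat.of k))] (j : T ⟶ Y)
    [IsClosedImmersion j] (hj : j ≫ (Y ↘ Spec (CommRingCat.of k)) = T ↘ Spec (CommRingCat.of k)) {r : ℕ} {z : T}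
    (hz : SnapLead.δ k z = ((r + 2 : ℕ) : ℤ)) (hzl : j z ∉ CohB1.genLocus H φ) :
    ∃ B : ℤ, ∀ M, Pre φ P M →
      |alt k (r + 2) (Fin.cons ((Scheme.Modules.pullback j).obj M) fun _ => (Scheme.Modules.pullback j).obj H)
        (Cyc.closureStructureSheaf z)| ≤ B ∧
      |alt k (r + 2) (Fin.cons ((Scheme.Modules.pullback j).obj M) (Fin.cons ((Scheme.Modules.pullback j).obj M)
        fun _ => (Scheme.Modules.pullback j).obj H)) (Cyc.closureStructureSheaf z)| ≤ B := by
  haveI := CurveCohLib.isNoetherian_of_proper (k := k) (X := T)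
  let Z := (IntMult.ptIdeal z).subscheme
  let ι : Z ⟶ T := (IntMult.ptIdeal z).subschemeι
  haveI : IsIntegral Z := QCoh.isIntegral_closure_point z
  letI : Z.Over (Spec (CommRingCat.of k)) := ⟨ι ≫ (T ↘ Spec (CommRingCat.of k))⟩
  haveI : IsProper (Z ↘ Spec (CommRingCat.of k)) := show IsProper (ι ≫ (T ↘ Spec (CommRingCat.of k))) from inferInstance
  let W := (IntMult.ptIdeal (j z)).subscheme
  letI : W.Over (Spec (CommRingCat.of k)) := ⟨(IntMult.ptIdeal (j z)).subschemeι ≫ (Y ↘ Spec (CommRingCat.of k))⟩
  haveI : IsProper (W ↘ Spec (CommRingCat.of k)) :=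
    show IsProper ((IntMult.ptIdeal (j z)).subschemeι ≫ (Y ↘ Spec (CommRingCat.of k))) from inferInstance
  have hsp : ∀ c, j z ⤳ (ι ≫ j) c := fun c => by
    have h : ι c ∈ closure ({z} : Set T) := by
      have h0 : ι c ∈ Set.range ι := ⟨c, rfl⟩
      rw [Scheme.IdealSheafData.range_subschemeι, IntMult.ptIdeal,
        Scheme.IdealSheafData.coe_support_vanishingIdeal] at h0
      exact h0
    exact (specializes_iff_mem_closure.2 h).map j.continuous
  obtain ⟨g, -, hg⟩ := Pic13Lib.Hodge.exists_lift_closure (ι ≫ j) (j z) hsp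
  have hdim : topologicalKrullDim Z = ((r + 2 : ℕ) : WithBot ℕ∞) := by
    refine (IsHomeomorph.topologicalKrullDim_eq _
      (ι.isClosedEmbedding.isEmbedding.toHomeomorph.isHomeomorph)).trans ?_
    rw [Scheme.IdealSheafData.range_subschemeι, IntMult.ptIdeal, Scheme.IdealSheafData.coe_support_vanishingIdeal]
    exact (IntAlt.delta_eq_iff k z (r + 2)).2 hz
  let HT := (Scheme.Modules.pullback j).obj H
  have hHT : PicF.IsInvertible HT := PicClLib.isInvertible_pullback j hH.1
  let HZ := (Scheme.Modules.pullback ι).obj HT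
  have hb := Pic13Lib.Bdd.isBounded_pullback (k := k) (X := W) (Y := Z) g (by
    show g ≫ (IntMult.ptIdeal (j z)).subschemeι ≫ _ = _
    rw [← Category.assoc, hg, Category.assoc, hj]
    rfl) (bounded_closure φ hH hP hzl)
  obtain ⟨B₁, hB₁⟩ := bounded_numbers (PicClLib.isInvertible_pullback ι hHT) hb (r + 1)
  obtain ⟨B₂, hB₂⟩ := bounded_numbers (PicClLib.isInvertible_pullback ι hHT) hb r
  refine ⟨max B₁ B₂, fun M hM => ?_⟩
  let MT := (Scheme.Modules.pullback j).obj M
  let MZ := (Scheme.Modules.pullback ι).obj MT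
  have hMT : PicF.IsInvertible MT := PicClLib.isInvertible_pullback j hM.1
  have hmem : ∃ A, (∃ M', Pre φ P M' ∧
      Nonempty ((Scheme.Modules.pullback (IntMult.ptIdeal (j z)).subschemeι).obj M' ≅ A)) ∧
      Nonempty ((Scheme.Modules.pullback g).obj A ≅ MZ) :=
    ⟨_, ⟨M, hM, ⟨Iso.refl _⟩⟩, ⟨(Scheme.Modules.pullbackComp g _).app M ≪≫ (Scheme.Modules.pullbackCongr hg).app M ≪≫
      ((Scheme.Modules.pullbackComp ι j).app M).symm⟩⟩
  constructor
  · rw [show alt k (r + 2) (Fin.cons MT fun _ => HT) (Cyc.closureStructureSheaf z) =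
        alt k (r + 2) (Fin.cons MZ fun _ => HZ) (Coh.structureModule Z) by
      rw [show (Fin.cons MZ fun _ => HZ : Fin (r + 2) → Z.Modules) =
        fun i => (Scheme.Modules.pullback ι).obj ((Fin.cons MT fun _ => HT : Fin (r + 2) → T.Modules) i) from
        funext fun i => by induction i using Fin.cases <;> rfl]
      rw [Pic13Lib.alt_push ι rfl (fun i => by
        induction i using Fin.cases with
        | zero => simpa using hMT
        | succ i => simpa using hHT) (TopInt.cohLe_structure k hdim.le)]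
      rfl]
    exact ((hB₁ MZ hmem).1).trans (le_max_left _ _)
  · rw [show alt k (r + 2) (Fin.cons MT (Fin.cons MT fun _ => HT)) (Cyc.closureStructureSheaf z) =
        alt k (r + 2) (Fin.cons MZ (Fin.cons MZ fun _ => HZ)) (Coh.structureModule Z) by
      rw [show (Fin.cons MZ (Fin.cons MZ fun _ => HZ) : Fin (r + 2) → Z.Modules) =
        fun i => (Scheme.Modules.pullback ι).obj ((Fin.cons MT (Fin.cons MT fun _ => HT) : Fin (r + 2) → T.Modules) i) from
        funext fun i => by
          induction i using Fin.cases with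
          | zero => rfl
          | succ i => induction i using Fin.cases <;> rfl]
      rw [Pic13Lib.alt_push ι rfl (fun i => by
        induction i using Fin.cases with
        | zero => simpa using hMT
        | succ i => induction i using Fin.cases with
          | zero => simpa using hMT
          | succ i => simpa using hHT) (TopInt.cohLe_structure k hdim.le)]
      rfl]
    exact ((hB₂ MZ hmem).2).trans (le_max_right _ _)

/-- On one component the family has finitely many numerical classes. -/
theorem finClasses_component [IsAlgClosed k] (hH : CohB1.IsAmple H)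
    (hdim : ∀ Z ∈ irreducibleComponents (Y : Type u),
      ∀ W ∈ irreducibleComponents ↥(Z ∩ Set.range (PicF2.zeroScheme H φ).subschemeι.base), 2 ≤ topologicalKrullDim ↥W)
    {P : ((PicF2.zeroScheme H φ).subscheme).Modules → Prop}
    (hP : @Pic13.IsBounded k _ (PicF2.zeroScheme H φ).subscheme
      ⟨(PicF2.zeroScheme H φ).subschemeι ≫ (Y ↘ Spec (CommRingCat.of k))⟩ P)
    {ξ : Y} (hξ : closure ({ξ} : Set Y) ∈ irreducibleComponents (Y : Type u)) :
    @Pic13Lib.Hodge.FinClasses k _ (IntMult.ptIdeal ξ).subscheme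
      ⟨(IntMult.ptIdeal ξ).subschemeι ≫ (Y ↘ Spec (CommRingCat.of k))⟩
      (fun A => ∃ M, Pre φ P M ∧ Nonempty ((Scheme.Modules.pullback (IntMult.ptIdeal ξ).subschemeι).obj M ≅ A)) := by
  classical
  haveI := CurveCohLib.isNoetherian_of_proper (k := k) (X := Y)
  let T := (IntMult.ptIdeal ξ).subscheme
  let j : T ⟶ Y := (IntMult.ptIdeal ξ).subschemeι
  haveI : IsIntegral T := QCoh.isIntegral_closure_point ξ
  letI : T.Over (Spec (CommRingCat.of k)) := ⟨j ≫ (Y ↘ Spec (CommRingCat.of k))⟩
  haveI : IsProper (T ↘ Spec (CommRingCat.of k)) :=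
    show IsProper (j ≫ (Y ↘ Spec (CommRingCat.of k))) from inferInstance
  let PT : T.Modules → Prop := fun A => ∃ M, Pre φ P M ∧ Nonempty ((Scheme.Modules.pullback j).obj M ≅ A)
  have hinv : ∀ A, PT A → PicF.IsInvertible A := fun A ⟨M, hM, ⟨e⟩⟩ =>
    PicMul.isInvertible_of_iso e (PicClLib.isInvertible_pullback j hM.1)
  show Pic13Lib.Hodge.FinClasses k T PT
  by_cases hin : ξ ∈ CohB1.genLocus H φ
  swap
  · exact Pic13Lib.Hodge.finClasses_of_bounded (bounded_closure φ hH hP hin) hinv
  haveI := CurveCohLib.isNoetherian_of_proper (k := k) (X := T)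
  haveI : CompactSpace T := QuasiCompact.compactSpace_of_compactSpace (j ≫ (Y ↘ Spec (CommRingCat.of k)))
  have hrange : Set.range j = closure {ξ} := by
    rw [Scheme.IdealSheafData.range_subschemeι, IntMult.ptIdeal, Scheme.IdealSheafData.coe_support_vanishingIdeal]
    rfl
  obtain ⟨g, hg⟩ : ∃ g : ℕ, SnapLead.δ k ξ = (g : ℤ) := ⟨_, Pic13Lib.NumTriv.delta_eq_deg ξ⟩
  have hdimT : topologicalKrullDim T = ((g : ℕ) : WithBot ℕ∞) := by
    refine (IsHomeomorph.topologicalKrullDim_eq _
      (j.isClosedEmbedding.isEmbedding.toHomeomorph.isHomeomorph)).trans ?_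
    rw [hrange]
    exact (IntAlt.delta_eq_iff k ξ g).2 hg
  match g, hg, hdimT with
  | 0, _, hdimT =>
    refine ⟨PUnit.{u + 1}, inferInstance, fun _ _ => True, fun A _ => ⟨⟨⟩, trivial⟩, fun _ A A' A'' _ _ _ _ _ _ C ι _ _ hC => ?_⟩
    have h := ι.isClosedEmbedding.isInducing.topologicalKrullDim_le
    rw [hC, hdimT] at h
    exact absurd h (by decide)
  | s + 1, hg, hdimT =>
    let HT := (Scheme.Modules.pullback j).obj H
    have hHT : CohB1.IsAmple HT := AmpleVan.FiniteSurj.isAmple_pullback_of_isAffineHom j hH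
    obtain ⟨σ, hσ⟩ := Pic13Lib.exists_section_pullback j hH.1 (InvX.one φ)
    have hloc : ∀ z, z ∈ locus σ ↔ j z ∈ CohB1.genLocus H φ := fun z => by
      rw [hσ]
      show j z ∈ CohB1.genLocus _ (InvX.ofSect _) ↔ _
      rw [AVAmple.ofSect_one]
    have hgen : genericPoint T ∈ locus σ := by
      obtain ⟨z, hz⟩ : ξ ∈ Set.range j := hrange ▸ subset_closure rfl
      exact (genericPoint_specializes z).mem_open (locus σ).isOpen ((hloc z).2 (hz ▸ hin))
    have hσ0 : σ ≠ 0 := fun h => by
      obtain ⟨U, hU, hUf⟩ := mem_locus_iff.1 hgen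
      rw [h, map_zero] at hUf
      haveI : Nonempty U := ⟨⟨_, hU⟩⟩
      exact zero_ne_one (hUf.coord_unique le_rfl (r := (0 : Γ(T, U))) (r' := 1) (by simp))
    let f := InvX.ofSect σ
    haveI := CurveAmple.mono_ofSect hHT.1 hσ0
    let S := ShortComplex.mk f (cokernel.π f) (cokernel.condition f)
    have hS : S.ShortExact :=
      .mk' (ShortComplex.exact_of_g_is_cokernel _ (cokernelIsCokernel f)) inferInstance inferInstance
    have hOc : Coh.IsCoh (Coh.structureModule T) := QCoh.isCoh_structureModule'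
    have hPc := AmpleVan.isCoh_invertible hHT.1
    have hQc : Coh.IsCoh (cokernel f) := QCoh.isCoh_cokernel hOc.1 hPc f
    have hsupp : ∀ z, z ∈ CohB1.support (cokernel f) → z ∉ locus σ := fun z hz => CurveAmple.support_cokernel_subset σ hz
    have hQ : Cyc.CohLe (SnapLead.δ k) s (cokernel f) := by
      refine ⟨hQc, fun z hz => ?_⟩
      have hzl : z ∉ locus σ := hsupp z (not_subsingleton_iff_nontrivial.2 hz)
      have h := (SnapLead.isDimFun k (genericPoint T) z (genericPoint_specializes z) (fun e => hzl (e ▸ hgen))).1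
      rw [TopInt.delta_generic k hdimT] at h
      push_cast at h
      omega
    have hstep : ∀ M : Fin s → T.Modules, (∀ i, PicF.IsInvertible (M i)) →
        alt k (s + 1) (Fin.cons HT M) (Coh.structureModule T) = -alt k s M (cokernel f) := fun M hM => by
      rw [IntAlt.alt_succ]
      simp only [Fin.cons_zero, Fin.cons_succ]
      rw [show alt k s M (CohB1.tensorMod (Coh.structureModule T) HT) = alt k s M HT from by
          rw [IntAlt.alt_eq_sum, IntAlt.alt_eq_sum, cl_tensor, ← PicMul.one_def, one_mul],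
        IntNumCycle.alt_add k s M hM hS hOc hPc hQc]
      ring
    by_cases hs : s ≤ 1
    · exfalso
      have hne : ∀ z, z ∈ locus σ := by
        intro z
        by_contra hz
        have hzX : j z ∈ closure ({ξ} : Set Y) ∩ Set.range (PicF2.zeroScheme H φ).subschemeι :=
          ⟨hrange.le ⟨z, rfl⟩, (Pic13Lib.Hodge.mem_range_zeroScheme_iff hH.1 φ (j z)).2 fun h => hz ((hloc z).2 h)⟩
        let A : Set Y := closure ({ξ} : Set Y) ∩ Set.range (PicF2.zeroScheme H φ).subschemeι
        have h := hdim _ hξ _ (irreducibleComponent_mem_irreducibleComponents (⟨j z, hzX⟩ : ↥A))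
        have hA : IsClosed A :=
          isClosed_closure.inter (PicF2.zeroScheme H φ).subschemeι.isClosedEmbedding.isClosed_range
        have hle : topologicalKrullDim ↥A ≤ ((s : ℕ) : WithBot ℕ∞) := by
          rw [VarDim.topologicalKrullDim_set_eq_iSup_deg (Y ↘ Spec (CommRingCat.of k)) hA]
          refine iSup_le fun ⟨y, hy⟩ => ?_
          have hne' : y ≠ ξ := fun e => (Pic13Lib.Hodge.mem_range_zeroScheme_iff hH.1 φ y).1 hy.2 (e ▸ hin)
          have h2 := (SnapLead.isDimFun k ξ y (specializes_iff_mem_closure.2 hy.1) (Ne.symm hne')).1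
          rw [hg, Pic13Lib.NumTriv.delta_eq_deg] at h2
          have : VarDim.deg (Y ↘ Spec (CommRingCat.of k)) y ≤ s := by push_cast at h2; omega
          exact_mod_cast this
        have h3 := (h.trans (Topology.IsEmbedding.subtypeVal.isInducing.topologicalKrullDim_le)).trans hle
        have : (2 : ℕ) ≤ s := by exact_mod_cast h3
        omega
      have h0 := Pic13Lib.alt_structure_pos (k := k) (s + 1) T hdimT (fun _ => HT) fun _ => hHT
      rw [show (fun _ : Fin (s + 1) => HT) = Fin.cons HT (fun _ => HT) from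
          funext fun i => by induction i using Fin.cases <;> rfl, hstep _ fun _ => hHT.1,
        IntAlt.alt_eq_sum_closure k (fun _ => hHT.1) hQ ∅ (fun z hz => absurd hz (Finset.notMem_empty z))
          (fun z hz => absurd (hne z) (hsupp z
            (not_subsingleton_iff_nontrivial.2 (CycleClassK.nontrivial_of_sheafFun hz).2))),
        Finset.sum_empty, neg_zero, mul_zero] at h0
      exact lt_irrefl _ h0
    obtain ⟨t, rfl⟩ : ∃ t, s = t + 2 := ⟨s - 2, by omega⟩
    have hfin := IntAlt.finite_sheafFun k hQ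
    have hδ : ∀ z ∈ hfin.toFinset, SnapLead.δ k z = ((t + 2 : ℕ) : ℤ) := fun z hz =>
      (CycleClassK.nontrivial_of_sheafFun (hfin.mem_toFinset.1 hz)).1
    choose b hb using fun z : hfin.toFinset => closure_numbers φ hH hP j rfl (r := t) (hδ z z.2) (fun h =>
      hsupp z.1 (not_subsingleton_iff_nontrivial.2
        (CycleClassK.nontrivial_of_sheafFun (hfin.mem_toFinset.1 z.2)).2) ((hloc z.1).2 h))
    let B : ℤ := ∑ z : hfin.toFinset, |Cyc.sheafFun (SnapLead.δ k) ((t + 2 : ℕ) : ℤ) (cokernel f) z.1| * |b z|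
    obtain ⟨κ, hκ, C, hcov, hC⟩ := Pic13Lib.Hodge.finClasses_deg_sq (t + 1) k T hdimT HT hHT B
    have hsub : ∀ A, PT A → Pic13Lib.Hodge.BdDegSq k (t + 1) HT B A := by
      intro A hA
      obtain ⟨M, hM, ⟨e⟩⟩ := hA
      let MT := (Scheme.Modules.pullback j).obj M
      have hMT : PicF.IsInvertible MT := PicClLib.isInvertible_pullback j hM.1
      have hsum : ∀ (N : Fin (t + 2) → T.Modules), (∀ i, PicF.IsInvertible (N i)) →
          (∀ z : hfin.toFinset, |alt k (t + 2) N (Cyc.closureStructureSheaf z.1)| ≤ |b z|) →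
          |alt k (t + 2) N (cokernel f)| ≤ B := by
        intro N hN hz
        rw [IntAlt.alt_eq_sum_closure k hN hQ hfin.toFinset hδ (fun z hz => hfin.mem_toFinset.2 hz),
          ← Finset.sum_coe_sort hfin.toFinset]
        refine (Finset.abs_sum_le_sum_abs _ _).trans (Finset.sum_le_sum fun z _ => ?_)
        rw [abs_mul]
        exact mul_le_mul_of_nonneg_left (hz z) (abs_nonneg _)
      have hHH : ∀ r : ℕ, (Fin.cons HT fun _ : Fin r => HT : Fin (r + 1) → T.Modules) = fun _ => HT := fun r =>
        funext fun i => by induction i using Fin.cases <;> rfl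
      have x1 : |alt k (t + 3) (Fin.cons MT fun _ => HT) (Coh.structureModule T)| ≤ B := by
        rw [← hHH (t + 1), Pic13Lib.Hodge.alt_swap, hstep _ (fun i => by
          induction i using Fin.cases with
          | zero => simpa using hMT
          | succ i => simpa using hHT.1), abs_neg]
        exact hsum _ (fun i => by
          induction i using Fin.cases with
          | zero => simpa using hMT
          | succ i => simpa using hHT.1) fun z => ((hb z M hM).1).trans (le_abs_self _)
      have x2 : |alt k (t + 3) (Fin.cons MT (Fin.cons MT fun _ => HT)) (Coh.structureModule T)| ≤ B := by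
        rw [show alt k (t + 3) (Fin.cons MT (Fin.cons MT fun _ : Fin (t + 1) => HT)) (Coh.structureModule T) =
            alt k (t + 3) (Fin.cons MT (Fin.cons HT (Fin.cons MT fun _ : Fin t => HT))) (Coh.structureModule T) from by
              rw [IntAlt.alt_succ, IntAlt.alt_succ k (Fin.cons MT (Fin.cons HT _))]
              simp only [Fin.cons_zero, Fin.cons_succ]
              rw [Pic13Lib.Hodge.alt_swap HT MT, Pic13Lib.Hodge.alt_swap HT MT, hHH],
          Pic13Lib.Hodge.alt_swap, hstep _ (fun i => by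
            induction i using Fin.cases with
            | zero => simpa using hMT
            | succ i => induction i using Fin.cases with
              | zero => simpa using hMT
              | succ i => simpa using hHT.1), abs_neg]
        exact hsum _ (fun i => by
            induction i using Fin.cases with
            | zero => simpa using hMT
            | succ i => induction i using Fin.cases with
              | zero => simpa using hMT
              | succ i => simpa using hHT.1) fun z => ((hb z M hM).2).trans (le_abs_self _)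
      have hcl : ∀ {r : ℕ} (N : Fin r → T.Modules),
          alt k (r + 1) (Fin.cons A N) (Coh.structureModule T) = alt k (r + 1) (Fin.cons MT N) (Coh.structureModule T) :=
        fun N => IntAlt.alt_congr_cl (X := T) k (fun i => by
          induction i using Fin.cases with
          | zero => simpa using cl_eq_iff.2 ⟨e.symm⟩
          | succ i => simp) _
      refine ⟨hinv A ⟨M, hM, ⟨e⟩⟩, (le_of_eq (congrArg abs (hcl _))).trans x1, ?_⟩
      have h3 : alt k (t + 3) (Fin.cons A (Fin.cons A fun _ => HT)) (Coh.structureModule T) =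
          alt k (t + 3) (Fin.cons MT (Fin.cons MT fun _ => HT)) (Coh.structureModule T) :=
        IntAlt.alt_congr_cl (X := T) k (fun i => by
          induction i using Fin.cases with
          | zero => simpa using cl_eq_iff.2 ⟨e.symm⟩
          | succ i => induction i using Fin.cases with
            | zero => simpa using cl_eq_iff.2 ⟨e.symm⟩
            | succ i => simp) _
      rw [h3]
      have h4 := abs_le.1 x2
      rcases neg_one_pow_eq_or ℤ (t + 1) with e' | e' <;> rw [e'] <;> linarith
    exact ⟨κ, hκ, C, fun A hA => hcov A (hsub A hA), fun c A A' A'' hc hc' hA hA' hA'' h =>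
      hC c A A' A'' hc hc' (hsub A hA) (hsub A' hA') hA'' h⟩

/-- The family is bounded. -/
theorem bounded_preimage [IsAlgClosed k] (hH : CohB1.IsAmple H)
    (hdim : ∀ Z ∈ irreducibleComponents (Y : Type u),
      ∀ W ∈ irreducibleComponents ↥(Z ∩ Set.range (PicF2.zeroScheme H φ).subschemeι.base), 2 ≤ topologicalKrullDim ↥W)
    {P : ((PicF2.zeroScheme H φ).subscheme).Modules → Prop}
    (hP : @Pic13.IsBounded k _ (PicF2.zeroScheme H φ).subscheme
      ⟨(PicF2.zeroScheme H φ).subschemeι ≫ (Y ↘ Spec (CommRingCat.of k))⟩ P) :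
    Pic13.IsBounded k Y (Pre φ P) := by
  classical
  haveI := CurveCohLib.isNoetherian_of_proper (k := k) (X := Y)
  have hfin : (irreducibleComponents (Y : Type u)).Finite := TopologicalSpace.NoetherianSpace.finite_irreducibleComponents
  haveI : Finite ↥(irreducibleComponents (Y : Type u)) := hfin.to_subtype
  let gen : irreducibleComponents (Y : Type u) → Y := fun Z => Z.2.1.genericPoint
  have hgen : ∀ Z : irreducibleComponents (Y : Type u), IsGenericPoint (gen Z) Z.1 := fun Z =>
    Z.2.1.isGenericPoint_genericPoint (isClosed_of_mem_irreducibleComponents _ Z.2)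
  choose κ hκ C hcov hC using fun Z : irreducibleComponents (Y : Type u) =>
    finClasses_component φ hH hdim hP (ξ := gen Z) (by rw [(hgen Z).def]; exact Z.2)
  haveI := hκ
  refine Pic13Lib.Bdd.isBounded_of_classes (fun M hM => hM.1) (κ := ∀ Z, κ Z)
    (fun c M => ∀ Z, C Z (c Z) ((Scheme.Modules.pullback (IntMult.ptIdeal (gen Z)).subschemeι).obj M))
    (fun M hM => ?_) fun c L L' L'' hc hc' hL hL' hL'' h => ⟨InvX.isInvertible_tensorMod hL.1 hL'', ?_⟩
  · choose c hc using fun Z => hcov Z _ ⟨M, hM, ⟨Iso.refl _⟩⟩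
    exact ⟨c, hc⟩
  intro D ι _ hDi hD
  haveI := hDi
  let Z : irreducibleComponents (Y : Type u) :=
    ⟨irreducibleComponent (ι (genericPoint D)), irreducibleComponent_mem_irreducibleComponents _⟩
  obtain ⟨ι', hι', hfac⟩ := Pic13Lib.Hodge.exists_lift_closure ι (gen Z) fun d =>
    ((hgen Z).specializes mem_irreducibleComponent).trans ((genericPoint_specializes d).map ι.continuous)
  haveI := hι'
  let j := (IntMult.ptIdeal (gen Z)).subschemeι
  letI : (IntMult.ptIdeal (gen Z)).subscheme.Over (Spec (CommRingCat.of k)) := ⟨j ≫ (Y ↘ Spec (CommRingCat.of k))⟩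
  have hnum := hC Z (c Z) _ _ ((Scheme.Modules.pullback j).obj L'') (hc Z) (hc' Z) ⟨L, hL, ⟨Iso.refl _⟩⟩
    ⟨L', hL', ⟨Iso.refl _⟩⟩ (PicClLib.isInvertible_pullback j hL'') (by
      show PicF.pullCl j (PicF.cl L') * PicF.pullCl j (PicF.cl L'') = 1
      rw [← PicMul.pullCl_mul, h, PicMul.pullCl_one]) D ι' hDi hD
  rw [← hnum, show ι' ≫ ((IntMult.ptIdeal (gen Z)).subscheme ↘ Spec (CommRingCat.of k)) =
      ι ≫ (Y ↘ Spec (CommRingCat.of k)) by
    show ι' ≫ j ≫ _ = _
    rw [← Category.assoc, hfac]]
  obtain ⟨w⟩ := PicMul.pull j L L''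
  exact Pic13Lib.NumTriv.curveDeg_congr k _ (((Scheme.Modules.pullbackCongr hfac).app _).symm ≪≫
    ((Scheme.Modules.pullbackComp ι' j).app _).symm ≪≫ (Scheme.Modules.pullback ι').mapIso w)



/-- First assertion: over S = Spec k with k algebraically closed: let Y be a proper k-scheme with an
ample invertible module H, φ a global section of H, and i : X ⟶ Y the inclusion of the zero scheme
of φ. Assume that for every irreducible component Z of Y, every irreducible component of Z ∩ X has
dimension ≥ 2. Then for every bounded family P of O_X-modules, the family of invertible O_Y-modules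
whose restriction to X is isomorphic to a member of P is bounded. -/
theorem result (k : Type u) [Field k] [IsAlgClosed k] (Y : Scheme.{u}) [Y.Over (Spec (CommRingCat.of k))]
    [IsProper (Y ↘ Spec (CommRingCat.of k))] (H : Y.Modules) (hH : CohB1.IsAmple H) (φ : Coh.structureModule Y ⟶ H)
    (hdim : ∀ Z ∈ irreducibleComponents (Y : Type u),
      ∀ W ∈ irreducibleComponents ↥(Z ∩ Set.range (PicF2.zeroScheme H φ).subschemeι.base), 2 ≤ topologicalKrullDim ↥W)
    (P : ((PicF2.zeroScheme H φ).subscheme).Modules → Prop)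
    (hP : @Pic13.IsBounded k _ (PicF2.zeroScheme H φ).subscheme ⟨(PicF2.zeroScheme H φ).subschemeι ≫ (Y ↘ Spec (CommRingCat.of k))⟩ P) :
    Pic13.IsBounded k Y (fun M : Y.Modules => PicF.IsInvertible M ∧
      ∃ L, P L ∧ Nonempty ((Scheme.Modules.pullback (PicF2.zeroScheme H φ).subschemeι).obj M ≅ L)) := by
  exact bounded_preimage φ hH hdim hP

end Groth.Agent.S4293
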