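import Groth.Statements.S4301
import Groth.Agent.Pic13Lib.Hodge.TauEuler
import Groth.Agent.AmpleX.BaseChange
import Groth.Agent.AmpleX.RelAffine
import Groth.Agent.S9695
import Groth.Agent.H28.KRRReg
import Groth.Agent.H23.Seesaw
import Groth.Agent.FibDim.BaseField

set_option autoImplicit false
universe u
open CategoryTheory CategoryTheory.Limits AlgebraicGeometry
open Pic13

namespace Groth.Agent.S4301
open Groth.Agent Groth.Agent.Pic13Lib Groth.Agent.H23 Groth.Agent.H23.PicMul
open CategoryTheory CategoryTheory.Limits AlgebraicGeometry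
attribute [local instance] PicMul.clMonoid
set_option backward.isDefEq.respectTransparency false
set_option backward.isDefEq.respectTransparency.types false
set_option maxHeartbeats 1000000

/-- A geometric point at every point. -/
theorem exists_geom_point {S : Scheme.{u}} (s : S) :
    ∃ (Ω : Type u) (_ : Field Ω) (_ : IsAlgClosed Ω) (σ : Spec (CommRingCat.of Ω) ⟶ S),
      σ (IsLocalRing.closedPoint Ω) = s ∧ Set.range σ.base = {s} := by
  let κ : Type u := S.residueField s
  letI : Field κ := inferInstanceAs (Field (S.residueField s))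
  let e : CommRingCat.of κ ⟶ CommRingCat.of (AlgebraicClosure κ) :=
    CommRingCat.ofHom (algebraMap κ (AlgebraicClosure κ))
  haveI := FibDim.subsingleton_spec_field (AlgebraicClosure κ)
  have hs : (Spec.map e ≫ S.fromSpecResidueField s) (IsLocalRing.closedPoint (AlgebraicClosure κ)) = s := by
    rw [Scheme.Hom.comp_apply]
    exact Scheme.fromSpecResidueField_apply _ _
  refine ⟨AlgebraicClosure κ, inferInstance, inferInstance, _, hs, Set.Subset.antisymm ?_ ?_⟩
  · rintro _ ⟨z, rfl⟩
    rw [Subsingleton.elim z (IsLocalRing.closedPoint (AlgebraicClosure κ))]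
    exact hs
  · rintro _ rfl
    exact ⟨_, hs⟩

/-- τ-triviality on a geometric fibre through Euler characteristics of the fibre. -/
theorem tau_fibre_iff {X S : Scheme.{u}} [IsLocallyNoetherian X] (f : X ⟶ S) [IsProper f] {H : X.Modules}
    (hH : RelAmple.IsRelAmple f H) (hHi : PicF.IsInvertible H) {L : X.Modules} (hL : PicF.IsInvertible L)
    (Ω : Type u) [Field Ω] [IsAlgClosed Ω] (σ : Spec (CommRingCat.of Ω) ⟶ S) [IrreducibleSpace ↥(pullback f σ)] :
    @Pic13.IsTauEquivZero Ω _ (pullback f σ) ⟨pullback.snd f σ⟩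
        ((Scheme.Modules.pullback (pullback.fst f σ)).obj L) ↔
      ∀ a n : ℕ, a ≤ 2 → PerfAux.eulerChar f (CohB1.tensorMod (CohB1.tensorPow L a) (CohB1.tensorPow H n))
          (σ (IsLocalRing.closedPoint Ω)) =
        PerfAux.eulerChar f (CohB1.tensorPow H n) (σ (IsLocalRing.closedPoint Ω)) := by
  letI : (pullback f σ).Over (Spec (CommRingCat.of Ω)) := ⟨pullback.snd f σ⟩
  haveI : IsProper (pullback f σ ↘ Spec (CommRingCat.of Ω)) :=
    MorphismProperty.pullback_snd f σ ‹IsProper f›
  haveI : QuasiCompact (pullback.snd f σ) := MorphismProperty.pullback_snd f σ inferInstance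
  let HΩ := (Scheme.Modules.pullback (pullback.fst f σ)).obj H
  let LΩ := (Scheme.Modules.pullback (pullback.fst f σ)).obj L
  have hHΩ : CohB1.IsAmple HΩ :=
    (AmpleX.isRelAmple_iff_isAmple (pullback.snd f σ) HΩ).1 (AmpleX.isRelAmple_baseChange f σ hH)
  have hLΩ : PicF.IsInvertible LΩ := PicClLib.isInvertible_pullback _ hL
  have key : ∀ a n : ℕ, SurfPairing.χ Ω (PicF.cl LΩ ^ a * PicF.cl HΩ ^ n) =
      PerfAux.eulerChar f (CohB1.tensorMod (CohB1.tensorPow L a) (CohB1.tensorPow H n))
        (σ (IsLocalRing.closedPoint Ω)) := by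
    intro a n
    have hi := InvX.isInvertible_tensorMod (InvX.isInvertible_tensorPow hL a) (InvX.isInvertible_tensorPow hHi n)
    rw [← Hodge.euler_geometric_fibre f Ω σ _ (AmpleVan.isCoh_invertible hi).1]
    show SurfPairing.χ Ω (PicF.pullCl (pullback.fst f σ) (PicF.cl L) ^ a *
      PicF.pullCl (pullback.fst f σ) (PicF.cl H) ^ n) = _
    rw [← PicMul.pullCl_pow, ← PicMul.pullCl_pow, ← PicMul.pullCl_mul, ← cl_tensorPow, ← cl_tensorPow, ← cl_tensor]
    rfl
  have key₀ : ∀ n : ℕ, SurfPairing.χ Ω (PicF.cl HΩ ^ n) =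
      PerfAux.eulerChar f (CohB1.tensorPow H n) (σ (IsLocalRing.closedPoint Ω)) := by
    intro n
    have hi := InvX.isInvertible_tensorPow hHi n
    rw [← Hodge.euler_geometric_fibre f Ω σ _ (AmpleVan.isCoh_invertible hi).1]
    show SurfPairing.χ Ω (PicF.pullCl (pullback.fst f σ) (PicF.cl H) ^ n) = _
    rw [← PicMul.pullCl_pow, ← cl_tensorPow]
    rfl
  rw [Hodge.isTauEquivZero_iff_euler hHΩ hLΩ]
  simp only [key, key₀]


/-- Let S be a Noetherian scheme, i : X ⟶ P^n_S a closed immersion with f : X ⟶ S the composite with the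
projection, f flat with integral geometric fibres, and L an invertible O_X-module. Then the set of
points s of S such that L is τ-equivalent to zero on the geometric fibre at s is closed (it is also
open, but only closedness is asserted here). (The published statement is that Pic^τ_{X/S} ⟶
Pic_{X/S} is representable by an open and closed immersion; this is the form reached in its proof.) -/
theorem result {X S : Scheme.{u}} [IsNoetherian S] (n : ℕ)
    (i : X ⟶ CohB1.ProjSpaceOver n S) [IsClosedImmersion i] [Flat (i ≫ CohB1.ProjSpaceOver.toBase n S)]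
    (hint : ∀ (Ω : Type u) [Field Ω] [IsAlgClosed Ω] (σ : Spec (CommRingCat.of Ω) ⟶ S), IsIntegral (pullback (i ≫ CohB1.ProjSpaceOver.toBase n S) σ))
    (L : X.Modules) (hL : PicF.IsInvertible L) :
    IsClosed {s : S | Pic13.IsTauTrivialAt (i ≫ CohB1.ProjSpaceOver.toBase n S) L s} := by
  classical
  let f := i ≫ CohB1.ProjSpaceOver.toBase n S
  haveI : IsProper (CohB1.ProjSpaceOver.toBase n S) :=
    MorphismProperty.pullback_snd _ _ (PnCoh.Chow.isProper_toSpec n _)
  haveI : IsProper f := inferInstanceAs (IsProper (i ≫ CohB1.ProjSpaceOver.toBase n S))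
  haveI : Flat f := ‹Flat (i ≫ CohB1.ProjSpaceOver.toBase n S)›
  haveI : IsLocallyNoetherian X := LocallyOfFiniteType.isLocallyNoetherian f
  haveI : LocallyOfFinitePresentation f := AlgStLib.locallyOfFinitePresentation_of_isLocallyNoetherian _ inferInstance
  let H := (Scheme.Modules.pullback i).obj (Twist.twistOver n S 1)
  have hHi : PicF.IsInvertible H := PicClLib.isInvertible_pullback i (H28.KRRReg.isInvertible_twistOver 1)
  have hH : RelAmple.IsRelAmple f H := S9695.isRelAmple_of_veryAmplePn f ⟨n, i, inferInstance, rfl, ⟨Iso.refl _⟩⟩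
  have hlc : ∀ M : X.Modules, PicF.IsInvertible M → Continuous fun s : S => PerfAux.eulerChar f M s := fun M hM =>
    (S1026.result f M ((QCoh.isCoh_iff_isFP).1 (AmpleVan.isCoh_invertible hM))
      (Seesaw.isFlatOver_of_isInvertible f hM)).continuous
  have hset : {s : S | Pic13.IsTauTrivialAt f L s} = ⋂ (a : ℕ) (_ : a ≤ 2) (m : ℕ),
      {s : S | PerfAux.eulerChar f (CohB1.tensorMod (CohB1.tensorPow L a) (CohB1.tensorPow H m)) s =
        PerfAux.eulerChar f (CohB1.tensorPow H m) s} := by
    ext s
    simp only [Set.mem_setOf_eq, Set.mem_iInter]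
    constructor
    · intro h a ha m
      obtain ⟨Ω, _, _, σ, hs, hr⟩ := exists_geom_point s
      haveI := hint Ω σ
      have h' := (tau_fibre_iff f hH hHi hL Ω σ).1 (h Ω σ hr) a m ha
      rwa [hs] at h'
    · intro h Ω _ _ σ hr
      haveI := hint Ω σ
      have hs : σ (IsLocalRing.closedPoint Ω) = s := hr.le ⟨_, rfl⟩
      refine (tau_fibre_iff f hH hHi hL Ω σ).2 fun a m ha => ?_
      rw [hs]
      exact h a ha m
  show IsClosed {s : S | Pic13.IsTauTrivialAt f L s}
  rw [hset]
  refine isClosed_iInter fun a => isClosed_iInter fun _ => isClosed_iInter fun m => isClosed_eq ?_ ?_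
  · exact hlc _ (InvX.isInvertible_tensorMod (InvX.isInvertible_tensorPow hL a) (InvX.isInvertible_tensorPow hHi m))
  · exact hlc _ (InvX.isInvertible_tensorPow hHi m)

end Groth.Agent.S4301
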