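import Groth.Statements.S4302
import Groth.Agent.KExact.ProjBound
import Groth.Agent.S4275
import Groth.Agent.KFlatLib.Scheme.TorAmpPushRel
import Groth.Agent.H9Misc.FinDimDerived
import Groth.Agent.KFlatLib.Scheme.BCMapLocal
-- import your own Groth.Agent.* helpers here

set_option autoImplicit false
set_option linter.style.haveILetI false
set_option backward.isDefEq.respectTransparency false
set_option backward.isDefEq.respectTransparency.types false

universe u
open CategoryTheory CategoryTheory.Limits AlgebraicGeometry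
attribute [local instance] HasDerivedCategory.standard
open KSix

namespace Groth.Agent.S4302

open Groth.Agent.KFlatLib Groth.Agent.KExact Groth.Agent.RelPC17

set_option linter.style.haveILetI false
set_option backward.isDefEq.respectTransparency false
set_option backward.isDefEq.respectTransparency.types false


/-- Over an affine base Y, through the embedding criterion for perfect amplitude: let i : X ⟶ P^r_Y be a
closed immersion with Y affine, f : X ⟶ Y the composite with the projection, and E a bounded object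
of D(O_X) such that Ri_*E has perfect amplitude in [a, b] on P^r_Y. Assuming the derived functors
exist, Rf_*E has perfect amplitude in [a, b + r] on Y (r bounds the cohomological dimension of f on
quasi-coherent modules). -/
theorem result {X Y : Scheme.{u}} [IsAffine Y] (r : ℕ)
    (i : X ⟶ CohB1.ProjSpaceOver r Y) [IsClosedImmersion i]
    [DCoh.HasRpush i] [DCoh.HasRpush (i ≫ CohB1.ProjSpaceOver.toBase r Y)]
    (E : DCoh.D X) (a₀ b₀ : ℤ) [E.IsGE a₀] [E.IsLE b₀] (a b : ℤ)
    (hE : KSix.HasPerfectAmplitudeIn a b ((DCoh.Rpush i).obj E)) :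
    KSix.HasPerfectAmplitudeIn a (b + r) ((DCoh.Rpush (i ≫ CohB1.ProjSpaceOver.toBase r Y)).obj E) := by
  let π := CohB1.ProjSpaceOver.toBase r Y
  haveI := hasRpush_scheme π
  obtain ⟨c⟩ := nonempty_rpush_comp i π
  let G := (DCoh.Rpush i).obj E
  have hsp : ∀ x, ∃ (V : (CohB1.ProjSpaceOver r Y).Opens) (P : CochainComplex (V : Scheme.{u}).Modules ℤ),
      x ∈ V ∧ DCoh.VanishesOutside P a b ∧ (∀ i : ℤ, FlatMod.IsFinLocFree (P.X i)) ∧
        Nonempty (DerivedCategory.Q.obj P ≅ (rho V.ι).obj G) := fun x => by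
    obtain ⟨V, hx, hV⟩ := hE x
    obtain ⟨P, hv, hf, ⟨e⟩⟩ := hV (DerivedCategory.Q.objPreimage G) ⟨repIso G⟩
    exact ⟨V, P, hx, hv, hf, ⟨e.symm ≪≫ ((rhoQ V.ι).app _).symm ≪≫ (rho V.ι).mapIso (repIso G)⟩⟩
  have hLoc : LocSP G := fun x => by
    obtain ⟨V, P, hx, hv, hf, he⟩ := hsp x
    exact ⟨_, V.ι, inferInstance, ⟨⟨x, hx⟩, rfl⟩, P, ⟨⟨a, b, hv⟩, hf⟩, he⟩
  by_cases hab : a ≤ b
  · have hpc : ∀ k, LocPC k G := fun k => hLoc.locPC k
    obtain ⟨-, K, hv, hflat, ⟨e⟩⟩ := (Groth.Agent.S4275.result _ G a b hab).1 hE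
    let G' := DerivedCategory.Q.objPreimage G
    have h0 := hasTorAmplitude_comp (𝟙 _) π 0 (Groth.Agent.KSixRel.hasTorDimLE_zero_of_flat π) G' a b
      (hasTorAmplitude_id_of_flatAmplitude (X := CohB1.ProjSpaceOver r Y)
        ⟨K, hv, hflat, ⟨e ≪≫ (repIso G).symm⟩⟩)
    rw [Category.id_comp] at h0
    have hamp : DerSch.HasTorAmplitude π a b G' := by simpa using h0
    haveI := hasLpull π
    have ht := torAmplitude_rpush_gen π r (fun M hM p hp => ProjBound.isZero_Rpush r M hM p hp)
      (DCoh.toD _ G') (isQCohD_of_iso (repIso G).symm (AffineLift.isQCohD_of_locSP hLoc)) a b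
      (fun M _ N eN _ j hj => isZero_hd_ltensor_lpull_stalk π hamp M N eN j hj)
    have hres : KSix.HasPerfectAmplitudeIn a (b + r) ((DCoh.Rpush π).obj (DCoh.toD _ G')) :=
      (Groth.Agent.S4275.result _ _ a (b + r) (by omega)).2 ⟨(isPseudoCoherentD_iff _ _).2
        (TorBC.locPC_rpush_properFlat π _ (fun k => (hpc k).of_iso (repIso G).symm) _),
        flatAmplitude_of_torAmplitude hasLTensorMod (by omega) ht⟩
    let eG : (DCoh.Rpush π).obj (DCoh.toD _ G') ≅ (DCoh.Rpush (i ≫ π)).obj E :=
      (DCoh.Rpush π).mapIso (repIso G) ≪≫ c.app E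
    exact fun y => by
      obtain ⟨V, hy, hV⟩ := hres y
      exact ⟨V, hy, fun F ⟨eF⟩ => hV F ⟨eF ≪≫ eG.symm⟩⟩
  · have hz : IsZero ((DCoh.Rpush (i ≫ π)).obj E) := by
      refine IsZero.of_iso ?_ (c.app E).symm
      haveI := BCLoc.rpush_additive π
      refine Functor.map_isZero (DCoh.Rpush π) ?_
      refine IsZero.of_iso ((Groth.Agent.H9Misc.FinDimDerived.isZero_Q_obj_iff
        (DerivedCategory.Q.objPreimage G)).2 fun k => ?_) (repIso G).symm
      refine (HomologicalComplex.exactAt_iff_isZero_homology _ _).2 ?_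
      refine IsZero.of_iso ?_ (((DerivedCategory.homologyFunctorFactors _ k).app _).symm ≪≫
        (DerivedCategory.homologyFunctor _ k).mapIso (repIso G))
      refine isZero_of_isZero_restrict _ fun x => ?_
      obtain ⟨V, P, hx, hv, -, ⟨eP⟩⟩ := hsp x
      exact ⟨V, hx, ((ShortComplex.isZero_homology_of_isZero_X₂ (P.sc k) (hv k (by omega))).of_iso
        ((DerivedCategory.homologyFunctor _ k).mapIso eP.symm ≪≫
          (DerivedCategory.homologyFunctorFactors _ k).app P)).of_iso (hdRhoIso V.ι G k).symm⟩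
    intro y
    refine ⟨⊤, trivial, fun F ⟨eF⟩ => ⟨(HasZeroObject.zero' (CochainComplex _ ℤ)).zero, fun k _ => (HomologicalComplex.eval _ _ k).map_isZero (isZero_zero _),
      fun k => isFinLocFree_of_isZero ((HomologicalComplex.eval _ _ k).map_isZero (isZero_zero _)), ⟨?_⟩⟩⟩
    exact (((rho (⊤ : Y.Opens).ι).map_isZero (hz.of_iso eF)).of_iso ((rhoQ (⊤ : Y.Opens).ι).app F).symm).iso
      (Functor.map_isZero DerivedCategory.Q (isZero_zero _))
end Groth.Agent.S4302
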