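import Groth.Statements.S4305
import Groth.Agent.Pic13Lib.AlgEqEuler
import Groth.Agent.CycCov7.Inverse
set_option autoImplicit false
universe u
open CategoryTheory CategoryTheory.Limits AlgebraicGeometry
open Pic13

namespace Groth.Agent.S4305
open scoped Groth.Agent.H23.PicMul

/-- Let k be an algebraically closed field, X an irreducible proper k-scheme of dimension ≤ d carrying
an ample invertible module H with inverse H', and L an invertible module with inverse L'. Condition
(v): χ(L^{⊗ m} ⊗ H^{⊗ n}) = χ(H^{⊗ n}) for all integers m, n — written with natural exponents on L,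
L', H, H' to cover all signs, Euler characteristics in degrees ≤ d; condition (i): L is τ-equivalent
to zero. -/
theorem result (k : Type u) [Field k] [IsAlgClosed k] (X : Scheme.{u})
    [X.Over (Spec (CommRingCat.of k))] [IsProper (X ↘ Spec (CommRingCat.of k))] [IrreducibleSpace X]
    (d : ℕ) (hd : topologicalKrullDim X ≤ d) (H H' L L' : X.Modules) (hH : CohB1.IsAmple H) (hL : PicF.IsInvertible L)
    (hHH' : Nonempty (CohB1.tensorMod H H' ≅ Coh.structureModule X)) (hLL' : Nonempty (CohB1.tensorMod L L' ≅ Coh.structureModule X))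
    (hτ : Pic13.IsTauEquivZero k X L) :
    ∀ m n : ℕ,
      FGA.eulerCharLE k X (CohB1.tensorMod (CohB1.tensorPow L m) (CohB1.tensorPow H n)) d = FGA.eulerCharLE k X (CohB1.tensorPow H n) d ∧
      FGA.eulerCharLE k X (CohB1.tensorMod (CohB1.tensorPow L m) (CohB1.tensorPow H' n)) d = FGA.eulerCharLE k X (CohB1.tensorPow H' n) d ∧
      FGA.eulerCharLE k X (CohB1.tensorMod (CohB1.tensorPow L' m) (CohB1.tensorPow H n)) d = FGA.eulerCharLE k X (CohB1.tensorPow H n) d ∧
      FGA.eulerCharLE k X (CohB1.tensorMod (CohB1.tensorPow L' m) (CohB1.tensorPow H' n)) d = FGA.eulerCharLE k X (CohB1.tensorPow H' n) d := by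
    obtain ⟨eL⟩ := hLL'
    obtain ⟨eH⟩ := hHH'
    haveI : IsNoetherian X := Groth.Agent.CurveCohLib.isNoetherian_of_proper (k := k)
    have inv' : ∀ A B : X.Modules, PicF.IsInvertible A → (CohB1.tensorMod A B ≅ Coh.structureModule X) → PicF.IsInvertible B :=
      fun A B _ e => Groth.Agent.CycCov7.isInvertible_right A B e
    have key : ∀ E : X.Modules, Coh.IsCoh E → ∀ m : ℕ,
        Curv2.euler k X (CohB1.tensorMod (CohB1.tensorPow L m) E) = Curv2.euler k X E ∧
        Curv2.euler k X (CohB1.tensorMod (CohB1.tensorPow L' m) E) = Curv2.euler k X E := by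
      have h1 : ∀ E : X.Modules, Coh.IsCoh E → ∀ m : ℕ,
          Curv2.euler k X (CohB1.tensorMod (CohB1.tensorPow L m) E) = Curv2.euler k X E := by
        intro E hE m
        induction m with
        | zero =>
          refine Groth.Agent.Pic13Lib.euler_of_cl ?_
          rw [Groth.Agent.H23.PicMul.cl_tensor, Groth.Agent.H23.PicMul.cl_tensorPow, pow_zero, one_mul]
        | succ m ih =>
          refine Eq.trans (Groth.Agent.Pic13Lib.euler_of_cl ?_) ((Groth.Agent.Pic13Lib.euler_tensor_of_isTauEquivZero hL hτ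
            (Groth.Agent.AmpleVan.isCoh_tensor (Groth.Agent.AmpleVan.isCoh_invertible
              (Groth.Agent.H23.PicMul.isInvertible_tensorPow hL m)) hE)).trans ih)
          simp only [Groth.Agent.H23.PicMul.cl_tensor, Groth.Agent.H23.PicMul.cl_tensorPow, pow_succ]
          exact mul_right_comm _ _ _
      intro E hE m
      refine ⟨h1 E hE m, ?_⟩
      have hE' : Coh.IsCoh (CohB1.tensorMod (CohB1.tensorPow L' m) E) :=
        Groth.Agent.AmpleVan.isCoh_tensor (Groth.Agent.AmpleVan.isCoh_invertible
          (Groth.Agent.H23.PicMul.isInvertible_tensorPow (inv' L L' hL eL) m)) hE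
      refine (h1 _ hE' m).symm.trans (Groth.Agent.Pic13Lib.euler_of_cl ?_)
      simp only [Groth.Agent.H23.PicMul.cl_tensor, Groth.Agent.H23.PicMul.cl_tensorPow]
      rw [← mul_assoc, ← mul_pow, ← Groth.Agent.H23.PicMul.cl_tensor, Groth.Agent.H23.PicMul.cl_eq_iff.2 ⟨eL⟩]
      exact (congrArg (· * _) (one_pow m)).trans (one_mul _)
    have hH' := inv' H H' hH.1 eH
    intro m n
    have hc : ∀ A : X.Modules, PicF.IsInvertible A → Coh.IsCoh (CohB1.tensorPow A n) := fun A hA =>
      Groth.Agent.AmpleVan.isCoh_invertible (Groth.Agent.H23.PicMul.isInvertible_tensorPow hA n)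
    have hc' : ∀ B : X.Modules, PicF.IsInvertible B → ∀ E : X.Modules, Coh.IsCoh E →
        Coh.IsQCoh (CohB1.tensorMod (CohB1.tensorPow B m) E) := fun B hB E hE =>
      (Groth.Agent.AmpleVan.isCoh_tensor (Groth.Agent.AmpleVan.isCoh_invertible
        (Groth.Agent.H23.PicMul.isInvertible_tensorPow hB m)) hE).1
    have hL' := inv' L L' hL eL
    refine ⟨?_, ?_, ?_, ?_⟩ <;>
      rw [Groth.Agent.Pic13Lib.eulerCharLE_eq hd (hc' _ (by assumption) _ (hc _ (by first | exact hH.1 | exact hH'))),
        Groth.Agent.Pic13Lib.eulerCharLE_eq hd (hc _ (by first | exact hH.1 | exact hH')).1]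
    · exact (key _ (hc _ hH.1) m).1
    · exact (key _ (hc _ hH') m).1
    · exact (key _ (hc _ hH.1) m).2
    · exact (key _ (hc _ hH') m).2

end Groth.Agent.S4305
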