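import Groth.Statements.S4306
import Groth.Agent.Pic13Lib.Hodge.Inter
import Groth.Agent.Pic13Lib.Bdd.Consequences

set_option autoImplicit false
universe u
open CategoryTheory CategoryTheory.Limits AlgebraicGeometry
open Pic13

namespace Groth.Agent.S4306
open Groth.Agent Groth.Agent.Pic13Lib Groth.Agent.H23 Groth.Agent.H23.PicMul
attribute [local instance] PicMul.clMonoid
set_option backward.isDefEq.respectTransparency false
set_option backward.isDefEq.respectTransparency.types false


/-- Let k be an algebraically closed field, X an irreducible proper k-scheme of dimension ≤ d carrying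
an ample invertible module H with inverse H', and L an invertible module with inverse L'. Condition
(v): χ(L^{⊗ m} ⊗ H^{⊗ n}) = χ(H^{⊗ n}) for all integers m, n — written with natural exponents on L,
L', H, H' to cover all signs, Euler characteristics in degrees ≤ d; condition (i): L is τ-equivalent
to zero. -/
theorem result (k : Type u) [Field k] [IsAlgClosed k] (X : Scheme.{u})
    [X.Over (Spec (CommRingCat.of k))] [IsProper (X ↘ Spec (CommRingCat.of k))] [IrreducibleSpace X]
    (d : ℕ) (hd : topologicalKrullDim X ≤ d) (H H' L L' : X.Modules) (hH : CohB1.IsAmple H) (hL : PicF.IsInvertible L)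
    (hHH' : Nonempty (CohB1.tensorMod H H' ≅ Coh.structureModule X)) (hLL' : Nonempty (CohB1.tensorMod L L' ≅ Coh.structureModule X))
    (hv : ∀ m n : ℕ,
      FGA.eulerCharLE k X (CohB1.tensorMod (CohB1.tensorPow L m) (CohB1.tensorPow H n)) d = FGA.eulerCharLE k X (CohB1.tensorPow H n) d ∧
      FGA.eulerCharLE k X (CohB1.tensorMod (CohB1.tensorPow L m) (CohB1.tensorPow H' n)) d = FGA.eulerCharLE k X (CohB1.tensorPow H' n) d ∧
      FGA.eulerCharLE k X (CohB1.tensorMod (CohB1.tensorPow L' m) (CohB1.tensorPow H n)) d = FGA.eulerCharLE k X (CohB1.tensorPow H n) d ∧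
      FGA.eulerCharLE k X (CohB1.tensorMod (CohB1.tensorPow L' m) (CohB1.tensorPow H' n)) d = FGA.eulerCharLE k X (CohB1.tensorPow H' n) d) :
    Pic13.IsTauEquivZero k X L := by
  refine Bdd.isTauEquivZero_of_nt ⟨hL, ?_⟩
  haveI := CurveCohLib.isNoetherian_of_proper (k := k) (X := X)
  have hχ : ∀ m n : ℕ, SurfPairing.χ k (PicF.cl L ^ m * PicF.cl H ^ n) = SurfPairing.χ k (PicF.cl H ^ n) := by
    intro m n
    have h := (hv m n).1
    have hi := InvX.isInvertible_tensorPow hH.1 n
    rw [Pic13Lib.eulerCharLE_eq hd (AmpleVan.isCoh_invertible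
        (InvX.isInvertible_tensorMod (InvX.isInvertible_tensorPow hL m) hi)).1,
      Pic13Lib.eulerCharLE_eq hd (AmpleVan.isCoh_invertible hi).1] at h
    rwa [← SurfPairing.χ_cl, ← SurfPairing.χ_cl, cl_tensor, cl_tensorPow, cl_tensorPow] at h
  have h0 : topologicalKrullDim X =
      ((VarDim.deg (X ↘ Spec (CommRingCat.of k)) (genericPoint X) : ℕ∞) : WithBot ℕ∞) :=
    VarDim.topologicalKrullDim_eq_deg_genericPoint (X ↘ Spec (CommRingCat.of k))
  obtain ⟨r, hr⟩ : ∃ r : ℕ, topologicalKrullDim X = (r : WithBot ℕ∞) := ⟨_, h0⟩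
  match r, hr with
  | 0, hr =>
    intro Y i _ hYi hY
    have h := i.isClosedEmbedding.isInducing.topologicalKrullDim_le
    rw [hY, hr] at h
    exact absurd h (by decide)
  | 1, hr =>
    refine Hodge.isNumEquivZero_dim_one (hr.trans Nat.cast_one) hL (Hodge.alt_cons_eq_zero fun I => ?_)
    rw [Finset.eq_empty_of_isEmpty I, Finset.prod_empty, mul_one, mul_one, ← PicMul.one_def, one_mul]
    simpa using hχ 1 0
  | s + 2, hr =>
    refine Hodge.index_irreducible hr hH hL (Hodge.alt_cons_eq_zero fun I => ?_) (le_of_eq ?_)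
    · rw [Finset.prod_const, ← PicMul.one_def, one_mul, one_mul]
      simpa using hχ 1 I.card
    · refine (mul_eq_zero_of_right _ (Hodge.alt_cons_eq_zero fun I => ?_)).symm
      obtain ⟨a, n, ha⟩ : ∃ a n : ℕ, ∏ i ∈ I, PicF.cl ((Fin.cons L fun _ => H : Fin (s + 1) → X.Modules) i) =
          PicF.cl L ^ a * PicF.cl H ^ n := by
        induction I using Finset.induction with
        | empty => exact ⟨0, 0, by simp⟩
        | insert i I hi ih =>
          obtain ⟨a, n, ha⟩ := ih
          induction i using Fin.cases with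
          | zero => exact ⟨a + 1, n, by rw [Finset.prod_insert hi, ha, Fin.cons_zero, pow_succ', mul_assoc]⟩
          | succ i => exact ⟨a, n + 1, by rw [Finset.prod_insert hi, ha, Fin.cons_succ, pow_succ', mul_left_comm]⟩
      rw [ha, ← PicMul.one_def, one_mul, one_mul, ← mul_assoc, ← pow_succ', hχ, hχ]

end Groth.Agent.S4306
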