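import Groth.Agent.AnLocal.Etale
import Groth.Agent.EtFound.TopInv
import Groth.Prelude.Def_AnHol

open AlgebraicGeometry CategoryTheory TopologicalSpace

noncomputable section

namespace Groth.Agent.S4315

open An An.Pts AnLocal Filter Topology

variable {X Y : Scheme.{0}} [X.Over An.SC] [Y.Over An.SC]

theorem isHolMap_of_eq (g : Y ⟶ X) [g.IsOver An.SC] (φ : C(Pts Y, Pts X)) (h : ∀ y, φ y = Pts.map g y) :
    An.IsHolMap φ := by
  have : φ = (⟨Pts.map g, Pts.continuous_map g⟩ : C(Pts Y, Pts X)) := ContinuousMap.ext h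
  subst this
  intro V s hs
  exact An.holPred_comp g V s hs

variable [LocallyOfFiniteType (X ↘ An.SC)] [LocallyOfFiniteType (Y ↘ An.SC)]

theorem bijective_anStalk_of_inverse (f : X ⟶ Y) [f.IsOver An.SC] (e : Pts X ≃ₜ Pts Y) (he : ⇑e = Pts.map f)
    (h : An.IsHolMap (⟨e.symm, e.symm.continuous⟩ : C(Pts Y, Pts X))) (x : Pts X) :
    Function.Bijective (anStalk f x) := by
  constructor
  · intro a b hab
    refine val_injective _ ?_
    have h1 := congrArg (val x) hab
    rw [val_anStalk, val_anStalk] at h1
    revert h1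
    generalize val (Pts.map f x) a = A
    generalize val (Pts.map f x) b = B
    refine Germ.inductionOn₂ A B fun u v h1 => ?_
    have h2 : ∀ᶠ z in 𝓝 x, u (Pts.map f z) = v (Pts.map f z) := Germ.coe_eq.1 h1
    refine Germ.coe_eq.2 ?_
    have ht : Tendsto e.symm (𝓝 (Pts.map f x)) (𝓝 x) := by
      have := e.symm.continuous.tendsto (e x)
      rwa [e.symm_apply_apply, he] at this
    filter_upwards [ht.eventually h2] with y hy
    have : Pts.map f (e.symm y) = y := by
      rw [← he]; exact e.apply_symm_apply y
    rwa [this] at hy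
  · intro b
    obtain ⟨U, hU, s, rfl⟩ := TopCat.Presheaf.exists_germ_eq _ b
    let V : Opens (top Y) := (Opens.map (TopCat.ofHom (⟨e.symm, e.symm.continuous⟩ : C(Pts Y, Pts X)))).obj U
    have hV : Pts.map f x ∈ V := by
      show e.symm (Pts.map f x) ∈ U
      rw [← he, e.symm_apply_apply]
      exact hU
    let t : (holPresheaf Y).obj (Opposite.op V) := ⟨fun y => s.1 ⟨e.symm y.1, y.2⟩, h U s.1 s.2⟩
    refine ⟨(anSpace Y).presheaf.germ V _ hV t, val_injective x ?_⟩
    rw [val_anStalk, val_germ, val_germ]
    refine Germ.coe_eq.2 ?_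
    filter_upwards [U.2.mem_nhds hU] with z hz
    have hz' : e.symm (Pts.map f z) = z := by rw [← he, e.symm_apply_apply]
    have hzV : Pts.map f z ∈ V := by show e.symm (Pts.map f z) ∈ U; rw [hz']; exact hz
    show ext0 t.1 (Pts.map f z) = _
    rw [ext0_apply _ hzV, ext0_apply _ hz]
    exact congrArg s.1 (Subtype.ext hz')

/-- For X and Y reduced and locally of finite type over ℂ (associated analytic spaces = ℂ-points with
holomorphic functions): a morphism f : X → Y over ℂ is an isomorphism if and only if f^an is, i.e.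
if and only if the induced map X(ℂ) → Y(ℂ) is a homeomorphism whose inverse is holomorphic. -/
theorem result (X Y : Scheme.{0}) [X.Over An.SC] [Y.Over An.SC]
    [LocallyOfFiniteType (X ↘ An.SC)] [LocallyOfFiniteType (Y ↘ An.SC)] [IsReduced X] [IsReduced Y]
    (f : X ⟶ Y) [f.IsOver An.SC] :
    IsIso f ↔ ∃ e : An.Pts X ≃ₜ An.Pts Y, (⇑e = An.Pts.map f) ∧
      An.IsHolMap (⟨e.symm, e.symm.continuous⟩ : C(An.Pts Y, An.Pts X)) := by
  constructor
  · intro _
    haveI : (inv f).IsOver An.SC := ⟨by rw [← comp_over f An.SC, IsIso.inv_hom_id_assoc]⟩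
    let e : An.Pts X ≃ₜ An.Pts Y :=
      { toFun := Pts.map f
        invFun := Pts.map (inv f)
        left_inv := fun z => Subtype.ext (by simp [An.Pts.map_val])
        right_inv := fun z => Subtype.ext (by simp [An.Pts.map_val])
        continuous_toFun := Pts.continuous_map f
        continuous_invFun := Pts.continuous_map (inv f) }
    exact ⟨e, rfl, isHolMap_of_eq (inv f) _ fun y => rfl⟩
  · rintro ⟨e, he, h⟩
    haveI : Etale f := (etale_iff_forall_bijective f).2 (bijective_anStalk_of_inverse f e he h)
    haveI : UniversallyInjective f :=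
      AnPts.universallyInjective_of_injective_map f (he ▸ e.injective)
    haveI := EtFound.isOpenImmersion_of_etale_univInj f
    haveI : Surjective f := by
      rw [surjective_iff, ← Set.range_eq_univ]
      refine AnPts.eq_univ_of_isLocallyClosed f.isOpenEmbedding.isOpen_range.isLocallyClosed fun y => ?_
      refine ⟨(e.symm y).pt, ?_⟩
      rw [← An.Pts.pt_map, ← he, e.apply_symm_apply]
    exact (isIso_iff_isOpenImmersion_and_surjective f).2 ⟨inferInstance, inferInstance⟩

end Groth.Agent.S4315
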