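import Groth.Statements.S4319
import Groth.Agent.AnLocal.Compare
import Groth.Agent.Hensel.HenselizationLoc

set_option autoImplicit false
open CategoryTheory AlgebraicGeometry Topology TopologicalSpace
open An

namespace Groth.Agent.S4319

/-- Let X be a reduced scheme locally of finite type over ℂ and x a ℂ-point of X, and write O_{X^an,x}
for the ring of germs of holomorphic functions at x on X(ℂ). Then O_{X,x} is Cohen–Macaulay if and
only if O_{X^an,x} is. The published statement is global (X has the property if and only if its
associated analytic space does); it is stated here pointwise, comparing the two local rings at a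
single ℂ-point. -/
theorem result (X : Scheme.{0}) [X.Over An.SC] [LocallyOfFiniteType (X ↘ An.SC)] [IsReduced X] (x : An.Pts X) :
    LocCoh.IsCohenMacaulayLocalRing ↑(X.presheaf.stalk x.pt) ↔ LocCoh.IsCohenMacaulayLocalRing ↑((An.anSpace X).presheaf.stalk x) := by
  haveI := Groth.Agent.AnLocal.isNoetherianRing_stalk (X := X) x.pt
  letI := (Groth.Agent.AnLocal.ψ x).toAlgebra
  haveI : Module.Flat (X.presheaf.stalk x.pt) ((An.anSpace X).presheaf.stalk x) := Groth.Agent.AnLocal.flat_ψ x
  haveI : IsLocalHom (algebraMap (X.presheaf.stalk x.pt) ((An.anSpace X).presheaf.stalk x)) := Groth.Agent.AnLocal.isLocalHom_ψ x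
  exact (Groth.Agent.Hensel.isCohenMacaulayLocalRing_iff (R := X.presheaf.stalk x.pt)
    ((An.anSpace X).presheaf.stalk x) (Groth.Agent.AnLocal.map_maximalIdeal x)
    (Groth.Agent.Hensel.ringKrullDim_eq_of_flat_of_map_maximalIdeal_eq (Groth.Agent.AnLocal.map_maximalIdeal x))).symm

end Groth.Agent.S4319
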