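import Groth.Statements.S4330
import Groth.Agent.H9Misc.PlusComp
import Groth.Agent.EtLC12.ModPullExact
import Groth.Prelude.Def_EtBC2
-- import your own Groth.Agent.* helpers here

set_option autoImplicit false
set_option backward.isDefEq.respectTransparency false
set_option backward.isDefEq.respectTransparency.types false
universe u
open CategoryTheory CategoryTheory.Limits AlgebraicGeometry Opposite
attribute [local instance] HasDerivedCategory.standard
open EtSix

namespace Groth.Agent.S4330

namespace Aux

universe v₁ v₂ u₁ u₂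

theorem isIso_plusNatTrans {A : Type u₁} [Category.{v₁} A] [Abelian A] {B : Type u₂} [Category.{v₂} B]
    [Abelian B] {F G : A ⥤ B} [F.Additive] [G.Additive] (α : F ≅ G) : IsIso (plusNatTrans α.hom) := by
  have h : plusNatTrans α.hom ≫ plusNatTrans α.inv = 𝟙 _ ∧ plusNatTrans α.inv ≫ plusNatTrans α.hom = 𝟙 _ := by
    constructor <;>
    · apply ((HomotopyCategory.plus B).fullyFaithfulι.whiskeringRight (HomotopyCategory.Plus A)).map_injective
      unfold plusNatTrans
      rw [Functor.map_comp, Functor.FullyFaithful.map_preimage, Functor.FullyFaithful.map_preimage,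
        ← Functor.whiskerLeft_comp, ← NatTrans.mapHomotopyCategory_comp]
      first
      | rw [α.hom_inv_id, NatTrans.mapHomotopyCategory_id]; rfl
      | rw [α.inv_hom_id, NatTrans.mapHomotopyCategory_id]; rfl
  exact ⟨plusNatTrans α.inv, h.1, h.2⟩

theorem isIso_rPlusDesc₂ {A B C : Type (u + 2)} [Category.{u + 1} A] [Category.{u + 1} B] [Category.{u + 1} C]
    [Abelian A] [Abelian B] [Abelian C] [EnoughInjectives A] [EnoughInjectives B]
    {F : A ⥤ B} {G : B ⥤ C} {H : A ⥤ C} [F.Additive] [G.Additive] [H.Additive] [F.PreservesInjectiveObjects]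
    [PreservesFiniteLimits G] (θ : H ≅ F ⋙ G) : IsIso (rPlusDesc₂ θ.hom) := by
  haveI := isIso_plusNatTrans θ
  let c : H.mapHomotopyCategoryPlus ≅ F.mapHomotopyCategoryPlus ⋙ G.mapHomotopyCategoryPlus :=
    asIso (plusNatTrans θ.hom) ≪≫ (Functor.mapHomotopyCategoryPlusCompIso (Iso.refl (F ⋙ G))).symm
  have h := Groth.Agent.H9Misc.PlusComp.isRightDerived F G
    (fun I hI => by
      haveI := hI
      haveI : Injective (F.obj I) := Functor.PreservesInjectiveObjects.injective_obj hI
      refine (TriCat.isIso_unit_single_iff G _).2 ⟨?_, fun i hi => TriCat.isRightAcyclic_of_injective (F := G) (F.obj I) i hi⟩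
      infer_instance) c
  exact (Functor.isRightDerivedFunctor_iff_isIso_rightDerivedDesc H.rightDerivedFunctorPlus
    H.rightDerivedFunctorPlusUnit (HomotopyCategory.Plus.quasiIso A) _ _).1 h

end Aux

/-- Composition of derived direct images: bounded-below version for sheaves of Λ-modules on small etale
sites: let f : X -> Y and g : Y -> Z be morphisms of schemes and Λ a commutative ring. Then the
canonical morphism R⁺(g ∘ f)_* -> R⁺g_* ∘ R⁺f_* of functors D⁺(X_et, Λ) -> D⁺(Z_et, Λ)
(bounded-below derived functors computed with injective resolutions; the morphism is induced by (g ∘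
f)_* ≅ g_* ∘ f_* through the universal property of R⁺(g ∘ f)_*) is an isomorphism. -/
theorem result (Λ : Type (u + 1)) [CommRing Λ] {X Y Z : Scheme.{u}} (f : X ⟶ Y) (g : Y ⟶ Z) :
    IsIso (EtSix.compMapMod Λ f g) := by
  haveI := Groth.Agent.EtLC12.ModPullExact.pull_preservesFiniteLimits Λ f
  exact Aux.isIso_rPlusDesc₂ (pushModComp Λ g f).symm

end Groth.Agent.S4330
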