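import Groth.Statements.S4332
import Groth.Agent.EtLC12.FlasqueAcyclic
-- import your own Groth.Agent.* helpers here

set_option autoImplicit false
set_option backward.isDefEq.respectTransparency false
set_option backward.isDefEq.respectTransparency.types false
universe u
open CategoryTheory CategoryTheory.Limits AlgebraicGeometry Opposite
attribute [local instance] HasDerivedCategory.standard
open EtSix

namespace Groth.Agent.S4332

namespace Aux

open Abelian

variable (Λ : Type (u + 1)) [CommRing Λ] {X : Scheme.{u}}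
  [PreservesFiniteLimits (EtModD.forgetToAb Λ X)] [PreservesFiniteColimits (EtModD.forgetToAb Λ X)]
  [(EtModD.forgetToAb Λ X).Additive]

theorem hModToH_apply (F : EtModW.Mod Λ X) (n : ℕ) (e : HMod Λ X F n) :
    HModToH Λ F n e = (Ext.mk₀ (intToConstΛ Λ X)).comp (e.mapExactFunctor (EtModD.forgetToAb Λ X))
      (zero_add n) := rfl

theorem hModToH_comp {F G : EtModW.Mod Λ X} {a b c : ℕ} (e : HMod Λ X F a) (β : Ext F G b)
    (h : a + b = c) :
    HModToH Λ G c (e.comp β h) =
      (HModToH Λ F a e).comp (β.mapExactFunctor (EtModD.forgetToAb Λ X)) h := by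
  rw [hModToH_apply, hModToH_apply, Ext.mapExactFunctor_comp]
  exact (Ext.comp_assoc _ _ _ (zero_add a) h (by omega)).symm

theorem key₀ (F : EtModW.Mod Λ X) (φ : constΛ Λ X ⟶ F) :
    ((EtCore.constAdj X).homEquiv _ _ (intToConstΛ Λ X ≫ (EtModD.forgetToAb Λ X).map φ)).hom ⟨1⟩ =
      ((constModAdj Λ X).homEquiv _ _ φ).hom (1 : Λ) := by
  rw [Adjunction.homEquiv_naturality_right, intToConstΛ, Equiv.apply_symm_apply, Adjunction.homEquiv_unit]
  show ((φ.hom.app (op (EtCoh.top X))).hom) ((oneSection Λ X).hom ⟨1⟩) =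
    (φ.hom.app (op (EtCoh.top X))).hom _
  refine congrArg (φ.hom.app (op (EtCoh.top X))).hom ?_
  show ((zmultiplesHom _ _).comp (AddEquiv.ulift (α := ℤ)).toAddMonoidHom) ⟨1⟩ = _
  exact (congrArg (fun k : ℤ => k • _) (rfl : AddEquiv.ulift.{0, u + 1} (α := ℤ) ⟨1⟩ = 1)).trans (one_zsmul _)

theorem bijective₀ (F : EtModW.Mod Λ X) : Function.Bijective (HModToH Λ F 0) := by
  have hb : Function.Bijective fun φ : constΛ Λ X ⟶ F =>
      intToConstΛ Λ X ≫ (EtModD.forgetToAb Λ X).map φ := by
    constructor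
    · intro φ ψ h
      apply ((constModAdj Λ X).homEquiv _ _).injective
      apply ModuleCat.hom_ext
      apply LinearMap.ext_ring
      rw [← key₀, ← key₀]
      exact congrArg (fun t : (constantSheaf X.smallEtaleTopology AddCommGrpCat.{u + 1}).obj
        (AddCommGrpCat.of (ULift.{u + 1} ℤ)) ⟶ (EtModD.forgetToAb Λ X).obj F =>
          ((EtCore.constAdj X).homEquiv _ _ t).hom ⟨1⟩) h
    · intro t
      let m : F.obj.obj (op (EtCoh.top X)) := ((EtCore.constAdj X).homEquiv _ _ t).hom ⟨1⟩
      refine ⟨((constModAdj Λ X).homEquiv _ _).symm (ModuleCat.ofHom (LinearMap.toSpanSingleton Λ _ m)),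
        ((EtCore.constAdj X).homEquiv _ _).injective ?_⟩
      apply (AddCommGrpCat.uliftZMultiplesAddEquiv _).injective
      show ((EtCore.constAdj X).homEquiv _ _ (intToConstΛ Λ X ≫ (EtModD.forgetToAb Λ X).map
        (((constModAdj Λ X).homEquiv _ _).symm
          (ModuleCat.ofHom (LinearMap.toSpanSingleton Λ _ m))))).hom ⟨1⟩ = m
      refine (key₀ Λ F _).trans ?_
      rw [Equiv.apply_symm_apply]
      exact LinearMap.toSpanSingleton_apply_one Λ _ m
  have e : ∀ φ : constΛ Λ X ⟶ F,
      HModToH Λ F 0 (Ext.mk₀ φ) = Ext.mk₀ (intToConstΛ Λ X ≫ (EtModD.forgetToAb Λ X).map φ) := by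
    intro φ
    rw [hModToH_apply, Ext.mapExactFunctor_mk₀, Ext.mk₀_comp_mk₀]
  constructor
  · intro x y h
    obtain ⟨φ, rfl⟩ := (Ext.mk₀_bijective _ _).2 x
    obtain ⟨ψ, rfl⟩ := (Ext.mk₀_bijective _ _).2 y
    rw [e, e] at h
    exact congrArg Ext.mk₀ (hb.1 ((Ext.mk₀_bijective _ _).1 h))
  · intro z
    obtain ⟨t, rfl⟩ := (Ext.mk₀_bijective _ _).2 z
    obtain ⟨φ, rfl⟩ := hb.2 t
    exact ⟨Ext.mk₀ φ, e φ⟩

end Aux

/-- Cohomology of a sheaf of modules agrees with that of its underlying abelian sheaf: for the constant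
sheaf of rings Λ on the small etale site of a scheme X, through the canonical map: for every sheaf F
of Λ-modules and every n, the map Ext^n(Λ_X, F) -> Ext^n(Z_X, F_ab) = H^n(X, F_ab) obtained by
applying the forgetful functor to an Ext class (computed in sheaves of Λ-modules) and precomposing
with Z_X -> Λ_X, 1 ↦ 1, is bijective. The exactness and additivity of the forgetful functor, which
hold, are recorded as instance hypotheses. -/
theorem result (Λ : Type (u + 1)) [CommRing Λ] {X : Scheme.{u}}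
    [PreservesFiniteLimits (EtModD.forgetToAb Λ X)] [PreservesFiniteColimits (EtModD.forgetToAb Λ X)]
    [(EtModD.forgetToAb Λ X).Additive] (F : EtModW.Mod Λ X) (n : ℕ) :
    Function.Bijective (EtSix.HModToH Λ F n) := by
  induction n generalizing F with
  | zero => exact Aux.bijective₀ Λ F
  | succ n ih =>
    let S := ShortComplex.mk (Injective.ι F) (cokernel.π _) (cokernel.condition (Injective.ι F))
    have hS : S.ShortExact := { exact := ShortComplex.exact_of_g_is_cokernel _ (cokernelIsCokernel _) }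
    haveI hI : Injective S.X₂ := inferInstanceAs (Injective (Injective.under F))
    have hS' : (S.map (EtModD.forgetToAb Λ X)).ShortExact := hS.map_of_exact _
    have hacyc : ∀ m, Subsingleton (EtCoh.H X ((EtModD.forgetToAb Λ X).obj S.X₂) (m + 1)) := fun m =>
      Groth.Agent.EtLC12.FlasqueAcyclic.subsingleton_H_forgetToAb Λ S.X₂ m
    have hext : hS.extClass.mapExactFunctor (EtModD.forgetToAb Λ X) = hS'.extClass :=
      Abelian.Ext.mapExactFunctor_extClass _ hS
    constructor
    · rw [injective_iff_map_eq_zero]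
      intro x hx
      obtain ⟨z, rfl⟩ := Abelian.Ext.covariant_sequence_exact₁ _ hS x
        (Abelian.Ext.eq_zero_of_injective _) (rfl : n + 1 = n + 1)
      rw [Aux.hModToH_comp] at hx
      have hx' : (HModToH Λ S.X₃ n z).comp hS'.extClass (rfl : n + 1 = n + 1) = 0 := hext ▸ hx
      obtain ⟨w', hw'⟩ := Abelian.Ext.covariant_sequence_exact₃ _ hS' (HModToH Λ S.X₃ n z) rfl hx'
      obtain ⟨w, rfl⟩ := (ih S.X₂).2 w'
      have hz : w.comp (Abelian.Ext.mk₀ S.g) (add_zero n) = z := by
        apply (ih S.X₃).1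
        rw [Aux.hModToH_comp, Abelian.Ext.mapExactFunctor_mk₀]
        exact hw'
      rw [← hz, Abelian.Ext.comp_assoc_of_second_deg_zero, hS.comp_extClass, Abelian.Ext.comp_zero]
    · intro y
      obtain ⟨z', hz'⟩ := Abelian.Ext.covariant_sequence_exact₁ _ hS' y
        ((hacyc n).elim _ _) (rfl : n + 1 = n + 1)
      obtain ⟨z, rfl⟩ := (ih S.X₃).2 z'
      refine ⟨z.comp hS.extClass rfl, ?_⟩
      rw [Aux.hModToH_comp, hext]
      exact hz'

end Groth.Agent.S4332
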