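import Groth.Statements.S4334
import Groth.Agent.CurveKummer.HTwo
import Groth.Agent.LefPenLib.Bertini
-- import your own Groth.Agent.* helpers here

set_option autoImplicit false
universe u
set_option backward.isDefEq.respectTransparency false
set_option backward.isDefEq.respectTransparency.types false
set_option linter.style.haveILetI false
open CategoryTheory CategoryTheory.Limits AlgebraicGeometry Opposite
open EtSix

namespace Groth.Agent.S4334

/-- The degree-two step in canonical form: let X be a smooth projective curve over an algebraically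
closed field k (here: X integral, with a proper morphism X -> Spec k that is smooth of relative
dimension 1), and n an integer that is nonzero in k, so that the n-th power map on G_m is an
epimorphism of sheaves on the small etale site (taken as the hypothesis h). Then the boundary map
H^1(X, G_m) -> H^2(X, μ_n) of the Kummer sequence is surjective, and its kernel is the image of
multiplication by n on H^1(X, G_m). -/
theorem result (k : Type u) [Field k] [IsAlgClosed k] {X : Scheme.{u}} [IsIntegral X]
    (f : X ⟶ Spec (CommRingCat.of k)) [IsProper f] [SmoothOfRelativeDimension 1 f]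
    (n : ℕ) (hn : (n : k) ≠ 0) (h : Epi (EtCoh.powMap X n)) :
    Function.Surjective (EtSix.kummerBoundary h 1) ∧
      (EtSix.kummerBoundary h 1).ker = (n • AddMonoidHom.id (EtCoh.H X (EtCoh.Gm X) 1)).range := by
  haveI : Smooth f := SmoothOfRelativeDimension.smooth 1 f
  have hdim : topologicalKrullDim X = 1 := Groth.Agent.LefPenLib.topologicalKrullDim_eq_of_smoothRelDim (k := k) f
  have h2 := Groth.Agent.Curve11.subsingleton_H_Gm f hdim 2 le_rfl
  have hS := EtSix.kummerShortExact (X := X) (n := n) h
  refine ⟨fun x => ?_, AddSubgroup.ext fun y => ?_⟩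
  · exact CategoryTheory.Abelian.Ext.covariant_sequence_exact₁ _ hS x
      (Subsingleton.elim (α := EtCoh.H X (EtCoh.Gm X) 2) _ _) (rfl : 1 + 1 = 2)
  · rw [AddMonoidHom.mem_ker]
    constructor
    · intro hy
      obtain ⟨z, hz⟩ := CategoryTheory.Abelian.Ext.covariant_sequence_exact₃ _ hS y (rfl : 1 + 1 = 2) hy
      exact ⟨z, (Groth.Agent.EtTrace.nsmul_eq_comp z n).trans hz⟩
    · rintro ⟨z, rfl⟩
      show CategoryTheory.Abelian.Ext.comp (n • z) hS.extClass (rfl : 1 + 1 = 2) = 0
      rw [Groth.Agent.EtTrace.nsmul_eq_comp z n]
      show CategoryTheory.Abelian.Ext.comp (CategoryTheory.Abelian.Ext.comp z (CategoryTheory.Abelian.Ext.mk₀ (EtSix.kummerSC X n).g) (add_zero 1)) hS.extClass (rfl : 1 + 1 = 2) = 0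
      rw [CategoryTheory.Abelian.Ext.comp_assoc_of_second_deg_zero, hS.comp_extClass, CategoryTheory.Abelian.Ext.comp_zero]

end Groth.Agent.S4334
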