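import Groth.Statements.S4337
import Groth.Agent.LinTop7.Defs
-- import your own Groth.Agent.* helpers here

set_option autoImplicit false
universe u
open LinTop

namespace Groth.Agent.S4337

/-- Let A be an admissible ring, J an ideal of definition, and u : M -> N a homomorphism of A-modules
with N of finite type. Then u is surjective if and only if u tensored with A/J is surjective. -/
theorem result
    (A : Type u) [CommRing A] [UniformSpace A] [IsUniformAddGroup A] [IsTopologicalRing A]
    (hA : LinTop.IsAdmissible A) (J : Ideal A) (hJ : LinTop.IsIdealOfDefinition A J)
    (M N : Type u) [AddCommGroup M] [Module A M] [AddCommGroup N] [Module A N] [Module.Finite A N]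
    (u : M →ₗ[A] N) :
    Function.Surjective u ↔ Function.Surjective (u.rTensor (A ⧸ J)) := by
  exact Groth.Agent.LinTop7.surjective_iff_rTensor (Groth.Agent.LinTop7.le_jacobson hA hJ) u

end Groth.Agent.S4337
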