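import Groth.Statements.S4339
import Groth.Agent.Adic7.Limit
import Groth.Agent.LocalCrit.Flatness

set_option autoImplicit false
universe u
open AdicRing

namespace Groth.Agent.S4339

/-- Let (B_n) be an inverse system of rings with surjective transition maps B_{n+1} → B_n whose kernels
are the (n+1)-st powers of the kernels of the maps B_{n+1} → B_0, the kernel of B_1 → B_0 being
finitely generated, and let A be its inverse limit. Then A is Noetherian if and only if B_0 is
Noetherian. -/
theorem result
    (B : ℕ → Type u) [∀ n, CommRing (B n)]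
    (u : ∀ n, B (n + 1) →+* B n) (hu : ∀ n, Function.Surjective (u n))
    (v : ∀ n, B n →+* B 0) (hv0 : v 0 = RingHom.id (B 0)) (hv : ∀ n, (v n).comp (u n) = v (n + 1))
    (hker : ∀ n, RingHom.ker (u n) = RingHom.ker (v (n + 1)) ^ (n + 1))
    (hfg : (RingHom.ker (v 1)).FG)
    (A : Type u) [CommRing A] (p : ∀ n, A →+* B n)
    (hp : ∀ n, (u n).comp (p (n + 1)) = p n)
    (hinj : ∀ x : A, (∀ n, p n x = 0) → x = 0)
    (hlift : ∀ y : (∀ n, B n), (∀ n, u n (y (n + 1)) = y n) → ∃ x : A, ∀ n, p n x = y n) :
    IsNoetherianRing A ↔ IsNoetherianRing (B 0) := by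
  classical
  have hup1 : ∀ z : B 1, ∃ x : A, p 1 x = z := fun z => by
    let y : ∀ n, B n := fun n => match n with
      | 0 => u 0 z
      | m + 1 => Nat.rec (motive := fun m => B (m + 1)) z (fun m w => Function.surjInv (hu (m + 1)) w) m
    obtain ⟨x, hx⟩ := hlift y fun n => by
      cases n with
      | zero => rfl
      | succ m => exact Function.surjInv_eq (hu (m + 1)) _
    exact ⟨x, hx 1⟩
  have hp' : ∀ n x, u n (p (n + 1) x) = p n x := fun n x => congr($(hp n) x)
  have hv' : ∀ n x, v n (u n x) = v (n + 1) x := fun n x => congr($(hv n) x)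
  constructor
  · intro hA
    refine isNoetherianRing_of_surjective A (B 0) (p 0) fun z => ?_
    obtain ⟨w, hw⟩ := hu 0 z
    obtain ⟨x, hx⟩ := hup1 w
    exact ⟨x, by rw [← hp', hx, hw]⟩
  intro hB
  have hmapK : ∀ n, (RingHom.ker (v (n + 1))).map (u n) = RingHom.ker (v n) := fun n => by
    rw [← hv n, ← RingHom.comap_ker, Ideal.map_comap_of_surjective _ (hu n)]
  have hK0 : ∀ n, RingHom.ker (v n) ^ (n + 1) = ⊥ := fun n => by
    rw [← hmapK, ← Ideal.map_pow, ← hker, Ideal.map_eq_bot_iff_le_ker]
  obtain ⟨t, ht⟩ := hfg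
  choose a ha using fun b : B 1 => hup1 b
  let J : Ideal A := Ideal.span (t.image a : Set A)
  have hJfg : J.FG := ⟨_, rfl⟩
  have hJK : ∀ n, J.map (p n) = RingHom.ker (v n) := by
    have hle : ∀ n, J.map (p n) ≤ RingHom.ker (v n) := by
      intro n
      have h1 : ∀ j x, v (j + 1) (p (j + 1) x) = v 0 (p 0 x) := fun j x => by
        induction j with
        | zero => rw [← hv', hp']
        | succ j ih => rw [← hv', hp', ih]
      rw [Ideal.map_le_iff_le_comap, Ideal.span_le]
      intro x hx
      obtain ⟨b, hb, rfl⟩ := Finset.mem_image.mp hx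
      have hb' : v 1 (p 1 (a b)) = 0 := by
        rw [ha]; exact ht.le (Ideal.subset_span hb)
      rw [h1] at hb'
      cases n with
      | zero => exact hb'
      | succ j => exact (h1 j _).trans hb'
    intro n
    refine le_antisymm (hle n) ?_
    induction n with
    | zero =>
      intro x hx
      rw [RingHom.mem_ker, hv0, RingHom.id_apply] at hx
      rw [hx]; exact zero_mem _
    | succ n ih =>
      cases n with
      | zero =>
        rw [← ht]
        refine Ideal.span_le.mpr fun b hb => ?_
        exact ha b ▸ Ideal.mem_map_of_mem _ (Ideal.subset_span (Finset.mem_image.mpr ⟨b, hb, rfl⟩))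
      | succ n =>
        let K := RingHom.ker (v (n + 1 + 1))
        have h1 : K ≤ J.map (p (n + 1 + 1)) ⊔ K ^ (n + 1 + 1) := by
          intro x hx
          have h2 : u (n + 1) x ∈ (J.map (p (n + 1 + 1))).map (u (n + 1)) := by
            rw [Ideal.map_map, hp]
            exact ih ((hmapK (n + 1)).le (Ideal.mem_map_of_mem _ hx))
          obtain ⟨y, hy, hye⟩ := (Ideal.mem_map_iff_of_surjective _ (hu (n + 1))).mp h2
          refine Submodule.mem_sup.mpr ⟨y, hy, x - y, ?_, add_sub_cancel _ _⟩
          rw [← hker, RingHom.mem_ker, map_sub, hye, sub_self]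
        refine h1.trans (sup_le le_rfl ?_)
        calc K ^ (n + 1 + 1) = K * K ^ (n + 1) := pow_succ' _ _
          _ ≤ (J.map (p (n + 1 + 1)) ⊔ K ^ (n + 1 + 1)) * K ^ (n + 1) := Ideal.mul_mono_left h1
          _ = J.map (p (n + 1 + 1)) * K ^ (n + 1) ⊔ K ^ (n + 1 + 1) * K ^ (n + 1) := Ideal.sup_mul _ _ _
          _ ≤ J.map (p (n + 1 + 1)) := by
            refine sup_le Ideal.mul_le_left ?_
            rw [← pow_add]
            exact (Ideal.pow_le_pow_right (by omega)).trans ((hK0 _).le.trans bot_le)
  let _ : ∀ n, Module A (B n) := fun n => Module.compHom (B n) (p n)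
  let f : ∀ n, B (n + 1) →ₗ[A] B n := fun n =>
    { toFun := u n
      map_add' := map_add _
      map_smul' := fun c x => by
        show u n (p (n + 1) c * x) = p n c * u n x
        rw [map_mul, hp'] }
  let π : ∀ n, A →ₗ[A] B n := fun n =>
    { toFun := p n
      map_add' := map_add _
      map_smul' := fun c x => map_mul (p n) c x }
  have hsm : ∀ n (K : Ideal A) (x : B n), x ∈ K.map (p n) → x ∈ K • (⊤ : Submodule A (B n)) := by
    intro n K x hx
    induction hx using Submodule.span_induction with
    | mem x h =>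
      obtain ⟨c, hc, rfl⟩ := h
      have := Submodule.smul_mem_smul hc (Submodule.mem_top (x := (1 : B n)))
      rwa [show c • (1 : B n) = p n c from mul_one _] at this
    | zero => exact zero_mem _
    | add x y _ _ hx hy => exact add_mem hx hy
    | smul r x _ hx =>
      refine Submodule.smul_induction_on hx (fun c hc y _ => ?_) (fun y z hy hz => ?_)
      · have := Submodule.smul_mem_smul hc (Submodule.mem_top (x := r * y))
        rwa [show c • (r * y) = r • (c • y) from (mul_left_comm r (p n c) y).symm] at this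
      · rw [smul_add]; exact add_mem hy hz
  have hfker : ∀ n, LinearMap.ker (f n) = J ^ (n + 1) • (⊤ : Submodule A (B (n + 1))) := by
    intro n
    refine le_antisymm (fun x hx => hsm _ _ x ?_) (Submodule.smul_le.mpr fun c hc y _ => ?_)
    · rw [Ideal.map_pow, hJK, ← hker]
      exact hx
    · show u n (p (n + 1) c * y) = 0
      rw [map_mul, show u n (p (n + 1) c) = 0 from ?_, zero_mul]
      have := Ideal.mem_map_of_mem (p (n + 1)) hc
      rw [Ideal.map_pow, hJK, ← hker] at this
      exact this
  obtain ⟨hcomp, hker', -⟩ := Groth.Agent.Adic7.limit_quotient_system A J hJfg B f hu hfker A π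
    (fun n => LinearMap.ext fun x => hp' n x) hinj (fun y hy => hlift y hy)
  have hkerp : RingHom.ker (p 0) = J := by
    ext x
    have := congrArg (x ∈ ·) (hker' 0).2
    simp only [pow_one, zero_add, smul_eq_mul, Ideal.mul_top, eq_iff_iff] at this
    exact this
  have : IsNoetherianRing (A ⧸ J) :=
    isNoetherianRing_of_ringEquiv (B 0) ((Ideal.quotEquivOfEq hkerp.symm).trans
      (RingHom.quotientKerEquivOfSurjective (f := p 0) (hker' 0).1)).symm
  exact Groth.Agent.LocalCrit.isNoetherianRing_of_isAdicComplete J hJfg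


end Groth.Agent.S4339
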