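import Groth.Statements.S4343
import Mathlib
import Groth.Agent.SpreadUniq.Basic

set_option autoImplicit false
universe u
open RatMapD

namespace Groth.Agent.S4343

open AlgebraicGeometry in
open CategoryTheory in
/-- Let X, Y be S-schemes with X irreducible and Y locally of finite type over S. Two S-rational maps
from X to Y to which corresponds the same morphism Spec(O_x) -> Y, x the generic point of X, are
equal. (The published statement has Y of finite type over S; only local finite type is used. X is
not assumed reduced.) -/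
theorem result
    (S X Y : Scheme.{u}) [X.Over S] [Y.Over S] [IrreducibleSpace X]
    [LocallyOfFiniteType (Y ↘ S)] (f g : X ⤏ Y) [f.IsOver S] [g.IsOver S]
    (h : f.fromFunctionField = g.fromFunctionField) : f = g := by
  set_option backward.defeqAttrib.useBackward true in
  set_option backward.isDefEq.respectTransparency false in
    obtain ⟨f, hf, rfl⟩ := f.exists_partialMap_over S
    obtain ⟨g, hg, rfl⟩ := g.exists_partialMap_over S
    rw [Scheme.RationalMap.fromFunctionField_toRationalMap, Scheme.RationalMap.fromFunctionField_toRationalMap] at h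
    refine Scheme.PartialMap.toRationalMap_eq_iff.mpr ?_
    have hxf : genericPoint X ∈ f.domain :=
      (genericPoint_specializes _).mem_open f.domain.2 f.dense_domain.nonempty.choose_spec
    have hxg : genericPoint X ∈ g.domain :=
      (genericPoint_specializes _).mem_open g.domain.2 g.dense_domain.nonempty.choose_spec
    have hdense : Dense ((f.domain ⊓ g.domain) : Set X) :=
      f.dense_domain.inter_of_isOpen_left g.dense_domain f.domain.2
    have H : f.fromSpecStalkOfMem hxf = g.fromSpecStalkOfMem hxg := h
    have hS : (X.homOfLE (inf_le_left : f.domain ⊓ g.domain ≤ f.domain) ≫ f.hom) ≫ (Y ↘ S) =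
        (X.homOfLE (inf_le_right : f.domain ⊓ g.domain ≤ g.domain) ≫ g.hom) ≫ (Y ↘ S) := by
      have hf' : f.hom ≫ (Y ↘ S) = f.domain.ι ≫ (X ↘ S) := Scheme.PartialMap.isOver_iff.1 hf
      have hg' : g.hom ≫ (Y ↘ S) = g.domain.ι ≫ (X ↘ S) := Scheme.PartialMap.isOver_iff.1 hg
      rw [Category.assoc, Category.assoc, hf', hg',
        Scheme.homOfLE_ι_assoc, Scheme.homOfLE_ι_assoc]
    obtain ⟨U, hxU, e⟩ := Groth.Agent.SpreadUniq.spread_out_unique (Y ↘ S)
      (X := (f.domain ⊓ g.domain).toScheme) (x := ⟨genericPoint X, hxf, hxg⟩)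
      (X.homOfLE inf_le_left ≫ f.hom) (X.homOfLE inf_le_right ≫ g.hom) hS (by
        rw [← f.fromSpecStalkOfMem_restrict hdense inf_le_left ⟨hxf, hxg⟩,
          ← g.fromSpecStalkOfMem_restrict hdense inf_le_right ⟨hxf, hxg⟩] at H
        simpa only [Scheme.PartialMap.fromSpecStalkOfMem, Scheme.PartialMap.restrict_domain,
          Scheme.Opens.fromSpecStalkOfMem, Spec.map_inv,
          Scheme.PartialMap.restrict_hom, Category.assoc, IsIso.eq_inv_comp, IsIso.hom_inv_id_assoc] using H)
    refine ⟨(f.domain ⊓ g.domain).ι ''ᵁ U, ((f.domain ⊓ g.domain).ι ''ᵁ U).2.dense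
      ⟨_, ⟨_, hxU, rfl⟩⟩,
      ((Set.image_subset_range _ _).trans_eq (Subtype.range_val)).trans inf_le_left,
      ((Set.image_subset_range _ _).trans_eq (Subtype.range_val)).trans inf_le_right, ?_⟩
    rw [← cancel_epi (Scheme.Hom.isoImage _ _).hom]
    simp only [Scheme.PartialMap.restrict_hom, ← Category.assoc] at e ⊢
    convert! e using 2 <;> rw [← cancel_mono (Scheme.Opens.ι _)] <;> simp


end Groth.Agent.S4343
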