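import Groth.Statements.S4344
import Mathlib

set_option autoImplicit false
universe u
open RatMapD

namespace Groth.Agent.S4344

open AlgebraicGeometry in
open CategoryTheory in
/-- Let X be a reduced S-scheme, Y an S-scheme separated over S and f an S-rational map from X to Y.
There is a representative g of f which is an S-morphism and of which every S-morphism representing f
is a restriction; in particular g is the unique S-morphism of the class of f defined on the largest
open where some S-representative is defined. (The published statement speaks of the domain of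
definition among all representatives; over a base that is not separated that domain can be larger
than the one on which an S-representative exists, and this row takes the latter.) -/
theorem result
    (S X Y : Scheme.{u}) [X.Over S] [Y.Over S] [IsReduced X] [IsSeparated (Y ↘ S)]
    (f : X ⤏ Y) [f.IsOver S] :
    ∃ g : X.PartialMap Y, g.IsOver S ∧ g.toRationalMap = f ∧
      ∀ h : X.PartialMap Y, h.IsOver S → h.toRationalMap = f →
        ∃ hle : h.domain ≤ g.domain, h = g.restrict h.domain h.dense_domain hle := by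
  classical
  let G := {g : X.PartialMap Y // g.IsOver S ∧ g.toRationalMap = f}
  obtain ⟨g₀, hg₀, hg₀f⟩ := f.exists_partialMap_over S
  let D : X.Opens := ⨆ g : G, g.1.domain
  have hD : Dense (D : Set X) :=
    g₀.dense_domain.mono (le_iSup (fun g : G => g.1.domain) ⟨g₀, hg₀, hg₀f⟩)
  let 𝒰 : D.toScheme.OpenCover :=
  { I₀ := G
    X := fun g => g.1.domain.toScheme
    f := fun g => X.homOfLE (le_iSup (fun g : G => g.1.domain) g)
    mem₀ := by
      rw [Scheme.presieve₀_mem_precoverage_iff]
      refine ⟨fun x => ?_, inferInstance⟩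
      obtain ⟨g, hg⟩ := TopologicalSpace.Opens.mem_iSup.mp x.2
      exact ⟨g, ⟨x.1, hg⟩, Subtype.ext (by simp)⟩ }
  have hcompat : ∀ x y : G, Limits.pullback.fst (𝒰.f x) (𝒰.f y) ≫ x.1.hom = Limits.pullback.snd (𝒰.f x) (𝒰.f y) ≫ y.1.hom := by
    intro x y
    refine (cancel_epi (isPullback_opens_inf_le (le_iSup (fun g : G => g.1.domain) x)
      (le_iSup (fun g : G => g.1.domain) y)).isoPullback.hom).mp ?_
    simp only [𝒰, IsPullback.isoPullback_hom_fst_assoc, IsPullback.isoPullback_hom_snd_assoc]
    haveI := x.2.1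
    haveI := y.2.1
    exact (Scheme.PartialMap.equiv_iff_of_isSeparated (S := S) (f := x.1) (g := y.1)).mp
      (Scheme.PartialMap.toRationalMap_eq_iff.mp (x.2.2.trans y.2.2.symm))
  let φ : D.toScheme ⟶ Y := 𝒰.glueMorphisms (fun g => g.1.hom) hcompat
  have hφ : ∀ g : G, X.homOfLE (le_iSup (fun g : G => g.1.domain) g) ≫ φ = g.1.hom := fun g =>
    𝒰.ι_glueMorphisms _ hcompat g
  refine ⟨⟨D, hD, φ⟩, ?_, ?_, ?_⟩
  · rw [Scheme.PartialMap.isOver_iff]
    refine Scheme.Cover.hom_ext 𝒰 _ _ fun g => ?_
    change X.homOfLE (le_iSup (fun g : G => g.1.domain) g) ≫ φ ≫ _ =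
      X.homOfLE (le_iSup (fun g : G => g.1.domain) g) ≫ D.ι ≫ _
    have hg' : g.1.hom ≫ (Y ↘ S) = g.1.domain.ι ≫ (X ↘ S) := Scheme.PartialMap.isOver_iff.1 g.2.1
    rw [← Category.assoc, hφ g, hg', Scheme.homOfLE_ι_assoc]
  · rw [← hg₀f, ← Scheme.PartialMap.restrict_toRationalMap ⟨D, hD, φ⟩ g₀.domain g₀.dense_domain
      (le_iSup (fun g : G => g.1.domain) ⟨g₀, hg₀, hg₀f⟩)]
    congr 1
    refine Scheme.PartialMap.ext _ _ rfl ?_
    simp [hφ ⟨g₀, hg₀, hg₀f⟩]
    erw [Scheme.isoOfEq_rfl, Iso.refl_hom, Category.id_comp]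
  · intro h hh hhf
    refine ⟨le_iSup (fun g : G => g.1.domain) ⟨h, hh, hhf⟩, Scheme.PartialMap.ext _ _ rfl ?_⟩
    simp [hφ ⟨h, hh, hhf⟩]
    erw [Scheme.isoOfEq_rfl, Iso.refl_hom, Category.id_comp]


end Groth.Agent.S4344
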