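import Groth.Statements.S4345
import Groth.Agent.SchLocX.Alg

set_option autoImplicit false
universe u
open SchLoc

namespace Groth.Agent.S4345

/-- Let A and B be subrings of a field R, C the subring generated by A and B, and for a subring E let
L(E) be the set of local subrings E_p of R, p a prime ideal of E. The following are equivalent: (i)
for every local subring Q of R containing A and B, the localizations of A and of B at the traces of
the maximal ideal of Q coincide; (ii) for every prime ideal r of C the localizations of A and B at
the traces of r coincide; (iii) two members of L(A) and L(B) dominated by a common local subring of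
R are equal; (iv) the intersection of L(A) and L(B) is L(C). -/
theorem result
    (R : Type u) [Field R] (A B : Subring R) :
    [ ∀ (Q : LocalSubring R) (hA : A ≤ Q.toSubring) (hB : B ≤ Q.toSubring),
        LocalSubring.ofPrime A ((IsLocalRing.maximalIdeal Q.toSubring).comap (Subring.inclusion hA)) =
          LocalSubring.ofPrime B ((IsLocalRing.maximalIdeal Q.toSubring).comap (Subring.inclusion hB)),
      ∀ r : PrimeSpectrum ↥(A ⊔ B),
        LocalSubring.ofPrime A (r.asIdeal.comap (Subring.inclusion (le_sup_left : A ≤ A ⊔ B))) =
          LocalSubring.ofPrime B (r.asIdeal.comap (Subring.inclusion (le_sup_right : B ≤ A ⊔ B))),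
      ∀ (p : PrimeSpectrum A) (q : PrimeSpectrum B),
        (∃ Q : LocalSubring R, LocalSubring.ofPrime A p.asIdeal ≤ Q ∧ LocalSubring.ofPrime B q.asIdeal ≤ Q) →
          LocalSubring.ofPrime A p.asIdeal = LocalSubring.ofPrime B q.asIdeal,
      Set.range (fun p : PrimeSpectrum A ↦ LocalSubring.ofPrime A p.asIdeal) ∩
          Set.range (fun q : PrimeSpectrum B ↦ LocalSubring.ofPrime B q.asIdeal) =
        Set.range (fun r : PrimeSpectrum ↥(A ⊔ B) ↦ LocalSubring.ofPrime (A ⊔ B) r.asIdeal) ].TFAE := by
  exact SchLocX.localizations_tfae A B

end Groth.Agent.S4345
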