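import Groth.Statements.S4348
import Groth.Agent.QCoh.Qcqs
import Groth.Agent.QCoh.Pullback

set_option autoImplicit false
universe u
open QCohSup

namespace Groth.Agent.S4348
open AlgebraicGeometry CategoryTheory CategoryTheory.Limits in
theorem aux {X : Scheme.{u}} {A B C : X.Modules} (hA : Coh.IsQCoh A) (hB : Coh.IsQCoh B) (hC : Coh.IsQCoh C)
    (f : A ⟶ C) [Mono f] (g : B ⟶ C) : Coh.IsQCoh (pullback f g) := by
  let e : pullback f g ≅ kernel (g ≫ cokernel.π f) :=
    { hom := kernel.lift _ (pullback.snd f g)
        (by rw [← Category.assoc, ← pullback.condition, Category.assoc, cokernel.condition, comp_zero])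
      inv := pullback.lift
        (Abelian.monoLift f (kernel.ι (g ≫ cokernel.π f) ≫ g)
          (by rw [Category.assoc, kernel.condition]))
        (kernel.ι (g ≫ cokernel.π f)) (Abelian.monoLift_comp _ _ _)
      hom_inv_id := by
        rw [← cancel_mono (pullback.snd f g), Category.assoc, pullback.lift_snd, kernel.lift_ι,
          Category.id_comp]
      inv_hom_id := by
        rw [← cancel_mono (kernel.ι (g ≫ cokernel.π f)), Category.assoc, kernel.lift_ι,
          pullback.lift_snd, Category.id_comp] }
  exact (Groth.Agent.QCoh.isQCoh_iff_iso e).2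
    (Groth.Agent.QCoh.isQCoh_kernel hB (Groth.Agent.QCoh.isQCoh_cokernel hA hC f) _)


open AlgebraicGeometry in
open CategoryTheory in
open CategoryTheory.Limits in
/-- Let X be a scheme and U an open subscheme such that the inclusion j : U -> X is quasi-compact. For a
quasi-coherent O_X-module F and a quasi-coherent submodule G of F|U, the canonical extension of G to
X (the preimage of j_*(G) under F -> j_*(F|U), here the fibre product in the category of
O_X-modules) is quasi-coherent. -/
theorem result
    {X : Scheme.{u}} (U : X.Opens) [QuasiCompact U.ι] (F : X.Modules) [Coh.IsQCoh F]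
    (G : (U : Scheme.{u}).Modules) [Coh.IsQCoh G]
    (i : G ⟶ (Scheme.Modules.pullback U.ι).obj F) [Mono i] :
    Coh.IsQCoh (pullback ((Scheme.Modules.pushforward U.ι).map i)
      ((Scheme.Modules.pullbackPushforwardAdjunction U.ι).unit.app F)) := by
  set j := (U.ι)
  have hP : Coh.IsQCoh ((Scheme.Modules.pushforward j).obj ((Scheme.Modules.pullback j).obj F)) :=
    Groth.Agent.QCoh.isQCoh_pushforward j (Groth.Agent.QCoh.isQCoh_pullback j inferInstance)
  have hG' : Coh.IsQCoh ((Scheme.Modules.pushforward j).obj G) :=
    Groth.Agent.QCoh.isQCoh_pushforward j inferInstance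
  exact aux hG' (inferInstance : Coh.IsQCoh F) hP _ _

end Groth.Agent.S4348
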