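import Groth.Statements.S4349
import Mathlib
import Groth.Agent.H9Misc.RatFunLib

set_option autoImplicit false
universe u
open RatFun

namespace Groth.Agent.S4349

open AlgebraicGeometry in
/-- Second assertion (in the form: sections over a dense open inject into the ring of rational
functions). Let X be a reduced scheme and V a dense open subset of X. The canonical map from the
sections of O_X over V to the ring R(X) of rational functions on X is injective. (The published
statement also assumes X locally integral or locally Noetherian; that hypothesis serves the
quasi-coherence of the sheaf of rational functions and is not needed here.) -/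
theorem result (X : Scheme.{u}) [IsReduced X]
    (V : X.Opens) (hV : Dense (V : Set X)) :
    Function.Injective (RatFun.toRing X V hV) := by
  rw [injective_iff_map_eq_zero]
  intro s hs
  obtain ⟨W, hW, hWV, e⟩ := (Groth.Agent.H9Misc.RatFunLib.eq_zero_iff hV s).1 hs
  apply eq_zero_of_basicOpen_eq_bot
  by_contra hne
  obtain ⟨x, hx⟩ : ((X.basicOpen s : X.Opens) : Set X).Nonempty := by
    rw [Set.nonempty_iff_ne_empty]
    exact fun h => hne (SetLike.coe_injective h)
  obtain ⟨y, hy, hyW⟩ := hW.inter_open_nonempty _ (X.basicOpen s).isOpen ⟨x, hx⟩
  have h1 : y ∈ X.basicOpen (Groth.Agent.H9Misc.RatFunLib.res hWV s) := by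
    rw [Scheme.basicOpen_res]
    exact ⟨hyW, hy⟩
  rw [e, Scheme.basicOpen_zero] at h1
  exact h1

end Groth.Agent.S4349
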