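import Groth.Statements.S4350
import Groth.Agent.TorLib.Basic

set_option autoImplicit false
universe u
open TorSh

namespace Groth.Agent.S4350

open AlgebraicGeometry in
open CategoryTheory in
/-- Direct assertion (the sheaf of rational functions of the integral scheme X being the direct image of
the structure sheaf of Spec of the function field under its canonical morphism to X). On an integral
scheme, a quasi-coherent torsion-free O_X-module of rank 1, i.e. whose stalk at the generic point is
one-dimensional over the function field (for instance an invertible module), is isomorphic to a
sub-O_X-module of the sheaf of rational functions. (The published statement adds a converse, which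
for the zero submodule does not hold as stated; it is not included here.) -/
theorem result
    (X : Scheme.{u}) [IsIntegral X] (F : X.Modules) [Coh.IsQCoh F] (hF : TorSh.IsTorsionFree F)
    (h1 : Module.finrank (X.presheaf.stalk (genericPoint X)) (F.presheaf.stalk (genericPoint X)) = 1) :
    ∃ i : F ⟶ (Scheme.Modules.pushforward (X.fromSpecStalk (genericPoint X))).obj
        (Coh.structureModule (Spec (X.presheaf.stalk (genericPoint X)))), Mono i := by
    exact Groth.Agent.TorLib.exists_mono_toRat ‹_› hF h1

end Groth.Agent.S4350
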