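import Groth.Statements.S4355
import Groth.Agent.QCoh.ExtendFT

set_option autoImplicit false
universe u v
open QCohSup

namespace Groth.Agent.S4355
set_option backward.isDefEq.respectTransparency false
set_option backward.isDefEq.respectTransparency.types false


open AlgebraicGeometry in
open CategoryTheory in
/-- Let X be a scheme, L a well-ordered set and (V_l) a cover of X by affine opens indexed by L such
that, for every l, the intersection of V_l with the union of the V_m, m < l, is quasi-compact; let U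
be an open subset of X whose inclusion morphism is quasi-compact. Then for every quasi-coherent
O_X-module F and every quasi-coherent subsheaf of finite type G of F restricted to U there is a
quasi-coherent subsheaf of finite type G' of F whose restriction to U is G. -/
theorem result
    {X : Scheme.{u}} {L : Type v} [LinearOrder L] [WellFoundedLT L]
    (V : L → X.Opens) (hV : ∀ l, IsAffineOpen (V l)) (hcov : ⨆ l, V l = ⊤)
    (hW : ∀ l, IsCompact ((V l : Set X) ∩ ⋃ m ∈ Set.Iio l, (V m : Set X)))
    (U : X.Opens) [QuasiCompact U.ι] (F : X.Modules) [Coh.IsQCoh F]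
    (G : (U : Scheme.{u}).Modules) (i : G ⟶ F.restrict U.ι) [Mono i]
    [Coh.IsQCoh G] (hG : CohB1.IsFT G) :
    ∃ (G' : X.Modules) (i' : G' ⟶ F) (e : G'.restrict U.ι ≅ G), Mono i' ∧ Coh.IsQCoh G' ∧ CohB1.IsFT G' ∧
      e.hom ≫ i = (Scheme.Modules.restrictFunctor U.ι).map i' := by
  refine QCoh.exists_extension' (inferInstance : Coh.IsQCoh F) ?_ i (inferInstance : Coh.IsQCoh G) hG
  refine QCoh.extStep_of_family U V hV
    (fun I => ∀ i ∈ I, ∀ k, k < i → V k ≤ U ⊔ ⨆ m ∈ I, V m) (fun i hi => hi.elim) ?_ fun I hI hne => ?_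
  · rintro C hC i ⟨J, hJ, hi⟩ k hk
    exact (hC J hJ i hi k hk).trans (sup_le_sup_left (biSup_mono fun m hm => ⟨J, hJ, hm⟩) _)
  obtain ⟨x, hx⟩ := QCoh.exists_notMem_of_ne_top hne
  have hx' : x ∈ ⨆ l, V l := hcov ▸ (trivial : x ∈ (⊤ : X.Opens))
  obtain ⟨l₀, hl₀⟩ := TopologicalSpace.Opens.mem_iSup.1 hx'
  obtain ⟨j, hj, hmin⟩ := (wellFounded_lt (α := L)).has_min {l | ¬ V l ≤ U ⊔ ⨆ i ∈ I, V i}
    ⟨l₀, fun h => hx (h hl₀)⟩
  have hjI : j ∉ I := fun h => hj (le_sup_of_le_right (le_iSup₂ (f := fun i (_ : i ∈ I) => V i) j h))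
  have hIj : ∀ i ∈ I, i < j := fun i hi => by
    rcases lt_trichotomy i j with h | h | h
    · exact h
    · exact (hjI (h ▸ hi)).elim
    · exact (hj (hI i hi j h)).elim
  have heq : U ⊔ ⨆ i ∈ I, V i = U ⊔ ⨆ i ∈ Set.Iio j, V i := by
    refine le_antisymm (sup_le_sup_left (biSup_mono hIj) _) (sup_le le_sup_left (iSup₂_le fun i hi => ?_))
    by_contra h
    exact hmin i h hi
  refine ⟨j, hj, fun i hi k hk => ?_, ?_⟩
  · have hkj : k < j := by
      rcases hi with rfl | hi
      · exact hk
      · exact hk.trans (hIj i hi)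
    refine ((le_iSup₂ (f := fun m (_ : m ∈ Set.Iio j) => V m) k hkj).trans (le_sup_right.trans heq.ge)).trans
      (sup_le_sup_left (biSup_mono fun m hm => Or.inr hm) _)
  · rw [heq]
    simp only [TopologicalSpace.Opens.coe_inf, TopologicalSpace.Opens.coe_sup, TopologicalSpace.Opens.coe_iSup, Set.inter_union_distrib_left]
    refine IsCompact.union ?_ (hW j)
    rw [← Scheme.Opens.range_ι U, ← Set.image_preimage_eq_inter_range]
    exact (U.ι.isCompact_preimage (hV j).isCompact).image U.ι.continuous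

end Groth.Agent.S4355
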