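import Groth.Statements.S4356
import Groth.Agent.TorLib.Basic

set_option autoImplicit false
universe u
open TorSh

namespace Groth.Agent.S4356

open AlgebraicGeometry in
open CategoryTheory in
/-- Converse assertion (the sheaf of rational functions of the integral scheme X being modelled as the
direct image of the structure sheaf of Spec of the function field under its canonical morphism to
X). On an integral scheme, a nonzero quasi-coherent sub-O_X-module of the sheaf of rational
functions is torsion-free of rank 1: every stalk is a torsion-free module over the local ring, and
the stalk at the generic point is one-dimensional over the function field. (The published statement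
does not exclude the zero submodule, whose generic stalk has dimension 0; it is excluded here.) -/
theorem result
    (X : Scheme.{u}) [IsIntegral X] (G : X.Modules) [Coh.IsQCoh G]
    (i : G ⟶ (Scheme.Modules.pushforward (X.fromSpecStalk (genericPoint X))).obj
        (Coh.structureModule (Spec (X.presheaf.stalk (genericPoint X))))) [Mono i]
    (hG : ¬ Limits.IsZero G) :
    TorSh.IsTorsionFree G ∧
      Module.finrank (X.presheaf.stalk (genericPoint X)) (G.presheaf.stalk (genericPoint X)) = 1 := by
    exact Groth.Agent.TorLib.torsionFree_rank_one_of_mono i hG

end Groth.Agent.S4356
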