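import Groth.Statements.S4358
import Groth.Agent.FComplLib.StalkFlat
import Groth.Agent.FlatLoc6.FiberComp
-- import your own Groth.Agent.* helpers here

set_option autoImplicit false
universe u
open FCompl

namespace Groth.Agent.S4358

/-- Affine content (the completion of X = Spec A along V(J) has as stalk ring at an open prime 𝔭 the
ring A_{S}, S = A ∖ 𝔭, realised here as the union of the images of the completed rings A_{f}, f ∉ 𝔭,
inside the completed local ring A{S⁻¹}; flatness of the canonical morphism of ringed spaces from the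
completion to X is flatness of A_{S} over the local ring of X at 𝔭, equivalently over A). For A
Noetherian and J ⊆ 𝔭, the canonical ring map A → A_{S} is flat; the hypothesis h records that A →
A{S⁻¹} takes values in A_{S}, which always holds. -/
theorem result
    (A : Type u) [CommRing A] [IsNoetherianRing A] (J 𝔭 : Ideal A) [𝔭.IsPrime] (hJ : J ≤ 𝔭)
    (h : ∀ a : A, ((algebraMap (Localization.AtPrime 𝔭) (FSch.cAtPrime A J 𝔭)).comp
      (algebraMap A (Localization.AtPrime 𝔭))) a ∈ FSch.stalkSubring A J 𝔭) :
    (((algebraMap (Localization.AtPrime 𝔭) (FSch.cAtPrime A J 𝔭)).comp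
      (algebraMap A (Localization.AtPrime 𝔭))).codRestrict (FSch.stalkSubring A J 𝔭) h).Flat := by
    have := FComplLib.faithfullyFlat_stalkSubring A J 𝔭 hJ
    have : IsNoetherianRing (Localization.AtPrime 𝔭) :=
      IsLocalization.isNoetherianRing 𝔭.primeCompl _ inferInstance
    set φ := (((algebraMap (Localization.AtPrime 𝔭) (FSch.cAtPrime A J 𝔭)).comp
        (algebraMap A (Localization.AtPrime 𝔭))).codRestrict (FSch.stalkSubring A J 𝔭) h)
    algebraize [φ]
    have : IsScalarTower A (FSch.stalkSubring A J 𝔭) (FSch.cAtPrime A J 𝔭) :=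
      IsScalarTower.of_algebraMap_eq fun a =>
        IsScalarTower.algebraMap_apply A (Localization.AtPrime 𝔭) (FSch.cAtPrime A J 𝔭) a
    have : Module.Flat A (FSch.cAtPrime A J 𝔭) :=
      Module.Flat.trans A (Localization.AtPrime 𝔭) (FSch.cAtPrime A J 𝔭)
    exact FlatLoc6.flat_left_of_faithfullyFlat A (FSch.stalkSubring A J 𝔭) (FSch.cAtPrime A J 𝔭)

end Groth.Agent.S4358
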