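import Groth.Statements.S4364
import Groth.Agent.H23.SpreadFP

set_option autoImplicit false
universe u
open FinCond

namespace Groth.Agent.S4364

open AlgebraicGeometry in
open CategoryTheory in
/-- Let X and Y be S-schemes with Y locally of finite type over S, and let f, g : X -> Y be S-morphisms.
If f x = g x for some point x and the two induced homomorphisms of local rings O_{Y, f x} -> O_{X,
x} coincide, then f and g coincide on an open neighbourhood of x. No condition is imposed on X. (The
published statement assumes Y of finite type over S; this row assumes Y only locally of finite type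
over S, which is all the published proof uses.) -/
theorem result
    {X Y S : Scheme.{u}} (sX : X ⟶ S) (sY : Y ⟶ S) [LocallyOfFiniteType sY]
    (f g : X ⟶ Y) (hf : f ≫ sY = sX) (hg : g ≫ sY = sX) {x : X} (e : f x = g x)
    (H : f.stalkMap x =
      Y.presheaf.stalkSpecializes (Inseparable.of_eq e.symm).specializes ≫ g.stalkMap x) :
    ∃ U : X.Opens, x ∈ U ∧ U.ι ≫ f = U.ι ≫ g := by
  exact Groth.Agent.H23.SpreadFP.spread_out_unique sX sY f g hf hg e H

end Groth.Agent.S4364
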