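import Groth.Statements.S4365
import Groth.Agent.H23.OmegaPts

set_option autoImplicit false
universe u
open FinCond

namespace Groth.Agent.S4365

open AlgebraicGeometry in
open CategoryTheory in
/-- Let K be a field, X and Y schemes locally of finite type over K, f : X -> Y a K-morphism and Ω an
algebraically closed extension field of K of infinite transcendence degree over K (there is an
algebraically independent sequence in Ω). Then f is surjective if and only if the map it induces
from the K-points of X with values in Ω to those of Y is surjective, i.e. every K-morphism Spec Ω ->
Y factors through f. (The published proposition assumes X and Y of finite type over K, and a later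
remark of the same text extends it to X and Y locally of finite type over K, the form stated here.) -/
theorem result
    (K Ω : Type u) [Field K] [Field Ω] [IsAlgClosed Ω] [Algebra K Ω]
    (t : ℕ → Ω) (ht : AlgebraicIndependent K t)
    {X Y : Scheme.{u}} (pX : X ⟶ Spec (CommRingCat.of K)) (pY : Y ⟶ Spec (CommRingCat.of K))
    [LocallyOfFiniteType pX] [LocallyOfFiniteType pY] (f : X ⟶ Y) (hf : f ≫ pY = pX) :
    Surjective f ↔ ∀ y : Spec (CommRingCat.of Ω) ⟶ Y,
      y ≫ pY = Spec.map (CommRingCat.ofHom (algebraMap K Ω)) →
        ∃ x : Spec (CommRingCat.of Ω) ⟶ X, x ≫ f = y := by
  exact Groth.Agent.H23.OmegaPts.surjective_iff Ω t ht pX pY f hf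

end Groth.Agent.S4365
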