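import Groth.Statements.S4369
import Mathlib.RingTheory.Spectrum.Prime.Topology

set_option autoImplicit false
universe u
open AffSch

namespace Groth.Agent.S4369

/-- Let φ : A' -> A be a ring homomorphism such that every f in A can be written f = h φ(f') with h
invertible in A (this holds in particular when φ is surjective). Then the associated continuous map
Spec A -> Spec A' is a homeomorphism onto its image. -/
theorem result
    {A' A : Type u} [CommRing A'] [CommRing A] (φ : A' →+* A)
    (h : ∀ f : A, ∃ (u : Aˣ) (f' : A'), f = (u : A) * φ f') :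
    Topology.IsEmbedding (PrimeSpectrum.comap φ) := by
  have hi : Topology.IsInducing (PrimeSpectrum.comap φ) := by
    refine ⟨le_antisymm ((PrimeSpectrum.continuous_comap φ).le_induced) ?_⟩
    rw [PrimeSpectrum.isTopologicalBasis_basic_opens.eq_generateFrom]
    rw [show (PrimeSpectrum.zariskiTopology : TopologicalSpace (PrimeSpectrum A)) =
      TopologicalSpace.generateFrom (Set.range fun r : A => (PrimeSpectrum.basicOpen r : Set (PrimeSpectrum A))) from
      PrimeSpectrum.isTopologicalBasis_basic_opens.eq_generateFrom]
    rw [← PrimeSpectrum.isTopologicalBasis_basic_opens.eq_generateFrom]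
    refine le_generateFrom ?_
    rintro _ ⟨f, rfl⟩
    obtain ⟨v, f', rfl⟩ := h f
    refine ⟨PrimeSpectrum.basicOpen f', (PrimeSpectrum.basicOpen f').2, ?_⟩
    ext p
    simp [PrimeSpectrum.mem_basicOpen, p.isPrime.mul_mem_iff_mem_or_mem,
      mt (p.asIdeal.eq_top_of_isUnit_mem · v.isUnit) p.isPrime.ne_top]
  exact hi.isEmbedding

end Groth.Agent.S4369
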