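import Groth.Statements.S4370
import Groth.Agent.H23.RedSub

set_option autoImplicit false
universe u
open RedSep

namespace Groth.Agent.S4370

open AlgebraicGeometry in
open CategoryTheory in
/-- Let f : X -> Y be an open immersion and let g : X_red -> Y_red be the morphism of reduced schemes
induced by f, i.e. the morphism between the closed subschemes defined by the nilradicals whose
composite with the inclusion of Y_red in Y is the inclusion of X_red in X followed by f. Then g is
an open immersion. -/
theorem result
    {X Y : Scheme.{u}} (f : X ⟶ Y) [IsOpenImmersion f]
    (g : X.nilradical.subscheme ⟶ Y.nilradical.subscheme)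
    (hg : g ≫ Y.nilradical.subschemeι = X.nilradical.subschemeι ≫ f) :
    IsOpenImmersion g := by
  have := Groth.Agent.H23.RedSub.isReduced_nilradical Y
  have : IsImmersion (g ≫ Y.nilradical.subschemeι) := hg.symm ▸ inferInstance
  have : IsImmersion g := IsImmersion.of_comp g Y.nilradical.subschemeι
  refine Groth.Agent.H23.RedSub.isOpenImmersion_of_isOpen_range g ?_
  have h1 : Set.range g = Y.nilradical.subschemeι ⁻¹' Set.range f := by
    have hc : Set.range (g ≫ Y.nilradical.subschemeι) = Set.range f := by
      rw [hg, Scheme.Hom.comp_base, TopCat.coe_comp, Set.range_comp,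
        Scheme.IdealSheafData.range_subschemeι, Scheme.support_nilradical,
        TopologicalSpace.Closeds.coe_top, Set.image_univ]
    rw [← hc, Scheme.Hom.comp_base, TopCat.coe_comp, Set.range_comp,
      Set.preimage_image_eq _ Y.nilradical.subschemeι.isEmbedding.injective]
  rw [h1]
  exact f.isOpenEmbedding.isOpen_range.preimage Y.nilradical.subschemeι.continuous

end Groth.Agent.S4370
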