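import Groth.Statements.S4371
import Groth.Agent.H23.PlaneCx
import Mathlib.RingTheory.Polynomial.UniqueFactorization
import Mathlib.RingTheory.MvPolynomial.Ideal

set_option autoImplicit false
universe u
open RedSep

namespace Groth.Agent.S4371

open AlgebraicGeometry in
open CategoryTheory in
/-- Let K be a field and Y = Spec K[s, t] the affine plane over K. The open subset D(s) ∪ D(t) of Y, the
complement of the closed point s = t = 0, is not affine. -/
theorem result
    (K : Type u) [Field K] :
    ¬ IsAffineOpen (X := Spec (CommRingCat.of (MvPolynomial (Fin 2) K)))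
      (PrimeSpectrum.basicOpen (MvPolynomial.X 0 : MvPolynomial (Fin 2) K) ⊔
        PrimeSpectrum.basicOpen (MvPolynomial.X 1 : MvPolynomial (Fin 2) K)) := by
  haveI : IsDomain (CommRingCat.of (MvPolynomial (Fin 2) K)) :=
    inferInstanceAs (IsDomain (MvPolynomial (Fin 2) K))
  exact Groth.Agent.H23.PlaneCx.not_isAffineOpen_sup (R := CommRingCat.of (MvPolynomial (Fin 2) K))
    (MvPolynomial.X 0) (MvPolynomial.X 1) MvPolynomial.X_prime (MvPolynomial.X_ne_zero 1)
    (fun h => absurd (MvPolynomial.X_dvd_X.mp h) (by decide))
    (fun c d h => by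
      simpa using congrArg (MvPolynomial.constantCoeff (σ := Fin 2) (R := K)) h)

end Groth.Agent.S4371
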