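import Groth.Statements.S4372
import Groth.Agent.H23.RedSub

set_option autoImplicit false
universe u
open RedSep

namespace Groth.Agent.S4372

open AlgebraicGeometry in
open CategoryTheory in
/-- Let h : Z -> X be an immersion with Z reduced (a reduced subscheme of X), and let W be the reduced
closed subscheme of X whose underlying space is the closure of h(Z). Then Z is an open subscheme of
W: h factors as an open immersion Z -> W followed by the closed immersion W -> X. Stated as the
existence of such a factorization through a reduced scheme W closed-immersed onto the closure of the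
image. -/
theorem result
    {Z X : Scheme.{u}} (h : Z ⟶ X) [IsImmersion h] [IsReduced Z] :
    ∃ (W : Scheme.{u}) (j : Z ⟶ W) (i : W ⟶ X), IsOpenImmersion j ∧ IsClosedImmersion i ∧
      IsReduced W ∧ Set.range i = closure (Set.range h) ∧ j ≫ i = h := by
  let T : TopologicalSpace.Closeds X := ⟨closure (Set.range h), isClosed_closure⟩
  let i := (Scheme.IdealSheafData.vanishingIdeal T).subschemeι
  have hi : Set.range i = closure (Set.range h) := Groth.Agent.H23.RedSub.range_vanishingIdeal T
  obtain ⟨j, hj⟩ := Groth.Agent.H23.RedSub.exists_lift_closed h i (subset_closure.trans hi.ge)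
  have hop := Groth.Agent.H23.RedSub.isOpen_range_of_comp j i h hj hi
  have : IsImmersion (j ≫ i) := hj.symm ▸ inferInstance
  have : IsImmersion j := IsImmersion.of_comp j i
  exact ⟨_, j, i, Groth.Agent.H23.RedSub.isOpenImmersion_of_isOpen_range j hop, inferInstance,
    inferInstance, hi, hj⟩

end Groth.Agent.S4372
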