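import Groth.Statements.S4377
import Groth.Agent.QCoh16.SerreRel
import Groth.Agent.QCoh.OpenSub

set_option autoImplicit false
universe u
open CategoryTheory CategoryTheory.Limits AlgebraicGeometry
open EGA2

namespace Groth.Agent.S4377

/-- (c') ⇒ (a): let f : X → Y be a separated quasi-compact morphism such that R¹f_*(J) = 0 (first higher
direct image of the underlying abelian sheaf) for every quasi-coherent submodule J of O_X. Then f is
an affine morphism. -/
theorem result {X Y : Scheme.{u}} (f : X ⟶ Y) [IsSeparated f] [QuasiCompact f]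
    (h : ∀ (J : X.Modules) (i : J ⟶ Coh.structureModule X), Mono i → Coh.IsQCoh J →
      Limits.IsZero ((Coh.RpushAb f 1).obj (Coh.toAb J))) :
    IsAffineHom f := by
  refine Groth.Agent.QCoh16.isAffineHom_of_lifts f fun y Z Z' hZ V hy q => ?_
  let j := Groth.Agent.QCoh16.incl hZ
  let S : ShortComplex X.Modules := ShortComplex.mk j (cokernel.π j) (cokernel.condition j)
  have hS : S.ShortExact :=
    { exact := ShortComplex.exact_of_g_is_cokernel _ (cokernelIsCokernel j) }
  obtain ⟨_, ⟨V', hV', rfl⟩, hy', hle⟩ :=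
    Y.isBasis_affineOpens.exists_subset_of_mem_open hy V.isOpen
  have h1 := Groth.Agent.QCoh.subsingleton_HU_preimage_one f (Groth.Agent.QCoh.isQCoh_vanIdeal Z')
    (h _ (Groth.Agent.QCoh.vanIdeal Z').ι inferInstance (Groth.Agent.QCoh.isQCoh_vanIdeal Z')) hV'
  obtain ⟨e, he⟩ := Groth.Agent.SiteBase.surjective_sections_of_HU_one
    (Groth.Agent.QCoh.toAb_shortExact hS) (f ⁻¹ᵁ V') h1
    (S.X₃.presheaf.map (homOfLE (f.preimage_mono hle)).op q)
  exact ⟨V', hle, hy', e, he⟩

end Groth.Agent.S4377
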