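import Groth.Statements.S4378
import Groth.Agent.Proj16.UClosedAffine

set_option autoImplicit false
universe u
open CategoryTheory CategoryTheory.Limits AlgebraicGeometry
open EGA2

namespace Groth.Agent.S4378

/-- Let q : Y → S be separated and of finite type, and f : X → Y a morphism such that X is also
separated and of finite type over S through f ≫ q. Then f is proper if and only if for every scheme
S' over S the morphism X ×_S S' → Y ×_S S' induced by f is closed (as a map of topological spaces). -/
theorem result {X Y S : Scheme.{u}} (q : Y ⟶ S) (f : X ⟶ Y)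
    [IsSeparated q] [LocallyOfFiniteType q] [QuasiCompact q]
    [IsSeparated (f ≫ q)] [LocallyOfFiniteType (f ≫ q)] [QuasiCompact (f ≫ q)] :
    IsProper f ↔ ∀ (S' : Scheme.{u}) (g : S' ⟶ S),
      IsClosedMap (pullback.map (f ≫ q) g q g f (𝟙 S') (𝟙 S) (Category.comp_id (f ≫ q))
        ((Category.comp_id g).trans (Category.id_comp g).symm)).base := by
  have hA : ∀ (S' : Scheme.{u}) (g : S' ⟶ S), IsPullback (pullback.fst (f ≫ q) g)
      (pullback.map (f ≫ q) g q g f (𝟙 S') (𝟙 S) (Category.comp_id (f ≫ q))
        ((Category.comp_id g).trans (Category.id_comp g).symm)) f (pullback.fst q g) := fun S' g ↦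
    IsPullback.of_bot (by
      rw [pullback.lift_snd, Category.comp_id]
      exact IsPullback.of_hasPullback (f ≫ q) g)
      (pullback.lift_fst _ _ _).symm (IsPullback.of_hasPullback q g)
  constructor
  · intro hf S' g
    have : UniversallyClosed _ := MorphismProperty.of_isPullback (hA S' g) inferInstance
    exact Scheme.Hom.isClosedMap (pullback.map (f ≫ q) g q g f (𝟙 S') (𝟙 S) _ _)
  · intro H
    have : IsSeparated f := IsSeparated.of_comp f q
    have : LocallyOfFiniteType f := locallyOfFiniteType_of_comp f q
    have : UniversallyClosed f := by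
      refine ⟨fun X' Y' i₁ i₂ f' hp ↦ ?_⟩
      let g := i₂ ≫ q
      let m := pullback.map (f ≫ q) g q g f (𝟙 Y') (𝟙 S) (Category.comp_id (f ≫ q))
        ((Category.comp_id g).trans (Category.id_comp g).symm)
      let Γ : Y' ⟶ pullback q g := pullback.lift i₂ (𝟙 _) (Category.id_comp _).symm
      have : IsClosedImmersion (Γ ≫ pullback.snd q g) := by
        rw [pullback.lift_snd]; infer_instance
      have hΓ : IsClosedImmersion Γ := IsClosedImmersion.of_comp Γ (pullback.snd q g)
      let α : X' ⟶ pullback (f ≫ q) g := pullback.lift i₁ f' (by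
        rw [← Category.assoc, ← hp.w, Category.assoc])
      have hB : IsPullback α f' m Γ :=
        IsPullback.of_right (by rw [pullback.lift_fst, pullback.lift_fst]; exact hp.flip)
          (by
            apply pullback.hom_ext
            · simp only [Category.assoc, α, m, Γ, pullback.lift_fst, pullback.lift_fst_assoc]; exact hp.w.symm
            · simp only [Category.assoc, α, m, Γ, pullback.lift_snd, pullback.lift_snd_assoc, Category.comp_id]) (hA Y' g)
      have : IsClosedImmersion α := MorphismProperty.of_isPullback hB.flip hΓ
      intro Z hZ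
      have h1 := ((H Y' g) _ (α.isClosedEmbedding.isClosedMap Z hZ)).preimage Γ.continuous
      convert h1 using 1
      ext y
      constructor
      · rintro ⟨z, hz, rfl⟩
        exact ⟨α z, ⟨z, hz, rfl⟩, by
          rw [← Scheme.Hom.comp_apply, ← Scheme.Hom.comp_apply]
          exact congrArg (fun k : X' ⟶ pullback q g ↦ k z) hB.w⟩
      · rintro ⟨_, ⟨z, hz, rfl⟩, e⟩
        refine ⟨z, hz, Γ.isClosedEmbedding.injective ?_⟩
        rw [← e, ← Scheme.Hom.comp_apply, ← Scheme.Hom.comp_apply]
        exact congrArg (fun k : X' ⟶ pullback q g ↦ k z) hB.w.symm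
    exact {}

end Groth.Agent.S4378
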