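import Groth.Statements.S4379
import Groth.Agent.Proj16.UClosedAffine

set_option autoImplicit false
universe u
open CategoryTheory CategoryTheory.Limits AlgebraicGeometry
open EGA2

namespace Groth.Agent.S4379

/-- Let S be a locally Noetherian scheme and f : X → S a separated morphism of finite type. Then f is
proper if and only if for every n ≥ 0 the projection X ×_S A^n_S → A^n_S (base change of f to affine
n-space over S) is a closed map. In particular properness of f can be tested on base changes along
morphisms of finite type S' → S. -/
theorem result {X S : Scheme.{u}} [IsLocallyNoetherian S] (f : X ⟶ S)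
    [IsSeparated f] [LocallyOfFiniteType f] [QuasiCompact f] :
    IsProper f ↔ ∀ n : ℕ, IsClosedMap (pullback.snd f (𝔸(ULift.{u} (Fin n); S) ↘ S)).base := by
  constructor
  · intro hf n
    exact (pullback.snd f (𝔸(ULift.{u} (Fin n); S) ↘ S)).isClosedMap
  · intro H
    have := Groth.Agent.Proj16.universallyClosed_of_affineSpace f H
    exact {}

end Groth.Agent.S4379
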