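import Groth.Statements.S4388
import Groth.Agent.AmpleX.SemiAmple

set_option autoImplicit false
universe u
open CategoryTheory CategoryTheory.Limits AlgebraicGeometry
open EGA2

namespace Groth.Agent.S4388

/-- Let f : X → Y be a quasi-compact morphism, L an O_X-module ample relative to f and L' an invertible
O_X-module such that, for some n > 0, the canonical morphism f^*(f_*(L'^{⊗n})) → L'^{⊗n} (counit of
the adjunction between f^* and f_*) is an epimorphism. Then L ⊗ L' is ample relative to f. -/
theorem result {X Y : Scheme.{u}} (f : X ⟶ Y) [QuasiCompact f] (L L' : X.Modules)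
    (hL : RelAmple.IsRelAmple f L) (hL' : PicF.IsInvertible L') (n : ℕ) (hn : 0 < n)
    (hepi : Epi ((Scheme.Modules.pullbackPushforwardAdjunction f).counit.app (CohB1.tensorPow L' n))) :
    RelAmple.IsRelAmple f (CohB1.tensorMod L L') := by
  exact AmpleX.isRelAmple_tensor_of_epi_counit f hL hL' hn hepi

end Groth.Agent.S4388
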