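import Groth.Statements.S4395
import Groth.Agent.Proj16.Points

set_option autoImplicit false
universe u
open EGA2

namespace Groth.Agent.S4395

/-- Let S be a ring graded in nonnegative degrees, n₀ > 0 an integer and, for every n ≥ n₀, p_n an
additive subgroup of S_n. Then there is a graded prime ideal p of S not containing S_+ with p ∩ S_n
= p_n for all n ≥ n₀ if and only if: (1) S_m p_n ⊆ p_{m+n} for all m ≥ 0 and n ≥ n₀; (2) for m ≥ n₀,
n ≥ n₀, f ∈ S_m, g ∈ S_n, fg ∈ p_{m+n} implies f ∈ p_m or g ∈ p_n; (3) p_n ≠ S_n for at least one n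
≥ n₀. Moreover such a graded prime ideal is unique. -/
theorem result {R A : Type u} [CommRing R] [CommRing A] [Algebra R A] (𝒜 : ℕ → Submodule R A) [GradedAlgebra 𝒜]
    (n₀ : ℕ) (hn₀ : 0 < n₀) (p : ℕ → AddSubgroup A) (hp : ∀ n : ℕ, n₀ ≤ n → (p n : Set A) ⊆ 𝒜 n) :
    ((∃ 𝔭 : HomogeneousIdeal 𝒜, 𝔭.toIdeal.IsPrime ∧ ¬ HomogeneousIdeal.irrelevant 𝒜 ≤ 𝔭 ∧
        ∀ n : ℕ, n₀ ≤ n → (𝔭.toIdeal : Set A) ∩ 𝒜 n = p n) ↔
      ((∀ m n : ℕ, n₀ ≤ n → ∀ a ∈ 𝒜 m, ∀ b ∈ p n, a * b ∈ p (m + n)) ∧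
        (∀ m n : ℕ, n₀ ≤ m → n₀ ≤ n → ∀ f ∈ 𝒜 m, ∀ g ∈ 𝒜 n, f * g ∈ p (m + n) → f ∈ p m ∨ g ∈ p n) ∧
        ∃ n : ℕ, n₀ ≤ n ∧ (p n : Set A) ≠ 𝒜 n)) ∧
    ∀ 𝔭 𝔮 : HomogeneousIdeal 𝒜, 𝔭.toIdeal.IsPrime → 𝔮.toIdeal.IsPrime →
      ¬ HomogeneousIdeal.irrelevant 𝒜 ≤ 𝔭 → ¬ HomogeneousIdeal.irrelevant 𝒜 ≤ 𝔮 →
      (∀ n : ℕ, n₀ ≤ n → (𝔭.toIdeal : Set A) ∩ 𝒜 n = p n) → (∀ n : ℕ, n₀ ≤ n → (𝔮.toIdeal : Set A) ∩ 𝒜 n = p n) →
      𝔭 = 𝔮 := by
  classical
  constructor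
  · constructor
    · rintro ⟨P, hP, hrel, hPp⟩
      have hmem : ∀ n, n₀ ≤ n → ∀ x, x ∈ p n ↔ x ∈ P ∧ x ∈ 𝒜 n := fun n hn x ↦
        ⟨fun h ↦ (hPp n hn).symm.subset h, fun h ↦ (hPp n hn).subset h⟩
      refine ⟨fun m n hn a ha b hb ↦ (hmem _ (hn.trans (Nat.le_add_left n m)) _).mpr
          ⟨Ideal.mul_mem_left _ _ ((hmem n hn b).mp hb).1,
            SetLike.mul_mem_graded ha ((hmem n hn b).mp hb).2⟩,
        fun m n hm hn f hf g hg hfg ↦ ?_, ?_⟩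
      · exact (hP.mem_or_mem ((hmem _ (hn.trans (Nat.le_add_left n m)) _).mp hfg).1).imp
          (fun h ↦ (hmem m hm f).mpr ⟨h, hf⟩) fun h ↦ (hmem n hn g).mpr ⟨h, hg⟩
      · obtain ⟨i, hi, t, ht, htP⟩ : ∃ i, 0 < i ∧ ∃ t ∈ 𝒜 i, t ∉ P := by
          by_contra! H
          refine hrel ((HomogeneousIdeal.irrelevant_le 𝒜).mpr fun i hi x hx ↦ H i hi x hx)
        refine ⟨n₀ * i, Nat.le_mul_of_pos_right _ hi, fun h ↦ ?_⟩
        have hmem' : t ^ n₀ ∈ 𝒜 (n₀ * i) := by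
          simpa using SetLike.pow_mem_graded n₀ ht
        exact htP (hP.mem_of_pow_mem n₀
          ((hmem _ (Nat.le_mul_of_pos_right _ hi) _).mp (h.symm.subset hmem')).1)
    · rintro ⟨hmul, hprime, e, he, hpe⟩
      obtain ⟨f, hf, hfp⟩ : ∃ f ∈ 𝒜 e, f ∉ p e := by
        by_contra! H
        exact hpe (Set.Subset.antisymm (hp e he) H)
      let carrier : Set A := {x | ∀ i, f * GradedRing.proj 𝒜 i x ∈ p (e + i)}
      have hsub : ∀ {x i}, x ∈ 𝒜 i → (x ∈ carrier ↔ f * x ∈ p (e + i)) := by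
        intro x i hx
        refine ⟨fun h ↦ by simpa [Groth.Agent.Proj16.proj_of_mem 𝒜 hx] using h i, fun h j ↦ ?_⟩
        rcases eq_or_ne i j with rfl | hij
        · rwa [Groth.Agent.Proj16.proj_of_mem 𝒜 hx]
        · rw [Groth.Agent.Proj16.proj_of_mem_ne 𝒜 hx hij, mul_zero]
          exact zero_mem _
      let I : Ideal A :=
        { carrier := carrier
          add_mem' := fun {x y} hx hy i ↦ by rw [map_add, mul_add]; exact add_mem (hx i) (hy i)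
          zero_mem' := fun i ↦ by simp
          smul_mem' := fun a x hx i ↦ by
            rw [smul_eq_mul, ← DirectSum.sum_support_decompose 𝒜 a, Finset.sum_mul, map_sum,
              Finset.mul_sum]
            refine sum_mem fun j _ ↦ ?_
            rw [mul_comm _ x, Groth.Agent.Proj16.proj_mul_of_mem 𝒜 (SetLike.coe_mem _)]
            split_ifs with hji
            · rw [← mul_assoc, mul_comm (f * _)]
              convert hmul j (e + (i - j)) (he.trans (Nat.le_add_right _ _)) _ (SetLike.coe_mem _)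
                _ (hx (i - j)) using 2
              omega
            · simp }
      have hIhom : I.IsHomogeneous 𝒜 := fun i x hx ↦
        (hsub (SetLike.coe_mem _)).mpr (hx i)
      have hff : f * f ∉ p (e + e) := fun h ↦ (hprime e e he he f hf f hf h).elim hfp hfp
      refine ⟨⟨I, hIhom⟩, ?_, ?_, fun n hn ↦ ?_⟩
      · refine hIhom.isPrime_of_homogeneous_mem_or_mem (fun h ↦ ?_) ?_
        · have h1 : (1 : A) ∈ I := h ▸ trivial
          exact hfp (by simpa using (hsub (SetLike.one_mem_graded 𝒜)).mp h1)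
        · rintro x y ⟨i, hxi⟩ ⟨j, hyj⟩ hxy
          have h1 := hmul e _ (he.trans (Nat.le_add_right _ _)) f hf _
            ((hsub (SetLike.mul_mem_graded hxi hyj)).mp hxy)
          rw [show f * (f * (x * y)) = (f * x) * (f * y) by ring,
            show e + (e + (i + j)) = (e + i) + (e + j) by omega] at h1
          exact (hprime _ _ (he.trans (Nat.le_add_right _ _)) (he.trans (Nat.le_add_right _ _)) _
            (SetLike.mul_mem_graded hf hxi) _ (SetLike.mul_mem_graded hf hyj) h1).imp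
            (hsub hxi).mpr (hsub hyj).mpr
      · intro hle
        exact hff ((hsub hf).mp (hle
          (HomogeneousIdeal.mem_irrelevant_of_mem 𝒜 (hn₀.trans_le he) hf)))
      · ext x
        refine ⟨fun hx ↦ ?_, fun hx ↦ ⟨(hsub (hp n hn hx)).mpr (hmul e n hn f hf x hx), hp n hn hx⟩⟩
        exact (hprime e n he hn f hf x hx.2 ((hsub hx.2).mp hx.1)).resolve_left hfp
  · intro P Q hP hQ hPr hQr hPp hQp
    obtain ⟨i, hi, t, ht, htP⟩ : ∃ i, 0 < i ∧ ∃ t ∈ 𝒜 i, t ∉ P := by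
      by_contra! H
      exact hPr ((HomogeneousIdeal.irrelevant_le 𝒜).mpr fun i hi x hx ↦ H i hi x hx)
    have htail : ∀ n, n₀ ≤ n → ∀ x ∈ 𝒜 n, x ∈ P ↔ x ∈ Q := fun n hn x hx ↦
      ⟨fun h ↦ ((hQp n hn).symm.subset ((hPp n hn).subset ⟨h, hx⟩)).1,
       fun h ↦ ((hPp n hn).symm.subset ((hQp n hn).subset ⟨h, hx⟩)).1⟩
    have htn : t ^ n₀ ∈ 𝒜 (n₀ * i) := by simpa using SetLike.pow_mem_graded n₀ ht
    have htQ : t ^ n₀ ∉ Q := fun h ↦
      htP (hP.mem_of_pow_mem n₀ ((htail _ (Nat.le_mul_of_pos_right _ hi) _ htn).mpr h))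
    have htP' : t ^ n₀ ∉ P := fun h ↦ htP (hP.mem_of_pow_mem n₀ h)
    refine HomogeneousIdeal.ext' fun j x hx ↦ ?_
    have hjn : n₀ ≤ n₀ * i + j := (Nat.le_mul_of_pos_right _ hi).trans (Nat.le_add_right _ _)
    have hiff := htail _ hjn _ (SetLike.mul_mem_graded htn hx)
    constructor
    · intro h; exact (hQ.mem_or_mem (hiff.mp (Ideal.mul_mem_left _ _ h))).resolve_left htQ
    · intro h; exact (hP.mem_or_mem (hiff.mpr (Ideal.mul_mem_left _ _ h))).resolve_left htP'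

end Groth.Agent.S4395
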