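import Groth.Statements.S4401
import Groth.Agent.TwistX.Global

set_option autoImplicit false
universe u
open CategoryTheory CategoryTheory.Limits AlgebraicGeometry
open EGA2

namespace Groth.Agent.S4401

/-- Let S be a ring graded in nonnegative degrees whose irrelevant ideal S_+ is generated by finitely
many elements of degree one, and X = Proj S. Then for every integer n ≥ 0 there exist an integer k
and an epimorphism of O_X-modules O_X^k → O_X(n). -/
theorem result {R A : Type u} [CommRing R] [CommRing A] [Algebra R A] (𝒜 : ℕ → Submodule R A) [GradedAlgebra 𝒜]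
    (s : Finset A) (hs1 : ∀ f ∈ s, f ∈ 𝒜 1)
    (hs : (HomogeneousIdeal.irrelevant 𝒜).toIdeal = Ideal.span (s : Set A)) (n : ℕ) :
    ∃ (k : ℕ) (p : FlatMod.freeMod (Proj 𝒜) k ⟶ Twist.twist 𝒜 (n : ℤ)), Epi p := by
  classical
  let g : Fin s.card → A := fun i => (s.equivFin.symm i : A)
  have hcov : ⨆ i, Proj.basicOpen 𝒜 (g i) = ⊤ := by
    refine Proj.iSup_basicOpen_eq_top 𝒜 g ?_
    rw [hs]
    refine Ideal.span_mono fun a ha => ⟨s.equivFin ⟨a, ha⟩, ?_⟩
    simp [g]
  exact ⟨_, InvX.exists_epi_freeMod (TwistX.generatedBy_pow g (fun i => hs1 _ (s.equivFin.symm i).2) hcov n)⟩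

end Groth.Agent.S4401
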