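import Groth.Statements.S4406
import Groth.Agent.AdjunctBC16.BaseRing
-- import your own Groth.Agent.* helpers here

set_option autoImplicit false
set_option backward.isDefEq.respectTransparency false
set_option backward.isDefEq.respectTransparency.types false
set_option linter.style.haveILetI false
universe u
open CategoryTheory CategoryTheory.Limits AlgebraicGeometry
open EGA2

namespace Groth.Agent.S4406
open Groth.Agent

/-- The twisting sheaves under base change: let A' → A be a ring homomorphism, S' a graded A'-algebra
and S = S' ⊗_{A'} A with the induced grading (here: any graded A-algebra S with a graded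
homomorphism φ : S' → S exhibiting S as the base change of S'), and Φ : Proj S → Proj S' the induced
morphism. Then for every integer n the O-module Φ^*(O(n)) is isomorphic to O(n) on Proj S.
(Existence of an isomorphism only; the published identification is canonical. The published
statement also covers a general graded S'-module M'; this row states the twisting sheaves only.) -/
theorem result {R R' A B : Type u} [CommRing R'] [CommRing R] [Algebra R' R]
    [CommRing B] [Algebra R' B] (ℬ : ℕ → Submodule R' B) [GradedAlgebra ℬ]
    [CommRing A] [Algebra R A] [Algebra R' A] [IsScalarTower R' R A] (𝒜 : ℕ → Submodule R A) [GradedAlgebra 𝒜]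
    [Algebra B A] [IsScalarTower R' B A] [Algebra.IsPushout R' R B A]
    (φ : ℬ →+*ᵍ 𝒜) (hφA : ∀ b : B, φ b = algebraMap B A b)
    (hφ : HomogeneousIdeal.irrelevant 𝒜 ≤ (HomogeneousIdeal.irrelevant ℬ).map φ) (n : ℤ) :
    Nonempty ((Scheme.Modules.pullback (Proj.map φ hφ)).obj (Twist.twist ℬ n) ≅ Twist.twist 𝒜 n) := by
  classical
  have hA : ∀ r, algebraMap R' B r ∈ ℬ 0 := fun r => by
    rw [Algebra.algebraMap_eq_smul_one]
    exact Submodule.smul_mem _ _ SetLike.GradedOne.one_mem
  have hB : ∀ r, algebraMap R A r ∈ 𝒜 0 := fun r => by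
    rw [Algebra.algebraMap_eq_smul_one]
    exact Submodule.smul_mem _ _ SetLike.GradedOne.one_mem
  have hι : ∀ r, φ (algebraMap R' B r) = algebraMap R A (algebraMap R' R r) := fun r => by
    rw [hφA, ← IsScalarTower.algebraMap_apply R' B A, ← IsScalarTower.algebraMap_apply R' R A]
  have h : IsBaseChange R (IsScalarTower.toAlgHom R' B A).toLinearMap := Algebra.IsPushout.out
  have hbc : AdjunctBC16.IsBC (algebraMap R' R) φ.toRingHom.toAddMonoidHom := by
    intro Q _ _ w hw
    letI : Module R' Q := Module.compHom Q (algebraMap R' R)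
    haveI : IsScalarTower R' R Q := ⟨fun r s x => by
      show (r • s) • x = algebraMap R' R r • s • x
      rw [Algebra.smul_def, mul_smul]⟩
    let g : B →ₗ[R'] Q := { toFun := w, map_add' := w.map_add, map_smul' := hw }
    have e : ∀ b, φ.toRingHom.toAddMonoidHom b = (IsScalarTower.toAlgHom R' B A).toLinearMap b := hφA
    exact ⟨h.lift g, fun b => by rw [e]; exact h.lift_eq g b,
      fun L hL => h.algHom_ext _ _ fun b => by rw [h.lift_eq, ← e]; exact hL b⟩
  haveI := AdjunctBC16.isIso_adjunct_twist φ hφ (algebraMap R' R) hA hB hι hbc n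
  have e : Nonempty ((Scheme.Modules.pullback (Proj.map φ hφ)).obj (GrMod.tilde ℬ ℬ n) ≅ GrMod.tilde 𝒜 𝒜 n) :=
    ⟨asIso (((Scheme.Modules.pullbackPushforwardAdjunction (Proj.map φ hφ)).homEquiv _ _).symm
      (GrMod.comap φ hφ (AdjunctBC16.semiSelf φ) (AdjunctBC16.semiSelf_mem φ) n))⟩
  exact e

end Groth.Agent.S4406
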