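import Groth.Statements.S4411
import Groth.Agent.Proj16.Veronese

set_option autoImplicit false
universe u
open EGA2

namespace Groth.Agent.S4411

/-- Let S be a ring graded in nonnegative degrees which is an S_0-algebra of finite type, d > 0, and
S^{(d)} the graded ring whose degree-n part is S_{nd} (given here as any graded ring S' with an
injective algebra homomorphism φ : S' → S carrying S'_n onto S_{nd} for every n). Then S^{(d)} is an
algebra of finite type over its degree-zero part S'_0 (which φ identifies with S_0). -/
theorem result {R A : Type u} [CommRing R] [CommRing A] [Algebra R A] (𝒜 : ℕ → Submodule R A) [GradedAlgebra 𝒜] [Algebra.FiniteType (𝒜 0) A]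
    {B : Type u} [CommRing B] [Algebra R B] (ℬ : ℕ → Submodule R B) [GradedAlgebra ℬ]
    (d : ℕ) (hd : 0 < d) (φ : B →ₐ[R] A) (hφ : Function.Injective φ)
    (hdeg : ∀ n : ℕ, Submodule.map φ.toLinearMap (ℬ n) = 𝒜 (n * d)) :
    Algebra.FiniteType (ℬ 0) B := by
  exact Groth.Agent.Proj16.veronese_finiteType 𝒜 ℬ d φ hd hφ hdeg

end Groth.Agent.S4411
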