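import Groth.Statements.S4414
import Groth.Agent.ProjAmple17.Basic

set_option backward.isDefEq.respectTransparency false
set_option backward.isDefEq.respectTransparency.types false
set_option linter.style.haveILetI false
-- import your own Groth.Agent.* helpers here

set_option autoImplicit false
universe u
open CategoryTheory CategoryTheory.Limits AlgebraicGeometry
open EGA2

namespace Groth.Agent.S4414

/-- Let Y be a quasi-compact separated scheme possessing an ample invertible O_Y-module, and f : X → Y a
morphism. Then f is quasi-projective (of finite type with some O_X-module ample relative to f) if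
and only if f is of finite type and there are r ≥ 0 and an immersion i of X into projective r-space
over Y with i followed by the projection equal to f. -/
theorem result {X Y : Scheme.{u}} [CompactSpace Y] [Y.IsSeparated]
    (hY : ∃ M : Y.Modules, CohB1.IsAmple M) (f : X ⟶ Y) :
    RelProj.IsQuasiProjective f ↔
      (LocallyOfFiniteType f ∧ QuasiCompact f ∧
        ∃ (r : ℕ) (i : X ⟶ CohB1.ProjSpaceOver r Y), IsImmersion i ∧ i ≫ CohB1.ProjSpaceOver.toBase r Y = f) := by
  constructor
  · rintro ⟨h1, h2, L, hL⟩
    obtain ⟨L', hL'⟩ := ProjAmple17.exists_isAmple_of_isRelAmple hY f hL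
    obtain ⟨n, i, hi, -, hc⟩ := ProjAmple17.exists_immersion_of_isAmple f hL'
    exact ⟨h1, h2, n, i, hi, hc⟩
  · rintro ⟨h1, h2, n, i, hi, rfl⟩
    haveI : IsProper (CohB1.ProjSpaceOver.toBase n Y) :=
      MorphismProperty.pullback_snd _ _ (PnCoh.Chow.isProper_toSpec n _)
    haveI := QuasiCompact.of_comp i (CohB1.ProjSpaceOver.toBase n Y)
    exact ⟨h1, h2, ProjAmple17.exists_isRelAmple_of_immersion i⟩

end Groth.Agent.S4414
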