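import Groth.Statements.S4416
import Groth.Agent.Chow17.Birat
-- import your own Groth.Agent.* helpers here

set_option autoImplicit false
universe u
open CategoryTheory CategoryTheory.Limits AlgebraicGeometry
open EGA2

set_option backward.isDefEq.respectTransparency false
set_option backward.isDefEq.respectTransparency.types false
open AlgebraicGeometry CategoryTheory CategoryTheory.Limits
open Groth.Agent

namespace Groth.Agent.S4416

/-- Let r : X → S be separated of finite type, and assume either S Noetherian, or S quasi-compact and
separated with X having finitely many irreducible components. Then r is proper if and only if there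
are a scheme X' and a surjective morphism f : X' → X with f ≫ r projective. Moreover, when r is
proper, f can be chosen so that in addition there is a dense open U of X with f⁻¹(U) dense in X'
over which f is an isomorphism, and with X' irreducible (resp. reduced) if X is. (The published
statement also remarks that f is then projective; that is not stated here.) -/
theorem result {X S : Scheme.{u}} (r : X ⟶ S) [IsSeparated r] [LocallyOfFiniteType r] [QuasiCompact r]
    (h : IsNoetherian S ∨ (CompactSpace S ∧ S.IsSeparated ∧ (irreducibleComponents X).Finite)) :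
    (IsProper r ↔ ∃ (X' : Scheme.{u}) (f : X' ⟶ X), Surjective f ∧ RelProj.IsProjective (f ≫ r)) ∧
    (IsProper r → ∃ (X' : Scheme.{u}) (f : X' ⟶ X), Surjective f ∧ RelProj.IsProjective (f ≫ r) ∧
        (∃ U : X.Opens, Dense (U : Set X) ∧ Dense ((f ⁻¹ᵁ U : X'.Opens) : Set X') ∧ IsIso (f ∣_ U)) ∧
        (IrreducibleSpace X → IrreducibleSpace X') ∧ (IsReduced X → IsReduced X')) := by
  have hS : (CompactSpace S ∧ S.IsSeparated) ∨ TopologicalSpace.NoetherianSpace S := by
    rcases h with hN | ⟨hc, hs, -⟩
    · haveI := hN
      exact Or.inr inferInstance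
    · exact Or.inl ⟨hc, hs⟩
  have key : IsProper r → ∃ (X' : Scheme.{u}) (f : X' ⟶ X), Surjective f ∧ RelProj.IsProjective (f ≫ r) ∧
      (∃ U : X.Opens, Dense (U : Set X) ∧ Dense ((f ⁻¹ᵁ U : X'.Opens) : Set X') ∧ IsIso (f ∣_ U)) ∧
      (IrreducibleSpace X → IrreducibleSpace X') ∧ (IsReduced X → IsReduced X') := fun hr => by
    obtain ⟨X', f, -, hp, hs, ⟨L, hva⟩, hU, hred, hirr⟩ := Chow17.exists_birational_chow r h
    haveI := (ProjCl17.isQuasiProjective_and_isProper hp).2
    exact ⟨X', f, hs, RelVA16.isProjective_of_isProper_of_va hS hva, hU, hirr, hred⟩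
  refine ⟨⟨fun hr => ?_, ?_⟩, key⟩
  · obtain ⟨X', f, hs, hp, -⟩ := key hr
    exact ⟨X', f, hs, hp⟩
  · rintro ⟨X', f, hs, hp⟩
    haveI := hs
    haveI := (ProjCl17.isQuasiProjective_and_isProper hp).2
    haveI := UniversallyClosed.of_comp_surjective f r
    exact { }

end Groth.Agent.S4416
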