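import Groth.Statements.S4417
import Groth.Agent.AmpleX.Coprod
import Groth.Agent.AmpleX.RelAffine

set_option autoImplicit false
universe u
open CategoryTheory CategoryTheory.Limits AlgebraicGeometry
open EGA2

namespace Groth.Agent.S4417

open TopologicalSpace

theorem isZero_restrict_pushforward {A B P : Scheme.{u}} (i : A ⟶ P) (j : B ⟶ P) [IsOpenImmersion i]
    [IsOpenImmersion j] (hd : Disjoint (Set.range i) (Set.range j)) (M : B.Modules) :
    IsZero (((Scheme.Modules.pushforward j).obj M).restrict i) := by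
  refine (IsZero.iff_id_eq_zero _).2 (Scheme.Modules.hom_ext _ _ fun W => ?_)
  ext s
  have he : j ⁻¹ᵁ (i ''ᵁ W) = ⊥ := eq_bot_iff.2 fun z hz => by
    obtain ⟨a, -, ha⟩ := hz
    exact Set.disjoint_left.1 hd ⟨a, ha⟩ ⟨z, rfl⟩
  show (show Γ(M, j ⁻¹ᵁ (i ''ᵁ W)) from s) = 0
  refine AModX.eq_of_locally _ _ fun z hz => ?_
  rw [he] at hz
  exact hz.elim

theorem exists_coprod_module {X X' : Scheme.{u}} (L : X.Modules) (L' : X'.Modules) :
    ∃ M : (X ⨿ X').Modules,
      Nonempty ((Scheme.Modules.pullback (coprod.inl : X ⟶ X ⨿ X')).obj M ≅ L) ∧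
      Nonempty ((Scheme.Modules.pullback (coprod.inr : X' ⟶ X ⨿ X')).obj M ≅ L') := by
  let i : X ⟶ X ⨿ X' := coprod.inl
  let j : X' ⟶ X ⨿ X' := coprod.inr
  have hd : Disjoint (Set.range i) (Set.range j) := (isCompl_range_inl_inr X X').disjoint
  haveI : PreservesColimitsOfSize.{0, 0} (Scheme.Modules.restrictFunctor i) :=
    (Scheme.Modules.restrictAdjunction i).leftAdjoint_preservesColimits
  haveI : PreservesColimitsOfSize.{0, 0} (Scheme.Modules.restrictFunctor j) :=
    (Scheme.Modules.restrictAdjunction j).leftAdjoint_preservesColimits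
  haveI := preservesBinaryBiproducts_of_preservesBinaryCoproducts (Scheme.Modules.restrictFunctor i)
  haveI := preservesBinaryBiproducts_of_preservesBinaryCoproducts (Scheme.Modules.restrictFunctor j)
  refine ⟨(Scheme.Modules.pushforward i).obj L ⊞ (Scheme.Modules.pushforward j).obj L', ⟨?_⟩, ⟨?_⟩⟩
  · refine ((Scheme.Modules.restrictFunctorIsoPullback i).app _).symm ≪≫ ?_
    refine (Scheme.Modules.restrictFunctor i).mapBiprod _ _ ≪≫ ?_
    refine (isoBiprodZero (isZero_restrict_pushforward i j hd L')).symm ≪≫ ?_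
    exact asIso ((Scheme.Modules.restrictAdjunction i).counit.app L)
  · refine ((Scheme.Modules.restrictFunctorIsoPullback j).app _).symm ≪≫ ?_
    refine (Scheme.Modules.restrictFunctor j).mapBiprod _ _ ≪≫ ?_
    refine (isoZeroBiprod (isZero_restrict_pushforward j i hd.symm L)).symm ≪≫ ?_
    exact asIso ((Scheme.Modules.restrictAdjunction j).counit.app L')

/-- Let f : X → Y and f' : X' → Y be quasi-projective morphisms (of finite type, each admitting a
relatively ample module). Then the morphism X ⨿ X' → Y restricting to f and f' on the two summands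
is quasi-projective. -/
theorem result {X X' Y : Scheme.{u}} (f : X ⟶ Y) (f' : X' ⟶ Y)
    (hf : RelProj.IsQuasiProjective f) (hf' : RelProj.IsQuasiProjective f') :
    RelProj.IsQuasiProjective (coprod.desc f f') := by
  obtain ⟨hlf, hqc, L, hL⟩ := hf
  obtain ⟨hlf', hqc', L', hL'⟩ := hf'
  obtain ⟨M, ⟨e⟩, ⟨e'⟩⟩ := exists_coprod_module L L'
  haveI := hqc
  haveI := hqc'
  have h : RelAmple.IsRelAmple (coprod.desc f f') M :=
    (AmpleX.isRelAmple_coprod_iff f f' M).2
      ⟨⟨hL.1, fun V => AmpleX.isAmple_of_iso ((Scheme.Modules.restrictFunctor _).mapIso e.symm) (hL.2 V)⟩,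
       ⟨hL'.1, fun V => AmpleX.isAmple_of_iso ((Scheme.Modules.restrictFunctor _).mapIso e'.symm) (hL'.2 V)⟩⟩
  refine ⟨?_, h.1, M, h⟩
  haveI := hlf
  haveI := hlf'
  refine (IsZariskiLocalAtSource.iff_of_openCover (P := @LocallyOfFiniteType) (coprodOpenCover.{u, 0} X X')).2 ?_
  rintro (⟨⟨⟩⟩ | ⟨⟨⟩⟩)
  · show LocallyOfFiniteType (coprod.inl ≫ coprod.desc f f')
    rw [coprod.inl_desc]; exact hlf
  · show LocallyOfFiniteType (coprod.inr ≫ coprod.desc f f')
    rw [coprod.inr_desc]; exact hlf'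

end Groth.Agent.S4417
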