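import Groth.Statements.S4420
import Groth.Agent.ProjCl17.Basic
import Groth.Agent.ProjAmple17.Basic
import Groth.Agent.RelVA16.PnBridge
import Groth.Agent.H28.KRRReg
-- import your own Groth.Agent.* helpers here

set_option autoImplicit false
universe u
open CategoryTheory CategoryTheory.Limits AlgebraicGeometry
open EGA2

set_option backward.isDefEq.respectTransparency false
set_option backward.isDefEq.respectTransparency.types false
open AlgebraicGeometry CategoryTheory CategoryTheory.Limits
open Groth.Agent

namespace Groth.Agent.S4420

/-- Let Y be a quasi-compact separated scheme possessing an ample invertible O_Y-module and f : X → Y a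
morphism. Then f is projective if and only if there are r ≥ 0 and a closed immersion of X into
projective r-space over Y compatible with the projections (f is H-projective). -/
theorem result {X Y : Scheme.{u}} [CompactSpace Y] [Y.IsSeparated]
    (hY : ∃ M : Y.Modules, CohB1.IsAmple M) (f : X ⟶ Y) :
    RelProj.IsProjective f ↔ RelProj.IsHProjective f := by
  constructor
  · intro hf
    obtain ⟨⟨h1, h2, L, hL⟩, hp⟩ := ProjCl17.isQuasiProjective_and_isProper hf
    obtain ⟨L', hL'⟩ := ProjAmple17.exists_isAmple_of_isRelAmple hY f hL
    obtain ⟨n, i, hi, -, hc⟩ := ProjAmple17.exists_immersion_of_isAmple f hL'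
    haveI : IsProper (CohB1.ProjSpaceOver.toBase n Y) :=
      MorphismProperty.pullback_snd _ _ (PnCoh.Chow.isProper_toSpec n _)
    haveI : IsProper (i ≫ CohB1.ProjSpaceOver.toBase n Y) := by rw [hc]; exact hp
    haveI : IsProper i := IsProper.of_comp i (CohB1.ProjSpaceOver.toBase n Y)
    exact ⟨n, i, IsClosedImmersion.of_isPreimmersion _ i.isClosedMap.isClosed_range, hc⟩
  · rintro ⟨n, i, hi, rfl⟩
    haveI : IsProper (CohB1.ProjSpaceOver.toBase n Y) :=
      MorphismProperty.pullback_snd _ _ (PnCoh.Chow.isProper_toSpec n _)
    haveI := hi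
    exact RelVA16.isProjective_of_isProper_of_va (Or.inl ⟨inferInstance, inferInstance⟩)
      (RelVA16.isRelVeryAmple_of_pn
        (PicClLib.isInvertible_pullback i (H28.KRRReg.isInvertible_twistOver 1))
        ⟨n, i, inferInstance, rfl, ⟨Iso.refl _⟩⟩)

end Groth.Agent.S4420
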