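import Groth.Statements.S4422
import Groth.Agent.ProjCl17.Prod
-- import your own Groth.Agent.* helpers here

set_option autoImplicit false
universe u
open CategoryTheory CategoryTheory.Limits AlgebraicGeometry
open EGA2

set_option backward.isDefEq.respectTransparency false
set_option backward.isDefEq.respectTransparency.types false
set_option linter.style.haveILetI false
open AlgebraicGeometry CategoryTheory CategoryTheory.Limits
open Groth.Agent

namespace Groth.Agent.S4422

/-- Let a : Y → S and a' : Y' → S be morphisms and f : X → Y, f' : X' → Y' projective morphisms (so X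
and X' are S-schemes through f ≫ a and f' ≫ a'). Then the product f ×_S f' : X ×_S X' → Y ×_S Y' is
projective. -/
theorem result {X X' Y Y' S : Scheme.{u}} (a : Y ⟶ S) (a' : Y' ⟶ S) (f : X ⟶ Y) (f' : X' ⟶ Y')
    (hf : RelProj.IsProjective f) (hf' : RelProj.IsProjective f') :
    RelProj.IsProjective (pullback.map (f ≫ a) (f' ≫ a') a a' f f' (𝟙 S) (Category.comp_id (f ≫ a)) (Category.comp_id (f' ≫ a'))) := by
  have h1 := (ProjCl17.isQuasiProjective_and_isProper hf).2
  have h2 := (ProjCl17.isQuasiProjective_and_isProper hf').2
  haveI : IsProper (pullback.map (f ≫ a) (f' ≫ a') a a' f f' (𝟙 S) (Category.comp_id (f ≫ a)) (Category.comp_id (f' ≫ a'))) :=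
    MorphismProperty.pullbackMap (P := @IsProper) (i₁ := f) (i₂ := f') h1 h2 (e₁ := rfl) (e₂ := rfl)
  exact ProjCl17.isProjective_prod a a' f f' _ _ (IsPullback.of_hasPullback _ _) _ _
    (IsPullback.of_hasPullback _ _) _ (pullback.lift_fst _ _ _) (pullback.lift_snd _ _ _) hf hf'

end Groth.Agent.S4422
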