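import Groth.Statements.S4425
import Groth.Agent.ProjCl17.Basic
import Groth.Agent.RelVA16.Qcqs
import Groth.Agent.AmpleX.Comp
-- import your own Groth.Agent.* helpers here

set_option autoImplicit false
universe u
open CategoryTheory CategoryTheory.Limits AlgebraicGeometry
open EGA2

set_option backward.isDefEq.respectTransparency false
set_option backward.isDefEq.respectTransparency.types false
set_option linter.style.haveILetI false
open AlgebraicGeometry CategoryTheory CategoryTheory.Limits
open Groth.Agent

namespace Groth.Agent.S4425

/-- (a) ⇔ (c): let Y be a quasi-compact separated scheme and f : X → Y a morphism. Then f is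
quasi-projective if and only if f is of finite type and there are a quasi-coherent graded
O_Y-algebra 𝒮, generated by its degree-one part with that part of finite type, a relative
homogeneous spectrum p : P → Y of 𝒮 (given with its charts over affine opens), and an open immersion
j : X → P with dense image such that j ≫ p = f. (The published statement also allows Y whose
underlying space is Noetherian, and adds a third equivalent condition, an immersion into some P(E);
this row assumes Y quasi-compact and separated and states only the equivalence of the other two.) -/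
theorem result {X Y : Scheme.{u}} [CompactSpace Y] [Y.IsSeparated] (f : X ⟶ Y) :
    RelProj.IsQuasiProjective f ↔
      (LocallyOfFiniteType f ∧ QuasiCompact f ∧
        ∃ (𝒮 : RelProj.QCGrAlg Y) (P : Scheme.{u}) (p : P ⟶ Y)
          (chart : ∀ (U : Y.Opens) (hU : IsAffineOpen U), ((p ⁻¹ᵁ U : P.Opens) : Scheme.{u}) ≅ Proj (𝒮.deg U hU))
          (j : X ⟶ P), 𝒮.IsGenDegOne ∧ 𝒮.IsFTDeg 1 ∧ RelProj.IsRelProj 𝒮 p chart ∧
            IsOpenImmersion j ∧ Dense (Set.range j.base) ∧ j ≫ p = f) := by
  constructor
  · intro hf
    haveI := hf.1
    haveI := hf.2.1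
    obtain ⟨E, B, i, hft, hi, hif⟩ := RelVA16.exists_ft_pb_of_isQuasiProjective (Or.inl ⟨inferInstance, inferInstance⟩) hf
    haveI := Proj16.isSeparated B.hP
    haveI : QuasiCompact (i ≫ B.p) := by rw [hif]; infer_instance
    haveI := QuasiCompact.of_comp i B.p
    obtain ⟨𝒮, P, p, chart, O1, lam, j, hgen, hft1, hP, -, hj, hd, -, hjp, -⟩ :=
      RelVA16.exists_openImmersion_proj B hft i hif
    exact ⟨inferInstance, inferInstance, 𝒮, P, p, chart, j, hgen, hft1, hP, hj, hd, hjp⟩
  · rintro ⟨h1, h2, 𝒮, P, p, chart, j, hgen, hft1, hP, hj, -, rfl⟩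
    obtain ⟨⟨p1, p2, L, hL⟩, hp⟩ :=
      ProjCl17.isQuasiProjective_and_isProper (f := p) ⟨𝒮, P, p, chart, Iso.refl P, hgen, hft1, hP, Category.id_comp p⟩
    haveI := hj
    haveI := QuasiCompact.of_comp j p
    exact ⟨h1, h2, _, AmpleX.isRelAmple_pullback_embedding p j j.isEmbedding hL⟩

end Groth.Agent.S4425
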