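import Groth.Statements.S4432
import Mathlib
-- import your own Groth.Agent.* helpers here

set_option autoImplicit false
universe u
open EGA2

namespace Groth.Agent.S4432

open Polynomial

/-- The coefficients of the characteristic polynomial of an integral matrix over a domain are integral. -/
private theorem isIntegral_charpoly_coeff {A D ι : Type*} [CommRing A] [CommRing D] [IsDomain D] [Algebra A D]
    [Fintype ι] [DecidableEq ι] (G : Matrix ι ι D) (hG : IsIntegral A G) (j : ℕ) :
    IsIntegral A (G.charpoly.coeff j) := by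
  classical
  let L := AlgebraicClosure (FractionRing D)
  let f : D →ₐ[A] L := IsScalarTower.toAlgHom A D L
  have hf : Function.Injective f := by
    show Function.Injective (algebraMap D L)
    rw [IsScalarTower.algebraMap_eq D (FractionRing D) L]
    exact (algebraMap (FractionRing D) L).injective.comp (IsFractionRing.injective D (FractionRing D))
  rw [← isIntegral_algHom_iff f hf]
  have hco : f (G.charpoly.coeff j) = (G.map f).charpoly.coeff j := by
    rw [show G.map f = G.map f.toRingHom from rfl, Matrix.charpoly_map, Polynomial.coeff_map]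
    rfl
  rw [hco]
  obtain ⟨q, hq, hq0⟩ := hG.map f.mapMatrix
  have hroot : ∀ r ∈ (G.map f).charpoly.roots, IsIntegral A r := fun r hr => by
    have hr' : r ∈ spectrum L (G.map f) :=
      Matrix.mem_spectrum_iff_isRoot_charpoly.2 (Polynomial.mem_roots'.1 hr).2
    refine ⟨q, hq, ?_⟩
    have hsub := spectrum.subset_polynomial_aeval (G.map f) (q.map (algebraMap A L)) ⟨r, hr', rfl⟩
    have h0 : aeval (G.map f) (q.map (algebraMap A L)) = 0 := by
      rw [Polynomial.aeval_map_algebraMap]; exact hq0
    rw [h0] at hsub
    rcases subsingleton_or_nontrivial (Matrix ι ι L) with hs | hs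
    · rw [spectrum.of_subsingleton] at hsub; exact absurd hsub (Set.notMem_empty _)
    · rw [spectrum.zero_eq, Set.mem_singleton_iff] at hsub
      simpa [Polynomial.eval_map] using hsub
  rw [(IsAlgClosed.splits (G.map f).charpoly).eq_prod_roots_of_monic (Matrix.charpoly_monic _)]
  revert hroot j
  generalize (G.map f).charpoly.roots = s
  intro j hco hroot
  clear hco
  induction s using Multiset.induction_on generalizing j with
  | empty => simp only [Multiset.map_zero, Multiset.prod_zero, Polynomial.coeff_one]; split_ifs <;> first | exact isIntegral_one | exact isIntegral_zero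
  | cons r s ih =>
    have hs : ∀ j, IsIntegral A ((s.map fun a => X - C a).prod.coeff j) := fun j =>
      ih j (fun a ha => hroot a (Multiset.mem_cons_of_mem ha))
    rw [Multiset.map_cons, Multiset.prod_cons, sub_mul, Polynomial.coeff_sub, Polynomial.coeff_C_mul]
    refine IsIntegral.sub ?_ ((hroot r (Multiset.mem_cons_self _ _)).mul (hs j))
    cases j with
    | zero => rw [Polynomial.coeff_X_mul_zero]; exact isIntegral_zero
    | succ j => rw [Polynomial.coeff_X_mul]; exact hs j

/-- In a reduced Noetherian algebra integrality is checked modulo the minimal primes. -/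
private theorem isIntegral_of_minimalPrimes {A K : Type*} [CommRing A] [CommRing K] [Algebra A K]
    [IsNoetherianRing K] [IsReduced K] (x : K)
    (h : ∀ p ∈ minimalPrimes K, IsIntegral A (Ideal.Quotient.mk p x)) : IsIntegral A x := by
  classical
  have hfin := minimalPrimes.finite_of_isNoetherianRing K
  choose! q hq hq0 using h
  refine ⟨∏ p ∈ hfin.toFinset, q p, Polynomial.monic_prod_of_monic _ _ fun p hp => hq p (hfin.mem_toFinset.1 hp), ?_⟩
  have hall : ∀ p ∈ minimalPrimes K, eval₂ (algebraMap A K) x (∏ p ∈ hfin.toFinset, q p) ∈ p := fun p hp => by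
    obtain ⟨c, hc⟩ := Finset.dvd_prod_of_mem q (hfin.mem_toFinset.2 hp)
    rw [hc, eval₂_mul]
    refine Ideal.mul_mem_right _ _ (Ideal.Quotient.eq_zero_iff_mem.1 ?_)
    rw [Polynomial.hom_eval₂]
    exact hq0 p hp
  have hmem : eval₂ (algebraMap A K) x (∏ p ∈ hfin.toFinset, q p) ∈ nilradical K := by
    rw [nilradical, ← Ideal.sInf_minimalPrimes, Ideal.mem_sInf]
    exact fun {p} hp => hall p hp
  rwa [nilradical_eq_zero, Ideal.zero_eq_bot, Ideal.mem_bot] at hmem

attribute [local instance] MvPolynomial.algebraMvPolynomial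

open TensorProduct in
/-- The generic element of a finite algebra of matrices has charpoly coefficients with integral coefficients. -/
private theorem isIntegral_generic {A K ι R : Type*} [CommRing A] [CommRing K] [Algebra A K]
    [IsNoetherianRing K] [IsReduced K] [Fintype ι] [DecidableEq ι] [Ring R] [Algebra A R] [Module.Finite A R]
    {N : ℕ} (v : Fin N → R) (Φ : R →ₐ[A] Matrix ι ι K) (j : ℕ) (α : Fin N →₀ ℕ) :
    IsIntegral A
      (((∑ i, (MvPolynomial.X i : MvPolynomial (Fin N) K) • (Φ (v i)).map MvPolynomial.C).charpoly.coeff j).coeff α) := by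
  refine isIntegral_of_minimalPrimes _ fun p hp => ?_
  haveI : p.IsPrime := hp.1.1
  haveI : IsScalarTower A (MvPolynomial (Fin N) A) (MvPolynomial (Fin N) (K ⧸ p)) :=
    IsScalarTower.of_algebraMap_eq fun a => (MvPolynomial.map_C (algebraMap A (K ⧸ p)) a).symm
  let g₀ : K →ₐ[A] MvPolynomial (Fin N) (K ⧸ p) :=
    (IsScalarTower.toAlgHom A (K ⧸ p) (MvPolynomial (Fin N) (K ⧸ p))).comp (Ideal.Quotient.mkₐ A p)
  let Ψ : MvPolynomial (Fin N) A ⊗[A] R →ₐ[MvPolynomial (Fin N) A] Matrix ι ι (MvPolynomial (Fin N) (K ⧸ p)) :=
    Algebra.TensorProduct.lift (Algebra.ofId _ _) (g₀.mapMatrix.comp Φ) fun a r => Algebra.commutes a _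
  let G := ∑ i, (MvPolynomial.X i : MvPolynomial (Fin N) K) •
    (Φ (v i)).map (MvPolynomial.C : K →+* MvPolynomial (Fin N) K)
  let ψ : MvPolynomial (Fin N) K →+* MvPolynomial (Fin N) (K ⧸ p) := MvPolynomial.map (Ideal.Quotient.mk p)
  have hΨ : ∀ t r, Ψ (t ⊗ₜ r) = algebraMap (MvPolynomial (Fin N) A) _ t * g₀.mapMatrix (Φ r) := fun t r =>
    Algebra.TensorProduct.lift_tmul _ _ _ t r
  have hG : Ψ (∑ i, (MvPolynomial.X i : MvPolynomial (Fin N) A) ⊗ₜ[A] v i) = G.map ψ := by
    ext a b : 1
    simp only [G, map_sum, Matrix.sum_apply, Matrix.map_apply, hΨ]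
    refine Finset.sum_congr rfl fun i _ => ?_
    rw [← Algebra.smul_def, Matrix.smul_apply, Algebra.smul_def]
    simp [g₀, ψ]
  have hint : IsIntegral (MvPolynomial (Fin N) A) (G.map ψ) :=
    hG ▸ (IsIntegral.of_finite (MvPolynomial (Fin N) A) _).map Ψ
  have h := MvPolynomial.isIntegral_iff_isIntegral_coeff.1 (isIntegral_charpoly_coeff _ hint j) α
  rw [Matrix.charpoly_map, Polynomial.coeff_map, MvPolynomial.coeff_map] at h
  exact h


/-- Let A be a reduced Noetherian ring, K its total ring of fractions, and E a finitely generated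
A-module with K ⊗_A E free over K. The A-subalgebra of K generated by the coefficients of the
characteristic polynomials of v ⊗ 1 (v running through all endomorphisms of E), i.e. by all
elementary symmetric functions of all endomorphisms of E, is a finitely generated A-module. -/
theorem result (A : Type u) [CommRing A] [IsNoetherianRing A] [IsReduced A]
    (E : Type u) [AddCommGroup E] [Module A E] [Module.Finite A E]
    [Module.Free (FractionRing A) (TensorProduct A (FractionRing A) E)] :
    (Algebra.adjoin A {c : FractionRing A | ∃ (v : E →ₗ[A] E) (j : ℕ),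
        c = ((v.baseChange (FractionRing A)).charpoly).coeff j}).toSubmodule.FG := by
  classical
  let K := FractionRing A
  haveI : IsNoetherianRing K := IsLocalization.isNoetherianRing (nonZeroDivisors A) K inferInstance
  haveI : IsReduced K := isReduced_localizationPreserves (nonZeroDivisors A) K inferInstance
  let b := Module.Free.chooseBasis K (TensorProduct A K E)
  haveI : Module.Finite A (E →ₗ[A] E) := by
    obtain ⟨n, π, hπ⟩ := Module.Finite.exists_fin' A E
    exact Module.Finite.of_injective (LinearMap.lcomp A E π) fun f g h => LinearMap.ext fun x => by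
      obtain ⟨y, rfl⟩ := hπ x
      exact LinearMap.congr_fun h y
  let Φ : Module.End A E →ₐ[A] Matrix (Module.Free.ChooseBasisIndex K (TensorProduct A K E)) (Module.Free.ChooseBasisIndex K (TensorProduct A K E)) K :=
    ((LinearMap.toMatrixAlgEquiv b).toAlgHom.restrictScalars A).comp (Module.End.baseChangeHom A K E)
  have hΦ : ∀ v, (Φ v).charpoly = (LinearMap.baseChange K v).charpoly := fun v =>
    LinearMap.charpoly_toMatrix (v.baseChange K) b
  obtain ⟨N, π, hπ⟩ := Module.Finite.exists_fin' A (E →ₗ[A] E)
  let v : Fin N → Module.End A E := fun i => π (Pi.single i 1)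
  let G := ∑ i, (MvPolynomial.X i : MvPolynomial (Fin N) K) •
    (Φ (v i)).map (MvPolynomial.C : K →+* MvPolynomial (Fin N) K)
  let T : Finset K := (Finset.range (G.charpoly.natDegree + 1)).biUnion fun j =>
    (G.charpoly.coeff j).support.image fun α => (G.charpoly.coeff j).coeff α
  have hTint : ∀ x ∈ (T : Set K), IsIntegral A x := fun x hx => by
    obtain ⟨j, -, hx⟩ := Finset.mem_biUnion.1 hx
    obtain ⟨α, -, rfl⟩ := Finset.mem_image.1 hx
    exact isIntegral_generic v Φ j α
  have hfg := fg_adjoin_of_finite T.finite_toSet hTint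
  have hle : Algebra.adjoin A {c : K | ∃ (u : E →ₗ[A] E) (j : ℕ), c = ((u.baseChange K).charpoly).coeff j} ≤
      Algebra.adjoin A (T : Set K) := by
    refine Algebra.adjoin_le ?_
    rintro _ ⟨u, j, rfl⟩
    obtain ⟨a, rfl⟩ := hπ u
    have hev : G.map (MvPolynomial.eval fun i => algebraMap A K (a i)) = Φ (π a) := by
      have hu : π a = ∑ i, a i • v i := by
        conv_lhs => rw [pi_eq_sum_univ' a]
        simp [map_sum, v]
      rw [hu, map_sum]
      ext s t
      simp only [G, Matrix.map_apply, Matrix.sum_apply, map_sum]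
      refine Finset.sum_congr rfl fun i _ => ?_
      rw [map_smul, Matrix.smul_apply, Matrix.smul_apply, Matrix.map_apply, smul_eq_mul, map_mul, MvPolynomial.eval_X,
        MvPolynomial.eval_C, Algebra.smul_def]
    rw [← hΦ, ← hev, Matrix.charpoly_map, Polynomial.coeff_map, MvPolynomial.eval_eq]
    refine Subalgebra.sum_mem _ fun α hα => ?_
    by_cases hj : j ∈ Finset.range (G.charpoly.natDegree + 1)
    · exact Subalgebra.mul_mem _ (Algebra.subset_adjoin (Finset.mem_biUnion.2 ⟨j, hj, Finset.mem_image.2 ⟨α, hα, rfl⟩⟩))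
        (Subalgebra.prod_mem _ fun i _ => Subalgebra.pow_mem _ (Subalgebra.algebraMap_mem _ _) _)
    · rw [Finset.mem_range, not_lt] at hj
      rw [Polynomial.coeff_eq_zero_of_natDegree_lt hj] at hα
      simp at hα
  haveI := isNoetherian_of_fg_of_noetherian _ hfg
  exact Submodule.FG.of_le hfg (Subalgebra.toSubmodule.monotone hle)

end Groth.Agent.S4432
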