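import Groth.Statements.S4434
import Groth.Agent.Proj16.DVRFg

set_option autoImplicit false
universe u
open EGA2

namespace Groth.Agent.S4434

/-- Let A be a Noetherian domain with field of fractions K and L a finitely generated field extension of
K. The integral closure of A in L is the intersection of the discrete valuation subrings of L (with
fraction field L) containing the image of A: an element of L is integral over A exactly when it
belongs to all of them. -/
theorem result (A : Type u) [CommRing A] [IsDomain A] [IsNoetherianRing A]
    (K : Type u) [Field K] [Algebra A K] [IsFractionRing A K]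
    (L : Type u) [Field L] [Algebra K L] [Algebra A L] [IsScalarTower A K L] (hfg : (⊤ : IntermediateField K L).FG) (x : L) :
    IsIntegral A x ↔ ∀ R : ValuationSubring L, IsDiscreteValuationRing R → (∀ a : A, algebraMap A L a ∈ R) → x ∈ R := by
  have hK : Algebra.EssFiniteType A K := Algebra.EssFiniteType.of_isLocalization K (nonZeroDivisors A)
  have hKL : Algebra.EssFiniteType K L := IntermediateField.fg_top_iff.mp hfg
  have : Algebra.EssFiniteType A L := Algebra.EssFiniteType.comp A K L
  constructor
  · intro hx R _ hRA
    let f : A →+* R := (algebraMap A L).codRestrict R.toSubring hRA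
    obtain ⟨p, hp, hp'⟩ := hx
    have : IsIntegral R x := ⟨p.map f, hp.map f, by rw [Polynomial.eval₂_map]; exact hp'⟩
    obtain ⟨y, hy⟩ := IsIntegrallyClosed.isIntegral_iff.mp this
    exact hy ▸ y.2
  · intro h
    by_contra hx
    obtain ⟨V, hV, hVA, hxV⟩ := Groth.Agent.Proj16.exists_dvr_notMem_of_not_isIntegral hx
    exact hxV (h V hV hVA)

end Groth.Agent.S4434
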