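import Groth.Statements.S4435
import Groth.Agent.Proj16.GenericStalk

set_option autoImplicit false
universe u
open CategoryTheory CategoryTheory.Limits AlgebraicGeometry
open EGA2

namespace Groth.Agent.S4435

/-- Let X, S be integral schemes and f : X ⟶ S a dominant morphism. If f is integral, the field of
rational functions of X is algebraic over that of S; if f is finite, it is a finite extension. Here
the extension is given by the stalk map of f at the generic point of X, whose source is the local
ring of S at the generic point of S (f being dominant), i.e. the function field of S. -/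
theorem result {X S : Scheme.{u}} [IsIntegral X] [IsIntegral S]
    (f : X ⟶ S) [IsDominant f] :
    (IsIntegralHom f → (f.stalkMap (genericPoint X)).hom.IsIntegral) ∧
      (IsFinite f → (f.stalkMap (genericPoint X)).hom.Finite) := by
  obtain ⟨_, ⟨V, hV, rfl⟩, hηV, -⟩ :=
    S.isBasis_affineOpens.exists_subset_of_mem_open (Set.mem_univ (f (genericPoint X))) isOpen_univ
  have hηW : genericPoint X ∈ f ⁻¹ᵁ V := hηV
  have : Nonempty (f ⁻¹ᵁ V) := ⟨⟨_, hηW⟩⟩
  have hηS : f (genericPoint X) = genericPoint S := by
    refine (genericPoint_spec S).eq ?_ |>.symm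
    rw [IsGenericPoint, Set.eq_univ_iff_forall]
    intro y
    have h1 : closure (Set.range f) = Set.univ := f.denseRange.closure_range
    refine closure_minimal ?_ isClosed_closure (h1 ▸ Set.mem_univ y)
    rintro _ ⟨x, rfl⟩
    exact specializes_iff_mem_closure.mp
      (((genericPoint_spec X).specializes (Set.mem_univ x)).map f.continuous)
  have hF : IsField (S.presheaf.stalk (f (genericPoint X))) := by
    rw [hηS]
    exact (inferInstance : Field S.functionField).toIsField
  let : Field (S.presheaf.stalk (f (genericPoint X))) := hF.toField
  let : Algebra Γ(S, V) (S.presheaf.stalk (f (genericPoint X))) :=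
    (S.presheaf.germ V _ hηV).hom.toAlgebra
  constructor
  · intro hi
    have hW : IsAffineOpen (f ⁻¹ᵁ V) := hV.preimage f
    have := functionField_isFractionRing_of_isAffineOpen X (f ⁻¹ᵁ V) hW
    refine (Groth.Agent.Proj16.fractionField_integral (A := Γ(S, V)) (B := Γ(X, f ⁻¹ᵁ V))
      (L := X.functionField) (f.app V).hom (f.stalkMap (genericPoint X)).hom ?_).1
      (f.isIntegral_app V hV)
    exact congrArg CommRingCat.Hom.hom (Scheme.Hom.germ_stalkMap f V (genericPoint X) hηW)
  · intro hi
    have hW : IsAffineOpen (f ⁻¹ᵁ V) := hV.preimage f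
    have := functionField_isFractionRing_of_isAffineOpen X (f ⁻¹ᵁ V) hW
    refine (Groth.Agent.Proj16.fractionField_integral (A := Γ(S, V)) (B := Γ(X, f ⁻¹ᵁ V))
      (L := X.functionField) (f.app V).hom (f.stalkMap (genericPoint X)).hom ?_).2
      (f.finite_app V hV)
    exact congrArg CommRingCat.Hom.hom (Scheme.Hom.germ_stalkMap f V (genericPoint X) hηW)

end Groth.Agent.S4435
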