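import Groth.Statements.S4436
import Groth.Agent.FittX.FinSet

set_option autoImplicit false
universe u
open CategoryTheory CategoryTheory.Limits AlgebraicGeometry
open EGA2

namespace Groth.Agent.S4436

/-- Let f : X' ⟶ X be a finite morphism and F' a locally free O_{X'}-module of rank r. Then every point
of X has an open neighbourhood U over whose inverse image F' is free of rank r; this is the content
of the statement that the direct image of F' is a locally free module of rank r over the direct
image of O_{X'} (the converse implication being immediate). -/
theorem result {X' X : Scheme.{u}} (f : X' ⟶ X) [IsFinite f] (r : ℕ)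
    (F : X'.Modules) (hF : FlatMod.IsFinLocFreeOfRank r F) (x : X) :
    ∃ U : X.Opens, x ∈ U ∧ Nonempty (F.restrict (f ⁻¹ᵁ U).ι ≅ FlatMod.freeMod (↑(f ⁻¹ᵁ U)) r) := by
  exact Groth.Agent.FittX.exists_trivial_over_preimage f F hF x

end Groth.Agent.S4436
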