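import Groth.Statements.S4442
import Groth.Agent.Proj16.CurveTop

set_option autoImplicit false
universe u
open CategoryTheory CategoryTheory.Limits AlgebraicGeometry
attribute [local instance] Curv2.resAlgebra
open EGA2

namespace Groth.Agent.S4442

/-- (a) ⇔ (b): let X be a scheme of finite type over a field k. The residue fields of the generic points
of the irreducible components of X all have transcendence degree one over k if and only if the local
ring of X at every closed point has dimension one. (The published statement has a third equivalent
condition: the irreducible closed subsets of X other than the irreducible components are exactly the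
closed points of X. This row states only the equivalence of the first two.) -/
theorem result (k : Type u) [Field k] (X : Scheme.{u})
    [X.Over (Spec (CommRingCat.of k))] [LocallyOfFiniteType (X ↘ (Spec (CommRingCat.of k)))]
    [QuasiCompact (X ↘ (Spec (CommRingCat.of k)))] :
    (∀ x : X, closure ({x} : Set X) ∈ irreducibleComponents (X : Type u) → Algebra.trdeg k (X.residueField x) = 1) ↔
      ∀ x : X, IsClosed ({x} : Set X) → ringKrullDim (X.presheaf.stalk x) = 1 := by
  have hdeg : ∀ x : X, Algebra.trdeg k (X.residueField x) = 1 ↔
      Groth.Agent.VarDim.deg (X ↘ Spec (CommRingCat.of k)) x = 1 := fun x ↦ by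
    have h := Groth.Agent.VarDim.deg_eq_tdeg (X ↘ Spec (CommRingCat.of k)) x
    have he : Groth.Agent.VarDim.tdeg (X ↘ Spec (CommRingCat.of k)) x =
        Algebra.trdeg k (X.residueField x) := rfl
    rw [← he, ← h]
    exact_mod_cast Iff.rfl
  refine Iff.trans ?_ (Groth.Agent.Proj16.closedDimOne_iff_deg (X ↘ Spec (CommRingCat.of k))).symm
  exact ⟨fun h z hz ↦ (hdeg z).1 (h z (Groth.Agent.VarDim.closure_mem_irreducibleComponents hz)),
    fun h x hx ↦ (hdeg x).2 (h x (Groth.Agent.Proj16.isMaximalPoint_of_closure hx))⟩

end Groth.Agent.S4442
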