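import Groth.Statements.S4444
import Groth.Agent.S1626
import Groth.Agent.SchTop.Closed
-- import your own Groth.Agent.* helpers here

set_option autoImplicit false
universe u
open CategoryTheory CategoryTheory.Limits AlgebraicGeometry
open EGA2

namespace Groth.Agent.S4444
open Groth.Agent

/-- Every normal algebraic curve X over a field k (separated and of finite type over k, nonempty, local
rings at closed points of dimension one, all local rings integrally closed domains) admits a
k-morphism which is an open immersion with dense image into a normal algebraic curve proper over k.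
(The uniqueness of this completion up to unique isomorphism is not part of this row.) -/
theorem result (k : Type u) [Field k] (X : Scheme.{u})
    [X.Over (Spec (CommRingCat.of k))] [LocallyOfFiniteType (X ↘ (Spec (CommRingCat.of k)))]
    [QuasiCompact (X ↘ (Spec (CommRingCat.of k)))] [IsSeparated (X ↘ (Spec (CommRingCat.of k)))] [Nonempty X]
    (hcurve : ∀ x : X, IsClosed ({x} : Set X) → ringKrullDim (X.presheaf.stalk x) = 1) (hnorm : Pi1.IsNormalScheme X) :
    ∃ (Xc : Scheme.{u}) (sc : Xc ⟶ Spec (CommRingCat.of k)) (j : X ⟶ Xc), IsOpenImmersion j ∧ Dense (Set.range j.base) ∧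
      j ≫ sc = X ↘ (Spec (CommRingCat.of k)) ∧ IsProper sc ∧ Pi1.IsNormalScheme Xc ∧
      ∀ x : Xc, IsClosed ({x} : Set Xc) → ringKrullDim (Xc.presheaf.stalk x) = 1 := by
  have hN : IsLocallyNoetherian X :=
    LocallyOfFiniteType.isLocallyNoetherian (X ↘ Spec (CommRingCat.of k))
  have hred : ∀ x : X, _root_.IsReduced (X.presheaf.stalk x) := fun x => by
    have := (hnorm x).1
    infer_instance
  have hR : IsReduced X := AlgebraicGeometry.isReduced_of_isReduced_stalk X
  have hdim : ∀ x : X, ringKrullDim (X.presheaf.stalk x) ≤ 1 := fun x => by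
    obtain ⟨z, hxz, hz⟩ := SchTop.exists_isClosed_specializes x
    rw [← hcurve z hz, ringKrullDim_stalk_eq_coheight, ringKrullDim_stalk_eq_coheight]
    exact_mod_cast Order.coheight_anti (show z ≤ x from hxz)
  have hX1 : topologicalKrullDim X ≤ 1 := by
    rw [topologicalKrullDim, Order.krullDim_eq_of_orderIso irreducibleSetEquivPoints,
      Order.krullDim_eq_iSup_coheight]
    refine iSup_le fun x => ?_
    rw [← ringKrullDim_stalk_eq_coheight]
    exact hdim x
  obtain ⟨d, Y, c, j, hc, hj, hjc, hdense, -, -, hbd⟩ := S1626.result k X hX1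
  have := PnCoh.Chow.isProper_toSpec d k
  refine ⟨Y, c ≫ CohB1.ProjSpace.toSpec d k, j, hj, hdense, hjc, inferInstance, fun y => ?_, fun y hy => ?_⟩
  · by_cases hmem : y ∈ Set.range j.base
    · obtain ⟨x, rfl⟩ := hmem
      obtain ⟨_, _⟩ := hnorm x
      let e := (asIso (j.stalkMap x)).commRingCatIsoToRingEquiv
      exact ⟨e.injective.isDomain e.toRingHom, IsIntegrallyClosed.of_equiv e.symm⟩
    · obtain ⟨-, hd, hv⟩ := hbd y hmem
      exact ⟨hd, inferInstance⟩
  · by_cases hmem : y ∈ Set.range j.base
    · obtain ⟨x, rfl⟩ := hmem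
      have hx : IsClosed ({x} : Set X) := by
        have e : ({x} : Set X) = j.base ⁻¹' {j.base x} := by
          ext z
          exact ⟨fun h => congrArg j.base h, fun h => j.isOpenEmbedding.injective h⟩
        rw [e]
        exact hy.preimage j.continuous
      rw [← hcurve x hx]
      exact ringKrullDim_eq_of_ringEquiv (asIso (j.stalkMap x)).commRingCatIsoToRingEquiv
    · obtain ⟨-, hd, hv⟩ := hbd y hmem
      exact IsDiscreteValuationRing.ringKrullDim_eq_one (Y.presheaf.stalk y)

end Groth.Agent.S4444
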