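import Groth.Statements.S4445
import Groth.Agent.SecExt.CodimOne
import Groth.Agent.Proj16.NormalExt
import Groth.Agent.S2344

set_option autoImplicit false
universe u
open CategoryTheory CategoryTheory.Limits AlgebraicGeometry
attribute [local instance] Curv2.stalkAlgebra
open EGA2

namespace Groth.Agent.S4445
set_option linter.style.haveILetI false
set_option backward.isDefEq.respectTransparency.types false

theorem fromSpecStalk_over {k : Type u} [Field k] {X : Scheme.{u}} [X.Over (Spec (CommRingCat.of k))] (w : X) :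
    X.fromSpecStalk w ≫ (X ↘ Spec (CommRingCat.of k)) =
      Spec.map (CommRingCat.ofHom (Curv2.stalkMap k X w)) := by
  have h1 : (X ↘ Spec (CommRingCat.of k)) = X.toSpecΓ ≫ Spec.map (X ↘ Spec (CommRingCat.of k)).appTop ≫
      Spec.map (Scheme.ΓSpecIso (CommRingCat.of k)).inv := by
    rw [← Scheme.toSpecΓ_naturality_assoc, ← SpecMap_ΓSpecIso_hom, ← Spec.map_comp, Iso.inv_hom_id,
      Spec.map_id, Category.comp_id]
  conv_lhs => rw [h1]
  rw [Scheme.fromSpecStalk_toSpecΓ_assoc, ← Spec.map_comp, ← Spec.map_comp]
  rfl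

theorem specMap_specializes_comp {X Y : Scheme.{u}} (u : X ⟶ Y) (x : X) (y : Y) (hu : u.base x = y) :
    Spec.map (Y.presheaf.stalkSpecializes (specializes_of_eq hu) ≫ u.stalkMap x) ≫ Y.fromSpecStalk y =
      X.fromSpecStalk x ≫ u := by
  rw [Spec.map_comp, Category.assoc, Scheme.SpecMap_stalkSpecializes_fromSpecStalk]
  exact Scheme.SpecMap_stalkMap_fromSpecStalk (f := u) (x := x)


/-- Let X be a normal irreducible algebraic curve over a field k with field of rational functions K, and
Y an integral complete (proper over k) algebraic curve with field of rational functions L. Dominant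
k-morphisms X ⟶ Y correspond bijectively to k-embeddings L → K: for every k-algebra homomorphism φ :
L → K there is exactly one k-morphism u : X ⟶ Y mapping the generic point of X to the generic point
of Y and inducing φ on the stalks at the generic points. -/
theorem result (k : Type u) [Field k] (X Y : Scheme.{u})
    [X.Over (Spec (CommRingCat.of k))] [LocallyOfFiniteType (X ↘ (Spec (CommRingCat.of k)))]
    [QuasiCompact (X ↘ (Spec (CommRingCat.of k)))] [IsSeparated (X ↘ (Spec (CommRingCat.of k)))] [IsIntegral X]
    (hX : ∀ x : X, IsClosed ({x} : Set X) → ringKrullDim (X.presheaf.stalk x) = 1) (hnorm : Pi1.IsNormalScheme X)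
    [Y.Over (Spec (CommRingCat.of k))] [IsProper (Y ↘ (Spec (CommRingCat.of k)))] [IsIntegral Y]
    (hY : ∀ y : Y, IsClosed ({y} : Set Y) → ringKrullDim (Y.presheaf.stalk y) = 1)
    (φ : Y.functionField →ₐ[k] X.functionField) :
    ∃! u : X ⟶ Y, u ≫ (Y ↘ (Spec (CommRingCat.of k))) = X ↘ (Spec (CommRingCat.of k)) ∧
      ∃ hu : u.base (genericPoint X) = genericPoint Y,
        (Y.presheaf.stalkSpecializes (specializes_of_eq hu) ≫ u.stalkMap (genericPoint X)).hom = (φ : Y.functionField →+* X.functionField) := by
  let kX := X ↘ (Spec (CommRingCat.of k))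
  let kY := Y ↘ (Spec (CommRingCat.of k))
  haveI : IsLocallyNoetherian X := LocallyOfFiniteType.isLocallyNoetherian kX
  haveI hfY : Subsingleton (PrimeSpectrum Y.functionField) := inferInstance
  let pt : Spec (X.presheaf.stalk (genericPoint X)) ⟶ Y :=
    Spec.map (CommRingCat.ofHom (φ : Y.functionField →+* X.functionField)) ≫ Y.fromSpecStalk (genericPoint Y)
  have hpt : pt ≫ kY = X.fromSpecStalk (genericPoint X) ≫ kX := by
    show (_ ≫ _) ≫ (Y ↘ (Spec (CommRingCat.of k))) = _ ≫ (X ↘ (Spec (CommRingCat.of k)))
    rw [Category.assoc, fromSpecStalk_over, fromSpecStalk_over, ← Spec.map_comp]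
    congr 1
    ext a
    exact φ.commutes a
  obtain ⟨U, hU, g, hgpt, hg⟩ := spread_out_of_isGermInjective' kX kY pt hpt
  have hUd : Dense (U : Set X) := U.2.dense ⟨_, hU⟩
  obtain ⟨g', ⟨hg'1, hg'2⟩, -⟩ := Groth.Agent.S2344.result k X Y hX hnorm U hUd g hg
  have hgen : X.fromSpecStalk (genericPoint X) ≫ g' = pt := by
    rw [hgpt, ← U.fromSpecStalkOfMem_ι (genericPoint X) hU, Category.assoc, hg'1]
  have hu : g'.base (genericPoint X) = genericPoint Y := by
    have h0 := congrArg (fun m : Spec (X.presheaf.stalk (genericPoint X)) ⟶ Y => m (IsLocalRing.closedPoint _)) hgen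
    dsimp only at h0
    rw [Scheme.Hom.comp_apply, Scheme.fromSpecStalk_closedPoint] at h0
    refine h0.trans ?_
    show Y.fromSpecStalk (genericPoint Y) _ = _
    exact (congrArg (fun q => Y.fromSpecStalk (genericPoint Y) q) (@Subsingleton.elim _ hfY _ (IsLocalRing.closedPoint Y.functionField))).trans
      Scheme.fromSpecStalk_closedPoint
  refine ⟨g', ⟨hg'2, hu, ?_⟩, fun m hm => ?_⟩
  · have key : Y.presheaf.stalkSpecializes (specializes_of_eq hu) ≫ g'.stalkMap (genericPoint X) =
        CommRingCat.ofHom (φ : Y.functionField →+* X.functionField) := by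
      apply Spec.map_injective
      rw [← cancel_mono (Y.fromSpecStalk (genericPoint Y))]
      exact (specMap_specializes_comp g' _ _ hu).trans hgen
    exact congrArg CommRingCat.Hom.hom key
  · obtain ⟨hm1, hmu, hm2⟩ := hm
    haveI := Groth.Agent.Proj16.isDominant_genericPoint X
    refine ext_of_isDominant_of_isSeparated kY (hm1.trans hg'2.symm) (X.fromSpecStalk (genericPoint X)) ?_
    rw [hgen, ← specMap_specializes_comp m _ _ hmu]
    exact congrArg (fun r => Spec.map r ≫ Y.fromSpecStalk (genericPoint Y)) (CommRingCat.hom_ext hm2)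


end Groth.Agent.S4445
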