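import Groth.Statements.S4451
import Groth.Agent.SecExt.CodimOne
import Groth.Agent.Proj16.NormalExt
import Groth.Agent.TFOneX.Scalar

set_option autoImplicit false
universe u
open CategoryTheory CategoryTheory.Limits AlgebraicGeometry
attribute [local instance] Curv2.stalkAlgebra
open EGA2

namespace Groth.Agent.S4451
set_option linter.style.haveILetI false
set_option backward.isDefEq.respectTransparency.types false

theorem algebraMap_eq {X : Scheme.{u}} [IsIntegral X] (x : X) :
    algebraMap (X.presheaf.stalk x) X.functionField =
      (X.presheaf.stalkSpecializes ((genericPoint_spec X).specializes (Set.mem_univ x))).hom := rfl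

theorem valuationRing_stalk (k : Type u) [Field k] (X : Scheme.{u})
    [X.Over (Spec (CommRingCat.of k))] [IsProper (X ↘ (Spec (CommRingCat.of k)))] [IsIntegral X]
    (hX : ∀ x : X, IsClosed ({x} : Set X) → ringKrullDim (X.presheaf.stalk x) = 1) (hnorm : Pi1.IsNormalScheme X)
    (x : X) : ValuationRing (X.presheaf.stalk x) := by
  haveI : IsLocallyNoetherian X := LocallyOfFiniteType.isLocallyNoetherian (X ↘ (Spec (CommRingCat.of k)))
  haveI : CompactSpace X := QuasiCompact.compactSpace_of_compactSpace (X ↘ (Spec (CommRingCat.of k)))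
  have hle : ringKrullDim (X.presheaf.stalk x) ≤ 1 := by
    obtain ⟨c, hc, hcl⟩ := (isClosed_closure (s := ({x} : Set X))).exists_closed_singleton
      ⟨x, subset_closure rfl⟩
    rw [← hX c hcl, ringKrullDim_stalk_eq_coheight, ringKrullDim_stalk_eq_coheight]
    exact WithBot.coe_le_coe.2 (Order.coheight_anti (specializes_iff_mem_closure.2 hc))
  haveI : Ring.KrullDimLE 1 (X.presheaf.stalk x) := (Order.krullDimLE_iff 1 _).2 hle
  exact ((tfae_of_isNoetherianRing_of_isLocalRing_of_isDomain (X.presheaf.stalk x)).out 3 1).1
    (show IsIntegrallyClosed _ ∧ ∀ P : Ideal (X.presheaf.stalk x), P ≠ ⊥ → P.IsPrime → P = IsLocalRing.maximalIdeal _ from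
      ⟨(hnorm x).2, fun P hP hP' =>
        IsLocalRing.eq_maximalIdeal (Ring.krullDimLE_one_iff_of_isPrime_bot.1 inferInstance P hP hP')⟩)

theorem eq_genericPoint_of_surjective {X : Scheme.{u}} [IsIntegral X] (x : X)
    (h : Function.Surjective (algebraMap (X.presheaf.stalk x) X.functionField)) : x = genericPoint X := by
  have hbij : Function.Bijective (algebraMap (X.presheaf.stalk x) X.functionField) :=
    ⟨IsFractionRing.injective _ _, h⟩
  have hF : IsField (X.presheaf.stalk x) :=
    MulEquiv.isField (Field.toIsField X.functionField) (RingEquiv.ofBijective _ hbij).toMulEquiv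
  obtain ⟨q, hq⟩ : genericPoint X ∈ Set.range (X.fromSpecStalk x) := by
    rw [Scheme.range_fromSpecStalk]
    exact (genericPoint_spec X).specializes (Set.mem_univ x)
  have hsub : Subsingleton (PrimeSpectrum (X.presheaf.stalk x)) := by
    letI := hF.toField
    infer_instance
  rw [← hq, Subsingleton.elim (α := PrimeSpectrum (X.presheaf.stalk x)) q (IsLocalRing.closedPoint _)]
  exact (Scheme.fromSpecStalk_closedPoint (X := X) (x := x)).symm


/-- Let X be a normal, complete, irreducible algebraic curve over a field k with field of rational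
functions K. The set of local rings of X, as subrings of K, consists of K itself (at the generic
point) and of the valuation rings of K containing k (and distinct from K): every non-generic point
has such a valuation ring as local ring, and every such valuation ring is the local ring of exactly
one point. -/
theorem result (k : Type u) [Field k] (X : Scheme.{u})
    [X.Over (Spec (CommRingCat.of k))] [IsProper (X ↘ (Spec (CommRingCat.of k)))] [IsIntegral X]
    (hX : ∀ x : X, IsClosed ({x} : Set X) → ringKrullDim (X.presheaf.stalk x) = 1) (hnorm : Pi1.IsNormalScheme X) :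
    (∀ x : X, x ≠ genericPoint X → ∃ R : ValuationSubring X.functionField, R ≠ ⊤ ∧
        (R : Set X.functionField) = Set.range (algebraMap (X.presheaf.stalk x) X.functionField)) ∧
      ∀ R : ValuationSubring X.functionField, R ≠ ⊤ → (∀ c : k, algebraMap k X.functionField c ∈ R) →
        ∃! x : X, (R : Set X.functionField) = Set.range (algebraMap (X.presheaf.stalk x) X.functionField) := by
  haveI hval : ∀ x : X, ValuationRing (X.presheaf.stalk x) := valuationRing_stalk k X hX hnorm
  have hgen : ∀ x : X, genericPoint X ⤳ x := fun x => (genericPoint_spec X).specializes (Set.mem_univ x)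
  refine ⟨fun x hx => ?_, fun R hR hk => ?_⟩
  · refine ⟨⟨(algebraMap (X.presheaf.stalk x) X.functionField).range, fun a => ?_⟩, fun hTop => hx ?_, RingHom.coe_range _⟩
    · exact ValuationRing.isInteger_or_isInteger (X.presheaf.stalk x) a
    · refine eq_genericPoint_of_surjective x fun a => ?_
      have : a ∈ (⊤ : ValuationSubring X.functionField) := trivial
      rw [← hTop] at this
      exact this
  let i₀ := X.fromSpecStalk (genericPoint X)
  obtain ⟨l, hl⟩ := Groth.Agent.TFOneX.exists_centre k i₀ R (Curv2.stalkMap k X (genericPoint X))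
    (Groth.Agent.TFOneX.fromSpecStalk_over k _) hk
  let x : X := l (IsLocalRing.closedPoint R)
  let ρ := Scheme.stalkClosedPointTo l
  have hρ : ρ ≫ CommRingCat.ofHom R.subtype = X.presheaf.stalkSpecializes (hgen x) := by
    refine Spec.map_injective ((cancel_mono (X.fromSpecStalk x)).mp ?_)
    rw [Scheme.SpecMap_stalkSpecializes_fromSpecStalk, Spec.map_comp, Category.assoc]
    exact (congrArg (Spec.map (CommRingCat.ofHom R.subtype) ≫ ·)
      (Scheme.Spec_stalkClosedPointTo_fromSpecStalk l)).trans hl
  haveI : IsLocalHom ρ.hom := inferInstance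
  have hval' : ∀ c, (ρ.hom c : X.functionField) = algebraMap (X.presheaf.stalk x) X.functionField c := fun c =>
    congrArg (fun m : X.presheaf.stalk x ⟶ X.presheaf.stalk (genericPoint X) => m c) hρ
  have hrange : (R : Set X.functionField) = Set.range (algebraMap (X.presheaf.stalk x) X.functionField) := by
    ext a
    constructor
    · intro ha
      rcases ValuationRing.isInteger_or_isInteger (X.presheaf.stalk x) a with h | ⟨c, hc⟩
      · exact h
      · rcases eq_or_ne a 0 with rfl | ha0
        · exact ⟨0, map_zero _⟩
        have h1 : ρ.hom c * ⟨a, ha⟩ = 1 := Subtype.ext (by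
          show (ρ.hom c : X.functionField) * a = 1
          rw [hval', hc, inv_mul_cancel₀ ha0])
        obtain ⟨d, hd⟩ := (isUnit_of_map_unit ρ.hom c (IsUnit.of_mul_eq_one _ h1)).exists_right_inv
        refine ⟨d, ?_⟩
        have h2 := congrArg (algebraMap (X.presheaf.stalk x) X.functionField) hd
        rw [map_mul, hc, map_one] at h2
        exact (eq_inv_of_mul_eq_one_right h2).trans (inv_inv a)
    · rintro ⟨c, rfl⟩
      rw [← hval']
      exact (ρ.hom c).2
  refine ⟨x, hrange, fun y hy => ?_⟩
  -- the point `y` gives a centre of `R` as well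
  have hmem : ∀ c, algebraMap (X.presheaf.stalk y) X.functionField c ∈ R := fun c => by
    show _ ∈ (R : Set X.functionField)
    rw [hy]; exact ⟨c, rfl⟩
  let θ : X.presheaf.stalk y →+* R := (algebraMap (X.presheaf.stalk y) X.functionField).codRestrict R.toSubring hmem
  have hθ : Function.Bijective θ := by
    refine ⟨fun a b hab => IsFractionRing.injective (X.presheaf.stalk y) X.functionField (congrArg Subtype.val hab), fun a => ?_⟩
    obtain ⟨c, hc⟩ : (a : X.functionField) ∈ Set.range (algebraMap (X.presheaf.stalk y) X.functionField) := by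
      rw [← hy]; exact a.2
    exact ⟨c, Subtype.ext hc⟩
  haveI : IsLocalHom θ := ⟨fun a ha => by
    obtain ⟨b, hb⟩ := ha.exists_right_inv
    obtain ⟨c, rfl⟩ := hθ.2 b
    exact IsUnit.of_mul_eq_one _ (hθ.1 (by rw [map_mul, hb, map_one]))⟩
  let l' : Spec (CommRingCat.of R) ⟶ X := Spec.map (CommRingCat.ofHom θ) ≫ X.fromSpecStalk y
  have hl' : Spec.map (CommRingCat.ofHom R.subtype) ≫ l' = i₀ := by
    show _ ≫ _ ≫ _ = _
    rw [← Category.assoc, ← Spec.map_comp]
    exact Scheme.SpecMap_stalkSpecializes_fromSpecStalk (hgen y)
  haveI : IsDominant (Spec.map (CommRingCat.ofHom R.subtype)) :=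
    Groth.Agent.Proj16.specMap_isDominant (CommRingCat.ofHom R.subtype) Subtype.val_injective
  have heq : l' = l := by
    refine ext_of_isDominant_of_isSeparated (X ↘ Spec (CommRingCat.of k)) ?_ (Spec.map (CommRingCat.ofHom R.subtype))
      (hl'.trans hl.symm)
    haveI : Mono (CommRingCat.ofHom R.subtype) := ConcreteCategory.mono_of_injective _ Subtype.val_injective
    rw [← Spec.map_preimage (l' ≫ _), ← Spec.map_preimage (l ≫ _)]
    congr 1
    rw [← cancel_mono (CommRingCat.ofHom R.subtype)]
    apply Spec.map_injective
    rw [Spec.map_comp, Spec.map_comp, Spec.map_preimage, Spec.map_preimage, reassoc_of% hl', reassoc_of% hl]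
  show y = l (IsLocalRing.closedPoint R)
  rw [← heq]
  show y = X.fromSpecStalk y (Spec.map (CommRingCat.ofHom θ) (IsLocalRing.closedPoint R))
  rw [show (Spec.map (CommRingCat.ofHom θ) (IsLocalRing.closedPoint R) : PrimeSpectrum (X.presheaf.stalk y)) =
    IsLocalRing.closedPoint _ from IsLocalRing.comap_closedPoint θ]
  exact (Scheme.fromSpecStalk_closedPoint (X := X) (x := y)).symm


end Groth.Agent.S4451
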