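import Groth.Statements.S4459
import Mathlib.RingTheory.AdicCompletion.Basic

set_option autoImplicit false
universe u
open Coherent

namespace Groth.Agent.S4459

open AlgebraicGeometry CategoryTheory in
/-- Let A be a Noetherian ring which is separated and complete for the J-adic topology, and let f : X →
Spec A be a morphism of schemes which is a closed map on underlying spaces. Then every open subset
of X containing the inverse image of V(J) is all of X. (The published statement also assumes X of
finite type over A; that hypothesis is not used.) -/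
theorem result (A : Type u) [CommRing A] [IsNoetherianRing A]
    (J : Ideal A) [IsAdicComplete J A] {X : Scheme.{u}} (f : X ⟶ Spec (CommRingCat.of A))
    (hf : IsClosedMap f.base) (U : X.Opens)
    (hU : f.base ⁻¹' (PrimeSpectrum.zeroLocus (J : Set A)) ⊆ (U : Set X)) : U = ⊤ := by
  have hc : IsClosed (f.base '' (U : Set X)ᶜ) := hf _ U.2.isClosed_compl
  obtain ⟨K, hK⟩ := (PrimeSpectrum.isClosed_iff_zeroLocus_ideal _).1 hc
  by_contra hne
  obtain ⟨x, hx⟩ : ∃ x, x ∈ (U : Set X)ᶜ := by
    by_contra hc'
    exact hne (TopologicalSpace.Opens.ext (Set.eq_univ_of_forall fun x => not_not.1 fun h => hc' ⟨x, h⟩))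
  have hx' : f.base x ∈ PrimeSpectrum.zeroLocus (K : Set A) := hK ▸ ⟨x, hx, rfl⟩
  obtain ⟨m, hm, hle⟩ := (f.base x).asIdeal.exists_le_maximal (f.base x).isPrime.ne_top
  obtain ⟨y, hy, hym⟩ : (⟨m, hm.isPrime⟩ : PrimeSpectrum A) ∈ f.base '' (U : Set X)ᶜ := by
    rw [hK]; exact fun a ha => hle (hx' ha)
  exact hy (hU (show f.base y ∈ PrimeSpectrum.zeroLocus (J : Set A) by
    rw [hym]; exact fun a ha => (IsAdicComplete.le_jacobson_bot J).trans (sInf_le ⟨bot_le, hm⟩) ha))

end Groth.Agent.S4459
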