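import Groth.Statements.S4460
import Groth.Agent.FFun.Main
import Groth.Agent.FFun.PropSupp
import Groth.Agent.Adic7.Basic

set_option autoImplicit false
universe u
open Formal

namespace Groth.Agent.S4460

open AlgebraicGeometry CategoryTheory in
/-- In the inverse-limit form. Let A be a Noetherian ring separated and complete for the I-adic
topology, X a scheme of finite type over Spec A and M a coherent O_X-module whose support is proper
over Spec A. Then for every p the canonical map from H^p(X, M) to the inverse limit of the groups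
H^p(X, M/I^(n+1)M) is bijective. -/
theorem result (A : Type u) [CommRing A] [IsNoetherianRing A] (I : Ideal A)
    [IsAdicComplete I A] (X : Scheme.{u}) [X.Over (Spec (CommRingCat.of A))]
    [LocallyOfFiniteType (X ↘ Spec (CommRingCat.of A))] [QuasiCompact (X ↘ Spec (CommRingCat.of A))]
    (M : X.Modules) (hM : Coh.IsCoh M)
    (hs : ClSub.IsProperOver (X ↘ Spec (CommRingCat.of A)) (CohB1.support M)) (p : ℕ) :
    Function.Bijective (Formal.toHHlim I M p) := by
  haveI : CompactSpace X := QuasiCompact.compactSpace_of_compactSpace (X ↘ Spec (CommRingCat.of A))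
  haveI : IsLocallyNoetherian X := LocallyOfFiniteType.isLocallyNoetherian (X ↘ Spec (CommRingCat.of A))
  haveI : IsNoetherian X := { __ := ‹IsLocallyNoetherian X›, __ := ‹CompactSpace X› }
  have hfin := fun (N : X.Modules) (hN : Groth.Agent.FFun.InCls (CohB1.support M) N) (q : ℕ) =>
    Groth.Agent.FFun.finite_HH_of_properSupport A hs hN.1 hN.2 q
  have hG := Groth.Agent.FFun.good_of_finite (X := X) hfin I
  haveI := hfin M ⟨hM, le_rfl⟩ p
  haveI := Groth.Agent.Adic7.isAdicComplete_of_finite I (Coh.HH X M p)
  have h : ⇑(Formal.toHHlim I M p) =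
      ⇑(Groth.Agent.FFun.compΦ I M p) ∘ ⇑(AdicCompletion.of I (Coh.HH X M p)) :=
    funext fun x => (Groth.Agent.FFun.compΦ_of (I := I) (M := M) (p := p) x).symm
  rw [h]
  exact (Groth.Agent.FFun.compΦ_bijective (p := p) hG ⟨hM, le_rfl⟩).comp
    (AdicCompletion.of_bijective I (Coh.HH X M p))

end Groth.Agent.S4460
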