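import Groth.Statements.S4468
import Groth.Agent.BirBlow22.Global
import Groth.Agent.AmpleX.Proj
import Groth.Agent.AmpleVan.Components
import Groth.Agent.PnCoh.Chow.Proper
-- import your own Groth.Agent.* helpers here

set_option autoImplicit false
universe u
open Coherent

namespace Groth.Agent.S4468

attribute [local instance] MvPolynomial.gradedAlgebra

open AlgebraicGeometry CategoryTheory in
/-- `O(1)` is ample. -/
theorem isAmple_twist_one_pn {k : Type u} [Field k] (N : ℕ) : CohB1.IsAmple (Twist.twistProjSpace N k 1) := by
  classical
  refine AmpleX.isAmple_twist_one _ (Finset.univ.image MvPolynomial.X) (fun g hg => ?_) ?_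
  · obtain ⟨i, -, rfl⟩ := Finset.mem_image.1 hg
    exact MvPolynomial.isHomogeneous_X k i
  · refine top_le_iff.1 ((PnCoh.iSup_mOpen_single (ι := Fin (N + 1)) (R := k)).ge.trans (iSup_le fun j => ?_))
    exact le_iSup_of_le ⟨_, Finset.mem_image.2 ⟨j, Finset.mem_univ _, rfl⟩⟩ le_rfl


open AlgebraicGeometry CategoryTheory in
/-- Let k be a field, X and Y integral schemes projective over k (given with closed immersions into
projective spaces over k) and f : X → Y a birational k-morphism (it sends the generic point of X to
that of Y and induces a bijection between the function fields). Then X is Y-isomorphic to the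
blow-up of Y in a closed subscheme: there is a quasi-coherent ideal sheaf I on Y such that f is a
blowing up of Y in I (universal property of the blow-up). -/
theorem result (k : Type u) [Field k] {X Y : Scheme.{u}} [IsIntegral X] [IsIntegral Y]
    (a b : ℕ) (iX : X ⟶ CohB1.ProjSpace a k) [IsClosedImmersion iX] (iY : Y ⟶ CohB1.ProjSpace b k)
    [IsClosedImmersion iY] (f : X ⟶ Y)
    (hk : f ≫ iY ≫ CohB1.ProjSpace.toSpec b k = iX ≫ CohB1.ProjSpace.toSpec a k)
    (hgen : f.base (genericPoint X) = genericPoint Y)
    (hbir : Function.Bijective (f.residueFieldMap (genericPoint X)).hom) :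
    ∃ I : Y.IdealSheafData, BlowUp.IsBlowUp f I := by
  have hA := isAmple_twist_one_pn (k := k) b
  haveI : CompactSpace (CohB1.ProjSpace b k) := hA.2.1
  haveI : CompactSpace Y := iY.isClosedEmbedding.compactSpace
  have hM := AmpleVan.FiniteSurj.isAmple_pullback_of_isAffineHom iY hA
  haveI : Y.IsSeparated := AmpleX.isSeparated_of_isAmple hM
  let gX := iY ≫ CohB1.ProjSpace.toSpec b k
  haveI : IsSeparated gX := inferInstance
  haveI : IsClosedImmersion (Limits.pullback.lift iX f hk.symm ≫
      Limits.pullback.fst (CohB1.ProjSpace.toSpec a k) gX) := by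
    rw [Limits.pullback.lift_fst]; infer_instance
  haveI := IsClosedImmersion.of_comp (Limits.pullback.lift iX f hk.symm)
    (Limits.pullback.fst (CohB1.ProjSpace.toSpec a k) gX)
  refine BirBlow22.exists_ideal _ hM iX gX hk.symm hgen ?_
  have hY : IsField (Y.presheaf.stalk (f (genericPoint X))) := by
    rw [show f (genericPoint X) = genericPoint Y from hgen]
    exact Field.toIsField Y.functionField
  have hX : IsField (X.presheaf.stalk (genericPoint X)) := Field.toIsField X.functionField
  have hbY : Function.Bijective (Y.residue (f (genericPoint X))).hom := by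
    letI := hY.toField
    exact ⟨(Y.residue _).hom.injective, Ideal.Quotient.mk_surjective⟩
  have hbX : Function.Bijective (X.residue (genericPoint X)).hom := by
    letI := hX.toField
    exact ⟨(X.residue _).hom.injective, Ideal.Quotient.mk_surjective⟩
  have h := congrArg (fun m => ⇑(CommRingCat.Hom.hom m)) (Scheme.residue_residueFieldMap f (genericPoint X))
  simp only [CommRingCat.hom_comp, RingHom.coe_comp] at h
  exact (Function.Bijective.of_comp_iff' hbX _).1 (h ▸ hbir.comp hbY)

end Groth.Agent.S4468
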