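import Groth.Statements.S4469
import Mathlib

set_option autoImplicit false
universe u
open CAlg

namespace Groth.Agent.S4469

/-- Let A be an integrally closed Noetherian local domain with field of fractions K, B an A-algebra of
finite type which is a domain with the same field of fractions (A → B → K compatible with A → K),
and 𝔫 a maximal ideal of B lying over the maximal ideal 𝔪 of A and minimal among the prime ideals of
B lying over 𝔪. Then B = A: the structure map A → B is bijective. -/
theorem result (A B K : Type u) [CommRing A]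
    [IsDomain A] [IsNoetherianRing A] [IsLocalRing A] [IsIntegrallyClosed A] [CommRing B] [IsDomain B]
    [Field K] [Algebra A B] [Algebra B K] [Algebra A K] [IsScalarTower A B K] [IsFractionRing A K]
    [IsFractionRing B K] [Algebra.FiniteType A B] (n : Ideal B) [n.IsMaximal]
    (hn : n.comap (algebraMap A B) = IsLocalRing.maximalIdeal A)
    (hmin : ∀ q : Ideal B, q.IsPrime → q.comap (algebraMap A B) = IsLocalRing.maximalIdeal A → q ≤ n → q = n) :
    Function.Bijective (algebraMap A B) := by
  classical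
  haveI : IsNoetherianRing B := Algebra.FiniteType.isNoetherianRing A B
  let q : PrimeSpectrum B := ⟨n, inferInstance⟩
  set J : Ideal B := (IsLocalRing.maximalIdeal A).map (algebraMap A B) with hJ
  have hfib : ∀ P : Ideal B, P.IsPrime → (P.comap (algebraMap A B) = IsLocalRing.maximalIdeal A ↔ J ≤ P) := fun P hP =>
    ⟨fun h => Ideal.map_le_iff_le_comap.mpr h.ge, fun h =>
      ((IsLocalRing.maximalIdeal.isMaximal A).eq_of_le (Ideal.comap_isPrime _ P).ne_top
        (Ideal.map_le_iff_le_comap.mp h)).symm⟩
  let T := (Ideal.finite_minimalPrimes_of_isNoetherianRing B J).toFinset.erase n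
  have hT : ∀ Q ∈ T, ∃ s ∈ Q, s ∉ n := by
    intro Q hQ
    obtain ⟨hne, hQ⟩ := Finset.mem_erase.mp hQ
    rw [Set.Finite.mem_toFinset] at hQ
    by_contra h
    push Not at h
    exact hne (hmin Q hQ.isPrime ((hfib Q hQ.isPrime).mpr hQ.le) h)
  choose! f hfQ hfn using hT
  let s := ∏ Q ∈ T, f Q
  have hsn : s ∉ n := Submonoid.prod_mem n.primeCompl hfn
  haveI : Algebra.QuasiFiniteAt A q.asIdeal := by
    refine Algebra.QuasiFiniteAt.of_isOpen_singleton_fiber q ?_
    refine ⟨PrimeSpectrum.basicOpen s, (PrimeSpectrum.basicOpen s).isOpen, ?_⟩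
    ext ⟨P, hP⟩
    simp only [Set.mem_preimage, SetLike.mem_coe, Set.mem_singleton_iff, PrimeSpectrum.mem_basicOpen]
    have hPJ : J ≤ P.asIdeal := (hfib _ P.isPrime).mp
      ((congrArg PrimeSpectrum.asIdeal (hP : P.comap (algebraMap A B) = q.comap (algebraMap A B))).trans hn)
    refine ⟨fun hsP => Subtype.ext (PrimeSpectrum.ext ?_), fun h => ?_⟩
    · obtain ⟨Q, hQ, hQP⟩ := Ideal.exists_minimalPrimes_le hPJ
      by_cases hQn : Q = n
      · subst hQn
        exact ((inferInstance : Q.IsMaximal).eq_of_le P.isPrime.ne_top hQP).symm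
      · have hQT : Q ∈ T := Finset.mem_erase.mpr ⟨hQn, (Set.Finite.mem_toFinset _).mpr hQ⟩
        exact absurd (hQP (Ideal.mem_of_dvd Q (Finset.dvd_prod_of_mem f hQT) (hfQ Q hQT))) hsP
    · rw [Subtype.ext_iff] at h
      rw [show P = q from h]
      exact hsn
  obtain ⟨r, hrn, hr, hx⟩ := Algebra.zariskisMainProperty_iff.mp
    (Algebra.ZariskisMainProperty.of_finiteType (R := A) q.asIdeal)
  have hBK : Function.Injective (algebraMap B K) := IsFractionRing.injective B K
  have hint : ∀ y : B, IsIntegral A y → ∃ a, algebraMap A B a = y := by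
    intro y hy
    obtain ⟨a, ha⟩ := IsIntegrallyClosed.algebraMap_eq_of_integral (R := A) (K := K) (hy.map (IsScalarTower.toAlgHom A B K))
    exact ⟨a, hBK (by rw [← IsScalarTower.algebraMap_apply]; exact ha)⟩
  obtain ⟨a, rfl⟩ := hint r hr
  have hu : IsUnit a := by
    by_contra h
    refine hrn ?_
    show a ∈ n.comap (algebraMap A B)
    rw [hn]
    exact h
  refine ⟨fun x y hxy => IsFractionRing.injective A K (by
    rw [IsScalarTower.algebraMap_apply A B K, hxy, ← IsScalarTower.algebraMap_apply]), fun x => ?_⟩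
  obtain ⟨m, hm⟩ := hx x
  obtain ⟨c, hc⟩ := hint _ hm
  refine ⟨c * ((hu.pow m).unit⁻¹ : Aˣ), ?_⟩
  rw [map_mul, hc, ← map_pow, mul_comm, ← mul_assoc, ← map_mul, IsUnit.val_inv_mul, map_one, one_mul]

end Groth.Agent.S4469
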