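import Groth.Statements.S4472
import Groth.Agent.S4464
import Groth.Agent.Lib.BlowUpInt

set_option autoImplicit false
universe u
open Coherent

namespace Groth.Agent.S4472

open AlgebraicGeometry CategoryTheory in
/-- Let A be a unibranch Noetherian local domain (a local domain whose integral closure is a local ring)
with maximal ideal m, let 𝔞 be an ideal of definition of A (𝔞 ⊆ m and m^p ⊆ 𝔞 for some p), and let b
: X → Spec A be a blowing up of Spec A in the ideal sheaf defined by 𝔞. Then the fibre of b over the
closed point is preconnected. Its underlying space is that of Proj of the associated graded ring ⊕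
𝔞^i/𝔞^(i+1), so this says that Proj is connected (possibly empty). -/
theorem result (A : Type u) [CommRing A] [IsDomain A]
    [IsNoetherianRing A] [IsLocalRing A] (hA : CAlg2.IsUnibranch A) (𝔞 : Ideal A)
    (hle : 𝔞 ≤ IsLocalRing.maximalIdeal A)
    (hpow : ∃ p : ℕ, IsLocalRing.maximalIdeal A ^ p ≤ 𝔞) {X : Scheme.{u}}
    (b : X ⟶ Spec (CommRingCat.of A))
    (hb : BlowUp.IsBlowUp b
      (Scheme.IdealSheafData.ofIdealTop (𝔞.map (Scheme.ΓSpecIso (CommRingCat.of A)).inv.hom))) :
    PreconnectedSpace ↥(b.fiber (IsLocalRing.closedPoint A)) := by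
  haveI : IsNoetherianRing (CommRingCat.of A) := ‹IsNoetherianRing A›
  rcases Groth.Agent.Lib.BlowUpInt.isEmpty_or_birational hb with hX | ⟨_, hgen, hbir⟩
  · haveI : IsEmpty ↥(b.fiber (IsLocalRing.closedPoint A)) := Function.isEmpty (b.fiberι _)
    exact ⟨Set.subsingleton_of_subsingleton.isPreconnected⟩
  · haveI : IsProper b := Groth.Agent.BlowUpLib.isProper_of_isBlowUp _ hb (fun U => by
      haveI := IsLocallyNoetherian.component_noetherian (X := Spec (CommRingCat.of A)) U
      exact IsNoetherian.noetherian _)
    haveI : IsLocallyNoetherian X := LocallyOfFiniteType.isLocallyNoetherian b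
    have hdom : b.base (genericPoint X) ⤳ genericPoint ↥(Spec (CommRingCat.of A)) := specializes_of_eq hgen
    haveI := hbir
    haveI : IsIso ((Spec (CommRingCat.of A)).presheaf.stalkSpecializes hdom) :=
      ⟨(Spec (CommRingCat.of A)).presheaf.stalkSpecializes (specializes_of_eq hgen.symm), by simp, by simp⟩
    have hφ : Function.Surjective (CohIII.stalkToFunctionField b (genericPoint ↥(Spec (CommRingCat.of A))) hdom) := fun x =>
      (ConcreteCategory.bijective_of_isIso
        ((Spec (CommRingCat.of A)).presheaf.stalkSpecializes hdom ≫ b.stalkMap (genericPoint X))).2 x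
    let e : A ≃+* (Spec (CommRingCat.of A)).presheaf.stalk (IsLocalRing.closedPoint A) :=
      (IsLocalization.atUnits A (IsLocalRing.closedPoint A).asIdeal.primeCompl (fun a ha => by
        exact not_not.mp (fun h => ha ((IsLocalRing.mem_maximalIdeal a).mpr h))) :
        A ≃ₐ[A] (Spec.structureSheaf A).presheaf.stalk (IsLocalRing.closedPoint A)).toRingEquiv
    have := Groth.Agent.S4464.result b hdom (fun x _ => ⟨0, by rw [pow_zero, pow_one]; exact hφ x⟩)
      (IsLocalRing.closedPoint A) (Groth.Agent.Lib.BlowUpInt.isUnibranch_of_ringEquiv e hA)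
    exact this.toPreconnectedSpace

end Groth.Agent.S4472
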