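import Groth.Statements.S4474
import Groth.Agent.AmpleX.Generated
import Groth.Agent.AmpleX.Separated
import Groth.Agent.Algz7.Restrict
import Groth.Agent.H23.ModLoc

set_option autoImplicit false
universe u
open Coherent

namespace Groth.Agent.S4474
section
open AlgebraicGeometry CategoryTheory CategoryTheory.Limits Opposite TopologicalSpace
open Groth.Agent Groth.Agent.H23.PicMul
set_option backward.isDefEq.respectTransparency false
set_option backward.isDefEq.respectTransparency.types false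

theorem cl_restrict {X : Scheme.{u}} (W : X.Opens) (G : X.Modules) :
    PicF.cl (G.restrict W.ι) = PicF.pullCl W.ι (PicF.cl G) :=
  cl_eq_iff.2 ⟨(Scheme.Modules.restrictFunctorIsoPullback W.ι).app G⟩

theorem cl_restrict_twist {X : Scheme.{u}} (W : X.Opens) (F L : X.Modules) (n : ℕ) :
    PicF.cl (CohB1.tensorMod (F.restrict W.ι) (CohB1.tensorPow (L.restrict W.ι) n)) =
      PicF.cl ((CohB1.tensorMod F (CohB1.tensorPow L n)).restrict W.ι) := by
  rw [cl_tensor, cl_tensorPow, cl_restrict, cl_restrict, cl_restrict, cl_tensor, cl_tensorPow, pullCl_mul, pullCl_pow]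

theorem push_eq {X Y : Scheme.{u}} (f : X ⟶ Y) (G Z : X.Modules) (φ ψ : G ⟶ Z)
    (h : (Scheme.Modules.pullbackPushforwardAdjunction f).counit.app G ≫ φ =
      (Scheme.Modules.pullbackPushforwardAdjunction f).counit.app G ≫ ψ) :
    (Scheme.Modules.pushforward f).map φ = (Scheme.Modules.pushforward f).map ψ := by
  let adj := Scheme.Modules.pullbackPushforwardAdjunction f
  have hpush : ∀ χ : G ⟶ Z, adj.unit.app _ ≫ (Scheme.Modules.pushforward f).map (adj.counit.app G ≫ χ) =
      (Scheme.Modules.pushforward f).map χ := fun χ => by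
    rw [(Scheme.Modules.pushforward f).map_comp]
    exact adj.right_triangle_components_assoc G _
  rw [← hpush φ, ← hpush ψ]
  exact congrArg (fun χ => adj.unit.app _ ≫ (Scheme.Modules.pushforward f).map χ) h

theorem aux {X Y : Scheme.{u}} (f : X ⟶ Y) [IsProper f] [IsLocallyNoetherian Y]
    (L : X.Modules) (hamp : RelAmple.IsRelAmple f L) (F : X.Modules) (hF : Coh.IsCoh F) (V : Y.affineOpens) :
    ∃ N : ℕ, ∀ n, N ≤ n → ∀ (Z : X.Modules) (φ ψ : CohB1.tensorMod F (CohB1.tensorPow L n) ⟶ Z),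
      (∀ s, φ.app (f ⁻¹ᵁ V.1) s = ψ.app (f ⁻¹ᵁ V.1) s) →
      (Scheme.Modules.restrictFunctor (f ⁻¹ᵁ V.1).ι).map φ = (Scheme.Modules.restrictFunctor (f ⁻¹ᵁ V.1).ι).map ψ := by
  let W : X.Opens := f ⁻¹ᵁ V.1
  haveI : CompactSpace W.toScheme := (hamp.2 V).2.1
  haveI := AmpleX.isSeparated_of_isAmple (hamp.2 V)
  obtain ⟨N, hN⟩ := AmpleX.eventually_generated (hamp.2 V)
    (QCoh.isQCoh_restrict W.ι hF.1) (Algz7.isFT_restrict (f := W.ι) hF.1 hF.2)
  refine ⟨N, fun n hn Z φ ψ h => ?_⟩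
  obtain ⟨G, e, ι, s, hs⟩ := hN n hn
  obtain ⟨e'⟩ : Nonempty (G ≅ (CohB1.tensorMod F (CohB1.tensorPow L n)).restrict W.ι) :=
    cl_eq_iff.1 ((cl_eq_iff.2 ⟨e⟩).trans (cl_restrict_twist W F L n))
  have hW : W.ι ''ᵁ (⊤ : W.toScheme.Opens) = W := by simp
  have key : ∀ t, φ.app (W.ι ''ᵁ ⊤) t = ψ.app (W.ι ''ᵁ ⊤) t := by
    rw [hW]
    exact h
  have h2 : e'.hom ≫ (Scheme.Modules.restrictFunctor W.ι).map φ = e'.hom ≫ (Scheme.Modules.restrictFunctor W.ι).map ψ :=
    InvX.hom_ext_of_generated hs fun i => key (e'.hom.app ⊤ (s i))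
  exact (cancel_epi e'.hom).1 h2

end

open AlgebraicGeometry CategoryTheory in
/-- Let Y be a Noetherian scheme, f : X → Y a proper morphism, L an invertible O_X-module which is ample
relative to f, and F a coherent O_X-module. Then there is an integer N such that for every n ≥ N the
canonical morphism f^* f_* (F(n)) → F(n), the counit of the adjunction between f^* and f_*, is an
epimorphism, where F(n) = F ⊗ L^{⊗ n}. -/
theorem result {X Y : Scheme.{u}} (f : X ⟶ Y) [IsNoetherian Y] [IsProper f]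
    (L : X.Modules) (hL : PicF.IsInvertible L) (hamp : RelAmple.IsRelAmple f L) (F : X.Modules)
    (hF : Coh.IsCoh F) :
    ∃ N : ℕ, ∀ n : ℕ, N ≤ n →
      Epi ((Scheme.Modules.pullbackPushforwardAdjunction f).counit.app
        (CohB1.tensorMod F (CohB1.tensorPow L n))) := by
  classical
  choose N hN using aux f L hamp F hF
  obtain ⟨T, hT, hcov⟩ := isCompact_iff_finite_and_eq_biUnion_affineOpens.mp
    (show IsCompact ((⊤ : Y.Opens) : Set Y) by simpa using isCompact_univ)
  refine ⟨hT.toFinset.sup N, fun n hn => ⟨fun {Z} φ ψ h => ?_⟩⟩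
  have heq := push_eq f _ _ φ ψ h
  refine Groth.Agent.H23.ModLoc.hom_ext_of_locally φ ψ fun x => ?_
  have hx : f x ∈ (⊤ : Y.Opens) := trivial
  rw [hcov] at hx
  obtain ⟨V, hV, hxV⟩ := by simpa only [TopologicalSpace.Opens.mem_iSup, exists_prop] using hx
  refine ⟨f ⁻¹ᵁ V.1, hxV, hN V n (le_trans (Finset.le_sup (f := N) (hT.mem_toFinset.2 hV)) hn) Z φ ψ fun s => ?_⟩
  exact congr(($heq).app V.1 s)

end Groth.Agent.S4474
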