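import Groth.Statements.S4476
import Groth.Agent.AmpleVan.LiftFibre
import Groth.Agent.AmpleVan.NakayamaFibre
set_option autoImplicit false
universe u
attribute [local instance] HasDerivedCategory.standard
open Coherent

namespace Groth.Agent.S4476
set_option backward.isDefEq.respectTransparency false
set_option backward.isDefEq.respectTransparency.types false
set_option linter.style.haveILetI false


open AlgebraicGeometry CategoryTheory in
/-- Over a local base. Let A be a Noetherian local ring with closed point y, X a scheme proper and flat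
over Spec A, F and G finite locally free O_X-modules and F_y, G_y their restrictions (module
pullbacks) to the closed fibre X_y. Assume that the internal Hom functor Hom(F_y, −) exists as the
right adjoint of F_y ⊗ − and that H^1(X_y, Hom(F_y, G_y)) = 0. Then every morphism u₀ : F_y → G_y is
the restriction to X_y of a morphism u : F → G; moreover for every such u, if u₀ is a monomorphism
(resp. an epimorphism) then u is a monomorphism (resp. an epimorphism). (Over a general locally
Noetherian base the published statements give u on the inverse image of a neighbourhood of y; over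
the spectrum of a local ring that neighbourhood is the whole base.) -/
theorem result (A : Type u) [CommRing A] [IsNoetherianRing A]
    [IsLocalRing A] (X : Scheme.{u}) [X.Over (Spec (CommRingCat.of A))]
    [IsProper (X ↘ Spec (CommRingCat.of A))] [Flat (X ↘ Spec (CommRingCat.of A))]
    (F G : X.Modules) (hF : FlatMod.IsFinLocFree F) (hG : FlatMod.IsFinLocFree G)
    [DCoh.HasSheafHom (CohIII.fiberMod (X ↘ Spec (CommRingCat.of A)) F (IsLocalRing.closedPoint A))]
    (h1 : Subsingleton (Coh.HH ((X ↘ Spec (CommRingCat.of A)).fiber (IsLocalRing.closedPoint A))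
      ((DCoh.sheafHom (CohIII.fiberMod (X ↘ Spec (CommRingCat.of A)) F (IsLocalRing.closedPoint A))).obj
        (CohIII.fiberMod (X ↘ Spec (CommRingCat.of A)) G (IsLocalRing.closedPoint A))) 1))
    (u₀ : CohIII.fiberMod (X ↘ Spec (CommRingCat.of A)) F (IsLocalRing.closedPoint A) ⟶
      CohIII.fiberMod (X ↘ Spec (CommRingCat.of A)) G (IsLocalRing.closedPoint A)) :
    (∃ u : F ⟶ G,
      (Scheme.Modules.pullback ((X ↘ Spec (CommRingCat.of A)).fiberι (IsLocalRing.closedPoint A))).map u = u₀) ∧
    ∀ u : F ⟶ G,
      (Scheme.Modules.pullback ((X ↘ Spec (CommRingCat.of A)).fiberι (IsLocalRing.closedPoint A))).map u = u₀ →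
        (Mono u₀ → Mono u) ∧ (Epi u₀ → Epi u) := by

  obtain ⟨q, sq⟩ := Groth.Agent.AmpleVan.exists_isPullback_fiber A X
  haveI : IsClosedImmersion ((X ↘ Spec (CommRingCat.of A)).fiberι (IsLocalRing.closedPoint A)) :=
    MorphismProperty.of_isPullback sq.flip (IsClosedImmersion.spec_of_surjective _ Ideal.Quotient.mk_surjective)
  haveI : IsLocallyNoetherian X := LocallyOfFiniteType.isLocallyNoetherian (X ↘ Spec (CommRingCat.of A))
  refine ⟨Groth.Agent.AmpleVan.exists_lift_modPow A F G hF hG sq
    (Groth.Agent.AmpleVan.subsingleton_of_iso ((Groth.Agent.AmpleVan.sheafHomIso _).app _) 1 h1) u₀,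
    fun u hu => ⟨fun hm => ?_, fun he => ?_⟩⟩
  · subst hu
    exact @Groth.Agent.AmpleVan.mono_of_fibre _ _ _ _ _ _ _ _ _ _ _ sq _ _ (Groth.Agent.CurveDeg.isCoh_of_isFinLocFree hF)
      (Groth.Agent.CurveDeg.isCoh_of_isFinLocFree hG) (Groth.Agent.AmpleVan.isFlatOver_of_isFinLocFree A hG) u hm
  · subst hu
    exact @Groth.Agent.AmpleVan.epi_of_fibre _ _ _ _ _ _ _ _ _ _ _ sq _ _ (Groth.Agent.CurveDeg.isCoh_of_isFinLocFree hF).1
      (Groth.Agent.CurveDeg.isCoh_of_isFinLocFree hG) u he

end Groth.Agent.S4476
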