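import Groth.Statements.S4477
import Groth.Agent.AmpleVan.SpreadFibre
set_option autoImplicit false
universe u
attribute [local instance] HasDerivedCategory.standard
open Coherent

namespace Groth.Agent.S4477
set_option backward.isDefEq.respectTransparency false
set_option backward.isDefEq.respectTransparency.types false
set_option linter.style.haveILetI false


open AlgebraicGeometry CategoryTheory in
/-- Let Y be a locally Noetherian scheme, f : X → Y a proper flat morphism, y a point of Y, and F, G
finite locally free O_X-modules whose restrictions F_y and G_y to the fibre X_y are isomorphic (both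
isomorphic to one locally free E₀). Assume that Hom(F_y, −) exists as the right adjoint of F_y ⊗ −
and that H^1(X_y, Hom(F_y, F_y)) = 0. Then there is an open neighbourhood U of y such that the
restrictions of F and G to f⁻¹(U) are isomorphic. -/
theorem result {X Y : Scheme.{u}} (f : X ⟶ Y) [IsProper f] [Flat f]
    [IsLocallyNoetherian Y] (y : Y) (F G : X.Modules) (hF : FlatMod.IsFinLocFree F) (hG : FlatMod.IsFinLocFree G)
    [DCoh.HasSheafHom (CohIII.fiberMod f F y)]
    (h1 : Subsingleton (Coh.HH (f.fiber y) ((DCoh.sheafHom (CohIII.fiberMod f F y)).obj (CohIII.fiberMod f F y)) 1))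
    (hy : Nonempty (CohIII.fiberMod f F y ≅ CohIII.fiberMod f G y)) :
    ∃ U : Y.Opens, y ∈ U ∧ Nonempty (F.restrict (f ⁻¹ᵁ U).ι ≅ G.restrict (f ⁻¹ᵁ U).ι) := by

  obtain ⟨e⟩ := hy
  refine Groth.Agent.AmpleVan.exists_iso_near_fibre f y F G hF hG e (Groth.Agent.AmpleVan.subsingleton_of_iso ?_ 1 h1)
  exact (Groth.Agent.AmpleVan.sheafHomIso _).app _ ≪≫ (Groth.Agent.SheafHomX.hom _).mapIso e

end Groth.Agent.S4477
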