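import Groth.Statements.S4480
import Groth.Agent.Lib.NormalPushLocal

set_option autoImplicit false
universe u
open Coherent

namespace Groth.Agent.S4480

open AlgebraicGeometry CategoryTheory in
/-- Let X and Y be locally Noetherian integral schemes and f : X → Y a proper dominant morphism such
that the function field R(Y) is algebraically closed in R(X) (every element of R(X) satisfying a
nonzero polynomial over R(Y) comes from R(Y)). Let y be a point of Y whose local ring is integrally
closed (a normal point). Then the fibre X_y is geometrically connected over the residue field of y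
(its base change to every field extension of that residue field is connected and nonempty; in
particular X_y is connected and nonempty), and there is an open neighbourhood U of y such that
O_Y(V) → O_X(f⁻¹V) is an isomorphism for every open V ⊆ U. -/
theorem result {X Y : Scheme.{u}}
    [IsIntegral X] [IsIntegral Y] [IsLocallyNoetherian X] [IsLocallyNoetherian Y] (f : X ⟶ Y) [IsProper f]
    (hdom : f.base (genericPoint X) ⤳ genericPoint Y)
    (halg : ∀ x : X.functionField,
      (∃ q : Polynomial Y.functionField, q ≠ 0 ∧
        Polynomial.eval₂ (CohIII.stalkToFunctionField f (genericPoint Y) hdom) x q = 0) →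
      x ∈ Set.range (CohIII.stalkToFunctionField f (genericPoint Y) hdom))
    (y : Y) (hy : IsIntegrallyClosed (Y.presheaf.stalk y)) :
    GeometricallyConnected (f.fiberToSpecResidueField y) ∧
      ∃ U : Y.Opens, y ∈ U ∧ ∀ V : Y.Opens, V ≤ U → IsIso (f.app V) := by
  refine ⟨Groth.Agent.Lib.NormalPushLocal.geometricallyConnected_fibre f hdom halg y hy, ?_⟩
  obtain ⟨U, hyU, hU⟩ := Groth.Agent.Lib.NormalPushLocal.exists_isIso_app f hdom halg y hy
  exact ⟨U, hyU, fun V hV => Groth.Agent.Lib.NormalPushLocal.isIso_app_of_le f U hU hV⟩

end Groth.Agent.S4480
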