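import Groth.Statements.S4481
import Groth.Agent.QCoh.CechStd
import Groth.Agent.QCoh.Ab.CechBridge
set_option autoImplicit false
universe u
open Coherent

namespace Groth.Agent.S4481

open AlgebraicGeometry CategoryTheory Opposite in
/-- Let X be a separated scheme, f_1, …, f_n global functions on X such that every open X_{f_i} is
quasi-compact, U the union of the X_{f_i}, and suppose there are sections g_1, …, g_n of O_X over U
with Σ g_i · (f_i|_U) = 1. Then for every quasi-coherent O_X-module G and every p > 0 the Čech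
cohomology group of G in degree p with respect to the family of opens (X_{f_i}) is zero. (The
published statement also covers a scheme whose underlying space is Noetherian, not necessarily
separated; this row treats separated X.) -/
theorem result (X : Scheme.{u}) [X.IsSeparated] (n : ℕ)
    (f : Fin n → Γ(X, ⊤)) (hqc : ∀ i, IsCompact (X.basicOpen (f i) : Set X))
    (g : Fin n → Γ(X, ⨆ i, X.basicOpen (f i)))
    (hg : (Finset.univ.sum fun i => g i *
      (X.presheaf.map (homOfLE (le_top : (⨆ i, X.basicOpen (f i)) ≤ ⊤)).op).hom (f i)) = 1)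
    (G : X.Modules) [Coh.IsQCoh G] (p : ℕ) (hp : 0 < p) :
    Limits.IsZero (CohB1.cechH (fun i : ULift.{u} (Fin n) => X.basicOpen (f i.down)) G p) := by
  obtain ⟨k, rfl⟩ := Nat.exists_eq_add_of_lt hp
  rw [Nat.zero_add]
  refine Limits.IsZero.of_iso (HomologicalComplex.ExactAt.isZero_homology
    ((Groth.Agent.QCoh.Ab.exactAt_iff_acyclic _ _).2 ?_ k)) (Iso.refl _)
  let V : X.Opens := ⨆ i, X.basicOpen (f i)
  let r : ULift.{u} (Fin n) → Γ(X, V) :=
    fun i => (X.presheaf.map (homOfLE (le_top : V ≤ ⊤)).op).hom (f i.down)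
  have hr : ∀ i : ULift.{u} (Fin n), X.basicOpen (r i) = X.basicOpen (f i.down) := fun i =>
    (Scheme.basicOpen_res _ _ _).trans (inf_eq_right.2 (le_iSup (fun i => X.basicOpen (f i)) i.down))
  have hsp : Ideal.span (Set.range r) = ⊤ := by
    rw [Ideal.eq_top_iff_one, ← hg]
    exact Ideal.sum_mem _ fun i _ => Ideal.mul_mem_left _ _ (Ideal.subset_span ⟨⟨i⟩, rfl⟩)
  rw [show (fun i : ULift.{u} (Fin n) => X.basicOpen (f i.down)) = fun i => X.basicOpen (r i) from
    funext fun i => (hr i).symm]
  refine Groth.Agent.QCoh.acyclic_of_span inferInstance r hsp fun {q} σ =>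
    ⟨?_, IsQuasiSeparated.of_quasiSeparatedSpace _⟩
  have hc : ∀ i : ULift.{u} (Fin n), IsCompact (X.basicOpen (r i) : Set X) := fun i => by
    rw [hr]; exact hqc _
  induction q with
  | zero => rw [show (⨅ a, X.basicOpen (r (σ a))) = X.basicOpen (r (σ 0)) from le_antisymm (iInf_le _ 0) (le_iInf fun a => Fin.cases le_rfl (fun b => b.elim0) a)]; exact hc _
  | succ q ih =>
    have e : (⨅ a, X.basicOpen (r (σ a))) =
        X.basicOpen (r (σ 0)) ⊓ ⨅ a : Fin (q + 1), X.basicOpen (r (σ a.succ)) :=
      le_antisymm (le_inf (iInf_le _ 0) (le_iInf fun a => iInf_le _ a.succ)) (le_iInf fun a =>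
        Fin.cases inf_le_left (fun b => inf_le_right.trans (iInf_le _ b)) a)
    rw [e]
    exact QuasiSeparatedSpace.inter_isCompact _ _ (X.basicOpen _).2 (hc _) (TopologicalSpace.Opens.isOpen _)
      (ih fun a => σ a.succ)

end Groth.Agent.S4481
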