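import Groth.Statements.S4484
import Groth.Agent.S2421
import Groth.Agent.Lib.NormalPush
import Groth.Agent.Lib.MaxCount

set_option autoImplicit false
universe u
open Coherent

namespace Groth.Agent.S4484

open AlgebraicGeometry CategoryTheory in
/-- Let X and Y be locally Noetherian integral schemes and f : X → Y a proper dominant morphism; regard
the function field R(X) as an extension of R(Y) through f. Suppose that the algebraic closure of
R(Y) in R(X) has finite separable degree n over R(Y). Then for every point y of Y whose local ring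
is unibranch, the fibre X_y has finitely many, and at most n, connected components. -/
theorem result {X Y : Scheme.{u}} [IsIntegral X]
    [IsIntegral Y] [IsLocallyNoetherian X] [IsLocallyNoetherian Y] (f : X ⟶ Y) [IsProper f]
    (hdom : f.base (genericPoint X) ⤳ genericPoint Y) [Algebra Y.functionField X.functionField]
    (halg : algebraMap Y.functionField X.functionField = CohIII.stalkToFunctionField f (genericPoint Y) hdom)
    (n : ℕ) (hn0 : 0 < n)
    (hn : Field.finSepDegree Y.functionField ↥(algebraicClosure Y.functionField X.functionField) = n)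
    (y : Y) (hy : CAlg2.IsUnibranch (Y.presheaf.stalk y)) :
    Finite (_root_.ConnectedComponents ↥(f.fiber y)) ∧
      Nat.card (_root_.ConnectedComponents ↥(f.fiber y)) ≤ n := by
  have h : f.base (genericPoint X) ⤳ y := hdom.trans (genericPoint_specializes y)
  have hη := Groth.Agent.Lib.NormalPush.eq_genericPoint f hdom
  let O := Y.presheaf.stalk y
  let φO := CohIII.stalkToFunctionField f y h
  letI := φO.toAlgebra
  have hcomp : ∀ a : O, φO a = algebraMap Y.functionField X.functionField (algebraMap O Y.functionField a) := fun a => by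
    obtain ⟨V, hyV, a, rfl⟩ := Y.presheaf.exists_germ_eq a
    have hηV : genericPoint Y ∈ V := (genericPoint_specializes y).mem_open V.2 hyV
    have e : algebraMap O Y.functionField ((Y.presheaf.germ V y hyV).hom a) = (Y.presheaf.germ V (genericPoint Y) hηV).hom a :=
      Y.presheaf.germ_stalkSpecializes_apply hyV _ a
    rw [e, halg, Groth.Agent.Lib.SteinCount.stalkToFunctionField_germ, Groth.Agent.Lib.SteinCount.stalkToFunctionField_germ]
  haveI : IsScalarTower O Y.functionField X.functionField := IsScalarTower.of_algebraMap_eq hcomp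
  have hbot : nilradical O = ⊥ := nilradical_eq_zero O
  haveI : IsDomain (CAlg2.red O) := hy.1
  haveI : IsLocalRing (CAlg2.normRed O) := hy.2
  let r : CAlg2.red O →+* O := Ideal.Quotient.lift _ (RingHom.id O) (fun a ha => by rw [hbot] at ha; exact ha)
  have hr : ∀ a, r (Ideal.Quotient.mk (nilradical O) a) = a := fun a => rfl
  have hrinj : Function.Injective r := by
    intro a b hab
    obtain ⟨a, rfl⟩ := Ideal.Quotient.mk_surjective a
    obtain ⟨b, rfl⟩ := Ideal.Quotient.mk_surjective b
    rw [hr, hr] at hab
    rw [hab]
  let τ : FractionRing (CAlg2.red O) →+* Y.functionField :=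
    IsFractionRing.lift (g := (algebraMap O Y.functionField).comp r) ((IsFractionRing.injective O Y.functionField).comp hrinj)
  have hτa : ∀ a, τ (algebraMap (CAlg2.red O) (FractionRing (CAlg2.red O)) a) = algebraMap O Y.functionField (r a) :=
    IsFractionRing.lift_algebraMap _
  have hτs : Function.Surjective τ := fun k => by
    obtain ⟨a, b, hb, rfl⟩ := IsFractionRing.div_surjective (A := O) k
    exact ⟨algebraMap (CAlg2.red O) _ (Ideal.Quotient.mk _ a) / algebraMap (CAlg2.red O) _ (Ideal.Quotient.mk _ b),
      by rw [map_div₀, hτa, hτa, hr, hr]⟩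
  have hcompr : (algebraMap O Y.functionField).comp r = τ.comp (algebraMap (CAlg2.red O) (FractionRing (CAlg2.red O))) :=
    RingHom.ext fun a => (hτa a).symm
  have hι : ∀ c : CAlg2.normRed O, τ c ∈ integralClosure O Y.functionField := fun c => by
    obtain ⟨p, hp, hp0⟩ := c.2
    refine ⟨p.map r, hp.map _, ?_⟩
    rw [Polynomial.eval₂_map, hcompr, ← Polynomial.hom_eval₂, hp0, map_zero]
  let ι : CAlg2.normRed O →+* integralClosure O Y.functionField :=
    (τ.comp (integralClosure (CAlg2.red O) (FractionRing (CAlg2.red O))).val.toRingHom).codRestrict _ hι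
  haveI : IsLocalRing (integralClosure O Y.functionField) := by
    refine IsLocalRing.of_surjective' ι fun c => ?_
    obtain ⟨k, hk⟩ := hτs c
    obtain ⟨p, hp, hp0⟩ := c.2
    refine ⟨⟨k, p.map (Ideal.Quotient.mk (nilradical O)), hp.map _, τ.injective ?_⟩, Subtype.ext hk⟩
    rw [map_zero, Polynomial.eval₂_map, Polynomial.hom_eval₂, hk]
    refine Eq.trans ?_ hp0
    refine congrArg (fun g => Polynomial.eval₂ g _ p) (RingHom.ext fun a => ?_)
    show τ (algebraMap (CAlg2.red O) _ (Ideal.Quotient.mk _ a)) = _
    rw [hτa, hr]
  have hle : Cardinal.mk (_root_.ConnectedComponents (f.fiber y)) ≤ (n : Cardinal) :=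
    (Groth.Agent.S2421.result f hη y h).trans
      (Groth.Agent.Lib.MaxCount.card_maximalSpectrum_le (F := X.functionField) inferInstance n hn0 hn)
  haveI : Finite (_root_.ConnectedComponents (f.fiber y)) :=
    Cardinal.lt_aleph0_iff_finite.mp (hle.trans_lt (Cardinal.natCast_lt_aleph0))
  refine ⟨inferInstance, ?_⟩
  rw [← Nat.cast_le (α := Cardinal), Nat.cast_card]
  exact hle

end Groth.Agent.S4484
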