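import Groth.Statements.S4485
import Groth.Agent.FlatCxLib.HomologyBC
import Groth.Agent.FlatCxLib.Local

set_option autoImplicit false
universe u
open FlatCx

namespace Groth.Agent.S4485

open CategoryTheory CategoryTheory.Limits in
/-- For the homological functor T_p(M) = H_p(P ⊗_A M) of a chain complex P of flat modules over a
commutative ring A. If T_p takes injections to injections and surjections to surjections and T_p(A)
is a finitely presented A-module, then the function x ↦ dim_{k(x)} H_p(P ⊗_A k(x)) is locally
constant on Spec A (hence constant when Spec A is connected). No Noetherian hypothesis on A. -/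
theorem result {A : Type u} [CommRing A]
    (P : ChainComplex (ModuleCat.{u} A) ℤ) (hP : ∀ i, Module.Flat A (P.X i)) (p : ℤ)
    (hex : (CohIII.TFun P p).PreservesMonomorphisms ∧ (CohIII.TFun P p).PreservesEpimorphisms)
    (hfp : Module.FinitePresentation A (CohIII.T P p (ModuleCat.of A A))) :
    IsLocallyConstant (CohIII.dRank P p) := by
  have h1 : p + 1 = p + 1 := rfl
  have h0 : p - 1 + 1 = p := by lia
  obtain ⟨he, hfl⟩ := (Groth.Agent.FlatCxLib.exact_iff hP h1 h0).1 hex
  have := (Groth.Agent.FlatCxLib.preservesEpi_iff hP h0).1 he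
  let e := Groth.Agent.FlatCxLib.hom'EquivT (P := P) h1 h0
  have : Module.Flat A (Groth.Agent.FlatCxLib.Hom' P (p + 1) p (p - 1)) := Module.Flat.of_linearEquiv e
  have : Module.FinitePresentation A (Groth.Agent.FlatCxLib.Hom' P (p + 1) p (p - 1)) :=
    have := hfp; Module.FinitePresentation.of_equiv e.symm
  have hd : CohIII.dRank P p =
      Groth.Agent.FlatCxLib.fibreRank (A := A) (Groth.Agent.FlatCxLib.Hom' P (p + 1) p (p - 1)) :=
    funext fun x => Groth.Agent.FlatCxLib.dRank_eq_fibreRank P hP h1 h0 x
  rw [hd]
  exact Groth.Agent.FlatCxLib.isLocallyConstant_fibreRank _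

end Groth.Agent.S4485
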