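import Groth.Statements.S4486
import Groth.Agent.S2446
import Groth.Agent.FlatCxLib.Field
import Groth.Agent.FlatCxLib.BaseChange
import Groth.Agent.H9Misc.FlatExt
import Mathlib.RingTheory.Spectrum.Prime.FreeLocus
import Mathlib.Data.Int.Interval

set_option autoImplicit false
universe u
open FlatCx

namespace Groth.Agent.S4486

open CategoryTheory CategoryTheory.Limits in
/-- For the homological functor T_p(M) = H_p(P ⊗_A M) of a chain complex P of flat modules over a
commutative ring A, which commutes with filtered colimits. Let A be a domain and suppose P_i = 0 for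
i < i₀ and that every T_n(A) is a finitely presented A-module. Then for every integer N there is a
nonzero f ∈ A such that, for every p ≤ N, the functor of A_f-modules N ↦ H_p(P_f ⊗_{A_f} N), where
P_f = P ⊗_A A_f, takes injections to injections and surjections to surjections. -/
theorem result {A : Type u} [CommRing A] [IsDomain A]
    (P : ChainComplex (ModuleCat.{u} A) ℤ) (hP : ∀ i, Module.Flat A (P.X i)) (i₀ : ℤ)
    (hb : ∀ i < i₀, IsZero (P.X i))
    (hfp : ∀ n : ℤ, Module.FinitePresentation A (CohIII.T P n (ModuleCat.of A A))) (N : ℤ) :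
    ∃ f : A, f ≠ 0 ∧ ∀ p ≤ N,
      (CohIII.TFun (CohIII.bcCx (algebraMap A (Localization.Away f)) P) p).PreservesMonomorphisms ∧
        (CohIII.TFun (CohIII.bcCx (algebraMap A (Localization.Away f)) P) p).PreservesEpimorphisms := by
  classical
  let M : ℤ → ModuleCat.{u} A := fun q => P.homology q
  haveI hM : ∀ q, Module.FinitePresentation A (M q) := fun q =>
    haveI := hfp q
    Module.FinitePresentation.of_equiv (Groth.Agent.FlatCxLib.tUnitIso (P := P) q).toLinearEquiv
  let η : PrimeSpectrum A := ⟨⊥, Ideal.isPrime_bot⟩
  have hη : ∀ q, η ∈ Module.freeLocus A (M q) := fun q => by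
    haveI : IsLocalization.AtPrime (FractionRing A) η.asIdeal := by
      show IsLocalization (Ideal.primeCompl (⊥ : Ideal A)) (FractionRing A)
      have e : (⊥ : Ideal A).primeCompl = nonZeroDivisors A := by
        ext x
        simp [Ideal.primeCompl, mem_nonZeroDivisors_iff_ne_zero]
      rw [e]
      infer_instance
    rw [Module.mem_freeLocus_iff_tensor η (FractionRing A)]
    infer_instance
  let U : Set (PrimeSpectrum A) := ⋂ q ∈ Finset.Icc i₀ N, Module.freeLocus A (M q)
  have hU : IsOpen U := isOpen_biInter_finset fun q _ => Module.isOpen_freeLocus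
  obtain ⟨_, ⟨f, rfl⟩, hfη, hfU⟩ := PrimeSpectrum.isTopologicalBasis_basic_opens.exists_subset_of_mem_open
    (show η ∈ U from Set.mem_iInter₂.2 fun q _ => hη q) hU
  have hf0 : f ≠ 0 := fun h => hfη (h ▸ Submodule.zero_mem _)
  refine ⟨f, hf0, ?_⟩
  let φ := algebraMap A (Localization.Away f)
  let P' := CohIII.bcCx φ P
  have k1 : ∀ (inst : Algebra A (Localization.Away f)), inst = φ.toAlgebra →
      @Module.Flat A (Localization.Away f) _ _ inst.toModule →
        @Module.Flat A (Localization.Away f) _ _ φ.toAlgebra.toModule := by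
    rintro inst rfl; exact id
  have hflat' := k1 inferInstance (Algebra.algebra_ext _ _ fun _ => rfl) (IsLocalization.flat _ (Submonoid.powers f))
  refine (Groth.Agent.S2446.result P' (fun i => Groth.Agent.FlatCxLib.flat_bcCx_X P hP i) i₀
    (fun i hi => (ModuleCat.extendScalars φ).map_isZero (hb i hi)) N).2 fun q hq => ?_
  let e := Groth.Agent.FlatCxLib.tUnitIso (P := P') q ≪≫ Groth.Agent.FlatCxLib.homologyExtendScalarsIso φ hflat' P q
  suffices hs : Module.Flat (Localization.Away f) ((ModuleCat.extendScalars φ).obj (P.homology q)) from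
    haveI := hs
    Module.Flat.of_linearEquiv e.toLinearEquiv
  by_cases hq0 : q < i₀
  · haveI := ModuleCat.subsingleton_of_isZero ((ModuleCat.extendScalars φ).map_isZero
      ((HomologicalComplex.exactAt_iff_isZero_homology _ _).1 (HomologicalComplex.ExactAt.of_isZero (hb q hq0))))
    infer_instance
  · have h1 : (PrimeSpectrum.basicOpen f : Set (PrimeSpectrum A)) ⊆ Module.freeLocus A (M q) :=
      hfU.trans (Set.biInter_subset_of_mem (Finset.mem_Icc.2 ⟨not_lt.1 hq0, hq⟩))
    haveI := Module.basicOpen_subset_freeLocus_iff.1 h1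
    haveI : Module.Flat (Localization.Away f) (LocalizedModule (Submonoid.powers f) (M q)) := Module.Flat.of_projective
    have h2 : Module.Flat (Localization.Away f) (TensorProduct A (Localization.Away f) (M q)) :=
      Module.Flat.of_linearEquiv (LocalizedModule.equivTensorProduct (Submonoid.powers f) (M q)).symm
    exact Groth.Agent.H9Misc.FlatExt.flat_obj (P.homology q) h2

end Groth.Agent.S4486
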