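import Groth.Statements.S4487
import Groth.Agent.H9Misc.FlatChainModel
import Groth.Agent.S2419
import Groth.Agent.FlatCxLib.Structure

set_option autoImplicit false
universe u
open FlatCx

namespace Groth.Agent.S4487

open CategoryTheory CategoryTheory.Limits in
/-- The case of the homological functor T_p(M) = H_p(P ⊗_A M) of a chain complex P of flat modules over
a commutative ring A. Let A be Noetherian and suppose P_i = 0 for i < i₀ and that every T_n(A) is a
finitely generated A-module. Then for every integer N there is a dense open subset U of Spec A such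
that, for every p ≤ N, the function x ↦ dim_{k(x)} H_p(P ⊗_A k(x)) is locally constant on U. (The
published statement says constant on U; over the product of two fields, with P the projective module
supported on one factor placed in degree 0, the only dense open set is the whole two-point spectrum
and the ranks there are 1 and 0, so locally constant on U is what holds; the argument produces U as
a disjoint union of opens, one dense in each irreducible component, on each of which the functions
are constant.) -/
theorem result {A : Type u} [CommRing A] [IsNoetherianRing A]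
    (P : ChainComplex (ModuleCat.{u} A) ℤ) (hP : ∀ i, Module.Flat A (P.X i)) (i₀ : ℤ)
    (hb : ∀ i < i₀, IsZero (P.X i))
    (hfg : ∀ n : ℤ, Module.Finite A (CohIII.T P n (ModuleCat.of A A))) (N : ℤ) :
    ∃ U : Set (PrimeSpectrum A), IsOpen U ∧ Dense U ∧
      ∀ p ≤ N, IsLocallyConstant (fun x : U => CohIII.dRank P p x) := by
  classical
  have hfin : ∀ i, Module.Finite A (P.homology i) := fun i =>
    haveI := hfg i
    Module.Finite.equiv (Groth.Agent.FlatCxLib.tUnitIso (P := P) i).toLinearEquiv
  obtain ⟨Q, u, hQ, hQd, hu⟩ := Groth.Agent.H9Misc.FlatChainModel.exists_finite_free P hfin i₀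
    (fun i hi => (HomologicalComplex.exactAt_iff_isZero_homology _ _).1 (HomologicalComplex.ExactAt.of_isZero (hb i hi)))
  have hQf : ∀ i, Module.Finite A (Q.X i) ∧ Module.Flat A (Q.X i) := fun i =>
    ⟨(hQ i).1, haveI := (hQ i).2; Module.Flat.of_free⟩
  have heq : ∀ p, CohIII.dRank P p = CohIII.dRank Q p := fun p =>
    Groth.Agent.H9Misc.FlatChainModel.dRank_eq_of_quasiIso u (fun i => (hQf i).2) hP hQd hb p
  choose U hU₁ hU₂ hU₃ using fun p : ℤ =>
    Groth.Agent.H9Misc.FlatChainModel.exists_dense_open_locallyConstant (CohIII.dRank Q p)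
      (Groth.Agent.S2419.result Q hQf p).1 (Groth.Agent.S2419.result Q hQf p).2
  have key : ∀ s : Finset ℤ, IsOpen (⋂ p ∈ s, U p) ∧ Dense (⋂ p ∈ s, U p) := by
    intro s
    induction s using Finset.induction_on with
    | empty => simp
    | insert a s _ ih =>
      rw [Finset.set_biInter_insert]
      exact ⟨(hU₁ a).inter ih.1, (hU₂ a).inter_of_isOpen_left ih.2 (hU₁ a)⟩
  refine ⟨⋂ p ∈ Finset.Icc i₀ N, U p, (key _).1, (key _).2, fun p hp => ?_⟩
  rw [heq p]
  by_cases hp0 : p < i₀
  · exact Groth.Agent.H9Misc.FlatChainModel.isLocallyConstant_dRank_of_isZero Q p (hQd p hp0) _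
  · have hsub : (⋂ p ∈ Finset.Icc i₀ N, U p) ⊆ U p :=
      Set.biInter_subset_of_mem (Finset.mem_Icc.2 ⟨not_lt.1 hp0, hp⟩)
    exact Groth.Agent.H9Misc.FlatChainModel.isLocallyConstant_mono (CohIII.dRank Q p) (hU₃ p) hsub

end Groth.Agent.S4487
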