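import Groth.Statements.S4488
import Groth.Agent.S2446
import Groth.Agent.S4485
import Groth.Agent.FlatCxLib.Reduced

set_option autoImplicit false
universe u
open FlatCx

namespace Groth.Agent.S4488

open CategoryTheory CategoryTheory.Limits in
/-- For the homological functor T_q(M) = H_q(P ⊗_A M) of a chain complex P of flat modules over a
commutative local ring A with residue field k. Suppose P_i = 0 for i < i₀ and that every T_n(A) is a
finitely presented A-module, and let p be an integer. If T_q takes injections to injections and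
surjections to surjections for every q ≤ p, then dim_{k(x)} T_q(k(x)) = dim_k T_q(k) for every point
x of Spec A and every q ≤ p. Conversely, if A is reduced and this equality holds at the generic
point of every irreducible component of Spec A (every minimal prime) for every q ≤ p, then T_q takes
injections to injections and surjections to surjections for every q ≤ p. No Noetherian hypothesis on
A. -/
theorem result {A : Type u} [CommRing A] [IsLocalRing A]
    (P : ChainComplex (ModuleCat.{u} A) ℤ) (hP : ∀ i, Module.Flat A (P.X i)) (i₀ : ℤ)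
    (hb : ∀ i < i₀, IsZero (P.X i))
    (hfp : ∀ n : ℤ, Module.FinitePresentation A (CohIII.T P n (ModuleCat.of A A))) (p : ℤ) :
    ((∀ q ≤ p, (CohIII.TFun P q).PreservesMonomorphisms ∧ (CohIII.TFun P q).PreservesEpimorphisms) →
        ∀ (x : PrimeSpectrum A), ∀ q ≤ p, CohIII.dRank P q x = CohIII.dRank P q (IsLocalRing.closedPoint A)) ∧
      (IsReduced A →
        (∀ x : PrimeSpectrum A, x.asIdeal ∈ minimalPrimes A →
          ∀ q ≤ p, CohIII.dRank P q x = CohIII.dRank P q (IsLocalRing.closedPoint A)) →
        ∀ q ≤ p, (CohIII.TFun P q).PreservesMonomorphisms ∧ (CohIII.TFun P q).PreservesEpimorphisms) := by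
  have hq1 : ∀ q : ℤ, q + 1 = q + 1 := fun _ => rfl
  have hq0 : ∀ q : ℤ, q - 1 + 1 = q := fun q => by lia
  refine ⟨fun h x q hq => ?_, fun hred hrk => (Groth.Agent.S2446.result P hP i₀ hb p).2 ?_⟩
  · have hl := Groth.Agent.S4485.result P hP q (h q hq) (hfp q)
    exact (IsLocalRing.specializes_closedPoint x).mem_open (hl.isOpen_fiber _) rfl
  · haveI := hred
    have step : ∀ q, q ≤ p → (CohIII.TFun P q).PreservesEpimorphisms →
        Module.Flat A ((CohIII.TFun P q).obj (ModuleCat.of A A)) := by
      intro q hq he
      have := (Groth.Agent.FlatCxLib.preservesEpi_iff hP (hq0 q)).1 he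
      let e := Groth.Agent.FlatCxLib.hom'EquivT (P := P) (hq1 q) (hq0 q)
      haveI : Module.Finite A (Groth.Agent.FlatCxLib.Hom' P (q + 1) q (q - 1)) :=
        haveI := hfp q; Module.Finite.equiv e.symm
      haveI : Module.Free A (Groth.Agent.FlatCxLib.Hom' P (q + 1) q (q - 1)) := by
        refine Groth.Agent.FlatCxLib.free_of_fibreRank_eq _ fun x hx => ?_
        rw [← Groth.Agent.FlatCxLib.dRank_eq_fibreRank P hP (hq1 q) (hq0 q),
          ← Groth.Agent.FlatCxLib.dRank_eq_fibreRank P hP (hq1 q) (hq0 q)]
        exact hrk x hx q hq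
      exact Module.Flat.of_linearEquiv e.symm
    have main : ∀ n : ℕ, i₀ - 1 + n ≤ p + 1 → (CohIII.TFun P (i₀ - 1 + n)).PreservesEpimorphisms := by
      intro n
      induction n with
      | zero =>
        intro _
        refine ⟨fun {M M'} g _ => ?_⟩
        have hz : IsZero ((CohIII.TFun P (i₀ - 1 + (0 : ℕ))).obj M') := by
          refine (HomologicalComplex.exactAt_iff_isZero_homology _ _).1
            (HomologicalComplex.ExactAt.of_isZero ?_)
          exact (MonoidalCategory.tensorRight M').map_isZero (hb _ (by lia))
        exact ⟨fun a b _ => hz.eq_of_src a b⟩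
      | succ n ih =>
        intro hn
        push_cast at hn
        have he := ih (by lia)
        have hex := (Groth.Agent.FlatCxLib.exact_iff hP (hq1 (i₀ - 1 + n)) (hq0 _)).2 ⟨he, step _ (by lia) he⟩
        exact (Groth.Agent.FlatCxLib.preservesEpi_iff_preservesMono hP
          (show (i₀ - 1 + n) + 1 = i₀ - 1 + (n + 1 : ℕ) by push_cast; ring)).2 hex.1
    intro q hq
    by_cases hlt : q < i₀
    · have hz : IsZero ((CohIII.TFun P q).obj (ModuleCat.of A A)) := by
        refine (HomologicalComplex.exactAt_iff_isZero_homology _ _).1 (HomologicalComplex.ExactAt.of_isZero ?_)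
        exact (MonoidalCategory.tensorRight (ModuleCat.of A A)).map_isZero (hb _ hlt)
      haveI := ModuleCat.subsingleton_of_isZero hz
      exact inferInstance
    · obtain ⟨n, rfl⟩ : ∃ n : ℕ, q = i₀ - 1 + n := ⟨(q - i₀ + 1).toNat, by lia⟩
      exact step _ hq (main n (by lia))

end Groth.Agent.S4488
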