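import Groth.Statements.S4489
import Groth.Agent.H9Misc.FlatCxDedekind

set_option autoImplicit false
universe u
open FlatCx

namespace Groth.Agent.S4489

open CategoryTheory CategoryTheory.Limits in
/-- For the homological functor T_p(M) = H_p(P ⊗_A M) of a chain complex P of flat modules, stated over
a Dedekind domain A. (The published statement allows A to be a finite product of Dedekind domains,
that is, a Noetherian regular ring of dimension at most 1; this row takes A a Dedekind domain.) Then
T_p takes injections to injections if and only if H_p(P) is a flat A-module; and, with q + 1 = p,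
T_p takes injections to injections and surjections to surjections if and only if H_p(P) and H_q(P)
are both flat. -/
theorem result {A : Type u} [CommRing A] [IsDedekindDomain A]
    (P : ChainComplex (ModuleCat.{u} A) ℤ) (hP : ∀ i, Module.Flat A (P.X i)) (p q : ℤ) (hpq : q + 1 = p) :
    ((CohIII.TFun P p).PreservesMonomorphisms ↔ Module.Flat A (P.homology p)) ∧
      (((CohIII.TFun P p).PreservesMonomorphisms ∧ (CohIII.TFun P p).PreservesEpimorphisms) ↔
        (Module.Flat A (P.homology p) ∧ Module.Flat A (P.homology q))) := by
  exact ⟨H9Misc.FlatCxDedekind.preservesMono_iff_flat_homology P hP p,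
    by rw [H9Misc.FlatCxDedekind.preservesMono_iff_flat_homology P hP p,
      FlatCxLib.preservesEpi_iff_preservesMono hP hpq,
      H9Misc.FlatCxDedekind.preservesMono_iff_flat_homology P hP q]⟩

end Groth.Agent.S4489
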