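import Groth.Statements.S4496
import Groth.Agent.FlatCxLib.Local

set_option autoImplicit false
universe u
open FlatCx

namespace Groth.Agent.S4496

open CategoryTheory CategoryTheory.Limits MonoidalCategory in
/-- For the homological functor T_p(M) = H_p(P ⊗_A M) of a chain complex P of flat modules over a
commutative ring A: T_p takes injections to injections and surjections to surjections if and only if
T_p is isomorphic to the functor M ↦ N ⊗_A M for some flat A-module N (which is then isomorphic to
T_p(A)). -/
theorem result {A : Type u} [CommRing A]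
    (P : ChainComplex (ModuleCat.{u} A) ℤ) (hP : ∀ i, Module.Flat A (P.X i)) (p : ℤ) :
    ((CohIII.TFun P p).PreservesMonomorphisms ∧ (CohIII.TFun P p).PreservesEpimorphisms) ↔
      ∃ N : ModuleCat.{u} A, Module.Flat A N ∧ Nonempty (CohIII.TFun P p ≅ tensorLeft N) := by
  have hr : p - 1 + 1 = p := by lia
  have hq : p + 1 = p + 1 := rfl
  constructor
  · rintro ⟨h1, h2⟩
    have := (Groth.Agent.FlatCxLib.preservesEpi_iff hP hr).1 h2
    have h3 := (Groth.Agent.FlatCxLib.flat_coker_iff P (p + 1) p (p - 1) hP).1
      ((Groth.Agent.FlatCxLib.preservesMono_iff hP hq).1 h1)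
    exact ⟨_, h3, ⟨(Groth.Agent.FlatCxLib.tfunIsoTensor hP hq hr).symm⟩⟩
  · rintro ⟨N, hN, ⟨e⟩⟩
    have key : ∀ {M M' : ModuleCat.{u} A} (g : M ⟶ M'), (CohIII.TFun P p).map g =
      e.hom.app M ≫ (MonoidalCategory.tensorLeft N).map g ≫ e.inv.app M' := fun g =>
      (NatIso.naturality_2 e g).symm
    refine ⟨⟨fun {M M'} g _ => ?_⟩, ⟨fun {M M'} g _ => ?_⟩⟩
    · have : Mono ((MonoidalCategory.tensorLeft N).map g) := (ModuleCat.mono_iff_injective _).2
        (Module.Flat.lTensor_preserves_injective_linearMap g.hom
          ((ModuleCat.mono_iff_injective g).1 inferInstance))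
      rw [key g]; infer_instance
    · have : Epi ((MonoidalCategory.tensorLeft N).map g) := (ModuleCat.epi_iff_surjective _).2
        (LinearMap.lTensor_surjective _ ((ModuleCat.epi_iff_surjective g).1 inferInstance))
      rw [key g]; infer_instance

end Groth.Agent.S4496
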