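import Groth.Statements.S4501
import Groth.Agent.FlatCxLib.Reduced

set_option autoImplicit false
universe u
open FlatCx

namespace Groth.Agent.S4501

open CategoryTheory CategoryTheory.Limits in
/-- The case of finitely generated flat terms. Let A be a Noetherian domain, P a chain complex of
finitely generated flat A-modules, and for a prime y of A let P_y be the base change of P to the
local ring A_y. Then the set U of points y of Spec A such that the functor N ↦ H_p(P_y ⊗_{A_y} N) on
A_y-modules takes injections to injections and surjections to surjections is open and nonempty (it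
contains the generic point). -/
theorem result {A : Type u} [CommRing A] [IsNoetherianRing A] [IsDomain A]
    (P : ChainComplex (ModuleCat.{u} A) ℤ) (hP : ∀ i, Module.Finite A (P.X i) ∧ Module.Flat A (P.X i))
    (p : ℤ) :
    IsOpen {y : PrimeSpectrum A |
        (CohIII.TFun (CohIII.bcCx (algebraMap A (Localization.AtPrime y.asIdeal)) P) p).PreservesMonomorphisms ∧
          (CohIII.TFun (CohIII.bcCx (algebraMap A (Localization.AtPrime y.asIdeal)) P) p).PreservesEpimorphisms} ∧
      {y : PrimeSpectrum A |
        (CohIII.TFun (CohIII.bcCx (algebraMap A (Localization.AtPrime y.asIdeal)) P) p).PreservesMonomorphisms ∧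
          (CohIII.TFun (CohIII.bcCx (algebraMap A (Localization.AtPrime y.asIdeal)) P) p).PreservesEpimorphisms}.Nonempty := by
  have h0 : p - 1 + 1 = p := by lia
  have h1 : p + 1 = p + 1 := rfl
  have := (hP (p - 1)).1
  have := (hP p).1
  have : Module.FinitePresentation A (Groth.Agent.FlatCxLib.Coker P p (p - 1)) :=
    Module.finitePresentation_of_finite A _
  have : Module.FinitePresentation A (Groth.Agent.FlatCxLib.Coker P (p + 1) p) :=
    Module.finitePresentation_of_finite A _
  have e : {y : PrimeSpectrum A |
        (CohIII.TFun (CohIII.bcCx (algebraMap A (Localization.AtPrime y.asIdeal)) P) p).PreservesMonomorphisms ∧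
          (CohIII.TFun (CohIII.bcCx (algebraMap A (Localization.AtPrime y.asIdeal)) P) p).PreservesEpimorphisms} =
      Module.freeLocus A (Groth.Agent.FlatCxLib.Coker P (p + 1) p) ∩
        Module.freeLocus A (Groth.Agent.FlatCxLib.Coker P p (p - 1)) := by
    ext y
    exact and_congr
      ((Groth.Agent.FlatCxLib.preservesMono_bcCx_iff P (fun i => (hP i).2) h1).trans
        (Groth.Agent.FlatCxLib.flat_localization_iff_mem_freeLocus _ y))
      ((Groth.Agent.FlatCxLib.preservesEpi_bcCx_iff P (fun i => (hP i).2) h0).trans
        (Groth.Agent.FlatCxLib.flat_localization_iff_mem_freeLocus _ y))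
  rw [e]
  refine ⟨Module.isOpen_freeLocus.inter Module.isOpen_freeLocus, ⟨⊥, Ideal.isPrime_bot⟩, ?_, ?_⟩
  all_goals
    have : IsLocalization.AtPrime (FractionRing A)
        (⟨⊥, Ideal.isPrime_bot⟩ : PrimeSpectrum A).asIdeal := by
      delta IsLocalization.AtPrime
      convert (inferInstance : IsLocalization (nonZeroDivisors A) (FractionRing A)) using 1
      ext x
      simp [Ideal.primeCompl]
    refine (Module.mem_freeLocus_iff_tensor _ (FractionRing A)).2 ?_
    exact Module.Free.of_divisionRing _ _

end Groth.Agent.S4501
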