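import Groth.Statements.S4507
import Groth.Agent.H9Misc.LinLocal

set_option autoImplicit false
universe u
open FlatCx

namespace Groth.Agent.S4507

open CategoryTheory CategoryTheory.Limits in
/-- The isomorphism T(S⁻¹M) ≅ S⁻¹T(M). Let A be a commutative ring, T an additive A-linear endofunctor
of the category of A-modules which preserves filtered colimits, S a multiplicative subset of A and M
an A-module. Then the A-linear map T(M) → T(S⁻¹M), image under T of the localization map M → S⁻¹M,
is a localization of T(M) at S (so T(S⁻¹M) is canonically S⁻¹T(M), as an S⁻¹A-module). -/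
theorem result {A : Type u} [CommRing A]
    (T : ModuleCat.{u} A ⥤ ModuleCat.{u} A) [T.Additive] [T.Linear A]
    (hT : ∀ (J : Type u) [SmallCategory J] [IsFiltered J], PreservesColimitsOfShape J T)
    (S : Submonoid A) (M : ModuleCat.{u} A) :
    IsLocalizedModule S (T.map (ModuleCat.ofHom (LocalizedModule.mkLinearMap S M) :
      M ⟶ ModuleCat.of A (LocalizedModule S M))).hom := by
  exact Groth.Agent.H9Misc.LinLocal.main S M T hT

end Groth.Agent.S4507
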