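import Groth.Statements.S4508
import Groth.Agent.S0034
import Groth.Agent.MorLib.FlatBC
import Groth.Agent.QCoh.RpushModel
import Groth.Agent.QCoh.Pullback

set_option autoImplicit false
set_option linter.style.haveILetI false
set_option backward.isDefEq.respectTransparency false
set_option backward.isDefEq.respectTransparency.types false
universe u
open Coherent

namespace Groth.Agent.S4508

open AlgebraicGeometry CategoryTheory CategoryTheory.Limits in
/-- For a single sheaf placed in degree 0 (the published statement is for a finite complex of such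
sheaves). Let Y and Y' be locally Noetherian schemes, f : X ⟶ Y proper, g : Y' ⟶ Y any morphism, F a
coherent O_X-module flat over Y; let X' = X ×_Y Y' with projections f' : X' ⟶ Y' and X' ⟶ X, and F'
the pullback of F to X'. Then F' is flat over Y', and for every point y' of Y' the Euler–Poincaré
characteristic of the fibre, Σ_i (−1)^i dim_{k(y')} H^i(X'_{y'}, F'_{y'}), equals Σ_i (−1)^i
dim_{k(g(y'))} H^i(X_{g(y')}, F_{g(y')}). -/
theorem result {X Y Y' : Scheme.{u}} (f : X ⟶ Y) (g : Y' ⟶ Y) [IsProper f]
    [IsLocallyNoetherian Y] [IsLocallyNoetherian Y'] (F : X.Modules) (hF : Coh.IsCoh F)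
    (hfl : FlatMod.IsFlatOver f F) :
    FlatMod.IsFlatOver (pullback.snd f g) ((Scheme.Modules.pullback (pullback.fst f g)).obj F) ∧
      ∀ y' : Y', PerfAux.eulerChar (pullback.snd f g) ((Scheme.Modules.pullback (pullback.fst f g)).obj F) y' =
        PerfAux.eulerChar f F (g.base y') := by
  haveI : QuasiCompact (pullback.snd f g) := inferInstance
  refine ⟨fun x' => MorLib.FlatBC.isFlatOverAt_baseChange f (pullback.snd f g) (pullback.fst f g) g
    (IsPullback.of_hasPullback f g) F x' (hfl _), fun y' => ?_⟩
  let y := g.base y'
  let f' := pullback.snd f g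
  let k' : CommRingCat := Y'.residueField y'
  have hw : (f'.fiberι y' ≫ pullback.fst f g) ≫ f =
      (f'.fiberToSpecResidueField y' ≫ Spec.map (g.residueFieldMap y')) ≫ Y.fromSpecResidueField y := by
    rw [Category.assoc, pullback.condition, ← Category.assoc, f'.fiber_fac y', Category.assoc, Category.assoc,
      Scheme.Hom.SpecMap_residueFieldMap_fromSpecResidueField]
  let c : f'.fiber y' ⟶ f.fiber y :=
    pullback.lift (f'.fiberι y' ≫ pullback.fst f g) (f'.fiberToSpecResidueField y' ≫ Spec.map (g.residueFieldMap y')) hw
  have hc1 : c ≫ f.fiberι y = f'.fiberι y' ≫ pullback.fst f g := pullback.lift_fst _ _ _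
  have hc2 : c ≫ f.fiberToSpecResidueField y = f'.fiberToSpecResidueField y' ≫ Spec.map (g.residueFieldMap y') :=
    pullback.lift_snd _ _ _
  have big : IsPullback (f'.fiberι y' ≫ pullback.fst f g) (f'.fiberToSpecResidueField y') f
      (Y'.fromSpecResidueField y' ≫ g) :=
    (show IsPullback (f'.fiberι y') (f'.fiberToSpecResidueField y') f' (Y'.fromSpecResidueField y') from
      IsPullback.of_hasPullback f' (Y'.fromSpecResidueField y')).paste_horiz (IsPullback.of_hasPullback f g)
  rw [← hc1, ← Scheme.Hom.SpecMap_residueFieldMap_fromSpecResidueField g y'] at big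
  have hpb : IsPullback c (f'.fiberToSpecResidueField y') (f.fiberToSpecResidueField y)
      (Spec.map (g.residueFieldMap y')) :=
    big.of_right hc2 (IsPullback.of_hasPullback f (Y.fromSpecResidueField y))
  letI : Algebra (Y.residueField y) (Y'.residueField y') := (g.residueFieldMap y').hom.toAlgebra
  letI : (f.fiber y).Over (Spec (CommRingCat.of (Y.residueField y))) := ⟨f.fiberToSpecResidueField y⟩
  letI : (f'.fiber y').Over (Spec (CommRingCat.of (Y'.residueField y'))) := ⟨f'.fiberToSpecResidueField y'⟩
  haveI : IsProper (f.fiberToSpecResidueField y) := MorphismProperty.pullback_snd _ _ ‹IsProper f›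
  haveI : CompactSpace (f.fiber y) := QuasiCompact.compactSpace_of_compactSpace (f.fiberToSpecResidueField y)
  haveI : QuasiSeparatedSpace (f.fiber y) := quasiSeparatedSpace_of_quasiSeparated (f.fiberToSpecResidueField y)
  haveI : Coh.IsQCoh ((Scheme.Modules.pullback (f.fiberι y)).obj F) := QCoh.isQCoh_pullback _ hF.1
  have hb : ∀ i : ℕ, PerfAux.betti f' ((Scheme.Modules.pullback (pullback.fst f g)).obj F) y' i =
      PerfAux.betti f F y i := by
    intro i
    obtain ⟨e⟩ := S0034.result (Y.residueField y) (Y'.residueField y') (f.fiber y) (f'.fiber y') c hpb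
      ((Scheme.Modules.pullback (f.fiberι y)).obj F) i
    let E := (Scheme.Modules.pullbackComp c (f.fiberι y)).app F ≪≫
      (Scheme.Modules.pullbackCongr hc1).app F ≪≫
      ((Scheme.Modules.pullbackComp (f'.fiberι y') (pullback.fst f g)).app F).symm
    let e' := QCoh.HHcongr (Coh.toGlobal (f'.fiber y' ↘ Spec (CommRingCat.of (Y'.residueField y')))) E i
    show Module.finrank (Y'.residueField y') (PerfAux.fiberH f' _ y' i) =
      Module.finrank (Y.residueField y) (PerfAux.fiberH f F y i)
    exact (LinearEquiv.finrank_eq (e.trans e')).symm.trans Module.finrank_baseChange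
  exact finsum_congr fun i => by rw [hb i]

end Groth.Agent.S4508
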