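import Groth.Statements.S4509
import Groth.Agent.FlatCxLib.DVR

set_option autoImplicit false
universe u
open FlatCx

namespace Groth.Agent.S4509

open CategoryTheory CategoryTheory.Limits in
/-- The chain of inequalities for the homological functor T_p(M) = H_p(P ⊗_A M) of a chain complex P of
flat modules over a discrete valuation ring A with fraction field K and residue field k, the modules
T_i(A) = H_i(P) being finitely generated: dim_k T_p(k) ≥ dim_k (T_p(A) ⊗_A k) ≥ rank_A T_p(A) =
dim_K T_p(K). Stated as the two inequalities dim_K H_p(P ⊗_A K) ≤ dim_k (k ⊗_A H_p(P)) ≤ dim_k H_p(P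
⊗_A k). -/
theorem result {A : Type u} [CommRing A] [IsDomain A] [IsDiscreteValuationRing A]
    (P : ChainComplex (ModuleCat.{u} A) ℤ) (hP : ∀ i, Module.Flat A (P.X i))
    (hfin : ∀ i, Module.Finite A (P.homology i)) (p : ℤ) :
    Module.finrank (FractionRing A) ((CohIII.bcCx (algebraMap A (FractionRing A)) P).homology p) ≤
        Module.finrank (IsLocalRing.ResidueField A)
          (TensorProduct A (IsLocalRing.ResidueField A) (P.homology p)) ∧
      Module.finrank (IsLocalRing.ResidueField A)
          (TensorProduct A (IsLocalRing.ResidueField A) (P.homology p)) ≤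
        Module.finrank (IsLocalRing.ResidueField A)
          ((CohIII.bcCx (algebraMap A (IsLocalRing.ResidueField A)) P).homology p) := by
  exact (Groth.Agent.FlatCxLib.dvr_main P hP hfin (p := p) (q := p - 1) (by lia)).1

end Groth.Agent.S4509
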