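import Groth.Statements.S4510
import Groth.Agent.H9Misc.EtaleFibreT

set_option autoImplicit false
set_option backward.isDefEq.respectTransparency false
set_option backward.isDefEq.respectTransparency.types false
set_option linter.style.haveILetI false
universe u
attribute [local instance] HasDerivedCategory.standard
open Coherent

namespace Groth.Agent.S4510

open AlgebraicGeometry CategoryTheory CategoryTheory.Limits in
/-- Over a local base (so that the point y is the closed point and cohomological flatness at y is
exactness of T^A_0). Let A be a Noetherian local ring with maximal ideal m, X a proper and flat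
A-scheme with structure morphism f, y the closed point of Spec A (the point whose prime ideal is m),
and suppose that the ring of global functions Γ(X_y, O_{X_y}) of the closed fibre is an étale
k(y)-algebra (a finite product of finite separable extensions of k(y)). Then O_X is cohomologically
flat over Spec A in degree 0: the functor M ↦ H^0(X, f^*(M~) ⊗ O_X) of the A-module M takes
injections to injections and surjections to surjections. -/
theorem result (A : Type u) [CommRing A]
    [IsNoetherianRing A] [IsLocalRing A] (X : Scheme.{u}) [X.Over (Spec (CommRingCat.of A))]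
    [IsProper (X ↘ Spec (CommRingCat.of A))] [Flat (X ↘ Spec (CommRingCat.of A))]
    (y : ↥(Spec (CommRingCat.of A))) (hy : y.asIdeal = IsLocalRing.maximalIdeal A)
    (het : Algebra.Etale ((Spec (CommRingCat.of A)).residueField y)
      Γ((X ↘ Spec (CommRingCat.of A)).fiber y, ⊤)) :
    (CohIII.tensorAFunctor A (Coh.structureModule X) ⋙ CohIII.HAb X 0).PreservesMonomorphisms ∧
      (CohIII.tensorAFunctor A (Coh.structureModule X) ⋙ CohIII.HAb X 0).PreservesEpimorphisms := by
  let π := X ↘ Spec (CommRingCat.of A)
  let i := Scheme.Spec.residueFieldIso (CommRingCat.of A) y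
  let φ : A →+* (Spec (CommRingCat.of A)).residueField y :=
    i.inv.hom.comp (algebraMap A y.asIdeal.ResidueField)
  have hφS : Spec.map (CommRingCat.ofHom φ) = (Spec (CommRingCat.of A)).fromSpecResidueField y :=
    (Spec.map_comp (CommRingCat.ofHom (algebraMap A y.asIdeal.ResidueField)) i.inv).trans
      (Scheme.Spec.map_residueFieldIso_inv_eq_fromSpecResidueField (CommRingCat.of A) y)
  haveI : y.asIdeal.IsMaximal := hy ▸ inferInstance
  have hφ : Function.Surjective φ :=
    (ConcreteCategory.bijective_of_isIso i.inv).2.comp (Ideal.algebraMap_residueField_surjective y.asIdeal)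
  refine H9Misc.EtaleFibre.exact_of_sep φ hφ fun σ => ?_
  let e : pullback π (Spec.map (CommRingCat.ofHom φ)) ≅ π.fiber y := pullback.congrHom rfl hφS
  let σ' : Γ(π.fiber y, ⊤) := e.inv.appTop σ
  obtain ⟨G, hG, hG0⟩ := @H9Misc.EtaleFibre.exists_separable_root _ _ _ _ _ het σ'
  refine ⟨G, hG, ?_⟩
  have hσ : e.hom.appTop σ' = σ := by
    show e.hom.appTop (e.inv.appTop σ) = σ
    rw [← CommRingCat.comp_apply, ← Scheme.Hom.comp_appTop, Iso.hom_inv_id]
    rfl
  have hc : e.hom.appTop.hom.comp (algebraMap _ Γ(π.fiber y, ⊤)) = H9Misc.EtaleFibre.κα π φ ⊤ := by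
    have hs : e.hom ≫ π.fiberToSpecResidueField y = pullback.snd π (Spec.map (CommRingCat.ofHom φ)) := by
      simp [e, Scheme.Hom.fiberToSpecResidueField]
    refine RingHom.ext fun a => ?_
    show ((π.fiberToSpecResidueField y).appTop ≫ e.hom.appTop).hom ((Scheme.ΓSpecIso ((Spec (CommRingCat.of A)).residueField y)).inv a) = _
    rw [← Scheme.Hom.comp_appTop, hs]
    show (pullback.snd π (Spec.map (CommRingCat.ofHom φ))).appTop _ =
      (pullback.snd π (Spec.map (CommRingCat.ofHom φ))).appLE ⊤ ⊤ le_top _
    simp [Scheme.Hom.appLE]
    rfl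
  rw [Polynomial.aeval_def] at hG0
  rw [← hc, ← hσ, ← Polynomial.hom_eval₂, hG0, map_zero]

end Groth.Agent.S4510
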