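import Groth.Statements.S4514
import Groth.Agent.RegFS6.Lift

set_option autoImplicit false
universe u
open EGA41

namespace Groth.Agent.S4514

open IsLocalRing TensorProduct in
/-- Let A be a Noetherian local ring with residue field k, and let B₀ be a k-algebra which is a complete
regular local ring. Then there exist a complete Noetherian local ring B and a local homomorphism A →
B making B a flat A-module, such that B₀ is k-isomorphic to k ⊗_A B = B/𝔪B. -/
theorem result {A : Type u} [CommRing A] [IsLocalRing A] [IsNoetherianRing A]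
    (B₀ : Type u) [CommRing B₀] [IsRegularLocalRing B₀] [IsAdicComplete (maximalIdeal B₀) B₀]
    [Algebra (ResidueField A) B₀] :
    ∃ (B : Type u) (_ : CommRing B) (_ : IsLocalRing B) (_ : IsNoetherianRing B) (_ : Algebra A B)
      (_ : IsLocalHom (algebraMap A B)),
      IsAdicComplete (maximalIdeal B) B ∧ Module.Flat A B ∧
        Nonempty (ResidueField A ⊗[A] B ≃ₐ[ResidueField A] B₀) := by
    obtain ⟨C, _, _, _, _, _, ρ, hc, hflat, hρ, hker, hρa⟩ := RegFS6.exists_flat_complete_lift A B₀
    refine ⟨C, inferInstance, inferInstance, inferInstance, inferInstance, inferInstance, hc, hflat, ?_⟩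
    letI : Algebra A B₀ := ((algebraMap (ResidueField A) B₀).comp (residue A)).toAlgebra
    haveI : IsScalarTower A (ResidueField A) B₀ := IsScalarTower.of_algebraMap_eq fun _ => rfl
    let ρA : C →ₐ[A] B₀ := { ρ with commutes' := hρa }
    let φ : ResidueField A ⊗[A] C →ₐ[ResidueField A] B₀ :=
      Algebra.TensorProduct.lift (Algebra.ofId (ResidueField A) B₀) ρA fun _ _ => Commute.all _ _
    have hφ : ∀ c, φ ((1 : ResidueField A) ⊗ₜ[A] c) = ρ c := fun c => by
      show Algebra.TensorProduct.lift (Algebra.ofId (ResidueField A) B₀) ρA _ ((1 : ResidueField A) ⊗ₜ[A] c) = _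
      rw [Algebra.TensorProduct.lift_tmul, map_one, one_mul]
      rfl
    have hsurj : ∀ t : ResidueField A ⊗[A] C, ∃ c : C, (1 : ResidueField A) ⊗ₜ[A] c = t := fun t => by
      induction t using TensorProduct.induction_on with
      | zero => exact ⟨0, tmul_zero _ _⟩
      | add x y hx hy =>
        obtain ⟨a, rfl⟩ := hx
        obtain ⟨b, rfl⟩ := hy
        exact ⟨a + b, tmul_add _ _ _⟩
      | tmul r c =>
        obtain ⟨a, rfl⟩ := residue_surjective r
        refine ⟨a • c, ?_⟩
        rw [tmul_smul, smul_tmul', ← Algebra.algebraMap_eq_smul_one]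
        rfl
    refine ⟨AlgEquiv.ofBijective φ ⟨?_, fun b => ?_⟩⟩
    · rw [injective_iff_map_eq_zero]
      intro t ht
      obtain ⟨c, rfl⟩ := hsurj t
      rw [hφ, ← RingHom.mem_ker, hker, ← Submodule.restrictScalars_mem A, ← Ideal.smul_top_eq_map] at ht
      induction ht using Submodule.smul_induction_on' with
      | smul a ha z _ =>
        rw [tmul_smul, smul_tmul', ← Algebra.algebraMap_eq_smul_one, show algebraMap A (ResidueField A) a = 0 from
          (residue_eq_zero_iff a).mpr ha, zero_tmul]
      | add x _ y _ hx hy => rw [tmul_add, hx, hy, add_zero]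
    · obtain ⟨c, rfl⟩ := hρ b
      exact ⟨_, hφ c⟩

end Groth.Agent.S4514
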