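import Groth.Statements.S4515
import Mathlib.RingTheory.AdicCompletion.Functoriality
import Mathlib.RingTheory.Flat.Basic

set_option autoImplicit false
universe u
open EGA41
open scoped TensorProduct

namespace Groth.Agent.S4515

/-- Let A be a ring, J an ideal of A, and M, N two A-modules which are Hausdorff for the J-adic
topology; suppose moreover that N is J-adically complete and M is flat. Let u : N → M be A-linear.
If the induced map N/JN → M/JM is bijective (surjectivity and injectivity written out below), then u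
is bijective. -/
theorem result {A : Type u} [CommRing A] (J : Ideal A)
    {M N : Type u} [AddCommGroup M] [Module A M] [AddCommGroup N] [Module A N]
    [IsHausdorff J M] [IsAdicComplete J N] [Module.Flat A M] (u : N →ₗ[A] M)
    (hsurj : ∀ m : M, ∃ n : N, m - u n ∈ (J • ⊤ : Submodule A M))
    (hinj : ∀ n : N, u n ∈ (J • ⊤ : Submodule A M) → n ∈ (J • ⊤ : Submodule A N)) :
    Function.Bijective u := by
  have hsurj' : Function.Surjective ((J • ⊤ : Submodule A M).mkQ ∘ₗ u) := by
    intro z
    obtain ⟨m, rfl⟩ := Submodule.Quotient.mk_surjective _ z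
    obtain ⟨n, hn⟩ := hsurj m
    exact ⟨n, ((Submodule.Quotient.eq _).mpr hn).symm⟩
  refine ⟨?_, surjective_of_mkQ_comp_surjective (I := J) hsurj'⟩
  let ub : (N ⧸ (J • ⊤ : Submodule A N)) →ₗ[A] (M ⧸ (J • ⊤ : Submodule A M)) :=
    Submodule.mapQ _ _ u (by
      rw [← Submodule.map_le_iff_le_comap, Submodule.map_smul'']
      exact smul_mono_right _ le_top)
  have hub : Function.Bijective ub := by
    constructor
    · rw [injective_iff_map_eq_zero]
      intro z hz
      obtain ⟨n, rfl⟩ := Submodule.Quotient.mk_surjective _ z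
      exact (Submodule.Quotient.mk_eq_zero _).mpr (hinj n ((Submodule.Quotient.mk_eq_zero _).mp hz))
    · intro z
      obtain ⟨n, hn⟩ := hsurj' z
      exact ⟨Submodule.Quotient.mk n, hn⟩
  let e := LinearEquiv.ofBijective ub hub
  let φ : M →ₗ[A] N ⧸ (J • ⊤ : Submodule A N) := e.symm.toLinearMap ∘ₗ (J • ⊤ : Submodule A M).mkQ
  have hφ : ∀ n, φ (u n) = Submodule.Quotient.mk n := fun n => e.symm_apply_eq.mpr rfl
  have key : ∀ (k : ℕ) (n : N), n ∈ (J ^ k • ⊤ : Submodule A N) →
      u n ∈ (J ^ (k + 1) • ⊤ : Submodule A M) → n ∈ (J ^ (k + 1) • ⊤ : Submodule A N) := by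
    intro k n hn hun
    have hmulle : ∀ a : ↥(J ^ k), (J • ⊤ : Submodule A N) ≤
        LinearMap.ker ((J ^ (k + 1) • ⊤ : Submodule A N).mkQ ∘ₗ LinearMap.lsmul A N (a : A)) := by
      intro a
      rw [Submodule.smul_le]
      intro b hb x _
      simp only [LinearMap.mem_ker, LinearMap.comp_apply, LinearMap.lsmul_apply, Submodule.mkQ_apply,
        Submodule.Quotient.mk_eq_zero, ← mul_smul]
      exact Submodule.smul_mem_smul (pow_succ J k ▸ Ideal.mul_mem_mul a.2 hb) trivial
    let ψ : ↥(J ^ k) →ₗ[A] (N ⧸ (J • ⊤ : Submodule A N)) →ₗ[A] (N ⧸ (J ^ (k + 1) • ⊤ : Submodule A N)) :=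
      LinearMap.mk₂ A (fun a z => (J • ⊤ : Submodule A N).liftQ _ (hmulle a) z)
        (fun a b z => by
          induction z using Submodule.Quotient.induction_on with
          | _ x => simp [add_smul])
        (fun c a z => by
          induction z using Submodule.Quotient.induction_on with
          | _ x => simp [mul_smul])
        (fun a z z' => map_add _ z z') (fun c a z => map_smul _ c z)
    let Φ : ↥(J ^ k) ⊗[A] M →ₗ[A] (N ⧸ (J ^ (k + 1) • ⊤ : Submodule A N)) :=
      TensorProduct.lift (ψ.compl₂ φ)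
    let μ : ↥(J ^ k) ⊗[A] M →ₗ[A] M := TensorProduct.lift ((LinearMap.lsmul A M).comp (J ^ k).subtype)
    have hμ : Function.Injective μ := by
      have he : μ = (TensorProduct.lid A M).toLinearMap ∘ₗ LinearMap.rTensor M (J ^ k).subtype := by
        ext a m
        simp [μ]
      rw [he]
      exact (TensorProduct.lid A M).injective.comp
        (Module.Flat.rTensor_preserves_injective_linearMap _ (J ^ k).injective_subtype)
    have h1 : ∀ y ∈ (J ^ k • ⊤ : Submodule A N), ∃ t, μ t = u y ∧ Φ t = Submodule.Quotient.mk y := by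
      intro y hy
      refine Submodule.smul_induction_on hy (fun a ha x _ => ?_) fun a b ha hb => ?_
      · refine ⟨⟨a, ha⟩ ⊗ₜ[A] u x, by simp [μ], ?_⟩
        simp [Φ, ψ, hφ]
      · obtain ⟨s, hs, hs'⟩ := ha
        obtain ⟨t, ht, ht'⟩ := hb
        exact ⟨s + t, by simp [hs, ht], by simp [hs', ht']⟩
    have h2 : ∀ y ∈ (J ^ (k + 1) • ⊤ : Submodule A M), ∃ t, μ t = y ∧ Φ t = 0 := by
      intro y hy
      refine Submodule.smul_induction_on hy (fun a ha x _ => ?_) fun a b ha hb => ?_
      · refine ⟨⟨a, Ideal.pow_le_pow_right (Nat.le_succ k) ha⟩ ⊗ₜ[A] x, by simp [μ], ?_⟩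
        simp only [Φ, ψ, TensorProduct.lift.tmul, LinearMap.compl₂_apply, LinearMap.mk₂_apply]
        obtain ⟨z, hz⟩ := Submodule.Quotient.mk_surjective _ (φ x)
        rw [← hz]
        simp only [Submodule.liftQ_apply, LinearMap.comp_apply, LinearMap.lsmul_apply,
          Submodule.mkQ_apply, Submodule.Quotient.mk_eq_zero]
        exact Submodule.smul_mem_smul ha trivial
      · obtain ⟨s, hs, hs'⟩ := ha
        obtain ⟨t, ht, ht'⟩ := hb
        exact ⟨s + t, by simp [hs, ht], by simp [hs', ht']⟩
    obtain ⟨s, hs, hs'⟩ := h1 n hn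
    obtain ⟨t, ht, ht'⟩ := h2 _ hun
    rw [← Submodule.Quotient.mk_eq_zero, ← hs', hμ (hs.trans ht.symm), ht']
  rw [injective_iff_map_eq_zero]
  intro n hn
  refine IsHausdorff.haus (I := J) inferInstance n fun k => ?_
  rw [SModEq.zero]
  induction k with
  | zero => simp
  | succ k ih => exact key k n ih (by rw [hn]; exact Submodule.zero_mem _)

end Groth.Agent.S4515
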