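import Groth.Statements.S4516
import Mathlib.RingTheory.Kaehler.Basic

set_option autoImplicit false
universe u
open EGA41

namespace Groth.Agent.S4516

/-- Let p be a prime, B an A-algebra of characteristic p and A' an A-subalgebra of B contained in
A[B^p]. Then the canonical map between Ω_{B/A} and Ω_{B/A'} is bijective (every A-derivation of B
vanishes on A[B^p]). -/
theorem result (p : ℕ) [Fact p.Prime] {A B : Type u}
    [CommRing A] [CommRing B] [Algebra A B] [CharP B p] (A' : Subalgebra A B)
    (hA' : A' ≤ EGA41.pPowerSubalgebra p A B) :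
    Function.Bijective (KaehlerDifferential.map A A' B B) := by
  refine ⟨?_, KaehlerDifferential.map_surjective A A' B⟩
  have hp : (p : B) = 0 := CharP.cast_eq_zero B p
  have hD : ∀ b ∈ EGA41.pPowerSubalgebra p A B, KaehlerDifferential.D A B b = 0 := by
    intro b hb
    refine Algebra.adjoin_induction ?_ ?_ ?_ ?_ hb
    · rintro _ ⟨c, rfl⟩
      rw [Derivation.leibniz_pow, ← Nat.cast_smul_eq_nsmul B, hp, zero_smul]
    · exact fun r => Derivation.map_algebraMap _ r
    · exact fun x y _ _ hx hy => by rw [map_add, hx, hy, add_zero]
    · exact fun x y _ _ hx hy => by rw [Derivation.leibniz, hx, hy, smul_zero, smul_zero, add_zero]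
  rw [injective_iff_map_eq_zero]
  intro x hx
  obtain ⟨t, rfl⟩ := (KaehlerDifferential.exact_mapBaseChange_map A A' B x).mp hx
  induction t with
  | zero => simp
  | add a b ha hb =>
    rw [map_add] at hx ⊢
    have hva : KaehlerDifferential.map A A' B B (KaehlerDifferential.mapBaseChange A A' B a) = 0 :=
      (KaehlerDifferential.exact_mapBaseChange_map A A' B _).mpr ⟨a, rfl⟩
    have hvb : KaehlerDifferential.map A A' B B (KaehlerDifferential.mapBaseChange A A' B b) = 0 :=
      (KaehlerDifferential.exact_mapBaseChange_map A A' B _).mpr ⟨b, rfl⟩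
    rw [ha hva, hb hvb, add_zero]
  | tmul b ω =>
    rw [KaehlerDifferential.mapBaseChange_tmul]
    have : ∀ ω', KaehlerDifferential.map A A A' B ω' = 0 := by
      intro ω'
      have h := KaehlerDifferential.span_range_derivation A A'
      have hω : ω' ∈ Submodule.span A' (Set.range (KaehlerDifferential.D A A')) := h ▸ trivial
      induction hω using Submodule.span_induction with
      | mem y hy =>
        obtain ⟨a, rfl⟩ := hy
        rw [KaehlerDifferential.map_D]
        exact hD _ (hA' a.2)
      | zero => simp
      | add y z _ _ hy hz => rw [map_add, hy, hz, add_zero]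
      | smul r y _ hy => rw [map_smul, hy, smul_zero]
    rw [this, smul_zero]

end Groth.Agent.S4516
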