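import Groth.Statements.S4517
import Mathlib.RingTheory.Kaehler.Basic
import Mathlib.Algebra.CharP.Lemmas
import Mathlib.Algebra.CharP.Algebra
import Mathlib.RingTheory.Nilpotent.Lemmas

set_option autoImplicit false
universe u
open EGA41
open scoped TensorProduct

namespace Groth.Agent.S4517

/-- Let p be a prime, B an A-algebra of characteristic p, and suppose there is s ≥ 0 such that b^(p^s)
lies in the image of A for every b ∈ B. Then the kernel of the multiplication map B ⊗_A B → B is a
nil ideal. -/
theorem result (p : ℕ) [Fact p.Prime] {A B : Type u}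
    [CommRing A] [CommRing B] [Algebra A B] [CharP B p] (s : ℕ)
    (hpow : ∀ b : B, b ^ p ^ s ∈ Set.range (algebraMap A B)) :
    ∀ x ∈ KaehlerDifferential.ideal A B, IsNilpotent x := by
  intro x hx
  haveI : CharP (B ⊗[A] B) p := by
    have hinj : Function.Injective (algebraMap B (B ⊗[A] B)) := by
      intro a b hab
      simpa using congrArg (Algebra.TensorProduct.lmul' A (S := B)) hab
    exact charP_of_injective_algebraMap hinj p
  have hle : KaehlerDifferential.ideal A B ≤ nilradical (B ⊗[A] B) := by
    rw [← KaehlerDifferential.span_range_eq_ideal, Ideal.span_le]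
    rintro _ ⟨b, rfl⟩
    rw [SetLike.mem_coe, mem_nilradical]
    refine ⟨p ^ s, ?_⟩
    show (1 ⊗ₜ[A] b - b ⊗ₜ[A] 1) ^ p ^ s = 0
    obtain ⟨a, ha⟩ := hpow b
    rw [sub_pow_char_pow, Algebra.TensorProduct.tmul_pow, Algebra.TensorProduct.tmul_pow,
      one_pow, ← ha, Algebra.algebraMap_eq_smul_one, TensorProduct.tmul_smul, TensorProduct.smul_tmul',
      sub_self]
  exact hle hx

end Groth.Agent.S4517
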