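import Groth.Statements.S4518
import Groth.Agent.PBasisLib.Tower

set_option autoImplicit false
universe u
open EGA41

namespace Groth.Agent.S4518

/-- Let p be a prime and A → C → B rings of characteristic p with C → B injective and every p-th power
of B in the image of A (so, identifying, B^p ⊆ A ⊆ C ⊆ B up to replacing A by its image); let x be a
family of elements of C and y a family of elements of B. (i) If x is a system of p-generators of C
over A and y one of B over C, then the family obtained by putting x (viewed in B) and y together is
a system of p-generators of B over A. (ii) If x is a p-basis of C over A, then y is p-independent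
over C if and only if the combined family is p-independent over A. (The published statement only
asks B^p ⊆ C and reduces to B^p ⊆ A by enlarging A to A[B^p]; but p-independence of x in C over A
refers to A[C^p], which can be smaller than A[B^p] — for A = 𝔽_p, C = 𝔽_p(t^p) ⊂ B = 𝔽_p(t), x =
(t^p), y = (t), x is a p-basis of C over A and y is p-independent over C while (t^p, t) is not
p-independent over A — so this row assumes B^p ⊆ A, the case the published proof treats.) -/
theorem result (p : ℕ) [Fact p.Prime] {A C B : Type u} [CommRing A] [CommRing C]
    [CommRing B] [Algebra A C] [Algebra C B] [Algebra A B] [IsScalarTower A C B] [CharP B p]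
    (hinj : Function.Injective (algebraMap C B)) (hpow : ∀ b : B, b ^ p ∈ Set.range (algebraMap A B))
    {ι κ : Type u} (x : ι → C) (y : κ → B) :
    (EGA41.IsPGenerating p A x → EGA41.IsPGenerating p C y →
      EGA41.IsPGenerating p A (Sum.elim (fun i => algebraMap C B (x i)) y)) ∧
    (EGA41.IsPBasis p A x →
      (EGA41.IsPIndependent p C y ↔ EGA41.IsPIndependent p A (Sum.elim (fun i => algebraMap C B (x i)) y))) := by
  exact ⟨Groth.Agent.PBasisLib.isPGenerating_sumElim p hinj hpow, Groth.Agent.PBasisLib.isPIndependent_sumElim_iff p hinj hpow⟩

end Groth.Agent.S4518
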