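import Groth.Statements.S4522
import Groth.Agent.PBasisLib.Field
import Groth.Agent.PBasisLib.Extend

set_option autoImplicit false
universe u
open EGA41

namespace Groth.Agent.S4522

/-- Let L be a field of characteristic p > 0 and K a subfield with L^p ⊆ K ⊆ L (here R → K → L with the
image of R in L the set of p-th powers and every p-th power of L in the image of K). Then the
canonical L-linear map L ⊗_K Ω_{K/L^p} → Ω_{L/L^p} is injective, so that 0 → Ω_{K/L^p} ⊗_K L →
Ω_{L/L^p} → Ω_{L/K} → 0 is exact: the imperfection module of L over K relative to L^p vanishes. -/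
theorem result (p : ℕ) [Fact p.Prime] {R K L : Type u} [Field R] [Field K] [Field L]
    [Algebra R K] [Algebra K L] [Algebra R L] [IsScalarTower R K L] [CharP L p]
    (hR : Set.range (algebraMap R L) = Set.range fun y : L => y ^ p)
    (hK : ∀ y : L, y ^ p ∈ Set.range (algebraMap K L)) :
    Function.Injective (KaehlerDifferential.mapBaseChange R K L) := by
  refine Groth.Agent.PBasisLib.injective_mapBaseChange_of_extends fun D => ?_
  haveI : CharP L p := inferInstance
  obtain ⟨B, -, -, hB⟩ := Groth.Agent.PBasisLib.exists_isPBasis p K (L := (∅ : Set L)) (S := Set.univ)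
    (Set.empty_subset _) (fun t ht => absurd ht (Set.notMem_empty t))
    (eq_top_iff.mpr fun y _ => Groth.Agent.PBasisLib.subset_Fp p K _ (Set.mem_univ y))
  have hinj := (algebraMap K L).injective
  let δ : EGA41.pPowerSubalgebra p K L →+ L := AddMonoidHom.mk'
    (fun s => D (Function.invFun (algebraMap K L) s)) (fun s t => by
      have hrange : ∀ s : EGA41.pPowerSubalgebra p K L, algebraMap K L (Function.invFun (algebraMap K L) s) = s := by
        intro s
        have hle : EGA41.pPowerSubalgebra p K L ≤ ⊥ := Algebra.adjoin_le (by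
          rintro _ ⟨b, rfl⟩
          exact Algebra.mem_bot.mpr (hK b))
        exact Function.invFun_eq (Algebra.mem_bot.mp (hle s.2))
      rw [← map_add]
      exact congrArg D (hinj ((hrange (s + t)).trans (by rw [map_add, hrange s, hrange t]; rfl))))
  have hrange : ∀ s : EGA41.pPowerSubalgebra p K L, algebraMap K L (Function.invFun (algebraMap K L) s) = s := by
    intro s
    have hle : EGA41.pPowerSubalgebra p K L ≤ ⊥ := Algebra.adjoin_le (by
      rintro _ ⟨b, rfl⟩
      exact Algebra.mem_bot.mpr (hK b))
    exact Function.invFun_eq (Algebra.mem_bot.mp (hle s.2))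
  have hδ0 : ∀ b : B, δ ⟨(b : L) ^ p, Groth.Agent.PBasisLib.pow_mem p K _⟩ = 0 := fun b => by
    obtain ⟨r, hr⟩ : (b : L) ^ p ∈ Set.range (algebraMap R L) := hR ▸ ⟨_, rfl⟩
    show D _ = 0
    rw [show Function.invFun (algebraMap K L) ((b : L) ^ p) = algebraMap R K r from hinj
      ((hrange ⟨_, Groth.Agent.PBasisLib.pow_mem p K _⟩).trans (hr.symm.trans (IsScalarTower.algebraMap_apply R K L r)))]
    exact D.map_algebraMap r
  obtain ⟨D', ⟨h1, -⟩, -⟩ := Groth.Agent.PBasisLib.existsUnique_derivation_int hB δ (fun s t => by
    show D _ = _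
    rw [show Function.invFun (algebraMap K L) ((s * t : EGA41.pPowerSubalgebra p K L) : L) =
      Function.invFun (algebraMap K L) s * Function.invFun (algebraMap K L) t from hinj ((hrange (s * t)).trans (by rw [map_mul, hrange s, hrange t]; rfl)),
      D.leibniz]
    show _ = (s : L) • D (Function.invFun (algebraMap K L) t) + (t : L) • D (Function.invFun (algebraMap K L) s)
    rw [← hrange s, ← hrange t, algebraMap_smul, algebraMap_smul, hrange s, hrange t]) hδ0 0
  have key : ∀ a : K, D' (algebraMap K L a) = D a := fun a => by
    refine (h1 ⟨_, Groth.Agent.PBasisLib.algebraMap_mem' p K a⟩).trans (congrArg D ?_)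
    exact Function.leftInverse_invFun hinj a
  refine ⟨Derivation.mk'
    { toFun := D'
      map_add' := map_add D'
      map_smul' := fun r y => by
        have h0 : D' (algebraMap R L r) = 0 := by
          rw [IsScalarTower.algebraMap_apply R K L, key, D.map_algebraMap]
        rw [Algebra.smul_def, D'.leibniz, h0, smul_zero, add_zero, algebraMap_smul, RingHom.id_apply] }
    D'.leibniz, key⟩

end Groth.Agent.S4522
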