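import Groth.Statements.S4524
import Mathlib.RingTheory.Etale.Kaehler
import Mathlib.RingTheory.Etale.Field
import Mathlib.RingTheory.AlgebraicIndependent.TranscendenceBasis
import Mathlib.Algebra.MvPolynomial.PDeriv
import Mathlib.RingTheory.Smooth.Field
import Mathlib.LinearAlgebra.TensorProduct.Tower

set_option autoImplicit false
universe u
open EGA41
open scoped TensorProduct IntermediateField.algebraAdjoinAdjoin

namespace Groth.Agent.S4524

/-- Let k be a field of characteristic 0 and K an extension of k. Then Ω_{K/k} = 0 if and only if K is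
an algebraic extension of k. -/
theorem result {k K : Type u} [Field k] [CharZero k] [Field K] [Algebra k K] :
    Subsingleton (Ω[K⁄k]) ↔ Algebra.IsAlgebraic k K := by
  constructor
  · intro hsub
    obtain ⟨ι, x, hx⟩ := exists_isTranscendenceBasis' k K
    rcases isEmpty_or_nonempty ι with h | ⟨⟨i⟩⟩
    · exact hx.isEmpty_iff_isAlgebraic.mp h
    exfalso
    set S := Algebra.adjoin k (Set.range x) with hS
    set F := IntermediateField.adjoin k (Set.range x) with hF
    haveI := hx.isAlgebraic_field
    haveI : Algebra.FormallyEtale F K := Algebra.FormallyEtale.of_isSeparable _ K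
    haveI : Algebra.FormallyEtale S F := Algebra.FormallyEtale.of_isLocalization (nonZeroDivisors S)
    haveI : Algebra.FormallyEtale S K := Algebra.FormallyEtale.comp S F K
    haveI : Subsingleton (K ⊗[S] Ω[S⁄k]) :=
      (KaehlerDifferential.tensorKaehlerEquivOfFormallyEtale k S K).toEquiv.subsingleton
    let e := hx.1.aevalEquiv
    let D' : Derivation k S K := Derivation.mk'
      ((IsScalarTower.toAlgHom k S K).toLinearMap ∘ₗ e.toLinearMap ∘ₗ
        (MvPolynomial.pderiv i).toLinearMap ∘ₗ e.symm.toLinearMap)
      (fun a b => by
        simp only [LinearMap.comp_apply, AlgEquiv.toLinearMap_apply, map_mul, Derivation.coeFn_coe,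
          Derivation.leibniz, smul_eq_mul, map_add, AlgEquiv.apply_symm_apply, AlgHom.toLinearMap_apply,
          IsScalarTower.coe_toAlgHom', Algebra.smul_def])
    let f : K ⊗[S] Ω[S⁄k] →ₗ[K] K := (D'.liftKaehlerDifferential).liftBaseChange K
    let a : S := e (MvPolynomial.X i)
    have h1 : f ((1 : K) ⊗ₜ[S] KaehlerDifferential.D k S a) = 1 := by
      simp [f, D', a, Derivation.liftKaehlerDifferential_comp_D]
    rw [Subsingleton.elim ((1 : K) ⊗ₜ[S] KaehlerDifferential.D k S a) 0, map_zero] at h1
    exact zero_ne_one h1
  · intro h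
    haveI := Algebra.FormallyUnramified.of_isSeparable k K
    infer_instance

end Groth.Agent.S4524
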