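import Groth.Statements.S4526
import Groth.Agent.CartierEq4.Fg

set_option autoImplicit false
universe u
open EGA41

namespace Groth.Agent.S4526

/-- Let k ⊆ K ⊆ L be three fields with L an extension of finite type of k. Then Ω_{L/k} and Ω_{K/k} are
finite-dimensional and rank_L Ω_{L/k} − rank_K Ω_{K/k} ≥ trdeg_K L. (The published statement also
gives the exact value trdeg_K L + d(L/K, k) and an equality criterion; this row states only the
inequality.) -/
theorem result {k K L : Type u} [Field k] [Field K] [Field L]
    [Algebra k K] [Algebra K L] [Algebra k L] [IsScalarTower k K L] [Algebra.EssFiniteType k L] :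
    Module.Finite L (Ω[L⁄k]) ∧ Module.Finite K (Ω[K⁄k]) ∧
      (Cardinal.toNat (Algebra.trdeg K L) : ℤ) ≤ (Module.finrank L (Ω[L⁄k]) : ℤ) - Module.finrank K (Ω[K⁄k]) := by
  haveI : Algebra.EssFiniteType K L := Algebra.EssFiniteType.of_comp k K L
  haveI : Algebra.EssFiniteType k K := CartierEq4.essFiniteType_bot k K L
  haveI : Module.Finite L (Ω[L⁄k]) := (CartierEq4.finrank_kaehler_eq k L).1
  haveI : Module.Finite K (Ω[K⁄k]) := (CartierEq4.finrank_kaehler_eq k K).1
  refine ⟨inferInstance, inferInstance, ?_⟩
  have h := CartierEq4.trdeg_le_finrank_sub (k := k) (K := K) (L := L)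
  omega

end Groth.Agent.S4526
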