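import Groth.Statements.S4528
import Groth.Agent.AdicLib.Basic
import Mathlib

set_option autoImplicit false
universe u
open EGA41

namespace Groth.Agent.S4528

open IsLocalRing in
/-- Let k be a field (any characteristic) and A a complete Noetherian local k-algebra whose residue
field K is an extension of finite type of k. Then the completed module of differentials, i.e. the
𝔪-adic completion of Ω_{A/k}, is an A-module of finite type. -/
theorem result {k A : Type u} [Field k] [CommRing A] [IsLocalRing A]
    [IsNoetherianRing A] [IsAdicComplete (maximalIdeal A) A] [Algebra k A]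
    [Algebra.EssFiniteType k (ResidueField A)] :
    Module.Finite A (AdicCompletion (maximalIdeal A) (Ω[A⁄k])) := by
  set K := IsLocalRing.ResidueField A
  set m := IsLocalRing.maximalIdeal A with hm
  have hsurj : Function.Surjective (algebraMap A K) := IsLocalRing.residue_surjective
  haveI : Module.Finite A K := Module.Finite.of_surjective (Algebra.linearMap A K) hsurj
  haveI : Module.Finite K (Ω[K⁄k]) := inferInstance
  haveI : Module.Finite A (Ω[K⁄k]) := Module.Finite.trans K _
  haveI : Module.Finite A (RingHom.ker (algebraMap A K)).Cotangent :=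
    Module.Finite.of_surjective (RingHom.ker (algebraMap A K)).toCotangent (Ideal.toCotangent_surjective _)
  haveI : Module.Finite A (TensorProduct A K (Ω[A⁄k])) := by
    refine ⟨Submodule.fg_of_fg_map_of_fg_inf_ker ((KaehlerDifferential.mapBaseChange k A K).restrictScalars A)
      (IsNoetherian.noetherian _) ?_⟩
    rw [top_inf_eq, LinearMap.ker_restrictScalars, ← KaehlerDifferential.range_kerCotangentToTensor k A K hsurj,
      LinearMap.range_eq_map]
    exact Module.Finite.fg_top.map _
  haveI : Module.Finite A (TensorProduct A (A ⧸ m) (Ω[A⁄k])) :=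
    (inferInstance : Module.Finite A (TensorProduct A K (Ω[A⁄k])))
  haveI : Module.Finite A ((Ω[A⁄k]) ⧸ (m • ⊤ : Submodule A (Ω[A⁄k]))) :=
    Module.Finite.equiv (M := TensorProduct A (A ⧸ m) (Ω[A⁄k])) (TensorProduct.quotTensorEquivQuotSMul (Ω[A⁄k]) m)
  obtain ⟨n, g, hg⟩ := Module.Finite.exists_fin' A ((Ω[A⁄k]) ⧸ (m • ⊤ : Submodule A (Ω[A⁄k])))
  obtain ⟨f, hf⟩ := Module.projective_lifting_property (m • ⊤ : Submodule A (Ω[A⁄k])).mkQ g (Submodule.mkQ_surjective _)
  have h : Function.Surjective ((m • ⊤ : Submodule A (Ω[A⁄k])).mkQ ∘ₗ f) := by rw [hf]; exact hg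
  have h1 := AdicCompletion.map_surjective_of_mkQ_comp_surjective (I := m) h
  haveI := Groth.Agent.AdicLib.isAdicComplete_of_finite m (Fin n → A)
  refine Module.Finite.of_surjective (((AdicCompletion.map m f).restrictScalars A).comp (AdicCompletion.of m (Fin n → A)))
    (h1.comp (AdicCompletion.of_surjective m (Fin n → A)))

end Groth.Agent.S4528
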