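import Groth.Statements.S4529
import Mathlib.RingTheory.Nakayama
import Mathlib.RingTheory.Nilpotent.Basic
import Mathlib.RingTheory.FiniteType
import Mathlib.Algebra.Module.Projective

set_option autoImplicit false
universe u
open EGA41

namespace Groth.Agent.S4529

/-- Let A be a ring, M, N two A-modules with N projective, u : M → N a homomorphism and J an ideal of A;
suppose either (i) J is nilpotent, or (ii) J is contained in the Jacobson radical of A and M is of
finite type. Then u is left invertible if and only if the induced map u₀ : M/JM → N/JN is left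
invertible. (A left inverse of u₀ composed with N → N/JN is an A-linear map v : N → M/JM with v ∘ u
the projection, and conversely; the right-hand side is written in that form.) -/
theorem result {A : Type u} [CommRing A] {M N : Type u} [AddCommGroup M] [Module A M]
    [AddCommGroup N] [Module A N] [Module.Projective A N] (u : M →ₗ[A] N) (J : Ideal A)
    (hJ : IsNilpotent J ∨ (J ≤ (⊥ : Ideal A).jacobson ∧ Module.Finite A M)) :
    (∃ w : N →ₗ[A] M, w ∘ₗ u = LinearMap.id) ↔
      ∃ v : N →ₗ[A] M ⧸ (J • ⊤ : Submodule A M), v ∘ₗ u = (J • ⊤ : Submodule A M).mkQ := by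
  constructor
  · rintro ⟨w, hw⟩
    exact ⟨(J • ⊤ : Submodule A M).mkQ ∘ₗ w, by rw [LinearMap.comp_assoc, hw, LinearMap.comp_id]⟩
  rintro ⟨v, hv⟩
  obtain ⟨w0, hw0⟩ := Module.projective_lifting_property (J • ⊤ : Submodule A M).mkQ v (Submodule.mkQ_surjective _)
  let e : Module.End A M := w0 ∘ₗ u
  have he : ∀ x, e x - x ∈ (J • ⊤ : Submodule A M) := fun x => by
    rw [← Submodule.Quotient.eq]
    have := LinearMap.congr_fun hv x
    rw [← hw0] at this
    exact this
  suffices hu : IsUnit e by
    obtain ⟨e', he'⟩ := hu
    refine ⟨(↑e'⁻¹ : Module.End A M) ∘ₗ w0, ?_⟩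
    show (↑e'⁻¹ : Module.End A M) * e = 1
    rw [← he', Units.inv_mul]
  rcases hJ with ⟨t, ht⟩ | ⟨hjac, hfin⟩
  · have hd : ∀ (n : ℕ) x, ((1 - e) ^ n) x ∈ (J ^ n • ⊤ : Submodule A M) := by
      intro n
      induction n with
      | zero => intro x; simp
      | succ n ih =>
        intro x
        rw [pow_succ' (1 - e), Module.End.mul_apply]
        have key : ∀ y ∈ (J ^ n • ⊤ : Submodule A M), (1 - e) y ∈ (J ^ (n + 1) • ⊤ : Submodule A M) := by
          intro y hy
          refine Submodule.smul_induction_on hy (fun a ha z _ => ?_) fun a b ha hb => ?_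
          · rw [map_smul, pow_succ, Submodule.mul_smul]
            refine Submodule.smul_mem_smul ha ?_
            have := Submodule.neg_mem _ (he z)
            rwa [neg_sub] at this
          · rw [map_add]; exact add_mem ha hb
        exact key _ (ih x)
    have hnil : IsNilpotent (1 - e) := ⟨t, LinearMap.ext fun x => by simpa [ht] using hd t x⟩
    have := hnil.isUnit_one_sub
    rwa [sub_sub_cancel] at this
  · have hsurj : Function.Surjective e := by
      rw [← LinearMap.range_eq_top, eq_top_iff]
      refine Submodule.le_of_le_smul_of_le_jacobson_bot Module.Finite.fg_top hjac ?_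
      intro x _
      rw [Submodule.mem_sup]
      exact ⟨e x, ⟨x, rfl⟩, x - e x, by simpa using Submodule.neg_mem _ (he x), by abel⟩
    exact (Module.End.isUnit_iff e).mpr ⟨OrzechProperty.injective_of_surjective_endomorphism e hsurj, hsurj⟩

end Groth.Agent.S4529
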