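import Groth.Statements.S4531
import Groth.Agent.EGA41Lib.LeftInv
import Mathlib.RingTheory.Flat.FaithfullyFlat.Basic

set_option autoImplicit false
universe u
open EGA41

namespace Groth.Agent.S4531

open TensorProduct in
/-- Let A be a ring, M an A-module of finite type, N a projective A-module and u : M → N a homomorphism.
(i) u is left invertible if and only if u_𝔪 : M_𝔪 → N_𝔪 is left invertible for every maximal ideal 𝔪
of A. (ii) If A' is an A-algebra which is a faithfully flat A-module, u is left invertible if and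
only if u ⊗ 1 : M ⊗_A A' → N ⊗_A A' is left invertible (as an A'-linear map). -/
theorem result {A : Type u} [CommRing A] {M N : Type u} [AddCommGroup M] [Module A M]
    [Module.Finite A M] [AddCommGroup N] [Module A N] [Module.Projective A N] (u : M →ₗ[A] N) :
    ((∃ w : N →ₗ[A] M, w ∘ₗ u = LinearMap.id) ↔
      ∀ (m : Ideal A) [m.IsMaximal],
        ∃ w : LocalizedModule m.primeCompl N →ₗ[A] LocalizedModule m.primeCompl M,
          w ∘ₗ LocalizedModule.map m.primeCompl u = LinearMap.id) ∧
    ∀ (A' : Type u) [CommRing A'] [Algebra A A'] [Module.FaithfullyFlat A A'],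
      (∃ w : N →ₗ[A] M, w ∘ₗ u = LinearMap.id) ↔
        ∃ w : A' ⊗[A] N →ₗ[A'] A' ⊗[A] M, w ∘ₗ u.baseChange A' = LinearMap.id := by
  have hif : (∃ w : N →ₗ[A] M, w ∘ₗ u = LinearMap.id) → ∀ (m : Ideal A) [m.IsMaximal],
      ∃ w : LocalizedModule m.primeCompl N →ₗ[A] LocalizedModule m.primeCompl M,
        w ∘ₗ LocalizedModule.map m.primeCompl u = LinearMap.id := by
    rintro ⟨w, hw⟩ m _
    exact EGA41Lib.exists_localized_leftInverse u _ m.primeCompl.one_mem (w := w) (by simp [hw])
  refine ⟨⟨hif, fun h => EGA41Lib.exists_leftInverse_of_forall_maximal u fun m hm => ?_⟩, ?_⟩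
  · obtain ⟨w, hw⟩ := h m
    exact EGA41Lib.lTensor_injective_of_localized_leftInverse u _ _ le_rfl hw
  intro A' _ _ _
  constructor
  · rintro ⟨w, hw⟩
    exact ⟨w.baseChange A', by rw [← LinearMap.baseChange_comp, hw, LinearMap.baseChange_id]⟩
  rintro ⟨w, hw⟩
  refine EGA41Lib.exists_leftInverse_of_forall_maximal u fun m hm => ?_
  let Q := m.ResidueField
  rw [← Module.FaithfullyFlat.lTensor_injective_iff_injective (R := A) A' (u.lTensor Q)]
  let eM := TensorProduct.leftComm A A' Q M
  let eN := TensorProduct.leftComm A A' Q N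
  have hu : u.lTensor A' = (u.baseChange A').restrictScalars A := rfl
  have hcomm : eN.toLinearMap ∘ₗ (u.lTensor Q).lTensor A' = (u.lTensor A').lTensor Q ∘ₗ eM.toLinearMap := by
    ext a q x
    simp [eM, eN]
  have hinj : Function.Injective ((u.lTensor A').lTensor Q) := by
    refine Function.LeftInverse.injective (g := (w.restrictScalars A).lTensor Q) fun z => ?_
    rw [← LinearMap.comp_apply, ← LinearMap.lTensor_comp, hu]
    have h2 : w.restrictScalars A ∘ₗ (u.baseChange A').restrictScalars A = LinearMap.id :=
      LinearMap.ext fun y => LinearMap.congr_fun hw y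
    rw [h2, LinearMap.lTensor_id, LinearMap.id_apply]
  intro x y hxy
  apply eM.injective
  apply hinj
  have hx := LinearMap.congr_fun hcomm x
  have hy := LinearMap.congr_fun hcomm y
  simp only [LinearMap.comp_apply, LinearEquiv.coe_coe] at hx hy
  rw [← hx, ← hy, hxy]

end Groth.Agent.S4531
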