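import Groth.Statements.S4534
import Groth.Agent.EGA41Lib.Adic

set_option autoImplicit false
universe u
open EGA41

namespace Groth.Agent.S4534

/-- Let A → B → C be continuous homomorphisms of adic rings (A with the 𝔞-adic, B the 𝔟-adic, C the
𝔠-adic topology; continuity: a power of 𝔞 maps into 𝔟 and a power of 𝔟 into 𝔠). If B is formally
smooth over A and C formally smooth over B, then C is formally smooth over A. -/
theorem result {A B C : Type u} [CommRing A] [CommRing B] [CommRing C] [Algebra A B] [Algebra B C]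
    [Algebra A C] [IsScalarTower A B C] (𝔞 : Ideal A) (𝔟 : Ideal B) (𝔠 : Ideal C)
    (hAB : ∃ k : ℕ, (𝔞 ^ k).map (algebraMap A B) ≤ 𝔟) (hBC : ∃ k : ℕ, (𝔟 ^ k).map (algebraMap B C) ≤ 𝔠)
    (hB : EGA41.IsFormallySmoothAdic A 𝔞 B 𝔟) (hC : EGA41.IsFormallySmoothAdic B 𝔟 C 𝔠) :
    EGA41.IsFormallySmoothAdic A 𝔞 C 𝔠 := by
  intro E _ _ J hJ hA u hu
  obtain ⟨k, hk⟩ := hBC
  obtain ⟨m, hm⟩ := hu
  let uB : B →ₐ[A] E ⧸ J := u.comp (IsScalarTower.toAlgHom A B C)
  have huB : ∃ n : ℕ, ∀ x ∈ 𝔟 ^ n, uB x = 0 := by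
    refine ⟨k * m, fun x hx => ?_⟩
    rw [pow_mul] at hx
    exact hm _ (EGA41Lib.mem_pow_of_forall_mem (algebraMap B C)
      (fun y hy => hk (Ideal.mem_map_of_mem _ hy)) m x hx)
  obtain ⟨vB, hvB⟩ := hB E J hJ hA uB huB
  obtain ⟨n, hn⟩ := EGA41Lib.kills_power_of_nilpotent vB (I := 𝔟) hJ (huB.imp fun n hn x hx => by
    have := AlgHom.congr_fun hvB x
    simp only [AlgHom.comp_apply, Ideal.Quotient.mkₐ_eq_mk] at this
    rw [this, hn x hx])
  letI : Algebra B E := vB.toRingHom.toAlgebra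
  haveI : IsScalarTower A B E := IsScalarTower.of_algebraMap_eq fun a => (vB.commutes a).symm
  let u' : C →ₐ[B] E ⧸ J := { u with commutes' := fun b => (AlgHom.congr_fun hvB b).symm }
  obtain ⟨v', hv'⟩ := hC E J hJ ⟨n, by
    rw [Ideal.map_eq_bot_iff_le_ker]
    exact fun x hx => hn x hx⟩ u' ⟨m, hm⟩
  refine ⟨v'.restrictScalars A, AlgHom.ext fun c => ?_⟩
  exact AlgHom.congr_fun hv' c

end Groth.Agent.S4534
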