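import Groth.Statements.S4536
import Groth.Agent.EGA41Lib.Adic

set_option autoImplicit false
universe u
open EGA41

namespace Groth.Agent.S4536

/-- Let A carry the 𝔞-adic and B the 𝔟-adic topology, A → B being continuous (a power of 𝔞 maps into 𝔟).
Then B is formally smooth over A if and only if for every n the (A/𝔞ⁿ)-algebra B/𝔞ⁿB, with the adic
topology of the image of 𝔟, is formally smooth over the discrete ring A/𝔞ⁿ. -/
theorem result {A B : Type u} [CommRing A] [CommRing B] [Algebra A B]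
    (𝔞 : Ideal A) (𝔟 : Ideal B) (hAB : ∃ k : ℕ, (𝔞 ^ k).map (algebraMap A B) ≤ 𝔟) :
    EGA41.IsFormallySmoothAdic A 𝔞 B 𝔟 ↔
      ∀ n : ℕ, EGA41.IsFormallySmoothAdic (A ⧸ 𝔞 ^ n) ⊥ (B ⧸ (𝔞 ^ n).map (algebraMap A B))
        (𝔟.map (Ideal.Quotient.mk ((𝔞 ^ n).map (algebraMap A B)))) := by
  constructor
  · intro h n E _ _ J hJ _ u hu
    letI : Algebra A E := ((algebraMap (A ⧸ 𝔞 ^ n) E).comp (algebraMap A (A ⧸ 𝔞 ^ n))).toAlgebra
    haveI : IsScalarTower A (A ⧸ 𝔞 ^ n) E := IsScalarTower.of_algebraMap_eq fun _ => rfl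
    have hker : ∀ a ∈ 𝔞 ^ n, algebraMap A E a = 0 := fun a ha => by
      rw [IsScalarTower.algebraMap_apply A (A ⧸ 𝔞 ^ n) E, Ideal.Quotient.algebraMap_eq,
        Ideal.Quotient.eq_zero_iff_mem.mpr ha, map_zero]
    obtain ⟨m, hm⟩ := hu
    obtain ⟨v, hv⟩ := h E J hJ ⟨n, (Ideal.map_eq_bot_iff_le_ker _).mpr hker⟩
      ((u.restrictScalars A).comp (Ideal.Quotient.mkₐ A _)) ⟨m, fun x hx => hm _ (by
        rw [← Ideal.map_pow]; exact Ideal.mem_map_of_mem _ hx)⟩
    have hkill : ∀ x ∈ (𝔞 ^ n).map (algebraMap A B), v x = 0 := by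
      intro x hx
      have : (𝔞 ^ n).map (algebraMap A B) ≤ RingHom.ker v := by
        rw [Ideal.map_le_iff_le_comap]
        intro a ha
        simpa using hker a ha
      exact this hx
    have hs : Function.Surjective (algebraMap A (A ⧸ 𝔞 ^ n)) := Ideal.Quotient.mk_surjective
    refine ⟨AlgHom.extendScalarsOfSurjective hs (Ideal.Quotient.liftₐ _ v hkill), AlgHom.ext fun z => ?_⟩
    obtain ⟨b, rfl⟩ := Ideal.Quotient.mk_surjective z
    exact AlgHom.congr_fun hv b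
  · intro h E _ _ J hJ hA u hu
    obtain ⟨n, hn⟩ := hA
    rw [Ideal.map_eq_bot_iff_le_ker] at hn
    letI : Algebra (A ⧸ 𝔞 ^ n) E := (Ideal.Quotient.lift (𝔞 ^ n) (algebraMap A E) hn).toAlgebra
    haveI : IsScalarTower A (A ⧸ 𝔞 ^ n) E := IsScalarTower.of_algebraMap_eq fun _ => rfl
    have hkill : ∀ x ∈ (𝔞 ^ n).map (algebraMap A B), u x = 0 := by
      intro x hx
      have : (𝔞 ^ n).map (algebraMap A B) ≤ RingHom.ker u := by
        rw [Ideal.map_le_iff_le_comap]
        intro a ha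
        have h0 : algebraMap A E a = 0 := hn ha
        simp [IsScalarTower.algebraMap_apply A E (E ⧸ J), h0]
      exact this hx
    have hs : Function.Surjective (algebraMap A (A ⧸ 𝔞 ^ n)) := Ideal.Quotient.mk_surjective
    obtain ⟨m, hm⟩ := hu
    obtain ⟨v, hv⟩ := h n E J hJ ⟨1, by simp⟩
      (AlgHom.extendScalarsOfSurjective hs (Ideal.Quotient.liftₐ _ u hkill)) ⟨m, fun z hz => by
        rw [← Ideal.map_pow] at hz
        obtain ⟨x, hx, rfl⟩ := (Ideal.mem_map_iff_of_surjective _ Ideal.Quotient.mk_surjective).mp hz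
        exact hm x hx⟩
    refine ⟨(v.restrictScalars A).comp (Ideal.Quotient.mkₐ A _), AlgHom.ext fun b => ?_⟩
    exact AlgHom.congr_fun hv (Ideal.Quotient.mk _ b)

end Groth.Agent.S4536
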