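import Groth.Statements.S4540
import Groth.Agent.RegFS6.JacobCrit
import Groth.Agent.ArtFlat.Basic

set_option autoImplicit false
universe u
open EGA41

namespace Groth.Agent.S4540

open IsLocalRing TensorProduct in
/-- Let A, B be Noetherian local rings and A → B a local homomorphism making B a formally smooth
A-algebra for the adic topologies of the maximal ideals. Then for every ideal of definition 𝔟 of B,
the (B/𝔟)-module Ω_{B/A} ⊗_B (B/𝔟) is free. -/
theorem result {A B : Type u} [CommRing A] [IsLocalRing A]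
    [IsNoetherianRing A] [CommRing B] [IsLocalRing B] [IsNoetherianRing B] [Algebra A B] [IsLocalHom (algebraMap A B)]
    (h : EGA41.IsFormallySmoothAdic A (maximalIdeal A) B (maximalIdeal B))
    (𝔟 : Ideal B) (hle : 𝔟 ≤ maximalIdeal B) (hpow : ∃ k : ℕ, maximalIdeal B ^ k ≤ 𝔟) :
    Module.Free (B ⧸ 𝔟) ((B ⧸ 𝔟) ⊗[B] Ω[B⁄A]) := by
    obtain ⟨k, hk⟩ := hpow
    have hfs : CAlgX.IsAdicFormallySmooth A B 𝔟 := by
      intro E _ _ J hJ ψ hψ
      obtain ⟨n, hn⟩ := hψ
      have hn' : ∀ x ∈ maximalIdeal B ^ (k * n), ψ x = 0 := fun x hx => by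
        rw [pow_mul] at hx
        exact hn x (Ideal.pow_right_mono hk n hx)
      refine h E J ⟨2, by rw [hJ, Ideal.zero_eq_bot]⟩ ⟨k * n * 2, ?_⟩ ψ ⟨k * n, hn'⟩
      rw [eq_bot_iff, Ideal.map_le_iff_le_comap, pow_mul]
      intro z hz
      have h1 : ∀ y ∈ maximalIdeal A ^ (k * n), algebraMap A E y ∈ J := fun y hy => by
        rw [← Ideal.Quotient.eq_zero_iff_mem]
        exact (ψ.commutes y).symm.trans (hn' _ (EGA41Lib.mem_pow_of_forall_mem _ (fun t ht => map_nonunit _ t ht) (k * n) y hy))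
      have h2 := EGA41Lib.mem_pow_of_forall_mem (algebraMap A E) h1 2 z hz
      rwa [hJ] at h2
    haveI : Nontrivial (B ⧸ 𝔟) := Ideal.Quotient.nontrivial_iff.mpr
      (ne_top_of_le_ne_top (maximalIdeal.isMaximal B).ne_top hle)
    haveI : IsLocalRing (B ⧸ 𝔟) := IsLocalRing.of_surjective' (Ideal.Quotient.mk 𝔟) Ideal.Quotient.mk_surjective
    have hnil : IsNilpotent (maximalIdeal (B ⧸ 𝔟)) := ⟨k, by
      rw [← IsLocalRing.map_maximalIdeal_of_surjective (Ideal.Quotient.mk 𝔟) Ideal.Quotient.mk_surjective,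
        ← Ideal.map_pow, Ideal.zero_eq_bot, Ideal.map_eq_bot_iff_le_ker, Ideal.mk_ker]
      exact hk⟩
    haveI := RegFS6.projective_kaehler_of_fs 𝔟 hfs
    exact ArtFlat.free_of_flat hnil

end Groth.Agent.S4540
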