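import Groth.Statements.S4544
import Mathlib

set_option autoImplicit false
universe u
open EGA41

namespace Groth.Agent.S4544

open TensorProduct in
/-- Let B (𝔟-adic) be a formally smooth topological A-algebra over A (𝔞-adic), the structure map being
continuous (a power of 𝔞 maps into 𝔟); squares of open ideals of B are then open. For every open
ideal 𝔄 of B (an ideal containing a power of 𝔟), Ω_{B/A} ⊗_B (B/𝔄) = Ω_{B/A}/𝔄Ω_{B/A} is a
projective (B/𝔄)-module. -/
theorem result {A B : Type u} [CommRing A] [CommRing B] [Algebra A B]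
    (𝔞 : Ideal A) (𝔟 : Ideal B) (hAB : ∃ k : ℕ, (𝔞 ^ k).map (algebraMap A B) ≤ 𝔟)
    (h : EGA41.IsFormallySmoothAdic A 𝔞 B 𝔟) (𝔄 : Ideal B) (h𝔄 : ∃ n : ℕ, 𝔟 ^ n ≤ 𝔄) :
    Module.Projective (B ⧸ 𝔄) ((B ⧸ 𝔄) ⊗[B] Ω[B⁄A]) := by
  classical
  obtain ⟨n, hn⟩ := h𝔄
  obtain ⟨k, hk⟩ := hAB
  rw [Module.projective_def']
  let R := B ⧸ 𝔄
  let P := (B ⧸ 𝔄) ⊗[B] Ω[B⁄A]
  let π : (P →₀ R) →ₗ[R] P := Finsupp.linearCombination R id
  let T := TrivSqZeroExt R (P →₀ R)
  let bar : B → R := Ideal.Quotient.mk 𝔄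
  let s : B → P := fun b => (1 : R) ⊗ₜ KaehlerDifferential.D A B b
  let J : Ideal T :=
    { carrier := {x | x.fst = 0 ∧ π x.snd = 0}
      zero_mem' := ⟨rfl, by rw [TrivSqZeroExt.snd_zero, map_zero]⟩
      add_mem' := fun {x y} hx hy => ⟨by rw [TrivSqZeroExt.fst_add, hx.1, hy.1, add_zero],
        by rw [TrivSqZeroExt.snd_add, map_add, hx.2, hy.2, add_zero]⟩
      smul_mem' := fun c x hx => ⟨by rw [smul_eq_mul, TrivSqZeroExt.fst_mul, hx.1, mul_zero],
        by rw [smul_eq_mul, TrivSqZeroExt.snd_mul, hx.1, op_smul_eq_smul, zero_smul, add_zero, map_smul, hx.2,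
          smul_zero]⟩ }
  have hmem : ∀ x : T, x ∈ J ↔ x.fst = 0 ∧ π x.snd = 0 := fun x => Iff.rfl
  have hJ : IsNilpotent J := by
    refine ⟨2, ?_⟩
    refine le_antisymm (le_trans (Submodule.pow_succ (M := J) (n := 1)).le ?_) bot_le
    refine le_trans (Ideal.mul_mono_left (Submodule.pow_one J).le) ?_
    rw [Ideal.mul_le]
    intro x hx y hy
    refine Ideal.mem_bot.2 ?_
    refine TrivSqZeroExt.ext ?_ ?_
    · rw [TrivSqZeroExt.fst_mul, hx.1, zero_mul, TrivSqZeroExt.fst_zero]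
    · rw [TrivSqZeroExt.snd_mul, hx.1, hy.1, op_smul_eq_smul, zero_smul, zero_smul, add_zero, TrivSqZeroExt.snd_zero]
  have hA : ∃ j : ℕ, (𝔞 ^ j).map (algebraMap A T) = ⊥ := by
    refine ⟨k * n, ?_⟩
    rw [Ideal.map_eq_bot_iff_le_ker]
    intro a ha
    have h1 : algebraMap A B a ∈ 𝔄 := hn <| Ideal.pow_right_mono hk n <| by
      rw [← Ideal.map_pow, ← pow_mul]
      exact Ideal.mem_map_of_mem _ ha
    rw [RingHom.mem_ker, TrivSqZeroExt.algebraMap_eq_inl']
    rw [IsScalarTower.algebraMap_apply A B R, Ideal.Quotient.algebraMap_eq, Ideal.Quotient.eq_zero_iff_mem.2 h1]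
    exact TrivSqZeroExt.inl_zero _
  obtain ⟨lift, hlf, hls⟩ : ∃ lift : B → T, (∀ b, (lift b).fst = bar b) ∧ ∀ b, π (lift b).snd = s b :=
    ⟨fun b => TrivSqZeroExt.inl (bar b) + TrivSqZeroExt.inr (Finsupp.single (s b) 1),
      fun b => (TrivSqZeroExt.fst_add _ _).trans (by
        rw [TrivSqZeroExt.fst_inl, TrivSqZeroExt.fst_inr, add_zero]),
      fun b => (congrArg π (TrivSqZeroExt.snd_add _ _)).trans (by
        rw [TrivSqZeroExt.snd_inl, TrivSqZeroExt.snd_inr, zero_add]
        exact (Finsupp.linearCombination_single R 1 (s b)).trans (one_smul R (s b)))⟩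
  have hq : ∀ x y : T, Ideal.Quotient.mk J x = Ideal.Quotient.mk J y ↔ x.fst = y.fst ∧ π x.snd = π y.snd :=
    fun x y => by
      rw [Ideal.Quotient.eq, hmem, TrivSqZeroExt.fst_sub, TrivSqZeroExt.snd_sub, map_sub, sub_eq_zero, sub_eq_zero]
  let u : B →ₐ[A] T ⧸ J :=
    { toFun := fun b => Ideal.Quotient.mk J (lift b)
      map_one' := by
        show Ideal.Quotient.mk J (lift 1) = Ideal.Quotient.mk J 1
        rw [hq, hlf, hls, TrivSqZeroExt.fst_one, TrivSqZeroExt.snd_one, map_zero]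
        exact ⟨map_one _, by simp only [s, Derivation.map_one_eq_zero, TensorProduct.tmul_zero]⟩
      map_mul' := fun b c => by
        rw [← map_mul (Ideal.Quotient.mk J), hq, TrivSqZeroExt.fst_mul, hlf, hlf, hlf, hls,
          TrivSqZeroExt.snd_mul, op_smul_eq_smul, map_add, map_smul, map_smul, hls, hls, hlf, hlf]
        refine ⟨map_mul _ _ _, ?_⟩
        show (1 : R) ⊗ₜ[B] KaehlerDifferential.D A B (b * c) = Ideal.Quotient.mk 𝔄 b • ((1 : R) ⊗ₜ[B] KaehlerDifferential.D A B c) +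
          Ideal.Quotient.mk 𝔄 c • ((1 : R) ⊗ₜ[B] KaehlerDifferential.D A B b)
        rw [Derivation.leibniz, TensorProduct.tmul_add, TensorProduct.tmul_smul, TensorProduct.tmul_smul,
          ← Ideal.Quotient.algebraMap_eq, algebraMap_smul, algebraMap_smul]
      map_zero' := by
        show Ideal.Quotient.mk J (lift 0) = Ideal.Quotient.mk J 0
        rw [hq, hlf, hls, TrivSqZeroExt.fst_zero, TrivSqZeroExt.snd_zero, map_zero]
        exact ⟨map_zero _, by simp only [s, map_zero, TensorProduct.tmul_zero]⟩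
      map_add' := fun b c => by
        rw [← map_add (Ideal.Quotient.mk J), hq, TrivSqZeroExt.fst_add, hlf, hlf, hlf, hls,
          TrivSqZeroExt.snd_add, map_add, hls, hls]
        exact ⟨map_add _ _ _, by simp only [s, map_add, TensorProduct.tmul_add]⟩
      commutes' := fun a => by
        rw [IsScalarTower.algebraMap_apply A T (T ⧸ J), Ideal.Quotient.algebraMap_eq, hq, hlf, hls,
          TrivSqZeroExt.algebraMap_eq_inl', TrivSqZeroExt.fst_inl, TrivSqZeroExt.snd_inl, map_zero]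
        exact ⟨(IsScalarTower.algebraMap_apply A B R a).symm,
          by simp only [s, Derivation.map_algebraMap, TensorProduct.tmul_zero]⟩ }
  have hu : ∃ j : ℕ, ∀ x ∈ 𝔟 ^ j, u x = 0 := by
    refine ⟨n + n, fun x hx => ?_⟩
    rw [pow_add] at hx
    refine Submodule.mul_induction_on hx (fun y hy z hz => ?_) (fun y z hy hz => by rw [map_add, hy, hz, add_zero])
    rw [map_mul]
    show Ideal.Quotient.mk J (lift y) * Ideal.Quotient.mk J (lift z) = 0
    have hy0 : bar y = 0 := Ideal.Quotient.eq_zero_iff_mem.2 (hn hy)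
    have hz0 : bar z = 0 := Ideal.Quotient.eq_zero_iff_mem.2 (hn hz)
    rw [← map_mul, ← map_zero (Ideal.Quotient.mk J), hq, TrivSqZeroExt.fst_mul, TrivSqZeroExt.snd_mul,
      hlf, hlf, hy0, hz0, op_smul_eq_smul, zero_smul, zero_smul, add_zero, zero_mul,
      TrivSqZeroExt.fst_zero, TrivSqZeroExt.snd_zero]
    exact ⟨rfl, rfl⟩
  obtain ⟨v, hv⟩ := h T J hJ hA u hu
  have hv' : ∀ b, (v b).fst = bar b ∧ π (v b).snd = s b := fun b => by
    have h1 : Ideal.Quotient.mk J (v b) = Ideal.Quotient.mk J (lift b) := DFunLike.congr_fun hv b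
    rw [hq, hlf, hls] at h1
    exact h1
  let dlin : B →ₗ[A] (P →₀ R) :=
    { toFun := fun b => (v b).snd
      map_add' := fun b c => by rw [map_add, TrivSqZeroExt.snd_add]
      map_smul' := fun a b => by rw [map_smul, TrivSqZeroExt.snd_smul, RingHom.id_apply] }
  let δ : Derivation A B (P →₀ R) := Derivation.mk' dlin (fun b c => by
    show (v (b * c)).snd = b • (v c).snd + c • (v b).snd
    rw [map_mul, TrivSqZeroExt.snd_mul, (hv' b).1, (hv' c).1, op_smul_eq_smul]
    show Ideal.Quotient.mk 𝔄 b • (v c).snd + Ideal.Quotient.mk 𝔄 c • (v b).snd = _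
    rw [← Ideal.Quotient.algebraMap_eq, algebraMap_smul, algebraMap_smul])
  refine ⟨δ.liftKaehlerDifferential.liftBaseChange R, ?_⟩
  refine TensorProduct.AlgebraTensorModule.ext fun c ω => ?_
  rw [LinearMap.comp_apply, LinearMap.liftBaseChange_tmul, map_smul, LinearMap.id_apply]
  rw [show c ⊗ₜ[B] ω = c • ((1 : R) ⊗ₜ[B] ω) by rw [TensorProduct.smul_tmul', smul_eq_mul, mul_one]]
  congr 1
  have hspan : ω ∈ Submodule.span B (Set.range (KaehlerDifferential.D A B)) := by
    rw [KaehlerDifferential.span_range_derivation]; trivial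
  induction hspan using Submodule.span_induction with
  | mem x hx =>
    obtain ⟨b, rfl⟩ := hx
    rw [Derivation.liftKaehlerDifferential_comp_D]
    exact (hv' b).2
  | zero => simp
  | add x y _ _ hx hy => rw [map_add, map_add, hx, hy, TensorProduct.tmul_add]
  | smul r x _ hx =>
    rw [map_smul, LinearMap.map_smul_of_tower, hx, TensorProduct.tmul_smul]

end Groth.Agent.S4544
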