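import Groth.Statements.S4545
import Groth.Agent.PBasisLib.Admissible
import Mathlib

set_option autoImplicit false
universe u
open EGA41

namespace Groth.Agent.S4545

open TensorProduct in
/-- Let K be a field of characteristic p > 0, k₀ a subfield and (k_α) a decreasing filtered family of
subfields of K containing k₀. Then ⋂_α k_α(K^p) = k₀(K^p) if and only if for every extension L of K
such that Υ_{L/K/k₀} has finite rank over L there is an α with k_α admissible for L over K relative
to k₀, i.e. with Υ_{L/K/k₀} → Υ_{L/K/k_α} injective. (The published statement has two further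
equivalent conditions; this row states (a) ⇔ (b).) -/
theorem result (p : ℕ) [Fact p.Prime] {k₀ K : Type u}
    [Field k₀] [Field K] [Algebra k₀ K] [CharP K p]
    {ι : Type u} [Preorder ι] [IsDirected ι (· ≤ ·)] [Nonempty ι] (k : ι → IntermediateField k₀ K) (hk : Antitone k) :
    (⨅ i, k i ⊔ IntermediateField.adjoin k₀ (Set.range fun y : K => y ^ p)) =
        IntermediateField.adjoin k₀ (Set.range fun y : K => y ^ p) ↔
      ∀ (L : Type u) [Field L] [Algebra K L] [Algebra k₀ L] [IsScalarTower k₀ K L],
        Module.Finite L (EGA41.imperfection k₀ K L) →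
          ∃ i, ∀ ω ∈ EGA41.imperfection k₀ K L,
            ((KaehlerDifferential.map k₀ (k i) K K).restrictScalars K).baseChange L ω = 0 → ω = 0 := by
  have he : Groth.Agent.PBasisLib.Fp p k₀ (∅ : Set K) =
      IntermediateField.adjoin k₀ (Set.range fun y : K => y ^ p) := by
    rw [Groth.Agent.PBasisLib.Fp, Set.union_empty]
  simp only [← he]
  exact ⟨fun h L _ _ _ _ hfin => @Groth.Agent.PBasisLib.exists_admissible p _ k₀ K _ _ _ _ ι _ _ _ k L _ _ _ _ hk h hfin,
    fun h => Groth.Agent.PBasisLib.iInf_eq_of_forall_admissible p k h⟩

end Groth.Agent.S4545
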