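import Groth.Statements.S4546
import Groth.Agent.PBasisLib.Admissible
import Mathlib

set_option autoImplicit false
universe u
open EGA41

namespace Groth.Agent.S4546

/-- Let K be a field of characteristic p > 0, k₀ a subfield, (k_α) a decreasing filtered family of
subfields of K containing k₀ with ⋂_α k_α(K^p) = k₀(K^p). Then for every extension L of K such that
Υ_{L/K/k₀} has finite rank over L, one has ⋂_α k_α(L^p) = k₀(L^p) (the k_α being viewed inside L). -/
theorem result (p : ℕ) [Fact p.Prime] {k₀ K L : Type u}
    [Field k₀] [Field K] [Field L] [Algebra k₀ K] [Algebra K L] [Algebra k₀ L] [IsScalarTower k₀ K L] [CharP K p] [CharP L p]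
    {ι : Type u} [Preorder ι] [IsDirected ι (· ≤ ·)] [Nonempty ι] (k : ι → IntermediateField k₀ K) (hk : Antitone k)
    (h : (⨅ i, k i ⊔ IntermediateField.adjoin k₀ (Set.range fun y : K => y ^ p)) =
      IntermediateField.adjoin k₀ (Set.range fun y : K => y ^ p))
    [Module.Finite L (EGA41.imperfection k₀ K L)] :
    (⨅ i, (k i).map (IsScalarTower.toAlgHom k₀ K L) ⊔ IntermediateField.adjoin k₀ (Set.range fun y : L => y ^ p)) =
      IntermediateField.adjoin k₀ (Set.range fun y : L => y ^ p) := by
  have he : ∀ {M : Type u} [Field M] [Algebra k₀ M], Groth.Agent.PBasisLib.Fp p k₀ (∅ : Set M) =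
      IntermediateField.adjoin k₀ (Set.range fun y : M => y ^ p) := fun {M} _ _ => by
    rw [Groth.Agent.PBasisLib.Fp, Set.union_empty]
  simp only [← he] at h ⊢
  exact Groth.Agent.PBasisLib.iInf_eq_of_finite_imperfection p k L hk h

end Groth.Agent.S4546
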