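import Groth.Statements.S4547
import Groth.Agent.EGA41Lib.LeftInv
import Mathlib.RingTheory.LocalRing.Module
import Mathlib.LinearAlgebra.Matrix.NonsingularInverse

set_option autoImplicit false
universe u
open EGA41

namespace Groth.Agent.S4547

open IsLocalRing TensorProduct in
/-- Let A be a local ring with residue field k, M an A-module of finite type, N a projective A-module
and u : M → N a homomorphism. Then u is left invertible if and only if there is a finite system of
generators (x_i) of M such that the elements 1 ⊗ u(x_i) of k ⊗_A N are linearly independent over k;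
and such a system (x_i) is then a basis of M. -/
theorem result {A : Type u} [CommRing A] [IsLocalRing A] {M N : Type u}
    [AddCommGroup M] [Module A M] [Module.Finite A M] [AddCommGroup N] [Module A N] [Module.Projective A N]
    (u : M →ₗ[A] N) :
    ((∃ w : N →ₗ[A] M, w ∘ₗ u = LinearMap.id) ↔
      ∃ (m : ℕ) (x : Fin m → M), Submodule.span A (Set.range x) = ⊤ ∧
        LinearIndependent (ResidueField A) (fun i => (1 : ResidueField A) ⊗ₜ[A] u (x i))) ∧
    ∀ (m : ℕ) (x : Fin m → M), Submodule.span A (Set.range x) = ⊤ →
      LinearIndependent (ResidueField A) (fun i => (1 : ResidueField A) ⊗ₜ[A] u (x i)) →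
        ∃ b : Module.Basis (Fin m) A M, ∀ i, b i = x i := by
  let κ := (maximalIdeal A).ResidueField
  have hkey : ∀ (m : ℕ) (x : Fin m → M), Submodule.span A (Set.range x) = ⊤ →
      LinearIndependent (ResidueField A) (fun i => (1 : ResidueField A) ⊗ₜ[A] u (x i)) →
      LinearIndependent A x ∧ ∃ w : N →ₗ[A] M, w ∘ₗ u = LinearMap.id := by
    intro m x hsp hli
    let e : ResidueField A ≃ₐ[A] κ :=
      AlgEquiv.ofBijective (IsScalarTower.toAlgHom A (A ⧸ maximalIdeal A) κ)
        (Ideal.bijective_algebraMap_quotient_residueField _)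
    have hli' : LinearIndependent κ (fun i => (1 : κ) ⊗ₜ[A] u (x i)) := by
      have h1 := hli.map_of_surjective_injective e (LinearMap.rTensor N e.toLinearMap).toAddMonoidHom
        e.surjective ?_ ?_
      · simpa [Function.comp_def] using h1
      · exact fun z hz => (map_eq_zero_iff _ (TensorProduct.congr e.toLinearEquiv (LinearEquiv.refl A N)).injective).mp hz
      · intro r z
        induction z with
        | zero => simp
        | tmul a b => simp [TensorProduct.smul_tmul', smul_eq_mul]
        | add a b ha hb =>
          simp only [LinearMap.toAddMonoidHom_coe] at ha hb ⊢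
          rw [smul_add, map_add, ha, hb, map_add, smul_add]
    obtain ⟨φ, hφ⟩ := EGA41Lib.exists_det_notMem (maximalIdeal A) (fun i => u (x i)) hli'
    set G := Matrix.of fun i j => φ j (u (x i)) with hG
    have hGu : IsUnit G.det := not_not.mp hφ
    have hΦ : ∀ c : Fin m → A, LinearMap.pi φ (u (Fintype.linearCombination A x c)) = Matrix.vecMul c G := by
      intro c
      ext j
      simp [Fintype.linearCombination_apply, Matrix.vecMul, dotProduct, G]
    have hcan : ∀ c : Fin m → A, Matrix.vecMul (Matrix.vecMul c G) G⁻¹ = c := fun c => by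
      rw [Matrix.vecMul_vecMul, Matrix.mul_nonsing_inv G hGu, Matrix.vecMul_one]
    refine ⟨Fintype.linearIndependent_iff.mpr fun c hc => ?_,
      Fintype.linearCombination A x ∘ₗ G⁻¹.vecMulLinear ∘ₗ LinearMap.pi φ, LinearMap.ext fun y => ?_⟩
    · have h0 := hcan c
      rw [← hΦ, Fintype.linearCombination_apply, hc, map_zero, map_zero, Matrix.zero_vecMul] at h0
      exact fun i => (congrFun h0 i).symm
    · obtain ⟨c, rfl⟩ : y ∈ LinearMap.range (Fintype.linearCombination A x) := by
        rw [Fintype.range_linearCombination, hsp]; trivial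
      simp only [LinearMap.comp_apply, Matrix.vecMulLinear_apply, hΦ, hcan, LinearMap.id_apply]
  refine ⟨⟨?_, fun ⟨m, x, hsp, hli⟩ => (hkey m x hsp hli).2⟩, fun m x hsp hli =>
    ⟨Module.Basis.mk (hkey m x hsp hli).1 hsp.ge, fun i => Module.Basis.mk_apply _ _ i⟩⟩
  rintro ⟨w, hw⟩
  let k := ResidueField A
  let b := Module.finBasis k (k ⊗[A] M)
  choose x hx using fun i => TensorProduct.mk_surjective A M k Ideal.Quotient.mk_surjective (b i)
  refine ⟨_, x, IsLocalRing.span_eq_top_of_tmul_eq_basis x b hx, ?_⟩
  have hinj : LinearMap.ker (u.baseChange k) = ⊥ := by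
    refine LinearMap.ker_eq_bot.mpr (Function.LeftInverse.injective (g := w.baseChange k) fun z => ?_)
    rw [← LinearMap.comp_apply, ← LinearMap.baseChange_comp, hw, LinearMap.baseChange_id, LinearMap.id_apply]
  have h1 := b.linearIndependent.map' (u.baseChange k) hinj
  have h2 : (⇑(u.baseChange k) ∘ ⇑b) = fun i => (1 : k) ⊗ₜ[A] u (x i) := by
    funext i
    rw [Function.comp_apply, ← hx i]
    rfl
  rwa [h2] at h1

end Groth.Agent.S4547
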