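import Groth.Statements.S4549
import Groth.Agent.PBasisLib.Admissible
import Mathlib

set_option autoImplicit false
universe u
open EGA41

namespace Groth.Agent.S4549

open TensorProduct in
/-- Let K be a field of characteristic p, k₀ a subfield and L an extension of K such that Υ_{L/K/k₀} has
finite rank over L. Then there is a subfield k of K containing k₀(K^p), with [K : k] finite, which
is k₀-admissible for the extension L of K, i.e. such that Υ_{L/K/k₀} → Υ_{L/K/k} is injective. (The
published statement uses the characteristic exponent and so also covers characteristic 0, where k =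
K works; this row treats characteristic p > 0.) -/
theorem result (p : ℕ) [Fact p.Prime] {k₀ K L : Type u} [Field k₀] [Field K] [Field L]
    [Algebra k₀ K] [Algebra K L] [Algebra k₀ L] [IsScalarTower k₀ K L] [CharP K p]
    [Module.Finite L (EGA41.imperfection k₀ K L)] :
    ∃ k : IntermediateField k₀ K, (∀ y : K, y ^ p ∈ k) ∧ Module.Finite k K ∧
      ∀ ω ∈ EGA41.imperfection k₀ K L,
        ((KaehlerDifferential.map k₀ k K K).restrictScalars K).baseChange L ω = 0 → ω = 0 := by
  classical
  obtain ⟨B, -, -, hB⟩ := Groth.Agent.PBasisLib.exists_isPBasis p k₀ (Set.empty_subset (Set.univ : Set K))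
    (fun t ht => absurd ht (Set.notMem_empty t))
    (eq_top_iff.mpr fun y _ => Groth.Agent.PBasisLib.subset_Fp p k₀ _ (Set.mem_univ y))
  obtain ⟨b, hb⟩ := Groth.Agent.PBasisLib.exists_basis_D hB
  have hfreeB : Groth.Agent.PBasisLib.Free p k₀ (Subtype.val : B → K) :=
    Groth.Agent.PBasisLib.free_of_isPIndependent p k₀ hB.1
  let kk : Finset B → IntermediateField k₀ K := fun S =>
    Groth.Agent.PBasisLib.Fp p k₀ (Subtype.val '' {c : B | c ∉ S})
  have hk : Antitone kk := fun S T hST => Groth.Agent.PBasisLib.Fp_mono p k₀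
    (Set.image_mono fun c hc => fun h => hc (hST h))
  have hfree : ∀ S : Finset B, Groth.Agent.PBasisLib.Free p (kk S) (fun a : S => ((a : B) : K)) := fun S a hmem => by
    rw [Groth.Agent.PBasisLib.mem_Fp_base_iff p kk S] at hmem
    refine hfreeB (a : B) ((sup_le ?_ ?_ : kk S ⊔ Groth.Agent.PBasisLib.Fp p k₀ _ ≤
      Groth.Agent.PBasisLib.Fp p k₀ (Subtype.val '' {c : B | c ≠ (a : B)})) hmem)
    · exact Groth.Agent.PBasisLib.Fp_mono p k₀ (Set.image_mono fun c hc h => hc (by rw [h]; exact a.2))
    · refine Groth.Agent.PBasisLib.Fp_mono p k₀ ?_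
      rintro _ ⟨c, hc, rfl⟩
      exact ⟨(c : B), fun h => hc (Subtype.ext h), rfl⟩
  have hsep : (⨅ S, kk S ⊔ Groth.Agent.PBasisLib.Fp p k₀ (∅ : Set K)) = Groth.Agent.PBasisLib.Fp p k₀ ∅ := by
    refine (Groth.Agent.PBasisLib.iInf_eq_iff_separating p kk hk).mpr fun ω hω => ?_
    let S := (b.repr ω).support
    have h0 : ∑ a : S, b.repr ω (a : B) • KaehlerDifferential.D (kk S) K ((a : B) : K) = 0 := by
      rw [← hω S]
      conv_rhs => rw [← b.linearCombination_repr ω, Finsupp.linearCombination_apply, Finsupp.sum]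
      rw [map_sum, ← Finset.sum_coe_sort S]
      refine Finset.sum_congr rfl fun a _ => ?_
      rw [map_smul, hb, KaehlerDifferential.map_D]
      rfl
    have hz := Fintype.linearIndependent_iff.mp
      ((Groth.Agent.PBasisLib.free_iff_linearIndependent_D p (kk S) _).mp (hfree S)) _ h0
    refine b.repr.injective (Finsupp.ext fun a => ?_)
    rw [map_zero, Finsupp.zero_apply]
    by_cases ha : a ∈ S
    · exact hz ⟨a, ha⟩
    · exact Finsupp.notMem_support_iff.mp ha
  obtain ⟨S, hS⟩ := Groth.Agent.PBasisLib.exists_admissible p kk L hk hsep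
  have hpow : ∀ y : K, y ^ p ∈ kk S := fun y => Groth.Agent.PBasisLib.pow_mem_Fp p k₀ _ y
  refine ⟨kk S, hpow, ?_, hS⟩
  let T : Set K := (S.image (Subtype.val : B → K) : Finset K)
  have hT : IntermediateField.adjoin (kk S) T = ⊤ := by
    have h1 := (Groth.Agent.PBasisLib.isPGenerating_iff_Fp p k₀ _).mp hB.2
    refine eq_top_iff.mpr fun y _ => ?_
    have h2 : Groth.Agent.PBasisLib.Fp p k₀ (Set.range (Subtype.val : B → K)) ≤
        (IntermediateField.adjoin (kk S) T).restrictScalars k₀ := by
      rw [Groth.Agent.PBasisLib.Fp, IntermediateField.adjoin_le_iff]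
      rintro z (⟨w, rfl⟩ | ⟨c, rfl⟩)
      · exact (IntermediateField.adjoin (kk S) T).algebraMap_mem ⟨_, hpow w⟩
      · by_cases hc : c ∈ S
        · exact IntermediateField.subset_adjoin _ _ (Finset.mem_coe.mpr (Finset.mem_image_of_mem _ hc))
        · exact (IntermediateField.adjoin (kk S) T).algebraMap_mem
            ⟨_, Groth.Agent.PBasisLib.subset_Fp p k₀ _ ⟨c, hc, rfl⟩⟩
    exact h2 (h1 ▸ IntermediateField.mem_top)
  haveI : Finite T := Finite.of_fintype _
  have hfd : FiniteDimensional (kk S) (IntermediateField.adjoin (kk S) T) :=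
    IntermediateField.finiteDimensional_adjoin (fun z _ =>
      ⟨Polynomial.X ^ p - Polynomial.C ⟨z ^ p, hpow z⟩,
        Polynomial.monic_X_pow_sub_C _ (Fact.out : p.Prime).ne_zero, by simp⟩)
  exact Module.Finite.equiv ((IntermediateField.equivOfEq hT).trans IntermediateField.topEquiv).toLinearEquiv

end Groth.Agent.S4549
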