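import Groth.Statements.S4551
import Groth.Agent.Jacob4.PowerSeries
-- import your own Groth.Agent.* helpers here

set_option autoImplicit false
universe u
open EGA41

namespace Groth.Agent.S4551

/-- For every field k (any characteristic) the field of fractions k((T_1, …, T_r)) of the power series
ring k[[T_1, …, T_r]] is a separable extension of k, i.e. it is geometrically reduced over k. -/
theorem result (k : Type u) [Field k] (r : ℕ) :
    Algebra.IsGeometricallyReduced k (FractionRing (MvPowerSeries (Fin r) k)) := by
  let A := MvPowerSeries (Fin r) k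
  let Q := FractionRing A
  haveI := PSLib.isRegularLocalRing (K := k) (n := r)
  haveI : IsDomain A := NoZeroDivisors.to_isDomain _
  haveI : Algebra.IsGeometricallyReduced k k := S2451.result.1 inferInstance
  haveI : (⊥ : Ideal A).IsPrime := Ideal.isPrime_bot
  have hL := Jacob4.fs_atPrime (k := k) (K := k) (Jacob4.fs_mvPowerSeries k r) (⊥ : Ideal A)
  have hM : (⊥ : Ideal A).primeCompl = nonZeroDivisors A := by
    ext x
    rw [mem_nonZeroDivisors_iff_ne_zero]
    rfl
  haveI : IsLocalization (⊥ : Ideal A).primeCompl Q := by rw [hM]; infer_instance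
  let e : Localization.AtPrime (⊥ : Ideal A) ≃ₐ[k] Q :=
    (IsLocalization.algEquiv (⊥ : Ideal A).primeCompl (Localization.AtPrime (⊥ : Ideal A)) Q).restrictScalars k
  refine S2451.result.1 (Algebra.FormallySmooth.of_comp_surjective fun E _ _ J hJ ψ => ?_)
  obtain ⟨χ, hχ⟩ := hL E J hJ (ψ.comp e.toAlgHom) ⟨1, fun x hx => by
    rw [pow_one] at hx
    have : e x = 0 := by
      by_contra h
      exact (IsLocalRing.mem_maximalIdeal _).1 hx (by
        have := (isUnit_iff_ne_zero.2 h).map e.symm
        rwa [e.symm_apply_apply] at this)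
    show ψ (e x) = 0
    rw [this, map_zero]⟩
  refine ⟨χ.comp e.symm.toAlgHom, AlgHom.ext fun z => ?_⟩
  have := AlgHom.congr_fun hχ (e.symm z)
  refine this.trans ?_
  show ψ (e (e.symm z)) = ψ z
  rw [e.apply_symm_apply]
end Groth.Agent.S4551
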