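import Groth.Statements.S4552
import Mathlib.Algebra.Module.Projective
import Mathlib.Algebra.Module.Torsion.Basic

set_option autoImplicit false
universe u
open EGA41

namespace Groth.Agent.S4552

/-- For the 𝔞-adic topology on A and the deduced topology on M: the topological A-module M is formally
projective (for every open ideal 𝔞ⁿ, every pair of (A/𝔞ⁿ)-modules P, Q, every surjection P → Q and
every continuous A-linear map M → Q — here automatically continuous — there is a continuous A-linear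
lift M → P) if and only if it is strictly formally projective, i.e. M/𝔞ⁿM is a projective
(A/𝔞ⁿ)-module for every n. -/
theorem result {A : Type u} [CommRing A] (𝔞 : Ideal A) (M : Type u)
    [AddCommGroup M] [Module A M] :
    (∀ (n : ℕ) (P Q : Type u) [AddCommGroup P] [Module A P] [AddCommGroup Q] [Module A Q],
      (∀ a ∈ 𝔞 ^ n, ∀ y : P, a • y = 0) → (∀ a ∈ 𝔞 ^ n, ∀ y : Q, a • y = 0) →
      ∀ f : P →ₗ[A] Q, Function.Surjective f → ∀ v : M →ₗ[A] Q, ∃ w : M →ₗ[A] P, f ∘ₗ w = v) ↔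
    ∀ n : ℕ, Module.Projective (A ⧸ 𝔞 ^ n) (M ⧸ (𝔞 ^ n • ⊤ : Submodule A M)) := by
  constructor
  · intro h n
    refine Module.Projective.of_lifting_property'' fun f hf => ?_
    set Q := M ⧸ (𝔞 ^ n • ⊤ : Submodule A M)
    have hkill : ∀ a ∈ 𝔞 ^ n, ∀ (q : Q), a • q = 0 := by
      intro a ha q
      obtain ⟨m, rfl⟩ := Submodule.Quotient.mk_surjective _ q
      rw [← Submodule.Quotient.mk_smul, Submodule.Quotient.mk_eq_zero]
      exact Submodule.smul_mem_smul ha trivial
    obtain ⟨w, hw⟩ := h n (Q →₀ A ⧸ 𝔞 ^ n) Q (fun a ha y => by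
        ext q
        simp [Algebra.smul_def, Ideal.Quotient.algebraMap_eq, Ideal.Quotient.eq_zero_iff_mem.mpr ha])
      hkill (f.restrictScalars A) hf ((𝔞 ^ n • ⊤ : Submodule A M).mkQ)
    let g : Q →ₗ[A] (Q →₀ A ⧸ 𝔞 ^ n) := (𝔞 ^ n • ⊤ : Submodule A M).liftQ w (by
      rw [Submodule.smul_le]
      intro a ha m _
      ext q
      simp [LinearMap.mem_ker, Algebra.smul_def, Ideal.Quotient.algebraMap_eq, Ideal.Quotient.eq_zero_iff_mem.mpr ha])
    refine ⟨{ g with map_smul' := fun r q => ?_ }, LinearMap.ext fun q => ?_⟩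
    · obtain ⟨a, rfl⟩ := Ideal.Quotient.mk_surjective r
      exact g.map_smul a q
    · obtain ⟨m, rfl⟩ := Submodule.Quotient.mk_surjective _ q
      exact LinearMap.congr_fun hw m
  · intro h n P Q _ _ _ _ hP hQ f hf v
    haveI := h n
    have hPt : Module.IsTorsionBySet A P ↑(𝔞 ^ n) := fun y a => hP a a.2 y
    have hQt : Module.IsTorsionBySet A Q ↑(𝔞 ^ n) := fun y a => hQ a a.2 y
    letI := hPt.module
    letI := hQt.module
    let vb : (M ⧸ (𝔞 ^ n • ⊤ : Submodule A M)) →ₗ[A] Q := (𝔞 ^ n • ⊤ : Submodule A M).liftQ v (by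
      rw [Submodule.smul_le]
      intro a ha m _
      simp [LinearMap.mem_ker, hQ a ha])
    let f' : P →ₗ[A ⧸ 𝔞 ^ n] Q := { f with map_smul' := fun r y => Quotient.inductionOn r fun a => f.map_smul a y }
    let v' : (M ⧸ (𝔞 ^ n • ⊤ : Submodule A M)) →ₗ[A ⧸ 𝔞 ^ n] Q := { vb with map_smul' := fun r y => Quotient.inductionOn r fun a => vb.map_smul a y }
    obtain ⟨w, hw⟩ := Module.projective_lifting_property f' v' hf
    let w' : (M ⧸ (𝔞 ^ n • ⊤ : Submodule A M)) →ₗ[A] P :=
      { toFun := w, map_add' := w.map_add, map_smul' := fun a y => w.map_smul (Ideal.Quotient.mk _ a) y }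
    exact ⟨w' ∘ₗ (𝔞 ^ n • ⊤ : Submodule A M).mkQ, LinearMap.ext fun m => LinearMap.congr_fun hw _⟩

end Groth.Agent.S4552
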