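import Groth.Statements.S4555
import Groth.Agent.Jacob4.PSAdic
-- import your own Groth.Agent.* helpers here

set_option autoImplicit false
universe u
open EGA41

namespace Groth.Agent.S4555

/-- Let A carry the 𝔞-adic topology, B = A[[T_1, …, T_n]] the product topology (the adic topology of 𝔞B
+ (T_1, …, T_n)), and let E be a discrete topological A-algebra (a power of 𝔞 kills E). (i) If f : B
→ E is a continuous A-algebra homomorphism then each f(T_i) is nilpotent. (ii) Conversely, for every
family (z_i) of nilpotent elements of E there is one and only one continuous A-algebra homomorphism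
g : B → E with g(T_i) = z_i for all i. -/
theorem result (A : Type u) [CommRing A] (𝔞 : Ideal A) (n : ℕ) (E : Type u) [CommRing E]
    [Algebra A E] (hE : ∃ k : ℕ, (𝔞 ^ k).map (algebraMap A E) = ⊥) :
    (∀ f : MvPowerSeries (Fin n) A →ₐ[A] E,
      (∃ m : ℕ, ∀ x ∈ (𝔞.map (MvPowerSeries.C : A →+* MvPowerSeries (Fin n) A) ⊔
        RingHom.ker (MvPowerSeries.constantCoeff : MvPowerSeries (Fin n) A →+* A)) ^ m, f x = 0) →
      ∀ i, IsNilpotent (f (MvPowerSeries.X i))) ∧
    ∀ z : Fin n → E, (∀ i, IsNilpotent (z i)) →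
      ∃! g : MvPowerSeries (Fin n) A →ₐ[A] E,
        (∃ m : ℕ, ∀ x ∈ (𝔞.map (MvPowerSeries.C : A →+* MvPowerSeries (Fin n) A) ⊔
          RingHom.ker (MvPowerSeries.constantCoeff : MvPowerSeries (Fin n) A →+* A)) ^ m, g x = 0) ∧
        ∀ i, g (MvPowerSeries.X i) = z i := by
  exact ⟨Jacob4.isNilpotent_of_continuous A 𝔞 n, fun z hz => Jacob4.existsUnique_algHom A 𝔞 n hE z hz⟩
end Groth.Agent.S4555
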