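import Groth.Statements.S4556
import Groth.Agent.EGA41Lib.Adic
import Mathlib.RingTheory.Smooth.Basic

set_option autoImplicit false
universe u
open EGA41

namespace Groth.Agent.S4556

/-- Let B be a formally smooth A-algebra, E and E' two A-algebras, R (resp. R') a nilpotent ideal of E
(resp. E'), f : E → E' a surjective A-algebra homomorphism with f(R) = R', and f' : E/R → E'/R' the
induced homomorphism. Let u : B → E/R be an A-algebra homomorphism and v' : B → E' an A-algebra
homomorphism through which f' ∘ u factors (v' followed by E' → E'/R' equals f' ∘ u). Then there is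
an A-algebra homomorphism v : B → E with f ∘ v = v'. (The published statement assumes only f(R) ⊆
R'; in that form it fails for B = ℚ[x, x⁻¹], E = ℚ[t], E' = ℚ[t]/(t²), R = 0, R' = (t), u : x ↦ 1
and v' : x ↦ 1 + t, since any v sends x to a unit of ℚ[t], a constant; the argument identifies R'
with the image of R, and that equality is assumed here.) -/
theorem result {A B E E' : Type u} [CommRing A] [CommRing B] [Algebra A B]
    [Algebra.FormallySmooth A B] [CommRing E] [CommRing E'] [Algebra A E] [Algebra A E']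
    (R : Ideal E) (R' : Ideal E') (hR : IsNilpotent R) (hR' : IsNilpotent R')
    (f : E →ₐ[A] E') (hf : Function.Surjective f) (hfR : R.map f.toRingHom = R')
    (u : B →ₐ[A] E ⧸ R) (v' : B →ₐ[A] E')
    (huv : (Ideal.Quotient.mkₐ A R').comp v' =
      (Ideal.quotientMapₐ R' f (fun x hx => hfR.le (Ideal.mem_map_of_mem f.toRingHom hx))).comp u) :
    ∃ v : B →ₐ[A] E, f.comp v = v' := by
  set I₂ := RingHom.ker (f : E →+* E') with hI₂
  let e : (E ⧸ I₂) ≃ₐ[A] E' := Ideal.quotientKerAlgEquivOfSurjective hf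
  have he : ∀ x, e (Ideal.Quotient.mk I₂ x) = f x := fun x => rfl
  have hcompat : (Ideal.Quotient.factorₐ A (le_sup_left : R ≤ R ⊔ I₂)).comp u =
      (Ideal.Quotient.factorₐ A (le_sup_right : I₂ ≤ R ⊔ I₂)).comp (e.symm.toAlgHom.comp v') := by
    refine AlgHom.ext fun b => ?_
    obtain ⟨x, hx⟩ := Ideal.Quotient.mk_surjective (u b)
    obtain ⟨y, hy⟩ := Ideal.Quotient.mk_surjective (e.symm (v' b))
    have hb := AlgHom.congr_fun huv b
    simp only [AlgHom.comp_apply, ← hx, Ideal.Quotient.mkₐ_eq_mk] at hb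
    have hvb : v' b = f y := by rw [← he, hy, AlgEquiv.apply_symm_apply]
    rw [hvb] at hb
    have hb2 : f y - f x ∈ R' := Ideal.Quotient.eq.mp (hb.trans rfl)
    rw [← hfR, Ideal.mem_map_iff_of_surjective f.toRingHom hf] at hb2
    obtain ⟨r, hr, hr'⟩ := hb2
    simp only [AlgHom.comp_apply, AlgEquiv.coe_toAlgHom, ← hx, ← hy]
    show Ideal.Quotient.mk _ x = Ideal.Quotient.mk _ y
    rw [Ideal.Quotient.eq]
    have h2 : x - y + r ∈ I₂ := by
      rw [hI₂, RingHom.mem_ker]
      simp only [map_add, map_sub]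
      show f x - f y + f r = 0
      have : f r = f y - f x := hr'
      rw [this]; ring
    have h3 : x - y = -r + (x - y + r) := by ring
    rw [h3]
    exact Submodule.add_mem_sup (R.neg_mem hr) h2
  obtain ⟨w, -, hw2⟩ := EGA41Lib.exists_lift_inf R I₂ u (e.symm.toAlgHom.comp v') hcompat
  have hnil : IsNilpotent (R ⊓ I₂) := by
    obtain ⟨t, ht⟩ := hR
    exact ⟨t, le_bot_iff.mp ((Ideal.pow_right_mono inf_le_left t).trans ht.le)⟩
  obtain ⟨v, hv⟩ := Algebra.FormallySmooth.exists_lift (R ⊓ I₂) hnil w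
  refine ⟨v, AlgHom.ext fun b => ?_⟩
  have h1 := AlgHom.congr_fun hw2 b
  rw [← hv] at h1
  have h2 := congrArg e h1
  simp only [AlgHom.comp_apply, AlgEquiv.coe_toAlgHom, AlgEquiv.apply_symm_apply] at h2
  exact h2

end Groth.Agent.S4556
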