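import Groth.Statements.S4557
import Groth.Agent.CplKaehler4.Domain

set_option autoImplicit false
universe u
open EGA41

namespace Groth.Agent.S4557

open IsLocalRing TensorProduct in
/-- Let A be a complete Noetherian local integral domain, A₀ a subring of A isomorphic to a power series
ring k[[T_1, …, T_r]] over a field k such that A is a finite A₀-algebra and the field of fractions E
of A is a separable extension of the field of fractions L₀ of A₀ (here: A₀ = k[[T]] → A injective
and finite, A a k-algebra through A₀, and every element of A is a root of a polynomial over A₀ which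
is separable over L₀). Then rk_A Ω̂_{A/k} = rk_E (Ω̂_{A/k} ⊗_A E) = dim A = r, where Ω̂_{A/k} is the
𝔪-adic completion of Ω_{A/k}; stated as dim_E (E ⊗_A Ω̂_{A/k}) = r. -/
theorem result (k : Type u) [Field k] (r : ℕ) (A : Type u) [CommRing A]
    [IsDomain A] [IsLocalRing A] [IsNoetherianRing A] [IsAdicComplete (maximalIdeal A) A]
    [Algebra (MvPowerSeries (Fin r) k) A] [Algebra k A] [IsScalarTower k (MvPowerSeries (Fin r) k) A]
    (hinj : Function.Injective (algebraMap (MvPowerSeries (Fin r) k) A)) [Module.Finite (MvPowerSeries (Fin r) k) A]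
    (hsep : ∀ a : A, ∃ P : Polynomial (MvPowerSeries (Fin r) k), Polynomial.aeval a P = 0 ∧
      (P.map (algebraMap (MvPowerSeries (Fin r) k) (FractionRing (MvPowerSeries (Fin r) k)))).Separable) :
    Module.finrank (FractionRing A) (FractionRing A ⊗[A] AdicCompletion (maximalIdeal A) (Ω[A⁄k])) = r := by
  classical
  set P := MvPowerSeries (Fin r) k with hP
  haveI : IsDomain P := NoZeroDivisors.to_isDomain _
  haveI : IsNoetherianRing P := by
    haveI := Groth.Agent.PSLib.isRegularLocalRing (K := k) (n := r)
    infer_instance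
  haveI : Algebra.IsIntegral P A := Algebra.IsIntegral.of_finite _ _
  haveI : Module.Finite k (ResidueField A) := by
    haveI : Module.Finite P (ResidueField A) :=
      Module.Finite.of_surjective (IsScalarTower.toAlgHom P A (ResidueField A)).toLinearMap residue_surjective
    obtain ⟨n, g, hg⟩ := Submodule.fg_iff_exists_fin_generating_family.1
      (Module.Finite.fg_top (R := P) (M := ResidueField A))
    refine ⟨Submodule.fg_def.2 ⟨Set.range g, Set.finite_range g, eq_top_iff.2 fun z _ => ?_⟩⟩
    obtain ⟨c, rfl⟩ := (Submodule.mem_span_range_iff_exists_fun P).1 (hg ▸ (Submodule.mem_top : z ∈ ⊤))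
    refine Submodule.sum_mem _ fun i _ => ?_
    have hmax : (maximalIdeal A).comap (algebraMap P A) = maximalIdeal P := by
      haveI : IsLocalRing P := inferInstance
      exact eq_maximalIdeal (Ideal.isMaximal_comap_of_isIntegral_of_isMaximal (maximalIdeal A))
    have hc : algebraMap P (ResidueField A) (c i) = algebraMap k (ResidueField A) (MvPowerSeries.constantCoeff (c i)) := by
      rw [IsScalarTower.algebraMap_apply k P (ResidueField A), ← sub_eq_zero, ← map_sub,
        IsScalarTower.algebraMap_apply P A (ResidueField A), ResidueField.algebraMap_eq, residue_eq_zero_iff]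
      refine Ideal.mem_comap.1 ?_
      rw [hmax, Groth.Agent.PSLib.maximalIdeal_eq_vars]
      refine Groth.Agent.PSLib.mem_vars_iff.2 ?_
      rw [map_sub, sub_eq_zero]
      exact (MvPowerSeries.constantCoeff_C _).symm
    rw [Algebra.smul_def, hc, ← Algebra.smul_def]
    exact Submodule.smul_mem _ _ (Submodule.subset_span ⟨i, rfl⟩)
  haveI := Groth.Agent.CplKaehler4.finite_completion k A
  let E := FractionRing A
  let M := AdicCompletion (maximalIdeal A) (Ω[A⁄k])
  haveI : IsFractionRing A (Ideal.ResidueField (⊥ : Ideal A)) :=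
    IsFractionRing.of_field _ _ fun z => by
      obtain ⟨x, y, hy, rfl⟩ := IsFractionRing.div_surjective (A := A ⧸ (⊥ : Ideal A)) z
      obtain ⟨x, rfl⟩ := Ideal.Quotient.mk_surjective x
      obtain ⟨y, rfl⟩ := Ideal.Quotient.mk_surjective y
      exact ⟨x, y, rfl⟩
  have key : Module.finrank (Ideal.ResidueField (⊥ : Ideal A)) (Ideal.ResidueField (⊥ : Ideal A) ⊗[A] M) =
      Module.finrank E (E ⊗[A] M) := by
    let e : Ideal.ResidueField (⊥ : Ideal A) ≃ₐ[A] E := FractionRing.algEquiv A _ |>.symm
    let j : Ideal.ResidueField (⊥ : Ideal A) ⊗[A] M ≃ₗ[A] E ⊗[A] M := e.toLinearEquiv.rTensor M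
    have hj : ∀ (a : Ideal.ResidueField (⊥ : Ideal A)) z, j (a • z) = e a • j z := by
      intro a z
      induction z using TensorProduct.induction_on with
      | zero => simp
      | add x y hx hy => rw [smul_add, map_add, map_add, smul_add, hx, hy]
      | tmul b m => simp [j, TensorProduct.smul_tmul']
    exact congrArg Cardinal.toNat (rank_eq_of_equiv_equiv (R := Ideal.ResidueField (⊥ : Ideal A)) (R' := E) e j.toAddEquiv e.bijective hj)
  rw [← key]
  refine le_antisymm ?_ ?_
  · obtain ⟨π, -, -, hker⟩ := Groth.Agent.CplKaehler4.exists_proj (k := k) (A := A) (r := r)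
    refine Groth.Agent.CplKaehler4.finrank_fibre_le (⊥ : Ideal A) (s := fun i =>
      AdicCompletion.of _ _ (KaehlerDifferential.D k A (algebraMap P A (MvPowerSeries.X i)))) ?_
    intro y
    have hT : ∀ ω : Ω[A⁄P], ∃ c : A, c ≠ 0 ∧ c • ω = 0 := by
      intro ω
      refine Submodule.span_induction (p := fun ω _ => ∃ c : A, c ≠ 0 ∧ c • ω = 0) ?_ ⟨1, one_ne_zero, smul_zero _⟩
        ?_ ?_ (KaehlerDifferential.span_range_derivation P A ▸ (Submodule.mem_top : ω ∈ ⊤))
      · rintro _ ⟨a, rfl⟩
        obtain ⟨F, hF, hFs⟩ := hsep a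
        refine ⟨Polynomial.aeval a F.derivative, fun h => ?_, ?_⟩
        · haveI : FaithfulSMul P A := (faithfulSMul_iff_algebraMap_injective _ _).2 hinj
          letI : Algebra (FractionRing P) E := FractionRing.liftAlgebra P E
          have h0 : Polynomial.aeval (algebraMap A E a) (F.map (algebraMap P (FractionRing P))) = 0 := by
            rw [Polynomial.aeval_map_algebraMap, Polynomial.aeval_algebraMap_apply, hF, map_zero]
          apply hFs.aeval_derivative_ne_zero h0
          rw [Polynomial.derivative_map, Polynomial.aeval_map_algebraMap, Polynomial.aeval_algebraMap_apply, h, map_zero]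
        · rw [← Derivation.map_aeval, hF, map_zero]
      · rintro x z - - ⟨c, hc, hx⟩ ⟨d, hd, hz⟩
        exact ⟨c * d, mul_ne_zero hc hd, by rw [smul_add, mul_comm c d, mul_smul, hx, smul_zero, mul_comm d c, mul_smul, hz, smul_zero, add_zero]⟩
      · rintro a x - ⟨c, hc, hx⟩
        exact ⟨c, hc, by rw [smul_comm, hx, smul_zero]⟩
    obtain ⟨c, hc, hy⟩ := hT (π y)
    refine ⟨c, fun h => hc h, ?_⟩
    rw [← hker, LinearMap.mem_ker, map_smul, hy]
  · obtain ⟨s, hs⟩ := Groth.Agent.CplKaehler4.exists_genAt (⊥ : Ideal A) (M := M)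
    have h := Groth.Agent.CplKaehler4.dim_quot_le_of_genAt k A ⊥ ⊥ le_rfl s hs
    rw [ringKrullDim_eq_of_ringEquiv (RingEquiv.quotientBot A),
      Groth.Agent.EGA41Lib.ringKrullDim_eq_of_integral (A := P) (B := A) hinj,
      Groth.Agent.PSLib.ringKrullDim_eq] at h
    exact Nat.cast_le.1 h

end Groth.Agent.S4557
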