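import Groth.Statements.S4558
import Groth.Agent.CplKaehler4.Basic

set_option autoImplicit false
universe u
open EGA41

namespace Groth.Agent.S4558

/-- Let A be a discrete ring, B an adic topological A-algebra with ideal of definition 𝔫 (B separated
and complete for the 𝔫-adic topology) and B₀ = B/𝔫. If Ω_{B₀/A} and 𝔫/𝔫² are B₀-modules of finite
type, then Ω̂_{B/A}, the 𝔫-adic completion of Ω_{B/A}, is a B-module of finite type. -/
theorem result {A B : Type u} [CommRing A] [CommRing B] [Algebra A B] (𝔫 : Ideal B)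
    [IsAdicComplete 𝔫 B] [Module.Finite (B ⧸ 𝔫) (Ω[B ⧸ 𝔫⁄A])] [Module.Finite (B ⧸ 𝔫) 𝔫.Cotangent] :
    Module.Finite B (AdicCompletion 𝔫 (Ω[B⁄A])) := by
  haveI := Groth.Agent.CplKaehler4.finite_quot_kaehler (A := A) 𝔫
  exact Groth.Agent.CplKaehler4.finite 𝔫

end Groth.Agent.S4558
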