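import Groth.Statements.S4561
import Groth.Agent.Jacob4.CoeffAdjoin
-- import your own Groth.Agent.* helpers here

set_option autoImplicit false
universe u
open EGA41

namespace Groth.Agent.S4561

/-- Let k₀ be a field of characteristic p > 0 with [k₀ : k₀^p] < ∞ and K₀ an extension of k₀. Inside
K₀((T_1, …, T_r)) one has (k₀(K₀^p))((T_1, …, T_r)) = k₀(K₀^p((T_1, …, T_r))); here, for a subfield
F of K₀, F((T)) denotes the subfield of the fraction field of K₀[[T]] generated by the power series
with all coefficients in F. -/
theorem result (p : ℕ) [Fact p.Prime] {k₀ K₀ : Type u} [Field k₀] [Field K₀] [Algebra k₀ K₀] [CharP k₀ p]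
    (hfin : Module.Finite (Subfield.closure (Set.range fun x : k₀ => x ^ p)) k₀) (r : ℕ) :
    Subfield.closure (algebraMap (MvPowerSeries (Fin r) K₀) (FractionRing (MvPowerSeries (Fin r) K₀)) ''
        {f | ∀ n, MvPowerSeries.coeff n f ∈
          Subfield.closure (Set.range (algebraMap k₀ K₀) ∪ Set.range fun y : K₀ => y ^ p)}) =
      Subfield.closure
        (Set.range (algebraMap k₀ (FractionRing (MvPowerSeries (Fin r) K₀))) ∪
          (Subfield.closure (algebraMap (MvPowerSeries (Fin r) K₀) (FractionRing (MvPowerSeries (Fin r) K₀)) ''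
            {f | ∀ n, MvPowerSeries.coeff n f ∈ Subfield.closure (Set.range fun y : K₀ => y ^ p)}) :
            Set (FractionRing (MvPowerSeries (Fin r) K₀)))) := by
  exact Jacob4.closure_coeff_eq p hfin r
end Groth.Agent.S4561
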