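import Groth.Statements.S4563
import Mathlib
import Groth.Agent.CompleteNagata.Tate
import Groth.Agent.CAlgOdd.PowerSeriesNormal

set_option autoImplicit false
universe u
open CAlg

namespace Groth.Agent.S4563

/-- If A is a Noetherian integrally closed Japanese (N-2) domain, then every formal power series ring
A[[T_1, ..., T_r]] is Japanese. (The power series ring is a domain; that instance is taken as a
hypothesis binder.) -/
theorem result {A : Type u} [CommRing A] [IsDomain A]
    [IsNoetherianRing A] [IsIntegrallyClosed A] (hA : CAlg.IsN2 A) (r : ℕ)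
    [IsDomain (MvPowerSeries (Fin r) A)] :
    CAlg.IsN2 (MvPowerSeries (Fin r) A) := by
  have step : ∀ (B : Type u) [CommRing B] [IsDomain B] [IsNoetherianRing B] [IsIntegrallyClosed B],
      CAlg.IsN2 B → CAlg.IsN2 (PowerSeries B) := by
    intro B _ _ _ _ hB
    haveI := Groth.Agent.CAlgOdd.powerSeries_isIntegrallyClosed (R := B)
    haveI : (Ideal.span ({PowerSeries.X} : Set (PowerSeries B))).IsPrime := PowerSeries.span_X_isPrime
    exact Groth.Agent.CompleteNagata.isN2_of_tate (PowerSeries B) PowerSeries.X
      (Groth.Agent.N12Aux.isN2_of_ringEquiv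
        ((RingHom.quotientKerEquivOfSurjective (f := PowerSeries.constantCoeff (R := B))
          PowerSeries.constantCoeff_surj).symm.trans
          (Ideal.quotEquivOfEq (by
            ext f
            rw [RingHom.mem_ker, Ideal.mem_span_singleton, PowerSeries.X_dvd_iff]))) hB)
  suffices ∀ r, ∀ [IsDomain (MvPowerSeries (Fin r) A)], IsNoetherianRing (MvPowerSeries (Fin r) A) ∧
      IsIntegrallyClosed (MvPowerSeries (Fin r) A) ∧ CAlg.IsN2 (MvPowerSeries (Fin r) A) from (this r).2.2
  intro r
  induction r with
  | zero =>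
    intro _
    have h0 : ∀ f : MvPowerSeries (Fin 0) A, MvPowerSeries.C (MvPowerSeries.constantCoeff f) = f := fun f => by
      ext d
      rw [show d = 0 from Subsingleton.elim _ _, MvPowerSeries.coeff_zero_eq_constantCoeff,
        MvPowerSeries.constantCoeff_C]
    let e : A ≃+* MvPowerSeries (Fin 0) A :=
      RingEquiv.ofBijective MvPowerSeries.C ⟨MvPowerSeries.C_injective, fun f => ⟨_, h0 f⟩⟩
    exact ⟨isNoetherianRing_of_ringEquiv A e, IsIntegrallyClosed.of_equiv e,
      Groth.Agent.N12Aux.isN2_of_ringEquiv e hA⟩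
  | succ r ih =>
    intro _
    haveI : IsDomain (MvPowerSeries (Fin r) A) := NoZeroDivisors.to_isDomain _
    obtain ⟨hN, hC, h2⟩ := @ih _
    haveI := hN
    haveI := hC
    haveI := Groth.Agent.CAlgOdd.powerSeries_isIntegrallyClosed (R := MvPowerSeries (Fin r) A)
    let e : PowerSeries (MvPowerSeries (Fin r) A) ≃+* MvPowerSeries (Fin (r + 1)) A :=
      (MvPowerSeries.finSuccEquiv A r).toRingEquiv.symm
    exact ⟨isNoetherianRing_of_ringEquiv _ e, IsIntegrallyClosed.of_equiv e,
      Groth.Agent.N12Aux.isN2_of_ringEquiv e (step _ h2)⟩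

end Groth.Agent.S4563
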