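import Groth.Statements.S4567
import Groth.Agent.MorLib.RingUnivHomeo
import Groth.Agent.UnivOpen.GeomUnibranch

set_option autoImplicit false
universe u
open AlgebraicGeometry
open CAlg2

namespace Groth.Agent.S4567
open AlgebraicGeometry IsLocalRing

theorem red_equiv (O : Type u) [CommRing O] [IsReduced O] : Nonempty (O ≃+* CAlg2.red O) :=
  ⟨((RingEquiv.quotientBot O).symm.trans (Ideal.quotEquivOfEq (nilradical_eq_zero O).symm))⟩

theorem natCast_mem_iff {B D : Type u} [CommRing B] [CommRing D] (f : B →+* D) (q : Ideal B) (M : Ideal D)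
    (hM : M.comap f = q) (n : ℕ) : (n : D) ∈ M ↔ (n : B) ∈ q := by
  rw [← hM, Ideal.mem_comap, map_natCast]

/-- The localised normalisation witnesses geometric unibranchness. -/
theorem gu_of_prime {A B : Type u} [CommRing A] [IsDomain A] [CommRing B] [IsDomain B] [IsIntegrallyClosed B]
    [Algebra A B] [Algebra.IsIntegral A B] (hinjAB : Function.Injective (algebraMap A B))
    (hbir : ∀ b : B, ∃ a s : A, s ≠ 0 ∧ algebraMap A B s * b = algebraMap A B a)
    (p : Ideal A) [p.IsPrime]
    (huniq : ∀ q₁ q₂ : Ideal B, q₁.IsPrime → q₂.IsPrime → q₁.comap (algebraMap A B) = p →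
      q₂.comap (algebraMap A B) = p → q₁ = q₂)
    (hins : ∀ q : Ideal B, q.IsPrime → q.comap (algebraMap A B) = p → ∀ b : B,
      ∃ e : ℕ, (e = 1 ∨ (e.Prime ∧ (e : B) ∈ q)) ∧
        ∃ (n : ℕ) (a s : A), algebraMap A B s ∉ q ∧ algebraMap A B s * b ^ (e ^ n) - algebraMap A B a ∈ q) :
    UnivOpen.GU (Localization.AtPrime p) := by
  classical
  let M := Algebra.algebraMapSubmonoid B p.primeCompl
  let D := Localization M
  have hM : M ≤ nonZeroDivisors B := by
    rintro _ ⟨s, hs, rfl⟩
    exact mem_nonZeroDivisors_of_ne_zero fun h => hs (by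
      rw [hinjAB (h.trans (map_zero _).symm)]; exact p.zero_mem)
  haveI : IsDomain D := IsLocalization.isDomain_localization hM
  haveI : IsIntegrallyClosed D := isIntegrallyClosed_of_isLocalization D M hM
  haveI : IsDomain (Localization.AtPrime p) :=
    IsLocalization.isDomain_localization p.primeCompl_le_nonZeroDivisors
  haveI hintD : Algebra.IsIntegral (Localization.AtPrime p) D :=
    ⟨(isIntegral_localization (R := A) (S := B) (M := p.primeCompl) (Rₘ := Localization.AtPrime p) (Sₘ := D))⟩
  have htow : ∀ a : A, algebraMap (Localization.AtPrime p) D (algebraMap A (Localization.AtPrime p) a) =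
      algebraMap B D (algebraMap A B a) := fun a => by
    rw [← IsScalarTower.algebraMap_apply, ← IsScalarTower.algebraMap_apply]
  have hinjD : Function.Injective (algebraMap (Localization.AtPrime p) D) := by
    refine (injective_iff_map_eq_zero _).2 fun x hx => ?_
    obtain ⟨a, s, rfl⟩ := IsLocalization.exists_mk'_eq p.primeCompl x
    rw [IsLocalization.algebraMap_mk' B (Localization.AtPrime p) D a s,
      IsLocalization.mk'_eq_zero_iff] at hx
    obtain ⟨⟨_, t, ht, rfl⟩, hm⟩ := hx
    rw [← map_mul, map_eq_zero_iff _ hinjAB] at hm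
    exact (IsLocalization.mk'_eq_zero_iff a s).2 ⟨⟨t, ht⟩, hm⟩
  have hcomap : ∀ Q : Ideal D, Q.IsMaximal → (Q.comap (algebraMap B D)).comap (algebraMap A B) = p := by
    intro Q hQ
    haveI := hQ
    have h := eq_maximalIdeal (Ideal.isMaximal_comap_of_isIntegral_of_isMaximal (R := Localization.AtPrime p) Q)
    ext a
    rw [Ideal.mem_comap, Ideal.mem_comap, ← htow, ← Ideal.mem_comap, h,
      IsLocalization.AtPrime.to_map_mem_maximal_iff _ p]
  haveI : IsLocalRing D := by
    obtain ⟨Q₀, hQ₀⟩ := Ideal.exists_maximal D
    refine IsLocalRing.of_unique_max_ideal ⟨Q₀, hQ₀, fun Q hQ => ?_⟩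
    have := huniq _ _ (Ideal.comap_isPrime (algebraMap B D) Q) (Ideal.comap_isPrime (algebraMap B D) Q₀)
      (hcomap Q hQ) (hcomap Q₀ hQ₀)
    exact ((IsLocalization.map_comap M D Q).symm.trans (congrArg (Ideal.map (algebraMap B D)) this)).trans
      (IsLocalization.map_comap M D Q₀)
  let q := (maximalIdeal D).comap (algebraMap B D)
  have hq : q.comap (algebraMap A B) = p := hcomap _ (maximalIdeal.isMaximal D)
  refine ⟨inferInstance, inferInstance, D, inferInstance, inferInstance, inferInstance, inferInstance,
    inferInstance, hinjD, hintD, fun d => ?_, fun d => ?_⟩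
  · obtain ⟨b, ⟨_, t, ht, rfl⟩, rfl⟩ := IsLocalization.exists_mk'_eq M d
    obtain ⟨e, he, n, a, s, hs, hmem⟩ := hins q (Ideal.comap_isPrime _ _) hq b
    have hsp : s ∉ p := fun h => hs (hq.ge h)
    have hden : s * t ^ (e ^ n) ∈ p.primeCompl :=
      mul_mem (show s ∈ p.primeCompl from hsp) (pow_mem (show t ∈ p.primeCompl from ht) _)
    have key : (IsLocalization.mk' D b (⟨algebraMap A B t, Algebra.mem_algebraMapSubmonoid_of_mem (⟨t, ht⟩ : p.primeCompl)⟩ : M)) ^ (e ^ n) -
        algebraMap (Localization.AtPrime p) D
          (IsLocalization.mk' (Localization.AtPrime p) a ⟨s * t ^ (e ^ n), hden⟩) ∈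
        maximalIdeal D := by
      set x := IsLocalization.mk' D b (⟨algebraMap A B t, Algebra.mem_algebraMapSubmonoid_of_mem (⟨t, ht⟩ : p.primeCompl)⟩ : M)
      set y := IsLocalization.mk' (Localization.AtPrime p) a (⟨s * t ^ (e ^ n), hden⟩ : p.primeCompl)
      have hu : IsUnit (algebraMap B D (algebraMap A B (s * t ^ (e ^ n)))) := by
        rw [← htow]
        exact (IsLocalization.map_units (Localization.AtPrime p) (⟨s * t ^ (e ^ n), hden⟩ : p.primeCompl)).map _
      refine (Ideal.unit_mul_mem_iff_mem _ hu).1 ?_
      have e1 : algebraMap B D (algebraMap A B t) * x = algebraMap B D b := IsLocalization.mk'_spec' D b _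
      have e2 : algebraMap A (Localization.AtPrime p) (s * t ^ (e ^ n)) * y = algebraMap A _ a :=
        IsLocalization.mk'_spec' (Localization.AtPrime p) a _
      have e3 := congrArg (algebraMap (Localization.AtPrime p) D) e2
      rw [map_mul, htow, htow] at e3
      rw [mul_sub, e3]
      simp only [map_mul, map_pow, mul_assoc]
      rw [← mul_pow, e1, ← map_pow, ← map_mul, ← map_sub]
      exact hmem
    rcases he with rfl | ⟨hep, heq⟩
    · refine ⟨0, IsLocalization.mk' (Localization.AtPrime p) a ⟨s * t ^ (1 ^ n), hden⟩, ?_⟩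
      rw [pow_zero]
      convert key using 3
      simp
    · have h0 : (e : IsLocalRing.ResidueField D) = 0 := by
        rw [← map_natCast (residue D), residue_eq_zero_iff]
        exact (natCast_mem_iff (algebraMap B D) q _ rfl e).2 heq
      haveI := Fact.mk hep
      haveI : CharP (IsLocalRing.ResidueField D) e :=
        (CharP.charP_iff_prime_eq_zero hep).2 h0
      haveI : ExpChar (IsLocalRing.ResidueField D) e := ExpChar.prime hep
      refine ⟨n, IsLocalization.mk' (Localization.AtPrime p) a ⟨s * t ^ (e ^ n), hden⟩, ?_⟩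
      rw [ringExpChar.eq (IsLocalRing.ResidueField D) e]
      exact key
  · obtain ⟨b, ⟨_, t, ht, rfl⟩, rfl⟩ := IsLocalization.exists_mk'_eq M d
    obtain ⟨a, s, hs, h⟩ := hbir b
    refine ⟨algebraMap A _ a, algebraMap A _ (s * t), fun h0 => ?_, ?_⟩
    · have := IsLocalization.injective (Localization.AtPrime p) p.primeCompl_le_nonZeroDivisors
        (h0.trans (map_zero _).symm)
      exact (mul_ne_zero hs fun h' => ht (by rw [h']; exact p.zero_mem)) this
    · rw [htow, htow, map_mul, map_mul, mul_assoc, ← h, map_mul]
      exact congrArg (algebraMap B D (algebraMap A B s) * ·)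
        (IsLocalization.mk'_spec' D b ⟨algebraMap A B t, Algebra.mem_algebraMapSubmonoid_of_mem (⟨t, ht⟩ : p.primeCompl)⟩)

/-- Geometric unibranchness makes field-valued points of the normalisation unique. -/
theorem radicial_of_gu {A : Type u} [CommRing A] [IsDomain A] {K : Type u} [Field K] [Algebra A K]
    [IsFractionRing A K] (h : ∀ (p : Ideal A) [p.IsPrime], UnivOpen.GU (Localization.AtPrime p)) :
    MorLib.RUH.Radicial (algebraMap A (integralClosure A K)) := by
  classical
  intro L _ f g hfg
  let p : Ideal A := RingHom.ker (f.comp (algebraMap A (integralClosure A K)))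
  haveI : p.IsPrime := RingHom.ker_isPrime _
  obtain ⟨-, -, D, _, _, _, _, hn, hinj, hint, hins, hbir⟩ := h p
  haveI := hn
  haveI := hint
  letI : Algebra A D := ((algebraMap (Localization.AtPrime p) D).comp (algebraMap A _)).toAlgebra
  haveI : IsScalarTower A (Localization.AtPrime p) D := IsScalarTower.of_algebraMap_eq fun _ => rfl
  let F := FractionRing D
  have hAD : Function.Injective (algebraMap A D) :=
    hinj.comp (IsLocalization.injective (Localization.AtPrime p) p.primeCompl_le_nonZeroDivisors)
  have hAF : Function.Injective (algebraMap A F) := by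
    rw [IsScalarTower.algebraMap_eq A D F]
    exact (IsFractionRing.injective D F).comp hAD
  let θ : K →ₐ[A] F := IsFractionRing.liftAlgHom (g := Algebra.ofId A F) hAF
  have hθi : Function.Injective θ := θ.toRingHom.injective
  have hex : ∀ b : integralClosure A K, ∃ d, algebraMap D F d = θ (b : K) := fun b =>
    IsIntegrallyClosed.isIntegral_iff.1 (IsIntegral.tower_top (A := D) (IsIntegral.map θ b.2))
  choose j hj using hex
  have hji : ∀ b c, j b = j c → b = c := fun b c h => Subtype.ext (hθi (by rw [← hj, ← hj, h]))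
  let jh : integralClosure A K →+* D :=
    { toFun := j
      map_one' := IsFractionRing.injective D F (by rw [hj]; simp)
      map_mul' := fun a b => IsFractionRing.injective D F (by rw [map_mul, hj, hj, hj]; simp)
      map_zero' := IsFractionRing.injective D F (by rw [hj]; simp)
      map_add' := fun a b => IsFractionRing.injective D F (by rw [map_add, hj, hj, hj]; simp) }
  have hjA : ∀ a : A, jh (algebraMap A _ a) = algebraMap A D a := fun a => IsFractionRing.injective D F (by
    show algebraMap D F (j _) = _
    rw [hj, ← IsScalarTower.algebraMap_apply A D F]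
    exact θ.commutes a)
  have hclear : ∀ d : D, ∃ t : A, t ∉ p ∧ ∃ b, jh b = algebraMap A D t * d := fun d => by
    obtain ⟨⟨t, ht⟩, hint⟩ := IsIntegral.exists_multiple_integral_of_isLocalization p.primeCompl d
      (Algebra.IsIntegral.isIntegral (R := Localization.AtPrime p) d)
    rw [Submonoid.smul_def, Algebra.smul_def] at hint
    obtain ⟨a', s', hs', he⟩ := hbir d
    obtain ⟨a, u, rfl⟩ := IsLocalization.exists_mk'_eq p.primeCompl a'
    obtain ⟨s, v, rfl⟩ := IsLocalization.exists_mk'_eq p.primeCompl s'
    have hs : s ≠ 0 := fun h => hs' (by rw [h, IsLocalization.mk'_zero])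
    have e1 : algebraMap A D (s * u) * d = algebraMap A D (a * v) := by
      have eu : algebraMap A D (u : A) * algebraMap (Localization.AtPrime p) D (IsLocalization.mk' _ a u) =
          algebraMap A D a := by
        show algebraMap (Localization.AtPrime p) D (algebraMap A _ (u : A)) * _ = _
        rw [← map_mul, IsLocalization.mk'_spec']
        rfl
      have ev : algebraMap A D (v : A) * algebraMap (Localization.AtPrime p) D (IsLocalization.mk' _ s v) =
          algebraMap A D s := by
        show algebraMap (Localization.AtPrime p) D (algebraMap A _ (v : A)) * _ = _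
        rw [← map_mul, IsLocalization.mk'_spec']
        rfl
      rw [map_mul, map_mul, ← ev, ← eu]
      linear_combination (algebraMap A D (v : A) * algebraMap A D (u : A)) * he
    have hsu : s * (u : A) ≠ 0 := mul_ne_zero hs fun h => u.2 (by rw [h]; exact p.zero_mem)
    let z : K := algebraMap A K (t * (a * v)) / algebraMap A K (s * u)
    have hz : θ z = algebraMap D F (algebraMap A D t * d) := by
      simp only [z, map_div₀, AlgHom.commutes]
      rw [div_eq_iff ((map_ne_zero_iff _ hAF).2 hsu), IsScalarTower.algebraMap_apply A D F,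
        IsScalarTower.algebraMap_apply A D F, ← map_mul, map_mul (algebraMap A D) t, ← e1]
      ring_nf
    have hzi : IsIntegral A z := by
      refine (isIntegral_algHom_iff θ hθi).1 ?_
      rw [hz]
      exact IsIntegral.map (IsScalarTower.toAlgHom A D F) hint
    refine ⟨t, ht, ⟨z, hzi⟩, IsFractionRing.injective D F ?_⟩
    show algebraMap D F (j _) = _
    rw [hj, hz]
  have hmem : ∀ a : A, algebraMap A D a ∈ maximalIdeal D ↔ a ∈ p := fun a => by
    have hlt : (maximalIdeal D).comap (algebraMap (Localization.AtPrime p) D) = maximalIdeal _ :=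
      eq_maximalIdeal (Ideal.isMaximal_comap_of_isIntegral_of_isMaximal _)
    show algebraMap (Localization.AtPrime p) D (algebraMap A _ a) ∈ _ ↔ _
    rw [← Ideal.mem_comap, hlt, IsLocalization.AtPrime.to_map_mem_maximal_iff _ p]
  have hker : ∀ φ : integralClosure A K →+* L, φ.comp (algebraMap A _) = f.comp (algebraMap A _) →
      ∀ b, φ b = 0 ↔ jh b ∈ maximalIdeal D := by
    intro φ hφ
    have hA : ∀ a, φ (algebraMap A _ a) = 0 ↔ a ∈ p := fun a => by
      show (φ.comp (algebraMap A _)) a = 0 ↔ _
      rw [hφ]; rfl
    have hle : RingHom.ker φ ≤ (maximalIdeal D).comap jh := fun y hy => by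
      by_contra hn
      have hu : IsUnit (jh y) := notMem_maximalIdeal.1 hn
      obtain ⟨t, ht, b, hb⟩ := hclear ↑hu.unit⁻¹
      refine ht ((hA t).1 ?_)
      have : y * b = algebraMap A _ t := hji _ _ (by
        show jh (y * b) = jh _
        rw [map_mul, hb, hjA, mul_left_comm, hu.mul_val_inv, mul_one])
      rw [← this, map_mul, show φ y = 0 from hy, zero_mul]
    haveI : (RingHom.ker φ).IsPrime := RingHom.ker_isPrime _
    have heq : RingHom.ker φ = (maximalIdeal D).comap jh := by
      rcases eq_or_lt_of_le hle with h | hlt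
      · exact h
      have := Ideal.IsIntegral.comap_lt_comap (R := A) hlt
      refine absurd (le_of_eq ?_) (not_le_of_gt this)
      ext a
      rw [Ideal.mem_comap, Ideal.mem_comap, Ideal.mem_comap, RingHom.mem_ker, hA, hjA, hmem]
    intro b
    rw [← RingHom.mem_ker, heq, Ideal.mem_comap]
  refine RingHom.ext fun b => ?_
  obtain ⟨k, a', hk⟩ := hins (jh b)
  obtain ⟨a, s, rfl⟩ := IsLocalization.exists_mk'_eq p.primeCompl a'
  let q₀ := ringExpChar (IsLocalRing.ResidueField D)
  let z : integralClosure A K := algebraMap A _ (s : A) * b ^ (q₀ ^ k) - algebraMap A _ a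
  have hz : jh z ∈ maximalIdeal D := by
    have e := Ideal.mul_mem_left _ (algebraMap A D (s : A)) hk
    convert e using 1
    rw [map_sub, map_mul, map_pow, hjA, hjA, mul_sub]
    congr 1
    show algebraMap A D a = algebraMap (Localization.AtPrime p) D (algebraMap A _ (s : A)) * _
    rw [← map_mul, IsLocalization.mk'_spec']
    rfl
  have hfz := (hker f rfl z).2 hz
  have hgz := (hker g hfg.symm z).2 hz
  have hfga : ∀ x, f (algebraMap A _ x) = g (algebraMap A _ x) := fun x => RingHom.congr_fun hfg x
  simp only [z, map_sub, map_mul, map_pow] at hfz hgz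
  rw [← hfga, ← hfga] at hgz
  have hs0 : f (algebraMap A _ (s : A)) ≠ 0 := fun h => s.2 h
  have hpow : f b ^ (q₀ ^ k) = g b ^ (q₀ ^ k) :=
    mul_left_cancel₀ hs0 ((sub_eq_zero.1 hfz).trans (sub_eq_zero.1 hgz).symm)
  have hchar : ∀ n : ℕ, (n : L) = 0 ↔ (n : IsLocalRing.ResidueField D) = 0 := fun n => by
    rw [← map_natCast f, hker f rfl, map_natCast, ← map_natCast (residue D), residue_eq_zero_iff]
  haveI : CharP L (ringChar (IsLocalRing.ResidueField D)) :=
    ⟨fun n => (hchar n).trans (CharP.cast_eq_zero_iff _ _ n)⟩
  haveI : ExpChar (IsLocalRing.ResidueField D) q₀ := ringExpChar.of_eq rfl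
  haveI : ExpChar L q₀ := by
    have hrc : ringChar L = ringChar (IsLocalRing.ResidueField D) := ringChar.eq L _
    exact ringExpChar.of_eq (by simp only [q₀, ringExpChar, hrc])
  exact iterateFrobenius_inj L q₀ k hpow

/-- Let A be a domain with integral closure A' (in its fraction field) and f : Spec A' → Spec A the
canonical morphism. Then f is radicial (universally injective) if and only if every local ring A_p
is geometrically unibranch; when this holds f is a homeomorphism. -/
theorem result {A : Type u} [CommRing A] [IsDomain A] :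
    (UniversallyInjective (Spec.map (CommRingCat.ofHom (algebraMap A (integralClosure A (FractionRing A))))) ↔
      ∀ (p : Ideal A) [p.IsPrime], CAlg2.IsGeomUnibranch (Localization.AtPrime p)) ∧
    ((∀ (p : Ideal A) [p.IsPrime], CAlg2.IsGeomUnibranch (Localization.AtPrime p)) →
      IsHomeomorph (PrimeSpectrum.comap (algebraMap A (integralClosure A (FractionRing A))))) := by
  classical
  let K := FractionRing A
  let B := integralClosure A K
  haveI : IsIntegrallyClosed B := integralClosure.isIntegrallyClosedOfFiniteExtension (K := K) (L := K)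
  have hinj : Function.Injective (algebraMap A B) := fun x y h =>
    IsFractionRing.injective A K (congrArg Subtype.val h)
  have hgu : (∀ (p : Ideal A) [p.IsPrime], CAlg2.IsGeomUnibranch (Localization.AtPrime p)) →
      MorLib.RUH.Radicial (algebraMap A B) := fun h => radicial_of_gu fun p _ => by
    haveI : IsDomain (Localization.AtPrime p) :=
      IsLocalization.isDomain_localization p.primeCompl_le_nonZeroDivisors
    obtain ⟨e⟩ := red_equiv (Localization.AtPrime p)
    exact UnivOpen.GU.of_ringEquiv e (UnivOpen.GU.of_isGeomUnibranch (h p))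
  refine ⟨⟨fun h p _ => ?_, fun h => (MorLib.RUH.universallyInjective_SpecMap_iff _).2 (hgu h)⟩, fun h => ?_⟩
  · have hr := (MorLib.RUH.universallyInjective_SpecMap_iff _).1 h
    haveI : IsDomain (Localization.AtPrime p) :=
      IsLocalization.isDomain_localization p.primeCompl_le_nonZeroDivisors
    obtain ⟨e⟩ := red_equiv (Localization.AtPrime p)
    refine UnivOpen.GU.isGeomUnibranch (UnivOpen.GU.of_ringEquiv e.symm (gu_of_prime hinj (fun b => ?_) p ?_ ?_))
    · obtain ⟨⟨a, s⟩, hs⟩ := IsLocalization.surj (nonZeroDivisors A) (b : K)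
      refine ⟨a, s, nonZeroDivisors.ne_zero s.2, Subtype.ext ?_⟩
      rw [MulMemClass.coe_mul, mul_comm]
      exact hs
    · intro q₁ q₂ h₁ h₂ e₁ e₂
      exact congrArg PrimeSpectrum.asIdeal
        (MorLib.RUH.injective_comap_of_radicial hr (a₁ := ⟨q₁, h₁⟩) (a₂ := ⟨q₂, h₂⟩)
          (PrimeSpectrum.ext (e₁.trans e₂.symm)))
    · intro q hq _ b
      exact MorLib.RUH.exists_pow_of_radicial _ hr ⟨q, hq⟩ b
  · have hint : (algebraMap A B).IsIntegral := fun b => Algebra.IsIntegral.isIntegral b
    exact isHomeomorph_iff_continuous_isClosedMap_bijective.2 ⟨PrimeSpectrum.continuous_comap _,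
      PrimeSpectrum.isClosedMap_comap_of_isIntegral _ hint,
      MorLib.RUH.injective_comap_of_radicial (hgu h), hint.comap_surjective hinj⟩

end Groth.Agent.S4567
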