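import Groth.Statements.S4568
import Mathlib
import Groth.Agent.S12124

set_option autoImplicit false
universe u
open CAlg

namespace Groth.Agent.S4568

/-- Let A be a Noetherian domain with fraction field K and A' its integral closure in K. Assume that for
every sub-A-algebra C of A' which is finite over A, every height-one prime of C lies over a
height-one prime of A. Then A' is the intersection in K of the localizations A'_p over the
height-one primes p of A. -/
theorem result {A : Type u} [CommRing A] [IsDomain A] [IsNoetherianRing A]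
    (h : ∀ C : Subalgebra A (FractionRing A), C ≤ integralClosure A (FractionRing A) → Module.Finite A C →
      ∀ (q : Ideal C) [q.IsPrime], q.height = 1 → (q.comap (algebraMap A C)).height = 1) :
    (integralClosure A (FractionRing A) : Set (FractionRing A)) =
      ⋂ (p : PrimeSpectrum A) (_ : p.asIdeal.height = 1),
        {x : FractionRing A | ∃ s : A, s ∉ p.asIdeal ∧
          algebraMap A (FractionRing A) s * x ∈ integralClosure A (FractionRing A)} := by
  classical
  apply Set.Subset.antisymm
  · intro x hx
    simp only [Set.mem_iInter]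
    exact fun p _ => ⟨1, p.asIdeal.one_notMem, by rw [map_one, one_mul]; exact hx⟩
  intro x hx
  simp only [Set.mem_iInter] at hx
  let I : Ideal A := (Submodule.comap ((LinearMap.toSpanSingleton A (FractionRing A) x))
    (Subalgebra.toSubmodule (integralClosure A (FractionRing A))))
  have hI : ∀ a, a ∈ I ↔ algebraMap A (FractionRing A) a * x ∈ integralClosure A (FractionRing A) := fun a => by
    simp [I, LinearMap.toSpanSingleton_apply, Algebra.smul_def]
  by_contra hx'
  obtain ⟨m, hm, hIm⟩ := Ideal.exists_le_maximal I (fun ht => hx' (by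
    have := (hI 1).1 (ht ▸ Submodule.mem_top)
    rwa [map_one, one_mul] at this))
  let Am := Localization.AtPrime m
  let : Algebra Am (FractionRing A) :=
    (IsLocalization.lift (M := m.primeCompl) (S := Am) (g := algebraMap A (FractionRing A)) (fun s =>
      (IsUnit.mk0 _ fun h0 => s.2 (by
        have : (s : A) = 0 := IsFractionRing.injective A (FractionRing A) (h0.trans (map_zero _).symm)
        rw [this]; exact m.zero_mem)))).toAlgebra
  have : IsScalarTower A Am (FractionRing A) := IsScalarTower.of_algebraMap_eq fun a => (IsLocalization.lift_eq _ a).symm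
  have : IsFractionRing Am (FractionRing A) :=
    IsFractionRing.isFractionRing_of_isDomain_of_isLocalization m.primeCompl Am (FractionRing A)
  have : IsDomain Am := IsLocalization.isDomain_localization m.primeCompl_le_nonZeroDivisors
  have : IsNoetherianRing Am := IsLocalization.isNoetherianRing m.primeCompl Am inferInstance
  obtain ⟨C', hfin, hle, hsep⟩ := Groth.Agent.UnibConn.exists_separating Am (FractionRing A)
  obtain ⟨G, hG⟩ : (Subalgebra.toSubmodule C').FG := Module.Finite.iff_fg.1 hfin
  have hGC : ∀ g ∈ G, g ∈ C' := fun g hg => hG.le (Submodule.subset_span hg)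
  have hscale : ∀ g ∈ G, ∃ t ∈ m.primeCompl, IsIntegral A (t • g) := fun g hg => by
    obtain ⟨⟨t, ht⟩, h'⟩ := IsIntegral.exists_multiple_integral_of_isLocalization m.primeCompl g (hle (hGC g hg))
    exact ⟨t, ht, h'⟩
  choose! t ht hint using hscale
  let T : Set (FractionRing A) := (fun g => t g • g) '' (G : Set (FractionRing A))
  let C := Algebra.adjoin A T
  have hTint : ∀ y ∈ T, IsIntegral A y := by
    rintro _ ⟨g, hg, rfl⟩; exact hint g hg
  have hCle : C ≤ integralClosure A (FractionRing A) := Algebra.adjoin_le hTint
  have : Module.Finite A C := Module.Finite.of_fg (fg_adjoin_of_finite (G.finite_toSet.image _) hTint)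
  have hCC' : C ≤ C'.restrictScalars A := Algebra.adjoin_le (by
    rintro _ ⟨g, hg, rfl⟩
    exact (C'.restrictScalars A).smul_mem (hGC g hg) _)
  let φ : C →+* C' := (Subalgebra.inclusion hCC').toRingHom
  let := φ.toAlgebra
  let S : Submonoid C := m.primeCompl.map (algebraMap A C)
  have hsurj : ∀ y ∈ C', ∃ s ∈ m.primeCompl, s • y ∈ C := by
    intro y hy
    have hy' : y ∈ Submodule.span Am (G : Set (FractionRing A)) := hG.ge hy
    induction hy' using Submodule.span_induction with
    | mem g hg => exact ⟨t g, ht g hg, Algebra.subset_adjoin ⟨g, hg, rfl⟩⟩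
    | zero => exact ⟨1, one_mem _, by rw [smul_zero]; exact C.zero_mem⟩
    | add a b ha hb iha ihb =>
      obtain ⟨s, hs, hs'⟩ := iha (hG.le ha)
      obtain ⟨s', hs1, hs1'⟩ := ihb (hG.le hb)
      refine ⟨s * s', mul_mem hs hs1, ?_⟩
      rw [smul_add, mul_comm s s', mul_smul, mul_comm s' s, mul_smul]
      exact add_mem (C.smul_mem hs' _) (C.smul_mem hs1' _)
    | smul c a ha iha =>
      obtain ⟨s, hs, hs'⟩ := iha (hG.le ha)
      obtain ⟨b, ⟨u, hu⟩, rfl⟩ := IsLocalization.exists_mk'_eq m.primeCompl c
      refine ⟨u * s, mul_mem hu hs, ?_⟩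
      have : (u * s) • IsLocalization.mk' Am b ⟨u, hu⟩ • a = b • s • a := by
        rw [mul_comm u s, mul_smul, ← algebraMap_smul Am u, ← mul_smul (algebraMap A Am u),
          IsLocalization.mk'_spec'_mk, algebraMap_smul, smul_comm]
      rw [this]
      exact C.smul_mem hs' _
  have : IsLocalization S C' := by
    refine ⟨⟨?_, ?_, ?_⟩⟩
    · rintro ⟨_, u, hu, rfl⟩
      have : φ (algebraMap A C u) = algebraMap Am C' (algebraMap A Am u) := Subtype.ext
        (IsScalarTower.algebraMap_apply A Am (FractionRing A) u)
      show IsUnit (φ (algebraMap A C u))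
      rw [this]
      exact (IsLocalization.map_units Am ⟨u, hu⟩).map _
    · rintro ⟨y, hy⟩
      obtain ⟨s, hs, hs'⟩ := hsurj y hy
      exact ⟨⟨⟨s • y, hs'⟩, ⟨_, s, hs, rfl⟩⟩, Subtype.ext (by
        show y * algebraMap A (FractionRing A) s = s • y
        rw [Algebra.smul_def, mul_comm])⟩
    · intro a b hab
      have hab' : φ a = φ b := hab
      exact ⟨1, by rw [Subalgebra.inclusion_injective hCC' hab']⟩
  have hint' : IsIntegral Am x := by
    refine S12124.partB C' hle hsep x fun p' _ hp' => ?_
    have hq : (p'.under C).height = 1 := (IsLocalization.height_under S p').trans hp'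
    have hp := h C hCle inferInstance (p'.under C) hq
    obtain ⟨s, hs, hsx⟩ := hx ⟨(p'.under C).comap (algebraMap A C), inferInstance⟩ hp
    refine ⟨φ (algebraMap A C s), hs, ?_⟩
    exact (IsIntegral.tower_top hsx : IsIntegral Am (algebraMap A (FractionRing A) s * x))
  obtain ⟨⟨u, hu⟩, hux⟩ := IsIntegral.exists_multiple_integral_of_isLocalization m.primeCompl x hint'
  refine hu (hIm ((hI u).2 ?_))
  rw [← Algebra.smul_def]
  exact hux

end Groth.Agent.S4568
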