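import Groth.Statements.S4569
import Mathlib

set_option autoImplicit false
universe u
open CAlg

namespace Groth.Agent.S4569

/-- Let A be a ring, x a non-zero-divisor of A with p = xA prime. For every n > 0 the inverse image in A
of x^n A_p is x^n A. -/
theorem result {A : Type u} [CommRing A] (x : A)
    (hx : x ∈ nonZeroDivisors A) [(Ideal.span ({x} : Set A)).IsPrime] (n : ℕ) (hn : 0 < n) :
    Ideal.comap (algebraMap A (Localization.AtPrime (Ideal.span ({x} : Set A))))
      (Ideal.map (algebraMap A (Localization.AtPrime (Ideal.span ({x} : Set A)))) (Ideal.span ({x ^ n} : Set A))) =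
      Ideal.span ({x ^ n} : Set A) := by
  classical
  apply le_antisymm
  · intro a ha
    rw [Ideal.mem_comap, IsLocalization.algebraMap_mem_map_algebraMap_iff (M := (Ideal.span {x}).primeCompl)] at ha
    obtain ⟨s, hs, hsa⟩ := ha
    have key : ∀ m : ℕ, ∀ a : A, x ^ m ∣ s * a → x ^ m ∣ a := by
      intro m
      induction m with
      | zero => intro a _; simp
      | succ m ih =>
        intro a h
        have hxa : a ∈ Ideal.span {x} := by
          refine ((inferInstance : (Ideal.span {x}).IsPrime).mem_or_mem ?_).resolve_left hs
          exact Ideal.mem_span_singleton.mpr ((dvd_pow_self x (Nat.succ_ne_zero m)).trans h)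
        obtain ⟨b, rfl⟩ := Ideal.mem_span_singleton.mp hxa
        obtain ⟨c, hc⟩ := h
        have hb : x ^ m ∣ s * b := ⟨c, by
          refine (mul_cancel_left_mem_nonZeroDivisors hx).mp ?_
          linear_combination hc⟩
        rw [pow_succ']
        exact mul_dvd_mul_left x (ih b hb)
    exact Ideal.mem_span_singleton.mpr (key n a (Ideal.mem_span_singleton.mp hsa))
  · exact Ideal.le_comap_map

end Groth.Agent.S4569
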