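import Groth.Statements.S4570
import Groth.Agent.RegFS6.JacobCrit
import Groth.Agent.S4538

set_option autoImplicit false
universe u
open TensorProduct KaehlerDifferential
open EGA41

namespace Groth.Agent.S4570

/-- Let Λ → A → B be ring homomorphisms, J an ideal of B and C = B/J, with C formally smooth over Λ for
the discrete topologies. Consider the conditions: (α) J/J² is a projective C-module; (β) the
canonical maps Sym^n_C(J/J²) → J^n/J^(n+1) are bijective for n ≥ 1; (γ') Ω_{A/Λ} ⊗_A C → Ω_{B/Λ} ⊗_B
C is injective (equivalent to the injectivity of the characteristic homomorphism used in the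
published (γ)); (δ) Ω_{B/A} ⊗_B C is a projective C-module. (i) If they hold then B, with the J-adic
topology, is formally smooth over the discrete ring A. (ii) Conversely if B is formally smooth over
A for the J-adic topology and A is formally smooth over Λ for the discrete topology, the four
conditions hold. -/
theorem result {Λ A B : Type u} [CommRing Λ]
    [CommRing A] [CommRing B] [Algebra Λ A] [Algebra A B] [Algebra Λ B] [IsScalarTower Λ A B] (J : Ideal B)
    [Algebra.FormallySmooth Λ (B ⧸ J)] :
    ((Module.Projective (B ⧸ J) J.Cotangent ∧ PP16.SymGrBijective B J ∧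
        Function.Injective ((mapBaseChange Λ A B).lTensor (B ⧸ J)) ∧
        Module.Projective (B ⧸ J) ((B ⧸ J) ⊗[B] (Ω[B⁄A]))) →
      CAlgX.IsAdicFormallySmooth A B J) ∧
    (Algebra.FormallySmooth Λ A → CAlgX.IsAdicFormallySmooth A B J →
      (Module.Projective (B ⧸ J) J.Cotangent ∧ PP16.SymGrBijective B J ∧
        Function.Injective ((mapBaseChange Λ A B).lTensor (B ⧸ J)) ∧
        Module.Projective (B ⧸ J) ((B ⧸ J) ⊗[B] (Ω[B⁄A])))) := by
    constructor
    · rintro ⟨hα, hβ, hγ, hδ⟩
      haveI := hδ
      obtain ⟨g, hg⟩ := RegFS6.exists_leftInverse_of_injective J hγ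
      exact RegFS6.fs_of_leftInverse J ((S4538.result (A := Λ) J).mpr ⟨hα, hβ⟩) g hg
    · intro hA hfs
      haveI := hA
      have hΛ : CAlgX.IsAdicFormallySmooth Λ B J := by
        intro E _ _ K hK ψ hψ
        obtain ⟨φ, hφ⟩ := Algebra.FormallySmooth.exists_lift (R := Λ) K ⟨2, by rw [hK, Ideal.zero_eq_bot]⟩
          (ψ.comp (IsScalarTower.toAlgHom Λ A B))
        letI : Algebra A E := φ.toRingHom.toAlgebra
        have hc : ∀ a, ψ (algebraMap A B a) = algebraMap A (E ⧸ K) a := fun a => (AlgHom.congr_fun hφ a).symm
        obtain ⟨w, hw⟩ := hfs E K hK { ψ.toRingHom with commutes' := hc } hψ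
        have hc' : ∀ l, w (algebraMap Λ B l) = algebraMap Λ E l := fun l => by
          rw [IsScalarTower.algebraMap_apply Λ A B, AlgHom.commutes]
          exact φ.commutes l
        exact ⟨{ w.toRingHom with commutes' := hc' }, AlgHom.ext fun b => AlgHom.congr_fun hw b⟩
      obtain ⟨hα, hβ⟩ := (S4538.result (A := Λ) J).mp hΛ
      obtain ⟨g, hg⟩ := RegFS6.exists_leftInverse_of_fs (Λ := Λ) J hfs
      exact ⟨hα, hβ, Function.LeftInverse.injective (g := g) hg, RegFS6.projective_kaehler_of_fs J hfs⟩

end Groth.Agent.S4570
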