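import Groth.Statements.S4571
import Groth.Agent.RegFS6.JacobCrit
import Groth.Agent.RegFS6.PrimeField
import Groth.Agent.S4570
import Groth.Agent.CoeffField.Smooth

set_option autoImplicit false
universe u
open TensorProduct KaehlerDifferential IsLocalRing
open EGA41

namespace Groth.Agent.S4571

/-- For an arbitrary local algebra: let k be a field and A a local k-algebra with maximal ideal m and
residue field K. Then A is formally smooth over k for the m-adic topology if and only if the
canonical maps Sym^n_K(m/m²) → m^n/m^(n+1) are bijective for n ≥ 1 and the canonical map Ω_{k/ℤ} ⊗_k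
K → Ω_{A/ℤ} ⊗_A K is injective (absolute differentials, which agree with differentials over the
prime field). -/
theorem result {k A : Type u} [Field k] [CommRing A]
    [IsLocalRing A] [Algebra k A] :
    CAlgX.IsAdicFormallySmooth k A (maximalIdeal A) ↔
      (PP16.SymGrBijective A (maximalIdeal A) ∧
        Function.Injective ((mapBaseChange ℤ k A).lTensor (ResidueField A))) := by
    obtain ⟨P, _, _, hP, hur⟩ := RegFS6.exists_primeField k
    haveI := hP
    haveI := hur
    letI : Algebra P A := ((algebraMap k A).comp (algebraMap P k)).toAlgebra
    haveI : IsScalarTower P k A := IsScalarTower.of_algebraMap_eq fun _ => rfl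
    haveI : Algebra.FormallySmooth P (A ⧸ maximalIdeal A) :=
      CoeffField.formallySmooth_of_perfectField P (ResidueField A)
    haveI : Algebra.FormallySmooth P k := CoeffField.formallySmooth_of_perfectField P k
    letI := Ideal.Quotient.field (maximalIdeal A)
    have h := S4570.result (Λ := P) (A := k) (maximalIdeal A)
    rw [RegFS6.lTensor_mapBaseChange_injective_iff ℤ P k A (ResidueField A)]
    constructor
    · intro hfs
      obtain ⟨-, hβ, hγ, -⟩ := h.2 inferInstance hfs
      exact ⟨hβ, hγ⟩
    · rintro ⟨hβ, hγ⟩
      exact h.1 ⟨Module.Projective.of_free, hβ, hγ, Module.Projective.of_free⟩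

end Groth.Agent.S4571
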