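import Groth.Statements.S4573
import Groth.Agent.RegFS6.PRadical

set_option autoImplicit false
universe u
open TensorProduct IsLocalRing
open EGA41

namespace Groth.Agent.S4573

/-- Let k be a field of characteristic exponent p and A a Noetherian local k-algebra. Then A is formally
smooth over k for the adic topology of its maximal ideal if and only if, for every finite extension
k' of k with k'^p ⊆ k, the ring k' ⊗_k A is regular. -/
theorem result {k A : Type u} [Field k] (p : ℕ)
    [ExpChar k p] [CommRing A] [IsLocalRing A] [IsNoetherianRing A] [Algebra k A] :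
    CAlgX.IsAdicFormallySmooth k A (maximalIdeal A) ↔
      ∀ (k' : Type u) [Field k'] [Algebra k k'], Module.Finite k k' →
        (∀ x : k', x ^ p ∈ (algebraMap k k').range) → IsRegularRing (k' ⊗[k] A) := by
    refine ⟨fun h k' _ _ hf _ => RegFS6.geometricallyRegular_of_fs h k' hf, fun h => ?_⟩
    haveI : IsRegularRing A := by
      haveI := h k inferInstance fun x => ⟨x ^ p, rfl⟩
      exact IsRegularRing.of_ringEquiv (Algebra.TensorProduct.lid k A).toRingEquiv
    haveI : IsRegularLocalRing A := IsRegularLocalRing.of_isRegularRing_of_isLocalRing A
    rcases ‹ExpChar k p› with _ | ⟨hprime⟩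
    · exact RegFS6.fs_of_regular k A
    · haveI := Fact.mk hprime
      haveI : CharP A p := charP_of_injective_algebraMap (algebraMap k A).injective p
      let P := ULift.{u} (ZMod p)
      haveI : Finite P := Finite.of_equiv _ Equiv.ulift.symm
      haveI : PerfectField P := PerfectField.ofFinite
      letI : Algebra P k := ((ZMod.castHom dvd_rfl k).comp (ULift.ringEquiv (R := ZMod p)).toRingHom).toAlgebra
      exact RegFS6.fs_of_derivation_extend P fun F _ _ _ _ hF δ => RegFS6.exists_derivation_extend p h hF δ

end Groth.Agent.S4573
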