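import Groth.Statements.S4575
import Groth.Agent.CotTLib.RegSurj

set_option autoImplicit false
universe u
open IsLocalRing
open EGA41

namespace Groth.Agent.S4575

/-- Let R be a regular local ring with maximal ideal m and n a proper ideal with R/n regular. Then
(n/n²) ⊗_R K → (m/m²) ⊗_R K is injective, K the residue field; stated in the equivalent form n ∩ m²
= m·n (the kernel of n/mn → m/m² is (n ∩ m²)/mn). -/
theorem result {R : Type u} [CommRing R] [IsRegularLocalRing R]
    (n : Ideal R) (hn : n ≠ ⊤) (hreg : IsRegularRing (R ⧸ n)) :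
    n ⊓ maximalIdeal R ^ 2 = maximalIdeal R * n := by
  haveI : Nontrivial (R ⧸ n) := Ideal.Quotient.nontrivial_iff.mpr hn
  haveI : IsLocalRing (R ⧸ n) := IsLocalRing.of_surjective' (Ideal.Quotient.mk n) Ideal.Quotient.mk_surjective
  haveI : IsRegularLocalRing (R ⧸ n) := IsRegularLocalRing.of_isRegularRing_of_isLocalRing (R := R ⧸ n)
  have h := (CotTLib.regSurj _ R (R ⧸ n) (Ideal.Quotient.mk n) Ideal.Quotient.mk_surjective le_rfl).1
  rw [Ideal.mk_ker] at h
  refine le_antisymm h (le_inf Ideal.mul_le_right ?_)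
  rw [pow_two]
  exact Ideal.mul_mono le_rfl (IsLocalRing.le_maximalIdeal hn)

end Groth.Agent.S4575
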