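import Groth.Statements.S4577
import Groth.Agent.EGA41Lib.LeftInv
import Mathlib.RingTheory.Smooth.Basic
import Mathlib.RingTheory.Etale.Kaehler
import Mathlib.RingTheory.LocalProperties.Submodule
import Mathlib.Algebra.Module.LocalizedModule.Exact

set_option autoImplicit false
set_option backward.isDefEq.respectTransparency false
universe u
open EGA41

namespace Groth.Agent.S4577

/-- Let B be a formally smooth A-algebra (discrete topologies) and C = B/J a quotient with J/J² finitely
generated. Then C is formally smooth over A if and only if C_m is formally smooth over A for every
maximal ideal m of C (hence also if and only if every C_p, p prime, is). (Not stated: the variant of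
the localised condition with C_m formally smooth over A_q, q the contraction of m to A, and the
further assertion that for B Noetherian the discrete topologies in the localised condition may be
replaced by the adic ones.) -/
theorem result {A B C : Type u} [CommRing A] [CommRing B] [CommRing C]
    [Algebra A B] [Algebra B C] [Algebra A C] [IsScalarTower A B C] [Algebra.FormallySmooth A B]
    (hsurj : Function.Surjective (algebraMap B C)) [Module.Finite B (RingHom.ker (algebraMap B C)).Cotangent] :
    Algebra.FormallySmooth A C ↔
      ∀ (m : Ideal C) [m.IsMaximal], Algebra.FormallySmooth A (Localization.AtPrime m) := by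
  constructor
  · intro h m _
    infer_instance
  intro h
  let P : Algebra.Extension A C := ⟨B, Function.surjInv hsurj, Function.surjInv_eq hsurj⟩
  haveI : Algebra.FormallySmooth A P.Ring := ‹Algebra.FormallySmooth A B›
  let e : P.ker.Cotangent ≃ₗ[P.Ring] P.Cotangent :=
    { __ := AddEquiv.refl _, map_smul' r m := by ext1; simp; rfl }
  haveI : Module.Finite P.Ring P.ker.Cotangent := ‹Module.Finite B (RingHom.ker (algebraMap B C)).Cotangent›
  haveI : Module.Finite P.Ring P.Cotangent := Module.Finite.equiv e
  haveI : Module.Finite C P.Cotangent := Module.Finite.of_restrictScalars_finite P.Ring C _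
  haveI : Module.Projective C P.CotangentSpace :=
    inferInstanceAs (Module.Projective C (TensorProduct B C Ω[B⁄A]))
  have hinj : Function.Injective P.cotangentComplex := by
    rw [P.cotangentComplex_injective_iff]
    refine Module.subsingleton_of_localization_maximal (R := C)
      (fun (m : Ideal C) _ => Algebra.H1Cotangent A (Localization.AtPrime m))
      (fun m _ => Algebra.H1Cotangent.map A A C (Localization.AtPrime m)) fun m _ => ?_
    haveI := h m
    infer_instance
  refine (Algebra.Extension.formallySmooth_iff_split_injection P).mpr
    (EGA41Lib.exists_leftInverse_of_forall_maximal P.cotangentComplex fun m _ => ?_)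
  haveI := h m
  let S := m.primeCompl
  let f₀ := LocalizedModule.mkLinearMap S P.Cotangent
  let f₁ := LocalizedModule.mkLinearMap S P.CotangentSpace
  let f₂ := KaehlerDifferential.map A A C (Localization.AtPrime m)
  let ι := IsLocalizedModule.map S f₀ f₁ P.cotangentComplex
  let π := IsLocalizedModule.map S f₁ f₂ P.toKaehler
  have hι : Function.Injective ι := IsLocalizedModule.map_injective S f₀ f₁ _ hinj
  have hex : Function.Exact ι π :=
    IsLocalizedModule.map_exact S f₀ f₁ f₂ _ _ Algebra.Extension.exact_cotangentComplex_toKaehler
  have hπ : Function.Surjective π := IsLocalizedModule.map_surjective S f₁ f₂ _ P.toKaehler_surjective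
  let π' := π.extendScalarsOfIsLocalization S (Localization.AtPrime m)
  obtain ⟨t, ht⟩ := Module.projective_lifting_property π' LinearMap.id hπ
  let q : LocalizedModule S P.CotangentSpace →ₗ[C] LocalizedModule S P.CotangentSpace :=
    { toFun := fun y => y - t (π y)
      map_add' := fun a b => by
        simp only [map_add]
        abel
      map_smul' := fun c a => by
        simp only [map_smul, RingHom.id_apply, LinearMap.map_smul_of_tower, smul_sub] }
  have hmem : ∀ y : LocalizedModule S P.CotangentSpace, q y ∈ LinearMap.range ι := by
    intro y
    refine (hex _).mp ?_
    show π (y - t (π y)) = 0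
    rw [map_sub, show π (t (π y)) = π y from LinearMap.congr_fun ht (π y), sub_self]
  refine EGA41Lib.lTensor_injective_of_localized_leftInverse P.cotangentComplex S m le_rfl
    (w := (LinearEquiv.ofInjective ι hι).symm.toLinearMap.comp
      (q.codRestrict _ hmem)) ?_
  refine LinearMap.ext fun x => ?_
  rw [LinearMap.comp_apply, LinearMap.comp_apply, LinearMap.id_apply, LinearEquiv.coe_coe, LinearEquiv.symm_apply_eq]
  apply Subtype.ext
  have hx : LocalizedModule.map S P.cotangentComplex x = ι x := by
    induction x using LocalizedModule.induction_on with
    | _ z s =>
      rw [LocalizedModule.map_mk]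
      simp only [ι, f₀, f₁, IsLocalizedModule.mk_eq_mk', IsLocalizedModule.map_mk']
  show LocalizedModule.map S P.cotangentComplex x - t (π (LocalizedModule.map S P.cotangentComplex x)) =
    ι x
  rw [hx, hex.apply_apply_eq_zero, map_zero]
  refine sub_eq_iff_eq_add.mpr ?_
  exact (add_zero _).symm

end Groth.Agent.S4577
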