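import Groth.Statements.S4579
import Groth.Agent.S4577
import Groth.Agent.S4578
import Groth.Agent.SmoothingLib.GeomRegDiff

set_option autoImplicit false
universe u
open EGA41

namespace Groth.Agent.S4579

open TensorProduct in
/-- Geometric regularity may be tested on the local rings at maximal ideals. -/
theorem isGeometricallyRegular_of_forall_maximal {k C : Type u} [Field k] [CommRing C] [IsNoetherianRing C]
    [Algebra k C]
    (h : ∀ (m : Ideal C) (_ : m.IsMaximal), CAlg.IsGeometricallyRegular k (Localization.AtPrime m)) :
    CAlg.IsGeometricallyRegular k C := by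
  intro k' _ _ hf
  let T := k' ⊗[k] C
  letI : Algebra C T := Algebra.TensorProduct.rightAlgebra
  haveI : Module.Finite C T := Module.Finite.of_equiv_equiv (RingEquiv.refl C)
    (Algebra.TensorProduct.comm k C k').toRingEquiv (RingHom.ext fun x => rfl)
  haveI : IsNoetherianRing T := IsNoetherianRing.of_finite C T
  refine { isRegularLocalRing_localization := fun Q hQ => ?_ }
  let p := Q.comap (Algebra.TensorProduct.includeRight : C →ₐ[k] T).toRingHom
  haveI : p.IsPrime := Ideal.IsPrime.comap _
  obtain ⟨m, hm, hle⟩ := Ideal.exists_le_maximal p (Ideal.IsPrime.ne_top inferInstance)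
  haveI := h m hm k' hf
  let T' := k' ⊗[k] Localization.AtPrime m
  letI : Algebra T T' :=
    (Algebra.TensorProduct.map (AlgHom.id k' k') (IsScalarTower.toAlgHom k C (Localization.AtPrime m))).toRingHom.toAlgebra
  haveI : IsScalarTower k' T T' := IsScalarTower.of_algebraMap_eq fun c =>
    ((Algebra.TensorProduct.map (AlgHom.id k' k') (IsScalarTower.toAlgHom k C (Localization.AtPrime m))).commutes c).symm
  let M := m.primeCompl.map (Algebra.TensorProduct.includeRight (R := k) (A := k') (B := C))
  haveI : IsLocalization M T' :=
    IsLocalization.tensorProduct_tensorProduct_right (A := C) k k' m.primeCompl (Localization.AtPrime m)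
      (RingHom.ext fun x => by
        show Algebra.TensorProduct.map (AlgHom.id k' k') (IsScalarTower.toAlgHom k C (Localization.AtPrime m)) (1 ⊗ₜ x) = _
        simp)
  have hd : Disjoint (M : Set T) (Q : Set T) := Set.disjoint_left.2 fun x hxM hxQ => by
    obtain ⟨c, hc, rfl⟩ := hxM
    exact hc (hle hxQ)
  let Q' : Ideal T' := Q.map (algebraMap T T')
  haveI : Q'.IsPrime := IsLocalization.isPrime_of_isPrime_disjoint M T' Q hQ hd
  have hcomap : Q'.comap (algebraMap T T') = Q := IsLocalization.comap_map_of_isPrime_disjoint M T' hQ hd
  haveI : IsLocalization Q.primeCompl (Localization.AtPrime Q') := by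
    have := IsLocalization.isLocalization_isLocalization_atPrime_isLocalization M (Localization.AtPrime Q') Q'
    convert this using 2
    exact hcomap.symm
  have hreg : IsRegularLocalRing (Localization.AtPrime Q') := IsRegularRing.isRegularLocalRing_localization Q'
  exact @IsRegularLocalRing.of_ringEquiv (Localization.AtPrime Q') _ hreg (Localization.AtPrime Q) _
    (IsLocalization.algEquiv Q.primeCompl (Localization.AtPrime Q') (Localization.AtPrime Q)).toRingEquiv

/-- Let k₀ be a field, k a separable (formally smooth) extension field of k₀ and C a k-algebra of finite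
type. The following are equivalent: C is formally smooth over k₀ (discrete topologies); every C_p, p
prime, is formally smooth over k₀; every C_m, m maximal, is; C is geometrically regular over k₀.
(Geometric regularity is tested on finite extensions of k₀. The published statement quantifies the
last condition over all extensions k' of k₀; for infinite ones the base change need not be
Noetherian, so it need not be regular in the Noetherian sense, and the printed proof passes through
the local rings as here.) -/
theorem result {k₀ k C : Type u} [Field k₀] [Field k] [Algebra k₀ k]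
    [Algebra.FormallySmooth k₀ k] [CommRing C] [Algebra k C] [Algebra k₀ C] [IsScalarTower k₀ k C]
    [Algebra.FiniteType k C] :
    [Algebra.FormallySmooth k₀ C,
     ∀ (p : Ideal C) [p.IsPrime], Algebra.FormallySmooth k₀ (Localization.AtPrime p),
     ∀ (m : Ideal C) [m.IsMaximal], Algebra.FormallySmooth k₀ (Localization.AtPrime m),
     CAlg.IsGeometricallyRegular k₀ C].TFAE := by
  haveI : IsNoetherianRing C := Algebra.FiniteType.isNoetherianRing k C
  tfae_have 1 → 2 := fun h p _ => by
    haveI : Algebra.FormallySmooth C (Localization.AtPrime p) :=
      Algebra.FormallySmooth.of_isLocalization p.primeCompl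
    exact Algebra.FormallySmooth.comp k₀ C _
  tfae_have 2 → 3 := fun h m hm => @h m hm.isPrime
  tfae_have 3 → 1 := fun h => by
    obtain ⟨n, π, hπ⟩ := Algebra.FiniteType.iff_quotient_mvPolynomial''.mp ‹Algebra.FiniteType k C›
    letI : Algebra (MvPolynomial (Fin n) k) C := π.toRingHom.toAlgebra
    haveI : Algebra.FormallySmooth k₀ (MvPolynomial (Fin n) k) := Algebra.FormallySmooth.comp k₀ k _
    haveI : IsScalarTower k₀ (MvPolynomial (Fin n) k) C := IsScalarTower.of_algebraMap_eq fun x => by
      rw [IsScalarTower.algebraMap_apply k₀ k (MvPolynomial (Fin n) k), IsScalarTower.algebraMap_apply k₀ k C]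
      exact (π.commutes _).symm
    haveI : Module.Finite (MvPolynomial (Fin n) k) (RingHom.ker (algebraMap (MvPolynomial (Fin n) k) C)).Cotangent :=
      haveI := Module.Finite.of_fg (IsNoetherian.noetherian (RingHom.ker (algebraMap (MvPolynomial (Fin n) k) C)))
      Module.Finite.of_surjective _ (Ideal.toCotangent_surjective (RingHom.ker (algebraMap (MvPolynomial (Fin n) k) C)))
    exact (Groth.Agent.S4577.result (A := k₀) (B := MvPolynomial (Fin n) k) (C := C) hπ).2 h
  tfae_have 4 → 3 := fun h m hm => by
    haveI := hm.isPrime
    exact ((Groth.Agent.S4578.result (k₀ := k₀) (k := k) m).out 0 3).2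
      (Groth.Agent.SmoothingLib.GeomDiff.isGeometricallyRegular_of_isLocalization h m.primeCompl _)
  tfae_have 3 → 4 := fun h => isGeometricallyRegular_of_forall_maximal fun m hm => by
    haveI := hm.isPrime
    exact ((Groth.Agent.S4578.result (k₀ := k₀) (k := k) m).out 0 3).1 (h m)
  tfae_finish

end Groth.Agent.S4579
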