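import Groth.Statements.S4580
import Groth.Agent.EGA41Lib.LeftInv
import Mathlib.RingTheory.Smooth.Basic
import Mathlib.RingTheory.Etale.Kaehler
import Mathlib.RingTheory.LocalRing.Module
import Mathlib.LinearAlgebra.Matrix.NonsingularInverse
import Mathlib.RingTheory.Localization.Ideal
import Mathlib.RingTheory.Polynomial.Basic

set_option autoImplicit false
universe u
open EGA41
open scoped TensorProduct

namespace Groth.Agent.S4580

set_option maxHeartbeats 1000000 in
/-- Let k₀ be a field, k a separable (formally smooth) extension field of k₀, B = k[T_1, ..., T_r], J an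
ideal of B and q a prime of B containing J, with image p in C = B/J. Then C_p is formally smooth
over k₀ for the discrete topologies if and only if there exist f_1, ..., f_m ∈ J whose images
generate J B_q and k₀-derivations D_1, ..., D_m of B with det(D_j f_i) ∉ q. -/
theorem result {k₀ k : Type u} [Field k₀] [Field k] [Algebra k₀ k]
    [Algebra.FormallySmooth k₀ k] (r : ℕ) (J q : Ideal (MvPolynomial (Fin r) k)) [q.IsPrime] (hJq : J ≤ q)
    [(q.map (Ideal.Quotient.mk J)).IsPrime] :
    Algebra.FormallySmooth k₀ (Localization.AtPrime (q.map (Ideal.Quotient.mk J))) ↔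
      ∃ (m : ℕ) (f : Fin m → MvPolynomial (Fin r) k) (D : Fin m → Derivation k₀ (MvPolynomial (Fin r) k) (MvPolynomial (Fin r) k)),
        (∀ i, f i ∈ J) ∧
        J.map (algebraMap (MvPolynomial (Fin r) k) (Localization.AtPrime q)) =
          Ideal.span (Set.range fun i => algebraMap (MvPolynomial (Fin r) k) (Localization.AtPrime q) (f i)) ∧
        Matrix.det (Matrix.of fun i j => D j (f i)) ∉ q := by
  have hp : q = (q.map (Ideal.Quotient.mk J)).comap (Ideal.Quotient.mk J) := by
    rw [Ideal.comap_map_of_surjective _ Ideal.Quotient.mk_surjective, ← RingHom.ker_eq_comap_bot,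
      Ideal.mk_ker, sup_eq_left.mpr hJq]
  set p := q.map (Ideal.Quotient.mk J) with hpdef
  let P := MvPolynomial (Fin r) k
  let S := Localization.AtPrime q
  let L := Localization.AtPrime p
  letI algSL : Algebra S L := (Localization.localRingHom q p (Ideal.Quotient.mk J) hp).toAlgebra
  haveI : IsScalarTower P S L := IsScalarTower.of_algebraMap_eq fun x => by
    rw [RingHom.algebraMap_toAlgebra, Localization.localRingHom_to_map]
    exact IsScalarTower.algebraMap_apply P (P ⧸ J) L x
  haveI : IsScalarTower k₀ S L := IsScalarTower.of_algebraMap_eq fun c => by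
    rw [IsScalarTower.algebraMap_apply k₀ P S, IsScalarTower.algebraMap_apply k₀ P L,
      ← IsScalarTower.algebraMap_apply P S L]
  have hsurj : Function.Surjective (algebraMap S L) := by
    intro z
    obtain ⟨a, ⟨s, hs⟩, rfl⟩ := IsLocalization.exists_mk'_eq p.primeCompl z
    obtain ⟨a, rfl⟩ := Ideal.Quotient.mk_surjective a
    obtain ⟨s, rfl⟩ := Ideal.Quotient.mk_surjective s
    refine ⟨IsLocalization.mk' S a (⟨s, fun h => hs (hp.le h)⟩ : q.primeCompl), ?_⟩
    rw [RingHom.algebraMap_toAlgebra, Localization.localRingHom_mk']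
  set I := RingHom.ker (algebraMap S L) with hIdef
  have hI : I = J.map (algebraMap P S) := by
    refine le_antisymm (fun z hz => ?_) (Ideal.map_le_iff_le_comap.mpr fun a ha => ?_)
    · obtain ⟨a, s, rfl⟩ := IsLocalization.exists_mk'_eq q.primeCompl z
      rw [hIdef, RingHom.mem_ker, RingHom.algebraMap_toAlgebra, Localization.localRingHom_mk',
        IsLocalization.mk'_eq_zero_iff] at hz
      obtain ⟨⟨t, ht⟩, hta⟩ := hz
      obtain ⟨t, rfl⟩ := Ideal.Quotient.mk_surjective t
      have hta' : t * a ∈ J := Ideal.Quotient.eq_zero_iff_mem.mp (by rw [map_mul]; exact hta)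
      rw [IsLocalization.mk'_mem_map_algebraMap_iff q.primeCompl]
      exact ⟨t, fun h => ht (Ideal.mem_map_of_mem _ h), hta'⟩
    · rw [Ideal.mem_comap, hIdef, RingHom.mem_ker, ← IsScalarTower.algebraMap_apply,
        IsScalarTower.algebraMap_apply P (P ⧸ J) L]
      exact (congrArg _ (Ideal.Quotient.eq_zero_iff_mem.mpr ha)).trans (map_zero _)
  haveI : Algebra.FormallySmooth k₀ P := Algebra.FormallySmooth.comp k₀ k P
  haveI : Algebra.FormallySmooth P S := Algebra.FormallySmooth.of_isLocalization q.primeCompl
  haveI : Algebra.FormallySmooth k₀ S := Algebra.FormallySmooth.comp k₀ P S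
  rw [Algebra.FormallySmooth.iff_split_injection (R := k₀) (P := S) (A := L) hsurj]
  let K := KaehlerDifferential.kerCotangentToTensor k₀ S L
  have hmemI : ∀ a ∈ J, algebraMap P S a ∈ I := fun a ha => hI.ge (Ideal.mem_map_of_mem _ ha)
  constructor
  · rintro ⟨l, hl⟩
    obtain ⟨t, ht⟩ := IsNoetherian.noetherian J
    let κ := q.ResidueField
    let cl : {a // a ∈ J} → I.Cotangent := fun a => I.toCotangent ⟨_, hmemI a.1 a.2⟩
    have hcl : Submodule.span S (Set.range cl) = ⊤ := by
      rw [eq_top_iff]
      rintro z -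
      obtain ⟨⟨z, hz⟩, rfl⟩ := I.toCotangent_surjective z
      have hz' : z ∈ Submodule.span S (algebraMap P S '' J) := by rw [hI] at hz; exact hz
      induction hz' using Submodule.span_induction with
      | mem x hx => obtain ⟨a, ha, rfl⟩ := hx; exact Submodule.subset_span ⟨⟨a, ha⟩, rfl⟩
      | zero =>
        rw [show (⟨0, hz⟩ : I) = 0 from rfl, map_zero]
        exact zero_mem _
      | add x y hx hy ihx ihy =>
        have hxI : x ∈ I := hI.ge hx
        have hyI : y ∈ I := hI.ge hy
        rw [show (⟨x + y, hz⟩ : I) = ⟨x, hxI⟩ + ⟨y, hyI⟩ from rfl, map_add]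
        exact add_mem (ihx hxI) (ihy hyI)
      | smul c x hx ihx =>
        have hxI : x ∈ I := hI.ge hx
        rw [show (⟨c • x, hz⟩ : I) = c • (⟨x, hxI⟩ : I) from rfl, map_smul]
        exact Submodule.smul_mem _ c (ihx hxI)
    haveI : Module.Finite S I.Cotangent :=
      Module.Finite.of_surjective I.toCotangent I.toCotangent_surjective
    let g : {a // a ∈ J} → κ ⊗[S] I.Cotangent := fun a => (1 : κ) ⊗ₜ[S] cl a
    have hg : Submodule.span κ (Set.range g) = ⊤ := by
      rw [eq_top_iff]
      rintro z -
      induction z with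
      | zero => exact zero_mem _
      | add a b ha hb => exact add_mem ha hb
      | tmul c x =>
        have hx : x ∈ Submodule.span S (Set.range cl) := hcl ▸ trivial
        induction hx using Submodule.span_induction generalizing c with
        | mem y hy =>
          obtain ⟨a, rfl⟩ := hy
          rw [show c ⊗ₜ[S] cl a = c • g a by simp [g, TensorProduct.smul_tmul']]
          exact Submodule.smul_mem _ _ (Submodule.subset_span ⟨a, rfl⟩)
        | zero => simp
        | add y z _ _ hy hz => rw [TensorProduct.tmul_add]; exact add_mem (hy c) (hz c)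
        | smul s y _ hy => rw [← TensorProduct.smul_tmul]; exact hy (s • c)
    obtain ⟨B0, hsub, hsp, hlin⟩ := exists_linearIndependent κ (Set.range g)
    rw [hg] at hsp
    have hfin : B0.Finite := hlin.set_finite_of_isNoetherian
    letI : Fintype B0 := hfin.fintype
    let b : Module.Basis (Fin (Fintype.card B0)) κ (κ ⊗[S] I.Cotangent) :=
      (Module.Basis.mk hlin (by rw [Subtype.range_coe, hsp])).reindex (Fintype.equivFin B0)
    choose pre hpre using fun i => (show b i ∈ Set.range g by
      simp only [b, Module.Basis.reindex_apply, Module.Basis.mk_apply]; exact hsub (Subtype.coe_prop _))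
    have hgen : Submodule.span S (Set.range fun i => cl (pre i)) = ⊤ :=
      IsLocalRing.span_eq_top_of_tmul_eq_basis (R := S) (fun i => cl (pre i)) b hpre
    have hspan : I ≤ Ideal.span (Set.range fun i => algebraMap P S (pre i).1) := by
      set T := Ideal.span (Set.range fun i => algebraMap P S (pre i).1) with hT
      refine Submodule.le_of_le_smul_of_le_jacobson_bot (IsNoetherian.noetherian I) (I := I)
        ((IsLocalRing.le_maximalIdeal (RingHom.ker_ne_top _)).trans (IsLocalRing.maximalIdeal_le_jacobson _)) ?_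
      intro z hz
      have hz1 : I.toCotangent ⟨z, hz⟩ ∈ Submodule.span S (Set.range fun i => cl (pre i)) := hgen ▸ trivial
      have hrange : Set.range (fun i => cl (pre i)) =
          I.toCotangent '' Set.range (fun i => (⟨_, hmemI _ (pre i).2⟩ : I)) := by
        rw [← Set.range_comp]; rfl
      rw [hrange, Submodule.span_image, Submodule.mem_map] at hz1
      obtain ⟨y, hy, hy'⟩ := hz1
      have hy2 : (y : S) ∈ T := by
        clear hy'
        induction hy using Submodule.span_induction with
        | mem x hx => obtain ⟨i, rfl⟩ := hx; exact Ideal.subset_span ⟨i, rfl⟩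
        | zero => exact T.zero_mem
        | add x y _ _ hx hy => exact T.add_mem hx hy
        | smul c x _ hx => exact T.mul_mem_left c hx
      have hsq : z - y ∈ I ^ 2 := (I.toCotangent_eq).mp hy'.symm
      rw [pow_two] at hsq
      rw [Submodule.mem_sup]
      exact ⟨y, hy2, z - y, hsq, by ring⟩
    haveI : IsScalarTower P S κ :=
      IsScalarTower.of_algebraMap_eq fun _ => rfl
    let θ0 : Ω[P⁄k₀] →ₗ[P] κ ⊗[S] I.Cotangent :=
      ((TensorProduct.mk S κ I.Cotangent 1) ∘ₗ l ∘ₗ (TensorProduct.mk S L Ω[S⁄k₀] 1)).restrictScalars P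
        ∘ₗ KaehlerDifferential.map k₀ k₀ P S
    have hθ : ∀ i, θ0.liftBaseChange κ ((1 : κ) ⊗ₜ[P] KaehlerDifferential.D k₀ P (pre i).1) = b i := by
      intro i
      rw [LinearMap.liftBaseChange_tmul, one_smul]
      simp only [θ0, LinearMap.comp_apply, LinearMap.coe_restrictScalars, TensorProduct.mk_apply,
        KaehlerDifferential.map_D]
      have hK : K (cl (pre i)) = (1 : L) ⊗ₜ[S] KaehlerDifferential.D k₀ S (algebraMap P S (pre i).1) :=
        KaehlerDifferential.kerCotangentToTensor_toCotangent k₀ S L _
      rw [← hK, ← hpre i]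
      exact congrArg (fun y => (1 : κ) ⊗ₜ[S] y) (LinearMap.congr_fun hl _)
    have hind : LinearIndependent κ (fun i => (1 : κ) ⊗ₜ[P] KaehlerDifferential.D k₀ P (pre i).1) := by
      refine LinearIndependent.of_comp (θ0.liftBaseChange κ) ?_
      simpa [Function.comp_def, hθ] using b.linearIndependent
    obtain ⟨φ, hφ⟩ := EGA41Lib.exists_det_notMem q _ hind
    exact ⟨_, fun i => (pre i).1, fun j => (φ j).compDer (KaehlerDifferential.D k₀ P),
      fun i => (pre i).2, (hI ▸ le_antisymm hspan (Ideal.span_le.mpr fun _ ⟨i, hi⟩ => hi ▸ hmemI _ (pre i).2)), hφ⟩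
  · rintro ⟨m, f, D, hf, hJf, hdet⟩
    let ψ : Fin m → (Ω[S⁄k₀] →ₗ[S] L) := fun j =>
      (KaehlerDifferential.isBaseChange_of_formallyEtale k₀ P S).lift
        ((IsScalarTower.toAlgHom P P L).toLinearMap ∘ₗ (D j).liftKaehlerDifferential)
    let Φ : L ⊗[S] Ω[S⁄k₀] →ₗ[S] (Fin m → L) := ((LinearMap.pi ψ).liftBaseChange L).restrictScalars S
    let G : Matrix (Fin m) (Fin m) L := (Matrix.of fun i j => D j (f i)).map (algebraMap P L)
    have hG : IsUnit G.det := by
      rw [show G = (algebraMap P L).mapMatrix (Matrix.of fun i j => D j (f i)) from rfl, ← RingHom.map_det,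
        IsScalarTower.algebraMap_apply P (P ⧸ J) L]
      refine IsLocalization.map_units L (⟨_, ?_⟩ : p.primeCompl)
      intro h
      exact hdet (hp.ge h)
    let c : Fin m → I.Cotangent := fun i => I.toCotangent ⟨_, hmemI _ (hf i)⟩
    have hkill : ∀ i, I ≤ LinearMap.ker (LinearMap.toSpanSingleton S I.Cotangent (c i)) := by
      intro i a ha
      rw [LinearMap.mem_ker, LinearMap.toSpanSingleton_apply, ← map_smul, Ideal.toCotangent_eq_zero, pow_two]
      exact Ideal.mul_mem_mul ha (hmemI _ (hf i))
    let eL : (S ⧸ I) ≃ₐ[S] L := Ideal.quotientKerAlgEquivOfSurjective (f := Algebra.ofId S L) hsurj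
    let γ : Fin m → (L →ₗ[S] I.Cotangent) := fun i =>
      Submodule.liftQ I (LinearMap.toSpanSingleton S I.Cotangent (c i)) (hkill i) ∘ₗ eL.symm.toLinearMap
    let l : L ⊗[S] Ω[S⁄k₀] →ₗ[S] I.Cotangent :=
      (∑ i, γ i ∘ₗ LinearMap.proj i) ∘ₗ (G⁻¹.vecMulLinear).restrictScalars S ∘ₗ Φ
    refine ⟨l, ?_⟩
    have hgenf : ∀ i, l (K (c i)) = c i := by
      intro i
      have hK : K (c i) = (1 : L) ⊗ₜ[S] KaehlerDifferential.D k₀ S (algebraMap P S (f i)) :=
        KaehlerDifferential.kerCotangentToTensor_toCotangent k₀ S L _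
      have hΦ : Φ (K (c i)) = Matrix.vecMul (Pi.single i 1) G := by
        rw [hK]
        ext j
        simp only [Φ, LinearMap.coe_restrictScalars, LinearMap.liftBaseChange_tmul, one_smul,
          LinearMap.pi_apply, Matrix.single_one_vecMul]
        rw [← KaehlerDifferential.map_D k₀ k₀ P S]
        simp only [ψ, IsBaseChange.lift_eq, LinearMap.comp_apply]
        erw [Derivation.liftKaehlerDifferential_comp_D]
        simp [G, Matrix.row]
      have hv : Matrix.vecMul (Matrix.vecMul (Pi.single i 1) G) G⁻¹ = Pi.single i 1 := by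
        rw [Matrix.vecMul_vecMul, Matrix.mul_nonsing_inv G hG, Matrix.vecMul_one]
      simp only [l, LinearMap.comp_apply, LinearMap.coe_restrictScalars, LinearMap.coe_sum,
        Finset.sum_apply, LinearMap.proj_apply]
      rw [hΦ]
      simp only [Matrix.vecMulLinear_apply]
      rw [hv]
      rw [Finset.sum_eq_single i]
      · have h1 : eL.symm (1 : L) = Submodule.Quotient.mk (1 : S) := map_one _
        rw [Pi.single_eq_same]
        show Submodule.liftQ I (LinearMap.toSpanSingleton S I.Cotangent (c i)) (hkill i) (eL.symm (1 : L)) = c i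
        rw [h1, Submodule.liftQ_apply, LinearMap.toSpanSingleton_apply, one_smul]
      · intro j _ hj
        rw [Pi.single_eq_of_ne hj, map_zero]
      · exact fun h => absurd (Finset.mem_univ i) h
    refine LinearMap.ext fun z => ?_
    obtain ⟨⟨z, hz⟩, rfl⟩ := I.toCotangent_surjective z
    have hz' : z ∈ Submodule.span S (Set.range fun i => algebraMap P S (f i)) := by
      rw [← Ideal.span, ← hJf, ← hI]; exact hz
    have hle : Submodule.span S (Set.range fun i => algebraMap P S (f i)) ≤ I := by
      rw [← Ideal.span, ← hJf, ← hI]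
    induction hz' using Submodule.span_induction with
    | mem x hx => obtain ⟨i, rfl⟩ := hx; exact hgenf i
    | zero => rw [show (⟨0, hz⟩ : I) = 0 from rfl, map_zero, map_zero, map_zero]
    | add x y hx hy ihx ihy =>
      rw [show (⟨x + y, hz⟩ : I) = ⟨x, hle hx⟩ + ⟨y, hle hy⟩ from rfl, map_add, map_add, map_add,
        ihx (hle hx), ihy (hle hy)]
    | smul a x hx ihx =>
      rw [show (⟨a • x, hz⟩ : I) = a • (⟨x, hle hx⟩ : I) from rfl, map_smul, map_smul, map_smul,
        ihx (hle hx)]

end Groth.Agent.S4580
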