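import Groth.Statements.S4582
import Groth.Agent.RegFS6.LocCrit
import Groth.Agent.CplFib6.GRing

set_option autoImplicit false
universe u
open IsLocalRing
open EGA41

namespace Groth.Agent.S4582

/-- Let A be a complete Noetherian local ring, p a prime of A, B = A_p, B̂ the completion of B, q a
prime of B̂ and r its contraction to B. Then B̂_q is formally smooth over B_r for the adic
topologies of the maximal ideals. -/
theorem result {A : Type u} [CommRing A]
    [IsLocalRing A] [IsNoetherianRing A] [IsAdicComplete (maximalIdeal A) A] (p : Ideal A) [p.IsPrime]
    (q : Ideal (AdicCompletion (maximalIdeal (Localization.AtPrime p)) (Localization.AtPrime p))) [q.IsPrime]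
    [Algebra (Localization.AtPrime (q.comap (algebraMap (Localization.AtPrime p)
        (AdicCompletion (maximalIdeal (Localization.AtPrime p)) (Localization.AtPrime p)))))
      (Localization.AtPrime q)]
    [IsScalarTower (Localization.AtPrime p)
      (Localization.AtPrime (q.comap (algebraMap (Localization.AtPrime p)
        (AdicCompletion (maximalIdeal (Localization.AtPrime p)) (Localization.AtPrime p)))))
      (Localization.AtPrime q)] :
    EGA41.IsFormallySmoothAdic
      (Localization.AtPrime (q.comap (algebraMap (Localization.AtPrime p)
        (AdicCompletion (maximalIdeal (Localization.AtPrime p)) (Localization.AtPrime p)))))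
      (maximalIdeal _) (Localization.AtPrime q) (maximalIdeal _) := by
    let Bh := AdicCompletion (maximalIdeal (Localization.AtPrime p)) (Localization.AtPrime p)
    haveI : IsNoetherianRing Bh := FlatLoc6.isNoetherianRing_cpl (Localization.AtPrime p)
    have h := (CplFib6.isGRing_of_complete A).2 p
    let r := q.comap (algebraMap (Localization.AtPrime p) Bh)
    haveI : q.LiesOver r := ⟨rfl⟩
    haveI : Localization.AtPrime.IsLiesOverAlgebra r q := ⟨IsLocalization.ringHom_ext r.primeCompl (RingHom.ext fun x => by
      rw [RingHom.comp_apply, RingHom.comp_apply, ← IsScalarTower.algebraMap_apply, Localization.localRingHom_to_map,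
        ← IsScalarTower.algebraMap_apply])⟩
    intro C _ _ J hJ _ u hu
    exact (S4537.result _).mp (RegFS6.fs_localRingHom_of_isRegularHom h r q) C J hJ ⟨1, by simp⟩ u hu

end Groth.Agent.S4582
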