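import Groth.Statements.S4583
import Groth.Agent.RegFS6.LocCrit
import Groth.Agent.CplFib6.GRing

set_option autoImplicit false
universe u
open IsLocalRing
open EGA41

namespace Groth.Agent.S4583

/-- Let A be a complete Noetherian local domain with fraction field K, p a prime of A, B = A_p, q a
prime of the completion B̂ of B with q ∩ B = 0. Then B̂_q is a K-algebra formally smooth over K for
the adic topology of its maximal ideal (the published statement adds that it is then geometrically
regular over K; that consequence is not stated). -/
theorem result {A : Type u} [CommRing A]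
    [IsDomain A] [IsLocalRing A] [IsNoetherianRing A] [IsAdicComplete (maximalIdeal A) A] (p : Ideal A) [p.IsPrime]
    (q : Ideal (AdicCompletion (maximalIdeal (Localization.AtPrime p)) (Localization.AtPrime p))) [q.IsPrime]
    (hq : q.comap (algebraMap (Localization.AtPrime p)
      (AdicCompletion (maximalIdeal (Localization.AtPrime p)) (Localization.AtPrime p))) = ⊥)
    [Algebra A (Localization.AtPrime q)]
    [IsScalarTower A (AdicCompletion (maximalIdeal (Localization.AtPrime p)) (Localization.AtPrime p))
      (Localization.AtPrime q)]
    [Algebra (FractionRing A) (Localization.AtPrime q)] [IsScalarTower A (FractionRing A) (Localization.AtPrime q)] :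
    CAlgX.IsAdicFormallySmooth (FractionRing A) (Localization.AtPrime q) (maximalIdeal (Localization.AtPrime q)) := by
    have hKA : ∀ a : A, algebraMap (FractionRing A) (Localization.AtPrime q) (algebraMap A (FractionRing A) a) =
        algebraMap (AdicCompletion (maximalIdeal (Localization.AtPrime p)) (Localization.AtPrime p))
          (Localization.AtPrime q)
          (algebraMap A (AdicCompletion (maximalIdeal (Localization.AtPrime p)) (Localization.AtPrime p)) a) := fun a => by
      have h1 := ‹IsScalarTower A (FractionRing A) (Localization.AtPrime q)›.smul_assoc a 1 1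
      have h2 := ‹IsScalarTower A (AdicCompletion (maximalIdeal (Localization.AtPrime p)) (Localization.AtPrime p))
        (Localization.AtPrime q)›.smul_assoc a 1 1
      rw [one_smul] at h1 h2
      simp only [Algebra.algebraMap_eq_smul_one]
      exact h1.trans h2.symm
    let B := Localization.AtPrime p
    let Bh := AdicCompletion (maximalIdeal (Localization.AtPrime p)) (Localization.AtPrime p)
    haveI : IsNoetherianRing Bh := FlatLoc6.isNoetherianRing_cpl B
    let r := q.comap (algebraMap B Bh)
    haveI : q.LiesOver r := ⟨rfl⟩
    letI := Localization.AtPrime.algebraOfLiesOver r q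
    have h := RegFS6.fs_localRingHom_of_isRegularHom ((CplFib6.isGRing_of_complete A).2 p) r q
    have hu : ∀ s : p.primeCompl, IsUnit (algebraMap A (FractionRing A) s) := fun s => isUnit_iff_ne_zero.mpr fun h0 =>
      s.2 ((map_eq_zero_iff _ (IsFractionRing.injective A (FractionRing A))).mp h0 ▸ p.zero_mem)
    let ψ : B →+* (FractionRing A) := IsLocalization.lift hu
    have hψ : ∀ a, ψ (algebraMap A B a) = algebraMap A (FractionRing A) a := IsLocalization.lift_eq hu
    have hu' : ∀ s : r.primeCompl, IsUnit (ψ s) := fun s => isUnit_iff_ne_zero.mpr fun h0 => s.2 (by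
      obtain ⟨⟨a, t⟩, ht⟩ := IsLocalization.surj p.primeCompl (s : B)
      have h1 : a = 0 := (map_eq_zero_iff _ (IsFractionRing.injective A (FractionRing A))).mp (by
        rw [← hψ, ← ht, map_mul, h0, zero_mul])
      rw [h1, map_zero] at ht
      rw [(IsLocalization.map_units B t).mul_left_eq_zero.mp ht]
      exact r.zero_mem)
    let φ : Localization.AtPrime r →+* (FractionRing A) := IsLocalization.lift hu'
    have hφ : ∀ x, φ (algebraMap B _ x) = ψ x := IsLocalization.lift_eq hu'
    have hφS : (algebraMap (FractionRing A) (Localization.AtPrime q)).comp φ = algebraMap (Localization.AtPrime r) (Localization.AtPrime q) := by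
      refine IsLocalization.ringHom_ext r.primeCompl (IsLocalization.ringHom_ext p.primeCompl (RingHom.ext fun a => ?_))
      simp only [RingHom.comp_apply]
      rw [hφ, hψ, hKA, RingHom.algebraMap_toAlgebra, Localization.localRingHom_to_map,
        IsScalarTower.algebraMap_apply A B Bh]
    have hsurj : Function.Surjective φ := fun k => by
      obtain ⟨a, s, hs, rfl⟩ := IsFractionRing.div_surjective (A := A) k
      have hne : algebraMap A B s ∈ r.primeCompl := fun hm => by
        have hm : algebraMap A B s ∈ r := hm
        rw [show r = ⊥ from hq, Ideal.mem_bot, IsLocalization.map_eq_zero_iff p.primeCompl] at hm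
        obtain ⟨t, ht⟩ := hm
        exact (mul_ne_zero (fun h0 : (t : A) = 0 => t.2 (h0 ▸ p.zero_mem)) (nonZeroDivisors.ne_zero hs)) ht
      refine ⟨IsLocalization.mk' _ (algebraMap A B a) (⟨_, hne⟩ : r.primeCompl), ?_⟩
      rw [eq_div_iff ((map_ne_zero_iff _ (IsFractionRing.injective A (FractionRing A))).mpr (nonZeroDivisors.ne_zero hs)),
        ← hψ, ← hψ, ← hφ, ← hφ, ← map_mul, IsLocalization.mk'_spec]
    intro E _ _ J hJ ψE hE
    letI : Algebra (Localization.AtPrime r) E := ((algebraMap (FractionRing A) E).comp φ).toAlgebra
    have hc : ∀ x, ψE (algebraMap (Localization.AtPrime r) (Localization.AtPrime q) x) = algebraMap (Localization.AtPrime r) (E ⧸ J) x :=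
      fun x => by
        rw [← hφS, RingHom.comp_apply, AlgHom.commutes]
        rfl
    obtain ⟨χ, hχ⟩ := h E J hJ { ψE.toRingHom with commutes' := hc } hE
    have hc' : ∀ k, χ (algebraMap (FractionRing A) (Localization.AtPrime q) k) = algebraMap (FractionRing A) E k := fun k => by
      obtain ⟨x, rfl⟩ := hsurj k
      rw [← RingHom.comp_apply, hφS, AlgHom.commutes]
      rfl
    exact ⟨{ χ.toRingHom with commutes' := hc' }, AlgHom.ext fun y => AlgHom.congr_fun hχ y⟩

end Groth.Agent.S4583
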