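import Groth.Statements.S4584
import Mathlib.AlgebraicGeometry.Morphisms.FinitePresentation
import Mathlib.AlgebraicGeometry.Limits
import Mathlib.RingTheory.Spectrum.Prime.ConstructibleSet
import Mathlib.RingTheory.Localization.Finiteness

set_option autoImplicit false
universe u
open AlgebraicGeometry CategoryTheory Topology
open EGA41

namespace Groth.Agent.S4584

/-- Given a scheme X that is quasi-compact and quasi-separated, together with a constructible subset Z
of X, one can find an affine scheme X' with a morphism X' → X of finite presentation whose image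
equals Z. -/
theorem result (X : Scheme.{u}) [CompactSpace X]
    [QuasiSeparatedSpace X] (Z : Set X) (hZ : IsConstructible Z) :
    ∃ (X' : Scheme.{u}) (f : X' ⟶ X), IsAffine X' ∧ LocallyOfFinitePresentation f ∧ QuasiCompact f ∧
      QuasiSeparated f ∧ Set.range f.base = Z := by
  let 𝒰 := X.affineCover.finiteSubcover
  let A : 𝒰.I₀ → CommRingCat.{u} := fun a => Γ(𝒰.X a, ⊤)
  let e : ∀ a, Spec (A a) ⟶ X := fun a => (𝒰.X a).isoSpec.inv ≫ 𝒰.f a
  have he : ∀ a, Topology.IsOpenEmbedding (e a).base := fun a => (e a).isOpenEmbedding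
  choose S hS using fun a => PrimeSpectrum.exists_constructibleSetData_iff.mpr (hZ.preimage_of_isOpenEmbedding (he a))
  let σ := Σ a, {C // C ∈ S a}
  let R : σ → CommRingCat.{u} := fun i =>
    .of (Localization.Away (Ideal.Quotient.mk (Ideal.span (Set.range i.2.1.g)) i.2.1.f))
  let ψ : ∀ i : σ, A i.1 →+* R i := fun i =>
    (algebraMap (A i.1 ⧸ Ideal.span (Set.range i.2.1.g)) _).comp (Ideal.Quotient.mk _)
  have hψ : ∀ i, (ψ i).FinitePresentation := fun i => by
    refine RingHom.FinitePresentation.comp ?_ (RingHom.FinitePresentation.of_surjective _ Ideal.Quotient.mk_surjective ?_)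
    · exact RingHom.finitePresentation_algebraMap.mpr
        (IsLocalization.Away.finitePresentation (Ideal.Quotient.mk (Ideal.span (Set.range i.2.1.g)) i.2.1.f))
    · rw [Ideal.mk_ker]
      exact Submodule.fg_span (Set.finite_range _)
  let F : σ → Scheme.{u} := fun i => Spec (R i)
  let γ : ∀ i, F i ⟶ X := fun i => Spec.map (CommRingCat.ofHom (ψ i)) ≫ e i.1
  haveI : Finite σ := inferInstance
  haveI : IsAffine (∐ F) := inferInstance
  haveI hlfp : ∀ i, LocallyOfFinitePresentation (γ i) := fun i => by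
    haveI : LocallyOfFinitePresentation (Spec.map (CommRingCat.ofHom (ψ i))) :=
      (HasRingHomProperty.Spec_iff (P := @LocallyOfFinitePresentation)).mpr (hψ i)
    exact inferInstanceAs (LocallyOfFinitePresentation (_ ≫ _))
  refine ⟨∐ F, Limits.Sigma.desc γ, inferInstance, @IsZariskiLocalAtSource.sigmaDesc (P := @LocallyOfFinitePresentation.{u}) HasRingHomProperty.instIsZariskiLocalAtSource _ _ _ _ _ hlfp, inferInstance, inferInstance, ?_⟩
  have hr : ∀ i, Set.range (PrimeSpectrum.comap (ψ i)) = i.2.1.toSet := fun i => by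
    show Set.range (PrimeSpectrum.comap (Ideal.Quotient.mk (Ideal.span (Set.range i.2.1.g))) ∘ PrimeSpectrum.comap (algebraMap _ (R i))) = _
    rw [Set.range_comp, PrimeSpectrum.localization_away_comap_range _ (Ideal.Quotient.mk _ i.2.1.f), ← PrimeSpectrum.comap_basicOpen,
      TopologicalSpace.Opens.coe_comap, ContinuousMap.coe_mk, Set.image_preimage_eq_inter_range,
      range_comap_of_surjective _ _ Ideal.Quotient.mk_surjective, PrimeSpectrum.BasicConstructibleSetData.toSet,
      Set.sdiff_eq_compl_inter, PrimeSpectrum.basicOpen_eq_zeroLocus_compl, Ideal.mk_ker, PrimeSpectrum.zeroLocus_span]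
  refine Set.Subset.antisymm ?_ fun z hz => ?_
  · rintro _ ⟨p, rfl⟩
    obtain ⟨⟨i, p⟩, rfl⟩ := (sigmaMk F).surjective p
    rw [sigmaMk_mk, ← Scheme.Hom.comp_apply, Limits.Sigma.ι_desc]
    simp only [γ, Scheme.Hom.comp_apply]
    show PrimeSpectrum.comap (ψ i) p ∈ (e i.1).base ⁻¹' Z
    exact (Set.ext_iff.mp (hS i.1) _).mp (Set.mem_biUnion i.2.2 ((hr i).le ⟨p, rfl⟩))
  · obtain ⟨a, w, rfl⟩ := 𝒰.exists_eq z
    have hw : (e a).base ((𝒰.X a).isoSpec.hom.base w) = (𝒰.f a).base w := by
      simp [e, ← Scheme.Hom.comp_apply]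
    have hmem : (𝒰.X a).isoSpec.hom.base w ∈ (S a).toSet := by
      rw [hS a]; show _ ∈ Z; rw [hw]; exact hz
    obtain ⟨C, hC, hmC⟩ := Set.mem_iUnion₂.mp hmem
    obtain ⟨q, hq⟩ := (hr ⟨a, C, hC⟩).ge hmC
    refine ⟨(Limits.Sigma.ι F ⟨a, C, hC⟩).base q, ?_⟩
    have hd : Limits.Sigma.ι F ⟨a, C, hC⟩ ≫ Limits.Sigma.desc γ = γ ⟨a, C, hC⟩ := Limits.Sigma.ι_desc _ _
    exact (congr($(hd).base q)).trans ((congrArg (e a).base hq).trans hw)

end Groth.Agent.S4584
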