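import Groth.Statements.S4585
import Mathlib.AlgebraicGeometry.Morphisms.FiniteType
import Mathlib.AlgebraicGeometry.Properties
import Mathlib.RingTheory.Jacobson.Ring
import Mathlib.RingTheory.Ideal.GoingUp
import Mathlib.RingTheory.LocalRing.ResidueField.Fiber
import Mathlib.RingTheory.Localization.Integral

set_option autoImplicit false
universe u
open AlgebraicGeometry CategoryTheory
open EGA41

namespace Groth.Agent.S4585

open TensorProduct in
theorem exists_lift_of_finite {A : Type u} [CommRing A] [IsDomain A] (K : Type u) [Field K] [Algebra A K]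
    [IsFractionRing A K] (L : Type u) [Field L] [Algebra A L] [Algebra K L] (hT : IsScalarTower A K L)
    [Module.Finite K L] (s : Finset L) :
    ∃ a : A, a ≠ 0 ∧ ∀ P : Ideal A, P.IsPrime → a ∉ P →
      ∃ Q : Ideal (Algebra.adjoin A (s : Set L)), Q.IsPrime ∧ Q.comap (algebraMap A _) = P := by
  classical
  choose m hm using fun x : L => IsIntegral.exists_multiple_integral_of_isLocalization (nonZeroDivisors A) x
    (IsIntegral.of_finite K x)
  let a : A := ∏ x ∈ s, (m x : A)
  have ha : a ≠ 0 := Finset.prod_ne_zero_iff.mpr fun x _ => nonZeroDivisors.ne_zero (m x).2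
  have hinj : Function.Injective (algebraMap A L) := by
    rw [IsScalarTower.algebraMap_eq A K L]
    exact (algebraMap K L).injective.comp (IsFractionRing.injective A K)
  have hint : ∀ x ∈ s, IsIntegral A (a • x) := fun x hx => by
    have : a = (∏ y ∈ s.erase x, (m y : A)) * (m x : A) := (Finset.prod_erase_mul s (fun y => (m y : A)) hx).symm
    rw [this, mul_smul]
    exact (hm x).smul _
  have hu : IsUnit (algebraMap A L a) := isUnit_iff_ne_zero.mpr ((map_ne_zero_iff _ hinj).mpr ha)
  refine ⟨a, ha, fun P hP haP => ?_⟩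
  letI : Algebra (Localization.Away a) L := (IsLocalization.Away.lift a hu).toAlgebra
  haveI : IsScalarTower A (Localization.Away a) L := .of_algebraMap_eq fun z => (IsLocalization.Away.lift_eq a hu z).symm
  have hinj' : Function.Injective (algebraMap (Localization.Away a) L) :=
    IsLocalization.injective_of_map_algebraMap_zero (M := Submonoid.powers a) (S := Localization.Away a) _ fun z hz => by
      rw [← IsScalarTower.algebraMap_apply, map_eq_zero_iff _ hinj] at hz
      rw [hz, map_zero]
  let C' := Algebra.adjoin (Localization.Away a) (s : Set L)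
  have hC' : C' ≤ integralClosure (Localization.Away a) L := Algebra.adjoin_le fun x hx => by
    obtain ⟨v, hv⟩ := IsLocalization.map_units (Localization.Away a) (⟨a, Submonoid.mem_powers a⟩ : Submonoid.powers a)
    have h1 : IsIntegral (Localization.Away a) (algebraMap A (Localization.Away a) a • x) := by
      rw [algebraMap_smul]; exact (hint x hx).tower_top
    have h2 := h1.smul (↑v⁻¹ : Localization.Away a)
    rwa [← hv, smul_smul, Units.inv_mul, one_smul] at h2
  haveI : Algebra.IsIntegral (Localization.Away a) C' :=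
    ⟨fun z => (isIntegral_algHom_iff C'.val Subtype.val_injective).mp (hC' z.2)⟩
  obtain ⟨hP'1, hP'2⟩ : ((P.map (algebraMap A (Localization.Away a))).IsPrime) ∧
      (P.map (algebraMap A (Localization.Away a))).comap (algebraMap A (Localization.Away a)) = P := by
    have hd : Disjoint (Submonoid.powers a : Set A) P := Set.disjoint_left.mpr fun z hz hzP => by
      obtain ⟨n, rfl⟩ := hz
      exact haP (hP.mem_of_pow_mem n hzP)
    exact ⟨IsLocalization.isPrime_of_isPrime_disjoint _ _ P hP hd, IsLocalization.comap_map_of_isPrime_disjoint _ _ hP hd⟩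
  obtain ⟨Q, -, hQ, hQP⟩ := Ideal.exists_ideal_over_prime_of_isIntegral
    (P.map (algebraMap A (Localization.Away a))) (⊥ : Ideal C') (by
      intro z hz
      have h1 : algebraMap (Localization.Away a) C' z = 0 := hz
      have h2 : algebraMap (Localization.Away a) L z = 0 := congrArg Subtype.val h1
      rw [(map_eq_zero_iff _ hinj').mp h2]
      exact zero_mem _)
  have hle : Algebra.adjoin A (s : Set L) ≤ C'.restrictScalars A :=
    Algebra.adjoin_le (Algebra.subset_adjoin (R := Localization.Away a) (s := (s : Set L)))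
  let ι : Algebra.adjoin A (s : Set L) →+* C' :=
    (Algebra.adjoin A (s : Set L)).val.toRingHom.codRestrict C' (fun z => hle z.2)
  refine ⟨Q.comap ι, Ideal.IsPrime.comap _, ?_⟩
  rw [← hP'2, ← hQP, Ideal.comap_comap, Ideal.comap_comap]
  congr 1
  ext z
  exact IsScalarTower.algebraMap_apply A (Localization.Away a) L z

theorem exists_lift_of_finite_residueField {A B : Type u} [CommRing A] [CommRing B] [Algebra A B]
    [Algebra.FiniteType A B] (p : Ideal A) [p.IsPrime] {L : Type u} [Field L] [Algebra A L]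
    [Algebra p.ResidueField L] [IsScalarTower A p.ResidueField L] [Module.Finite p.ResidueField L]
    (φ : B →ₐ[A] L) :
    ∃ a ∉ p, ∀ P : Ideal A, P.IsPrime → p ≤ P → a ∉ P →
      ∃ Q : Ideal B, Q.IsPrime ∧ Q.comap (algebraMap A B) = P := by
  classical
  letI : Algebra (A ⧸ p) L := ((algebraMap p.ResidueField L).comp (algebraMap (A ⧸ p) p.ResidueField)).toAlgebra
  haveI hT : IsScalarTower (A ⧸ p) p.ResidueField L := .of_algebraMap_eq fun _ => rfl
  have hφ : ∀ z : A, φ (algebraMap A B z) = algebraMap (A ⧸ p) L (Ideal.Quotient.mk p z) := fun z => by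
    rw [φ.commutes]
    show algebraMap A L z = algebraMap p.ResidueField L (algebraMap (A ⧸ p) p.ResidueField (algebraMap A (A ⧸ p) z))
    rw [← IsScalarTower.algebraMap_apply A (A ⧸ p) p.ResidueField, ← IsScalarTower.algebraMap_apply A p.ResidueField L]
  obtain ⟨σ, hσ⟩ := Algebra.FiniteType.out (R := A) (A := B)
  obtain ⟨a, ha, hlift⟩ := exists_lift_of_finite (A := A ⧸ p) p.ResidueField L hT (σ.image φ)
  obtain ⟨a, rfl⟩ := Ideal.Quotient.mk_surjective a
  refine ⟨a, fun h => ha (Ideal.Quotient.eq_zero_iff_mem.mpr h), fun P hP hpP haP => ?_⟩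
  have hP0 : (P.map (Ideal.Quotient.mk p)).comap (Ideal.Quotient.mk p) = P := by
    rw [Ideal.comap_map_of_surjective _ Ideal.Quotient.mk_surjective, ← RingHom.ker_eq_comap_bot, Ideal.mk_ker]
    exact sup_eq_left.mpr hpP
  haveI : (P.map (Ideal.Quotient.mk p)).IsPrime :=
    Ideal.map_isPrime_of_surjective Ideal.Quotient.mk_surjective (by rwa [Ideal.mk_ker])
  obtain ⟨Q, hQ, hQP⟩ := hlift (P.map (Ideal.Quotient.mk p)) inferInstance (fun h => haP (hP0 ▸ h))
  have hmem : ∀ b : B, φ b ∈ Algebra.adjoin (A ⧸ p) ((σ.image φ : Finset L) : Set L) := fun b => by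
    have hb : b ∈ Algebra.adjoin A (σ : Set B) := hσ ▸ trivial
    induction hb using Algebra.adjoin_induction with
    | mem z hz => exact Algebra.subset_adjoin (by simpa using ⟨z, hz, rfl⟩)
    | algebraMap z => rw [hφ]; exact Subalgebra.algebraMap_mem _ _
    | add x y _ _ hx hy => rw [map_add]; exact add_mem hx hy
    | mul x y _ _ hx hy => rw [map_mul]; exact mul_mem hx hy
  let ψ : B →+* Algebra.adjoin (A ⧸ p) ((σ.image φ : Finset L) : Set L) :=
    φ.toRingHom.codRestrict _ hmem
  refine ⟨Q.comap ψ, Ideal.IsPrime.comap _, ?_⟩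
  conv_rhs => rw [← hP0, ← hQP]
  rw [Ideal.comap_comap, Ideal.comap_comap]
  congr 1
  ext z
  exact hφ z

open TensorProduct in
theorem exists_notMem_forall_prime_lift {A B : Type u} [CommRing A] [CommRing B] (g : A →+* B) (hg : g.FiniteType)
    (q : Ideal B) [q.IsPrime] :
    ∃ a ∉ q.comap g, ∀ P : Ideal A, P.IsPrime → q.comap g ≤ P → a ∉ P → ∃ Q : Ideal B, Q.IsPrime ∧ Q.comap g = P := by
  algebraize [g]
  let p := q.under A
  haveI : Nontrivial (p.Fiber B) :=
    (PrimeSpectrum.nontrivial (R := p.Fiber B)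
      ((PrimeSpectrum.primesOverOrderIsoFiber A B p) ⟨q, inferInstance, ⟨rfl⟩⟩))
  obtain ⟨M, hM⟩ := Ideal.exists_maximal (p.Fiber B)
  letI : Field (p.Fiber B ⧸ M) := Ideal.Quotient.field M
  haveI : Module.Finite p.ResidueField (p.Fiber B ⧸ M) := finite_of_finite_type_of_isJacobsonRing _ _
  exact exists_lift_of_finite_residueField p ((Ideal.Quotient.mkₐ A M).comp Algebra.TensorProduct.includeRight)

/-- Let Y be an irreducible scheme with generic point η and f : X → Y locally of finite type with
nonempty fibre over η. Then some open neighbourhood of η is contained in f(X). (The second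
assertion, on fibres of a quasi-coherent module of finite type, is not stated.) -/
theorem result {X Y : Scheme.{u}} (f : X ⟶ Y)
    [LocallyOfFiniteType f] [IrreducibleSpace Y] (h : genericPoint Y ∈ Set.range f.base) :
    genericPoint Y ∈ interior (Set.range f.base) := by
  obtain ⟨x, hx⟩ := h
  obtain ⟨_, ⟨U, hU, rfl⟩, hηU, -⟩ :=
    Y.isBasis_affineOpens.exists_subset_of_mem_open (Set.mem_univ (genericPoint Y)) isOpen_univ
  obtain ⟨_, ⟨V, hV, rfl⟩, hxV, hVU⟩ :=
    X.isBasis_affineOpens.exists_subset_of_mem_open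
      (show x ∈ f ⁻¹ᵁ U by show f.base x ∈ U; rw [hx]; exact hηU) (f ⁻¹ᵁ U).isOpen
  haveI := hU.isOpenImmersion_fromSpec
  have hle : V ≤ f ⁻¹ᵁ U := hVU
  have hft : (f.appLE U V hle).hom.FiniteType :=
    HasRingHomProperty.appLE @LocallyOfFiniteType f inferInstance ⟨U, hU⟩ ⟨V, hV⟩ hle
  have hgen : ∀ w, hU.fromSpec.base ((Spec.map (f.appLE U V hle)).base w) = f.base (hV.fromSpec.base w) :=
    fun w => congr($(hU.SpecMap_appLE_fromSpec f hV hle).base w)
  obtain ⟨q, hq⟩ : ∃ q, hV.fromSpec.base q = x := ⟨_, hV.fromSpec_primeIdealOf ⟨x, hxV⟩⟩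
  let p : PrimeSpectrum Γ(Y, U) := (Spec.map (f.appLE U V hle)).base q
  have hp : hU.fromSpec.base p = genericPoint Y := by
    rw [← hx, ← hq]; exact hgen q
  haveI := q.isPrime
  obtain ⟨a, ha, hlift⟩ := exists_notMem_forall_prime_lift (f.appLE U V hle).hom hft q.asIdeal
  refine mem_interior.mpr ⟨(Y.basicOpen a : Set Y), fun y hy => ?_, (Y.basicOpen a).isOpen, ?_⟩
  · have hyU : y ∈ U := Y.basicOpen_le a hy
    obtain ⟨P, rfl⟩ : ∃ P, hU.fromSpec.base P = y := ⟨_, hU.fromSpec_primeIdealOf ⟨y, hyU⟩⟩
    have haP : a ∉ (P : PrimeSpectrum Γ(Y, U)).asIdeal := by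
      have : P ∈ hU.fromSpec ⁻¹ᵁ Y.basicOpen a := hy
      rw [hU.fromSpec_preimage_basicOpen a] at this
      exact this
    have hpP : p.asIdeal ≤ (P : PrimeSpectrum Γ(Y, U)).asIdeal := by
      have h1 : hU.fromSpec.base p ⤳ hU.fromSpec.base P := hp ▸ genericPoint_specializes _
      exact (PrimeSpectrum.le_iff_specializes p P).mpr (hU.fromSpec.isOpenEmbedding.isInducing.specializes_iff.mp h1)
    obtain ⟨Q, hQ, hQP⟩ := hlift P.asIdeal P.isPrime hpP haP
    exact ⟨hV.fromSpec.base ⟨Q, hQ⟩, (hgen ⟨Q, hQ⟩).symm.trans (congrArg hU.fromSpec.base (PrimeSpectrum.ext hQP))⟩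
  · rw [← hp]
    have : p ∈ hU.fromSpec ⁻¹ᵁ Y.basicOpen a := by
      rw [hU.fromSpec_preimage_basicOpen a]
      exact ha
    exact this

end Groth.Agent.S4585
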