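import Groth.Statements.S4586
import Groth.Agent.EGA41Lib.ConsX

set_option autoImplicit false
universe u
open AlgebraicGeometry CategoryTheory Topology
open EGA41

namespace Groth.Agent.S4586

/-- Let f : X → Y be surjective and either quasi-compact or locally of finite presentation, E ⊆ Y. Then
E is locally constructible (resp. pro-constructible, resp. ind-constructible) if and only if f⁻¹(E)
is. -/
theorem result {X Y : Scheme.{u}} (f : X ⟶ Y) [Surjective f]
    (hf : QuasiCompact f ∨ LocallyOfFinitePresentation f) (E : Set Y) :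
    (IsLocallyConstructible E ↔ IsLocallyConstructible (f.base ⁻¹' E)) ∧
    (ProCons.IsProConstructible E ↔ ProCons.IsProConstructible (f.base ⁻¹' E)) ∧
    (ProCons.IsIndConstructible E ↔ ProCons.IsIndConstructible (f.base ⁻¹' E)) := by
  have himg : f.base '' (f.base ⁻¹' E) = E := Set.image_preimage_eq _ f.surjective
  have himgc : f.base '' (f.base ⁻¹' Eᶜ) = Eᶜ := Set.image_preimage_eq _ f.surjective
  have hpre : ∀ {A : Set Y}, ProCons.IsProConstructible A → ProCons.IsProConstructible (f.base ⁻¹' A) :=
    fun hA => ProConsLib.preimage hA f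
  have hprei : ∀ {A : Set Y}, ProCons.IsIndConstructible A → ProCons.IsIndConstructible (f.base ⁻¹' A) := by
    intro A hA
    rw [EGA41Lib.ind_iff_compl, ← Set.preimage_compl]
    exact hpre (EGA41Lib.ind_iff_compl.mp hA)
  have hp : ∀ {A : Set Y}, ProCons.IsProConstructible (f.base ⁻¹' A) → ProCons.IsProConstructible A := by
    intro A hA
    rcases hf with hqc | hlfp
    · have := EGA41Lib.pro_image f hA
      rwa [Set.image_preimage_eq _ f.surjective] at this
    · rw [← compl_compl A, ← EGA41Lib.ind_iff_compl]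
      have hA' : ProCons.IsIndConstructible (f.base ⁻¹' Aᶜ) := by
        rw [EGA41Lib.ind_iff_compl, ← Set.preimage_compl, compl_compl]; exact hA
      have := EGA41Lib.ind_image f hA'
      rwa [Set.image_preimage_eq _ f.surjective] at this
  have hi : ∀ {A : Set Y}, ProCons.IsIndConstructible (f.base ⁻¹' A) → ProCons.IsIndConstructible A := by
    intro A hA
    rw [EGA41Lib.ind_iff_compl] at hA ⊢
    exact hp (by rwa [Set.preimage_compl])
  refine ⟨?_, ⟨hpre, hp⟩, ⟨hprei, hi⟩⟩
  rw [EGA41Lib.lc_iff, EGA41Lib.lc_iff]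
  exact ⟨fun h => ⟨hprei h.1, hpre h.2⟩, fun h => ⟨hi h.1, hp h.2⟩⟩

end Groth.Agent.S4586
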