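import Groth.Statements.S4587
import Mathlib.AlgebraicGeometry.Properties
import Mathlib.Topology.Sober
import Mathlib.Topology.Inseparable

set_option autoImplicit false
universe u
open AlgebraicGeometry CategoryTheory
open EGA41

namespace Groth.Agent.S4587

/-- A morphism of schemes f : X → Y is generizing if and only if, for every irreducible closed subset Y'
of Y, each irreducible component of f⁻¹(Y') has dense image in Y'. -/
theorem result {X Y : Scheme.{u}} (f : X ⟶ Y) :
    GeneralizingMap f.base ↔
      ∀ Y' : Set Y, IsClosed Y' → IsIrreducible Y' →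
        ∀ Z ∈ irreducibleComponents ↥(f.base ⁻¹' Y'), closure (f.base '' (Subtype.val '' Z)) = Y' := by
  constructor
  · intro hf Y' hY' hY'i Z hZ
    have hZ' : Z ∈ irreducibleComponents ↥(f.base ⁻¹' Y') := hZ
    have hcl : IsClosed (f.base ⁻¹' Y') := hY'.preimage f.continuous
    have hZc : IsClosed (Subtype.val '' Z : Set X) :=
      hcl.isClosedEmbedding_subtypeVal.isClosedMap _ (isClosed_of_mem_irreducibleComponents Z hZ)
    have hZi : IsIrreducible (Subtype.val '' Z : Set X) := hZ.1.image _ continuous_subtype_val.continuousOn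
    obtain ⟨z, hz⟩ := QuasiSober.sober hZi hZc
    obtain ⟨η, hη⟩ := QuasiSober.sober hY'i hY'
    have hzY : f.base z ∈ Y' := by
      obtain ⟨w, -, hw⟩ := hz.mem
      exact hw ▸ w.2
    obtain ⟨z', hz'z, hz'⟩ := hf (show η ⤳ f.base z from hη.specializes hzY)
    refine Set.Subset.antisymm (closure_minimal ?_ hY') ?_
    · rintro _ ⟨_, ⟨w, -, rfl⟩, rfl⟩
      exact w.2
    · have hz'Y : z' ∈ f.base ⁻¹' Y' := by
        show f.base z' ∈ Y'
        rw [hz']
        exact hη.mem
      let T : Set ↥(f.base ⁻¹' Y') := closure {⟨z', hz'Y⟩}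
      have hZT : Z ≤ T := fun w hw => by
        rw [show T = _ from rfl, ← specializes_iff_mem_closure]
        exact Topology.IsInducing.subtypeVal.specializes_iff.mp (hz'z.trans (hz.specializes ⟨w, hw, rfl⟩))
      have hTZ : T ≤ Z := hZ.2 isIrreducible_singleton.closure hZT
      intro y hy
      have hy' : y ∈ closure ({η} : Set Y) := hη.def.symm ▸ hy
      refine closure_minimal ?_ isClosed_closure hy'
      rintro _ rfl
      exact subset_closure ⟨z', ⟨⟨z', hz'Y⟩, hTZ (subset_closure rfl), rfl⟩, hz'⟩
  · intro h x η hη
    let Y' : Set Y := closure {η}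
    have hxY : x ∈ f.base ⁻¹' Y' := hη.mem_closure
    let w : ↥(f.base ⁻¹' Y') := ⟨x, hxY⟩
    have hZ := irreducibleComponent_mem_irreducibleComponents w
    have hcl : IsClosed (f.base ⁻¹' Y') := isClosed_closure.preimage f.continuous
    have hZc : IsClosed (Subtype.val '' irreducibleComponent w : Set X) :=
      hcl.isClosedEmbedding_subtypeVal.isClosedMap _ isClosed_irreducibleComponent
    have hZi : IsIrreducible (Subtype.val '' irreducibleComponent w : Set X) :=
      isIrreducible_irreducibleComponent.image _ continuous_subtype_val.continuousOn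
    obtain ⟨z, hz⟩ := QuasiSober.sober hZi hZc
    refine ⟨z, hz.specializes ⟨w, mem_irreducibleComponent, rfl⟩, ?_⟩
    have h1 := h Y' isClosed_closure isIrreducible_singleton.closure _ hZ
    have h2 := hz.image f.continuous
    rw [h1] at h2
    exact h2.eq (isGenericPoint_closure (x := η))

end Groth.Agent.S4587
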