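import Groth.Statements.S4590
import Mathlib

set_option autoImplicit false
universe u
open CAlg

namespace Groth.Agent.S4590

/-- Let A be a domain with fraction field K, B a faithfully flat A-algebra, C = B_red and R the total
ring of fractions of C. Then A → C is injective with nonzero elements going to non-zero-divisors, so
that K embeds in R, and an element of K is integral over C in R if and only if it is integral over
A. -/
theorem result {A B : Type u} [CommRing A] [IsDomain A]
    [CommRing B] [Algebra A B] [Module.FaithfullyFlat A B] :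
    Function.Injective (algebraMap A (B ⧸ nilradical B)) ∧
    (∀ a : A, a ≠ 0 → algebraMap A (B ⧸ nilradical B) a ∈ nonZeroDivisors (B ⧸ nilradical B)) ∧
    ∀ (R : Type u) [CommRing R] [Algebra (B ⧸ nilradical B) R] [IsFractionRing (B ⧸ nilradical B) R]
      [Algebra A R] [IsScalarTower A (B ⧸ nilradical B) R] [Algebra (FractionRing A) R]
      [IsScalarTower A (FractionRing A) R] (x : FractionRing A),
      IsIntegral (B ⧸ nilradical B) (algebraMap (FractionRing A) R x) ↔ IsIntegral A x := by
  classical
  let C := B ⧸ nilradical B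
  have hreg : ∀ a : A, a ≠ 0 → ∀ b : B, a • b = 0 → b = 0 := fun a ha b hb =>
    (Module.Flat.isSMulRegular_of_nonZeroDivisors (M := B) (mem_nonZeroDivisors_of_ne_zero ha))
      (hb.trans (smul_zero a).symm)
  have hnzd : ∀ a : A, a ≠ 0 → algebraMap A C a ∈ nonZeroDivisors C := by
    intro a ha
    refine mem_nonZeroDivisors_iff_right.mpr fun z hz => ?_
    obtain ⟨b, rfl⟩ := Ideal.Quotient.mk_surjective z
    rw [show algebraMap A C a = Ideal.Quotient.mk _ (algebraMap A B a) from rfl, ← map_mul,
      Ideal.Quotient.eq_zero_iff_mem, mem_nilradical] at hz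
    obtain ⟨n, hn⟩ := hz
    rw [mul_pow, ← map_pow, mul_comm, ← Algebra.smul_def] at hn
    exact Ideal.Quotient.eq_zero_iff_mem.mpr ⟨n, hreg _ (pow_ne_zero n ha) _ hn⟩
  have hinjA : Function.Injective (algebraMap A B) := FaithfulSMul.algebraMap_injective A B
  refine ⟨(injective_iff_map_eq_zero _).mpr fun a ha => ?_, hnzd, fun R _ _ _ _ _ _ _ x => ⟨?_, ?_⟩⟩
  · rw [show algebraMap A C a = Ideal.Quotient.mk _ (algebraMap A B a) from rfl, Ideal.Quotient.eq_zero_iff_mem,
      mem_nilradical] at ha
    obtain ⟨n, hn⟩ := ha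
    rw [← map_pow, map_eq_zero_iff _ hinjA] at hn
    exact pow_eq_zero_iff'.mp hn |>.1
  · rintro ⟨P, hPm, hP⟩
    obtain ⟨a, ⟨s, hs⟩, rfl⟩ := IsLocalization.exists_mk'_eq (nonZeroDivisors A) x
    haveI : Nontrivial B := hinjA.nontrivial
    haveI : Nontrivial C := Ideal.Quotient.nontrivial_iff.mpr (by
      rw [Ne, Ideal.eq_top_iff_one, mem_nilradical]; exact fun h => not_isNilpotent_one h)
    obtain ⟨P₁, hP₁, -, hP₁m⟩ := Polynomial.lifts_and_degree_eq_and_monic
      (Polynomial.map_surjective _ Ideal.Quotient.mk_surjective P) hPm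
    have h1 : algebraMap C R ((P.scaleRoots (algebraMap A C s)).eval (algebraMap A C a)) = 0 := by
      rw [← Polynomial.eval₂_at_apply]
      have e : algebraMap C R (algebraMap A C a) = algebraMap C R (algebraMap A C s) *
          algebraMap (FractionRing A) R (IsLocalization.mk' (FractionRing A) a (⟨s, hs⟩ : nonZeroDivisors A)) := by
        rw [← IsScalarTower.algebraMap_apply A C R, ← IsScalarTower.algebraMap_apply A C R,
          IsScalarTower.algebraMap_apply A (FractionRing A) R s, ← map_mul,
          show algebraMap A (FractionRing A) s * IsLocalization.mk' (FractionRing A) a (⟨s, hs⟩ : nonZeroDivisors A) =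
            algebraMap A (FractionRing A) a from IsLocalization.mk'_spec' _ a ⟨s, hs⟩,
          ← IsScalarTower.algebraMap_apply]
      rw [e, Polynomial.scaleRoots_eval₂_mul, hP, mul_zero]
    rw [map_eq_zero_iff _ (IsFractionRing.injective C R)] at h1
    have h2 : IsNilpotent ((P₁.scaleRoots (algebraMap A B s)).eval (algebraMap A B a)) := by
      rw [← mem_nilradical, ← Ideal.Quotient.eq_zero_iff_mem, ← Polynomial.eval_map_apply]
      have hmk : (P₁.scaleRoots (algebraMap A B s)).map (Ideal.Quotient.mk (nilradical B)) =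
          P.scaleRoots (algebraMap A C s) := by
        rw [Polynomial.map_scaleRoots _ _ _ (by rw [hP₁m.leadingCoeff, map_one]; exact one_ne_zero), hP₁]
        rfl
      rw [hmk]
      exact h1
    obtain ⟨N, hN⟩ := h2
    rw [← Polynomial.eval_pow, ← Polynomial.pow_scaleRoots' _ _ _ (by rw [hP₁m.leadingCoeff, one_pow]; exact one_ne_zero),
      Polynomial.eval_eq_sum_range, Polynomial.natDegree_scaleRoots] at hN
    set Q := P₁ ^ N with hQ
    have hQm : Q.Monic := hP₁m.pow N
    set d := Q.natDegree
    rw [Finset.sum_range_succ, Polynomial.coeff_scaleRoots, hQm.coeff_natDegree, tsub_self, pow_zero, one_mul, one_mul] at hN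
    have hmem : a ^ d ∈ Ideal.span (Set.range fun j : Fin d => s ^ (d - j) * a ^ (j : ℕ)) := by
      rw [← Ideal.comap_map_eq_self_of_faithfullyFlat (B := B) (Ideal.span _), Ideal.mem_comap, map_pow,
        eq_neg_of_add_eq_zero_right hN]
      refine neg_mem (Ideal.sum_mem _ fun j hj => ?_)
      rw [Polynomial.coeff_scaleRoots, mul_assoc, ← map_pow, ← map_pow, ← map_mul]
      exact Ideal.mul_mem_left _ _ (Ideal.mem_map_of_mem _ (Ideal.subset_span ⟨⟨j, Finset.mem_range.mp hj⟩, rfl⟩))
    obtain ⟨c, hc⟩ := (Ideal.mem_span_range_iff_exists_fun (R := A)).mp hmem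
    refine ⟨Polynomial.X ^ d - ∑ j : Fin d, Polynomial.C (c j) * Polynomial.X ^ (j : ℕ),
      Polynomial.monic_X_pow_sub (Polynomial.degree_sum_fin_lt c), ?_⟩
    have hsK : algebraMap A (FractionRing A) s ≠ 0 := by
      simpa using nonZeroDivisors.ne_zero hs
    rw [← Polynomial.aeval_def, map_sub, map_pow, Polynomial.aeval_X, map_sum, IsFractionRing.mk'_eq_div]
    apply mul_left_cancel₀ (pow_ne_zero d hsK)
    rw [mul_zero, mul_sub, Finset.mul_sum, ← mul_pow, mul_div_cancel₀ _ hsK, sub_eq_zero, ← map_pow, ← hc, map_sum]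
    refine Finset.sum_congr rfl fun j _ => ?_
    simp only [map_mul, map_pow, Polynomial.aeval_C, Polynomial.aeval_X]
    conv_rhs => rw [show algebraMap A (FractionRing A) s ^ d = algebraMap A (FractionRing A) s ^ (d - (j : ℕ)) * algebraMap A (FractionRing A) s ^ (j : ℕ) by rw [← pow_add, Nat.sub_add_cancel j.2.le]]
    rw [div_pow]
    field_simp
  · intro h
    exact (h.map (IsScalarTower.toAlgHom A (FractionRing A) R)).tower_top

end Groth.Agent.S4590
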