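import Groth.Statements.S4591
import Groth.Agent.S3439

set_option autoImplicit false
universe u
open AlgebraicGeometry
open EGA41

namespace Groth.Agent.S4591

/-- Let X be a quasi-compact scheme, F a pro-constructible subset and (E_i) a family of
ind-constructible subsets covering F. Then some finite subfamily covers F. -/
theorem result (X : Scheme.{u}) [CompactSpace X]
    (F : Set X) (hF : ProCons.IsProConstructible F) {ι : Type u} (E : ι → Set X)
    (hE : ∀ i, ProCons.IsIndConstructible (E i)) (h : F ⊆ ⋃ i, E i) :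
    ∃ J : Finset ι, F ⊆ ⋃ i ∈ J, E i := by
  obtain ⟨J, hJ⟩ := S3439.result X Fᶜ (EGA41Lib.ind_iff_compl.mpr (by rwa [compl_compl]))
    (fun i => (E i)ᶜ) (fun i => EGA41Lib.ind_iff_compl.mp (hE i)) (by
      intro x hx hxF
      obtain ⟨i, hi⟩ := Set.mem_iUnion.mp (h hxF)
      exact Set.mem_iInter.mp hx i hi)
  refine ⟨J, fun x hx => ?_⟩
  by_contra hne
  exact hJ (Set.mem_iInter₂.mpr fun i hi hxi => hne (Set.mem_iUnion₂.mpr ⟨i, hi, hxi⟩)) hx

end Groth.Agent.S4591
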