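import Groth.Statements.S4593
import Mathlib.AlgebraicGeometry.Scheme
import Mathlib.CategoryTheory.Limits.Types.Filtered
import Mathlib.Algebra.Category.Ring.FilteredColimits
import Mathlib.RingTheory.Spectrum.Prime.Topology

set_option autoImplicit false
universe u
open CategoryTheory CategoryTheory.Limits AlgebraicGeometry
open EGA41

namespace Groth.Agent.S4593

/-- Let B be a ring, (A_i) a filtered system of B-algebras with colimit A. The image of Spec A in Spec B
is the intersection of the images of the Spec A_i. -/
theorem result {I : Type u} [SmallCategory I] [IsFiltered I]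
    (B : CommRingCat.{u}) (D : I ⥤ CommRingCat.{u}) (s : (Functor.const I).obj B ⟶ D) (c : Cocone D)
    (hc : IsColimit c) (i₀ : I) :
    Set.range (Spec.map (s.app i₀ ≫ c.ι.app i₀)).base = ⋂ i : I, Set.range (Spec.map (s.app i)).base := by
  refine Set.Subset.antisymm ?_ ?_
  · rintro y ⟨p, rfl⟩
    refine Set.mem_iInter.mpr fun i => ?_
    have hi : s.app i ≫ c.ι.app i = s.app i₀ ≫ c.ι.app i₀ := by
      obtain ⟨k, f, g, -⟩ : ∃ k, ∃ _ : i ⟶ k, ∃ _ : i₀ ⟶ k, True :=
        ⟨IsFiltered.max i i₀, IsFiltered.leftToMax _ _, IsFiltered.rightToMax _ _, trivial⟩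
      rw [← c.w f, ← c.w g]
      have hf := s.naturality f
      have hg := s.naturality g
      simp only [Functor.const_obj_obj, Functor.const_obj_map, Category.id_comp] at hf hg
      rw [← Category.assoc, ← Category.assoc, ← hf, ← hg]
    exact ⟨(Spec.map (c.ι.app i)).base p, by rw [← hi, Spec.map_comp, Scheme.Hom.comp_apply]⟩
  · intro y hy
    rw [Set.mem_iInter] at hy
    let φ := (s.app i₀ ≫ c.ι.app i₀).hom
    have hkey : ∀ {i j : I} (f : i ⟶ j) b, (D.map f).hom ((s.app i).hom b) = (s.app j).hom b := fun {i j} f b => by
      have hf := s.naturality f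
      simp only [Functor.const_obj_obj, Functor.const_obj_map, Category.id_comp] at hf
      rw [hf]; rfl
    have hc' := isColimitOfPreserves (forget CommRingCat) hc
    have hcomap : (y.asIdeal.map φ).comap φ = y.asIdeal := by
      refine le_antisymm (fun b hb => ?_) Ideal.le_comap_map
      have hb' : φ b ∈ Ideal.span (φ '' y.asIdeal) := hb
      -- membership is witnessed at a finite stage
      have : ∀ z ∈ Ideal.span (φ '' y.asIdeal), ∃ (i : I) (w : D.obj i),
          w ∈ y.asIdeal.map (s.app i).hom ∧ (c.ι.app i).hom w = z := by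
        intro z hz
        induction hz using Submodule.span_induction with
        | mem x hx =>
          obtain ⟨a, ha, rfl⟩ := hx
          exact ⟨i₀, (s.app i₀).hom a, Ideal.mem_map_of_mem _ ha, rfl⟩
        | zero => exact ⟨i₀, 0, zero_mem _, map_zero _⟩
        | add x x' _ _ ih ih' =>
          obtain ⟨i, w, hw, rfl⟩ := ih
          obtain ⟨i', w', hw', rfl⟩ := ih'
          let f := IsFiltered.leftToMax i i'
          let g := IsFiltered.rightToMax i i'
          refine ⟨IsFiltered.max i i', (D.map f).hom w + (D.map g).hom w', add_mem ?_ ?_, ?_⟩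
          · have hle : (y.asIdeal.map (s.app i).hom).map (D.map f).hom ≤ y.asIdeal.map (s.app (IsFiltered.max i i')).hom := by
              rw [Ideal.map_le_iff_le_comap, Ideal.map_le_iff_le_comap]
              intro a ha
              rw [Ideal.mem_comap, Ideal.mem_comap, hkey f]
              exact Ideal.mem_map_of_mem _ ha
            exact hle (Ideal.mem_map_of_mem _ hw)
          · have hle : (y.asIdeal.map (s.app i').hom).map (D.map g).hom ≤ y.asIdeal.map (s.app (IsFiltered.max i i')).hom := by
              rw [Ideal.map_le_iff_le_comap, Ideal.map_le_iff_le_comap]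
              intro a ha
              rw [Ideal.mem_comap, Ideal.mem_comap, hkey g]
              exact Ideal.mem_map_of_mem _ ha
            exact hle (Ideal.mem_map_of_mem _ hw')
          · rw [map_add, ← CommRingCat.comp_apply, ← CommRingCat.comp_apply, c.w, c.w]
        | smul r x _ ih =>
          obtain ⟨i, w, hw, rfl⟩ := ih
          obtain ⟨i', r', hr⟩ := Types.jointly_surjective_of_isColimit hc' r
          let f := IsFiltered.leftToMax i i'
          let g := IsFiltered.rightToMax i i'
          refine ⟨IsFiltered.max i i', (D.map g).hom r' * (D.map f).hom w, Ideal.mul_mem_left _ _ ?_, ?_⟩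
          · have hle : (y.asIdeal.map (s.app i).hom).map (D.map f).hom ≤ y.asIdeal.map (s.app (IsFiltered.max i i')).hom := by
              rw [Ideal.map_le_iff_le_comap, Ideal.map_le_iff_le_comap]
              intro a ha
              rw [Ideal.mem_comap, Ideal.mem_comap, hkey f]
              exact Ideal.mem_map_of_mem _ ha
            exact hle (Ideal.mem_map_of_mem _ hw)
          · rw [map_mul, ← CommRingCat.comp_apply, ← CommRingCat.comp_apply, c.w, c.w, smul_eq_mul]
            congr 1
      obtain ⟨i, w, hw, hwz⟩ := this _ hb'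
      have he : (c.ι.app i).hom w = (c.ι.app i₀).hom ((s.app i₀).hom b) := hwz
      obtain ⟨k, f, g, hfg⟩ := (Types.FilteredColimit.isColimit_eq_iff _ hc').mp he
      have hfg' : (D.map f).hom w = (D.map g).hom ((s.app i₀).hom b) := hfg
      rw [hkey g] at hfg'
      have hle : (y.asIdeal.map (s.app i).hom).map (D.map f).hom ≤ y.asIdeal.map (s.app k).hom := by
        rw [Ideal.map_le_iff_le_comap, Ideal.map_le_iff_le_comap]
        intro a ha
        rw [Ideal.mem_comap, Ideal.mem_comap, hkey f]
        exact Ideal.mem_map_of_mem _ ha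
      have hbk : b ∈ (y.asIdeal.map (s.app k).hom).comap (s.app k).hom :=
        show (s.app k).hom b ∈ _ from hfg' ▸ hle (Ideal.mem_map_of_mem _ hw)
      obtain ⟨q, hq⟩ := hy k
      have hq' : y.asIdeal = q.asIdeal.comap (s.app k).hom := hq ▸ rfl
      rw [hq'] at hbk ⊢
      rwa [Ideal.comap_map_comap] at hbk
    haveI := y.isPrime
    obtain ⟨q, hq, hq'⟩ := (Ideal.comap_map_eq_self_iff_of_isPrime y.asIdeal).mp hcomap
    exact ⟨⟨q, hq⟩, PrimeSpectrum.ext hq'⟩

end Groth.Agent.S4593
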