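import Groth.Statements.S4594
import Mathlib

set_option autoImplicit false
universe u
open TensorProduct KaehlerDifferential
open EGA41

namespace Groth.Agent.S4594

/-- Let Λ be a ring, A → C a surjection of Λ-algebras with kernel J, C of characteristic p > 0, and π
the class of p·1 in J/J². If C is formally smooth over Λ/pΛ for the discrete topologies, then 0 →
(J/J²)/Cπ → Ω_{A/Λ} ⊗_A C → Ω_{C/Λ} → 0 is exact: the kernel of the conormal map J/J² → Ω_{A/Λ} ⊗_A
C is the span of π, and the base-change map to Ω_{C/Λ} is surjective with kernel the image of J/J². -/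
theorem result {Λ A C : Type u} [CommRing Λ] [CommRing A]
    [CommRing C] [Algebra Λ A] [Algebra A C] [Algebra Λ C] [IsScalarTower Λ A C]
    (hsurj : Function.Surjective (algebraMap A C)) (p : ℕ) [Fact p.Prime] [CharP C p]
    [Algebra (Λ ⧸ Ideal.span {(p : Λ)}) C] [IsScalarTower Λ (Λ ⧸ Ideal.span {(p : Λ)}) C]
    [Algebra.FormallySmooth (Λ ⧸ Ideal.span {(p : Λ)}) C]
    (hp : (p : A) ∈ RingHom.ker (algebraMap A C)) :
    LinearMap.ker (kerCotangentToTensor Λ A C) =
        Submodule.span A {(RingHom.ker (algebraMap A C)).toCotangent ⟨(p : A), hp⟩} ∧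
      LinearMap.range (kerCotangentToTensor Λ A C) = (LinearMap.ker (mapBaseChange Λ A C)).restrictScalars A ∧
      Function.Surjective (mapBaseChange Λ A C) := by
  set J := RingHom.ker (algebraMap A C) with hJdef
  refine ⟨le_antisymm ?_ ?_, KaehlerDifferential.range_kerCotangentToTensor Λ A C hsurj,
    KaehlerDifferential.mapBaseChange_surjective Λ A C hsurj⟩
  · intro x hx
    obtain ⟨⟨j, hj⟩, rfl⟩ := Ideal.toCotangent_surjective _ x
    rw [LinearMap.mem_ker, KaehlerDifferential.kerCotangentToTensor_toCotangent] at hx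
    -- `D j ∈ J • Ω`
    have hDj : KaehlerDifferential.D Λ A j ∈ J • (⊤ : Submodule A (Ω[A⁄Λ])) := by
      let e : (A ⧸ J) ≃ₗ[A] C := LinearEquiv.ofBijective
        (Submodule.liftQ J (Algebra.linearMap A C) (fun a ha => ha))
        ⟨by
          rw [← LinearMap.ker_eq_bot]
          exact Submodule.ker_liftQ_eq_bot _ _ _ (fun a ha => ha),
         fun c => by obtain ⟨a, rfl⟩ := hsurj c; exact ⟨Submodule.Quotient.mk a, rfl⟩⟩
      have h1 : (e.rTensor (Ω[A⁄Λ])) ((Submodule.Quotient.mk 1 : A ⧸ J) ⊗ₜ KaehlerDifferential.D Λ A j) = 0 := by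
        rw [LinearEquiv.rTensor_tmul]
        show algebraMap A C 1 ⊗ₜ[A] KaehlerDifferential.D Λ A j = 0
        rw [map_one]
        exact hx
      have h2 := congrArg (TensorProduct.quotTensorEquivQuotSMul (Ω[A⁄Λ]) J) ((LinearEquiv.map_eq_zero_iff _).mp h1)
      rw [map_zero] at h2
      have h3 : (TensorProduct.quotTensorEquivQuotSMul (Ω[A⁄Λ]) J) ((Ideal.Quotient.mk J 1) ⊗ₜ KaehlerDifferential.D Λ A j) = 0 := h2
      rwa [TensorProduct.quotTensorEquivQuotSMul_mk_tmul, one_smul, Submodule.Quotient.mk_eq_zero] at h3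
    let P := J ^ 2 ⊔ Ideal.span {(p : A)}
    have hPJ : P ≤ J := sup_le (Ideal.pow_le_self two_ne_zero) ((Ideal.span_singleton_le_iff_mem _).mpr hp)
    have hpR : ∀ a ∈ Ideal.span {(p : Λ)}, algebraMap Λ (A ⧸ P) a = 0 := fun a ha => by
      obtain ⟨b, rfl⟩ := Ideal.mem_span_singleton'.mp ha
      rw [map_mul, map_natCast, ← map_natCast (Ideal.Quotient.mk P), Ideal.Quotient.eq_zero_iff_mem.mpr
        (Ideal.mem_sup_right (Ideal.mem_span_singleton_self _)), mul_zero]
    letI : Algebra (Λ ⧸ Ideal.span {(p : Λ)}) (A ⧸ P) :=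
      (Ideal.Quotient.lift (Ideal.span {(p : Λ)}) (algebraMap Λ (A ⧸ P)) hpR).toAlgebra
    let g : (A ⧸ P) →ₐ[Λ ⧸ Ideal.span {(p : Λ)}] C :=
      { Ideal.Quotient.lift P (algebraMap A C) (fun a ha => hPJ ha) with
        commutes' := fun r => by
          obtain ⟨l, rfl⟩ := Ideal.Quotient.mk_surjective r
          show Ideal.Quotient.lift P (algebraMap A C) (fun a ha => hPJ ha) (Ideal.Quotient.mk P (algebraMap Λ A l)) =
            algebraMap (Λ ⧸ Ideal.span {(p : Λ)}) C (algebraMap Λ _ l)
          rw [Ideal.Quotient.lift_mk, ← IsScalarTower.algebraMap_apply, ← IsScalarTower.algebraMap_apply] }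
    have hgs : Function.Surjective g := fun c => by
      obtain ⟨a, rfl⟩ := hsurj c
      exact ⟨Ideal.Quotient.mk P a, rfl⟩
    have hmem : ∀ z, z ∈ RingHom.ker g → ∃ a ∈ J, Ideal.Quotient.mk P a = z := fun z hz => by
      obtain ⟨a, rfl⟩ := Ideal.Quotient.mk_surjective z
      exact ⟨a, hz, rfl⟩
    have hsq : ∀ x y, g x = 0 → g y = 0 → x * y = 0 := fun x y hx hy => by
      obtain ⟨a, ha, rfl⟩ := hmem x hx
      obtain ⟨b, hb, rfl⟩ := hmem y hy
      rw [← map_mul, Ideal.Quotient.eq_zero_iff_mem]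
      exact Ideal.mem_sup_left (by rw [sq]; exact Ideal.mul_mem_mul ha hb)
    have hnil : IsNilpotent (RingHom.ker (g : (A ⧸ P) →+* C)) := ⟨2, by
      refine le_antisymm ?_ bot_le
      rw [sq, Ideal.mul_le]
      exact fun x hx y hy => Ideal.mem_bot.mpr (hsq x y hx hy)⟩
    let σ := Algebra.FormallySmooth.liftOfSurjective (AlgHom.id (Λ ⧸ Ideal.span {(p : Λ)}) C) g hgs hnil
    have hσ : ∀ c, g (σ c) = c := Algebra.FormallySmooth.liftOfSurjective_apply (AlgHom.id _ C) g hgs hnil
    have hlam : ∀ l : Λ, σ (algebraMap Λ C l) = algebraMap Λ (A ⧸ P) l := fun l => by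
      rw [IsScalarTower.algebraMap_apply Λ (Λ ⧸ Ideal.span {(p : Λ)}) C, σ.commutes]
      rfl
    let δ : A → A ⧸ P := fun a => Ideal.Quotient.mk P a - σ (algebraMap A C a)
    have hδN : ∀ a, g (δ a) = 0 := fun a => by
      rw [map_sub, hσ]
      exact sub_self _
    let dlin : A →ₗ[Λ] A ⧸ P :=
      { toFun := δ
        map_add' := fun a b => by simp only [δ, map_add]; ring
        map_smul' := fun l a => by
          simp only [δ, RingHom.id_apply]
          rw [Algebra.smul_def, map_mul, map_mul, map_mul, ← IsScalarTower.algebraMap_apply, hlam,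
            Algebra.smul_def, mul_sub]
          rfl }
    let d : Derivation Λ A (A ⧸ P) := Derivation.mk' dlin (fun a b => by
      show δ (a * b) = a • δ b + b • δ a
      have := hsq _ _ (hδN a) (hδN b)
      simp only [δ] at this
      simp only [δ, map_mul, Algebra.smul_def, Ideal.Quotient.algebraMap_eq]
      linear_combination -this)
    have hL : ∀ ω : Ω[A⁄Λ], g (d.liftKaehlerDifferential ω) = 0 := fun ω => by
      have hω : ω ∈ Submodule.span A (Set.range (KaehlerDifferential.D Λ A)) := by
        rw [KaehlerDifferential.span_range_derivation]; trivial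
      induction hω using Submodule.span_induction with
      | mem x hx => obtain ⟨a, rfl⟩ := hx; rw [Derivation.liftKaehlerDifferential_comp_D]; exact hδN a
      | zero => simp
      | add x y _ _ hx hy => rw [map_add, map_add, hx, hy, add_zero]
      | smul r x _ hx => rw [map_smul, Algebra.smul_def, map_mul, hx, mul_zero]
    have h4 : d.liftKaehlerDifferential (KaehlerDifferential.D Λ A j) = 0 := by
      refine Submodule.smul_induction_on hDj (fun a ha ω _ => ?_) (fun x y hx hy => by rw [map_add, hx, hy, add_zero])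
      rw [map_smul, Algebra.smul_def]
      exact hsq _ _ ha (hL ω)
    rw [Derivation.liftKaehlerDifferential_comp_D] at h4
    have h5 : Ideal.Quotient.mk P j = 0 := by
      have h6 : Ideal.Quotient.mk P j - σ (algebraMap A C j) = 0 := h4
      rwa [show algebraMap A C j = 0 from hj, map_zero, sub_zero] at h6
    rw [Ideal.Quotient.eq_zero_iff_mem] at h5
    obtain ⟨u, hu, v, hv, huv⟩ := Submodule.mem_sup.mp h5
    obtain ⟨a, rfl⟩ := Ideal.mem_span_singleton'.mp hv
    refine Submodule.mem_span_singleton.mpr ⟨a, ?_⟩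
    rw [← map_smul]
    refine (Ideal.toCotangent_eq J).mpr ?_
    show a * (p : A) - j ∈ J ^ 2
    rw [← huv, sub_add_cancel_right]
    exact (J ^ 2).neg_mem hu
  · rw [Submodule.span_le, Set.singleton_subset_iff, SetLike.mem_coe, LinearMap.mem_ker,
      KaehlerDifferential.kerCotangentToTensor_toCotangent, Derivation.map_natCast, TensorProduct.tmul_zero]

end Groth.Agent.S4594
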