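import Groth.Statements.S4597
import Mathlib.AlgebraicGeometry.Morphisms.UnderlyingMap
import Mathlib.AlgebraicGeometry.PullbackCarrier

set_option autoImplicit false
universe u
open AlgebraicGeometry CategoryTheory CategoryTheory.Limits
open EGA41

namespace Groth.Agent.S4597

/-- Let f : X → Y, g : Y' → Y and f' : X ×_Y Y' → Y' the base change. If g is quasi-compact surjective
and f' quasi-compact, f is quasi-compact; if g is surjective and f' dominant, f is dominant. -/
theorem result {X Y Y' : Scheme.{u}} (f : X ⟶ Y)
    (g : Y' ⟶ Y) [Surjective g] :
    (QuasiCompact g → QuasiCompact (pullback.snd f g) → QuasiCompact f) ∧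
    (IsDominant (pullback.snd f g) → IsDominant f) := by
  constructor
  · intro hg hsnd
    haveI : QuasiCompact (pullback.fst f g ≫ f) := by rw [pullback.condition]; infer_instance
    refine ⟨fun U hU hU' => ?_⟩
    have h2 := (QuasiCompact.isCompact_preimage (f := pullback.fst f g ≫ f) U hU hU').image (pullback.fst f g).continuous
    rw [Scheme.Hom.comp_base, TopCat.coe_comp, Set.preimage_comp,
      Set.image_preimage_eq _ (pullback.fst f g).surjective] at h2
    exact h2
  · intro h
    haveI : IsDominant g := ⟨g.surjective.denseRange⟩
    haveI : IsDominant (pullback.snd f g ≫ g) := inferInstance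
    rw [← pullback.condition] at *
    haveI : IsDominant (pullback.fst f g ≫ f) := inferInstance
    exact IsDominant.of_comp (pullback.fst f g) f

end Groth.Agent.S4597
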