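import Groth.Statements.S4598
import Mathlib.AlgebraicGeometry.Morphisms.Descent
import Mathlib.AlgebraicGeometry.Morphisms.QuasiSeparated
import Mathlib.AlgebraicGeometry.PullbackCarrier

set_option autoImplicit false
universe u
set_option backward.isDefEq.respectTransparency.types false
set_option backward.isDefEq.respectTransparency false
open AlgebraicGeometry CategoryTheory CategoryTheory.Limits
open EGA41

namespace Groth.Agent.S4598

/-- If g : Y' → Y is quasi-compact and surjective and the base change X ×_Y Y' → Y' of f : X → Y is
quasi-separated, then f is quasi-separated. -/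
theorem result {X Y Y' : Scheme.{u}} (f : X ⟶ Y)
    (g : Y' ⟶ Y) [QuasiCompact g] [Surjective g] [QuasiSeparated (pullback.snd f g)] :
    QuasiSeparated f := by
  have hqc : MorphismProperty.DescendsAlong @QuasiCompact
      (@Surjective ⊓ @QuasiCompact : MorphismProperty Scheme.{u}) := by
    apply IsZariskiLocalAtTarget.descendsAlong
    intro R X Y f g hf h
    obtain ⟨_, _⟩ := hf
    have : CompactSpace X := (quasiCompact_iff_compactSpace f).mp inferInstance
    have : CompactSpace (pullback f g : Scheme) :=
      (quasiCompact_iff_compactSpace (pullback.fst f g ≫ f)).mp (by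
        have := h; infer_instance)
    rw [quasiCompact_iff_compactSpace]
    exact (pullback.snd f g).surjective.compactSpace (pullback.snd f g).continuous
  have hqs : MorphismProperty.DescendsAlong @QuasiSeparated
      (@Surjective ⊓ @QuasiCompact : MorphismProperty Scheme.{u}) := by
    rw [quasiSeparated_eq_diagonal_is_quasiCompact]
    infer_instance
  exact MorphismProperty.of_isPullback_of_descendsAlong (P := @QuasiSeparated)
    (Q := (@Surjective ⊓ @QuasiCompact : MorphismProperty Scheme.{u})) (IsPullback.of_hasPullback f g).flip
    ⟨inferInstance, inferInstance⟩ inferInstance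

end Groth.Agent.S4598
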