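import Groth.Statements.S4600
import Mathlib

set_option autoImplicit false
universe u
open CategoryTheory CategoryTheory.Limits TensorProduct
open EGA41

namespace Groth.Agent.S4600

/-- Let (A_i) be a filtered system of rings with colimit A and B a finitely presented A-algebra. Then
some stage A_i carries a finitely presented algebra B_i with B isomorphic to A ⊗_{A_i} B_i as
A-algebras (existence of an isomorphism; the base change is along the colimit map A_i → A). -/
theorem result {I : Type u} [SmallCategory I] [IsFiltered I]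
    (D : I ⥤ CommRingCat.{u}) (c : Cocone D) (hc : IsColimit c) (B : Type u) [CommRing B] [Algebra c.pt B]
    [Algebra.FinitePresentation c.pt B] :
    ∃ (i : I) (Bi : Type u) (_ : CommRing Bi) (_ : Algebra (D.obj i) Bi),
      Algebra.FinitePresentation (D.obj i) Bi ∧
      (letI : Algebra (D.obj i) c.pt := (c.ι.app i).hom.toAlgebra
       Nonempty (B ≃ₐ[c.pt] (c.pt ⊗[D.obj i] Bi))) := by
  classical
  obtain ⟨n, φ, hφ, s, hs⟩ := Algebra.FinitePresentation.out (R := c.pt) (A := B)
  have hJ : RingHom.ker φ = Ideal.span (s : Set (MvPolynomial (Fin n) c.pt)) := hs.symm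
  have key : ∀ s : Finset (MvPolynomial (Fin n) c.pt), ∃ (i : I) (t : Set (MvPolynomial (Fin n) (D.obj i))),
      t.Finite ∧ (MvPolynomial.map (c.ι.app i).hom) '' t = (s : Set (MvPolynomial (Fin n) c.pt)) := by
    intro s
    induction s using Finset.induction with
    | empty => exact ⟨IsFiltered.nonempty.some, ∅, Set.finite_empty, by simp⟩
    | insert g s _ ih =>
      obtain ⟨i, t, ht, hts⟩ := ih
      suffices h : ∀ g : MvPolynomial (Fin n) c.pt, ∃ (j : I) (g' : MvPolynomial (Fin n) (D.obj j)),
          MvPolynomial.map (c.ι.app j).hom g' = g by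
        obtain ⟨j, g', hg'⟩ := h g
        let k := IsFiltered.max i j
        have hw : ∀ {l : I} (a : l ⟶ k) (x : MvPolynomial (Fin n) (D.obj l)),
            MvPolynomial.map (c.ι.app k).hom (MvPolynomial.map (D.map a).hom x) = MvPolynomial.map (c.ι.app l).hom x := by
          intro l a x
          rw [MvPolynomial.map_map]
          congr 2
          rw [← CommRingCat.hom_comp, c.w a]
        refine ⟨k, insert (MvPolynomial.map (D.map (IsFiltered.rightToMax i j)).hom g')
          (MvPolynomial.map (D.map (IsFiltered.leftToMax i j)).hom '' t), (ht.image _).insert _, ?_⟩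
        rw [Set.image_insert_eq, hw, hg', ← Set.image_comp, Finset.coe_insert, ← hts]
        exact congrArg (insert g) (Set.image_congr fun x _ => hw _ x)
      intro g
      induction g using MvPolynomial.induction_on' with
      | monomial d r =>
        obtain ⟨j, r', hr'⟩ := Concrete.isColimit_exists_rep D hc r
        exact ⟨j, MvPolynomial.monomial d r', by rw [MvPolynomial.map_monomial]; exact congrArg _ hr'⟩
      | add a b ha hb =>
        obtain ⟨j, a', rfl⟩ := ha
        obtain ⟨l, b', rfl⟩ := hb
        let k := IsFiltered.max j l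
        refine ⟨k, MvPolynomial.map (D.map (IsFiltered.leftToMax j l)).hom a' +
          MvPolynomial.map (D.map (IsFiltered.rightToMax j l)).hom b', ?_⟩
        rw [map_add, MvPolynomial.map_map, MvPolynomial.map_map, ← CommRingCat.hom_comp, ← CommRingCat.hom_comp,
          c.w, c.w]
  obtain ⟨i, t, ht, hts⟩ := key s
  refine ⟨i, MvPolynomial (Fin n) (D.obj i) ⧸ Ideal.span t, inferInstance, inferInstance,
    Algebra.FinitePresentation.quotient ⟨ht.toFinset, by rw [Set.Finite.coe_toFinset]⟩, ?_⟩
  let : Algebra (D.obj i) c.pt := (c.ι.app i).hom.toAlgebra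
  let e₁ := Algebra.TensorProduct.tensorQuotientEquiv (R := D.obj i) c.pt (MvPolynomial (Fin n) (D.obj i)) c.pt (Ideal.span t)
  let e₂ : (((c.pt : Type u) ⊗[D.obj i] MvPolynomial (Fin n) (D.obj i)) ⧸ (Ideal.span t).map (Algebra.TensorProduct.includeRight :
      MvPolynomial (Fin n) (D.obj i) →ₐ[D.obj i] (c.pt : Type u) ⊗[D.obj i] MvPolynomial (Fin n) (D.obj i))) ≃ₐ[c.pt]
      (MvPolynomial (Fin n) c.pt ⧸ RingHom.ker φ) :=
    Ideal.quotientEquivAlg _ _ (MvPolynomial.algebraTensorAlgEquiv (D.obj i) c.pt) (by
      show _ = ((Ideal.span t).map (Algebra.TensorProduct.includeRight :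
          MvPolynomial (Fin n) (D.obj i) →ₐ[D.obj i] (c.pt : Type u) ⊗[D.obj i] MvPolynomial (Fin n) (D.obj i)).toRingHom).map
        (MvPolynomial.algebraTensorAlgEquiv (D.obj i) c.pt).toAlgHom.toRingHom
      rw [Ideal.map_map, hJ, ← hts, ← Ideal.map_span]
      congr 1
      ext x <;> simp [RingHom.algebraMap_toAlgebra])
  exact ⟨((e₁.trans e₂).trans (Ideal.quotientKerAlgEquivOfSurjective hφ)).symm⟩

end Groth.Agent.S4600
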