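import Groth.Statements.S4601
import Mathlib

set_option autoImplicit false
universe u
open TensorProduct
open CAlg

namespace Groth.Agent.S4601

/-- Let A be a domain with fraction field K, B a Noetherian A-algebra which is flat over A, K' an
extension field of K, B₁ = B_red and R its total ring of fractions. For every sub-A-algebra A' of
K', the map (A' ⊗_A B)_red → (K' ⊗_A R)_red is injective, i.e. an element of A' ⊗_A B with nilpotent
image in K' ⊗_A R is nilpotent. -/
theorem result {A B K' R : Type u} [CommRing A]
    [IsDomain A] [CommRing B] [Algebra A B] [IsNoetherianRing B] [Module.Flat A B]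
    [Field K'] [Algebra A K'] [Algebra (FractionRing A) K'] [IsScalarTower A (FractionRing A) K']
    [CommRing R] [Algebra (B ⧸ nilradical B) R] [IsFractionRing (B ⧸ nilradical B) R]
    [Algebra B R] [IsScalarTower B (B ⧸ nilradical B) R] [Algebra A R] [IsScalarTower A B R]
    (A' : Subalgebra A K') (x : ↥A' ⊗[A] B)
    (hx : IsNilpotent (Algebra.TensorProduct.map A'.val (IsScalarTower.toAlgHom A B R) x)) :
    IsNilpotent x := by
  have hK : Module.Flat A K' := by
    have : Module.Flat A (FractionRing A) := IsLocalization.flat _ (nonZeroDivisors A)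
    exact Module.Flat.trans A (FractionRing A) K'
  have : IsScalarTower A (B ⧸ nilradical B) R := IsScalarTower.of_algebraMap_eq fun a => by
    rw [IsScalarTower.algebraMap_apply A B R, IsScalarTower.algebraMap_apply B (B ⧸ nilradical B) R,
      IsScalarTower.algebraMap_apply A B (B ⧸ nilradical B)]
  let q : B →ₐ[A] B ⧸ nilradical B := Ideal.Quotient.mkₐ A (nilradical B)
  let φ : (B ⧸ nilradical B) →ₐ[A] R := IsScalarTower.toAlgHom A (B ⧸ nilradical B) R
  have hcomp : IsScalarTower.toAlgHom A B R = φ.comp q := AlgHom.ext fun b => by
    simp [φ, q, IsScalarTower.algebraMap_apply B (B ⧸ nilradical B) R]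
  have hφ : Function.Injective φ := IsFractionRing.injective (B ⧸ nilradical B) R
  have h1 : Function.Injective (Algebra.TensorProduct.map (AlgHom.id A K') φ) := fun a b h =>
    Module.Flat.lTensor_preserves_injective_linearMap (M := K') φ.toLinearMap hφ h
  have h2 : Function.Injective (Algebra.TensorProduct.map A'.val (AlgHom.id A B)) := fun a b h =>
    Module.Flat.rTensor_preserves_injective_linearMap (M := B) A'.val.toLinearMap
      Subtype.val_injective h
  let y := Algebra.TensorProduct.map A'.val (AlgHom.id A B) x
  have hy : IsNilpotent (Algebra.TensorProduct.map (AlgHom.id A K') q y) := by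
    have heq : Algebra.TensorProduct.map (AlgHom.id A K') φ
        (Algebra.TensorProduct.map (AlgHom.id A K') q y) =
        Algebra.TensorProduct.map A'.val (IsScalarTower.toAlgHom A B R) x := by
      rw [hcomp]
      simp only [y, ← AlgHom.comp_apply, ← Algebra.TensorProduct.map_comp, AlgHom.comp_id,
        AlgHom.id_comp]
    obtain ⟨n, hn⟩ := hx
    refine ⟨n, h1 ?_⟩
    rw [map_pow, map_zero, heq]
    exact hn
  suffices IsNilpotent y from (IsNilpotent.map_iff h2).1 this
  obtain ⟨n, hn⟩ := hy
  rw [← map_pow, ← RingHom.mem_ker, Algebra.TensorProduct.lTensor_ker q Ideal.Quotient.mk_surjective] at hn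
  have hker : RingHom.ker q = nilradical B := Ideal.mk_ker
  rw [hker] at hn
  have hle : (nilradical B).map (Algebra.TensorProduct.includeRight : B →ₐ[A] K' ⊗[A] B) ≤
      nilradical (K' ⊗[A] B) := Ideal.map_le_iff_le_comap.2 fun b hb =>
    IsNilpotent.map hb _
  exact IsNilpotent.of_pow (mem_nilradical.1 (hle hn))

end Groth.Agent.S4601
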