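import Groth.Statements.S4602
import Groth.Agent.RegFS6.Field
import Groth.Agent.CplFib6.CplFinite
import Groth.Agent.RegFS6.GenericPrime

set_option autoImplicit false
universe u
open IsLocalRing
open EGA41

namespace Groth.Agent.S4602

/-- Let A be a regular local ring with fraction field of characteristic zero, B a domain containing A
and module-finite over it, with fraction field L, n a prime of B, C = B_n, q a prime of the
completion Ĉ with q ∩ C = 0. Then Ĉ_q is formally smooth over L for the adic topology of its maximal
ideal. (Case (ii) of the published statement, in characteristic p with a suitable filtered family of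
subrings, is not stated.) -/
theorem result
    {A B : Type u} [CommRing A] [IsRegularLocalRing A] [CharZero A] [CommRing B] [IsDomain B] [Algebra A B]
    [Module.Finite A B] (hinj : Function.Injective (algebraMap A B)) (n : Ideal B) [n.IsPrime]
    (q : Ideal (AdicCompletion (maximalIdeal (Localization.AtPrime n)) (Localization.AtPrime n))) [q.IsPrime]
    (hq : q.comap (algebraMap (Localization.AtPrime n)
      (AdicCompletion (maximalIdeal (Localization.AtPrime n)) (Localization.AtPrime n))) = ⊥)
    [Algebra B (Localization.AtPrime q)]
    [IsScalarTower B (AdicCompletion (maximalIdeal (Localization.AtPrime n)) (Localization.AtPrime n))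
      (Localization.AtPrime q)]
    [Algebra (FractionRing B) (Localization.AtPrime q)] [IsScalarTower B (FractionRing B) (Localization.AtPrime q)] :
    CAlgX.IsAdicFormallySmooth (FractionRing B) (Localization.AtPrime q) (maximalIdeal (Localization.AtPrime q)) := by
    haveI : FaithfulSMul A B := (faithfulSMul_iff_algebraMap_injective A B).mpr hinj
    haveI := RegLoc6.isDomain_of_isRegularLocalRing A
    haveI : IsRegularRing A := CplFib6.isRegularRing_of_local A
    haveI : IsNoetherianRing B := IsNoetherianRing.of_finite A B
    haveI : Algebra.IsAlgebraic A (FractionRing B) := by
      haveI : Algebra.IsIntegral A B := Algebra.IsIntegral.of_finite A B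
      haveI : Algebra.IsAlgebraic B (FractionRing B) := IsLocalization.isAlgebraic (FractionRing B) (nonZeroDivisors B)
      exact Algebra.IsAlgebraic.trans A B (FractionRing B)
    haveI : Algebra.EssFiniteType A (FractionRing B) := Algebra.EssFiniteType.comp A B (FractionRing B)
    haveI : FaithfulSMul A (FractionRing B) := (faithfulSMul_iff_algebraMap_injective _ _).mpr (by
      rw [IsScalarTower.algebraMap_eq A B (FractionRing B)]
      exact (IsFractionRing.injective B (FractionRing B)).comp hinj)
    haveI := CplFib6.regular_tensor_cpl_of_finite A (Or.inl ‹CharZero A›) B n (FractionRing B)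
    haveI : IsRegularLocalRing (Localization.AtPrime q) :=
      RegFS6.regular_atPrime_of_generic (FractionRing B) q (by
        rw [IsScalarTower.algebraMap_eq B (Localization.AtPrime n), ← Ideal.comap_comap, hq,
          ← RingHom.ker_eq_comap_bot, ← RingHom.injective_iff_ker_eq_bot]
        exact IsLocalization.injective _ n.primeCompl_le_nonZeroDivisors)
    haveI : CharZero (FractionRing B) :=
      charZero_of_injective_ringHom (FaithfulSMul.algebraMap_injective A (FractionRing B))
    exact RegFS6.fs_of_regular (FractionRing B) (Localization.AtPrime q)

end Groth.Agent.S4602
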