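import Groth.Statements.S4603
import Groth.Agent.EGA41Lib.ConsX
import Mathlib.AlgebraicGeometry.Morphisms.UniversallyClosed

set_option autoImplicit false
universe u
open AlgebraicGeometry CategoryTheory
open EGA41

namespace Groth.Agent.S4603

/-- Let f : X → Y be quasi-compact. The following are equivalent: f is dominant; the fibre of f over
every maximal point of Y (a point with no proper generization, i.e. the generic point of an
irreducible component) is nonempty; every maximal point of Y is the image of a maximal point of X. -/
theorem result {X Y : Scheme.{u}} (f : X ⟶ Y) [QuasiCompact f] :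
    [IsDominant f,
     ∀ y : Y, (∀ y' : Y, y' ⤳ y → y' = y) → y ∈ Set.range f.base,
     ∀ y : Y, (∀ y' : Y, y' ⤳ y → y' = y) → ∃ x : X, (∀ x' : X, x' ⤳ x → x' = x) ∧ f.base x = y].TFAE := by
  tfae_have 1 → 2 := by
    intro h y hy
    have hmem : y ∈ closure (f.base '' Set.univ) := by rw [Set.image_univ, h.1.closure_range]; trivial
    obtain ⟨x, -, hx⟩ := ProConsLib.exists_specializes_of_mem_closure_image_scheme
      (EGA41Lib.pro_iff.mpr fun V hV => by
        haveI := EGA41Lib.spectralSpace_affine hV
        exact @isClosed_univ _ (constructibleTopology _)) f hmem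
    exact ⟨x, hy _ hx⟩
  tfae_have 2 → 3 := by
    intro h y hy
    obtain ⟨x, hx⟩ := h y hy
    have hirr : IsIrreducible (irreducibleComponent x) := isIrreducible_irreducibleComponent
    obtain ⟨η, hη⟩ := QuasiSober.sober hirr isClosed_irreducibleComponent
    have hηx : η ⤳ x := hη.specializes mem_irreducibleComponent
    refine ⟨η, fun x' hx' => ?_, hy _ (hx ▸ hηx.map f.continuous)⟩
    have hsub : irreducibleComponent x ⊆ closure {x'} := by
      rw [← hη]; exact closure_minimal (Set.singleton_subset_iff.mpr (specializes_iff_mem_closure.mp hx')) isClosed_closure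
    have heq := eq_irreducibleComponent isIrreducible_singleton.closure.isPreirreducible hsub
    exact (IsGenericPoint.eq (show IsGenericPoint x' (irreducibleComponent x) from heq) hη)
  tfae_have 3 → 1 := by
    intro h
    refine ⟨fun y => ?_⟩
    obtain ⟨η, hη⟩ := QuasiSober.sober (isIrreducible_irreducibleComponent (x := y)) isClosed_irreducibleComponent
    obtain ⟨x, -, hx⟩ := h η fun y' hy' => by
      have hsub : irreducibleComponent y ⊆ closure {y'} := by
        rw [← hη]; exact closure_minimal (Set.singleton_subset_iff.mpr (specializes_iff_mem_closure.mp hy')) isClosed_closure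
      have heq := eq_irreducibleComponent isIrreducible_singleton.closure.isPreirreducible hsub
      exact IsGenericPoint.eq (show IsGenericPoint y' (irreducibleComponent y) from heq) hη
    exact (hη.specializes mem_irreducibleComponent).mem_closed isClosed_closure (subset_closure ⟨x, hx⟩)
  tfae_finish

end Groth.Agent.S4603
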