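import Groth.Statements.S4605
import Groth.Agent.PPoly4.PReg

set_option autoImplicit false
universe u
open IsLocalRing
open EGA41

namespace Groth.Agent.S4605

/-- Let A be a local ring with maximal ideal m of square zero and residue field K of characteristic p >
0, F_i(T_i) = T_i^p + p Σ_{k=1}^{p-1} c_{ik} T_i^{p-k} − f_i (i in a finite index set) with c_{ik},
f_i ∈ A, and suppose the residues of the f_i in K are p-independent over K^p. Then A' = A[T_i]/(F_i)
is local with maximal ideal m A'. (The identification of the residue field with K(a_i^{1/p}) is not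
restated.) -/
theorem result {A : Type u} [CommRing A]
    [IsLocalRing A] (hm : maximalIdeal A ^ 2 = ⊥) (p : ℕ) [Fact p.Prime] [CharP (ResidueField A) p]
    {ι : Type u} [Finite ι] (c : ι → Fin p → A) (f : ι → A)
    (hind : LinearIndependent (↥(frobenius (ResidueField A) p).fieldRange)
      (fun e : {e : ι →₀ ℕ // ∀ i, e i < p} => EGA41.pMonomial (fun i => residue A (f i)) e.1)) :
    let F : ι → MvPolynomial ι A := fun i =>
      MvPolynomial.X i ^ p + (p : MvPolynomial ι A) * (Finset.univ.sum fun j : Fin p =>
        if (j : ℕ) = 0 then 0 else MvPolynomial.C (c i j) * MvPolynomial.X i ^ (p - (j : ℕ))) - MvPolynomial.C (f i)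
    ∃ _ : IsLocalRing (MvPolynomial ι A ⧸ Ideal.span (Set.range F)),
      maximalIdeal (MvPolynomial ι A ⧸ Ideal.span (Set.range F)) =
        (maximalIdeal A).map (algebraMap A (MvPolynomial ι A ⧸ Ideal.span (Set.range F))) := by
  intro F
  obtain ⟨G, hG, hGF⟩ := PPoly4.exists_pF p c f
  have hF : F = PPoly4.pF p G f := funext fun i => (hGF i).symm
  rw [hF]
  obtain ⟨hloc, hmax⟩ := PPoly4.isLocalRing_pF p G hG f
  refine ⟨hloc, ?_⟩
  rw [hmax, PPoly4.ker_eq_J p G f hind, PPoly4.J, Ideal.map_sup, Ideal.map_quotient_self, sup_bot_eq,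
    Ideal.map_map]
  rfl

end Groth.Agent.S4605
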