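import Groth.Statements.S4606
import Groth.Agent.AdicFS4.Local

set_option autoImplicit false
universe u
open TensorProduct KaehlerDifferential IsLocalRing
open EGA41

namespace Groth.Agent.S4606

/-- Let B be a Noetherian A-algebra formally smooth for the discrete topologies, B → C a surjection with
kernel J, p a prime of C and q its contraction to A. Then C_p is formally smooth over A_q (A_q
discrete, C_p with the adic topology of its maximal ideal) if and only if κ(p) ⊗ J/J² → κ(p) ⊗ (C
⊗_B Ω_{B/A}) is injective. (The equivalent variant with the q-adic topology on A_q is not stated.) -/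
theorem result {A B C : Type u} [CommRing A]
    [CommRing B] [CommRing C] [Algebra A B] [Algebra B C] [Algebra A C] [IsScalarTower A B C] [IsNoetherianRing B]
    [Algebra.FormallySmooth A B] (hsurj : Function.Surjective (algebraMap B C)) (p : Ideal C) [p.IsPrime]
    [Algebra (Localization.AtPrime (p.comap (algebraMap A C))) (Localization.AtPrime p)]
    [IsScalarTower A (Localization.AtPrime (p.comap (algebraMap A C))) (Localization.AtPrime p)] :
    CAlgX.IsAdicFormallySmooth (Localization.AtPrime (p.comap (algebraMap A C))) (Localization.AtPrime p)
        (maximalIdeal (Localization.AtPrime p)) ↔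
      Function.Injective ((kerCotangentToTensor A B C).lTensor p.ResidueField) := by
  rw [AdicFS4.isAdicFormallySmooth_base_iff (A := A) (p.comap (algebraMap A C)).primeCompl]
  haveI : Module.Finite B (RingHom.ker (algebraMap B C)).Cotangent :=
    Module.Finite.of_surjective _ (Ideal.toCotangent_surjective _)
  refine Iff.trans ?_ ((S2463.result hsurj p).out 0 1)
  constructor
  · intro h
    let P := Localization.AtPrime (p.comap (algebraMap B C))
    let S := Localization.AtPrime p
    letI : Algebra P S :=
      (Localization.localRingHom (p.comap (algebraMap B C)) p (algebraMap B C) rfl).toAlgebra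
    haveI : IsScalarTower B P S := IsScalarTower.of_algebraMap_eq fun b => by
      rw [IsScalarTower.algebraMap_apply B C S]
      exact (Localization.localRingHom_to_map _ _ _ _ b).symm
    haveI : IsScalarTower A P S := IsScalarTower.of_algebraMap_eq fun a => by
      rw [IsScalarTower.algebraMap_apply A B P, ← IsScalarTower.algebraMap_apply B P S,
        ← IsScalarTower.algebraMap_apply A B S]
    haveI : IsNoetherianRing P := IsLocalization.isNoetherianRing (p.comap (algebraMap B C)).primeCompl P inferInstance
    haveI : Algebra.FormallyEtale B P := .of_isLocalization (p.comap (algebraMap B C)).primeCompl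
    haveI : Algebra.FormallySmooth A P := .comp A B P
    refine AdicFS4.formallySmooth_of_isAdicFormallySmooth_local (P := P) (fun y => ?_) h
    obtain ⟨⟨c, s⟩, rfl⟩ := IsLocalization.mk'_surjective p.primeCompl y
    obtain ⟨b, rfl⟩ := hsurj c
    obtain ⟨t, ht⟩ := hsurj s.1
    have ht' : t ∈ (p.comap (algebraMap B C)).primeCompl := fun h' => s.2 (ht ▸ h')
    refine ⟨IsLocalization.mk' P b ⟨t, ht'⟩, ?_⟩
    show Localization.localRingHom _ _ _ _ _ = _
    rw [Localization.localRingHom_mk']
    congr 1
    exact Subtype.ext ht
  · intro h
    intro E _ _ J hJ ψ _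
    haveI := h
    exact ⟨Algebra.FormallySmooth.lift J ⟨2, hJ⟩ ψ, Algebra.FormallySmooth.comp_lift J ⟨2, hJ⟩ ψ⟩

end Groth.Agent.S4606
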