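import Groth.Statements.S4607
import Mathlib.RingTheory.Spectrum.Prime.RingHom
import Mathlib.LinearAlgebra.TensorProduct.Tower
import Mathlib.LinearAlgebra.FreeModule.Basic
import Mathlib.LinearAlgebra.TensorProduct.Basis

set_option autoImplicit false
universe u
open TensorProduct
open EGA41
open scoped TensorProduct

namespace Groth.Agent.S4607

/-- First assertion, case of two factors: for A-algebras A' and A'' the image of Spec(A' ⊗_A A'') in
Spec A is the intersection of the images of Spec A' and Spec A''. -/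
theorem result {A A' A'' : Type u} [CommRing A] [CommRing A'] [CommRing A'']
    [Algebra A A'] [Algebra A A''] :
    Set.range (PrimeSpectrum.comap (algebraMap A (A' ⊗[A] A''))) =
      Set.range (PrimeSpectrum.comap (algebraMap A A')) ∩ Set.range (PrimeSpectrum.comap (algebraMap A A'')) := by
  ext p
  constructor
  · rintro ⟨q, rfl⟩
    refine ⟨⟨PrimeSpectrum.comap (Algebra.TensorProduct.includeLeftRingHom) q, ?_⟩,
      ⟨PrimeSpectrum.comap (Algebra.TensorProduct.includeRight : A'' →ₐ[A] A' ⊗[A] A'').toRingHom q, ?_⟩⟩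
    · rw [← PrimeSpectrum.comap_comp_apply]; rfl
    · rw [← PrimeSpectrum.comap_comp_apply, AlgHom.toRingHom_eq_coe, AlgHom.comp_algebraMap]
  · rintro ⟨h1, h2⟩
    rw [← PrimeSpectrum.nontrivial_iff_mem_rangeComap] at h1 h2 ⊢
    let κ := p.asIdeal.ResidueField
    haveI := h1
    haveI := h2
    let e : κ ⊗[A] (A' ⊗[A] A'') ≃ₗ[A] (κ ⊗[A] A') ⊗[κ] (κ ⊗[A] A'') :=
      (TensorProduct.assoc A κ A' A'').symm ≪≫ₗ
        ((TensorProduct.AlgebraTensorModule.cancelBaseChange A κ κ (κ ⊗[A] A') A'').restrictScalars A).symm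
    haveI : Nontrivial ((κ ⊗[A] A') ⊗[κ] (κ ⊗[A] A'')) := by
      let b₁ := Module.Free.chooseBasis κ (κ ⊗[A] A')
      let b₂ := Module.Free.chooseBasis κ (κ ⊗[A] A'')
      haveI := b₁.index_nonempty
      haveI := b₂.index_nonempty
      exact (b₁.tensorProduct b₂).repr.toEquiv.nontrivial
    exact e.toEquiv.nontrivial

end Groth.Agent.S4607
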