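import Groth.Statements.S4608
import Mathlib.AlgebraicGeometry.Limits
import Mathlib.AlgebraicGeometry.Morphisms.QuasiSeparated
import Mathlib.AlgebraicGeometry.Morphisms.ClosedImmersion

set_option autoImplicit false
universe u
open AlgebraicGeometry CategoryTheory CategoryTheory.Limits
open EGA41

namespace Groth.Agent.S4608

/-- A morphism from a disjoint union X' ⨿ X'' → Y is quasi-compact if and only if its two components
are. -/
theorem result {X' X'' Y : Scheme.{u}} (f' : X' ⟶ Y) (f'' : X'' ⟶ Y) :
    QuasiCompact (coprod.desc f' f'') ↔ QuasiCompact f' ∧ QuasiCompact f'' := by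
  refine ⟨fun h => ⟨?_, ?_⟩, fun ⟨h', h''⟩ => ⟨fun U hU hU' => ?_⟩⟩
  · haveI := h
    rw [← coprod.inl_desc f' f'']
    have : IsClosedImmersion (coprod.inl : X' ⟶ X' ⨿ X'') := .of_isPreimmersion _ (by
      rw [← isOpen_compl_iff, (isCompl_range_inl_inr X' X'').compl_eq]
      exact (Scheme.Hom.isOpenEmbedding (coprod.inr : X'' ⟶ X' ⨿ X'')).isOpen_range)
    exact inferInstance
  · haveI := h
    rw [← coprod.inr_desc f' f'']
    have : IsClosedImmersion (coprod.inr : X'' ⟶ X' ⨿ X'') := .of_isPreimmersion _ (by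
      rw [← isOpen_compl_iff, (isCompl_range_inl_inr X' X'').symm.compl_eq]
      exact (Scheme.Hom.isOpenEmbedding (coprod.inl : X' ⟶ X' ⨿ X'')).isOpen_range)
    exact inferInstance
  · have he : ((coprod.desc f' f'').base ⁻¹' U) =
        (coprod.inl : X' ⟶ X' ⨿ X'').base '' (f'.base ⁻¹' U) ∪ (coprod.inr : X'' ⟶ X' ⨿ X'').base '' (f''.base ⁻¹' U) := by
      conv_rhs => rw [← coprod.inl_desc f' f'']; arg 2; rw [← coprod.inr_desc f' f'']
      simp only [Scheme.Hom.comp_base, TopCat.coe_comp, Set.preimage_comp, Set.image_preimage_eq_inter_range,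
        ← Set.inter_union_distrib_left]
      have hu : Set.range (coprod.inl : X' ⟶ X' ⨿ X'').base ∪ Set.range (coprod.inr : X'' ⟶ X' ⨿ X'').base = Set.univ :=
        (isCompl_range_inl_inr X' X'').sup_eq_top
      erw [hu, Set.inter_univ]
    rw [he]
    exact ((QuasiCompact.isCompact_preimage U hU hU').image (Scheme.Hom.continuous _)).union
      ((QuasiCompact.isCompact_preimage U hU hU').image (Scheme.Hom.continuous _))

end Groth.Agent.S4608
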