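import Groth.Statements.S4609
import Mathlib.AlgebraicGeometry.Limits
import Mathlib.AlgebraicGeometry.Morphisms.QuasiSeparated

set_option autoImplicit false
universe u
set_option backward.isDefEq.respectTransparency.types false
set_option backward.isDefEq.respectTransparency false
open AlgebraicGeometry CategoryTheory CategoryTheory.Limits
open EGA41

namespace Groth.Agent.S4609

/-- A morphism from a disjoint union X' ⨿ X'' → Y is quasi-separated if and only if its two components
are. -/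
theorem result {X' X'' Y : Scheme.{u}} (f' : X' ⟶ Y) (f'' : X'' ⟶ Y) :
    QuasiSeparated (coprod.desc f' f'') ↔ QuasiSeparated f' ∧ QuasiSeparated f'' := by
  refine ⟨fun h => ⟨?_, ?_⟩, fun ⟨h', h''⟩ => ?_⟩
  · haveI := h
    rw [← coprod.inl_desc f' f'']
    infer_instance
  · haveI := h
    rw [← coprod.inr_desc f' f'']
    infer_instance
  · rw [IsZariskiLocalAtTarget.iff_of_iSup_eq_top (P := @QuasiSeparated.{u}) (fun U : Y.affineOpens => U.1)
      (iSup_affineOpens_eq_top Y)]
    intro U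
    haveI : IsAffine (U.1 : Scheme) := U.2
    rw [HasAffineProperty.iff_of_isAffine (P := @QuasiSeparated)]
    refine (isQuasiSeparated_iff_quasiSeparatedSpace _ ((coprod.desc f' f'') ⁻¹ᵁ U.1).2).mp ?_
    intro S T hS hSo hSc hT hTo hTc
    have hq' : IsQuasiSeparated ((f' ⁻¹ᵁ U.1 : X'.Opens) : Set X') := f'.isQuasiSeparated_preimage U.2.isQuasiSeparated
    have hq'' : IsQuasiSeparated ((f'' ⁻¹ᵁ U.1 : X''.Opens) : Set X'') := f''.isQuasiSeparated_preimage U.2.isQuasiSeparated
    have key : ∀ {Z : Scheme.{u}} (i : Z ⟶ X' ⨿ X'') [IsOpenImmersion i] (g : Z ⟶ Y),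
        i ≫ coprod.desc f' f'' = g → IsQuasiSeparated ((g ⁻¹ᵁ U.1 : Z.Opens) : Set Z) → IsClosed (Set.range i.base) →
        IsCompact (S ∩ T ∩ Set.range i.base) := by
      intro Z i _ g hg hq hcl
      have h1 : ∀ W : Set ↥(X' ⨿ X''), IsCompact W → IsCompact (i.base ⁻¹' W) := fun W hW => by
        rw [i.isOpenEmbedding.isInducing.isCompact_iff, Set.image_preimage_eq_inter_range]
        exact hW.inter_right hcl
      have h2 : ∀ W : Set ↥(X' ⨿ X''), W ⊆ ((coprod.desc f' f'') ⁻¹ᵁ U.1 : (X' ⨿ X'').Opens) →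
          i.base ⁻¹' W ⊆ ((g ⁻¹ᵁ U.1 : Z.Opens) : Set Z) := fun W hW z hz => by
        rw [← hg]; exact hW hz
      have := (hq _ _ (h2 S hS) (hSo.preimage i.continuous) (h1 S hSc) (h2 T hT) (hTo.preimage i.continuous) (h1 T hTc)).image i.continuous
      rwa [← Set.preimage_inter, Set.image_preimage_eq_inter_range] at this
    have hcup : S ∩ T = (S ∩ T ∩ Set.range (coprod.inl : X' ⟶ X' ⨿ X'').base) ∪ (S ∩ T ∩ Set.range (coprod.inr : X'' ⟶ X' ⨿ X'').base) := by
      have hu : Set.range (coprod.inl : X' ⟶ X' ⨿ X'').base ∪ Set.range (coprod.inr : X'' ⟶ X' ⨿ X'').base = Set.univ :=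
        (isCompl_range_inl_inr X' X'').sup_eq_top
      rw [← Set.inter_union_distrib_left]
      erw [hu, Set.inter_univ]
    rw [hcup]
    refine (key _ f' (coprod.inl_desc f' f'') hq' ?_).union (key _ f'' (coprod.inr_desc f' f'') hq'' ?_)
    · rw [← isOpen_compl_iff, (isCompl_range_inl_inr X' X'').compl_eq]
      exact (Scheme.Hom.isOpenEmbedding (coprod.inr : X'' ⟶ X' ⨿ X'')).isOpen_range
    · rw [← isOpen_compl_iff, (isCompl_range_inl_inr X' X'').symm.compl_eq]
      exact (Scheme.Hom.isOpenEmbedding (coprod.inl : X' ⟶ X' ⨿ X'')).isOpen_range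

end Groth.Agent.S4609
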