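import Groth.Statements.S4611
import Mathlib.RingTheory.EssentialFiniteness
import Mathlib.RingTheory.Localization.AtPrime.Basic
import Mathlib.RingTheory.Adjoin.Polynomial.Basic

set_option autoImplicit false
universe u
open EGA41

namespace Groth.Agent.S4611

/-- A local algebra essentially of finite type over a ring A is A-isomorphic to a quotient of a
localization A[T_1, …, T_n]_q of a polynomial algebra at a prime ideal q; stated as the existence of
a surjective A-algebra map from such a localization. -/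
theorem result {A B : Type u} [CommRing A]
    [CommRing B] [IsLocalRing B] [Algebra A B] [Algebra.EssFiniteType A B] :
    ∃ (n : ℕ) (q : Ideal (MvPolynomial (Fin n) A)) (_ : q.IsPrime)
      (φ : Localization.AtPrime q →ₐ[A] B), Function.Surjective φ := by
  classical
  obtain ⟨σ, hσ⟩ := (Algebra.essFiniteType_iff A B).mp inferInstance
  let e := σ.equivFin
  let φ0 : MvPolynomial (Fin σ.card) A →ₐ[A] B := MvPolynomial.aeval fun i => ((e.symm i : σ) : B)
  have hrange : Algebra.adjoin A (σ : Set B) = φ0.range := by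
    rw [← Algebra.adjoin_range_eq_range_aeval]
    congr 1
    ext z
    exact ⟨fun hz => ⟨e ⟨z, hz⟩, by simp⟩, fun ⟨i, hi⟩ => hi ▸ (e.symm i).2⟩
  let q : Ideal (MvPolynomial (Fin σ.card) A) := (IsLocalRing.maximalIdeal B).comap φ0
  haveI : q.IsPrime := Ideal.IsPrime.comap _
  let φ : Localization.AtPrime q →ₐ[A] B := IsLocalization.liftAlgHom (M := q.primeCompl) (f := φ0)
    (fun s => (IsLocalRing.notMem_maximalIdeal).mp s.2)
  refine ⟨σ.card, q, inferInstance, φ, fun s => ?_⟩
  obtain ⟨t, ht, htu, hst⟩ := hσ s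
  rw [hrange] at ht hst
  obtain ⟨t', rfl⟩ := ht
  obtain ⟨a', ha'⟩ := hst
  have htq : t' ∈ q.primeCompl := fun h => (IsLocalRing.mem_maximalIdeal _).mp h htu
  refine ⟨IsLocalization.mk' _ a' ⟨t', htq⟩, ?_⟩
  apply htu.mul_left_injective
  show φ (IsLocalization.mk' _ a' ⟨t', htq⟩) * φ0 t' = s * φ0 t'
  have hφ : ∀ x, φ (algebraMap _ (Localization.AtPrime q) x) = φ0 x := fun x => IsLocalization.lift_eq _ x
  rw [← hφ t', ← map_mul, IsLocalization.mk'_spec, hφ, hφ]
  exact ha'

end Groth.Agent.S4611
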