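import Groth.Statements.S4621
import Groth.Agent.GeomConn5.Comp
import Mathlib.AlgebraicGeometry.Geometrically.Connected

set_option autoImplicit false
open CategoryTheory AlgebraicGeometry
universe u
open FBase

namespace Groth.Agent.S4621

/-- Let h : Y → X be a morphism of schemes over a field k, with Y nonempty and geometrically connected
over k. Then the connected component of X containing the (connected) image h(Y) is geometrically
connected: for every extension field K of k, the inverse image in X ⊗_k K of the connected component
of h(y), for a point y of Y, is connected. -/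
theorem result {k K : Type u} [Field k] [Field K] [Algebra k K]
    {X Y : Scheme.{u}} (f : X ⟶ Spec (CommRingCat.of k)) (g : Y ⟶ Spec (CommRingCat.of k)) (h : Y ⟶ X) (w : h ≫ f = g)
    [GeometricallyConnected g] (y : Y) :
    _root_.IsConnected (⇑(FBase.bcπ f K) ⁻¹' connectedComponent (h y)) := by
  letI : X.Over (Spec (CommRingCat.of k)) := ⟨f⟩
  subst w
  let q := Spec.map (CommRingCat.ofHom (algebraMap k K))
  haveI : ConnectedSpace ↥(Limits.pullback (h ≫ f) q) :=
    GeometricallyConnected.geometrically_connectedSpace (f := h ≫ f) _ _ _ (IsPullback.of_hasPullback _ _)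
  let hK : Limits.pullback (h ≫ f) q ⟶ Curv2.bc k X K :=
    Limits.pullback.map _ _ _ _ h (𝟙 _) (𝟙 _) (Category.comp_id _) ((Category.comp_id _).trans (Category.id_comp _).symm)
  refine Groth.Agent.GeomConn5.isConnected_preimage_connectedComponent K (h y)
    (isPreconnected_range hK.continuous) fun z hz => ?_
  obtain ⟨s, hs1, hs2⟩ := Scheme.Pullback.exists_preimage_pullback (f := h) (g := Curv2.bcFst k X K) y z
    (show h y = Curv2.bcFst k X K z from (Eq.symm hz))
  let l : Limits.pullback h (Curv2.bcFst k X K) ⟶ Limits.pullback (h ≫ f) q :=
    Limits.pullback.lift (Limits.pullback.fst _ _) (Limits.pullback.snd _ _ ≫ Limits.pullback.snd _ _) (by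
      rw [Limits.pullback.condition_assoc, Category.assoc]
      congr 1
      exact Limits.pullback.condition)
  have hl : l ≫ hK = Limits.pullback.snd h (Curv2.bcFst k X K) := by
    apply Limits.pullback.hom_ext
    · rw [Category.assoc]; erw [Limits.pullback.lift_fst, Limits.pullback.lift_fst_assoc]; exact Limits.pullback.condition
    · rw [Category.assoc]; erw [Limits.pullback.lift_snd, Category.comp_id, Limits.pullback.lift_snd]
  exact ⟨l s, (congr($(hl).base s)).trans hs2⟩

end Groth.Agent.S4621
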