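import Groth.Statements.S4622
import Groth.Agent.MorLib.UnivHomeo
import Groth.Agent.FBaseLib.Basic
import Mathlib.FieldTheory.PurelyInseparable.Basic
import Mathlib.AlgebraicGeometry.Morphisms.Integral

set_option autoImplicit false
open CategoryTheory AlgebraicGeometry
universe u
open FBase

namespace Groth.Agent.S4622

open Groth.Agent CategoryTheory.Limits

/-- Let k be a separably closed field, k' an algebraic closure of k and X a scheme over k. Then the
projection X ⊗_k k' → X is a universal homeomorphism. -/
theorem result {k k' : Type u} [Field k] [IsSepClosed k] [Field k'] [Algebra k k']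
    [IsAlgClosure k k'] {X : Scheme.{u}} (f : X ⟶ Spec (CommRingCat.of k)) :
    FlatMor.IsUnivHomeo (FBase.bcπ f k') := by
  haveI : Algebra.IsAlgebraic k k' := IsAlgClosure.isAlgebraic
  haveI : IsPurelyInseparable k k' := inferInstance
  let s := Spec.map (CommRingCat.ofHom (algebraMap k k'))
  haveI : IsIntegralHom s := (IsIntegralHom.SpecMap_iff).mpr (algebraMap_isIntegral_iff.mpr (Algebra.IsAlgebraic.isIntegral))
  haveI : UniversallyInjective s := by
    refine ((tfae_universallyInjective s).out 0 1 rfl rfl).mpr fun L _ g₁ g₂ hg => ?_
    obtain ⟨a, rfl⟩ := Spec.map_surjective g₁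
    obtain ⟨b, rfl⟩ := Spec.map_surjective g₂
    have h := Spec.map_injective (((Spec.map_comp _ a).trans hg).trans (Spec.map_comp _ b).symm)
    congr 1
    exact CommRingCat.hom_ext (IsPurelyInseparable.injective_comp_algebraMap k k' L congr(($h).hom))
  haveI : UniversallyClosed (FBase.bcπ f k') := MorphismProperty.pullback_fst (P := @UniversallyClosed) _ _ inferInstance
  haveI : UniversallyInjective (FBase.bcπ f k') := MorphismProperty.pullback_fst (P := @UniversallyInjective) _ _ inferInstance
  haveI := FBaseLib.surjective_bcπ f k'
  exact MorLib.isUnivHomeo_of_universallyClosed (FBase.bcπ f k')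

end Groth.Agent.S4622
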