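import Groth.Statements.S4623
import Groth.Agent.FBaseLib.Basic

set_option autoImplicit false
open CategoryTheory AlgebraicGeometry
universe u
open FBase

namespace Groth.Agent.S4623

open Groth.Agent CategoryTheory.Limits

/-- Let h : X → Y be a surjective morphism of schemes over a field k. If X is geometrically irreducible
over k, then Y is geometrically irreducible over k. -/
theorem result {k : Type u} [Field k] {X Y : Scheme.{u}}
    (f : X ⟶ Spec (CommRingCat.of k)) (g : Y ⟶ Spec (CommRingCat.of k)) (h : X ⟶ Y) (w : h ≫ g = f)
    [Surjective h] [GeometricallyIrreducible f] : GeometricallyIrreducible g := by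
  refine ⟨geometrically_iff_of_isClosedUnderIsomorphisms.mpr fun K _ y => ?_⟩
  haveI : IrreducibleSpace ↥(pullback f y) := pullback_of_geometrically (GeometricallyIrreducible.geometrically_irreducibleSpace (f := f)) K y
  haveI : IrreducibleSpace ↥(pullback h (pullback.fst g y)) :=
    ((pullback.congrHom w.symm rfl) ≪≫ (pullbackRightPullbackFstIso g y h).symm).hom.homeomorph.irreducibleSpace_iff.mp ‹_›
  haveI : Surjective (pullback.snd h (pullback.fst g y)) := MorphismProperty.pullback_snd _ _ inferInstance
  exact FBaseLib.irreducibleSpace_of_surjective (pullback.snd h (pullback.fst g y))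

end Groth.Agent.S4623
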