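import Groth.Statements.S4632
import Groth.Agent.FDescent.QuasiFlat

set_option autoImplicit false
open CategoryTheory AlgebraicGeometry
universe u
open FDesc

namespace Groth.Agent.S4632

open Groth.Agent.FDescent

open CategoryTheory.Limits in
/-- Let f : X → Y be a quasi-compact dominant morphism and g : Y' → Y a quasi-flat morphism (for
instance a flat one). Then the base change X ×_Y Y' → Y' is dominant. -/
theorem result {X Y Y' : Scheme.{u}} (f : X ⟶ Y) (g : Y' ⟶ Y)
    [QuasiCompact f] [IsDominant f] (hg : FDesc.IsQuasiFlat g) : IsDominant (pullback.snd f g) := by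
  refine ⟨fun y' => ?_⟩
  obtain ⟨x, hx⟩ := exists_specializes_of_mem_closure_range f ((IsDominant.denseRange (f := f)) (g.base y'))
  obtain ⟨y'', hy'', he⟩ := generalizingMap_of_isQuasiFlat g hg hx
  obtain ⟨z, -, hz⟩ := Scheme.Pullback.exists_preimage_pullback (f := f) (g := g) x y'' he.symm
  exact closure_mono (Set.singleton_subset_iff.mpr (show y'' ∈ Set.range (pullback.snd f g).base from ⟨z, hz⟩)) (specializes_iff_mem_closure.mp hy'')

end Groth.Agent.S4632
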