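import Groth.Statements.S4633
import Groth.Agent.FDescent.QuasiFlatBC
import Groth.Agent.FDescent.MaxPoint

set_option autoImplicit false
open CategoryTheory AlgebraicGeometry
universe u
open FDesc

namespace Groth.Agent.S4633

open Groth.Agent.FDescent CategoryTheory.Limits

open CategoryTheory.Limits in
/-- Let f : X → Y be a morphism such that every irreducible component of X dominates an irreducible
component of Y (the closure of its image under f is an irreducible component of Y), and let g : Y' →
Y be quasi-flat (for instance flat). Then every irreducible component of X ×_Y Y' dominates an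
irreducible component of Y'. -/
theorem result {X Y Y' : Scheme.{u}} (f : X ⟶ Y) (g : Y' ⟶ Y)
    (hf : ∀ Z ∈ irreducibleComponents ↥X, closure (⇑f '' Z) ∈ irreducibleComponents ↥Y)
    (hg : FDesc.IsQuasiFlat g) (Z' : Set ↥(pullback f g)) (hZ' : Z' ∈ irreducibleComponents ↥(pullback f g)) :
    closure (⇑(pullback.snd f g) '' Z') ∈ irreducibleComponents ↥Y' := by
  obtain ⟨z, rfl, hz⟩ := exists_maximal_of_mem_irreducibleComponents hZ'
  let x := (pullback.fst f g).base z
  let y' := (pullback.snd f g).base z
  have hxmax : ∀ x', x' ⤳ x → x' = x := fun x' hx' => by
    obtain ⟨z', hz', rfl⟩ := generalizingMap_pullback_fst f g hg hx'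
    rw [hz z' hz']
  have hxY : ∀ w, w ⤳ f.base x → w = f.base x := fun w hw => by
    refine maximal_of_closure_mem_irreducibleComponents ?_ hw
    have := hf _ (closure_mem_irreducibleComponents hxmax)
    rwa [closure_image_closure f.continuous, Set.image_singleton] at this
  have hymax : ∀ w, w ⤳ y' → w = y' := fun w hw => by
    have hy : g.base y' = f.base x := congr($((pullback.condition (f := f) (g := g)).symm).base z)
    have hw' : g.base w = f.base x := hxY _ (hy ▸ hw.map g.continuous)
    let a := X.fromSpecResidueField x
    let s := Spec.map (f.residueFieldMap x)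
    let b := Y.fromSpecResidueField (f.base x)
    haveI : Flat s := by
      haveI : RingHom.Flat (f.residueFieldMap x).hom := by
        letI := (f.residueFieldMap x).hom.toAlgebra
        letI : Field (Y.residueField (f.base x)) := inferInstance
        exact (inferInstance : Module.Flat (Y.residueField (f.base x)) (X.residueField x))
      exact (HasRingHomProperty.Spec_iff (P := @Flat)).mpr this
    have hsa : s ≫ b = a ≫ f := f.SpecMap_residueFieldMap_fromSpecResidueField x
    let P₂ := pullback b g
    let h := pullback.snd s (pullback.fst b g)
    let Φ : pullback s (pullback.fst b g) ⟶ pullback f g :=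
      pullback.lift (pullback.fst _ _ ≫ a) (h ≫ pullback.snd b g) (by
        rw [Category.assoc, ← hsa, ← Category.assoc, pullback.condition, Category.assoc, pullback.condition,
          ← Category.assoc])
    have hΦs : Φ ≫ pullback.snd f g = h ≫ pullback.snd b g := pullback.lift_snd _ _ _
    let k := (pullback f g).fromSpecResidueField z
    let q : Spec ((pullback f g).residueField z) ⟶ pullback s (pullback.fst b g) :=
      pullback.lift (Spec.map ((pullback.fst f g).residueFieldMap z))
        (pullback.lift (Spec.map ((pullback.fst f g).residueFieldMap z) ≫ s) (k ≫ pullback.snd f g) (by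
          rw [Category.assoc, Category.assoc, hsa, ← pullback.condition, ← Category.assoc, ← Category.assoc,
            Scheme.Hom.SpecMap_residueFieldMap_fromSpecResidueField])) (by rw [pullback.lift_fst])
    have hq : q ≫ Φ = k := by
      apply pullback.hom_ext
      · rw [Category.assoc, pullback.lift_fst, pullback.lift_fst_assoc,
          Scheme.Hom.SpecMap_residueFieldMap_fromSpecResidueField]
      · rw [Category.assoc, pullback.lift_snd, pullback.lift_snd_assoc, pullback.lift_snd]
    let v := q.base (IsLocalRing.closedPoint _)
    have hv : Φ.base v = z := by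
      rw [← Scheme.Hom.comp_apply, hq]
      exact Scheme.fromSpecResidueField_apply _ _
    haveI : IsPreimmersion (pullback.snd b g) := MorphismProperty.pullback_snd _ _ inferInstance
    have hwr : w ∈ Set.range (pullback.snd b g).base := by
      rw [Scheme.Pullback.range_snd, Set.mem_preimage]
      exact ⟨IsLocalRing.closedPoint _, (Scheme.fromSpecResidueField_apply _ _).trans hw'.symm⟩
    obtain ⟨w₂, hw₂⟩ := hwr
    have he : (pullback.snd b g).base (h.base v) = y' := by
      rw [← Scheme.Hom.comp_apply, ← hΦs,
        Scheme.Hom.comp_apply, hv]
    have hsp : w₂ ⤳ h.base v := by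
      rw [← (pullback.snd b g).isEmbedding.isInducing.specializes_iff, hw₂, he]
      exact hw
    obtain ⟨v', hv', rfl⟩ := Flat.generalizingMap h hsp
    have hz' := hz _ (hv ▸ hv'.map Φ.continuous)
    rw [← hw₂, ← Scheme.Hom.comp_apply, ← hΦs,
      Scheme.Hom.comp_apply, hz']
  rw [closure_image_closure (pullback.snd f g).continuous, Set.image_singleton]
  exact closure_mem_irreducibleComponents hymax

end Groth.Agent.S4633
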