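import Groth.Statements.S4635
import Groth.Agent.AssLib.FlatFibre

set_option autoImplicit false
open CategoryTheory AlgebraicGeometry
universe u
open FBase

namespace Groth.Agent.S4635

open CategoryTheory CategoryTheory.Limits

open CategoryTheory.Limits in
/-- Let X and Y be integral locally Noetherian schemes over a field k such that X ×_k Y is locally
Noetherian. Then the structure sheaf of X ×_k Y has no embedded associated points. -/
theorem result {k : Type u} [Field k] {X Y : Scheme.{u}}
    (f : X ⟶ Spec (CommRingCat.of k)) (g : Y ⟶ Spec (CommRingCat.of k)) [IsIntegral X] [IsIntegral Y]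
    [IsLocallyNoetherian X] [IsLocallyNoetherian Y] [IsLocallyNoetherian (pullback f g)] :
    AssSch.NoEmbedded (Coh.structureModule (pullback f g)) := by
  haveI := AssLib.flat_over_field f
  haveI := AssLib.flat_over_field g
  rw [AssLib.noEmbedded_iff_maximal]
  intro z hz y hy
  rw [AssLib.mem_ass_structureModule_iff] at hz
  haveI : Flat (pullback.fst f g) := inferInstance
  haveI : Flat (pullback.snd f g) := inferInstance
  have key : ∀ {W : Scheme.{u}} [IsLocallyNoetherian W] [IsIntegral W] (p : pullback f g ⟶ W) [Flat p],
      p z = genericPoint W := by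
    intro W _ _ p _
    have hd := AssLib.depthZero_map p hz
    obtain ⟨e, he0, he⟩ := hd
    have : IsLocalRing.maximalIdeal (W.presheaf.stalk (p z)) = ⊥ := eq_bot_iff.2 fun r hr =>
      (Submodule.mem_bot _).2 ((mul_eq_zero.1 (he r hr)).resolve_right he0)
    have hmax := (AssLib.dimZero_iff (p z)).1 fun P hP =>
      ((IsLocalRing.le_maximalIdeal hP.ne_top).antisymm (this.trans_le bot_le))
    exact (hmax _ ((genericPoint_spec W).specializes (Set.mem_univ _))).symm
  exact AssLib.eq_of_depthZero_product f g hz (key _) (key _) hy

end Groth.Agent.S4635
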