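import Groth.Statements.S4638
import Groth.Agent.AssLib.Apply

set_option autoImplicit false
open CategoryTheory AlgebraicGeometry
universe u
open AssSch

namespace Groth.Agent.S4638

/-- Let X be a locally Noetherian scheme, F a quasi-coherent O_X-module and f a global section of O_X.
Then f is F-regular, i.e. multiplication by the germ of f is injective on every stalk of F, if and
only if every associated point of F lies in the open subset X_f where f does not vanish. -/
theorem result {X : Scheme.{u}} [IsLocallyNoetherian X] (F : X.Modules)
    (hF : Coh.IsQCoh F) (f : Γ(X, ⊤)) :
    (∀ x : X, IsSMulRegular ↑(F.presheaf.stalk x) (X.presheaf.germ ⊤ x trivial f)) ↔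
      AssSch.Ass F ⊆ (X.basicOpen f : Set ↥X) := by
    exact AssLib.forall_isSMulRegular_iff hF f

end Groth.Agent.S4638
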