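import Groth.Statements.S4639
import Groth.Agent.FDescent.EmbeddingDescent

set_option autoImplicit false
open CategoryTheory AlgebraicGeometry
universe u
open FDesc

namespace Groth.Agent.S4639

/-- The property of being quasi-compact and universally bicontinuous (every base change is a
homeomorphism onto its image) descends along a surjective, flat and quasi-compact base change. -/
theorem result :
    MorphismProperty.DescendsAlong
      (MorphismProperty.universally (topologically (fun f => Topology.IsEmbedding f)) ⊓ @QuasiCompact : MorphismProperty Scheme.{u})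
      (@Surjective ⊓ @Flat ⊓ @QuasiCompact : MorphismProperty Scheme.{u}) := by
  refine ⟨fun {A X Y Z fst snd f g} h hf hfst => ?_⟩
  obtain ⟨⟨hs, hfl⟩, hq⟩ := hf
  obtain ⟨he, hfq⟩ := hfst
  have hgq : QuasiCompact g := (S0079.result).of_isPullback h ⟨⟨hs, hfl⟩, hq⟩ hfq
  haveI := hs
  haveI := hfl
  haveI := hgq
  refine ⟨fun Y₁ Z₁ i₁ i₂ g₁ h₁ => ?_, hgq⟩
  let k₁ := Limits.pullback.fst i₂ f
  haveI : Flat k₁ := MorphismProperty.pullback_fst _ _ inferInstance
  haveI : Surjective k₁ := MorphismProperty.pullback_fst _ _ inferInstance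
  haveI : QuasiCompact g₁ := MorphismProperty.of_isPullback h₁.flip inferInstance
  let f₁' := Limits.pullback.snd g₁ k₁
  have hsq : IsPullback f₁' (Limits.pullback.fst g₁ k₁) k₁ g₁ := (IsPullback.of_hasPullback g₁ k₁).flip
  refine FDescent.isEmbedding_of_isPullback hsq ?_
  have hout : IsPullback f₁' (Limits.pullback.fst g₁ k₁ ≫ i₁) (Limits.pullback.snd i₂ f ≫ f) g := by
    rw [show Limits.pullback.snd i₂ f ≫ f = k₁ ≫ i₂ from Limits.pullback.condition.symm]
    exact hsq.paste_vert h₁
  let j : Limits.pullback g₁ k₁ ⟶ A := h.lift (f₁' ≫ Limits.pullback.snd i₂ f) (Limits.pullback.fst g₁ k₁ ≫ i₁)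
    (by rw [Category.assoc]; exact hout.w)
  refine he j (Limits.pullback.snd i₂ f) f₁' (IsPullback.of_bot ?_ (h.lift_fst _ _ _).symm h)
  rw [show j ≫ snd = Limits.pullback.fst g₁ k₁ ≫ i₁ from h.lift_snd _ _ _]
  exact hout

end Groth.Agent.S4639
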