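import Groth.Statements.S4640
import Mathlib.RingTheory.Flat.TorsionFree
import Mathlib.RingTheory.Localization.BaseChange
import Mathlib.LinearAlgebra.TensorProduct.RightExactness

set_option autoImplicit false
universe u
open FDesc

namespace Groth.Agent.S4640

open TensorProduct in
/-- Let A be a Dedekind domain with fraction field K, M an A-module and P' a K-submodule of K ⊗_A M. Let
φ : M → (K ⊗_A M)/P' be m ↦ class of 1 ⊗ m. Then a submodule Q of M equals ker φ if and only if M/Q
is a flat A-module and the kernel of the induced surjection K ⊗_A M → K ⊗_A (M/Q) is P'. Thus M/ker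
φ is the unique flat quotient of M with generic fibre (K ⊗_A M)/P'. (The published statement takes A
Noetherian, regular and of dimension 1; a field is allowed here, where the statement is immediate.) -/
theorem result {A K : Type u} [CommRing A] [IsDedekindDomain A] [Field K]
    [Algebra A K] [IsFractionRing A K] {M : Type u} [AddCommGroup M] [Module A M]
    (P' : Submodule K (K ⊗[A] M)) (Q : Submodule A M) :
    Q = LinearMap.ker ((P'.restrictScalars A).mkQ ∘ₗ TensorProduct.mk A K M 1) ↔
      (Module.Flat A (M ⧸ Q) ∧ LinearMap.ker (Q.mkQ.baseChange K) = P') := by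
  let ι : M →ₗ[A] K ⊗[A] M := TensorProduct.mk A K M 1
  let Q₀ := LinearMap.ker ((P'.restrictScalars A).mkQ ∘ₗ ι)
  change Q = Q₀ ↔ _
  haveI : IsLocalizedModule (nonZeroDivisors A) ι :=
    (isLocalizedModule_iff_isBaseChange (nonZeroDivisors A) K ι).mpr (TensorProduct.isBaseChange A M K)
  have memQ₀ : ∀ m, m ∈ Q₀ ↔ ι m ∈ P' := fun m => by simp [Q₀]
  have hne : ∀ s : nonZeroDivisors A, algebraMap A K s ≠ 0 := fun s =>
    IsFractionRing.to_map_ne_zero_of_mem_nonZeroDivisors s.2
  have hP : ∀ (s : nonZeroDivisors A) (x : K ⊗[A] M), (s : A) • x ∈ P' → x ∈ P' := fun s x h => by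
    rw [← algebraMap_smul K] at h
    have h' := P'.smul_mem (algebraMap A K s)⁻¹ h
    rwa [inv_smul_smul₀ (hne s)] at h'
  -- kernel of the base change for a torsion free quotient
  have key : ∀ R : Submodule A M, Module.Flat A (M ⧸ R) → ∀ (x : K ⊗[A] M) (m : M) (s : nonZeroDivisors A),
      (s : A) • x = ι m → (x ∈ LinearMap.ker (R.mkQ.baseChange K) ↔ m ∈ R) := by
    intro R hR x m s hs
    have h1 : x ∈ LinearMap.ker (R.mkQ.baseChange K) ↔ (1 : K) ⊗ₜ[A] R.mkQ m = 0 := by
      have e : R.mkQ.baseChange K (ι m) = (1 : K) ⊗ₜ[A] R.mkQ m := rfl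
      rw [← e, ← hs, ← algebraMap_smul K, map_smul, smul_eq_zero, LinearMap.mem_ker]
      simp [hne s]
    rw [h1]
    refine ⟨fun h => ?_, fun h => ?_⟩
    · haveI : IsLocalizedModule (nonZeroDivisors A) (TensorProduct.mk A K (M ⧸ R) 1) :=
        (isLocalizedModule_iff_isBaseChange (nonZeroDivisors A) K _).mpr (TensorProduct.isBaseChange A (M ⧸ R) K)
      obtain ⟨c, hc⟩ := (IsLocalizedModule.eq_zero_iff (nonZeroDivisors A) (TensorProduct.mk A K (M ⧸ R) 1)).mp h
      have hT := Module.Flat.torsion_eq_bot (R := A) (M := M ⧸ R)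
      have hmem : R.mkQ m ∈ Submodule.torsion A (M ⧸ R) := ⟨c, hc⟩
      rw [hT] at hmem
      exact (Submodule.Quotient.mk_eq_zero R).mp hmem
    · rw [show R.mkQ m = 0 from (Submodule.Quotient.mk_eq_zero R).mpr h, TensorProduct.tmul_zero]
  have hflat : Module.Flat A (M ⧸ Q₀) := by
    rw [IsDedekindDomain.flat_iff_torsion_eq_bot, eq_bot_iff]
    rintro x ⟨c, hc⟩
    obtain ⟨m, rfl⟩ := Submodule.Quotient.mk_surjective _ x
    rw [Submonoid.smul_def, ← Submodule.Quotient.mk_smul, Submodule.Quotient.mk_eq_zero, memQ₀, map_smul] at hc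
    rw [Submodule.mem_bot, Submodule.Quotient.mk_eq_zero, memQ₀]
    exact hP c _ hc
  constructor
  · rintro rfl
    refine ⟨hflat, ?_⟩
    ext x
    obtain ⟨⟨m, s⟩, hs⟩ := IsLocalizedModule.surj (nonZeroDivisors A) ι x
    rw [key Q₀ hflat x m s hs, memQ₀, ← hs]
    exact ⟨hP s x, fun h => P'.smul_of_tower_mem _ h⟩
  · rintro ⟨hQ, hk⟩
    ext m
    rw [← key Q hQ (ι m) m 1 (by simp), hk, memQ₀]

end Groth.Agent.S4640
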