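import Groth.Statements.S4644
import Groth.Agent.VarDim.Top
import Groth.Agent.H23.TopDim
import Mathlib.AlgebraicGeometry.Noetherian

set_option autoImplicit false
open CategoryTheory AlgebraicGeometry
universe u
open FBase

namespace Groth.Agent.S4644

/-- Let Y be a nonempty scheme locally of finite type over a field k whose irreducible components all
have the same dimension, and let Z be a locally closed subset of Y (the underlying set of a
subscheme). Then Z is nowhere dense in Y if and only if dim Z < dim Y. (For Y empty the left side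
holds and the right side fails, so Y is taken nonempty; dimensions are Krull dimensions of the
underlying spaces.) -/
theorem result {k : Type u} [Field k] {Y : Scheme.{u}} [Nonempty ↥Y]
    (g : Y ⟶ Spec (CommRingCat.of k)) [LocallyOfFiniteType g]
    (heq : ∀ T ∈ irreducibleComponents ↥Y, topologicalKrullDim ↥T = topologicalKrullDim ↥Y)
    (Z : Set ↥Y) (hZ : IsLocallyClosed Z) :
    IsNowhereDense Z ↔ topologicalKrullDim ↥Z < topologicalKrullDim ↥Y := by
  haveI : IsLocallyNoetherian Y := LocallyOfFiniteType.isLocallyNoetherian g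
  -- maximal points
  have hcomp : ∀ T ∈ irreducibleComponents ↥Y, ∃ η : Y, closure ({η} : Set Y) = T ∧
      topologicalKrullDim ↥Y = ((VarDim.deg g η : ℕ∞) : WithBot ℕ∞) := fun T hT => by
    obtain ⟨η, hη⟩ := QuasiSober.sober hT.1 (isClosed_of_mem_irreducibleComponents T hT)
    refine ⟨η, hη, ?_⟩
    rw [← heq T hT, ← VarDim.topologicalKrullDim_closure_singleton g η]
    rw [show closure ({η} : Set Y) = T from hη]
  obtain ⟨y₀⟩ := ‹Nonempty ↥Y›
  obtain ⟨η₀, -, hd⟩ := hcomp _ (irreducibleComponent_mem_irreducibleComponents y₀)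
  obtain ⟨d, hd'⟩ : ∃ d : ℕ, VarDim.deg g η₀ = d := ⟨_, rfl⟩
  rw [hd'] at hd
  have hle : ∀ y : Y, VarDim.deg g y ≤ d := fun y => by
    have : ((VarDim.deg g y : ℕ∞) : WithBot ℕ∞) ≤ topologicalKrullDim ↥Y := by
      rw [VarDim.topologicalKrullDim_eq_iSup_deg g]; exact le_iSup_of_le y le_rfl
    rw [hd] at this
    exact_mod_cast this
  have hmax : ∀ y : Y, ∃ η : Y, η ⤳ y ∧ VarDim.deg g η = d ∧ (∀ z, z ⤳ η → z = η) ∧
      closure ({η} : Set Y) ∈ irreducibleComponents ↥Y := fun y => by
    obtain ⟨η, hη, hdη⟩ := hcomp _ (irreducibleComponent_mem_irreducibleComponents y)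
    rw [hd] at hdη
    have hc : closure ({η} : Set Y) ∈ irreducibleComponents ↥Y := hη ▸ irreducibleComponent_mem_irreducibleComponents y
    refine ⟨η, specializes_iff_mem_closure.2 (hη ▸ mem_irreducibleComponent), (by exact_mod_cast hdη.symm), fun z hz => ?_, hc⟩
    have h1 : closure ({η} : Set Y) ⊆ closure {z} :=
      closure_minimal (Set.singleton_subset_iff.2 (specializes_iff_mem_closure.1 hz)) isClosed_closure
    have h2 : closure ({z} : Set Y) ⊆ closure {η} := hc.2 isIrreducible_singleton.closure h1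
    exact (hz.antisymm (specializes_iff_mem_closure.2 (h2 (subset_closure rfl)))).eq
  constructor
  · intro hnd
    have hlt : ∀ z ∈ closure Z, VarDim.deg g z < d := by
      intro z hz
      refine lt_of_le_of_ne (hle z) fun hzd => ?_
      obtain ⟨η, hηz, hdη, hηmax, hηc⟩ := hmax z
      obtain rfl : z = η := by
        by_contra hne
        have : VarDim.deg g z < VarDim.deg g η := VarDim.deg_strictMono g
          (lt_iff_le_not_ge.2 ⟨hηz, fun h => hne (hηmax z h)⟩)
        omega
      obtain ⟨W, hW, hzW, -⟩ := exists_isAffineOpen_mem_and_subset (x := z) (U := ⊤) trivial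
      haveI : IsNoetherianRing Γ(Y, W) := IsLocallyNoetherian.component_noetherian ⟨W, hW⟩
      haveI : TopologicalSpace.NoetherianSpace ↥W := noetherianSpace_of_isAffineOpen W hW
      obtain ⟨o, ho, hone, hoc⟩ := TopologicalSpace.NoetherianSpace.exists_isOpen_nonempty_subset_irreducibleComponent
        (irreducibleComponent (⟨z, hzW⟩ : ↥W)) (irreducibleComponent_mem_irreducibleComponents _)
      obtain ⟨w, hw⟩ := hone
      have hsub : Subtype.val '' o ⊆ interior (closure Z) := by
        refine interior_maximal ?_ (W.isOpen.isOpenMap_subtype_val o ho)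
        rintro _ ⟨v, hv, rfl⟩
        refine closure_minimal (Set.singleton_subset_iff.2 hz) isClosed_closure ?_
        have h1 : IsIrreducible (Subtype.val '' (irreducibleComponent (⟨z, hzW⟩ : ↥W))) :=
          isIrreducible_irreducibleComponent.image _ continuous_subtype_val.continuousOn
        obtain ⟨ξ, hξ⟩ := QuasiSober.sober h1.closure isClosed_closure
        have hξz : ξ ⤳ z := hξ.specializes (subset_closure ⟨⟨z, hzW⟩, mem_irreducibleComponent, rfl⟩)
        rw [← hηmax ξ hξz, show closure ({ξ} : Set Y) = _ from hξ]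
        exact subset_closure ⟨v, hoc hv, rfl⟩
      exact (show interior (closure Z) ≠ ∅ from Set.nonempty_iff_ne_empty.1 ⟨w.1, hsub ⟨w, hw, rfl⟩⟩) hnd
    refine lt_of_le_of_lt (H23.TopDim.dim_le_dim_of_subset subset_closure) ?_
    rw [VarDim.topologicalKrullDim_set_eq_iSup_deg g isClosed_closure, hd]
    cases d with
    | zero =>
      haveI : IsEmpty ↥(closure Z) := ⟨fun z => Nat.not_lt_zero _ (hlt z.1 z.2)⟩
      rw [ciSup_of_empty]
      exact WithBot.bot_lt_coe _
    | succ d =>
      refine lt_of_le_of_lt (iSup_le fun z : ↥(closure Z) => ?_) (b := ((d : ℕ∞) : WithBot ℕ∞)) (by exact_mod_cast Nat.lt_succ_self d)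
      exact_mod_cast Nat.lt_succ_iff.1 (hlt z.1 z.2)
  · intro hlt
    by_contra hne
    obtain ⟨a, ha⟩ := Set.nonempty_iff_ne_empty.2 (show interior (closure Z) ≠ ∅ from hne)
    obtain ⟨b, hbO, hbZ⟩ := mem_closure_iff.1 (interior_subset ha) _ isOpen_interior ha
    obtain ⟨U₀, C, hU, hC, hZeq⟩ := hZ
    have hbU : b ∈ U₀ := (hZeq ▸ hbZ : b ∈ U₀ ∩ C).1
    have hclC : closure Z ⊆ C := closure_minimal (hZeq ▸ Set.inter_subset_right) hC
    let V : Y.Opens := ⟨interior (closure Z) ∩ U₀, isOpen_interior.inter hU⟩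
    have hVZ : (V : Set Y) ⊆ Z := fun v hv => hZeq ▸ ⟨hv.2, hclC (interior_subset hv.1)⟩
    obtain ⟨η, hηb, hdη, -, -⟩ := hmax b
    have hηV : η ∈ V := hηb.mem_open V.isOpen ⟨hbO, hbU⟩
    have h1 : ((d : ℕ∞) : WithBot ℕ∞) ≤ topologicalKrullDim ↥Z := by
      refine le_trans ?_ (H23.TopDim.dim_le_dim_of_subset hVZ)
      rw [VarDim.topologicalKrullDim_opens_eq_iSup_deg g V]
      refine le_iSup_of_le ⟨η, hηV⟩ ?_
      rw [hdη]
    rw [hd] at hlt
    exact absurd h1 hlt.not_ge

end Groth.Agent.S4644
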