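import Groth.Statements.S4645
import Groth.Agent.GeomConn5.FiniteSep

set_option autoImplicit false
open CategoryTheory AlgebraicGeometry
universe u
open FBase

namespace Groth.Agent.S4645

/-- Let X be a scheme over a field k with finitely many connected components, each of which contains a
point x such that the separable algebraic closure of k in κ(x) has finite degree over k. Then there
is a finite separable extension k'' of k such that all connected components of X ⊗_k k'' are
geometrically connected over k'': for every extension field K of k'' and every point x' of X ⊗_k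
k'', the inverse image in (X ⊗_k k'') ⊗_{k''} K of the connected component of x' is connected. -/
theorem result {k : Type u} [Field k] {X : Scheme.{u}}
    (f : X ⟶ Spec (CommRingCat.of k)) [Finite (_root_.ConnectedComponents ↥X)]
    (hx : ∀ c : _root_.ConnectedComponents ↥X, ∃ x : X, _root_.ConnectedComponents.mk x = c ∧
      FBase.ResidueFieldProp f x (fun K _ _ => FiniteDimensional k (separableClosure k K))) :
    ∃ (k'' : Type u) (_ : Field k'') (_ : Algebra k k''), FiniteDimensional k k'' ∧ Algebra.IsSeparable k k'' ∧
      ∀ (K : Type u) [Field K] [Algebra k'' K] (x' : ↥(FBase.bc f k'')),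
        _root_.IsConnected (⇑(FBase.bcπ (FBase.bcStr f k'') K) ⁻¹' connectedComponent x') := by
  classical
  letI : X.Over (Spec (CommRingCat.of k)) := ⟨f⟩
  letI : ∀ x : X, Algebra k (X.residueField x) := fun x => Curv2.resAlgebra k X x
  have hx' : ∀ c : _root_.ConnectedComponents ↥X, ∃ x : X, _root_.ConnectedComponents.mk x = c ∧
      FiniteDimensional k (separableClosure k (X.residueField x)) := fun c => by
    obtain ⟨x, h1, h2⟩ := hx c
    exact ⟨x, h1, (Groth.Agent.GeomConn5.residueFieldProp_iff x _).1 h2⟩
  choose pt hpt hfd using hx'
  let ι := Σ c : _root_.ConnectedComponents ↥X, (separableClosure k (X.residueField (pt c)) →ₐ[k] SeparableClosure k)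
  haveI : ∀ c, Finite (separableClosure k (X.residueField (pt c)) →ₐ[k] SeparableClosure k) := fun c =>
    haveI := hfd c
    Finite.of_fintype _
  let L : IntermediateField k (SeparableClosure k) := ⨆ i : ι, i.2.fieldRange
  haveI : ∀ i : ι, FiniteDimensional k i.2.fieldRange := fun i =>
    haveI := hfd i.1
    LinearEquiv.finiteDimensional (AlgEquiv.ofInjectiveField i.2).toLinearEquiv
  haveI : FiniteDimensional k L := IntermediateField.finiteDimensional_iSup_of_finite
  refine ⟨L, inferInstance, inferInstance, inferInstance, inferInstance, fun K _ _ x' => ?_⟩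
  letI : Algebra k K := ((algebraMap L K).comp (algebraMap k L)).toAlgebra
  haveI : IsScalarTower k L K := IsScalarTower.of_algebraMap_eq fun _ => rfl
  refine Groth.Agent.GeomConn5.isConnected_preimage_bcMap (X := X) L (pt (_root_.ConnectedComponents.mk (Curv2.bcFst k X L x'))) ?_ x' ?_ K
  · intro σ w
    exact (le_iSup (fun i : ι => i.2.fieldRange) ⟨_, σ⟩) ⟨w, rfl⟩
  · exact ConnectedComponents.coe_eq_coe'.1 (hpt _)

end Groth.Agent.S4645
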