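import Groth.Statements.S4646
import Groth.Agent.GeomConn5.Irred

set_option autoImplicit false
open CategoryTheory AlgebraicGeometry
universe u
open FBase

namespace Groth.Agent.S4646

/-- Let X be a scheme over a field k having finitely many irreducible components, such that for the
generic point x of each irreducible component the separable algebraic closure of k in κ(x) has
finite degree over k. Then there is a finite separable extension L of k such that all irreducible
components of X ⊗_k L are geometrically irreducible over L: for every extension field K of L and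
every irreducible component Z' of X ⊗_k L, the inverse image of Z' in (X ⊗_k L) ⊗_L K is
irreducible. (No finite-type hypothesis on X.) -/
theorem result {k : Type u} [Field k] {X : Scheme.{u}}
    (f : X ⟶ Spec (CommRingCat.of k)) [Finite ↥(irreducibleComponents ↥X)]
    (hx : ∀ (Z : Set ↥X) (hZ : Z ∈ irreducibleComponents ↥X),
      FBase.ResidueFieldProp f hZ.1.genericPoint (fun K _ _ => FiniteDimensional k (separableClosure k K))) :
    ∃ (L : Type u) (_ : Field L) (_ : Algebra k L), FiniteDimensional k L ∧ Algebra.IsSeparable k L ∧
      ∀ (K : Type u) [Field K] [Algebra L K] (Z' : Set ↥(FBase.bc f L)), Z' ∈ irreducibleComponents ↥(FBase.bc f L) →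
        IsIrreducible (⇑(FBase.bcπ (FBase.bcStr f L) K) ⁻¹' Z') := by
  classical
  letI : X.Over (Spec (CommRingCat.of k)) := ⟨f⟩
  letI : ∀ x : X, Algebra k (X.residueField x) := fun x => Curv2.resAlgebra k X x
  have hfd : ∀ c : irreducibleComponents ↥X, FiniteDimensional k (separableClosure k (X.residueField c.2.1.genericPoint)) :=
    fun c => (Groth.Agent.GeomConn5.residueFieldProp_iff _ _).1 (hx c.1 c.2)
  let ι := Σ c : irreducibleComponents ↥X, (separableClosure k (X.residueField c.2.1.genericPoint) →ₐ[k] SeparableClosure k)
  haveI : ∀ c : irreducibleComponents ↥X,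
      Finite (separableClosure k (X.residueField c.2.1.genericPoint) →ₐ[k] SeparableClosure k) := fun c =>
    haveI := hfd c
    Finite.of_fintype _
  let L : IntermediateField k (SeparableClosure k) := ⨆ i : ι, i.2.fieldRange
  haveI : ∀ i : ι, FiniteDimensional k i.2.fieldRange := fun i =>
    haveI := hfd i.1
    LinearEquiv.finiteDimensional (AlgEquiv.ofInjectiveField i.2).toLinearEquiv
  haveI : FiniteDimensional k L := IntermediateField.finiteDimensional_iSup_of_finite
  refine ⟨L, inferInstance, inferInstance, inferInstance, inferInstance, fun K _ _ Z' hZ' => ?_⟩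
  letI : Algebra k K := ((algebraMap L K).comp (algebraMap k L)).toAlgebra
  haveI : IsScalarTower k L K := IsScalarTower.of_algebraMap_eq fun _ => rfl
  have hc := Groth.Agent.GeomField.image_component (k := k) (X := X) L (T := Z') hZ'
  obtain ⟨η, hη, -⟩ := Groth.Agent.GeomField.maximal_of_component hZ'
  rw [← hη.def]
  have hgen := Groth.Agent.GeomField.isGenericPoint_image (k := k) (X := X) (K := L) hη
  have heq : Curv2.bcFst k X L η = (hc.1).genericPoint :=
    hgen.eq (by
      have := hc.1.isGenericPoint_genericPoint_closure
      rwa [(isClosed_of_mem_irreducibleComponents _ hc).closure_eq] at this)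
  refine Groth.Agent.GeomConn5.isIrreducible_preimage_bcMap (X := X) L _ ?_ η heq K
  intro σ w
  exact (le_iSup (fun i : ι => i.2.fieldRange) ⟨⟨_, hc⟩, σ⟩) ⟨w, rfl⟩

end Groth.Agent.S4646
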