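import Groth.Statements.S4648
import Groth.Agent.FDescent.QuasiFlat
import Groth.Agent.ProConsLib.Image
import Groth.Agent.S2495

set_option autoImplicit false
open CategoryTheory AlgebraicGeometry
universe u
open FDesc

namespace Groth.Agent.S4648

open Groth.Agent Groth.Agent.FDescent

/-- Let f : X → Y be a quasi-flat, surjective and quasi-compact morphism and Z a subset of Y. Then Z is
a locally closed pro-constructible subset of Y if and only if f⁻¹(Z) is a locally closed
pro-constructible subset of X. -/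
theorem result {X Y : Scheme.{u}} (f : X ⟶ Y)
    (hf : FDesc.IsQuasiFlat f) [Surjective f] [QuasiCompact f] (Z : Set ↥Y) :
    (IsLocallyClosed Z ∧ ProCons.IsProConstructible Z) ↔
      (IsLocallyClosed (⇑f ⁻¹' Z) ∧ ProCons.IsProConstructible (⇑f ⁻¹' Z)) := by
  refine ⟨fun ⟨h1, h2⟩ => ⟨h1.preimage f.continuous, ProConsLib.preimage h2 f⟩, fun ⟨h1, h2⟩ => ?_⟩
  have himg : ⇑f '' (⇑f ⁻¹' Z) = Z := Set.image_preimage_eq Z f.surjective
  have hcl : ⇑f ⁻¹' closure Z = closure (⇑f ⁻¹' Z) := by
    refine preimage_closure_eq (f := f) (generalizingMap_of_isQuasiFlat f hf) fun y hy => ?_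
    obtain ⟨x, hx, hxy⟩ := ProConsLib.exists_specializes_of_mem_closure_image_scheme h2 f (y := y) (himg.symm ▸ hy)
    exact ⟨f.base x, hx, hxy⟩
  have hlc : IsLocallyClosed Z := by
    rw [isLocallyClosed_iff_isOpen_coborder] at h1 ⊢
    rw [← (Groth.Agent.S2495.result f hf).isOpen_preimage]
    rw [coborder_eq_union_closure_compl] at h1 ⊢
    rwa [Set.preimage_union, Set.preimage_compl, hcl]
  refine ⟨hlc, ProConsLib.isProConstructible_of_isLocallyClosed hlc fun V hV => ?_⟩
  rw [← himg]
  exact ProConsLib.isCompact_image_inter h2 f hV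

end Groth.Agent.S4648
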