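import Groth.Statements.S4652
import Groth.Agent.QCoh.LocFree

set_option autoImplicit false
open CategoryTheory AlgebraicGeometry
universe u
open FDesc

namespace Groth.Agent.S4652

/-- Let X be a scheme, F a finitely presented O_X-module and x a point of X. Then F_x is a flat module
over the local ring O_{X,x} if and only if x has an open neighbourhood U such that the restriction
of F to U is finite locally free. -/
theorem result {X : Scheme.{u}} (F : X.Modules) (hF : CohB1.IsFP F) (x : X) :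
    FlatMod.IsFlatAt F x ↔ ∃ U : X.Opens, x ∈ U ∧ FlatMod.IsFinLocFree ((Scheme.Modules.pullback U.ι).obj F) := by
  open Groth.Agent.QCoh in
  constructor
  · intro h
    have hM := isQCoh_of_isFP hF
    haveI := finite_stalk_of_isFT hM (isFT_of_isFP hF) x
    haveI : Module.Flat (X.presheaf.stalk x) (F.presheaf.stalk x) := h
    haveI : Module.Free (X.presheaf.stalk x) (F.presheaf.stalk x) := Module.free_of_flat_of_isLocalRing
    obtain ⟨U, n, hx, ⟨e⟩⟩ := exists_free_nhd_of_free_stalk hF x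
    refine ⟨U, hx, fun y => ⟨⊤, n, trivial, ⟨?_⟩⟩⟩
    exact (Scheme.Modules.restrictFunctor (⊤ : (U : Scheme.{u}).Opens).ι).mapIso
      ((((Scheme.Modules.restrictFunctorIsoPullback U.ι).app F).symm) ≪≫ e) ≪≫ freeModRestrict _ n
  · rintro ⟨U, hx, h⟩
    obtain ⟨W, n, hW, ⟨e⟩⟩ := h ⟨x, hx⟩
    let V := U.ι ''ᵁ W
    have hxV : x ∈ V := ⟨⟨x, hx⟩, hW, rfl⟩
    obtain ⟨_, ⟨A, hA, rfl⟩, hxA, hle⟩ := X.isBasis_affineOpens.exists_subset_of_mem_open hxV V.2
    have e1 : (F.restrict U.ι).restrict W.ι ≅ FlatMod.freeMod W n :=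
      (Scheme.Modules.restrictFunctor W.ι).mapIso ((Scheme.Modules.restrictFunctorIsoPullback U.ι).app F) ≪≫ e
    have e2 : F.restrict V.ι ≅ FlatMod.freeMod (V : Scheme.{u}) n :=
      (Scheme.Modules.restrictFunctorCongr (show V.ι = ((U.ι.isoImage W).inv ≫ W.ι) ≫ U.ι by
        rw [Category.assoc, Iso.eq_inv_comp, Scheme.Hom.isoImage_hom_ι])).app F ≪≫
      (restrictRestrict F ((U.ι.isoImage W).inv ≫ W.ι) U.ι).symm ≪≫
      (restrictRestrict (F.restrict U.ι) (U.ι.isoImage W).inv W.ι).symm ≪≫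
      (Scheme.Modules.restrictFunctor (U.ι.isoImage W).inv).mapIso e1 ≪≫ freeModRestrict _ n
    obtain ⟨l⟩ := free_sections hA hle e2
    haveI : Module.Free Γ(X, A) Γ(F, A) := Module.Free.of_equiv l.symm
    exact (flat_sections_iff (isQCoh_of_isFP hF) hA).1 inferInstance x hxA

end Groth.Agent.S4652
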