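import Groth.Statements.S4653
import Groth.Agent.AssTensor5.Main

set_option autoImplicit false
open CategoryTheory AlgebraicGeometry
universe u
open FDesc

namespace Groth.Agent.S4653

open AlgebraicGeometry CategoryTheory Groth.Agent

/-- Let f : X → Y be a morphism of schemes, F a quasi-coherent O_X-module of finite type which is flat
over Y, E a quasi-coherent O_Y-module of finite type, and x a point of X with image y. Then x is a
maximal point of the support of f^*E ⊗ F (a point of the support admitting no proper generization in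
it) if and only if y is a maximal point of Supp E and x, viewed in the fibre f⁻¹(y), is a maximal
point of the support of the restriction of F to that fibre. -/
theorem result {X Y : Scheme.{u}} (f : X ⟶ Y) (F : X.Modules) (hF : Coh.IsCoh F)
    (hfl : FlatMod.IsFlatOver f F) (E : Y.Modules) (hE : Coh.IsCoh E) (x : X) :
    (x ∈ CohB1.support (CohB1.tensorMod ((Scheme.Modules.pullback f).obj E) F) ∧
        ∀ z ∈ CohB1.support (CohB1.tensorMod ((Scheme.Modules.pullback f).obj E) F), z ⤳ x → z = x) ↔
      ((f x ∈ CohB1.support E ∧ ∀ w ∈ CohB1.support E, w ⤳ f x → w = f x) ∧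
        (f.asFiber x ∈ CohB1.support ((Scheme.Modules.pullback (f.fiberι (f x))).obj F) ∧
          ∀ z ∈ CohB1.support ((Scheme.Modules.pullback (f.fiberι (f x))).obj F), z ⤳ f.asFiber x → z = f.asFiber x)) := by
    have hT : ∀ z, z ∈ CohB1.support (CohB1.tensorMod ((Scheme.Modules.pullback f).obj E) F) ↔
        z ∈ CohB1.support F ∧ f z ∈ CohB1.support E := fun z => AssTensor5.mem_support_tensE_iff hF.2 (hfl z)
    have hfib : ∀ a : ↥(f.fiber (f x)), a ∈ CohB1.support ((Scheme.Modules.pullback (f.fiberι (f x))).obj F) ↔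
        f.fiberι (f x) a ∈ CohB1.support F := fun a => AssTensor5.mem_support_fiber_iff hF.2 a rfl
    constructor
    · rintro ⟨hx, hmax⟩
      obtain ⟨hxF, hyE⟩ := (hT x).1 hx
      refine ⟨⟨hyE, fun w hw hwy => ?_⟩, (hfib _).2 (by rwa [f.fiberι_asFiber]), fun a ha hax => ?_⟩
      · obtain ⟨z, hz, hzx, hfz⟩ := AssTensor5.exists_specializes_support hF.2 hF.1 (hfl x) hxF hwy
        rw [← hfz, hmax z ((hT z).2 ⟨hz, hfz ▸ hw⟩) hzx]
      · have h1 := hmax _ ((hT _).2 ⟨(hfib a).1 ha, (FibDim.fiber_apply_fiberι f a).symm ▸ hyE⟩)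
          (by simpa using (FibDim.fiberι_specializes_iff f _ _).2 hax)
        exact (f.fiberι (f x)).isEmbedding.injective (h1.trans (f.fiberι_asFiber x).symm)
    · rintro ⟨⟨hyE, hymax⟩, hxs, hxmax⟩
      refine ⟨(hT x).2 ⟨by simpa using (hfib _).1 hxs, hyE⟩, fun z hz hzx => ?_⟩
      obtain ⟨hzF, hzE⟩ := (hT z).1 hz
      obtain ⟨a, rfl⟩ := AssTensor5.exists_fiber_point (hymax _ hzE (hzx.map f.continuous))
      rw [hxmax a ((hfib a).2 hzF) ((FibDim.fiberι_specializes_iff f _ _).1 (by simpa using hzx)), f.fiberι_asFiber]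

end Groth.Agent.S4653
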