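import Groth.Statements.S4655
import Groth.Agent.KFlatLib.Scheme.Pullback
import Groth.Agent.MorLib.FlatBC
import Mathlib.RingTheory.Flat.FaithfullyFlat.Algebra
import Mathlib.AlgebraicGeometry.Morphisms.Flat

set_option autoImplicit false
open CategoryTheory AlgebraicGeometry
universe u
open FDesc

namespace Groth.Agent.S4655

open TensorProduct in
theorem flat_of_tensor (A B C M : Type u) [CommRing A] [CommRing B] [CommRing C] [Algebra A B]
    [Algebra B C] [Algebra A C] [IsScalarTower A B C] [Module.FaithfullyFlat B C] [AddCommGroup M]
    [Module A M] [Module B M] [IsScalarTower A B M] [Module.Flat A (C ⊗[B] M)] : Module.Flat A M := by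
  refine Module.Flat.iff_lTensor_preserves_injective_linearMap.mpr fun P Q _ _ _ _ i hi => ?_
  rw [← AlgebraTensorModule.coe_lTensor (A := B), ← Module.FaithfullyFlat.lTensor_injective_iff_injective B C]
  have hnat : ∀ z, (AlgebraTensorModule.assoc A B B C M Q).symm
      ((AlgebraTensorModule.lTensor B M i).lTensor C z) =
        i.lTensor (C ⊗[B] M) ((AlgebraTensorModule.assoc A B B C M P).symm z) := fun z => by
    induction z using TensorProduct.induction_on with
    | zero => simp
    | add a b ha hb => simp only [map_add, ha, hb]
    | tmul c w =>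
      induction w using TensorProduct.induction_on with
      | zero => simp
      | add a b ha hb => simp only [tmul_add, map_add, ha, hb]
      | tmul m p => simp
  intro a b hab
  apply (AlgebraTensorModule.assoc A B B C M P).symm.injective
  apply Module.Flat.lTensor_preserves_injective_linearMap (M := C ⊗[B] M) i hi
  rw [← hnat, ← hnat, hab]


/-- Let f : X → Y be a faithfully flat morphism (flat and surjective), g : Y → Z a morphism and G a
quasi-coherent O_Y-module. Then G is flat over Z if and only if the inverse image f^*G is flat over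
Z with respect to the composite morphism X → Z. -/
theorem result {X Y Z : Scheme.{u}} (f : X ⟶ Y) (g : Y ⟶ Z) [Flat f] [Surjective f]
    (G : Y.Modules) (hG : Coh.IsQCoh G) :
    FlatMod.IsFlatOver g G ↔ FlatMod.IsFlatOver (f ≫ g) ((Scheme.Modules.pullback f).obj G) := by
  have key : ∀ x, FlatMod.IsFlatOverAt g G (f.base x) ↔
      FlatMod.IsFlatOverAt (f ≫ g) ((Scheme.Modules.pullback f).obj G) x := fun x => by
    letI := (g.stalkMap (f.base x)).hom.toAlgebra
    letI : Algebra (Y.presheaf.stalk (f.base x)) (X.presheaf.stalk x) := (f.stalkMap x).hom.toAlgebra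
    letI : Algebra (Z.presheaf.stalk (g.base (f.base x))) (X.presheaf.stalk x) :=
      ((f ≫ g).stalkMap x).hom.toAlgebra
    haveI : IsScalarTower (Z.presheaf.stalk (g.base (f.base x))) (Y.presheaf.stalk (f.base x))
        (X.presheaf.stalk x) := IsScalarTower.of_algebraMap_eq fun a => by
      show ((f ≫ g).stalkMap x).hom a = _
      rw [Scheme.Hom.stalkMap_comp]; rfl
    haveI : Module.Flat (Y.presheaf.stalk (f.base x)) (X.presheaf.stalk x) := Flat.stalkMap f x
    haveI : IsLocalHom (algebraMap (Y.presheaf.stalk (f.base x)) (X.presheaf.stalk x)) :=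
      inferInstanceAs (IsLocalHom (f.stalkMap x).hom)
    haveI := Module.FaithfullyFlat.of_flat_of_isLocalHom
      (A := Y.presheaf.stalk (f.base x)) (B := X.presheaf.stalk x)
    letI := FlatMod.moduleStalkOver g G (f.base x)
    haveI : IsScalarTower (Z.presheaf.stalk (g.base (f.base x))) (Y.presheaf.stalk (f.base x))
        (G.presheaf.stalk (f.base x)) := IsScalarTower.of_algebraMap_smul fun _ _ => rfl
    letI : Module (Z.presheaf.stalk (g.base (f.base x))) (((Scheme.Modules.pullback f).obj G).presheaf.stalk x) :=
      FlatMod.moduleStalkOver (f ≫ g) ((Scheme.Modules.pullback f).obj G) x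
    let e₀ : ((Scheme.Modules.pullback f).obj G).presheaf.stalk x ≃ₗ[X.presheaf.stalk x]
        TensorProduct (Y.presheaf.stalk (f.base x)) (X.presheaf.stalk x) (G.presheaf.stalk (f.base x)) :=
      ((Groth.Agent.KFlatLib.stalkPullbackIso f x).app G).toLinearEquiv
    haveI : IsScalarTower (Z.presheaf.stalk (g.base (f.base x))) (X.presheaf.stalk x)
        (((Scheme.Modules.pullback f).obj G).presheaf.stalk x) :=
      IsScalarTower.of_algebraMap_smul fun _ _ => rfl
    let e := e₀.restrictScalars (Z.presheaf.stalk (g.base (f.base x)))
    constructor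
    · intro h
      haveI : Module.Flat (Z.presheaf.stalk (g.base (f.base x))) (G.presheaf.stalk (f.base x)) := h
      haveI : Module.Flat (Z.presheaf.stalk (g.base (f.base x)))
          (TensorProduct (Y.presheaf.stalk (f.base x)) (X.presheaf.stalk x) (G.presheaf.stalk (f.base x))) :=
        Groth.Agent.MorLib.FlatBC.flat_tensor_of_flat
      have r : Module.Flat (Z.presheaf.stalk (g.base (f.base x)))
          (((Scheme.Modules.pullback f).obj G).presheaf.stalk x) := Module.Flat.of_linearEquiv e
      exact r
    · intro h
      haveI : Module.Flat (Z.presheaf.stalk (g.base (f.base x)))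
          (((Scheme.Modules.pullback f).obj G).presheaf.stalk x) := h
      haveI := Module.Flat.of_linearEquiv e.symm
      exact flat_of_tensor _ (Y.presheaf.stalk (f.base x)) (X.presheaf.stalk x) _
  refine ⟨fun h x => (key x).1 (h _), fun h y => ?_⟩
  obtain ⟨x, rfl⟩ := f.surjective y
  exact (key x).2 (h x)

end Groth.Agent.S4655
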