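import Groth.Statements.S4657
import Groth.Agent.AssLib.OpenRestrict
import Groth.Agent.AssLib.Basic

set_option autoImplicit false
open CategoryTheory AlgebraicGeometry
universe u
open AssSch

namespace Groth.Agent.S4657

/-- Let X be a locally Noetherian scheme, U an open subset of X and F a coherent O_X-module such that U
∩ Supp F is dense in Supp F. Then F is a reduced module if and only if its restriction to U is a
reduced module and F has no embedded associated points. -/
theorem result {X : Scheme.{u}} [IsLocallyNoetherian X] (U : X.Opens) (F : X.Modules)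
    (hF : Coh.IsCoh F) (hdense : CohB1.support F ⊆ closure ((U : Set ↥X) ∩ CohB1.support F)) :
    AssSch.IsReducedMod F ↔ AssSch.IsReducedMod ((Scheme.Modules.pullback U.ι).obj F) ∧ AssSch.NoEmbedded F := by
  have hA : ∀ z : (U : Scheme.{u}), z ∈ AssSch.Ass ((Scheme.Modules.pullback U.ι).obj F) ↔
      U.ι.base z ∈ AssSch.Ass F := fun z => AssLib.mem_ass_pullback_iff U.ι F z
  constructor
  · rintro ⟨hne, hlen⟩
    refine ⟨⟨fun z hz w hw h => ?_, fun z hz => ?_⟩, hne⟩
    · exact U.ι.isOpenEmbedding.injective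
        (hne _ ((hA z).1 hz) _ ((hA w).1 hw) (h.map U.ι.base.hom.continuous))
    · rw [AssLib.length_pullback]; exact hlen _ ((hA z).1 hz)
  · rintro ⟨⟨-, hlen⟩, hne⟩
    refine ⟨hne, fun x hx => ?_⟩
    suffices hxU : x ∈ U by
      obtain ⟨z, rfl⟩ : ∃ z : (U : Scheme.{u}), U.ι.base z = x := ⟨⟨x, hxU⟩, rfl⟩
      rw [← AssLib.length_pullback]
      exact hlen z ((hA z).2 hx)
    obtain ⟨W, hW, hxW, -⟩ := exists_isAffineOpen_mem_and_subset (x := x) (U := ⊤) trivial
    let S := {y : X | y ∈ W ∧ Curv2.IsAssPoint F y} \ {x}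
    have hS : S.Finite := (AssPtX.finite_assPoints hF hW.isCompact).subset Set.sdiff_subset
    let O : Set X := (W : Set X) \ ⋃ y ∈ S, closure {y}
    have hO : IsOpen O := W.isOpen.sdiff (hS.isClosed_biUnion fun y _ => isClosed_closure)
    have hxO : x ∈ O := ⟨hxW, fun h => by
      obtain ⟨y, hy, hc⟩ := Set.mem_iUnion₂.1 h
      exact hy.2 (hne x hx y hy.1.2 (specializes_iff_mem_closure.2 hc)).symm⟩
    obtain ⟨z, hzO, hzU, hzs⟩ := mem_closure_iff.1 (hdense (AssLib.mem_support_of_mem_ass hx)) O hO hxO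
    obtain ⟨y, hy, hyz⟩ := AssLib.exists_ass_specializes hF.1 hzs
    have hyU : y ∈ U := hyz.mem_open U.isOpen hzU
    by_cases hyx : y = x
    · exact hyx ▸ hyU
    · exact absurd (Set.mem_iUnion₂.2 ⟨y, ⟨⟨hyz.mem_open W.isOpen hzO.1, hy⟩, hyx⟩,
        specializes_iff_mem_closure.1 hyz⟩) hzO.2

end Groth.Agent.S4657
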