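import Groth.Statements.S4658
import Groth.Agent.AssMono5.Main

set_option autoImplicit false
open CategoryTheory AlgebraicGeometry
universe u
open AssSch

namespace Groth.Agent.S4658

/-- Let X be a locally Noetherian scheme, F a quasi-coherent O_X-module and x a point of X; let Z be the
reduced closed subscheme of X whose underlying space is the closure of x, and O_Z its structure
sheaf viewed as an O_X-module. Then x is an associated point of F if and only if x has an open
neighbourhood U over which there is a monomorphism of O_U-modules O_Z|_U → F|_U. -/
theorem result {X : Scheme.{u}} [IsLocallyNoetherian X] (F : X.Modules)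
    (hF : Coh.IsQCoh F) (x : X) :
    x ∈ AssSch.Ass F ↔ ∃ (U : X.Opens), x ∈ U ∧
      ∃ φ : (Scheme.Modules.pullback U.ι).obj
              ((Scheme.Modules.pushforward (Scheme.IdealSheafData.vanishingIdeal ⟨closure {x}, isClosed_closure⟩).subschemeι).obj
                (Coh.structureModule (Scheme.IdealSheafData.vanishingIdeal ⟨closure {x}, isClosed_closure⟩).subscheme)) ⟶
            (Scheme.Modules.pullback U.ι).obj F, Mono φ := by
  haveI : IsIntegral (Scheme.IdealSheafData.vanishingIdeal ⟨closure {x}, isClosed_closure⟩).subscheme :=
    Groth.Agent.QCoh.isIntegral_closure_point x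
  refine Groth.Agent.AssMono5.mem_ass_iff_exists_mono hF x _ ?_
  have h1 := Groth.Agent.QCoh.range_eq_closure
    (i := (Scheme.IdealSheafData.vanishingIdeal ⟨closure {x}, isClosed_closure⟩).subschemeι)
  rw [Groth.Agent.H23.RedSub.range_vanishingIdeal] at h1
  exact ((inseparable_iff_closure_eq.2 h1).eq).symm

end Groth.Agent.S4658
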