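import Groth.Statements.S4659
import Groth.Agent.AssTensor5.RedTransfer

set_option autoImplicit false
open CategoryTheory AlgebraicGeometry
universe u
open FBase

namespace Groth.Agent.S4659

open AlgebraicGeometry CategoryTheory CategoryTheory.Limits Groth.Agent

/-- Let X be a locally Noetherian scheme over a field k and F a coherent O_X-module. Then F ⊗_k k' is a
reduced module on X ⊗_k k' for every finite purely inseparable extension k' of k if and only if F
⊗_k K is a reduced module on X ⊗_k K for every extension K of k for which X ⊗_k K is locally
Noetherian. (The published statement takes K finitely generated over k, a hypothesis used only to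
make X ⊗_k K locally Noetherian.) -/
theorem result {k : Type u} [Field k] {X : Scheme.{u}} [IsLocallyNoetherian X]
    (f : X ⟶ Spec (CommRingCat.of k)) (F : X.Modules) (hF : Coh.IsCoh F) :
    (∀ (k' : Type u) [Field k'] [Algebra k k'] [FiniteDimensional k k'] [IsPurelyInseparable k k'],
        AssSch.IsReducedMod ((Scheme.Modules.pullback (FBase.bcπ f k')).obj F)) ↔
      ∀ (K : Type u) [Field K] [Algebra k K] [IsLocallyNoetherian (FBase.bc f K)],
        AssSch.IsReducedMod ((Scheme.Modules.pullback (FBase.bcπ f K)).obj F) := by
    constructor
    · intro h K _ _ hN
      haveI : IsLocallyNoetherian (Spec (CommRingCat.of K)) := inferInstance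
      refine AssTensor5.isReducedMod_congr (fun z => AssTensor5.nonempty_stalk_tensor_pullback_unit
        (pullback.snd f (Spec.map (CommRingCat.ofHom (algebraMap k K))))
        ((Scheme.Modules.pullback (FBase.bcπ f K)).obj F) z) ?_
      haveI : IsLocallyNoetherian (pullback f (Spec.map (CommRingCat.ofHom (algebraMap k K)))) := hN
      exact AssTensor5.isReducedMod_tensorS f _ F _ (AssTensor5.isReducedMod_of_forall_bc f h)
        (fun k' _ _ _ _ => (h k').2) (AssTensor5.isReducedMod_structureModule_field K)
    · intro h k' _ _ _ _
      let τ := Spec.map (CommRingCat.ofHom (algebraMap k k'))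
      haveI : IsFinite τ := by
        rw [IsFinite.SpecMap_iff]
        exact RingHom.finite_algebraMap.2 inferInstance
      haveI : IsFinite (FBase.bcπ f k') :=
        MorphismProperty.of_isPullback (IsPullback.of_hasPullback f τ).flip ‹IsFinite τ›
      haveI : IsLocallyNoetherian (FBase.bc f k') := LocallyOfFiniteType.isLocallyNoetherian (FBase.bcπ f k')
      exact h k'

end Groth.Agent.S4659
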