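import Groth.Statements.S4660
import Groth.Agent.S4659
import Groth.Agent.GeomField.Irreducible

set_option autoImplicit false
open CategoryTheory AlgebraicGeometry
universe u
open FBase

namespace Groth.Agent.S4660

open AlgebraicGeometry CategoryTheory CategoryTheory.Limits Groth.Agent Groth.Agent.AssTensor5

theorem eq_of_specializes_fibre {k K : Type u} [Field k] [Field K] [Algebra k K] {X : Scheme.{u}}
    (f : X ⟶ Spec (CommRingCat.of k)) [IsLocallyNoetherian (FBase.bc f K)] (ξ : X)
    {t t' : ↥((FBase.bcπ f K).fiber ξ)} (ht : t ∈ AssSch.Ass (Coh.structureModule ((FBase.bcπ f K).fiber ξ)))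
    (h : t' ⤳ t) : t' = t := by
  haveI := isLocallyNoetherian_fiber (FBase.bcπ f K) ξ
  let τ := Spec.map (CommRingCat.ofHom (algebraMap k K))
  let a : Spec (CommRingCat.of (X.residueField ξ)) ⟶ Spec (CommRingCat.of k) := X.fromSpecResidueField ξ ≫ f
  let e : (FBase.bcπ f K).fiber ξ ≅ pullback a τ :=
    pullbackSymmetry _ _ ≪≫ pullbackRightPullbackFstIso f τ (X.fromSpecResidueField ξ)
  haveI : IsLocallyNoetherian (pullback a τ) :=
    isLocallyNoetherian_of_isOpenImmersion e.inv
  exact e.hom.homeomorph.injective (eq_of_specializes_fields a τ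
    ((mem_ass_self_iso e t).2 ht) (h.map e.hom.continuous))

theorem flat_bcπ {k K : Type u} [Field k] [Field K] [Algebra k K] {X : Scheme.{u}}
    (f : X ⟶ Spec (CommRingCat.of k)) : Flat (FBase.bcπ f K) :=
  MorphismProperty.of_isPullback (IsPullback.of_hasPullback f (Spec.map (CommRingCat.ofHom (algebraMap k K)))).flip
    (AssLib.flat_over_field _)

theorem mem_ass_bc_iff {k K : Type u} [Field k] [Field K] [Algebra k K] {X : Scheme.{u}} [IsLocallyNoetherian X]
    (f : X ⟶ Spec (CommRingCat.of k)) (F : X.Modules) {x : X} (t : ↥((FBase.bcπ f K).fiber x)) :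
    (FBase.bcπ f K).fiberι x t ∈ AssSch.Ass ((Scheme.Modules.pullback (FBase.bcπ f K)).obj F) ↔
      x ∈ AssSch.Ass F ∧ t ∈ AssSch.Ass (Coh.structureModule ((FBase.bcπ f K).fiber x)) := by
  haveI := flat_bcπ f (K := K)
  rw [mem_ass_pullback_iff_of_flat _ F _ (Flat.stalkMap _ _), mem_ass_fiber_self_iff,
    FibDim.fiber_apply_fiberι (FBase.bcπ f K) t]

theorem finite_facts {k K : Type u} [Field k] [Field K] [Algebra k K] [FiniteDimensional k K] {X : Scheme.{u}}
    [IsLocallyNoetherian X] (f : X ⟶ Spec (CommRingCat.of k)) :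
    IsLocallyNoetherian (FBase.bc f K) := by
  let τ := Spec.map (CommRingCat.ofHom (algebraMap k K))
  haveI : IsFinite τ := by
    rw [IsFinite.SpecMap_iff]
    exact RingHom.finite_algebraMap.2 inferInstance
  haveI : IsFinite (FBase.bcπ f K) :=
    MorphismProperty.of_isPullback (IsPullback.of_hasPullback f τ).flip ‹IsFinite τ›
  exact LocallyOfFiniteType.isLocallyNoetherian (FBase.bcπ f K)


/-- Let X be a locally Noetherian scheme over a field k and F a coherent O_X-module. A coherent module
is called integral when it has exactly one associated point and its stalk at that point has length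
one over the local ring. Then F ⊗_k k' is integral on X ⊗_k k' for every finite extension k' of k if
and only if F ⊗_k K is integral on X ⊗_k K for every extension K of k such that X ⊗_k K is locally
Noetherian. (The published statement takes K finitely generated over k, a hypothesis used only to
make X ⊗_k K locally Noetherian.) -/
theorem result {k : Type u} [Field k] {X : Scheme.{u}} [IsLocallyNoetherian X]
    (f : X ⟶ Spec (CommRingCat.of k)) (F : X.Modules) (hF : Coh.IsCoh F) :
    (∀ (k' : Type u) [Field k'] [Algebra k k'] [FiniteDimensional k k'],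
        ∃ x' : ↥(FBase.bc f k'), AssSch.Ass ((Scheme.Modules.pullback (FBase.bcπ f k')).obj F) = {x'} ∧
          Module.length ↑((FBase.bc f k').presheaf.stalk x') ↑(((Scheme.Modules.pullback (FBase.bcπ f k')).obj F).presheaf.stalk x') = 1) ↔
      ∀ (K : Type u) [Field K] [Algebra k K] [IsLocallyNoetherian (FBase.bc f K)],
        ∃ x' : ↥(FBase.bc f K), AssSch.Ass ((Scheme.Modules.pullback (FBase.bcπ f K)).obj F) = {x'} ∧
          Module.length ↑((FBase.bc f K).presheaf.stalk x') ↑(((Scheme.Modules.pullback (FBase.bcπ f K)).obj F).presheaf.stalk x') = 1 := by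
    constructor
    · intro h K _ _ hN
      have hred : ∀ (k' : Type u) [Field k'] [Algebra k k'] [FiniteDimensional k k'] [IsPurelyInseparable k k'],
          AssSch.IsReducedMod ((Scheme.Modules.pullback (FBase.bcπ f k')).obj F) := fun k' _ _ _ _ => by
        obtain ⟨a, ha, hl⟩ := h k'
        refine ⟨fun x hx y hy _ => ?_, fun x hx => ?_⟩
        · rw [ha, Set.mem_singleton_iff] at hx hy; rw [hx, hy]
        · rw [ha, Set.mem_singleton_iff] at hx; subst hx; exact hl
      have hRK := (S4659.result f F hF).1 hred K
      obtain ⟨a, ha, hl⟩ := h k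
      haveI : IsIso (Spec.map (CommRingCat.ofHom (algebraMap k k))) := by
        rw [show CommRingCat.ofHom (algebraMap k k) = 𝟙 (CommRingCat.of k) from rfl, Spec.map_id]
        infer_instance
      haveI : IsIso (FBase.bcπ f k) :=
        inferInstanceAs (IsIso (pullback.fst f (Spec.map (CommRingCat.ofHom (algebraMap k k)))))
      let ξ := FBase.bcπ f k a
      have hξ : ξ ∈ AssSch.Ass F := (AssLib.mem_ass_pullback_iff (FBase.bcπ f k) F a).1 (ha.ge rfl)
      have hξu : ∀ x ∈ AssSch.Ass F, x = ξ := fun x hx => by
        obtain ⟨b, rfl⟩ := (FBase.bcπ f k).surjective x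
        exact congrArg _ (ha.le ((AssLib.mem_ass_pullback_iff (FBase.bcπ f k) F b).2 hx))
      obtain ⟨φ, hφ⟩ := Spec.map_surjective (R := CommRingCat.of k) (S := X.residueField ξ)
        (X.fromSpecResidueField ξ ≫ f)
      letI : (Spec (X.residueField ξ)).Over (Spec (CommRingCat.of k)) := ⟨X.fromSpecResidueField ξ ≫ f⟩
      let e : ∀ (L : Type u) [Field L] [Algebra k L],
          (FBase.bcπ f L).fiber ξ ≅ Curv2.bc k (Spec (X.residueField ξ)) L := fun L _ _ =>
        pullbackSymmetry _ _ ≪≫
          pullbackRightPullbackFstIso f (Spec.map (CommRingCat.ofHom (algebraMap k L))) (X.fromSpecResidueField ξ)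
      haveI : GeometricallyIrreducible (Spec (X.residueField ξ) ↘ Spec (CommRingCat.of k)) := by
        refine GeomField.geometricallyIrreducible_of_finiteSeparable fun k' _ _ _ _ => ?_
        haveI := finite_facts (K := k') f
        haveI := isLocallyNoetherian_fiber (FBase.bcπ f k') ξ
        obtain ⟨b, hb, -⟩ := h k'
        obtain ⟨z, hz⟩ := GeomField.surjective_bcFst (k := k) (X := Spec (X.residueField ξ)) k'
          (default : PrimeSpectrum (X.residueField ξ))
        letI : Algebra k (X.residueField ξ) := φ.hom.toAlgebra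
        have hφ' : Spec.map (CommRingCat.ofHom (algebraMap k (X.residueField ξ))) =
            X.fromSpecResidueField ξ ≫ f := hφ
        let e' : Curv2.bc k (Spec (X.residueField ξ)) k' ≅
            Spec (CommRingCat.of (TensorProduct k (X.residueField ξ) k')) :=
          pullback.congrHom hφ'.symm rfl ≪≫ pullbackSpecIso k (X.residueField ξ) k'
        haveI : IsArtinianRing (TensorProduct k (X.residueField ξ) k') := IsArtinianRing.of_finite (X.residueField ξ) _
        have hsub : ∀ t : ↥((FBase.bcπ f k').fiber ξ), (FBase.bcπ f k').fiberι ξ t = b := fun t => by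
          refine hb.le ((mem_ass_bc_iff f F t).2 ⟨hξ, AssLib.mem_ass_of_maximal fun t' ht' => ?_⟩)
          refine ((e k') ≪≫ e').hom.homeomorph.injective (PrimeSpectrum.ext ?_)
          exact ((PrimeSpectrum.isPrime _).isMaximal').eq_of_le (PrimeSpectrum.isPrime _).ne_top
            ((PrimeSpectrum.le_iff_specializes
              (((e k') ≪≫ e').hom t' : PrimeSpectrum (TensorProduct k (X.residueField ξ) k'))
              (((e k') ≪≫ e').hom t)).2 (ht'.map ((e k') ≪≫ e').hom.continuous))
        haveI : Subsingleton (Curv2.bc k (Spec (X.residueField ξ)) k') :=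
          ⟨fun u v => by
            obtain ⟨u, rfl⟩ := (e k').hom.homeomorph.surjective u
            obtain ⟨v, rfl⟩ := (e k').hom.homeomorph.surjective v
            exact congrArg _ (((FBase.bcπ f k').fiberι ξ).isEmbedding.injective ((hsub u).trans (hsub v).symm))⟩
        haveI : Nonempty (Curv2.bc k (Spec (X.residueField ξ)) k') := ⟨z⟩
        exact { isPreirreducible_univ := Set.subsingleton_univ.isPreirreducible, toNonempty := ‹_› }
      haveI hI : IrreducibleSpace ((FBase.bcπ f K).fiber ξ) :=
        (e K).hom.homeomorph.irreducibleSpace_iff.2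
          (GeomField.irreducibleSpace_bc (X := Spec (X.residueField ξ)) K)
      haveI := isLocallyNoetherian_fiber (FBase.bcπ f K) ξ
      let η := genericPoint ((FBase.bcπ f K).fiber ξ)
      have hη : η ∈ AssSch.Ass (Coh.structureModule ((FBase.bcπ f K).fiber ξ)) :=
        AssLib.mem_ass_of_maximal fun y hy => (hy.antisymm (genericPoint_specializes y)).eq
      have hu : ∀ z ∈ AssSch.Ass ((Scheme.Modules.pullback (FBase.bcπ f K)).obj F),
          z = (FBase.bcπ f K).fiberι ξ η := fun z hz => by
        obtain ⟨x, hx⟩ : ∃ x, FBase.bcπ f K z = x := ⟨_, rfl⟩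
        obtain ⟨t, rfl⟩ := exists_fiber_point hx
        obtain ⟨hxA, ht⟩ := (mem_ass_bc_iff f F t).1 hz
        obtain rfl := hξu x hxA
        exact congrArg _ (eq_of_specializes_fibre f ξ ht (genericPoint_specializes t)).symm
      have hmem := (mem_ass_bc_iff f F η).2 ⟨hξ, hη⟩
      exact ⟨_, Set.eq_singleton_iff_unique_mem.2 ⟨hmem, hu⟩, hRK.2 _ hmem⟩
    · intro h k' _ _ _
      haveI := finite_facts (K := k') f
      exact h k'

end Groth.Agent.S4660
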