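import Groth.Statements.S4662
import Groth.Agent.FibDim.BaseField

set_option autoImplicit false
open CategoryTheory AlgebraicGeometry
universe u
open FBase

namespace Groth.Agent.S4662

open CategoryTheory.Limits in
/-- Let X and Y be integral schemes locally of finite type over a field k. Then every irreducible
component of X ×_k Y has dimension dim X + dim Y (Krull dimensions of the underlying spaces, valued
in WithBot ℕ∞). -/
theorem result {k : Type u} [Field k] {X Y : Scheme.{u}}
    (f : X ⟶ Spec (CommRingCat.of k)) (g : Y ⟶ Spec (CommRingCat.of k)) [IsIntegral X] [IsIntegral Y]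
    [LocallyOfFiniteType f] [LocallyOfFiniteType g] (Z : Set ↥(pullback f g))
    (hZ : Z ∈ irreducibleComponents ↥(pullback f g)) :
    topologicalKrullDim ↥Z = topologicalKrullDim ↥X + topologicalKrullDim ↥Y := by
  haveI := FibDim.subsingleton_spec_field k
  exact FibDim.topologicalKrullDim_component_pullback Z hZ

end Groth.Agent.S4662
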