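import Groth.Statements.S4666
import Mathlib.AlgebraicGeometry.Morphisms.SchemeTheoreticallyDominant

set_option autoImplicit false
open CategoryTheory AlgebraicGeometry
universe u
open FDesc

namespace Groth.Agent.S4666

/-- Let f : X → Y be a flat and surjective morphism of schemes. Then the map sending a quasi-coherent
sheaf of ideals of O_Y (a closed subscheme of Y) to its inverse image in X is injective. -/
theorem result {X Y : Scheme.{u}} (f : X ⟶ Y) [Flat f] [Surjective f] :
    Function.Injective fun J : Y.IdealSheafData => J.comap f := by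
  intro J J' h
  suffices key : ∀ K : Y.IdealSheafData, (K.comap f).map f = K by
    rw [← key J, ← key J']
    exact congrArg (fun I : X.IdealSheafData => I.map f) h
  intro K
  have hdom : ∀ {Z W : Scheme.{u}} (q : Z ⟶ W) [Flat q] [Surjective q], q.ker = ⊥ := by
    intro Z W q _ _
    refine Scheme.IdealSheafData.ext (funext fun U => ?_)
    rw [Scheme.IdealSheafData.ideal_bot, Pi.bot_apply, eq_bot_iff]
    refine (q.ideal_ker_le U).trans fun s hs => ?_
    rw [Ideal.mem_bot]
    refine TopCat.Presheaf.section_ext W.sheaf _ _ _ fun w hw => ?_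
    obtain ⟨z, rfl⟩ := q.surjective w
    have hinj : Function.Injective (q.stalkMap z).hom := by
      letI := (q.stalkMap z).hom.toAlgebra
      have : Module.FaithfullyFlat (W.presheaf.stalk (q.base z)) (Z.presheaf.stalk z) :=
        @Module.FaithfullyFlat.of_flat_of_isLocalHom _ _ _ _ _ _ _ (Flat.stalkMap q z) (q.toLRSHom.prop z)
      exact FaithfulSMul.algebraMap_injective (W.presheaf.stalk (q.base z)) (Z.presheaf.stalk z)
    refine hinj ((Scheme.Hom.germ_stalkMap_apply q U.1 z hw s).trans ?_)
    rw [RingHom.mem_ker.mp hs]
    simp
    exact ((q.stalkMap z).hom.map_zero).symm.trans (congrArg _ (map_zero (W.presheaf.germ U.1 (q.base z) hw).hom).symm)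
  haveI : Flat (CategoryTheory.Limits.pullback.snd f K.subschemeι) := inferInstance
  haveI : Surjective (CategoryTheory.Limits.pullback.snd f K.subschemeι) :=
    MorphismProperty.pullback_snd _ _ inferInstance
  rw [Scheme.IdealSheafData.comap, Scheme.IdealSheafData.map_ker, CategoryTheory.Limits.pullback.condition,
    ← Scheme.IdealSheafData.map_ker, hdom, Scheme.IdealSheafData.map_bot, Scheme.IdealSheafData.ker_subschemeι]

end Groth.Agent.S4666
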