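import Groth.Statements.S4672
import Mathlib.AlgebraicGeometry.Morphisms.UniversallyOpen
import Groth.Agent.FDescent.MaxPoint
import Groth.Agent.AssLib.FlatField
import Groth.Agent.DimFormula.ClosedSub

set_option autoImplicit false
open CategoryTheory AlgebraicGeometry
universe u
open FBase

namespace Groth.Agent.S4672

open CategoryTheory.Limits in
/-- Let X and Y be locally Noetherian schemes over a field k such that X ×_k Y is locally Noetherian,
with projections p and q. Then a subset W of X ×_k Y is an irreducible component of X ×_k Y if and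
only if there exist an irreducible component X' of X and an irreducible component Y' of Y such that
W is a maximal irreducible subset of p⁻¹(X') ∩ q⁻¹(Y') (that is, an irreducible component of the
space underlying X' ×_k Y' for the reduced structures on X' and Y'). -/
theorem result {k : Type u} [Field k] {X Y : Scheme.{u}}
    (f : X ⟶ Spec (CommRingCat.of k)) (g : Y ⟶ Spec (CommRingCat.of k)) [IsLocallyNoetherian X]
    [IsLocallyNoetherian Y] [IsLocallyNoetherian (pullback f g)] (W : Set ↥(pullback f g)) :
    W ∈ irreducibleComponents ↥(pullback f g) ↔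
      ∃ X' ∈ irreducibleComponents ↥X, ∃ Y' ∈ irreducibleComponents ↥Y,
        Maximal (fun V : Set ↥(pullback f g) => IsIrreducible V ∧ V ⊆ ⇑(pullback.fst f g) ⁻¹' X' ∩ ⇑(pullback.snd f g) ⁻¹' Y') W := by
    haveI := AssLib.flat_over_field f
    haveI := AssLib.flat_over_field g
    -- going down inside a closed product
    have lift : ∀ {w : ↥(pullback f g)} {ξ : X} {Y' : Set Y}, IsClosed Y' → pullback.snd f g w ∈ Y' →
        ξ ⤳ pullback.fst f g w → ∃ a, a ⤳ w ∧ pullback.fst f g a = ξ ∧ pullback.snd f g a ∈ Y' :=
      fun {w ξ Y'} h1 h2 h3 => AssLib.exists_lift_in_closed f g h1 h2 h3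
    have lift' : ∀ {w : ↥(pullback f g)} {η : Y} {X' : Set X}, IsClosed X' → pullback.fst f g w ∈ X' →
        η ⤳ pullback.snd f g w → ∃ a, a ⤳ w ∧ pullback.snd f g a = η ∧ pullback.fst f g a ∈ X' :=
      fun {w η X'} h1 h2 h3 => AssLib.exists_lift_in_closed' f g h1 h2 h3
    have gen : ∀ {Z : Scheme.{u}} {Z' : Set Z}, Z' ∈ irreducibleComponents ↥Z →
        ∃ ξ, Z' = closure {ξ} ∧ ∀ v, v ⤳ ξ → v = ξ := fun hZ => FDescent.exists_maximal_of_mem_irreducibleComponents hZ
    constructor
    · intro hW
      obtain ⟨w, rfl, hw⟩ := gen hW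
      have hf : ∀ v, v ⤳ pullback.fst f g w → v = pullback.fst f g w := fun v hv => by
        obtain ⟨a, ha, hfa⟩ := Flat.generalizingMap (pullback.fst f g) hv
        rw [← hfa, hw a ha]
      have hg : ∀ v, v ⤳ pullback.snd f g w → v = pullback.snd f g w := fun v hv => by
        obtain ⟨a, ha, hfa⟩ := Flat.generalizingMap (pullback.snd f g) hv
        rw [← hfa, hw a ha]
      refine ⟨_, FDescent.closure_mem_irreducibleComponents hf, _, FDescent.closure_mem_irreducibleComponents hg,
        ⟨isIrreducible_singleton.closure, closure_minimal (Set.singleton_subset_iff.2 ⟨subset_closure rfl, subset_closure rfl⟩)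
          ((isClosed_closure.preimage (pullback.fst f g).continuous).inter
            (isClosed_closure.preimage (pullback.snd f g).continuous))⟩,
        fun V hV hle => (FDescent.closure_mem_irreducibleComponents hw).2 hV.1 hle⟩
    · rintro ⟨X', hX', Y', hY', hWmax⟩
      obtain ⟨ξ, rfl, hξ⟩ := gen hX'
      obtain ⟨η, rfl, hη⟩ := gen hY'
      let S := ⇑(pullback.fst f g) ⁻¹' closure {ξ} ∩ ⇑(pullback.snd f g) ⁻¹' closure {η}
      have hS : IsClosed S := (isClosed_closure.preimage (pullback.fst f g).continuous).inter
        (isClosed_closure.preimage (pullback.snd f g).continuous)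
      have hWc : IsClosed W := closure_subset_iff_isClosed.1
        (hWmax.2 ⟨hWmax.1.1.closure, closure_minimal hWmax.1.2 hS⟩ subset_closure)
      let w := hWmax.1.1.genericPoint
      have hw : IsGenericPoint w W := hWmax.1.1.isGenericPoint_genericPoint hWc
      have hmem : w ∈ S := hWmax.1.2 hw.mem
      have hmaxS : ∀ a, a ∈ S → a ⤳ w → a = w := fun a ha haw => by
        have h1 : W ⊆ closure {a} := fun z hz =>
          specializes_iff_mem_closure.1 (haw.trans (specializes_iff_mem_closure.2 (hw.def.symm ▸ hz)))
        have h2 : closure {a} ⊆ W :=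
          hWmax.2 ⟨isIrreducible_singleton.closure, closure_minimal (Set.singleton_subset_iff.2 ha) hS⟩ h1
        exact (haw.antisymm (specializes_iff_mem_closure.2 (hw.def.symm ▸ h2 (subset_closure rfl)))).eq
      have hfw : pullback.fst f g w = ξ := by
        obtain ⟨a, ha, hfa, hsa⟩ := lift isClosed_closure hmem.2 (specializes_iff_mem_closure.2 hmem.1)
        rw [← hmaxS a ⟨by rw [Set.mem_preimage, hfa]; exact subset_closure rfl, hsa⟩ ha, hfa]
      have hgw : pullback.snd f g w = η := by
        obtain ⟨a, ha, hfa, hsa⟩ := lift' isClosed_closure hmem.1 (specializes_iff_mem_closure.2 hmem.2)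
        rw [← hmaxS a ⟨hsa, by rw [Set.mem_preimage, hfa]; exact subset_closure rfl⟩ ha, hfa]
      rw [← hw.def]
      refine FDescent.closure_mem_irreducibleComponents fun a ha => hmaxS a ⟨?_, ?_⟩ ha
      · rw [Set.mem_preimage, hξ _ ((ha.map (pullback.fst f g).continuous).trans (specializes_of_eq hfw))]
        exact subset_closure rfl
      · rw [Set.mem_preimage, hη _ ((ha.map (pullback.snd f g).continuous).trans (specializes_of_eq hgw))]
        exact subset_closure rfl

end Groth.Agent.S4672
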