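import Groth.Statements.S4674
import Mathlib.RingTheory.Flat.Basic

set_option autoImplicit false
open scoped TensorProduct
universe u v w
open FDesc

namespace Groth.Agent.S4674

/-- Let B be a flat A-algebra and M a finitely presented A-module. Then the annihilator of the B-module
B ⊗_A M is the ideal of B generated by the image of the annihilator of M. -/
theorem result {A : Type u} {B : Type v} [CommRing A] [CommRing B] [Algebra A B]
    [Module.Flat A B] (M : Type w) [AddCommGroup M] [Module A M] [Module.FinitePresentation A M] :
    Module.annihilator B (B ⊗[A] M) = (Module.annihilator A M).map (algebraMap A B) := by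
  classical
  obtain ⟨n, g, hg⟩ := Module.Finite.exists_fin (R := A) (M := M)
  refine le_antisymm (fun b hb => ?_) ?_
  · rw [Module.mem_annihilator] at hb
    let φ : A →ₗ[A] (Fin n → M) := LinearMap.pi fun i => LinearMap.toSpanSingleton A M (g i)
    have hex : Function.Exact (Module.annihilator A M).subtype φ := by
      rw [LinearMap.exact_iff, Submodule.range_subtype]
      ext a
      simp only [LinearMap.mem_ker, φ, LinearMap.pi_apply, funext_iff, LinearMap.toSpanSingleton_apply,
        Pi.zero_apply, Module.mem_annihilator]
      refine ⟨fun h m => ?_, fun h i => h (g i)⟩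
      have hm : m ∈ Submodule.span A (Set.range g) := hg ▸ Submodule.mem_top
      refine Submodule.span_induction ?_ (by simp) (fun _ _ _ _ hx hy => by simp [hx, hy])
        (fun r _ _ hx => by rw [smul_comm, hx, smul_zero]) hm
      rintro _ ⟨i, rfl⟩
      exact h i
    have h0 : φ.lTensor B (b ⊗ₜ[A] (1 : A)) = 0 := by
      apply (TensorProduct.piRight A A B fun _ : Fin n => M).injective
      ext i
      simpa [φ, TensorProduct.smul_tmul', smul_eq_mul] using hb (1 ⊗ₜ[A] g i)
    obtain ⟨z, hz⟩ := (Module.Flat.lTensor_exact B hex _).mp h0
    have hb' : b = TensorProduct.rid A B ((Module.annihilator A M).subtype.lTensor B z) := by simp [hz]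
    rw [hb']
    clear hz hb'
    induction z with
    | zero => simp
    | tmul x a =>
      simp only [LinearMap.lTensor_tmul, TensorProduct.rid_tmul, Submodule.coe_subtype, Algebra.smul_def]
      exact Ideal.mul_mem_right _ _ (Ideal.mem_map_of_mem _ a.2)
    | add x y hx hy => simpa only [map_add] using Ideal.add_mem _ hx hy
  · rw [Ideal.map_le_iff_le_comap]
    intro a ha
    rw [Ideal.mem_comap, Module.mem_annihilator]
    intro x
    induction x with
    | zero => simp
    | tmul b m =>
      rw [algebraMap_smul, ← TensorProduct.tmul_smul, Module.mem_annihilator.mp ha, TensorProduct.tmul_zero]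
    | add x y hx hy => rw [smul_add, hx, hy, add_zero]

end Groth.Agent.S4674
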