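import Groth.Statements.S4675
import Mathlib.Algebra.Module.Submodule.Equiv

set_option autoImplicit false
universe u v
open FDesc

namespace Groth.Agent.S4675

/-- Let B be a ring, not necessarily commutative, and V, W two left B-modules which are isomorphic. For
a B-linear map u : V → W the following are equivalent: every B-linear map V → W can be written
uniquely as u ∘ c with c a B-linear endomorphism of V (that is, u is a basis of Hom_B(V, W) for its
right module structure over End_B(V)); u is bijective. -/
theorem result {B : Type u} [Ring B] {V W : Type v} [AddCommGroup V] [AddCommGroup W]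
    [Module B V] [Module B W] (e : V ≃ₗ[B] W) (u : V →ₗ[B] W) :
    (∀ v : V →ₗ[B] W, ∃! c : V →ₗ[B] V, v = u ∘ₗ c) ↔ Function.Bijective u := by
  constructor
  · intro h
    obtain ⟨c, hc, -⟩ := h e.toLinearMap
    have hsurj : Function.Surjective u := fun w =>
      ⟨c (e.symm w), by simpa using (LinearMap.congr_fun hc (e.symm w)).symm⟩
    refine ⟨?_, hsurj⟩
    obtain ⟨d, -, hd⟩ := h u
    have h1 : c ∘ₗ e.symm.toLinearMap ∘ₗ u = d := hd _ (by
      ext v; simpa using LinearMap.congr_fun hc (e.symm (u v)))
    have h2 : (LinearMap.id : V →ₗ[B] V) = d := hd _ (by simp)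
    have h3 : ∀ v, c (e.symm (u v)) = v := fun v => by
      simpa using LinearMap.congr_fun (h1.trans h2.symm) v
    intro a b hab
    rw [← h3 a, ← h3 b, hab]
  · intro h v
    let E := LinearEquiv.ofBijective u h
    refine ⟨E.symm.toLinearMap ∘ₗ v, ?_, ?_⟩
    · ext x; exact (E.apply_symm_apply (v x)).symm
    · intro c hc
      ext x
      apply h.1
      rw [hc]
      exact (E.apply_symm_apply (u (c x))).symm

end Groth.Agent.S4675
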