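import Groth.Statements.S4677
import Mathlib
import Groth.Agent.InsepRed12.Level
-- import your own Groth.Agent.* helpers here

set_option autoImplicit false
open scoped TensorProduct
universe u
open FBase

namespace Groth.Agent.S4677

/-- Let K be a finitely generated extension field of a field k. Then there exists a finite purely
inseparable extension k' of k such that, for every maximal ideal m of the ring k' ⊗_k K, the residue
field (k' ⊗_k K)/m is geometrically reduced over k' (a separable, not necessarily algebraic,
extension of k'). -/
theorem result {k K : Type u} [Field k] [Field K] [Algebra k K]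
    [Algebra.EssFiniteType k K] :
    ∃ (k' : Type u) (_ : Field k') (_ : Algebra k k'), FiniteDimensional k k' ∧ IsPurelyInseparable k k' ∧
      ∀ (m : Ideal (k' ⊗[k] K)), m.IsMaximal → Algebra.IsGeometricallyReduced k' ((k' ⊗[k] K) ⧸ m) := by
  obtain ⟨k', i1, i2, h1, h2, h3⟩ := Groth.Agent.InsepRed12.exists_level k K
  refine ⟨k', i1, i2, h1, h2, fun m hm => ?_⟩
  have hle : m ≤ nilradical (k' ⊗[k] K) := by
    intro x hx
    let e := Algebra.TensorProduct.comm k k' K
    obtain ⟨n, hn, y, hy⟩ := IsPurelyInseparable.exists_pow_mem_range_tensorProduct (k := k) (K := k') (R := K) (e x)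
    rcases eq_or_ne y 0 with rfl | hy0
    · refine mem_nilradical.2 ⟨n, e.injective ?_⟩
      rw [map_pow, ← hy, map_zero, map_zero]
    · refine absurd (m.eq_top_of_isUnit_mem hx ?_) hm.ne_top
      refine (isUnit_pow_iff hn.ne').1 ?_
      have h := ((Ne.isUnit hy0).map (algebraMap K (K ⊗[k] k'))).map e.symm
      rw [hy, map_pow, AlgEquiv.symm_apply_apply] at h
      exact h
  haveI := hm.isPrime
  rw [le_antisymm hle (nilradical_le_prime m)]
  exact h3

end Groth.Agent.S4677
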