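import Groth.Statements.S4678
import Groth.Agent.MorLib.FlatBC
import Groth.Agent.KFlatLib.Scheme.TensorStalk
import Groth.Agent.KFlatLib.Scheme.Pullback

set_option autoImplicit false
set_option backward.isDefEq.respectTransparency false
set_option backward.isDefEq.respectTransparency.types false
open CategoryTheory AlgebraicGeometry
universe u
open FDesc

namespace Groth.Agent.S4678

open CategoryTheory CategoryTheory.Limits AlgebraicGeometry TensorProduct

/-- A flat `B`-module tensored with a `C`-flat `B`-module is `C`-flat. -/
theorem flat_tensor_module {C B P G : Type u} [CommRing C] [CommRing B] [Algebra C B]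
    [AddCommGroup P] [Module B P] [Module C P] [IsScalarTower C B P] [Module.Flat B P]
    [AddCommGroup G] [Module B G] [Module C G] [IsScalarTower C B G] [Module.Flat C G] :
    Module.Flat C (P ⊗[B] G) := by
  rw [Module.Flat.iff_lTensor_injectiveₛ]
  intro Q _ _ K
  have h1 := Module.Flat.lTensor_preserves_injective_linearMap (M := G) K.subtype Subtype.val_injective
  have h2 : Function.Injective ((AlgebraTensorModule.lTensor B G K.subtype).lTensor P) :=
    Module.Flat.lTensor_preserves_injective_linearMap _ h1
  have hcomm : ∀ z, (K.subtype.lTensor (P ⊗[B] G)) z =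
      (AlgebraTensorModule.assoc C B B P G Q).symm
        ((AlgebraTensorModule.lTensor B G K.subtype).lTensor P
          (AlgebraTensorModule.assoc C B B P G K z)) := fun z => by
    induction z using TensorProduct.induction_on with
    | zero => simp
    | add a b ha hb => simp only [map_add, ha, hb]
    | tmul w k =>
      induction w using TensorProduct.induction_on with
      | zero => simp
      | add a b ha hb => simp only [TensorProduct.add_tmul, map_add, ha, hb]
      | tmul l p => simp
  intro a b hab
  rw [hcomm, hcomm] at hab
  exact (AlgebraTensorModule.assoc C B B P G K).injective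
    (h2 ((AlgebraTensorModule.assoc C B B P G Q).symm.injective hab))

theorem flat_of_equiv_tensor {C B L P G T : Type u} [CommRing C] [CommRing B] [CommRing L] [Algebra C B]
    [Algebra B L] [Algebra C L] [IsScalarTower C B L]
    [AddCommGroup P] [Module L P] [Module B P] [IsScalarTower B L P] [Module.Flat B P]
    [AddCommGroup G] [Module B G] [Module C G] [IsScalarTower C B G] [Module.Flat C G]
    [AddCommGroup T] [Module L T] [Module C T] [IsScalarTower C L T]
    (e : T ≃ₗ[L] P ⊗[L] (L ⊗[B] G)) : Module.Flat C T := by
  letI : Module C P := Module.compHom P (algebraMap C L)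
  haveI : IsScalarTower C L P := .of_algebraMap_smul fun _ _ => rfl
  haveI : IsScalarTower C B P := IsScalarTower.of_algebraMap_smul fun c p => by
    show algebraMap C B c • p = algebraMap C L c • p
    rw [IsScalarTower.algebraMap_apply C B L]
    exact (IsScalarTower.algebraMap_smul L _ p).symm
  haveI : Module.Flat C (P ⊗[B] G) := flat_tensor_module
  exact Module.Flat.of_linearEquiv ((e.trans (AlgebraTensorModule.cancelBaseChange B L L P G)).restrictScalars C)


open CategoryTheory.Limits in
/-- Let f : X → Y, g : Y' → Y and h : Y' → Z be morphisms of schemes, X' = X ×_Y Y' with projections p :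
X' → X and q : X' → Y', and x' a point of X'. Let F be a quasi-coherent O_X-module which is flat
over Y at p(x') and G' a quasi-coherent O_{Y'}-module which is flat over Z at q(x'). Then the
O_{X'}-module p^*F ⊗ q^*G' is flat over Z at x', for the structure morphism q followed by h. -/
theorem result {X Y Y' Z : Scheme.{u}} (f : X ⟶ Y) (g : Y' ⟶ Y) (h : Y' ⟶ Z)
    (F : X.Modules) (hF : Coh.IsQCoh F) (G' : Y'.Modules) (hG' : Coh.IsQCoh G') (x' : ↥(pullback f g))
    (hFx : FlatMod.IsFlatOverAt f F (pullback.fst f g x')) (hGy : FlatMod.IsFlatOverAt h G' (pullback.snd f g x')) :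
    FlatMod.IsFlatOverAt (pullback.snd f g ≫ h) (CohB1.tensorMod ((Scheme.Modules.pullback (pullback.fst f g)).obj F) ((Scheme.Modules.pullback (pullback.snd f g)).obj G')) x' := by
    let p := pullback.fst f g
    let q := pullback.snd f g
    let P := (Scheme.Modules.pullback p).obj F
    let Q := (Scheme.Modules.pullback q).obj G'
    have hP : FlatMod.IsFlatOverAt q P x' :=
      Groth.Agent.MorLib.FlatBC.isFlatOverAt_baseChange f q p g (IsPullback.of_hasPullback f g) F x' hFx
    let L := (pullback f g).presheaf.stalk x'
    let B := Y'.presheaf.stalk (q x')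
    let C := Z.presheaf.stalk (h (q x'))
    letI : Algebra B L := (q.stalkMap x').hom.toAlgebra
    letI : Algebra C B := (h.stalkMap (q x')).hom.toAlgebra
    letI : Algebra C L := ((q ≫ h).stalkMap x').hom.toAlgebra
    haveI : IsScalarTower C B L := IsScalarTower.of_algebraMap_eq' (by
      show ((q ≫ h).stalkMap x').hom = _
      rw [Scheme.Hom.stalkMap_comp]
      rfl)
    letI : Module B (P.presheaf.stalk x') := FlatMod.moduleStalkOver q P x'
    haveI : IsScalarTower B L (P.presheaf.stalk x') := .of_algebraMap_smul fun _ _ => rfl
    haveI : Module.Flat B (P.presheaf.stalk x') := hP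
    letI : Module C (G'.presheaf.stalk (q x')) := FlatMod.moduleStalkOver h G' (q x')
    haveI : IsScalarTower C B (G'.presheaf.stalk (q x')) := .of_algebraMap_smul fun _ _ => rfl
    haveI : Module.Flat C (G'.presheaf.stalk (q x')) := hGy
    letI : Module C ((CohB1.tensorMod P Q).presheaf.stalk x') := FlatMod.moduleStalkOver (q ≫ h) _ x'
    haveI : IsScalarTower C L ((CohB1.tensorMod P Q).presheaf.stalk x') := .of_algebraMap_smul fun _ _ => rfl
    let i : Q.presheaf.stalk x' ≃ₗ[L] L ⊗[B] G'.presheaf.stalk (q x') :=
      ((Groth.Agent.KFlatLib.stalkPullbackIso q x').app G').toLinearEquiv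
    let t : P.presheaf.stalk x' ⊗[L] Q.presheaf.stalk x' ≃ₗ[L] (CohB1.tensorMod P Q).presheaf.stalk x' :=
      (Groth.Agent.KFlatLib.stalkTensorIso x' P Q).toLinearEquiv
    have key : Module.Flat C ((CohB1.tensorMod P Q).presheaf.stalk x') := flat_of_equiv_tensor (B := B) (t.symm.trans (TensorProduct.congr (LinearEquiv.refl L _) i))
    exact key

end Groth.Agent.S4678
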