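import Groth.Statements.S4679
import Groth.Agent.MorLib.FlatBC
import Groth.Agent.KFlatLib.Scheme.TensorStalk
import Groth.Agent.KFlatLib.Scheme.Pullback
import Groth.Agent.FlatTensor5.Basic
import Groth.Agent.FlatBC5.Fibre

set_option autoImplicit false
set_option backward.isDefEq.respectTransparency false
set_option backward.isDefEq.respectTransparency.types false
open CategoryTheory AlgebraicGeometry
universe u
open FDesc

namespace Groth.Agent.S4679

open CategoryTheory CategoryTheory.Limits AlgebraicGeometry TensorProduct Groth.Agent.FlatTensor5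

theorem key {X Y Y' Z : Scheme.{u}} (f : X ⟶ Y) (g : Y' ⟶ Y) (h : Y' ⟶ Z) (F : X.Modules)
    (hF : FlatMod.IsFlatOver f F) (G' : Y'.Modules) (x' : ↥(pullback f g)) :
    (FlatMod.IsFlatOverAt h G' (pullback.snd f g x') →
      FlatMod.IsFlatOverAt (pullback.snd f g ≫ h) (CohB1.tensorMod ((Scheme.Modules.pullback (pullback.fst f g)).obj F)
        ((Scheme.Modules.pullback (pullback.snd f g)).obj G')) x') ∧
    ((letI := FlatMod.moduleStalkOver (pullback.snd f g ≫ h) (CohB1.tensorMod ((Scheme.Modules.pullback (pullback.fst f g)).obj F) ((Scheme.Modules.pullback (pullback.snd f g)).obj G')) x'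
      IsLocalRing.maximalIdeal (Z.presheaf.stalk ((pullback.snd f g ≫ h) x')) •
        (⊤ : Submodule (Z.presheaf.stalk ((pullback.snd f g ≫ h) x')) ((CohB1.tensorMod ((Scheme.Modules.pullback (pullback.fst f g)).obj F) ((Scheme.Modules.pullback (pullback.snd f g)).obj G')).presheaf.stalk x')) ≠ ⊤) →
      letI := FlatMod.moduleStalkOver h G' (pullback.snd f g x')
      IsLocalRing.maximalIdeal (Z.presheaf.stalk (h (pullback.snd f g x'))) •
        (⊤ : Submodule (Z.presheaf.stalk (h (pullback.snd f g x'))) (G'.presheaf.stalk (pullback.snd f g x'))) ≠ ⊤) ∧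
    ((letI := FlatMod.moduleStalkOver (pullback.snd f g) ((Scheme.Modules.pullback (pullback.fst f g)).obj F) x'
      IsLocalRing.maximalIdeal (Y'.presheaf.stalk (pullback.snd f g x')) •
        (⊤ : Submodule (Y'.presheaf.stalk (pullback.snd f g x')) (((Scheme.Modules.pullback (pullback.fst f g)).obj F).presheaf.stalk x')) ≠ ⊤) →
      (FlatMod.IsFlatOverAt (pullback.snd f g ≫ h) (CohB1.tensorMod ((Scheme.Modules.pullback (pullback.fst f g)).obj F)
          ((Scheme.Modules.pullback (pullback.snd f g)).obj G')) x' →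
        FlatMod.IsFlatOverAt h G' (pullback.snd f g x')) ∧
      ((letI := FlatMod.moduleStalkOver h G' (pullback.snd f g x')
        IsLocalRing.maximalIdeal (Z.presheaf.stalk (h (pullback.snd f g x'))) •
          (⊤ : Submodule (Z.presheaf.stalk (h (pullback.snd f g x'))) (G'.presheaf.stalk (pullback.snd f g x'))) ≠ ⊤) →
        letI := FlatMod.moduleStalkOver (pullback.snd f g ≫ h) (CohB1.tensorMod ((Scheme.Modules.pullback (pullback.fst f g)).obj F) ((Scheme.Modules.pullback (pullback.snd f g)).obj G')) x'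
        IsLocalRing.maximalIdeal (Z.presheaf.stalk ((pullback.snd f g ≫ h) x')) •
          (⊤ : Submodule (Z.presheaf.stalk ((pullback.snd f g ≫ h) x')) ((CohB1.tensorMod ((Scheme.Modules.pullback (pullback.fst f g)).obj F) ((Scheme.Modules.pullback (pullback.snd f g)).obj G')).presheaf.stalk x')) ≠ ⊤)) := by
  let p := pullback.fst f g
  let q := pullback.snd f g
  let P := (Scheme.Modules.pullback p).obj F
  let Q := (Scheme.Modules.pullback q).obj G'
  have hP : FlatMod.IsFlatOverAt q P x' :=
    Groth.Agent.MorLib.FlatBC.isFlatOverAt_baseChange f q p g (IsPullback.of_hasPullback f g) F x' (hF _)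
  let L := (pullback f g).presheaf.stalk x'
  let B := Y'.presheaf.stalk (q x')
  let C := Z.presheaf.stalk (h (q x'))
  letI : Algebra B L := (q.stalkMap x').hom.toAlgebra
  letI : Algebra C B := (h.stalkMap (q x')).hom.toAlgebra
  letI : Algebra C L := ((q ≫ h).stalkMap x').hom.toAlgebra
  haveI : IsScalarTower C B L := IsScalarTower.of_algebraMap_eq' (by
    show ((q ≫ h).stalkMap x').hom = _
    rw [Scheme.Hom.stalkMap_comp]
    rfl)
  letI : Module B (P.presheaf.stalk x') := FlatMod.moduleStalkOver q P x'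
  haveI : IsScalarTower B L (P.presheaf.stalk x') := .of_algebraMap_smul fun _ _ => rfl
  letI : Module C (P.presheaf.stalk x') := Module.compHom _ (algebraMap C L)
  haveI : IsScalarTower C L (P.presheaf.stalk x') := .of_algebraMap_smul fun _ _ => rfl
  haveI : IsScalarTower C B (P.presheaf.stalk x') := IsScalarTower.of_algebraMap_smul fun c p => by
    show algebraMap C B c • p = algebraMap C L c • p
    rw [IsScalarTower.algebraMap_apply C B L]
    exact (IsScalarTower.algebraMap_smul L _ p).symm
  haveI : Module.Flat B (P.presheaf.stalk x') := hP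
  letI : Module C (G'.presheaf.stalk (q x')) := FlatMod.moduleStalkOver h G' (q x')
  haveI : IsScalarTower C B (G'.presheaf.stalk (q x')) := .of_algebraMap_smul fun _ _ => rfl
  letI : Module C ((CohB1.tensorMod P Q).presheaf.stalk x') := FlatMod.moduleStalkOver (q ≫ h) _ x'
  haveI : IsScalarTower C L ((CohB1.tensorMod P Q).presheaf.stalk x') := .of_algebraMap_smul fun _ _ => rfl
  let i : Q.presheaf.stalk x' ≃ₗ[L] L ⊗[B] G'.presheaf.stalk (q x') :=
    ((Groth.Agent.KFlatLib.stalkPullbackIso q x').app G').toLinearEquiv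
  let t : P.presheaf.stalk x' ⊗[L] Q.presheaf.stalk x' ≃ₗ[L] (CohB1.tensorMod P Q).presheaf.stalk x' :=
    (Groth.Agent.KFlatLib.stalkTensorIso x' P Q).toLinearEquiv
  let e : (CohB1.tensorMod P Q).presheaf.stalk x' ≃ₗ[C] P.presheaf.stalk x' ⊗[B] G'.presheaf.stalk (q x') :=
    ((t.symm.trans (TensorProduct.congr (LinearEquiv.refl L _) i)).trans
      (AlgebraTensorModule.cancelBaseChange B L L (P.presheaf.stalk x') (G'.presheaf.stalk (q x')))).restrictScalars C
  refine ⟨fun hG => ?_, fun hT hG => hT ?_, fun hne => ?_⟩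
  · haveI : Module.Flat C (G'.presheaf.stalk (q x')) := hG
    haveI : Module.Flat C (P.presheaf.stalk x' ⊗[B] G'.presheaf.stalk (q x')) := flat_tensor
    have r : Module.Flat C ((CohB1.tensorMod P Q).presheaf.stalk x') := Module.Flat.of_linearEquiv e
    exact r
  · exact (smul_top_eq_top_congr e (IsLocalRing.maximalIdeal C)).2 (smul_top_tensor_eq_top _ hG)
  haveI : Module.FaithfullyFlat B (P.presheaf.stalk x') :=
    ⟨fun {m} hm => by rw [IsLocalRing.eq_maximalIdeal hm]; exact hne⟩
  refine ⟨fun hT => ?_, fun hG hT => hG ?_⟩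
  · haveI : Module.Flat C ((CohB1.tensorMod P Q).presheaf.stalk x') := hT
    haveI : Module.Flat C (P.presheaf.stalk x' ⊗[B] G'.presheaf.stalk (q x')) := Module.Flat.of_linearEquiv e.symm
    have r : Module.Flat C (G'.presheaf.stalk (q x')) := flat_right_of_tensor (B := B) (P := P.presheaf.stalk x')
    exact r
  · exact (smul_top_tensor_eq_top_iff (B := B) (P := P.presheaf.stalk x') (IsLocalRing.maximalIdeal C)).1
      ((smul_top_eq_top_congr e (IsLocalRing.maximalIdeal C)).1 hT)


open CategoryTheory.Limits in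
/-- Let f : X → Y, g : Y' → Y and h : Y' → Z be morphisms of schemes and X' = X ×_Y Y' with projections
p : X' → X, q : X' → Y'. Call a quasi-coherent module M on a scheme T faithfully flat relative to a
morphism t : T → B when M is flat over B and for every point b of B there is a point u of T over b
with M_u ⊗ κ(b) ≠ 0. Let F be a quasi-coherent O_X-module which is faithfully flat relative to Y and
G' a quasi-coherent O_{Y'}-module. Then G' is flat over Z if and only if p^*F ⊗ q^*G' is flat over Z
(for q followed by h); and G' is faithfully flat relative to Z if and only if p^*F ⊗ q^*G' is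
faithfully flat relative to Z. -/
theorem result {X Y Y' Z : Scheme.{u}} (f : X ⟶ Y) (g : Y' ⟶ Y)
    (h : Y' ⟶ Z) (F : X.Modules) (hF : Coh.IsQCoh F) (hFfl : FlatMod.IsFlatOver f F)
    (hFff : ∀ y : ↥Y, ∃ x : ↥X, f x = y ∧
      letI := FlatMod.moduleStalkOver f F x
      IsLocalRing.maximalIdeal (Y.presheaf.stalk (f x)) • (⊤ : Submodule (Y.presheaf.stalk (f x)) (F.presheaf.stalk x)) ≠ ⊤)
    (G' : Y'.Modules) (hG' : Coh.IsQCoh G') :
    (FlatMod.IsFlatOver h G' ↔ FlatMod.IsFlatOver (pullback.snd f g ≫ h) (CohB1.tensorMod ((Scheme.Modules.pullback (pullback.fst f g)).obj F) ((Scheme.Modules.pullback (pullback.snd f g)).obj G'))) ∧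
    ((FlatMod.IsFlatOver h G' ∧ ∀ z : ↥Z, ∃ y' : ↥Y', h y' = z ∧
        letI := FlatMod.moduleStalkOver h G' y'
        IsLocalRing.maximalIdeal (Z.presheaf.stalk (h y')) • (⊤ : Submodule (Z.presheaf.stalk (h y')) (G'.presheaf.stalk y')) ≠ ⊤) ↔
      (FlatMod.IsFlatOver (pullback.snd f g ≫ h) (CohB1.tensorMod ((Scheme.Modules.pullback (pullback.fst f g)).obj F) ((Scheme.Modules.pullback (pullback.snd f g)).obj G')) ∧
        ∀ z : ↥Z, ∃ x' : ↥(pullback f g), (pullback.snd f g ≫ h) x' = z ∧
          letI := FlatMod.moduleStalkOver (pullback.snd f g ≫ h) (CohB1.tensorMod ((Scheme.Modules.pullback (pullback.fst f g)).obj F) ((Scheme.Modules.pullback (pullback.snd f g)).obj G')) x'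
          IsLocalRing.maximalIdeal (Z.presheaf.stalk ((pullback.snd f g ≫ h) x')) •
            (⊤ : Submodule (Z.presheaf.stalk ((pullback.snd f g ≫ h) x')) ((CohB1.tensorMod ((Scheme.Modules.pullback (pullback.fst f g)).obj F) ((Scheme.Modules.pullback (pullback.snd f g)).obj G')).presheaf.stalk x')) ≠ ⊤)) := by
    have hex : ∀ y' : Y', ∃ x' : ↥(pullback f g), pullback.snd f g x' = y' ∧
        letI := FlatMod.moduleStalkOver (pullback.snd f g) ((Scheme.Modules.pullback (pullback.fst f g)).obj F) x'
        IsLocalRing.maximalIdeal (Y'.presheaf.stalk (pullback.snd f g x')) •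
          (⊤ : Submodule (Y'.presheaf.stalk (pullback.snd f g x')) (((Scheme.Modules.pullback (pullback.fst f g)).obj F).presheaf.stalk x')) ≠ ⊤ := by
      intro y'
      obtain ⟨x, hx, hne⟩ := hFff (g y')
      exact Groth.Agent.FlatBC5.exists_fibre_nonzero (IsPullback.of_hasPullback f g) hF x y' hx hne
    have h₁ : FlatMod.IsFlatOver h G' ↔ FlatMod.IsFlatOver (pullback.snd f g ≫ h) (CohB1.tensorMod
        ((Scheme.Modules.pullback (pullback.fst f g)).obj F) ((Scheme.Modules.pullback (pullback.snd f g)).obj G')) := by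
      refine ⟨fun hG x' => (key f g h F hFfl G' x').1 (hG _), fun hT y' => ?_⟩
      obtain ⟨x', rfl, hne⟩ := hex y'
      exact ((key f g h F hFfl G' x').2.2 hne).1 (hT x')
    refine ⟨h₁, and_congr h₁ ⟨fun hG z => ?_, fun hT z => ?_⟩⟩
    · obtain ⟨y', hy, hne'⟩ := hG z
      obtain ⟨x', rfl, hne⟩ := hex y'
      exact ⟨x', hy, ((key f g h F hFfl G' x').2.2 hne).2 hne'⟩
    · obtain ⟨x', hx, hne⟩ := hT z
      exact ⟨pullback.snd f g x', hx, (key f g h F hFfl G' x').2.1 hne⟩

end Groth.Agent.S4679
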