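import Groth.Statements.S4681
import Mathlib.AlgebraicGeometry.Morphisms.Flat
import Mathlib.RingTheory.Flat.FaithfullyFlat.Basic
import Groth.Prelude.Def_FlatMod2

set_option autoImplicit false
open CategoryTheory AlgebraicGeometry
universe u
open FDesc

namespace Groth.Agent.S4681

open TensorProduct in
/-- Flatness descends along a module faithfully flat over the top ring. -/
theorem flat_left (A B M : Type u) [CommRing A] [CommRing B] [Algebra A B] [AddCommGroup M] [Module A M]
    [Module B M] [IsScalarTower A B M] [Module.FaithfullyFlat B M] [Module.Flat A M] : Module.Flat A B := by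
  refine Module.Flat.iff_lTensor_preserves_injective_linearMap.mpr fun P Q _ _ _ _ i hi => ?_
  rw [← AlgebraTensorModule.coe_lTensor (A := B), ← Module.FaithfullyFlat.lTensor_injective_iff_injective B M]
  have hnat : ∀ z, AlgebraTensorModule.cancelBaseChange A B B M Q ((AlgebraTensorModule.lTensor B B i).lTensor M z) =
      i.lTensor M (AlgebraTensorModule.cancelBaseChange A B B M P z) := fun z => by
    induction z using TensorProduct.induction_on with
    | zero => simp
    | tmul c w =>
      induction w using TensorProduct.induction_on with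
      | zero => simp
      | tmul b x => simp
      | add a b ha hb => simp only [tmul_add, map_add, ha, hb]
    | add a b ha hb => simp only [map_add, ha, hb]
  intro a b hab
  apply (AlgebraTensorModule.cancelBaseChange A B B M P).injective
  apply Module.Flat.lTensor_preserves_injective_linearMap (M := M) i hi
  rw [← hnat, ← hnat, hab]


/-- Let f : X → Y and g : Y → Z be morphisms of schemes and F a quasi-coherent O_X-module which is
faithfully flat relative to Y: flat over Y, and for every point y of Y there is a point x over y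
with F_x ⊗ κ(y) ≠ 0. Then g is flat and surjective (faithfully flat) if and only if F is faithfully
flat relative to Z for the morphism f followed by g: flat over Z, and for every point z of Z there
is a point x of X over z with F_x ⊗ κ(z) ≠ 0. -/
theorem result {X Y Z : Scheme.{u}} (f : X ⟶ Y) (g : Y ⟶ Z)
    (F : X.Modules) (hF : Coh.IsQCoh F) (hFfl : FlatMod.IsFlatOver f F)
    (hFff : (∀ y : ↥Y, ∃ x : ↥X, f x = y ∧
      letI := FlatMod.moduleStalkOver f F x
      IsLocalRing.maximalIdeal (Y.presheaf.stalk (f x)) • (⊤ : Submodule (Y.presheaf.stalk (f x)) (F.presheaf.stalk x)) ≠ ⊤)) :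
    (Flat g ∧ Surjective g) ↔
      (FlatMod.IsFlatOver (f ≫ g) F ∧
        (∀ z : ↥Z, ∃ x : ↥X, (f ≫ g) x = z ∧
      letI := FlatMod.moduleStalkOver (f ≫ g) F x
      IsLocalRing.maximalIdeal (Z.presheaf.stalk ((f ≫ g) x)) • (⊤ : Submodule (Z.presheaf.stalk ((f ≫ g) x)) (F.presheaf.stalk x)) ≠ ⊤)) := by
  have key : ∀ x, FlatMod.IsFlatOverAt f F x →
      ((g.stalkMap (f x)).hom.Flat → FlatMod.IsFlatOverAt (f ≫ g) F x) ∧
      ((letI := FlatMod.moduleStalkOver f F x
        IsLocalRing.maximalIdeal (Y.presheaf.stalk (f x)) • (⊤ : Submodule (Y.presheaf.stalk (f x)) (F.presheaf.stalk x)) ≠ ⊤) →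
        (FlatMod.IsFlatOverAt (f ≫ g) F x → (g.stalkMap (f x)).hom.Flat) ∧
        (letI := FlatMod.moduleStalkOver (f ≫ g) F x
         IsLocalRing.maximalIdeal (Z.presheaf.stalk ((f ≫ g) x)) • (⊤ : Submodule (Z.presheaf.stalk ((f ≫ g) x)) (F.presheaf.stalk x)) ≠ ⊤)) := fun x hx => by
    letI := (g.stalkMap (f x)).hom.toAlgebra
    letI := FlatMod.moduleStalkOver f F x
    letI : Module (Z.presheaf.stalk (g (f x))) (F.presheaf.stalk x) := FlatMod.moduleStalkOver (f ≫ g) F x
    haveI : IsScalarTower (Z.presheaf.stalk (g (f x))) (Y.presheaf.stalk (f x)) (F.presheaf.stalk x) :=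
      IsScalarTower.of_algebraMap_smul fun a m => by
        show f.stalkMap x (g.stalkMap (f x) a) • m = (f ≫ g).stalkMap x a • m
        rw [Scheme.Hom.stalkMap_comp]; rfl
    haveI : Module.Flat (Y.presheaf.stalk (f x)) (F.presheaf.stalk x) := hx
    refine ⟨fun hg => ?_, fun hne => ?_⟩
    · haveI : Module.Flat (Z.presheaf.stalk (g (f x))) (Y.presheaf.stalk (f x)) := hg
      have r : Module.Flat (Z.presheaf.stalk (g (f x))) (F.presheaf.stalk x) :=
        Module.Flat.trans _ (Y.presheaf.stalk (f x)) _
      exact r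
    haveI : Module.FaithfullyFlat (Y.presheaf.stalk (f x)) (F.presheaf.stalk x) :=
      ⟨fun {m} hm => by rw [IsLocalRing.eq_maximalIdeal hm]; exact hne⟩
    constructor
    · intro h
      haveI : Module.Flat (Z.presheaf.stalk (g (f x))) (F.presheaf.stalk x) := h
      exact flat_left (Z.presheaf.stalk (g (f x))) (Y.presheaf.stalk (f x)) (F.presheaf.stalk x)
    · intro e
      refine hne (Submodule.eq_top_iff'.2 fun m => ?_)
      letI := FlatMod.moduleStalkOver (f ≫ g) F x
      have hm : m ∈ IsLocalRing.maximalIdeal (Z.presheaf.stalk (g (f x))) •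
          (⊤ : Submodule (Z.presheaf.stalk (g (f x))) (F.presheaf.stalk x)) := (Submodule.eq_top_iff'.1 e) m
      induction hm using Submodule.smul_induction_on' with
      | smul a ha n _ =>
        rw [← algebraMap_smul (Y.presheaf.stalk (f x)) a n]
        exact Submodule.smul_mem_smul ((IsLocalRing.mem_maximalIdeal _).2 fun hu =>
          (IsLocalRing.mem_maximalIdeal _).1 ha ((isUnit_map_iff (g.stalkMap (f x)).hom a).1 hu)) Submodule.mem_top
      | add u _ v _ hu hv => exact add_mem hu hv
  constructor
  · rintro ⟨hg, hs⟩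
    refine ⟨fun x => (key x (hFfl x)).1 (Flat.stalkMap g (f x)), fun z => ?_⟩
    obtain ⟨y, rfl⟩ := hs.surj z
    obtain ⟨x, rfl, hne⟩ := hFff y
    exact ⟨x, rfl, ((key x (hFfl x)).2 hne).2⟩
  · rintro ⟨hfl, hff⟩
    refine ⟨Flat.of_stalkMap g fun y => ?_, ⟨fun z => ?_⟩⟩
    · obtain ⟨x, rfl, hne⟩ := hFff y
      exact ((key x (hFfl x)).2 hne).1 (hfl x)
    · obtain ⟨x, hx, -⟩ := hff z
      exact ⟨f x, hx⟩

end Groth.Agent.S4681
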