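import Groth.Statements.S4682
import Groth.Agent.RedComap5.Basic
-- import your own Groth.Agent.* helpers here

set_option autoImplicit false
open CategoryTheory AlgebraicGeometry
universe u
open FBase

namespace Groth.Agent.S4682

open CategoryTheory.Limits

/-- Let Y be a scheme over a field K', let K be an extension field of K' which is separable over K'
(Spec K → Spec K' is geometrically reduced), let g : Y ⊗_{K'} K → Y be the projection and T a closed
subset of Y ⊗_{K'} K. Then T is defined over K' as a closed subset, that is T = g⁻¹(T') for some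
closed subset T' of Y, if and only if the reduced closed subscheme of Y ⊗_{K'} K with support T is
defined over K', that is, there is a quasi-coherent ideal sheaf of O_Y whose inverse image in Y
⊗_{K'} K is the vanishing ideal sheaf of T. -/
theorem result {K' K : Type u} [Field K'] [Field K] [Algebra K' K]
    {Y : Scheme.{u}} (fY : Y ⟶ Spec (CommRingCat.of K'))
    [GeometricallyReduced (Spec.map (CommRingCat.ofHom (algebraMap K' K)))]
    (T : TopologicalSpace.Closeds ↥(FBase.bc fY K)) :
    (∃ T' : TopologicalSpace.Closeds ↥Y, (T : Set ↥(FBase.bc fY K)) = ⇑(FBase.bcπ fY K) ⁻¹' (T' : Set ↥Y)) ↔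
      ∃ J : Y.IdealSheafData, J.comap (FBase.bcπ fY K) = Scheme.IdealSheafData.vanishingIdeal T := by
  constructor
  · rintro ⟨T', hT⟩
    refine ⟨Scheme.IdealSheafData.vanishingIdeal T', RedComap5.comap_vanishingIdeal (FBase.bcπ fY K) T' ?_ T hT⟩
    refine RedComap5.isReduced_pullback_subscheme K fY _ ?_
    haveI := H23.RedSub.isReduced_vanishingIdeal T'
    haveI : IsReduced (pullback (Spec.map (CommRingCat.ofHom (algebraMap K' K)))
        ((Scheme.IdealSheafData.vanishingIdeal T').subschemeι ≫ fY)) := FBaseLib.isReduced_pullback _ _
    exact isReduced_of_isOpenImmersion (pullbackSymmetry _ _).hom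
  · rintro ⟨J, hJ⟩
    refine ⟨J.support, ?_⟩
    rw [← Scheme.IdealSheafData.coe_support_vanishingIdeal T, ← hJ, Scheme.IdealSheafData.support_comap]
    rfl

end Groth.Agent.S4682
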