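import Groth.Statements.S4683
import Groth.Agent.AssLib.Apply
import Groth.Agent.AssPtX.Noeth
import Groth.Agent.ZClosLib.Basic
import Groth.Agent.CycLib.StalkSES

set_option autoImplicit false
open CategoryTheory AlgebraicGeometry
universe u
open AssSch

namespace Groth.Agent.S4683

/-- Let X be a locally Noetherian scheme and M a coherent O_X-module without embedded associated points.
Then M has only one reduced irredundant decomposition: if (q_x : M → G_x) and (q'_x : M → G'_x) are
two families of coherent quotients of M indexed by the associated points x of M, with Ass(G_x) =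
Ass(G'_x) = {x} for every x and each family jointly monomorphic (M embeds in the product), then for
every x there is an isomorphism G_x ≅ G'_x under M (it is unique, q_x being an epimorphism). -/
theorem result {X : Scheme.{u}} [IsLocallyNoetherian X] (M : X.Modules)
    (hM : Coh.IsCoh M) (hne : AssSch.NoEmbedded M)
    (G G' : ↥(AssSch.Ass M) → X.Modules) (q : ∀ x, M ⟶ G x) (q' : ∀ x, M ⟶ G' x)
    (hq : ∀ x, Epi (q x)) (hq' : ∀ x, Epi (q' x)) (hG : ∀ x, Coh.IsCoh (G x)) (hG' : ∀ x, Coh.IsCoh (G' x))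
    (hA : ∀ x, AssSch.Ass (G x) = {x.1}) (hA' : ∀ x, AssSch.Ass (G' x) = {x.1})
    (hm : ∀ (T : X.Modules) (a b : T ⟶ M), (∀ x, a ≫ q x = b ≫ q x) → a = b)
    (hm' : ∀ (T : X.Modules) (a b : T ⟶ M), (∀ x, a ≫ q' x = b ≫ q' x) → a = b) (x : ↥(AssSch.Ass M)) :
    ∃ e : G x ≅ G' x, q x ≫ e.hom = q' x := by
  have hs0 : ∀ (G : ↥(AssSch.Ass M) → X.Modules) (q : ∀ x, M ⟶ G x)
      (hm : ∀ (T : X.Modules) (a b : T ⟶ M), (∀ x, a ≫ q x = b ≫ q x) → a = b)
      (O : X.Opens) (s : Γ(M, O)), (∀ y, (q y).app O s = 0) → s = 0 := by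
    intro G q hm O s hs
    haveI : Mono (Limits.Pi.lift q) := ⟨fun a b h => hm _ a b fun x => by
      have := congrArg (· ≫ Limits.Pi.π G x) h
      simpa using this⟩
    refine ZClosLib.app_injective_of_mono (Limits.Pi.lift q) O ?_
    rw [map_zero]
    let Φ := Scheme.Modules.toPresheaf X ⋙ (CategoryTheory.evaluation X.Opensᵒᵖ Ab.{u}).obj (Opposite.op O)
    haveI : Limits.PreservesLimitsOfShape (Discrete ↥(AssSch.Ass M))
        ((CategoryTheory.evaluation X.Opensᵒᵖ Ab.{u}).obj (Opposite.op O)) :=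
      Limits.evaluation_preservesLimitsOfShape (C := Ab.{u}) _
    haveI : Limits.PreservesLimitsOfShape (Discrete ↥(AssSch.Ass M)) (Scheme.Modules.toPresheaf X) :=
      Limits.PreservesLimitsOfSize.preservesLimitsOfShape
    haveI : Limits.PreservesLimitsOfShape (Discrete ↥(AssSch.Ass M)) Φ :=
      Limits.comp_preservesLimitsOfShape _ _
    refine (ConcreteCategory.bijective_of_isIso (Limits.piComparison Φ G)).1 ?_
    refine Eq.trans ?_ (map_zero (Limits.piComparison Φ G).hom).symm
    refine Limits.Concrete.limit_ext _ _ _ fun ⟨y⟩ => ?_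
    rw [map_zero]
    have h1 := ConcreteCategory.congr_hom (Limits.piComparison_comp_π Φ G y) ((Limits.Pi.lift q).app O s)
    refine h1.trans ?_
    have h2 := ConcreteCategory.congr_hom
      (congrArg (fun f => Φ.map f) (Limits.Pi.lift_π q y)) s
    rw [Φ.map_comp] at h2
    exact h2.trans (hs y)
  have hdir : ∀ (G G' : ↥(AssSch.Ass M) → X.Modules) (q : ∀ x, M ⟶ G x) (q' : ∀ x, M ⟶ G' x),
      (∀ x, Coh.IsCoh (G x)) → (∀ x, Coh.IsCoh (G' x)) → (∀ x, AssSch.Ass (G x) = {x.1}) →
      (∀ x, AssSch.Ass (G' x) = {x.1}) →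
      (∀ (T : X.Modules) (a b : T ⟶ M), (∀ x, a ≫ q x = b ≫ q x) → a = b) →
      ∀ (T : X.Modules) (t : T ⟶ M), t ≫ q x = 0 → t ≫ q' x = 0 := by
    intro G G' q q' hG hG' hA hA' hm T t ht
    suffices h : ∀ (U : X.Opens), IsAffineOpen U → ∀ s : Γ(M, U), (q x).app U s = 0 → (q' x).app U s = 0 by
      refine Scheme.Modules.hom_ext _ _ fun V => ?_
      ext a
      refine (TopCat.Presheaf.section_ext ⟨(G' x).presheaf, (G' x).isSheaf⟩ V _ 0 fun z hz => ?_)
      show (G' x).presheaf.germ V z hz _ = (G' x).presheaf.germ V z hz 0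
      obtain ⟨W, hW, hzW, hWV⟩ := exists_isAffineOpen_mem_and_subset (x := z) (U := V) hz
      rw [map_zero, ← (G' x).presheaf.germ_res_apply (homOfLE hWV) z hzW]
      have e1 : (G' x).presheaf.map (homOfLE hWV).op ((t ≫ q' x).app V a) =
          (q' x).app W (t.app W (T.presheaf.map (homOfLE hWV).op a)) :=
        (ConcreteCategory.congr_hom ((t ≫ q' x).mapPresheaf.naturality (homOfLE hWV).op) a).symm
      refine (congrArg ((G' x).presheaf.germ W z hzW) e1).trans ?_
      rw [h W hW (t.app W (T.presheaf.map (homOfLE hWV).op a))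
        (ConcreteCategory.congr_hom (congrArg (fun f => Scheme.Modules.Hom.app f W) ht)
          (T.presheaf.map (homOfLE hWV).op a)), map_zero]
    intro U hU s hs
    refine AssLib.eq_zero_of_germ_ass (hG' x).1 hU _ fun z hz hza => ?_
    rw [hA' x, Set.mem_singleton_iff] at hza
    subst hza
    let S := {y : X | y ∈ U ∧ Curv2.IsAssPoint M y} \ {x.1}
    have hS : S.Finite := (AssPtX.finite_assPoints hM hU.isCompact).subset Set.sdiff_subset
    let O : X.Opens := ⟨(U : Set X) \ ⋃ y ∈ S, closure {y},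
      U.isOpen.sdiff (hS.isClosed_biUnion fun y _ => isClosed_closure)⟩
    have hxO : x.1 ∈ O := ⟨hz, fun h => by
      obtain ⟨y, hy, hc⟩ := Set.mem_iUnion₂.1 h
      exact hy.2 (hne x.1 x.2 y hy.1.2 (specializes_iff_mem_closure.2 hc)).symm⟩
    obtain ⟨W, hW, hxW, hWO⟩ := exists_isAffineOpen_mem_and_subset (x := x.1) (U := O) hxO
    have hWU : W ≤ U := fun z hz => (hWO hz).1
    have key : M.presheaf.map (homOfLE hWU).op s = 0 := by
      refine hs0 G q hm W _ fun y => ?_
      have e2 : (q y).app W (M.presheaf.map (homOfLE hWU).op s) =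
          (G y).presheaf.map (homOfLE hWU).op ((q y).app U s) :=
        ConcreteCategory.congr_hom ((q y).mapPresheaf.naturality (homOfLE hWU).op) s
      by_cases hyx : y = x
      · subst hyx; rw [e2, hs, map_zero]
      refine AssLib.eq_zero_of_germ_ass (hG y).1 hW _ fun z hzW hza => ?_
      rw [hA y, Set.mem_singleton_iff] at hza
      subst hza
      exact absurd (Set.mem_iUnion₂.2 ⟨y.1, ⟨⟨hWU hzW, y.2⟩, fun h => hyx (Subtype.ext h)⟩,
        subset_closure (Set.mem_singleton _)⟩) (hWO hzW).2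
    have hg := AssLib.germ_eq_zero_of_res_eq_zero hWU hxW s key
    exact (CycLib.stalkAdd_germ (q' x) x.1 hz s).symm.trans (by rw [hg, map_zero])
  have h1 := hdir G G' q q' hG hG' hA hA' hm _ (Limits.kernel.ι (q x)) (Limits.kernel.condition _)
  have h2 := hdir G' G q' q hG' hG hA' hA hm' _ (Limits.kernel.ι (q' x)) (Limits.kernel.condition _)
  haveI := hq x
  haveI := hq' x
  refine ⟨⟨Abelian.epiDesc (q x) (q' x) h1, Abelian.epiDesc (q' x) (q x) h2, ?_, ?_⟩, Abelian.comp_epiDesc _ _ _⟩
  · rw [← cancel_epi (q x), Abelian.comp_epiDesc_assoc, Abelian.comp_epiDesc, Category.comp_id]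
  · rw [← cancel_epi (q' x), Abelian.comp_epiDesc_assoc, Abelian.comp_epiDesc, Category.comp_id]

end Groth.Agent.S4683
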