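import Groth.Statements.S4684
import Groth.Agent.GenQuot5.Basic
import Groth.Agent.QCoh.Qcqs
import Groth.Agent.QCoh.Tilde

set_option autoImplicit false
set_option synthInstance.maxHeartbeats 400000
set_option maxHeartbeats 1000000
set_option backward.isDefEq.respectTransparency false
set_option backward.isDefEq.respectTransparency.types false
open CategoryTheory AlgebraicGeometry
universe u
open FDesc

namespace Groth.Agent.S4684

open CategoryTheory.Limits

/-- Let Y be an integral locally Noetherian scheme all of whose local rings are regular of dimension at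
most one, with generic point η; let f : X → Y be a morphism, i : X_η → X the inclusion of the
generic fibre, F a quasi-coherent O_X-module and π : i^*F → G' a quotient of its restriction to the
generic fibre, with G' quasi-coherent. Then there exist a quasi-coherent quotient ρ : F → G of F
which is flat over Y and an isomorphism i^*G ≅ G' carrying i^*ρ to π; and any two such quotients are
isomorphic under F. (The published statement takes Y of dimension exactly one and constructs G as
the image of F in i_*G'.) -/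
theorem result {X Y : Scheme.{u}} [IsIntegral Y] [IsLocallyNoetherian Y]
    (hY : ∀ y : Y, IsRegularLocalRing (Y.presheaf.stalk y) ∧ ringKrullDim (Y.presheaf.stalk y) ≤ 1)
    (f : X ⟶ Y) (F : X.Modules) (hF : Coh.IsQCoh F) (G' : (f.fiber (genericPoint Y)).Modules) (hG' : Coh.IsQCoh G')
    (π : (Scheme.Modules.pullback (f.fiberι (genericPoint Y))).obj F ⟶ G') [Epi π] :
    (∃ (G : X.Modules) (ρ : F ⟶ G) (e : (Scheme.Modules.pullback (f.fiberι (genericPoint Y))).obj G ≅ G'),
        Epi ρ ∧ Coh.IsQCoh G ∧ FlatMod.IsFlatOver f G ∧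
          (Scheme.Modules.pullback (f.fiberι (genericPoint Y))).map ρ ≫ e.hom = π) ∧
      ∀ (G₁ G₂ : X.Modules) (ρ₁ : F ⟶ G₁) (ρ₂ : F ⟶ G₂)
        (e₁ : (Scheme.Modules.pullback (f.fiberι (genericPoint Y))).obj G₁ ≅ G')
        (e₂ : (Scheme.Modules.pullback (f.fiberι (genericPoint Y))).obj G₂ ≅ G'),
        Epi ρ₁ → Epi ρ₂ → Coh.IsQCoh G₁ → Coh.IsQCoh G₂ → FlatMod.IsFlatOver f G₁ → FlatMod.IsFlatOver f G₂ →
        (Scheme.Modules.pullback (f.fiberι (genericPoint Y))).map ρ₁ ≫ e₁.hom = π →
        (Scheme.Modules.pullback (f.fiberι (genericPoint Y))).map ρ₂ ≫ e₂.hom = π →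
        ∃ e : G₁ ≅ G₂, ρ₁ ≫ e.hom = ρ₂ := by
  let η := genericPoint Y
  let i := f.fiberι η
  let adj := Scheme.Modules.pullbackPushforwardAdjunction i
  let a := adj.homEquiv F G' π
  haveI : QuasiCompact (Y.fromSpecResidueField η) := inferInstance
  haveI : QuasiCompact i := inferInstanceAs (QuasiCompact (pullback.fst f (Y.fromSpecResidueField η)))
  haveI : QuasiSeparated i := inferInstance
  refine ⟨?_, fun G₁ G₂ ρ₁ ρ₂ e₁ e₂ hρ₁ hρ₂ hG₁ hG₂ hf₁ hf₂ he₁ he₂ => ?_⟩
  · let G := Abelian.image a
    let ρ : F ⟶ G := Abelian.factorThruImage a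
    let ι : G ⟶ (Scheme.Modules.pushforward i).obj G' := Abelian.image.ι a
    have hq : Coh.IsQCoh ((Scheme.Modules.pushforward i).obj G') := QCoh.isQCoh_pushforward i hG'
    have hG : Coh.IsQCoh G := QCoh.isQCoh_kernel hq (QCoh.isQCoh_cokernel hF hq a) _
    let θ := (adj.homEquiv G G').symm ι
    have hθ : (Scheme.Modules.pullback i).map ρ ≫ θ = π := by
      rw [← adj.homEquiv_naturality_left_symm, show ρ ≫ ι = a from Abelian.image.fac a, Equiv.symm_apply_apply]
    haveI : Epi ((Scheme.Modules.pullback i).map ρ ≫ θ) := hθ.symm ▸ ‹Epi π›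
    haveI : Epi θ := epi_of_epi ((Scheme.Modules.pullback i).map ρ) θ
    have happ0 : adj.unit.app G ≫ (Scheme.Modules.pushforward i).map θ = ι :=
      (adj.homEquiv_unit G G' θ).symm.trans (Equiv.apply_symm_apply _ _)
    have happ : ∀ (U : X.Opens) (s : Γ(G, U)), θ.app (i ⁻¹ᵁ U) ((adj.unit.app G).app U s) = ι.app U s := by
      intro U s
      exact congrArg (fun q => q.app U s) happ0
    haveI : Mono θ := by
      refine QCoh.mono_of_app_injective θ fun W => (injective_iff_map_eq_zero _).2 fun w hw => ?_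
      refine TopCat.Presheaf.section_ext ⟨_, ((Scheme.Modules.pullback i).obj G).isSheaf⟩ W w 0 fun z hz => ?_
      show ((Scheme.Modules.pullback i).obj G).presheaf.germ W z hz w = _
      rw [map_zero]
      let P := (Scheme.Modules.pullback i).obj G
      letI := (i.stalkMap z).hom.toAlgebra
      obtain ⟨g, hg⟩ : ∃ g : G.presheaf.stalk (i z),
          (KFlatLib.stalkPullbackIso i z).hom.app G (P.presheaf.germ W z hz w) =
            KFlatLib.u1 (i.stalkMap z).hom ((DerSch.stalkFunctor X (i z)).obj G) g := by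
        generalize (KFlatLib.stalkPullbackIso i z).hom.app G (P.presheaf.germ W z hz w) = v
        induction v using TensorProduct.induction_on with
        | zero => exact ⟨0, (map_zero _).symm⟩
        | tmul c m =>
          obtain ⟨c, rfl⟩ := (GenQuot5.bijective_stalkMap_fiberι f z).2 c
          refine ⟨c • m, ?_⟩
          show (algebraMap (X.presheaf.stalk (i z)) _ c) ⊗ₜ m = (1 : (f.fiber η).presheaf.stalk z) ⊗ₜ (c • m)
          rw [← TensorProduct.smul_tmul, Algebra.smul_def, mul_one]
        | add v v' hv hv' =>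
          obtain ⟨g, rfl⟩ := hv
          obtain ⟨g', rfl⟩ := hv'
          exact ⟨g + g', (map_add _ g g').symm⟩
      obtain ⟨U, hzU, s, rfl⟩ := TopCat.Presheaf.exists_germ_eq G.presheaf g
      have heq : P.presheaf.germ W z hz w = P.presheaf.germ (i ⁻¹ᵁ U) z hzU ((adj.unit.app G).app U s) := by
        refine ((KFlatLib.stalkPullbackIso i z).app G).toLinearEquiv.injective ?_
        exact hg.trans (KFlatLib.stalkPullbackIso_gm i z G U hzU s).symm
      obtain ⟨N, hzN, a₁, a₂, hN⟩ := P.presheaf.germ_eq z hz hzU _ _ heq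
      obtain ⟨O, hO, hON⟩ := i.isEmbedding.isInducing.isOpen_iff.1 N.isOpen
      let U' : X.Opens := U ⊓ ⟨O, hO⟩
      have hzU' : i z ∈ U' := ⟨hzU, (Set.ext_iff.1 hON z).2 hzN⟩
      have hle : i ⁻¹ᵁ U' ≤ N := fun y hy => (Set.ext_iff.1 hON y).1 hy.2
      have h0 : ι.app U' (G.presheaf.map (homOfLE (inf_le_left : U' ≤ U)).op s) = 0 := by
        rw [QCoh.map_app_comm, ← happ]
        refine (QCoh.map_app_comm θ ((TopologicalSpace.Opens.map i.base).map (homOfLE (inf_le_left : U' ≤ U)))
          ((adj.unit.app G).app U s)).symm.trans ?_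
        have : P.presheaf.map ((TopologicalSpace.Opens.map i.base).map (homOfLE (inf_le_left : U' ≤ U))).op ((adj.unit.app G).app U s) =
            P.presheaf.map (homOfLE hle).op (P.presheaf.map a₂.op ((adj.unit.app G).app U s)) :=
          (QCoh.map_map (M := P) (homOfLE hle) a₂ _).symm
        refine (congrArg (θ.app _) this).trans ?_
        rw [← hN, QCoh.map_app_comm, QCoh.map_app_comm, hw, map_zero, map_zero]
      rw [heq]
      have hs0 : G.presheaf.map (homOfLE (inf_le_left : U' ≤ U)).op s = 0 :=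
        QCoh.app_injective ι U' (h0.trans (map_zero _).symm)
      have hgs : G.presheaf.germ U (i z) hzU s = 0 := by
        rw [← G.presheaf.germ_res_apply (homOfLE (inf_le_left : U' ≤ U)) (i z) hzU' s, hs0, map_zero]
      refine ((KFlatLib.stalkPullbackIso i z).app G).toLinearEquiv.injective ?_
      rw [map_zero]
      refine (KFlatLib.stalkPullbackIso_gm i z G U hzU s).trans ?_
      refine (congrArg (KFlatLib.u1 (i.stalkMap z).hom ((DerSch.stalkFunctor X (i z)).obj G)) hgs).trans ?_
      exact map_zero _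
    haveI : IsIso θ := isIso_of_mono_of_epi θ
    refine ⟨G, ρ, asIso θ, inferInstance, hG, fun x => ?_, hθ⟩
    refine GenQuot5.isFlatOverAt_of_torsionFree hY f G x fun t g ht htg => ?_
    obtain ⟨V, hxV, r, rfl⟩ := TopCat.Presheaf.exists_germ_eq Y.presheaf t
    obtain ⟨U₀, hxU₀, s₀, rfl⟩ := TopCat.Presheaf.exists_germ_eq G.presheaf g
    let U : X.Opens := U₀ ⊓ f ⁻¹ᵁ V
    have hxU : x ∈ U := ⟨hxU₀, hxV⟩
    let s : Γ(G, U) := G.presheaf.map (homOfLE (inf_le_left : U ≤ U₀)).op s₀
    let r' : Γ(X, U) := f.appLE V U inf_le_right r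
    have hgerm : G.presheaf.germ U x hxU (r' • s) = 0 := by
      rw [QCoh.germ_smul', G.presheaf.germ_res_apply (homOfLE (inf_le_left : U ≤ U₀)) x hxU s₀]
      rw [show X.presheaf.germ U x hxU r' = (f.stalkMap x).hom (Y.presheaf.germ V (f x) hxV r) from
        ((Scheme.Hom.germ_stalkMap_apply f V x hxV r).trans
          (X.presheaf.germ_res_apply (homOfLE (inf_le_right : U ≤ f ⁻¹ᵁ V)) x hxU _).symm).symm]
      exact htg
    obtain ⟨W, hxW, b₁, b₂, hW⟩ := G.presheaf.germ_eq x hxU hxU _ _ (hgerm.trans (map_zero _).symm)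
    rw [map_zero, Scheme.Modules.map_smul] at hW
    let sW : Γ(G, W) := G.presheaf.map b₁.op s
    let rW : Γ(X, W) := X.presheaf.map b₁.op r'
    have hsW : sW = 0 := by
      refine QCoh.app_injective ι W ?_
      rw [map_zero]
      have h1 : i.app W rW • (show Γ(G', i ⁻¹ᵁ W) from ι.app W sW) = 0 := by
        refine (QCoh.pushforward_smul i W rW _).symm.trans ?_
        rw [← Scheme.Modules.Hom.app_smul]
        exact (congrArg (ι.app W) hW).trans (map_zero _)
      suffices hu : IsUnit (i.app W rW) by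
        let w' : Γ(G', i ⁻¹ᵁ W) := ι.app W sW
        have h1' : i.app W rW • w' = 0 := h1
        exact ((IsUnit.smul_eq_zero hu).1 h1' : w' = 0)
      refine RingedSpace.isUnit_of_isUnit_germ (f.fiber η).toLocallyRingedSpace.toRingedSpace (i ⁻¹ᵁ W) (i.app W rW)
        fun z hz => ((f.fiber η).mem_basicOpen (i.app W rW) z hz).1 ?_
      rw [← Scheme.preimage_basicOpen]
      show i z ∈ X.basicOpen rW
      rw [show rW = f.appLE V W (b₁.le.trans inf_le_right) r from
        congr($(Scheme.Hom.appLE_map f (inf_le_right : U ≤ f ⁻¹ᵁ V) b₁.op).hom r), Scheme.basicOpen_appLE]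
      refine ⟨hz, ?_⟩
      show f (i z) ∈ Y.basicOpen r
      have hfz : f (i z) = η := by
        have : i z ∈ Set.range (f.fiberι η) := ⟨z, rfl⟩
        rwa [Scheme.Hom.range_fiberι] at this
      rw [hfz]
      have hr : r ≠ 0 := fun h0 => ht (by rw [h0, map_zero])
      have hne : (Y.basicOpen r : Set Y).Nonempty := by
        rw [Set.nonempty_iff_ne_empty]
        exact fun h0 => hr ((basicOpen_eq_bot_iff r).1 (TopologicalSpace.Opens.ext h0))
      exact ((genericPoint_spec Y).mem_open_set_iff (Y.basicOpen r).isOpen).2 (by simpa using hne)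
    rw [← G.presheaf.germ_res_apply (homOfLE (inf_le_left : U ≤ U₀)) x hxU s₀,
      ← G.presheaf.germ_res_apply b₁ x hxW s]
    show G.presheaf.germ W x hxW sW = 0
    rw [hsW, map_zero]
  · haveI := hρ₁; haveI := hρ₂
    haveI := GenQuot5.mono_unit f hG₁ hf₁
    haveI := GenQuot5.mono_unit f hG₂ hf₂
    let m₁ := adj.homEquiv G₁ G' e₁.hom
    let m₂ := adj.homEquiv G₂ G' e₂.hom
    haveI : Mono m₁ := by rw [show m₁ = _ from adj.homEquiv_unit _ _ _]; infer_instance
    haveI : Mono m₂ := by rw [show m₂ = _ from adj.homEquiv_unit _ _ _]; infer_instance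
    have h₁ : ρ₁ ≫ m₁ = a := by rw [← adj.homEquiv_naturality_left, he₁]
    have h₂ : ρ₂ ≫ m₂ = a := by rw [← adj.homEquiv_naturality_left, he₂]
    have k₁ : kernel.ι ρ₁ ≫ ρ₂ = 0 := by
      rw [← cancel_mono m₂, Category.assoc, h₂, ← h₁, kernel.condition_assoc, zero_comp, zero_comp]
    have k₂ : kernel.ι ρ₂ ≫ ρ₁ = 0 := by
      rw [← cancel_mono m₁, Category.assoc, h₁, ← h₂, kernel.condition_assoc, zero_comp, zero_comp]
    refine ⟨⟨Abelian.epiDesc ρ₁ ρ₂ k₁, Abelian.epiDesc ρ₂ ρ₁ k₂, ?_, ?_⟩, Abelian.comp_epiDesc ρ₁ ρ₂ k₁⟩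
    · rw [← cancel_epi ρ₁, Abelian.comp_epiDesc_assoc, Abelian.comp_epiDesc, Category.comp_id]
    · rw [← cancel_epi ρ₂, Abelian.comp_epiDesc_assoc, Abelian.comp_epiDesc, Category.comp_id]


end Groth.Agent.S4684
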