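import Groth.Statements.S4685
import Groth.Agent.AssTensor5.ProdEmb

set_option autoImplicit false
open CategoryTheory AlgebraicGeometry
universe u
open AssSch

namespace Groth.Agent.S4685

open AlgebraicGeometry CategoryTheory CategoryTheory.Limits Groth.Agent

open CategoryTheory.Limits in
/-- Let f : X → S and g : Y → S be morphisms of schemes with X, Y and X ×_S Y locally Noetherian, F a
quasi-coherent O_X-module without embedded associated points, and G a quasi-coherent O_Y-module,
flat over S, whose restriction to every fibre g⁻¹(s) has no embedded associated points. Then F ⊗_S G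
(the tensor product on X ×_S Y of the pull-backs of F and G along the two projections) has no
embedded associated points. (The published statement assumes only X, the fibres of g and the schemes
Spec κ(x) ×_S Spec κ(y) locally Noetherian; this row assumes Y and X ×_S Y locally Noetherian, which
implies all of these, so that associated points are those whose maximal ideal is the annihilator of
an element of the stalk.) -/
theorem result {X Y S : Scheme.{u}} (f : X ⟶ S) (g : Y ⟶ S)
    [IsLocallyNoetherian X] [IsLocallyNoetherian Y] [IsLocallyNoetherian (pullback f g)]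
    (F : X.Modules) (hF : Coh.IsQCoh F) (G : Y.Modules) (hG : Coh.IsQCoh G) (hGfl : FlatMod.IsFlatOver g G)
    (hFne : AssSch.NoEmbedded F)
    (hGne : ∀ s : ↥S, AssSch.NoEmbedded ((Scheme.Modules.pullback (g.fiberι s)).obj G)) :
    AssSch.NoEmbedded (CohB1.tensorMod ((Scheme.Modules.pullback (pullback.fst f g)).obj F) ((Scheme.Modules.pullback (pullback.snd f g)).obj G)) := by
    intro z hz z' hz' hsp
    obtain ⟨x, hx, a, ha, hm⟩ := (AssTensor5.mem_ass_tensorS_iff f g F hGfl z).1 hz
    obtain ⟨x', hx', a', ha', hm'⟩ := (AssTensor5.mem_ass_tensorS_iff f g F hGfl z').1 hz'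
    obtain ⟨t, -, htz⟩ := id hm
    obtain ⟨t', -, htz'⟩ := id hm'
    have h1 := hsp.map (pullback.fst f g).continuous
    have h2 := hsp.map (pullback.snd f g).continuous
    rw [← htz, ← htz', AssTensor5.pairMap_fst, AssTensor5.pairMap_fst] at h1
    rw [← htz, ← htz', AssTensor5.pairMap_snd, AssTensor5.pairMap_snd] at h2
    obtain rfl := hFne x hx x' hx' h1
    obtain rfl := hGne (f x) a ha a' ha' ((FibDim.fiberι_specializes_iff g _ _).1 h2)
    exact (AssTensor5.eq_of_specializes_pair f g (FibDim.fiber_apply_fiberι g a) hm ⟨t', htz'⟩ hsp).symm

end Groth.Agent.S4685
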