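import Groth.Statements.S4686
import Groth.Agent.AssTensor5.BcLength
import Groth.Agent.AssLib.FlatField

set_option autoImplicit false
open CategoryTheory AlgebraicGeometry
universe u
open FBase

namespace Groth.Agent.S4686

open AlgebraicGeometry CategoryTheory CategoryTheory.Limits Groth.Agent

open CategoryTheory.Limits in
/-- Let X be an integral locally Noetherian scheme over a field k, k′ an extension field of k such that
X′ = X ⊗_k k′ is locally Noetherian, and k″ an extension field of k′; put X″ = X′ ⊗_{k′} k″ and Z″ =
(X′)_red ⊗_{k′} k″, with its canonical closed immersion j : Z″ → X″ (a homeomorphism). Let x″ be a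
maximal point of X″ (the generic point of an irreducible component), x′ its image in X′ and z″ the
point of Z″ with j(z″) = x″. Then length(O_{X″,x″}) = length(O_{X′,x′}) · length(O_{Z″,z″}), each
local ring being measured as a module over itself, with values in ℕ∞. -/
theorem result {k k' k'' : Type u} [Field k] [Field k'] [Field k''] [Algebra k k']
    [Algebra k' k''] {X : Scheme.{u}} (f : X ⟶ Spec (CommRingCat.of k)) [IsIntegral X] [IsLocallyNoetherian X]
    [IsLocallyNoetherian (FBase.bc f k')] (x'' : ↥(FBase.bc (FBase.bcStr f k') k''))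
    (hx'' : ∀ z : ↥(FBase.bc (FBase.bcStr f k') k''), z ⤳ x'' → z = x'')
    (z'' : ↥(FBase.bc ((FBase.bc f k').nilradical.subschemeι ≫ FBase.bcStr f k') k''))
    (hz'' : pullback.map ((FBase.bc f k').nilradical.subschemeι ≫ FBase.bcStr f k')
        (Spec.map (CommRingCat.ofHom (algebraMap k' k''))) (FBase.bcStr f k')
        (Spec.map (CommRingCat.ofHom (algebraMap k' k''))) (FBase.bc f k').nilradical.subschemeι (𝟙 _) (𝟙 _)
        (Category.comp_id _) ((Category.comp_id _).trans (Category.id_comp _).symm) z'' = x'') :
    Module.length ((FBase.bc (FBase.bcStr f k') k'').presheaf.stalk x'') ((FBase.bc (FBase.bcStr f k') k'').presheaf.stalk x'') =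
      Module.length ((FBase.bc f k').presheaf.stalk (FBase.bcπ (FBase.bcStr f k') k'' x''))
          ((FBase.bc f k').presheaf.stalk (FBase.bcπ (FBase.bcStr f k') k'' x'')) *
        Module.length ((FBase.bc ((FBase.bc f k').nilradical.subschemeι ≫ FBase.bcStr f k') k'').presheaf.stalk z'')
          ((FBase.bc ((FBase.bc f k').nilradical.subschemeι ≫ FBase.bcStr f k') k'').presheaf.stalk z'') := by
    let X' := FBase.bc f k'
    let j₀ := X'.nilradical.subschemeι
    let τ := Spec.map (CommRingCat.ofHom (algebraMap k' k''))
    let q : pullback (FBase.bcStr f k') τ ⟶ X' := pullback.fst (FBase.bcStr f k') τ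
    haveI : AlgebraicGeometry.IsReduced X'.nilradical.subscheme := H23.RedSub.isReduced_nilradical X'
    have hsurj : Function.Surjective j₀ := by
      rw [← Set.range_eq_univ, Scheme.IdealSheafData.range_subschemeι, Scheme.support_nilradical]
      rfl
    haveI : Flat τ := AssLib.flat_over_field τ
    haveI : Flat q := MorphismProperty.of_isPullback (IsPullback.of_hasPullback (FBase.bcStr f k') τ).flip ‹Flat τ›
    let e : pullback q j₀ ≅ pullback (j₀ ≫ FBase.bcStr f k') τ :=
      pullbackSymmetry _ _ ≪≫ pullbackRightPullbackFstIso (FBase.bcStr f k') τ j₀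
    have he : e.hom ≫ pullback.map (j₀ ≫ FBase.bcStr f k') τ (FBase.bcStr f k') τ j₀ (𝟙 _) (𝟙 _)
        (Category.comp_id _) ((Category.comp_id _).trans (Category.id_comp _).symm) = pullback.fst q j₀ := by
      apply pullback.hom_ext
      · rw [Category.assoc, pullback.lift_fst]
        simp [e, q, pullback.condition]
      · rw [Category.assoc, pullback.lift_snd]
        simp [e, q]
    obtain ⟨w, rfl⟩ := e.hom.homeomorph.surjective z''
    obtain rfl : pullback.fst q j₀ w = x'' := (congr($(he).base w)).symm.trans hz''
    exact (AssTensor5.length_of_maximal q j₀ w hx'').trans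
      (congrArg _ (AssTensor5.length_self_iso e w).symm)

end Groth.Agent.S4686
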