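import Groth.Statements.S4687
import Groth.Agent.AssTensor5.BcLength
import Groth.Agent.AssLib.FlatField
import Groth.Agent.FBaseLib.Product

set_option autoImplicit false
open CategoryTheory AlgebraicGeometry
universe u
open FBase

namespace Groth.Agent.S4687

open AlgebraicGeometry CategoryTheory CategoryTheory.Limits Groth.Agent

/-- Let X be an integral locally Noetherian scheme over a field k, k′ an extension field of k such that
X′ = X ⊗_k k′ is locally Noetherian, and k″ an extension field of k′ which is separable over k′
(Spec k″ → Spec k′ geometrically reduced) and such that (X′)_red ⊗_{k′} k″ is locally Noetherian.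
Then for every maximal point x″ of X″ = X′ ⊗_{k′} k″ (generic point of an irreducible component),
with image x′ in X′, the local rings O_{X″,x″} and O_{X′,x′} have the same length, each as a module
over itself, with values in ℕ∞. -/
theorem result {k k' k'' : Type u} [Field k] [Field k'] [Field k''] [Algebra k k']
    [Algebra k' k''] {X : Scheme.{u}} (f : X ⟶ Spec (CommRingCat.of k)) [IsIntegral X] [IsLocallyNoetherian X]
    [IsLocallyNoetherian (FBase.bc f k')] [GeometricallyReduced (Spec.map (CommRingCat.ofHom (algebraMap k' k'')))]
    [IsLocallyNoetherian (FBase.bc ((FBase.bc f k').nilradical.subschemeι ≫ FBase.bcStr f k') k'')]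
    (x'' : ↥(FBase.bc (FBase.bcStr f k') k'')) (hx'' : ∀ z : ↥(FBase.bc (FBase.bcStr f k') k''), z ⤳ x'' → z = x'') :
    Module.length ((FBase.bc (FBase.bcStr f k') k'').presheaf.stalk x'') ((FBase.bc (FBase.bcStr f k') k'').presheaf.stalk x'') =
      Module.length ((FBase.bc f k').presheaf.stalk (FBase.bcπ (FBase.bcStr f k') k'' x''))
        ((FBase.bc f k').presheaf.stalk (FBase.bcπ (FBase.bcStr f k') k'' x'')) := by
    let X' := FBase.bc f k'
    let j₀ := X'.nilradical.subschemeι
    let τ := Spec.map (CommRingCat.ofHom (algebraMap k' k''))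
    let q : pullback (FBase.bcStr f k') τ ⟶ X' := pullback.fst (FBase.bcStr f k') τ
    haveI : AlgebraicGeometry.IsReduced X'.nilradical.subscheme := H23.RedSub.isReduced_nilradical X'
    have hsurj : Function.Surjective j₀ := by
      rw [← Set.range_eq_univ, Scheme.IdealSheafData.range_subschemeι, Scheme.support_nilradical]
      rfl
    haveI : Flat τ := AssLib.flat_over_field τ
    haveI : Flat q := MorphismProperty.of_isPullback (IsPullback.of_hasPullback (FBase.bcStr f k') τ).flip ‹Flat τ›
    let e : pullback q j₀ ≅ pullback (j₀ ≫ FBase.bcStr f k') τ :=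
      pullbackSymmetry _ _ ≪≫ pullbackRightPullbackFstIso (FBase.bcStr f k') τ j₀
    have he : e.hom ≫ pullback.map (j₀ ≫ FBase.bcStr f k') τ (FBase.bcStr f k') τ j₀ (𝟙 _) (𝟙 _)
        (Category.comp_id _) ((Category.comp_id _).trans (Category.id_comp _).symm) = pullback.fst q j₀ := by
      apply pullback.hom_ext
      · rw [Category.assoc, pullback.lift_fst]
        simp [e, q, pullback.condition]
      · rw [Category.assoc, pullback.lift_snd]
        simp [e, q]
    obtain ⟨w, hw⟩ : ∃ w, pullback.fst q j₀ w = x'' := by
      obtain ⟨d, hd⟩ := hsurj (q x'')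
      obtain ⟨w, hw, -⟩ := Scheme.Pullback.exists_preimage_pullback x'' d hd.symm
      exact ⟨w, hw⟩
    subst hw
    haveI hZ : AlgebraicGeometry.IsReduced (pullback q j₀) := by
      haveI : GeometricallyReduced τ := ‹_›
      haveI := FBaseLib.isReduced_pullback τ (j₀ ≫ FBase.bcStr f k')
      exact isReduced_of_isOpenImmersion (e.hom ≫ (pullbackSymmetry _ _).hom)
    have hwmax : ∀ y, y ⤳ w → y = w := fun y hy =>
      (pullback.fst q j₀).isEmbedding.injective (hx'' _ (hy.map (pullback.fst q j₀).continuous))
    refine (AssTensor5.length_of_maximal q j₀ w hx'').trans ?_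
    rw [AssTensor5.length_eq_one_of_isField (AssTensor5.isField_stalk_of_maximal hwmax), mul_one]
    rfl

end Groth.Agent.S4687
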