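import Groth.Statements.S4688
import Mathlib.RingTheory.KrullDimension.Polynomial
-- import your own Groth.Agent.* helpers here

set_option autoImplicit false
universe u
open EGA4

namespace Groth.Agent.S4688

open Polynomial in
/-- Let A be a Noetherian ring, p a prime ideal of A and q a prime ideal of the polynomial ring A[T]
lying over p. Then the extended ideal p A[T] has the same height as p, and if q is different from p
A[T] one has ht(q) = ht(p) + 1. (The remaining assertions of the published item, that p A[T] is
prime over p and that there are infinitely many pairwise incomparable such q, are not restated.) -/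
theorem result (A : Type u) [CommRing A] [IsNoetherianRing A]
    (p : Ideal A) [p.IsPrime] (q : Ideal A[X]) [q.IsPrime] [q.LiesOver p] :
    (p.map (Polynomial.C : A →+* A[X])).height = p.height ∧
      (q ≠ p.map (Polynomial.C : A →+* A[X]) → q.height = p.height + 1) := by
  classical
  let Rp := Localization.AtPrime p
  let m : Ideal Rp := p.map (algebraMap A Rp)
  have hm : m = IsLocalRing.maximalIdeal Rp := Localization.AtPrime.map_eq_maximalIdeal
  haveI : m.IsMaximal := hm ▸ IsLocalRing.maximalIdeal.isMaximal Rp
  letI : Algebra A[X] Rp[X] := Polynomial.algebra A Rp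
  haveI : IsLocalization (p.primeCompl.map (Polynomial.C : A →+* A[X])) Rp[X] :=
    Polynomial.isLocalization p.primeCompl Rp
  let S : Submonoid A[X] := p.primeCompl.map (Polynomial.C : A →+* A[X])
  have hdisjq : Disjoint (S : Set A[X]) q := by
    refine Set.disjoint_left.mpr fun a ⟨b, hb, e⟩ ha => hb ?_
    rw [Ideal.LiesOver.over (P := q) (p := p)]
    exact Ideal.mem_comap.2 (show algebraMap A A[X] b ∈ q by rw [Polynomial.algebraMap_eq, e]; exact ha)
  have hle : p.map (Polynomial.C : A →+* A[X]) ≤ q := by
    rw [Ideal.map_le_iff_le_comap, Ideal.LiesOver.over (P := q) (p := p)]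
    exact le_rfl
  haveI hpC : (p.map (Polynomial.C : A →+* A[X])).IsPrime := Ideal.isPrime_map_C_of_isPrime
  have hdisjp : Disjoint (S : Set A[X]) (p.map (Polynomial.C : A →+* A[X])) := hdisjq.mono_right hle
  have hmap : (p.map (Polynomial.C : A →+* A[X])).map (algebraMap A[X] Rp[X]) = m.map Polynomial.C := by
    rw [Ideal.map_map, Ideal.map_map]
    congr 1
    ext a : 1
    simp [Polynomial.algebraMap_def]
  have hph : p.height = m.height := by
    exact (IsLocalization.height_map_of_disjoint p.primeCompl p
      (Set.disjoint_left.mpr fun _ a b => a b)).symm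
  have h1 : (p.map (Polynomial.C : A →+* A[X])).height = p.height := by
    rw [← IsLocalization.height_map_of_disjoint (S := Rp[X]) S _ hdisjp, hmap, Polynomial.height_map_C, hph]
  refine ⟨h1, fun hne => ?_⟩
  let q' : Ideal Rp[X] := q.map (algebraMap A[X] Rp[X])
  haveI hq' : q'.IsPrime := IsLocalization.isPrime_of_isPrime_disjoint S _ q inferInstance hdisjq
  have hle' : m.map Polynomial.C ≤ q' := hmap ▸ Ideal.map_mono hle
  have hne' : m.map Polynomial.C ≠ q' := by
    intro h
    apply hne
    rw [← IsLocalization.under_map_of_isPrime_disjoint S Rp[X] ‹q.IsPrime› hdisjq,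
      ← IsLocalization.under_map_of_isPrime_disjoint S Rp[X] hpC hdisjp, hmap]
    exact congrArg _ h.symm
  letI : Field (Rp ⧸ m) := Ideal.Quotient.field m
  let φ : Rp[X] →+* (Rp ⧸ m)[X] := Polynomial.mapRingHom (Ideal.Quotient.mk m)
  have hφ : Function.Surjective φ := Polynomial.map_surjective _ Ideal.Quotient.mk_surjective
  have hker : RingHom.ker φ = m.map Polynomial.C := by
    rw [Polynomial.ker_mapRingHom, Ideal.mk_ker]
  haveI : (q'.map φ).IsPrime := Ideal.map_isPrime_of_surjective hφ (hker ▸ hle')
  have hbot : q'.map φ ≠ ⊥ := fun h => hne' (le_antisymm hle' (by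
    rw [← hker]; exact (Ideal.map_eq_bot_iff_le_ker φ).1 h))
  haveI : (q'.map φ).IsMaximal := IsPrime.to_maximal_ideal hbot
  haveI : q'.IsMaximal := by
    have : q' = (q'.map φ).comap φ := by
      rw [Ideal.comap_map_of_surjective φ hφ, ← RingHom.ker_eq_comap_bot, hker, sup_eq_left.2 hle']
    rw [this]
    exact Ideal.comap_isMaximal_of_surjective φ hφ
  haveI : q'.LiesOver m := ⟨Ideal.IsMaximal.eq_of_le inferInstance Ideal.IsPrime.ne_top'
    (by rw [← Polynomial.algebraMap_eq] at hle'; exact Ideal.map_le_iff_le_comap.1 hle')⟩
  rw [← IsLocalization.height_map_of_disjoint (S := Rp[X]) S q hdisjq, hph]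
  exact Polynomial.height_eq_height_add_one m q'

end Groth.Agent.S4688
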