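import Groth.Statements.S4689
import Groth.Agent.SecFin.Normal

set_option autoImplicit false
universe u
open EGA4

namespace Groth.Agent.S4689

/-- Let A be a universally catenary Noetherian local domain and B a domain containing A which is a
finite A-algebra. Then for every maximal ideal n of B the local ring B_n has the same Krull
dimension as A. -/
theorem result (A B : Type u) [CommRing A] [IsDomain A]
    [IsNoetherianRing A] [IsLocalRing A] (hA : CAlg.IsUniversallyCatenary A) [CommRing B] [IsDomain B]
    [Algebra A B] [FaithfulSMul A B] [Module.Finite A B] (n : Ideal B) [n.IsMaximal] :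
    ringKrullDim (Localization.AtPrime n) = ringKrullDim A := by
    have hm : n.under A = IsLocalRing.maximalIdeal A :=
      IsLocalRing.eq_maximalIdeal (Ideal.IsMaximal.under A n)
    have h := (DimFormula.dimension_formula A (⟨n, inferInstance⟩ : PrimeSpectrum B)).2
      (DimFormula.isUniversallyCatenary_localization hA (n.under A).primeCompl _)
    rw [SecFin.fd_eq_zero_of_finite, SecFin.fd_eq_zero_of_finite, Nat.cast_zero, add_zero, add_zero,
      ← PrimeSpectrum.height_eq_orderHeight, ← PrimeSpectrum.height_eq_orderHeight] at h
    rw [IsLocalization.AtPrime.ringKrullDim_eq_height n, ← IsLocalRing.maximalIdeal_height_eq_ringKrullDim, ← hm]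
    exact congrArg _ h

end Groth.Agent.S4689
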