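import Groth.Statements.S4690
import Groth.Agent.DimTot.Basic

set_option autoImplicit false
universe u
open EGA4

namespace Groth.Agent.S4690

open AlgebraicGeometry CategoryTheory in
/-- Let Y be an irreducible locally Noetherian scheme, X an irreducible scheme and f : X → Y a dominant
morphism locally of finite type; let e be the dimension of the generic fibre of f. Then dim X ≤ dim
Y + e. If moreover every local ring of Y is universally catenary, the two sides are equal if and
only if dim Y equals the supremum of the dimensions of the local rings of Y at the points of f(X). -/
theorem result {X Y : Scheme.{u}} (f : X ⟶ Y) [IsLocallyNoetherian Y]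
    [LocallyOfFiniteType f] [IrreducibleSpace X] [IrreducibleSpace Y] (hf : DenseRange f.base) :
    topologicalKrullDim X ≤ topologicalKrullDim Y + topologicalKrullDim (f.fiber (genericPoint Y)) ∧
      ((∀ y : Y, CAlg.IsUniversallyCatenary (Y.presheaf.stalk y)) →
        (topologicalKrullDim X = topologicalKrullDim Y + topologicalKrullDim (f.fiber (genericPoint Y)) ↔
          topologicalKrullDim Y = ⨆ y ∈ Set.range f.base, ringKrullDim (Y.presheaf.stalk y))) := by
    haveI : IsDominant f := ⟨hf⟩
    refine ⟨DimTot.dim_le f hf, fun hY => ?_⟩
    have h := DimTot.dim_eq f hf hY
    constructor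
    · intro h'
      rw [h, (DimFormula.generic_fibre_dim f).2] at h'
      exact (DimTot.add_nat_cancel h').symm
    · intro h'
      rw [h, h']

end Groth.Agent.S4690
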