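import Groth.Statements.S4692
import Groth.Agent.DimTot.Basic

set_option autoImplicit false
universe u
open EGA4

namespace Groth.Agent.S4692

open AlgebraicGeometry CategoryTheory in
/-- Let Y be a locally Noetherian scheme all of whose local rings are universally catenary, X an
irreducible scheme, f : X → Y a morphism locally of finite type and n a natural number. If every
fibre of f has dimension at least n then dim X ≥ dim Y + n; if every fibre has dimension exactly n
then dim X = dim Y + n. (The empty scheme has dimension ⊥, so either hypothesis forces f to be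
surjective.) -/
theorem result {X Y : Scheme.{u}} (f : X ⟶ Y) [IsLocallyNoetherian Y]
    [LocallyOfFiniteType f] [IrreducibleSpace X] (hY : ∀ y : Y, CAlg.IsUniversallyCatenary (Y.presheaf.stalk y))
    (n : ℕ) :
    ((∀ y : Y, (n : WithBot ℕ∞) ≤ topologicalKrullDim (f.fiber y)) →
        topologicalKrullDim Y + n ≤ topologicalKrullDim X) ∧
      ((∀ y : Y, topologicalKrullDim (f.fiber y) = n) →
        topologicalKrullDim X = topologicalKrullDim Y + n) := by
    suffices H : (∀ y : Y, (n : WithBot ℕ∞) ≤ topologicalKrullDim (f.fiber y)) →
        topologicalKrullDim Y + n ≤ topologicalKrullDim X from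
      ⟨H, fun h => le_antisymm (DimTot.dim_le_add_n f n fun y => (h y).le) (H fun y => (h y).ge)⟩
    intro h
    have hne : ∀ y : Y, Nonempty ↥(f.fiber y) := fun y => by
      by_contra he
      rw [not_nonempty_iff] at he
      haveI : IsEmpty (TopologicalSpace.IrreducibleCloseds ↥(f.fiber y)) :=
        ⟨fun Z => he.false Z.isIrreducible'.nonempty.choose⟩
      have := h y
      rw [topologicalKrullDim, Order.krullDim_eq_bot] at this
      exact WithBot.coe_ne_bot (le_bot_iff.1 this)
    have hsurj : Function.Surjective f.base := fun y => by
      obtain ⟨w⟩ := hne y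
      exact ⟨f.fiberι y w, FibDim.fiber_apply_fiberι f w⟩
    haveI : IrreducibleSpace Y := hsurj.irreducibleSpace f.continuous
    rw [DimTot.dim_eq f hsurj.denseRange hY, hsurj.range_eq, DimTot.iSup_stalk_univ Y]
    exact add_le_add le_rfl (h _)

end Groth.Agent.S4692
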