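import Groth.Statements.S4693
import Groth.Agent.FlatLoc6.Supp

set_option autoImplicit false
universe u
open EGA4

namespace Groth.Agent.S4693

/-- Let A → B be a local homomorphism of Noetherian local rings such that the closed fibre ring B/m_A B
has Krull dimension 0 (that is, m_A B is an ideal of definition of B). Then dim B ≤ dim A. If
moreover some finite B-module which is flat over A has support equal to all of Spec B (for instance
if B is flat over A), then dim B = dim A. -/
theorem result (A B : Type u) [CommRing A] [CommRing B] [IsNoetherianRing A]
    [IsNoetherianRing B] [IsLocalRing A] [IsLocalRing B] [Algebra A B] [IsLocalHom (algebraMap A B)]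
    (h0 : ringKrullDim (EGA4.FibRing A B) = 0) :
    ringKrullDim B ≤ ringKrullDim A ∧
      (∀ (N : Type u) [AddCommGroup N] [Module B N] [Module A N] [IsScalarTower A B N] [Module.Finite B N]
          [Module.Flat A N], Module.support B N = Set.univ → ringKrullDim B = ringKrullDim A) := by
    constructor
    · haveI hlies : (IsLocalRing.maximalIdeal B).LiesOver (IsLocalRing.maximalIdeal A) := by
        refine ⟨?_⟩
        exact ((((IsLocalRing.local_hom_TFAE (algebraMap A B)).out 0 4 :) ).1 ‹IsLocalHom (algebraMap A B)›).symm
      have h1 := Ideal.height_le_height_add_of_liesOver (IsLocalRing.maximalIdeal A) (IsLocalRing.maximalIdeal B)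
      rw [← IsLocalRing.maximalIdeal_height_eq_ringKrullDim, ← IsLocalRing.maximalIdeal_height_eq_ringKrullDim]
      refine WithBot.coe_le_coe.2 (h1.trans ?_)
      have h2 : ((IsLocalRing.maximalIdeal B).map (Ideal.Quotient.mk (EGA4.mB A B))).height = 0 := by
        haveI : ((IsLocalRing.maximalIdeal B).map (Ideal.Quotient.mk (EGA4.mB A B))).IsPrime :=
          Ideal.map_isPrime_of_surjective Ideal.Quotient.mk_surjective
            (by rw [Ideal.mk_ker]; exact IsLocalRing.map_maximalIdeal_le (algebraMap A B))
        have h3 := Ideal.height_le_ringKrullDim_of_ne_top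
          (I := (IsLocalRing.maximalIdeal B).map (Ideal.Quotient.mk (EGA4.mB A B))) Ideal.IsPrime.ne_top'
        rw [h0] at h3
        exact le_antisymm (WithBot.coe_le_coe.1 h3) zero_le
      exact le_of_le_of_eq (add_le_add le_rfl h2.le) (add_zero _)
    · intro N _ _ _ _ _ _ hsupp
      haveI : Nontrivial N := by
        obtain ⟨q⟩ := (inferInstance : Nonempty (PrimeSpectrum B))
        exact Module.nonempty_support_iff.1 (hsupp ▸ Set.univ_nonempty)
      haveI : Module.Finite A A := inferInstance
      have h := FlatLoc6.supportDim_tensor (A := A) (B := B) (N := N) (M := A)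
      have hiso : Module.supportDim B (TensorProduct A N A) = Module.supportDim B N := by
        refine Module.supportDim_eq_of_equiv (TensorProduct.AlgebraTensorModule.rid A B N)
      have hN : Module.supportDim B N = ringKrullDim B := by
        rw [Module.supportDim, hsupp]
        exact Order.krullDim_eq_of_orderIso OrderIso.Set.univ
      have hA : Module.supportDim A A = ringKrullDim A := Module.supportDim_self_eq_ringKrullDim A
      rw [hiso, hN, hA] at h
      have hF := (FlatLoc6.supportDim_fibMod (A := A) (B := B) (N := N)).symm.trans_le
        ((Module.supportDim_le_ringKrullDim _ _).trans h0.le)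
      generalize Module.supportDim B (N ⧸ FlatLoc6.mN A B N) = d at h hF
      induction d with
      | bot =>
        rw [WithBot.add_bot] at h
        exact absurd h (ne_bot_of_le_ne_bot (by simp) (ringKrullDim_nonneg_of_nontrivial (R := B)))
      | coe d =>
        rw [show (d : WithBot ℕ∞) = 0 from le_antisymm hF (WithBot.coe_le_coe.2 (zero_le : (0 : ℕ∞) ≤ d)), add_zero] at h
        exact h

end Groth.Agent.S4693
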