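import Groth.Statements.S4694
import Groth.Agent.FlatLoc6.Supp
import Groth.Agent.Alg6.AssDepth
import Mathlib.RingTheory.FiniteLength

set_option autoImplicit false
universe u
open EGA4

namespace Groth.Agent.S4694

open TensorProduct in
/-- Let A → B be a local homomorphism of Noetherian local rings, M a finite A-module and N a nonzero
finite B-module, flat over A, whose closed-fibre module N/m_A N has finite length. Then the depth of
the B-module N ⊗_A M equals the depth of the A-module M. (The companion equality of codepths in the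
published item is not restated.) -/
theorem result {A B M N : Type u} [CommRing A] [CommRing B]
    [IsNoetherianRing A] [IsNoetherianRing B] [IsLocalRing A] [IsLocalRing B] [Algebra A B]
    [IsLocalHom (algebraMap A B)] [AddCommGroup M] [Module A M] [Module.Finite A M]
    [AddCommGroup N] [Module B N] [Module A N] [IsScalarTower A B N] [Module.Finite B N] [Nontrivial N]
    [Module.Flat A N] (hN : IsFiniteLength B (EGA4.FibMod A B N)) :
    LocCoh.depth B (N ⊗[A] M) = LocCoh.depth A M := by
  rcases subsingleton_or_nontrivial M with hM | hM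
  · haveI : Subsingleton (N ⊗[A] M) := inferInstance
    rw [LocCoh.depth, LocCoh.idealDepth, if_pos (Subsingleton.elim _ _), LocCoh.depth, LocCoh.idealDepth,
      if_pos (Subsingleton.elim _ _)]
  haveI := FlatLoc6.nontrivial_quot_mN (A := A) (B := B) N
  have h0 : LocCoh.depth B (N ⧸ FlatLoc6.mN A B N) = 0 := by
    haveI : IsArtinian B (N ⧸ FlatLoc6.mN A B N) := (isFiniteLength_iff_isNoetherian_isArtinian.1 hN).2
    obtain ⟨P, hP⟩ := associatedPrimes.nonempty B (N ⧸ FlatLoc6.mN A B N)
    haveI := hP.isPrime
    obtain ⟨-, x, hx⟩ := isAssociatedPrime_iff.1 hP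
    have hker : P = LinearMap.ker (LinearMap.toSpanSingleton B (N ⧸ FlatLoc6.mN A B N) x) := Submodule.ext fun b => by
      rw [hx, Submodule.mem_colon_singleton, Submodule.mem_bot, LinearMap.mem_ker, LinearMap.toSpanSingleton_apply]
    haveI : IsArtinian B (B ⧸ P) := isArtinian_of_injective
      (Submodule.liftQ P (LinearMap.toSpanSingleton B (N ⧸ FlatLoc6.mN A B N) x) hker.le)
      (LinearMap.ker_eq_bot.1 (Submodule.ker_liftQ_eq_bot _ _ _ hker.ge))
    haveI : IsArtinianRing (B ⧸ P) := isArtinian_of_tower B inferInstance
    have hmax : P.IsMaximal := Ideal.Quotient.maximal_of_isField P (IsArtinianRing.isField_of_isDomain _)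
    refine Order.lt_one_iff.1 (not_le.1 fun h1 => Alg6.one_le_depth_iff.1 h1 ?_)
    rwa [← IsLocalRing.eq_maximalIdeal hmax]
  rw [FlatLoc6.depth_tensor, FlatLoc6.depth_fibMod, h0, add_zero]

end Groth.Agent.S4694
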