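import Groth.Statements.S4695
import Groth.Agent.FlatLoc6.BaseChangeHom

set_option autoImplicit false
universe u
open EGA4

namespace Groth.Agent.S4695

open TensorProduct in
/-- Case of regular morphisms, affine form: let A → B be a homomorphism of Noetherian rings and A' a
Noetherian A-algebra, and assume that B or A' is of finite type over A. If A → B is regular then the
base change A' → A' ⊗_A B is regular; the converse holds when A' is faithfully flat over A. -/
theorem result (A B A' : Type u) [CommRing A] [CommRing B] [CommRing A']
    [IsNoetherianRing A] [IsNoetherianRing B] [IsNoetherianRing A'] [Algebra A B] [Algebra A A']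
    (hft : Algebra.FiniteType A B ∨ Algebra.FiniteType A A') :
    (CAlg.IsRegularHom A B → CAlg.IsRegularHom A' (A' ⊗[A] B)) ∧
      (Module.FaithfullyFlat A A' → CAlg.IsRegularHom A' (A' ⊗[A] B) → CAlg.IsRegularHom A B) := by
    refine ⟨fun h => FlatLoc6.isRegularHom_baseChange A B A' hft h, fun hff h => ?_⟩
    haveI := hff
    haveI := h.1
    haveI : Module.Flat A B := Module.Flat.of_flat_tensorProduct (R := A) (M := B) A'
    refine ⟨inferInstance, fun p _ => ⟨FlatLoc6.isNoetherianRing_fiber p, fun k' _ _ hk => ?_⟩⟩
    exact FlatLoc6.permanence_regular.of_baseChange A B A' (fun p' _ L _ _ hL => (h.2 p').2 L hL) p k'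

end Groth.Agent.S4695
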