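import Groth.Statements.S4699
import Groth.Agent.DepthSum6.Main
import Groth.Agent.Alg6.LocLoc

set_option autoImplicit false
universe u
open EGA4

namespace Groth.Agent.S4699

/-- Let A be a Noetherian ring, M a finite A-module and I an ideal of A whose radical p is a prime ideal
lying in the support of M (so V(I) is an irreducible closed subset whose generic point is in Supp
M). Then there is an element f outside p such that, for every prime q containing I with f outside q,
the dimension of M_q is the dimension of M_p plus the dimension of (A/I)_q, and the depth of M_q is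
the depth of M_p plus the depth of (A/I)_q (the module (A/I)_q = A_q / I A_q being regarded over
A_q). -/
theorem result (A : Type u) [CommRing A] [IsNoetherianRing A]
    (M : Type u) [AddCommGroup M] [Module A M] [Module.Finite A M] (I : Ideal A) [I.radical.IsPrime]
    (hp : (⟨I.radical, inferInstance⟩ : PrimeSpectrum A) ∈ Module.support A M) :
    ∃ f : A, f ∉ I.radical ∧ ∀ (q : Ideal A) [q.IsPrime], I ≤ q → f ∉ q →
      Module.supportDim (Localization.AtPrime q) (LocalizedModule q.primeCompl M) =
          Module.supportDim (Localization.AtPrime I.radical) (LocalizedModule I.radical.primeCompl M) +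
            Module.supportDim (Localization.AtPrime q)
              (Localization.AtPrime q ⧸ I.map (algebraMap A (Localization.AtPrime q))) ∧
        LocCoh.depth (Localization.AtPrime q) (LocalizedModule q.primeCompl M) =
          LocCoh.depth (Localization.AtPrime I.radical) (LocalizedModule I.radical.primeCompl M) +
            LocCoh.depth (Localization.AtPrime q)
              (Localization.AtPrime q ⧸ I.map (algebraMap A (Localization.AtPrime q))) := by
    classical
    have hIp : I ≤ I.radical := Ideal.le_radical
    have hpA : (⟨I.radical, inferInstance⟩ : PrimeSpectrum A) ∈ Module.support A (A ⧸ I) := by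
      rw [Module.support_eq_zeroLocus, Ideal.annihilator_quotient]
      exact hIp
    obtain ⟨f₁, hf₁, h₁⟩ := DepthSum6.exists_depth_eq M I.radical hp
    obtain ⟨f₂, hf₂, h₂⟩ := DepthSum6.exists_depth_eq (A ⧸ I) I.radical hpA
    obtain ⟨f₃, hf₃, h₃⟩ := DepthSum6.exists_nf A I.radical M
    have h0 : LocCoh.depth (Localization.AtPrime I.radical) (LocalizedModule I.radical.primeCompl (A ⧸ I)) = 0 := by
      refine (SkSeq.depth_eq_zero_of_ass (A ⧸ I) I.radical).2
        (Module.associatedPrimes.minimalPrimes_annihilator_subset_associatedPrimes A (A ⧸ I) ?_)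
      rw [Ideal.annihilator_quotient]
      exact ⟨⟨inferInstance, hIp⟩, fun J hJ _ => hJ.1.radical_le_iff.2 hJ.2⟩
    refine ⟨f₁ * f₂ * f₃, fun h => ?_, fun q _ hIq hfq => ?_⟩
    · rcases Ideal.IsPrime.mem_or_mem inferInstance h with h | h
      · exact (Ideal.IsPrime.mem_or_mem inferInstance h).elim hf₁ hf₂
      · exact hf₃ h
    have hf₁q : f₁ ∉ q := fun h => hfq (Ideal.mul_mem_right _ _ (Ideal.mul_mem_right _ _ h))
    have hf₂q : f₂ ∉ q := fun h => hfq (Ideal.mul_mem_right _ _ (Ideal.mul_mem_left _ _ h))
    have hf₃q : f₃ ∉ q := fun h => hfq (Ideal.mul_mem_left _ _ h)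
    have hpq : I.radical ≤ q := (Ideal.IsPrime.radical_le_iff inferInstance).2 hIq
    let R := Localization.AtPrime q
    haveI : IsNoetherianRing R := IsLocalization.isNoetherianRing q.primeCompl _ ‹_›
    let P := I.radical.map (algebraMap A R)
    obtain ⟨e⟩ := DepthSum6.exists_localized_quotient I q
    have hdisj : Disjoint (q.primeCompl : Set A) (I.radical : Set A) :=
      Set.disjoint_left.2 fun a ha hap => ha (hpq hap)
    haveI hPp : P.IsPrime := IsLocalization.isPrime_of_isPrime_disjoint q.primeCompl R I.radical inferInstance hdisj
    have hcomap : P.comap (algebraMap A R) = I.radical :=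
      IsLocalization.under_map_of_isPrime_disjoint q.primeCompl R inferInstance hdisj
    constructor
    · haveI : Nontrivial (LocalizedModule q.primeCompl M) := by
        show (⟨q, inferInstance⟩ : PrimeSpectrum A) ∈ Module.support A M
        exact Module.mem_support_mono (show (⟨I.radical, inferInstance⟩ : PrimeSpectrum A) ≤ ⟨q, inferInstance⟩ from hpq) hp
      haveI : Module.Finite R (LocalizedModule q.primeCompl M) :=
        Module.Finite.of_isLocalizedModule q.primeCompl (LocalizedModule.mkLinearMap q.primeCompl M)
      have h4 := NFDim6.supportDim_eq (h₃ q.primeCompl (IsLocalization.map_units R (⟨f₃, hf₃q⟩ : q.primeCompl))) P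
        ⟨⟨hPp, le_rfl⟩, fun J hJ _ => hJ.2⟩
      have hquot : Module.supportDim R (R ⧸ I.map (algebraMap A R)) = ringKrullDim (R ⧸ P) := by
        rw [Module.supportDim, Module.support_eq_zeroLocus, Ideal.annihilator_quotient, ringKrullDim_quotient]
        have hz : PrimeSpectrum.zeroLocus (I.map (algebraMap A R) : Set R) = PrimeSpectrum.zeroLocus (P : Set R) := by
          ext Q
          simp only [PrimeSpectrum.mem_zeroLocus, SetLike.coe_subset_coe, P, Ideal.map_le_iff_le_comap]
          exact ⟨fun h => (Ideal.IsPrime.radical_le_iff inferInstance).2 h, fun h => hIp.trans h⟩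
        rw [hz]
      have hloc : ∀ (p' : Ideal A) [p'.IsPrime], p' = I.radical →
          Module.supportDim (Localization.AtPrime p') (LocalizedModule p'.primeCompl M) =
            Module.supportDim (Localization.AtPrime I.radical) (LocalizedModule I.radical.primeCompl M) := fun p' _ h => by
        subst h; rfl
      rw [h4, hquot, Alg6.supportDim_locLoc, hloc _ hcomap, add_comm]
    · have e2 := h₂ q hpq hf₂q
      rw [h0, zero_add, Hensel.depth_congr e] at e2
      rw [e2]
      exact h₁ q hpq hf₁q

end Groth.Agent.S4699
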