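import Groth.Statements.S4701
import Groth.Agent.RegLoc6.Open

set_option autoImplicit false
universe u
open EGA4

namespace Groth.Agent.S4701

/-- Let A be a Noetherian ring. The regular locus of every quotient ring A/I is open in its spectrum if
and only if, for every prime ideal p, the regular locus of the domain A/p contains a nonempty open
subset of Spec(A/p). (The published statement quantifies over all subschemes of Spec A; open
subschemes of the closed ones add nothing, so closed subschemes are used here.) -/
theorem result (A : Type u) [CommRing A] [IsNoetherianRing A] :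
    (∀ I : Ideal A, IsOpen (EGA4.regLocus (A ⧸ I))) ↔
      ∀ (p : Ideal A) [p.IsPrime],
        ∃ U : Set (PrimeSpectrum (A ⧸ p)), IsOpen U ∧ U.Nonempty ∧ U ⊆ EGA4.regLocus (A ⧸ p) := by
  constructor
  · intro h p _
    haveI : IsDomain (A ⧸ p) := Ideal.Quotient.isDomain p
    refine ⟨_, h p, ⟨⟨⊥, Ideal.bot_prime⟩, ?_⟩, subset_rfl⟩
    show IsRegularLocalRing (Localization.AtPrime (⊥ : Ideal (A ⧸ p)))
    apply Groth.Agent.RegLoc6.isRegularLocalRing_of_isField
    rw [IsLocalRing.isField_iff_maximalIdeal_eq, ← Localization.AtPrime.map_eq_maximalIdeal,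
      Ideal.map_bot]
  · intro h I
    refine Groth.Agent.RegLoc6.isOpen_regular_of_forall_quotient fun P _ => ?_
    obtain ⟨U, hUo, hUn, hU⟩ := h (P.asIdeal.comap (Ideal.Quotient.mk I))
    let e : A ⧸ P.asIdeal.comap (Ideal.Quotient.mk I) ≃+* (A ⧸ I) ⧸ P.asIdeal :=
      RingEquiv.ofBijective (Ideal.quotientMap P.asIdeal (Ideal.Quotient.mk I) le_rfl)
        ⟨Ideal.quotientMap_injective' le_rfl,
          Ideal.quotientMap_surjective Ideal.Quotient.mk_surjective⟩
    refine ⟨PrimeSpectrum.comap e.toRingHom ⁻¹' U, hUo.preimage (PrimeSpectrum.continuous_comap _),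
      ?_, fun w hw => ?_⟩
    · obtain ⟨u, hu⟩ := hUn
      refine ⟨PrimeSpectrum.comap e.symm.toRingHom u, ?_⟩
      rw [Set.mem_preimage]
      convert hu
      ext a
      simp
    · haveI : IsRegularLocalRing (Localization.AtPrime (w.asIdeal.comap e)) := hU hw
      exact IsRegularLocalRing.of_ringEquiv (IsLocalization.ringEquivOfRingEquiv
        (Localization.AtPrime (w.asIdeal.comap e))
        (Localization.AtPrime w.asIdeal) e (e.map_primeCompl_comap_eq w.asIdeal))

end Groth.Agent.S4701
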