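import Groth.Statements.S4702
import Groth.Agent.DimTot.Basic

set_option autoImplicit false
universe u
open EGA4

namespace Groth.Agent.S4702

open AlgebraicGeometry CategoryTheory in
/-- Let Y be an irreducible locally Noetherian scheme of dimension 1, X an irreducible scheme and f : X
→ Y a dominant morphism of finite type. Then for every point y in the image of f, every irreducible
component of the fibre of f at y has dimension equal to the dimension of the generic fibre. -/
theorem result {X Y : Scheme.{u}} (f : X ⟶ Y) [IsLocallyNoetherian Y]
    [IrreducibleSpace Y] [IrreducibleSpace X] (hY : topologicalKrullDim Y = 1) [LocallyOfFiniteType f]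
    [QuasiCompact f] (hf : DenseRange f.base) (y : Y) (hy : y ∈ Set.range f.base)
    (Z : Set ↥(f.fiber y)) (hZ : Z ∈ irreducibleComponents ↥(f.fiber y)) :
    topologicalKrullDim Z = topologicalKrullDim ↥(f.fiber (genericPoint Y)) := by
    haveI : IsDominant f := ⟨hf⟩
    haveI := LocallyOfFiniteType.isLocallyNoetherian f
    have hmem : topologicalKrullDim ↥Z ∈ (fun Z : Set ↥(f.fiber y) => topologicalKrullDim ↥Z) ''
        irreducibleComponents ↥(f.fiber y) := ⟨Z, hZ, rfl⟩
    rw [FibDim.fiber_component_dims f y] at hmem
    obtain ⟨z, ⟨hz, hmax⟩, hdim⟩ := hmem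
    rw [← hdim, (DimFormula.generic_fibre_dim f).2]
    have hη : genericPoint X ⤳ z := (genericPoint_spec X).specializes (Set.mem_univ z)
    have h1 : FibDim.rd f (genericPoint X) ≤ FibDim.rd f z := by
      have := DimFormula.rd_le_of_specializes' f hη
      rw [(DimFormula.fb_eq_zero_iff f z).2 hmax] at this
      exact this
    have h2 : FibDim.rd f z ≤ FibDim.rd f (genericPoint X) := by
      by_cases he : z = genericPoint X
      · rw [he]
      · have h3 := (DimTot.codim_add_rd_le f hf z).1
        have h4 : DimFormula.codim z ≠ 0 := fun h0 =>
          he ((DimFormula.codim_eq_zero_iff.1 h0) _ hη).symm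
        have h5 : DimFormula.codim (f z) ≤ 1 := by
          have h6 : (DimFormula.codim (f z) : WithBot ℕ∞) ≤ topologicalKrullDim ↥Y := by
            rw [FibDim.topologicalKrullDim_eq_iSup_codim]
            exact le_iSup_of_le (f z) le_rfl
          rw [hY] at h6
          exact_mod_cast h6
        omega
    simp only [le_antisymm h2 h1]

end Groth.Agent.S4702
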