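import Groth.Statements.S4703
import Groth.Agent.FlatLoc6.DomainModel

set_option autoImplicit false
universe u
open EGA4

namespace Groth.Agent.S4703

open TensorProduct in
/-- For the property 'geometrically regular', case of a local ring: let A be a Noetherian local ring
with completion Â. Then the formal fibres of A are geometrically regular (the completion map A → Â
is a regular homomorphism) if and only if, for every finite A-algebra B which is a domain and every
prime ideal q of B ⊗_A Â whose contraction to B is zero, the local ring of B ⊗_A Â at q is regular.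
(The published statement is for semi-local rings; this row takes A local.) -/
theorem result (A : Type u) [CommRing A] [IsNoetherianRing A] [IsLocalRing A] :
    CAlg.IsRegularHom A (EGA4.Cpl A) ↔
      ∀ (B : Type u) [CommRing B] [IsDomain B] [Algebra A B] [Module.Finite A B]
        (q : Ideal (B ⊗[A] EGA4.Cpl A)) [q.IsPrime],
        q.comap (algebraMap B (B ⊗[A] EGA4.Cpl A)) = ⊥ → IsRegularLocalRing (Localization.AtPrime q) := by
    haveI := FlatLoc6.faithfullyFlat_cpl A
    haveI := FlatLoc6.isNoetherianRing_cpl A
    constructor
    · intro h B _ _ _ _ q _ hq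
      obtain ⟨p, _, _, _, _⟩ := FlatLoc6.exists_residue_setup (A := A) B
      obtain ⟨T, _, _, hT, ⟨e⟩⟩ := FlatLoc6.exists_genericFibre (A := A) B (EGA4.Cpl A) (FractionRing B)
      haveI := FlatLoc6.regular_tensor_of_geometricallyRegular (h.2 p).2 (FractionRing B)
      haveI : IsRegularRing T := IsRegularRing.of_ringEquiv
        ((Algebra.TensorProduct.cancelBaseChange A p.ResidueField (FractionRing B) (FractionRing B) (EGA4.Cpl A)).toRingEquiv.trans e.symm)
      have hd := FlatLoc6.disjoint_of_comap_eq_bot q hq
      haveI := IsLocalization.isPrime_of_isPrime_disjoint _ T q ‹_› hd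
      have hreg := (RegLoc6.regular_iff_localization (Algebra.algebraMapSubmonoid (B ⊗[A] EGA4.Cpl A) (nonZeroDivisors B))
        T (q.map (algebraMap _ T))).mp (IsRegularRing.isRegularLocalRing_localization _)
      have key : ∀ (r : Ideal (B ⊗[A] EGA4.Cpl A)) [r.IsPrime], r = q →
          IsRegularLocalRing (Localization.AtPrime r) → IsRegularLocalRing (Localization.AtPrime q) := by
        intro r _ hr hh; subst hr; exact hh
      exact key _ (IsLocalization.under_map_of_isPrime_disjoint _ T ‹_› hd) hreg
    · intro h
      refine ⟨inferInstance, fun p _ => ⟨FlatLoc6.isNoetherianRing_fiber p, fun L _ _ hL => ?_⟩⟩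
      haveI := hL
      letI : Algebra A L := ((algebraMap p.ResidueField L).comp (algebraMap A p.ResidueField)).toAlgebra
      haveI : IsScalarTower A p.ResidueField L := IsScalarTower.of_algebraMap_eq' rfl
      obtain ⟨B, hfin, hfrac⟩ := FlatLoc6.exists_domainModel p L
      haveI := hfin
      haveI := hfrac
      obtain ⟨T, _, _, hT, ⟨e⟩⟩ := FlatLoc6.exists_genericFibre (A := A) B (EGA4.Cpl A) L
      haveI := FlatLoc6.isNoetherianRing_fiber (B := EGA4.Cpl A) p
      haveI := FlatLoc6.isNoetherianRing_tensor_finite p.ResidueField L (p.Fiber (EGA4.Cpl A))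
      let e' := e.trans (Algebra.TensorProduct.cancelBaseChange A p.ResidueField L L (EGA4.Cpl A)).symm.toRingEquiv
      haveI : IsNoetherianRing T := isNoetherianRing_of_ringEquiv _ e'.symm
      haveI : IsRegularRing T := by
        rw [isRegularRing_iff]
        intro Q _
        exact (RegLoc6.regular_iff_localization (Algebra.algebraMapSubmonoid (B ⊗[A] EGA4.Cpl A) (nonZeroDivisors B))
          T Q).mpr (h B _ (FlatLoc6.comap_eq_bot_of_isLocalization Q))
      exact IsRegularRing.of_ringEquiv (R := T) e'

end Groth.Agent.S4703
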