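import Groth.Statements.S4705
import Groth.Agent.FlatLoc6.GeomComp

set_option autoImplicit false
universe u
open EGA4

namespace Groth.Agent.S4705

/-- Let A → A' be a flat local homomorphism of Noetherian local rings all of whose fibre rings k(p) ⊗_A
A' are geometrically reduced over k(p). If the completion map of A' is regular (the formal fibres of
A' are geometrically regular), then the formal fibres of A are geometrically reduced. -/
theorem result (A A' : Type u) [CommRing A] [CommRing A']
    [IsNoetherianRing A] [IsNoetherianRing A'] [IsLocalRing A] [IsLocalRing A'] [Algebra A A']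
    [IsLocalHom (algebraMap A A')] [Module.Flat A A']
    (hf : ∀ (p : Ideal A) [p.IsPrime], Algebra.IsGeometricallyReduced p.ResidueField (p.Fiber A'))
    (hA' : CAlg.IsRegularHom A' (EGA4.Cpl A')) : EGA4.HasGeomReducedFormalFibres A := by
    haveI := FlatLoc6.isNoetherianRing_cpl A
    haveI := FlatLoc6.isNoetherianRing_cpl A'
    haveI := FlatLoc6.faithfullyFlat_cpl A'
    obtain ⟨_, _, _⟩ := FlatLoc6.exists_cplHom A A'
    intro p _
    exact FlatLoc6.geomReduced_fibres_cancel A (EGA4.Cpl A) (EGA4.Cpl A')
      (fun p _ => FlatLoc6.geomReduced_fibres_comp A A' (EGA4.Cpl A') hf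
        (fun q _ => FlatLoc6.geomReduced_of_geometricallyRegular (hA'.2 q).2) p) p

end Groth.Agent.S4705
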