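import Groth.Statements.S4709
import Groth.Agent.CompleteNagata.Global
import Groth.Agent.S0567

set_option autoImplicit false
universe u
open EGA4

namespace Groth.Agent.S4709

/-- Let A be a Noetherian ring such that (i) for every maximal ideal m the formal fibres of A_m are
geometrically reduced, and (ii) the regular locus of every A-algebra of finite type is open (A is
J-2). Then A is universally Japanese. -/
theorem result (A : Type u) [CommRing A] [IsNoetherianRing A]
    (h1 : ∀ (m : Ideal A) [m.IsMaximal], EGA4.HasGeomReducedFormalFibres (Localization.AtPrime m))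
    (h2 : EGA4.IsJ2 A) : CAlg.IsUniversallyJapanese A := by
  refine ((Groth.Agent.S0567.result A).1 ?_).2
  refine CompleteNagata.isNagata_of_local_of_generic A (fun m _ => ?_) fun p _ K' _ _ _ _ _ _ B' hB' _ => ?_
  · haveI : IsNoetherianRing (Localization.AtPrime m) := IsLocalization.isNoetherianRing m.primeCompl _ inferInstance
    exact S2657.result _ (h1 m)
  · haveI : Algebra.FiniteType (A ⧸ p) B' := Module.Finite.finiteType _
    letI : Algebra A B' := ((algebraMap (A ⧸ p) B').comp (Ideal.Quotient.mk p)).toAlgebra
    haveI : IsScalarTower A (A ⧸ p) B' := IsScalarTower.of_algebraMap_eq' rfl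
    haveI : Algebra.FiniteType A B' :=
      Algebra.FiniteType.trans (S := A ⧸ p) inferInstance inferInstance
    exact CompleteNagata.exists_normal_away_of_isOpen B' (h2 B' inferInstance)

end Groth.Agent.S4709
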