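import Groth.Statements.S4712
import Groth.Agent.Goldman.Scheme
import Groth.Agent.DimFormula.Jacobson
import Groth.Agent.FtPts6.Basic

set_option autoImplicit false
universe u
open EGA4

namespace Groth.Agent.S4712

open AlgebraicGeometry in
/-- Let X be a locally Noetherian scheme and x a point such that {x} is locally closed in X. Then the
closure of {x} has dimension at most 1, and every point of that closure other than x is a closed
point of X. -/
theorem result (X : Scheme.{u}) [IsLocallyNoetherian X] (x : X)
    (hx : IsLocallyClosed ({x} : Set X)) :
    topologicalKrullDim (closure ({x} : Set X)) ≤ 1 ∧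
      ∀ y ∈ closure ({x} : Set X), y ≠ x → IsClosed ({y} : Set X) := by
    refine ⟨?_, fun y hy hne => Goldman.isClosed_of_specializes hx (specializes_iff_mem_closure.2 hy) hne⟩
    haveI : QuasiSober ↥(closure ({x} : Set X)) := isClosed_closure.isClosedEmbedding_subtypeVal.quasiSober
    rw [DimFormula.topologicalKrullDim_subset, Order.krullDim_le_one_iff]
    intro c
    by_cases hc : c.1 = x
    · refine .inr fun b _ => ?_
      show c.1 ⤳ b.1
      rw [hc]
      exact specializes_iff_mem_closure.2 b.2
    · refine .inl fun b hb => ?_
      have h1 := Goldman.isClosed_of_specializes hx (specializes_iff_mem_closure.2 c.2) hc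
      have h2 : b.1 = c.1 := (show c.1 ⤳ b.1 from hb).mem_closed h1 rfl
      show b.1 ⤳ c.1
      rw [h2]

end Groth.Agent.S4712
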