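import Groth.Statements.S4714
import Groth.Agent.DimTot.ZeroLocus

set_option autoImplicit false
universe u
open EGA4

namespace Groth.Agent.S4714

open AlgebraicGeometry CategoryTheory in
/-- For a section of the structure sheaf: let X be a scheme locally of finite type over a field k and f
a global section of O_X whose zero locus Y is nowhere dense in X. Then dim Y + 1 ≤ dim X. If
moreover some irreducible component of X has dimension equal to dim X and Y meets every such
component, then dim Y + 1 = dim X. (The published statement is for a section of an invertible sheaf;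
the existence of a component of maximal dimension, implicit in the published wording, is made a
hypothesis of the equality clause.) -/
theorem result (k : Type u) [Field k] (X : Scheme.{u}) (p : X ⟶ Spec (CommRingCat.of k))
    [LocallyOfFiniteType p] (f : Γ(X, ⊤)) (hY : interior (X.zeroLocus (U := ⊤) {f}) = ∅) :
    topologicalKrullDim (X.zeroLocus (U := ⊤) {f}) + 1 ≤ topologicalKrullDim X ∧
      ((∃ Z ∈ irreducibleComponents (X : Type u), topologicalKrullDim Z = topologicalKrullDim X) →
        (∀ Z ∈ irreducibleComponents (X : Type u), topologicalKrullDim Z = topologicalKrullDim X →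
          (Z ∩ X.zeroLocus (U := ⊤) {f}).Nonempty) →
        topologicalKrullDim (X.zeroLocus (U := ⊤) {f}) + 1 = topologicalKrullDim X) := by
    haveI : IsLocallyNoetherian X := LocallyOfFiniteType.isLocallyNoetherian p
    haveI : JacobsonSpace X := LocallyOfFiniteType.jacobsonSpace p
    have h := (DimFormula.dimGood_of_locallyOfFiniteType p (DimTot.dimGood_spec_field k)
      (DimFormula.isUniversallyCatenary_stalk_field k)).1
    refine ⟨DimTot.dim_zeroLocus_le h f hY, fun ⟨Z, hZ, hdim⟩ hmeet => ?_⟩
    refine le_antisymm (DimTot.dim_zeroLocus_le h f hY) ?_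
    obtain ⟨η, rfl, hmax⟩ := FDescent.exists_maximal_of_mem_irreducibleComponents hZ
    obtain ⟨z, hzη, hz⟩ := hmeet _ hZ hdim
    have hd : Dense ((X.zeroLocus (U := ⊤) {f})ᶜ) := interior_eq_empty_iff_dense_compl.1 hY
    have hc : IsClosed (X.zeroLocus (U := ⊤) {f}) := X.zeroLocus_isClosed _
    have hη := DimFormula.dense_mem_maximal hc.isOpen_compl hd hmax
    obtain ⟨ξ, hξ, he⟩ := DimTot.dd_le_zeroLocus_add_one h f (specializes_iff_mem_closure.2 hzη) hη hz
    rw [← hdim, h.dim_closure, he, h.topologicalKrullDim_eq hc]
    push_cast
    exact add_le_add (le_iSup (fun z : ↥(X.zeroLocus (U := ⊤) {f}) => ((DimFormula.dd z.1 : ℕ∞) : WithBot ℕ∞)) ⟨ξ, hξ⟩) le_rfl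

end Groth.Agent.S4714
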