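import Groth.Statements.S4715
import Groth.Agent.DimFormula.Jacobson

set_option autoImplicit false
universe u
open EGA4

namespace Groth.Agent.S4715

open AlgebraicGeometry CategoryTheory in
/-- Let f : X → Y be a quasi-finite morphism (of finite type with discrete fibres) of locally Noetherian
schemes. Then dim X is at most the dimension of the closure of f(X), which is at most dim Y. -/
theorem result {X Y : Scheme.{u}} (f : X ⟶ Y) [IsLocallyNoetherian X] [IsLocallyNoetherian Y]
    [LocallyQuasiFinite f] [LocallyOfFiniteType f] [QuasiCompact f] :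
    topologicalKrullDim X ≤ topologicalKrullDim (closure (Set.range f.base)) ∧
      topologicalKrullDim (closure (Set.range f.base)) ≤ topologicalKrullDim Y := by
    haveI : QuasiSober ↥(closure (Set.range f.base)) := isClosed_closure.isClosedEmbedding_subtypeVal.quasiSober
    refine ⟨?_, Topology.IsEmbedding.subtypeVal.isInducing.topologicalKrullDim_le⟩
    haveI : QuasiSober ↥(Set.univ : Set X) := isClosed_univ.isClosedEmbedding_subtypeVal.quasiSober
    rw [(Homeomorph.Set.univ X).symm.isHomeomorph.topologicalKrullDim_eq, DimFormula.topologicalKrullDim_subset,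
      DimFormula.topologicalKrullDim_subset]
    refine Order.krullDim_le_of_strictMono
      (fun x : ↥(Set.univ : Set X) => (⟨f x.1, subset_closure ⟨x.1, rfl⟩⟩ : ↥(closure (Set.range f.base)))) ?_
    intro a b hab
    obtain ⟨hle, hnge⟩ := lt_iff_le_not_ge.1 hab
    have hba : b.1 ⤳ a.1 := hle
    refine lt_iff_le_not_ge.2 ⟨hba.map f.continuous, fun hge => hnge ?_⟩
    have heq : f b.1 = f a.1 := DimFormula.eq_of_specializes_of_specializes (hba.map f.continuous) hge
    obtain ⟨wa, hwa⟩ : a.1 ∈ Set.range (f.fiberι (f a.1)) := by rw [Scheme.Hom.range_fiberι]; rfl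
    obtain ⟨wb, hwb⟩ : b.1 ∈ Set.range (f.fiberι (f a.1)) := by rw [Scheme.Hom.range_fiberι]; exact heq
    rw [← hwa, ← hwb] at hba
    have hc : wb ⤳ wa := (f.fiberι (f a.1)).isEmbedding.isInducing.specializes_iff.1 hba
    haveI : DiscreteTopology ↥(f.fiber (f a.1)) := inferInstance
    rw [specializes_iff_eq] at hc
    show a.1 ⤳ b.1
    rw [← hwa, ← hwb, hc]

end Groth.Agent.S4715
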