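import Groth.Statements.S4718
import Groth.Agent.S2669
import Groth.Agent.FlatLoc6.Sk
import Groth.Agent.LC.ExtDim

set_option autoImplicit false
universe u
open EGA4

namespace Groth.Agent.S4718

/-- Let A be a Noetherian local ring, B a Noetherian ring, A → B a ring homomorphism and M a nonzero
B-module which is finite as an A-module. Then M is a Cohen–Macaulay A-module if and only if, for all
primes q of B lying over the maximal ideal of A and belonging to the support of M, the B_q-module
M_q is Cohen–Macaulay and all these modules M_q have the same dimension. -/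
theorem result (A B : Type u) [CommRing A] [CommRing B]
    [IsNoetherianRing A] [IsLocalRing A] [IsNoetherianRing B] [Algebra A B]
    (M : Type u) [AddCommGroup M] [Module B M] [Module A M] [IsScalarTower A B M] [Module.Finite A M]
    [Nontrivial M] :
    LocCoh.IsCohenMacaulayModule A M ↔
      (∀ q ∈ {q : PrimeSpectrum B | q.asIdeal.comap (algebraMap A B) = IsLocalRing.maximalIdeal A ∧
          q ∈ Module.support B M},
        LocCoh.IsCohenMacaulayModule (Localization.AtPrime q.asIdeal) (LocalizedModule q.asIdeal.primeCompl M)) ∧
      (∀ q ∈ {q : PrimeSpectrum B | q.asIdeal.comap (algebraMap A B) = IsLocalRing.maximalIdeal A ∧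
          q ∈ Module.support B M},
        ∀ q' ∈ {q : PrimeSpectrum B | q.asIdeal.comap (algebraMap A B) = IsLocalRing.maximalIdeal A ∧
          q ∈ Module.support B M},
          Module.supportDim (Localization.AtPrime q.asIdeal) (LocalizedModule q.asIdeal.primeCompl M) =
            Module.supportDim (Localization.AtPrime q'.asIdeal) (LocalizedModule q'.asIdeal.primeCompl M)) := by
  obtain ⟨hD, hd⟩ := Groth.Agent.S2669.result A B M (IsLocalRing.maximalIdeal A)
  rw [FlatLoc6.supportDim_loc_maximal] at hD
  rw [FlatLoc6.depth_loc_maximal] at hd
  haveI : Module.Finite B M := Module.Finite.of_restrictScalars_finite A B M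
  have hle : ∀ q : PrimeSpectrum B, q ∈ Module.support B M →
      ((LocCoh.depth (Localization.AtPrime q.asIdeal) (LocalizedModule q.asIdeal.primeCompl M) : ℕ∞) : WithBot ℕ∞) ≤
        Module.supportDim (Localization.AtPrime q.asIdeal) (LocalizedModule q.asIdeal.primeCompl M) := fun q hq => by
    haveI : IsNoetherianRing (Localization.AtPrime q.asIdeal) :=
      IsLocalization.isNoetherianRing q.asIdeal.primeCompl _ inferInstance
    haveI : Module.Finite (Localization.AtPrime q.asIdeal) (LocalizedModule q.asIdeal.primeCompl M) :=
      Module.Finite.of_isLocalizedModule q.asIdeal.primeCompl (LocalizedModule.mkLinearMap _ M)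
    haveI : Nontrivial (LocalizedModule q.asIdeal.primeCompl M) := Module.mem_support_iff.1 hq
    exact LC.depth_le_supportDim (R := Localization.AtPrime q.asIdeal) _
  constructor
  · intro hCM
    have key : ∀ q ∈ {q : PrimeSpectrum B | q.asIdeal.comap (algebraMap A B) = IsLocalRing.maximalIdeal A ∧
        q ∈ Module.support B M},
        Module.supportDim (Localization.AtPrime q.asIdeal) (LocalizedModule q.asIdeal.primeCompl M) =
          Module.supportDim A M ∧
        LocCoh.IsCohenMacaulayModule (Localization.AtPrime q.asIdeal) (LocalizedModule q.asIdeal.primeCompl M) := by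
      intro q hq
      have h1 : Module.supportDim (Localization.AtPrime q.asIdeal) (LocalizedModule q.asIdeal.primeCompl M) ≤
          Module.supportDim A M := by rw [hD]; exact le_iSup₂_of_le q hq le_rfl
      have h2 : LocCoh.depth A M ≤
          LocCoh.depth (Localization.AtPrime q.asIdeal) (LocalizedModule q.asIdeal.primeCompl M) := by
        rw [hd]; exact iInf₂_le_of_le q hq le_rfl
      have h3 := hle q hq.2
      refine ⟨le_antisymm h1 ?_, le_antisymm ?_ h3⟩
      · rw [show Module.supportDim A M = _ from hCM]
        exact (WithBot.coe_le_coe.2 h2).trans h3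
      · exact h1.trans ((show Module.supportDim A M = _ from hCM).le.trans (WithBot.coe_le_coe.2 h2))
    exact ⟨fun q hq => (key q hq).2, fun q hq q' hq' => (key q hq).1.trans (key q' hq').1.symm⟩
  · rintro ⟨hcm, heq⟩
    unfold LocCoh.IsCohenMacaulayModule
    obtain ⟨q₀, hq₀⟩ : {q : PrimeSpectrum B | q.asIdeal.comap (algebraMap A B) = IsLocalRing.maximalIdeal A ∧
        q ∈ Module.support B M}.Nonempty := by
      rw [Set.nonempty_iff_ne_empty]
      intro he
      rw [he] at hD
      simp only [Set.mem_empty_iff_false, iSup_false, iSup_bot] at hD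
      exact (Module.supportDim_ne_bot_iff_nontrivial A M).2 inferInstance hD
    have e0 := hcm q₀ hq₀
    unfold LocCoh.IsCohenMacaulayModule at e0
    have hD' : Module.supportDim A M =
        Module.supportDim (Localization.AtPrime q₀.asIdeal) (LocalizedModule q₀.asIdeal.primeCompl M) := by
      rw [hD]
      exact le_antisymm (iSup₂_le fun q hq => (heq q hq q₀ hq₀).le) (le_iSup₂_of_le q₀ hq₀ le_rfl)
    have hd' : LocCoh.depth A M =
        LocCoh.depth (Localization.AtPrime q₀.asIdeal) (LocalizedModule q₀.asIdeal.primeCompl M) := by
      rw [hd]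
      refine le_antisymm (iInf₂_le_of_le q₀ hq₀ le_rfl) (le_iInf₂ fun q hq => ?_)
      have := heq q₀ hq₀ q hq
      rw [e0, show Module.supportDim _ _ = _ from hcm q hq] at this
      exact (WithBot.coe_injective this).le
    rw [hD', hd', e0]

end Groth.Agent.S4718
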