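import Groth.Statements.S4719
import Groth.Agent.S2669

set_option autoImplicit false
universe u
open EGA4

namespace Groth.Agent.S4719

/-- Let A → B be a homomorphism of Noetherian rings and M a B-module which is finite as an A-module. (i)
If M satisfies (S_k) as an A-module, it satisfies (S_k) as a B-module. (ii) If for every two primes
q, q' of B in the support of M having the same contraction to A the modules M_q and M_{q'} have the
same dimension, then (S_k) for M as a B-module implies (S_k) for M as an A-module. (The published
statement asks the equal-dimension condition for all pairs of primes of B with the same contraction;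
this row asks it only for primes in the support of M, which is all its proof uses.) -/
theorem result (k : ℕ) (A B : Type u) [CommRing A] [CommRing B] [IsNoetherianRing A]
    [IsNoetherianRing B] [Algebra A B] (M : Type u) [AddCommGroup M] [Module B M] [Module A M]
    [IsScalarTower A B M] [Module.Finite A M] :
    (LocCoh.HasSk k A M → LocCoh.HasSk k B M) ∧
      ((∀ q ∈ Module.support B M, ∀ q' ∈ Module.support B M,
          q.asIdeal.comap (algebraMap A B) = q'.asIdeal.comap (algebraMap A B) →
            Module.supportDim (Localization.AtPrime q.asIdeal) (LocalizedModule q.asIdeal.primeCompl M) =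
              Module.supportDim (Localization.AtPrime q'.asIdeal) (LocalizedModule q'.asIdeal.primeCompl M)) →
        LocCoh.HasSk k B M → LocCoh.HasSk k A M) := by
  refine ⟨fun h q hq => ?_, fun heq h p hp => ?_⟩
  · by_cases hs : (⟨q, hq⟩ : PrimeSpectrum B) ∈ Module.support B M
    swap
    · haveI : Subsingleton (LocalizedModule q.primeCompl M) :=
        Module.notMem_support_iff (p := ⟨q, hq⟩) |>.1 hs
      rw [Module.supportDim_eq_bot_of_subsingleton, min_bot_right]
      exact bot_le
    obtain ⟨hD, hd⟩ := Groth.Agent.S2669.result A B M (q.comap (algebraMap A B))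
    have hmem : (⟨q, hq⟩ : PrimeSpectrum B) ∈ {q' : PrimeSpectrum B |
        q'.asIdeal.comap (algebraMap A B) = q.comap (algebraMap A B) ∧ q' ∈ Module.support B M} := ⟨rfl, hs⟩
    refine le_trans (min_le_min_left _ ?_) ((h (q.comap (algebraMap A B))).trans (WithBot.coe_le_coe.2 ?_))
    · rw [hD]
      exact le_iSup₂_of_le (⟨q, hq⟩ : PrimeSpectrum B) hmem le_rfl
    · rw [hd]
      exact iInf₂_le_of_le (⟨q, hq⟩ : PrimeSpectrum B) hmem le_rfl
  · obtain ⟨hD, hd⟩ := Groth.Agent.S2669.result A B M p
    rcases Set.eq_empty_or_nonempty {q : PrimeSpectrum B |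
        q.asIdeal.comap (algebraMap A B) = p ∧ q ∈ Module.support B M} with he | ⟨q₀, hq₀⟩
    · rw [he] at hD
      simp only [Set.mem_empty_iff_false, iSup_false, iSup_bot] at hD
      rw [hD, min_bot_right]
      exact bot_le
    have hD' : Module.supportDim (Localization.AtPrime p) (LocalizedModule p.primeCompl M) =
        Module.supportDim (Localization.AtPrime q₀.asIdeal) (LocalizedModule q₀.asIdeal.primeCompl M) := by
      rw [hD]
      exact le_antisymm (iSup₂_le fun q hq => (heq q hq.2 q₀ hq₀.2 (hq.1.trans hq₀.1.symm)).le)
        (le_iSup₂_of_le q₀ hq₀ le_rfl)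
    induction e : min (k : WithBot ℕ∞) (Module.supportDim (Localization.AtPrime p) (LocalizedModule p.primeCompl M))
      with
    | bot => exact bot_le
    | coe m =>
      refine WithBot.coe_le_coe.2 ?_
      rw [hd]
      refine le_iInf₂ fun q hq => WithBot.coe_le_coe.1 ?_
      rw [← e, hD', ← heq q hq.2 q₀ hq₀.2 (hq.1.trans hq₀.1.symm)]
      exact h q.asIdeal

end Groth.Agent.S4719
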