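import Groth.Statements.S4721
import Groth.Agent.HartConn.Basic
import Mathlib.RingTheory.Spectrum.Prime.Topology
import Mathlib.RingTheory.Ideal.Height

set_option autoImplicit false
universe u
open EGA4

namespace Groth.Agent.S4721

variable {A : Type u} [CommRing A]

/-- Two minimal primes lying in a common prime of small height. -/
def Adj (d : ℕ) (p q : Ideal A) : Prop :=
  q ∈ minimalPrimes A ∧ ∃ (r : Ideal A) (_ : r.IsPrime), p ≤ r ∧ q ≤ r ∧ r.height + 1 ≤ (d : ℕ∞)

theorem exists_chain (d : ℕ) {p q : Ideal A} (hp : p ∈ minimalPrimes A)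
    (h : Relation.ReflTransGen (Adj d) p q) :
    ∃ (n : ℕ) (c : Fin (n + 1) → Ideal A), c 0 = p ∧ c (Fin.last n) = q ∧ (∀ i, c i ∈ minimalPrimes A) ∧
      ∀ i : Fin n, ∃ (r : Ideal A) (_ : r.IsPrime),
        c i.castSucc ≤ r ∧ c i.succ ≤ r ∧ r.height + 1 ≤ (d : ℕ∞) := by
  induction h with
  | refl => exact ⟨0, fun _ => p, rfl, rfl, fun _ => hp, fun i => i.elim0⟩
  | @tail b q hab hbq ih =>
    obtain ⟨n, c, h0, hl, hm, hc⟩ := ih
    refine ⟨n + 1, Fin.snoc c q, ?_, Fin.snoc_last _ _, fun i => ?_, fun i => ?_⟩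
    · rw [← Fin.castSucc_zero, Fin.snoc_castSucc, h0]
    · refine Fin.lastCases ?_ (fun j => ?_) i
      · rw [Fin.snoc_last]; exact hbq.1
      · rw [Fin.snoc_castSucc]; exact hm j
    · refine Fin.lastCases ?_ (fun j => ?_) i
      · obtain ⟨r, hr, h1, h2, h3⟩ := hbq.2
        refine ⟨r, hr, ?_, ?_, h3⟩
        · rw [Fin.snoc_castSucc, hl]; exact h1
        · rw [Fin.succ_last, Fin.snoc_last]; exact h2
      · obtain ⟨r, hr, h1, h2, h3⟩ := hc j
        refine ⟨r, hr, ?_, ?_, h3⟩
        · rw [Fin.snoc_castSucc]; exact h1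
        · rw [Fin.succ_castSucc, Fin.snoc_castSucc]; exact h2

end Groth.Agent.S4721

namespace Groth.Agent.S4721

open Groth.Agent


/-- Let A be a Noetherian ring whose spectrum is connected and d a natural number such that for every
prime p of height at least d the local ring A_p has depth at least 2. Then for any two distinct
minimal primes p', p'' of A there is a finite chain of minimal primes starting at p' and ending at
p'' such that any two consecutive members are both contained in a prime ideal of height at most d −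
1 (the spectrum is connected in codimension at most d − 1). -/
theorem result (A : Type u) [CommRing A] [IsNoetherianRing A]
    [ConnectedSpace (PrimeSpectrum A)] (d : ℕ)
    (h : ∀ (p : Ideal A) [p.IsPrime], (d : ℕ∞) ≤ p.height →
      (2 : ℕ∞) ≤ LocCoh.depth (Localization.AtPrime p) (Localization.AtPrime p))
    (p' p'' : Ideal A) (hp' : p' ∈ minimalPrimes A) (hp'' : p'' ∈ minimalPrimes A) (hne : p' ≠ p'') :
    ∃ (n : ℕ) (c : Fin (n + 1) → Ideal A), c 0 = p' ∧ c (Fin.last n) = p'' ∧ (∀ i, c i ∈ minimalPrimes A) ∧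
      ∀ i : Fin n, ∃ (q : Ideal A) (_ : q.IsPrime),
        c i.castSucc ≤ q ∧ c i.succ ≤ q ∧ q.height + 1 ≤ (d : ℕ∞) := by
  classical
  refine exists_chain d hp' ?_
  by_contra hne'
  set P1 := {q ∈ minimalPrimes A | Relation.ReflTransGen (Adj d) p' q}
  set P2 := minimalPrimes A \ P1
  obtain ⟨a, b, hcov, ha, hb, hkey⟩ := HartConn.exists_meet P1 P2
    (Set.union_sdiff_cancel fun q hq => hq.1) Set.disjoint_sdiff_right
  have hab : a ⊔ b ≠ ⊤ := by
    intro htop
    have hd : PrimeSpectrum.zeroLocus (a : Set A) ∩ PrimeSpectrum.zeroLocus (b : Set A) = ∅ := by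
      rw [← PrimeSpectrum.zeroLocus_sup, htop]
      exact PrimeSpectrum.zeroLocus_empty_iff_eq_top.2 rfl
    obtain ⟨x, -, hx1, hx2⟩ := isPreconnected_closed_iff.1
      (PreconnectedSpace.isPreconnected_univ (α := PrimeSpectrum A))
      _ _ (PrimeSpectrum.isClosed_zeroLocus (a : Set A)) (PrimeSpectrum.isClosed_zeroLocus (b : Set A))
      hcov.ge ⟨⟨p', hp'.1.1⟩, trivial, ha p' ⟨hp', Relation.ReflTransGen.refl⟩⟩
      ⟨⟨p'', hp''.1.1⟩, trivial, hb p'' ⟨hp'', fun h => hne' h.2⟩⟩
    exact (Set.eq_empty_iff_forall_notMem.1 hd x) ⟨hx1, hx2⟩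
  obtain ⟨P, hP⟩ := Ideal.nonempty_minimalPrimes hab
  obtain ⟨hPp, p1, hp1, p2, hp2, h1, h2, hd⟩ := hkey P hP
  refine hp2.2 ⟨hp2.1, hp1.2.tail ⟨hp2.1, P, hPp, h1, h2, ?_⟩⟩
  haveI := hPp
  exact Order.add_one_le_of_lt (not_le.1 fun hle => hd (h P hle))

end Groth.Agent.S4721
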