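import Groth.Statements.S4722
import Groth.Agent.Alg6.AssDepth

set_option autoImplicit false
universe u
open EGA4

namespace Groth.Agent.S4722

/-- Let A be a Noetherian ring and M a finite A-module whose set of associated primes is a single prime
p. Then M has a finite decreasing filtration by submodules M = M_0 ⊇ M_1 ⊇ ⋯ ⊇ M_m = 0 such that
each quotient M_h/M_{h+1} is isomorphic to a submodule of A/p (i.e. embeds A-linearly into A/p). -/
theorem result (A : Type u) [CommRing A] [IsNoetherianRing A]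
    (M : Type u) [AddCommGroup M] [Module A M] [Module.Finite A M] (p : Ideal A)
    (hp : associatedPrimes A M = {p}) :
    ∃ (m : ℕ) (F : Fin (m + 1) → Submodule A M), Antitone F ∧ F 0 = ⊤ ∧ F (Fin.last m) = ⊥ ∧
      ∀ i : Fin m, ∃ g : (↥(F i.castSucc) ⧸ Submodule.comap (F i.castSucc).subtype (F i.succ)) →ₗ[A] (A ⧸ p),
        Function.Injective g := by
  have hpp : p.IsPrime := IsAssociatedPrime.isPrime (AssociatedPrimes.mem_iff.mp (hp ▸ Set.mem_singleton p))
  suffices key : ∀ N : Submodule A M, associatedPrimes A (M ⧸ N) ⊆ {p} →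
      (∃ (m : ℕ) (F : Fin (m + 1) → Submodule A M), Antitone F ∧ F 0 = ⊤ ∧ F (Fin.last m) = N ∧
        ∀ i : Fin m, ∃ g : (↥(F i.castSucc) ⧸ Submodule.comap (F i.castSucc).subtype (F i.succ)) →ₗ[A] (A ⧸ p),
          Function.Injective g) from
    key ⊥ (fun q hq => by rw [LinearEquiv.AssociatedPrimes.eq (Submodule.quotEquivOfEqBot (⊥ : Submodule A M) rfl), hp] at hq; exact hq)
  intro N
  induction N using IsNoetherian.induction with
  | hgt N ih =>
  intro hN
  by_cases htop : N = ⊤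
  · subst htop
    exact ⟨0, fun _ => ⊤, antitone_const, rfl, rfl, fun i => i.elim0⟩
  haveI : Nontrivial (M ⧸ N) := Submodule.Quotient.nontrivial_iff.mpr htop
  obtain ⟨q, hq⟩ := associatedPrimes.nonempty A (M ⧸ N)
  obtain rfl : q = p := hN hq
  obtain ⟨-, zb, hz⟩ := Alg6.mem_ass_iff.mp hq
  obtain ⟨z, rfl⟩ := N.mkQ_surjective zb
  -- the saturation of `N + Az`
  let N' : Submodule A M :=
    { carrier := {w | ∃ t, t ∉ q ∧ t • w ∈ N ⊔ Submodule.span A {z}}
      zero_mem' := ⟨1, (Ideal.ne_top_iff_one _).mp hpp.ne_top, by simp⟩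
      add_mem' := by
        rintro a b ⟨s, hs, hsa⟩ ⟨t, ht, htb⟩
        refine ⟨s * t, fun h => (hpp.mem_or_mem h).elim hs ht, ?_⟩
        rw [smul_add, mul_comm, mul_smul, mul_comm, mul_smul]
        exact add_mem (Submodule.smul_mem _ t hsa) (Submodule.smul_mem _ s htb)
      smul_mem' := by
        rintro c w ⟨t, ht, htw⟩
        exact ⟨t, ht, by rw [smul_comm]; exact Submodule.smul_mem _ c htw⟩ }
  have hle : N ≤ N' := fun w hw => ⟨1, (Ideal.ne_top_iff_one _).mp hpp.ne_top, by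
    rw [one_smul]; exact Submodule.mem_sup_left hw⟩
  have hz' : z ∈ N' := ⟨1, (Ideal.ne_top_iff_one _).mp hpp.ne_top, by
    rw [one_smul]; exact Submodule.mem_sup_right (Submodule.mem_span_singleton_self z)⟩
  have hlt : N < N' := by
    refine lt_of_le_of_ne hle fun heq => ?_
    have : (N.mkQ z) = 0 := by
      rw [Submodule.mkQ_apply, Submodule.Quotient.mk_eq_zero, heq]; exact hz'
    exact hpp.ne_top (Ideal.eq_top_of_isUnit_mem _ ((hz 1).mpr (by rw [this, smul_zero])) isUnit_one)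
  have hreg : ∀ t, t ∉ q → ∀ w : M, t • w ∈ N → w ∈ N := by
    intro t ht w hw
    have hr : IsSMulRegular (M ⧸ N) t := Alg6.isSMulRegular_iff_forall_ass.mpr fun r hr => by
      rw [show r = q from hN hr]; exact ht
    have h0 : (Submodule.Quotient.mk w : M ⧸ N) = 0 :=
      isSMulRegular_iff_right_eq_zero_of_smul.mp hr _ (by
        rw [← Submodule.Quotient.mk_smul, Submodule.Quotient.mk_eq_zero]; exact hw)
    exact (Submodule.Quotient.mk_eq_zero N).mp h0
  have hqN : ∀ a ∈ q, a • z ∈ N := fun a ha =>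
    (Submodule.Quotient.mk_eq_zero N).mp (by rw [Submodule.Quotient.mk_smul]; exact (hz a).mp ha)
  have hN' : associatedPrimes A (M ⧸ N') ⊆ {q} := by
    intro r hr
    obtain ⟨hrp, wb, hw⟩ := Alg6.mem_ass_iff.mp hr
    obtain ⟨w, rfl⟩ := N'.mkQ_surjective wb
    have hmem : ∀ a, a ∈ r ↔ a • w ∈ N' := fun a => by
      rw [hw a, ← map_smul, Submodule.mkQ_apply, Submodule.Quotient.mk_eq_zero]
    refine le_antisymm (fun a ha => ?_) ?_
    · by_contra haq
      obtain ⟨t, ht, htw⟩ := (hmem a).mp ha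
      have hwN' : w ∈ N' := ⟨t * a, fun h => (hpp.mem_or_mem h).elim ht haq, by rw [mul_smul]; exact htw⟩
      exact hrp.ne_top (Ideal.eq_top_of_isUnit_mem _ ((hmem 1).mpr (by rw [one_smul]; exact hwN')) isUnit_one)
    · have hann : Module.annihilator A M ≤ r := fun a ha => (hmem a).mpr (by
        rw [Module.mem_annihilator.mp ha w]; exact zero_mem _)
      obtain ⟨r', hr', hr'le⟩ := Ideal.exists_minimalPrimes_le hann
      have : r' ∈ ({q} : Set (Ideal A)) := hp ▸ Module.associatedPrimes.minimalPrimes_annihilator_subset_associatedPrimes A M hr'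
      exact (Set.mem_singleton_iff.mp this) ▸ hr'le
  obtain ⟨m, F, hanti, h0, hlast, hstep⟩ := ih N' hlt hN'
  -- the new step embeds into `A / q`
  obtain ⟨gs, hgs⟩ := IsNoetherian.noetherian N'
  have hgmem : ∀ g ∈ gs, g ∈ N' := fun g hg => hgs ▸ Submodule.subset_span hg
  choose! tt htt htt' using hgmem
  obtain ⟨T, hT, hTN⟩ : ∃ T : A, T ∉ q ∧ ∀ w ∈ N', T • w ∈ N ⊔ Submodule.span A {z} := by
    refine ⟨∏ g ∈ gs, tt g, show _ ∈ q.primeCompl from prod_mem fun g hg => htt g hg, fun w hw => ?_⟩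
    have : N' ≤ (N ⊔ Submodule.span A {z}).comap ((∏ g ∈ gs, tt g) • (LinearMap.id : M →ₗ[A] M)) := by
      rw [← hgs, Submodule.span_le]
      intro g hg
      obtain ⟨c, hc⟩ := Finset.dvd_prod_of_mem tt (Finset.mem_coe.mp hg)
      show g ∈ Submodule.comap _ _
      rw [Submodule.mem_comap, LinearMap.smul_apply, LinearMap.id_apply, hc, mul_comm, mul_smul]
      exact Submodule.smul_mem _ c (htt' g (Finset.mem_coe.mp hg))
    exact this hw
  let j : (A ⧸ q) →ₗ[A] M ⧸ N := Submodule.liftQ q (LinearMap.toSpanSingleton A (M ⧸ N) (N.mkQ z))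
    (fun a ha => (hz a).mp ha)
  have hjinj : Function.Injective j := by
    rw [← LinearMap.ker_eq_bot, Submodule.ker_liftQ_eq_bot]
    intro a ha
    exact (hz a).mpr ha
  let φ : ↥N' →ₗ[A] M ⧸ N := (N.mkQ.comp N'.subtype).comp (T • LinearMap.id)
  have hφ : LinearMap.range φ ≤ LinearMap.range j := by
    rintro _ ⟨w, rfl⟩
    obtain ⟨n, hn, y, hy, hny⟩ := Submodule.mem_sup.mp (hTN w w.2)
    obtain ⟨c, rfl⟩ := Submodule.mem_span_singleton.mp hy
    refine ⟨Submodule.Quotient.mk c, ?_⟩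
    show c • N.mkQ z = N.mkQ (T • (w : M))
    have hn0 : N.mkQ n = 0 := (Submodule.Quotient.mk_eq_zero N).mpr hn
    rw [← hny, map_add, map_smul, hn0, zero_add]
  have hk : LinearMap.ker φ = N.comap N'.subtype := by
    ext w
    rw [LinearMap.mem_ker, Submodule.mem_comap]
    show N.mkQ (T • (w : M)) = 0 ↔ (w : M) ∈ N
    rw [Submodule.mkQ_apply, Submodule.Quotient.mk_eq_zero]
    exact ⟨hreg T hT _, fun h => Submodule.smul_mem _ T h⟩
  let e := LinearEquiv.ofInjective j hjinj
  let φ' : ↥N' →ₗ[A] (A ⧸ q) := e.symm.toLinearMap.comp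
    ((Submodule.inclusion hφ).comp φ.rangeRestrict)
  have hk' : LinearMap.ker φ' = N.comap N'.subtype := by
    rw [LinearEquiv.ker_comp, LinearMap.ker_comp, Submodule.ker_inclusion, Submodule.comap_bot,
      LinearMap.ker_rangeRestrict, hk]
  refine ⟨m + 1, Fin.snoc F N, ?_, ?_, Fin.snoc_last _ _, ?_⟩
  · rw [Fin.antitone_iff_succ_le]
    intro i
    refine Fin.lastCases ?_ (fun i => ?_) i
    · rw [Fin.succ_last, Fin.snoc_last, Fin.snoc_castSucc, hlast]
      exact hle
    · rw [Fin.succ_castSucc, Fin.snoc_castSucc, Fin.snoc_castSucc]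
      exact hanti (Fin.castSucc_le_succ i)
  · rw [← Fin.castSucc_zero, Fin.snoc_castSucc, h0]
  · intro i
    refine Fin.lastCases ?_ (fun i => ?_) i
    · rw [Fin.succ_last, Fin.snoc_last, Fin.snoc_castSucc, hlast]
      exact ⟨Submodule.liftQ _ φ' hk'.ge, LinearMap.ker_eq_bot.mp (by
        rw [Submodule.ker_liftQ_eq_bot _ _ _ hk'.le])⟩
    · rw [Fin.succ_castSucc, Fin.snoc_castSucc, Fin.snoc_castSucc]
      exact hstep i

end Groth.Agent.S4722
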