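import Groth.Statements.S4726
import Mathlib
-- import your own Groth.Agent.* helpers here

set_option autoImplicit false
universe u
open EGA4

namespace Groth.Agent.S4726

open TensorProduct

/-- The base change of a cokernel is a cokernel. -/
private theorem equiv_baseChange_coker {P R : Type u} [CommRing P] [CommRing R] [Algebra P R] {n m : ℕ}
    (w : Fin m → Fin n → P) :
    Nonempty (((Fin n → R) ⧸ Submodule.span R (Set.range fun l => algebraMap P R ∘ w l)) ≃ₗ[R]
      R ⊗[P] ((Fin n → P) ⧸ Submodule.span P (Set.range w))) := by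
  classical
  let S := Submodule.span P (Set.range w)
  let K := Submodule.span R (Set.range fun l => algebraMap P R ∘ w l)
  let g : R ⊗[P] (Fin n → P) ≃ₗ[R] (Fin n → R) := TensorProduct.piScalarRight P R R (Fin n)
  have hg : ∀ v : Fin n → P, g (1 ⊗ₜ v) = algebraMap P R ∘ v := fun v => by
    ext j; simp [g, Algebra.smul_def]
  let F : (Fin n → P) →ₗ[P] (Fin n → R) ⧸ K :=
    (K.mkQ.restrictScalars P) ∘ₗ (g.toLinearMap.restrictScalars P) ∘ₗ TensorProduct.mk P R (Fin n → P) 1
  have hF : S ≤ LinearMap.ker F := Submodule.span_le.2 fun _ ⟨l, hl⟩ => by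
    subst hl
    show Submodule.Quotient.mk (g (1 ⊗ₜ w l)) = 0
    rw [hg, Submodule.Quotient.mk_eq_zero]
    exact Submodule.subset_span ⟨l, rfl⟩
  let Φ : R ⊗[P] ((Fin n → P) ⧸ S) →ₗ[R] (Fin n → R) ⧸ K := (S.liftQ F hF).liftBaseChange R
  let Ψ₀ : (Fin n → R) →ₗ[R] R ⊗[P] ((Fin n → P) ⧸ S) := (S.mkQ.baseChange R) ∘ₗ g.symm.toLinearMap
  have hΨ : K ≤ LinearMap.ker Ψ₀ := Submodule.span_le.2 fun _ ⟨l, hl⟩ => by
    subst hl
    show S.mkQ.baseChange R (g.symm (algebraMap P R ∘ w l)) = 0
    rw [← hg, LinearEquiv.symm_apply_apply, LinearMap.baseChange_tmul, Submodule.mkQ_apply,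
      (Submodule.Quotient.mk_eq_zero S).2 (Submodule.subset_span ⟨l, rfl⟩), tmul_zero]
  refine ⟨LinearEquiv.ofLinear (K.liftQ Ψ₀ hΨ) Φ ?_ ?_⟩
  · refine TensorProduct.AlgebraTensorModule.ext fun r z => ?_
    obtain ⟨v, rfl⟩ := Submodule.Quotient.mk_surjective S z
    show K.liftQ Ψ₀ hΨ (Φ (r ⊗ₜ[P] Submodule.Quotient.mk v)) = r ⊗ₜ[P] Submodule.Quotient.mk v
    rw [LinearMap.liftBaseChange_tmul, map_smul]
    show r • S.mkQ.baseChange R (g.symm (g (1 ⊗ₜ v))) = _
    rw [LinearEquiv.symm_apply_apply, LinearMap.baseChange_tmul, smul_tmul', smul_eq_mul, mul_one]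
    rfl
  · refine Submodule.linearMap_qext _ ?_
    refine LinearMap.ext fun x => ?_
    show Φ (Ψ₀ x) = Submodule.Quotient.mk x
    obtain ⟨y, rfl⟩ := g.surjective x
    show Φ (S.mkQ.baseChange R (g.symm (g y))) = _
    rw [LinearEquiv.symm_apply_apply]
    induction y using TensorProduct.induction_on with
    | zero => simp
    | tmul r v =>
      rw [LinearMap.baseChange_tmul, LinearMap.liftBaseChange_tmul]
      show r • (Submodule.Quotient.mk (g (1 ⊗ₜ v)) : (Fin n → R) ⧸ K) = _
      rw [← Submodule.Quotient.mk_smul, ← map_smul, smul_tmul', smul_eq_mul, mul_one]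
    | add a b ha hb => simp only [map_add, ha, hb, Submodule.Quotient.mk_add]


open TensorProduct in
/-- Let (A_i) be a directed system of commutative rings with direct limit A and M a finitely presented
A-module. Then there exist an index i and a finitely presented A_i-module M_i such that M is
isomorphic, as an A-module, to A ⊗_{A_i} M_i (A being an A_i-algebra through the canonical map). -/
theorem result (ι : Type u) [Preorder ι] [Nonempty ι] [IsDirectedOrder ι]
    (G : ι → Type u) [∀ i, CommRing (G i)] (f : ∀ i j, i ≤ j → G i →+* G j)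
    [DirectedSystem G (fun i j h ↦ f i j h)] (M : Type u) [AddCommGroup M]
    [Module (Ring.DirectLimit G (fun i j h ↦ f i j h)) M]
    [Module.FinitePresentation (Ring.DirectLimit G (fun i j h ↦ f i j h)) M] :
    ∃ (i : ι) (Mi : Type u) (_ : AddCommGroup Mi) (_ : Module (G i) Mi), Module.FinitePresentation (G i) Mi ∧
      letI : Algebra (G i) (Ring.DirectLimit G (fun i j h ↦ f i j h)) :=
        (Ring.DirectLimit.of G (fun i j h ↦ f i j h) i).toAlgebra
      Nonempty (M ≃ₗ[Ring.DirectLimit G (fun i j h ↦ f i j h)] (Ring.DirectLimit G (fun i j h ↦ f i j h)) ⊗[G i] Mi) := by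
  classical
  let R := Ring.DirectLimit G (fun i j h ↦ f i j h)
  let ofR := fun i => Ring.DirectLimit.of G (fun i j h ↦ f i j h) i
  obtain ⟨n, K, e, hK⟩ := Module.FinitePresentation.exists_fin R M
  obtain ⟨m, w, hw⟩ := Submodule.fg_iff_exists_fin_generating_family.1 hK
  have h1 : ∀ F : Finset R, ∃ i, ∀ x ∈ F, ∃ y, ofR i y = x := by
    intro F
    induction F using Finset.induction_on with
    | empty => obtain ⟨i⟩ := ‹Nonempty ι›; exact ⟨i, by simp⟩
    | insert a F _ ih =>
      obtain ⟨i, hi⟩ := ih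
      obtain ⟨j, y, hy⟩ := Ring.DirectLimit.exists_of a
      obtain ⟨k, hik, hjk⟩ := exists_ge_ge i j
      refine ⟨k, fun x hx => ?_⟩
      rcases Finset.mem_insert.1 hx with rfl | hx
      · exact ⟨f j k hjk y, (Ring.DirectLimit.of_f (G := G) (f := fun i j h ↦ f i j h) hjk y).trans hy⟩
      · obtain ⟨z, hz⟩ := hi x hx
        exact ⟨f i k hik z, (Ring.DirectLimit.of_f (G := G) (f := fun i j h ↦ f i j h) hik z).trans hz⟩
  obtain ⟨i, hi⟩ := h1 (Finset.univ.image fun q : Fin m × Fin n => w q.1 q.2)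
  have h2 : ∀ l j, ∃ y, ofR i y = w l j := fun l j => hi _ (Finset.mem_image.2 ⟨(l, j), Finset.mem_univ _, rfl⟩)
  choose w' hw' using h2
  let _ : Algebra (G i) R := (ofR i).toAlgebra
  refine ⟨i, (Fin n → G i) ⧸ Submodule.span (G i) (Set.range w'), inferInstance, inferInstance,
    Module.finitePresentation_of_surjective (Submodule.mkQ _) (Submodule.mkQ_surjective _)
      (by rw [Submodule.ker_mkQ]; exact Submodule.fg_span (Set.finite_range _)), ?_⟩
  obtain ⟨E⟩ := equiv_baseChange_coker (P := G i) (R := R) w'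
  have hKw : K = Submodule.span R (Set.range fun l => algebraMap (G i) R ∘ w' l) := by
    rw [← hw]
    congr 1
    exact congrArg Set.range (funext fun l => funext fun j => (hw' l j).symm)
  exact ⟨e.trans ((Submodule.quotEquivOfEq _ _ hKw).trans E)⟩

end Groth.Agent.S4726
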