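import Groth.Statements.S4727
-- import your own Groth.Agent.* helpers here

set_option autoImplicit false
universe u
open EGA4

namespace Groth.Agent.S4727

/-- Let A be a commutative ring, B an A-algebra and N an ideal of B all of whose elements are nilpotent.
Then the integral closure of A in B is the inverse image, under the canonical map B → B/N, of the
integral closure of A in B/N: an element of B whose image in B/N is integral over A is itself
integral over A. -/
theorem result (A B : Type u) [CommRing A] [CommRing B] [Algebra A B]
    (N : Ideal B) (hN : ∀ x ∈ N, IsNilpotent x) :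
    (integralClosure A B).toSubring =
      (integralClosure A (B ⧸ N)).toSubring.comap (Ideal.Quotient.mk N) := by
  ext x
  show IsIntegral A x ↔ IsIntegral A (Ideal.Quotient.mk N x)
  refine ⟨fun h => h.map (Ideal.Quotient.mkₐ A N), ?_⟩
  rintro ⟨p, hp, hx⟩
  have hmem : Polynomial.aeval x p ∈ N := by
    rw [← Ideal.Quotient.eq_zero_iff_mem]
    rw [show (Ideal.Quotient.mk N) (Polynomial.aeval x p) = Polynomial.aeval (Ideal.Quotient.mk N x) p from
      (Polynomial.aeval_algHom_apply (Ideal.Quotient.mkₐ A N) x p).symm]
    simpa [Polynomial.aeval_def] using hx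
  obtain ⟨k, hk⟩ := hN _ hmem
  refine ⟨p ^ k, hp.pow k, ?_⟩
  rw [← Polynomial.aeval_def, map_pow, hk]

end Groth.Agent.S4727
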