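import Groth.Statements.S4728
import Groth.Agent.FlatLoc6.NormalFibre
import Groth.Agent.FormCat.Unibranch
import Mathlib.RingTheory.Ideal.KrullsHeightTheorem
import Mathlib.RingTheory.Flat.TorsionFree

set_option autoImplicit false
universe u
open EGA4

namespace Groth.Agent.S4728

/-- Let A be a Noetherian local domain of dimension 1 with maximal ideal m, A' a Noetherian local ring
and A → A' a local homomorphism which is normal (flat, with geometrically normal fibres). Then the
ideal m A' of A' is prime and the local ring of A' at m A' has dimension 1. (The remaining clauses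
of the published item, describing A' inside its total ring of fractions, are not restated.) -/
theorem result (A A' : Type u) [CommRing A] [CommRing A']
    [IsNoetherianRing A] [IsNoetherianRing A'] [IsLocalRing A] [IsLocalRing A'] [IsDomain A]
    (hA : ringKrullDim A = 1) [Algebra A A'] [IsLocalHom (algebraMap A A')] (h : EGA4.IsNormalHom A A') :
    ((IsLocalRing.maximalIdeal A).map (algebraMap A A')).IsPrime ∧
      ((IsLocalRing.maximalIdeal A).map (algebraMap A A')).height = 1 := by
    haveI := h.1
    set m := IsLocalRing.maximalIdeal A with hm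
    set P := m.map (algebraMap A A') with hP
    have hF : EGA4.IsNormalRing (m.Fiber A') := Groth.Agent.FlatLoc6.isNormalRing_of_isGeomNormal (h.2 m)
    let eres : (A ⧸ m) ≃ₐ[A] m.ResidueField := AlgEquiv.ofBijective (IsScalarTower.toAlgHom A (A ⧸ m) m.ResidueField)
      (Ideal.bijective_algebraMap_quotient_residueField m)
    let e : (A' ⧸ P) ≃+* m.Fiber A' :=
      ((Algebra.TensorProduct.quotIdealMapEquivTensorQuot A' m).toRingEquiv.trans
        (Algebra.TensorProduct.comm A A' (A ⧸ m)).toRingEquiv).trans
        (Algebra.TensorProduct.congr eres (AlgEquiv.refl (R := A) (A₁ := A'))).toRingEquiv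
    have hPne : P ≠ ⊤ := fun htop => (IsLocalRing.maximalIdeal.isMaximal A').ne_top (top_le_iff.mp (htop.ge.trans
      (Ideal.map_le_iff_le_comap.mpr fun x hx => map_nonunit (algebraMap A A') x hx)))
    haveI : Nontrivial (A' ⧸ P) := Ideal.Quotient.nontrivial_iff.mpr hPne
    haveI : IsLocalRing (A' ⧸ P) := IsLocalRing.of_surjective' (Ideal.Quotient.mk P) Ideal.Quotient.mk_surjective
    haveI hdom : IsDomain (A' ⧸ P) := Groth.Agent.FormCat.isDomain_of_isNormalRing_local (A' ⧸ P)
      (Groth.Agent.FlatLoc6.isNormalRing_of_ringEquiv e.symm hF)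
    have hprime : P.IsPrime := (Ideal.Quotient.isDomain_iff_prime P).mp hdom
    refine ⟨hprime, le_antisymm ?_ ?_⟩
    all_goals
      haveI : Ring.KrullDimLE 1 A := Ring.krullDimLE_iff.mpr hA.le
      obtain ⟨a, ham, ha0⟩ : ∃ a ∈ m, a ≠ 0 := by
        by_contra hcon
        push_neg at hcon
        have : IsField A := IsLocalRing.isField_iff_maximalIdeal_eq.mpr ((Submodule.eq_bot_iff _).mpr hcon)
        rw [ringKrullDim_eq_zero_of_isField this] at hA
        exact zero_ne_one hA
    · have hrad : (Ideal.span {a}).radical = m := by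
        refine le_antisymm ((Ideal.IsMaximal.isPrime inferInstance).radical_le_iff.mpr
          ((Ideal.span_singleton_le_iff_mem _).mpr ham)) ?_
        rw [Ideal.radical_eq_sInf]
        refine le_sInf fun q ⟨hq, hqp⟩ => ?_
        have := hqp.isMaximal_of_ne_bot fun hb => ha0 (by simpa [hb] using hq (Ideal.mem_span_singleton_self a))
        exact (IsLocalRing.eq_maximalIdeal this).ge
      obtain ⟨n, hn⟩ := Ideal.exists_pow_le_of_le_radical_of_fg hrad.ge (IsNoetherian.noetherian _)
      refine Ideal.height_le_one_of_isPrincipal_of_mem_minimalPrimes (Ideal.span {algebraMap A A' a}) P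
        ⟨⟨hprime, (Ideal.span_singleton_le_iff_mem _).mpr (Ideal.mem_map_of_mem _ ham)⟩, ?_⟩
      rintro q ⟨hq, haq⟩ -
      refine (hq.pow_le_iff (n := n + 1) n.succ_ne_zero).mp ((Ideal.pow_le_pow_right n.le_succ).trans ?_)
      rw [← Ideal.map_pow]
      refine (Ideal.map_mono hn).trans ?_
      rwa [Ideal.map_span, Set.image_singleton]
    · haveI := hprime
      refine ENat.one_le_iff_ne_zero.mpr fun h0 => ?_
      have hmin := Ideal.height_eq_zero_iff.mp h0
      have hreg : algebraMap A A' a ∈ nonZeroDivisors A' := by
        have hr : IsSMulRegular A' (algebraMap A A' a) :=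
          IsSMulRegular.of_flat (S := A') (x := a) fun x y hxy => mul_left_cancel₀ ha0 hxy
        exact mem_nonZeroDivisors_iff_right.mpr fun x hx => hr (by simpa [mul_comm] using hx)
      exact Set.disjoint_left.mp (Ideal.disjoint_nonZeroDivisors_of_mem_minimalPrimes hmin)
        (Ideal.mem_map_of_mem _ ham) hreg

end Groth.Agent.S4728
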