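import Groth.Statements.S4729
-- import your own Groth.Agent.* helpers here

set_option autoImplicit false
universe u
open EGA4

namespace Groth.Agent.S4729

/-- Let A be a commutative ring, M a finite A-module and p ⊆ q prime ideals of A (so that p is a
generization of q). Then the dimension of the A_p-module M_p is at most the dimension of the
A_q-module M_q. -/
theorem result (A : Type u) [CommRing A] (M : Type u) [AddCommGroup M] [Module A M]
    [Module.Finite A M] (p q : Ideal A) [p.IsPrime] [q.IsPrime] (hpq : p ≤ q) :
    Module.supportDim (Localization.AtPrime p) (LocalizedModule p.primeCompl M) ≤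
      Module.supportDim (Localization.AtPrime q) (LocalizedModule q.primeCompl M) := by
  have hcl : ∀ (r : Ideal A) [r.IsPrime] (P : PrimeSpectrum (Localization.AtPrime r)),
      P ∈ Module.support (Localization.AtPrime r) (LocalizedModule r.primeCompl M) ↔
        PrimeSpectrum.comap (algebraMap A (Localization.AtPrime r)) P ∈ Module.support A M := by
    intro r _ P
    constructor
    · intro h
      rw [Module.mem_support_iff'] at h ⊢
      obtain ⟨x, hx⟩ := h
      induction x using LocalizedModule.induction_on with
      | h m t =>
        refine ⟨m, fun a ha h0 => hx (algebraMap A _ a) ha ?_⟩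
        rw [algebraMap_smul, LocalizedModule.smul'_mk, h0, LocalizedModule.zero_mk]
    · intro h
      rw [Module.mem_support_iff'] at h ⊢
      obtain ⟨m, hm⟩ := h
      refine ⟨LocalizedModule.mk m 1, fun z hz h0 => ?_⟩
      obtain ⟨⟨a, s⟩, hzs⟩ := IsLocalization.surj r.primeCompl z
      have ha : a ∉ (PrimeSpectrum.comap (algebraMap A (Localization.AtPrime r)) P).asIdeal := by
        intro ha
        have ha' : algebraMap A (Localization.AtPrime r) a ∈ P.asIdeal := ha
        rw [← hzs] at ha'
        rcases P.isPrime.mem_or_mem ha' with h1 | h1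
        · exact hz h1
        · exact P.isPrime.ne_top (Ideal.eq_top_of_isUnit_mem _ h1 (IsLocalization.map_units _ s))
      have h2 : LocalizedModule.mk (a • m) (1 : r.primeCompl) = 0 := by
        rw [← LocalizedModule.smul'_mk, ← algebraMap_smul (Localization.AtPrime r) a, ← hzs,
          mul_comm, mul_smul, h0, smul_zero]
      rw [← LocalizedModule.zero_mk (1 : r.primeCompl), LocalizedModule.mk_eq] at h2
      obtain ⟨u, hu⟩ := h2
      have hu' : ((u : A) * a) • m = 0 := by
        simpa [Submonoid.smul_def, mul_smul] using hu
      refine hm _ (fun hua => ?_) hu'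
      rcases (PrimeSpectrum.comap (algebraMap A (Localization.AtPrime r)) P).isPrime.mem_or_mem hua with h1 | h1
      · exact P.isPrime.ne_top (Ideal.eq_top_of_isUnit_mem _ h1 (IsLocalization.map_units _ u))
      · exact ha h1
  have hr : ∀ (r : Ideal A) [r.IsPrime] (P : PrimeSpectrum A), P.asIdeal ≤ r →
      ∃ Q : PrimeSpectrum (Localization.AtPrime r), PrimeSpectrum.comap (algebraMap A (Localization.AtPrime r)) Q = P := by
    intro r _ P hP
    have : P ∈ Set.range (PrimeSpectrum.comap (algebraMap A (Localization.AtPrime r))) := by
      rw [PrimeSpectrum.localization_comap_range (Localization.AtPrime r) r.primeCompl]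
      exact Set.disjoint_left.mpr fun a ha ha' => ha (hP ha')
    exact this
  have hle : ∀ (r : Ideal A) [r.IsPrime] (P P' : PrimeSpectrum (Localization.AtPrime r)),
      (PrimeSpectrum.comap (algebraMap A (Localization.AtPrime r)) P).asIdeal ≤
        (PrimeSpectrum.comap (algebraMap A (Localization.AtPrime r)) P').asIdeal ↔ P ≤ P' := fun r _ P P' =>
    (IsLocalization.orderEmbedding r.primeCompl (Localization.AtPrime r)).le_iff_le
  have hex : ∀ P : Module.support (Localization.AtPrime p) (LocalizedModule p.primeCompl M),
      ∃ Q : Module.support (Localization.AtPrime q) (LocalizedModule q.primeCompl M),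
        PrimeSpectrum.comap (algebraMap A (Localization.AtPrime q)) Q.1 =
          PrimeSpectrum.comap (algebraMap A (Localization.AtPrime p)) P.1 := by
    intro P
    obtain ⟨Q, hQ⟩ := hr q (PrimeSpectrum.comap (algebraMap A (Localization.AtPrime p)) P.1)
      (le_trans (fun a ha => by
        by_contra h
        exact P.1.isPrime.ne_top (Ideal.eq_top_of_isUnit_mem _ ha (IsLocalization.map_units _ (⟨a, h⟩ : p.primeCompl)))) hpq)
    exact ⟨⟨Q, (hcl q Q).mpr (by rw [hQ]; exact (hcl p P.1).mp P.2)⟩, hQ⟩
  choose g hg using hex
  refine Order.krullDim_le_of_strictMono g fun P P' hPP' => ?_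
  have key : ∀ P P', g P ≤ g P' ↔ P ≤ P' := fun P P' => by
    rw [← Subtype.coe_le_coe, ← Subtype.coe_le_coe, ← hle q, hg, hg, hle p]
  exact lt_of_le_not_ge ((key _ _).mpr hPP'.le) fun h => hPP'.not_ge ((key _ _).mp h)

end Groth.Agent.S4729
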