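import Groth.Statements.S4730
import Groth.Agent.S4688
import Mathlib.RingTheory.AlgebraicIndependent.TranscendenceBasis
import Mathlib.RingTheory.Polynomial.Quotient

set_option autoImplicit false
universe u
open EGA4

namespace Groth.Agent.S4730

open Polynomial in
/-- Let A be a Noetherian ring, p a prime ideal of A and q a prime ideal of the polynomial ring A[T]
lying over p. Then ht(p) + 1 = ht(q) + deg.tr_{κ(p)} κ(q), the transcendence degree being that of
the domain A[T]/q over the domain A/p. -/
theorem result (A : Type u) [CommRing A] [IsNoetherianRing A]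
    (p : Ideal A) [p.IsPrime] (q : Ideal A[X]) [q.IsPrime] [q.LiesOver p] :
    (p.height : Cardinal.{u}) + 1 = (q.height : Cardinal.{u}) + Algebra.trdeg (A ⧸ p) (A[X] ⧸ q) := by
    classical
    obtain ⟨h1, h2⟩ := S4688.result A p q
    have hle : p.map (Polynomial.C : A →+* A[X]) ≤ q := by
      rw [Ideal.map_le_iff_le_comap, Ideal.LiesOver.over (P := q) (p := p)]
      exact le_rfl
    have hC : ∀ a : A, algebraMap (A ⧸ p) (A[X] ⧸ q) (Ideal.Quotient.mk p a) =
        Ideal.Quotient.mk q (Polynomial.C a) := fun a => rfl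
    by_cases hq : q = p.map (Polynomial.C : A →+* A[X])
    · have h3 : Algebra.trdeg (A ⧸ p) (A[X] ⧸ q) = 1 := by
        let e : (A ⧸ p)[X] ≃+* A[X] ⧸ q :=
          (Ideal.polynomialQuotientEquivQuotientPolynomial p).trans (Ideal.quotEquivOfEq hq.symm)
        have hcomm : ∀ r : A ⧸ p, e (algebraMap (A ⧸ p) (A ⧸ p)[X] r) = algebraMap (A ⧸ p) (A[X] ⧸ q) r := by
          intro r
          obtain ⟨a, rfl⟩ := Ideal.Quotient.mk_surjective r
          rw [Polynomial.algebraMap_eq, ← Polynomial.map_C (Ideal.Quotient.mk p)]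
          simp only [e, RingEquiv.trans_apply, Ideal.polynomialQuotientEquivQuotientPolynomial_map_mk,
            Ideal.quotEquivOfEq_mk, hC]
        rw [← (AlgEquiv.ofRingEquiv (f := e) hcomm).trdeg_eq, Polynomial.trdeg_of_isDomain]
      rw [h3]
      conv_rhs => rw [hq, h1]
    · have hlt : ∃ f ∈ q, f.map (Ideal.Quotient.mk p) ≠ 0 := by
        by_contra hn
        push Not at hn
        exact hq (le_antisymm (fun f hf => by
          rw [← Ideal.mk_ker (I := p), ← Polynomial.ker_mapRingHom]
          exact hn f hf) hle)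
      obtain ⟨f, hf, hf0⟩ := hlt
      let xb : A[X] ⧸ q := Ideal.Quotient.mk q Polynomial.X
      have hx : IsAlgebraic (A ⧸ p) xb := by
        refine ⟨f.map (Ideal.Quotient.mk p), hf0, ?_⟩
        rw [Polynomial.aeval_def, Polynomial.eval₂_map]
        have h4 : (algebraMap (A ⧸ p) (A[X] ⧸ q)).comp (Ideal.Quotient.mk p) =
            (Ideal.Quotient.mk q).comp Polynomial.C := RingHom.ext hC
        rw [h4, ← Polynomial.hom_eval₂, Polynomial.eval₂_C_X]
        exact Ideal.Quotient.eq_zero_iff_mem.2 hf
      haveI : Algebra.IsAlgebraic (A ⧸ p) (A[X] ⧸ q) := ⟨fun z => by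
        obtain ⟨g, rfl⟩ := Ideal.Quotient.mk_surjective z
        induction g using Polynomial.induction_on' with
        | add a b ha hb => rw [map_add]; exact ha.add hb
        | monomial n a =>
          rw [← Polynomial.C_mul_X_pow_eq_monomial, map_mul, map_pow, ← hC]
          exact (isAlgebraic_algebraMap _).mul (hx.pow n)⟩
      have h5 : Algebra.trdeg (A ⧸ p) (A[X] ⧸ q) = 0 := by
        haveI : FaithfulSMul (A ⧸ p) (A[X] ⧸ q) :=
          (faithfulSMul_iff_algebraMap_injective _ _).2 ((injective_iff_map_eq_zero _).2 fun r hr => by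
            obtain ⟨a, rfl⟩ := Ideal.Quotient.mk_surjective r
            rw [hC, Ideal.Quotient.eq_zero_iff_mem] at hr
            rw [Ideal.Quotient.eq_zero_iff_mem, Ideal.LiesOver.over (P := q) (p := p)]
            exact hr)
        obtain ⟨s, hs⟩ := exists_isTranscendenceBasis (A ⧸ p) (A[X] ⧸ q)
        haveI := hs.1.isEmpty_of_isAlgebraic
        rw [← hs.cardinalMk_eq_trdeg, Cardinal.mk_eq_zero]
      rw [h5, add_zero, h2 hq]
      push_cast
      rfl

end Groth.Agent.S4730
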