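import Groth.Statements.S4731
import Mathlib.RingTheory.Finiteness.Ideal

set_option autoImplicit false
universe u
open EGA4

namespace Groth.Agent.S4731

/-- Let S → R be an injective homomorphism of commutative rings making R a finite S-module, with R
Noetherian; let c be the conductor of S in R, the ideal of those s in S with s R contained in (the
image of) S. If S/c is Noetherian, then every increasing sequence of ideals of S contained in c is
eventually constant. -/
theorem result (S R : Type u) [CommRing S] [CommRing R] [Algebra S R]
    [FaithfulSMul S R] [IsNoetherianRing R] [Module.Finite S R] (c : Ideal S)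
    (hc : ∀ s : S, s ∈ c ↔ ∀ r : R, ∃ s' : S, algebraMap S R s' = algebraMap S R s * r)
    [IsNoetherianRing (S ⧸ c)] (a : ℕ →o Ideal S) (ha : ∀ n, a n ≤ c) :
    ∃ N : ℕ, ∀ n, N ≤ n → a n = a N := by
    classical
    let aR : ℕ →o Ideal R := ⟨fun n => (a n).map (algebraMap S R), fun _ _ h => Ideal.map_mono (a.monotone h)⟩
    obtain ⟨N, hN⟩ := monotone_stabilizes_iff_noetherian.2 (inferInstance : IsNoetherian R R) aR
    let L := Algebra.linearMap S R
    have hinj : Function.Injective L := FaithfulSMul.algebraMap_injective S R
    let J : Submodule S R := (aR N).restrictScalars S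
    obtain ⟨G, hG⟩ := IsNoetherian.noetherian (R := R) (M := R) (aR N)
    have hJ : LinearMap.range ((Fintype.linearCombination R (fun g : G => (g : R))).restrictScalars S) = J := by
      rw [LinearMap.range_restrictScalars, Fintype.range_linearCombination]
      show _ = (aR N).restrictScalars S
      rw [← hG]
      congr 2
      exact Subtype.range_coe_subtype.trans (Set.ext fun _ => Iff.rfl)
    haveI : Module.Finite S J := Module.Finite.equiv (LinearEquiv.ofEq _ _ hJ)
    let D : Submodule S J := c • ⊤
    let M := ↥J ⧸ D
    haveI : Module.Finite (S ⧸ c) M := Module.Finite.of_restrictScalars_finite S (S ⧸ c) M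
    haveI : IsNoetherian S M := ⟨fun W => by
      let W' : Submodule (S ⧸ c) M :=
        { carrier := W
          add_mem' := W.add_mem
          zero_mem' := W.zero_mem
          smul_mem' := fun r m hm => by
            obtain ⟨s, rfl⟩ := Ideal.Quotient.mk_surjective r
            exact W.smul_mem s hm }
      have h1 : W'.restrictScalars S = W := SetLike.ext fun _ => Iff.rfl
      rw [← h1]
      exact Submodule.FG.restrictScalars_of_surjective (IsNoetherian.noetherian W') Ideal.Quotient.mk_surjective⟩
    let AN : ℕ →o Submodule S M :=
      ⟨fun n => ((Submodule.map L (a n)).comap J.subtype).map D.mkQ,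
        fun _ _ h => Submodule.map_mono (Submodule.comap_mono (Submodule.map_mono (a.monotone h)))⟩
    obtain ⟨N', hN'⟩ := monotone_stabilizes_iff_noetherian.2 inferInstance AN
    have hkey : ∀ y ∈ aR N, ∀ s ∈ c, s • y ∈ Submodule.map L (a N) := by
      intro y hy
      induction hy using Submodule.span_induction with
      | mem x hx =>
        obtain ⟨t, ht, rfl⟩ := hx
        intro s hs
        exact ⟨s * t, Ideal.mul_mem_left _ s ht, by simp [L, Algebra.smul_def]⟩
      | zero => intro s hs; rw [smul_zero]; exact zero_mem _
      | add x y _ _ hx hy => intro s hs; rw [smul_add]; exact add_mem (hx s hs) (hy s hs)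
      | smul r x _ hx =>
        intro s hs
        obtain ⟨s', hs'⟩ := (hc s).1 hs r
        have hs'c : s' ∈ c := (hc s').2 fun r' => by
          obtain ⟨s'', h''⟩ := (hc s).1 hs (r * r')
          exact ⟨s'', by rw [h'', hs', mul_assoc]⟩
        have h2 : s • (r • x) = s' • x := by
          simp only [Algebra.smul_def, smul_eq_mul, hs', mul_assoc, Algebra.algebraMap_self, RingHom.id_apply]
        rw [h2]
        exact hx s' hs'c
    refine ⟨max N N', fun n hn => le_antisymm ?_ (a.monotone hn)⟩
    have hnN : N ≤ n := le_of_max_le_left hn
    intro t ht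
    have hD : D ≤ (Submodule.map L (a (max N N'))).comap J.subtype := by
      refine Submodule.smul_le.2 fun s hs x _ => ?_
      exact Submodule.map_mono (a.monotone (le_max_left N N')) (hkey x.1 x.2 s hs)
    have htJ : L t ∈ J := by
      show algebraMap S R t ∈ aR N
      rw [hN n hnN]
      exact Ideal.mem_map_of_mem _ ht
    have h3 : D.mkQ ⟨L t, htJ⟩ ∈ AN (max N N') := by
      rw [← hN' (max N N') (le_max_right _ _), hN' n (le_of_max_le_right hn)]
      exact Submodule.mem_map_of_mem (f := D.mkQ) (show L t ∈ Submodule.map L (a n) from ⟨t, ht, rfl⟩)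
    have h4 : (⟨L t, htJ⟩ : J) ∈ (((Submodule.map L (a (max N N'))).comap J.subtype).map D.mkQ).comap D.mkQ := h3
    rw [Submodule.comap_map_mkQ, sup_eq_right.2 hD] at h4
    obtain ⟨t', ht', e⟩ := h4
    exact hinj e ▸ ht'

end Groth.Agent.S4731
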