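import Groth.Statements.S4732
import Groth.Agent.GrpSchLib.SmoothRegular

set_option autoImplicit false
universe u
open EGA4

namespace Groth.Agent.S4732

open AlgebraicGeometry CategoryTheory in
/-- Let k be a field, X a scheme locally of finite type over k and x a point of X. Then there are an
open neighbourhood U of x, a k-scheme Y all of whose local rings are regular, and an immersion U → Y
compatible with the structure morphisms to Spec k. -/
theorem result (k : Type u) [Field k] {X : Scheme.{u}}
    (f : X ⟶ Spec (CommRingCat.of k)) [LocallyOfFiniteType f] (x : X) :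
    ∃ (U : X.Opens) (_ : x ∈ U) (Y : Scheme.{u}) (g : Y ⟶ Spec (CommRingCat.of k)) (i : (U : Scheme.{u}) ⟶ Y),
      IsImmersion i ∧ i ≫ g = U.ι ≫ f ∧ ∀ y : Y, IsRegularLocalRing (Y.presheaf.stalk y) := by
    classical
    obtain ⟨U, hU, hxU, -⟩ := exists_isAffineOpen_mem_and_subset (x := x) (U := (⊤ : X.Opens)) trivial
    have hle : U ≤ f ⁻¹ᵁ ⊤ := fun _ _ => trivial
    have hft : (f.appLE ⊤ U hle).hom.FiniteType := f.finiteType_appLE (isAffineOpen_top _) hU hle
    let φ : k →+* Γ(X, U) := (f.appLE ⊤ U hle).hom.comp (Scheme.ΓSpecIso (CommRingCat.of k)).inv.hom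
    have hφ : φ.FiniteType := hft.comp (RingHom.FiniteType.of_surjective _
      (Scheme.ΓSpecIso (CommRingCat.of k)).symm.commRingCatIsoToRingEquiv.surjective)
    letI : Algebra k Γ(X, U) := φ.toAlgebra
    haveI : Algebra.FiniteType k Γ(X, U) := hφ
    obtain ⟨n, π, hπ⟩ := Algebra.FiniteType.iff_quotient_mvPolynomial''.1 (inferInstance : Algebra.FiniteType k Γ(X, U))
    let P := MvPolynomial (Fin n) k
    let g : Spec (CommRingCat.of P) ⟶ Spec (CommRingCat.of k) := Spec.map (CommRingCat.ofHom (algebraMap k P))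
    let i : (U : Scheme.{u}) ⟶ Spec (CommRingCat.of P) := hU.isoSpec.hom ≫ Spec.map (CommRingCat.ofHom π.toRingHom)
    haveI : IsClosedImmersion (Spec.map (CommRingCat.ofHom π.toRingHom)) :=
      IsClosedImmersion.spec_of_surjective _ hπ
    haveI : IsImmersion i := inferInstanceAs (IsImmersion (hU.isoSpec.hom ≫ Spec.map (CommRingCat.ofHom π.toRingHom)))
    haveI : Smooth g := by
      show Smooth (Spec.map _)
      rw [HasRingHomProperty.Spec_iff (P := @Smooth)]
      exact RingHom.smooth_algebraMap.2 (⟨inferInstance, inferInstance⟩ : Algebra.Smooth k P)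
    refine ⟨U, hxU, _, g, i, inferInstance, ?_, fun y => GrpSchLib.isRegularLocalRing_stalk_of_smooth g y⟩
    rw [← cancel_epi hU.isoSpec.inv, ← Category.assoc hU.isoSpec.inv U.ι, hU.isoSpec_inv_ι,
      Category.assoc hU.isoSpec.hom, Iso.inv_hom_id_assoc, ← Spec.map_comp]
    have h2 := (isAffineOpen_top _).SpecMap_appLE_fromSpec f hU hle
    rw [← h2, IsAffineOpen.fromSpec_top, Scheme.isoSpec_Spec_inv, ← Spec.map_comp]
    congr 1
    ext a
    exact π.commutes a

end Groth.Agent.S4732
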