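import Groth.Statements.S4733
import Groth.Agent.FlatLoc6.GeomComp
import Groth.Agent.S9256

set_option autoImplicit false
universe u
open EGA4

namespace Groth.Agent.S4733

open TensorProduct in
/-- For the property 'regular' (affine form): let k be a field, S a Noetherian k-algebra and k' an
extension field of k such that S is of finite type over k or k' is essentially of finite type over
k; let q' be a prime of S ⊗_k k' and q its contraction to S. If (S ⊗_k k')_{q'} is a regular local
ring then so is S_q; conversely, if k' is separable over k (geometrically reduced) and S_q is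
regular, then (S ⊗_k k')_{q'} is regular. -/
theorem result (k S k' : Type u) [Field k] [CommRing S] [Algebra k S]
    [IsNoetherianRing S] [Field k'] [Algebra k k'] (hft : Algebra.FiniteType k S ∨ Algebra.EssFiniteType k k')
    [IsNoetherianRing (S ⊗[k] k')] (q' : Ideal (S ⊗[k] k')) [q'.IsPrime] :
    (IsRegularLocalRing (Localization.AtPrime q') →
        IsRegularLocalRing (Localization.AtPrime (q'.comap (algebraMap S (S ⊗[k] k'))))) ∧
      (Algebra.IsGeometricallyReduced k k' →
        IsRegularLocalRing (Localization.AtPrime (q'.comap (algebraMap S (S ⊗[k] k')))) →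
          IsRegularLocalRing (Localization.AtPrime q')) := by
    refine ⟨fun h => RegLoc6.regular_under_of_flat q' _ rfl h, fun hk h => ?_⟩
    refine FlatLoc6.regular_ascend q'.height.toNat q' ?_ ?_ (fun _ => h)
    · exact (ENat.coe_toNat (Ideal.height_ne_top ‹q'.IsPrime›.ne_top)).ge
    · intro P _ _
      obtain ⟨Q, hQ⟩ := FlatLoc6.exists_fiber_prime (q'.comap (algebraMap S (S ⊗[k] k'))) q' rfl
      obtain ⟨e'⟩ := FlatLoc6.exists_fiberTensorEquiv (k := k) (S := S) (T := k') (q'.comap (algebraMap S (S ⊗[k] k')))
      have hft' : Algebra.EssFiniteType k (q'.comap (algebraMap S (S ⊗[k] k'))).ResidueField ∨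
          Algebra.EssFiniteType k k' := hft.elim (fun hS => Or.inl (@FlatLoc6.essFiniteType_residueField k S _ _ _ hS _ _)) Or.inr
      haveI := FlatLoc6.regular_tensor_arb k (q'.comap (algebraMap S (S ⊗[k] k'))).ResidueField k' hft'
        ((S9256.fibre_iff k k').mpr hk)
      haveI : IsRegularRing ((q'.comap (algebraMap S (S ⊗[k] k'))).Fiber (S ⊗[k] k')) :=
        IsRegularRing.of_ringEquiv (R := (q'.comap (algebraMap S (S ⊗[k] k'))).ResidueField ⊗[k] k') e'.symm
      exact FlatLoc6.fibLocRing_regular _ q' rfl P

end Groth.Agent.S4733
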