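import Groth.Statements.S4734
import Groth.Agent.NFDim6.Localize
import Groth.Agent.S2612

set_option autoImplicit false
universe u
open EGA4

namespace Groth.Agent.S4734

/-- Let A be a Noetherian ring, I a nilpotent ideal of A and M a finite A-module whose support is all of
Spec A and which is normally flat along I. Then for every prime p of A: M satisfies Serre's
condition (S_n) at p if and only if the A-module A/I does; and the codepth of M_p is at most n if
and only if the codepth of the A_p-module (A/I)_p is at most n (codepth written additively as dim ≤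
depth + n). -/
theorem result (n : ℕ) (A : Type u) [CommRing A] [IsNoetherianRing A]
    (I : Ideal A) (hI : IsNilpotent I) (M : Type u) [AddCommGroup M] [Module A M] [Module.Finite A M]
    (hsupp : Module.support A M = Set.univ) (hM : EGA4.IsNormallyFlat I M) (p : Ideal A) [p.IsPrime] :
    (EGA4.HasSkAt n A M p ↔ EGA4.HasSkAt n A (A ⧸ I) p) ∧
      (Module.supportDim (Localization.AtPrime p) (LocalizedModule p.primeCompl M) ≤
          ((LocCoh.depth (Localization.AtPrime p) (LocalizedModule p.primeCompl M) : ℕ∞) : WithBot ℕ∞) + n ↔
        Module.supportDim (Localization.AtPrime p) (LocalizedModule p.primeCompl (A ⧸ I)) ≤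
          ((LocCoh.depth (Localization.AtPrime p) (LocalizedModule p.primeCompl (A ⧸ I)) : ℕ∞) : WithBot ℕ∞) + n) := by
    classical
    have hquot : EGA4.IsNormallyFlat I (A ⧸ I) := by
      intro k
      rcases k with _ | k
      · let e : (↥(I ^ 0 • (⊤ : Submodule A (A ⧸ I))) ⧸ (I • (⊤ : Submodule A ↥(I ^ 0 • (⊤ : Submodule A (A ⧸ I)))))) ≃ₗ[A]
            (A ⧸ I) :=
          (Submodule.quotEquivOfEqBot _ (by
            rw [eq_bot_iff, Submodule.smul_le]
            intro a ha z _
            rw [Submodule.mem_bot]
            apply Subtype.ext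
            obtain ⟨b, hb⟩ := Ideal.Quotient.mk_surjective (z : A ⧸ I)
            rw [Submodule.coe_smul, ← hb, Algebra.smul_def, Ideal.Quotient.algebraMap_eq,
              Ideal.Quotient.eq_zero_iff_mem.2 ha, zero_mul, Submodule.coe_zero])).trans
          ((LinearEquiv.ofEq _ _ (by rw [pow_zero, Ideal.one_eq_top, Submodule.top_smul])).trans Submodule.topEquiv)
        exact Module.Flat.of_linearEquiv (e.extendScalarsOfSurjective Ideal.Quotient.mk_surjective)
      · have h0 : (I ^ (k + 1) • (⊤ : Submodule A (A ⧸ I))) = ⊥ := by
          rw [eq_bot_iff, Submodule.smul_le]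
          intro a ha z _
          obtain ⟨b, rfl⟩ := Ideal.Quotient.mk_surjective z
          rw [Submodule.mem_bot, Algebra.smul_def, Ideal.Quotient.algebraMap_eq,
            Ideal.Quotient.eq_zero_iff_mem.2 (Ideal.pow_le_self k.succ_ne_zero ha), zero_mul]
        haveI : Subsingleton ↥(I ^ (k + 1) • (⊤ : Submodule A (A ⧸ I))) := by rw [h0]; infer_instance
        haveI := (Submodule.mkQ_surjective (I • (⊤ : Submodule A ↥(I ^ (k + 1) • (⊤ : Submodule A (A ⧸ I)))))).subsingleton
        infer_instance
    obtain ⟨N, hN⟩ := hI
    have hIq : ∀ q : PrimeSpectrum A, I ≤ q.asIdeal := fun q a ha => q.2.mem_of_pow_mem N (by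
      have h1 : a ^ N ∈ I ^ N := Ideal.pow_mem_pow ha N
      rw [hN] at h1
      rw [Ideal.zero_eq_bot, Ideal.mem_bot] at h1
      rw [h1]
      exact zero_mem _)
    have hsuppQ : ∀ q : PrimeSpectrum A, q ∈ Module.support A (A ⧸ I) := fun q => by
      rw [Module.support_eq_zeroLocus, Ideal.annihilator_quotient]
      exact hIq q
    let R := Localization.AtPrime p
    haveI : IsNoetherianRing R := IsLocalization.isNoetherianRing p.primeCompl _ ‹_›
    let J := I.map (algebraMap A R)
    have key : ∀ (X : Type u) [AddCommGroup X] [Module A X] [Module.Finite A X], Module.support A X = Set.univ →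
        EGA4.IsNormallyFlat I X → ∀ Q : PrimeSpectrum R,
          Module.supportDim (Localization.AtPrime Q.asIdeal) (LocalizedModule Q.asIdeal.primeCompl (LocalizedModule p.primeCompl X)) =
              ringKrullDim (Localization.AtPrime Q.asIdeal ⧸ J.map (algebraMap R (Localization.AtPrime Q.asIdeal))) ∧
            LocCoh.depth (Localization.AtPrime Q.asIdeal) (LocalizedModule Q.asIdeal.primeCompl (LocalizedModule p.primeCompl X)) =
              LocCoh.depth (Localization.AtPrime Q.asIdeal)
                (Localization.AtPrime Q.asIdeal ⧸ J.map (algebraMap R (Localization.AtPrime Q.asIdeal))) := by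
      intro X _ _ _ hX hflat Q
      haveI : IsNoetherianRing (Localization.AtPrime Q.asIdeal) :=
        IsLocalization.isNoetherianRing Q.asIdeal.primeCompl _ ‹_›
      haveI : Module.Finite R (LocalizedModule p.primeCompl X) :=
        Module.Finite.of_isLocalizedModule p.primeCompl (LocalizedModule.mkLinearMap p.primeCompl X)
      haveI : Module.Finite (Localization.AtPrime Q.asIdeal) (LocalizedModule Q.asIdeal.primeCompl (LocalizedModule p.primeCompl X)) :=
        Module.Finite.of_isLocalizedModule Q.asIdeal.primeCompl (LocalizedModule.mkLinearMap Q.asIdeal.primeCompl _)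
      haveI : Nontrivial (LocalizedModule Q.asIdeal.primeCompl (LocalizedModule p.primeCompl X)) := by
        let q : PrimeSpectrum A := PrimeSpectrum.comap (algebraMap A R) Q
        have hq : q ∈ Module.support A X := hX ▸ Set.mem_univ q
        obtain ⟨m, hm⟩ := Module.mem_support_iff'.1 hq
        show Q ∈ Module.support R (LocalizedModule p.primeCompl X)
        refine Module.mem_support_iff'.2 ⟨LocalizedModule.mkLinearMap p.primeCompl X m, fun r hr h0 => ?_⟩
        obtain ⟨⟨a, s⟩, has⟩ := IsLocalization.surj p.primeCompl r
        have h1 : a • LocalizedModule.mkLinearMap p.primeCompl X m = 0 := by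
          rw [← algebraMap_smul R a, ← has, mul_comm, mul_smul, h0, smul_zero]
        rw [← map_smul, LocalizedModule.mkLinearMap_apply, ← LocalizedModule.zero_mk 1, LocalizedModule.mk_eq] at h1
        obtain ⟨t, ht⟩ := h1
        simp only [one_smul, smul_zero, Submonoid.smul_def] at ht
        rw [smul_smul] at ht
        refine hm _ ?_ ht
        intro hmem
        have h3 : algebraMap A R ((t : A) * a) ∈ Q.asIdeal := hmem
        rw [map_mul, Ideal.unit_mul_mem_iff_mem _ (IsLocalization.map_units R t), ← has] at h3
        exact hr ((Ideal.mul_unit_mem_iff_mem _ (IsLocalization.map_units R s)).1 h3)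
      refine S2612.result _ _ ⟨N, ?_⟩ _ (NFDim6.isNormallyFlat_localized _ Q.asIdeal.primeCompl _
        (NFDim6.isNormallyFlat_localized I p.primeCompl X hflat))
      rw [← Ideal.map_pow, ← Ideal.map_pow, hN, Ideal.zero_eq_bot, Ideal.map_bot, Ideal.map_bot]
      rfl
    have hall : ∀ Q : PrimeSpectrum R, _ := fun Q =>
      And.intro ((key M hsupp hM Q).1.trans (key (A ⧸ I) (Set.eq_univ_of_forall hsuppQ) hquot Q).1.symm)
        ((key M hsupp hM Q).2.trans (key (A ⧸ I) (Set.eq_univ_of_forall hsuppQ) hquot Q).2.symm)
    refine ⟨forall_congr' fun Q => forall_congr' fun hQ => ?_, ?_⟩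
    · rw [(hall ⟨Q, hQ⟩).1, (hall ⟨Q, hQ⟩).2]
    · have base : ∀ (X : Type u) [AddCommGroup X] [Module A X] [Module.Finite A X], Module.support A X = Set.univ →
          EGA4.IsNormallyFlat I X →
            Module.supportDim R (LocalizedModule p.primeCompl X) = ringKrullDim (R ⧸ J) ∧
              LocCoh.depth R (LocalizedModule p.primeCompl X) = LocCoh.depth R (R ⧸ J) := by
        intro X _ _ _ hX hflat
        haveI : Module.Finite R (LocalizedModule p.primeCompl X) :=
          Module.Finite.of_isLocalizedModule p.primeCompl (LocalizedModule.mkLinearMap p.primeCompl X)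
        haveI : Nontrivial (LocalizedModule p.primeCompl X) := by
          show (⟨p, inferInstance⟩ : PrimeSpectrum A) ∈ Module.support A X
          rw [hX]; trivial
        exact S2612.result _ _ ⟨N, by rw [← Ideal.map_pow, hN, Ideal.zero_eq_bot, Ideal.map_bot]; rfl⟩ _
          (NFDim6.isNormallyFlat_localized I p.primeCompl X hflat)
      rw [(base M hsupp hM).1, (base M hsupp hM).2, (base (A ⧸ I) (Set.eq_univ_of_forall hsuppQ) hquot).1,
        (base (A ⧸ I) (Set.eq_univ_of_forall hsuppQ) hquot).2]

end Groth.Agent.S4734
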