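import Groth.Statements.S4735
import Groth.Agent.ZClosLib.StrictFib

set_option autoImplicit false
universe u
open EGA4

namespace Groth.Agent.S4735

/-- Let A be a strictly formally catenary Noetherian local ring. Then every Noetherian local ring B
which is an A-algebra essentially of finite type is strictly formally catenary. -/
theorem result (A : Type u) [CommRing A] [IsNoetherianRing A] [IsLocalRing A]
    (hA : EGA4.IsFormallyStrictlyCatenary A) (B : Type u) [CommRing B] [IsNoetherianRing B] [IsLocalRing B]
    [Algebra A B] [Algebra.EssFiniteType A B] : EGA4.IsFormallyStrictlyCatenary B := by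
  have hc : EGA4.IsFormallyCatenary A := fun p _ => by
    haveI : IsLocalRing (A ⧸ p) := .of_surjective' _ Ideal.Quotient.mk_surjective
    haveI := FlatLoc6.isNoetherianRing_cpl (A ⧸ p)
    intro q hq
    exact hA p q (Module.associatedPrimes.minimalPrimes_annihilator_subset_associatedPrimes (EGA4.Cpl (A ⧸ p))
      (EGA4.Cpl (A ⧸ p)) (by rwa [Module.annihilator_eq_bot.2 inferInstance]))
  refine ZClosLib.StrictFib.strict_of_fibS1 B (fun p _ => ?_)
    (ZClosLib.StrictFib.fibS1_of_essFiniteType A (ZClosLib.StrictFib.fibS1_of_strict A hA) B)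
  haveI : IsLocalRing (B ⧸ p) := .of_surjective' _ Ideal.Quotient.mk_surjective
  haveI : Algebra.EssFiniteType B (B ⧸ p) := inferInstance
  haveI := Algebra.EssFiniteType.comp A B (B ⧸ p)
  exact S2634.result A hc (B ⧸ p) (FormCat.isEquidim_quotient_prime B p)

end Groth.Agent.S4735
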