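import Groth.Statements.S4741
import Groth.Agent.DimFormula.Stalk
import Groth.Agent.FlatLoc6.DimEq
import Mathlib.RingTheory.Ideal.GoingDown
import Mathlib.AlgebraicGeometry.Morphisms.Flat

set_option autoImplicit false
universe u
open EGA4

namespace Groth.Agent.S4741

open AlgebraicGeometry CategoryTheory in
/-- Suppose X and Y are locally Noetherian schemes, f : X → Y is a morphism that is surjective, and Z is
a closed subset of Y. Then codim(f⁻¹(Z), X) ≤ codim(Z, Y), where the codimension of a closed subset
means the infimum over its points of the dimensions of the local rings there; when f is in addition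
flat, these two codimensions coincide. (In the published version the equality part assumes f
quasi-flat; here f is taken to be flat.) -/
theorem result {X Y : Scheme.{u}} (f : X ⟶ Y) [IsLocallyNoetherian X]
    [IsLocallyNoetherian Y] (hf : Function.Surjective f.base) (Z : Set Y) (hZ : IsClosed Z) :
    (⨅ x ∈ f.base ⁻¹' Z, ringKrullDim (X.presheaf.stalk x)) ≤ ⨅ y ∈ Z, ringKrullDim (Y.presheaf.stalk y) ∧
      (Flat f → (⨅ x ∈ f.base ⁻¹' Z, ringKrullDim (X.presheaf.stalk x)) = ⨅ y ∈ Z, ringKrullDim (Y.presheaf.stalk y)) := by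
    have key : ∀ y, ∃ x, f x = y ∧ ringKrullDim (X.presheaf.stalk x) ≤ ringKrullDim (Y.presheaf.stalk y) := by
      intro y
      obtain ⟨x₀, rfl⟩ := hf y
      let φ := (f.stalkMap x₀).hom
      let m := IsLocalRing.maximalIdeal (Y.presheaf.stalk (f x₀))
      have hle : m.map φ ≤ IsLocalRing.maximalIdeal (X.presheaf.stalk x₀) := IsLocalRing.map_maximalIdeal_le φ
      obtain ⟨a, ha, -⟩ := Ideal.exists_minimalPrimes_le hle
      let a' : PrimeSpectrum (X.presheaf.stalk x₀) := ⟨a, ha.1.1⟩
      let c : PrimeSpectrum (Y.presheaf.stalk (f x₀)) → Y := Y.fromSpecStalk (f x₀)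
      have hclosed : ∀ b : PrimeSpectrum (X.presheaf.stalk x₀), m.map φ ≤ b.asIdeal →
          f (X.fromSpecStalk x₀ b) = f x₀ := by
        intro b hb
        rw [← Groth.Agent.DimFormula.fromSpecStalk_comm f x₀ b]
        have : PrimeSpectrum.comap φ b = IsLocalRing.closedPoint _ := PrimeSpectrum.ext
          (le_antisymm (IsLocalRing.le_maximalIdeal (PrimeSpectrum.comap φ b).2.ne_top) (Ideal.map_le_iff_le_comap.1 hb))
        exact (congrArg c this).trans Scheme.fromSpecStalk_closedPoint
      set x := X.fromSpecStalk x₀ a' with hxdef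
      have hfx : f x = f x₀ := hclosed a' ha.1.2
      refine ⟨x, hfx, ?_⟩
      rw [← hfx]
      let ψ := (f.stalkMap x).hom
      letI : Algebra (Y.presheaf.stalk (f x)) (X.presheaf.stalk x) := ψ.toAlgebra
      haveI : IsLocalHom (algebraMap (Y.presheaf.stalk (f x)) (X.presheaf.stalk x)) :=
        inferInstanceAs (IsLocalHom ψ)
      have hfib : ringKrullDim (EGA4.FibRing (Y.presheaf.stalk (f x)) (X.presheaf.stalk x)) = 0 := by
        rw [ringKrullDim_quotient]
        have : Subsingleton (PrimeSpectrum.zeroLocus (EGA4.mB (Y.presheaf.stalk (f x)) (X.presheaf.stalk x) : Set (X.presheaf.stalk x))) := by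
          have hcl : ∀ b : PrimeSpectrum.zeroLocus (EGA4.mB (Y.presheaf.stalk (f x)) (X.presheaf.stalk x) : Set (X.presheaf.stalk x)),
              X.fromSpecStalk x b.1 = x := by
            rintro ⟨b, hb⟩
            have hfb : f (X.fromSpecStalk x b) = f x := by
              rw [← Groth.Agent.DimFormula.fromSpecStalk_comm f x b]
              have : PrimeSpectrum.comap ψ b = IsLocalRing.closedPoint _ := PrimeSpectrum.ext
                (le_antisymm (IsLocalRing.le_maximalIdeal (PrimeSpectrum.comap ψ b).2.ne_top)
                  (Ideal.map_le_iff_le_comap.1 hb))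
              exact (congrArg (fun w : PrimeSpectrum (Y.presheaf.stalk (f x)) => Y.fromSpecStalk (f x) w) this).trans Scheme.fromSpecStalk_closedPoint
            obtain ⟨(d : PrimeSpectrum (X.presheaf.stalk x₀)), hd⟩ := Groth.Agent.DimFormula.fromSpecStalk_range_of_specializes
              ((Groth.Agent.DimFormula.fromSpecStalk_specializes x b).trans
                (Groth.Agent.DimFormula.fromSpecStalk_specializes x₀ a'))
            have hdle : d ≤ a' := (PrimeSpectrum.le_iff_specializes d a').2
              ((X.fromSpecStalk x₀).isEmbedding.isInducing.specializes_iff.1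
                (hd ▸ Groth.Agent.DimFormula.fromSpecStalk_specializes x b))
            have hdm : m.map φ ≤ d.asIdeal := by
              rw [Ideal.map_le_iff_le_comap]
              have h1 : c (PrimeSpectrum.comap φ d) = c (IsLocalRing.closedPoint _) := by
                show Y.fromSpecStalk (f x₀) _ = Y.fromSpecStalk (f x₀) _
                refine (Groth.Agent.DimFormula.fromSpecStalk_comm f x₀ d).trans ?_
                rw [hd, hfb, hfx]
                exact Scheme.fromSpecStalk_closedPoint.symm
              exact (congrArg PrimeSpectrum.asIdeal ((Y.fromSpecStalk (f x₀)).isEmbedding.injective h1)).ge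
            have : d = a' := le_antisymm hdle (ha.2 ⟨d.2, hdm⟩ hdle)
            rw [← hd, this]
          exact ⟨fun b b' => Subtype.ext ((X.fromSpecStalk x).isEmbedding.injective ((hcl b).trans (hcl b').symm))⟩
        have : Nonempty (PrimeSpectrum.zeroLocus (EGA4.mB (Y.presheaf.stalk (f x)) (X.presheaf.stalk x) : Set (X.presheaf.stalk x))) :=
          ⟨⟨IsLocalRing.closedPoint _, IsLocalRing.map_maximalIdeal_le ψ⟩⟩
        exact Order.krullDim_eq_zero
      refine (Groth.Agent.FlatLoc6.ringKrullDim_le_add_fibre (A := Y.presheaf.stalk (f x)) (B := X.presheaf.stalk x)).trans ?_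
      rw [hfib, add_zero]
    have h1 : (⨅ x ∈ f.base ⁻¹' Z, ringKrullDim (X.presheaf.stalk x)) ≤ ⨅ y ∈ Z, ringKrullDim (Y.presheaf.stalk y) := by
      refine le_iInf₂ fun y hy => ?_
      obtain ⟨x, hx, hle⟩ := key y
      exact (iInf₂_le x (show f x ∈ Z from hx ▸ hy)).trans hle
    refine ⟨h1, fun hflat => le_antisymm h1 (le_iInf₂ fun x hx => (iInf₂_le (f x) hx).trans ?_)⟩
    let ψ := (f.stalkMap x).hom
    letI : Algebra (Y.presheaf.stalk (f x)) (X.presheaf.stalk x) := ψ.toAlgebra
    haveI : Module.Flat (Y.presheaf.stalk (f x)) (X.presheaf.stalk x) :=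
      (RingHom.flat_algebraMap_iff).1 (Flat.stalkMap f x)
    haveI : IsLocalHom (algebraMap (Y.presheaf.stalk (f x)) (X.presheaf.stalk x)) :=
      inferInstanceAs (IsLocalHom ψ)
    haveI : (IsLocalRing.maximalIdeal (X.presheaf.stalk x)).LiesOver (IsLocalRing.maximalIdeal (Y.presheaf.stalk (f x))) :=
      ⟨(IsLocalRing.maximalIdeal_comap _).symm⟩
    have key2 := Ideal.height_eq_height_add_of_liesOver_of_hasGoingDown
      (IsLocalRing.maximalIdeal (Y.presheaf.stalk (f x))) (IsLocalRing.maximalIdeal (X.presheaf.stalk x))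
    rw [← IsLocalRing.maximalIdeal_height_eq_ringKrullDim, ← IsLocalRing.maximalIdeal_height_eq_ringKrullDim, key2]
    exact WithBot.coe_le_coe.2 le_self_add

end Groth.Agent.S4741
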