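import Groth.Statements.S4742
import Groth.Agent.FlatLoc6.EquidimCat

set_option autoImplicit false
universe u
open EGA4

namespace Groth.Agent.S4742

/-- Let A be a Noetherian local ring which is equidimensional and catenary, t an element of A belonging
to a system of parameters (dim A/tA + 1 = dim A), and Z a set of prime ideals of A stable under
specialization. Write X = Spec A, X₀ = V(t), X₁ = X ∖ X₀ and Z₀ = Z ∩ X₀, Z₁ = Z ∩ X₁. Then
codim(Z₀, X₀) ≤ codim(Z, X) ≤ codim(Z₁, X₁), where each codimension is the infimum of the heights of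
the primes concerned, heights for Z₀ being taken in A/tA. -/
theorem result (A : Type u) [CommRing A] [IsNoetherianRing A] [IsLocalRing A]
    (hA : EGA4.IsEquidim A) (hA' : CAlg.IsCatenary A) (t : A)
    (ht : ringKrullDim (A ⧸ Ideal.span {t}) + 1 = ringKrullDim A) (Z : Set (PrimeSpectrum A))
    (hZ : StableUnderSpecialization Z) :
    (⨅ p ∈ {p ∈ Z | t ∈ p.asIdeal}, (p.asIdeal.map (Ideal.Quotient.mk (Ideal.span {t}))).height) ≤
        ⨅ p ∈ Z, p.asIdeal.height ∧
      (⨅ p ∈ Z, p.asIdeal.height) ≤ ⨅ p ∈ {p ∈ Z | t ∉ p.asIdeal}, p.asIdeal.height := by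
    have htm : t ∈ IsLocalRing.maximalIdeal A := by
      by_contra h
      have hu : Ideal.span {t} = ⊤ := Ideal.span_singleton_eq_top.2 (IsLocalRing.notMem_maximalIdeal.1 h)
      have : Subsingleton (A ⧸ Ideal.span {t}) := Ideal.Quotient.subsingleton_iff.2 hu
      rw [ringKrullDim_eq_bot_of_subsingleton, WithBot.bot_add] at ht
      exact ringKrullDim_ne_bot ht.symm
    have hmin : ∀ P ∈ minimalPrimes A, t ∉ P := by
      intro P hP htP
      have hle := ringKrullDim_le_of_surjective
        (Ideal.Quotient.factor ((Ideal.span_singleton_le_iff_mem P).2 htP)) (Ideal.Quotient.factor_surjective _)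
      rw [hA P hP] at hle
      obtain ⟨d, hd⟩ := WithBot.ne_bot_iff_exists.1 (ringKrullDim_ne_bot (R := A))
      obtain ⟨c, hc⟩ := WithBot.ne_bot_iff_exists.1 (ne_bot_of_le_ne_bot (ringKrullDim_ne_bot (R := A)) hle)
      rw [← hc, ← hd] at ht hle
      rw [← WithBot.coe_one, ← WithBot.coe_add, WithBot.coe_inj] at ht
      rw [WithBot.coe_le_coe] at hle
      have hdfin : d ≠ ⊤ := by
        intro h
        have h1 : (IsLocalRing.maximalIdeal A).height = d := WithBot.coe_injective (IsLocalRing.maximalIdeal_height_eq_ringKrullDim.trans hd.symm)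
        exact Ideal.height_ne_top (IsLocalRing.maximalIdeal.isMaximal A).ne_top (h1.trans h)
      rw [← ht] at hle hdfin
      exact absurd hle (not_le.2 (ENat.lt_add_one_iff (fun h => hdfin (by rw [h, top_add])) |>.2 le_rfl))
    refine ⟨le_iInf₂ fun p hp => ?_, le_iInf₂ fun p hp => iInf₂_le p hp.1⟩
    obtain ⟨q, hpq, htq, hq⟩ : ∃ q : PrimeSpectrum A, p ≤ q ∧ t ∈ q.asIdeal ∧ q.asIdeal.height ≤ p.asIdeal.height + 1 := by
      by_cases htp : t ∈ p.asIdeal
      · exact ⟨p, le_rfl, htp, le_self_add⟩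
      obtain ⟨Q, hQ, -⟩ := Ideal.exists_minimalPrimes_le
        (sup_le (IsLocalRing.le_maximalIdeal p.2.ne_top) ((Ideal.span_singleton_le_iff_mem _).2 htm))
      let q : PrimeSpectrum A := ⟨Q, hQ.1.1⟩
      have hcov := Groth.Agent.FlatLoc6.covBy_of_minimalPrimes (q := q) htp hQ
      refine ⟨q, hcov.le, hQ.1.2 (Ideal.mem_sup_right (Ideal.mem_span_singleton_self t)), le_of_eq ?_⟩
      have h1 := Groth.Agent.FlatLoc6.height_add_ringKrullDim_quotient hA hA' p.asIdeal
      have h2 := Groth.Agent.FlatLoc6.height_add_ringKrullDim_quotient hA hA' q.asIdeal (hp := q.2)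
      rw [Groth.Agent.FlatLoc6.ringKrullDim_quotient_covBy hA' hcov, ← h2] at h1
      obtain ⟨c, -, -, -, hc⟩ := Groth.Agent.FlatLoc6.exists_saturated_to_closedPoint q
      rw [← hc, ← WithBot.coe_one, ← WithBot.coe_add, ← WithBot.coe_add, ← WithBot.coe_add, WithBot.coe_inj,
        add_comm (c.length : ℕ∞) 1, ← add_assoc] at h1
      exact ((ENat.add_left_injective_of_ne_top (ENat.natCast_ne_top c.length)) h1).symm
    refine (iInf₂_le q ⟨hZ ((PrimeSpectrum.le_iff_specializes p q).1 hpq) hp, htq⟩).trans ?_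
    exact (ENat.add_le_add_iff_right ENat.one_ne_top).1
      ((Groth.Agent.FlatLoc6.height_map_add_one_le hmin htq).trans hq)

end Groth.Agent.S4742
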