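import Groth.Statements.S4744
import Groth.Agent.FlatLoc6.FiberComp
import Groth.Agent.FlatLoc6.Cpl
import Groth.Agent.FlatLoc6.RegCM

set_option autoImplicit false
universe u
open EGA4

namespace Groth.Agent.S4744

/-- Let A → A' be a flat local homomorphism of Noetherian local rings all of whose fibre rings k(p) ⊗_A
A' are Cohen–Macaulay. If the completion map of A' is regular (the formal fibres of A' are
geometrically regular), then the formal fibres of A are Cohen–Macaulay. -/
theorem result (A A' : Type u) [CommRing A] [CommRing A'] [IsNoetherianRing A]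
    [IsNoetherianRing A'] [IsLocalRing A] [IsLocalRing A'] [Algebra A A'] [IsLocalHom (algebraMap A A')]
    [Module.Flat A A'] (hf : ∀ (p : Ideal A) [p.IsPrime], LocCoh.IsCohenMacaulayRing (p.Fiber A'))
    (hA' : CAlg.IsRegularHom A' (EGA4.Cpl A')) : EGA4.HasCMFormalFibres A := by
    intro p _
    obtain ⟨_, _, _⟩ := FlatLoc6.exists_cplHom A A'
    haveI := FlatLoc6.isNoetherianRing_cpl A
    haveI := FlatLoc6.isNoetherianRing_cpl A'
    haveI := FlatLoc6.faithfullyFlat_cpl A'
    refine FlatLoc6.fiber_isCM_of_fib_eq p fun q _ hq => ?_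
    obtain ⟨q', hq'p, hq', h0, h0'⟩ := FlatLoc6.exists_fib_zero (C := EGA4.Cpl A') q
    obtain ⟨h1, h2⟩ := FlatLoc6.fib_comp (A := A) (B := EGA4.Cpl A) q'
    obtain ⟨g1, g2⟩ := FlatLoc6.fib_comp (A := A) (B := A') q'
    subst hq'
    rw [h0, add_zero] at h1
    rw [h0', add_zero] at h2
    rw [← h1, ← h2, g1, g2]
    have hp : (q'.comap (algebraMap A' (EGA4.Cpl A'))).comap (algebraMap A A') = p := by
      rw [Ideal.comap_comap, ← IsScalarTower.algebraMap_eq, IsScalarTower.algebraMap_eq A (EGA4.Cpl A) (EGA4.Cpl A'),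
        ← Ideal.comap_comap, hq]
    haveI := hf p
    haveI := FlatLoc6.isCM_of_geometricallyRegular
      (hA'.2 (q'.comap (algebraMap A' (EGA4.Cpl A')))).2
    rw [FlatLoc6.fib_eq_of_fiber_isCM p _ hp,
      FlatLoc6.fib_eq_of_fiber_isCM (q'.comap (algebraMap A' (EGA4.Cpl A'))) q' rfl]
    norm_cast

end Groth.Agent.S4744
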