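import Groth.Statements.S4746
import Groth.Agent.CplFib6.Reduced
import Groth.Agent.CplFib6.ClosedRed
import Groth.Agent.CplFib6.Setup
import Groth.Agent.FlatLoc6.GeomComp

set_option autoImplicit false
universe u
open EGA4

namespace Groth.Agent.S4746

/-- For the property 'reduced': let A → B be a local homomorphism of Noetherian local rings making B a
flat A-module, such that the residue field of B is a finite extension of the residue field k of A,
and such that the formal fibres of A are geometrically reduced. If the k-algebra k ⊗_A B̂, where B̂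
is the completion of B, is geometrically reduced over k, then every fibre k(p) ⊗_A B of A → B is
geometrically reduced over k(p). -/
theorem result (A B : Type u) [CommRing A] [CommRing B]
    [IsNoetherianRing A] [IsNoetherianRing B] [IsLocalRing A] [IsLocalRing B] [Algebra A B]
    [IsLocalHom (algebraMap A B)] [Module.Flat A B]
    [Module.Finite (IsLocalRing.ResidueField A) (IsLocalRing.ResidueField B)]
    (hA : EGA4.HasGeomReducedFormalFibres A)
    (h : Algebra.IsGeometricallyReduced (IsLocalRing.maximalIdeal A).ResidueField
      ((IsLocalRing.maximalIdeal A).Fiber (EGA4.Cpl B))) :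
    ∀ (p : Ideal A) [p.IsPrime], Algebra.IsGeometricallyReduced p.ResidueField (p.Fiber B) := by
  haveI := FlatLoc6.isNoetherianRing_cpl A
  haveI := FlatLoc6.isNoetherianRing_cpl B
  haveI := FlatLoc6.isLocalRing_cpl A
  haveI := FlatLoc6.isLocalRing_cpl B
  haveI := CplFib6.isAdicComplete_cpl A
  obtain ⟨_, hT, hff⟩ := FlatLoc6.exists_cplHom A B
  haveI := hT
  haveI := hff
  haveI := FlatLoc6.faithfullyFlat_cpl B
  haveI : IsLocalHom (algebraMap (EGA4.Cpl A) (EGA4.Cpl B)) := ((IsLocalRing.local_hom_TFAE _).out 0 2).mpr (by
    rw [AdicCompletion.maximalIdeal_eq_map_of_fg (IsNoetherian.noetherian (IsLocalRing.maximalIdeal A)), Ideal.map_map,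
      ← IsScalarTower.algebraMap_eq, IsScalarTower.algebraMap_eq A B, ← Ideal.map_map,
      AdicCompletion.maximalIdeal_eq_map_of_fg (IsNoetherian.noetherian (IsLocalRing.maximalIdeal B))]
    exact Ideal.map_mono (IsLocalRing.map_maximalIdeal_le _))
  intro p _
  refine FlatLoc6.geomReduced_fibres_cancel A B (EGA4.Cpl B) (fun q _ => ?_) p
  refine FlatLoc6.geomReduced_fibres_comp A (EGA4.Cpl A) (EGA4.Cpl B) hA (fun P _ => ?_) q
  refine CplFib6.geomReduced_fibre (fun L _ _ hL => ?_) P
  exact CplFib6.isReduced_closed (A := A)
    (AdicCompletion.maximalIdeal_eq_map_of_fg (IsNoetherian.noetherian _)) (CplFib6.exists_sub_mem A) h L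

end Groth.Agent.S4746
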