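import Groth.Statements.S4747
import Groth.Agent.CplFib6.CMFibres
import Groth.Agent.CplFib6.Setup

set_option autoImplicit false
universe u
open EGA4

namespace Groth.Agent.S4747

open TensorProduct in
/-- For the property 'Cohen–Macaulay': let A → B be a local homomorphism of Noetherian local rings
making B a flat A-module, such that the residue field of B is a finite extension of the residue
field k of A, and such that the formal fibres of A are Cohen–Macaulay. If for every finite extension
k' of k the ring k' ⊗_k (k ⊗_A B̂) is Cohen–Macaulay (B̂ the completion of B), then for every prime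
p of A and every finite extension K of k(p) the ring K ⊗_{k(p)} (k(p) ⊗_A B) is Cohen–Macaulay; in
particular all fibres of A → B are Cohen–Macaulay. -/
theorem result (A B : Type u) [CommRing A] [CommRing B]
    [IsNoetherianRing A] [IsNoetherianRing B] [IsLocalRing A] [IsLocalRing B] [Algebra A B]
    [IsLocalHom (algebraMap A B)] [Module.Flat A B]
    [Module.Finite (IsLocalRing.ResidueField A) (IsLocalRing.ResidueField B)]
    (hA : EGA4.HasCMFormalFibres A)
    (h : ∀ (k' : Type u) [Field k'] [Algebra (IsLocalRing.maximalIdeal A).ResidueField k'],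
      Module.Finite (IsLocalRing.maximalIdeal A).ResidueField k' →
        LocCoh.IsCohenMacaulayRing (k' ⊗[(IsLocalRing.maximalIdeal A).ResidueField]
          ((IsLocalRing.maximalIdeal A).Fiber (EGA4.Cpl B)))) :
    ∀ (p : Ideal A) [p.IsPrime] (K : Type u) [Field K] [Algebra p.ResidueField K],
      Module.Finite p.ResidueField K → LocCoh.IsCohenMacaulayRing (K ⊗[p.ResidueField] (p.Fiber B)) := by
  haveI := FlatLoc6.isNoetherianRing_cpl A
  haveI := FlatLoc6.isNoetherianRing_cpl B
  haveI := FlatLoc6.isLocalRing_cpl A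
  haveI := FlatLoc6.isLocalRing_cpl B
  haveI := CplFib6.isAdicComplete_cpl A
  haveI := CplFib6.isAdicComplete_cpl B
  obtain ⟨_, hT, hff⟩ := FlatLoc6.exists_cplHom A B
  haveI := hT
  haveI := hff
  haveI : IsLocalHom (algebraMap (EGA4.Cpl A) (EGA4.Cpl B)) := ((IsLocalRing.local_hom_TFAE _).out 0 2).mpr (by
    rw [AdicCompletion.maximalIdeal_eq_map_of_fg (IsNoetherian.noetherian (IsLocalRing.maximalIdeal A)), Ideal.map_map,
      ← IsScalarTower.algebraMap_eq, IsScalarTower.algebraMap_eq A B, ← Ideal.map_map,
      AdicCompletion.maximalIdeal_eq_map_of_fg (IsNoetherian.noetherian (IsLocalRing.maximalIdeal B))]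
    exact Ideal.map_mono (IsLocalRing.map_maximalIdeal_le _))
  haveI := CplFib6.finite_residue_cpl A B
  obtain ⟨e⟩ := CplFib6.closedFibre_equiv A B
  have hCM : LocCoh.IsCohenMacaulayRing (EGA4.FibRing (EGA4.Cpl A) (EGA4.Cpl B)) :=
    FlatLoc6.isCM_of_ringEquiv ((Algebra.TensorProduct.lid (IsLocalRing.maximalIdeal A).ResidueField
      ((IsLocalRing.maximalIdeal A).Fiber (EGA4.Cpl B))).toRingEquiv.trans e)
      (h (IsLocalRing.maximalIdeal A).ResidueField inferInstance)
  intro p _ K _ _ hK
  haveI := hK
  letI : Algebra A K := ((algebraMap p.ResidueField K).comp (algebraMap A p.ResidueField)).toAlgebra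
  haveI : IsScalarTower A p.ResidueField K := IsScalarTower.of_algebraMap_eq' rfl
  haveI : Algebra.EssFiniteType A K := Algebra.EssFiniteType.comp A p.ResidueField K
  haveI : LocCoh.IsCohenMacaulayRing (EGA4.Cpl A ⊗[A] K) := by
    haveI : LocCoh.IsCohenMacaulayRing (p.Fiber (EGA4.Cpl A)) := hA p
    exact FlatLoc6.isCM_of_ringEquiv
      ((Algebra.TensorProduct.cancelBaseChange A p.ResidueField K K (EGA4.Cpl A)).toRingEquiv.trans
        (Algebra.TensorProduct.comm A K (EGA4.Cpl A)).toRingEquiv)
      (CplFib6.isCM_tensor_of_essFin p.ResidueField (p.Fiber (EGA4.Cpl A)) K)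
  haveI := CplFib6.isCM_baseChange (A := A) (fun P _ => CplFib6.isCM_fibre (C := EGA4.Cpl A) (D := EGA4.Cpl B) hCM P) K
  -- descend along the completion of B
  haveI := FlatLoc6.faithfullyFlat_cpl B
  haveI hCMD : LocCoh.IsCohenMacaulayRing (K ⊗[p.ResidueField] p.Fiber (EGA4.Cpl B)) :=
    FlatLoc6.isCM_of_ringEquiv (Algebra.TensorProduct.cancelBaseChange A p.ResidueField K K (EGA4.Cpl B)).symm.toRingEquiv
      inferInstance
  exact CplFib6.isCM_descend A B (EGA4.Cpl B) p K hCMD

end Groth.Agent.S4747
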