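import Groth.Statements.S4748
import Groth.Agent.FlatLoc6.GeomComp
import Groth.Agent.S9256

set_option autoImplicit false
universe u
open EGA4

namespace Groth.Agent.S4748

open TensorProduct in
/-- For the property 'normal' (affine form): let k be a field, S a Noetherian k-algebra and k' an
extension field of k such that S is of finite type over k or k' is essentially of finite type over
k; let q' be a prime of S ⊗_k k' and q its contraction to S. If (S ⊗_k k')_{q'} is an integrally
closed domain then so is S_q; conversely, if k' is separable over k (geometrically reduced) and S_q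
is an integrally closed domain, then so is (S ⊗_k k')_{q'}. -/
theorem result (k S k' : Type u) [Field k] [CommRing S] [Algebra k S]
    [IsNoetherianRing S] [Field k'] [Algebra k k'] (hft : Algebra.FiniteType k S ∨ Algebra.EssFiniteType k k')
    [IsNoetherianRing (S ⊗[k] k')] (q' : Ideal (S ⊗[k] k')) [q'.IsPrime] :
    ((IsDomain (Localization.AtPrime q') ∧ IsIntegrallyClosed (Localization.AtPrime q')) →
        (IsDomain (Localization.AtPrime (q'.comap (algebraMap S (S ⊗[k] k')))) ∧
          IsIntegrallyClosed (Localization.AtPrime (q'.comap (algebraMap S (S ⊗[k] k')))))) ∧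
      (Algebra.IsGeometricallyReduced k k' →
        (IsDomain (Localization.AtPrime (q'.comap (algebraMap S (S ⊗[k] k')))) ∧
          IsIntegrallyClosed (Localization.AtPrime (q'.comap (algebraMap S (S ⊗[k] k'))))) →
          (IsDomain (Localization.AtPrime q') ∧ IsIntegrallyClosed (Localization.AtPrime q'))) := by
    refine ⟨fun ⟨h1, h2⟩ => ?_, fun hk ⟨h1, h2⟩ => ?_⟩
    · haveI := h1; haveI := h2
      exact S2610.result S (S ⊗[k] k') q'
    · haveI := h1; haveI := h2
      refine S2611.result S (S ⊗[k] k') (fun P _ => FlatLoc6.fibLocRing_normal_of_fiber _ P rfl ?_) q'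
      obtain ⟨e'⟩ := FlatLoc6.exists_fiberTensorEquiv (k := k) (S := S) (T := k') (P.comap (algebraMap S (S ⊗[k] k')))
      have hft' : Algebra.EssFiniteType k (P.comap (algebraMap S (S ⊗[k] k'))).ResidueField ∨
          Algebra.EssFiniteType k k' := hft.elim (fun hS => Or.inl (@FlatLoc6.essFiniteType_residueField k S _ _ _ hS _ _)) Or.inr
      haveI := FlatLoc6.regular_tensor_arb k (P.comap (algebraMap S (S ⊗[k] k'))).ResidueField k' hft'
        ((S9256.fibre_iff k k').mpr hk)
      exact FlatLoc6.isNormalRing_of_ringEquiv e'.symm (FlatLoc6.isNormalRing_of_isRegularRing _)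

end Groth.Agent.S4748
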