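import Groth.Statements.S4749
import Groth.Agent.FlatLoc6.BaseChangeHom

set_option autoImplicit false
universe u
open EGA4

namespace Groth.Agent.S4749

open TensorProduct in
/-- Case of normal morphisms, affine form: let A → B be a homomorphism of Noetherian rings and A' a
Noetherian A-algebra, and assume that B or A' is of finite type over A. If A → B is normal then the
base change A' → A' ⊗_A B is normal; the converse holds when A' is faithfully flat over A. -/
theorem result (A B A' : Type u) [CommRing A] [CommRing B] [CommRing A']
    [IsNoetherianRing A] [IsNoetherianRing B] [IsNoetherianRing A'] [Algebra A B] [Algebra A A']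
    (hft : Algebra.FiniteType A B ∨ Algebra.FiniteType A A') :
    (EGA4.IsNormalHom A B → EGA4.IsNormalHom A' (A' ⊗[A] B)) ∧
      (Module.FaithfullyFlat A A' → EGA4.IsNormalHom A' (A' ⊗[A] B) → EGA4.IsNormalHom A B) := by
    refine ⟨fun h => FlatLoc6.isNormalHom_baseChange A B A' hft h, fun hff h => ?_⟩
    haveI := hff
    haveI := h.1
    haveI : Module.Flat A B := Module.Flat.of_flat_tensorProduct (R := A) (M := B) A'
    haveI := FlatLoc6.isNoetherianRing_baseChange A B A' hft
    refine ⟨inferInstance, fun p _ k' _ _ hk => ?_⟩
    refine (FlatLoc6.permanence_normal.of_baseChange A B A' (fun p' _ L _ _ hL => ⟨?_, h.2 p' L hL⟩) p k').2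
    haveI := FlatLoc6.isNoetherianRing_fiber (B := A' ⊗[A] B) p'
    haveI := hL
    exact FlatLoc6.isNoetherianRing_tensor_finite p'.ResidueField L _

end Groth.Agent.S4749
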