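import Groth.Statements.S4750
import Groth.Agent.FlatLoc6.FiberComp

set_option autoImplicit false
universe u
open EGA4

namespace Groth.Agent.S4750

/-- Let A → B → C be homomorphisms of Noetherian rings, both flat and with (S_n) fibres. Then the
composite A → C is flat with (S_n) fibres. -/
theorem result (n : ℕ) (A B C : Type u) [CommRing A] [CommRing B] [CommRing C] [IsNoetherianRing A]
    [IsNoetherianRing B] [IsNoetherianRing C] [Algebra A B] [Algebra B C] [Algebra A C] [IsScalarTower A B C]
    [Module.Flat A B] [Module.Flat B C]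
    (hAB : ∀ (p : Ideal A) [p.IsPrime], LocCoh.HasSk n (p.Fiber B) (p.Fiber B))
    (hBC : ∀ (q : Ideal B) [q.IsPrime], LocCoh.HasSk n (q.Fiber C) (q.Fiber C)) :
    Module.Flat A C ∧ ∀ (p : Ideal A) [p.IsPrime], LocCoh.HasSk n (p.Fiber C) (p.Fiber C) := by
    haveI : Module.Flat A C := Module.Flat.trans A B C
    refine ⟨inferInstance, fun p _ => FlatLoc6.fiber_hasSk_of_fib_le n p fun q' _ hq' => ?_⟩
    have hp : (q'.comap (algebraMap B C)).comap (algebraMap A B) = p := by
      rw [Ideal.comap_comap, ← IsScalarTower.algebraMap_eq, hq']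
    obtain ⟨h1, h2⟩ := FlatLoc6.fib_comp (A := A) (B := B) q'
    rw [h1, h2]
    refine FlatLoc6.sk_add (FlatLoc6.fibDim_ne_bot B _ ?_) (FlatLoc6.fibDim_ne_bot C q' ?_)
      (FlatLoc6.fib_le_of_fiber_hasSk n p _ hp (hAB p)) (FlatLoc6.fib_le_of_fiber_hasSk n _ q' rfl (hBC _))
    · rw [Module.mem_support_iff]
      exact (LC.selfLoc (q'.comap (algebraMap B C)).primeCompl).toEquiv.nontrivial
    · rw [Module.mem_support_iff]
      exact (LC.selfLoc q'.primeCompl).toEquiv.nontrivial

end Groth.Agent.S4750
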