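import Groth.Statements.S4751
import Groth.Agent.FlatLoc6.FiberComp

set_option autoImplicit false
universe u
open EGA4

namespace Groth.Agent.S4751

/-- Let A → B → C be homomorphisms of Noetherian rings such that B → C is faithfully flat with (S_n)
fibres and the composite A → C is flat with (S_n) fibres. Then A → B is flat with (S_n) fibres. -/
theorem result (n : ℕ) (A B C : Type u) [CommRing A] [CommRing B] [CommRing C]
    [IsNoetherianRing A] [IsNoetherianRing B] [IsNoetherianRing C] [Algebra A B] [Algebra B C] [Algebra A C]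
    [IsScalarTower A B C] [Module.FaithfullyFlat B C] [Module.Flat A C]
    (hBC : ∀ (q : Ideal B) [q.IsPrime], LocCoh.HasSk n (q.Fiber C) (q.Fiber C))
    (hAC : ∀ (p : Ideal A) [p.IsPrime], LocCoh.HasSk n (p.Fiber C) (p.Fiber C)) :
    Module.Flat A B ∧ ∀ (p : Ideal A) [p.IsPrime], LocCoh.HasSk n (p.Fiber B) (p.Fiber B) := by
    refine ⟨FlatLoc6.flat_left_of_faithfullyFlat A B C, fun p _ => FlatLoc6.fiber_hasSk_of_fib_le n p fun q _ hq => ?_⟩
    obtain ⟨q', hq'p, hq', h0, h0'⟩ := FlatLoc6.exists_fib_zero (C := C) q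
    obtain ⟨h1, h2⟩ := FlatLoc6.fib_comp (A := A) (B := B) q'
    subst hq'
    rw [h0, add_zero] at h1
    rw [h0', add_zero] at h2
    rw [← h1, ← h2]
    exact FlatLoc6.fib_le_of_fiber_hasSk n p q' (by rw [IsScalarTower.algebraMap_eq A B C, ← Ideal.comap_comap, hq]) (hAC p)

end Groth.Agent.S4751
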