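import Groth.Statements.S4759
import Groth.Agent.MorLib.LimCons

set_option autoImplicit false
universe u
open CategoryTheory AlgebraicGeometry
open Lim8

namespace Groth.Agent.S4759

/-- Let S = lim S_i be a cofiltered limit of schemes with affine transition maps, some stage S_{i₀}
being quasi-compact and quasi-separated. Then every constructible subset Z of S is the preimage
under the projection S ⟶ S_i of a constructible subset of S_i, for some index i over i₀. -/
theorem result {I : Type u} [SmallCategory I] [IsCofiltered I]
    (D : I ⥤ Scheme.{u}) (c : Limits.Cone D) (hc : Limits.IsLimit c)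
    [∀ (i j : I) (f : i ⟶ j), IsAffineHom (D.map f)] (i₀ : I) [CompactSpace (D.obj i₀)]
    [QuasiSeparatedSpace (D.obj i₀)] (Z : Set c.pt) (hZ : Topology.IsConstructible Z) :
    ∃ (i : I) (_ : i ⟶ i₀) (Zi : Set (D.obj i)),
      Topology.IsConstructible Zi ∧ (⇑(c.π.app i) ⁻¹' Zi : Set c.pt) = Z := by
  haveI : ∀ {i j : I} (f : i ⟶ j), IsAffineHom (D.map f) := fun f => inferInstance
  exact MorLib.LimCons.exists_isConstructible_preimage_eq hc i₀ hZ

end Groth.Agent.S4759
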