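import Groth.Statements.S4767
import Groth.Agent.MorLib.LimCons

set_option autoImplicit false
universe u
open CategoryTheory AlgebraicGeometry
open Lim8

namespace Groth.Agent.S4767

/-- Let S = lim S_i be a cofiltered limit of schemes with affine transition maps, some stage S_{i₀}
being quasi-compact and quasi-separated, and assume that the underlying topological space of S is
Noetherian. If S is not irreducible, then there is an index i over i₀ such that S_j is not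
irreducible for every index j over i. -/
theorem result {I : Type u} [SmallCategory I] [IsCofiltered I]
    (D : I ⥤ Scheme.{u}) (c : Limits.Cone D) (hc : Limits.IsLimit c)
    [∀ (i j : I) (f : i ⟶ j), IsAffineHom (D.map f)] (i₀ : I)
    [CompactSpace (D.obj i₀)] [QuasiSeparatedSpace (D.obj i₀)]
    [TopologicalSpace.NoetherianSpace c.pt] (h : ¬ IrreducibleSpace c.pt) :
    ∃ (i : I) (_ : i ⟶ i₀), ∀ (j : I) (_ : j ⟶ i), ¬ IrreducibleSpace (D.obj j) := by
  haveI : ∀ {i j : I} (f : i ⟶ j), IsAffineHom (D.map f) := fun f => inferInstance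
  haveI := isAffineHom_π_app D c hc i₀
  by_cases hne : Nonempty c.pt
  · obtain ⟨U, W, hU, hW, ⟨u, hu⟩, ⟨w, hw⟩, hUW⟩ : ∃ U W : Set c.pt, IsOpen U ∧ IsOpen W ∧
        U.Nonempty ∧ W.Nonempty ∧ U ∩ W = ∅ := by
      by_contra hcon
      push Not at hcon
      refine h ?_
      haveI : PreirreducibleSpace c.pt := ⟨fun U W hU hW ⟨u, _, hu⟩ ⟨w, _, hw⟩ => by
        obtain ⟨x, hx⟩ := hcon U W hU hW ⟨u, hu⟩ ⟨w, hw⟩
        exact ⟨x, trivial, hx⟩⟩
      exact ⟨hne⟩
    obtain ⟨a, A, hA, hA'⟩ := exists_preimage_eq D c hc ⟨U, hU⟩ (TopologicalSpace.NoetherianSpace.isCompact _)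
    obtain ⟨b, B, hB, hB'⟩ := exists_preimage_eq D c hc ⟨W, hW⟩ (TopologicalSpace.NoetherianSpace.isCompact _)
    let m := IsCofiltered.min (IsCofiltered.min a b) i₀
    let p : m ⟶ i₀ := IsCofiltered.minToRight _ _
    let fa : m ⟶ a := IsCofiltered.minToLeft _ _ ≫ IsCofiltered.minToLeft a b
    let fb : m ⟶ b := IsCofiltered.minToLeft _ _ ≫ IsCofiltered.minToRight a b
    haveI : CompactSpace (D.obj m) := QuasiCompact.compactSpace_of_compactSpace (D.map p)
    haveI : QuasiSeparatedSpace (D.obj m) := quasiSeparatedSpace_of_quasiSeparated (D.map p)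
    let A' := D.map fa ⁻¹ᵁ A
    let B' := D.map fb ⁻¹ᵁ B
    have hAm : ∀ s, c.π.app m s ∈ A' ↔ s ∈ U := fun s => by
      show D.map fa (c.π.app m s) ∈ A ↔ s ∈ U
      rw [← Scheme.Hom.comp_apply, c.w]
      exact SetLike.ext_iff.mp hA' s
    have hBm : ∀ s, c.π.app m s ∈ B' ↔ s ∈ W := fun s => by
      show D.map fb (c.π.app m s) ∈ B ↔ s ∈ W
      rw [← Scheme.Hom.comp_apply, c.w]
      exact SetLike.ext_iff.mp hB' s
    obtain ⟨j, φ, hj⟩ := MorLib.LimCons.exists_subset_open hc m A'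
      ((D.map fa).isCompact_preimage hA) (A := (B' : Set _)) (B := ∅)
      (EGA41Lib.lc_iff.mp ((((D.map fb).isCompact_preimage hB).isConstructible B'.2).isLocallyConstructible)).2
      (MorLib.LimCons.ind_of_isOpen isOpen_empty)
      (fun s hs => (Set.eq_empty_iff_forall_notMem.mp hUW s ⟨(hAm s).mp hs.1, (hBm s).mp hs.2⟩).elim)
    refine ⟨j, φ ≫ p, fun k ψ hk => ?_⟩
    have h1 : ((D.map (ψ ≫ φ) ⁻¹ᵁ A' : (D.obj k).Opens) : Set _).Nonempty := ⟨c.π.app k u, by
      show D.map (ψ ≫ φ) (c.π.app k u) ∈ A'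
      rw [← Scheme.Hom.comp_apply, c.w]; exact (hAm u).mpr hu⟩
    have h2 : ((D.map (ψ ≫ φ) ⁻¹ᵁ B' : (D.obj k).Opens) : Set _).Nonempty := ⟨c.π.app k w, by
      show D.map (ψ ≫ φ) (c.π.app k w) ∈ B'
      rw [← Scheme.Hom.comp_apply, c.w]; exact (hBm w).mpr hw⟩
    obtain ⟨x, hxA, hxB⟩ := nonempty_preirreducible_inter (D.map (ψ ≫ φ) ⁻¹ᵁ A').2
      (D.map (ψ ≫ φ) ⁻¹ᵁ B').2 h1 h2
    change D.map (ψ ≫ φ) x ∈ A' at hxA
    change D.map (ψ ≫ φ) x ∈ B' at hxB
    rw [D.map_comp, Scheme.Hom.comp_apply] at hxA hxB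
    exact hj ⟨hxA, hxB⟩
  · by_contra hn
    push Not at hn
    obtain ⟨s, -⟩ := MorLib.LimPro.exists_mem hc i₀ (fun j => Set.univ)
      (fun j _ => MorLib.LimCons.pro_univ) (fun _ _ _ _ _ => trivial) (fun j φ => by
        obtain ⟨k, g, hk⟩ := hn j φ
        obtain ⟨y⟩ := hk.toNonempty
        exact ⟨D.map g y, trivial⟩)
    exact hne ⟨s⟩

end Groth.Agent.S4767
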