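import Groth.Statements.S4772
import Groth.Agent.MorLib.LimTop

set_option autoImplicit false
universe u
open CategoryTheory AlgebraicGeometry
open Lim8

namespace Groth.Agent.S4772

/-- Let S = lim S_i be a cofiltered limit of schemes whose transition maps are affine and dominant, some
stage S_{i₀} being quasi-compact. Then S is connected (in particular nonempty) if and only if there
is an index i over i₀ such that S_j is connected for every j over i. -/
theorem result {I : Type u} [SmallCategory I] [IsCofiltered I]
    (D : I ⥤ Scheme.{u}) (c : Limits.Cone D) (hc : Limits.IsLimit c)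
    [∀ (i j : I) (f : i ⟶ j), IsAffineHom (D.map f)] (i₀ : I)
    [CompactSpace (D.obj i₀)] (hd : ∀ (i j : I) (φ : i ⟶ j), IsDominant (D.map φ)) :
    ConnectedSpace c.pt ↔ ∃ (i : I) (_ : i ⟶ i₀), ∀ (j : I) (_ : j ⟶ i), ConnectedSpace (D.obj j) := by
  haveI : ∀ {i j : I} (f : i ⟶ j), IsAffineHom (D.map f) := fun f => inferInstance
  exact MorLib.LimTop.connectedSpace_iff hc i₀ hd

end Groth.Agent.S4772
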