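import Groth.Statements.S4773
import Groth.Agent.GeomField.Connected

set_option autoImplicit false
set_option backward.isDefEq.respectTransparency false
set_option backward.isDefEq.respectTransparency.types false
universe u
open CategoryTheory AlgebraicGeometry
open Lim8

namespace Groth.Agent.S4773

/-- Let k be a field and X a quasi-compact scheme over k. Then X is geometrically connected over k if
and only if, for every finite separable field extension K of k, the base change X ⊗_k K is
connected. Connectedness includes being nonempty on both sides. -/
theorem result {k : Type u} [Field k]
    {X : Scheme.{u}} (f : X ⟶ Spec (CommRingCat.of k)) [CompactSpace X] :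
    GeometricallyConnected f ↔
      ∀ (K : Type u) [Field K] [Algebra k K] [Module.Finite k K] [Algebra.IsSeparable k K],
        ConnectedSpace ↑(Limits.pullback f (Spec.map (CommRingCat.ofHom (algebraMap k K)))) := by
  letI : X.Over (Spec (CommRingCat.of k)) := ⟨f⟩
  exact ⟨fun h K _ _ _ _ => pullback_of_geometrically h.geometrically_connectedSpace K _,
    fun h => GeomField.geometricallyConnected_of_finiteSeparable (k := k) (X := X)
      (fun K _ _ _ _ => h K)⟩

end Groth.Agent.S4773
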