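import Groth.Statements.S4776
import Groth.Agent.MorLib.LimFlat
import Groth.Agent.MorLib.LimTop
import Groth.Agent.FBaseLib.Basic

set_option autoImplicit false
universe u
open CategoryTheory AlgebraicGeometry
open Lim8

namespace Groth.Agent.S4776

/-- Let S = lim S_i be a cofiltered limit of schemes whose transition maps are affine, flat and
surjective, some stage S_{i₀} being quasi-compact, and assume that the underlying topological space
of S is Noetherian. Then S is integral if and only if there is an index i over i₀ such that S_j is
integral for every j over i. (The published statement carries neither the quasi-compactness nor the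
Noetherian hypothesis; its proof combines the reducedness criterion with the irreducibility
criterion for limits, and the latter is proved only under these two hypotheses, so they are assumed
here.) -/
theorem result {I : Type u} [SmallCategory I] [IsCofiltered I]
    (D : I ⥤ Scheme.{u}) (c : Limits.Cone D) (hc : Limits.IsLimit c)
    [∀ (i j : I) (f : i ⟶ j), IsAffineHom (D.map f)] (i₀ : I)
    [CompactSpace (D.obj i₀)] [TopologicalSpace.NoetherianSpace c.pt]
    (hf : ∀ (i j : I) (φ : i ⟶ j), Flat (D.map φ) ∧ Surjective (D.map φ)) :
    IsIntegral c.pt ↔ ∃ (i : I) (_ : i ⟶ i₀), ∀ (j : I) (_ : j ⟶ i), IsIntegral (D.obj j) := by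
  haveI : ∀ {i j : I} (f : i ⟶ j), IsAffineHom (D.map f) := fun f => inferInstance
  have hd : ∀ (i j : I) (φ : i ⟶ j), IsDominant (D.map φ) := fun i j φ => by
    haveI := (hf i j φ).2; infer_instance
  constructor
  · intro h
    haveI := h
    obtain ⟨i, φ, hi⟩ := (MorLib.LimTop.irreducibleSpace_iff hc i₀ hd).mp inferInstance
    refine ⟨i, φ, fun j g => ?_⟩
    haveI := hi j g
    haveI := MorLib.LimFlat.flat_π hc j fun k ψ => (hf k j ψ).1
    haveI : Surjective (c.π.app j) := (MorLib.LimPts.surjective_π_iff hc).mpr fun k ψ => (hf k j ψ).2
    haveI : IsReduced (D.obj j) := @FBaseLib.isReduced_of_flat_surjective c.pt _ (c.π.app j) _ _ inferInstance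
    exact isIntegral_of_irreducibleSpace_of_isReduced _
  · rintro ⟨i, φ, hi⟩
    haveI : IrreducibleSpace c.pt := (MorLib.LimTop.irreducibleSpace_iff hc i₀ hd).mpr
      ⟨i, φ, fun j g => by haveI := hi j g; infer_instance⟩
    haveI : IsReduced c.pt := by
      by_contra hn
      obtain ⟨k, hk⟩ := MorLib.LimPts.not_isReduced hc hn
      haveI := hi (IsCofiltered.min k i) (IsCofiltered.minToRight k i)
      exact hk _ (IsCofiltered.minToLeft k i) inferInstance
    exact isIntegral_of_irreducibleSpace_of_isReduced _

end Groth.Agent.S4776
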