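import Groth.Statements.S4779
import Groth.Agent.MorLib.LimTop

set_option autoImplicit false
universe u
open CategoryTheory AlgebraicGeometry
open Lim8

namespace Groth.Agent.S4779

/-- Let S = lim S_i be a cofiltered limit of schemes with affine transition maps, let f₀ : X₀ ⟶ Y₀ be a
morphism of schemes over a stage S_{i₀}, and let f : X ⟶ Y be its base change along S ⟶ S_{i₀} (all
base changes are expressed by pullback squares). If there is an index i over i₀ such that, for every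
j over i, the base change f_j : X_j ⟶ Y_j of f₀ along S_j ⟶ S_{i₀} is an open map, then f is an open
map. (The corresponding statement for universally open morphisms follows from this one by base
change.) -/
theorem result {I : Type u} [SmallCategory I] [IsCofiltered I]
    (D : I ⥤ Scheme.{u}) (c : Limits.Cone D) (hc : Limits.IsLimit c)
    [∀ (i j : I) (f : i ⟶ j), IsAffineHom (D.map f)] (i₀ : I)
    {X₀ Y₀ : Scheme.{u}} (f₀ : X₀ ⟶ Y₀) (g₀ : Y₀ ⟶ D.obj i₀)
    {X Y : Scheme.{u}} (f : X ⟶ Y) (g : Y ⟶ c.pt) (qY : Y ⟶ Y₀) (qX : X ⟶ X₀)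
    (hY : IsPullback qY g g₀ (c.π.app i₀)) (hX : IsPullback qX f f₀ qY)
    (h : ∃ (i : I) (φ : i ⟶ i₀), ∀ (j : I) (ψ : j ⟶ i) (Xj Yj : Scheme.{u}) (fj : Xj ⟶ Yj)
      (gj : Yj ⟶ D.obj j) (pY : Yj ⟶ Y₀) (pX : Xj ⟶ X₀),
      IsPullback pY gj g₀ (D.map (ψ ≫ φ)) → IsPullback pX fj f₀ pY → IsOpenMap ⇑fj) :
    IsOpenMap ⇑f := by
  obtain ⟨i, φ, h⟩ := h
  haveI : ∀ {i j : I} (f : i ⟶ j), IsAffineHom (D.map f) := fun f => inferInstance
  have hX' : IsPullback qX (f ≫ g) (f₀ ≫ g₀) (c.π.app i₀) := hX.paste_vert hY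
  haveI : ∀ {j k : Over i₀} (a : j ⟶ k), IsAffineHom ((MorLib.BC.diag D (f₀ ≫ g₀)).map a) :=
    fun a => MorLib.BC.isAffineHom_map D _ a
  intro U hU
  refine isOpen_iff_mem_nhds.mpr ?_
  rintro _ ⟨s, hsU, rfl⟩
  obtain ⟨j, a, V, -, hsV, hVU⟩ := MorLib.LimTop.exists_basic
    (MorLib.BC.isLimitCone D (f₀ ≫ g₀) hX' hc) (Over.mk φ) hU hsU
  let fj : Limits.pullback (f₀ ≫ g₀) (D.map j.hom) ⟶ Limits.pullback g₀ (D.map j.hom) :=
    Limits.pullback.map _ _ _ _ f₀ (𝟙 _) (𝟙 _) (by simp) (by simp)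
  have hfst : fj ≫ Limits.pullback.fst g₀ (D.map j.hom) = Limits.pullback.fst _ _ ≫ f₀ :=
    Limits.pullback.lift_fst _ _ _
  have hsnd : fj ≫ Limits.pullback.snd g₀ (D.map j.hom) = Limits.pullback.snd _ _ :=
    (Limits.pullback.lift_snd _ _ _).trans (Category.comp_id _)
  have ht : IsPullback (Limits.pullback.fst (f₀ ≫ g₀) (D.map j.hom)) fj f₀ (Limits.pullback.fst g₀ (D.map j.hom)) :=
    IsPullback.of_bot (by rw [hsnd]; exact IsPullback.of_hasPullback _ _) hfst.symm (IsPullback.of_hasPullback _ _)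
  have hsq : IsPullback (MorLib.BC.proj D (f₀ ≫ g₀) hX' j) f fj (MorLib.BC.proj D g₀ hY j) := by
    refine IsPullback.of_right (by rw [MorLib.BC.proj_fst, MorLib.BC.proj_fst]; exact hX) ?_ ht
    apply Limits.pullback.hom_ext
    · simp only [Category.assoc, hfst, MorLib.BC.proj_fst, MorLib.BC.proj_fst_assoc]; exact hX.w
    · simp only [Category.assoc, hsnd, MorLib.BC.proj_snd]
  have ho : IsOpenMap fj := h j.left a.left _ _ fj (Limits.pullback.snd g₀ (D.map j.hom))
    (Limits.pullback.fst g₀ (D.map j.hom)) (Limits.pullback.fst _ _)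
    (by rw [show a.left ≫ φ = j.hom from Over.w a]; exact IsPullback.of_hasPullback _ _) ht
  have e := Scheme.image_preimage_eq_of_isPullback hsq (V : Set ((MorLib.BC.diag D (f₀ ≫ g₀)).obj j))
  refine Filter.mem_of_superset (((ho _ V.2).preimage (MorLib.BC.proj D g₀ hY j).continuous).mem_nhds ?_)
    (e.symm.trans_subset (Set.image_mono hVU))
  exact e.subset ⟨s, hsV, rfl⟩

end Groth.Agent.S4779
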