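import Groth.Statements.S4780
import Groth.Agent.UnivOpen.Criterion

set_option autoImplicit false
universe u
open CategoryTheory AlgebraicGeometry
open Lim8

namespace Groth.Agent.S4780

open AlgebraicGeometry CategoryTheory Limits in
theorem isOpenMap_of_baseChange {X Y Y' : Scheme.{u}} (f : X ⟶ Y) (g : Y' ⟶ Y)
    (hg : IsOpenMap g) (hs : Function.Surjective g) (h : IsOpenMap (pullback.snd f g)) :
    IsOpenMap f := by
  intro U hU
  have e : f '' U = g '' ((pullback.snd f g) '' ((pullback.fst f g) ⁻¹' U)) := by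
    apply Set.Subset.antisymm
    · rintro _ ⟨x, hx, rfl⟩
      obtain ⟨y, hy⟩ := hs (f x)
      obtain ⟨z, hz1, hz2⟩ := Scheme.Pullback.exists_preimage_pullback (f := f) (g := g) x y hy.symm
      exact ⟨y, ⟨z, by simp [hz1, hx], hz2⟩, hy⟩
    · rintro _ ⟨_, ⟨z, hz, rfl⟩, rfl⟩
      exact ⟨_, hz, by rw [← Scheme.Hom.comp_apply, pullback.condition, Scheme.Hom.comp_apply]⟩
  rw [e]
  exact hg _ (h _ (hU.preimage (pullback.fst f g).continuous))

set_option backward.isDefEq.respectTransparency.types false in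
open AlgebraicGeometry CategoryTheory Limits in
theorem open_zero {X Y : Scheme.{u}} (f : X ⟶ Y)
    (h : IsOpenMap ⇑(pullback.snd f (AffineSpace (ULift.{u} (Fin 1)) Y ↘ Y))) :
    IsOpenMap ⇑(pullback.snd f (AffineSpace (ULift.{u} (Fin 0)) Y ↘ Y)) := by
  let g := AffineSpace (ULift.{u} (Fin 1)) Y ↘ Y
  let g0 := AffineSpace (ULift.{u} (Fin 0)) Y ↘ Y
  haveI : IsIso g0 := inferInstance
  haveI : Surjective g := inferInstance
  have hf : IsOpenMap f := isOpenMap_of_baseChange f g (AffineSpace.isOpenMap_over _) g.surjective h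
  have e : pullback.snd f g0 = pullback.fst f g0 ≫ f ≫ inv g0 := by
    rw [pullback.condition_assoc, IsIso.hom_inv_id, Category.comp_id]
  show IsOpenMap ⇑(pullback.snd f g0)
  rw [e]
  exact (inv g0).homeomorph.isOpenMap.comp (hf.comp (pullback.fst f g0).isOpenEmbedding.isOpenMap)


/-- Let f : X ⟶ Y be a morphism of schemes. If, for every integer n > 0, the base change of f to affine
n-space over Y, X ×_Y 𝔸ⁿ_Y ⟶ 𝔸ⁿ_Y, is an open map of topological spaces, then f is universally open. -/
theorem result {X Y : Scheme.{u}} (f : X ⟶ Y)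
    (h : ∀ n : ℕ, 0 < n →
      IsOpenMap ⇑(Limits.pullback.snd f (AffineSpace (ULift.{u} (Fin n)) Y ↘ Y))) :
    UniversallyOpen f := by
  refine Groth.Agent.UnivOpen.universallyOpen_iff_forall f |>.mpr fun x => ?_
  refine Groth.Agent.UnivOpen.isUnivOpenAt_of_affineSpace f x fun m x'' _ U hU => ?_
  rcases m with _ | m
  · exact (open_zero f (h 1 one_pos)).image_mem_nhds hU
  · exact (h (m + 1) m.succ_pos).image_mem_nhds hU

end Groth.Agent.S4780
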