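import Groth.Statements.S4783
import Groth.Agent.Lim17.OpenImm

set_option backward.isDefEq.respectTransparency false
set_option backward.isDefEq.respectTransparency.types false
set_option linter.style.haveILetI false

set_option autoImplicit false
universe u
open CategoryTheory AlgebraicGeometry
open Lim8

namespace Groth.Agent.S4783

/-- Let S = lim S_i be a cofiltered limit of schemes whose transition maps are open immersions (in
particular affine), and let S_{i₀} be a Noetherian stage. Then S is integral if and only if there is
an index i over i₀ such that S_j is integral for every j over i. -/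
theorem result {I : Type u} [SmallCategory I] [IsCofiltered I]
    (D : I ⥤ Scheme.{u}) (c : Limits.Cone D) (hc : Limits.IsLimit c)
    [∀ (i j : I) (f : i ⟶ j), IsAffineHom (D.map f)] (i₀ : I)
    [IsNoetherian (D.obj i₀)] (hoi : ∀ (i j : I) (φ : i ⟶ j), IsOpenImmersion (D.map φ)) :
    IsIntegral c.pt ↔ ∃ (i : I) (_ : i ⟶ i₀), ∀ (j : I) (_ : j ⟶ i), IsIntegral (D.obj j) := by
  constructor
  · intro h
    obtain ⟨i, φ, hi⟩ := Lim17.exists_isReduced hc inferInstance hoi i₀ fun U => by
      haveI := IsLocallyNoetherian.component_noetherian (X := D.obj i₀) U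
      exact IsNoetherian.noetherian (R := Γ(D.obj i₀, U.1)) _
    obtain ⟨k, ψ, hk⟩ := Lim17.exists_irreducibleSpace hc inferInstance hoi i₀
    obtain ⟨l, a, b, -⟩ := IsCofilteredOrEmpty.cone_objs (C := I) i k
    refine ⟨l, a ≫ φ, fun j g => ?_⟩
    haveI := hi j (g ≫ a)
    haveI := hk j (g ≫ b)
    exact isIntegral_of_irreducibleSpace_of_isReduced _
  · rintro ⟨i, φ, hi⟩
    haveI := hi i (𝟙 i)
    haveI := Lim17.isReduced_pt hc inferInstance hoi i
    haveI := Lim17.irreducibleSpace_pt hc inferInstance hoi i fun j g => by haveI := hi j g; infer_instance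
    exact isIntegral_of_irreducibleSpace_of_isReduced _

end Groth.Agent.S4783
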