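import Groth.Statements.S4795
import Groth.Agent.LimSm.HomIso
-- import your own Groth.Agent.* helpers here

set_option autoImplicit false
universe u
open CategoryTheory AlgebraicGeometry
open Lim8

namespace Groth.Agent.S4795

set_option backward.isDefEq.respectTransparency.types false in
/-- Let S = lim S_i be a cofiltered limit of schemes with affine transition maps and S_{i₀} a
quasi-compact quasi-separated stage; let X₀ and Y₀ be schemes of finite presentation over S_{i₀},
and let X, Y be their base changes along S ⟶ S_{i₀} (base changes are expressed by pullback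
squares). Then X and Y are isomorphic over S if and only if, for some index j over i₀, the base
changes X_j and Y_j of X₀ and Y₀ along S_j ⟶ S_{i₀} are isomorphic over S_j. -/
theorem result {I : Type u} [SmallCategory I] [IsCofiltered I]
    (D : I ⥤ Scheme.{u}) (c : Limits.Cone D) (hc : Limits.IsLimit c)
    [∀ (i j : I) (f : i ⟶ j), IsAffineHom (D.map f)] (i₀ : I)
    [CompactSpace (D.obj i₀)] [QuasiSeparatedSpace (D.obj i₀)]
    {X₀ Y₀ : Scheme.{u}} (a₀ : X₀ ⟶ D.obj i₀) (b₀ : Y₀ ⟶ D.obj i₀)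
    [LocallyOfFinitePresentation a₀] [QuasiCompact a₀] [QuasiSeparated a₀]
    [LocallyOfFinitePresentation b₀] [QuasiCompact b₀] [QuasiSeparated b₀]
    {X Y : Scheme.{u}} (a : X ⟶ c.pt) (b : Y ⟶ c.pt) (qX : X ⟶ X₀) (qY : Y ⟶ Y₀)
    (hX : IsPullback qX a a₀ (c.π.app i₀)) (hY : IsPullback qY b b₀ (c.π.app i₀)) :
    (∃ e : X ≅ Y, e.hom ≫ b = a) ↔
      ∃ (j : I) (φ : j ⟶ i₀) (Xj Yj : Scheme.{u}) (aj : Xj ⟶ D.obj j) (bj : Yj ⟶ D.obj j)
        (pX : Xj ⟶ X₀) (pY : Yj ⟶ Y₀), IsPullback pX aj a₀ (D.map φ) ∧ IsPullback pY bj b₀ (D.map φ) ∧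
        ∃ e : Xj ≅ Yj, e.hom ≫ bj = aj := by
  constructor
  · rintro ⟨g, hg⟩
    obtain ⟨j, φ, e, he⟩ := Groth.Agent.LimSm.exists_iso_stage D c hc i₀ a₀ b₀ a b qX qY hX hY g hg
    exact ⟨j, φ, _, _, _, _, _, _, IsPullback.of_hasPullback _ _, IsPullback.of_hasPullback _ _, e, he⟩
  · rintro ⟨j, φ, Xj, Yj, aj, bj, pX, pY, sX, sY, e, he⟩
    let rX : X ⟶ Xj := sX.lift qX (a ≫ c.π.app j) (by rw [Category.assoc, c.w]; exact hX.w)
    let rY : Y ⟶ Yj := sY.lift qY (b ≫ c.π.app j) (by rw [Category.assoc, c.w]; exact hY.w)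
    have hX' : IsPullback rX a aj (c.π.app j) := by
      refine IsPullback.of_right ?_ (sX.lift_snd _ _ _) sX
      rw [sX.lift_fst, c.w]
      exact hX
    have hY' : IsPullback rY b bj (c.π.app j) := by
      refine IsPullback.of_right ?_ (sY.lift_snd _ _ _) sY
      rw [sY.lift_fst, c.w]
      exact hY
    have hX'' : IsPullback (rX ≫ e.hom) a bj (c.π.app j) :=
      hX'.of_iso (Iso.refl _) e (Iso.refl _) (Iso.refl _) (by simp) (by simp) (by simp [he]) (by simp)
    exact ⟨hX''.isoIsPullback _ _ hY', hX''.isoIsPullback_hom_snd _ _ hY'⟩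

end Groth.Agent.S4795
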