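import Groth.Statements.S4804
import Groth.Agent.MorLib.DescendSep

set_option autoImplicit false
universe u
open CategoryTheory AlgebraicGeometry
open Lim8

namespace Groth.Agent.S4804

/-- Let S = lim S_i be a cofiltered limit of schemes with affine transition maps, let f₀ : X₀ ⟶ Y₀ be a
morphism of schemes over a stage S_{i₀}, with Y₀ quasi-compact and f₀ of finite type and
quasi-separated, and let f : X ⟶ Y be the base change of f₀ along S ⟶ S_{i₀} (base changes are
expressed by pullback squares). Then f is separated if and only if, for some index j over i₀, the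
base change f_j : X_j ⟶ Y_j of f₀ along S_j ⟶ S_{i₀} is separated. -/
theorem result {I : Type u} [SmallCategory I] [IsCofiltered I]
    (D : I ⥤ Scheme.{u}) (c : Limits.Cone D) (hc : Limits.IsLimit c)
    [∀ (i j : I) (f : i ⟶ j), IsAffineHom (D.map f)] (i₀ : I)
    {X₀ Y₀ : Scheme.{u}} (f₀ : X₀ ⟶ Y₀) (g₀ : Y₀ ⟶ D.obj i₀) [CompactSpace Y₀]
    [LocallyOfFiniteType f₀] [QuasiCompact f₀] [QuasiSeparated f₀]
    {X Y : Scheme.{u}} (f : X ⟶ Y) (g : Y ⟶ c.pt) (qY : Y ⟶ Y₀) (qX : X ⟶ X₀)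
    (hY : IsPullback qY g g₀ (c.π.app i₀)) (hX : IsPullback qX f f₀ qY) :
    IsSeparated f ↔
      ∃ (j : I) (φ : j ⟶ i₀) (Xj Yj : Scheme.{u}) (fj : Xj ⟶ Yj) (gj : Yj ⟶ D.obj j) (pY : Yj ⟶ Y₀)
        (pX : Xj ⟶ X₀), IsPullback pY gj g₀ (D.map φ) ∧ IsPullback pX fj f₀ pY ∧ IsSeparated fj := by
  haveI : ∀ {i j : I} (f : i ⟶ j), IsAffineHom (D.map f) := fun {i j} f => inferInstance
  constructor
  · intro h
    exact Groth.Agent.MorLib.Desc.descend₂ D c hc (P := @IsSeparated) (Q := ⊤)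
      Groth.Agent.MorLib.Desc.core_isSeparated f₀ g₀ trivial f g qY qX hY hX h
  · rintro ⟨j, φ, Xj, Yj, fj, gj, pY, pX, hYj, hXj, h⟩
    exact Groth.Agent.MorLib.Desc.ascend₂ D c (P := @IsSeparated) hY hX hYj hXj h

end Groth.Agent.S4804
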