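import Groth.Statements.S4807
import Groth.Agent.Approx.ImmStage
import Groth.Agent.Approx.IntegralLimit

set_option autoImplicit false
set_option backward.isDefEq.respectTransparency false
set_option backward.isDefEq.respectTransparency.types false
set_option maxHeartbeats 800000
universe u
open CategoryTheory AlgebraicGeometry
open Lim8

namespace Groth.Agent.S4807

/-- Let Y be a quasi-compact quasi-separated scheme and f : X ⟶ Y a separated morphism of finite type.
Let X' be the relative normalization of Y in X, the spectrum of the integral closure of O_Y in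
f_*O_X, with its canonical morphism g : X ⟶ X'. Then f admits a factorization X ⟶ Y' ⟶ Y into an
immersion followed by a finite morphism if and only if g is an immersion. -/
theorem result {X Y : Scheme.{u}} (f : X ⟶ Y)
    [CompactSpace Y] [QuasiSeparatedSpace Y] [IsSeparated f] [LocallyOfFiniteType f] [QuasiCompact f] :
    (∃ (Y' : Scheme.{u}) (f' : X ⟶ Y') (u : Y' ⟶ Y), IsImmersion f' ∧ IsFinite u ∧ f' ≫ u = f) ↔
      IsImmersion f.toNormalization := by
  refine ⟨fun h => ?_, fun h => ?_⟩
  · obtain ⟨Y', f', u, hf', hu, hfac⟩ := h
    haveI := hu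
    haveI := hf'
    haveI : IsImmersion (f.toNormalization ≫ f.normalizationDesc f' u hfac.symm) := by
      rw [Scheme.Hom.toNormalization_normalizationDesc]; exact hf'
    exact IsImmersion.of_comp f.toNormalization (f.normalizationDesc f' u hfac.symm)
  · haveI := h
    obtain ⟨I, _, _, _, D, c, hc, hD, ⟨e⟩⟩ := Approx.exists_isLimit_finite_fp f.fromNormalization
    haveI : IsCofiltered Iᵒᵖ := inferInstance
    haveI := fun i => (hD i).1
    haveI : ∀ {i j : Iᵒᵖ} (a : i ⟶ j), IsAffineHom ((D ⋙ Over.forget Y).map a) := fun {i j} a => by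
      haveI : IsAffineHom ((D.map a).left ≫ (D.obj j).hom) := by
        rw [Over.w (D.map a)]; infer_instance
      exact IsAffineHom.of_comp (D.map a).left (D.obj j).hom
    haveI : ∀ i, CompactSpace ((D ⋙ Over.forget Y).obj i) := fun i =>
      haveI := (hD i).1; QuasiCompact.compactSpace_of_compactSpace (D.obj i).hom
    haveI : ∀ i, QuasiSeparatedSpace ((D ⋙ Over.forget Y).obj i) := fun i =>
      haveI := (hD i).1; quasiSeparatedSpace_of_quasiSeparated (D.obj i).hom
    haveI : CompactSpace X := QuasiCompact.compactSpace_of_compactSpace f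
    let g : X ⟶ c.pt.left := f.toNormalization ≫ e.inv.left
    haveI : IsIso e.inv.left := ((Over.forget Y).mapIso e).isIso_inv
    haveI : IsImmersion g := inferInstanceAs (IsImmersion (_ ≫ _))
    have hg : g ≫ c.pt.hom = f := by
      rw [Category.assoc, Over.w e.inv]
      exact f.toNormalization_fromNormalization
    obtain ⟨i, hi⟩ := Approx.exists_immersion_stage_of_immersion
      (Limits.isLimitOfPreserves (Over.forget Y) hc) g f (fun i => (D.obj i).hom)
      (fun i => (congrArg (g ≫ ·) (Over.w (c.π.app i))).trans hg)
    exact ⟨(D.obj i).left, g ≫ (c.π.app i).left, (D.obj i).hom, hi, (hD i).1,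
      by rw [Category.assoc, Over.w (c.π.app i)]; exact hg⟩

end Groth.Agent.S4807
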