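import Groth.Statements.S4813
import Groth.Agent.LimModLib.Kernel

set_option autoImplicit false
universe u
open CategoryTheory AlgebraicGeometry
open Lim8

namespace Groth.Agent.S4813

/-- Let S = lim S_i be a cofiltered limit of schemes with affine transition maps and S_{i₀} a
quasi-compact stage; let F₀ be a quasi-coherent O-module of finite type on S_{i₀} and p₁ : F₀ ⟶ G₁,
p₂ : F₀ ⟶ G₂ two surjective homomorphisms onto quasi-coherent O-modules, G₁ being of finite
presentation. Then, on S, the pullback of p₂ factors through the pullback of p₁ (the quotient G₂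
becomes a quotient of G₁ after pullback to S) if and only if, for some index j over i₀, the pullback
of p₂ to S_j factors through the pullback of p₁ to S_j. -/
theorem result {I : Type u} [SmallCategory I] [IsCofiltered I]
    (D : I ⥤ Scheme.{u}) (c : Limits.Cone D) (hc : Limits.IsLimit c)
    [∀ (i j : I) (f : i ⟶ j), IsAffineHom (D.map f)] (i₀ : I) [CompactSpace (D.obj i₀)]
    {F₀ G₁ G₂ : (D.obj i₀).Modules} [Coh.IsQCoh F₀] [Coh.IsQCoh G₁] [Coh.IsQCoh G₂]
    (hF₀ : CohB1.IsFT F₀) (hG₁ : CohB1.IsFP G₁) (p₁ : F₀ ⟶ G₁) (p₂ : F₀ ⟶ G₂) [Epi p₁] [Epi p₂] :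
    (∃ k : (Scheme.Modules.pullback (c.π.app i₀)).obj G₁ ⟶ (Scheme.Modules.pullback (c.π.app i₀)).obj G₂, (Scheme.Modules.pullback (c.π.app i₀)).map p₁ ≫ k = (Scheme.Modules.pullback (c.π.app i₀)).map p₂) ↔
      ∃ (j : I) (φ : j ⟶ i₀) (k : (Scheme.Modules.pullback (D.map φ)).obj G₁ ⟶ (Scheme.Modules.pullback (D.map φ)).obj G₂),
        (Scheme.Modules.pullback (D.map φ)).map p₁ ≫ k = (Scheme.Modules.pullback (D.map φ)).map p₂ := by
  haveI : ∀ {i j : I} (f : i ⟶ j), IsAffineHom (D.map f) := fun {i j} f => inferInstance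
  let S := ShortComplex.mk (Limits.kernel.ι p₁) p₁ (Limits.kernel.condition p₁)
  have hS : S.Exact := ShortComplex.exact_kernel p₁
  have key : ∀ {Y : Scheme.{u}} (a : Y ⟶ D.obj i₀),
      (∃ k, (Scheme.Modules.pullback a).map p₁ ≫ k = (Scheme.Modules.pullback a).map p₂) ↔
        (Scheme.Modules.pullback a).map (Limits.kernel.ι p₁ ≫ p₂) = 0 := by
    intro Y a
    have hc := Limits.isColimitCoforkMapOfIsColimit' (Scheme.Modules.pullback a) S.zero hS.gIsCokernel
    rw [Functor.map_comp]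
    constructor
    · rintro ⟨k, hk⟩
      rw [← hk, ← Category.assoc, ← Functor.map_comp, Limits.kernel.condition, Functor.map_zero, Limits.zero_comp]
    · intro h
      obtain ⟨k, hk⟩ := Limits.CokernelCofork.IsColimit.desc' hc ((Scheme.Modules.pullback a).map p₂) h
      exact ⟨k, hk⟩
  refine (key _).trans ((Groth.Agent.LimModLib.map_eq_zero_iff_eventually hc
    (Groth.Agent.QCoh.isQCoh_kernel ‹Coh.IsQCoh F₀› ‹Coh.IsQCoh G₁› p₁)
    (Groth.Agent.LimModLib.isFT_kernel ‹Coh.IsQCoh F₀› hF₀ ‹Coh.IsQCoh G₁› hG₁ p₁) ‹Coh.IsQCoh G₂› _).trans ?_)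
  exact exists_congr fun j => exists_congr fun φ => (key (D.map φ)).symm

end Groth.Agent.S4813
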