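import Groth.Statements.S4815
import Groth.Agent.ConsPropLib.Cores
import Groth.Agent.ConsPropLib.Approx
-- import your own Groth.Agent.* helpers here

set_option autoImplicit false
universe u
open CategoryTheory AlgebraicGeometry
open Lim8

namespace Groth.Agent.S4815

set_option backward.isDefEq.respectTransparency.types false in
/-- Let S = lim S_i be a cofiltered limit of schemes with affine transition maps and S_{i₀} a
quasi-compact quasi-separated stage. Then every subscheme of finite presentation of S, that is every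
immersion ι : Z ⟶ S which is locally of finite presentation and quasi-compact, is the base change
along S ⟶ S_j of an immersion of finite presentation Z_j ⟶ S_j, for some index j over i₀ (the base
change is expressed by a pullback square). -/
theorem result {I : Type u} [SmallCategory I] [IsCofiltered I]
    (D : I ⥤ Scheme.{u}) (c : Limits.Cone D) (hc : Limits.IsLimit c)
    [∀ (i j : I) (f : i ⟶ j), IsAffineHom (D.map f)] (i₀ : I)
    [CompactSpace (D.obj i₀)] [QuasiSeparatedSpace (D.obj i₀)]
    {Z : Scheme.{u}} (ι : Z ⟶ c.pt) [IsImmersion ι] [LocallyOfFinitePresentation ι] [QuasiCompact ι] :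
    ∃ (j : I) (_ : j ⟶ i₀) (Zj : Scheme.{u}) (ιj : Zj ⟶ D.obj j) (q : Z ⟶ Zj),
      IsImmersion ιj ∧ LocallyOfFinitePresentation ιj ∧ QuasiCompact ιj ∧ IsPullback q ι ιj (c.π.app j) := by
  haveI : QuasiSeparated ι := inferInstance
  let E := Over.forget i₀ ⋙ D
  haveI : ∀ {j k : Over i₀} (f : j ⟶ k), IsAffineHom (E.map f) := fun f =>
    inferInstanceAs (IsAffineHom (D.map f.left))
  haveI : ∀ j, CompactSpace (E.obj j) := fun j => QuasiCompact.compactSpace_of_compactSpace (D.map j.hom)
  haveI : ∀ j, QuasiSeparatedSpace (E.obj j) := fun j => quasiSeparatedSpace_of_quasiSeparated (D.map j.hom)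
  let cE : Limits.Cone E := c.whisker (Over.forget i₀)
  have hcE : Limits.IsLimit cE := (Functor.Initial.isLimitWhiskerEquiv (Over.forget i₀) c).symm hc
  let ιE : Z ⟶ cE.pt := ι
  haveI : LocallyOfFinitePresentation ιE := ‹LocallyOfFinitePresentation ι›
  haveI : QuasiCompact ιE := ‹QuasiCompact ι›
  haveI : QuasiSeparated ιE := ‹QuasiSeparated ι›
  obtain ⟨m, Zm, fm, gm, hm⟩ := Groth.Agent.ConsPropLib.hasModel hcE ιE
  haveI := hm.qc
  haveI := hm.qs
  haveI := hm.lfp
  haveI : IsImmersion ιE := ‹IsImmersion ι›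
  obtain ⟨j, ψ, hj⟩ := Groth.Agent.MorLib.Desc.descend E cE hcE m (P := @IsImmersion)
    (Q := @LocallyOfFiniteType) Groth.Agent.ConsPropLib.core_immersion fm inferInstance
    (Groth.Agent.MorLib.Desc.of_two @IsImmersion hm.sq (IsPullback.of_hasPullback _ _) inferInstance)
  exact ⟨j.left, j.hom, _, _, hm.push ψ, hj, (hm.pushed ψ).lfp, (hm.pushed ψ).qc, (hm.pushed ψ).sq⟩

end Groth.Agent.S4815
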