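import Groth.Statements.S4821
import Mathlib.Tactic
import Mathlib.RingTheory.MvPolynomial.Localization
import Mathlib.RingTheory.LocalRing.ResidueField.Ideal

set_option autoImplicit false
universe u
open Cons9

namespace Groth.Agent.S4821

/-- Let A be an integral domain with fraction field K, and (P_i) a finite family of polynomials in
A[T_1, …, T_m], generating an ideal 𝔞; for a point s of Spec A write 𝔞_s for the ideal of κ(s)[T_1,
…, T_m] generated by the images of the P_i. If the zero locus of 𝔞_η in affine m-space over K = κ(η)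
is empty, that is if 𝔞_η is the unit ideal, then there is an open neighbourhood D(f) (f ≠ 0) of the
generic point such that 𝔞_s is the unit ideal (its zero locus is empty) for every s in D(f). -/
theorem result {A : Type u} [CommRing A] [IsDomain A] {m : ℕ}
    (P : Finset (MvPolynomial (Fin m) A))
    (hη : Ideal.span ((MvPolynomial.map (algebraMap A (FractionRing A))) '' (P : Set (MvPolynomial (Fin m) A))) = ⊤) :
    ∃ f : A, f ≠ 0 ∧ ∀ p : PrimeSpectrum A, f ∉ p.asIdeal →
      Ideal.span ((MvPolynomial.map (algebraMap A p.asIdeal.ResidueField)) '' (P : Set (MvPolynomial (Fin m) A))) = ⊤ := by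
  let K := FractionRing A
  let T := MvPolynomial (Fin m) A
  let T' := MvPolynomial (Fin m) K
  letI : Algebra T T' := MvPolynomial.algebraMvPolynomial
  haveI : IsLocalization ((nonZeroDivisors A).map (MvPolynomial.C (σ := Fin m) (R := A))) T' :=
    MvPolynomial.isLocalization _ _
  have h1 : Ideal.map (algebraMap T T') (Ideal.span (P : Set T)) = ⊤ := by
    rw [Ideal.map_span]; exact hη
  have h2 : ¬ Disjoint (((nonZeroDivisors A).map (MvPolynomial.C (σ := Fin m) (R := A))) : Set T)
      (Ideal.span (P : Set T) : Set T) := fun hd =>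
    (IsLocalization.map_algebraMap_ne_top_iff_disjoint ((nonZeroDivisors A).map (MvPolynomial.C (σ := Fin m) (R := A))) T' _).2 hd h1
  rw [Set.not_disjoint_iff] at h2
  obtain ⟨_, ⟨f, hf, rfl⟩, hfP⟩ := h2
  refine ⟨f, nonZeroDivisors.ne_zero hf, fun p hp => ?_⟩
  have h3 := Ideal.mem_map_of_mem (MvPolynomial.map (σ := Fin m) (algebraMap A p.asIdeal.ResidueField)) hfP
  rw [Ideal.map_span, MvPolynomial.map_C] at h3
  refine Ideal.eq_top_of_isUnit_mem _ h3 (RingHom.isUnit_map _ (IsUnit.mk0 _ ?_))
  rwa [Ne, Ideal.algebraMap_residueField_eq_zero]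

end Groth.Agent.S4821
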