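import Groth.Statements.S4822
import Groth.Agent.AmpleDesc5.Proper
import Groth.Agent.S12442

set_option backward.isDefEq.respectTransparency.types false
set_option backward.isDefEq.respectTransparency false
set_option linter.style.haveILetI false

set_option autoImplicit false
open CategoryTheory AlgebraicGeometry
universe u
open Cons9

namespace Groth.Agent.S4822

open CategoryTheory.Limits in
/-- Let g : Y ⟶ S and f : X ⟶ Y be morphisms such that X and Y are of finite presentation over S
(locally of finite presentation, quasi-compact and quasi-separated) and f is proper, and let L be an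
invertible O_X-module. For each point s of S let f_s : X_s ⟶ Y_s be the morphism induced on the
fibres over s and L_s the pullback of L to X_s. Then the set of s for which L_s is ample relative to
f_s is locally constructible in S. This is the case of relative ampleness (the very ample case is
not stated here). -/
theorem result {X Y S : Scheme.{u}} (f : X ⟶ Y) (g : Y ⟶ S)
    [LocallyOfFinitePresentation g] [QuasiCompact g] [QuasiSeparated g]
    [LocallyOfFinitePresentation (f ≫ g)] [QuasiCompact (f ≫ g)] [QuasiSeparated (f ≫ g)] [IsProper f]
    (L : X.Modules) (hL : PicF.IsInvertible L) :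
    Topology.IsLocallyConstructible {s : S |
      RelAmple.IsRelAmple
        (pullback.lift (pullback.fst (f ≫ g) (S.fromSpecResidueField s) ≫ f) (pullback.snd (f ≫ g) (S.fromSpecResidueField s))
          ((Category.assoc _ _ _).trans pullback.condition) :
          pullback (f ≫ g) (S.fromSpecResidueField s) ⟶ pullback g (S.fromSpecResidueField s))
        ((Scheme.Modules.pullback (pullback.fst (f ≫ g) (S.fromSpecResidueField s))).obj L)} := by
  haveI : LocallyOfFinitePresentation f := Groth.Agent.S12442.locallyOfFinitePresentation_of_comp f g
  let N : Set Y := {y : Y | CohB1.IsAmple ((Scheme.Modules.pullback (f.fiberι y)).obj L)}ᶜ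
  have hN : Topology.IsLocallyConstructible (g '' N) :=
    g.isLocallyConstructible_image (Groth.Agent.AmpleDesc5.isLocallyConstructible_ampleLocus f hL)
  have hc : Topology.IsLocallyConstructible (g '' N)ᶜ := fun x => by
    obtain ⟨U, hxU, hU, hUc⟩ := hN x
    exact ⟨U, hxU, hU, hUc.compl⟩
  convert hc using 1
  ext s
  let fs : pullback (f ≫ g) (S.fromSpecResidueField s) ⟶ pullback g (S.fromSpecResidueField s) :=
    pullback.lift (pullback.fst (f ≫ g) (S.fromSpecResidueField s) ≫ f) (pullback.snd (f ≫ g) (S.fromSpecResidueField s))
      ((Category.assoc _ _ _).trans pullback.condition)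
  have sq : IsPullback (pullback.fst (f ≫ g) (S.fromSpecResidueField s)) fs f (pullback.fst g (S.fromSpecResidueField s)) :=
    IsPullback.of_bot (by rw [pullback.lift_snd]; exact IsPullback.of_hasPullback _ _)
      (pullback.lift_fst _ _ _).symm (IsPullback.of_hasPullback g (S.fromSpecResidueField s))
  haveI : IsProper fs := MorphismProperty.of_isPullback sq inferInstance
  haveI : LocallyOfFinitePresentation fs := MorphismProperty.of_isPullback sq inferInstance
  show RelAmple.IsRelAmple fs _ ↔ _
  rw [Groth.Agent.AmpleDesc5.isRelAmple_iff_forall_fibre fs (Groth.Agent.PicClLib.isInvertible_pullback _ hL)]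
  simp only [fun t => Groth.Agent.AmpleDesc5.isAmple_fibre_iff sq hL t]
  constructor
  · rintro h ⟨y, hy, hys⟩
    obtain ⟨t, ht, -⟩ := Scheme.Pullback.exists_preimage_pullback (f := g) (g := S.fromSpecResidueField s) y
      (IsLocalRing.closedPoint _) (hys.trans (S.fromSpecResidueField_apply s _).symm)
    exact hy (ht ▸ h t)
  · intro h t
    by_contra hn
    refine h ⟨_, hn, ?_⟩
    show g (pullback.fst g (S.fromSpecResidueField s) t) = s
    rw [← Scheme.Hom.comp_apply, pullback.condition, Scheme.Hom.comp_apply, Scheme.fromSpecResidueField_apply]

end Groth.Agent.S4822
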