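import Groth.Statements.S4823
import Groth.Agent.AmpleDesc5.Field
import Groth.Agent.S4790

set_option maxHeartbeats 1000000
set_option synthInstance.maxHeartbeats 400000
set_option backward.isDefEq.respectTransparency.types false
set_option backward.isDefEq.respectTransparency false
set_option linter.style.haveILetI false
open CategoryTheory.Limits Opposite Groth.Agent.AmpleDesc5

set_option autoImplicit false
open CategoryTheory AlgebraicGeometry
universe u
open Cons9

namespace Groth.Agent.S4823

open CategoryTheory.Limits in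
/-- Let k be a field, Ω an algebraically closed extension field of k, X a scheme of finite type over k
and F, G two coherent O_X-modules (quasi-coherent of finite presentation). If the pullbacks of F and
G to X ⊗_k Ω are isomorphic, then there is a finite extension k' of k such that the pullbacks of F
and G to X ⊗_k k' are already isomorphic (base changes are the chosen fibre products with Spec of
the extension, and the modules are pulled back along the first projection). -/
theorem result {k : Type u} [Field k] {X : Scheme.{u}}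
    (p : X ⟶ Spec (CommRingCat.of k)) [LocallyOfFiniteType p] [QuasiCompact p]
    (F G : X.Modules) [Coh.IsQCoh F] [Coh.IsQCoh G] (hF : CohB1.IsFP F) (hG : CohB1.IsFP G)
    (Ω : Type u) [Field Ω] [Algebra k Ω] [IsAlgClosed Ω]
    (e : (Scheme.Modules.pullback (pullback.fst p (Spec.map (CommRingCat.ofHom (algebraMap k Ω))))).obj F ≅
      (Scheme.Modules.pullback (pullback.fst p (Spec.map (CommRingCat.ofHom (algebraMap k Ω))))).obj G) :
    ∃ (k' : Type u) (_ : Field k') (_ : Algebra k k') (_ : Module.Finite k k'),
      Nonempty ((Scheme.Modules.pullback (pullback.fst p (Spec.map (CommRingCat.ofHom (algebraMap k k'))))).obj F ≅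
        (Scheme.Modules.pullback (pullback.fst p (Spec.map (CommRingCat.ofHom (algebraMap k k'))))).obj G) := by
  classical
  haveI : IsNoetherianRing k := inferInstance
  haveI : IsLocallyNoetherian X := LocallyOfFiniteType.isLocallyNoetherian p
  haveI : CompactSpace X := QuasiCompact.compactSpace_of_compactSpace p
  haveI : IsNoetherian X := { }
  haveI : QuasiSeparated p := QuasiSeparated.of_quasiSeparatedSpace p
  let D := diagram k Ω
  let T : (Finset Ω)ᵒᵖ := op ∅
  let xi : pullback p (str k Ω T) ⟶ D.obj T := pullback.snd p (str k Ω T)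
  let qX : pullback p (Spec.map (CommRingCat.ofHom (algebraMap k Ω))) ⟶ pullback p (str k Ω T) :=
    pullback.lift (pullback.fst _ _) (pullback.snd _ _ ≫ (cone k Ω).π.app T)
      (by rw [Category.assoc, π_str, pullback.condition])
  have hX : IsPullback qX (pullback.snd p (Spec.map (CommRingCat.ofHom (algebraMap k Ω)))) xi
      ((cone k Ω).π.app T) := by
    refine IsPullback.of_right ?_ (pullback.lift_snd _ _ _) (IsPullback.of_hasPullback p (str k Ω T))
    rw [pullback.lift_fst, π_str]
    exact IsPullback.of_hasPullback _ _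
  let D' := Groth.Agent.MorLib.BC.diag D xi
  let c' := Groth.Agent.MorLib.BC.cone D xi (c := cone k Ω) hX
  have hc' : IsLimit c' := Groth.Agent.MorLib.BC.isLimitCone D xi (c := cone k Ω) hX (isLimit k Ω)
  haveI : ∀ (a b : Over T) (r : a ⟶ b), IsAffineHom (D'.map r) := fun a b r =>
    Groth.Agent.MorLib.BC.isAffineHom_map D xi r
  haveI : CompactSpace ↥(pullback p (str k Ω T)) := QuasiCompact.compactSpace_of_compactSpace xi
  haveI : QuasiSeparatedSpace ↥(pullback p (str k Ω T)) := quasiSeparatedSpace_of_quasiSeparated xi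
  let T' : Over T := Over.mk (𝟙 T)
  haveI : CompactSpace (D'.obj T') := Groth.Agent.MorLib.BC.compactSpace_obj D xi T'
  haveI : QuasiSeparatedSpace (D'.obj T') := Groth.Agent.MorLib.BC.quasiSeparatedSpace_obj D xi T'
  let w : D'.obj T' ⟶ X := pullback.fst xi (D.map T'.hom) ≫ pullback.fst p (str k Ω T)
  have hw : c'.π.app T' ≫ w = pullback.fst p (Spec.map (CommRingCat.ofHom (algebraMap k Ω))) := by
    show Groth.Agent.MorLib.BC.proj D xi hX T' ≫ _ = _
    rw [Groth.Agent.MorLib.BC.proj_fst_assoc, pullback.lift_fst]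
  haveI := Groth.Agent.QCoh.isQCoh_pullback w (M := F) ‹_›
  haveI := Groth.Agent.QCoh.isQCoh_pullback w (M := G) ‹_›
  obtain ⟨j, φ, ⟨e'⟩⟩ := (Groth.Agent.S4790.result D' c' hc' T' ((Scheme.Modules.pullback w).obj F)
    ((Scheme.Modules.pullback w).obj G) (Groth.Agent.LimModLib.isFP_pullback w ‹_› hF)
    (Groth.Agent.LimModLib.isFP_pullback w ‹_› hG)).1
    ⟨(Scheme.Modules.pullbackComp _ _).app F ≪≫ (Scheme.Modules.pullbackCongr hw).app F ≪≫ e ≪≫
      ((Scheme.Modules.pullbackCongr hw).app G).symm ≪≫ ((Scheme.Modules.pullbackComp _ _).app G).symm⟩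
  let R := Algebra.adjoin k ((j.left.unop : Finset Ω) : Set Ω)
  haveI : Algebra.FiniteType k R := Algebra.FiniteType.adjoin_of_finite (Finset.finite_toSet _)
  obtain ⟨m, hm⟩ := Ideal.exists_maximal R
  letI : Field (R ⧸ m) := Ideal.Quotient.field m
  haveI : Module.Finite k (R ⧸ m) := finite_of_finite_type_of_isJacobsonRing k (R ⧸ m)
  let τ : Spec (CommRingCat.of (R ⧸ m)) ⟶ D.obj j.left := Spec.map (CommRingCat.ofHom (Ideal.Quotient.mk m))
  have hτ : τ ≫ str k Ω j.left = Spec.map (CommRingCat.ofHom (algebraMap k (R ⧸ m))) := by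
    show Spec.map _ ≫ Spec.map _ = Spec.map _
    rw [← Spec.map_comp]
    rfl
  let r : pullback p (Spec.map (CommRingCat.ofHom (algebraMap k (R ⧸ m)))) ⟶ D'.obj j :=
    pullback.lift (pullback.lift (pullback.fst _ _) (pullback.snd _ _ ≫ τ ≫ D.map j.hom)
      (by rw [Category.assoc, Category.assoc, map_str, hτ, pullback.condition]))
      (pullback.snd _ _ ≫ τ) (by simp [xi])
  have hr : r ≫ D'.map φ ≫ w = pullback.fst p (Spec.map (CommRingCat.ofHom (algebraMap k (R ⧸ m)))) := by
    show r ≫ D'.map φ ≫ pullback.fst xi (D.map T'.hom) ≫ pullback.fst p (str k Ω T) = _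
    rw [← Category.assoc (D'.map φ), Groth.Agent.MorLib.BC.map_fst]
    simp [r]
  exact ⟨R ⧸ m, inferInstance, inferInstance, inferInstance,
    ⟨((Scheme.Modules.pullbackCongr hr).app F).symm ≪≫ ((Scheme.Modules.pullbackComp _ _).app F).symm ≪≫
      (Scheme.Modules.pullback r).mapIso (((Scheme.Modules.pullbackComp _ _).app F).symm) ≪≫
      (Scheme.Modules.pullback r).mapIso e' ≪≫ (Scheme.Modules.pullback r).mapIso ((Scheme.Modules.pullbackComp _ _).app G) ≪≫
      (Scheme.Modules.pullbackComp _ _).app G ≪≫ (Scheme.Modules.pullbackCongr hr).app G⟩⟩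

end Groth.Agent.S4823
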