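import Groth.Statements.S4824
import Groth.Agent.GrpSchLib.TensorDomain
import Mathlib

set_option autoImplicit false
open CategoryTheory AlgebraicGeometry
universe u
open Cons9

namespace Groth.Agent.S4824

open CategoryTheory CategoryTheory.Limits AlgebraicGeometry TensorProduct

theorem isDomain_of_ext {k K L Ω A : Type u} [Field k] [Field K] [Field L] [Field Ω] [IsAlgClosed Ω]
    [Algebra k K] [Algebra k L] [Algebra k Ω] [Algebra Ω L] [IsScalarTower k Ω L]
    [CommRing A] [Algebra k A] [IsDomain (Ω ⊗[k] A)] (ψ : K →ₐ[k] L) : IsDomain (K ⊗[k] A) := by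
  haveI : IsDomain (L ⊗[Ω] (Ω ⊗[k] A)) := Groth.Agent.GrpSchLib.isDomain_tensor_of_isAlgClosed
  haveI : IsDomain (L ⊗[k] A) :=
    (Algebra.TensorProduct.cancelBaseChange k Ω L L A).symm.toRingEquiv.toMulEquiv.isDomain _
  have hψ : Function.Injective (Algebra.TensorProduct.map ψ (AlgHom.id k A)) :=
    Module.Flat.rTensor_preserves_injective_linearMap (M := A) ψ.toLinearMap ψ.toRingHom.injective
  exact hψ.isDomain _

/-- Let k be a field, Ω an algebraically closed extension of k and F a non-constant polynomial in k[T_1,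
…, T_n]. The following are equivalent: (a) the k-scheme Spec(k[T_1, …, T_n]/(F)) is geometrically
integral; (b) for every extension field K of k the image of F in K[T_1, …, T_n] is irreducible; (c)
the image of F in Ω[T_1, …, T_n] is irreducible. (Such an F is called geometrically irreducible.) -/
theorem result {k : Type u} [Field k] (Ω : Type u) [Field Ω] [Algebra k Ω]
    [IsAlgClosed Ω] {n : ℕ} (F : MvPolynomial (Fin n) k) (hF : 0 < F.totalDegree) :
    List.TFAE [
      GeometricallyIntegral (Spec.map (CommRingCat.ofHom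
        (algebraMap k (MvPolynomial (Fin n) k ⧸ Ideal.span ({F} : Set (MvPolynomial (Fin n) k)))))),
      ∀ (K : Type u) [Field K] [Algebra k K], Irreducible (MvPolynomial.map (algebraMap k K) F),
      Irreducible (MvPolynomial.map (algebraMap k Ω) F)] := by
  have hF0 : F ≠ 0 := by rintro rfl; simp at hF
  have hinj : ∀ (K : Type u) [Field K] [Algebra k K], MvPolynomial.map (algebraMap k K) F ≠ 0 := fun K _ _ h =>
    hF0 ((map_eq_zero_iff _ (MvPolynomial.map_injective _ (algebraMap k K).injective)).1 h)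
  let A := MvPolynomial (Fin n) k ⧸ Ideal.span ({F} : Set (MvPolynomial (Fin n) k))
  have key : ∀ (K : Type u) [Field K] [Algebra k K],
      IsDomain (K ⊗[k] A) ↔ Irreducible (MvPolynomial.map (algebraMap k K) F) := by
    intro K _ _
    have hI : (Ideal.span ({F} : Set (MvPolynomial (Fin n) k))).map
        (Algebra.TensorProduct.includeRight (R := k) (A := K) (B := MvPolynomial (Fin n) k)) =
        Ideal.span {(1 : K) ⊗ₜ[k] F} := by rw [Ideal.map_span, Set.image_singleton]; rfl
    have hJ : Ideal.span {MvPolynomial.map (algebraMap k K) F} =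
        (Ideal.span {(1 : K) ⊗ₜ[k] F}).map (MvPolynomial.algebraTensorAlgEquiv k K (σ := Fin n)).toRingHom := by
      rw [Ideal.map_span, Set.image_singleton]
      simp [MvPolynomial.algebraTensorAlgEquiv_tmul]
    let e : K ⊗[k] A ≃+* MvPolynomial (Fin n) K ⧸ Ideal.span {MvPolynomial.map (algebraMap k K) F} :=
      ((Algebra.TensorProduct.tensorQuotientEquiv (R := k) K (MvPolynomial (Fin n) k) K _).toRingEquiv.trans
        (Ideal.quotEquivOfEq hI)).trans
        (Ideal.quotientEquiv _ _ (MvPolynomial.algebraTensorAlgEquiv k K (σ := Fin n)).toRingEquiv hJ)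
    rw [e.toMulEquiv.isDomain_iff, Ideal.Quotient.isDomain_iff_prime, Ideal.span_singleton_prime (hinj K)]
    exact UniqueFactorizationMonoid.irreducible_iff_prime.symm
  tfae_have 1 → 2 := by
    intro h K _ _
    refine (key K).1 ?_
    haveI : IsIntegral (pullback (Spec.map (CommRingCat.ofHom (algebraMap k A))) (Spec.map (CommRingCat.ofHom (algebraMap k K)))) :=
      GeometricallyIntegral.geometrically_isIntegral (Spec.map (CommRingCat.ofHom (algebraMap k K))) _ _ (IsPullback.of_hasPullback _ _)
    haveI : IsIntegral (Spec (CommRingCat.of (A ⊗[k] K))) :=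
      IsIntegral.of_isIso (pullbackSpecIso k A K).hom
    haveI : IsDomain (A ⊗[k] K) := (affine_isIntegral_iff _).1 ‹_›
    exact (Algebra.TensorProduct.comm k K A).toRingEquiv.toMulEquiv.isDomain _
  tfae_have 2 → 3 := fun h => h Ω
  tfae_have 3 → 1 := by
    intro h
    haveI hΩ : IsDomain (Ω ⊗[k] A) := (key Ω).2 h
    refine ⟨fun K _ x Z pa pb hp => ?_⟩
    suffices IsIntegral (pullback (Spec.map (CommRingCat.ofHom (algebraMap k A))) x) from IsIntegral.of_isIso hp.isoPullback.inv
    obtain ⟨φ, rfl⟩ := Spec.map_surjective (R := CommRingCat.of k) (S := CommRingCat.of K) x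
    letI : Algebra k K := φ.hom.toAlgebra
    haveI : Nontrivial (K ⊗[k] Ω) := inferInstance
    obtain ⟨m, hm⟩ := Ideal.exists_maximal (K ⊗[k] Ω)
    haveI := hm
    letI := Ideal.Quotient.field m
    let L := (K ⊗[k] Ω) ⧸ m
    letI : Algebra Ω L := ((Ideal.Quotient.mk m).comp
      (Algebra.TensorProduct.includeRight : Ω →ₐ[k] K ⊗[k] Ω).toRingHom).toAlgebra
    haveI : IsScalarTower k Ω L := IsScalarTower.of_algebraMap_eq fun c => by
      change algebraMap k L c = Ideal.Quotient.mk m ((1 : K) ⊗ₜ[k] algebraMap k Ω c)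
      rw [show (1 : K) ⊗ₜ[k] algebraMap k Ω c = algebraMap k (K ⊗[k] Ω) c from
        (Algebra.TensorProduct.includeRight : Ω →ₐ[k] K ⊗[k] Ω).commutes c]
      rfl
    haveI : IsDomain (K ⊗[k] A) := isDomain_of_ext (L := (K ⊗[k] Ω) ⧸ m) (Ω := Ω) (A := A)
      ((Ideal.Quotient.mkₐ k m).comp Algebra.TensorProduct.includeLeft)
    haveI : IsDomain (A ⊗[k] K) := (Algebra.TensorProduct.comm k A K).toRingEquiv.toMulEquiv.isDomain _
    haveI : IsIntegral (Spec (CommRingCat.of (A ⊗[k] K))) := (affine_isIntegral_iff _).2 ‹_›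
    exact IsIntegral.of_isIso (pullbackSpecIso k A K).inv
  tfae_finish

end Groth.Agent.S4824
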