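import Groth.Statements.S4825
import Groth.Agent.S0385

set_option autoImplicit false
set_option linter.style.haveILetI false
set_option backward.isDefEq.respectTransparency false
set_option backward.isDefEq.respectTransparency.types false
open CategoryTheory AlgebraicGeometry
universe u
open Lim8

namespace Groth.Agent.S4825

open CategoryTheory.Limits

theorem isSeparated_of_forall_stalk {X Y : Scheme.{u}} (f : X ⟶ Y) [QuasiSeparated f]
    (h : ∀ y : Y, IsSeparated (pullback.snd f (Y.fromSpecStalk y))) : IsSeparated f := by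
  refine IsSeparated.of_valuativeCriterion f fun S => ⟨?_⟩
  rintro ⟨l₁, hl₁, hl₁'⟩ ⟨l₂, hl₂, hl₂'⟩
  ext : 1
  dsimp at *
  let t := Spec.map (Scheme.stalkClosedPointTo S.i₂)
  have ht : t ≫ Y.fromSpecStalk _ = S.i₂ := Scheme.Spec_stalkClosedPointTo_fromSpecStalk _
  let m₁ := pullback.lift l₁ t (hl₁'.trans ht.symm)
  let m₂ := pullback.lift l₂ t (hl₂'.trans ht.symm)
  haveI := h (S.i₂ (IsLocalRing.closedPoint S.R))
  haveI : IsDominant (Spec.map (CommRingCat.ofHom (algebraMap S.R S.K))) :=
    ⟨(PrimeSpectrum.denseRange_comap_iff_ker_le_nilRadical (f := algebraMap S.R S.K)).2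
      (((RingHom.injective_iff_ker_eq_bot _).1 (IsFractionRing.injective S.R S.K)).le.trans bot_le)⟩
  have hm : m₁ = m₂ := ext_of_isDominant_of_isSeparated (pullback.snd f _) (by simp [m₁, m₂])
    (Spec.map (CommRingCat.ofHom (algebraMap S.R S.K)))
    (pullback.hom_ext (by simp [m₁, m₂, hl₁, hl₂]) (by simp [m₁, m₂]))
  simpa [m₁, m₂] using congr($hm ≫ pullback.fst f _)

theorem locallyQuasiFinite_of_forall_stalk {X Y : Scheme.{u}} (f : X ⟶ Y) [LocallyOfFiniteType f]
    [QuasiCompact f] (h : ∀ y : Y, LocallyQuasiFinite (pullback.snd f (Y.fromSpecStalk y))) :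
    LocallyQuasiFinite f := by
  refine LocallyQuasiFinite.of_finite_preimage_singleton f fun y => ?_
  haveI := h y
  refine (((pullback.snd f (Y.fromSpecStalk y)).finite_preimage_singleton
    (IsLocalRing.closedPoint (Y.presheaf.stalk y))).image (pullback.fst f (Y.fromSpecStalk y))).subset ?_
  intro x hx
  obtain ⟨z, h1, h2⟩ := Scheme.Pullback.exists_preimage_pullback (f := f) (g := Y.fromSpecStalk y) x
    (IsLocalRing.closedPoint (Y.presheaf.stalk y)) (by rw [Scheme.fromSpecStalk_closedPoint]; exact hx)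
  exact ⟨z, h2, h1⟩

open CategoryTheory.Limits in
/-- Let Y be a Noetherian scheme and f : X ⟶ Y a morphism of finite type. Then f admits a factorization
into an immersion followed by a finite morphism if and only if, for every point y of Y, the base
change X ×_Y Spec O_{Y,y} ⟶ Spec O_{Y,y} of f to the local scheme of Y at y admits such a
factorization. (Pointwise criterion for pseudo-finite morphisms.) -/
theorem result {X Y : Scheme.{u}} (f : X ⟶ Y) [IsNoetherian Y]
    [LocallyOfFiniteType f] [QuasiCompact f] :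
    (∃ (Y' : Scheme.{u}) (f' : X ⟶ Y') (u : Y' ⟶ Y), IsImmersion f' ∧ IsFinite u ∧ f' ≫ u = f) ↔
      ∀ y : Y, ∃ (Z : Scheme.{u}) (g : pullback f (Y.fromSpecStalk y) ⟶ Z) (u : Z ⟶ Spec (Y.presheaf.stalk y)),
        IsImmersion g ∧ IsFinite u ∧ g ≫ u = pullback.snd f (Y.fromSpecStalk y) := by
  refine ⟨?_, fun h => ?_⟩
  · rintro ⟨Y', f', u, hf', hu, rfl⟩ y
    refine ⟨pullback u (Y.fromSpecStalk y), pullback.map _ _ _ _ f' (𝟙 _) (𝟙 _) (by simp) (by simp),
      pullback.snd _ _, ?_, inferInstance, by simp⟩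
    haveI := hf'
    have hsq : IsPullback (pullback.map (f' ≫ u) (Y.fromSpecStalk y) u (Y.fromSpecStalk y) f' (𝟙 _) (𝟙 _) (by simp) (by simp))
        (pullback.fst (f' ≫ u) (Y.fromSpecStalk y)) (pullback.fst u (Y.fromSpecStalk y)) f' :=
      IsPullback.of_right (by simpa using (IsPullback.of_hasPullback (f' ≫ u) (Y.fromSpecStalk y)).flip)
        (by simp) (IsPullback.of_hasPullback u (Y.fromSpecStalk y)).flip
    exact MorphismProperty.of_isPullback (P := @IsImmersion) hsq.flip hf'
  · haveI : IsLocallyNoetherian X := LocallyOfFiniteType.isLocallyNoetherian f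
    haveI : QuasiSeparated f := inferInstance
    have hsep : IsSeparated f := isSeparated_of_forall_stalk f fun y => by
      obtain ⟨Z, g, u, hg, hu, hgu⟩ := h y
      rw [← hgu]
      infer_instance
    have hqf : LocallyQuasiFinite f := locallyQuasiFinite_of_forall_stalk f fun y => by
      obtain ⟨Z, g, u, hg, hu, hgu⟩ := h y
      rw [← hgu]
      infer_instance
    obtain ⟨T, j, π, hj, -, hπ, hfac⟩ := S0385.result f
    exact ⟨T, j, π, inferInstance, hπ, hfac⟩

end Groth.Agent.S4825
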