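import Groth.Statements.S4827
import Groth.Agent.Codepth5.GeomNormal

set_option autoImplicit false
open CategoryTheory AlgebraicGeometry
universe u
open Cons9

namespace Groth.Agent.S4827

/-- Let f : X ⟶ S be a morphism of finite presentation (locally of finite presentation, quasi-compact
and quasi-separated). Then the set of points s of S whose fibre X_s is geometrically normal over
κ(s), i.e. such that for every extension field K of κ(s) all local rings of X_s ⊗_{κ(s)} K are
integrally closed domains, is locally constructible in S. This is the case of geometric normality. -/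
theorem result {X S : Scheme.{u}} (f : X ⟶ S)
    [LocallyOfFinitePresentation f] [QuasiCompact f] [QuasiSeparated f] :
    Topology.IsLocallyConstructible {s : S |
      ∀ (K : Type u) [Field K] [Algebra (IsLocalRing.ResidueField (S.presheaf.stalk s)) K]
        (x' : ↥(FBase.bc (f.fiberToSpecResidueField s) K)),
        IsDomain ((FBase.bc (f.fiberToSpecResidueField s) K).presheaf.stalk x') ∧
          IsIntegrallyClosed ((FBase.bc (f.fiberToSpecResidueField s) K).presheaf.stalk x')} := by
    convert Groth.Agent.Codepth5.isLC_compl (f.isLocallyConstructible_image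
      (Groth.Agent.Codepth5.isLC_compl (Groth.Agent.Codepth5.isLC_normal f))) using 1
    ext s
    simp only [Set.mem_ofPred_eq, Set.mem_compl_iff, Set.mem_image]
    constructor
    · rintro h ⟨x, hx, rfl⟩
      exact hx ((Groth.Agent.Codepth5.normal_all_iff f x).1 fun K _ _ x' _ => h K x')
    · intro h K _ _ x'
      have h' : ∀ x, f.base x = s → Groth.Agent.Codepth5.RkCond f 1 x ∧
          Groth.Agent.Codepth5.FibP (Groth.Agent.Codepth5.SkR 2) f x :=
        fun x hx => by_contra fun hn => h ⟨x, hn, hx⟩
      refine Groth.Agent.Codepth5.fibre_induction f (fun s w => (∀ x, f.base x = s →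
          Groth.Agent.Codepth5.RkCond f 1 x ∧ Groth.Agent.Codepth5.FibP (Groth.Agent.Codepth5.SkR 2) f x) →
        ∀ (K : Type u) [Field K] [Algebra (IsLocalRing.ResidueField (S.presheaf.stalk s)) K]
          (x' : ↥(FBase.bc (f.fiberToSpecResidueField s) K)),
          (FBase.bcπ (f.fiberToSpecResidueField s) K).base x' = w →
          IsDomain ((FBase.bc (f.fiberToSpecResidueField s) K).presheaf.stalk x') ∧
            IsIntegrallyClosed ((FBase.bc (f.fiberToSpecResidueField s) K).presheaf.stalk x'))
        (fun x hx K _ _ x' he => (Groth.Agent.Codepth5.normal_all_iff f x).2 (hx x rfl) K x' he) s _ h' K x' rfl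

end Groth.Agent.S4827
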