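import Groth.Statements.S4829
import Groth.Agent.AmpleDesc5.Field
import Groth.Agent.S1496
import Groth.Agent.S1497
import Groth.Agent.EtFound.Descent
import Groth.Agent.AmpleX.Separated

set_option backward.isDefEq.respectTransparency.types false
set_option backward.isDefEq.respectTransparency false
set_option linter.style.haveILetI false

set_option autoImplicit false
open CategoryTheory AlgebraicGeometry
universe u
open Cons9

namespace Groth.Agent.S4829

open CategoryTheory.Limits in
/-- Let k be a field, X a scheme over k and K an extension field of k. If the base change X ⊗_k K admits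
a closed immersion over K into a projective space P^n_K (X ⊗_k K is projective over K), then X
admits a closed immersion over k into some projective space P^n_k (X is projective over k). This is
the projective case (projective spaces are Proj of polynomial rings base-changed to the base; the
base change X ⊗_k K is the chosen fibre product). -/
theorem result {k : Type u} [Field k] {X : Scheme.{u}}
    (p : X ⟶ Spec (CommRingCat.of k)) (K : Type u) [Field K] [Algebra k K]
    (h : ∃ (n : ℕ) (i : pullback p (Spec.map (CommRingCat.ofHom (algebraMap k K))) ⟶ CohB1.ProjSpaceOver n (Spec (CommRingCat.of K))),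
      IsClosedImmersion i ∧ i ≫ CohB1.ProjSpaceOver.toBase n (Spec (CommRingCat.of K)) = pullback.snd p (Spec.map (CommRingCat.ofHom (algebraMap k K)))) :
    ∃ (n : ℕ) (i : X ⟶ CohB1.ProjSpaceOver n (Spec (CommRingCat.of k))),
      IsClosedImmersion i ∧ i ≫ CohB1.ProjSpaceOver.toBase n (Spec (CommRingCat.of k)) = p := by
  obtain ⟨n, i, hi, hc⟩ := h
  haveI := hi
  let τ := Spec.map (CommRingCat.ofHom (algebraMap k K))
  haveI : Flat τ := Flat.SpecMap_iff.2 (RingHom.flat_algebraMap_iff.2 inferInstance)
  haveI : Surjective τ := ⟨fun y => ⟨Classical.arbitrary _, Subsingleton.elim _ _⟩⟩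
  haveI : IsProper (CohB1.ProjSpaceOver.toBase n (Spec (CommRingCat.of K))) :=
    MorphismProperty.pullback_snd _ _ (Groth.Agent.PnCoh.Chow.isProper_toSpec n _)
  haveI : IsLocallyNoetherian (CohB1.ProjSpaceOver n (Spec (CommRingCat.of K))) :=
    LocallyOfFiniteType.isLocallyNoetherian (CohB1.ProjSpaceOver.toBase n (Spec (CommRingCat.of K)))
  haveI : CompactSpace (CohB1.ProjSpaceOver n (Spec (CommRingCat.of K))) :=
    QuasiCompact.compactSpace_of_compactSpace (CohB1.ProjSpaceOver.toBase n (Spec (CommRingCat.of K)))
  haveI : IsNoetherian (CohB1.ProjSpaceOver n (Spec (CommRingCat.of K))) := { }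
  haveI : QuasiCompact i := inferInstance
  haveI hQ : (@Surjective ⊓ @Flat ⊓ @QuasiCompact : MorphismProperty Scheme.{u}) τ :=
    ⟨⟨inferInstance, inferInstance⟩, inferInstance⟩
  have hN : ∃ N : (Spec (CommRingCat.of K)).Modules, CohB1.IsAmple N :=
    ⟨_, Groth.Agent.AmpleX.isAmple_of_isQuasiAffine (Groth.Agent.InvX.isInvertible_structureModule)⟩
  have hn : ∃ N : (Spec (CommRingCat.of k)).Modules, CohB1.IsAmple N :=
    ⟨_, Groth.Agent.AmpleX.isAmple_of_isQuasiAffine (Groth.Agent.InvX.isInvertible_structureModule)⟩
  obtain ⟨hp, hL⟩ := ((Groth.Agent.S1496.result hN (pullback.snd p τ)).1).1 ⟨n, i, hi, hc⟩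
  haveI := Groth.Agent.EtFound.fpqc_isProper.{u}
  haveI : IsProper p := MorphismProperty.of_pullback_snd_of_descendsAlong (P := @IsProper) hQ hp
  exact ((Groth.Agent.S1496.result hn p).1).2
    ⟨inferInstance, Groth.Agent.AmpleDesc5.exists_isAmple_of_baseChange_field k K p hL⟩

end Groth.Agent.S4829
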