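import Groth.Statements.S4833
import Groth.Agent.FlatFibre5.General

set_option autoImplicit false
set_option backward.isDefEq.respectTransparency false
set_option backward.isDefEq.respectTransparency.types false
open CategoryTheory AlgebraicGeometry
universe u
open Cons9

namespace Groth.Agent.S4833

open CategoryTheory.Limits in
/-- Let S be an integral Noetherian scheme with generic point η, let g : X ⟶ Y be an S-morphism between
schemes of finite type over S (structure morphisms h : Y ⟶ S and g ≫ h), and let F be a coherent
O_X-module. For s in S write g_s : X_s ⟶ Y_s for the morphism induced on the fibres over s and F_s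
for the pullback of F to X_s. If F_η is not flat relative to g_η (not flat over O_{Y_η, g_η(x)} at
some point x of X_η), then there is an open neighbourhood U of η such that for every s in U the
module F_s is not flat relative to g_s. -/
theorem result {X Y S : Scheme.{u}} [IsIntegral S] [IsNoetherian S]
    (g : X ⟶ Y) (h : Y ⟶ S) [LocallyOfFiniteType h] [QuasiCompact h]
    [LocallyOfFiniteType (g ≫ h)] [QuasiCompact (g ≫ h)]
    (F : X.Modules) [Coh.IsQCoh F] (hF : CohB1.IsFP F)
    (hη : ¬ FlatMod.IsFlatOver
      (pullback.lift (pullback.fst (g ≫ h) (S.fromSpecResidueField (genericPoint S)) ≫ g)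
          (pullback.snd (g ≫ h) (S.fromSpecResidueField (genericPoint S)))
          ((Category.assoc _ _ _).trans pullback.condition) :
        pullback (g ≫ h) (S.fromSpecResidueField (genericPoint S)) ⟶ pullback h (S.fromSpecResidueField (genericPoint S)))
      ((Scheme.Modules.pullback (pullback.fst (g ≫ h) (S.fromSpecResidueField (genericPoint S)))).obj F)) :
    ∃ U : S.Opens, genericPoint S ∈ U ∧ ∀ s ∈ U, ¬ FlatMod.IsFlatOver
      (pullback.lift (pullback.fst (g ≫ h) (S.fromSpecResidueField s) ≫ g) (pullback.snd (g ≫ h) (S.fromSpecResidueField s))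
          ((Category.assoc _ _ _).trans pullback.condition) :
        pullback (g ≫ h) (S.fromSpecResidueField s) ⟶ pullback h (S.fromSpecResidueField s))
      ((Scheme.Modules.pullback (pullback.fst (g ≫ h) (S.fromSpecResidueField s))).obj F) := by
  haveI : IsLocallyNoetherian Y := LocallyOfFiniteType.isLocallyNoetherian h
  haveI : IsLocallyNoetherian X := LocallyOfFiniteType.isLocallyNoetherian (g ≫ h)
  haveI : CompactSpace X := QuasiCompact.compactSpace_of_compactSpace (g ≫ h)
  haveI : CompactSpace Y := QuasiCompact.compactSpace_of_compactSpace h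
  haveI : IsNoetherian X := {}
  haveI : IsNoetherian Y := {}
  haveI : QuasiSeparated h := inferInstance
  haveI : QuasiSeparated (g ≫ h) := inferInstance
  let E : Set S := {s : S | ∀ x : X, (g ≫ h) x = s → FlatFibre5.FibFlatAt g h F x}
  have key : ∀ s : S, s ∈ E ↔ FlatMod.IsFlatOver (MoreMor.fiberMap g h s)
      ((Scheme.Modules.pullback ((g ≫ h).fiberι s)).obj F) := by
    intro s
    constructor
    · intro hs z
      refine (FlatFibre5.fibFlatAt_iff g h F s z).1 (hs _ ?_)
      exact Set.mem_singleton_iff.1 ((g ≫ h).range_fiberι s ▸ ⟨z, rfl⟩ : _ ∈ (g ≫ h) ⁻¹' {s})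
    · rintro hs x rfl
      have := (FlatFibre5.fibFlatAt_iff g h F _ ((g ≫ h).asFiber x)).2 (hs _)
      rwa [Scheme.Hom.fiberι_asFiber] at this
  have hE := FlatFibre5.isLocallyConstructible_compl (FlatFibre5.isLocallyConstructible_fibre_locus g h ‹_› hF)
  have hη' : genericPoint S ∈ Eᶜ := fun hm => hη ((key _).1 hm)
  refine ⟨⟨interior Eᶜ, isOpen_interior⟩, ConsPropLib.mem_interior_of_isLocallyConstructible hE hη', fun s hs hflat => ?_⟩
  exact interior_subset hs ((key s).2 hflat)

end Groth.Agent.S4833
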