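import Groth.Statements.S4834
import Groth.Agent.Triage.FPColim

set_option autoImplicit false
open CategoryTheory CategoryTheory.Limits
universe u
open Lim8

namespace Groth.Agent.S4834

/-- Let A be a commutative ring, M an A-module of finite type and (N_λ) an inductive system of A-modules
indexed by a nonempty directed preordered set. Then the canonical map colim_λ Hom_A(M, N_λ) →
Hom_A(M, colim_λ N_λ), sending a compatible system of homomorphisms to its inductive limit, is
injective. This is the finite type case, in the form its proof gives. -/
theorem result {A : Type u} [CommRing A] (M : ModuleCat.{u} A)
    [Module.Finite A M] {J : Type u} [Preorder J] [IsDirected J (· ≤ ·)] [Nonempty J]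
    (N : J ⥤ ModuleCat.{u} A) :
    Function.Injective (colimit.post N (coyoneda.obj (Opposite.op M))) := by
  exact Triage.FPColim.injective N M

end Groth.Agent.S4834
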