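import Groth.Statements.S4837
import Groth.Agent.RelSpecX.Gamma
import Mathlib.AlgebraicGeometry.Morphisms.Immersion

set_option autoImplicit false
set_option backward.isDefEq.respectTransparency false
set_option backward.isDefEq.respectTransparency.types false
set_option linter.style.haveILetI false
open CategoryTheory AlgebraicGeometry
universe u
open Lim8

namespace Groth.Agent.S4837
theorem app_injective_of_ker_eq_bot {X Z : Scheme.{u}} (g : X ⟶ Z) [QuasiCompact g] (h : g.ker = ⊥) (W : Z.Opens) :
    Function.Injective (g.app W).hom := by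
  intro a b hab
  refine Z.sheaf.eq_of_locally_eq' (fun V : {V : Z.affineOpens // V.1 ≤ W} => V.1.1) W
    (fun V => homOfLE V.2) (fun x hx => ?_) a b fun V => ?_
  · obtain ⟨V, hV, hxV, hVW⟩ := exists_isAffineOpen_mem_and_subset (X := Z) (x := x) (U := W) hx
    exact TopologicalSpace.Opens.mem_iSup.2 ⟨⟨⟨V, hV⟩, hVW⟩, hxV⟩
  · have hker : RingHom.ker (g.app V.1.1).hom = ⊥ := by
      rw [← Scheme.Hom.ker_apply g V.1, h]; rfl
    refine (RingHom.injective_iff_ker_eq_bot _).2 hker ?_
    show g.app V.1.1 (Z.presheaf.map (homOfLE V.2).op a) = g.app V.1.1 (Z.presheaf.map (homOfLE V.2).op b)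
    rw [← CommRingCat.comp_apply, ← CommRingCat.comp_apply, g.naturality, CommRingCat.comp_apply,
      CommRingCat.comp_apply]
    exact congrArg _ hab


/-- Let f : X ⟶ Y be a quasi-compact quasi-separated morphism, C a quasi-coherent O_Y-algebra with
relative spectrum Z = Spec(C) over Y, g : X ⟶ Z a Y-morphism which is an immersion, and φ : C ⟶
f_*O_X the homomorphism of O_Y-algebras corresponding to g (the canonical identification of C with
the direct image of O_Z followed by the map induced by g). Then the scheme-theoretic image of g is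
the whole of Z, i.e. the kernel ideal of g vanishes, if and only if φ is injective; and when this
holds g is an open immersion. -/
theorem result {X Y : Scheme.{u}} (f : X ⟶ Y)
    [QuasiCompact f] [QuasiSeparated f] (C : RelSpec.QCAlg Y) (g : X ⟶ C.spec) (w : g ≫ C.π = f)
    [IsImmersion g] (φ : C ⟶ RelSpec.QCAlg.directImage f)
    (hφ : C.gammaMap ≫ φ.hom = AffAlg.algHom C.π f g w) :
    (g.ker = ⊥ ↔ ∀ U : Y.Opens, Function.Injective (φ.hom.app (Opposite.op U)).hom) ∧
      (g.ker = ⊥ → IsOpenImmersion g) := by
  subst w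
  haveI : IsAffineHom C.π := inferInstance
  haveI : QuasiCompact g := QuasiCompact.of_comp g C.π
  haveI := RelSpecX.isIso_gammaMap C
  have hU : ∀ U : Y.Opens, Function.Injective (φ.hom.app (Opposite.op U)).hom ↔
      Function.Injective (g.app (C.π ⁻¹ᵁ U)).hom := by
    intro U
    have e : C.gammaMap.app (Opposite.op U) ≫ φ.hom.app (Opposite.op U) = g.app (C.π ⁻¹ᵁ U) := by
      rw [← NatTrans.comp_app, hφ]
      exact Category.comp_id _
    have hb : Function.Bijective (C.gammaMap.app (Opposite.op U)).hom :=
      ConcreteCategory.bijective_of_isIso (C.gammaMap.app (Opposite.op U))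
    rw [← e]
    exact ⟨fun h => h.comp hb.1, fun h => (Function.Injective.of_comp_right h hb.2)⟩
  refine ⟨⟨fun h U => (hU U).2 (app_injective_of_ker_eq_bot g h _), fun h => ?_⟩, fun h => ?_⟩
  · refine Scheme.IdealSheafData.ext_of_iSup_eq_top
      (fun U : Y.affineOpens => (⟨C.π ⁻¹ᵁ U.1, U.2.preimage C.π⟩ : C.spec.affineOpens)) ?_ fun U => ?_
    · rw [← Scheme.Hom.preimage_iSup, iSup_affineOpens_eq_top, Scheme.Hom.preimage_top]
    · rw [Scheme.Hom.ker_apply]
      exact ((RingHom.injective_iff_ker_eq_bot _).1 ((hU U.1).1 (h U.1))).trans rfl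
  · haveI : IsIso g.imageι := (Scheme.isIso_subschemeι_iff_eq_bot _).2 h
    rw [← g.toImage_imageι]
    infer_instance

end Groth.Agent.S4837
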