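import Groth.Statements.S4839
import Groth.Agent.ConsPropLib.FiniteExt

set_option autoImplicit false
open CategoryTheory AlgebraicGeometry
universe u
open Cons9

namespace Groth.Agent.S4839

open CategoryTheory.Limits in
/-- Let k be a field and X, Y two schemes of finite type over k. If for some field extension K of k
there is a K-isomorphism X ⊗_k K ≅ Y ⊗_k K (X and Y are geometrically isomorphic), then there are a
finite extension k' of k and a k'-isomorphism X ⊗_k k' ≅ Y ⊗_k k'. This is the case of the property
of being an isomorphism (base changes are the chosen fibre products with Spec of the extension). -/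
theorem result {k : Type u} [Field k] {X Y : Scheme.{u}}
    (p : X ⟶ Spec (CommRingCat.of k)) (q : Y ⟶ Spec (CommRingCat.of k))
    [LocallyOfFiniteType p] [QuasiCompact p] [LocallyOfFiniteType q] [QuasiCompact q]
    (K : Type u) [Field K] [Algebra k K]
    (e : pullback p (Spec.map (CommRingCat.ofHom (algebraMap k K))) ≅ pullback q (Spec.map (CommRingCat.ofHom (algebraMap k K))))
    (he : e.hom ≫ pullback.snd q (Spec.map (CommRingCat.ofHom (algebraMap k K))) = pullback.snd p (Spec.map (CommRingCat.ofHom (algebraMap k K)))) :
    ∃ (k' : Type u) (_ : Field k') (_ : Algebra k k') (_ : Module.Finite k k')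
      (e' : pullback p (Spec.map (CommRingCat.ofHom (algebraMap k k'))) ≅ pullback q (Spec.map (CommRingCat.ofHom (algebraMap k k')))),
      e'.hom ≫ pullback.snd q (Spec.map (CommRingCat.ofHom (algebraMap k k'))) = pullback.snd p (Spec.map (CommRingCat.ofHom (algebraMap k k'))) := by
  exact Groth.Agent.ConsPropLib.exists_iso_baseChange_finite p q _ e he

end Groth.Agent.S4839
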