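import Groth.Statements.S4840
import Groth.Agent.LimModLib.FlatLimit

set_option autoImplicit false
universe u
open CategoryTheory AlgebraicGeometry
open Lim8

namespace Groth.Agent.S4840

/-- Let S = lim S_i be a cofiltered limit of schemes whose transition maps are affine and flat, and
S_{i₀} a quasi-compact stage; let f₀ : F₀ ⟶ G₀ and g₀ : G₀ ⟶ H₀ be homomorphisms of quasi-coherent
O-modules on S_{i₀} such that the image of f₀ and the kernel of g₀ are O-modules of finite type.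
Then the pulled-back sequence F ⟶ G ⟶ H on S is exact (the composite is zero and the sequence is
exact at G) if and only if, for some index j over i₀, the pulled-back sequence F_j ⟶ G_j ⟶ H_j on
S_j is exact. -/
theorem result {I : Type u} [SmallCategory I] [IsCofiltered I]
    (D : I ⥤ Scheme.{u}) (c : Limits.Cone D) (hc : Limits.IsLimit c)
    [∀ (i j : I) (f : i ⟶ j), IsAffineHom (D.map f)] (i₀ : I) [CompactSpace (D.obj i₀)]
    [∀ (i j : I) (f : i ⟶ j), Flat (D.map f)]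
    {F₀ G₀ H₀ : (D.obj i₀).Modules} [Coh.IsQCoh F₀] [Coh.IsQCoh G₀] [Coh.IsQCoh H₀]
    (f₀ : F₀ ⟶ G₀) (g₀ : G₀ ⟶ H₀)
    (hIm : CohB1.IsFT (Limits.image f₀)) (hKer : CohB1.IsFT (Limits.kernel g₀)) :
    (∃ w : (Scheme.Modules.pullback (c.π.app i₀)).map f₀ ≫ (Scheme.Modules.pullback (c.π.app i₀)).map g₀ = 0, (ShortComplex.mk _ _ w).Exact) ↔
      ∃ (j : I) (φ : j ⟶ i₀) (w : (Scheme.Modules.pullback (D.map φ)).map f₀ ≫ (Scheme.Modules.pullback (D.map φ)).map g₀ = 0),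
        (ShortComplex.mk _ _ w).Exact := by
  haveI : ∀ {a b : I} (r : a ⟶ b), IsAffineHom (D.map r) := fun {a b} r => ‹∀ (i j : I) (f : i ⟶ j), IsAffineHom (D.map f)› a b r
  have hfl : ∀ (j : I) (φ : j ⟶ i₀), Flat (D.map φ) := fun j φ => ‹∀ (i j : I) (f : i ⟶ j), Flat (D.map f)› j i₀ φ
  have hF : Coh.IsQCoh F₀ := ‹_›
  have hG : Coh.IsQCoh G₀ := ‹_›
  have hH : Coh.IsQCoh H₀ := ‹_›
  haveI := Groth.Agent.LimModLib.flat_π hc i₀ hfl
  have hI : Coh.IsQCoh (Limits.image f₀) := (Groth.Agent.QCoh.isQCoh_iff_iso (Abelian.imageIsoImage f₀)).1 (Groth.Agent.QCoh.isQCoh_kernel hG (Groth.Agent.QCoh.isQCoh_cokernel hF hG f₀) _)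
  have hK : Coh.IsQCoh (Limits.kernel g₀) := Groth.Agent.QCoh.isQCoh_kernel hG hH g₀
  have hC : Coh.IsQCoh (Limits.cokernel f₀) := Groth.Agent.QCoh.isQCoh_cokernel hF hG f₀
  rw [Groth.Agent.LimModLib.exact_pullback_iff _ hF hG hH]
  constructor
  · rintro ⟨h1, h2⟩
    obtain ⟨j₁, φ₁, hj₁⟩ := (Groth.Agent.LimModLib.map_eq_zero_iff_eventually hc hI hIm hH _).1 h1
    obtain ⟨j₂, φ₂, hj₂⟩ := (Groth.Agent.LimModLib.map_eq_zero_iff_eventually hc hK hKer hC _).1 h2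
    obtain ⟨k, a, b, hab⟩ := IsCofiltered.cospan φ₁ φ₂
    have hlater : ∀ {j : I} (φ : j ⟶ i₀) (r : k ⟶ j) {A B : (D.obj i₀).Modules} (d : A ⟶ B),
        (Scheme.Modules.pullback (D.map φ)).map d = 0 → (Scheme.Modules.pullback (D.map (r ≫ φ))).map d = 0 := by
      intro j φ r A B d hd
      let t := Scheme.Modules.pullbackComp (D.map r) (D.map φ) ≪≫
        Scheme.Modules.pullbackCongr (D.map_comp r φ).symm
      have hn := t.hom.naturality d
      dsimp only [Functor.comp_map] at hn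
      rw [hd, Functor.map_zero, Limits.zero_comp] at hn
      exact (cancel_epi (t.hom.app A)).1 (hn.symm.trans Limits.comp_zero.symm)
    refine ⟨k, a ≫ φ₁, ?_⟩
    haveI := hfl k (a ≫ φ₁)
    refine (Groth.Agent.LimModLib.exact_pullback_iff _ hF hG hH f₀ g₀).2 ⟨hlater φ₁ a _ hj₁, ?_⟩
    rw [hab]
    exact hlater φ₂ b _ hj₂
  · rintro ⟨j, φ, hj⟩
    haveI := hfl j φ
    obtain ⟨h1, h2⟩ := (Groth.Agent.LimModLib.exact_pullback_iff _ hF hG hH f₀ g₀).1 hj
    exact ⟨(Groth.Agent.LimModLib.map_eq_zero_iff_eventually hc hI hIm hH _).2 ⟨j, φ, h1⟩,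
      (Groth.Agent.LimModLib.map_eq_zero_iff_eventually hc hK hKer hC _).2 ⟨j, φ, h2⟩⟩

end Groth.Agent.S4840
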