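import Groth.Statements.S4844
import Groth.Agent.AmpleDesc5.Loci
import Groth.Agent.S12442

set_option backward.isDefEq.respectTransparency.types false
set_option backward.isDefEq.respectTransparency false
set_option linter.style.haveILetI false

set_option autoImplicit false
open CategoryTheory AlgebraicGeometry
universe u
open Cons9

namespace Groth.Agent.S4844

open CategoryTheory.Limits in
/-- Let g : Y ⟶ S and f : X ⟶ Y be such that X and Y are of finite presentation over S (locally of
finite presentation, quasi-compact and quasi-separated). For each point s of S let f_s : X_s ⟶ Y_s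
be the morphism induced on the fibres over s. Then the set of s for which f_s is quasi-projective
(of finite type, with an invertible O_{X_s}-module ample relative to f_s) is ind-constructible in S. -/
theorem result {X Y S : Scheme.{u}} (f : X ⟶ Y) (g : Y ⟶ S)
    [LocallyOfFinitePresentation g] [QuasiCompact g] [QuasiSeparated g]
    [LocallyOfFinitePresentation (f ≫ g)] [QuasiCompact (f ≫ g)] [QuasiSeparated (f ≫ g)] :
    ProCons.IsIndConstructible {s : S |
      RelProj.IsQuasiProjective
        (pullback.lift (pullback.fst (f ≫ g) (S.fromSpecResidueField s) ≫ f) (pullback.snd (f ≫ g) (S.fromSpecResidueField s))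
          ((Category.assoc _ _ _).trans pullback.condition) :
        pullback (f ≫ g) (S.fromSpecResidueField s) ⟶ pullback g (S.fromSpecResidueField s))} := by
  haveI : QuasiCompact f := QuasiCompact.of_comp f g
  haveI : QuasiSeparated f := QuasiSeparated.of_comp f g
  haveI : LocallyOfFinitePresentation f := Groth.Agent.S12442.locallyOfFinitePresentation_of_comp f g
  convert Groth.Agent.AmpleDesc5.isIndConstructible_of_stage (S := S)
    (fun {T} τ => Groth.Agent.AmpleDesc5.QA f g τ)
    (fun τ a h => Groth.Agent.AmpleDesc5.QA_mono f g τ a h)
    (fun {I} _ _ E {c} hc hA {i} τ h => Groth.Agent.AmpleDesc5.QA_stage f g E hc hA τ h) using 1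
  ext s
  have sq := Groth.Agent.AmpleDesc5.isPullback_fibreMap f g (S.fromSpecResidueField s)
  constructor
  · rintro ⟨-, -, L, hL⟩
    have h := Groth.Agent.AmpleDesc5.isRelAmple_of_iso_source sq.isoPullback.symm _ hL
    rw [Iso.symm_hom, sq.isoPullback_inv_snd] at h
    exact ⟨_, h⟩
  · rintro ⟨M, hM⟩
    have h := Groth.Agent.AmpleDesc5.isRelAmple_of_iso_source sq.isoPullback _ hM
    rw [sq.isoPullback_hom_snd] at h
    exact ⟨MorphismProperty.of_isPullback sq inferInstance, MorphismProperty.of_isPullback sq inferInstance, _, h⟩

end Groth.Agent.S4844
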