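import Groth.Statements.S4846
import Groth.Agent.AmpleDesc5.RelStage17

set_option backward.isDefEq.respectTransparency false
set_option backward.isDefEq.respectTransparency.types false
set_option linter.style.haveILetI false
set_option maxHeartbeats 1000000

set_option autoImplicit false
universe u
open CategoryTheory CategoryTheory.Limits AlgebraicGeometry
open Lim8

namespace Groth.Agent.S4846

/-- Let S = lim S_i be a cofiltered limit of schemes with affine transition maps and S_{i₀} a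
quasi-compact stage; let X₀ and Y₀ be schemes of finite presentation over S_{i₀}, f₀ : X₀ ⟶ Y₀ an
S_{i₀}-morphism and L₀ an invertible O_{X₀}-module. Let f : X ⟶ Y be the base change of f₀ along S ⟶
S_{i₀} and L the pullback of L₀ to X (base changes are expressed by pullback squares). Then L is
ample relative to f if and only if, for some index j over i₀, the pullback L_j of L₀ to X_j is ample
relative to the base change f_j : X_j ⟶ Y_j of f₀ along S_j ⟶ S_{i₀}. This is the case of relative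
ampleness (the very ample case is not stated here). -/
theorem result {I : Type u} [SmallCategory I] [IsCofiltered I]
    (D : I ⥤ Scheme.{u}) (c : Limits.Cone D) (hc : Limits.IsLimit c)
    [∀ (i j : I) (f : i ⟶ j), IsAffineHom (D.map f)] (i₀ : I) [CompactSpace (D.obj i₀)]
    {X₀ Y₀ : Scheme.{u}} (f₀ : X₀ ⟶ Y₀) (g₀ : Y₀ ⟶ D.obj i₀)
    [LocallyOfFinitePresentation g₀] [QuasiCompact g₀] [QuasiSeparated g₀]
    [LocallyOfFinitePresentation (f₀ ≫ g₀)] [QuasiCompact (f₀ ≫ g₀)] [QuasiSeparated (f₀ ≫ g₀)]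
    (L₀ : X₀.Modules) (hL₀ : PicF.IsInvertible L₀)
    {X Y : Scheme.{u}} (f : X ⟶ Y) (g : Y ⟶ c.pt) (qY : Y ⟶ Y₀) (qX : X ⟶ X₀)
    (hY : IsPullback qY g g₀ (c.π.app i₀)) (hX : IsPullback qX f f₀ qY) :
    RelAmple.IsRelAmple f ((Scheme.Modules.pullback qX).obj L₀) ↔
      ∃ (j : I) (φ : j ⟶ i₀) (Xj Yj : Scheme.{u}) (fj : Xj ⟶ Yj) (gj : Yj ⟶ D.obj j) (pY : Yj ⟶ Y₀)
        (pX : Xj ⟶ X₀), IsPullback pY gj g₀ (D.map φ) ∧ IsPullback pX fj f₀ pY ∧
          RelAmple.IsRelAmple fj ((Scheme.Modules.pullback pX).obj L₀) := by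
  haveI : ∀ {i j : I} (f : i ⟶ j), IsAffineHom (D.map f) := fun {i j} f => inferInstance
  constructor
  · intro h
    let E := Groth.Agent.MorLib.BC.diag D g₀
    have hc' := Groth.Agent.MorLib.BC.isLimitCone D g₀ hY hc
    haveI : ∀ {a b : Over i₀} (r : a ⟶ b), IsAffineHom (E.map r) := fun r =>
      Groth.Agent.MorLib.BC.isAffineHom_map D g₀ r
    haveI : CompactSpace Y₀ := QuasiCompact.compactSpace_of_compactSpace g₀
    haveI : ∀ a, CompactSpace (E.obj a) := fun a =>
      haveI : QuasiCompact (pullback.fst g₀ (D.map a.hom)) := inferInstance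
      QuasiCompact.compactSpace_of_compactSpace (pullback.fst g₀ (D.map a.hom))
    let U : Over i₀ := Over.mk (𝟙 i₀)
    haveI : IsIso (D.map U.hom) := by show IsIso (D.map (𝟙 i₀)); infer_instance
    let q : E.obj U ⟶ Y₀ := pullback.fst g₀ (D.map U.hom)
    haveI : IsIso q := inferInstanceAs (IsIso (pullback.fst g₀ (D.map U.hom)))
    haveI : QuasiCompact f₀ := QuasiCompact.of_comp f₀ g₀
    haveI : QuasiSeparated f₀ := QuasiSeparated.of_comp f₀ g₀
    let f' : X₀ ⟶ E.obj U := f₀ ≫ inv q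
    have hπ : (Groth.Agent.MorLib.BC.cone D g₀ hY).π.app U ≫ q = qY :=
      Groth.Agent.MorLib.BC.proj_fst D g₀ hY U
    have hX' : IsPullback qX f f' ((Groth.Agent.MorLib.BC.cone D g₀ hY).π.app U) :=
      hX.of_iso (Iso.refl _) (Iso.refl _) (Iso.refl _) (asIso q).symm (by simp) (by simp) (by simp [f'])
        (by simp [← hπ])
    obtain ⟨a, φ, ha⟩ := Groth.Agent.AmpleDesc5.exists_isRelAmple_stage_qc E hc' f' hL₀
      (Groth.Agent.AmpleDesc5.isRelAmple_congr hX' (IsPullback.of_hasPullback _ _) h)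
    have hφ : E.map φ ≫ q = pullback.fst g₀ (D.map a.hom) := Groth.Agent.MorLib.BC.map_fst D g₀ φ
    refine ⟨a.left, a.hom, pullback f' (E.map φ), E.obj a, pullback.snd f' (E.map φ), pullback.snd g₀ (D.map a.hom),
      pullback.fst g₀ (D.map a.hom), pullback.fst f' (E.map φ), IsPullback.of_hasPullback _ _, ?_, ha⟩
    exact (IsPullback.of_hasPullback f' (E.map φ)).of_iso (Iso.refl _) (Iso.refl _) (Iso.refl _) (asIso q)
      (by simp) (by simp) (by simp [f']) (by simp [← hφ])
  · rintro ⟨j, φ, Xj, Yj, fj, gj, pY, pX, hpY, hpX, hj⟩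
    let l : Y ⟶ Yj := hpY.lift qY (g ≫ c.π.app j) (by rw [hY.w, Category.assoc, c.w φ])
    have hl : l ≫ pY = qY := hpY.lift_fst _ _ _
    let m : X ⟶ Xj := hpX.lift qX (f ≫ l) (by rw [hX.w, Category.assoc, hl])
    have hm : m ≫ pX = qX := hpX.lift_fst _ _ _
    have sq : IsPullback m f fj l := IsPullback.of_right (by rw [hm, hl]; exact hX) (hpX.lift_snd _ _ _) hpX
    exact Groth.Agent.AmpleDesc5.isRelAmple_of_moduleIso
      ((Scheme.Modules.pullbackComp m pX).app L₀ ≪≫ (Scheme.Modules.pullbackCongr hm).app L₀)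
      (Groth.Agent.AmpleDesc5.isRelAmple_congr (IsPullback.of_hasPullback fj l) sq
        (Groth.Agent.AmpleX.isRelAmple_baseChange fj l hj))

end Groth.Agent.S4846
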