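import Groth.Statements.S4849
import Groth.Agent.LimModLib.FlatStage
import Groth.Agent.AlgSpPts.Sep
import Groth.Agent.MorLib.BaseChangeLim

set_option autoImplicit false
universe u
open CategoryTheory AlgebraicGeometry
open EGA43

namespace Groth.Agent.S4849

/-- Let S be the limit of a cofiltered system (S_i) of schemes with affine transition morphisms, S_{i₀}
a quasi-compact stage, f₀ : X₀ ⟶ Y₀ an S_{i₀}-morphism between schemes of finite presentation over
S_{i₀}, and F₀ a quasi-coherent O_{X₀}-module of finite presentation. Let f : X ⟶ Y and F be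
obtained by base change to S. Then F is f-flat if and only if there are an index i over i₀ and base
changes f_i : X_i ⟶ Y_i, F_i of f₀, F₀ to S_i with F_i f_i-flat. (Base changes are expressed by
pullback squares; the stage S_{i₀} is only assumed quasi-compact.) -/
theorem result {I : Type u} [SmallCategory I] [IsCofiltered I]
    (D : I ⥤ Scheme.{u}) (c : Limits.Cone D) (hc : Limits.IsLimit c)
    [∀ (i j : I) (φ : i ⟶ j), IsAffineHom (D.map φ)] (i₀ : I) [CompactSpace (D.obj i₀)]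
    {X₀ Y₀ : Scheme.{u}} (f₀ : X₀ ⟶ Y₀) (g₀ : Y₀ ⟶ D.obj i₀)
    [LocallyOfFinitePresentation g₀] [QuasiCompact g₀] [QuasiSeparated g₀]
    [LocallyOfFinitePresentation (f₀ ≫ g₀)] [QuasiCompact (f₀ ≫ g₀)] [QuasiSeparated (f₀ ≫ g₀)]
    (F₀ : X₀.Modules) [Coh.IsQCoh F₀] (hF₀ : CohB1.IsFP F₀)
    {X Y : Scheme.{u}} (f : X ⟶ Y) (g : Y ⟶ c.pt) (qY : Y ⟶ Y₀) (qX : X ⟶ X₀)
    (hY : IsPullback qY g g₀ (c.π.app i₀)) (hX : IsPullback qX f f₀ qY) :
    FlatMod.IsFlatOver f ((Scheme.Modules.pullback qX).obj F₀) ↔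
      ∃ (i : I) (φ : i ⟶ i₀) (Xi Yi : Scheme.{u}) (fi : Xi ⟶ Yi) (gi : Yi ⟶ D.obj i)
        (pY : Yi ⟶ Y₀) (pX : Xi ⟶ X₀),
        IsPullback pY gi g₀ (D.map φ) ∧ IsPullback pX fi f₀ pY ∧
          FlatMod.IsFlatOver fi ((Scheme.Modules.pullback pX).obj F₀) := by
  haveI : ∀ {a b : I} (r : a ⟶ b), IsAffineHom (D.map r) := fun {a b} r => ‹∀ (i j : I) (φ : i ⟶ j), IsAffineHom (D.map φ)› a b r
  constructor
  · intro h
    haveI : CompactSpace ↥X₀ := QuasiCompact.compactSpace_of_compactSpace (f₀ ≫ g₀)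
    haveI : LocallyOfFinitePresentation f₀ := Groth.Agent.AlgSpPts.locallyOfFinitePresentation_of_comp f₀ g₀
    let DY := Groth.Agent.MorLib.BC.diag D g₀
    let T : Over i₀ := Over.mk (𝟙 i₀)
    let fT : DY.obj T ⟶ Y₀ := Limits.pullback.fst g₀ (D.map T.hom)
    haveI : IsIso fT := by
      haveI : IsIso (D.map T.hom) := by
        show IsIso (D.map (𝟙 i₀))
        rw [D.map_id]; infer_instance
      exact (inferInstance : IsIso (Limits.pullback.fst g₀ (D.map T.hom)))
    let a : X₀ ⟶ DY.obj T := f₀ ≫ inv fT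
    haveI : LocallyOfFinitePresentation a := MorphismProperty.comp_mem _ f₀ (inv fT) inferInstance inferInstance
    have hT : (Groth.Agent.MorLib.BC.cone D g₀ hY).π.app T ≫ fT = qY := Groth.Agent.MorLib.BC.proj_fst D g₀ hY T
    have hsq : IsPullback qX f a ((Groth.Agent.MorLib.BC.cone D g₀ hY).π.app T) := by
      refine hX.of_iso (Iso.refl _) (Iso.refl _) (Iso.refl _) (asIso fT).symm (by simp) (by simp) (by simp [a]) ?_
      refine Eq.trans ?_ (Category.id_comp _).symm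
      show qY ≫ inv fT = _
      exact (IsIso.comp_inv_eq fT).2 hT.symm
    obtain ⟨j, ψ, hj⟩ := (Groth.Agent.LimModLib.isFlatOver_iff_eventually (D := DY)
      (c := Groth.Agent.MorLib.BC.cone D g₀ hY) (Groth.Agent.MorLib.BC.isLimitCone D g₀ hY hc) a
      ‹Coh.IsQCoh F₀› hF₀ hsq).1 h
    refine ⟨j.left, j.hom, _, _, Limits.pullback.snd a (DY.map ψ), Limits.pullback.snd g₀ (D.map j.hom),
      Limits.pullback.fst g₀ (D.map j.hom), Limits.pullback.fst a (DY.map ψ), IsPullback.of_hasPullback _ _, ?_, hj⟩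
    refine (IsPullback.of_hasPullback a (DY.map ψ)).of_iso (Iso.refl _) (Iso.refl _) (Iso.refl _) (asIso fT)
      (by simp) (by simp) (by simp [a]) ?_
    exact (Groth.Agent.MorLib.BC.map_fst D g₀ ψ).trans (Category.id_comp _).symm
  · rintro ⟨i, φ, Xi, Yi, fi, gi, pY, pX, hpY, hpX, hfl⟩
    let vY : Y ⟶ Yi := hpY.lift qY (g ≫ c.π.app i) (by rw [Category.assoc, c.w φ]; exact hY.w)
    have hvY : vY ≫ pY = qY := hpY.lift_fst _ _ _
    let vX : X ⟶ Xi := hpX.lift qX (f ≫ vY) (by rw [Category.assoc, hvY]; exact hX.w)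
    have hvX : vX ≫ pX = qX := hpX.lift_fst _ _ _
    have hsq : IsPullback vX f fi vY := IsPullback.of_right (by rw [hvX, hvY]; exact hX) (hpX.lift_snd _ _ _) hpX
    exact Groth.Agent.LimModLib.isFlatOver_of_iso f ((Scheme.Modules.pullbackComp vX pX).app F₀ ≪≫
        (Scheme.Modules.pullbackCongr hvX).app F₀)
      (Groth.Agent.FlatBC5.isFlatOver_of_baseChange hsq (Groth.Agent.QCoh.isQCoh_pullback pX ‹Coh.IsQCoh F₀›) hfl)

end Groth.Agent.S4849
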