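import Groth.Statements.S4855
import Groth.Agent.FlatProper5.Main
import Groth.Agent.PicClLib.Basic
import Groth.Agent.QCoh.LocFree
import Groth.Agent.PnCoh.Unit

set_option backward.isDefEq.respectTransparency.types false
set_option backward.isDefEq.respectTransparency false

set_option autoImplicit false
universe u
open CategoryTheory AlgebraicGeometry
open EGA43

namespace Groth.Agent.S4855

open CategoryTheory.Limits in
/-- Let f : X ⟶ Y be a proper morphism of finite presentation such that the map O_Y → f_* O_X is
injective (on sections over every open subset of Y). Then f is flat if and only if the first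
projection X ×_Y X ⟶ X is flat. -/
theorem result {X Y : Scheme.{u}} (f : X ⟶ Y)
    [IsProper f] [LocallyOfFinitePresentation f] (hinj : ∀ V : Y.Opens, Function.Injective (f.app V)) :
    Flat f ↔ Flat (pullback.fst f f) := by
  refine ⟨fun h => inferInstance, fun h => ?_⟩
  haveI : Flat (pullback.snd f f) := by
    rw [← pullbackSymmetry_hom_comp_fst]
    infer_instance
  refine (Flat.iff_flat_stalkMap f).2 fun x => (FlatProper5.flatAt_structureModule_iff f x).1 ?_
  haveI : Coh.IsQCoh (Coh.structureModule X) := PnCoh.isQCoh_structureModule X
  refine FlatProper5.flatAt_of_proper f _ inferInstance (QCoh.isFP_of_isFinLocFree fun _ => ⟨⊤, 1, trivial, ⟨Scheme.Modules.restrictUnitIso _ ≪≫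
    (coproductUniqueIso fun _ : Fin 1 => Coh.structureModule ((⊤ : X.Opens) : Scheme.{u})).symm⟩⟩) x f
    (fun V s hV hs => ⟨V, hV, le_rfl, by rw [hinj V (hs.trans (map_zero _).symm), map_zero]⟩) fun x' _ => ?_
  exact GrFlat5.isFlatOverAt_of_iso _ (PicClLib.nonempty_pullback_structureModule _).some.symm x'
    ((FlatProper5.flatAt_structureModule_iff _ x').2 (Flat.stalkMap _ x'))

end Groth.Agent.S4855
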