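import Groth.Statements.S4859
import Groth.Agent.QHomeo.Basic

set_option autoImplicit false
universe u
open EGA43

namespace Groth.Agent.S4859

open Groth.Agent.QHomeo

/-- Conditions a), a′), b) (quasi-homeomorphisms): for a continuous map f : X₀ → X the following are
equivalent: taking preimages is a bijection from the open subsets of X onto the open subsets of X₀;
taking preimages is a bijection from the closed subsets of X onto the closed subsets of X₀; the
topology of X₀ is induced from X through f and the image f(X₀) is very dense in X, in the sense that
two open subsets of X with the same trace on f(X₀) coincide. -/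
theorem result {X₀ X : Type u} [TopologicalSpace X₀] [TopologicalSpace X]
    (f : X₀ → X) (hf : Continuous f) :
    [Function.Bijective (fun U : TopologicalSpace.Opens X =>
        (⟨f ⁻¹' (U : Set X), U.isOpen.preimage hf⟩ : TopologicalSpace.Opens X₀)),
      Function.Bijective (fun F : TopologicalSpace.Closeds X =>
        (⟨f ⁻¹' (F : Set X), F.isClosed.preimage hf⟩ : TopologicalSpace.Closeds X₀)),
      Topology.IsInducing f ∧
        ∀ U V : Set X, IsOpen U → IsOpen V → U ∩ Set.range f = V ∩ Set.range f → U = V].TFAE := by
  tfae_have 1 → 3 := by
    intro h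
    have hq := QHom.of_bijective hf h
    exact ⟨hq.1, fun U V hU hV e => hq.2.inj (LQC.of_lc hU.isLocallyClosed) (LQC.of_lc hV.isLocallyClosed) e⟩
  tfae_have 3 → 1 := fun h => QHom.bijective ⟨h.1, VDense.of_open_inj h.2⟩ hf
  tfae_have 1 ↔ 2 := by
    let c : TopologicalSpace.Opens X → TopologicalSpace.Closeds X := fun U => U.compl
    have hc : Function.Bijective c :=
      Function.bijective_iff_has_inverse.mpr ⟨fun F => F.compl, fun U => TopologicalSpace.Opens.compl_compl U,
        fun F => TopologicalSpace.Closeds.compl_compl F⟩
    have hc' : Function.Bijective (fun U : TopologicalSpace.Opens X₀ => U.compl) :=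
      Function.bijective_iff_has_inverse.mpr ⟨fun F => F.compl, fun U => TopologicalSpace.Opens.compl_compl U,
        fun F => TopologicalSpace.Closeds.compl_compl F⟩
    rw [← Function.Bijective.of_comp_iff (fun F : TopologicalSpace.Closeds X =>
        (⟨f ⁻¹' (F : Set X), F.isClosed.preimage hf⟩ : TopologicalSpace.Closeds X₀)) hc,
      ← Function.Bijective.of_comp_iff' hc' (fun U : TopologicalSpace.Opens X =>
        (⟨f ⁻¹' (U : Set X), U.isOpen.preimage hf⟩ : TopologicalSpace.Opens X₀))]
    refine iff_of_eq (congrArg _ (funext fun U => ?_))
    exact TopologicalSpace.Closeds.ext (by simp [c])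
  tfae_finish

end Groth.Agent.S4859
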