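import Groth.Statements.S4861
import Groth.Agent.Goldman.Basic

set_option autoImplicit false
universe u
open EGA43

namespace Groth.Agent.S4861

open Groth.Agent.Goldman

/-- For a Noetherian integral domain B the following are equivalent (and hence equivalent to: the
fraction field of B is a finitely generated B-algebra; the generic point of Spec B is open): a) the
localization B_f is a field for some nonzero f; e) Spec B is finite; f) B is semi-local (finitely
many maximal ideals) of Krull dimension at most 1. -/
theorem result (B : Type u) [CommRing B] [IsDomain B]
    [IsNoetherianRing B] :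
    [∃ f : B, f ≠ 0 ∧ IsField (Localization.Away f),
      Finite (PrimeSpectrum B),
      Finite (MaximalSpectrum B) ∧ ringKrullDim B ≤ 1].TFAE := by
  tfae_have 1 → 2 := fun h => by
    obtain ⟨f, hf, h⟩ := isField_away_iff.mp h
    exact (structure_of_inAll hf h).2
  tfae_have 2 → 3 := fun h => by
    haveI := h
    obtain ⟨f, hf, hA⟩ := exists_inAll_of_finite_spectrum (B := B)
    exact ⟨Finite.of_injective MaximalSpectrum.toPrimeSpectrum MaximalSpectrum.toPrimeSpectrum_injective,
      dim_le_one_iff.mpr fun q hq hq0 => ((structure_of_inAll hf hA).1 q hq hq0).2⟩
  tfae_have 3 → 1 := fun ⟨h, hd⟩ => by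
    haveI := h
    exact isField_away_iff.mpr (exists_inAll_of_semilocal (dim_le_one_iff.mp hd))
  tfae_finish

end Groth.Agent.S4861
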