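import Groth.Statements.S4864
import Groth.Agent.S4863
import Groth.Agent.FDescent.QuasiFlat

set_option autoImplicit false
universe u
open EGA43

namespace Groth.Agent.S4864

open AlgebraicGeometry CategoryTheory Limits in
/-- Let f : X ⟶ Y and g : Y ⟶ Z be morphisms of finite presentation and F a quasi-coherent O_X-module of
finite presentation. Then the set U of points y of Y such that, for every generization y' of y, F is
(f ≫ g)-flat at every point of X above y', is open in Y. -/
theorem result {X Y Z : Scheme.{u}} (f : X ⟶ Y) (g : Y ⟶ Z)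
    [LocallyOfFinitePresentation f] [QuasiCompact f] [QuasiSeparated f]
    [LocallyOfFinitePresentation g] [QuasiCompact g] [QuasiSeparated g]
    (F : X.Modules) [Coh.IsQCoh F] (hF : CohB1.IsFP F) :
    IsOpen {y : Y | ∀ y' : Y, y' ⤳ y → ∀ x : X, f x = y' → FlatMod.IsFlatOverAt (f ≫ g) F x} := by
  let W : Set X := {x | FlatMod.IsFlatOverAt (f ≫ g) F x}
  let Z : TopologicalSpace.Closeds X := ⟨Wᶜ, (Groth.Agent.S4863.result (f ≫ g) F hF).isClosed_compl⟩
  let ι := (Scheme.IdealSheafData.vanishingIdeal Z).subschemeι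
  have hι : Set.range ι = (Z : Set X) := by
    rw [Scheme.IdealSheafData.range_subschemeι]; exact Scheme.IdealSheafData.coe_support_vanishingIdeal Z
  have hrange : Set.range (ι ≫ f) = f '' (Z : Set X) := by
    rw [← hι, ← Set.range_comp]; rfl
  have hset : {y : Y | ∀ y' : Y, y' ⤳ y → ∀ x : X, f x = y' → FlatMod.IsFlatOverAt (f ≫ g) F x} =
      (closure (Set.range (ι ≫ f)))ᶜ := by
    ext y
    constructor
    · intro h hy
      obtain ⟨z, hz⟩ := Groth.Agent.FDescent.exists_specializes_of_mem_closure_range (f := ι ≫ f) hy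
      have hzZ : (ι z : X) ∈ Wᶜ := hι.le ⟨z, rfl⟩
      exact hzZ (h _ hz (ι z) rfl)
    · intro hy y' hy' x hx
      by_contra hW
      refine hy ?_
      have h1 : y' ∈ closure (Set.range (ι ≫ f)) := subset_closure (hrange.ge ⟨x, hW, hx⟩)
      exact hy'.mem_closed isClosed_closure h1
  rw [hset]
  exact isClosed_closure.isOpen_compl

end Groth.Agent.S4864
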