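import Groth.Statements.S4865
import Groth.Agent.FlatModel.Open

set_option autoImplicit false
universe u
open EGA43

namespace Groth.Agent.S4865

/-- Let A be a commutative ring, B a finitely presented A-algebra, C a finitely presented B-algebra and
M a finitely presented C-module. Then the set of prime ideals q of B such that the localized module
M_q (M regarded as a B-module) is flat over A is open in Spec B. -/
theorem result {A B C : Type u} [CommRing A] [CommRing B] [CommRing C]
    [Algebra A B] [Algebra B C] [Algebra A C] [IsScalarTower A B C]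
    [Algebra.FinitePresentation A B] [Algebra.FinitePresentation B C]
    (M : Type u) [AddCommGroup M] [Module C M] [Module B M] [Module A M]
    [IsScalarTower B C M] [IsScalarTower A C M] [IsScalarTower A B M] [Module.FinitePresentation C M] :
    IsOpen {q : PrimeSpectrum B | Module.Flat A (LocalizedModule q.asIdeal.primeCompl M)} := by
  classical
  have : Algebra.FinitePresentation A C := Algebra.FinitePresentation.trans A B C
  rw [isOpen_iff_forall_mem_open]
  intro q hq
  have hsm : ∀ (J : Ideal A) (b : B) (y : TensorProduct A M J), algebraMap B C b • y = b • y := fun J b y =>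
    algebraMap_smul C b y
  have hB := (FlatModel.flat_localized_iff (R := A) q.asIdeal.primeCompl
    (LocalizedModule.mkLinearMap q.asIdeal.primeCompl M)).1 hq
  let G : Set C := {g | ∀ W : Submonoid C, g ∈ W → Module.Flat A (LocalizedModule W M)}
  obtain ⟨b, hb, hbG⟩ : ∃ b ∈ q.asIdeal.primeCompl, algebraMap B C b ∈ Ideal.span G := by
    by_contra hne
    obtain ⟨Q, hQ, hGQ, hQd⟩ := Ideal.exists_le_prime_disjoint (Ideal.span G) (q.asIdeal.primeCompl.map (algebraMap B C))
      (Set.disjoint_left.2 fun x hx hxW => by
        obtain ⟨b, hb, rfl⟩ := hxW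
        exact hne ⟨b, hb, hx⟩)
    have hQflat : Module.Flat A (LocalizedModule Q.primeCompl M) := by
      rw [FlatModel.flat_localized_iff Q.primeCompl (LocalizedModule.mkLinearMap Q.primeCompl M)]
      intro J y hy
      obtain ⟨b, hb, hby⟩ := hB J y hy
      exact ⟨algebraMap B C b, fun h => Set.disjoint_left.1 hQd h ⟨b, hb, rfl⟩, (hsm J b y).trans hby⟩
    obtain ⟨g, hg, hgflat⟩ := FlatModel.exists_flat_nhd M Q hQflat
    exact hg (hGQ (Ideal.subset_span hgflat))
  refine ⟨PrimeSpectrum.basicOpen b, fun p hp => ?_, PrimeSpectrum.isOpen_basicOpen, hb⟩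
  refine (FlatModel.flat_localized_iff (R := A) p.asIdeal.primeCompl
    (LocalizedModule.mkLinearMap p.asIdeal.primeCompl M)).2 fun J y hy => ?_
  let Z : Ideal C := LinearMap.ker (LinearMap.toSpanSingleton C (TensorProduct A M J) y)
  have hrad : algebraMap B C b ∈ Z.radical := by
    rw [Ideal.radical_eq_sInf, Ideal.mem_sInf]
    rintro P ⟨hZP, hP⟩
    by_contra hbP
    obtain ⟨g, hg, hgP⟩ : ∃ g ∈ G, g ∉ P := by
      by_contra hall
      push Not at hall
      exact hbP (Ideal.span_le.2 hall hbG)
    obtain ⟨s, ⟨k, rfl⟩, hsy⟩ := (FlatModel.flat_localized_iff (Submonoid.powers g)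
      (LocalizedModule.mkLinearMap (Submonoid.powers g) M)).1 (hg _ (Submonoid.mem_powers g)) J y hy
    exact hgP (hP.mem_of_pow_mem k (hZP (show g ^ k ∈ Z by simpa [Z, LinearMap.toSpanSingleton_apply] using hsy)))
  obtain ⟨m, hm⟩ := hrad
  refine ⟨b ^ m, fun h => hp (p.isPrime.mem_of_pow_mem m h), ?_⟩
  rw [← hsm, map_pow]
  simpa [Z, LinearMap.toSpanSingleton_apply] using hm


end Groth.Agent.S4865
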