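import Groth.Statements.S4867
import Groth.Agent.FlatPt5.Descent

set_option autoImplicit false
universe u
open CategoryTheory AlgebraicGeometry
open EGA43

namespace Groth.Agent.S4867

/-- Let A be a commutative ring, f : X ⟶ Spec A a morphism of finite presentation, F a quasi-coherent
O_X-module of finite presentation and x a point of X. If F is f-flat at x, then there are a finitely
generated subring A₀ of A, a morphism of finite type f₀ : X₀ ⟶ Spec A₀, a coherent O_{X₀}-module F₀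
and a cartesian square q : X ⟶ X₀ over Spec A ⟶ Spec A₀ together with an isomorphism q^*F₀ ≅ F, such
that F₀ is f₀-flat at q x; and if F is f-flat, F₀ can be chosen f₀-flat. -/
theorem result {A : Type u} [CommRing A] {X : Scheme.{u}}
    (f : X ⟶ Spec (CommRingCat.of A)) [LocallyOfFinitePresentation f] [QuasiCompact f] [QuasiSeparated f]
    (F : X.Modules) [Coh.IsQCoh F] (hF : CohB1.IsFP F) (x : X) :
    (FlatMod.IsFlatOverAt f F x →
      ∃ (A₀ : Subalgebra ℤ A) (_ : A₀.FG) (X₀ : Scheme.{u}) (f₀ : X₀ ⟶ Spec (CommRingCat.of ↥A₀))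
        (_ : LocallyOfFiniteType f₀) (_ : QuasiCompact f₀) (F₀ : X₀.Modules) (_ : Coh.IsCoh F₀) (q : X ⟶ X₀)
        (_ : IsPullback q f f₀ (Spec.map (CommRingCat.ofHom A₀.val.toRingHom)))
        (_ : (Scheme.Modules.pullback q).obj F₀ ≅ F),
        FlatMod.IsFlatOverAt f₀ F₀ (q x)) ∧
    (FlatMod.IsFlatOver f F →
      ∃ (A₀ : Subalgebra ℤ A) (_ : A₀.FG) (X₀ : Scheme.{u}) (f₀ : X₀ ⟶ Spec (CommRingCat.of ↥A₀))
        (_ : LocallyOfFiniteType f₀) (_ : QuasiCompact f₀) (F₀ : X₀.Modules) (_ : Coh.IsCoh F₀) (q : X ⟶ X₀)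
        (_ : IsPullback q f f₀ (Spec.map (CommRingCat.ofHom A₀.val.toRingHom)))
        (_ : (Scheme.Modules.pullback q).obj F₀ ≅ F),
        FlatMod.IsFlatOver f₀ F₀) := by
  let R := CommRingCat.of A
  obtain ⟨i, Xi, fi, g, Fi, hm, hq, hp, ⟨e⟩⟩ := Groth.Agent.FlatPt5.exists_subring_model (A := R) f F ‹Coh.IsQCoh F› hF
  haveI := hm.lfp
  haveI : ∀ {a b : (Finset R)ᵒᵖ} (r : a ⟶ b), IsAffineHom ((Groth.Agent.ConsPropLib.NoethApprox.diagram R).map r) :=
    fun r => inferInstance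
  have hc := Groth.Agent.ConsPropLib.NoethApprox.isLimit R
  have key : ∀ k : Over i, ∃ (A₀ : Subalgebra ℤ A) (_ : A₀.FG) (X₀ : Scheme.{u})
      (f₀ : X₀ ⟶ Spec (CommRingCat.of ↥A₀)) (_ : LocallyOfFiniteType f₀) (_ : QuasiCompact f₀) (F₀ : X₀.Modules)
      (_ : Coh.IsCoh F₀) (q : X ⟶ X₀) (_ : IsPullback q f f₀ (Spec.map (CommRingCat.ofHom A₀.val.toRingHom)))
      (_ : (Scheme.Modules.pullback q).obj F₀ ≅ F),
      (∀ x' : X, FlatMod.IsFlatOverAt (Limits.pullback.snd fi ((Groth.Agent.ConsPropLib.NoethApprox.diagram R).map k.hom))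
        ((Scheme.Modules.pullback (Limits.pullback.fst fi ((Groth.Agent.ConsPropLib.NoethApprox.diagram R).map k.hom))).obj Fi)
          (Groth.Agent.MorLib.BC.proj _ fi (c := Groth.Agent.ConsPropLib.NoethApprox.cone R) hm.sq k x') →
        FlatMod.IsFlatOverAt f₀ F₀ (q x')) ∧
      (FlatMod.IsFlatOver (Limits.pullback.snd fi ((Groth.Agent.ConsPropLib.NoethApprox.diagram R).map k.hom))
        ((Scheme.Modules.pullback (Limits.pullback.fst fi ((Groth.Agent.ConsPropLib.NoethApprox.diagram R).map k.hom))).obj Fi) →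
        FlatMod.IsFlatOver f₀ F₀) := fun k => by
    obtain ⟨h1, h2, h3, h4, ⟨e'⟩⟩ := Groth.Agent.FlatPt5.pushed_data f hm hq hp e k
    exact ⟨Algebra.adjoin ℤ ((k.left.unop : Finset A) : Set A), Subalgebra.fg_adjoin_finset _, _, _, h1, h2, _, h3, _, h4, e',
      fun _ h => h, fun h => h⟩
  refine ⟨fun h => ?_, fun h => ?_⟩
  · obtain ⟨k, hk⟩ := Groth.Agent.FlatPt5.exists_flatAt_stage (c := Groth.Agent.ConsPropLib.NoethApprox.cone R) hm.sq hc hq hp x
      (Groth.Agent.GrFlat5.isFlatOverAt_of_iso f e.symm x h)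
    obtain ⟨A₀, h1, X₀, f₀, h2, h3, F₀, h4, q, h5, e', h6, -⟩ := key k
    exact ⟨A₀, h1, X₀, f₀, h2, h3, F₀, h4, q, h5, e', h6 x hk⟩
  · haveI : CompactSpace ↥Xi := hm.compactSpace
    obtain ⟨j, φ, hj⟩ := (Groth.Agent.LimModLib.isFlatOver_iff_eventually (c := Groth.Agent.ConsPropLib.NoethApprox.cone R)
      hc fi hq hp hm.sq).1 (Groth.Agent.LimModLib.isFlatOver_of_iso f e.symm h)
    obtain ⟨A₀, h1, X₀, f₀, h2, h3, F₀, h4, q, h5, e', -, h6⟩ := key (Over.mk φ)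
    exact ⟨A₀, h1, X₀, f₀, h2, h3, F₀, h4, q, h5, e', h6 hj⟩

end Groth.Agent.S4867
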