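import Groth.Statements.S4872
import Mathlib

set_option autoImplicit false
universe u
open CategoryTheory AlgebraicGeometry
open EGA43

namespace Groth.Agent.S4872

open CategoryTheory AlgebraicGeometry

/-- Conditions b), c), d) (schematically dominant families): let p : X ⟶ S be a morphism and (f_i : Z_i
⟶ X) a family of morphisms. The following are equivalent: b) for every open V of X, a section of O_X
over V whose images in all the Γ(f_i⁻¹(V), O_{Z_i}) are zero is zero; c) for every open U of X, a
closed immersion j : Y ⟶ U through which each restriction f_i⁻¹(U) ⟶ U factors is an isomorphism; d)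
for every separated S-scheme X', every open U of X and every pair of S-morphisms u, v : U ⟶ X'
having the same composite with each f_i⁻¹(U) ⟶ U, one has u = v. -/
theorem result {X S : Scheme.{u}} (p : X ⟶ S) {ι : Type u} (Z : ι → Scheme.{u})
    (f : ∀ i, Z i ⟶ X) :
    [(∀ (V : (X).Opens) (t : Γ(X, V)), (∀ i, (f i).app V t = 0) → t = 0),
      ∀ (U : X.Opens) (Y : Scheme.{u}) (j : Y ⟶ (U : Scheme.{u})), IsClosedImmersion j →
        (∀ i, ∃ g : ((f i) ⁻¹ᵁ U : Scheme.{u}) ⟶ Y, g ≫ j = (f i) ∣_ U) → IsIso j,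
      ∀ (X' : Scheme.{u}) (q : X' ⟶ S), IsSeparated q → ∀ (U : X.Opens) (u v : (U : Scheme.{u}) ⟶ X'),
        u ≫ q = U.ι ≫ p → v ≫ q = U.ι ≫ p → (∀ i, ((f i) ∣_ U) ≫ u = ((f i) ∣_ U) ≫ v) → u = v].TFAE := by
  tfae_have 1 → 2 := by
    intro h U Y j hj hfac
    rw [IsClosedImmersion.isIso_iff_ker_eq_bot]
    refine Scheme.IdealSheafData.ext (funext fun W => eq_bot_iff.2 fun t ht => ?_)
    rw [Scheme.Hom.ker_apply, RingHom.mem_ker] at ht
    refine (Submodule.mem_bot _).2 (h (U.ι ''ᵁ W.1) t fun i => ?_)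
    obtain ⟨g, hg⟩ := hfac i
    have h1 : ((f i) ∣_ U).app W.1 t = 0 := by
      rw [← hg, Scheme.Hom.comp_app]
      show g.app _ (j.app W.1 t) = 0
      rw [ht, map_zero]
    rw [morphismRestrict_app] at h1
    exact (ConcreteCategory.bijective_of_isIso
      ((Z i).presheaf.map (eqToHom (image_morphismRestrict_preimage (f i) U W.1)).op)).1 (h1.trans (map_zero _).symm)
  tfae_have 2 → 3 := by
    intro h X' q hq U u v hu hv huv
    let Uo : Over S := Over.mk (U.ι ≫ p)
    let Xo : Over S := Over.mk q
    haveI : IsSeparated Xo.hom := hq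
    let u' : Uo ⟶ Xo := Over.homMk u hu
    let v' : Uo ⟶ Xo := Over.homMk v hv
    haveI : IsIso (Limits.equalizer.ι u' v').left := by
      refine h U _ _ inferInstance fun i => ?_
      let Zo : Over S := Over.mk ((f i) ∣_ U ≫ U.ι ≫ p)
      let z' : Zo ⟶ Uo := Over.homMk ((f i) ∣_ U)
      have hz : z' ≫ u' = z' ≫ v' := Over.OverMorphism.ext (huv i)
      exact ⟨(Limits.equalizer.lift z' hz).left,
        congr($(Limits.equalizer.lift_ι z' hz).left)⟩
    rw [← cancel_epi (Limits.equalizer.ι u' v').left]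
    exact congr($(Limits.equalizer.condition u' v').left)
  tfae_have 3 → 1 := by
    intro h V t ht
    have key : ∀ s : Γ(X, V.ι ''ᵁ ⊤), (∀ i, (f i).app (V.ι ''ᵁ ⊤) s = 0) → s = 0 := by
      intro s hs
      let s' : Γ(V, ⊤) := s
      have e := h (AffineSpace (ULift.{u} (Fin 1)) S) (AffineSpace (ULift.{u} (Fin 1)) S ↘ S) inferInstance V
        (AffineSpace.homOfVector (V.ι ≫ p) fun _ => s') (AffineSpace.homOfVector (V.ι ≫ p) fun _ => 0)
        (AffineSpace.homOfVector_over _ _) (AffineSpace.homOfVector_over _ _) fun i => by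
          rw [AffineSpace.comp_homOfVector, AffineSpace.comp_homOfVector]
          congr 1
          funext k
          show ((f i) ∣_ V).app ⊤ s' = ((f i) ∣_ V).app ⊤ 0
          rw [morphismRestrict_app]
          show (Z i).presheaf.map (eqToHom (image_morphismRestrict_preimage (f i) V ⊤)).op ((f i).app (V.ι ''ᵁ ⊤) s) =
            (Z i).presheaf.map (eqToHom (image_morphismRestrict_preimage (f i) V ⊤)).op
              ((f i).app (V.ι ''ᵁ ⊤) (0 : Γ(X, V.ι ''ᵁ ⊤)))
          rw [hs i, map_zero]
          exact ((congrArg _ (map_zero ((f i).app (V.ι ''ᵁ ⊤)).hom)).trans (map_zero _)).symm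
      have e2 := congr(($e).appTop (AffineSpace.coord S ⟨0⟩))
      rwa [AffineSpace.homOfVector_appTop_coord, AffineSpace.homOfVector_appTop_coord] at e2
    have hle : V.ι ''ᵁ ⊤ = V := V.ι_image_top
    have h0 := key (X.presheaf.map (homOfLE hle.le).op t) fun i => by
      rw [show (f i).app (V.ι ''ᵁ ⊤) (X.presheaf.map (homOfLE hle.le).op t) =
        (Z i).presheaf.map ((TopologicalSpace.Opens.map (f i).base).map (homOfLE hle.le)).op ((f i).app V t) from
        congr($((f i).naturality (homOfLE hle.le).op) t), ht i]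
      exact map_zero _
    haveI : IsIso (homOfLE hle.le) := ⟨homOfLE hle.ge, rfl, rfl⟩
    exact (ConcreteCategory.bijective_of_isIso (X.presheaf.map (homOfLE hle.le).op)).1 (h0.trans (map_zero _).symm)
  tfae_finish

end Groth.Agent.S4872
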