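import Groth.Statements.S4873


set_option autoImplicit false
universe u
open CategoryTheory AlgebraicGeometry
open EGA43

namespace Groth.Agent.S4873

/-- Let (f_i : Z_i ⟶ X) be a family of morphisms. If the family is schematically dominant, i.e. a
section of O_X over an open V whose pullback to every f_i⁻¹(V) vanishes is zero, then the union of
the images f_i(Z_i) is dense in X. Conversely, if X is reduced and this union is dense, the family
is schematically dominant. -/
theorem result {X : Scheme.{u}} {ι : Type u} (Z : ι → Scheme.{u})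
    (f : ∀ i, Z i ⟶ X) :
    ((∀ (V : (X).Opens) (t : Γ(X, V)), (∀ i, (f i).app V t = 0) → t = 0) → Dense (⋃ i, Set.range (f i))) ∧
    (IsReduced X → Dense (⋃ i, Set.range (f i)) → (∀ (V : (X).Opens) (t : Γ(X, V)), (∀ i, (f i).app V t = 0) → t = 0)) := by
  constructor
  · intro h
    rw [dense_iff_inter_open]
    intro V hV hne
    by_contra hn
    rw [Set.not_nonempty_iff_eq_empty] at hn
    let W : X.Opens := ⟨V, hV⟩
    have h1 : (1 : Γ(X, W)) = 0 := h W 1 fun i => by
      have : (f i) ⁻¹ᵁ W = ⊥ := TopologicalSpace.Opens.ext (Set.eq_empty_iff_forall_notMem.mpr fun z hz =>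
        (Set.eq_empty_iff_forall_notMem.mp hn) ((f i) z) ⟨hz, Set.mem_iUnion.mpr ⟨i, z, rfl⟩⟩)
      haveI : Subsingleton Γ(Z i, (f i) ⁻¹ᵁ W) := by rw [this]; infer_instance
      exact Subsingleton.elim _ _
    obtain ⟨x, hx⟩ := hne
    have h2 : X.basicOpen (1 : Γ(X, W)) = W := X.basicOpen_of_isUnit isUnit_one
    rw [h1, Scheme.basicOpen_zero] at h2
    exact (h2 ▸ hx : x ∈ ((⊥ : X.Opens) : Set X))
  · intro hr hd V t ht
    apply (basicOpen_eq_bot_iff t).mp
    by_contra hne
    obtain ⟨y, hy, hy'⟩ := hd.inter_open_nonempty _ (X.basicOpen t).isOpen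
      ((TopologicalSpace.Opens.ne_bot_iff_nonempty _).mp hne)
    obtain ⟨i, z, rfl⟩ := Set.mem_iUnion.mp hy'
    have := Scheme.preimage_basicOpen (f i) t
    rw [ht i, Scheme.basicOpen_zero] at this
    exact (this ▸ hy : z ∈ (⊥ : (Z i).Opens))

end Groth.Agent.S4873
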