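import Groth.Statements.S4874
import Mathlib.AlgebraicGeometry.Morphisms.Flat
import Mathlib.RingTheory.Flat.FaithfullyFlat.Algebra

set_option autoImplicit false
universe u
open CategoryTheory AlgebraicGeometry
open EGA43

namespace Groth.Agent.S4874

/-- Let (f_i : Z_i ⟶ X) be a family of morphisms, g : X' ⟶ X a faithfully flat morphism and f'_i : Z_i
×_X X' ⟶ X' the base changes. If the family (f'_i) is schematically dominant, then so is the family
(f_i). (Schematically dominant: a section of the structure sheaf over an open whose pullback along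
every member of the family vanishes is zero.) -/
theorem result {X X' : Scheme.{u}} {ι : Type u} (Z : ι → Scheme.{u})
    (f : ∀ i, Z i ⟶ X) (g : X' ⟶ X) [Flat g] [Surjective g]
    (h : (∀ (V : (X').Opens) (t : Γ(X', V)), (∀ i, (Limits.pullback.snd (f i) g).app V t = 0) → t = 0)) :
    (∀ (V : (X).Opens) (t : Γ(X, V)), (∀ i, (f i).app V t = 0) → t = 0) := by
  intro V t ht
  have h1 : g.app V t = 0 := h (g ⁻¹ᵁ V) (g.app V t) fun i => by
    have e : ∀ (W : Scheme.{u}) (φ ψ : W ⟶ X), φ = ψ → φ.app V t = 0 → ψ.app V t = 0 := by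
      rintro W φ ψ rfl h0; exact h0
    have h2 := e _ (Limits.pullback.fst (f i) g ≫ f i) (Limits.pullback.snd (f i) g ≫ g) Limits.pullback.condition
      (by rw [Scheme.Hom.comp_app]; exact (congrArg ((Limits.pullback.fst (f i) g).app _) (ht i)).trans (map_zero _))
    rw [Scheme.Hom.comp_app] at h2
    exact h2
  refine TopCat.Presheaf.section_ext X.sheaf V t 0 fun x hx => ?_
  obtain ⟨x', rfl⟩ := g.surjective x
  letI := (g.stalkMap x').hom.toAlgebra
  haveI : Module.Flat (X.presheaf.stalk (g x')) (X'.presheaf.stalk x') := Flat.stalkMap g x'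
  haveI : IsLocalHom (algebraMap (X.presheaf.stalk (g x')) (X'.presheaf.stalk x')) :=
    inferInstanceAs (IsLocalHom (g.stalkMap x').hom)
  haveI := Module.FaithfullyFlat.of_flat_of_isLocalHom
    (A := X.presheaf.stalk (g x')) (B := X'.presheaf.stalk x')
  have hinj : Function.Injective (g.stalkMap x').hom :=
    FaithfulSMul.algebraMap_injective (X.presheaf.stalk (g x')) (X'.presheaf.stalk x')
  apply hinj
  show g.stalkMap x' (X.presheaf.germ V (g x') hx t) = g.stalkMap x' (X.presheaf.germ V (g x') hx 0)
  rw [Scheme.Hom.germ_stalkMap_apply, Scheme.Hom.germ_stalkMap_apply, h1, map_zero (g.app V).hom]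

end Groth.Agent.S4874
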