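import Groth.Statements.S4875
import Groth.Agent.SepFlat5.Scheme

set_option autoImplicit false
universe u
open CategoryTheory AlgebraicGeometry
open EGA43

namespace Groth.Agent.S4875

/-- Let (f_i : Z_i ⟶ X) be a schematically dominant family of morphisms and g : X' ⟶ X a flat morphism
locally of finite presentation. Then the family of base changes f'_i : Z_i ×_X X' ⟶ X' is
schematically dominant. (No quasi-compactness of the f_i and no finiteness of the family is
assumed.) -/
theorem result {X X' : Scheme.{u}} {ι : Type u} (Z : ι → Scheme.{u})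
    (f : ∀ i, Z i ⟶ X) (g : X' ⟶ X) [Flat g] [LocallyOfFinitePresentation g]
    (h : (∀ (V : (X).Opens) (t : Γ(X, V)), (∀ i, (f i).app V t = 0) → t = 0)) :
    (∀ (V : (X').Opens) (t : Γ(X', V)), (∀ i, (Limits.pullback.snd (f i) g).app V t = 0) → t = 0) := by
  exact fun V t ht => Groth.Agent.SepFlat5.schDominant_pullback Z f g h V t ht

end Groth.Agent.S4875
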