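import Groth.Statements.S4878
import Mathlib.LinearAlgebra.DirectSum.Finsupp
import Mathlib.Algebra.Module.Projective

set_option autoImplicit false
universe u
open TensorProduct
open EGA43

namespace Groth.Agent.S4878

open scoped TensorProduct

/-- Let A be a commutative ring, (u_i : M → M_i) a family of A-linear maps whose kernels have zero
intersection, and N a projective A-module. Then the kernels of the maps u_i ⊗ 1 : M ⊗_A N → M_i ⊗_A
N have zero intersection. -/
theorem result {A : Type u} [CommRing A]
    {M : Type u} [AddCommGroup M] [Module A M] {ι : Type u} (M' : ι → Type u)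
    [∀ i, AddCommGroup (M' i)] [∀ i, Module A (M' i)] (u : ∀ i, M →ₗ[A] M' i)
    (hu : ⨅ i, LinearMap.ker (u i) = ⊥)
    (N : Type u) [AddCommGroup N] [Module A N] [Module.Projective A N] :
    ⨅ i, LinearMap.ker ((u i).rTensor N) = ⊥ := by
  classical
  obtain ⟨s, hs⟩ := Module.Projective.out (R := A) (P := N)
  rw [eq_bot_iff]
  intro z hz
  rw [Submodule.mem_iInf] at hz
  let Φ : ∀ (L : Type u) [AddCommGroup L] [Module A L], L ⊗[A] N →ₗ[A] (N →₀ L) := fun L _ _ =>
    (TensorProduct.finsuppScalarRight A A L N).toLinearMap ∘ₗ s.lTensor L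
  have hnat : ∀ i n (x : M ⊗[A] N), Φ (M' i) ((u i).rTensor N x) n = u i (Φ M x n) := by
    intro i n x
    induction x with
    | zero => simp
    | add a b ha hb => simp [ha, hb]
    | tmul m y => simp [Φ]
  have hΦ0 : Φ M z = 0 := by
    ext n
    rw [Finsupp.zero_apply, ← Submodule.mem_bot (R := A), ← hu, Submodule.mem_iInf]
    intro i
    rw [LinearMap.mem_ker, ← hnat, LinearMap.mem_ker.mp (hz i)]
    simp
  have hsz : s.lTensor M z = 0 :=
    (TensorProduct.finsuppScalarRight A A M N).injective (by simpa [Φ] using hΦ0)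
  have h : (Finsupp.linearCombination A (id : N → N)).lTensor M (s.lTensor M z) = z := by
    rw [← LinearMap.comp_apply, ← LinearMap.lTensor_comp]
    have : Finsupp.linearCombination A (id : N → N) ∘ₗ s = LinearMap.id := LinearMap.ext hs
    simp [this]
  rw [Submodule.mem_bot, ← h, hsz, map_zero]

end Groth.Agent.S4878
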