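import Groth.Statements.S4880
import Groth.Agent.Goldman.Scheme

set_option autoImplicit false
universe u
open CategoryTheory AlgebraicGeometry
open EGA43

namespace Groth.Agent.S4880

open Groth.Agent.Goldman

/-- For a Noetherian irreducible scheme X the following are equivalent: a) the generic point of X is an
isolated point; b) the underlying set of X is finite; c) X has dimension at most 1 and finitely many
closed points. -/
theorem result (X : Scheme.{u}) [IsNoetherian X]
    [IrreducibleSpace X] :
    [IsOpen ({genericPoint X} : Set X),
      Finite X,
      topologicalKrullDim X ≤ 1 ∧ {x : X | IsClosed ({x} : Set X)}.Finite].TFAE := by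
  tfae_have 1 → 2 := fun h => by
    have := finite_closure (x := genericPoint X) h.isLocallyClosed
    rw [genericPoint_closure] at this
    exact Set.finite_univ_iff.mp this
  tfae_have 2 → 1 := fun h => by
    haveI := h
    have key : IsClosed (⋃ r : {r : X // r ≠ genericPoint X}, closure ({r.1} : Set X)) :=
      isClosed_iUnion_of_finite fun _ => isClosed_closure
    have e : (⋃ r : {r : X // r ≠ genericPoint X}, closure ({r.1} : Set X))ᶜ = {genericPoint X} := by
      ext y
      simp only [Set.mem_compl_iff, Set.mem_iUnion, not_exists, Set.mem_singleton_iff]
      constructor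
      · intro hy
        by_contra hne
        exact hy ⟨y, hne⟩ (subset_closure rfl)
      · rintro rfl ⟨r, hr⟩ hmem
        exact hr ((genericPoint_specializes r).antisymm (specializes_iff_mem_closure.mpr hmem)).eq.symm
    exact e ▸ key.isOpen_compl
  tfae_have 1 → 3 := fun h => by
    refine ⟨dim_le_one_of fun r hr => isClosed_of_specializes h.isLocallyClosed (genericPoint_specializes r) hr, ?_⟩
    have := finite_closure (x := genericPoint X) h.isLocallyClosed
    rw [genericPoint_closure] at this
    exact this.subset (Set.subset_univ _)
  tfae_have 3 → 2 := fun ⟨hd, hf⟩ => by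
    refine Set.finite_univ_iff.mp ((hf.insert (genericPoint X)).subset fun r _ => ?_)
    by_cases hr : r = genericPoint X
    · exact Or.inl hr
    · exact Or.inr (isClosed_of_dim_le_one hd hr)
  tfae_finish

end Groth.Agent.S4880
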