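import Groth.Statements.S4881
import Groth.Agent.DimFormula.JacobsonLocal

set_option autoImplicit false
universe u
open CategoryTheory AlgebraicGeometry
open EGA43

namespace Groth.Agent.S4881

/-- Let X be a locally Noetherian scheme which is Jacobson, whose local rings are universally catenary,
and whose irreducible components X' are equidimensional in the sense that for every closed point x
of X' the dimension of X' equals the dimension of the set of generizations of x in X'. Then for
every dense open subset U of X, dim U = dim X. -/
theorem result (X : Scheme.{u}) [IsLocallyNoetherian X] [JacobsonSpace X]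
    (h2 : ∀ x : X, CAlg.IsUniversallyCatenary (X.presheaf.stalk x))
    (h3 : ∀ X' ∈ irreducibleComponents (X : Type u), ∀ x ∈ X', IsClosed ({x} : Set X) →
      topologicalKrullDim (↥X' : Type u) = topologicalKrullDim ↥{t : X | t ∈ X' ∧ t ⤳ x})
    (U : Set X) (hU : IsOpen U) (hd : Dense U) :
    topologicalKrullDim ↥U = topologicalKrullDim X := by
  have h := DimFormula.dimGood_of h2 h3
  refine le_antisymm (topologicalKrullDim_subspace_le X U) ?_
  have hU' := h.topologicalKrullDim_inter hU isClosed_univ
  rw [Set.inter_univ] at hU'
  rw [hU', (Homeomorph.Set.univ X).symm.isHomeomorph.topologicalKrullDim_eq, h.topologicalKrullDim_eq isClosed_univ]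
  refine iSup_le fun z => ?_
  obtain ⟨η, hη, hmax⟩ := FibDim.exists_maximal_generization z.1
  refine le_iSup_of_le ⟨η, DimFormula.dense_mem_maximal hU hd hmax⟩ ?_
  exact_mod_cast h.dd_le hη

end Groth.Agent.S4881
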