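import Groth.Statements.S4882
import Groth.Agent.QHomeo.Basic

set_option autoImplicit false
universe u
open EGA43

namespace Groth.Agent.S4882

open Groth.Agent.QHomeo

/-- Let X be a Jacobson space and Z a locally quasi-constructible subset of X, i.e. every point of X has
an open neighbourhood U such that U ∩ Z is a finite union of locally closed subsets of X. Then the
subspace Z is a Jacobson space, and a point of Z is closed in Z if and only if it is closed in X. -/
theorem result {X : Type u} [TopologicalSpace X] [JacobsonSpace X]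
    (Z : Set X)
    (hZ : ∀ x : X, ∃ U : Set X, IsOpen U ∧ x ∈ U ∧
      ∃ T : Set (Set X), T.Finite ∧ (∀ t ∈ T, IsLocallyClosed t) ∧ U ∩ Z = ⋃₀ T) :
    JacobsonSpace ↥Z ∧ ∀ z : ↥Z, IsClosed ({z} : Set ↥Z) ↔ IsClosed ({(z : X)} : Set X) := by
  have key : ∀ t : Set Z, IsLocallyClosed t → t.Nonempty →
      ∃ z ∈ t, IsClosed ({(z : X)} : Set X) := by
    intro t ht htne
    obtain ⟨t₀, ht₀, rfl⟩ := Topology.IsInducing.subtypeVal.isLocallyClosed_iff.mp ht
    obtain ⟨⟨x, hxZ⟩, hx⟩ := htne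
    obtain ⟨s, hs, hxs, hsub⟩ :=
      ((LQC.of_lc ht₀).inter (show LQC Z from hZ)).exists_lc (x := x) ⟨hx, hxZ⟩
    obtain ⟨y, hys, hyc⟩ := nonempty_inter_closedPoints (X := X) ⟨x, hxs⟩ hs
    exact ⟨⟨y, (hsub hys).2⟩, (hsub hys).1, hyc⟩
  have hcl : ∀ z : Z, IsClosed ({(z : X)} : Set X) → IsClosed ({z} : Set Z) := fun z hz => by
    have := hz.preimage (continuous_subtype_val (p := (· ∈ Z)))
    rwa [show ((Subtype.val : Z → X) ⁻¹' {(z : X)}) = {z} from by ext w; simp [Subtype.ext_iff]] at this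
  refine ⟨jacobsonSpace_iff_locallyClosed.mpr fun t htne ht => ?_, fun z => ⟨fun hz => ?_, hcl z⟩⟩
  · obtain ⟨z, hzt, hz⟩ := key t ht htne
    exact ⟨z, hzt, hcl z hz⟩
  · obtain ⟨w, rfl, hw⟩ := key {z} hz.isLocallyClosed ⟨z, rfl⟩
    exact hw

end Groth.Agent.S4882
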