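import Groth.Statements.S9759
import Groth.Agent.LimSm.Model
-- import your own Groth.Agent.* helpers here

set_option autoImplicit false
universe u
open FlatMor

namespace Groth.Agent.S9759

set_option backward.isDefEq.respectTransparency.types false in
open AlgebraicGeometry CategoryTheory Limits in
/-- Let f : X ⟶ S be a flat morphism of finite presentation between affine schemes. Then f is the base
change of a morphism of finite type f₀ : X₀ ⟶ S₀ between affine schemes with S₀ of finite type over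
ℤ and f₀ flat. -/
theorem result {X S : Scheme.{u}} (f : X ⟶ S) [IsAffine X] [IsAffine S] [LocallyOfFinitePresentation f] [Flat f] :
    ∃ (X₀ S₀ : Scheme.{u}) (f₀ : X₀ ⟶ S₀) (g : S ⟶ S₀) (g' : X ⟶ X₀), IsAffine X₀ ∧ IsAffine S₀ ∧ IsPullback g' f f₀ g ∧
      Algebra.FiniteType ℤ Γ(S₀, ⊤) ∧ LocallyOfFiniteType f₀ ∧ Flat f₀ := by
  obtain ⟨A₀, hA, X₀, f₀, g, h1, h2, h3, h4, h5, h6⟩ := Groth.Agent.LimSm.exists_model_over_fg
    (P := @Flat) (P' := @IsAffineHom) (Q := @LocallyOfFinitePresentation) (Q' := ⊤)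
    Groth.Agent.LimSm.core_flat Groth.Agent.MorLib.Desc.core_affine (fun _ h => h) (fun _ _ => trivial)
    Γ(S, ⊤) (f ≫ S.isoSpec.hom) inferInstance inferInstance
  haveI := h1; haveI := h2; haveI := h3
  have : LocallyOfFiniteType f₀ := inferInstance
  refine ⟨X₀, Spec (CommRingCat.of A₀), f₀,
    S.isoSpec.hom ≫ Spec.map (CommRingCat.ofHom (algebraMap A₀ Γ(S, ⊤))), g,
    isAffine_of_isAffineHom f₀, inferInstance, ?_, ?_, this, h1⟩
  · exact h6.of_iso (Iso.refl _) (Iso.refl _) S.isoSpec.symm (Iso.refl _) (by simp) (by simp) (by simp) (by simp)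
  · haveI : Algebra.FiniteType ℤ A₀ := (Subalgebra.fg_iff_finiteType A₀).1 hA
    exact Algebra.FiniteType.equiv ‹Algebra.FiniteType ℤ A₀›
      (Scheme.ΓSpecIso (CommRingCat.of A₀)).commRingCatIsoToRingEquiv.symm.toIntAlgEquiv

end Groth.Agent.S9759
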