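import Groth.Statements.S4884
import Groth.Agent.UnibNormal5.Main
-- import your own Groth.Agent.* helpers here

set_option autoImplicit false
universe u
open CategoryTheory AlgebraicGeometry
open EGA43

namespace Groth.Agent.S4884

/-- Let f : X ⟶ Y be locally of finite presentation and x a point of X with y = f x. If O_{Y,y} is
geometrically unibranch and f is normal at x — that is, f is flat at x and the fibre X_y is
geometrically normal at x: for every finite field extension K of k(y), the local rings of X_y
⊗_{k(y)} K at the points above x are integrally closed domains — then O_{X,x} is geometrically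
unibranch. -/
theorem result {X Y : Scheme.{u}} (f : X ⟶ Y) [LocallyOfFinitePresentation f]
    (x : X) (hY : CAlg2.IsGeomUnibranch ↑(Y.presheaf.stalk (f x))) (hflat : (f.stalkMap x).hom.Flat)
    (hnorm : ∀ (K : Type u) [Field K] [Algebra (IsLocalRing.ResidueField ↑(Y.presheaf.stalk (f x))) K],
      Module.Finite (IsLocalRing.ResidueField ↑(Y.presheaf.stalk (f x))) K →
      ∀ x' : ↥(FBase.bc (f.fiberToSpecResidueField (f x)) K),
        FBase.bcπ (f.fiberToSpecResidueField (f x)) K x' = f.asFiber x →
        IsDomain ↑((FBase.bc (f.fiberToSpecResidueField (f x)) K).presheaf.stalk x') ∧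
          IsIntegrallyClosed ↑((FBase.bc (f.fiberToSpecResidueField (f x)) K).presheaf.stalk x')) :
    CAlg2.IsGeomUnibranch ↑(X.presheaf.stalk x) := by
  refine Groth.Agent.UnibNormal5.isGeomUnibranch_of_normalAt f x hY hflat ?_
  have h := (Groth.Agent.Codepth5.normal_fibre_iff f (f x) (f.asFiber x)).1 hnorm
  rw [Scheme.Hom.fiberι_asFiber] at h
  exact h

end Groth.Agent.S4884
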