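import Groth.Statements.S4885
import Mathlib.RingTheory.FinitePresentation
import Mathlib.RingTheory.IntegralClosure.IsIntegral.Basic
import Mathlib.RingTheory.IntegralClosure.IntegrallyClosed
import Mathlib.RingTheory.Ideal.Quotient.Operations
import Mathlib.RingTheory.Polynomial.Basic

set_option autoImplicit false
universe u
open EGA43

namespace Groth.Agent.S4885

/-- Every finite algebra A' over a commutative ring A is a directed colimit (filtered inductive limit)
of A-algebras which are finite and of finite presentation over A. -/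
theorem result (A A' : Type u) [CommRing A] [CommRing A']
    [Algebra A A'] [Module.Finite A A'] :
    ∃ (ι : Type u) (_ : Preorder ι) (G : ι → Type u) (_ : ∀ i, CommRing (G i)) (_ : ∀ i, Algebra A (G i))
      (g : ∀ i j, i ≤ j → G i →ₐ[A] G j) (_ : ∀ i, Algebra (G i) A') (_ : ∀ i, IsScalarTower A (G i) A'),
      FlatCA.IsDirectedColimitRing G (fun i j h => (g i j h).toRingHom) A' ∧
        ∀ i, Module.Finite A (G i) ∧ Algebra.FinitePresentation A (G i) := by
  classical
  obtain ⟨n, s, hs⟩ := Module.Finite.exists_fin (R := A) (M := A')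
  have hint : ∀ i, IsIntegral A (s i) := fun i => IsIntegral.of_finite A (s i)
  choose p hp hp0 using hint
  let K : Ideal (MvPolynomial (Fin n) A) :=
    Ideal.span (Set.range fun i => Polynomial.aeval (MvPolynomial.X i : MvPolynomial (Fin n) A) (p i))
  let P := MvPolynomial (Fin n) A ⧸ K
  have hKfg : K.FG := Submodule.fg_span (Set.finite_range _)
  haveI hPfp : Algebra.FinitePresentation A P := Algebra.FinitePresentation.quotient hKfg
  haveI hPint : Algebra.IsIntegral A P := ⟨fun x => by
    obtain ⟨x, rfl⟩ := Ideal.Quotient.mk_surjective x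
    induction x using MvPolynomial.induction_on with
    | C a => exact isIntegral_algebraMap
    | add a b ha hb => rw [map_add]; exact ha.add hb
    | mul_X a i ha =>
      rw [map_mul]
      refine ha.mul ⟨p i, hp i, ?_⟩
      rw [← Polynomial.aeval_def]
      exact (Polynomial.aeval_algHom_apply (Ideal.Quotient.mkₐ A K) _ (p i)).trans
        (Ideal.Quotient.eq_zero_iff_mem.2 (Ideal.subset_span ⟨i, rfl⟩))⟩
  haveI hPfin : Module.Finite A P := Algebra.IsIntegral.finite
  let ev : MvPolynomial (Fin n) A →ₐ[A] A' := MvPolynomial.aeval s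
  have hK : ∀ x ∈ K, ev x = 0 := fun x hx => by
    suffices K ≤ RingHom.ker ev.toRingHom from this hx
    rw [Ideal.span_le]
    rintro _ ⟨i, rfl⟩
    show ev (Polynomial.aeval (MvPolynomial.X i : MvPolynomial (Fin n) A) (p i)) = 0
    rw [← Polynomial.aeval_algHom_apply, MvPolynomial.aeval_X]
    exact hp0 i
  let π : P →ₐ[A] A' := Ideal.Quotient.liftₐ K ev hK
  have hπ : Function.Surjective π := fun a => by
    obtain ⟨c, rfl⟩ := (Submodule.mem_span_range_iff_exists_fun A).1 (hs ▸ (Submodule.mem_top : a ∈ ⊤))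
    exact ⟨Ideal.Quotient.mk K (∑ i, MvPolynomial.C (c i) * MvPolynomial.X i), by
      show ev _ = _
      simp [ev, map_sum, Algebra.smul_def]⟩
  let ι := {J : Ideal P // J.FG ∧ J ≤ RingHom.ker π.toRingHom}
  let φ : ∀ J : ι, (P ⧸ J.1) →ₐ[A] A' := fun J => Ideal.Quotient.liftₐ J.1 π fun x hx => J.2.2 hx
  refine ⟨ι, inferInstance, fun J => P ⧸ J.1, fun _ => inferInstance, fun _ => inferInstance,
    fun i j h => Ideal.Quotient.factorₐ A h, fun J => (φ J).toRingHom.toAlgebra,
    fun J => by
      letI : Algebra (P ⧸ J.1) A' := (φ J).toRingHom.toAlgebra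
      exact IsScalarTower.of_algebraMap_eq fun a => ((φ J).commutes a).symm,
    ⟨⟨fun a b => ⟨⟨a.1 ⊔ b.1, Submodule.FG.sup a.2.1 b.2.1, sup_le a.2.2 b.2.2⟩, le_sup_left (a := a.1), le_sup_right (b := b.1)⟩⟩,
      ⟨⟨⊥, Submodule.fg_bot, bot_le⟩⟩, ?_, ?_, ?_, ?_, ?_⟩, fun J => ?_⟩
  · intro J; refine RingHom.ext fun x => ?_; obtain ⟨x, rfl⟩ := Ideal.Quotient.mk_surjective x; rfl
  · intro i j k hij hjk; refine RingHom.ext fun x => ?_; obtain ⟨x, rfl⟩ := Ideal.Quotient.mk_surjective x; rfl
  · intro i j h; refine RingHom.ext fun x => ?_; obtain ⟨x, rfl⟩ := Ideal.Quotient.mk_surjective x; rfl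
  · intro a
    obtain ⟨x, rfl⟩ := hπ a
    exact ⟨⟨⊥, Submodule.fg_bot, bot_le⟩, Ideal.Quotient.mk _ x, rfl⟩
  · intro J x hx
    obtain ⟨x, rfl⟩ := Ideal.Quotient.mk_surjective x
    refine ⟨⟨J.1 ⊔ Ideal.span {x}, Submodule.FG.sup J.2.1 (Submodule.fg_span (Set.finite_singleton x)),
      sup_le J.2.2 (by rw [Ideal.span_le, Set.singleton_subset_iff]; exact hx)⟩, le_sup_left (a := J.1), ?_⟩
    exact Ideal.Quotient.eq_zero_iff_mem.2 (Ideal.mem_sup_right (Ideal.mem_span_singleton_self x))
  · exact ⟨inferInstance, Algebra.FinitePresentation.quotient J.2.1⟩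

end Groth.Agent.S4885
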