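import Groth.Statements.S4886
import Groth.Agent.ZetaLib.SchemeCount
import Mathlib.Algebra.Field.ULift
import Mathlib.AlgebraicGeometry.Morphisms.Finite
import Mathlib.RingTheory.Jacobson.Ring
-- import your own Groth.Agent.* helpers here

set_option autoImplicit false
universe u
open CategoryTheory AlgebraicGeometry
open EGA43

namespace Groth.Agent.S4886

open CategoryTheory AlgebraicGeometry

/-- Let Y be a scheme of finite type over ℤ. (i) A point y of Y is closed if and only if the residue
field k(y) is finite. (ii) For every prime number p and every integer d ≥ 1, the set of points y of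
Y such that k(y) is an extension of 𝔽_p of degree dividing d, i.e. admits a ring homomorphism into
the field with p^d elements, is finite. -/
theorem result (Y : Scheme.{u}) [CompactSpace Y]
    [LocallyOfFiniteType (Limits.IsTerminal.from specULiftZIsTerminal Y)] :
    (∀ y : Y, IsClosed ({y} : Set Y) ↔ Finite ↑(Y.residueField y)) ∧
    ∀ (p d : ℕ) [Fact p.Prime], 0 < d →
      {y : Y | Nonempty (↑(Y.residueField y) →+* GaloisField p d)}.Finite := by
  let f : Y ⟶ Spec (CommRingCat.of (ULift.{u} ℤ)) := Limits.IsTerminal.from specULiftZIsTerminal Y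
  haveI : LocallyOfFiniteType f := ‹_›
  haveI : IsJacobsonRing (ULift.{u} ℤ) :=
    haveI := Groth.Agent.ZetaLib.isJacobsonRing_int
    isJacobsonRing_of_surjective (R := ℤ) ⟨(ULift.ringEquiv (R := ℤ)).symm.toRingHom, (ULift.ringEquiv (R := ℤ)).symm.surjective⟩
  haveI : JacobsonSpace Y := LocallyOfFiniteType.jacobsonSpace f
  refine ⟨fun y => ⟨fun hy => Groth.Agent.ZetaLib.finite_residueField f hy, fun hy => ?_⟩, fun p d _ hd => ?_⟩
  · haveI := hy
    rw [isClosed_singleton_iff_locallyOfFiniteType]
    haveI : LocallyOfFiniteType (Y.fromSpecResidueField y ≫ f) := by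
      rw [← Spec.map_preimage (Y.fromSpecResidueField y ≫ f), HasRingHomProperty.Spec_iff (P := @LocallyOfFiniteType)]
      exact Groth.Agent.ZetaLib.finiteType_of_finite _
    exact locallyOfFiniteType_of_comp _ f
  · let F : Type u := ULift.{u} (GaloisField p d)
    haveI : QuasiCompact f := (quasiCompact_iff_compactSpace f).mpr ‹CompactSpace Y›
    obtain ⟨n, A, j, hj, hft, -, hcov⟩ := Groth.Agent.ZetaLib.exists_affine_cover f
    have hfin : ∀ i, Finite ((A i : Type u) →+* F) := fun i => by
      obtain ⟨s, hs⟩ := (hft i).out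
      refine Finite.of_injective (fun (φ : (A i : Type u) →+* F) (a : s) => φ a.1) fun φ ψ hφψ => ?_
      have : φ.toIntAlgHom = ψ.toIntAlgHom :=
        AlgHom.ext_of_adjoin_eq_top hs fun a ha => congrFun hφψ ⟨a, ha⟩
      exact RingHom.ext fun a => DFunLike.congr_fun this a
    haveI := (Groth.Agent.ZetaLib.card_points_le j hcov F hfin).1
    refine (Set.finite_range fun g : Spec (CommRingCat.of F) ⟶ Y => g (IsLocalRing.closedPoint F)).subset ?_
    rintro y ⟨φ⟩
    refine ⟨Spec.map (CommRingCat.ofHom ((ULift.ringEquiv.symm.toRingHom : GaloisField p d →+* F).comp φ)) ≫ Y.fromSpecResidueField y, ?_⟩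
    show (Y.fromSpecResidueField y) _ = y
    exact Scheme.fromSpecResidueField_apply _ _

end Groth.Agent.S4886
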