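import Groth.Statements.S4887
import Groth.Agent.FlatSyz5.Kernel
import Groth.Agent.FlatStrat.Sheaf
import Groth.Agent.QCoh.DevissageSum
import Groth.Agent.QCoh.SubCompare

set_option autoImplicit false
universe u
open EGA43

namespace Groth.Agent.S4887

open AlgebraicGeometry CategoryTheory Limits in
/-- Let f : X ⟶ Y be locally of finite presentation, G and H quasi-coherent O_X-modules of finite
presentation with H f-flat, and p : G ⟶ H an epimorphism. Then Ker p is an O_X-module of finite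
presentation. -/
theorem result {X Y : Scheme.{u}} (f : X ⟶ Y) [LocallyOfFinitePresentation f]
    (G H : X.Modules) [Coh.IsQCoh G] [Coh.IsQCoh H] (hG : CohB1.IsFP G) (hH : CohB1.IsFP H)
    (hflat : FlatMod.IsFlatOver f H) (p : G ⟶ H) [Epi p] :
    CohB1.IsFP (kernel p) := by
  have hK : Coh.IsQCoh (kernel p) := Groth.Agent.QCoh.isQCoh_kernel ‹Coh.IsQCoh G› ‹Coh.IsQCoh H› p
  let ι' := {U : X.affineOpens // ∃ V : Y.Opens, IsAffineOpen V ∧ U.1 ≤ f ⁻¹ᵁ V}
  refine Groth.Agent.QCoh.isFP_of_finitePresentation hK (fun U : ι' => U.1.1) ?_ (fun U => U.1.2) ?_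
  · refine TopologicalSpace.Opens.ext (Set.eq_univ_of_forall fun x => ?_)
    obtain ⟨_, ⟨V, hV, rfl⟩, hxV, -⟩ :=
      Y.isBasis_affineOpens.exists_subset_of_mem_open (Set.mem_univ (f.base x)) isOpen_univ
    obtain ⟨_, ⟨U, hU, rfl⟩, hxU, hle⟩ :=
      X.isBasis_affineOpens.exists_subset_of_mem_open (show x ∈ f ⁻¹ᵁ V from hxV) (f ⁻¹ᵁ V).2
    simp only [TopologicalSpace.Opens.coe_iSup, Set.mem_iUnion]
    exact ⟨⟨⟨U, hU⟩, V, hV, hle⟩, hxU⟩
  rintro ⟨⟨U, hU⟩, V, hV, hle⟩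
  letI : Algebra Γ(Y, V) Γ(X, U) := (f.appLE V U hle).hom.toAlgebra
  letI : Module Γ(Y, V) Γ(H, U) := Module.compHom _ (f.appLE V U hle).hom
  haveI : IsScalarTower Γ(Y, V) Γ(X, U) Γ(H, U) := IsScalarTower.of_algebraMap_smul fun _ _ => rfl
  haveI : Algebra.FinitePresentation Γ(Y, V) Γ(X, U) := f.finitePresentation_appLE hV hU hle
  haveI : Module.FinitePresentation Γ(X, U) Γ(G, U) := Groth.Agent.QCoh.finitePresentation_of_isFP hG hU
  haveI : Module.FinitePresentation Γ(X, U) Γ(H, U) := Groth.Agent.QCoh.finitePresentation_of_isFP hH hU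
  haveI : Module.Flat Γ(Y, V) Γ(H, U) :=
    (Groth.Agent.QCoh.flat_appLE_iff f ‹Coh.IsQCoh H› hU hV hle).2 fun x _ => hflat x
  let pU := Groth.Agent.QCoh.appLin p U
  have hp : Function.Surjective pU :=
    Groth.Agent.QCoh.app_surjective_of_epi ‹Coh.IsQCoh G› ‹Coh.IsQCoh H› p hU
  haveI := Groth.Agent.FlatSyz5.fp_ker_of_surjective (A := Γ(Y, V)) pU hp
  let j : Γ(kernel p, U) →ₗ[Γ(X, U)] LinearMap.ker pU :=
    (Groth.Agent.QCoh.appLin (kernel.ι p) U).codRestrict _ fun w => congr(($(kernel.condition p)).app U w)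
  have hj : Function.Bijective j := by
    refine ⟨fun a b hab => Groth.Agent.QCoh.app_injective (kernel.ι p) U (congrArg Subtype.val hab), fun y => ?_⟩
    obtain ⟨w, hw⟩ := Groth.Agent.QCoh.exists_kernel_lift p U y.1 y.2
    exact ⟨w, Subtype.ext hw⟩
  exact Module.FinitePresentation.of_equiv (LinearEquiv.ofBijective j hj).symm

end Groth.Agent.S4887
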