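import Groth.Statements.S4888
import Groth.Agent.DimFormula.JacobsonLocal

set_option autoImplicit false
universe u
open CategoryTheory AlgebraicGeometry
open EGA43

namespace Groth.Agent.S4888

/-- Let X be a locally Noetherian Jacobson scheme whose local rings are universally catenary and whose
irreducible components are equidimensional (for every irreducible component X' and closed point x of
X', dim X' equals the dimension of the space of generizations of x in X'); let Y be a closed subset
of X and x a point of Y. Then dim_x(Y) = dim(U ∩ Y) = dim cl{x} + codim(cl{x}, Y) = sup_i dim(Y_i);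
that is, the local dimension of Y at x equals the dimension of the closure of x plus the codimension
of that closure in Y (the Krull dimension of the space of generizations of x in Y), equals the
supremum of the dimensions of the irreducible components Y_i of Y through x, and equals dim(U ∩ Y)
for every open neighbourhood U of x meeting no irreducible component of Y that avoids x. (The
published statement assumes only the Jacobson and universally-catenary conditions; its proof applies
the dimension formula for dense opens to the irreducible components, which needs their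
equidimensionality, and for an irreducible Noetherian Jacobson scheme with universally catenary
local rings having two closed points with local rings of different dimensions n − 1 and n — such
schemes exist — the two sides differ at the first of these points; so equidimensionality of the
components is assumed here.) -/
theorem result (X : Scheme.{u}) [IsLocallyNoetherian X] [JacobsonSpace X]
    (h2 : ∀ x : X, CAlg.IsUniversallyCatenary (X.presheaf.stalk x))
    (h3 : ∀ X' ∈ irreducibleComponents (X : Type u), ∀ x ∈ X', IsClosed ({x} : Set X) →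
      topologicalKrullDim (↥X' : Type u) = topologicalKrullDim ↥{t : X | t ∈ X' ∧ t ⤳ x})
    (Y : Set X) (hY : IsClosed Y) (x : X) (hx : x ∈ Y) :
    FlatMor.localDim ↥Y ⟨x, hx⟩ =
        topologicalKrullDim ↥(closure ({x} : Set X)) + topologicalKrullDim ↥{t : X | t ∈ Y ∧ t ⤳ x} ∧
      FlatMor.localDim ↥Y ⟨x, hx⟩ =
        ⨆ C ∈ {C : Set ↥Y | C ∈ irreducibleComponents ↥Y ∧ (⟨x, hx⟩ : ↥Y) ∈ C}, topologicalKrullDim ↥C ∧
      ∀ U : Set X, IsOpen U → x ∈ U →
        (∀ C ∈ irreducibleComponents ↥Y, (⟨x, hx⟩ : ↥Y) ∉ C → Disjoint (Subtype.val ⁻¹' U) C) →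
        topologicalKrullDim ↥(U ∩ Y) = FlatMor.localDim ↥Y ⟨x, hx⟩ := by
  have h := DimFormula.dimGood_of h2 h3
  obtain ⟨η, hη, hηx, hmax, hloc, hgen⟩ := h.exists_top hY hx
  haveI : QuasiSober ↥Y := hY.isClosedEmbedding_subtypeVal.quasiSober
  refine ⟨?_, ?_, fun U hU hxU hsep => ?_⟩
  · rw [hloc, hgen, h.dim_closure, h.dd_add hηx]
    push_cast
    rfl
  · rw [hloc]
    refine le_antisymm ?_ (iSup₂_le fun C hC => ?_)
    · obtain ⟨ξ, he, hd⟩ := h.component_dim hY (irreducibleComponent_mem_irreducibleComponents (⟨η, hη⟩ : ↥Y))
      refine le_iSup₂_of_le (irreducibleComponent (⟨η, hη⟩ : ↥Y))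
        ⟨irreducibleComponent_mem_irreducibleComponents _, ?_⟩ ?_
      · exact ((subtype_specializes_iff (⟨η, hη⟩ : ↥Y) ⟨x, hx⟩).2 hηx).mem_closed isClosed_irreducibleComponent mem_irreducibleComponent
      · rw [hd]
        exact_mod_cast h.dd_le ((subtype_specializes_iff ξ ⟨η, hη⟩).1
          (specializes_iff_mem_closure.2 (he.le mem_irreducibleComponent)))
    · obtain ⟨ξ, rfl, hd⟩ := h.component_dim hY hC.1
      rw [hd]
      exact_mod_cast hmax ξ.1 ξ.2 ((subtype_specializes_iff ξ ⟨x, hx⟩).1 (specializes_iff_mem_closure.2 hC.2))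
  · rw [hloc, h.topologicalKrullDim_inter hU hY]
    refine le_antisymm (iSup_le fun z => ?_) (le_iSup_of_le ⟨η, hηx.mem_open hU hxU, hη⟩ le_rfl)
    have hC := irreducibleComponent_mem_irreducibleComponents (⟨z.1, z.2.2⟩ : ↥Y)
    have hxC : (⟨x, hx⟩ : ↥Y) ∈ irreducibleComponent (⟨z.1, z.2.2⟩ : ↥Y) := by
      by_contra hn
      exact Set.disjoint_left.1 (hsep _ hC hn) (show (⟨z.1, z.2.2⟩ : ↥Y) ∈ Subtype.val ⁻¹' U from z.2.1)
        mem_irreducibleComponent
    obtain ⟨ξ, he, -⟩ := h.component_dim hY hC
    have h1 := (subtype_specializes_iff ξ ⟨x, hx⟩).1 (specializes_iff_mem_closure.2 (he.le hxC))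
    have h2 := (subtype_specializes_iff ξ ⟨z.1, z.2.2⟩).1 (specializes_iff_mem_closure.2 (he.le mem_irreducibleComponent))
    exact_mod_cast (h.dd_le h2).trans (hmax ξ.1 ξ.2 h1)

end Groth.Agent.S4888
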