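import Groth.Statements.S4889
import Groth.Agent.DimFormula.JacobsonLocal
import Groth.Agent.QCoh.Support
import Groth.Agent.QCoh.Stalk
-- import your own Groth.Agent.* helpers here

set_option autoImplicit false
set_option linter.style.haveILetI false
set_option backward.isDefEq.respectTransparency false
set_option backward.isDefEq.respectTransparency.types false
set_option maxHeartbeats 1000000
universe u
open CategoryTheory AlgebraicGeometry
open EGA43

namespace Groth.Agent.S4889

open Groth.Agent TopologicalSpace in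
/-- The dimension of the support of a stalk. -/
theorem supportDim_stalk_gen {X : Scheme.{u}} [IsLocallyNoetherian X] {F : X.Modules} (hF : Coh.IsCoh F) (x : X) :
    Module.supportDim (X.presheaf.stalk x) (F.presheaf.stalk x) =
      topologicalKrullDim ↥{t : X | t ∈ CohB1.support F ∧ t ⤳ x} := by
  haveI := QCoh.finite_stalk_of_isFT hF.1 hF.2 x
  let R := X.presheaf.stalk x
  let I := Module.annihilator R (F.presheaf.stalk x)
  obtain ⟨V, hV, hxV, -⟩ := exists_isAffineOpen_mem_and_subset (x := x) (U := (⊤ : X.Opens)) trivial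
  letI := QCoh.stalkAlg (X := X) hxV
  letI := QCoh.stalkModule F hxV
  haveI := QCoh.isScalarTower_stalk F hxV
  haveI := QCoh.isLocalization_stalk' hV hxV
  haveI := QCoh.isLocalizedModule_germLin hF.1 hV hxV
  have hmem : ∀ q : PrimeSpectrum R, I ≤ q.asIdeal → X.fromSpecStalk x q ∈ CohB1.support F := by
    intro q hq
    rw [← hV.fromSpecStalk_eq_fromSpecStalk hxV]
    show hV.fromSpec (PrimeSpectrum.comap (X.presheaf.germ V x hxV).hom q) ∈ CohB1.support F
    obtain ⟨y, hy, hyp⟩ := QCoh.exists_point hV (PrimeSpectrum.comap (X.presheaf.germ V x hxV).hom q)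
    rw [← hyp, hV.fromSpec_primeIdealOf ⟨y, hy⟩]
    have hsupp : q ∈ Module.support R (F.presheaf.stalk x) := Module.mem_support_iff_of_finite.2 hq
    obtain ⟨z, hz⟩ := Module.mem_support_iff_exists_annihilator.1 hsupp
    obtain ⟨⟨m, s⟩, hm⟩ := IsLocalizedModule.surj (hV.primeIdealOf ⟨x, hxV⟩).asIdeal.primeCompl
      (QCoh.germLin F hxV) z
    refine (QCoh.mem_support_iff hF.1 hV hy).2 ⟨m, fun g hg h0 => ?_⟩
    rw [QCoh.mem_basicOpen_iff_notMem hV hy, hyp] at hg
    apply hg
    show X.presheaf.germ V x hxV g ∈ q.asIdeal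
    apply hz
    rw [Submodule.mem_annihilator_span_singleton]
    have hu : IsUnit (algebraMap Γ(X, V) R s) := IsLocalization.map_units R s
    apply hu.smul_left_cancel.1
    rw [smul_zero, smul_comm, algebraMap_smul]
    refine Eq.trans (congrArg (X.presheaf.germ V x hxV g • ·) hm) ?_
    show algebraMap Γ(X, V) R g • QCoh.germLin F hxV m = 0
    rw [algebraMap_smul, ← map_smul, h0, map_zero]
  have hsurj : ∀ t ∈ CohB1.support F, t ⤳ x → ∃ q : PrimeSpectrum R, I ≤ q.asIdeal ∧ X.fromSpecStalk x q = t := by
    intro t ht htx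
    obtain ⟨q, hq⟩ : t ∈ Set.range (X.fromSpecStalk x) := by rw [Scheme.range_fromSpecStalk]; exact htx
    refine ⟨q, fun a ha => ?_, hq⟩
    rw [← hV.fromSpecStalk_eq_fromSpecStalk hxV] at hq
    have htV : t ∈ V := htx.mem_open V.2 hxV
    letI := QCoh.stalkAlg (X := X) htV
    have hyp : (hV.primeIdealOf ⟨t, htV⟩) = PrimeSpectrum.comap (X.presheaf.germ V x hxV).hom q := by
      refine hV.fromSpec.isOpenEmbedding.injective ?_
      rw [hV.fromSpec_primeIdealOf]
      exact hq.symm
    obtain ⟨m, hm⟩ := (QCoh.mem_support_iff hF.1 hV htV).1 ht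
    obtain ⟨⟨a₀, s⟩, hs⟩ := IsLocalization.surj (hV.primeIdealOf ⟨x, hxV⟩).asIdeal.primeCompl a
    have h0 : QCoh.germLin F hxV (a₀ • m) = 0 := by
      rw [map_smul, ← algebraMap_smul R, ← hs, mul_comm, mul_smul,
        Module.mem_annihilator.1 ha (QCoh.germLin F hxV m), smul_zero]
    obtain ⟨g, hg⟩ := (IsLocalizedModule.eq_zero_iff (hV.primeIdealOf ⟨x, hxV⟩).asIdeal.primeCompl
      (QCoh.germLin F hxV)).1 h0
    rw [Submonoid.smul_def, smul_smul] at hg
    have h1 : algebraMap Γ(X, V) R ((g : Γ(X, V)) * a₀) ∈ q.asIdeal := by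
      have h2 : (g : Γ(X, V)) * a₀ ∈ (hV.primeIdealOf ⟨t, htV⟩).asIdeal := by
        by_contra h
        exact hm _ ((QCoh.mem_basicOpen_iff_notMem hV htV _).2 h) hg
      rw [hyp] at h2
      exact h2
    rw [map_mul, ← hs] at h1
    exact (q.2.mem_or_mem ((Ideal.unit_mul_mem_iff_mem _ (IsLocalization.map_units R g)).1 h1)).resolve_right
      fun h => q.2.ne_top (Ideal.eq_top_of_isUnit_mem _ h (IsLocalization.map_units R s))
  rw [Module.supportDim_eq_ringKrullDim_quotient_annihilator, ← PrimeSpectrum.topologicalKrullDim_eq_ringKrullDim]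
  let c := PrimeSpectrum.comap (Ideal.Quotient.mk I)
  have hc := PrimeSpectrum.isClosedEmbedding_comap_of_surjective _ (Ideal.Quotient.mk I) Ideal.Quotient.mk_surjective
  have hci : ∀ p : PrimeSpectrum (R ⧸ I), I ≤ (c p).asIdeal := fun p a ha => by
    show Ideal.Quotient.mk I a ∈ p.asIdeal
    rw [Ideal.Quotient.eq_zero_iff_mem.2 ha]
    exact p.asIdeal.zero_mem
  let j : PrimeSpectrum (R ⧸ I) → ↥{t : X | t ∈ CohB1.support F ∧ t ⤳ x} := fun p =>
    ⟨X.fromSpecStalk x (c p), hmem _ (hci p), by
      have : X.fromSpecStalk x (c p) ∈ Set.range (X.fromSpecStalk x) := ⟨_, rfl⟩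
      rwa [Scheme.range_fromSpecStalk] at this⟩
  have hj : Topology.IsEmbedding j :=
    ((X.fromSpecStalk x).isEmbedding.comp hc.isEmbedding).codRestrict {t : X | t ∈ CohB1.support F ∧ t ⤳ x} (fun p => (j p).2)
  have hjs : Function.Surjective j := by
    rintro ⟨t, ht, htx⟩
    obtain ⟨q, hq, rfl⟩ := hsurj t ht htx
    have : q ∈ Set.range c := by
      rw [range_comap_of_surjective _ _ Ideal.Quotient.mk_surjective, Ideal.mk_ker]
      exact hq
    obtain ⟨p, rfl⟩ := this
    exact ⟨p, rfl⟩
  exact (hj.toHomeomorphOfSurjective hjs).isHomeomorph.topologicalKrullDim_eq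


/-- Stated as the dimension equality to which its two-line proof reduces it: let S be a locally
Noetherian Jacobson scheme whose local rings are universally catenary and whose irreducible
components are equidimensional (for every irreducible component S' and every closed point s of S',
dim S' equals the dimension of the space of generizations of s in S'); let g : X ⟶ S be a morphism
locally of finite type, F a coherent O_X-module, Y its support and x a point of Y. Then dim(cl{x}) +
dim(F_x) = dim_x(Y), where dim(F_x) is the Krull dimension of the O_{X,x}-module F_x (the Krull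
dimension of its support in Spec O_{X,x}) and dim_x(Y) is the local dimension of Y at x. (The
published statement reads prof*_x(F) = dim_x(Y) − coprof(F_x), with the rectified depth prof*_x(F) =
prof(F_x) + dim cl{x} and the codepth coprof(F_x) = dim(F_x) − prof(F_x); for the nonzero finitely
generated module F_x this is the equality stated here. The published form of the special case in
which the base is X itself assumes only the Jacobson and universally-catenary conditions; this row
keeps the equidimensionality of the irreducible components of the base, which the proof uses and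
without which the formula fails.) -/
theorem result {X S : Scheme.{u}} [IsLocallyNoetherian S]
    [JacobsonSpace S] (h2 : ∀ s : S, CAlg.IsUniversallyCatenary (S.presheaf.stalk s))
    (h3 : ∀ S' ∈ irreducibleComponents (S : Type u), ∀ s ∈ S', IsClosed ({s} : Set S) →
      topologicalKrullDim (↥S' : Type u) = topologicalKrullDim ↥{t : S | t ∈ S' ∧ t ⤳ s})
    (g : X ⟶ S) [LocallyOfFiniteType g] (F : X.Modules) (hF : Coh.IsCoh F) (x : X) (hx : x ∈ CohB1.support F) :
    topologicalKrullDim ↥(closure ({x} : Set X)) + Module.supportDim ↑(X.presheaf.stalk x) ↑(F.presheaf.stalk x) =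
      FlatMor.localDim ↥(CohB1.support F) ⟨x, hx⟩ := by
  haveI := LocallyOfFiniteType.isLocallyNoetherian g
  haveI : JacobsonSpace X := LocallyOfFiniteType.jacobsonSpace g
  have h := (Groth.Agent.DimFormula.dimGood_of_locallyOfFiniteType g (Groth.Agent.DimFormula.dimGood_of h2 h3) h2).1
  obtain ⟨η, -, hηx, -, hloc, hgen⟩ := h.exists_top (Groth.Agent.QCoh.isClosed_support_of_isFT hF.1 hF.2) hx
  rw [hloc, h.dim_closure, supportDim_stalk_gen hF x, hgen, h.dd_add hηx]
  push_cast
  rfl

end Groth.Agent.S4889
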