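import Groth.Statements.S4891
import Groth.Agent.S0400
import Mathlib.RingTheory.Flat.FaithfullyFlat.Basic

set_option autoImplicit false
universe u
open TensorProduct
open EGA43

namespace Groth.Agent.S4891

/-- Let A be a commutative ring, J a nilpotent ideal of A, B a commutative A-algebra and M a B-module.
If M is flat over A, M/JM is flat over B/JB, B/JB is flat over A/J and mM ≠ M for every maximal
ideal m of B containing JB, then B is flat over A. (Under the first two hypotheses M is also flat
over B; that implication is stated elsewhere and not repeated here.) -/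
theorem result {A B : Type u} [CommRing A] [CommRing B] [Algebra A B]
    (J : Ideal A) (hJ : IsNilpotent J) (M : Type u) [AddCommGroup M] [Module B M] [Module A M] [IsScalarTower A B M]
    (hc1 : Module.Flat A M)
    (hc2 : Module.Flat (B ⧸ J.map (algebraMap A B)) ((B ⧸ J.map (algebraMap A B)) ⊗[B] M))
    (hd1 : Module.Flat (A ⧸ J) ((A ⧸ J) ⊗[A] B))
    (hd2 : ∀ m : Ideal B, m.IsMaximal → J.map (algebraMap A B) ≤ m → (m • (⊤ : Submodule B M)) ≠ ⊤) :
    Module.Flat A B := by
  haveI : Module.Flat B M := Groth.Agent.S0400.result J hJ hc2
  haveI : Module.FaithfullyFlat B M :=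
    { submodule_ne_top := fun m hm => hd2 m hm (by
        obtain ⟨n, hn⟩ := hJ
        refine (hm.isPrime.le_of_pow_le (n := n) ?_)
        rw [← Ideal.map_pow, hn, Ideal.zero_eq_bot, Ideal.map_bot]
        exact bot_le) }
  rw [Module.Flat.iff_lTensor_injective']
  intro a
  let f := a.subtype.baseChange B
  let e₁ := TensorProduct.AlgebraTensorModule.cancelBaseChange A B B M a
  let e₂ := TensorProduct.AlgebraTensorModule.cancelBaseChange A B B M A
  have comm : ∀ w, (a.subtype.lTensor M) (e₁ w) = e₂ (f.lTensor M w) := by
    intro w
    induction w using TensorProduct.induction_on with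
    | zero => simp
    | add u v hu hv => simp only [map_add, hu, hv]
    | tmul p q =>
      induction q using TensorProduct.induction_on with
      | zero => simp
      | add u v hu hv => simp only [TensorProduct.tmul_add, map_add, hu, hv]
      | tmul r m => simp [e₁, e₂, f]
  have hM := Module.Flat.lTensor_preserves_injective_linearMap (R := A) (M := M) a.subtype a.subtype_injective
  have hf : Function.Injective (f.lTensor M) := by
    intro u v huv
    apply e₁.injective
    apply hM
    rw [comm, comm, huv]
  exact (Module.FaithfullyFlat.lTensor_injective_iff_injective B M f).1 hf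

end Groth.Agent.S4891
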