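import Groth.Statements.S4896
import Groth.Agent.Codepth5.RegRect
import Groth.Agent.LC.ExtDim
import Groth.Agent.QCoh.Support
-- import your own Groth.Agent.* helpers here

set_option autoImplicit false
universe u
open CategoryTheory AlgebraicGeometry
open EGA43

namespace Groth.Agent.S4896

/-- Let S be locally Noetherian, Jacobson and regular with equidimensional irreducible components, g : X
⟶ S locally of finite type and F a coherent O_X-module. For every point x of X the rectified depth
prof*_x(F) = prof(F_x) + dim cl{x} is the unique n (a natural number or ∞) such that, for some open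
neighbourhood U of x, prof(F_{x'}) = n for every point x' of U ∩ cl{x} which is closed in U. -/
theorem result {X S : Scheme.{u}} [IsLocallyNoetherian S] [JacobsonSpace S]
    (hreg : ∀ s : S, IsRegularLocalRing ↑(S.presheaf.stalk s))
    (h3 : ∀ S' ∈ irreducibleComponents (S : Type u), ∀ s ∈ S', IsClosed ({s} : Set S) →
      topologicalKrullDim (↥S' : Type u) = topologicalKrullDim ↥{t : S | t ∈ S' ∧ t ⤳ s})
    (g : X ⟶ S) [LocallyOfFiniteType g] (F : X.Modules) (hF : Coh.IsCoh F) (x : X) :
    letI pstar : WithBot ℕ∞ :=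
      ((LocCoh.depth ↑(X.presheaf.stalk x) ↑(F.presheaf.stalk x) : ℕ∞) : WithBot ℕ∞) +
        topologicalKrullDim ↥(closure ({x} : Set X))
    ∀ n : ℕ∞,
      (∃ U : X.Opens, x ∈ U ∧ ∀ x' : ↥U, (x' : X) ∈ closure ({x} : Set X) → IsClosed ({x'} : Set ↥U) →
        LocCoh.depth ↑(X.presheaf.stalk (x' : X)) ↑(F.presheaf.stalk (x' : X)) = n) ↔
      ((n : WithBot ℕ∞) = pstar) := by
  haveI := LocallyOfFiniteType.isLocallyNoetherian g
  haveI : JacobsonSpace X := LocallyOfFiniteType.jacobsonSpace g
  have h2 : ∀ s : S, CAlg.IsUniversallyCatenary (S.presheaf.stalk s) := fun s => by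
    haveI := hreg s
    haveI : LocCoh.IsCohenMacaulayRing (S.presheaf.stalk s) := ⟨fun p _ => by
      haveI := RegLoc6.isRegularLocalRing_localization (S.presheaf.stalk s) p
      exact AvramovLib.isCM_of_regular _⟩
    exact S0603.result _
  obtain ⟨hX, -⟩ := DimFormula.dimGood_of_locallyOfFiniteType g (DimFormula.dimGood_of h2 h3) h2
  let P : X → WithBot ℕ∞ := fun z =>
    ((LocCoh.depth ↑(X.presheaf.stalk z) ↑(F.presheaf.stalk z) : ℕ∞) : WithBot ℕ∞) + topologicalKrullDim ↥(closure ({z} : Set X))
  have hopen : ∀ m : ℕ, IsOpen {z : X | (m : WithBot ℕ∞) ≤ P z} := fun m =>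
    Codepth5.isOpen_rect_jacobson hreg h3 g F hF m
  have hclosed : ∀ z : X, IsClosed ({z} : Set X) →
      P z = ((LocCoh.depth ↑(X.presheaf.stalk z) ↑(F.presheaf.stalk z) : ℕ∞) : WithBot ℕ∞) := fun z hz => by
    have h0 : topologicalKrullDim ↥(closure ({z} : Set X)) = 0 := by
      rw [hX.dim_closure, hX.dd_eq specializes_rfl hz, DimFormula.cd_self]
      rfl
    show _ + _ = _
    rw [h0, add_zero]
  -- a neighbourhood on which `P` is constant on `closure {x}`
  obtain ⟨W, hW, hxW, hWP⟩ : ∃ W : Set X, IsOpen W ∧ x ∈ W ∧ ∀ z ∈ W, x ⤳ z → P z = P x := by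
    by_cases hx : x ∈ CohB1.support F
    · haveI : Nontrivial (F.presheaf.stalk x) := not_subsingleton_iff_nontrivial.1 hx
      haveI : Module.Finite (X.presheaf.stalk x) (F.presheaf.stalk x) := QCoh.finite_stalk_of_isFT hF.1 hF.2 x
      obtain ⟨d, hd⟩ := LC.exists_depth_eq_nat (R := X.presheaf.stalk x) (M := F.presheaf.stalk x)
      have hPx : P x = ((d + DimFormula.dd x : ℕ) : WithBot ℕ∞) := by
        show _ + _ = _
        rw [hd, hX.dim_closure]
        push_cast
        rfl
      refine ⟨{z | ((d + DimFormula.dd x : ℕ) : WithBot ℕ∞) ≤ P z}, hopen _, hPx.ge, fun z hz hxz => ?_⟩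
      refine le_antisymm ?_ (hPx ▸ hz)
      by_contra hlt
      rw [hPx, not_le] at hlt
      have hz' : ((d + DimFormula.dd x + 1 : ℕ) : WithBot ℕ∞) ≤ P z := by
        revert hlt
        generalize P z = a
        intro hlt
        induction a with
        | bot => exact absurd hlt (not_lt_bot)
        | coe a =>
          induction a using ENat.recTopCoe with
          | top => exact WithBot.coe_le_coe.2 le_top
          | coe a =>
            have : d + DimFormula.dd x < a := by exact_mod_cast hlt
            exact_mod_cast this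
      have hx' : ((d + DimFormula.dd x + 1 : ℕ) : WithBot ℕ∞) ≤ P x := hxz.mem_open (hopen _) hz'
      rw [hPx] at hx'
      exact absurd (show d + DimFormula.dd x + 1 ≤ d + DimFormula.dd x by exact_mod_cast hx') (by omega)
    · have htop : ∀ z, z ∉ CohB1.support F → P z = ((⊤ : ℕ∞) : WithBot ℕ∞) := fun z hz => by
        haveI : Subsingleton (F.presheaf.stalk z) := not_not.1 hz
        show _ + _ = _
        rw [show LocCoh.depth ↑(X.presheaf.stalk z) ↑(F.presheaf.stalk z) = ⊤ from if_pos (Subsingleton.elim _ _),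
          hX.dim_closure, ← WithBot.coe_add, top_add]
      exact ⟨(CohB1.support F)ᶜ, (QCoh.isClosed_support_of_isFT hF.1 hF.2).isOpen_compl, hx,
        fun z hz _ => (htop z hz).trans (htop x hx).symm⟩
  intro n
  constructor
  · rintro ⟨U, hxU, hU⟩
    obtain ⟨z, ⟨⟨hzU, hzW⟩, hzx⟩, hzc⟩ := nonempty_inter_closedPoints
      (Z := ((U : Set X) ∩ W) ∩ closure ({x} : Set X)) ⟨x, ⟨hxU, hxW⟩, subset_closure rfl⟩
      ((U.2.inter hW).isLocallyClosed.inter isClosed_closure.isLocallyClosed)
    have h1 : IsClosed ({⟨z, hzU⟩} : Set ↥U) := by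
      have := (show IsClosed ({z} : Set X) from hzc).preimage (continuous_subtype_val (p := fun a => a ∈ U))
      convert this using 1
      ext a
      exact ⟨fun h => congrArg Subtype.val h, fun h => Subtype.ext h⟩
    have h3 : P z = P x := hWP z hzW (specializes_iff_mem_closure.2 hzx)
    rw [hclosed z hzc, hU ⟨z, hzU⟩ hzx h1] at h3
    exact h3
  · intro hn
    refine ⟨⟨W, hW⟩, hxW, fun z hzx hz => ?_⟩
    have hzc : IsClosed ({(z : X)} : Set X) := by
      have hz1 : z ∈ closedPoints ↥(⟨W, hW⟩ : X.Opens) := hz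
      rw [← (⟨W, hW⟩ : X.Opens).isOpenEmbedding'.preimage_closedPoints] at hz1
      exact hz1
    have h3 : P (z : X) = P x := hWP _ z.2 (specializes_iff_mem_closure.2 hzx)
    rw [hclosed _ hzc] at h3
    exact WithBot.coe_inj.1 (h3.trans hn.symm)

end Groth.Agent.S4896
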