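import Groth.Statements.S4898
import Groth.Agent.GrFlat5.FlatteningIdeal
import Groth.Agent.GrFlat5.FlatPullback
import Groth.Agent.QCoh.FT

set_option autoImplicit false
universe u
open CategoryTheory AlgebraicGeometry
open EGA43

namespace Groth.Agent.S4898

open CategoryTheory.Limits in
/-- Over an affine irreducible base, tested on affine base changes, to which the general statement
reduces: let A be a commutative ring whose spectrum is irreducible, f : X ⟶ Spec A a morphism of
finite presentation and F a quasi-coherent O_X-module of finite presentation. Then there are an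
element h of A which is not nilpotent (so that U = Spec A_h is a nonempty open subset of Spec A) and
a finitely generated ideal J of A_h contained in the nilradical (so that the closed subscheme Z =
V(J) of U, of finite presentation over U, has the same underlying space as U) such that for every
A_h-algebra A' the pullback of F to X ×_{Spec A} Spec A' is flat over Spec A' if and only if J
generates the zero ideal of A', i.e. if and only if Spec A' ⟶ U factors through Z. (The published
statement also asserts that, for a finite affine open cover (W_i) of X, U can be chosen so that the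
sections of the pullback of F over each W_i ×_{Spec A} Spec A' form a free A'-module whenever Spec
A' ⟶ U factors through Z; this row omits that assertion.) -/
theorem result {A : Type u} [CommRing A] [IrreducibleSpace (PrimeSpectrum A)]
    {X : Scheme.{u}} (f : X ⟶ Spec (CommRingCat.of A))
    [LocallyOfFinitePresentation f] [QuasiCompact f] [QuasiSeparated f]
    (F : X.Modules) [Coh.IsQCoh F] (hF : CohB1.IsFP F) :
    ∃ (h : A) (_ : ¬ IsNilpotent h) (J : Ideal (Localization.Away h)) (_ : J.FG)
      (_ : J ≤ nilradical (Localization.Away h)),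
      ∀ (A' : Type u) [CommRing A'] [Algebra (Localization.Away h) A'],
        letI g : Spec (CommRingCat.of A') ⟶ Spec (CommRingCat.of A) :=
          Spec.map (CommRingCat.ofHom ((algebraMap (Localization.Away h) A').comp (algebraMap A (Localization.Away h))))
        (FlatMod.IsFlatOver (pullback.snd f g) ((Scheme.Modules.pullback (pullback.fst f g)).obj F) ↔
          Ideal.map (algebraMap (Localization.Away h) A') J = ⊥) := by
  classical
  have hA : (nilradical A).IsPrime := PrimeSpectrum.irreducibleSpace_iff_isPrime_nilradical.1 inferInstance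
  haveI := hA
  haveI : CompactSpace X := QuasiCompact.compactSpace_of_compactSpace f
  obtain ⟨s, hs⟩ := (isCompact_univ (X := X)).elim_finite_subcover (fun U : X.affineOpens => (U.1 : Set X))
    (fun U => U.1.2) (fun x _ => by
      obtain ⟨_, ⟨U, hU, rfl⟩, hxU, -⟩ := X.isBasis_affineOpens.exists_subset_of_mem_open (Set.mem_univ x) isOpen_univ
      exact Set.mem_iUnion.2 ⟨⟨U, hU⟩, hxU⟩)
  let φ : ∀ U : X.affineOpens, A →+* Γ(X, U.1) := fun U =>
    ((Scheme.ΓSpecIso (CommRingCat.of A)).inv ≫ f.appLE ⊤ U.1 (le_top : U.1 ≤ f ⁻¹ᵁ ⊤)).hom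
  letI : ∀ U : X.affineOpens, Algebra A Γ(X, U.1) := fun U => (φ U).toAlgebra
  letI : ∀ U : X.affineOpens, Module A Γ(F, U.1) := fun U => Module.compHom _ (φ U)
  haveI : ∀ U : X.affineOpens, IsScalarTower A Γ(X, U.1) Γ(F, U.1) := fun U => .of_algebraMap_smul fun _ _ => rfl
  have key : ∀ U : X.affineOpens, ∃ h₀ : A, ¬ IsNilpotent h₀ ∧ ∀ h : A, h₀ ∣ h →
      ∃ J : Ideal (Localization.Away h), J.FG ∧ J ≤ nilradical (Localization.Away h) ∧
      ∀ (A' : Type u) [CommRing A'] [Algebra (Localization.Away h) A'] [Algebra A A']
        [IsScalarTower A (Localization.Away h) A'],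
        Module.Flat A' (TensorProduct A A' Γ(F, U.1)) ↔ J.map (algebraMap (Localization.Away h) A') = ⊥ := fun U => by
    haveI : Algebra.FinitePresentation A Γ(X, U.1) :=
      RingHom.FinitePresentation.comp (f.finitePresentation_appLE (isAffineOpen_top _) U.2 le_top)
        (RingHom.FinitePresentation.of_bijective
          (ConcreteCategory.bijective_of_isIso (Scheme.ΓSpecIso (CommRingCat.of A)).inv))
    haveI : Module.FinitePresentation Γ(X, U.1) Γ(F, U.1) := Groth.Agent.QCoh.finitePresentation_of_isFP hF U.2
    exact Groth.Agent.GrFlat5.exists_flattening_ideal hA Γ(X, U.1) Γ(F, U.1)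
  choose h₀ hh₀ hJ using key
  refine ⟨∏ U ∈ s, h₀ U, fun hn => ?_, ?_⟩
  · obtain ⟨U, -, hU⟩ := hA.prod_mem_iff.1 (mem_nilradical.2 hn)
    exact hh₀ U (mem_nilradical.1 hU)
  choose! J hJfg hJnil hJiff using fun U (hU : U ∈ s) => hJ U (∏ U ∈ s, h₀ U) (Finset.dvd_prod_of_mem h₀ hU)
  refine ⟨s.sup J, Submodule.fg_finset_sup s J hJfg, Finset.sup_le hJnil, fun A' _ _ => ?_⟩
  letI : Algebra A A' := ((algebraMap (Localization.Away (∏ U ∈ s, h₀ U)) A').comp
    (algebraMap A (Localization.Away (∏ U ∈ s, h₀ U)))).toAlgebra
  haveI : IsScalarTower A (Localization.Away (∏ U ∈ s, h₀ U)) A' := .of_algebraMap_eq fun _ => rfl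
  have hpb := fun U : X.affineOpens =>
    Groth.Agent.GrFlat5.flat_pullback_spec_iff (A' := A') f ‹Coh.IsQCoh F› U.2 rfl _ rfl
  rw [Ideal.map_eq_bot_iff_le_ker, Finset.sup_le_iff]
  constructor
  · intro H U hU
    exact (Ideal.map_eq_bot_iff_le_ker _).1 ((hJiff U hU A').1 ((hpb U).2 fun x' _ => H x'))
  · intro H x'
    obtain ⟨U, hU, hx⟩ := Set.mem_iUnion₂.1 (hs (Set.mem_univ (CategoryTheory.Limits.pullback.fst f _ x')))
    exact (hpb U).1 ((hJiff U hU A').2 ((Ideal.map_eq_bot_iff_le_ker _).2 (H U hU))) x' hx

end Groth.Agent.S4898
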