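import Groth.Statements.S4899
import Groth.Agent.GrFlat5.FlatAtPrimary

set_option autoImplicit false
universe u
open CategoryTheory AlgebraicGeometry
open EGA43

namespace Groth.Agent.S4899

open CategoryTheory.Limits in
/-- Let A be an Artinian local ring, f : X ⟶ Spec A locally of finite type, F a coherent O_X-module and
x a point of X; let (u_i : A → A_i) be a family of ring homomorphisms into local rings such that an
element of A killed by every u_i is zero. Assume (ii) that the residue field k(x) is a primary
extension of the residue field of the base (every element of k(x) which is separable algebraic over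
it already lies in it; automatic when that field is separably closed), and (iii) that for every i
there is a point x' of X_i = X ×_{Spec A} Spec A_i above x and above the closed point of Spec A_i at
which the pullback of F is flat over Spec A_i. Then F is f-flat at x. -/
theorem result {A : Type u} [CommRing A]
    [IsArtinianRing A] [IsLocalRing A] {X : Scheme.{u}} (f : X ⟶ Spec (CommRingCat.of A))
    [LocallyOfFiniteType f] (F : X.Modules) (hF : Coh.IsCoh F) (x : X)
    {ι : Type u} (A' : ι → Type u) [∀ i, CommRing (A' i)] [∀ i, IsLocalRing (A' i)] (u : ∀ i, A →+* A' i)
    (hu : ∀ a : A, (∀ i, u i a = 0) → a = 0)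
    (hprim : letI := (f.residueFieldMap x).hom.toAlgebra
      ∀ a : ↑(X.residueField x), IsSeparable ↑((Spec (CommRingCat.of A)).residueField (f x)) a →
        a ∈ (f.residueFieldMap x).hom.range)
    (hflat : ∀ i : ι, ∃ x' : ↥(pullback f (Spec.map (CommRingCat.ofHom (u i)))),
      pullback.fst f (Spec.map (CommRingCat.ofHom (u i))) x' = x ∧
      pullback.snd f (Spec.map (CommRingCat.ofHom (u i))) x' = IsLocalRing.closedPoint (A' i) ∧
      FlatMod.IsFlatOverAt (pullback.snd f (Spec.map (CommRingCat.ofHom (u i))))
        ((Scheme.Modules.pullback (pullback.fst f (Spec.map (CommRingCat.ofHom (u i))))).obj F) x') :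
    FlatMod.IsFlatOverAt f F x := by
  exact Groth.Agent.GrFlat5.flatAt_of_family_primary f F hF x hprim A' u hu hflat

end Groth.Agent.S4899
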