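import Groth.Statements.S4901
import Groth.Agent.FlatPt5.Stage

set_option autoImplicit false
universe u
open CategoryTheory AlgebraicGeometry
open EGA43

namespace Groth.Agent.S4901

open CategoryTheory.Limits in
/-- Let S be the limit of a cofiltered system (S_i) of schemes with affine transition morphisms, i₀ an
index, f₀ : X₀ ⟶ Y₀ a morphism locally of finite presentation of S_{i₀}-schemes, F₀ and G₀
quasi-coherent O_{X₀}-modules of finite presentation and h₀ : F₀ ⟶ G₀ a homomorphism; let f : X ⟶ Y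
and h = q^*h₀ be the base changes to S and x a point of X. Then the stalk map h_x is injective and
Coker h is f-flat at x if and only if there are an index i over i₀ and base changes f_i : X_i ⟶ Y_i,
h_i = p^*h₀ to S_i (pullback squares with the compatible morphisms X ⟶ X_i, Y ⟶ Y_i) such that
(h_i)_{x_i} is injective and Coker h_i is f_i-flat at the image x_i of x. -/
theorem result {I : Type u} [SmallCategory I] [IsCofiltered I]
    (D : I ⥤ Scheme.{u}) (c : Limits.Cone D) (hc : Limits.IsLimit c)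
    [∀ (i j : I) (φ : i ⟶ j), IsAffineHom (D.map φ)] (i₀ : I)
    {X₀ Y₀ : Scheme.{u}} (f₀ : X₀ ⟶ Y₀) (g₀ : Y₀ ⟶ D.obj i₀) [LocallyOfFinitePresentation f₀]
    (F₀ G₀ : X₀.Modules) [Coh.IsQCoh F₀] [Coh.IsQCoh G₀] (hF₀ : CohB1.IsFP F₀) (hG₀ : CohB1.IsFP G₀)
    (h₀ : F₀ ⟶ G₀)
    {X Y : Scheme.{u}} (f : X ⟶ Y) (g : Y ⟶ c.pt) (qY : Y ⟶ Y₀) (qX : X ⟶ X₀)
    (hY : IsPullback qY g g₀ (c.π.app i₀)) (hX : IsPullback qX f f₀ qY) (x : X) :
    (Function.Injective ((TopCat.Presheaf.stalkFunctor Ab x).map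
        (Scheme.Modules.Hom.mapPresheaf ((Scheme.Modules.pullback qX).map h₀))) ∧
      FlatMod.IsFlatOverAt f (cokernel ((Scheme.Modules.pullback qX).map h₀)) x) ↔
      ∃ (i : I) (φ : i ⟶ i₀) (Xi Yi : Scheme.{u}) (fi : Xi ⟶ Yi) (gi : Yi ⟶ D.obj i)
        (pY : Yi ⟶ Y₀) (pX : Xi ⟶ X₀) (vY : Y ⟶ Yi) (vX : X ⟶ Xi),
        IsPullback pY gi g₀ (D.map φ) ∧ IsPullback pX fi f₀ pY ∧
          vY ≫ pY = qY ∧ vY ≫ gi = g ≫ c.π.app i ∧ vX ≫ pX = qX ∧ vX ≫ fi = f ≫ vY ∧
          Function.Injective ((TopCat.Presheaf.stalkFunctor Ab (vX x)).map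
            (Scheme.Modules.Hom.mapPresheaf ((Scheme.Modules.pullback pX).map h₀))) ∧
          FlatMod.IsFlatOverAt fi (cokernel ((Scheme.Modules.pullback pX).map h₀)) (vX x) := by
  haveI : ∀ {a b : I} (r : a ⟶ b), IsAffineHom (D.map r) := fun {a b} r => ‹∀ (i j : I) (φ : i ⟶ j), IsAffineHom (D.map φ)› a b r
  constructor
  · rintro ⟨hinj, hflat⟩
    let DY := Groth.Agent.MorLib.BC.diag D g₀
    let cY := Groth.Agent.MorLib.BC.cone D g₀ hY
    let T : Over i₀ := Over.mk (𝟙 i₀)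
    let fT : DY.obj T ⟶ Y₀ := Limits.pullback.fst g₀ (D.map T.hom)
    haveI : IsIso fT := by
      haveI : IsIso (D.map T.hom) := by
        show IsIso (D.map (𝟙 i₀))
        rw [D.map_id]; infer_instance
      exact (inferInstance : IsIso (Limits.pullback.fst g₀ (D.map T.hom)))
    let a : X₀ ⟶ DY.obj T := f₀ ≫ inv fT
    haveI : LocallyOfFinitePresentation a := MorphismProperty.comp_mem _ f₀ (inv fT) inferInstance inferInstance
    have hT : cY.π.app T ≫ fT = qY := Groth.Agent.MorLib.BC.proj_fst D g₀ hY T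
    have hsq : IsPullback qX f a (cY.π.app T) := by
      refine hX.of_iso (Iso.refl _) (Iso.refl _) (Iso.refl _) (asIso fT).symm (by simp) (by simp) (by simp [a]) ?_
      refine Eq.trans ?_ (Category.id_comp _).symm
      show qY ≫ inv fT = _
      exact (IsIso.comp_inv_eq fT).2 hT.symm
    obtain ⟨j, hj⟩ := Groth.Agent.FlatPt5.exists_injFlat_stage hsq
      (Groth.Agent.MorLib.BC.isLimitCone D g₀ hY hc) ‹Coh.IsQCoh F₀› hF₀ ‹Coh.IsQCoh G₀› hG₀ h₀ x hinj hflat
    refine ⟨j.left.left, j.left.hom, Limits.pullback a (DY.map j.hom), DY.obj j.left, Limits.pullback.snd a (DY.map j.hom),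
      Limits.pullback.snd g₀ (D.map j.left.hom), Limits.pullback.fst g₀ (D.map j.left.hom),
      Limits.pullback.fst a (DY.map j.hom), cY.π.app j.left, Groth.Agent.MorLib.BC.proj DY a hsq j,
      IsPullback.of_hasPullback _ _, ?_, Groth.Agent.MorLib.BC.proj_fst D g₀ hY j.left,
      Groth.Agent.MorLib.BC.proj_snd D g₀ hY j.left, Groth.Agent.MorLib.BC.proj_fst DY a hsq j,
      Groth.Agent.MorLib.BC.proj_snd DY a hsq j, hj⟩
    refine (IsPullback.of_hasPullback a (DY.map j.hom)).of_iso (Iso.refl _) (Iso.refl _) (Iso.refl _) (asIso fT)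
      (by simp) (by simp) (by simp [a]) ?_
    exact (Groth.Agent.MorLib.BC.map_fst D g₀ j.hom).trans (Category.id_comp _).symm
  · rintro ⟨i, φ, Xi, Yi, fi, gi, pY, pX, vY, vX, hpY, hpX, hvY, hvYg, hvX, hvXf, hinj, hfl⟩
    have hsq : IsPullback vX f fi vY := IsPullback.of_right (by rw [hvX, hvY]; exact hX) hvXf hpX
    haveI : LocallyOfFinitePresentation fi := MorphismProperty.of_isPullback hpX inferInstance
    let e : Scheme.Modules.pullback pX ⋙ Scheme.Modules.pullback vX ≅ Scheme.Modules.pullback qX :=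
      Scheme.Modules.pullbackComp _ _ ≪≫ Scheme.Modules.pullbackCongr hvX
    have hFi := Groth.Agent.QCoh.isQCoh_pullback pX ‹Coh.IsQCoh F₀›
    have hFip := Groth.Agent.LimModLib.isFP_pullback pX ‹Coh.IsQCoh F₀› hF₀
    have hFit := Groth.Agent.LimModLib.isFT_of_isFP hFi hFip
    have hGi := Groth.Agent.QCoh.isQCoh_pullback pX ‹Coh.IsQCoh G₀›
    have hGip := Groth.Agent.LimModLib.isFP_pullback pX ‹Coh.IsQCoh G₀› hG₀
    refine ⟨Groth.Agent.FlatPt5.injective_stalkOf_of_arrowIso (Arrow.isoMk (e.app F₀) (e.app G₀) (e.hom.naturality h₀).symm) x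
      (Groth.Agent.FlatPt5.injective_of_baseChange hsq hFi hFit hGi hGip _ x hinj hfl), ?_⟩
    exact Groth.Agent.GrFlat5.isFlatOverAt_of_iso f (PreservesCokernel.iso (Scheme.Modules.pullback vX) _ ≪≫
        cokernel.mapIso _ _ (e.app F₀) (e.app G₀) (e.hom.naturality h₀)) x
      (Groth.Agent.FlatPt5.flatAt_of_baseChange hsq (Groth.Agent.QCoh.isQCoh_cokernel hFi hGi _)
        (Groth.Agent.FPEnough.isFP_cokernel hFi hFit hGi hGip _) x hfl)

end Groth.Agent.S4901
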