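import Groth.Statements.S4903
import Groth.Agent.QHomeo.Basic

set_option autoImplicit false
universe u
open EGA43

namespace Groth.Agent.S4903

open Groth.Agent.QHomeo

/-- Conditions a), b), b′), c″), c‴) and its last assertion: given a topological space X and a subset X₀
⊆ X, the statements below are equivalent. Every locally closed subset of X that is nonempty
intersects X₀. Every nonempty locally quasi-constructible subset of X intersects X₀; here a subset
is locally quasi-constructible when each point of X has an open neighbourhood on which the subset's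
trace can be written as a union of finitely many locally closed sets. Each locally
quasi-constructible Z ⊆ X is contained in the closure of Z ∩ X₀. Any two quasi-constructible subsets
of X (unions of finitely many locally closed sets) having equal traces on X₀ coincide. Any two
locally quasi-constructible subsets of X having equal traces on X₀ coincide. Assuming these
conditions, each locally quasi-constructible subset of the subspace X₀ arises as the trace on X₀ of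
some locally quasi-constructible subset of X. -/
theorem result {X : Type u} [TopologicalSpace X] (X₀ : Set X) :
    [∀ Z : Set X, IsLocallyClosed Z → Z.Nonempty → (Z ∩ X₀).Nonempty,
      ∀ Z : Set X, (∀ x : X, ∃ U : Set X, IsOpen U ∧ x ∈ U ∧ ∃ T : Set (Set X), T.Finite ∧ (∀ t ∈ T, IsLocallyClosed t) ∧ U ∩ Z = ⋃₀ T) → Z.Nonempty → (Z ∩ X₀).Nonempty,
      ∀ Z : Set X, (∀ x : X, ∃ U : Set X, IsOpen U ∧ x ∈ U ∧ ∃ T : Set (Set X), T.Finite ∧ (∀ t ∈ T, IsLocallyClosed t) ∧ U ∩ Z = ⋃₀ T) → Z ⊆ closure (Z ∩ X₀),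
      ∀ Z Z' : Set X, (∃ T : Set (Set X), T.Finite ∧ (∀ t ∈ T, IsLocallyClosed t) ∧ Z = ⋃₀ T) → (∃ T : Set (Set X), T.Finite ∧ (∀ t ∈ T, IsLocallyClosed t) ∧ Z' = ⋃₀ T) → Z ∩ X₀ = Z' ∩ X₀ → Z = Z',
      ∀ Z Z' : Set X, (∀ x : X, ∃ U : Set X, IsOpen U ∧ x ∈ U ∧ ∃ T : Set (Set X), T.Finite ∧ (∀ t ∈ T, IsLocallyClosed t) ∧ U ∩ Z = ⋃₀ T) → (∀ x : X, ∃ U : Set X, IsOpen U ∧ x ∈ U ∧ ∃ T : Set (Set X), T.Finite ∧ (∀ t ∈ T, IsLocallyClosed t) ∧ U ∩ Z' = ⋃₀ T) → Z ∩ X₀ = Z' ∩ X₀ → Z = Z'].TFAE ∧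
    ((∀ Z : Set X, IsLocallyClosed Z → Z.Nonempty → (Z ∩ X₀).Nonempty) →
      ∀ Z₀ : Set ↥X₀, (∀ x : ↥X₀, ∃ U : Set ↥X₀, IsOpen U ∧ x ∈ U ∧ ∃ T : Set (Set ↥X₀), T.Finite ∧ (∀ t ∈ T, IsLocallyClosed t) ∧ U ∩ Z₀ = ⋃₀ T) →
        ∃ Z : Set X, (∀ x : X, ∃ U : Set X, IsOpen U ∧ x ∈ U ∧ ∃ T : Set (Set X), T.Finite ∧ (∀ t ∈ T, IsLocallyClosed t) ∧ U ∩ Z = ⋃₀ T) ∧ Subtype.val ⁻¹' Z = Z₀) := by
  constructor
  · tfae_have 1 → 5 := fun h A B hA hB e => VDense.inj h hA hB e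
    tfae_have 5 → 4 := fun h A B hA hB e => h A B (QC.lqc hA) (QC.lqc hB) e
    tfae_have 4 → 1 := fun h Z hZ hne => by
      by_contra hn
      rw [Set.not_nonempty_iff_eq_empty] at hn
      exact hne.ne_empty (h Z ∅ (QC.of_lc hZ) QC.empty (by simpa using hn))
    tfae_have 1 → 2 := fun h Z hZ hne => VDense.lqc h hZ hne
    tfae_have 2 → 3 := fun h Z hZ x hx => mem_closure_iff.mpr fun V hV hxV => by
      obtain ⟨y, ⟨hy1, hy2⟩, hy3⟩ :=
        h (V ∩ Z) ((LQC.of_lc hV.isLocallyClosed).inter hZ) ⟨x, hxV, hx⟩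
      exact ⟨y, hy1, hy2, hy3⟩
    tfae_have 3 → 1 := fun h Z hZ hne => closure_nonempty_iff.mp (hne.mono (h Z (LQC.of_lc hZ)))
    tfae_finish
  · intro h Z₀ hZ₀
    have hv : QHom (Subtype.val : X₀ → X) :=
      ⟨Topology.IsInducing.subtypeVal, by simpa [VDense] using h⟩
    exact hv.lqc_surj hZ₀

end Groth.Agent.S4903
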