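import Groth.Statements.S4907
import Groth.Agent.Codepth5.RegRect

set_option autoImplicit false
universe u
open CategoryTheory AlgebraicGeometry
open EGA43

namespace Groth.Agent.S4907

/-- Let X be a regular biequidimensional scheme (Noetherian, regular local rings, finite dimension, all
irreducible components of dimension dim X, and dim T = dim cl{y} + codim(cl{y}, T) for every closed
irreducible T and point y of T) and F a coherent O_X-module. Then the rectified depth x ↦ prof(F_x)
+ dim cl{x} is lower semicontinuous: for every integer n the set of x with prof(F_x) + dim cl{x} ≥ n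
is open. -/
theorem result (X : Scheme.{u}) [IsNoetherian X]
    (hreg : ∀ x : X, IsRegularLocalRing ↑(X.presheaf.stalk x))
    (hfin : topologicalKrullDim X < ⊤)
    (hcomp : ∀ C ∈ irreducibleComponents (X : Type u), topologicalKrullDim ↥C = topologicalKrullDim X)
    (hchain : ∀ (y : X) (T : Set X), IsClosed T → IsIrreducible T → y ∈ T →
      topologicalKrullDim ↥T = topologicalKrullDim ↥(closure ({y} : Set X)) + topologicalKrullDim ↥{t : X | t ∈ T ∧ t ⤳ y})
    (F : X.Modules) (hF : Coh.IsCoh F) (n : ℕ) :
    IsOpen {x : X | (n : WithBot ℕ∞) ≤
      ((LocCoh.depth ↑(X.presheaf.stalk x) ↑(F.presheaf.stalk x) : ℕ∞) : WithBot ℕ∞) +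
        topologicalKrullDim ↥(closure ({x} : Set X))} := by
    exact Codepth5.isOpen_rect_biequidim X hreg hfin hcomp hchain F hF n

end Groth.Agent.S4907
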