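import Groth.Statements.S4908
import Groth.Agent.KFlatLib.Scheme.PullTensor
import Mathlib.AlgebraicGeometry.Morphisms.Flat
import Mathlib.RingTheory.Flat.FaithfullyFlat.Algebra

set_option autoImplicit false
universe u
open CategoryTheory AlgebraicGeometry
open EGA43

namespace Groth.Agent.S4908

open Groth.Agent.KFlatLib in
theorem pb_zero {X Y : Scheme.{u}} (f : X ⟶ Y) {M : Y.Modules} {U : Y.Opens} : pb f (M := M) (U := U) 0 = 0 :=
  map_zero ((DCoh.toP.map ((Scheme.Modules.pullbackPushforwardAdjunction f).unit.app M)).app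
    (Opposite.op U)).hom


/-- Case Z_λ = X: let X be a scheme, u_i : F ⟶ G_i a family of homomorphisms of quasi-coherent
O_X-modules and g : X' ⟶ X a faithfully flat morphism. If the family (g^*u_i : g^*F ⟶ g^*G_i) is
separating — a section of g^*F over an open subset killed by every g^*u_i is zero — then the family
(u_i) is separating. (The published statement allows homomorphisms into direct images (f_λ)_*G_λ
along morphisms f_λ : Z_λ ⟶ X; this row is the case Z_λ = X, to which the general case reduces.) -/
theorem result {X X' : Scheme.{u}} (F : X.Modules) [Coh.IsQCoh F] {ι : Type u}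
    (G : ι → X.Modules) [∀ i, Coh.IsQCoh (G i)] (u : ∀ i, F ⟶ G i) (g : X' ⟶ X) [Flat g] [Surjective g]
    (h : (∀ (V : (X').Opens) (t : ↑(((Scheme.Modules.pullback g).obj F).presheaf.obj (Opposite.op V))), (∀ i, (Scheme.Modules.Hom.mapPresheaf ((Scheme.Modules.pullback g).map (u i))).app (Opposite.op V) t = 0) → t = 0)) :
    (∀ (V : (X).Opens) (t : ↑((F).presheaf.obj (Opposite.op V))), (∀ i, (Scheme.Modules.Hom.mapPresheaf (u i)).app (Opposite.op V) t = 0) → t = 0) := by
  open Groth.Agent.KFlatLib in
  intro V t ht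
  open Groth.Agent.KFlatLib in
  have h1 : pb g (M := F) (U := V) t = 0 := h (g ⁻¹ᵁ V) _ fun i => by
    have e := pb_naturality g (u i) (U := V) t
    refine e.symm.trans ?_
    exact (congrArg (fun z => pb g (M := G i) (U := V) z) (ht i)).trans (pb_zero g)
  refine TopCat.Presheaf.section_ext ((Groth.Agent.KFlatLib.toAb X).obj F) V t 0 fun x hx => ?_
  obtain ⟨x', rfl⟩ := g.surjective x
  letI := (g.stalkMap x').hom.toAlgebra
  haveI : Module.Flat (X.presheaf.stalk (g x')) (X'.presheaf.stalk x') := Flat.stalkMap g x'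
  haveI : IsLocalHom (algebraMap (X.presheaf.stalk (g x')) (X'.presheaf.stalk x')) :=
    inferInstanceAs (IsLocalHom (g.stalkMap x').hom)
  haveI := Module.FaithfullyFlat.of_flat_of_isLocalHom
    (A := X.presheaf.stalk (g x')) (B := X'.presheaf.stalk x')
  open Groth.Agent.KFlatLib in
  have e2 := stalkPullbackIso_gm g x' F V hx t
  rw [h1] at e2
  open Groth.Agent.KFlatLib in
  have e3 : gm ((Scheme.Modules.pullback g).obj F) (g ⁻¹ᵁ V) hx 0 = 0 :=
    map_zero (((Scheme.Modules.pullback g).obj F).presheaf.germ (g ⁻¹ᵁ V) x' hx).hom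
  rw [e3, map_zero] at e2
  have e4 := (Module.FaithfullyFlat.one_tmul_eq_zero_iff (R := X.presheaf.stalk (g x'))
    (A := X'.presheaf.stalk x') _ _).1 e2.symm
  exact e4.trans (map_zero (F.presheaf.germ V (g x') hx).hom).symm

end Groth.Agent.S4908
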