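import Groth.Statements.S4909
import Groth.Agent.SepFlat5.Modules
import Mathlib.AlgebraicGeometry.Morphisms.Flat
import Mathlib.AlgebraicGeometry.Morphisms.FinitePresentation

set_option autoImplicit false
universe u
open CategoryTheory AlgebraicGeometry
open EGA43

namespace Groth.Agent.S4909

/-- Case Z_λ = X: let X be a scheme, u_i : F ⟶ G_i a separating family of homomorphisms of
quasi-coherent O_X-modules (a section of F over an open subset killed by every u_i is zero) and g :
X' ⟶ X a flat morphism locally of finite presentation. Then the family (g^*u_i : g^*F ⟶ g^*G_i) is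
separating. (The published statement allows homomorphisms into direct images (f_λ)_*G_λ; this row is
the case Z_λ = X, to which the general case reduces.) -/
theorem result {X X' : Scheme.{u}} (F : X.Modules) [Coh.IsQCoh F] {ι : Type u}
    (G : ι → X.Modules) [∀ i, Coh.IsQCoh (G i)] (u : ∀ i, F ⟶ G i) (g : X' ⟶ X) [Flat g] [LocallyOfFinitePresentation g]
    (h : (∀ (V : (X).Opens) (t : ↑((F).presheaf.obj (Opposite.op V))), (∀ i, (Scheme.Modules.Hom.mapPresheaf (u i)).app (Opposite.op V) t = 0) → t = 0)) :
    (∀ (V : (X').Opens) (t : ↑(((Scheme.Modules.pullback g).obj F).presheaf.obj (Opposite.op V))), (∀ i, (Scheme.Modules.Hom.mapPresheaf ((Scheme.Modules.pullback g).map (u i))).app (Opposite.op V) t = 0) → t = 0) := by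
  refine fun V t ht => Groth.Agent.SepFlat5.separating_pullback F ‹Coh.IsQCoh F› G (fun i => inferInstance) u g ?_
    (fun V t ht => h V t ht) V t ht
  intro V x hx
  obtain ⟨U, hU, hxU, -⟩ := exists_isAffineOpen_mem_and_subset (x := g x) (U := ⊤) trivial
  obtain ⟨W, hW, hxW, hle⟩ := exists_isAffineOpen_mem_and_subset (x := x) (U := V ⊓ g ⁻¹ᵁ U) ⟨hx, hxU⟩
  refine ⟨U, W, fun y hy => (hle hy).2, hU, hW, hxW, fun y hy => (hle hy).1, ?_⟩
  letI := (g.appLE U W fun y hy => (hle hy).2).hom.toAlgebra
  haveI : Module.Flat Γ(X, U) Γ(X', W) := g.flat_appLE hU hW fun y hy => (hle hy).2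
  haveI : Algebra.FinitePresentation Γ(X, U) Γ(X', W) := g.finitePresentation_appLE hU hW fun y hy => (hle hy).2
  exact Groth.Agent.SepFlat5.sepBC_of_flat_finitePresentation _ _

end Groth.Agent.S4909
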