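import Groth.Statements.S4911
import Groth.Agent.SepFlat5.Field
import Groth.Agent.SepFlat5.Scheme
import Mathlib.AlgebraicGeometry.PullbackCarrier

set_option autoImplicit false
universe u
open CategoryTheory AlgebraicGeometry
open EGA43

namespace Groth.Agent.S4911

theorem isAffineOpen_inf_pullback {W Y B : Scheme.{u}} (j : W ⟶ Y) (g : B ⟶ Y) {A : W.Opens}
    {D : B.Opens} {V : Y.Opens} (hA : IsAffineOpen A) (hD : IsAffineOpen D) (hV : IsAffineOpen V)
    (hAV : A ≤ j ⁻¹ᵁ V) (hDV : D ≤ g ⁻¹ᵁ V) :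
    IsAffineOpen (Limits.pullback.fst j g ⁻¹ᵁ A ⊓ Limits.pullback.snd j g ⁻¹ᵁ D) := by
  have : IsAffine A.toScheme := hA
  have : IsAffine D.toScheme := hD
  have : IsAffine V.toScheme := hV
  let φ := Limits.pullback.map (j.resLE V A hAV) (g.resLE V D hDV) j g A.ι D.ι V.ι
    (Scheme.Hom.resLE_comp_ι _ _) (Scheme.Hom.resLE_comp_ι _ _)
  have e : Limits.pullback.fst j g ⁻¹ᵁ A ⊓ Limits.pullback.snd j g ⁻¹ᵁ D = φ.opensRange := by
    apply TopologicalSpace.Opens.ext
    rw [Scheme.Hom.coe_opensRange]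
    refine Eq.trans ?_ (Scheme.Pullback.range_map _ _ _ _ _ _ _ _ _).symm
    simp
  rw [e]
  exact isAffineOpen_opensRange φ


open CategoryTheory.Limits
open scoped TensorProduct


open CategoryTheory.Limits in
/-- Case Z_λ = X: let k be a field, X a k-scheme, u_i : F ⟶ G_i a separating family of homomorphisms of
quasi-coherent O_X-modules (a section of F over an open subset killed by every u_i is zero) and S'
an arbitrary k-scheme. Then the family pulled back to X ×_k S' is separating. (The published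
statement allows homomorphisms into direct images (f_λ)_*G_λ; this row is the case Z_λ = X.) -/
theorem result {k : Type u} [Field k] {X S' : Scheme.{u}}
    (p : X ⟶ Spec (CommRingCat.of k)) (q : S' ⟶ Spec (CommRingCat.of k))
    (F : X.Modules) [Coh.IsQCoh F] {ι : Type u} (G : ι → X.Modules) [∀ i, Coh.IsQCoh (G i)] (u : ∀ i, F ⟶ G i)
    (h : (∀ (V : (X).Opens) (t : ↑((F).presheaf.obj (Opposite.op V))), (∀ i, (Scheme.Modules.Hom.mapPresheaf (u i)).app (Opposite.op V) t = 0) → t = 0)) :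
    (∀ (V : (pullback p q).Opens) (t : ↑(((Scheme.Modules.pullback (pullback.fst p q)).obj F).presheaf.obj (Opposite.op V))), (∀ i, (Scheme.Modules.Hom.mapPresheaf ((Scheme.Modules.pullback (pullback.fst p q)).map (u i))).app (Opposite.op V) t = 0) → t = 0) := by
  refine fun V t ht => Groth.Agent.SepFlat5.separating_pullback F ‹Coh.IsQCoh F› G (fun i => inferInstance) u (pullback.fst p q) ?_
    (fun V t ht => h V t ht) V t ht
  intro V x hx
  let a := pullback.fst p q
  let b := pullback.snd p q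
  obtain ⟨U, hU, hxU, -⟩ := exists_isAffineOpen_mem_and_subset (x := a x) (U := ⊤) trivial
  obtain ⟨O, hO, hxO, -⟩ := exists_isAffineOpen_mem_and_subset (x := b x) (U := ⊤) trivial
  let S := Spec (CommRingCat.of k)
  have hU' : U ≤ p ⁻¹ᵁ ⊤ := le_top.trans (Scheme.Hom.preimage_top _).ge
  have hO' : O ≤ q ⁻¹ᵁ ⊤ := le_top.trans (Scheme.Hom.preimage_top _).ge
  let W₁ := a ⁻¹ᵁ U ⊓ b ⁻¹ᵁ O
  have hW₁ : IsAffineOpen W₁ := isAffineOpen_inf_pullback p q hU hO (isAffineOpen_top S) hU' hO'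
  obtain ⟨g, hgV, hxg⟩ := hW₁.exists_basicOpen_le (V := V) ⟨x, hx⟩ (show x ∈ W₁ from ⟨hxU, hxO⟩)
  have hWU : (pullback p q).basicOpen g ≤ a ⁻¹ᵁ U := ((pullback p q).basicOpen_le g).trans inf_le_left
  refine ⟨U, (pullback p q).basicOpen g, hWU, hU, hW₁.basicOpen g, hxg, hgV, ?_⟩
  have hk : IsField Γ(S, ⊤) :=
    (Scheme.ΓSpecIso (CommRingCat.of k)).commRingCatIsoToRingEquiv.toMulEquiv.isField (Field.toIsField k)
  letI : Field Γ(S, ⊤) := hk.toField
  letI : Algebra Γ(S, ⊤) Γ(X, U) := (p.appLE ⊤ U hU').hom.toAlgebra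
  letI : Algebra Γ(S, ⊤) Γ(S', O) := (q.appLE ⊤ O hO').hom.toAlgebra
  obtain ⟨e, he⟩ := Groth.Agent.SepFlat5.exists_equiv (IsPullback.of_hasPullback p q) (isAffineOpen_top S) hU hU'
    hO hO' (W := W₁) rfl
  letI : Algebra Γ(X, U) Γ(pullback p q, (pullback p q).basicOpen g) := (a.appLE U _ hWU).hom.toAlgebra
  letI : Algebra (Γ(X, U) ⊗[Γ(S, ⊤)] Γ(S', O)) Γ(pullback p q, (pullback p q).basicOpen g) :=
    ((algebraMap Γ(pullback p q, W₁) Γ(pullback p q, (pullback p q).basicOpen g)).comp e.toRingHom).toAlgebra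
  haveI : IsScalarTower Γ(X, U) (Γ(X, U) ⊗[Γ(S, ⊤)] Γ(S', O)) Γ(pullback p q, (pullback p q).basicOpen g) :=
    .of_algebraMap_eq fun r => by
      change a.appLE U _ hWU r = (pullback p q).presheaf.map (homOfLE ((pullback p q).basicOpen_le g)).op
        (e (r ⊗ₜ[Γ(S, ⊤)] 1))
      rw [he, map_one, mul_one]
      exact congr($((Scheme.Hom.appLE_map a (inf_le_left : W₁ ≤ a ⁻¹ᵁ U)
        (homOfLE ((pullback p q).basicOpen_le g)).op)).hom r).symm
  haveI := hW₁.isLocalization_basicOpen g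
  haveI : IsLocalization.Away (e.symm g) Γ(pullback p q, (pullback p q).basicOpen g) :=
      by
      have h1 := IsLocalization.isLocalization_of_base_ringEquiv (Submonoid.powers g)
        Γ(pullback p q, (pullback p q).basicOpen g) e.symm
      rw [Submonoid.map_powers] at h1
      exact h1
  exact Groth.Agent.SepFlat5.sepBC_field (k := Γ(S, ⊤)) (e.symm g) _

end Groth.Agent.S4911
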