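import Groth.Statements.S4912
import Groth.Agent.SepFlat5.Free
import Groth.Agent.AffDefLib.Obstruction
import Mathlib.AlgebraicGeometry.Artinian
import Mathlib.AlgebraicGeometry.Morphisms.Flat

set_option autoImplicit false
universe u
open CategoryTheory AlgebraicGeometry
open EGA43

namespace Groth.Agent.S4912

/-- Case Z_λ = X: let X be an Artinian scheme (Noetherian of dimension ≤ 0), u_i : F ⟶ G_i a separating
family of homomorphisms of quasi-coherent O_X-modules (a section of F over an open subset killed by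
every u_i is zero) and g : X' ⟶ X a flat morphism; for instance X the spectrum of a field and g
arbitrary. Then the family (g^*u_i) on X' is separating. (The published statement allows
homomorphisms into direct images (f_λ)_*G_λ; this row is the case Z_λ = X, to which the general case
reduces.) -/
theorem result {X X' : Scheme.{u}} [IsNoetherian X]
    (hX : topologicalKrullDim X ≤ 0) (F : X.Modules) [Coh.IsQCoh F] {ι : Type u}
    (G : ι → X.Modules) [∀ i, Coh.IsQCoh (G i)] (u : ∀ i, F ⟶ G i) (g : X' ⟶ X) [Flat g]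
    (h : (∀ (V : (X).Opens) (t : ↑((F).presheaf.obj (Opposite.op V))), (∀ i, (Scheme.Modules.Hom.mapPresheaf (u i)).app (Opposite.op V) t = 0) → t = 0)) :
    (∀ (V : (X').Opens) (t : ↑(((Scheme.Modules.pullback g).obj F).presheaf.obj (Opposite.op V))), (∀ i, (Scheme.Modules.Hom.mapPresheaf ((Scheme.Modules.pullback g).map (u i))).app (Opposite.op V) t = 0) → t = 0) := by
  refine fun V t ht => Groth.Agent.SepFlat5.separating_pullback F ‹Coh.IsQCoh F› G (fun i => inferInstance) u g ?_
    (fun V t ht => h V t ht) V t ht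
  haveI : IsLocallyArtinian X := .of_topologicalKrullDim_le_zero hX
  intro V x hx
  let U₀ : X.Opens := ⟨{g x}, isOpen_discrete _⟩
  obtain ⟨U, hU, hxU, hUle⟩ := exists_isAffineOpen_mem_and_subset (x := g x) (U := U₀) rfl
  obtain ⟨W, hW, hxW, hle⟩ := exists_isAffineOpen_mem_and_subset (x := x) (U := V ⊓ g ⁻¹ᵁ U) ⟨hx, hxU⟩
  refine ⟨U, W, fun y hy => (hle hy).2, hU, hW, hxW, fun y hy => (hle hy).1, ?_⟩
  letI := (g.appLE U W fun y hy => (hle hy).2).hom.toAlgebra
  haveI : Module.Flat Γ(X, U) Γ(X', W) := g.flat_appLE hU hW fun y hy => (hle hy).2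
  haveI : IsArtinianRing Γ(X, U) := IsLocallyArtinian.isArtinianRing_presheaf_obj ⟨U, hU⟩
  haveI : Subsingleton U := ⟨fun a b => Subtype.ext ((hUle a.2).trans (hUle b.2).symm)⟩
  haveI : Subsingleton (PrimeSpectrum Γ(X, U)) := hU.isoSpec.hom.homeomorph.symm.injective.subsingleton
  haveI : Nonempty (PrimeSpectrum Γ(X, U)) := ⟨hU.isoSpec.hom.homeomorph ⟨g x, hxU⟩⟩
  haveI : Nontrivial Γ(X, U) := PrimeSpectrum.nonempty_iff_nontrivial.1 ‹_›
  haveI : Subsingleton (MaximalSpectrum Γ(X, U)) := MaximalSpectrum.toPrimeSpectrum_injective.subsingleton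
  haveI : IsLocalRing Γ(X, U) := IsLocalRing.of_singleton_maximalSpectrum
  haveI := Groth.Agent.AffDefLib.free_of_flat_artinian (R := Γ(X, U)) Γ(X', W)
  exact Groth.Agent.SepFlat5.sepBC_of_free _ _

end Groth.Agent.S4912
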