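import Groth.Statements.S4916
import Groth.Agent.QHomeo.OpenAt

set_option autoImplicit false
open CategoryTheory AlgebraicGeometry
universe u v w
open EGA43

namespace Groth.Agent.S4916

open Groth.Agent.QHomeo

/-- Let ψ : X → Y be a continuous map of topological spaces and y a point of Y. The set of points x of
the fibre ψ⁻¹(y) at which ψ is open is a closed subset of ψ⁻¹(y). -/
theorem result {α : Type u} {β : Type v} [TopologicalSpace α] [TopologicalSpace β]
    (ψ : α → β) (hψ : Continuous ψ) (y : β) :
    IsClosed {x : ↥(ψ ⁻¹' {y}) | EGA43.IsOpenAt ψ x.1} := by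
  exact isClosed_setOf_openAt ψ y

end Groth.Agent.S4916
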