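import Groth.Statements.S4917
import Groth.Agent.FibDim.Comp

set_option autoImplicit false
open CategoryTheory AlgebraicGeometry
universe u v w
open EGA43

namespace Groth.Agent.S4917

/-- Assume Y is a locally Noetherian scheme and X is an irreducible scheme, and consider a dominant
morphism f : X ⟶ Y that is locally of finite type. Fix a point x of X and write y = f x. If, for
every irreducible component of the fibre X_y that contains x, the morphism f is open at the generic
point of that component, then f is equidimensional at x. -/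
theorem result {X Y : Scheme.{u}} [IsLocallyNoetherian Y]
    [IrreducibleSpace X] (f : X ⟶ Y) [LocallyOfFiniteType f] [IsDominant f] (x : X)
    (h : ∀ z : ↥(f.fiber (f.base x)), f.asFiber x ∈ closure {z} →
      (∀ z' : ↥(f.fiber (f.base x)), z ∈ closure {z'} → z' = z) →
      EGA43.IsOpenAt f.base ((f.fiberι (f.base x)).base z)) :
    EGA43.IsEquidimAt f x := by
  set η := genericPoint X with hη
  have hgen : ∀ y : Y, f.base η ⤳ y := fun y => by
    have h := (genericPoint_spec X).image f.continuous
    rw [Set.image_univ, f.denseRange.closure_range] at h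
    exact h.specializes trivial
  have hmaxη : ∀ z, z ⤳ η → z = η := fun z hz => (hz.antisymm (genericPoint_specializes z)).eq
  have hle : FlatMor.fibreDimAt f x ≤ (FibDim.rd f η : ℕ) := by
    obtain ⟨z, hzx, hfz, hmax, he⟩ := FibDim.exists_fibMax_generization f x
    rw [he]
    obtain ⟨w, rfl⟩ : z ∈ Set.range (f.fiberι (f x)) := by rw [Scheme.Hom.range_fiberι]; exact hfz
    have hop := h w (specializes_iff_mem_closure.1 ((FibDim.fiberι_specializes_iff f _ _).1 (by
      rw [Scheme.Hom.fiberι_asFiber]; exact hzx))) ((FibDim.fibMax_fiberι_iff' f w).1 hmax)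
    obtain ⟨ζ, -, hfζ, hge⟩ := FibDim.exists_generization_rd_ge f hop (y' := f η) (hgen _)
    exact_mod_cast hge.trans (FibDim.rd_le_of_specializes f (genericPoint_specializes ζ) hfζ.symm)
  obtain ⟨U, hxU, hU⟩ := FibDim.exists_nhd_rd_le f x _ hle
  refine (FibDim.isEquidimAt_iff f x).2 ⟨FibDim.rd f η, U, hxU, fun η' _ hm => ?_, fun z hz hmax => ?_⟩
  · rw [show η' = η from (hm η (genericPoint_specializes η')).symm]
    exact ⟨fun y hy => (hy.antisymm (hgen y)).eq, hgen _⟩
  · refine le_antisymm (hU z hz) ?_
    have := FibDim.fibreDimAt_ge_rd f (genericPoint_specializes z : η ⤳ z)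
    rw [FibDim.fibreDimAt_eq_rd f hmax] at this
    exact_mod_cast this

end Groth.Agent.S4917
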