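import Groth.Statements.S4919
import Groth.Agent.FibDim.Comp

set_option autoImplicit false
open CategoryTheory AlgebraicGeometry
universe u v w
open EGA43

namespace Groth.Agent.S4919

/-- Let Y be an irreducible locally Noetherian scheme with generic point η, f : X ⟶ Y a morphism locally
of finite type, y a point of Y and Z an irreducible component of the fibre f⁻¹(y) (a maximal
irreducible subset of f⁻¹(y), with the topology induced from X) such that f is open at the generic
point ζ of Z. Then there is an irreducible component X' of X containing Z and dominating Y such that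
the local dimension of X' ∩ f⁻¹(y) at ζ equals dim Z, and dim Z = dim (X' ∩ f⁻¹(η)). (The published
statement writes the middle term as the dimension of the whole of X' ∩ f⁻¹(y); its proof yields only
the local dimension at the generic point of Z, and the global equality can fail: for the
endomorphism (a, b) ↦ (ab, b² − b) of the affine plane over a field, the fibre over the origin is
the line b = 0 together with the isolated point (0, 1), at which the map is étale, hence open; with
Z that point, X' is the whole plane, X' ∩ f⁻¹(y) has dimension 1 and dim Z = 0. So the local form is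
stated here.) -/
theorem result {X Y : Scheme.{u}} [IrreducibleSpace Y]
    [IsLocallyNoetherian Y] (f : X ⟶ Y) [LocallyOfFiniteType f] (y : Y) (Z : Set X)
    (hZy : Z ⊆ f.base ⁻¹' {y}) (hZ : IsIrreducible Z)
    (hZmax : ∀ Z' : Set X, IsIrreducible Z' → Z' ⊆ f.base ⁻¹' {y} → Z ⊆ Z' → Z' = Z)
    (hopen : ∀ ζ ∈ Z, Z ⊆ closure {ζ} → EGA43.IsOpenAt f.base ζ) :
    ∃ X' ∈ irreducibleComponents (X : Type u), Z ⊆ X' ∧ Dense (f.base '' X') ∧
      (∀ ζ ∈ Z, Z ⊆ closure {ζ} → ∀ hζ : ζ ∈ X' ∩ f.base ⁻¹' {y},
        FlatMor.localDim ↥(X' ∩ f.base ⁻¹' {y}) ⟨ζ, hζ⟩ = topologicalKrullDim ↥Z) ∧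
      topologicalKrullDim ↥Z = topologicalKrullDim ↥(X' ∩ f.base ⁻¹' {genericPoint Y}) := by
  obtain ⟨hne, hpre⟩ := hZ
  set ζ := IsIrreducible.genericPoint (⟨hne, hpre⟩ : IsIrreducible Z) with hζ
  have hgp : IsGenericPoint ζ (closure Z) := IsIrreducible.isGenericPoint_genericPoint_closure _
  obtain ⟨a, ha⟩ := hne
  have hcl : Z = closure Z ∩ f ⁻¹' {y} := by
    let e := f.fiberι y
    have he : IsIrreducible (e ⁻¹' Z) := by
      refine ⟨?_, ?_⟩
      · obtain ⟨w, hw⟩ : a ∈ Set.range e := by rw [Scheme.Hom.range_fiberι]; exact hZy ha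
        exact ⟨w, by rw [Set.mem_preimage, hw]; exact ha⟩
      · rintro u v hu hv ⟨p, hpZ, hpu⟩ ⟨q, hqZ, hqv⟩
        obtain ⟨u', hu', rfl⟩ := e.isEmbedding.isInducing.isOpen_iff.1 hu
        obtain ⟨v', hv', rfl⟩ := e.isEmbedding.isInducing.isOpen_iff.1 hv
        obtain ⟨r, hrZ, hr1, hr2⟩ := hpre u' v' hu' hv' ⟨e p, hpZ, hpu⟩ ⟨e q, hqZ, hqv⟩
        obtain ⟨w, rfl⟩ : r ∈ Set.range e := by rw [Scheme.Hom.range_fiberι]; exact hZy hrZ
        exact ⟨w, hrZ, hr1, hr2⟩
    have himg : closure Z ∩ f ⁻¹' {y} = e '' closure (e ⁻¹' Z) := by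
      rw [e.isEmbedding.isInducing.closure_eq_preimage_closure_image, Set.image_preimage_eq_inter_range,
        Set.image_preimage_eq_inter_range, Scheme.Hom.range_fiberι, Set.inter_eq_left.2 hZy]
    refine (hZmax _ ?_ Set.inter_subset_right (fun z hz => ⟨subset_closure hz, hZy hz⟩)).symm
    rw [himg]
    exact he.closure.image _ e.continuous.continuousOn
  have hζy : f ζ = y := by
    obtain ⟨w, hw⟩ : a ∈ Set.range (f.fiberι y) := by rw [Scheme.Hom.range_fiberι]; exact hZy ha
    have h1 : f ζ ⤳ y := by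
      have h5 : f ζ ⤳ f a := (hgp.specializes (subset_closure ha)).map f.continuous
      rwa [show f a = y from hZy ha] at h5
    have h2 : y ⤳ f ζ := by
      rw [specializes_iff_mem_closure]
      have h3 : ζ ∈ closure (f ⁻¹' {y}) := closure_mono hZy hgp.mem
      have h4 : ζ ∈ f ⁻¹' closure {y} := closure_minimal (Set.preimage_mono subset_closure)
        (isClosed_closure.preimage f.continuous) h3
      exact h4
    exact (h1.antisymm h2).eq
  have hζZ : ζ ∈ Z := hcl.ge ⟨hgp.mem, hζy⟩
  have hmax : FibDim.FibMax f ζ := fun z hz hfz => by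
    have hirr : IsIrreducible (closure {z} ∩ f ⁻¹' {y}) := by
      obtain ⟨w, rfl⟩ : z ∈ Set.range (f.fiberι y) := by
        rw [Scheme.Hom.range_fiberι]; exact hfz.trans hζy
      have : closure {f.fiberι y w} ∩ f ⁻¹' {y} = f.fiberι y '' closure {w} := by
        rw [(f.fiberι y).isEmbedding.isInducing.closure_eq_preimage_closure_image,
          Set.image_preimage_eq_inter_range, Set.image_singleton, Scheme.Hom.range_fiberι]
      rw [this]
      exact isIrreducible_singleton.closure.image _ (f.fiberι y).continuous.continuousOn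
    have h1 := hZmax _ hirr Set.inter_subset_right fun p hp =>
      ⟨specializes_iff_mem_closure.1 (hz.trans (hgp.specializes (subset_closure hp))), hZy hp⟩
    have h2 : z ∈ Z := h1.le ⟨subset_closure rfl, hfz.trans hζy⟩
    exact (hz.antisymm (hgp.specializes (subset_closure h2))).eq
  have hdimZ : topologicalKrullDim ↥Z = ((FibDim.rd f ζ : ℕ∞) : WithBot ℕ∞) := by
    rw [hcl, ← hgp.def, ← hζy]
    exact FibDim.dim_closure_inter f ζ
  obtain ⟨ζ', hζ', hfζ', hζ'max, he⟩ := FibDim.exists_fibMax_eq_of_isOpenAt f hmax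
    (hopen ζ hζZ fun p hp => hgp.def.ge (subset_closure hp)) (genericPoint_specializes _ : genericPoint Y ⤳ f ζ)
  obtain ⟨η, hη1, hη2⟩ := FibDim.exists_maximal_generization ζ'
  have hfη : f η = genericPoint Y :=
    ((hη1.map f.continuous).antisymm (hfζ' ▸ genericPoint_specializes _)).eq.trans hfζ'
  have hηζ : η = ζ' := hζ'max η hη1 (hfη.trans hfζ'.symm)
  subst hηζ
  have hZX : Z ⊆ closure {η} := fun p hp =>
    specializes_iff_mem_closure.1 (hζ'.trans (hgp.specializes (subset_closure hp)))
  refine ⟨closure {η}, FDescent.closure_mem_irreducibleComponents hη2, hZX, ?_, ?_, ?_⟩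
  · refine Dense.mono (Set.image_mono subset_closure) ?_
    rw [Set.image_singleton, show f.base η = genericPoint Y from hfη]
    exact fun p => specializes_iff_mem_closure.1 (genericPoint_specializes p)
  · intro ζ₂ hζ₂Z hζ₂ hmem
    have heq : ζ₂ = ζ := ((specializes_iff_mem_closure.2 (hζ₂ hζZ)).antisymm
      (hgp.specializes (subset_closure hζ₂Z))).eq
    subst heq
    obtain ⟨u, hu, hu2, hfu, hue, -⟩ := FibDim.exists_localDim_inter_eq f isClosed_closure ζ (hZX hζZ)
    rw [hmax u hu2 hfu] at hue
    rw [hdimZ, ← hue]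
    subst hζy
    rfl
  · rw [hdimZ, ← he, ← hfη]
    exact (FibDim.dim_closure_inter f η).symm

end Groth.Agent.S4919
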