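import Groth.Statements.S4920
import Groth.Agent.FibDim.Comp

set_option autoImplicit false
open CategoryTheory AlgebraicGeometry
universe u v w
open EGA43

namespace Groth.Agent.S4920

/-- Let Y be an irreducible locally Noetherian scheme with generic point η, f : X ⟶ Y a morphism locally
of finite type and y a point of Y such that f is open at every point of the fibre over y. For z in Y
write E(z) for the set of dimensions of the irreducible components of the fibre X_z. Then E(y) ⊆
E(η), and consequently dim X_y ≤ dim X_η. -/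
theorem result {X Y : Scheme.{u}} [IrreducibleSpace Y] [IsLocallyNoetherian Y]
    (f : X ⟶ Y) [LocallyOfFiniteType f] (y : Y) (h : ∀ x : X, f.base x = y → EGA43.IsOpenAt f.base x) :
    letI E : Y → Set (WithBot ℕ∞) := fun z =>
      (fun Z : Set ↥(f.fiber z) => topologicalKrullDim ↥Z) '' irreducibleComponents ↥(f.fiber z)
    E y ⊆ E (genericPoint Y) ∧
      topologicalKrullDim ↥(f.fiber y) ≤ topologicalKrullDim ↥(f.fiber (genericPoint Y)) := by
  refine ⟨?_, FibDim.topologicalKrullDim_fiber_mono f fun z hz => ?_⟩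
  · intro d hd
    dsimp only at hd ⊢
    rw [FibDim.fiber_component_dims f] at hd ⊢
    obtain ⟨z, ⟨hz, hmax⟩, rfl⟩ := hd
    obtain ⟨ζ, -, hfζ, hm, he⟩ := FibDim.exists_fibMax_eq_of_isOpenAt f hmax (h z hz)
      (genericPoint_specializes _ : genericPoint Y ⤳ f z)
    refine ⟨ζ, ⟨hfζ, hm⟩, ?_⟩
    dsimp only
    rw [he]
  · obtain ⟨ζ, -, hfζ, he⟩ := FibDim.exists_generization_rd_ge f (h z hz)
      (genericPoint_specializes _ : genericPoint Y ⤳ f z)
    exact ⟨ζ, hfζ, he⟩

end Groth.Agent.S4920
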