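import Groth.Statements.S4921
import Groth.Agent.FibDim.Comp

set_option autoImplicit false
open CategoryTheory AlgebraicGeometry
universe u v w
open EGA43

namespace Groth.Agent.S4921

/-- Let Y be a locally Noetherian scheme, f : X ⟶ Y a proper morphism and y a point of Y such that f is
open at every point of the fibre over y. Then the function z ↦ dim X_z is constant on a
neighbourhood of y. -/
theorem result {X Y : Scheme.{u}} [IsLocallyNoetherian Y] (f : X ⟶ Y)
    [IsProper f] (y : Y) (h : ∀ x : X, f.base x = y → EGA43.IsOpenAt f.base x) :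
    ∃ V ∈ nhds y, ∀ z ∈ V, topologicalKrullDim ↥(f.fiber z) = topologicalKrullDim ↥(f.fiber y) := by
  obtain ⟨V, hV, hyV, -⟩ := exists_isAffineOpen_mem_and_subset (x := y) (U := ⊤) trivial
  haveI : IsNoetherianRing Γ(Y, V) := IsLocallyNoetherian.component_noetherian ⟨V, hV⟩
  have hclosed : ∀ n : ℕ, IsClosed {z : Y | (n : WithBot ℕ∞) ≤ topologicalKrullDim ↥(f.fiber z)} := fun n => by
    have : {z : Y | (n : WithBot ℕ∞) ≤ topologicalKrullDim ↥(f.fiber z)} =
        f.base '' {x : X | (n : WithBot ℕ∞) ≤ FlatMor.fibreDimAt f x} := by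
      ext z
      rw [Set.mem_ofPred_eq, FibDim.le_topologicalKrullDim_fiber_iff f]
      constructor
      · rintro ⟨w, hw, hn⟩
        exact ⟨w, le_trans (by exact_mod_cast hn) (FibDim.rd_le_fibreDimAt f specializes_rfl rfl), hw⟩
      · rintro ⟨w, hw, rfl⟩
        obtain ⟨u, -, hfu, -, he⟩ := FibDim.exists_fibMax_generization f w
        rw [Set.mem_ofPred_eq, he] at hw
        exact ⟨u, hfu, by exact_mod_cast hw⟩
    rw [this]
    exact f.isClosedMap _ (FibDim.isClosed_le_fibreDimAt f n)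
  obtain ⟨W, hyW, hW⟩ := FibDim.exists_nhd_generizing (X := Y) isClosed_univ y
  have hlow : ∀ z ∈ W, ∀ x : X, f x = y → ∃ u, f u = z ∧ FibDim.rd f x ≤ FibDim.rd f u := fun z hz x hx => by
    obtain ⟨η, -, hηy, hηz⟩ := hW z hz trivial
    obtain ⟨ζ, -, hfζ, hle⟩ := FibDim.exists_generization_rd_ge f (h x hx) (hx ▸ hηy : η ⤳ f x)
    obtain ⟨ξ, hξ, hfξ⟩ : z ∈ f.base '' closure ({ζ} : Set X) :=
      ((f.isClosedMap _ isClosed_closure).closure_subset_iff.2
        (Set.singleton_subset_iff.2 ⟨ζ, subset_closure (Set.mem_singleton ζ), hfζ⟩)) (specializes_iff_mem_closure.1 hηz)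
    obtain ⟨u, -, -, hfu, hge⟩ := FibDim.exists_rd_ge f (specializes_iff_mem_closure.2 hξ)
    exact ⟨u, hfu.trans hfξ, hle.trans hge⟩
  have hup : ∀ z ∈ W, topologicalKrullDim ↥(f.fiber y) ≤ topologicalKrullDim ↥(f.fiber z) := fun z hz =>
    FibDim.topologicalKrullDim_fiber_mono f fun x hx => hlow z hz x hx
  by_cases hemp : ∃ x, f x = y
  · obtain ⟨x₀, hx₀⟩ := hemp
    haveI : CompactSpace ↥(f.fiber y) := inferInstance
    obtain ⟨n, hn, hx1⟩ : ∃ n : ℕ, topologicalKrullDim ↥(f.fiber y) = n ∧ True := by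
      have hb : ∀ x : X, ∃ m : ℕ, ∃ U : X.Opens, x ∈ U ∧ ∀ z ∈ U, FibDim.rd f z ≤ m := fun x => by
        obtain ⟨z, -, -, -, he⟩ := FibDim.exists_fibMax_generization f x
        exact ⟨_, FibDim.exists_nhd_rd_le f x _ he.le⟩
      choose m U hxU hU using hb
      obtain ⟨t, ht⟩ := (f.isCompact_preimage_singleton y).elim_finite_subcover (fun x => (U x : Set X))
        (fun x => (U x).isOpen) (fun x _ => Set.mem_iUnion.2 ⟨x, hxU x⟩)
      have hle : topologicalKrullDim ↥(f.fiber y) ≤ (t.sup m : ℕ) :=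
        (FibDim.topologicalKrullDim_fiber_le_iff f y _).2 fun z hz => by
          obtain ⟨x, hx, hzx⟩ := Set.mem_iUnion₂.1 (ht (hz : z ∈ f ⁻¹' {y}))
          exact (hU x z hzx).trans (Finset.le_sup hx)
      have hge : (0 : ℕ) ≤ topologicalKrullDim ↥(f.fiber y) :=
        (FibDim.le_topologicalKrullDim_fiber_iff f y 0).2 ⟨x₀, hx₀, Nat.zero_le _⟩
      revert hle hge
      generalize topologicalKrullDim ↥(f.fiber y) = d
      intro hle hge
      cases d with
      | bot => simp at hge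
      | coe d =>
        cases d with
        | top => norm_cast at hle
        | coe d => exact ⟨d, rfl, trivial⟩
    refine ⟨(W : Set Y) ∩ {z | ((n + 1 : ℕ) : WithBot ℕ∞) ≤ topologicalKrullDim ↥(f.fiber z)}ᶜ,
      (W.isOpen.inter (hclosed (n + 1)).isOpen_compl).mem_nhds ⟨hyW, ?_⟩, fun z hz => ?_⟩
    · simp only [Set.mem_compl_iff, Set.mem_ofPred_eq, hn]
      norm_cast
      omega
    · refine le_antisymm ?_ (hup z hz.1)
      rw [hn]
      refine (FibDim.topologicalKrullDim_fiber_le_iff f z n).2 fun u hu => ?_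
      by_contra hlt
      exact hz.2 ((FibDim.le_topologicalKrullDim_fiber_iff f z (n + 1)).2 ⟨u, hu, by omega⟩)
  · refine ⟨(W : Set Y) ∩ {z | ((0 : ℕ) : WithBot ℕ∞) ≤ topologicalKrullDim ↥(f.fiber z)}ᶜ,
      (W.isOpen.inter (hclosed 0).isOpen_compl).mem_nhds ⟨hyW, ?_⟩, fun z hz => ?_⟩
    · intro hmem
      obtain ⟨x, hx, -⟩ := (FibDim.le_topologicalKrullDim_fiber_iff f y 0).1 hmem
      exact hemp ⟨x, hx⟩
    · refine le_antisymm ?_ (hup z hz.1)
      refine FibDim.topologicalKrullDim_fiber_mono f fun u hu => absurd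
        ((FibDim.le_topologicalKrullDim_fiber_iff f z 0).2 ⟨u, hu, Nat.zero_le _⟩) hz.2

end Groth.Agent.S4921
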