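import Groth.Statements.S4922
import Groth.Agent.FibDim.Comp

set_option autoImplicit false
open CategoryTheory AlgebraicGeometry
universe u v w
open EGA43

namespace Groth.Agent.S4922

/-- Let Y be a locally Noetherian scheme, f : X ⟶ Y an open morphism of finite type and y a point of Y.
If dim X_y = dim X_{η} for the generic point η of every irreducible component of Y containing y,
then z ↦ dim X_z is constant on a neighbourhood of y. -/
theorem result {X Y : Scheme.{u}} [IsLocallyNoetherian Y]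
    (f : X ⟶ Y) [LocallyOfFiniteType f] [QuasiCompact f] (hf : IsOpenMap f.base) (y : Y)
    (h : ∀ η : Y, y ∈ closure {η} → closure {η} ∈ irreducibleComponents (Y : Type u) →
      topologicalKrullDim ↥(f.fiber y) = topologicalKrullDim ↥(f.fiber η)) :
    ∃ V ∈ nhds y, ∀ z ∈ V, topologicalKrullDim ↥(f.fiber z) = topologicalKrullDim ↥(f.fiber y) := by
  haveI : IsLocallyNoetherian X := LocallyOfFiniteType.isLocallyNoetherian f
  have hopen : ∀ x, EGA43.IsOpenAt f.base x := fun x U hU => hf.image_mem_nhds hU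
  have hgen : ∀ z, z ⤳ y → topologicalKrullDim ↥(f.fiber z) = topologicalKrullDim ↥(f.fiber y) := fun z hz => by
    refine le_antisymm ?_ (FibDim.topologicalKrullDim_fiber_mono f fun x hx => ?_)
    · obtain ⟨η, hη, hmax⟩ := FibDim.exists_maximal_generization z
      rw [h η (specializes_iff_mem_closure.1 (hη.trans hz)) (FDescent.closure_mem_irreducibleComponents hmax)]
      refine FibDim.topologicalKrullDim_fiber_mono f fun x hx => ?_
      obtain ⟨ζ, -, hfζ, hle⟩ := FibDim.exists_generization_rd_ge f (hopen x) (hx ▸ hη : η ⤳ f x)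
      exact ⟨ζ, hfζ, hle⟩
    · obtain ⟨ζ, -, hfζ, hle⟩ := FibDim.exists_generization_rd_ge f (hopen x) (hx ▸ hz : z ⤳ f x)
      exact ⟨ζ, hfζ, hle⟩
  have hC : ∀ n : ℕ, Topology.IsLocallyConstructible
      {z : Y | (n : WithBot ℕ∞) ≤ topologicalKrullDim ↥(f.fiber z)} := fun n => by
    haveI : LocallyOfFinitePresentation f := LocallyOfFinitePresentation.iff_locallyOfFiniteType.2 ‹_›
    have : {z : Y | (n : WithBot ℕ∞) ≤ topologicalKrullDim ↥(f.fiber z)} =
        f '' (Set.univ ∩ {x : X | (n : WithBot ℕ∞) ≤ FlatMor.fibreDimAt f x}) := by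
      ext z
      rw [Set.mem_ofPred_eq, FibDim.le_topologicalKrullDim_fiber_iff f, Set.univ_inter]
      constructor
      · rintro ⟨w, hw, hn⟩
        exact ⟨w, le_trans (by exact_mod_cast hn) (FibDim.rd_le_fibreDimAt f specializes_rfl rfl), hw⟩
      · rintro ⟨w, hw, rfl⟩
        obtain ⟨u, -, hfu, -, he⟩ := FibDim.exists_fibMax_generization f w
        rw [Set.mem_ofPred_eq, he] at hw
        exact ⟨u, hfu, by exact_mod_cast hw⟩
    rw [this]
    exact f.isLocallyConstructible_image
      (FibDim.isLocallyConstructible_inter isOpen_univ (FibDim.isClosed_le_fibreDimAt f n))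
  by_cases hemp : ∃ x, f x = y
  · obtain ⟨x₀, hx₀⟩ := hemp
    obtain ⟨n, hn⟩ : ∃ n : ℕ, topologicalKrullDim ↥(f.fiber y) = n := by
      have hb : ∀ x : X, ∃ m : ℕ, ∃ U : X.Opens, x ∈ U ∧ ∀ z ∈ U, FibDim.rd f z ≤ m := fun x => by
        obtain ⟨z, -, -, -, he⟩ := FibDim.exists_fibMax_generization f x
        exact ⟨_, FibDim.exists_nhd_rd_le f x _ he.le⟩
      choose m U hxU hU using hb
      obtain ⟨t, ht⟩ := (f.isCompact_preimage_singleton y).elim_finite_subcover (fun x => (U x : Set X))
        (fun x => (U x).isOpen) (fun x _ => Set.mem_iUnion.2 ⟨x, hxU x⟩)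
      have hle : topologicalKrullDim ↥(f.fiber y) ≤ (t.sup m : ℕ) :=
        (FibDim.topologicalKrullDim_fiber_le_iff f y _).2 fun z hz => by
          obtain ⟨x, hx, hzx⟩ := Set.mem_iUnion₂.1 (ht (hz : z ∈ f ⁻¹' {y}))
          exact (hU x z hzx).trans (Finset.le_sup hx)
      have hge : (0 : ℕ) ≤ topologicalKrullDim ↥(f.fiber y) :=
        (FibDim.le_topologicalKrullDim_fiber_iff f y 0).2 ⟨x₀, hx₀, Nat.zero_le _⟩
      revert hle hge
      generalize topologicalKrullDim ↥(f.fiber y) = d
      intro hle hge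
      cases d with
      | bot => simp at hge
      | coe d =>
        cases d with
        | top => norm_cast at hle
        | coe d => exact ⟨d, rfl⟩
    have h1 := FibDim.mem_nhds_of_generizations (hC n) fun z hz => by
      rw [Set.mem_ofPred_eq, hgen z hz, hn]
    have h2 := FibDim.mem_nhds_of_generizations (C := {z : Y | ((n + 1 : ℕ) : WithBot ℕ∞) ≤
        topologicalKrullDim ↥(f.fiber z)}ᶜ) (y := y) (fun p => by
        obtain ⟨U, hU1, hU2, hU3⟩ := hC (n + 1) p
        exact ⟨U, hU1, hU2, by rw [Set.preimage_compl]; exact hU3.compl⟩) fun z hz => by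
      simp only [Set.mem_compl_iff, Set.mem_ofPred_eq, hgen z hz, hn]
      norm_cast
      omega
    refine ⟨_, Filter.inter_mem h1 h2, fun z hz => le_antisymm ?_ (hn ▸ hz.1)⟩
    rw [hn]
    refine (FibDim.topologicalKrullDim_fiber_le_iff f z n).2 fun u hu => ?_
    by_contra hlt
    exact hz.2 ((FibDim.le_topologicalKrullDim_fiber_iff f z (n + 1)).2 ⟨u, hu, by omega⟩)
  · have h2 := FibDim.mem_nhds_of_generizations (C := {z : Y | ((0 : ℕ) : WithBot ℕ∞) ≤
        topologicalKrullDim ↥(f.fiber z)}ᶜ) (y := y) (fun p => by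
        obtain ⟨U, hU1, hU2, hU3⟩ := hC 0 p
        exact ⟨U, hU1, hU2, by rw [Set.preimage_compl]; exact hU3.compl⟩) fun z hz hmem => by
      rw [Set.mem_ofPred_eq, hgen z hz, FibDim.le_topologicalKrullDim_fiber_iff f] at hmem
      obtain ⟨x, hx, -⟩ := hmem
      exact hemp ⟨x, hx⟩
    refine ⟨_, h2, fun z hz => le_antisymm
      (FibDim.topologicalKrullDim_fiber_mono f fun u hu => absurd
        ((FibDim.le_topologicalKrullDim_fiber_iff f z 0).2 ⟨u, hu, Nat.zero_le _⟩) hz)
      (FibDim.topologicalKrullDim_fiber_mono f fun u hu => absurd ⟨u, hu⟩ hemp)⟩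

end Groth.Agent.S4922
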