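import Groth.Statements.S4923
import Groth.Agent.FibDim.GenerizeDim

set_option autoImplicit false
open CategoryTheory AlgebraicGeometry
universe u v w
open EGA43

namespace Groth.Agent.S4923

/-- Let Y be a locally Noetherian scheme, f : X ⟶ Y an open morphism of finite type and y a point of Y;
for z in Y let E(z) be the set of dimensions of the irreducible components of the fibre X_z. If E(y)
= E(η) for the generic point η of every irreducible component of Y containing y, then E is constant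
on a neighbourhood of y. -/
theorem result {X Y : Scheme.{u}}
    [IsLocallyNoetherian Y] (f : X ⟶ Y) [LocallyOfFiniteType f] [QuasiCompact f] (hf : IsOpenMap f.base) (y : Y) :
    letI E : Y → Set (WithBot ℕ∞) := fun z =>
      (fun Z : Set ↥(f.fiber z) => topologicalKrullDim ↥Z) '' irreducibleComponents ↥(f.fiber z)
    (∀ η : Y, y ∈ closure {η} → closure {η} ∈ irreducibleComponents (Y : Type u) → E y = E η) →
      ∃ V ∈ nhds y, ∀ z ∈ V, E z = E y := by
  intro h
  haveI := LocallyOfFiniteType.isLocallyNoetherian f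
  obtain ⟨W, hyW, hW⟩ := FibDim.exists_nhd_generizing (X := Y) (Z := Set.univ) isClosed_univ y
  let E : Y → Set (WithBot ℕ∞) := fun z =>
    (fun w => ((FibDim.rd f w : ℕ∞) : WithBot ℕ∞)) '' {w : X | f w = z ∧ FibDim.FibMax f w}
  have hE : ∀ z, (fun Z : Set ↥(f.fiber z) => topologicalKrullDim ↥Z) '' irreducibleComponents ↥(f.fiber z) = E z :=
    FibDim.fiber_component_dims f
  have hfin : (E y).Finite := by
    haveI : IsLocallyNoetherian (f.fiber y) :=
      LocallyOfFiniteType.isLocallyNoetherian (f.fiberToSpecResidueField y)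
    haveI : IsNoetherian (f.fiber y) := {}
    rw [← hE y]
    exact (TopologicalSpace.NoetherianSpace.finite_irreducibleComponents (α := f.fiber y)).image _
  let S : WithBot ℕ∞ → Set Y := fun d => {z : Y | ∃ w, f w = z ∧ FibDim.FibMax f w ∧ ((FibDim.rd f w : ℕ∞) : WithBot ℕ∞) = d}
  have hS : ∀ d ∈ E y, S d ∈ nhds y := fun d hd => by
    obtain ⟨g, hg, hgd⟩ := hd
    have h1 := FibDim.exists_nhds_dims f hf hg.2
    rw [hg.1] at h1
    refine Filter.mem_of_superset h1 ?_
    rintro z ⟨w, h2, h3, h4⟩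
    exact ⟨w, h2, h3, by rw [h4]; exact hgd⟩
  refine ⟨(W : Set Y) ∩ ⋂ d ∈ E y, S d, Filter.inter_mem (W.isOpen.mem_nhds hyW)
    ((Filter.biInter_mem hfin).2 hS), fun z hz => ?_⟩
  simp only [hE] at h ⊢
  refine Set.Subset.antisymm ?_ fun d hd => ?_
  · rintro _ ⟨w, ⟨rfl, hm⟩, rfl⟩
    obtain ⟨η, -, hηy, hηz⟩ := hW (f w) hz.1 trivial
    obtain ⟨η₀, hη₀, hmax⟩ := FibDim.exists_maximal_generization η
    rw [h η₀ (specializes_iff_mem_closure.1 (hη₀.trans hηy)) (FDescent.closure_mem_irreducibleComponents hmax)]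
    obtain ⟨v, -, hfv, hvm, hvr⟩ := FibDim.exists_fibMax_eq_rd f hf hm (hη₀.trans hηz)
    exact ⟨v, ⟨hfv, hvm⟩, by simp only [hvr]⟩
  · obtain ⟨w, h2, h3, h4⟩ := Set.mem_iInter₂.1 hz.2 d hd
    exact ⟨w, ⟨h2, h3⟩, h4⟩

end Groth.Agent.S4923
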