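import Groth.Statements.S4924
import Groth.Agent.FibDim.Comp

set_option autoImplicit false
open CategoryTheory AlgebraicGeometry
universe u v w
open EGA43

namespace Groth.Agent.S4924

/-- Let Y be a locally Noetherian scheme, f : X ⟶ Y an open morphism of finite type and y a point of Y.
Then there is an open neighbourhood U of the fibre f⁻¹(y) in X such that the function z ↦ dim (U ∩
f⁻¹(z)) is constant on a neighbourhood of y. -/
theorem result {X Y : Scheme.{u}} [IsLocallyNoetherian Y]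
    (f : X ⟶ Y) [LocallyOfFiniteType f] [QuasiCompact f] (hf : IsOpenMap f.base) (y : Y) :
    ∃ U : X.Opens, f.base ⁻¹' {y} ⊆ (U : Set X) ∧ ∃ V ∈ nhds y, ∀ z ∈ V,
      topologicalKrullDim ↥((U : Set X) ∩ f.base ⁻¹' {z}) = topologicalKrullDim ↥((U : Set X) ∩ f.base ⁻¹' {y}) := by
  haveI : IsLocallyNoetherian X := LocallyOfFiniteType.isLocallyNoetherian f
  haveI : LocallyOfFinitePresentation f := LocallyOfFinitePresentation.iff_locallyOfFiniteType.2 ‹_›
  by_cases hemp : ∃ x, f x = y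
  · have hb : ∀ x : X, ∃ m : ℕ, FlatMor.fibreDimAt f x = m := fun x => by
      obtain ⟨z, -, -, -, he⟩ := FibDim.exists_fibMax_generization f x
      exact ⟨_, he⟩
    choose m hm using hb
    have hU : ∀ x : X, IsOpen {z | FlatMor.fibreDimAt f z ≤ m x} := fun x => FibDim.isOpen_fibreDimAt_le f _
    obtain ⟨t, ht⟩ := (f.isCompact_preimage_singleton y).elim_finite_subcover _ hU
      (fun x _ => Set.mem_iUnion.2 ⟨x, (hm x).le⟩)
    classical
    have hex : ∃ n, ∀ z, f z = y → FibDim.rd f z ≤ n := by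
      refine ⟨t.sup m, fun z hz => ?_⟩
      obtain ⟨x, hx, hzx⟩ := Set.mem_iUnion₂.1 (ht (hz : z ∈ f ⁻¹' {y}))
      have h1 := (FibDim.rd_le_fibreDimAt f (specializes_refl z) rfl).trans hzx
      exact le_trans (by exact_mod_cast h1) (Finset.le_sup hx)
    let n := Nat.find hex
    have hn : ∀ z, f z = y → FibDim.rd f z ≤ n := Nat.find_spec hex
    obtain ⟨x₁, hx₁, hx₁n⟩ : ∃ x₁, f x₁ = y ∧ n ≤ FibDim.rd f x₁ := by
      obtain ⟨x₀, hx₀⟩ := hemp
      by_contra hc
      push Not at hc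
      have hpos : 0 < n := (Nat.zero_le _).trans_lt (hc x₀ hx₀)
      exact Nat.find_min hex (m := n - 1) (by omega) fun z hz => by have := hc z hz; omega
    let U : X.Opens := ⟨{z | FlatMor.fibreDimAt f z ≤ n}, FibDim.isOpen_fibreDimAt_le f n⟩
    have hfib : f ⁻¹' {y} ⊆ (U : Set X) := fun x hx =>
      (FibDim.fibreDimAt_le_iff f x n).2 fun z _ hfz => hn z (hfz.trans hx)
    have hUle : ∀ z ∈ U, FibDim.rd f z ≤ n := fun z hz => by
      have h1 := (FibDim.rd_le_fibreDimAt f (specializes_refl z) rfl).trans hz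
      exact_mod_cast h1
    have key : ∀ z, z ∈ f '' ((U : Set X) ∩ {w | (n : WithBot ℕ∞) ≤ FlatMor.fibreDimAt f w}) →
        topologicalKrullDim ↥((U : Set X) ∩ f.base ⁻¹' {z}) = n := by
      rintro _ ⟨w, ⟨hwU, hw⟩, rfl⟩
      refine (FibDim.dim_open_inter_eq_iSup f _ U.isOpen).trans (le_antisymm (iSup_le fun u => ?_) ?_)
      · exact_mod_cast hUle u.1 u.2.1
      · obtain ⟨u, huw, hfu, -, he⟩ := FibDim.exists_fibMax_generization f w
        rw [Set.mem_ofPred_eq, he] at hw
        exact le_iSup_of_le ⟨u, huw.mem_open U.isOpen hwU, hfu⟩ hw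
    refine ⟨U, hfib, f '' ((U : Set X) ∩ {w | (n : WithBot ℕ∞) ≤ FlatMor.fibreDimAt f w}),
      FibDim.image_mem_nhds f
        (FibDim.isLocallyConstructible_inter U.isOpen (FibDim.isClosed_le_fibreDimAt f n)) fun z hz => ?_,
      fun z hz => ?_⟩
    · obtain ⟨ζ, hζ, hfζ, hle⟩ := FibDim.exists_generization_rd_ge f
        (fun O hO => hf.image_mem_nhds hO) (hx₁ ▸ hz : z ⤳ f x₁)
      exact ⟨ζ, ⟨hζ.mem_open U.isOpen (hfib hx₁),
        le_trans (by exact_mod_cast hx₁n.trans hle) (FibDim.rd_le_fibreDimAt f specializes_rfl rfl)⟩, hfζ⟩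
    · rw [key z hz, key y ⟨x₁, ⟨hfib hx₁, le_trans (by exact_mod_cast hx₁n)
        (FibDim.rd_le_fibreDimAt f specializes_rfl rfl)⟩, hx₁⟩]
  · refine ⟨⊥, fun x hx => absurd ⟨x, hx⟩ hemp, Set.univ, Filter.univ_mem, fun z _ => ?_⟩
    refine le_antisymm ?_ ?_ <;>
    · refine Topology.IsInducing.topologicalKrullDim_le (f := fun w => absurd w.2.1 (fun h => ?_)) ⟨?_⟩
      · exact h
      · ext s
        exact ⟨fun _ => by convert! isOpen_empty using 1; exact Set.eq_empty_of_forall_notMem fun w _ => w.2.1,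
          fun _ => by convert! isOpen_empty using 1; exact Set.eq_empty_of_forall_notMem fun w _ => w.2.1⟩

end Groth.Agent.S4924
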