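import Groth.Statements.S4928
import Groth.Agent.UnivOpen.Criterion
import Groth.Agent.UnivOpen.Unibranch
import Groth.Agent.QHomeo.OpenAt
import Groth.Agent.FibDim.Open

set_option autoImplicit false
open CategoryTheory Limits AlgebraicGeometry
universe u v w
open EGA43

namespace Groth.Agent.S4928

open CategoryTheory.Limits in
/-- Let f : X ⟶ Y be locally of finite presentation, x a point of X, y = f x, and f₁ : X ×_Y Spec
O_{Y,y} ⟶ Spec O_{Y,y} the base change of f to the local scheme of Y at y. Then for every point x₁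
of X ×_Y Spec O_{Y,y} projecting to x, f is universally open at x if and only if f₁ is universally
open at x₁. -/
theorem result {X Y : Scheme.{u}} (f : X ⟶ Y) [LocallyOfFinitePresentation f]
    (x : X) (x₁ : ↥(pullback f (Y.fromSpecStalk (f.base x))))
    (hx₁ : (pullback.fst f (Y.fromSpecStalk (f.base x))).base x₁ = x) :
    EGA43.IsUnivOpenAt f x ↔ EGA43.IsUnivOpenAt (pullback.snd f (Y.fromSpecStalk (f.base x))) x₁ := by
  refine ⟨fun h => QHomeo.univOpenAt_of_isPullback h (IsPullback.of_hasPullback _ _) x₁ hx₁, fun h => ?_⟩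
  refine UnivOpen.isUnivOpenAt_of_affineSpace f x fun m x'' hx'' => ?_
  let π := (𝔸(ULift.{u} (Fin m); Y) ↘ Y)
  let s := Y.fromSpecStalk (f x)
  refine UnivOpen.isOpenAt_of_lifts_fp (pullback.snd f π) x'' fun t ht => ?_
  have hπx : π (pullback.snd f π x'') = f x := by
    rw [← Scheme.Hom.comp_apply, ← pullback.condition, Scheme.Hom.comp_apply, hx'']
  let k := pullback.fst π s
  have hemb : Topology.IsEmbedding k := k.isEmbedding
  have hrange : Set.range k = π ⁻¹' Set.range s := Scheme.Pullback.range_fst π s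
  obtain ⟨y₁, hy₁⟩ : (pullback.snd f π) x'' ∈ Set.range k := by
    rw [hrange, Set.mem_preimage, hπx, Scheme.range_fromSpecStalk]
    exact specializes_refl _
  obtain ⟨t₁, rfl⟩ : t ∈ Set.range k := by
    rw [hrange, Set.mem_preimage, Scheme.range_fromSpecStalk]
    exact (ht.map π.continuous).trans (specializes_of_eq hπx)
  -- the base change of `f` to the local scheme, pulled back to the affine space
  let f₁ := pullback.snd f s
  let g := pullback.snd π s
  let P := pullback f₁ g
  let p : P ⟶ pullback f π := pullback.lift (pullback.fst f₁ g ≫ pullback.fst f s) (pullback.snd f₁ g ≫ k) (by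
    simp only [Category.assoc, pullback.condition, k, g, f₁, s]
    rw [pullback.condition_assoc])
  have hP : IsPullback p (pullback.snd f₁ g) (pullback.snd f π) k := by
    refine IsPullback.of_right ?_ (pullback.lift_snd _ _ _) (IsPullback.of_hasPullback f π)
    rw [pullback.lift_fst, show k ≫ π = g ≫ s from pullback.condition]
    exact (IsPullback.of_hasPullback f₁ g).paste_horiz (IsPullback.of_hasPullback f s)
  obtain ⟨z, hz1, hz2⟩ := Scheme.Pullback.exists_preimage_pullback (f := pullback.snd f π) (g := k) x'' y₁ hy₁.symm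
  let z' : P := hP.isoPullback.inv z
  have hz'1 : p z' = x'' := by rw [← Scheme.Hom.comp_apply, hP.isoPullback_inv_fst, hz1]
  have hz'2 : (pullback.snd f₁ g) z' = y₁ := by rw [← Scheme.Hom.comp_apply, hP.isoPullback_inv_snd, hz2]
  have hz'x : (pullback.fst f₁ g) z' = x₁ := by
    refine (pullback.fst f s).isEmbedding.injective ?_
    rw [hx₁, ← Scheme.Hom.comp_apply, ← show p ≫ pullback.fst f π = pullback.fst f₁ g ≫ pullback.fst f s from
      pullback.lift_fst _ _ _, Scheme.Hom.comp_apply, hz'1, hx'']
  have hopen := h _ g z' hz'x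
  haveI : LocallyOfFiniteType f₁ := inferInstance
  have ht₁ : t₁ ⤳ (pullback.snd f₁ g) z' := by
    rw [hz'2]
    exact hemb.isInducing.specializes_iff.1 (hy₁.symm ▸ ht)
  obtain ⟨ζ, hζ, hfζ⟩ := FibDim.exists_generization_of_isOpenAt (pullback.snd f₁ g) hopen ht₁
  refine ⟨p ζ, hz'1 ▸ hζ.map p.continuous, ?_⟩
  rw [← Scheme.Hom.comp_apply, hP.w, Scheme.Hom.comp_apply, hfζ]

end Groth.Agent.S4928
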