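import Groth.Statements.S4931
import Groth.Agent.UnivOpen.Criterion

set_option autoImplicit false
open CategoryTheory AlgebraicGeometry
universe u v w
open EGA43

namespace Groth.Agent.S4931

open CategoryTheory.Limits in
/-- Suppose Y is a locally Noetherian scheme and the morphism f : X ⟶ Y is locally of finite type. The
morphism f is universally open exactly when the following holds: given any discrete valuation ring A
together with any morphism g : Spec A ⟶ Y, each irreducible component of the fibre product X ×_Y
Spec A dominates Spec A (i.e. its image under the second projection is dense). -/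
theorem result {X Y : Scheme.{u}} [IsLocallyNoetherian Y] (f : X ⟶ Y)
    [LocallyOfFiniteType f] :
    UniversallyOpen f ↔
      ∀ (A : Type u) [CommRing A] [IsDomain A] [IsDiscreteValuationRing A] (g : Spec (CommRingCat.of A) ⟶ Y),
        ∀ Z ∈ irreducibleComponents (↥(pullback f g) : Type u), Dense ((pullback.snd f g).base '' Z) := by
  simp only [UnivOpen.universallyOpen_iff_forall, UnivOpen.isUnivOpenAt_iff_dvr f]
  refine ⟨fun h A _ _ _ g => (UnivOpen.forall_dominates_iff (pullback.snd f g)).2 fun x' hx' => h (pullback.fst f g x') A g ?_ x' rfl hx',
    fun h x A _ _ _ g _ x' _ hx' => (UnivOpen.forall_dominates_iff (pullback.snd f g)).1 (h A g) x' hx'⟩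
  rw [← hx']
  show (pullback.snd f g ≫ g) x' = (pullback.fst f g ≫ f) x'
  rw [pullback.condition]

end Groth.Agent.S4931
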