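import Groth.Statements.S4938
import Groth.Agent.UnivOpen.Conditions

set_option autoImplicit false
open CategoryTheory AlgebraicGeometry
universe u v w
open EGA43

namespace Groth.Agent.S4938

/-- Let Y be a locally Noetherian scheme, f : X ⟶ Y a morphism locally of finite type, and y a
geometrically unibranch point of Y, lying on the unique irreducible component Y₀ of Y with generic
point η. The following are equivalent: a) f is universally open at every point of X_y; b) every
point x of X_y lies on an irreducible component Z of X dominating Y₀ with dim_x(Z ∩ X_y) = dim(Z ∩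
X_η); b'') for every open subset U of X, dim(U ∩ X_η) ≥ dim(U ∩ X_y); c) f is open at every point of
X_y. (The published statement assumes Y locally Noetherian only for c) and also lists b′), the
pointwise form of b″) (for every x in X_y and every open U ∋ x, dim(U ∩ X_η) ≥ dim_x(U ∩ X_y)); over
the spectrum of an infinite product of copies of a field, the inclusion of a non-open closed point
satisfies b) and b″) but not a), so this row takes Y locally Noetherian throughout, and b′) is not
listed.) -/
theorem result {X Y : Scheme.{u}} [IsLocallyNoetherian Y] (f : X ⟶ Y)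
    [LocallyOfFiniteType f] (y : Y) (hy : CAlg2.IsGeomUnibranch (Y.presheaf.stalk y)) :
    List.TFAE [∀ x : X, f.base x = y → EGA43.IsUnivOpenAt f x,
      ∀ x : X, f.base x = y → ∀ Y₀ ∈ irreducibleComponents (Y : Type u), y ∈ Y₀ →
        ∃ Z ∈ irreducibleComponents (X : Type u), ∃ hx : x ∈ Z, closure (f.base '' Z) = Y₀ ∧
          ∀ η : Y, closure ({η} : Set Y) = Y₀ →
            FlatMor.localDim ↥(Z ∩ f.base ⁻¹' {f.base x}) ⟨x, ⟨hx, rfl⟩⟩ = topologicalKrullDim ↥(Z ∩ f.base ⁻¹' {η}),
      ∀ U : X.Opens, ∀ Y₀ ∈ irreducibleComponents (Y : Type u), y ∈ Y₀ → ∀ η : Y, closure ({η} : Set Y) = Y₀ →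
        topologicalKrullDim ↥((U : Set X) ∩ f.base ⁻¹' {y}) ≤ topologicalKrullDim ↥((U : Set X) ∩ f.base ⁻¹' {η}),
      ∀ x : X, f.base x = y → EGA43.IsOpenAt f.base x] := by
    tfae_have 1 → 4 := fun h x hx => UnivOpen.isOpenAt_of_isUnivOpenAt (h x hx)
    tfae_have 4 → 1 := fun h x hx => UnivOpen.isUnivOpenAt_fibre f
      (fun z hz hm => UnivOpen.isUnivOpenAt_of_isOpenAt f (by rw [hz]; exact hy) hm (h z hz)) x hx
    tfae_have 4 → 2 := fun h x hx Y₀ hY₀ hyY₀ => by
      obtain ⟨a, rfl, ha⟩ := FDescent.exists_maximal_of_mem_irreducibleComponents hY₀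
      obtain ⟨z, hz, hfz, hm, htop⟩ := UnivOpen.exists_top f x
      obtain ⟨η, hη, hmax, hfη, hr⟩ := UnivOpen.exists_witness_of_isOpenAt f hm (h z (hfz.trans hx)) a
        (by rw [hfz, hx]; exact specializes_iff_mem_closure.2 hyY₀) ha
      obtain ⟨Z, hZ, hxZ, hcl, hd⟩ := UnivOpen.component_of_witness f hz hfz htop hη hmax hr hfη
      refine ⟨Z, hZ, hxZ, hcl, fun η' hη' => ?_⟩
      obtain rfl : η' = a := IsGenericPoint.eq (hη' : IsGenericPoint η' _) (rfl : IsGenericPoint a (closure {a}))
      exact hd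
    tfae_have 2 → 1 := fun h x hx => UnivOpen.isUnivOpenAt_fibre f (fun z hz hm => by
      obtain ⟨a, ha, ham⟩ := FibDim.exists_maximal_generization (f z)
      obtain ⟨Z, hZ, hzZ, hcl, hd⟩ := h z hz _ (FDescent.closure_mem_irreducibleComponents ham)
        (by rw [← hz]; exact specializes_iff_mem_closure.1 ha)
      obtain ⟨η, hη, hηm, hfη, hr⟩ := UnivOpen.witness_of_localDim f hm hZ hzZ hcl (hd a rfl)
      exact UnivOpen.isUnivOpenAt_of_witness f (by rw [hz]; exact hy) hm hη hηm (hfη ▸ ham) hr) x hx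
    tfae_have 4 → 3 := fun h U Y₀ hY₀ hyY₀ η hη => by
      subst hη
      rw [FibDim.dim_open_inter_eq_iSup f y U.isOpen, FibDim.dim_open_inter_eq_iSup f η U.isOpen]
      refine iSup_le fun v => ?_
      obtain ⟨z, hz, hfz, hm, htop⟩ := UnivOpen.exists_top f v.1
      have hzy : f z = y := hfz.trans v.2.2
      obtain ⟨ζ, hζ, hfζ, hr⟩ := FibDim.exists_generization_rd_ge f (h z hzy)
        (show η ⤳ f z by rw [hzy]; exact specializes_iff_mem_closure.2 hyY₀)
      refine le_iSup_of_le ⟨ζ, (hζ.trans hz).mem_open U.isOpen v.2.1, hfζ⟩ ?_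
      exact_mod_cast (htop v.1 specializes_rfl rfl).trans hr
    tfae_have 3 → 1 := fun h x hx => UnivOpen.isUnivOpenAt_fibre f (fun z hz hm => by
      obtain ⟨a, ha, ham⟩ := FibDim.exists_maximal_generization (f z)
      obtain ⟨ζ, hζ, hfζ, hr, hζm⟩ := FibDim.exists_generization_of_dim_ge f hm ha fun U hU => by
        refine le_trans ?_ (h U _ (FDescent.closure_mem_irreducibleComponents ham)
          (by rw [← hz]; exact specializes_iff_mem_closure.1 ha) a rfl)
        rw [FibDim.fibreDimAt_eq_rd f hm, FibDim.dim_open_inter_eq_iSup f y U.isOpen]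
        exact le_iSup_of_le ⟨z, hU, hz⟩ le_rfl
      refine UnivOpen.isUnivOpenAt_of_witness f (by rw [hz]; exact hy) hm hζ (fun t ht => ?_) (hfζ ▸ ham) hr
      exact hζm t ht ((ham _ ((ht.map f.continuous).trans (specializes_of_eq hfζ))).trans hfζ.symm)) x hx
    tfae_finish

end Groth.Agent.S4938
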