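import Groth.Statements.S4939
import Groth.Agent.UnivOpen.Conditions

set_option autoImplicit false
open CategoryTheory AlgebraicGeometry
universe u v w
open EGA43

namespace Groth.Agent.S4939

/-- Suppose Y is a locally Noetherian scheme and f : X ⟶ Y is locally of finite type; take a point x of
X whose image y = f x is geometrically unibranch on Y. Then these three conditions are equivalent:
a) f is equidimensional at x; b) O_{X,x} is an equidimensional local ring, and f is open at every
generic point of an irreducible component of the fibre X_y that contains x; c) O_{X,x} is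
equidimensional, and f is universally open at every such generic point of an irreducible component
of X_y passing through x. (Not formalized here is the additional claim that, when these hold,
restricting f to any reduced irreducible component of X through x gives a morphism equidimensional
at x and universally open at the points of the components of its fibre through x.) -/
theorem result {X Y : Scheme.{u}} [IsLocallyNoetherian Y] (f : X ⟶ Y)
    [LocallyOfFiniteType f] (x : X) (hy : CAlg2.IsGeomUnibranch (Y.presheaf.stalk (f.base x))) :
    List.TFAE [EGA43.IsEquidimAt f x,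
      EGA4.IsEquidim (X.presheaf.stalk x) ∧ (∀ z : ↥(f.fiber (f.base x)), f.asFiber x ∈ closure {z} →
        (∀ z' : ↥(f.fiber (f.base x)), z ∈ closure {z'} → z' = z) → EGA43.IsOpenAt f.base ((f.fiberι (f.base x)).base z)),
      EGA4.IsEquidim (X.presheaf.stalk x) ∧ (∀ z : ↥(f.fiber (f.base x)), f.asFiber x ∈ closure {z} →
        (∀ z' : ↥(f.fiber (f.base x)), z ∈ closure {z'} → z' = z) → EGA43.IsUnivOpenAt f ((f.fiberι (f.base x)).base z))] := by
    have key : ∀ z : ↥(f.fiber (f.base x)), f.asFiber x ∈ closure {z} →
        (∀ z' : ↥(f.fiber (f.base x)), z ∈ closure {z'} → z' = z) →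
        f.fiberι (f x) z ⤳ x ∧ f (f.fiberι (f x) z) = f x ∧ FibDim.FibMax f (f.fiberι (f x) z) := by
      intro z hz hm
      refine ⟨?_, FibDim.fiber_apply_fiberι f z, (FibDim.fibMax_fiberι_iff' f z).2 hm⟩
      have := (specializes_iff_mem_closure.2 hz).map (f.fiberι (f x)).continuous
      rwa [Scheme.Hom.fiberι_asFiber] at this
    tfae_have 1 → 3 := fun h => ⟨UnivOpen.equidim_stalk f hy h, fun z hz hm => by
      obtain ⟨h1, h2, h3⟩ := key z hz hm
      exact UnivOpen.isUnivOpenAt_of_equidim f hy h h1 h2 h3⟩
    tfae_have 3 → 2 := fun h => ⟨h.1, fun z hz hm => UnivOpen.isOpenAt_of_isUnivOpenAt (h.2 z hz hm)⟩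
    tfae_have 2 → 1 := fun h => DimFormula.equidim_of_isOpenAt f h.1 fun z hz hfz hm => by
      obtain ⟨w, rfl⟩ : z ∈ Set.range (f.fiberι (f x)) := by rw [Scheme.Hom.range_fiberι]; exact hfz
      refine h.2 w ?_ ((FibDim.fibMax_fiberι_iff' f w).1 hm)
      rw [← specializes_iff_mem_closure, ← FibDim.fiberι_specializes_iff f, Scheme.Hom.fiberι_asFiber]
      exact hz
    tfae_finish

end Groth.Agent.S4939
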