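import Groth.Statements.S4941
import Groth.Agent.QHomeo.OpenAt

set_option autoImplicit false
open CategoryTheory AlgebraicGeometry
universe u v w
open EGA43

namespace Groth.Agent.S4941

open Groth.Agent.QHomeo

open CategoryTheory.Limits in
/-- Let v : Y₁ ⟶ Y be a surjective morphism of schemes whose underlying map is closed, f : X ⟶ Y a
morphism and x a point of X. If the base change f₁ : X ×_Y Y₁ ⟶ Y₁ is open at every point of X ×_Y
Y₁ lying over x, then f is open at x. -/
theorem result {X Y Y₁ : Scheme.{u}} (v : Y₁ ⟶ Y)
    (hv : IsClosedMap v.base) [Surjective v] (f : X ⟶ Y) (x : X)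
    (h : ∀ x₁ : ↥(pullback f v), (pullback.fst f v).base x₁ = x → EGA43.IsOpenAt (pullback.snd f v).base x₁) :
    EGA43.IsOpenAt f.base x := by
  exact openAt_of_closed_surjective v hv f (IsPullback.of_hasPullback f v) x h

end Groth.Agent.S4941
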