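import Groth.Statements.S4943
import Groth.Agent.DimFormula.EquidimSub

set_option autoImplicit false
open CategoryTheory AlgebraicGeometry
universe u v w
open EGA43

namespace Groth.Agent.S4943

/-- Let Y be an irreducible locally Noetherian scheme, f : X ⟶ Y a morphism locally of finite type which
is equidimensional at the point x, y = f x and e = dim_x(X_y). Let X' be an irreducible closed
subset of X containing x, with generic point x', and n a natural number such that codim(X', X) ≤ n
(the codimension being dim O_{X,x'}) and dim_x(X' ∩ X_y) ≤ e − n. Then codim(X', X) = n, dim_x(X' ∩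
X_y) = e − n, and the restriction of f to X' with its reduced subscheme structure is equidimensional
at x. -/
theorem result {X Y : Scheme.{u}} [IrreducibleSpace Y]
    [IsLocallyNoetherian Y] (f : X ⟶ Y) [LocallyOfFiniteType f] (x : X) (hf : EGA43.IsEquidimAt f x)
    (X' : TopologicalSpace.Closeds X) (x' : X) (hx' : closure ({x'} : Set X) = (X' : Set X)) (hx : x ∈ X') (n : ℕ)
    (hcodim : ringKrullDim (X.presheaf.stalk x') ≤ n)
    (hdim : FlatMor.localDim ↥((X' : Set X) ∩ f.base ⁻¹' {f.base x}) ⟨x, ⟨hx, rfl⟩⟩ + n ≤ FlatMor.fibreDimAt f x) :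
    ringKrullDim (X.presheaf.stalk x') = n ∧
      FlatMor.localDim ↥((X' : Set X) ∩ f.base ⁻¹' {f.base x}) ⟨x, ⟨hx, rfl⟩⟩ + n = FlatMor.fibreDimAt f x ∧
      ∀ w : ↥(Scheme.IdealSheafData.vanishingIdeal X').subscheme,
        (Scheme.IdealSheafData.vanishingIdeal X').subschemeι.base w = x →
        EGA43.IsEquidimAt ((Scheme.IdealSheafData.vanishingIdeal X').subschemeι ≫ f) w := by
  haveI := LocallyOfFiniteType.isLocallyNoetherian f
  haveI : IsLocallyNoetherian (Scheme.IdealSheafData.vanishingIdeal X').subscheme := LocallyOfFiniteType.isLocallyNoetherian (Scheme.IdealSheafData.vanishingIdeal X').subschemeι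
  have hjr : Set.range (Scheme.IdealSheafData.vanishingIdeal X').subschemeι = (X' : Set X) := DimFormula.range_vanishingIdeal X'
  obtain ⟨w₀, hw₀⟩ : x ∈ Set.range (Scheme.IdealSheafData.vanishingIdeal X').subschemeι := hjr ▸ hx
  obtain ⟨a, ha⟩ : x' ∈ Set.range (Scheme.IdealSheafData.vanishingIdeal X').subschemeι := hjr ▸ hx' ▸ subset_closure rfl
  have hxx : x' ⤳ x := specializes_iff_mem_closure.2 (hx'.ge hx)
  have hl := DimFormula.localDim_inter_fibre f (Scheme.IdealSheafData.vanishingIdeal X').subschemeι hjr w₀ hw₀ ⟨hx, rfl⟩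
  rw [hl, DimFormula.fibreDimAt_eq_add] at hdim
  rw [DimFormula.ringKrullDim_stalk] at hcodim
  norm_cast at hdim hcodim
  have hE : ∀ w, (Scheme.IdealSheafData.vanishingIdeal X').subschemeι w = x →
      FibDim.rd f x' ≤ FibDim.rd f x + DimFormula.fb ((Scheme.IdealSheafData.vanishingIdeal X').subschemeι ≫ f) w := fun w hw => by
    have h := DimFormula.rd_le_of_specializes' ((Scheme.IdealSheafData.vanishingIdeal X').subschemeι ≫ f) (η := a) (x := w) (by
      rw [← (Scheme.IdealSheafData.vanishingIdeal X').subschemeι.isClosedEmbedding.isEmbedding.isInducing.specializes_iff, ha, hw]; exact hxx)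
    rwa [DimFormula.rd_closedSub, DimFormula.rd_closedSub, ha, hw] at h
  obtain ⟨h1, h2, h3, h4⟩ := DimFormula.equidim_sub_core f hf hxx hcodim (hE w₀ hw₀) hdim
  refine ⟨?_, ?_, fun w hw => DimFormula.isEquidimAt_of _ fun η hη hmax => ?_⟩
  · rw [DimFormula.ringKrullDim_stalk, h1]
  · rw [hl, DimFormula.fibreDimAt_eq_add]
    norm_cast
  · have hηa : (Scheme.IdealSheafData.vanishingIdeal X').subschemeι η = x' := by
      refine (DimFormula.maximal_closedSub (Scheme.IdealSheafData.vanishingIdeal X').subschemeι hmax ⟨a, ha⟩ ?_).symm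
      exact specializes_iff_mem_closure.2 (hx'.ge (hjr ▸ ⟨η, rfl⟩))
    refine ⟨fun y hy => ?_, ?_⟩
    · have hg : ((Scheme.IdealSheafData.vanishingIdeal X').subschemeι ≫ f) η = genericPoint Y := (congrArg f hηa).trans h4
      rw [hg] at hy ⊢
      exact (hy.antisymm ((genericPoint_spec Y).specializes (Set.mem_univ y))).eq
    · rw [DimFormula.rd_closedSub, DimFormula.rd_closedSub, hηa, hw, h2]
      obtain rfl : w = w₀ := (Scheme.IdealSheafData.vanishingIdeal X').subschemeι.isClosedEmbedding.injective (hw.trans hw₀.symm)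
      rfl

end Groth.Agent.S4943
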