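import Groth.Statements.S4946
import Groth.Agent.DimFormula.QuasiSection

set_option autoImplicit false
open CategoryTheory AlgebraicGeometry
universe u v w
open EGA43

namespace Groth.Agent.S4946

/-- Let Y be an irreducible locally Noetherian scheme which is regular of dimension 1 (all local rings
regular of dimension at most 1), f : X ⟶ Y a morphism locally of finite type and y a point of Y.
Then the following are equivalent: d) every irreducible component of X meeting the fibre X_y
dominates Y; e) for every point x closed in X_y and every irreducible component X_i of X containing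
x, there are an irreducible reduced scheme T and an immersion T ⟶ X with image containing x and
contained in X_i, such that T ⟶ Y is quasi-finite and dominant. -/
theorem result {X Y : Scheme.{u}} [IrreducibleSpace Y]
    [IsLocallyNoetherian Y] (hY : ∀ y : Y, IsRegularLocalRing (Y.presheaf.stalk y) ∧ ringKrullDim (Y.presheaf.stalk y) ≤ 1)
    (f : X ⟶ Y) [LocallyOfFiniteType f] (y : Y) :
    (∀ Z ∈ irreducibleComponents (X : Type u), (Z ∩ f.base ⁻¹' {y}).Nonempty → Dense (f.base '' Z)) ↔
      ∀ x : X, f.base x = y → (∀ x' : X, f.base x' = y → x ⤳ x' → x' = x) →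
        ∀ Xi ∈ irreducibleComponents (X : Type u), x ∈ Xi →
          ∃ (T : Scheme.{u}) (i : T ⟶ X), IsImmersion i ∧ IrreducibleSpace ↥T ∧ IsReduced T ∧ x ∈ Set.range i.base ∧
            Set.range i.base ⊆ Xi ∧
            LocallyOfFiniteType (i ≫ f) ∧ LocallyQuasiFinite (i ≫ f) ∧ QuasiCompact (i ≫ f) ∧ IsDominant (i ≫ f) := by
  haveI := LocallyOfFiniteType.isLocallyNoetherian f
  refine ⟨fun h x hfx hcl Xi hXi hxXi => ?_, fun h Z hZ hne => ?_⟩
  · obtain ⟨η, rfl, hη⟩ := FDescent.exists_maximal_of_mem_irreducibleComponents hXi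
    let S : TopologicalSpace.Closeds X := ⟨closure {η}, isClosed_closure⟩
    let j := (Scheme.IdealSheafData.vanishingIdeal S).subschemeι
    have hrange : Set.range j = closure {η} := DimFormula.range_vanishingIdeal S
    obtain ⟨η', hη'⟩ : η ∈ Set.range j := by rw [hrange]; exact subset_closure rfl
    obtain ⟨x', rfl⟩ : x ∈ Set.range j := by rw [hrange]; exact hxXi
    haveI : IsLocallyNoetherian (Scheme.IdealSheafData.vanishingIdeal S).subscheme :=
      LocallyOfFiniteType.isLocallyNoetherian j
    have hgen : f η = genericPoint Y := by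
      have hd := h (closure {η}) hXi ⟨j x', hxXi, hfx⟩
      rw [dense_iff_closure_eq, closure_image_closure f.continuous, Set.image_singleton] at hd
      exact IsGenericPoint.eq hd (genericPoint_spec Y)
    have heq : EGA43.IsEquidimAt (j ≫ f) x' := by
      refine DimFormula.isEquidimAt_of _ fun a hax hamax => ?_
      obtain rfl : a = η' := (hamax η' (j.isClosedEmbedding.isInducing.specializes_iff.1
        (specializes_iff_mem_closure.2 (by rw [hη', ← hrange]; exact ⟨a, rfl⟩)))).symm
      have hfa : (j ≫ f) a = genericPoint Y := by rw [Scheme.Hom.comp_apply, hη', hgen]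
      refine ⟨fun t ht => ?_, le_antisymm (DimFormula.rd_le_of_specializes' _ hax) ?_⟩
      · rw [hfa] at ht ⊢
        exact DimFormula.eq_of_specializes_of_specializes ht ((genericPoint_spec Y).specializes (Set.mem_univ t))
      obtain ⟨z, hz, hfz, hzm, -, hzr⟩ := DimFormula.exists_fibMax_top (j ≫ f) x'
      rw [← hzr]
      have haz : a ⤳ z := j.isClosedEmbedding.isInducing.specializes_iff.1
        (specializes_iff_mem_closure.2 (by rw [hη', ← hrange]; exact ⟨z, rfl⟩))
      by_cases haz' : a = z
      · rw [haz']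
      have h1 := (DimFormula.cd_formula (j ≫ f) haz).1
      have h2 : 1 ≤ DimFormula.cd a z := Nat.one_le_iff_ne_zero.2 fun h0 => haz' ((DimFormula.cd_eq_zero_iff haz).1 h0)
      have h3 := DimFormula.cd_le_codim (haz.map (j ≫ f).continuous)
      have h4 : DimFormula.codim ((j ≫ f) z) ≤ 1 := by
        have := (hY ((j ≫ f) z)).2
        rw [DimFormula.ringKrullDim_stalk] at this
        exact_mod_cast this
      omega
    obtain ⟨T, i, hi⟩ := DimFormula.exists_quasiSection _ (j ≫ f) x' heq rfl fun v hv hxv =>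
      j.isClosedEmbedding.injective (hcl _ (hv.trans hfx) (hxv.map j.continuous))
    obtain ⟨h1, h2, h3, h4, h5, h6, h7, h8⟩ := hi.map
    refine ⟨T, i ≫ j, h1, h2, h3, h4, ?_, h5, h6, h7, h8⟩
    rw [← hrange]
    rintro _ ⟨t, rfl⟩
    exact ⟨i t, (Scheme.Hom.comp_apply i j t).symm⟩
  · obtain ⟨z, hz, hfz⟩ := hne
    haveI : JacobsonSpace ↥(f.fiber y) :=
      LocallyOfFiniteType.jacobsonSpace (f.fiberToSpecResidueField y)
    obtain ⟨a₀, ha₀⟩ : z ∈ Set.range (f.fiberι y) := by rw [Scheme.Hom.range_fiberι]; exact hfz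
    have hcl : IsClosed (f.fiberι y ⁻¹' Z) := (isClosed_of_mem_irreducibleComponents Z hZ).preimage (f.fiberι y).continuous
    obtain ⟨a, haZ, hac⟩ := nonempty_inter_closedPoints (Z := f.fiberι y ⁻¹' Z) ⟨a₀, show f.fiberι y a₀ ∈ Z by rw [ha₀]; exact hz⟩
      hcl.isLocallyClosed
    obtain ⟨T, i, -, -, -, -, hsub, -, -, -, hd⟩ := h (f.fiberι y a) (FibDim.fiber_apply_fiberι f a)
      (fun x' hx' hax => by
        obtain ⟨b, rfl⟩ : x' ∈ Set.range (f.fiberι y) := by rw [Scheme.Hom.range_fiberι]; exact hx'
        have hb : b ∈ ({a} : Set _) := ((FibDim.fiberι_specializes_iff f a b).1 hax).mem_closed hac rfl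
        rw [Set.mem_singleton_iff.1 hb]) Z hZ haZ
    refine Dense.mono ?_ hd.denseRange
    rintro _ ⟨t, rfl⟩
    exact ⟨i t, hsub ⟨t, rfl⟩, (Scheme.Hom.comp_apply i f t).symm⟩

end Groth.Agent.S4946
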