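import Groth.Statements.S4947
import Groth.Agent.OrdValRing

set_option autoImplicit false
universe u
open EGA43

namespace Groth.Agent.S4947

/-- Let A be a regular local ring which is not a field, K its fraction field and k its residue field.
Then there is a discrete valuation ring V between A and K, with fraction field K, dominating A,
whose residue field is a purely transcendental extension of k: for some ring map from k compatible
with A → V there is an algebraically independent family generating the residue field of V as a field
over k. -/
theorem result (A : Type u) [CommRing A] [IsRegularLocalRing A]
    (hA : ¬ IsField A) :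
    ∃ (V : Subalgebra A (FractionRing A)) (_ : IsDomain V) (_ : IsDiscreteValuationRing V), IsFractionRing V (FractionRing A) ∧
      (IsLocalRing.maximalIdeal V).comap (algebraMap A V) = IsLocalRing.maximalIdeal A ∧
      ∃ (φ : IsLocalRing.ResidueField A →+* IsLocalRing.ResidueField V),
        φ.comp (IsLocalRing.residue A) = (IsLocalRing.residue V).comp (algebraMap A V) ∧
        letI := φ.toAlgebra
        ∃ (ι : Type u) (t : ι → IsLocalRing.ResidueField V), AlgebraicIndependent (IsLocalRing.ResidueField A) t ∧
          IntermediateField.adjoin (IsLocalRing.ResidueField A) (Set.range t) = ⊤ := by
  haveI := RegLoc6.isDomain_of_isRegularLocalRing A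
  exact OrdVal.exists_dvr hA


end Groth.Agent.S4947
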