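import Groth.Statements.S4948
import Groth.Agent.FlatDvr.Dvr

set_option autoImplicit false
open CategoryTheory AlgebraicGeometry
universe u v w
open EGA43

namespace Groth.Agent.S4948

/-- Consider a discrete valuation ring A and set Y = Spec A, whose closed point is y. Given a morphism f
: X ⟶ Y that is locally of finite type, and a point x lying in the fibre X_y, assume two things:
first, f is open at each generic point of an irreducible component of X_y passing through x; second,
X_y is reduced at x (that is, the local ring of the fibre at x is reduced). Under these assumptions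
f is flat at x. -/
theorem result {A : Type u} [CommRing A] [IsDomain A]
    [IsDiscreteValuationRing A] {X : Scheme.{u}} (f : X ⟶ Spec (CommRingCat.of A)) [LocallyOfFiniteType f] (x : X)
    (hx : f.base x = IsLocalRing.closedPoint A)
    (h : ∀ z : ↥(f.fiber (f.base x)), f.asFiber x ∈ closure {z} →
      (∀ z' : ↥(f.fiber (f.base x)), z ∈ closure {z'} → z' = z) → EGA43.IsOpenAt f.base ((f.fiberι (f.base x)).base z))
    (hred : _root_.IsReduced ((f.fiber (f.base x)).presheaf.stalk (f.asFiber x))) :
    (f.stalkMap x).hom.Flat := by
    have key : ∀ (y : Spec (CommRingCat.of A)) (w : ↥(f.fiber y)), y = IsLocalRing.closedPoint A →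
        (∀ z, z ⤳ f.fiberι y w → f z = f (f.fiberι y w) → FibDim.FibMax f z → EGA43.IsOpenAt f.base z) →
        _root_.IsReduced ((f.fiber y).presheaf.stalk w) → (f.stalkMap (f.fiberι y w)).hom.Flat :=
      fun y w hy hopen hred => FlatDvr.flat_stalkMap f hy w hopen hred
    have h2 := key (f x) (f.asFiber x) hx (fun z hz hfz hm => ?_) hred
    · rwa [Scheme.Hom.fiberι_asFiber] at h2
    · rw [Scheme.Hom.fiberι_asFiber] at hz hfz
      obtain ⟨w, rfl⟩ : z ∈ Set.range (f.fiberι (f x)) := by rw [Scheme.Hom.range_fiberι]; exact hfz
      refine h w ?_ ((FibDim.fibMax_fiberι_iff' f w).1 hm)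
      rw [← specializes_iff_mem_closure, ← FibDim.fiberι_specializes_iff f, Scheme.Hom.fiberι_asFiber]
      exact hz

end Groth.Agent.S4948
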