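import Groth.Statements.S4950
import Groth.Agent.Lsc5.Split
import Groth.Agent.S4450
import Groth.Agent.S7898
import Mathlib
-- import your own Groth.Agent.* helpers here

set_option autoImplicit false
open CategoryTheory AlgebraicGeometry
universe u v w
open EGA43

namespace Groth.Agent.S4950

open Groth.Agent CategoryTheory.Limits

set_option backward.isDefEq.respectTransparency false
set_option backward.isDefEq.respectTransparency.types false

set_option maxHeartbeats 1000000

theorem surjective_of_isClosedImmersion {R S : CommRingCat.{u}} (φ : R ⟶ S) (h : IsClosedImmersion (Spec.map φ)) :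
    Function.Surjective φ.hom := by
  obtain ⟨I, e, he⟩ := IsClosedImmersion.Spec_iff.1 h
  have h2 : φ = CommRingCat.ofHom (Ideal.Quotient.mk I) ≫ Spec.preimage e.hom := by
    apply Spec.map_injective
    rw [Spec.map_comp, Spec.map_preimage]
    exact he
  rw [h2, CommRingCat.hom_comp, RingHom.coe_comp]
  have hb : Function.Bijective (Spec.preimage e.hom).hom := isIso_SpecMap_iff.1 (by rw [Spec.map_preimage]; infer_instance)
  exact hb.2.comp Ideal.Quotient.mk_surjective

theorem exists_lift_subtype {L E : Type u} [Field L] [Field E] (A : ValuationSubring L) (ψ : A →+* E)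
    (h : Function.Injective ψ) : ∃ χ : L →+* E, χ.comp A.subtype = ψ :=
  ⟨IsFractionRing.lift h, RingHom.ext fun a => IsFractionRing.lift_algebraMap h a⟩

/-- Field valued points factor through residue fields. -/
theorem exists_factor {Y : Scheme.{u}} {E : Type u} [Field E] (l : Spec (CommRingCat.of E) ⟶ Y) (y : Y)
    (h : ∀ p, l p = y) : ∃ ψ : Y.residueField y ⟶ CommRingCat.of E, l = Spec.map ψ ≫ Y.fromSpecResidueField y := by
  refine ⟨(Y.residueFieldCongr (h (IsLocalRing.closedPoint E)).symm).hom ≫ Y.descResidueField (Scheme.stalkClosedPointTo l), ?_⟩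
  rw [Spec.map_comp, Category.assoc, Scheme.residueFieldCongr_fromSpecResidueField,
    Scheme.descResidueField_stalkClosedPointTo_fromSpecResidueField]

theorem locallyQuasiFinite_of_etale' {T V : Scheme.{u}} (g : T ⟶ V) [Etale g] : LocallyQuasiFinite g := by
  rw [HasRingHomProperty.iff_appLE (P := @LocallyQuasiFinite)]
  intro U W e
  have h1 := HasRingHomProperty.appLE @FormallyUnramified g inferInstance U W e
  have h2 := HasRingHomProperty.appLE @LocallyOfFiniteType g inferInstance U W e
  algebraize [(g.appLE U.1 W.1 e).hom]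
  have : Algebra.QuasiFinite Γ(V, U) Γ(T, W) := inferInstance
  exact this

/-- Lifting into an algebraically closed field. -/
theorem exists_lift_field {U Y : Scheme.{u}} (g : U ⟶ Y) [Etale g] (v : U) {E : Type u} [Field E] [IsAlgClosed E]
    (ψ : Y.residueField (g v) ⟶ CommRingCat.of E) :
    ∃ χ : U.residueField v ⟶ CommRingCat.of E, g.residueFieldMap v ≫ χ = ψ := by
  letI := (g.residueFieldMap v).hom.toAlgebra
  letI : Algebra (Y.residueField (g v)) E := ψ.hom.toAlgebra
  haveI : LocallyQuasiFinite g := locallyQuasiFinite_of_etale' g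
  haveI : Module.Finite (Y.residueField (g v)) (U.residueField v) := MorLib.GF.finite_residueFieldMap g v
  let σ : U.residueField v →ₐ[Y.residueField (g v)] E := IsAlgClosed.lift
  exact ⟨CommRingCat.ofHom σ.toRingHom, CommRingCat.hom_ext (RingHom.ext σ.commutes)⟩

open CategoryTheory.Limits in
/-- Let Y be a locally Noetherian scheme, f : X ⟶ Y a separated quasi-finite morphism, y a point of Y
and y' a generization of y distinct from y; write n(z) for the geometric number of points of the
fibre X_z. Then there are a discrete valuation ring A and a morphism g : Spec A ⟶ Y mapping the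
closed point to y and the generic point to y', such that n(y) is the number of points of the fibre
of X ×_Y Spec A ⟶ Spec A over the closed point and n(y') is the number of points of its fibre over
the generic point. -/
theorem result {X Y : Scheme.{u}} [IsLocallyNoetherian Y] (f : X ⟶ Y)
    [IsSeparated f] [LocallyQuasiFinite f] [LocallyOfFiniteType f] [QuasiCompact f] (y y' : Y) (hne : y' ≠ y)
    (hgen : y' ⤳ y) :
    ∃ (A : Type u) (_ : CommRing A) (_ : IsDomain A) (_ : IsDiscreteValuationRing A) (g : Spec (CommRingCat.of A) ⟶ Y),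
      g.base (IsLocalRing.closedPoint A) = y ∧ g.base (genericPoint (Spec (CommRingCat.of A))) = y' ∧
      MoreMor.nGeomConnComp f y = ENat.card ↥((pullback.snd f g).fiber (IsLocalRing.closedPoint A)) ∧
      MoreMor.nGeomConnComp f y' = ENat.card ↥((pullback.snd f g).fiber (genericPoint (Spec (CommRingCat.of A)))) := by
  obtain ⟨U', g', u', hg', hgu', hs'⟩ := Lsc5.exists_split f y'
  obtain ⟨U₀, g₀, u₀, hg₀, hgu₀, hs₀⟩ := Lsc5.exists_split f y
  obtain ⟨A, h, hA, hc, hη⟩ := S4450.result g' u' y (hgu'.symm ▸ hgen) (hgu'.symm ▸ hne.symm)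
  haveI := hA
  let k₀ := IsLocalRing.ResidueField ↥A
  obtain ⟨OL, i1, i2, i3, φ, hφinj, hφloc, -, ⟨e, -⟩, -⟩ := S7898.result ↥A (AlgebraicClosure k₀)
  let g : Spec (CommRingCat.of OL) ⟶ Y := Spec.map (CommRingCat.ofHom φ) ≫ h
  let c : Spec (CommRingCat.of OL) := IsLocalRing.closedPoint OL
  let η : Spec (CommRingCat.of OL) := genericPoint (Spec (CommRingCat.of OL))
  have hgc : g c = y := by
    show h (Spec.map (CommRingCat.ofHom φ) (IsLocalRing.closedPoint OL)) = y
    rw [← hc]
    exact congrArg h (IsLocalRing.comap_closedPoint φ)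
  -- the residue field at the closed point
  haveI : IsAlgClosed ((Spec (CommRingCat.of OL)).residueField c) := by
    haveI : IsClosedImmersion ((Spec (CommRingCat.of OL)).fromSpecResidueField c) :=
      isClosed_singleton_iff_isClosedImmersion.mp (IsLocalRing.isClosed_singleton_closedPoint OL)
    let ρ := Spec.preimage ((Spec (CommRingCat.of OL)).fromSpecResidueField c)
    have hρ : Function.Surjective ρ.hom := surjective_of_isClosedImmersion ρ (by rw [Spec.map_preimage]; infer_instance)
    haveI : IsLocalHom ρ.hom := IsLocalHom.of_surjective ρ.hom hρ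
    have hb : Function.Bijective (IsLocalRing.ResidueField.lift ρ.hom) :=
      ⟨RingHom.injective _, fun z => by obtain ⟨a, rfl⟩ := hρ z; exact ⟨IsLocalRing.residue OL a, rfl⟩⟩
    exact IsAlgClosed.of_ringEquiv _ _ (e.symm.trans (RingEquiv.ofBijective _ hb))
  -- the closed fibre
  obtain ⟨b₀, hb₀⟩ : ∃ b : Spec ((Spec (CommRingCat.of OL)).residueField c) ⟶ Spec (U₀.residueField u₀),
      b ≫ U₀.fromSpecResidueField u₀ ≫ g₀ = (Spec (CommRingCat.of OL)).fromSpecResidueField c ≫ g := by
    obtain ⟨ψ, hψ⟩ := exists_factor (Y := Y) (E := ((Spec (CommRingCat.of OL)).residueField c : Type u)) ((Spec (CommRingCat.of OL)).fromSpecResidueField c ≫ g) (g₀ u₀)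
      (fun p => by erw [Scheme.Hom.comp_apply, Scheme.fromSpecResidueField_apply, hgc, hgu₀])
    obtain ⟨χ, hχ⟩ := exists_lift_field g₀ u₀ (E := ((Spec (CommRingCat.of OL)).residueField c : Type u)) ψ
    refine ⟨Spec.map χ, ?_⟩
    rw [← Scheme.Hom.SpecMap_residueFieldMap_fromSpecResidueField g₀ u₀, ← Category.assoc, ← Spec.map_comp, hχ, ← hψ]
  -- the generic fibre
  let ρ := Spec.preimage ((Spec (CommRingCat.of OL)).fromSpecResidueField η)
  have hρ : Function.Injective ρ.hom := by
    have h1 : Spec.map ρ (default : ↥(Spec ((Spec (CommRingCat.of OL)).residueField η))) = η := by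
      rw [Spec.map_preimage, Scheme.fromSpecResidueField_apply]
    have h2 : η.asIdeal = ⊥ := by
      show (genericPoint (Spec (CommRingCat.of OL))).asIdeal = ⊥
      rw [genericPoint_eq_bot_of_affine]
      rfl
    rw [injective_iff_map_eq_zero]
    intro a ha
    have : a ∈ η.asIdeal := by
      rw [← h1]
      show ρ.hom a ∈ (default : ↥(Spec ((Spec (CommRingCat.of OL)).residueField η))).asIdeal
      rw [ha]; exact Ideal.zero_mem _
    rwa [h2, Ideal.mem_bot] at this
  have hinjA : Function.Injective (ρ.hom.comp φ) := hρ.comp hφinj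
  obtain ⟨χ₀, hχ₀⟩ := exists_lift_subtype A (ρ.hom.comp φ) hinjA
  let χ : U'.residueField u' ⟶ (Spec (CommRingCat.of OL)).residueField η := CommRingCat.ofHom χ₀
  have hb' : Spec.map χ ≫ U'.fromSpecResidueField u' ≫ g' = (Spec (CommRingCat.of OL)).fromSpecResidueField η ≫ g := by
    rw [← hη, ← Category.assoc, ← Spec.map_comp,
      show CommRingCat.ofHom A.subtype ≫ χ = CommRingCat.ofHom φ ≫ ρ from CommRingCat.hom_ext hχ₀,
      Spec.map_comp, Category.assoc, Spec.map_preimage]
  refine ⟨OL, i1, i2, i3, g, hgc, ?_, ?_, ?_⟩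
  · show g η = y'
    have h1 := congrArg (fun m : Spec ((Spec (CommRingCat.of OL)).residueField η) ⟶ Y => m default) hb'
    simp only [Scheme.Hom.comp_apply, Scheme.fromSpecResidueField_apply, hgu'] at h1
    exact h1.symm
  · rw [← hs₀ _ b₀, hb₀]
    exact (ENat.card_congr (pullbackLeftPullbackSndIso f g _).schemeIsoToHomeo.toEquiv).symm
  · rw [← hs' _ (Spec.map χ), hb']
    exact (ENat.card_congr (pullbackLeftPullbackSndIso f g _).schemeIsoToHomeo.toEquiv).symm

end Groth.Agent.S4950
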