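import Groth.Statements.S4951
import Mathlib

set_option autoImplicit false
universe u
open EGA43

namespace Groth.Agent.S4951

/-- Let X be a locally Noetherian topological space in which every irreducible closed subset has a
unique generic point (X quasi-sober and T₀), and Z a closed nowhere dense subset of X such that for
every point x of Z the set of generizations of x distinct from x is connected (possibly empty). If X
is connected, then X − Z is connected. (Uniqueness of generic points, automatic for the underlying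
space of a scheme, is needed: in the four-point space {u, v, z₁, z₂} whose open sets are ∅, {u},
{v}, {u, v} and the whole space, the closed nowhere dense set Z = {z₁, z₂} satisfies the hypothesis,
since z₂ is a generization of z₁ and conversely, yet X − Z = {u, v} is not connected.) -/
theorem result {X : Type u} [TopologicalSpace X]
    [QuasiSober X] [T0Space X] (hloc : ∀ x : X, ∃ U ∈ nhds x, TopologicalSpace.NoetherianSpace ↥U) [ConnectedSpace X]
    (Z : Set X) (hZ : IsClosed Z) (hZn : IsNowhereDense Z)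
    (hgen : ∀ x ∈ Z, IsPreconnected ({x' : X | x' ⤳ x} \ {x})) :
    IsConnected Zᶜ := by
  classical
  have hd : Dense Zᶜ := by
    rw [← interior_eq_empty_iff_dense_compl, ← hZ.closure_eq]
    exact hZn
  refine ⟨hd.nonempty, fun u v hu hv hsub hnu hnv => ?_⟩
  by_contra hempty
  rw [Set.not_nonempty_iff_eq_empty] at hempty
  have hU1o : IsOpen (Zᶜ ∩ u) := hZ.isOpen_compl.inter hu
  have hU2o : IsOpen (Zᶜ ∩ v) := hZ.isOpen_compl.inter hv
  have hcov : Zᶜ ∩ u ∪ Zᶜ ∩ v = Zᶜ := by
    rw [← Set.inter_union_distrib_left, Set.inter_eq_left]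
    exact hsub
  have hdisj : Disjoint (Zᶜ ∩ u) (Zᶜ ∩ v) := by
    rw [Set.disjoint_iff_inter_eq_empty, ← hempty]
    ext a; simp only [Set.mem_inter_iff]; tauto
  -- both closures meet
  have huniv : closure (Zᶜ ∩ u) ∪ closure (Zᶜ ∩ v) = Set.univ := by rw [← closure_union, hcov, hd.closure_eq]
  have hne : (closure (Zᶜ ∩ u) ∩ closure (Zᶜ ∩ v)).Nonempty := by
    have := isPreconnected_closed_iff.1 PreconnectedSpace.isPreconnected_univ _ _ isClosed_closure isClosed_closure
      huniv.ge (by simpa using hnu.mono subset_closure) (by simpa using hnv.mono subset_closure)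
    simpa using this
  set F := closure (Zᶜ ∩ u) ∩ closure (Zᶜ ∩ v) with hF
  have hFZ : F ⊆ Z := by
    intro a ha
    by_contra haZ
    rcases hcov.ge haZ with h | h
    · obtain ⟨b, hb, hb'⟩ := mem_closure_iff.1 ha.2 _ hU1o h
      exact Set.disjoint_left.1 hdisj hb hb'
    · obtain ⟨b, hb, hb'⟩ := mem_closure_iff.1 ha.1 _ hU2o h
      exact Set.disjoint_left.1 hdisj hb' hb
  -- a maximal point of `F`
  obtain ⟨x, hxF, hmax⟩ : ∃ x ∈ F, ∀ y ∈ F, y ⤳ x → y = x := by
    obtain ⟨a, ha⟩ := hne
    have hFc : IsClosed F := isClosed_closure.inter isClosed_closure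
    haveI : Nonempty F := ⟨⟨a, ha⟩⟩
    obtain ⟨C, hC, haC⟩ : ∃ C ∈ irreducibleComponents F, (⟨a, ha⟩ : F) ∈ C :=
      ⟨irreducibleComponent _, irreducibleComponent_mem_irreducibleComponents _, mem_irreducibleComponent⟩
    have hCi : IsIrreducible (Subtype.val '' C) := hC.1.image _ continuous_subtype_val.continuousOn
    have hCc : IsClosed (Subtype.val '' C) :=
      hFc.isClosedEmbedding_subtypeVal.isClosed_iff_image_isClosed.1 (isClosed_of_mem_irreducibleComponents C hC)
    obtain ⟨x, hx⟩ := QuasiSober.sober hCi hCc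
    obtain ⟨⟨x', hx'F⟩, hx'C, hxx⟩ := hx.mem
    simp only at hxx
    subst hxx
    refine ⟨x', hx'F, fun y hyF hyx => ?_⟩
    have hCy : C ⊆ closure {(⟨y, hyF⟩ : F)} := by
      intro c hc
      rw [hFc.isClosedEmbedding_subtypeVal.isInducing.closure_eq_preimage_closure_image, Set.mem_preimage,
        Set.image_singleton, ← specializes_iff_mem_closure]
      exact hyx.trans (hx.specializes ⟨c, hc, rfl⟩)
    have hyC : (⟨y, hyF⟩ : F) ∈ C := hC.2 isIrreducible_singleton.closure hCy (subset_closure rfl)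
    exact (hyx.antisymm (hx.specializes ⟨_, hyC, rfl⟩)).eq
  -- generizations of `x` in each part
  have hgenU : ∀ O : Set X, IsOpen O → x ∈ closure O → ∃ η ∈ O, η ⤳ x := by
    intro O hO hxO
    obtain ⟨N, hN, hNn⟩ := hloc x
    obtain ⟨N', hN'N, hN'o, hxN'⟩ := mem_nhds_iff.1 hN
    have hT : O ∩ N' ⊆ N := fun b hb => hN'N hb.2
    haveI : TopologicalSpace.NoetherianSpace ↥(O ∩ N') :=
      (Topology.IsEmbedding.inclusion hT).isInducing.noetherianSpace
    have hfin : (irreducibleComponents ↥(O ∩ N')).Finite :=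
      TopologicalSpace.NoetherianSpace.finite_irreducibleComponents
    have hxT : x ∈ closure (O ∩ N') := by
      rw [mem_closure_iff] at hxO ⊢
      intro o ho hxo
      obtain ⟨b, ⟨hb1, hb2⟩, hb3⟩ := hxO _ (ho.inter hN'o) ⟨hxo, hxN'⟩
      exact ⟨b, hb1, hb3, hb2⟩
    have hsub' : closure (O ∩ N') ⊆ ⋃ C ∈ irreducibleComponents ↥(O ∩ N'), closure (Subtype.val '' C) := by
      refine closure_minimal (fun b hb => ?_) (hfin.isClosed_biUnion fun _ _ => isClosed_closure)
      exact Set.mem_biUnion (irreducibleComponent_mem_irreducibleComponents (⟨b, hb⟩ : ↥(O ∩ N')))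
        (subset_closure ⟨_, mem_irreducibleComponent, rfl⟩)
    obtain ⟨C, hC, hxC⟩ := Set.mem_iUnion₂.1 (hsub' hxT)
    obtain ⟨η, hη⟩ := QuasiSober.sober (hC.1.image _ continuous_subtype_val.continuousOn).closure isClosed_closure
    obtain ⟨c, hc⟩ := hC.1.1
    exact ⟨η, (hη.specializes (subset_closure ⟨c, hc, rfl⟩)).mem_open hO c.2.1, hη.specializes hxC⟩
  obtain ⟨η₁, hη₁, hη₁x⟩ := hgenU _ hU1o hxF.1
  obtain ⟨η₂, hη₂, hη₂x⟩ := hgenU _ hU2o hxF.2
  have hxZ : x ∈ Z := hFZ hxF
  obtain ⟨y, ⟨hyx, hy'⟩, hy⟩ := isPreconnected_closed_iff.1 (hgen x hxZ) _ _ isClosed_closure isClosed_closure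
    (fun b _ => huniv.ge trivial)
    ⟨η₁, ⟨hη₁x, fun e => hη₁.1 (by rw [Set.mem_singleton_iff.1 e]; exact hxZ)⟩, subset_closure hη₁⟩
    ⟨η₂, ⟨hη₂x, fun e => hη₂.1 (by rw [Set.mem_singleton_iff.1 e]; exact hxZ)⟩, subset_closure hη₂⟩
  exact hy' (hmax y hy hyx)

end Groth.Agent.S4951
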