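import Groth.Statements.S4952
import Groth.Agent.FibDim.GenerizeDim

set_option autoImplicit false
open CategoryTheory AlgebraicGeometry
universe u v w
open EGA43

namespace Groth.Agent.S4952

/-- Let Y be a locally Noetherian scheme, f : X ⟶ Y a morphism locally of finite type and g : Y ⟶ X a
section of f; for z in Y let X_z^0 be the connected component of the fibre f⁻¹(z) containing g z (a
subset of X with the induced topology). Let y be a point of Y and y' a generization of y. (i) If
there is an irreducible component Z of f⁻¹(y') containing g y' with dim Z = dim X_{y'}^0, then dim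
X_y^0 ≥ dim X_{y'}^0. (ii) If moreover X_y^0 is irreducible and dim X_y^0 = dim X_{y'}^0, then X_y^0
is contained in the closure of X_{y'}^0 in X. -/
theorem result {X Y : Scheme.{u}} [IsLocallyNoetherian Y] (f : X ⟶ Y)
    [LocallyOfFiniteType f] (g : Y ⟶ X) (hg : g ≫ f = 𝟙 Y) (y y' : Y) (hy : y' ⤳ y)
    (hZ : ∃ Z : Set X, Z ⊆ f.base ⁻¹' {y'} ∧ IsIrreducible Z ∧
      (∀ Z' : Set X, IsIrreducible Z' → Z' ⊆ f.base ⁻¹' {y'} → Z ⊆ Z' → Z' = Z) ∧ g.base y' ∈ Z ∧
      topologicalKrullDim ↥Z = topologicalKrullDim ↥(connectedComponentIn (f.base ⁻¹' {y'}) (g.base y'))) :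
    topologicalKrullDim ↥(connectedComponentIn (f.base ⁻¹' {y'}) (g.base y')) ≤ topologicalKrullDim ↥(connectedComponentIn (f.base ⁻¹' {y}) (g.base y)) ∧
      (IsIrreducible (connectedComponentIn (f.base ⁻¹' {y}) (g.base y)) → topologicalKrullDim ↥(connectedComponentIn (f.base ⁻¹' {y}) (g.base y)) = topologicalKrullDim ↥(connectedComponentIn (f.base ⁻¹' {y'}) (g.base y')) →
        connectedComponentIn (f.base ⁻¹' {y}) (g.base y) ⊆ closure (connectedComponentIn (f.base ⁻¹' {y'}) (g.base y'))) := by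
  have hfg : ∀ z, f (g z) = z := fun z => by
    show (g ≫ f) z = z
    rw [hg]; rfl
  have gen : ∀ (w : Y) (S : Set X), IsIrreducible S → S ⊆ f ⁻¹' {w} →
      ∃ ζ, f ζ = w ∧ S ⊆ closure {ζ} ∧ ζ ∈ closure S := fun w S hS hsub => by
    obtain ⟨s, hs⟩ := hS.nonempty
    have hgp := hS.closure.isGenericPoint_genericPoint isClosed_closure
    have h1 : hS.closure.genericPoint ⤳ s := hgp.specializes (subset_closure hs)
    refine ⟨_, ?_, fun z hz => specializes_iff_mem_closure.1 (hgp.specializes (subset_closure hz)), hgp.mem⟩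
    refine (Specializes.antisymm ((h1.map f.continuous).trans (specializes_of_eq (hsub hs))) ?_).eq
    refine specializes_iff_mem_closure.2 ?_
    exact closure_mono (Set.image_subset_iff.2 hsub) (mem_closure_image f.continuous.continuousAt hgp.mem)
  have irr : ∀ ζ : X, IsIrreducible (closure {ζ} ∩ f ⁻¹' {f ζ}) := fun ζ =>
    isIrreducible_iff_closure.1 <| by
      have : closure (closure {ζ} ∩ f ⁻¹' {f ζ}) = closure {ζ} := subset_antisymm
        (closure_minimal Set.inter_subset_left isClosed_closure)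
        (closure_mono (Set.singleton_subset_iff.2 ⟨subset_closure rfl, rfl⟩))
      rw [this]; exact isIrreducible_singleton.closure
  obtain ⟨Z, hZsub, hZi, hZmax, hgZ, hZd⟩ := hZ
  obtain ⟨ζ, hfζ, hZζ, -⟩ := gen y' Z hZi hZsub
  have hZeq : closure {ζ} ∩ f ⁻¹' {f ζ} = Z :=
    hZmax _ (irr ζ) (fun z hz => hfζ ▸ hz.2) fun z hz => ⟨hZζ hz, (hZsub hz).trans hfζ.symm⟩
  have hζC : ζ ∈ connectedComponentIn (f ⁻¹' {y'}) (g y') :=
    hZi.isConnected.isPreconnected.subset_connectedComponentIn hgZ hZsub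
      (hZeq ▸ ⟨subset_closure rfl, rfl⟩ : ζ ∈ Z)
  have hζy : ζ ⤳ g y := (specializes_iff_mem_closure.2 (hZζ hgZ)).trans (hy.map g.continuous)
  obtain ⟨z, hζz, hzy, hfz, hr⟩ := FibDim.exists_rd_ge f hζy
  have hsub : closure {z} ∩ f ⁻¹' {f z} ⊆ connectedComponentIn (f ⁻¹' {y}) (g y) :=
    (irr z).isConnected.isPreconnected.subset_connectedComponentIn
      ⟨specializes_iff_mem_closure.1 hzy, hfz.symm⟩ (fun w hw => by rw [← hfg y, ← hfz]; exact hw.2)
  have hd' : topologicalKrullDim ↥(connectedComponentIn (f ⁻¹' {y'}) (g y')) = ((FibDim.rd f ζ : ℕ∞) : WithBot ℕ∞) := by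
    rw [← FibDim.dim_closure_inter f ζ, hZeq]; exact hZd.symm
  refine ⟨?_, fun hCi hCd => ?_⟩
  · show topologicalKrullDim ↥(connectedComponentIn (f ⁻¹' {y'}) (g y')) ≤ _
    rw [hd']
    refine le_trans ?_ (Topology.IsEmbedding.inclusion hsub).isInducing.topologicalKrullDim_le
    rw [FibDim.dim_closure_inter f z]
    exact_mod_cast hr
  · obtain ⟨c, hfc, hCc, -⟩ := gen y _ hCi (connectedComponentIn_subset _ _)
    have hzC : z ∈ connectedComponentIn (f ⁻¹' {y}) (g y) := hsub ⟨subset_closure rfl, rfl⟩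
    have hgy : g y ∈ f ⁻¹' {y} := hfg y
    have hCeq : closure {c} ∩ f ⁻¹' {f c} = connectedComponentIn (f ⁻¹' {y}) (g y) :=
      subset_antisymm ((irr c).isConnected.isPreconnected.subset_connectedComponentIn
        ⟨hCc (mem_connectedComponentIn hgy), (hfg y).trans hfc.symm⟩ (fun w hw => hfc ▸ hw.2))
        (fun w hw => ⟨hCc hw, (connectedComponentIn_subset _ _ hw).trans hfc.symm⟩)
    have hcd : FibDim.rd f c = FibDim.rd f ζ := by
      have h1 : ((FibDim.rd f c : ℕ∞) : WithBot ℕ∞) = ((FibDim.rd f ζ : ℕ∞) : WithBot ℕ∞) := by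
        rw [← FibDim.dim_closure_inter f c, hCeq, ← hd']; exact hCd
      exact_mod_cast h1
    obtain rfl : c = z := by
      by_contra hne
      have := FibDim.rd_lt f (specializes_iff_mem_closure.2 (hCc hzC)) hne
        (hfc.trans ((hfg y).symm.trans hfz.symm))
      omega
    refine hCc.trans (closure_minimal (Set.singleton_subset_iff.2 ?_) isClosed_closure)
    exact closure_mono (Set.singleton_subset_iff.2 hζC) (specializes_iff_mem_closure.1 hζz)

end Groth.Agent.S4952
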