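import Groth.Statements.S4976
import Groth.Agent.ProperAt5.Section
-- import your own Groth.Agent.* helpers here

set_option autoImplicit false
open CategoryTheory AlgebraicGeometry
universe u v w
open EGA43

namespace Groth.Agent.S4976

set_option backward.isDefEq.respectTransparency false
set_option backward.isDefEq.respectTransparency.types false

/-- Let f : X ⟶ Y be a separated morphism of finite presentation with a section g : Y ⟶ X; let X_y^0 be
the connected component of f⁻¹(y) containing g y and X^0 ⊆ X the union of the X_y^0. If y is a point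
of Y such that X_y^0, as an open subscheme of the fibre X_y, is proper over κ(y), then X^0 is proper
over Y at y: there is an open neighbourhood U of y such that X^0 ∩ f⁻¹(U) is closed in f⁻¹(U) and
the reduced closed subscheme of f⁻¹(U) it carries is proper over U. -/
theorem result {X Y : Scheme.{u}} (f : X ⟶ Y) [IsSeparated f]
    [LocallyOfFinitePresentation f] [QuasiCompact f] [QuasiSeparated f] (g : Y ⟶ X) (hg : g ≫ f = 𝟙 Y) (y : Y)
    (hop : IsOpen ((f.fiberι y).base ⁻¹' connectedComponentIn (f.base ⁻¹' {y}) (g.base y)))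
    (hprop : IsProper (Scheme.Opens.ι (⟨(f.fiberι y).base ⁻¹' connectedComponentIn (f.base ⁻¹' {y}) (g.base y), hop⟩ : (f.fiber y).Opens) ≫
      f.fiberToSpecResidueField y)) :
    ∃ U : Y.Opens, y ∈ U ∧ ∃ hC : IsClosed ((f ⁻¹ᵁ U).ι.base ⁻¹' MoreMor.sectionComponents f g),
      IsProper ((Scheme.IdealSheafData.vanishingIdeal
        (⟨(f ⁻¹ᵁ U).ι.base ⁻¹' MoreMor.sectionComponents f g, hC⟩ : TopologicalSpace.Closeds ↥(f ⁻¹ᵁ U))).subschemeι ≫
        (f ∣_ U)) := by
  have heq := ProperAt5.preimage_fiberι_eq f g hg y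
  have hop' : IsOpen ((f.fiberι y) ⁻¹' MoreMor.sectionComponents f g) := heq.symm ▸ hop
  have hprop' : IsProper (Scheme.Opens.ι (⟨(f.fiberι y) ⁻¹' MoreMor.sectionComponents f g, hop'⟩ : (f.fiber y).Opens) ≫
      f.fiberToSpecResidueField y) := by
    rw [show (⟨(f.fiberι y) ⁻¹' MoreMor.sectionComponents f g, hop'⟩ : (f.fiber y).Opens) = ⟨_, hop⟩ from
      TopologicalSpace.Opens.ext heq]
    exact hprop
  exact ProperAt5.exists_reduced_of_properNear f _ y (ProperAt5.properNear_sectionComponents f g hg y hop' hprop')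

end Groth.Agent.S4976
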