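import Groth.Statements.S4957
import Groth.Agent.S4976
import Groth.Agent.FibDim.Semicont
-- import your own Groth.Agent.* helpers here

set_option autoImplicit false
open CategoryTheory AlgebraicGeometry
universe u v w
open EGA43

namespace Groth.Agent.S4957

set_option backward.isDefEq.respectTransparency false
set_option backward.isDefEq.respectTransparency.types false

/-- Let f : X ⟶ Y be a separated morphism of finite presentation with a section g : Y ⟶ X, and X_z^0 the
connected component of f⁻¹(z) containing g z. Let y be a point such that X_y^0, as an open subscheme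
of the fibre X_y, is proper over κ(y). Then for every generization y' of y one has dim X_{y'}^0 ≤
dim X_y^0. -/
theorem result {X Y : Scheme.{u}} (f : X ⟶ Y) [IsSeparated f]
    [LocallyOfFinitePresentation f] [QuasiCompact f] [QuasiSeparated f] (g : Y ⟶ X) (hg : g ≫ f = 𝟙 Y) (y : Y)
    (hop : IsOpen ((f.fiberι y).base ⁻¹' connectedComponentIn (f.base ⁻¹' {y}) (g.base y)))
    (hprop : IsProper (Scheme.Opens.ι (⟨(f.fiberι y).base ⁻¹' connectedComponentIn (f.base ⁻¹' {y}) (g.base y), hop⟩ : (f.fiber y).Opens) ≫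
      f.fiberToSpecResidueField y))
    (y' : Y) (hy' : y' ⤳ y) :
    topologicalKrullDim ↥(connectedComponentIn (f.base ⁻¹' {y'}) (g.base y')) ≤ topologicalKrullDim ↥(connectedComponentIn (f.base ⁻¹' {y}) (g.base y)) := by
  obtain ⟨U, hyU, hC, hprop⟩ := S4976.result f g hg y hop hprop
  let C : TopologicalSpace.Closeds (f ⁻¹ᵁ U).toScheme :=
    ⟨(f ⁻¹ᵁ U).ι.base ⁻¹' MoreMor.sectionComponents f g, hC⟩
  let cU := (Scheme.IdealSheafData.vanishingIdeal C).subschemeι
  let h := cU ≫ f ∣_ U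
  haveI : IsProper h := hprop
  let i := cU ≫ (f ⁻¹ᵁ U).ι
  have hif : ∀ w, f (i w) = (h w).1 := fun w => by
    show f ((cU ≫ (f ⁻¹ᵁ U).ι) w) = ((cU ≫ f ∣_ U) w).1
    rw [Scheme.Hom.comp_apply, Scheme.Hom.comp_apply]
    exact (morphismRestrict_base_coe f U _).symm
  have hdim : ∀ u : (U : Scheme.{u}), topologicalKrullDim ↥(connectedComponentIn (f.base ⁻¹' {u.1}) (g.base u.1)) =
      topologicalKrullDim ↥(h.fiber u) := by
    intro u
    rw [(h.fiberHomeo u).isHomeomorph.topologicalKrullDim_eq]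
    have hemb : Topology.IsEmbedding (fun w : ↥(h ⁻¹' {u}) => i w.1) :=
      i.isEmbedding.comp Topology.IsEmbedding.subtypeVal
    have hr : Set.range (fun w : ↥(h ⁻¹' {u}) => i w.1) = connectedComponentIn (f.base ⁻¹' {u.1}) (g.base u.1) := by
      rw [← ProperAt5.sectionComponents_inter_fibre f g hg u.1]
      ext x
      constructor
      · rintro ⟨⟨w, hw⟩, rfl⟩
        refine ⟨(DimFormula.range_vanishingIdeal C).le ⟨w, rfl⟩, ?_⟩
        show f (i w) = u.1
        rw [hif, show h w = u from hw]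
      · rintro ⟨hx, hxu⟩
        have hxU : x ∈ f ⁻¹ᵁ U := by
          show f x ∈ U
          rw [show f x = u.1 from hxu]; exact u.2
        obtain ⟨w, hw⟩ := (DimFormula.range_vanishingIdeal C).ge (show (⟨x, hxU⟩ : (f ⁻¹ᵁ U).toScheme) ∈ C from hx)
        have hiw : i w = x := by
          show (cU ≫ (f ⁻¹ᵁ U).ι) w = x
          rw [Scheme.Hom.comp_apply, hw]
          rfl
        refine ⟨⟨w, Subtype.ext ?_⟩, hiw⟩
        rw [← hif, hiw]
        exact hxu
    exact ((hemb.toHomeomorph.trans (Homeomorph.setCongr hr)).isHomeomorph.topologicalKrullDim_eq).symm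
  have hy'U : y' ∈ U := hy'.mem_open U.isOpen hyU
  rw [hdim ⟨y', hy'U⟩, hdim ⟨y, hyU⟩, FibDim.topologicalKrullDim_fiber h ⟨y', hy'U⟩,
    FibDim.topologicalKrullDim_fiber h ⟨y, hyU⟩]
  refine iSup_le fun z => ?_
  have hsp : h z.1 ⤳ (⟨y, hyU⟩ : (U : Scheme.{u})) := by
    rw [show h z.1 = ⟨y', hy'U⟩ from z.2]
    exact U.ι.isEmbedding.isInducing.specializes_iff.1 hy'
  obtain ⟨x, hzx, hx⟩ := h.isClosedMap.specializingMap hsp
  obtain ⟨z', -, -, hz', hrd⟩ := FibDim.exists_rd_ge h hzx
  exact le_trans (by exact_mod_cast hrd) (le_iSup _ (⟨z', hz'.trans hx⟩ : ↥(h ⁻¹' {⟨y, hyU⟩})))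

end Groth.Agent.S4957
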