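import Groth.Statements.S4958
import Groth.Agent.DimFormula.Criteria

set_option autoImplicit false
open CategoryTheory AlgebraicGeometry
universe u v w
open EGA43

namespace Groth.Agent.S4958

/-- Let Y be an irreducible locally Noetherian scheme with generic point η, f : X ⟶ Y a morphism of
finite type and y a point of Y whose local ring O_{Y,y} is universally catenary. Suppose that dim
O_{X,z} = dim O_{Y,y} for every maximal point z of the fibre X_y. For z' in Y let E(z') be the set
of dimensions of the irreducible components of X_{z'}. Then E(y) ⊆ E(η), and hence dim X_y ≤ dim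
X_η. -/
theorem result {X Y : Scheme.{u}} [IrreducibleSpace Y]
    [IsLocallyNoetherian Y] (f : X ⟶ Y) [LocallyOfFiniteType f] [QuasiCompact f] (y : Y)
    (hcat : CAlg.IsUniversallyCatenary (Y.presheaf.stalk y))
    (hb : ∀ z : X, f.base z = y → (∀ z' : X, f.base z' = y → z ∈ closure {z'} → z' = z) →
      ringKrullDim (X.presheaf.stalk z) = ringKrullDim (Y.presheaf.stalk y)) :
    letI E : Y → Set (WithBot ℕ∞) := fun z =>
      (fun Z : Set ↥(f.fiber z) => topologicalKrullDim ↥Z) '' irreducibleComponents ↥(f.fiber z)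
    E y ⊆ E (genericPoint Y) ∧
      topologicalKrullDim ↥(f.fiber y) ≤ topologicalKrullDim ↥(f.fiber (genericPoint Y)) := by
  haveI := LocallyOfFiniteType.isLocallyNoetherian f
  have hsub : (fun Z : Set ↥(f.fiber y) => topologicalKrullDim ↥Z) '' irreducibleComponents ↥(f.fiber y) ⊆
      (fun Z : Set ↥(f.fiber (genericPoint Y)) => topologicalKrullDim ↥Z) ''
        irreducibleComponents ↥(f.fiber (genericPoint Y)) := by
    rw [FibDim.fiber_component_dims, FibDim.fiber_component_dims]
    rintro _ ⟨z, ⟨rfl, hm⟩, rfl⟩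
    have hc := (DimFormula.stalk_eq_iff f z (f z)).1
      (hb z rfl fun z' h1 h2 => hm z' (specializes_iff_mem_closure.2 h2) h1)
    obtain ⟨η, hη, hmax, -, hy, hr⟩ := DimFormula.exists_witness f ((DimFormula.fb_eq_zero_iff f z).2 hm) hc
    exact ⟨η, ⟨DimFormula.maximal_eq_genericPoint (DimFormula.maximal_of_cd_eq_codim (hη.map f.continuous) hy),
      FibDim.fibMax_of_maximal f hmax⟩, by simp only [hr]⟩
  refine ⟨hsub, ?_⟩
  refine FibDim.topologicalKrullDim_fiber_mono f fun z hz => ?_
  subst hz
  obtain ⟨w, hw, hfw, hm, hd⟩ := FibDim.exists_fibMax_generization f z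
  obtain ⟨ζ, ⟨hζ, -⟩, hr⟩ := by
    have hmem : ((FibDim.rd f w : ℕ∞) : WithBot ℕ∞) ∈ (fun z => ((FibDim.rd f z : ℕ∞) : WithBot ℕ∞)) ''
        {x : X | f x = f z ∧ FibDim.FibMax f x} := ⟨w, ⟨hfw, hm⟩, rfl⟩
    rw [← FibDim.fiber_component_dims] at hmem
    have := hsub hmem
    rw [FibDim.fiber_component_dims] at this
    exact this
  have h1 : FibDim.rd f ζ = FibDim.rd f w := by
    simp only at hr
    exact_mod_cast hr
  exact ⟨ζ, hζ, h1 ▸ FibDim.rd_le_of_specializes f hw hfw⟩

end Groth.Agent.S4958
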