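import Groth.Statements.S4959
import Groth.Agent.SGA1Q.Subm
import Groth.Agent.S2495

set_option autoImplicit false
open CategoryTheory AlgebraicGeometry
universe u v w
open EGA43

namespace Groth.Agent.S4959

open CategoryTheory.Limits in
/-- Let f : X ⟶ Y be a morphism of schemes and g : Y' ⟶ Y a surjective morphism which is either proper,
or flat and quasi-compact. If the base change f' : X ×_Y Y' ⟶ Y' is universally submersive (all of
its base changes are topological quotient maps), then f is universally submersive. -/
theorem result {X Y Y' : Scheme.{u}} (f : X ⟶ Y) (g : Y' ⟶ Y) [Surjective g]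
    (hg : IsProper g ∨ (Flat g ∧ QuasiCompact g))
    (h : MorphismProperty.universally (topologically @Topology.IsQuotientMap) (pullback.snd f g)) :
    MorphismProperty.universally (topologically @Topology.IsQuotientMap) f := by
  have hk : SGA1.UnivSubmersive g := by
    intro T T' a b g' sq
    haveI : Surjective g' := MorphismProperty.of_isPullback sq.flip ‹Surjective g›
    rcases hg with hp | ⟨hf, hq⟩
    · haveI := hp
      haveI : UniversallyClosed g' := MorphismProperty.of_isPullback sq.flip inferInstance
      exact g'.isClosedMap.isQuotientMap g'.continuous g'.surjective
    · haveI := hf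
      haveI := hq
      haveI : Flat g' := MorphismProperty.of_isPullback sq.flip inferInstance
      haveI : QuasiCompact g' := MorphismProperty.of_isPullback sq.flip inferInstance
      exact Flat.isQuotientMap_of_surjective g'
  refine SGA1Q.universally_of_isPullback (P := topologically @Topology.IsQuotientMap)
    (fun {A A' B B' f₁ k f' kA} hsq hk' hf' => ?_) (IsPullback.of_hasPullback f g).flip hk h
  refine Topology.IsQuotientMap.of_comp kA.continuous f₁.continuous ?_
  have := hk'.comp hf'
  rwa [show (k.base : _ → _) ∘ (f'.base : _ → _) = (f₁.base : _ → _) ∘ (kA.base : _ → _) from funext fun z => by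
    simp only [Function.comp_apply, ← Scheme.Hom.comp_apply, hsq.w]] at this

end Groth.Agent.S4959
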