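import Groth.Statements.S4964
import Groth.Agent.Codepth5.AssBase

set_option autoImplicit false
open CategoryTheory AlgebraicGeometry
universe u v w
open EGA43

namespace Groth.Agent.S4964

/-- Let f : X ⟶ Y be a proper morphism of finite presentation and F a finitely presented O_X-module
which is f-flat; for y in Y write F_y for the restriction of F to the fibre X_y. Let Φ be a finite
set of natural numbers. Then the set of points y of Y such that the closure in X_y of every
associated point of F_y has dimension in Φ is open in Y. In particular (Φ = {k}), the set of y such
that every associated point of F_y has closure of dimension k is open. -/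
theorem result {X Y : Scheme.{u}} (f : X ⟶ Y) [IsProper f]
    [LocallyOfFinitePresentation f] (F : X.Modules) (hF : CohB1.IsFP F) (hflat : FlatMod.IsFlatOver f F) (Φ : Finset ℕ) :
    IsOpen {y : Y | ∀ z ∈ AssSch.Ass ((Scheme.Modules.pullback (f.fiberι y)).obj F), ∃ n ∈ Φ,
      topologicalKrullDim ↥(closure ({z} : Set ↥(f.fiber y))) = (n : WithBot ℕ∞)} := by
  exact Groth.Agent.Codepth5.isOpen_base_assDims f F hF hflat (Φ : Set ℕ)

end Groth.Agent.S4964
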