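import Groth.Statements.S4966
import Groth.Agent.Codepth5.AssBase

set_option autoImplicit false
open CategoryTheory AlgebraicGeometry
universe u v w
open EGA43

namespace Groth.Agent.S4966

/-- Let f : X ⟶ Y be a proper morphism of finite presentation and F a finitely presented O_X-module
which is f-flat; for y in Y write F_y for the restriction of F to the fibre X_y. Let Φ be a finite
set of natural numbers. Then the set of points y of Y such that F_y has no embedded associated point
and the set of dimensions of the irreducible components of Supp(F_y) is exactly Φ is open in Y. -/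
theorem result {X Y : Scheme.{u}} (f : X ⟶ Y) [IsProper f]
    [LocallyOfFinitePresentation f] (F : X.Modules) (hF : CohB1.IsFP F) (hflat : FlatMod.IsFlatOver f F) (Φ : Finset ℕ) :
    IsOpen {y : Y | AssSch.NoEmbedded ((Scheme.Modules.pullback (f.fiberι y)).obj F) ∧
      (fun Z : Set ↥{z : ↥(f.fiber y) | Nontrivial (((Scheme.Modules.pullback (f.fiberι y)).obj F).presheaf.stalk z)} => topologicalKrullDim ↥Z) '' irreducibleComponents ↥{z : ↥(f.fiber y) | Nontrivial (((Scheme.Modules.pullback (f.fiberι y)).obj F).presheaf.stalk z)} =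
        (fun n : ℕ => (n : WithBot ℕ∞)) '' (Φ : Set ℕ)} := by
  convert ((Groth.Agent.Codepth5.isOpen_base_noEmbedded f F hF hflat).inter
      (Groth.Agent.Codepth5.isOpen_base_assDims f F hF hflat (Φ : Set ℕ))).inter
    (isOpen_biInter_finset (s := Φ) fun n _ =>
      Groth.Agent.Codepth5.isOpen_base_component_dim f F hF hflat n) using 1
  ext y
  have hmax : AssSch.NoEmbedded (Groth.Agent.Codepth5.fibMod f F y) →
      ∀ w ∈ AssSch.Ass (Groth.Agent.Codepth5.fibMod f F y), Groth.Agent.Codepth5.IsMaxSupp f F w := by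
    intro hne w hw
    refine ⟨Groth.Agent.Codepth5.ass_subset_fibSupp f F hw, fun w' hw' hs => ?_⟩
    obtain ⟨w'', hw'', hs''⟩ := Groth.Agent.Codepth5.exists_ass_specializes f F hF hflat w' hw'
    obtain rfl := hne w hw w'' hw'' (hs''.trans hs)
    exact (hs.antisymm hs'').eq
  simp only [Set.mem_inter_iff, Set.mem_iInter, Set.mem_ofPred_eq]
  rw [Groth.Agent.Codepth5.image_dim_components f F hF y]
  constructor
  · rintro ⟨hne, heq⟩
    refine ⟨⟨hne, fun w hw => ?_⟩, fun n hn => ?_⟩
    · obtain ⟨n, hn, hd⟩ := heq.le ⟨w, hmax hne w hw, rfl⟩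
      exact ⟨n, hn, hd.symm⟩
    · exact heq.ge ⟨n, hn, rfl⟩
  · rintro ⟨⟨hne, hass⟩, hall⟩
    refine ⟨hne, Set.Subset.antisymm ?_ ?_⟩
    · rintro d ⟨w, hw, rfl⟩
      obtain ⟨n, hn, hd⟩ := hass w (hw.mem_ass f F hF hflat)
      exact ⟨n, hn, hd.symm⟩
    · rintro _ ⟨n, hn, rfl⟩
      exact hall n hn

end Groth.Agent.S4966
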