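import Groth.Statements.S4969
import Groth.Agent.Codepth5.AssBase

set_option autoImplicit false
open CategoryTheory AlgebraicGeometry
universe u v w
open EGA43

namespace Groth.Agent.S4969

/-- Let f : X ⟶ Y be a proper morphism of finite presentation and F a finitely presented O_X-module
which is f-flat; for y in Y let F_y be the restriction of F to the fibre X_y. Then the function y ↦
dim Supp(F_y) is locally constant on Y. -/
theorem result {X Y : Scheme.{u}} (f : X ⟶ Y) [IsProper f]
    [LocallyOfFinitePresentation f] (F : X.Modules) (hF : CohB1.IsFP F) (hflat : FlatMod.IsFlatOver f F) :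
    IsLocallyConstant (fun y : Y => topologicalKrullDim ↥{z : ↥(f.fiber y) | Nontrivial (((Scheme.Modules.pullback (f.fiberι y)).obj F).presheaf.stalk z)}) := by
  exact Groth.Agent.Codepth5.isLocallyConstant_dim_fibSupp f F hF hflat

end Groth.Agent.S4969
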