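import Groth.Statements.S4970
import Groth.Agent.FlatSyz5.FibreFree

set_option autoImplicit false
universe u
open TensorProduct
open EGA43

namespace Groth.Agent.S4970

/-- Let A be a commutative ring, B a finitely presented A-algebra which is flat as an A-module, and M a
finitely presented B-module which is flat as an A-module. Then M is a flat B-module if and only if,
for every prime ideal p of A with residue field κ(p), the module (B ⊗_A κ(p)) ⊗_B M is projective
over the ring B ⊗_A κ(p). (Condition a) of the source, M projective over B, is equivalent to b) for
finitely presented modules.) -/
theorem result (A B M : Type u) [CommRing A] [CommRing B] [Algebra A B]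
    [Algebra.FinitePresentation A B] [Module.Flat A B] [AddCommGroup M] [Module B M] [Module A M]
    [IsScalarTower A B M] [Module.FinitePresentation B M] [Module.Flat A M] :
    Module.Flat B M ↔ ∀ (p : Ideal A) [p.IsPrime],
      Module.Projective (B ⊗[A] p.ResidueField) ((B ⊗[A] p.ResidueField) ⊗[B] M) := by
  refine ⟨fun h p _ => ?_, Groth.Agent.FlatSyz5.flat_of_fibres_projective⟩
  haveI := h
  haveI : Module.Projective B M := Module.Flat.projective_of_finitePresentation
  infer_instance

end Groth.Agent.S4970
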