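import Groth.Statements.S4971
import Mathlib.RingTheory.Nakayama
import Mathlib.RingTheory.Regular.IsSMulRegular

set_option autoImplicit false
universe u
open EGA43

namespace Groth.Agent.S4971

/-- Let B be a Noetherian local ring, M, N, P three B-modules with N finitely generated, u : M → N and v
: N → P linear maps with v ∘ u = 0, and t an element of the maximal ideal of B which is P-regular.
If the induced sequence M/tM → N/tN → P/tP is exact, then M → N → P is exact. -/
theorem result {B : Type u} [CommRing B] [IsNoetherianRing B] [IsLocalRing B]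
    {M N P : Type u} [AddCommGroup M] [Module B M] [AddCommGroup N] [Module B N] [Module.Finite B N]
    [AddCommGroup P] [Module B P] (u : M →ₗ[B] N) (v : N →ₗ[B] P) (huv : v ∘ₗ u = 0) (t : B)
    (ht : t ∈ IsLocalRing.maximalIdeal B) (hreg : IsSMulRegular P t)
    (hu : (Ideal.span {t} • ⊤ : Submodule B M) ≤ (Ideal.span {t} • ⊤ : Submodule B N).comap u)
    (hv : (Ideal.span {t} • ⊤ : Submodule B N) ≤ (Ideal.span {t} • ⊤ : Submodule B P).comap v)
    (hex : LinearMap.ker ((Ideal.span {t} • ⊤ : Submodule B N).mapQ (Ideal.span {t} • ⊤ : Submodule B P) v hv) ≤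
      LinearMap.range ((Ideal.span {t} • ⊤ : Submodule B M).mapQ (Ideal.span {t} • ⊤ : Submodule B N) u hu)) :
    LinearMap.ker v ≤ LinearMap.range u := by
  have hle : LinearMap.ker v ≤ LinearMap.range u ⊔ Ideal.span {t} • LinearMap.ker v := by
    intro x hx
    have h1 : (Ideal.span {t} • ⊤ : Submodule B N).mkQ x ∈
        LinearMap.ker ((Ideal.span {t} • ⊤ : Submodule B N).mapQ (Ideal.span {t} • ⊤ : Submodule B P) v hv) := by
      rw [LinearMap.mem_ker, Submodule.mkQ_apply, Submodule.mapQ_apply, LinearMap.mem_ker.mp hx, Submodule.Quotient.mk_zero]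
    obtain ⟨mbar, hm⟩ := hex h1
    obtain ⟨m, rfl⟩ := Submodule.Quotient.mk_surjective _ mbar
    rw [Submodule.mapQ_apply, Submodule.mkQ_apply, Submodule.Quotient.eq, Submodule.ideal_span_singleton_smul] at hm
    obtain ⟨y, -, hy⟩ := hm
    have hy' : t • y = u m - x := hy
    have hvu : v (u m) = 0 := congr($huv m)
    have hvy : v y = 0 := hreg (show t • v y = t • (0 : P) by rw [← map_smul, hy', map_sub, hvu, LinearMap.mem_ker.mp hx, sub_zero, smul_zero])
    rw [show x = u m + -(t • y) by rw [hy']; abel]
    exact add_mem (Submodule.mem_sup_left ⟨m, rfl⟩)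
      (Submodule.mem_sup_right (neg_mem (Submodule.smul_mem_smul (Ideal.mem_span_singleton_self t) hvy)))
  exact Submodule.le_of_le_smul_of_le_jacobson_bot (IsNoetherian.noetherian _)
    (((Ideal.span_singleton_le_iff_mem _).mpr ht).trans (IsLocalRing.jacobson_eq_maximalIdeal ⊥ bot_ne_top).ge) hle

end Groth.Agent.S4971
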