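import Groth.Statements.S4973
import Mathlib

set_option autoImplicit false
open CategoryTheory AlgebraicGeometry
universe u v w
open EGA43

namespace Groth.Agent.S4973

open CategoryTheory.Limits in
/-- Let Y₀ and Y be integral schemes, g : Y ⟶ Y₀ a dominant morphism, f₀ : X₀ ⟶ Y₀ a dominant morphism
whose fibre over the generic point of Y₀ is irreducible, and X'₀ an irreducible component of X₀
meeting that generic fibre (it is unique), regarded as a reduced closed subscheme of X₀. If X = X₀
×_{Y₀} Y is an integral scheme, then the morphism X'₀ ×_{Y₀} Y ⟶ X induced by the inclusion of X'₀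
is an isomorphism. -/
theorem result {X₀ Y₀ Y : Scheme.{u}} [IsIntegral Y₀] [IsIntegral Y]
    (g : Y ⟶ Y₀) [IsDominant g] (f₀ : X₀ ⟶ Y₀) [IsDominant f₀]
    (hirr : IsIrreducible (f₀.base ⁻¹' {genericPoint Y₀}))
    (C : TopologicalSpace.Closeds X₀) (hC : (C : Set X₀) ∈ irreducibleComponents (X₀ : Type u))
    (hCη : ((C : Set X₀) ∩ f₀.base ⁻¹' {genericPoint Y₀}).Nonempty) [IsIntegral (pullback f₀ g)]
    (e₁ : ((Scheme.IdealSheafData.vanishingIdeal C).subschemeι ≫ f₀) ≫ 𝟙 Y₀ =
      (Scheme.IdealSheafData.vanishingIdeal C).subschemeι ≫ f₀) (e₂ : g ≫ 𝟙 Y₀ = 𝟙 Y ≫ g) :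
    IsIso (pullback.map ((Scheme.IdealSheafData.vanishingIdeal C).subschemeι ≫ f₀) g f₀ g
      (Scheme.IdealSheafData.vanishingIdeal C).subschemeι (𝟙 Y) (𝟙 Y₀) e₁ e₂) := by
  have hgη : g (genericPoint Y) = genericPoint Y₀ := by
    have h1 : IsGenericPoint (g (genericPoint Y)) (closure (g '' closure {genericPoint Y})) := by
      have := (genericPoint_spec Y).image g.continuous
      rwa [(genericPoint_spec Y).def] at *
    rw [(genericPoint_spec Y).def, Set.image_univ, g.denseRange.closure_range] at h1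
    exact h1.eq (genericPoint_spec Y₀)
  have hmax : ∀ y : Y₀, y ⤳ genericPoint Y₀ → y = genericPoint Y₀ := fun y hy =>
    hy.antisymm ((genericPoint_spec Y₀).specializes trivial) |>.eq
  -- the generic fibre lies in `C`
  obtain ⟨c, hc⟩ := QuasiSober.sober hC.1 C.isClosed
  obtain ⟨z, hzC, hz⟩ := hCη
  have hcη : f₀ c = genericPoint Y₀ := by
    refine hmax _ ?_
    have hcz : c ⤳ z := hc.specializes hzC
    rw [show genericPoint Y₀ = f₀ z from hz.symm]
    exact hcz.map f₀.continuous
  have hfib : f₀.base ⁻¹' {genericPoint Y₀} ⊆ (C : Set X₀) := by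
    have h1 : (C : Set X₀) ⊆ closure (f₀.base ⁻¹' {genericPoint Y₀}) := by
      rw [← hc.def]
      exact closure_mono (Set.singleton_subset_iff.2 hcη)
    exact subset_closure.trans (hC.2 hirr.closure h1)
  -- the generic point of the product lies over the generic point of `Y₀`
  obtain ⟨x₀, hx₀⟩ := hirr.1
  obtain ⟨w, hw1, hw2⟩ := Scheme.Pullback.exists_preimage_pullback (f := f₀) (g := g) x₀ (genericPoint Y)
    (hx₀.trans hgη.symm)
  have hξ2 : pullback.snd f₀ g (genericPoint ↥(pullback f₀ g)) = genericPoint Y := by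
    have h1 : pullback.snd f₀ g (genericPoint ↥(pullback f₀ g)) ⤳ genericPoint Y := hw2 ▸
      ((genericPoint_spec _).specializes trivial : genericPoint ↥(pullback f₀ g) ⤳ w).map (pullback.snd f₀ g).continuous
    exact (h1.antisymm ((genericPoint_spec Y).specializes trivial)).eq
  have hξ1 : pullback.fst f₀ g (genericPoint ↥(pullback f₀ g)) ∈ (C : Set X₀) := hfib (by
    show f₀ (pullback.fst f₀ g _) = genericPoint Y₀
    rw [← Scheme.Hom.comp_apply, pullback.condition, Scheme.Hom.comp_apply, hξ2, hgη])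
  have sqY := (IsPullback.of_hasPullback ((Scheme.IdealSheafData.vanishingIdeal C).subschemeι ≫ f₀) g).flip
  have sqL : IsPullback (pullback.map ((Scheme.IdealSheafData.vanishingIdeal C).subschemeι ≫ f₀) g f₀ g
      (Scheme.IdealSheafData.vanishingIdeal C).subschemeι (𝟙 Y) (𝟙 Y₀) e₁ e₂) (pullback.fst _ _) (pullback.fst f₀ g)
      (Scheme.IdealSheafData.vanishingIdeal C).subschemeι :=
    IsPullback.of_right (by rw [pullback.lift_snd, Category.comp_id]; exact sqY) (by rw [pullback.lift_fst])
      (IsPullback.of_hasPullback f₀ g).flip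
  haveI : IsClosedImmersion (pullback.map ((Scheme.IdealSheafData.vanishingIdeal C).subschemeι ≫ f₀) g f₀ g
      (Scheme.IdealSheafData.vanishingIdeal C).subschemeι (𝟙 Y) (𝟙 Y₀) e₁ e₂) :=
    MorphismProperty.of_isPullback (P := @IsClosedImmersion) sqL.flip inferInstance
  haveI : Surjective (pullback.map ((Scheme.IdealSheafData.vanishingIdeal C).subschemeι ≫ f₀) g f₀ g
      (Scheme.IdealSheafData.vanishingIdeal C).subschemeι (𝟙 Y) (𝟙 Y₀) e₁ e₂) := by
    refine ⟨Set.range_eq_univ.1 (Set.eq_univ_of_univ_subset ?_)⟩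
    rw [← (genericPoint_spec ↥(pullback f₀ g)).def]
    refine (IsClosed.closure_subset_iff (Scheme.Hom.isClosedEmbedding _).isClosed_range).2 (Set.singleton_subset_iff.2 ?_)
    rw [Scheme.Pullback.range_map]
    exact ⟨by rw [Set.mem_preimage, Scheme.IdealSheafData.range_subschemeι, Scheme.IdealSheafData.coe_support_vanishingIdeal]; exact hξ1, ⟨_, rfl⟩⟩
  exact isIso_of_isClosedImmersion_of_surjective _

end Groth.Agent.S4973
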