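import Groth.Statements.S4974
import Groth.Agent.DimFormula.QuasiSection
import Groth.Agent.Hensel.IntegralStrict
import Mathlib.RingTheory.ZariskisMainTheorem
import Mathlib.RingTheory.Henselian

set_option autoImplicit false
open CategoryTheory AlgebraicGeometry
universe u v w
open EGA43

namespace Groth.Agent.S4974

/-- Consider a complete Noetherian local domain A and put Y = Spec A. Suppose f : X ⟶ Y is locally of
finite type, and take a point x ∈ X mapping to the closed point of Y, where f is equidimensional at
x and x is closed in the fibre containing it. Then one can find a local domain A' that contains A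
and is finite as an A-algebra, together with a Y-morphism h : Spec A' ⟶ X that is an immersion and
has x in its image. -/
theorem result {A : Type u} [CommRing A] [IsDomain A]
    [IsNoetherianRing A] [IsLocalRing A] [IsAdicComplete (IsLocalRing.maximalIdeal A) A] {X : Scheme.{u}}
    (f : X ⟶ Spec (CommRingCat.of A)) [LocallyOfFiniteType f] (x : X) (hx : f.base x = IsLocalRing.closedPoint A)
    (hf : EGA43.IsEquidimAt f x) (hcl : ∀ x' : X, f.base x' = f.base x → x ⤳ x' → x' = x) :
    ∃ (A' : Type u) (_ : CommRing A') (_ : IsDomain A') (_ : IsLocalRing A') (_ : Algebra A A') (_ : Module.Finite A A'),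
      Function.Injective (algebraMap A A') ∧
      ∃ h : Spec (CommRingCat.of A') ⟶ X, h ≫ f = Spec.map (CommRingCat.ofHom (algebraMap A A')) ∧
        IsImmersion h ∧ x ∈ Set.range h.base := by
  haveI : HenselianLocalRing A :=
    { is_henselian := fun F hF a₀ h₁ h₂ =>
        HenselianRing.is_henselian (I := IsLocalRing.maximalIdeal A) F hF a₀ h₁ (h₂.map (Ideal.Quotient.mk _)) }
  haveI : IrreducibleSpace ↥(Spec (CommRingCat.of A)) := inferInstanceAs (IrreducibleSpace (PrimeSpectrum A))
  obtain ⟨T, i, hi, hirr, hred, ⟨t, ht⟩, hft, hqf, -, hd⟩ :=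
    DimFormula.exists_quasiSection _ f x hf rfl hcl
  haveI : IsIntegral T := isIntegral_of_irreducibleSpace_of_isReduced T
  obtain ⟨W, hW, htW, -⟩ := exists_isAffineOpen_mem_and_subset (x := t) (U := ⊤) trivial
  haveI : Nonempty W := ⟨⟨t, htW⟩⟩
  let B := Γ(T, W)
  let φ : CommRingCat.of A ⟶ B := Spec.preimage (hW.fromSpec ≫ i ≫ f)
  have hφ : Spec.map φ = hW.fromSpec ≫ i ≫ f := Spec.map_preimage _
  haveI : LocallyQuasiFinite (Spec.map φ) := by rw [hφ]; infer_instance
  haveI : LocallyOfFiniteType (Spec.map φ) := by rw [hφ]; infer_instance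
  have hqf' : φ.hom.QuasiFinite := (HasRingHomProperty.Spec_iff (P := @LocallyQuasiFinite)).1 inferInstance
  have hft' : φ.hom.FiniteType := (HasRingHomProperty.Spec_iff (P := @LocallyOfFiniteType)).1 inferInstance
  haveI : IsDominant hW.fromSpec :=
    ⟨dense_iff_closure_eq.2 (by rw [hW.range_fromSpec]; exact (W.isOpen.dense ⟨t, htW⟩).closure_eq)⟩
  haveI : IsDominant (Spec.map φ) := by rw [hφ]; infer_instance
  have hinj : Function.Injective φ.hom := by
    rw [RingHom.injective_iff_ker_eq_bot, eq_bot_iff]
    have := (PrimeSpectrum.denseRange_comap_iff_ker_le_nilRadical φ.hom).1 (Spec.map φ).denseRange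
    rwa [nilradical_eq_zero] at this
  letI : Algebra A B := φ.hom.toAlgebra
  haveI : Algebra.FiniteType A B := hft'
  haveI : Algebra.QuasiFinite A B := hqf'
  obtain ⟨p, hp⟩ := VarDim.exists_fromSpec_eq hW htW
  obtain ⟨C, hC, r, hr, hbij⟩ :=
    Algebra.QuasiFiniteAt.exists_fg_and_exists_notMem_and_awayMap_bijective (R := A) p.asIdeal
  haveI : Module.Finite A C := ⟨(Submodule.fg_top _).mpr hC⟩
  haveI : IsLocalRing C := Hensel.isLocalRing_of_isIntegral_domain A C
  have hpA : p.asIdeal.comap (algebraMap A B) = IsLocalRing.maximalIdeal A := by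
    have h1 : (Spec.map φ) p = IsLocalRing.closedPoint A := by
      rw [hφ, Scheme.Hom.comp_apply, hp, Scheme.Hom.comp_apply, ht]; exact hx
    exact congrArg PrimeSpectrum.asIdeal h1
  have hru : IsUnit r := by
    by_contra hnu
    have hmax : (p.asIdeal.comap C.val).IsMaximal :=
      Ideal.isMaximal_of_isIntegral_of_isMaximal_comap (R := A) _ (by
        convert IsLocalRing.maximalIdeal.isMaximal A using 1
        rw [← hpA]; ext; rfl)
    have : r ∈ p.asIdeal.comap C.val := by
      rw [IsLocalRing.eq_maximalIdeal hmax]; exact hnu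
    exact hr this
  let L := Localization.Away (C.val.toRingHom r)
  let ψ : C →+* L := (Localization.awayMap C.val.toRingHom r).comp (algebraMap C (Localization.Away r))
  have hψ : Function.Bijective ψ := hbij.comp
    ((IsLocalization.atUnits C (Submonoid.powers r) (S := Localization.Away r) (fun m hm => by
      obtain ⟨n, rfl⟩ := hm; exact hru.pow n)).bijective)
  haveI : IsLocalRing L := (RingEquiv.ofBijective ψ hψ).isLocalRing
  haveI : IsDomain L := (RingEquiv.ofBijective ψ hψ).symm.toMulEquiv.isDomain _
  have hcomm : ∀ a, ψ (algebraMap A C a) = algebraMap A L a := fun a => by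
    show Localization.awayMap C.val.toRingHom r (algebraMap C (Localization.Away r) (algebraMap A C a)) = _
    rw [Localization.awayMap, IsLocalization.Away.map, IsLocalization.map_eq]
    rfl
  let ψ' : C →ₐ[A] L := { ψ with commutes' := hcomm }
  haveI : Module.Finite A L := Module.Finite.of_surjective ψ'.toLinearMap hψ.2
  refine ⟨L, inferInstance, inferInstance, inferInstance, inferInstance, inferInstance, fun a b hab => ?_,
    Spec.map (CommRingCat.ofHom (algebraMap B L)) ≫ hW.fromSpec ≫ i, ?_, ?_, ?_⟩
  · rw [← ψ'.commutes a, ← ψ'.commutes b] at hab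
    have h2 := congrArg Subtype.val (hψ.1 hab)
    exact hinj h2
  · rw [Category.assoc, Category.assoc, ← hφ, ← Spec.map_comp]
    rfl
  · haveI : IsOpenImmersion (Spec.map (CommRingCat.ofHom (algebraMap B L))) :=
      IsOpenImmersion.of_isLocalization (C.val.toRingHom r)
    infer_instance
  · have hpmem : p ∈ PrimeSpectrum.basicOpen (C.val.toRingHom r) := hr
    obtain ⟨q, hq⟩ : p ∈ Set.range (PrimeSpectrum.comap (algebraMap B L)) := by
      rw [PrimeSpectrum.localization_away_comap_range L (C.val.toRingHom r)]; exact hpmem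
    refine ⟨q, ?_⟩
    show (Spec.map (CommRingCat.ofHom (algebraMap B L)) ≫ hW.fromSpec ≫ i) q = x
    rw [Scheme.Hom.comp_apply, Scheme.Hom.comp_apply, show Spec.map (CommRingCat.ofHom (algebraMap B L)) q = p from hq, hp, ht]

end Groth.Agent.S4974
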