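import Groth.Statements.S4975
import Groth.Agent.SecComp6.Core
import Groth.Agent.S5927
-- import your own Groth.Agent.* helpers here

set_option autoImplicit false
open CategoryTheory AlgebraicGeometry
universe u v w
open EGA43

namespace Groth.Agent.S4975

set_option backward.isDefEq.respectTransparency false
set_option backward.isDefEq.respectTransparency.types false

/-- Let f : X ⟶ Y be a morphism locally of finite type with Y locally Noetherian, g : Y ⟶ X a section of
f, X_y^0 the connected component of f⁻¹(y) containing g y, and X^0 ⊆ X their union. Suppose every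
X_y^0 is geometrically integral over κ(y) (its preimage in X_y ⊗ K is irreducible and has reduced
local rings, for every field extension K of κ(y)). Then y ↦ dim X_y^0 is locally constant on Y if
and only if f is universally open at every point of X^0; and when this holds, X^0 is open in X. (The
published statement also lists, as a further equivalent condition, flatness of the base change of f
to the reduced closed subscheme Y_red at the points of X^0; that condition is not stated here.) -/
theorem result {X Y : Scheme.{u}}
    [IsLocallyNoetherian Y] (f : X ⟶ Y) [LocallyOfFiniteType f] (g : Y ⟶ X) (hg : g ≫ f = 𝟙 Y)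
    (hint : ∀ y : Y, (∀ (K : Type u) [Field K] [Algebra (IsLocalRing.ResidueField (Y.presheaf.stalk y)) K],
        IsIrreducible ((FBase.bcπ (f.fiberToSpecResidueField y) K ≫ f.fiberι y).base ⁻¹' connectedComponentIn (f.base ⁻¹' {y}) (g.base y)) ∧
        ∀ x' : ↥(FBase.bc (f.fiberToSpecResidueField y) K),
          (FBase.bcπ (f.fiberToSpecResidueField y) K ≫ f.fiberι y).base x' ∈ connectedComponentIn (f.base ⁻¹' {y}) (g.base y) →
          _root_.IsReduced ((FBase.bc (f.fiberToSpecResidueField y) K).presheaf.stalk x'))) :
    (IsLocallyConstant (fun y : Y => topologicalKrullDim ↥(connectedComponentIn (f.base ⁻¹' {y}) (g.base y))) ↔ ∀ x ∈ MoreMor.sectionComponents f g, EGA43.IsUnivOpenAt f x) ∧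
      (IsLocallyConstant (fun y : Y => topologicalKrullDim ↥(connectedComponentIn (f.base ⁻¹' {y}) (g.base y))) → IsOpen (MoreMor.sectionComponents f g)) := by
  have hirr := fun (y : Y) (K : Type u) [Field K] [Algebra (IsLocalRing.ResidueField (Y.presheaf.stalk y)) K] => (hint y K).1
  have hred : ∀ x ∈ MoreMor.sectionComponents f g,
      FBase.IsGeomReducedAt (f.fiberToSpecResidueField (f.base x)) (f.asFiber x) := by
    intro x hx K _ _ x' hx'
    refine (hint (f.base x) K).2 x' ?_
    rw [Scheme.Hom.comp_apply, hx', f.fiberι_asFiber]
    exact hx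
  have huniv : IsLocallyConstant (fun y : Y => topologicalKrullDim ↥(connectedComponentIn (f.base ⁻¹' {y}) (g.base y))) →
      ∀ x ∈ MoreMor.sectionComponents f g, EGA43.IsUnivOpenAt f x := fun hlc x hx => by
    refine SecComp6.isUnivOpenAt_of_dim f g hg hirr (y := f.base x) (fun y' hy => ?_) hx rfl
    obtain ⟨V, hVo, hxV, hVc⟩ := hlc.exists_open (f.base x)
    exact (hVc y' (hy.mem_open hVo hxV)).ge
  refine ⟨⟨huniv, fun hopen => ?_⟩, fun hlc => ?_⟩
  · refine (IsLocallyConstant.iff_eventually_eq _).2 fun y => ?_
    have hgy : f.base (g.base y) = y := UnivOpen.apply_section hg y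
    have hmem : ∀ z ∈ connectedComponentIn (f.base ⁻¹' {y}) (g.base y), z ∈ MoreMor.sectionComponents f g := fun z hz => by
      have hzy : f.base z = y := connectedComponentIn_subset (f.base ⁻¹' {y}) (g.base y) hz
      show z ∈ connectedComponentIn (f.base ⁻¹' {f.base z}) (g.base (f.base z))
      rw [hzy]
      exact hz
    obtain ⟨V, hV, hVc⟩ := S5927.result f g hg (fun y' K _ _ => hirr y' K) y (fun ξ hξ _ => hopen ξ (hmem ξ hξ))
      (Or.inl (hred _ (hmem _ (mem_connectedComponentIn hgy))))
    exact Filter.mem_of_superset hV hVc
  · rw [← interior_eq_iff_isOpen]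
    refine subset_antisymm interior_subset fun x hx => ?_
    obtain ⟨V, hVo, hxV, hVc⟩ := hlc.exists_open (f.base x)
    exact (SecComp6.mem_interior_of_dim f g hg hirr (y := f.base x)
      (fun y' hy => (hVc y' (hy.mem_open hVo hxV)).ge) hx rfl (hred x hx)).1

end Groth.Agent.S4975
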