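import Groth.Statements.S4977
import Groth.Agent.ProperAt5.Piece
import Groth.Agent.ProperAt5.Closure
import Groth.Agent.ProperAt5.Cons
import Groth.Agent.H23.LocNoethTop
-- import your own Groth.Agent.* helpers here

set_option autoImplicit false
open CategoryTheory AlgebraicGeometry
universe u v w
open EGA43

namespace Groth.Agent.S4977

set_option backward.isDefEq.respectTransparency false
set_option backward.isDefEq.respectTransparency.types false

open CategoryTheory.Limits in
/-- Let Y be a locally Noetherian scheme, y a point of Y, f : X ⟶ Y a separated morphism of finite type,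
and Z a locally constructible subset of X such that: (i) for every generization y' of y, Z ∩ f⁻¹(y')
is a connected component of the fibre f⁻¹(y') and is geometrically connected over κ(y'); (ii) Z ∩
f⁻¹(y), an open and closed subscheme of the fibre X_y, is proper over κ(y); (iii) Z is universally
submersive onto f(Z): for every morphism h : Y' ⟶ Y, writing p and f' for the two projections of X
×_Y Y', a subset E of h⁻¹(f(Z)) is open in h⁻¹(f(Z)) as soon as f'⁻¹(E) ∩ p⁻¹(Z) is open in p⁻¹(Z)
(induced topologies). Then Z is proper over Y at y: there is an open neighbourhood U of y such that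
Z ∩ f⁻¹(U) is closed in f⁻¹(U) and, with its reduced subscheme structure, proper over U. -/
theorem result {X Y : Scheme.{u}} [IsLocallyNoetherian Y] (y : Y)
    (f : X ⟶ Y) [IsSeparated f] [LocallyOfFiniteType f] [QuasiCompact f] (Z : Set X)
    (hZ : Topology.IsLocallyConstructible Z)
    (h1 : ∀ y' : Y, y' ⤳ y → (∃ x ∈ Z, f.base x = y' ∧ Z ∩ f.base ⁻¹' {y'} = connectedComponentIn (f.base ⁻¹' {y'}) x) ∧
      ∀ (K : Type u) [Field K] [Algebra (IsLocalRing.ResidueField (Y.presheaf.stalk y')) K],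
        _root_.IsPreconnected ((FBase.bcπ (f.fiberToSpecResidueField y') K ≫ f.fiberι y').base ⁻¹' Z))
    (hop : IsOpen ((f.fiberι y).base ⁻¹' Z))
    (h2 : IsProper (Scheme.Opens.ι (⟨(f.fiberι y).base ⁻¹' Z, hop⟩ : (f.fiber y).Opens) ≫ f.fiberToSpecResidueField y))
    (h3 : ∀ (Y' : Scheme.{u}) (h : Y' ⟶ Y) (E : Set Y'), E ⊆ h.base ⁻¹' (f.base '' Z) →
      (∃ W : Set ↥(pullback f h), IsOpen W ∧
        W ∩ (pullback.fst f h).base ⁻¹' Z = (pullback.snd f h).base ⁻¹' E ∩ (pullback.fst f h).base ⁻¹' Z) →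
      ∃ V : Set Y', IsOpen V ∧ V ∩ h.base ⁻¹' (f.base '' Z) = E) :
    ∃ U : Y.Opens, y ∈ U ∧ ∃ hC : IsClosed ((f ⁻¹ᵁ U).ι.base ⁻¹' Z),
      IsProper ((Scheme.IdealSheafData.vanishingIdeal
        (⟨(f ⁻¹ᵁ U).ι.base ⁻¹' Z, hC⟩ : TopologicalSpace.Closeds ↥(f ⁻¹ᵁ U))).subschemeι ≫ (f ∣_ U)) := by
  classical
  haveI : IsLocallyNoetherian X := LocallyOfFiniteType.isLocallyNoetherian f
  have hfib : ∀ y', y' ⤳ y → y' ∈ f.base '' Z := fun y' hy' => by
    obtain ⟨x, hxZ, hxy, -⟩ := (h1 y' hy').1
    exact ⟨x, hxZ, hxy⟩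
  have hclop : ∀ y', y' ⤳ y → IsClopen ((f.fiberι y').base ⁻¹' Z) := by
    intro y' hy'
    obtain ⟨x, hxZ, hxy, hcomp⟩ := (h1 y' hy').1
    haveI : LocallyOfFiniteType (f.fiberToSpecResidueField y') :=
      MorphismProperty.pullback_snd (P := @LocallyOfFiniteType) _ _ inferInstance
    haveI : IsLocallyNoetherian (f.fiber y') := LocallyOfFiniteType.isLocallyNoetherian (f.fiberToSpecResidueField y')
    haveI : AlgebraicGeometry.IsNoetherian (f.fiber y') := {}
    haveI : LocallyConnectedSpace ↥(f.fiber y') := H23.LocNoethTop.locallyConnectedSpace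
      fun z => ⟨Set.univ, Filter.univ_mem, inferInstance⟩
    have hx' : x ∈ f.base ⁻¹' {y'} := hxy
    let w := (f.fiberHomeo y').symm ⟨x, hx'⟩
    have heq : (f.fiberι y').base ⁻¹' Z = connectedComponent w := by
      ext v
      have hv : (f.fiberι y').base v ∈ f.base ⁻¹' {y'} := (f.range_fiberι y').le ⟨v, rfl⟩
      have hv' : f.fiberHomeo y' v = ⟨_, hv⟩ := Subtype.ext rfl
      have h2 : connectedComponent (⟨x, hx'⟩ : f.base ⁻¹' {y'}) = f.fiberHomeo y' '' connectedComponent w := by
        rw [← connectedComponentIn_univ, ← connectedComponentIn_univ w,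
          (f.fiberHomeo y').image_connectedComponentIn (Set.mem_univ w), Set.image_univ, Homeomorph.range_coe,
          Homeomorph.apply_symm_apply]
      constructor
      · intro hvZ
        have h3 : (f.fiberι y').base v ∈ Z ∩ f.base ⁻¹' {y'} := ⟨hvZ, hv⟩
        rw [hcomp, connectedComponentIn_eq_image hx'] at h3
        obtain ⟨u, hu, huv⟩ := h3
        rw [h2] at hu
        obtain ⟨v', hv'', rfl⟩ := hu
        obtain rfl : v' = v := (f.fiberι y').isEmbedding.injective huv
        exact hv''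
      · intro hvw
        have h3 : (f.fiberι y').base v ∈ connectedComponentIn (f.base ⁻¹' {y'}) x := by
          rw [connectedComponentIn_eq_image hx', h2]
          exact ⟨_, ⟨v, hvw, rfl⟩, rfl⟩
        rw [← hcomp] at h3
        exact h3.1
    rw [heq]
    exact isClopen_connectedComponent
  have key : ∀ y', y' ⤳ y → ∀ hO : IsOpen ((f.fiberι y').base ⁻¹' Z),
      IsProper (Scheme.Opens.ι (⟨(f.fiberι y').base ⁻¹' Z, hO⟩ : (f.fiber y').Opens) ≫ f.fiberToSpecResidueField y') →
      ∀ (A : Type u) [CommRing A] [IsDomain A] [IsDiscreteValuationRing A] (g : Spec (CommRingCat.of A) ⟶ Y),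
        g (IsLocalRing.closedPoint A : PrimeSpectrum A) = y' →
        ∀ (σ : Spec (CommRingCat.of (FractionRing A)) ⟶ X) (ξ : X), (∀ t, σ t = ξ) → ξ ∈ Z →
          σ ≫ f = Spec.map (CommRingCat.ofHom (algebraMap A (FractionRing A))) ≫ g →
          ∃ s : Spec (CommRingCat.of A) ⟶ X, s ≫ f = g ∧
            Spec.map (CommRingCat.ofHom (algebraMap A (FractionRing A))) ≫ s = σ ∧
            s (IsLocalRing.closedPoint A : PrimeSpectrum A) ∈ Z := by
    intro y' hy' hO hprop A _ _ _ g hg σ ξ hσξ hξZ hσ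
    let clA : ↥(Spec (CommRingCat.of A)) := (IsLocalRing.closedPoint A : PrimeSpectrum A)
    have hcl : IsClosed ({clA} : Set ↥(Spec (CommRingCat.of A))) :=
      (PrimeSpectrum.isClosed_singleton_iff_isMaximal (IsLocalRing.closedPoint A)).2 (IsLocalRing.maximalIdeal.isMaximal A)
    have hgy : ∀ v, g v ⤳ y := fun v =>
      ((IsLocalRing.specializes_closedPoint (R := A) (v : PrimeSpectrum A)).map g.continuous).trans
        (show g clA ⤳ y by rw [show g clA = y' from hg]; exact hy')
    let p := pullback.fst f g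
    let q := pullback.snd f g
    have sq : IsPullback p q f g := IsPullback.of_hasPullback f g
    haveI : IsSeparated q := MorphismProperty.pullback_snd (P := @IsSeparated) _ _ inferInstance
    haveI : LocallyOfFiniteType q := MorphismProperty.pullback_snd (P := @LocallyOfFiniteType) _ _ inferInstance
    haveI : QuasiCompact q := MorphismProperty.pullback_snd (P := @QuasiCompact) _ _ inferInstance
    haveI : CompactSpace ↥(pullback f g) := QuasiCompact.compactSpace_of_compactSpace q
    haveI : IsLocallyNoetherian (pullback f g) := LocallyOfFiniteType.isLocallyNoetherian q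
    haveI : AlgebraicGeometry.IsNoetherian (pullback f g) := {}
    -- an open of `X` cutting out the piece in the fibre
    obtain ⟨O, hOo, hOZ⟩ := (f.fiberι y').isEmbedding.isInducing.isOpen_iff.1 hO
    have hOZ' : ∀ x, f x = y' → (x ∈ O ↔ x ∈ Z) := fun x hx => by
      obtain ⟨v, rfl⟩ : x ∈ Set.range (f.fiberι y') := by rw [f.range_fiberι]; exact hx
      exact Set.ext_iff.1 hOZ v
    let Wc : Set ↥(pullback f g) := q ⁻¹' {clA} ∩ (p ⁻¹' O)ᶜ
    have hWc : IsClosed Wc :=
      (hcl.preimage q.continuous).inter (hOo.preimage p.continuous).isClosed_compl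
    let W : (pullback f g).Opens := ⟨Wcᶜ, hWc.isOpen_compl⟩
    have hpq : ∀ v, q v = clA → f (p v) = y' := fun v hv => by
      rw [← Scheme.Hom.comp_apply, sq.w, Scheme.Hom.comp_apply, hv]
      exact hg
    have hW : ∀ v, q v = clA → (v ∈ W ↔ p v ∈ Z) := fun v hv => by
      rw [← hOZ' (p v) (hpq v hv)]
      exact ⟨fun h => by_contra fun h' => h ⟨hv, h'⟩, fun h h' => h'.2 h⟩
    -- the closed fibre of the open is proper
    have hpW : IsProper ((W.ι ≫ q).fiberToSpecResidueField clA) := by
      obtain ⟨e, he, hee⟩ := ConsPropLib.exists_fibre_pullback sq clA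
      let Oy : (f.fiber (g clA)).Opens := (f.fiberι (g clA)) ⁻¹ᵁ ⟨O, hOo⟩
      have hOy : IsProper (Oy.ι ≫ f.fiberToSpecResidueField (g clA)) := by
        have hgc : g clA = y' := hg
        subst hgc
        exact (show Oy = ⟨(f.fiberι (g clA)).base ⁻¹' Z, hO⟩ from TopologicalSpace.Opens.ext hOZ) ▸ hprop
      let O2 := e ⁻¹ᵁ Oy
      have hO2 : IsProper (O2.ι ≫ q.fiberToSpecResidueField clA) :=
        MorphismProperty.of_isPullback ((isPullback_morphismRestrict e Oy).paste_vert he) hOy
      let j : (W.ι ≫ q).fiber clA ⟶ q.fiber clA :=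
        pullback.lift ((W.ι ≫ q).fiberι clA ≫ W.ι) ((W.ι ≫ q).fiberToSpecResidueField clA)
          (by rw [Category.assoc]; exact pullback.condition)
      have hj1 : j ≫ q.fiberι clA = (W.ι ≫ q).fiberι clA ≫ W.ι := pullback.lift_fst _ _ _
      have hj2 : j ≫ q.fiberToSpecResidueField clA = (W.ι ≫ q).fiberToSpecResidueField clA := pullback.lift_snd _ _ _
      have sqj : IsPullback ((W.ι ≫ q).fiberι clA) j W.ι (q.fiberι clA) :=
        IsPullback.of_bot (by rw [show j ≫ pullback.snd q _ = (W.ι ≫ q).fiberToSpecResidueField clA from hj2]; exact IsPullback.of_hasPullback (W.ι ≫ q) _) hj1.symm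
          (IsPullback.of_hasPullback q _)
      haveI : IsOpenImmersion j := MorphismProperty.of_isPullback sqj inferInstance
      have hrange : Set.range j = Set.range O2.ι := by
        rw [Scheme.Opens.range_ι]
        ext v
        have hv : q (q.fiberι clA v) = clA := (q.range_fiberι clA).le ⟨v, rfl⟩
        have hve : v ∈ O2 ↔ p (q.fiberι clA v) ∈ Z := by
          rw [← hOZ' _ (hpq _ hv)]
          show f.fiberι (g clA) (e v) ∈ O ↔ _
          rw [← Scheme.Hom.comp_apply e, hee, Scheme.Hom.comp_apply]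
        constructor
        · rintro ⟨w, rfl⟩
          refine hve.2 ((hW _ hv).1 ?_)
          rw [← Scheme.Hom.comp_apply, hj1]
          exact ((W.ι ≫ q).fiberι clA w).2
        · intro h
          have hw : q.fiberι clA v ∈ W := (hW _ hv).2 (hve.1 h)
          obtain ⟨w, hw'⟩ : (⟨_, hw⟩ : (W : Scheme.{u})) ∈ Set.range ((W.ι ≫ q).fiberι clA) := by
            rw [(W.ι ≫ q).range_fiberι]
            exact hv
          refine ⟨w, (q.fiberι clA).isEmbedding.injective ?_⟩
          rw [← Scheme.Hom.comp_apply, hj1, Scheme.Hom.comp_apply, hw']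
          rfl
      let i := IsOpenImmersion.isoOfRangeEq j O2.ι hrange
      rw [← hj2, ← IsOpenImmersion.isoOfRangeEq_hom_fac j O2.ι hrange, Category.assoc]
      exact (MorphismProperty.cancel_left_of_respectsIso @IsProper _ _).2 hO2
    let G : Set ↥(pullback f g) := p ⁻¹' Z ∩ q ⁻¹' {ProperAt5.gen A}
    have hconnG : ∀ (T : Scheme.{u}) (π : T ⟶ Spec (CommRingCat.of A)) (b : T), π b = ProperAt5.gen A →
        _root_.IsPreconnected ((pullback.snd q π) ⁻¹' {b} ∩ (pullback.fst q π) ⁻¹' G) := by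
      intro T π b hb
      have h5 := ProperAt5.preconnected_base_change
        ((IsPullback.of_hasPullback q π).paste_horiz sq) Z b
        fun K fK aK => @(h1 ((π ≫ g) b) (by rw [Scheme.Hom.comp_apply]; exact hgy _)).2 K fK aK
      refine Eq.mp (congrArg _root_.IsPreconnected ?_) h5
      ext v
      constructor
      · rintro ⟨hv, hvZ⟩
        refine ⟨hv, hvZ, ?_⟩
        show q (pullback.fst q π v) = ProperAt5.gen A
        rw [← Scheme.Hom.comp_apply, pullback.condition, Scheme.Hom.comp_apply, show pullback.snd q π v = b from hv, hb]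
      · rintro ⟨hv, hvZ, -⟩
        exact ⟨hv, hvZ⟩
    have hmeetG : ∃ z ∈ G, ∃ z₀ ∈ W, z ⤳ z₀ ∧ q z₀ = IsLocalRing.closedPoint A := by
      by_contra! hno
      let Og : (pullback f g).Opens := q ⁻¹ᵁ ⟨{clA}ᶜ, hcl.isOpen_compl⟩
      let Gc : Set ↥(pullback f g) := closure (p ⁻¹' Z ∩ (Og : Set ↥(pullback f g)))
      obtain ⟨V, hV, hVE⟩ := h3 _ g {clA} (by
          rintro _ rfl
          exact hfib _ (hgy clA))
        ⟨Gcᶜ, isClosed_closure.isOpen_compl, by
          ext v
          constructor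
          · rintro ⟨hv, hvZ⟩
            exact ⟨by_contra fun h => hv (subset_closure ⟨hvZ, h⟩), hvZ⟩
          · rintro ⟨hv, hvZ⟩
            refine ⟨fun hG => ?_, hvZ⟩
            obtain ⟨z, ⟨hzZ, hzO⟩, hzv⟩ := ProperAt5.exists_specializes_preimage p hZ Og hG
            exact hno z ⟨hzZ, ProperAt5.eq_gen_of_ne _ hzO⟩ v ((hW v hv).2 hvZ) hzv hv⟩
      have hclV : clA ∈ V := (hVE.ge rfl).1
      have hgV : ProperAt5.gen A ∈ V := (ProperAt5.gen_specializes A clA).mem_open hV hclV
      exact ProperAt5.gen_ne_closedPoint (hVE.le ⟨hgV, hfib _ (hgy _)⟩)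
    let τ := pullback.lift σ (Spec.map (CommRingCat.ofHom (algebraMap A (FractionRing A)))) hσ
    let pt : Spec (CommRingCat.of (FractionRing A)) :=
      (IsLocalRing.closedPoint (FractionRing A) : PrimeSpectrum (FractionRing A))
    have hτG : τ pt ∈ G := by
      refine ⟨?_, ?_⟩
      · show p (τ pt) ∈ Z
        rw [← Scheme.Hom.comp_apply, pullback.lift_fst, hσξ]
        exact hξZ
      · show q (τ pt) = ProperAt5.gen A
        rw [← Scheme.Hom.comp_apply, pullback.lift_snd]
        refine PrimeSpectrum.ext ?_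
        show Ideal.comap (algebraMap A (FractionRing A)) (IsLocalRing.maximalIdeal (FractionRing A)) = (⊥ : Ideal A)
        rw [IsLocalRing.maximalIdeal_eq_bot, ← RingHom.ker_eq_comap_bot,
          (RingHom.injective_iff_ker_eq_bot _).1 (IsFractionRing.injective A (FractionRing A))]
    obtain ⟨s, hs, hsτ, hsW⟩ := ProperAt5.exists_section_of_piece q W hpW G (fun x hx => hx.2) hconnG hmeetG τ
      (x := τ pt) (fun t => congrArg τ (Subsingleton.elim t pt)) hτG (pullback.lift_snd _ _ _)
    refine ⟨s ≫ p, by rw [Category.assoc, sq.w, reassoc_of% hs], by rw [← Category.assoc, hsτ, pullback.lift_fst], ?_⟩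
    rw [Scheme.Hom.comp_apply]
    exact (hW _ (by rw [← Scheme.Hom.comp_apply, hs]; rfl)).1 hsW
  have hmax : ∀ ξ ∈ closure Z, (∀ z ∈ closure Z, z ⤳ ξ → z = ξ) → ξ ∈ Z := fun ξ hξ hm => by
    obtain ⟨z, hz, hzξ⟩ := ProperAt5.exists_specializes_preimage (𝟙 X) hZ ⊤ (x := ξ) (by simpa using hξ)
    exact hm z (subset_closure hz.1) hzξ ▸ hz.1
  obtain ⟨U, hyU, hU⟩ := ProperAt5.exists_proper_closure f Z y fun ξ hξ hm A _ _ _ g hg σ hσξ hσ => by
    obtain ⟨s, hs, hs', -⟩ := key y specializes_rfl hop h2 A g hg σ ξ hσξ (hmax ξ hξ hm) hσ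
    exact ⟨s, hs, hs'⟩
  have hgen : ∀ x ∈ closure Z, f x ⤳ y → x ∈ Z := by
    intro x hx hxy
    obtain ⟨z, hz, hzx⟩ := ProperAt5.exists_specializes_preimage (𝟙 X) hZ ⊤ (x := x) (by simpa using hx)
    by_cases hne : x = z
    · exact hne ▸ hz.1
    have hfU : f x ∈ U := hxy.mem_open U.isOpen hyU
    have hOc := hclop (f x) hxy
    have hprop := ProperAt5.isProper_fibre_piece f Z hfU hU ⟨_, hOc.isOpen⟩ hOc.isClosed fun w hw => subset_closure hw
    obtain ⟨A, h, hA, hh1, hh2⟩ := Proj16.exists_dvr_path (p := 𝟙 X) (x := z) hzx hne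
    obtain ⟨e, he, he'⟩ := Proj16.exists_fractionRing_spec A
    have hgen' : Spec.map (CommRingCat.ofHom (algebraMap A (FractionRing A))) ≫ h = e ≫ X.fromSpecResidueField z := by
      rw [← he', Category.assoc, hh2, Category.comp_id]
    obtain ⟨s, hs, hs', hsZ⟩ := key (f x) hxy hOc.isOpen hprop A (h ≫ f) (by rw [Scheme.Hom.comp_apply, hh1])
      (Spec.map (CommRingCat.ofHom (algebraMap A (FractionRing A))) ≫ h) z
      (fun t => by
        rw [hgen', Scheme.Hom.comp_apply]
        exact Scheme.fromSpecResidueField_apply z _) hz.1 (Category.assoc _ _ _)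
    obtain rfl : s = h := Proj16.dvrUniqueness_of_isSeparated f A _ _ hs hs'
    rwa [hh1] at hsZ
  obtain ⟨V, hVU, hyV, hV⟩ := ProperAt5.exists_nhd_disjoint f hZ U hyU hgen
  have hCeq : (f ⁻¹ᵁ V).ι.base ⁻¹' Z = (f ⁻¹ᵁ V).ι.base ⁻¹' closure Z :=
    Set.ext fun v => ⟨fun h => subset_closure h, fun h => hV _ h v.2⟩
  exact ⟨V, hyV, hCeq ▸ isClosed_closure.preimage (f ⁻¹ᵁ V).ι.continuous,
    ProperAt5.isProper_closure_restrict f Z V (ProperAt5.isProper_restrict_le _ hVU hU) _ hCeq⟩

end Groth.Agent.S4977
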