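import Groth.Statements.S4978
import Groth.Agent.ProperAt5.Subset
import Groth.Agent.ProperAt5.Gen
import Groth.Agent.H23.RedSub
-- import your own Groth.Agent.* helpers here

set_option autoImplicit false
open CategoryTheory AlgebraicGeometry
universe u v w
open EGA43

namespace Groth.Agent.S4978

set_option backward.isDefEq.respectTransparency false
set_option backward.isDefEq.respectTransparency.types false

open CategoryTheory.Limits in
/-- Let Y be a Noetherian scheme, f : X ⟶ Y a separated morphism of finite type, Z a subset of X such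
that every maximal point of the closure of Z belongs to Z, and y a point of Y. Then the closure of Z
is proper over Y at y (for some open U ∋ y, its trace on f⁻¹(U) is proper over U with the reduced
structure) if and only if: for every discrete valuation ring A' and every morphism g : Spec A' ⟶ Y
mapping the closed point to y, every point x' of X' = X ×_Y Spec A' which projects into Z, lies over
the generic point η' of Spec A' and is rational over κ(η') is in the image of some section of X' ⟶
Spec A'. -/
theorem result {X Y : Scheme.{u}} [IsNoetherian Y] (f : X ⟶ Y) [IsSeparated f]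
    [LocallyOfFiniteType f] [QuasiCompact f] (Z : Set X)
    (hZ : ∀ z ∈ closure Z, (∀ z' ∈ closure Z, z ∈ closure {z'} → z' = z) → z ∈ Z) (y : Y) :
    (∃ U : Y.Opens, y ∈ U ∧ ∃ hC : IsClosed ((f ⁻¹ᵁ U).ι.base ⁻¹' closure Z),
      IsProper ((Scheme.IdealSheafData.vanishingIdeal
        (⟨(f ⁻¹ᵁ U).ι.base ⁻¹' closure Z, hC⟩ : TopologicalSpace.Closeds ↥(f ⁻¹ᵁ U))).subschemeι ≫ (f ∣_ U))) ↔
      ∀ (A' : Type u) [CommRing A'] [IsDomain A'] [IsDiscreteValuationRing A'] (g : Spec (CommRingCat.of A') ⟶ Y),
        g.base (IsLocalRing.closedPoint A') = y →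
        ∀ x' : ↥(pullback f g), (pullback.fst f g).base x' ∈ Z →
          (pullback.snd f g).base x' = genericPoint (Spec (CommRingCat.of A')) →
          Function.Bijective ((pullback.snd f g).residueFieldMap x').hom →
          ∃ s : Spec (CommRingCat.of A') ⟶ pullback f g, s ≫ pullback.snd f g = 𝟙 _ ∧ x' ∈ Set.range s.base := by
  classical
  have hpt : ∀ (A : Type u) [CommRing A] [IsDomain A]
      (t : Spec (CommRingCat.of (FractionRing A))),
      Spec.map (CommRingCat.ofHom (algebraMap A (FractionRing A))) t = genericPoint ↥(Spec (CommRingCat.of A)) := by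
    intro A _ _ t
    rw [show genericPoint ↥(Spec (CommRingCat.of A)) = (⟨⊥, Ideal.isPrime_bot⟩ : PrimeSpectrum A) from
      (((genericPoint_spec _).specializes (Set.mem_univ _)).antisymm
        ((PrimeSpectrum.le_iff_specializes (⟨⊥, Ideal.isPrime_bot⟩ : PrimeSpectrum A) _).1 bot_le)).eq]
    refine PrimeSpectrum.ext ?_
    show Ideal.comap (algebraMap A (FractionRing A)) (t : PrimeSpectrum (FractionRing A)).asIdeal = (⊥ : Ideal A)
    rw [(Ideal.eq_bot_or_top _).resolve_right (t : PrimeSpectrum (FractionRing A)).isPrime.ne_top,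
      ← RingHom.ker_eq_comap_bot, (RingHom.injective_iff_ker_eq_bot _).1 (IsFractionRing.injective A (FractionRing A))]
  constructor
  · rintro ⟨U, hyU, hC, hprop⟩ A _ _ _ g hg x' hxZ hxg hrat
    obtain ⟨τ, hτ, hτx⟩ := ProperAt5.exists_point_of_rational (pullback.snd f g)
      (Spec.map (CommRingCat.ofHom (algebraMap A (FractionRing A)))) ((hpt A _).trans hxg.symm) hrat
    have hgU : ∀ v, g v ∈ U := fun v =>
      ((IsLocalRing.specializes_closedPoint (R := A) (v : PrimeSpectrum A)).map g.continuous).mem_open U.isOpen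
        (by show g (IsLocalRing.closedPoint A : PrimeSpectrum A) ∈ U; exact hg.symm ▸ hyU)
    let gU : Spec (CommRingCat.of A) ⟶ U := IsOpenImmersion.lift U.ι g
      (by rw [Scheme.Opens.range_ι]; rintro _ ⟨v, rfl⟩; exact hgU v)
    let C : TopologicalSpace.Closeds (f ⁻¹ᵁ U).toScheme := ⟨(f ⁻¹ᵁ U).ι ⁻¹' closure Z, hC⟩
    let c := (Scheme.IdealSheafData.vanishingIdeal C).subschemeι
    have hσ : ∀ t, (τ ≫ pullback.fst f g) t = pullback.fst f g x' := fun t => by
      rw [Scheme.Hom.comp_apply, hτx]
    have hr : Set.range (τ ≫ pullback.fst f g) ⊆ Set.range (f ⁻¹ᵁ U).ι := by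
      rw [Scheme.Opens.range_ι]
      rintro _ ⟨t, rfl⟩
      show f ((τ ≫ pullback.fst f g) t) ∈ U
      rw [hσ, ← Scheme.Hom.comp_apply, pullback.condition, Scheme.Hom.comp_apply]
      exact hgU _
    let σU := IsOpenImmersion.lift (f ⁻¹ᵁ U).ι (τ ≫ pullback.fst f g) hr
    obtain ⟨l, hl⟩ := ProperAt5.exists_factor_closed σU C (by
      rintro _ ⟨t, rfl⟩
      show (f ⁻¹ᵁ U).ι (σU t) ∈ closure Z
      rw [← Scheme.Hom.comp_apply, IsOpenImmersion.lift_fac, hσ]
      exact subset_closure hxZ)
    haveI : IsProper (c ≫ f ∣_ U) := hprop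
    obtain ⟨m, hm, hma⟩ := Proj16.dvrExistence_of_universallyClosed (c ≫ f ∣_ U) A l gU (by
      rw [← cancel_mono U.ι]
      simp only [gU, c, Category.assoc, morphismRestrict_ι, IsOpenImmersion.lift_fac, reassoc_of% hl, σU,
        IsOpenImmersion.lift_fac_assoc]
      rw [pullback.condition, reassoc_of% hτ])
    have hmf : ((m ≫ c) ≫ (f ⁻¹ᵁ U).ι) ≫ f = g := by
      rw [Category.assoc, ← morphismRestrict_ι, Category.assoc, reassoc_of% hm, IsOpenImmersion.lift_fac]
    refine ⟨pullback.lift _ (𝟙 _) (hmf.trans (Category.id_comp g).symm), pullback.lift_snd _ _ _, ?_⟩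
    have heq : Spec.map (CommRingCat.ofHom (algebraMap A (FractionRing A))) ≫
        pullback.lift _ (𝟙 _) (hmf.trans (Category.id_comp g).symm) = τ := by
      refine pullback.hom_ext ?_ ?_
      · rw [Category.assoc, pullback.lift_fst, ← Category.assoc, ← Category.assoc, hma, hl, IsOpenImmersion.lift_fac]
      · rw [Category.assoc, pullback.lift_snd, Category.comp_id, hτ]
    exact ⟨_, by rw [← Scheme.Hom.comp_apply, heq, hτx (IsLocalRing.closedPoint (FractionRing A) : PrimeSpectrum (FractionRing A))]⟩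
  · intro H
    let K : TopologicalSpace.Closeds X := ⟨closure Z, isClosed_closure⟩
    let c := (Scheme.IdealSheafData.vanishingIdeal K).subschemeι
    have hc : Set.range c = closure Z := DimFormula.range_vanishingIdeal K
    haveI : IsSeparated (c ≫ f) := inferInstance
    obtain ⟨U, hyU, hU⟩ := ProperAt5.exists_isProper_restrict_gen (c ≫ f) y fun ξ hξ A _ _ _ g hg σ hσξ hσ => by
      have hξZ : c ξ ∈ Z := by
        refine hZ _ (hc.le ⟨ξ, rfl⟩) fun z' hz' hspec => ?_
        obtain ⟨v, rfl⟩ : z' ∈ Set.range c := by rw [hc]; exact hz'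
        rw [hξ v (c.isEmbedding.isInducing.specializes_iff.1 (specializes_iff_mem_closure.2 hspec))]
      let a := Spec.map (CommRingCat.ofHom (algebraMap A (FractionRing A)))
      let τ := pullback.lift (σ ≫ c) a (by rw [Category.assoc]; exact hσ)
      let pt : Spec (CommRingCat.of (FractionRing A)) :=
        (IsLocalRing.closedPoint (FractionRing A) : PrimeSpectrum (FractionRing A))
      have hrat := ProperAt5.bijective_residueFieldMap_of_point (pullback.snd f g) τ (x := τ pt) rfl (pullback.lift_snd _ _ _)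
      obtain ⟨s, hs, v, hv⟩ := H A g hg (τ pt)
        (by
          rw [← Scheme.Hom.comp_apply, pullback.lift_fst, Scheme.Hom.comp_apply, hσξ]
          exact hξZ)
        (by rw [← Scheme.Hom.comp_apply, pullback.lift_snd]; exact hpt A pt) hrat
      have hv' : v = genericPoint ↥(Spec (CommRingCat.of A)) := by
        have h1 := congrArg (pullback.snd f g) hv
        rw [← Scheme.Hom.comp_apply, hs, ← Scheme.Hom.comp_apply, pullback.lift_snd] at h1
        exact h1.trans (hpt A pt)
      have has : a ≫ s = τ := ProperAt5.eq_of_rational (pullback.snd f g) hrat _ _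
        (by
          show (a ≫ s) pt = _
          rw [Scheme.Hom.comp_apply, hpt A pt, ← hv', hv]) rfl
        (by rw [Category.assoc, hs, Category.comp_id, pullback.lift_snd])
      obtain ⟨m, hm⟩ := ProperAt5.exists_factor_closed (s ≫ pullback.fst f g) K (by
        rintro _ ⟨w, rfl⟩
        have h1 : (s ≫ pullback.fst f g) v ⤳ (s ≫ pullback.fst f g) w :=
          ((genericPoint_spec ↥(Spec (CommRingCat.of A))).specializes (Set.mem_univ w)).map
            (s ≫ pullback.fst f g).continuous |> (hv' ▸ ·)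
        refine h1.mem_closed isClosed_closure ?_
        rw [Scheme.Hom.comp_apply, hv, ← Scheme.Hom.comp_apply, pullback.lift_fst, Scheme.Hom.comp_apply, hσξ]
        exact subset_closure hξZ)
      refine ⟨m, ?_, ?_⟩
      · rw [reassoc_of% hm, pullback.condition, reassoc_of% hs]
      · rw [← cancel_mono c, Category.assoc, hm, ← Category.assoc, has, pullback.lift_fst]
    refine ⟨U, hyU, isClosed_closure.preimage (Scheme.Hom.continuous _), ?_⟩
    let C : TopologicalSpace.Closeds (f ⁻¹ᵁ U).toScheme :=
      ⟨(f ⁻¹ᵁ U).ι ⁻¹' closure Z, isClosed_closure.preimage (Scheme.Hom.continuous _)⟩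
    let cU := (Scheme.IdealSheafData.vanishingIdeal C).subschemeι
    haveI : IsReduced (Scheme.IdealSheafData.vanishingIdeal K).subscheme := inferInstance
    haveI : IsReduced ((c ⁻¹ᵁ (f ⁻¹ᵁ U) : (Scheme.IdealSheafData.vanishingIdeal K).subscheme.Opens) : Scheme.{u}) := inferInstance
    obtain ⟨l, hl⟩ := ProperAt5.exists_factor_closed (c ∣_ (f ⁻¹ᵁ U)) C (by
      rintro _ ⟨t, rfl⟩
      show (f ⁻¹ᵁ U).ι ((c ∣_ (f ⁻¹ᵁ U)) t) ∈ closure Z
      rw [← Scheme.Hom.comp_apply, morphismRestrict_ι, Scheme.Hom.comp_apply]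
      exact hc.le ⟨_, rfl⟩)
    haveI : Surjective l := ⟨fun w => by
      have hw : (f ⁻¹ᵁ U).ι (cU w) ∈ closure Z := (DimFormula.range_vanishingIdeal C).le ⟨w, rfl⟩
      obtain ⟨v, hv⟩ : (f ⁻¹ᵁ U).ι (cU w) ∈ Set.range c := by rw [hc]; exact hw
      refine ⟨⟨v, by show c v ∈ f ⁻¹ᵁ U; rw [hv]; exact (cU w).2⟩, cU.isEmbedding.injective ?_⟩
      rw [← Scheme.Hom.comp_apply, hl]
      exact Subtype.ext ((morphismRestrict_base_coe _ _ _).trans hv)⟩
    show IsProper (cU ≫ f ∣_ U)
    haveI : UniversallyClosed (l ≫ cU ≫ f ∣_ U) := by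
      rw [reassoc_of% hl, ← morphismRestrict_comp]
      exact hU.toUniversallyClosed
    haveI : UniversallyClosed (cU ≫ f ∣_ U) := UniversallyClosed.of_comp_surjective l (cU ≫ f ∣_ U)
    haveI : IsSeparated (f ∣_ U) := IsZariskiLocalAtTarget.restrict ‹_› _
    haveI : LocallyOfFiniteType (f ∣_ U) := IsZariskiLocalAtTarget.restrict ‹_› _
    exact {}

end Groth.Agent.S4978
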