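import Groth.Statements.S4980
import Groth.Agent.SpFlat5.Sum

set_option autoImplicit false
open CategoryTheory AlgebraicGeometry
universe u v w
open EGA43

namespace Groth.Agent.S4980

/-- Let A be a discrete valuation ring, Y = Spec A with closed point y and generic point y', f : X ⟶ Y a
proper morphism and F a coherent O_X-module which is f-flat; write F_y, F_{y'} for the restrictions
of F to the two fibres and suppose F_y has no embedded associated point. Then the sum, over the
maximal points z' of Supp(F_{y'}), of the lengths of the stalks (F_{y'})_{z'} is at most the sum,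
over the maximal points z of Supp(F_y), of the lengths of the stalks (F_y)_z (lengths over the local
rings of the fibres). -/
theorem result {A : Type u} [CommRing A] [IsDomain A]
    [IsDiscreteValuationRing A] {X : Scheme.{u}} (f : X ⟶ Spec (CommRingCat.of A)) [IsProper f] (F : X.Modules)
    (hF : Coh.IsCoh F) (hflat : FlatMod.IsFlatOver f F)
    (hemb : AssSch.NoEmbedded ((Scheme.Modules.pullback (f.fiberι (IsLocalRing.closedPoint A))).obj F)) :
    letI y : ↥(Spec (CommRingCat.of A)) := IsLocalRing.closedPoint A
    letI y' : ↥(Spec (CommRingCat.of A)) := genericPoint (Spec (CommRingCat.of A))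
    ∑ᶠ z' : {v : ↥(f.fiber y') // Nontrivial (((Scheme.Modules.pullback (f.fiberι y')).obj F).presheaf.stalk v) ∧
        ∀ w : ↥(f.fiber y'), Nontrivial (((Scheme.Modules.pullback (f.fiberι y')).obj F).presheaf.stalk w) → v ∈ closure {w} → w = v},
        Module.length ((f.fiber y').presheaf.stalk z'.1) (((Scheme.Modules.pullback (f.fiberι y')).obj F).presheaf.stalk z'.1) ≤
      ∑ᶠ z : {v : ↥(f.fiber y) // Nontrivial (((Scheme.Modules.pullback (f.fiberι y)).obj F).presheaf.stalk v) ∧
        ∀ w : ↥(f.fiber y), Nontrivial (((Scheme.Modules.pullback (f.fiberι y)).obj F).presheaf.stalk w) → v ∈ closure {w} → w = v},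
        Module.length ((f.fiber y).presheaf.stalk z.1) (((Scheme.Modules.pullback (f.fiberι y)).obj F).presheaf.stalk z.1) := by
    haveI : IsLocallyNoetherian X := LocallyOfFiniteType.isLocallyNoetherian f
    exact SpFlat5.sum_length_le f hF hflat hemb

end Groth.Agent.S4980
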