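import Groth.Statements.S4981
import Groth.Agent.UnivOpen.Criterion
import Groth.Agent.UnivOpenDvr5.Core
import Groth.Agent.S4514

set_option autoImplicit false
open CategoryTheory Limits AlgebraicGeometry
universe u v w
open EGA43

namespace Groth.Agent.S4981

/-- Let Y be a locally Noetherian scheme, f : X ⟶ Y a morphism locally of finite type, y a point of Y
and x a point of the fibre X_y. Then f is universally open at x if and only if the following holds:
for every complete discrete valuation ring A with algebraically closed residue field k, every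
morphism g : Spec A ⟶ Y sending the closed point to y, and every Y-morphism u₀ : Spec k ⟶ X with
image x, there exist a discrete valuation ring B which is a finite A-algebra through a local
homomorphism φ : A → B, and a Y-morphism u : Spec B ⟶ X, such that the restriction of u to the
closed point Spec κ(B) equals u₀ composed with the morphism Spec κ(B) ⟶ Spec k. -/
theorem result {X Y : Scheme.{u}} [IsLocallyNoetherian Y]
    (f : X ⟶ Y) [LocallyOfFiniteType f] (x : X) :
    EGA43.IsUnivOpenAt f x ↔
      ∀ (A : Type u) [CommRing A] [IsDomain A] [IsDiscreteValuationRing A]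
        [IsAdicComplete (IsLocalRing.maximalIdeal A) A] [IsAlgClosed (IsLocalRing.ResidueField A)]
        (g : Spec (CommRingCat.of A) ⟶ Y), g.base (IsLocalRing.closedPoint A) = f.base x →
        ∀ u₀ : Spec (CommRingCat.of (IsLocalRing.ResidueField A)) ⟶ X,
          u₀ ≫ f = Spec.map (CommRingCat.ofHom (IsLocalRing.residue A)) ≫ g → x ∈ Set.range u₀.base →
          ∃ (B : CommRingCat.{u}) (_ : IsDomain B) (_ : IsDiscreteValuationRing B) (φ : A →+* B)
            (_ : IsLocalHom φ) (v : Spec B ⟶ X),
            φ.Finite ∧ v ≫ f = Spec.map (CommRingCat.ofHom φ) ≫ g ∧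
            Spec.map (CommRingCat.ofHom (IsLocalRing.ResidueField.map φ)) ≫ u₀ =
              Spec.map (CommRingCat.ofHom (IsLocalRing.residue B)) ≫ v := by
  constructor
  · intro h A _ _ _ _ _ g hg u₀ hu₀ hx
    rw [UnivOpen.isUnivOpenAt_iff_dvr] at h
    let w₀ : Spec (CommRingCat.of (IsLocalRing.ResidueField A)) ⟶ pullback f g :=
      pullback.lift u₀ (Spec.map (CommRingCat.ofHom (IsLocalRing.residue A))) hu₀
    let c : Spec (CommRingCat.of (IsLocalRing.ResidueField A)) := IsLocalRing.closedPoint (IsLocalRing.ResidueField A)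
    have hfst : (pullback.fst f g) (w₀ c) = x := by
      obtain ⟨t, rfl⟩ := hx
      haveI : Subsingleton (Spec (CommRingCat.of (IsLocalRing.ResidueField A))) :=
        inferInstanceAs (Subsingleton (PrimeSpectrum (IsLocalRing.ResidueField A)))
      rw [Subsingleton.elim t c, ← Scheme.Hom.comp_apply]
      exact congrArg (fun h : Spec (CommRingCat.of (IsLocalRing.ResidueField A)) ⟶ X => h c) (pullback.lift_fst _ _ _)
    have hsnd : (pullback.snd f g) (w₀ c) = IsLocalRing.closedPoint A := by
      rw [← Scheme.Hom.comp_apply, pullback.lift_snd]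
      exact IsLocalRing.comap_closedPoint (IsLocalRing.residue A)
    obtain ⟨z', hz, hzne⟩ := h A g hg _ hfst hsnd
    obtain ⟨U, hU, hxU, -⟩ := exists_isAffineOpen_mem_and_subset (x := w₀ c) (U := ⊤) trivial
    have hzU : z' ∈ U := hz.mem_open U.isOpen hxU
    let j := hU.fromSpec
    have hrange : Set.range w₀ ⊆ Set.range j := by
      rintro _ ⟨t, rfl⟩
      haveI : Subsingleton (Spec (CommRingCat.of (IsLocalRing.ResidueField A))) :=
        inferInstanceAs (Subsingleton (PrimeSpectrum (IsLocalRing.ResidueField A)))
      rw [Subsingleton.elim t c, hU.range_fromSpec]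
      exact hxU
    let ψh := Spec.preimage (IsOpenImmersion.lift j w₀ hrange)
    let φR := Spec.preimage (j ≫ pullback.snd f g)
    have hψ : Spec.map ψh ≫ j = w₀ := by
      rw [Spec.map_preimage, IsOpenImmersion.lift_fac]
    have hφR : Spec.map φR = j ≫ pullback.snd f g := Spec.map_preimage _
    letI : Algebra A Γ(pullback f g, U) := φR.hom.toAlgebra
    haveI : Algebra.FiniteType A Γ(pullback f g, U) := by
      have h1 : LocallyOfFiniteType (Spec.map φR) := by rw [hφR]; infer_instance
      exact (HasRingHomProperty.Spec_iff (P := @LocallyOfFiniteType)).1 h1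
    have hres : φR ≫ ψh = CommRingCat.ofHom (IsLocalRing.residue A) := by
      refine Spec.map_injective ?_
      rw [Spec.map_comp, hφR, reassoc_of% hψ, pullback.lift_snd]
    let ψ : Γ(pullback f g, U) →ₐ[A] IsLocalRing.ResidueField A :=
      { ψh.hom with commutes' := fun a => congr($(hres).hom a) }
    obtain ⟨z'', hz''⟩ : z' ∈ Set.range j := by rw [hU.range_fromSpec]; exact hzU
    have hle : (z'' : PrimeSpectrum Γ(pullback f g, U)).asIdeal ≤ RingHom.ker ψ := by
      have h1 : z'' ⤳ Spec.map ψh c := j.isOpenEmbedding.isInducing.specializes_iff.1 (by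
        rw [hz'', ← Scheme.Hom.comp_apply, hψ]; exact hz)
      have h2 : (z'' : PrimeSpectrum Γ(pullback f g, U)).asIdeal ≤
          ((Spec.map ψh c : Spec Γ(pullback f g, U)) : PrimeSpectrum Γ(pullback f g, U)).asIdeal :=
        (PrimeSpectrum.le_iff_specializes _ _).2 h1
      intro r hr
      have h3 : ψh.hom r ∈ IsLocalRing.maximalIdeal (IsLocalRing.ResidueField A) := h2 hr
      rw [IsLocalRing.maximalIdeal_eq_bot, Ideal.mem_bot] at h3
      exact h3
    haveI := (z'' : PrimeSpectrum Γ(pullback f g, U)).isPrime
    obtain ⟨B, hB1, hB2, φ, hφ, χ, hfin, hχ, hr⟩ := UnivOpenDvr5.exists_dvr_section ψ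
      (z'' : PrimeSpectrum Γ(pullback f g, U)).asIdeal hle (fun e => hzne (by
        rw [← hz'', ← Scheme.Hom.comp_apply, ← hφR]
        exact PrimeSpectrum.ext e))
    refine ⟨B, hB1, hB2, φ, hφ, Spec.map (CommRingCat.ofHom χ) ≫ j ≫ pullback.fst f g, hfin, ?_, ?_⟩
    · rw [Category.assoc, Category.assoc, pullback.condition, ← reassoc_of% hφR, ← Spec.map_comp_assoc]
      congr 2
      exact CommRingCat.hom_ext hχ
    · have hu : u₀ = Spec.map ψh ≫ j ≫ pullback.fst f g := by
        rw [reassoc_of% hψ, pullback.lift_fst]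
      rw [hu, ← Spec.map_comp_assoc, ← Spec.map_comp_assoc]
      congr 2
      ext r
      exact (hr r).symm
  · intro h
    rw [UnivOpen.isUnivOpenAt_iff_dvr]
    intro A _ _ _ g hg x' hx' hxc
    let κ := (pullback f g).residueField x'
    let αh := Spec.preimage ((pullback f g).fromSpecResidueField x' ≫ pullback.snd f g)
    have hαh : Spec.map αh = (pullback f g).fromSpecResidueField x' ≫ pullback.snd f g := Spec.map_preimage _
    let α : A →+* κ := αh.hom
    haveI : IsLocalHom α := by
      have h1 : PrimeSpectrum.comap α (IsLocalRing.closedPoint κ) = IsLocalRing.closedPoint A := by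
        show Spec.map αh _ = _
        rw [hαh, Scheme.Hom.comp_apply, Scheme.fromSpecResidueField_apply, hxc]
      exact ⟨fun a ha => by_contra fun hna => by
        have h2 : a ∈ (PrimeSpectrum.comap α (IsLocalRing.closedPoint κ)).asIdeal := by rw [h1]; exact hna
        exact h2 ha⟩
    let k' := AlgebraicClosure κ
    let ρ : IsLocalRing.ResidueField A →+* k' := (algebraMap κ k').comp (IsLocalRing.ResidueField.lift α)
    letI : Algebra (IsLocalRing.ResidueField A) k' := ρ.toAlgebra
    haveI : IsAdicComplete (IsLocalRing.maximalIdeal k') k' := by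
      rw [IsLocalRing.maximalIdeal_eq_bot]; infer_instance
    obtain ⟨A', _, _, _, _, _, hA'c, hA'f, ⟨e⟩⟩ := Groth.Agent.S4514.result (A := A) k'
    obtain ⟨hdom, hdvr, ε, hεA⟩ := UnivOpenDvr5.dvr_of_flat_field e
    haveI := hdom
    haveI := hdvr
    haveI := hA'c
    haveI : IsAlgClosed (IsLocalRing.ResidueField A') := IsAlgClosed.of_ringEquiv k' _ ε.symm
    let a : A →+* A' := algebraMap A A'
    let ψ₀ : κ →+* IsLocalRing.ResidueField A' := ε.symm.toRingHom.comp (algebraMap κ k')
    let u₀ := Spec.map (CommRingCat.ofHom ψ₀) ≫ (pullback f g).fromSpecResidueField x' ≫ pullback.fst f g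
    have hψα : αh ≫ CommRingCat.ofHom ψ₀ = CommRingCat.ofHom a ≫ CommRingCat.ofHom (IsLocalRing.residue A') := by
      ext r
      show ε.symm (algebraMap κ k' (α r)) = IsLocalRing.residue A' (a r)
      rw [RingEquiv.symm_apply_eq, hεA]
      rfl
    have hu₀ : u₀ ≫ f = Spec.map (CommRingCat.ofHom (IsLocalRing.residue A')) ≫ Spec.map (CommRingCat.ofHom a) ≫ g := by
      simp only [u₀, Category.assoc, pullback.condition]
      rw [← reassoc_of% hαh]
      exact (Spec.map_comp_assoc _ _ _).symm.trans
        ((congrArg (fun h => Spec.map h ≫ g) hψα).trans (Spec.map_comp_assoc _ _ _))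
    have hclosed : Spec.map (CommRingCat.ofHom a) (IsLocalRing.closedPoint A') = IsLocalRing.closedPoint A :=
      IsLocalRing.comap_closedPoint a
    obtain ⟨B, _, _, φ, _, v, hfin, hv, hres⟩ := h A' (Spec.map (CommRingCat.ofHom a) ≫ g)
      ((congrArg g.base hclosed).trans hg) u₀ hu₀
      ⟨IsLocalRing.closedPoint (IsLocalRing.ResidueField A'),
        (congrArg (pullback.fst f g).base (Scheme.fromSpecResidueField_apply _ _)).trans hx'⟩
    let w : Spec B ⟶ pullback f g :=
      pullback.lift v (Spec.map (CommRingCat.ofHom (φ.comp a))) (by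
        rw [hv, CommRingCat.ofHom_comp, Spec.map_comp_assoc])
    have hw : Spec.map (CommRingCat.ofHom (IsLocalRing.residue B)) ≫ w =
        Spec.map (CommRingCat.ofHom (IsLocalRing.ResidueField.map φ)) ≫ Spec.map (CommRingCat.ofHom ψ₀) ≫
          (pullback f g).fromSpecResidueField x' := by
      refine pullback.hom_ext ?_ ?_
      · simp only [w, Category.assoc, pullback.lift_fst]
        exact hres.symm
      · simp only [w, Category.assoc, pullback.lift_snd]
        rw [← hαh, ← Spec.map_comp]
        refine Eq.trans ?_ ((congrArg (fun h => Spec.map (CommRingCat.ofHom (IsLocalRing.ResidueField.map φ)) ≫ h)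
          ((congrArg Spec.map hψα).symm.trans (Spec.map_comp _ _))))
        rw [← Spec.map_comp]
        congr 1
    let t : Spec (CommRingCat.of (IsLocalRing.ResidueField B)) := IsLocalRing.closedPoint (IsLocalRing.ResidueField B)
    have hwc : w (IsLocalRing.closedPoint B) = x' := by
      have h1 := congrArg (fun h : Spec (CommRingCat.of (IsLocalRing.ResidueField B)) ⟶ pullback f g => h t) hw
      simp only [Scheme.Hom.comp_apply, Scheme.fromSpecResidueField_apply] at h1
      rw [show Spec.map (CommRingCat.ofHom (IsLocalRing.residue B)) t = IsLocalRing.closedPoint B from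
        IsLocalRing.comap_closedPoint (IsLocalRing.residue B)] at h1
      exact h1.trans (Scheme.fromSpecResidueField_apply _ _)
    let η : Spec B := (⟨⊥, Ideal.isPrime_bot⟩ : PrimeSpectrum B)
    have hη : η ⤳ IsLocalRing.closedPoint B :=
      (PrimeSpectrum.le_iff_specializes (⟨⊥, Ideal.isPrime_bot⟩ : PrimeSpectrum B)
        (IsLocalRing.closedPoint B)).1 bot_le
    refine ⟨w η, hwc ▸ hη.map w.continuous, fun hc => ?_⟩
    have h1 : (pullback.snd f g) (w η) = Spec.map (CommRingCat.ofHom (φ.comp a)) η := by
      rw [← Scheme.Hom.comp_apply, pullback.lift_snd]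
    obtain ⟨π, hπ⟩ := IsDiscreteValuationRing.exists_irreducible A
    have h2 : φ (a π) = 0 := by
      have h4 : (PrimeSpectrum.comap (φ.comp a) ⟨⊥, Ideal.isPrime_bot⟩).asIdeal = IsLocalRing.maximalIdeal A :=
        congrArg PrimeSpectrum.asIdeal (h1.symm.trans hc)
      have h5 : π ∈ IsLocalRing.maximalIdeal A := by rw [hπ.maximalIdeal_eq]; exact Ideal.mem_span_singleton_self π
      rw [← h4] at h5
      exact h5
    exact hπ.ne_zero (FaithfulSMul.algebraMap_injective A A' (by
      rw [map_zero]; exact UnivOpenDvr5.injective_of_finite φ hfin (by rw [map_zero]; exact h2)))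

end Groth.Agent.S4981
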