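import Groth.Statements.S4986
import Groth.Agent.DimFormula.ClosedSub

set_option autoImplicit false
open CategoryTheory AlgebraicGeometry
universe u v w
open EGA43

namespace Groth.Agent.S4986

/-- Let Y be locally Noetherian, f : X ⟶ Y of finite type, x ∈ X, y = f x, X' an irreducible closed
subset containing x with its reduced structure, Y' the closure of f(X') with its reduced structure
and generic point η', and A, B, A', B' the local rings of Y at y, of X at x, of Y' at y and of X' at
x. Suppose dim B = dim A + dim(B ⊗ κ(y)). Then X' satisfies the four conditions (i) dim A' = dim A,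
(ii) dim_x(X' ∩ X_y) = dim_x(X_y), (iii) X' equidimensional over Y' at x, (iv) dim B' = dim A' +
dim(B' ⊗ κ(y)), if and only if dim B' = dim B. -/
theorem result {X Y : Scheme.{u}} [IsLocallyNoetherian Y] (f : X ⟶ Y)
    [LocallyOfFiniteType f] [QuasiCompact f] (x : X) (X' : TopologicalSpace.Closeds X) (hirr : IsIrreducible (X' : Set X))
    (hx : x ∈ X') (w : ↥(Scheme.IdealSheafData.vanishingIdeal X').subscheme)
    (hw : (Scheme.IdealSheafData.vanishingIdeal X').subschemeι.base w = x)
    (v : ↥(Scheme.IdealSheafData.vanishingIdeal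
      (⟨closure (f.base '' (X' : Set X)), isClosed_closure⟩ : TopologicalSpace.Closeds Y)).subscheme)
    (hv : (Scheme.IdealSheafData.vanishingIdeal
      (⟨closure (f.base '' (X' : Set X)), isClosed_closure⟩ : TopologicalSpace.Closeds Y)).subschemeι.base v = f.base x)
    (η' : Y) (hη' : closure ({η'} : Set Y) = closure (f.base '' (X' : Set X))) :
    letI ιX := (Scheme.IdealSheafData.vanishingIdeal X').subschemeι
    letI dA := ringKrullDim (Y.presheaf.stalk (f.base x))
    letI dB := ringKrullDim (X.presheaf.stalk x)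
    letI dA' := ringKrullDim ((Scheme.IdealSheafData.vanishingIdeal
      (⟨closure (f.base '' (X' : Set X)), isClosed_closure⟩ : TopologicalSpace.Closeds Y)).subscheme.presheaf.stalk v)
    letI dB' := ringKrullDim ((Scheme.IdealSheafData.vanishingIdeal X').subscheme.presheaf.stalk w)
    letI dBk := ringKrullDim ((f.fiber (f.base x)).presheaf.stalk (f.asFiber x))
    letI dB'k := ringKrullDim (((ιX ≫ f).fiber ((ιX ≫ f).base w)).presheaf.stalk ((ιX ≫ f).asFiber w))
    letI e' := topologicalKrullDim ↥((X' : Set X) ∩ f.base ⁻¹' {η'})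
    dB = dA + dBk →
      ((dA' = dA ∧ FlatMor.localDim ↥((X' : Set X) ∩ f.base ⁻¹' {f.base x}) ⟨x, ⟨hx, rfl⟩⟩ = FlatMor.fibreDimAt f x ∧
        FlatMor.fibreDimAt (ιX ≫ f) w = e' ∧ dB' = dA' + dB'k) ↔ dB' = dB) := by
  haveI := LocallyOfFiniteType.isLocallyNoetherian f
  have hjr : Set.range (Scheme.IdealSheafData.vanishingIdeal X').subschemeι = (X' : Set X) := DimFormula.range_vanishingIdeal X'
  have hkr : Set.range (Scheme.IdealSheafData.vanishingIdeal (⟨closure (f.base '' (X' : Set X)), isClosed_closure⟩ : TopologicalSpace.Closeds Y)).subschemeι = closure (f.base '' (X' : Set X)) := DimFormula.range_vanishingIdeal _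
  haveI : IsLocallyNoetherian (Scheme.IdealSheafData.vanishingIdeal X').subscheme := LocallyOfFiniteType.isLocallyNoetherian (Scheme.IdealSheafData.vanishingIdeal X').subschemeι
  haveI : IsLocallyNoetherian (Scheme.IdealSheafData.vanishingIdeal (⟨closure (f.base '' (X' : Set X)), isClosed_closure⟩ : TopologicalSpace.Closeds Y)).subscheme := LocallyOfFiniteType.isLocallyNoetherian (Scheme.IdealSheafData.vanishingIdeal (⟨closure (f.base '' (X' : Set X)), isClosed_closure⟩ : TopologicalSpace.Closeds Y)).subschemeι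
  obtain ⟨ξ, hξ⟩ : ∃ ξ, closure ({ξ} : Set X) = (X' : Set X) :=
    ⟨hirr.genericPoint, (hirr.isGenericPoint_genericPoint X'.isClosed).def⟩
  have hξx : ξ ⤳ x := specializes_iff_mem_closure.2 (hξ.ge hx)
  have hfξ : f ξ = η' := by
    have h1 : IsGenericPoint (f ξ) (closure (f.base '' (X' : Set X))) := by
      have h0 := (show IsGenericPoint ξ (X' : Set X) from hξ).image f.continuous
      exact h0
    exact h1.eq hη'
  have e1 := (DimFormula.cd_formula f hξx).1
  rw [hfξ] at e1
  have e2 : DimFormula.cd η' (f x) ≤ DimFormula.codim (f x) :=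
    DimFormula.cd_le_codim (hfξ ▸ hξx.map f.continuous)
  have e3 := DimFormula.fb_closedSub_le f (Scheme.IdealSheafData.vanishingIdeal X').subschemeι w
  rw [hw] at e3
  have e4 : FibDim.rd f ξ ≤ FibDim.rd f x + DimFormula.fb ((Scheme.IdealSheafData.vanishingIdeal X').subschemeι ≫ f) w := by
    obtain ⟨a, ha⟩ : ξ ∈ Set.range (Scheme.IdealSheafData.vanishingIdeal X').subschemeι := hjr ▸ hξ ▸ subset_closure rfl
    have haw : a ⤳ w := by
      rw [← (Scheme.IdealSheafData.vanishingIdeal X').subschemeι.isClosedEmbedding.isEmbedding.isInducing.specializes_iff, ha, hw]; exact hξx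
    have := DimFormula.rd_le_of_specializes' ((Scheme.IdealSheafData.vanishingIdeal X').subschemeι ≫ f) haw
    rwa [DimFormula.rd_closedSub, DimFormula.rd_closedSub, ha, hw] at this
  have rA : ringKrullDim (Y.presheaf.stalk (f.base x)) = (DimFormula.codim (f x) : WithBot ℕ∞) := DimFormula.ringKrullDim_stalk _
  have rB : ringKrullDim (X.presheaf.stalk x) = (DimFormula.codim x : WithBot ℕ∞) := DimFormula.ringKrullDim_stalk _
  have rA' : ringKrullDim ((Scheme.IdealSheafData.vanishingIdeal (⟨closure (f.base '' (X' : Set X)), isClosed_closure⟩ : TopologicalSpace.Closeds Y)).subscheme.presheaf.stalk v) = (DimFormula.cd η' (f x) : WithBot ℕ∞) :=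
    (DimFormula.ringKrullDim_stalk v).trans (congrArg _ ((DimFormula.codim_closedSub_irreducible (Scheme.IdealSheafData.vanishingIdeal (⟨closure (f.base '' (X' : Set X)), isClosed_closure⟩ : TopologicalSpace.Closeds Y)).subschemeι
      (hη'.trans hkr.symm)).trans (congrArg _ hv)))
  have rB' : ringKrullDim ((Scheme.IdealSheafData.vanishingIdeal X').subscheme.presheaf.stalk w) = (DimFormula.cd ξ x : WithBot ℕ∞) :=
    (DimFormula.ringKrullDim_stalk w).trans (congrArg _ ((DimFormula.codim_closedSub_irreducible (Scheme.IdealSheafData.vanishingIdeal X').subschemeι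
      (hξ.trans hjr.symm)).trans (congrArg _ hw)))
  have rk : ringKrullDim ((f.fiber (f.base x)).presheaf.stalk (f.asFiber x)) = (DimFormula.fb f x : WithBot ℕ∞) := DimFormula.ringKrullDim_stalk_fibre f x
  have rk' : ringKrullDim ((((Scheme.IdealSheafData.vanishingIdeal X').subschemeι ≫ f).fiber (((Scheme.IdealSheafData.vanishingIdeal X').subschemeι ≫ f).base w)).presheaf.stalk (((Scheme.IdealSheafData.vanishingIdeal X').subschemeι ≫ f).asFiber w)) = (DimFormula.fb ((Scheme.IdealSheafData.vanishingIdeal X').subschemeι ≫ f) w : WithBot ℕ∞) := DimFormula.ringKrullDim_stalk_fibre ((Scheme.IdealSheafData.vanishingIdeal X').subschemeι ≫ f) w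
  have re : topologicalKrullDim ↥((X' : Set X) ∩ f.base ⁻¹' {η'}) = (FibDim.rd f ξ : WithBot ℕ∞) := by
    rw [← hξ, ← hfξ, FibDim.dim_closure_inter]
    rfl
  have rf : FlatMor.fibreDimAt ((Scheme.IdealSheafData.vanishingIdeal X').subschemeι ≫ f) w = ((FibDim.rd f x + DimFormula.fb ((Scheme.IdealSheafData.vanishingIdeal X').subschemeι ≫ f) w : ℕ) : WithBot ℕ∞) := by
    rw [DimFormula.fibreDimAt_eq_add, DimFormula.rd_closedSub, hw]
    rfl
  have rl := DimFormula.localDim_inter_fibre f (Scheme.IdealSheafData.vanishingIdeal X').subschemeι hjr w hw ⟨hx, rfl⟩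
  have rg := DimFormula.fibreDimAt_eq_add f x
  intro hB
  rw [rA, rB, rk] at hB
  rw [rl, rg]
  simp only [rA, rA', rB, rB', rk', re, rf]
  norm_cast at hB ⊢
  omega

end Groth.Agent.S4986
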