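import Groth.Statements.S4987
import Mathlib

set_option autoImplicit false
universe u
open CategoryTheory CategoryTheory.Limits AlgebraicGeometry TopologicalSpace
open Unram17

namespace Groth.Agent.S4987

/-- Let h : Y ⟶ S be formally unramified and locally of finite type, let f, g : X ⟶ Y be two morphisms
over S whose common composite X ⟶ S is closed as a map of topological spaces, and let s be a point
of S such that f and g have the same restriction to the scheme-theoretic fibre of X over s. Then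
there is an open neighbourhood V of s such that f and g agree on the preimage of V. -/
theorem result {X Y S : Scheme.{u}} (h : Y ⟶ S)
    [FormallyUnramified h] [LocallyOfFiniteType h] (f g : X ⟶ Y) (w : g ≫ h = f ≫ h)
    (hc : IsClosedMap (f ≫ h).base) (s : ↥S)
    (hs : (f ≫ h).fiberι s ≫ f = (f ≫ h).fiberι s ≫ g) :
    ∃ V : S.Opens, s ∈ V ∧ ((f ≫ h) ⁻¹ᵁ V).ι ≫ f = ((f ≫ h) ⁻¹ᵁ V).ι ≫ g := by
  have hpre : IsOpenImmersion (Limits.pullback.diagonal h) := inferInstance
  let L : X ⟶ Limits.pullback.diagonalObj h := Limits.pullback.lift f g w.symm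
  let U : X.Opens := L ⁻¹ᵁ (Limits.pullback.diagonal h).opensRange
  have hU : U.ι ≫ f = U.ι ≫ g := by
    have hrange : Set.range (U.ι ≫ L).base ⊆ Set.range (Limits.pullback.diagonal h).base := by
      rintro _ ⟨x, rfl⟩
      exact x.2
    let ℓ := IsOpenImmersion.lift (Limits.pullback.diagonal h) (U.ι ≫ L) hrange
    have e : ℓ ≫ Limits.pullback.diagonal h = U.ι ≫ L := IsOpenImmersion.lift_fac _ _ _
    have e1 := congrArg (fun φ => φ ≫ Limits.pullback.fst h h) e
    have e2 := congrArg (fun φ => φ ≫ Limits.pullback.snd h h) e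
    simp only [Category.assoc, Limits.pullback.diagonal_fst, Limits.pullback.diagonal_snd, Category.comp_id, L,
      Limits.pullback.lift_fst, Limits.pullback.lift_snd] at e1 e2
    exact e1.symm.trans e2
  have hfib : ∀ x : X, (f ≫ h) x = s → x ∈ U := by
    intro x hx
    have hmem : x ∈ Set.range ((f ≫ h).fiberι s) := by
      rw [Scheme.Hom.range_fiberι]; exact hx
    obtain ⟨y, rfl⟩ := hmem
    refine ⟨((f ≫ h).fiberι s ≫ f) y, ?_⟩
    have e : ((f ≫ h).fiberι s ≫ f) ≫ Limits.pullback.diagonal h = (f ≫ h).fiberι s ≫ L := by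
      apply Limits.pullback.hom_ext
      · simp [L]
        exact congrArg ((f ≫ h).fiberι s ≫ ·) (Limits.pullback.lift_fst f g w.symm).symm
      · simp [L, hs]
        exact congrArg ((f ≫ h).fiberι s ≫ ·) (Limits.pullback.lift_snd f g w.symm).symm
    exact congrArg (fun φ => φ y) e
  let V : S.Opens := ⟨((f ≫ h).base '' (U : Set X)ᶜ)ᶜ, (hc _ U.2.isClosed_compl).isOpen_compl⟩
  have hVU : (f ≫ h) ⁻¹ᵁ V ≤ U := fun x hx => by_contra fun hn => hx ⟨x, hn, rfl⟩
  have hsV : s ∈ V := fun ⟨x, hxU, hx⟩ => hxU (hfib x hx)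
  have hVeq : ((f ≫ h) ⁻¹ᵁ V).ι ≫ f = ((f ≫ h) ⁻¹ᵁ V).ι ≫ g := by
    rw [← X.homOfLE_ι hVU, Category.assoc, Category.assoc, hU]
  exact ⟨V, hsV, hVeq⟩

end Groth.Agent.S4987
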