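import Groth.Statements.S4988
import Mathlib

set_option autoImplicit false
universe u
open CategoryTheory CategoryTheory.Limits AlgebraicGeometry TopologicalSpace
open Unram17

namespace Groth.Agent.S4988

/-- Let h : Y ⟶ S be formally unramified, locally of finite type and separated, let f, g : X ⟶ Y be
morphisms over S whose common composite X ⟶ S is both open and closed as a map of topological
spaces, and let s be a point of S. If f and g have the same restriction to the scheme-theoretic
fibre of X over s, then there is an open and closed subset V of S containing s such that f and g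
agree on the preimage of V; in particular f = g when S is connected. -/
theorem result {X Y S : Scheme.{u}} (h : Y ⟶ S)
    [FormallyUnramified h] [LocallyOfFiniteType h] [IsSeparated h]
    (f g : X ⟶ Y) (w : g ≫ h = f ≫ h)
    (ho : IsOpenMap (f ≫ h).base) (hc : IsClosedMap (f ≫ h).base) (s : ↥S)
    (hs : (f ≫ h).fiberι s ≫ f = (f ≫ h).fiberι s ≫ g) :
    ∃ V : S.Opens, IsClosed (V : Set ↥S) ∧ s ∈ V ∧
      ((f ≫ h) ⁻¹ᵁ V).ι ≫ f = ((f ≫ h) ⁻¹ᵁ V).ι ≫ g := by
  have hpre : IsOpenImmersion (Limits.pullback.diagonal h) := inferInstance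
  let L : X ⟶ Limits.pullback.diagonalObj h := Limits.pullback.lift f g w.symm
  let U : X.Opens := L ⁻¹ᵁ (Limits.pullback.diagonal h).opensRange
  have hU : U.ι ≫ f = U.ι ≫ g := by
    have hrange : Set.range (U.ι ≫ L).base ⊆ Set.range (Limits.pullback.diagonal h).base := by
      rintro _ ⟨x, rfl⟩
      exact x.2
    let ℓ := IsOpenImmersion.lift (Limits.pullback.diagonal h) (U.ι ≫ L) hrange
    have e : ℓ ≫ Limits.pullback.diagonal h = U.ι ≫ L := IsOpenImmersion.lift_fac _ _ _
    have e1 := congrArg (fun φ => φ ≫ Limits.pullback.fst h h) e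
    have e2 := congrArg (fun φ => φ ≫ Limits.pullback.snd h h) e
    simp only [Category.assoc, Limits.pullback.diagonal_fst, Limits.pullback.diagonal_snd, Category.comp_id, L,
      Limits.pullback.lift_fst, Limits.pullback.lift_snd] at e1 e2
    exact e1.symm.trans e2
  have hfib : ∀ x : X, (f ≫ h) x = s → x ∈ U := by
    intro x hx
    have hmem : x ∈ Set.range ((f ≫ h).fiberι s) := by
      rw [Scheme.Hom.range_fiberι]; exact hx
    obtain ⟨y, rfl⟩ := hmem
    refine ⟨((f ≫ h).fiberι s ≫ f) y, ?_⟩
    have e : ((f ≫ h).fiberι s ≫ f) ≫ Limits.pullback.diagonal h = (f ≫ h).fiberι s ≫ L := by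
      apply Limits.pullback.hom_ext
      · simp [L]
        exact congrArg ((f ≫ h).fiberι s ≫ ·) (Limits.pullback.lift_fst f g w.symm).symm
      · simp [L, hs]
        exact congrArg ((f ≫ h).fiberι s ≫ ·) (Limits.pullback.lift_snd f g w.symm).symm
    exact congrArg (fun φ => φ y) e
  let V : S.Opens := ⟨((f ≫ h).base '' (U : Set X)ᶜ)ᶜ, (hc _ U.2.isClosed_compl).isOpen_compl⟩
  have hVU : (f ≫ h) ⁻¹ᵁ V ≤ U := fun x hx => by_contra fun hn => hx ⟨x, hn, rfl⟩
  have hsV : s ∈ V := fun ⟨x, hxU, hx⟩ => hxU (hfib x hx)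
  have hVeq : ((f ≫ h) ⁻¹ᵁ V).ι ≫ f = ((f ≫ h) ⁻¹ᵁ V).ι ≫ g := by
    rw [← X.homOfLE_ι hVU, Category.assoc, Category.assoc, hU]
  refine ⟨V, ?_, hsV, hVeq⟩
  have hsep : IsClosedImmersion (Limits.pullback.diagonal h) := inferInstance
  have hUcl : IsClosed (U : Set X) :=
    (Limits.pullback.diagonal h).isClosedEmbedding.isClosed_range.preimage L.continuous
  exact (ho _ hUcl.isOpen_compl).isClosed_compl

end Groth.Agent.S4988
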