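import Groth.Statements.S4990
import Mathlib

set_option autoImplicit false
universe u
open CategoryTheory CategoryTheory.Limits AlgebraicGeometry TopologicalSpace
open Unram17

namespace Groth.Agent.S4990

lemma flat_stalk {U X Y : Scheme.{u}} (g : U ⟶ X) [IsOpenImmersion g] (f : X ⟶ Y) [Flat (g ≫ f)] (y : U) :
    (f.stalkMap (g y)).hom.Flat := by
  have h1 := Flat.stalkMap (g ≫ f) y
  rw [Scheme.Hom.stalkMap_comp] at h1
  exact (RingHom.Flat.respectsIso.cancel_right_isIso (f.stalkMap (g y)) (g.stalkMap y)).1 h1

/-- The dimension formula for a flat local homomorphism of Noetherian local rings. -/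
lemma dim_formula (R S : Type u) [CommRing R] [CommRing S] [IsLocalRing R] [IsLocalRing S] [IsNoetherianRing S] [IsNoetherianRing R]
    (φ : R →+* S) [IsLocalHom φ] (hφ : φ.Flat) :
    ringKrullDim S = ringKrullDim R + ringKrullDim (S ⧸ (IsLocalRing.maximalIdeal R).map φ) := by
  let _ := φ.toAlgebra
  have : Module.Flat R S := hφ
  have hc : (IsLocalRing.maximalIdeal S).comap φ = IsLocalRing.maximalIdeal R :=
    ((IsLocalRing.local_hom_TFAE φ).out 0 4).1 ‹IsLocalHom φ›
  have : (IsLocalRing.maximalIdeal S).LiesOver (IsLocalRing.maximalIdeal R) :=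
    ⟨hc.symm⟩
  have h := Ideal.height_eq_height_add_of_liesOver_of_hasGoingDown
    (IsLocalRing.maximalIdeal R) (IsLocalRing.maximalIdeal S)
  have hne : (IsLocalRing.maximalIdeal R).map φ ≠ ⊤ :=
    ne_top_of_le_ne_top (IsLocalRing.maximalIdeal.isMaximal S).ne_top
      (Ideal.map_le_iff_le_comap.2 hc.ge)
  have : Nontrivial (S ⧸ (IsLocalRing.maximalIdeal R).map φ) := Ideal.Quotient.nontrivial_iff.2 hne
  have : IsLocalRing (S ⧸ (IsLocalRing.maximalIdeal R).map φ) :=
    IsLocalRing.of_surjective' _ Ideal.Quotient.mk_surjective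
  have hm : (IsLocalRing.maximalIdeal S).map (Ideal.Quotient.mk ((IsLocalRing.maximalIdeal R).map φ)) =
      IsLocalRing.maximalIdeal _ :=
    IsLocalRing.map_maximalIdeal_of_surjective _ Ideal.Quotient.mk_surjective
  rw [← IsLocalRing.maximalIdeal_height_eq_ringKrullDim, h, WithBot.coe_add,
    IsLocalRing.maximalIdeal_height_eq_ringKrullDim, RingHom.algebraMap_toAlgebra, hm,
    IsLocalRing.maximalIdeal_height_eq_ringKrullDim]

/-- Let Y be locally Noetherian and f : X ⟶ Y locally of finite type, smooth on an open neighbourhood of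
a point x with image y. Then the Krull dimension of the local ring of X at x is the sum of the Krull
dimension of the local ring of Y at y and of the Krull dimension of the local ring of the fibre, the
quotient of the local ring at x by the extension of the maximal ideal at y. -/
theorem result {X Y : Scheme.{u}} (f : X ⟶ Y)
    [IsLocallyNoetherian Y] [LocallyOfFiniteType f] (x : ↥X)
    (hx : ∃ U : X.Opens, x ∈ U ∧ Smooth (U.ι ≫ f)) :
    ringKrullDim ↑(X.presheaf.stalk x) =
      ringKrullDim ↑(Y.presheaf.stalk (f.base x)) +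
        ringKrullDim (↑(X.presheaf.stalk x) ⧸
          (IsLocalRing.maximalIdeal ↑(Y.presheaf.stalk (f.base x))).map (f.stalkMap x).hom) := by
  obtain ⟨U, hxU, hsm⟩ := hx
  have : IsLocallyNoetherian X := LocallyOfFiniteType.isLocallyNoetherian f
  have hflat : (f.stalkMap x).hom.Flat := flat_stalk U.ι f ⟨x, hxU⟩
  exact dim_formula _ _ _ hflat

end Groth.Agent.S4990
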