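import Groth.Statements.S4996
import Groth.Agent.S4578
import Groth.Agent.GeomReg.Basic
import Groth.Agent.SmoothingLib.GeomRegDiff

set_option autoImplicit false
universe u
open Unram17

namespace Groth.Agent.S4996

open TensorProduct in
/-- Let B be a finitely presented algebra over a commutative ring A. Then B is smooth over A if and only
if B is flat over A and every fibre ring κ(p) ⊗_A B, p a prime of A, is geometrically regular over
the residue field κ(p), i.e. stays a regular ring after base change to any finite extension of κ(p). -/
theorem result (A B : Type u) [CommRing A] [CommRing B]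
    [Algebra A B] [Algebra.FinitePresentation A B] :
    Algebra.Smooth A B ↔
      Module.Flat A B ∧ ∀ (p : Ideal A) [p.IsPrime], CAlg.IsGeometricallyRegular p.ResidueField (p.Fiber B) := by
  constructor
  · intro h
    refine ⟨inferInstance, fun p _ k' _ _ hfin => ?_⟩
    haveI : Algebra.Smooth p.ResidueField (p.Fiber B) :=
      inferInstanceAs (Algebra.Smooth p.ResidueField (p.ResidueField ⊗[A] B))
    exact Groth.Agent.GeomReg.isRegularRing_of_smooth k' (k' ⊗[p.ResidueField] p.Fiber B)
  · rintro ⟨hfl, hreg⟩
    refine Algebra.Smooth.of_formallySmooth_fiber fun p _ => ?_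
    haveI : Algebra.FinitePresentation p.ResidueField (p.Fiber B) :=
      inferInstanceAs (Algebra.FinitePresentation p.ResidueField (p.ResidueField ⊗[A] B))
    refine Algebra.smoothLocus_eq_univ_iff.1 (Set.eq_univ_of_forall fun q => ?_)
    haveI : Algebra.FiniteType p.ResidueField (p.Fiber B) := inferInstance
    exact ((Groth.Agent.S4578.result (k₀ := p.ResidueField) (k := p.ResidueField) q.asIdeal).out 3 0).1
      (Groth.Agent.SmoothingLib.GeomDiff.isGeometricallyRegular_of_isLocalization (hreg p) q.asIdeal.primeCompl
        (Localization.AtPrime q.asIdeal))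

end Groth.Agent.S4996
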