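import Groth.Statements.S5001
import Groth.Agent.S2790

set_option autoImplicit false
universe u
open Unram17

namespace Groth.Agent.S5001

theorem span_D_eq_top {k L : Type u} [Field k] [CommRing L] [IsLocalRing L] [Algebra k L]
    [Algebra.EssFiniteType k L] [Algebra.IsSeparable k (IsLocalRing.ResidueField L)] {ι : Type*} (g : ι → L)
    (hg : Ideal.span (Set.range g) = IsLocalRing.maximalIdeal L) :
    Submodule.span L (Set.range fun i => KaehlerDifferential.D k L (g i)) = ⊤ := by
  set V := Submodule.span L (Set.range fun i => KaehlerDifferential.D k L (g i))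
  set m := IsLocalRing.maximalIdeal L
  refine top_le_iff.1 (Submodule.le_of_le_smul_of_le_jacobson_bot Module.Finite.fg_top
    (IsLocalRing.maximalIdeal_le_jacobson ⊥) ?_)
  have hm : ∀ x ∈ m, KaehlerDifferential.D k L x ∈ V ⊔ m • ⊤ := by
    intro x hx
    rw [← hg] at hx
    induction hx using Submodule.span_induction with
    | mem x hx =>
      obtain ⟨i, rfl⟩ := hx
      exact Submodule.mem_sup_left (Submodule.subset_span ⟨i, rfl⟩)
    | zero => simp
    | add a b _ _ ha hb => rw [map_add]; exact add_mem ha hb
    | smul c y hy ih =>
      rw [smul_eq_mul, Derivation.leibniz]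
      refine add_mem (Submodule.smul_mem _ c ih) (Submodule.mem_sup_right (Submodule.smul_mem_smul ?_ trivial))
      exact hg ▸ hy
  refine (KaehlerDifferential.span_range_derivation k L).ge.trans (Submodule.span_le.2 ?_)
  rintro _ ⟨a, rfl⟩
  let abar := IsLocalRing.residue L a
  let F := minpoly k abar
  have hsep : F.Separable := Algebra.IsSeparable.isSeparable k abar
  have hmap : ∀ G : Polynomial k, IsLocalRing.residue L (Polynomial.aeval a G) = Polynomial.aeval abar G := fun G =>
    (Polynomial.aeval_algHom_apply (IsScalarTower.toAlgHom k L (IsLocalRing.ResidueField L)) a G).symm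
  have h0 : Polynomial.aeval a F ∈ m := (IsLocalRing.residue_eq_zero_iff _).1 ((hmap F).trans (minpoly.aeval k abar))
  have hu : IsUnit (Polynomial.aeval a F.derivative) := by
    rw [← IsLocalRing.residue_ne_zero_iff_isUnit, hmap]
    exact hsep.aeval_derivative_ne_zero (minpoly.aeval k abar)
  have h2 := hm _ h0
  rw [Derivation.map_aeval] at h2
  simpa [SetLike.mem_coe] using (Submodule.smul_mem_iff_of_isUnit _ hu).1 h2

theorem span_X_isMaximal (k : Type u) [Field k] (n : ℕ) :
    (Ideal.span (Set.range (MvPolynomial.X : Fin n → MvPolynomial (Fin n) k))).IsMaximal := by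
  have h : Ideal.span (Set.range (MvPolynomial.X : Fin n → MvPolynomial (Fin n) k)) =
      RingHom.ker (MvPolynomial.constantCoeff : MvPolynomial (Fin n) k →+* k) := by
    ext x
    rw [← Set.image_univ, MvPolynomial.mem_ideal_span_X_image, RingHom.mem_ker, MvPolynomial.constantCoeff_eq]
    constructor
    · intro hx
      by_contra hne
      obtain ⟨i, -, hi⟩ := hx 0 (MvPolynomial.mem_support_iff.2 hne)
      exact hi rfl
    · intro hx m hm
      by_contra hcon
      push Not at hcon
      obtain rfl : m = 0 := Finsupp.ext fun i => hcon i (Set.mem_univ i)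
      exact MvPolynomial.mem_support_iff.1 hm hx
  rw [h]
  exact RingHom.ker_isMaximal_of_surjective _ fun c => ⟨MvPolynomial.C c, MvPolynomial.constantCoeff_C _ c⟩

/-- Let k be a field, A a k-algebra of finite type equipped with a k-algebra map from the polynomial
ring in n variables, with images g_i of the variables, and p a prime of A such that Spec A has local
dimension n at p, the residue field of p is a finite separable extension of k, and every g_i lies in
p. Then A is etale over the polynomial ring at p if and only if the images of the g_i generate the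
maximal ideal of the local ring A_p. -/
theorem result (k A : Type u) [Field k] [CommRing A] [Algebra k A]
    [Algebra.FiniteType k A] (n : ℕ) [Algebra (MvPolynomial (Fin n) k) A]
    [IsScalarTower k (MvPolynomial (Fin n) k) A] (p : Ideal A) [p.IsPrime]
    (hn : FlatMor.localDim (PrimeSpectrum A) ⟨p, inferInstance⟩ = (n : WithBot ℕ∞))
    [Module.Finite k p.ResidueField] [Algebra.IsSeparable k p.ResidueField]
    (hg : ∀ i : Fin n, algebraMap (MvPolynomial (Fin n) k) A (MvPolynomial.X i) ∈ p) :
    Algebra.IsEtaleAt (MvPolynomial (Fin n) k) p ↔
      Ideal.span (Set.range fun i : Fin n =>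
        algebraMap A (Localization.AtPrime p) (algebraMap (MvPolynomial (Fin n) k) A (MvPolynomial.X i))) =
        IsLocalRing.maximalIdeal (Localization.AtPrime p) := by
  constructor
  · intro he
    have hle : Ideal.span (Set.range fun i : Fin n =>
        algebraMap A (Localization.AtPrime p) (algebraMap (MvPolynomial (Fin n) k) A (MvPolynomial.X i))) ≤
        IsLocalRing.maximalIdeal (Localization.AtPrime p) := Ideal.span_le.2 (by
      rintro _ ⟨i, rfl⟩
      exact (IsLocalization.AtPrime.to_map_mem_maximal_iff _ p _).2 (hg i))
    refine le_antisymm hle ?_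
    have hq : p.under (MvPolynomial (Fin n) k) = Ideal.span (Set.range MvPolynomial.X) :=
      ((span_X_isMaximal k n).eq_of_le (Ideal.IsPrime.ne_top inferInstance) (Ideal.span_le.2 (by
        rintro _ ⟨i, rfl⟩; exact hg i))).symm
    let q := p.under (MvPolynomial (Fin n) k)
    letI := Localization.AtPrime.algebraOfLiesOver q p
    haveI : Algebra.FiniteType (MvPolynomial (Fin n) k) A := Algebra.FiniteType.of_restrictScalars_finiteType k _ _
    have hu : Algebra.IsUnramifiedAt (MvPolynomial (Fin n) k) p := by
      haveI : Algebra.FormallyEtale (MvPolynomial (Fin n) k) (Localization.AtPrime p) := he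
      exact (inferInstance : Algebra.FormallyUnramified (MvPolynomial (Fin n) k) (Localization.AtPrime p))
    have h2 := ((Algebra.isUnramifiedAt_iff_map_eq (MvPolynomial (Fin n) k) q p).1 hu).2
    rw [← h2, show q = Ideal.span (Set.range MvPolynomial.X) from hq, Ideal.map_span, ← Set.range_comp]
    exact le_of_eq (congrArg Ideal.span (congrArg Set.range (funext fun i =>
      IsScalarTower.algebraMap_apply (MvPolynomial (Fin n) k) A (Localization.AtPrime p) _)))
  · intro h
    exact (Groth.Agent.S2790.result k A n p hn).2 (span_D_eq_top _ h)

end Groth.Agent.S5001
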