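import Groth.Statements.S5004
import Groth.Agent.KRegLib.Kinds

set_option autoImplicit false
universe u
open CategoryTheory CategoryTheory.Limits AlgebraicGeometry TopologicalSpace
open Nrm16

namespace Groth.Agent.S5004

/-- On a locally Noetherian scheme, every quasi-regular (quasi-coherent) ideal sheaf is a regular ideal
sheaf. -/
theorem result {X : Scheme.{u}} [IsLocallyNoetherian X] (I : X.IdealSheafData)
    (h : RegImm.IsRegularIdeal RegImm.Kind.quasi I) : RegImm.IsRegularIdeal RegImm.Kind.regular I := by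
  open Groth.Agent in
  intro x hx
  obtain ⟨⟨W, hW⟩, hxW, rs, hrs, hI⟩ := h x hx
  haveI : IsNoetherianRing Γ(X, W) := IsLocallyNoetherian.component_noetherian ⟨W, hW⟩
  have hz : x ∈ X.zeroLocus (U := W) (I.ideal ⟨W, hW⟩) :=
    (Scheme.IdealSheafData.mem_support_iff_of_mem (U := ⟨W, hW⟩) hxW).1 hx
  obtain ⟨q, hq, hqx⟩ : ∃ q : PrimeSpectrum Γ(X, W), I.ideal ⟨W, hW⟩ ≤ q.asIdeal ∧ hW.fromSpec q = x := by
    have hm : x ∈ hW.fromSpec '' PrimeSpectrum.zeroLocus (I.ideal ⟨W, hW⟩ : Set Γ(X, W)) := by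
      rw [hW.fromSpec_image_zeroLocus]
      exact ⟨hz, hxW⟩
    obtain ⟨q, hq, hqx⟩ := hm
    exact ⟨q, hq, hqx⟩
  obtain ⟨g, hg, ls, hls, hlsI⟩ := KRegLib.exists_isRegular_of_kReg (I.ideal ⟨W, hW⟩) q.asIdeal hq
    (KRegLib.kReg_of_quasi _ _ hq rs hrs hI)
  letI : Algebra Γ(X, W) Γ(X, X.basicOpen g) := (X.presheaf.map (homOfLE (X.basicOpen_le g)).op).hom.toAlgebra
  haveI : IsLocalization.Away g Γ(X, X.basicOpen g) := hW.isLocalization_basicOpen g
  let e : Localization.Away g ≃ₐ[Γ(X, W)] Γ(X, X.basicOpen g) :=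
    IsLocalization.algEquiv (Submonoid.powers g) _ _
  have hxg : x ∈ X.basicOpen g := by
    rw [← hW.fromSpec_image_basicOpen g]
    exact ⟨q, hg, hqx⟩
  refine ⟨X.affineBasicOpen (U := ⟨W, hW⟩) g, hxg, ls.map e, ?_, ?_⟩
  · refine (AddEquiv.isRegular_congr (e := e.toRingEquiv.toAddEquiv) (as := ls) (bs := ls.map e) ?_).1 hls
    exact List.forall₂_map_right_iff.2 (List.forall₂_same.2 fun x _ y => map_mul e x y)
  · rw [← I.map_ideal_basicOpen ⟨W, hW⟩ g]
    have h4 : (Ideal.ofList ls).map e.toRingEquiv.toRingHom = Ideal.ofList (ls.map e) := Ideal.map_ofList _ _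
    refine Eq.trans ?_ h4
    rw [hlsI, Ideal.map_map]
    congr 1
    exact (RingHom.ext fun x => (e.commutes x).symm)

end Groth.Agent.S5004
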