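import Groth.Statements.S5006
import Mathlib

set_option autoImplicit false
universe u
open Nrm16

namespace Groth.Agent.S5006

/-- Let A be a commutative ring, I a finitely generated ideal and p a prime ideal containing I. Then
some basic open neighbourhood of p in Spec A is contained in the closed set V(I) (so that V(I) ⟶
Spec A is a local homeomorphism onto an open set near p) if and only if there is an integer n > 0
with I^n A_p = I^(n+1) A_p in the local ring at p. Affine form. -/
theorem result (A : Type u) [CommRing A] (I : Ideal A) (hI : I.FG)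
    (p : Ideal A) [p.IsPrime] (hp : I ≤ p) :
    (∃ f : A, f ∉ p ∧ ∀ q : Ideal A, q.IsPrime → f ∉ q → I ≤ q) ↔
      ∃ n : ℕ, 0 < n ∧
        (I ^ n).map (algebraMap A (Localization.AtPrime p)) =
          (I ^ (n + 1)).map (algebraMap A (Localization.AtPrime p)) := by
  classical
  let L := Localization.AtPrime p
  constructor
  · rintro ⟨f, hf, hq⟩
    obtain ⟨m, hm⟩ : ∃ m : ℕ, (I.map (algebraMap A L)) ^ m = ⊥ := by
      have hsub : I.map (algebraMap A L) ≤ nilradical L := by
        rw [nilradical_eq_sInf]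
        refine le_sInf fun Q (hQ : Q.IsPrime) => ?_
        rw [Ideal.map_le_iff_le_comap]
        refine hq _ (Ideal.comap_isPrime _ Q) fun hfQ => ?_
        exact hQ.ne_top (Ideal.eq_top_of_isUnit_mem _ hfQ (IsLocalization.map_units L (⟨f, hf⟩ : p.primeCompl)))
      obtain ⟨m, hm⟩ := Ideal.exists_pow_le_of_le_radical_of_fg (I := I.map (algebraMap A L)) (J := ⊥) hsub (hI.map _)
      exact ⟨m, le_bot_iff.mp hm⟩
    refine ⟨m + 1, m.succ_pos, ?_⟩
    show (I ^ (m + 1)).map (algebraMap A L) = (I ^ (m + 1 + 1)).map (algebraMap A L)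
    rw [Ideal.map_pow, Ideal.map_pow, pow_succ, hm, pow_succ (I.map (algebraMap A L)) (m + 1), pow_succ (I.map (algebraMap A L)) m, hm]
    simp
  · rintro ⟨n, -, hn⟩
    have h0 : (I ^ n).map (algebraMap A L) = ⊥ := by
      refine Submodule.eq_bot_of_le_smul_of_le_jacobson_bot (I.map (algebraMap A L)) _ ((hI.pow (n := n)).map _) ?_ ?_
      · exact le_of_eq (hn.trans (by rw [smul_eq_mul, Ideal.map_pow, Ideal.map_pow, pow_succ']))
      · refine le_trans ?_ (IsLocalRing.maximalIdeal_le_jacobson _)
        rw [← Localization.AtPrime.map_eq_maximalIdeal]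
        exact Ideal.map_mono hp
    obtain ⟨s, hs⟩ := (hI.pow (n := n))
    have hk : ∀ x ∈ s, ∃ t ∈ p.primeCompl, t * x = 0 := fun x hx => by
      have h1 : algebraMap A L x = 0 := by
        rw [← Ideal.mem_bot, ← h0]
        exact Ideal.mem_map_of_mem _ (hs ▸ Ideal.subset_span hx)
      obtain ⟨t, ht⟩ := (IsLocalization.map_eq_zero_iff p.primeCompl L x).mp h1
      exact ⟨t, t.2, ht⟩
    choose t ht htx using hk
    let f := ∏ x : s, t x x.2
    have hf : f ∈ p.primeCompl := prod_mem fun x _ => ht x x.2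
    refine ⟨f, hf, fun q hq hfq => ?_⟩
    refine Ideal.IsPrime.le_of_pow_le (hP := hq) ((?_ : I ^ n ≤ q))
    rw [← hs]
    refine Submodule.span_le.mpr fun x hx => ?_
    have h2 : f * x = 0 := by
      obtain ⟨c, hc⟩ : t x hx ∣ f := Finset.dvd_prod_of_mem (fun y : s => t y y.2) (Finset.mem_univ ⟨x, hx⟩)
      rw [hc, mul_right_comm, htx, zero_mul]
    exact (hq.mem_or_mem (h2 ▸ q.zero_mem : f * x ∈ q)).resolve_left hfq

end Groth.Agent.S5006
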