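import Groth.Statements.S5008
import Mathlib

set_option autoImplicit false
universe u
open CategoryTheory CategoryTheory.Limits AlgebraicGeometry TopologicalSpace
open Unram17

namespace Groth.Agent.S5008

theorem smoothAt_of_lift {A C : Type u} [CommRing A] [CommRing C] [Algebra A C] [Algebra.FiniteType A C]
    (q : Ideal C) [q.IsPrime]
    (H : ∀ (B B' : Type u) [CommRing B] [CommRing B'] [IsLocalRing B] [IsLocalRing B'] (φ : B' →+* B),
      Function.Surjective φ → RingHom.ker φ ^ 2 = ⊥ → ∀ (a : C →+* B) (b : A →+* B'),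
        (IsLocalRing.maximalIdeal B).comap a = q → (∀ r, a (algebraMap A C r) = φ (b r)) →
        ∃ g : C →+* B', (∀ z, φ (g z) = a z) ∧ ∀ r, g (algebraMap A C r) = b r) :
    Algebra.IsSmoothAt A q := by
  obtain ⟨n, π, hπ⟩ := Algebra.FiniteType.iff_quotient_mvPolynomial''.1
    (inferInstance : Algebra.FiniteType A C)
  let Q : Ideal (MvPolynomial (Fin n) A) := q.comap π
  have : Algebra.FormallyEtale (MvPolynomial (Fin n) A) (Localization.AtPrime Q) :=
    Algebra.FormallyEtale.of_isLocalization Q.primeCompl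
  have : Algebra.FormallySmooth A (Localization.AtPrime Q) :=
    Algebra.FormallySmooth.comp A (MvPolynomial (Fin n) A) (Localization.AtPrime Q)
  have hu : ∀ s : Q.primeCompl, IsUnit ((IsScalarTower.toAlgHom A C (Localization.AtPrime q)).comp π s) :=
    fun s => IsLocalization.map_units (M := q.primeCompl) (Localization.AtPrime q) ⟨π s, s.2⟩
  let p : Localization.AtPrime Q →ₐ[A] Localization.AtPrime q :=
    IsLocalization.liftAlgHom (f := (IsScalarTower.toAlgHom A C (Localization.AtPrime q)).comp π) hu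
  have hpz : ∀ z, p (algebraMap (MvPolynomial (Fin n) A) (Localization.AtPrime Q) z) =
      algebraMap C (Localization.AtPrime q) (π z) := IsLocalization.lift_eq hu
  have hp : Function.Surjective p := by
    intro y
    obtain ⟨⟨c, ⟨s, hs⟩⟩, rfl⟩ := IsLocalization.mk'_surjective q.primeCompl y
    obtain ⟨c, rfl⟩ := hπ c
    obtain ⟨s, rfl⟩ := hπ s
    refine ⟨IsLocalization.mk' (Localization.AtPrime Q) c (⟨s, hs⟩ : Q.primeCompl), ?_⟩
    rw [IsLocalization.eq_mk'_iff_mul_eq]
    show p (IsLocalization.mk' (Localization.AtPrime Q) c (⟨s, hs⟩ : Q.primeCompl)) *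
      algebraMap C (Localization.AtPrime q) (π s) = _
    rw [← hpz s, ← map_mul, IsLocalization.mk'_spec, hpz]
  let I : Ideal (Localization.AtPrime Q) := RingHom.ker p.toRingHom ^ 2
  have hI : I ≠ ⊤ :=
    ne_top_of_le_ne_top (RingHom.ker_ne_top p.toRingHom) (Ideal.pow_le_self two_ne_zero)
  have : Nontrivial (Localization.AtPrime Q ⧸ I) := Ideal.Quotient.nontrivial_iff.2 hI
  have : IsLocalRing (Localization.AtPrime Q ⧸ I) :=
    .of_surjective' (Ideal.Quotient.mk I) Ideal.Quotient.mk_surjective
  obtain ⟨g, hga, hgb⟩ := H (Localization.AtPrime q) (Localization.AtPrime Q ⧸ I) p.kerSquareLift.toRingHom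
    (fun y => by obtain ⟨z, rfl⟩ := hp y; exact ⟨Ideal.Quotient.mk _ z, rfl⟩)
    (by rw [AlgHom.ker_kerSquareLift]; exact Ideal.cotangentIdeal_square _)
    (algebraMap C _) (algebraMap A _) (IsLocalization.AtPrime.under_maximalIdeal _ q)
    (fun r => (IsScalarTower.algebraMap_apply A C (Localization.AtPrime q) r).symm.trans
      (p.kerSquareLift.commutes r).symm)
  let g' : C →ₐ[A] Localization.AtPrime Q ⧸ I := { g with commutes' := hgb }
  have hloc : IsLocalHom p.kerSquareLift.toRingHom := IsLocalHom.of_surjective _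
    (fun y => by obtain ⟨z, rfl⟩ := hp y; exact ⟨Ideal.Quotient.mk _ z, rfl⟩)
  have hunit : ∀ s : q.primeCompl, IsUnit (g' s) := fun s =>
    isUnit_of_map_unit p.kerSquareLift.toRingHom _ ((hga s).symm ▸ IsLocalization.map_units _ s)
  let G₀ : Localization.AtPrime q →+* Localization.AtPrime Q ⧸ I := IsLocalization.lift (g := g) hunit
  let G : Localization.AtPrime q →ₐ[A] Localization.AtPrime Q ⧸ I :=
    { G₀ with
      commutes' := fun r => by
        show G₀ (algebraMap A (Localization.AtPrime q) r) = _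
        rw [IsScalarTower.algebraMap_apply A C (Localization.AtPrime q)]
        exact (IsLocalization.lift_eq hunit _).trans (hgb r) }
  refine Algebra.FormallySmooth.of_split p G (AlgHom.coe_ringHom_injective ?_)
  refine IsLocalization.ringHom_ext q.primeCompl (RingHom.ext fun z => ?_)
  show p.kerSquareLift.toRingHom (G (algebraMap C (Localization.AtPrime q) z)) = _
  rw [show G (algebraMap C (Localization.AtPrime q) z) = g' z from IsLocalization.lift_eq hunit z]
  exact hga z

/-- Let f : X ⟶ Y be locally of finite presentation and x a point of X. Then f is smooth at x if and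
only if for every surjection of local rings B' → B with square-zero kernel, every morphism Spec B ⟶
X sending the closed point to x and every morphism Spec B' ⟶ Y making the square commute, there is a
lift Spec B' ⟶ X compatible with both. (No Noetherian hypothesis on Y.) -/
theorem result {X Y : Scheme.{u}} (f : X ⟶ Y)
    [LocallyOfFinitePresentation f] (x : ↥X) :
    x ∈ f.smoothLocus ↔ ∀ (B B' : Type u) [CommRing B] [CommRing B'] [IsLocalRing B] [IsLocalRing B'] (φ : B' →+* B),
      Function.Surjective φ → RingHom.ker φ ^ 2 = ⊥ →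
      ∀ (α : Spec (CommRingCat.of B) ⟶ X) (β : Spec (CommRingCat.of B') ⟶ Y),
        α.base (IsLocalRing.closedPoint B) = x → Spec.map (CommRingCat.ofHom φ) ≫ β = α ≫ f →
        ∃ γ : Spec (CommRingCat.of B') ⟶ X, Spec.map (CommRingCat.ofHom φ) ≫ γ = α ∧ γ ≫ f = β := by
  
  classical
  obtain ⟨U, hU, hfU, -⟩ := exists_isAffineOpen_mem_and_subset (U := (⊤ : Y.Opens)) (x := f x) trivial
  obtain ⟨V, hV, hxV, hVU⟩ := exists_isAffineOpen_mem_and_subset (U := f ⁻¹ᵁ U) (x := x) hfU
  replace hVU : V ≤ f ⁻¹ᵁ U := hVU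
  let q := (hV.primeIdealOf ⟨x, hxV⟩).asIdeal
  let _ : Algebra Γ(Y, U) Γ(X, V) := (f.appLE U V hVU).hom.toAlgebra
  have hsm : x ∈ f.smoothLocus ↔ Algebra.IsSmoothAt Γ(Y, U) q := by
    rw [Scheme.Hom.mem_smoothLocus, formallySmooth_stalkMap_iff U hU V hV hVU hxV]
    rfl
  have hsq : hV.fromSpec ≫ f = Spec.map (f.appLE U V hVU) ≫ hU.fromSpec :=
    (hU.SpecMap_appLE_fromSpec f hV hVU).symm
  have hFP : Algebra.FinitePresentation Γ(Y, U) Γ(X, V) := f.finitePresentation_appLE hU hV hVU
  rw [hsm]
  constructor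
  · intro hs B B' _ _ _ _ φ hφ hker α β hα hαβ
    have hloc : IsLocalHom φ := IsLocalHom.of_surjective φ hφ
    -- everything maps into the chart
    have hrα : Set.range α ⊆ Set.range hV.fromSpec := by
      rw [hV.range_fromSpec]
      rintro _ ⟨z, rfl⟩
      exact ((IsLocalRing.specializes_closedPoint z).map α.continuous).mem_open V.2
        (show α (IsLocalRing.closedPoint B) ∈ V from hα ▸ hxV)
    have hrβ : Set.range β ⊆ Set.range hU.fromSpec := by
      rw [hU.range_fromSpec]
      rintro _ ⟨z, rfl⟩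
      refine ((IsLocalRing.specializes_closedPoint z).map β.continuous).mem_open U.2 ?_
      have h1 : Spec.map (CommRingCat.ofHom φ) (IsLocalRing.closedPoint B) = IsLocalRing.closedPoint B' :=
        IsLocalRing.comap_closedPoint φ
      have h2 : β (Spec.map (CommRingCat.ofHom φ) (IsLocalRing.closedPoint B)) =
          f (α (IsLocalRing.closedPoint B)) := by
        rw [← Scheme.Hom.comp_apply, hαβ, Scheme.Hom.comp_apply]
      rw [h1] at h2
      show β (IsLocalRing.closedPoint B') ∈ U
      rw [h2, hα]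
      exact hfU
    obtain ⟨a, ha⟩ : ∃ a : Γ(X, V) ⟶ CommRingCat.of B, Spec.map a ≫ hV.fromSpec = α :=
      ⟨Spec.preimage (IsOpenImmersion.lift hV.fromSpec α hrα), by rw [Spec.map_preimage, IsOpenImmersion.lift_fac]⟩
    obtain ⟨b, hb⟩ : ∃ b : Γ(Y, U) ⟶ CommRingCat.of B', Spec.map b ≫ hU.fromSpec = β :=
      ⟨Spec.preimage (IsOpenImmersion.lift hU.fromSpec β hrβ), by rw [Spec.map_preimage, IsOpenImmersion.lift_fac]⟩
    have hab : f.appLE U V hVU ≫ a = b ≫ CommRingCat.ofHom φ := by
      apply Spec.map_injective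
      rw [← cancel_mono hU.fromSpec, Spec.map_comp, Spec.map_comp, Category.assoc, Category.assoc, hb,
        ← hsq, reassoc_of% ha]
      exact hαβ.symm
    let _ : Algebra Γ(Y, U) B' := b.hom.toAlgebra
    let _ : Algebra Γ(Y, U) B := (φ.comp b.hom).toAlgebra
    have hq : q = (IsLocalRing.maximalIdeal B).comap a.hom := by
      have h1 : hV.fromSpec (Spec.map a (IsLocalRing.closedPoint B)) = x := by
        rw [← Scheme.Hom.comp_apply, ha]; exact hα
      have h2 : hV.primeIdealOf ⟨x, hxV⟩ = Spec.map a (IsLocalRing.closedPoint B) :=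
        hV.fromSpec.isOpenEmbedding.injective ((hV.fromSpec_primeIdealOf ⟨x, hxV⟩).trans h1.symm)
      exact congrArg PrimeSpectrum.asIdeal h2
    let a' : Γ(X, V) →ₐ[Γ(Y, U)] B :=
      { a.hom with commutes' := fun r => congrArg (fun g : Γ(Y, U) ⟶ CommRingCat.of B => g.hom r) hab }
    have hunit : ∀ s : q.primeCompl, IsUnit (a' s) := fun s => by
      have h1 : (s : Γ(X, V)) ∉ (IsLocalRing.maximalIdeal B).comap a.hom := hq ▸ s.2
      exact IsLocalRing.notMem_maximalIdeal.1 h1
    let aq : Localization.AtPrime q →ₐ[Γ(Y, U)] B := IsLocalization.liftAlgHom (f := a') hunit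
    let φ' : B' →ₐ[Γ(Y, U)] B := { φ with commutes' := fun _ => rfl }
    have : Algebra.FormallySmooth Γ(Y, U) (Localization.AtPrime q) := hs
    have hnil : IsNilpotent (RingHom.ker (φ' : B' →+* B)) := ⟨2, hker⟩
    let G := Algebra.FormallySmooth.liftOfSurjective aq φ' hφ hnil
    have hG : ∀ z, φ (G z) = aq z := fun z =>
      DFunLike.congr_fun (Algebra.FormallySmooth.comp_liftOfSurjective aq φ' hφ hnil) z
    let g : Γ(X, V) ⟶ CommRingCat.of B' :=
      CommRingCat.ofHom (G.toRingHom.comp (algebraMap Γ(X, V) (Localization.AtPrime q)))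
    refine ⟨Spec.map g ≫ hV.fromSpec, ?_, ?_⟩
    · rw [← Category.assoc, ← Spec.map_comp, ← ha]
      congr 2
      ext z
      exact (hG _).trans (IsLocalization.lift_eq hunit z)
    · rw [Category.assoc, hsq, ← Category.assoc, ← Spec.map_comp, ← hb]
      congr 2
      ext r
      show G (algebraMap Γ(X, V) (Localization.AtPrime q) (algebraMap Γ(Y, U) Γ(X, V) r)) = b.hom r
      rw [← IsScalarTower.algebraMap_apply, AlgHom.commutes]
      rfl
  · intro h
    refine smoothAt_of_lift q fun B B' _ _ _ _ φ hφ hker a b ha hab => ?_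
    have hloc : IsLocalHom φ := IsLocalHom.of_surjective φ hφ
    let aC : Γ(X, V) ⟶ CommRingCat.of B := CommRingCat.ofHom a
    let bA : Γ(Y, U) ⟶ CommRingCat.of B' := CommRingCat.ofHom b
    have hcl : (Spec.map aC ≫ hV.fromSpec) (IsLocalRing.closedPoint B) = x := by
      rw [Scheme.Hom.comp_apply]
      exact (congrArg hV.fromSpec (PrimeSpectrum.ext ha :
        Spec.map aC (IsLocalRing.closedPoint B) = hV.primeIdealOf ⟨x, hxV⟩)).trans
        (hV.fromSpec_primeIdealOf ⟨x, hxV⟩)
    have hcomp : f.appLE U V hVU ≫ aC = bA ≫ CommRingCat.ofHom φ := by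
      ext r
      exact hab r
    obtain ⟨γ, hγ1, hγ2⟩ := h B B' φ hφ hker (Spec.map aC ≫ hV.fromSpec) (Spec.map bA ≫ hU.fromSpec) hcl
      (by rw [Category.assoc, hsq, ← Category.assoc, ← Category.assoc, ← Spec.map_comp, ← Spec.map_comp, hcomp])
    have hrγ : Set.range γ ⊆ Set.range hV.fromSpec := by
      rw [hV.range_fromSpec]
      rintro _ ⟨z, rfl⟩
      refine ((IsLocalRing.specializes_closedPoint z).map γ.continuous).mem_open V.2 ?_
      have h1 : Spec.map (CommRingCat.ofHom φ) (IsLocalRing.closedPoint B) = IsLocalRing.closedPoint B' :=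
        IsLocalRing.comap_closedPoint φ
      show γ (IsLocalRing.closedPoint B') ∈ V
      rw [← h1, ← Scheme.Hom.comp_apply, hγ1, hcl]
      exact hxV
    obtain ⟨g, hg⟩ : ∃ g : Γ(X, V) ⟶ CommRingCat.of B', Spec.map g ≫ hV.fromSpec = γ :=
      ⟨Spec.preimage (IsOpenImmersion.lift hV.fromSpec γ hrγ), by rw [Spec.map_preimage, IsOpenImmersion.lift_fac]⟩
    have hga : g ≫ CommRingCat.ofHom φ = aC := by
      apply Spec.map_injective
      rw [← cancel_mono hV.fromSpec, Spec.map_comp, Category.assoc, hg, hγ1]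
    have hgb : f.appLE U V hVU ≫ g = bA := by
      apply Spec.map_injective
      rw [← cancel_mono hU.fromSpec, Spec.map_comp, Category.assoc, ← hsq, ← Category.assoc, hg, hγ2]
    exact ⟨g.hom, fun z => congrArg (fun g : Γ(X, V) ⟶ CommRingCat.of B => g.hom z) hga,
      fun r => congrArg (fun g : Γ(Y, U) ⟶ CommRingCat.of B' => g.hom r) hgb⟩

end Groth.Agent.S5008
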