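import Groth.Statements.S5009
import Groth.Agent.Synt29.UnramAt
import Mathlib

set_option autoImplicit false
universe u
open CategoryTheory CategoryTheory.Limits AlgebraicGeometry TopologicalSpace
open Unram17

namespace Groth.Agent.S5009

/-- Let f : X ⟶ Y be locally of finite presentation and x a point of X. Then f is (formally) unramified
on an open neighbourhood of x if and only if for every surjection of local rings B' → B with
square-zero kernel, every morphism Spec B ⟶ X sending the closed point to x and every morphism Spec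
B' ⟶ Y making the square commute, any two lifts Spec B' ⟶ X compatible with both are equal. -/
theorem result {X Y : Scheme.{u}} (f : X ⟶ Y)
    [LocallyOfFinitePresentation f] (x : ↥X) :
    (∃ U : X.Opens, x ∈ U ∧ FormallyUnramified (U.ι ≫ f)) ↔
      ∀ (B B' : Type u) [CommRing B] [CommRing B'] [IsLocalRing B] [IsLocalRing B'] (φ : B' →+* B),
      Function.Surjective φ → RingHom.ker φ ^ 2 = ⊥ →
      ∀ (α : Spec (CommRingCat.of B) ⟶ X) (β : Spec (CommRingCat.of B') ⟶ Y),
        α.base (IsLocalRing.closedPoint B) = x → Spec.map (CommRingCat.ofHom φ) ≫ β = α ≫ f →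
        ∀ γ₁ γ₂ : Spec (CommRingCat.of B') ⟶ X,
          Spec.map (CommRingCat.ofHom φ) ≫ γ₁ = α → γ₁ ≫ f = β →
          Spec.map (CommRingCat.ofHom φ) ≫ γ₂ = α → γ₂ ≫ f = β → γ₁ = γ₂ := by
  
  exact Groth.Agent.Synt29.UnramAt.iff_lift_unique f x

end Groth.Agent.S5009
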