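import Groth.Statements.S5010
import Groth.Agent.PPLib.CoordBasis
import Mathlib.RingTheory.Kaehler.Polynomial
import Mathlib.RingTheory.Etale.Kaehler

set_option autoImplicit false
universe u
open PP16

namespace Groth.Agent.S5010

theorem aux {A B : Type u} [CommRing A] [CommRing B] [Algebra A B] (r n : ℕ) (z : Fin r → B)
    (bas : Module.Basis (Fin r) B (KaehlerDifferential A B))
    (hb : ∀ i, bas i = KaehlerDifferential.D A B (z i)) (hB : PP16.IsDiffSmooth A B) :
    Function.Surjective (MvPolynomial.aeval (R := B) (S₁ := PP16.P n A B)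
        fun i => PP16.dn n A B (z i) - algebraMap B (PP16.P n A B) (z i)) ∧
      RingHom.ker (MvPolynomial.aeval (R := B) (S₁ := PP16.P n A B)
          fun i => PP16.dn n A B (z i) - algebraMap B (PP16.P n A B) (z i)).toRingHom =
        (Ideal.span (Set.range (MvPolynomial.X : Fin r → MvPolynomial (Fin r) B))) ^ (n + 1) := by
  classical
  obtain ⟨b, hb'⟩ := PPLib.exists_basis_P bas hb hB n
  set F := MvPolynomial.aeval (R := B) (S₁ := PP16.P n A B)
    fun i => PP16.dn n A B (z i) - algebraMap B (PP16.P n A B) (z i) with hF
  refine ⟨fun y => ?_, le_antisymm (fun p hp => ?_) ?_⟩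
  · have hy : y ∈ LinearMap.range F.toLinearMap := by
      refine (?_ : (⊤ : Submodule B (PP16.P n A B)) ≤ _) Submodule.mem_top
      rw [← b.span_eq, Submodule.span_le]
      rintro _ ⟨q, rfl⟩
      exact ⟨∏ i, MvPolynomial.X i ^ q.1 i, by simp [hF, hb', map_prod, map_pow]⟩
    exact hy
  · have key : ∀ (q : {q : Fin r → ℕ // ∑ i, q i ≤ n}) (p : MvPolynomial (Fin r) B),
        b.repr (F p) q = MvPolynomial.coeff (Finsupp.equivFunOnFinite.symm q.1) p := by
      intro q p
      induction p using MvPolynomial.induction_on' with
      | add p p' hp hp' => simp [hp, hp']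
      | monomial d c =>
        rw [hF, MvPolynomial.aeval_monomial, ← Algebra.smul_def, map_smul, Finsupp.smul_apply,
          Finsupp.prod_fintype _ _ (by simp), smul_eq_mul, MvPolynomial.coeff_monomial]
        by_cases hd : ∑ i, d i ≤ n
        · rw [← hb' ⟨⇑d, hd⟩, Module.Basis.repr_self, Finsupp.single_apply]
          simp only [Subtype.ext_iff, mul_ite, mul_one, mul_zero]
          exact if_congr ⟨fun h => by simp [← h], fun h => by simp [h]⟩ rfl rfl
        · have h0 : ∏ i, (PP16.dn n A B (z i) - algebraMap B (PP16.P n A B) (z i)) ^ d i = 0 := by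
            refine PPLib.prod_eq_zero (Ideal.pow_le_pow_right (Nat.succ_le_of_lt (Nat.lt_of_not_le hd)) ?_)
            exact (Finset.prod_pow_eq_pow_sum Finset.univ (⇑d) (PP16.augIdeal n A B)).le
              (Ideal.prod_mem_prod fun i _ => Ideal.pow_mem_pow (PPLib.dn_sub_mem (z i)) _)
          rw [h0, map_zero, Finsupp.zero_apply, mul_zero, if_neg]
          intro h
          apply hd
          rw [h]
          simpa using q.2
    rw [MvPolynomial.mem_pow_idealOfVars_iff']
    intro d hd
    have hd' : ∑ i, (d : Fin r → ℕ) i ≤ n := by rw [← Finsupp.degree_eq_sum]; omega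
    have h := key ⟨⇑d, hd'⟩ p
    rw [show F p = 0 from hp, map_zero, Finsupp.zero_apply] at h
    simpa using h.symm
  · intro p hp
    have hle : (Ideal.span (Set.range (MvPolynomial.X : Fin r → MvPolynomial (Fin r) B))).map F.toRingHom
        ≤ PP16.augIdeal n A B := by
      rw [Ideal.map_span, Ideal.span_le]
      rintro _ ⟨_, ⟨i, rfl⟩, rfl⟩
      change F (MvPolynomial.X i) ∈ _
      rw [hF, MvPolynomial.aeval_X]
      exact PPLib.dn_sub_mem (z i)
    have h := Ideal.pow_right_mono hle (n + 1)
    rw [← Ideal.map_pow] at h
    exact PPLib.prod_eq_zero (h (Ideal.mem_map_of_mem _ hp))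

/-- Let k be a field and K the field of fractions of the polynomial ring k[T_1, ..., T_r]. For every n,
the K-algebra map from the polynomial ring K[U_1, ..., U_r] to the ring of principal parts of order
n of K over k (a K-algebra through the first factor) that sends U_i to d^n(T_i) − T_i · 1 is
surjective, and its kernel is the (n+1)-st power of the ideal generated by the U_i. -/
theorem result (k : Type u) [Field k] (r n : ℕ) :
    Function.Surjective
        (MvPolynomial.aeval (R := FractionRing (MvPolynomial (Fin r) k))
          (S₁ := PP16.P n k (FractionRing (MvPolynomial (Fin r) k)))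
          (fun i : Fin r =>
            PP16.dn n k (FractionRing (MvPolynomial (Fin r) k))
                (algebraMap (MvPolynomial (Fin r) k) (FractionRing (MvPolynomial (Fin r) k)) (MvPolynomial.X i)) -
              algebraMap (FractionRing (MvPolynomial (Fin r) k)) (PP16.P n k (FractionRing (MvPolynomial (Fin r) k)))
                (algebraMap (MvPolynomial (Fin r) k) (FractionRing (MvPolynomial (Fin r) k)) (MvPolynomial.X i)))) ∧
      RingHom.ker
          (MvPolynomial.aeval (R := FractionRing (MvPolynomial (Fin r) k))
            (S₁ := PP16.P n k (FractionRing (MvPolynomial (Fin r) k)))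
            (fun i : Fin r =>
              PP16.dn n k (FractionRing (MvPolynomial (Fin r) k))
                  (algebraMap (MvPolynomial (Fin r) k) (FractionRing (MvPolynomial (Fin r) k)) (MvPolynomial.X i)) -
                algebraMap (FractionRing (MvPolynomial (Fin r) k)) (PP16.P n k (FractionRing (MvPolynomial (Fin r) k)))
                  (algebraMap (MvPolynomial (Fin r) k) (FractionRing (MvPolynomial (Fin r) k)) (MvPolynomial.X i)))).toRingHom =
        (Ideal.span (Set.range (MvPolynomial.X : Fin r → MvPolynomial (Fin r) (FractionRing (MvPolynomial (Fin r) k))))) ^ (n + 1) := by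
  let Pl := MvPolynomial (Fin r) k
  let K := FractionRing Pl
  haveI : Algebra.FormallyEtale Pl K := Algebra.FormallyEtale.of_isLocalization (nonZeroDivisors Pl)
  haveI : Algebra.FormallySmooth k K := Algebra.FormallySmooth.comp k Pl K
  let bas : Module.Basis (Fin r) K (KaehlerDifferential k K) :=
    ((KaehlerDifferential.mvPolynomialBasis k (Fin r)).baseChange K).map
      (KaehlerDifferential.tensorKaehlerEquivOfFormallyEtale k Pl K)
  refine aux r n (fun i => algebraMap Pl K (MvPolynomial.X i)) bas (fun i => ?_)
    (PPLib.isDiffSmooth_of_formallySmooth k K)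
  simp [bas, K, Pl]

end Groth.Agent.S5010
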