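import Groth.Statements.S5011
import Groth.Agent.Synt29.StalkFormal
import Mathlib

set_option autoImplicit false
universe u
open CategoryTheory CategoryTheory.Limits AlgebraicGeometry TopologicalSpace
open Unram17

namespace Groth.Agent.S5011

/-- Let f : X ⟶ Y be locally of finite presentation. Then f is etale if and only if f is flat and, for
every point x of X with image y, the quotient of the local ring of X at x by the extension of the
maximal ideal of the local ring of Y at y is a field, finite and separable over the residue field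
κ(y); that is, every fibre of f is a sum of spectra of finite separable extensions of the residue
field. -/
theorem result {X Y : Scheme.{u}} (f : X ⟶ Y)
    [LocallyOfFinitePresentation f] :
    Etale f ↔ Flat f ∧ ∀ x : ↥X,
      letI φ := (f.stalkMap x).hom
      letI 𝔪 := IsLocalRing.maximalIdeal ↑(Y.presheaf.stalk (f.base x))
      letI := (Ideal.quotientMap (𝔪.map φ) φ Ideal.le_comap_map).toAlgebra
      IsField (↑(X.presheaf.stalk x) ⧸ 𝔪.map φ) ∧
        Module.Finite (↑(Y.presheaf.stalk (f.base x)) ⧸ 𝔪) (↑(X.presheaf.stalk x) ⧸ 𝔪.map φ) ∧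
        Algebra.IsSeparable (↑(Y.presheaf.stalk (f.base x)) ⧸ 𝔪) (↑(X.presheaf.stalk x) ⧸ 𝔪.map φ) := by
  
  rw [Etale.iff_flat_and_formallyUnramified,
    Groth.Agent.Synt29.StalkFormal.formallyUnramified_iff_stalkMap]
  have key : ∀ x : ↥X,
      (f.stalkMap x).hom.FormallyUnramified ↔
        letI φ := (f.stalkMap x).hom
        letI 𝔪 := IsLocalRing.maximalIdeal ↑(Y.presheaf.stalk (f.base x))
        letI := (Ideal.quotientMap (𝔪.map φ) φ Ideal.le_comap_map).toAlgebra
        IsField (↑(X.presheaf.stalk x) ⧸ 𝔪.map φ) ∧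
          Module.Finite (↑(Y.presheaf.stalk (f.base x)) ⧸ 𝔪) (↑(X.presheaf.stalk x) ⧸ 𝔪.map φ) ∧
          Algebra.IsSeparable (↑(Y.presheaf.stalk (f.base x)) ⧸ 𝔪) (↑(X.presheaf.stalk x) ⧸ 𝔪.map φ) := by
    intro x
    let R := Y.presheaf.stalk (f.base x)
    let A := X.presheaf.stalk x
    let _ : Algebra R A := (f.stalkMap x).hom.toAlgebra
    have : IsLocalHom (algebraMap R A) := inferInstanceAs (IsLocalHom (f.stalkMap x).hom)
    have : Algebra.EssFiniteType R A := LocallyOfFiniteType.stalkMap f x
    let 𝔪 := IsLocalRing.maximalIdeal R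
    let _ : Algebra (R ⧸ 𝔪) (A ⧸ 𝔪.map (algebraMap R A)) :=
      (Ideal.quotientMap (𝔪.map (algebraMap R A)) (algebraMap R A) Ideal.le_comap_map).toAlgebra
    show Algebra.FormallyUnramified R A ↔ IsField (A ⧸ 𝔪.map (algebraMap R A)) ∧
      Module.Finite (R ⧸ 𝔪) (A ⧸ 𝔪.map (algebraMap R A)) ∧
      Algebra.IsSeparable (R ⧸ 𝔪) (A ⧸ 𝔪.map (algebraMap R A))
    let _ : Algebra (IsLocalRing.ResidueField R) (A ⧸ 𝔪.map (algebraMap R A)) :=
      (Ideal.quotientMap (𝔪.map (algebraMap R A)) (algebraMap R A) Ideal.le_comap_map).toAlgebra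
    constructor
    · intro h
      have e : 𝔪.map (algebraMap R A) = IsLocalRing.maximalIdeal A :=
        Algebra.FormallyUnramified.map_maximalIdeal
      refine ⟨Algebra.FormallyUnramified.isField_quotient_map_maximalIdeal, ?_, ?_⟩
      · exact Module.Finite.of_equiv_equiv (A₁ := IsLocalRing.ResidueField R)
          (B₁ := IsLocalRing.ResidueField A)
          (RingEquiv.refl (IsLocalRing.ResidueField R))
          (Ideal.quotEquivOfEq e : (A ⧸ 𝔪.map (algebraMap R A)) ≃+* IsLocalRing.ResidueField A).symm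
          (Ideal.Quotient.ringHom_ext (RingHom.ext fun r => rfl))
      · exact Algebra.IsSeparable.of_equiv_equiv (A₁ := IsLocalRing.ResidueField R)
          (B₁ := IsLocalRing.ResidueField A)
          (RingEquiv.refl (IsLocalRing.ResidueField R))
          (Ideal.quotEquivOfEq e : (A ⧸ 𝔪.map (algebraMap R A)) ≃+* IsLocalRing.ResidueField A).symm
          (Ideal.Quotient.ringHom_ext (RingHom.ext fun r => rfl))
    · rintro ⟨hfield, -, hsep⟩
      have : Algebra.IsSeparable (IsLocalRing.ResidueField R) (A ⧸ 𝔪.map (algebraMap R A)) := hsep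
      have e : 𝔪.map (algebraMap R A) = IsLocalRing.maximalIdeal A :=
        IsLocalRing.eq_maximalIdeal ((Ideal.Quotient.maximal_ideal_iff_isField_quotient _).mpr hfield)
      have : Algebra.IsSeparable (IsLocalRing.ResidueField R) (IsLocalRing.ResidueField A) :=
        Algebra.IsSeparable.of_equiv_equiv
          (RingEquiv.refl (IsLocalRing.ResidueField R))
          (Ideal.quotEquivOfEq e : (A ⧸ 𝔪.map (algebraMap R A)) ≃+* IsLocalRing.ResidueField A)
          (Ideal.Quotient.ringHom_ext (RingHom.ext fun r => rfl))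
      exact Algebra.FormallyUnramified.of_map_maximalIdeal e
  exact ⟨fun h => ⟨h.1, fun x => (key x).mp (h.2.1 x)⟩,
    fun h => ⟨h.1, fun x => (key x).mpr (h.2 x), inferInstance⟩⟩

end Groth.Agent.S5011
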