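import Groth.Statements.S5014
import Mathlib

set_option autoImplicit false
universe u
open Unram17

namespace Groth.Agent.S5014

/-- Let C be a smooth algebra over a commutative ring A, equipped with an A-algebra map from the
polynomial ring in r variables (images s_i of the variables), and let q be a prime of C. Then C is
etale at q over the polynomial ring if and only if the differentials of the s_i are linearly
independent and generate the module of differentials of the local ring C_q over A, i.e. form a basis
of it. -/
theorem result (A C : Type u) [CommRing A] [CommRing C]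
    [Algebra A C] [Algebra.Smooth A C] (r : ℕ) [Algebra (MvPolynomial (Fin r) A) C]
    [IsScalarTower A (MvPolynomial (Fin r) A) C] (q : Ideal C) [q.IsPrime] :
    Algebra.IsEtaleAt (MvPolynomial (Fin r) A) q ↔
      LinearIndependent (Localization.AtPrime q)
          (fun i : Fin r => KaehlerDifferential.D A (Localization.AtPrime q)
            (algebraMap C (Localization.AtPrime q) (algebraMap (MvPolynomial (Fin r) A) C (MvPolynomial.X i)))) ∧
        Submodule.span (Localization.AtPrime q)
          (Set.range fun i : Fin r => KaehlerDifferential.D A (Localization.AtPrime q)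
            (algebraMap C (Localization.AtPrime q) (algebraMap (MvPolynomial (Fin r) A) C (MvPolynomial.X i)))) = ⊤ := by
  
  let P := MvPolynomial (Fin r) A
  let T := Localization.AtPrime q
  have : Algebra.FormallySmooth A C := inferInstance
  have : Algebra.FormallyEtale C T := Algebra.FormallyEtale.of_isLocalization q.primeCompl
  have : Algebra.FormallySmooth A T := Algebra.FormallySmooth.comp A C T
  let bb : Module.Basis (Fin r) T (TensorProduct P T (Ω[P⁄A])) :=
    (KaehlerDifferential.mvPolynomialBasis A (Fin r)).baseChange T
  let v : Fin r → Ω[T⁄A] := fun i => KaehlerDifferential.D A T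
    (algebraMap C T (algebraMap P C (MvPolynomial.X i)))
  have hv : ∀ i, KaehlerDifferential.mapBaseChange A P T (bb i) = v i := by
    intro i
    simp only [bb, Module.Basis.baseChange_apply, KaehlerDifferential.mvPolynomialBasis_apply]
    refine (KaehlerDifferential.mapBaseChange_tmul A P T 1 _).trans ?_
    rw [one_smul]
    refine (KaehlerDifferential.map_D A A P T _).trans ?_
    exact congrArg _ (IsScalarTower.algebraMap_apply P C T _)
  have hcomb : (KaehlerDifferential.mapBaseChange A P T) ∘ₗ bb.equivFun.symm.toLinearMap =
      Fintype.linearCombination T v := by
    refine LinearMap.ext fun c => ?_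
    simp only [LinearMap.comp_apply, LinearEquiv.coe_coe, Module.Basis.equivFun_symm_apply, map_sum, map_smul, hv,
      Fintype.linearCombination_apply]
  have hiff : Function.Bijective (KaehlerDifferential.mapBaseChange A P T) ↔
      LinearIndependent T v ∧ Submodule.span T (Set.range v) = ⊤ := by
    rw [linearIndependent_iff_injective_fintypeLinearCombination (R := T) (v := v),
      ← Fintype.range_linearCombination T (v := v), LinearMap.range_eq_top, ← hcomb]
    exact ⟨fun h => ⟨h.1.comp bb.equivFun.symm.injective, h.2.comp bb.equivFun.symm.surjective⟩,
      fun h => ⟨(Function.Injective.of_comp_iff' _ bb.equivFun.symm.bijective).1 h.1,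
        Function.Surjective.of_comp (g := bb.equivFun.symm) h.2⟩⟩
  refine Iff.trans ?_ hiff
  show Algebra.FormallyEtale P T ↔ _
  constructor
  · intro h
    exact (KaehlerDifferential.tensorKaehlerEquivOfFormallyEtale A P T).bijective
  · intro h
    refine (Algebra.formallyEtale_iff P T).2 ⟨?_, ?_⟩
    · refine subsingleton_of_forall_eq 0 fun x => ?_
      obtain ⟨y, rfl⟩ := KaehlerDifferential.map_surjective A P T x
      exact ((KaehlerDifferential.exact_mapBaseChange_map A P T) y).2 (h.2 y)
    · refine subsingleton_of_forall_eq 0 fun x => ?_
      have hx : Algebra.H1Cotangent.δ A P T x = 0 := by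
        apply h.1
        rw [map_zero]
        exact (Algebra.H1Cotangent.exact_δ_mapBaseChange A P T).apply_apply_eq_zero x
      obtain ⟨y, rfl⟩ := (Algebra.H1Cotangent.exact_map_δ A P T x).1 hx
      rw [Subsingleton.elim y 0, map_zero]

end Groth.Agent.S5014
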