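import Groth.Statements.S5015
import Groth.Agent.Synt29.OmegaMaps
import Groth.Agent.Synt29.StalkFormal
import Mathlib

set_option autoImplicit false
universe u
open CategoryTheory CategoryTheory.Limits AlgebraicGeometry TopologicalSpace
open Unram17

namespace Groth.Agent.S5015

/-- Let g : Y ⟶ S and h : X ⟶ S be morphisms and f : X ⟶ Y with f ≫ g = h. Given sheaves of
differentials of Y over S and of X over S (universal derivations dY, dX) and the canonical map c
from the pullback of the former to the latter (the O_X-linear map carrying the pullback of dY s to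
dX of the pullback of s), f is formally unramified if and only if c is an epimorphism of
O_X-modules. -/
theorem result {X Y S : Scheme.{u}} (g : Y ⟶ S) (h : X ⟶ S)
    (f : X ⟶ Y) (w : f ≫ g = h)
    (ΩY : Y.Modules) (dY : OmegaSh.Der g ΩY) (hY : OmegaSh.IsUniversal dY)
    (ΩX : X.Modules) (dX : OmegaSh.Der h ΩX) (hX : OmegaSh.IsUniversal dX)
    (c : (Scheme.Modules.pullback f).obj ΩY ⟶ ΩX) (hc : OmegaSh.IsDiffCompat f dY dX c) :
    FormallyUnramified f ↔ Epi c := by
  
  subst w
  rw [Groth.Agent.Synt29.StalkFormal.formallyUnramified_iff_stalkMap,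
    Groth.Agent.Synt29.OmegaStalk.epi_iff_stalk]
  refine forall_congr' fun x => ?_
  obtain ⟨i₁, i₂, hi⟩ := Groth.Agent.Synt29.OmegaStalk.exists_stalk_square hY hX c hc x
    (g.stalkMap (f x)) rfl (g.stalkMap (f x) ≫ f.stalkMap x) (Scheme.Hom.stalkMap_comp f g x).symm
  rw [(Groth.Agent.Synt29.OmegaStalk.stalk_iff i₁ i₂
    (hi _ (Groth.Agent.Synt29.OmegaStalk.baseMap_unit _ _))).2]
  exact (Groth.Agent.Synt29.OmegaStalk.baseMap_surjective_iff _ _).symm

end Groth.Agent.S5015
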