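import Groth.Statements.S5017
import Groth.Agent.Synt29.StalkFormal
import Mathlib

set_option autoImplicit false
universe u
open CategoryTheory CategoryTheory.Limits AlgebraicGeometry TopologicalSpace
open Unram17

namespace Groth.Agent.S5017

/-- Let f : X ⟶ Y be locally of finite type. Then f is a monomorphism if and only if, for every point x
of X with image y, x is the only point of its fibre and the canonical map from the residue field
κ(y) to the quotient of the local ring of X at x by the extension of the maximal ideal at y is
bijective (each nonempty fibre is Spec κ(y)). -/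
theorem result {X Y : Scheme.{u}} (f : X ⟶ Y) [LocallyOfFiniteType f] :
    Mono f ↔ ∀ x : ↥X,
      (∀ x' : ↥X, f.base x' = f.base x → x' = x) ∧
        Function.Bijective
          (Ideal.quotientMap
            ((IsLocalRing.maximalIdeal ↑(Y.presheaf.stalk (f.base x))).map (f.stalkMap x).hom)
            (f.stalkMap x).hom Ideal.le_comap_map) := by
  
  have hq : ∀ (x : ↥X) (e : (IsLocalRing.maximalIdeal ↑(Y.presheaf.stalk (f.base x))).map
      (f.stalkMap x).hom = IsLocalRing.maximalIdeal ↑(X.presheaf.stalk x)),
      Function.Bijective (Ideal.quotientMap
        ((IsLocalRing.maximalIdeal ↑(Y.presheaf.stalk (f.base x))).map (f.stalkMap x).hom)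
        (f.stalkMap x).hom Ideal.le_comap_map) ↔ Function.Bijective (f.residueFieldMap x) := by
    intro x e
    rw [show (⇑(f.residueFieldMap x) : Y.residueField (f.base x) → X.residueField x) =
      ⇑(Ideal.quotEquivOfEq e) ∘ ⇑(Ideal.quotientMap
        ((IsLocalRing.maximalIdeal ↑(Y.presheaf.stalk (f.base x))).map (f.stalkMap x).hom)
        (f.stalkMap x).hom Ideal.le_comap_map) from funext fun r => by
          obtain ⟨r, rfl⟩ := Ideal.Quotient.mk_surjective r
          rfl]
    exact ((Ideal.quotEquivOfEq e).bijective.of_comp_iff' _).symm
  constructor
  · intro _ x
    have hi : Function.Injective f.base := f.injective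
    refine ⟨fun x' h => hi h, ?_⟩
    have : IsIso (Limits.pullback.diagonal f) :=
      (Limits.pullback.isIso_diagonal_iff f).mpr inferInstance
    have : FormallyUnramified f := inferInstance
    have hu := (Groth.Agent.Synt29.StalkFormal.formallyUnramified_iff_stalkMap f).mp this x
    let R := Y.presheaf.stalk (f.base x)
    let A := X.presheaf.stalk x
    let _ : Algebra R A := (f.stalkMap x).hom.toAlgebra
    have : IsLocalHom (algebraMap R A) := inferInstanceAs (IsLocalHom (f.stalkMap x).hom)
    have : Algebra.EssFiniteType R A := LocallyOfFiniteType.stalkMap f x
    have : Algebra.FormallyUnramified R A := hu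
    rw [hq x (Algebra.FormallyUnramified.map_maximalIdeal (R := R) (S := A))]
    let _ : Algebra (Y.residueField (f.base x)) (X.residueField x) :=
      (f.residueFieldMap x).hom.toAlgebra
    have hpi : IsPurelyInseparable (Y.residueField (f.base x)) (X.residueField x) :=
      (((tfae_universallyInjective f).out 0 2 rfl rfl).mp (inferInstance : UniversallyInjective f)).2 x
    exact ⟨(f.residueFieldMap x).hom.injective,
      IsPurelyInseparable.surjective_algebraMap_of_isSeparable
        (Y.residueField (f.base x)) (X.residueField x)⟩
  · intro h
    have key : ∀ x : ↥X, (f.stalkMap x).hom.FormallyUnramified ∧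
        Function.Bijective (f.residueFieldMap x) := by
      intro x
      let R := Y.presheaf.stalk (f.base x)
      let A := X.presheaf.stalk x
      let _ : Algebra R A := (f.stalkMap x).hom.toAlgebra
      have : IsLocalHom (algebraMap R A) := inferInstanceAs (IsLocalHom (f.stalkMap x).hom)
      have : Algebra.EssFiniteType R A := LocallyOfFiniteType.stalkMap f x
      let q := Ideal.quotientMap
        ((IsLocalRing.maximalIdeal R).map (algebraMap R A)) (algebraMap R A) Ideal.le_comap_map
      have hb : Function.Bijective q := (h x).2
      have hf : IsField (A ⧸ (IsLocalRing.maximalIdeal R).map (algebraMap R A)) :=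
        (RingEquiv.ofBijective q hb).symm.toMulEquiv.isField
          ((Ideal.Quotient.maximal_ideal_iff_isField_quotient _).mp inferInstance)
      have e : (IsLocalRing.maximalIdeal R).map (algebraMap R A) = IsLocalRing.maximalIdeal A :=
        IsLocalRing.eq_maximalIdeal ((Ideal.Quotient.maximal_ideal_iff_isField_quotient _).mpr hf)
      have hr : Function.Bijective (f.residueFieldMap x) := (hq x e).mp hb
      refine ⟨?_, hr⟩
      have : Algebra.IsSeparable (IsLocalRing.ResidueField R) (IsLocalRing.ResidueField A) :=
        ⟨fun a => by
          obtain ⟨r₀, hra⟩ := hr.2 a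
          let r : IsLocalRing.ResidueField R := r₀
          have : a = algebraMap (IsLocalRing.ResidueField R) (IsLocalRing.ResidueField A) r := by
            obtain ⟨r', hr'⟩ := IsLocalRing.residue_surjective (R := R) r
            rw [← hr']
            refine hra.symm.trans ?_
            rw [show r₀ = IsLocalRing.residue R r' from hr'.symm]
            rfl
          rw [this]
          exact isSeparable_algebraMap r⟩
      exact Algebra.FormallyUnramified.of_map_maximalIdeal e
    have : FormallyUnramified f :=
      (Groth.Agent.Synt29.StalkFormal.formallyUnramified_iff_stalkMap f).mpr fun x => (key x).1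
    have : UniversallyInjective f := by
      refine ((tfae_universallyInjective f).out 2 0 rfl rfl).mp ⟨fun a b e => (h b).1 a e, fun x => ?_⟩
      let _ : Algebra (Y.residueField (f.base x)) (X.residueField x) :=
        (f.residueFieldMap x).hom.toAlgebra
      show IsPurelyInseparable (Y.residueField (f.base x)) (X.residueField x)
      have : Algebra.IsIntegral (Y.residueField (f.base x)) (X.residueField x) := ⟨fun a => by
        obtain ⟨r, rfl⟩ := (key x).2.2 a
        exact isIntegral_algebraMap⟩
      exact ⟨this, fun a _ => (key x).2.2 a⟩
    have : Surjective (Limits.pullback.diagonal f) := (UniversallyInjective.iff_diagonal f).mp this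
    have : IsIso (Limits.pullback.diagonal f) := by
      rw [isIso_iff_isOpenImmersion_and_epi_base]
      exact ⟨inferInstance, (TopCat.epi_iff_surjective _).mpr (Limits.pullback.diagonal f).surjective⟩
    exact (Limits.pullback.isIso_diagonal_iff f).mp this

end Groth.Agent.S5017
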