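import Groth.Statements.S5024
import Groth.Agent.Synt29.SmoothProps

set_option autoImplicit false
universe u
open CategoryTheory CategoryTheory.Limits AlgebraicGeometry TopologicalSpace
open Unram17

namespace Groth.Agent.S5024

/-- Let Y be locally Noetherian and f : X ⟶ Y locally of finite type, smooth on an open neighbourhood of
a point x with image y. Then for every n the local ring of X at x has Serre's property (S_n),
respectively (R_n), if and only if the local ring of Y at y has it. -/
theorem result {X Y : Scheme.{u}} (f : X ⟶ Y)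
    [IsLocallyNoetherian Y] [LocallyOfFiniteType f] (x : ↥X)
    (hx : ∃ U : X.Opens, x ∈ U ∧ Smooth (U.ι ≫ f)) (n : ℕ) :
    (LocCoh.HasSk n ↑(X.presheaf.stalk x) ↑(X.presheaf.stalk x) ↔
        LocCoh.HasSk n ↑(Y.presheaf.stalk (f.base x)) ↑(Y.presheaf.stalk (f.base x))) ∧
      (LocCoh.HasRk n ↑(X.presheaf.stalk x) ↔ LocCoh.HasRk n ↑(Y.presheaf.stalk (f.base x))) := by
  
  obtain ⟨A, B, _, _, _, _, _, _, q, _, ⟨eB⟩, ⟨eA⟩⟩ :=
    Groth.Agent.Synt29.SmoothProps.exists_ringEquiv f x hx
  have : IsNoetherianRing (Localization.AtPrime q) :=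
    IsLocalization.isNoetherianRing q.primeCompl _ inferInstance
  have : IsNoetherianRing (Localization.AtPrime (q.comap (algebraMap A B))) :=
    IsLocalization.isNoetherianRing (q.comap (algebraMap A B)).primeCompl _ inferInstance
  have hX : IsNoetherianRing (X.presheaf.stalk x) := isNoetherianRing_of_ringEquiv _ eB
  have hY : IsNoetherianRing (Y.presheaf.stalk (f.base x)) := isNoetherianRing_of_ringEquiv _ eA
  have s1 := Groth.Agent.Synt29.SmoothProps.hasSk_iff (A := A) n q
  have r1 := Groth.Agent.Synt29.SmoothProps.hasRk_iff (A := A) n q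
  constructor
  · exact ⟨fun h => Groth.Agent.FlatLoc6.hasSk_of_ringEquiv eA n
        (s1.mp (Groth.Agent.FlatLoc6.hasSk_of_ringEquiv eB.symm n h)),
      fun h => Groth.Agent.FlatLoc6.hasSk_of_ringEquiv eB n
        (s1.mpr (Groth.Agent.FlatLoc6.hasSk_of_ringEquiv eA.symm n h))⟩
  · rw [← Groth.Agent.Synt29.SmoothProps.hasRk_congr eB n,
      ← Groth.Agent.Synt29.SmoothProps.hasRk_congr eA n]
    exact r1

end Groth.Agent.S5024
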