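import Groth.Statements.S5025
import Groth.Agent.Synt29.SmoothProps

set_option autoImplicit false
universe u
open CategoryTheory CategoryTheory.Limits AlgebraicGeometry TopologicalSpace
open Unram17

namespace Groth.Agent.S5025

/-- Let Y be locally Noetherian and f : X ⟶ Y locally of finite type, smooth on an open neighbourhood of
a point x with image y. Then the local rings of X at x and of Y at y have the same codepth (Krull
dimension minus depth); written without subtraction: dim O_{X,x} + depth O_{Y,y} = dim O_{Y,y} +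
depth O_{X,x}. -/
theorem result {X Y : Scheme.{u}} (f : X ⟶ Y)
    [IsLocallyNoetherian Y] [LocallyOfFiniteType f] (x : ↥X)
    (hx : ∃ U : X.Opens, x ∈ U ∧ Smooth (U.ι ≫ f)) :
    ringKrullDim ↑(X.presheaf.stalk x) +
        ((LocCoh.depth ↑(Y.presheaf.stalk (f.base x)) ↑(Y.presheaf.stalk (f.base x)) : ℕ∞) : WithBot ℕ∞) =
      ringKrullDim ↑(Y.presheaf.stalk (f.base x)) +
        ((LocCoh.depth ↑(X.presheaf.stalk x) ↑(X.presheaf.stalk x) : ℕ∞) : WithBot ℕ∞) := by
  
  obtain ⟨A, B, _, _, _, _, _, _, q, _, ⟨eB⟩, ⟨eA⟩⟩ :=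
    Groth.Agent.Synt29.SmoothProps.exists_ringEquiv f x hx
  have h := Groth.Agent.Synt29.SmoothProps.codepth_eq (A := A) q
  rwa [ringKrullDim_eq_of_ringEquiv eA, ringKrullDim_eq_of_ringEquiv eB,
    Groth.Agent.Synt29.SmoothProps.depth_congr_ring eA,
    Groth.Agent.Synt29.SmoothProps.depth_congr_ring eB] at h

end Groth.Agent.S5025
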