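import Groth.Statements.S5026
import Groth.Agent.S2790
import Groth.Agent.Synt29.SepGen
import Groth.Agent.FlatLoc6.Loc

-- import your own Groth.Agent.* helpers here

set_option autoImplicit false
set_option linter.style.haveILetI false
universe u
open Unram17

namespace Groth.Agent.S5026

/-- Let k be a field, A a k-algebra of finite type equipped with a k-algebra map from the polynomial
ring in n variables (images g_i of the variables), p a prime of A such that Spec A has local
dimension n at p, r the Krull dimension of the local ring A_p, and suppose g_i ∈ p for the indices i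
< r. Then A is etale at p over the polynomial ring if and only if the images of the g_i with i < r
generate the maximal ideal of A_p and the differentials of the residue classes of the g_i with i ≥ r
generate the module of differentials of the residue field κ(p) over k. (The published statement adds
that these conditions imply that A is smooth at p over k and that κ(p) is separable over k; this row
does not state that consequence.) -/
theorem result (k A : Type u) [Field k]
    [CommRing A] [Algebra k A] [Algebra.FiniteType k A] (n r : ℕ) [Algebra (MvPolynomial (Fin n) k) A]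
    [IsScalarTower k (MvPolynomial (Fin n) k) A] (p : Ideal A) [p.IsPrime]
    (hn : FlatMor.localDim (PrimeSpectrum A) ⟨p, inferInstance⟩ = (n : WithBot ℕ∞))
    (hr : ringKrullDim (Localization.AtPrime p) = (r : WithBot ℕ∞))
    (hg : ∀ i : Fin n, (i : ℕ) < r → algebraMap (MvPolynomial (Fin n) k) A (MvPolynomial.X i) ∈ p) :
    Algebra.IsEtaleAt (MvPolynomial (Fin n) k) p ↔
      Ideal.span ((fun i : Fin n =>
          algebraMap A (Localization.AtPrime p) (algebraMap (MvPolynomial (Fin n) k) A (MvPolynomial.X i))) ''
            {i : Fin n | (i : ℕ) < r}) = IsLocalRing.maximalIdeal (Localization.AtPrime p) ∧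
        Submodule.span p.ResidueField ((fun i : Fin n =>
          KaehlerDifferential.D k p.ResidueField
            (IsLocalRing.residue (Localization.AtPrime p)
              (algebraMap A (Localization.AtPrime p) (algebraMap (MvPolynomial (Fin n) k) A (MvPolynomial.X i))))) ''
            {i : Fin n | r ≤ (i : ℕ)}) = ⊤ := by
  haveI : Algebra.FiniteType (MvPolynomial (Fin n) k) A :=
    Algebra.FiniteType.of_restrictScalars_finiteType k (MvPolynomial (Fin n) k) A
  haveI : IsNoetherianRing A := Algebra.FiniteType.isNoetherianRing k A
  let P := p.under (MvPolynomial (Fin n) k)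
  haveI : p.LiesOver P := ⟨rfl⟩
  letI := Localization.AtPrime.algebraOfLiesOver P p
  let S : Set (Fin n) := {i | (i : ℕ) < r}
  have hSP : Ideal.span (MvPolynomial.X '' S : Set (MvPolynomial (Fin n) k)) ≤ P :=
    Ideal.span_le.2 (by rintro _ ⟨i, hi, rfl⟩; exact hg i hi)
  have himage : Ideal.span ((fun i : Fin n =>
      algebraMap A (Localization.AtPrime p) (algebraMap (MvPolynomial (Fin n) k) A (MvPolynomial.X i))) '' S) =
      (Ideal.span (MvPolynomial.X '' S : Set (MvPolynomial (Fin n) k))).map
        (algebraMap (MvPolynomial (Fin n) k) (Localization.AtPrime p)) := by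
    rw [Ideal.map_span, ← Set.image_comp]
    rfl
  have hres : ∀ i, algebraMap (MvPolynomial (Fin n) k) p.ResidueField (MvPolynomial.X i) =
      IsLocalRing.residue (Localization.AtPrime p)
        (algebraMap A (Localization.AtPrime p) (algebraMap (MvPolynomial (Fin n) k) A (MvPolynomial.X i))) :=
    fun i => rfl
  have hres0 : ∀ i : Fin n, (i : ℕ) < r → algebraMap (MvPolynomial (Fin n) k) p.ResidueField (MvPolynomial.X i) = 0 :=
    fun i hi => by
      rw [hres, IsLocalRing.residue_eq_zero_iff, IsLocalization.AtPrime.to_map_mem_maximal_iff _ p]
      exact hg i hi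
  constructor
  · intro het
    haveI : Algebra.FormallyEtale (MvPolynomial (Fin n) k) (Localization.AtPrime p) := het
    haveI : Algebra.IsUnramifiedAt (MvPolynomial (Fin n) k) p :=
      (inferInstanceAs (Algebra.FormallyUnramified (MvPolynomial (Fin n) k) (Localization.AtPrime p)))
    obtain ⟨-, hm⟩ := (Algebra.isUnramifiedAt_iff_map_eq (MvPolynomial (Fin n) k) P p).1 inferInstance
    refine ⟨?_, ?_⟩
    · haveI : Algebra.FinitePresentation (MvPolynomial (Fin n) k) A :=
        Algebra.FinitePresentation.of_finiteType.1 inferInstance
      haveI : Algebra.IsEtaleAt (MvPolynomial (Fin n) k) p := het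
      obtain ⟨f, hf, hfet⟩ := Algebra.exists_etale_of_isEtaleAt (R := MvPolynomial (Fin n) k) p
      haveI := hfet
      letI : Algebra (Localization.Away f) (Localization.AtPrime p) :=
        IsLocalization.localizationAlgebraOfSubmonoidLe (Localization.Away f) (Localization.AtPrime p)
          (Submonoid.powers f) p.primeCompl (Submonoid.powers_le.2 hf)
      haveI : IsScalarTower A (Localization.Away f) (Localization.AtPrime p) :=
        IsLocalization.localization_isScalarTower_of_submonoid_le _ _ (Submonoid.powers f) p.primeCompl
          (Submonoid.powers_le.2 hf)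
      haveI : IsScalarTower (MvPolynomial (Fin n) k) (Localization.Away f) (Localization.AtPrime p) :=
        IsScalarTower.to₁₃₄ _ A _ _
      haveI : IsLocalization (p.primeCompl.map (algebraMap A (Localization.Away f)))
          (Localization.AtPrime p) :=
        IsLocalization.isLocalization_of_submonoid_le (Localization.Away f) _ (Submonoid.powers f) p.primeCompl
          (Submonoid.powers_le.2 hf)
      haveI : Module.Flat (Localization.Away f) (Localization.AtPrime p) :=
        IsLocalization.flat _ (p.primeCompl.map (algebraMap A (Localization.Away f)))
      haveI : Module.Flat (MvPolynomial (Fin n) k) (Localization.AtPrime p) :=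
        Module.Flat.trans _ (Localization.Away f) _
      haveI : Module.Flat (Localization.AtPrime P) (Localization.AtPrime p) :=
        (Module.flat_iff_of_isLocalization (Localization.AtPrime P) P.primeCompl _).mpr inferInstance
      haveI : IsLocalHom (algebraMap (Localization.AtPrime P) (Localization.AtPrime p)) :=
        Groth.Agent.FlatLoc6.isLocalHom_atPrime P p
      haveI : (IsLocalRing.maximalIdeal (Localization.AtPrime p)).LiesOver
          (IsLocalRing.maximalIdeal (Localization.AtPrime P)) :=
        ⟨(IsLocalRing.maximalIdeal_comap (algebraMap (Localization.AtPrime P) (Localization.AtPrime p))).symm⟩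
      have key := Ideal.height_eq_height_add_of_liesOver_of_hasGoingDown
        (IsLocalRing.maximalIdeal (Localization.AtPrime P)) (IsLocalRing.maximalIdeal (Localization.AtPrime p))
      have hle : P.height ≤ (r : ℕ∞) := by
        have h1 := congrArg (fun x : ℕ∞ => (x : WithBot ℕ∞)) key
        simp only [WithBot.coe_add, IsLocalRing.maximalIdeal_height_eq_ringKrullDim,
          IsLocalization.AtPrime.ringKrullDim_eq_height P, hr] at h1
        rw [← WithBot.coe_natCast, ← WithBot.coe_add, WithBot.coe_inj] at h1
        exact h1 ▸ le_self_add
      have hPeq : Ideal.span (MvPolynomial.X '' S : Set (MvPolynomial (Fin n) k)) = P := by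
        haveI := Groth.Agent.Synt29.SepGen.isPrime_span_X (k := k) S
        refine Ideal.eq_of_le_of_height_le (Ideal.span (MvPolynomial.X '' S : Set (MvPolynomial (Fin n) k))) hSP ?_
        refine le_trans hle ?_
        by_cases hrn : r ≤ n
        · exact Groth.Agent.Synt29.SepGen.le_height_span_X r hrn
        · exfalso
          haveI : Algebra.EssFiniteType k p.ResidueField := Algebra.EssFiniteType.comp k A _
          obtain ⟨t, ht⟩ := Cardinal.lt_aleph0.1 ((Groth.Agent.S10902.trdeg_le_finrank k p.ResidueField).trans_lt
            (Cardinal.natCast_lt_aleph0))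
          have h2 := Groth.Agent.S2141.result p t ht
          rw [hn, hr] at h2
          norm_cast at h2
          omega
      show Ideal.span _ = _
      rw [himage, hPeq, hm]
    · haveI : Algebra.FormallyUnramified (MvPolynomial (Fin n) k) p.ResidueField :=
        Algebra.FormallyUnramified.comp _ (Localization.AtPrime p) _
      have h := (Groth.Agent.S2790.result k A n p hn).1 het
      rw [eq_top_iff]
      intro ω _
      obtain ⟨η, rfl⟩ := KaehlerDifferential.map_surjective_of_surjective k k (Localization.AtPrime p) p.ResidueField
        IsLocalRing.residue_surjective ω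
      have hη : η ∈ Submodule.span (Localization.AtPrime p) (Set.range fun i : Fin n =>
          KaehlerDifferential.D k (Localization.AtPrime p)
            (algebraMap A (Localization.AtPrime p) (algebraMap (MvPolynomial (Fin n) k) A (MvPolynomial.X i)))) :=
        h ▸ Submodule.mem_top
      induction hη using Submodule.span_induction with
      | mem y hy =>
        obtain ⟨i, rfl⟩ := hy
        rw [KaehlerDifferential.map_D]
        by_cases hi : (i : ℕ) < r
        · rw [show algebraMap (Localization.AtPrime p) p.ResidueField (algebraMap A (Localization.AtPrime p)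
            (algebraMap (MvPolynomial (Fin n) k) A (MvPolynomial.X i))) = 0 from (hres i).symm.trans (hres0 i hi)]
          simp
        · exact Submodule.subset_span ⟨i, not_lt.1 hi, rfl⟩
      | zero => simp
      | add y z _ _ hy hz => rw [map_add]; exact Submodule.add_mem _ (hy trivial) (hz trivial)
      | smul a y _ hy =>
        rw [map_smul, ← algebraMap_smul p.ResidueField a]
        exact Submodule.smul_mem _ _ (hy trivial)
  · rintro ⟨hspan, hD⟩
    haveI : Algebra.FormallyUnramified (MvPolynomial (Fin n) k) p.ResidueField := by
      refine Groth.Agent.EtaleCrit.formallyUnramified_of_span k n p.ResidueField ?_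
      rw [eq_top_iff, ← hD, Submodule.span_le]
      rintro _ ⟨i, -, rfl⟩
      exact Submodule.subset_span ⟨i, congrArg _ (hres i)⟩
    haveI : Algebra.EssFiniteType (MvPolynomial (Fin n) k) p.ResidueField :=
      Algebra.EssFiniteType.comp _ A _
    haveI : Algebra.FormallyUnramified P.ResidueField p.ResidueField :=
      Algebra.FormallyUnramified.of_restrictScalars (MvPolynomial (Fin n) k) _ _
    haveI : Algebra.EssFiniteType P.ResidueField p.ResidueField :=
      Algebra.EssFiniteType.of_comp (MvPolynomial (Fin n) k) _ _
    haveI : Algebra.IsUnramifiedAt (MvPolynomial (Fin n) k) p := by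
      rw [Algebra.isUnramifiedAt_iff_map_eq (MvPolynomial (Fin n) k) P p]
      refine ⟨Algebra.FormallyUnramified.isSeparable _ _, le_antisymm ?_ ?_⟩
      · refine Ideal.map_le_iff_le_comap.2 fun a ha => ?_
        rw [Ideal.mem_comap, IsScalarTower.algebraMap_apply (MvPolynomial (Fin n) k) A (Localization.AtPrime p),
          IsLocalization.AtPrime.to_map_mem_maximal_iff _ p]
        exact ha
      · exact (hspan.symm.trans himage).le.trans (Ideal.map_mono hSP)
    obtain ⟨q, hq, hqp, hqn⟩ := Groth.Agent.S2790.exists_component p n hn.ge
    exact Groth.Agent.EtaleCrit.isEtaleAt_of_component k n A p q hqp hqn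


end Groth.Agent.S5026
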