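import Groth.Statements.S5027
import Groth.Agent.S4999
import Groth.Agent.Synt29.SepGen

-- import your own Groth.Agent.* helpers here

set_option autoImplicit false
set_option linter.style.haveILetI false
universe u
open Unram17

namespace Groth.Agent.S5027

/-- Let A be an algebra of finite type over a field k, p a prime of A such that Spec A has local
dimension n at p, and r the Krull dimension of the local ring A_p. Then A_p is regular and the
residue field κ(p) is a separable extension of k (geometrically reduced over k) if and only if there
exist n elements of the local ring A_p (germs at p in place of sections over an open neighbourhood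
of p, which is equivalent) of which those with index < r generate the maximal ideal and the residue
classes of the remaining ones have differentials generating the module of differentials of κ(p) over
k. -/
theorem result (k A : Type u) [Field k]
    [CommRing A] [Algebra k A] [Algebra.FiniteType k A] (n r : ℕ) (p : Ideal A) [p.IsPrime]
    (hn : FlatMor.localDim (PrimeSpectrum A) ⟨p, inferInstance⟩ = (n : WithBot ℕ∞))
    (hr : ringKrullDim (Localization.AtPrime p) = (r : WithBot ℕ∞)) :
    (IsRegularLocalRing (Localization.AtPrime p) ∧ Algebra.IsGeometricallyReduced k p.ResidueField) ↔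
      ∃ g : Fin n → Localization.AtPrime p,
        Ideal.span (g '' {i : Fin n | (i : ℕ) < r}) = IsLocalRing.maximalIdeal (Localization.AtPrime p) ∧
          Submodule.span p.ResidueField ((fun i : Fin n =>
            KaehlerDifferential.D k p.ResidueField (IsLocalRing.residue (Localization.AtPrime p) (g i))) ''
              {i : Fin n | r ≤ (i : ℕ)}) = ⊤ := by
  classical
  haveI : IsNoetherianRing A := Algebra.FiniteType.isNoetherianRing k A
  haveI : Algebra.EssFiniteType k p.ResidueField := Algebra.EssFiniteType.comp k A _
  obtain ⟨t, ht⟩ := Cardinal.lt_aleph0.1 ((Groth.Agent.S10902.trdeg_le_finrank k p.ResidueField).trans_lt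
    (Cardinal.natCast_lt_aleph0))
  have hnrt := Groth.Agent.S2141.result p t ht
  rw [hn, hr] at hnrt
  norm_cast at hnrt
  let L := Localization.AtPrime p
  constructor
  · rintro ⟨hreg, hgr⟩
    have hfin : Module.finrank p.ResidueField Ω[p.ResidueField⁄k] = t := by
      have h := Groth.Agent.S4999.trdeg_eq_finrank_kaehler k p.ResidueField
      rw [ht] at h
      exact_mod_cast h.symm
    obtain ⟨T, hTsub, hTspan, hTli⟩ :=
      exists_linearIndependent p.ResidueField (Set.range (KaehlerDifferential.D k p.ResidueField))
    rw [KaehlerDifferential.span_range_derivation] at hTspan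
    let b := Module.Basis.mk hTli (by rw [Subtype.range_coe, hTspan])
    haveI : Finite T := Module.Finite.finite_basis b
    haveI := Fintype.ofFinite T
    have hTcard : Fintype.card T = t := by rw [← hfin, Module.finrank_eq_card_basis b]
    choose x hx using fun y : T => hTsub y.2
    choose xl hxl using fun y : T => IsLocalRing.residue_surjective (x y)
    have hm : (IsLocalRing.maximalIdeal L).spanFinrank = r := by
      have h := (isRegularLocalRing_iff L).mp hreg
      rw [hr] at h
      exact_mod_cast h
    have hfg : Submodule.FG (IsLocalRing.maximalIdeal L) := (IsLocalRing.maximalIdeal L).fg_of_isNoetherianRing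
    let gen := Submodule.generators (IsLocalRing.maximalIdeal L)
    haveI : Finite gen := hfg.finite_generators
    haveI := Fintype.ofFinite gen
    have hgcard : Fintype.card gen = r := by
      rw [← hm, ← hfg.generators_ncard, ← Nat.card_eq_fintype_card]
      rfl
    let e₁ : Fin r ≃ gen := (finCongr hgcard.symm).trans (Fintype.equivFin gen).symm
    let e₂ : Fin t ≃ T := (finCongr hTcard.symm).trans (Fintype.equivFin T).symm
    refine ⟨fun i => if h : (i : ℕ) < r then (e₁ ⟨i, h⟩ : L) else xl (e₂ ⟨(i : ℕ) - r, by omega⟩), ?_, ?_⟩
    · refine Eq.trans (congrArg Ideal.span ?_) (Submodule.span_generators _)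
      ext z
      constructor
      · rintro ⟨i, hi, rfl⟩
        simp only [Set.mem_setOf_eq] at hi
        simp only [dif_pos hi]
        exact (e₁ _).2
      · intro hz
        obtain ⟨j, hj⟩ := e₁.surjective ⟨z, hz⟩
        refine ⟨⟨j, by omega⟩, j.2, ?_⟩
        simp only [dif_pos j.2]
        exact congrArg Subtype.val hj
    · rw [eq_top_iff, ← hTspan]
      refine Submodule.span_mono fun z hz => ?_
      obtain ⟨j, hj⟩ := e₂.surjective ⟨z, hz⟩
      refine ⟨⟨r + j, by omega⟩, by simp, ?_⟩
      simp only [dif_neg (show ¬ (r + (j : ℕ)) < r by omega), Nat.add_sub_cancel_left]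
      rw [hxl, hx, hj]
  · rintro ⟨g, hm, hD⟩
    refine ⟨IsRegularLocalRing.of_spanFinrank_maximalIdeal_le L ?_, ?_⟩
    · rw [hr, ← hm]
      have h := Submodule.spanFinrank_span_le_ncard_of_finite (R := L) (s := g '' {i : Fin n | (i : ℕ) < r})
        (Set.toFinite _)
      have h2 : (g '' {i : Fin n | (i : ℕ) < r}).ncard ≤ r := by
        refine (Set.ncard_image_le (Set.toFinite _)).trans ?_
        have := Set.ncard_le_ncard_of_injOn (s := {i : Fin n | (i : ℕ) < r}) (t := Set.Iio r) (fun i => (i : ℕ))
          (fun i hi => hi) Fin.val_injective.injOn (Set.toFinite _)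
        simpa using this
      exact_mod_cast h.trans h2
    · refine Groth.Agent.Synt29.SepGen.isGeometricallyReduced_of_span k p.ResidueField
        (ι := Fin (n - r)) (fun j => IsLocalRing.residue L (g ⟨r + j, by omega⟩)) ?_ ?_
      · rw [ht, Fintype.card_fin, show n - r = t by omega]
      · rw [eq_top_iff, ← hD]
        refine Submodule.span_mono ?_
        rintro _ ⟨i, hi, rfl⟩
        simp only [Set.mem_setOf_eq] at hi
        refine ⟨⟨(i : ℕ) - r, by omega⟩, ?_⟩
        simp only [Nat.add_sub_cancel' hi]
        rfl


end Groth.Agent.S5027
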