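import Groth.Statements.S5028
import Groth.Agent.SmoothCrit29.Basic

set_option autoImplicit false
universe u
open CategoryTheory CategoryTheory.Limits AlgebraicGeometry TopologicalSpace
open Unram17

namespace Groth.Agent.S5028

/-- Let Y be locally Noetherian, f : X ⟶ Y locally of finite type, x a point of X with image y, and
suppose the local ring of Y at y is reduced. Then f is smooth on an open neighbourhood of x if and
only if f is universally open at every point of some neighbourhood of x in the fibre over y (that
is, for the points x' of some open neighbourhood of x in X lying over y, every base change of f is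
open at each point lying over x') and the local ring of the fibre at x (the quotient of the local
ring of X at x by the extension of the maximal ideal at y) is geometrically regular over the residue
field κ(y). -/
theorem result {X Y : Scheme.{u}} (f : X ⟶ Y)
    [IsLocallyNoetherian Y] [LocallyOfFiniteType f] (x : ↥X)
    (hred : IsReduced ↑(Y.presheaf.stalk (f.base x))) :
    letI φ := (f.stalkMap x).hom
    letI 𝔪 := IsLocalRing.maximalIdeal ↑(Y.presheaf.stalk (f.base x))
    letI : Algebra (IsLocalRing.ResidueField ↑(Y.presheaf.stalk (f.base x))) (↑(X.presheaf.stalk x) ⧸ 𝔪.map φ) :=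
      (Ideal.quotientMap (𝔪.map φ) φ Ideal.le_comap_map).toAlgebra
    (∃ U : X.Opens, x ∈ U ∧ Smooth (U.ι ≫ f)) ↔
      (∃ W : X.Opens, x ∈ W ∧ ∀ x' ∈ W, f.base x' = f.base x → EGA43.IsUnivOpenAt f x') ∧
        CAlg.IsGeometricallyRegular (IsLocalRing.ResidueField ↑(Y.presheaf.stalk (f.base x)))
          (↑(X.presheaf.stalk x) ⧸ 𝔪.map φ) := by
  constructor
  · rintro ⟨U, hx, hU⟩
    exact ⟨⟨U, hx, fun x' hx' _ => Groth.Agent.SmoothCrit29.isUnivOpenAt_of_smooth f U hx'⟩,
      ((Groth.Agent.SmoothCrit29.smooth_nhd_iff f x).1 ⟨U, hx, hU⟩).2⟩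
  · rintro ⟨⟨W, hxW, hW⟩, hreg⟩
    refine (Groth.Agent.SmoothCrit29.smooth_nhd_iff f x).2 ⟨?_, hreg⟩
    haveI := Groth.Agent.SmoothCrit29.lfp_of_lft f
    refine Groth.Agent.SmoothCrit29.flat_of_open f x ?_ hreg hred
    intro z hz _
    have hsp : (f.fiberι (f.base x)).base z ⤳ x := by
      have h1 := (specializes_iff_mem_closure.2 hz).map (f.fiberι (f.base x)).continuous
      rwa [Scheme.Hom.fiberι_asFiber] at h1
    exact hW _ (hsp.mem_open W.isOpen hxW) (Groth.Agent.FibDim.fiber_apply_fiberι f z)

end Groth.Agent.S5028
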