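import Groth.Statements.S5029
import Groth.Agent.SymAlgX.Exists
import Groth.Agent.QCoh.LocFree
import Mathlib
-- import your own Groth.Agent.* helpers here

set_option autoImplicit false
set_option linter.style.haveILetI false
universe u
open CategoryTheory Opposite CategoryTheory.Limits AlgebraicGeometry TopologicalSpace
open Unram17

namespace Groth.Agent.S5029

/-- Over an affine open with free sections the structure map is smooth. -/
theorem smooth_str {S : Scheme.{u}} (E : S.Modules) (hE : Coh.IsQCoh E) (A : RelSpec.QCAlg S)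
    (j : E ⟶ A.toModule) (hA : RelSpec.IsSymAlg E A j) {U : S.Opens} (hU : IsAffineOpen U) {n : ℕ}
    (b : Module.Basis (ULift.{u} (Fin n)) Γ(S, U) Γ(E, U)) : (A.str.app (op U)).hom.Smooth := by
  have hbij : Function.Bijective (SymAlgX.liftAt A j U) := SymAlgX.liftAt_bijective (B := A) (hE := hE) hA hU
  let f := (SymmetricAlgebra.equivMvPolynomial b).symm.toRingEquiv.trans (RingEquiv.ofBijective _ hbij)
  have hcomp : (A.str.app (op U)).hom = f.toRingHom.comp
      (algebraMap Γ(S, U) (MvPolynomial (ULift.{u} (Fin n)) Γ(S, U))) := by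
    refine RingHom.ext fun r => ?_
    show _ = SymAlgX.liftAt A j U ((SymmetricAlgebra.equivMvPolynomial b).symm (algebraMap _ _ r))
    rw [AlgEquiv.commutes, SymAlgX.liftAt_algebraMap]
  rw [hcomp]
  exact RingHom.Smooth.respectsIso.1 _ f (RingHom.smooth_algebraMap.2 (Algebra.Smooth.mk (R := Γ(S, U))
    (A := MvPolynomial (ULift.{u} (Fin n)) Γ(S, U)) inferInstance inferInstance))

/-- Let S be a scheme and E a quasi-coherent O_S-module that is finite locally free. If A is a
quasi-coherent O_S-algebra which is the symmetric algebra of E (through j : E ⟶ A), then the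
structure morphism of the relative spectrum of A, i.e. of the vector bundle V(E), is smooth. -/
theorem result {S : Scheme.{u}} (E : S.Modules) (hE : Coh.IsQCoh E)
    (hlf : FlatMod.IsFinLocFree E) (A : RelSpec.QCAlg S) (j : E ⟶ A.toModule) (hA : RelSpec.IsSymAlg E A j) :
    Smooth A.π := by
  have key : ∀ (U : S.Opens) (hU : IsAffineOpen U) (V : S.Opens) (n : ℕ), U ≤ V →
      Nonempty (E.restrict V.ι ≅ FlatMod.freeMod (V : Scheme.{u}) n) → Smooth (A.ι U hU ≫ A.π) := by
    rintro U hU V n hUV ⟨e⟩
    obtain ⟨l⟩ := Groth.Agent.QCoh.free_sections hU hUV e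
    rw [RelSpec.QCAlg.ι_π]
    haveI : IsOpenImmersion hU.fromSpec := hU.isOpenImmersion_fromSpec
    haveI : Smooth (Spec.map (A.str.app (op U))) := by
      rw [HasRingHomProperty.Spec_iff (P := @Smooth)]
      exact smooth_str E hE A j hA hU (Module.Basis.ofRepr l)
    infer_instance
  choose V n hV hVfree using hlf
  have hcov : ∀ s : S, ∃ U : S.Opens, IsAffineOpen U ∧ s ∈ U ∧ U ≤ V s := fun s => by
    obtain ⟨_, ⟨U, hU, rfl⟩, hsU, hUV⟩ := S.isBasis_affineOpens.exists_subset_of_mem_open (hV s) (V s).2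
    exact ⟨U, hU, hsU, hUV⟩
  choose U hU hsU hUV using hcov
  let 𝒰 : A.spec.OpenCover := Scheme.Cover.mkOfCovers S (fun s => Spec (A.presheaf.obj (op (U s))))
    (fun s => A.ι (U s) (hU s)) (fun z => by
      have hz : z ∈ A.π ⁻¹ᵁ (U (A.π z)) := hsU (A.π z)
      rw [RelSpec.QCAlg.π_preimage A (U (A.π z)) (hU _)] at hz
      exact ⟨A.π z, hz⟩) (fun s => inferInstance)
  haveI : IsZariskiLocalAtSource (@Smooth : MorphismProperty Scheme.{u}) :=
    HasRingHomProperty.instIsZariskiLocalAtSource
  exact IsZariskiLocalAtSource.of_openCover (P := @Smooth) 𝒰 fun s => key _ (hU s) _ (n s) (hUV s) (hVfree s)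

end Groth.Agent.S5029
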