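import Groth.Statements.S5030
import Groth.Agent.LimSm.Model
-- import your own Groth.Agent.* helpers here

set_option autoImplicit false
universe u
open CategoryTheory CategoryTheory.Limits AlgebraicGeometry TopologicalSpace
open Unram17

namespace Groth.Agent.S5030

set_option backward.isDefEq.respectTransparency.types false in
/-- Let A be a commutative ring and f : X ⟶ Spec A a smooth morphism that is quasi-compact and
quasi-separated (hence of finite presentation). Then there exist a finitely generated ℤ-subalgebra
A₀ of A, a scheme X₀ with a smooth morphism of finite type f₀ : X₀ ⟶ Spec A₀, and a morphism X ⟶ X₀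
making X the base change of X₀ along Spec A ⟶ Spec A₀. This is the case of smooth morphisms (the
converse is stability under base change). -/
theorem result (A : Type u) [CommRing A] {X : Scheme.{u}}
    (f : X ⟶ Spec (CommRingCat.of A)) [Smooth f] [QuasiCompact f] [QuasiSeparated f] :
    ∃ A₀ : Subalgebra ℤ A, A₀.FG ∧
      ∃ (X₀ : Scheme.{u}) (f₀ : X₀ ⟶ Spec (CommRingCat.of ↥A₀)) (g : X ⟶ X₀),
        Smooth f₀ ∧ QuasiCompact f₀ ∧
          IsPullback g f f₀ (Spec.map (CommRingCat.ofHom (algebraMap (↥A₀) A))) := by
  obtain ⟨A₀, hA, X₀, f₀, g, h1, -, h3, h4, h5, h6⟩ := Groth.Agent.LimSm.exists_model_over_fg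
    (P := @Smooth) (P' := @Smooth) (Q := @LocallyOfFinitePresentation) (Q' := @LocallyOfFinitePresentation)
    Groth.Agent.LimSm.core_smooth Groth.Agent.LimSm.core_smooth (fun _ h => h) (fun _ h => h) A f
    inferInstance inferInstance
  exact ⟨A₀, hA, X₀, f₀, g, ⟨h1, h4, h6⟩⟩

end Groth.Agent.S5030
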