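import Groth.Statements.S5033
import Groth.Agent.RegLoc6.Seq

set_option autoImplicit false
universe u
open CInt

namespace Groth.Agent.S5033

/-- Let A be a Noetherian local ring and J an ideal such that A/J is a regular local ring. Then A is a
regular local ring if and only if J is generated by a regular sequence of A. -/
theorem result (A : Type u) [CommRing A] [IsNoetherianRing A]
    [IsLocalRing A] (J : Ideal A) [IsRegularLocalRing (A ⧸ J)] :
    IsRegularLocalRing A ↔ CInt.IsRegularIdeal J := by
  constructor
  · intro h
    obtain ⟨rs, hmem, hreg, hrs⟩ := Groth.Agent.RegLoc6.exists_list_of_quotient _ A J le_rfl inferInstance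
    exact ⟨rs, Groth.Agent.RegLoc6.isRegular_iff_weakly rs hmem hreg, hrs⟩
  · rintro ⟨rs, hreg, rfl⟩
    refine Groth.Agent.RegLoc6.of_quotient_list _ A rs rfl (fun r hr => ?_) hreg.1 inferInstance
    refine IsLocalRing.le_maximalIdeal ?_ (Ideal.subset_span (s := {x | x ∈ rs}) hr)
    intro htop
    exact hreg.2 (by rw [smul_eq_mul, Ideal.mul_top]; exact htop.symm)

end Groth.Agent.S5033
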