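import Groth.Statements.S5036
import Groth.Agent.HensSec7.Local
-- import your own Groth.Agent.* helpers here

set_option autoImplicit false
open CategoryTheory CategoryTheory.Limits AlgebraicGeometry
universe u
open Hensel

namespace Groth.Agent.S5036

/-- a) implies b): let S be a quasi-compact quasi-separated scheme and i : S₀ ⟶ S a closed immersion.
Suppose that for every finite morphism g : S' ⟶ S, every open-closed subset of S' ×_S S₀ is the
inverse image under the first projection of exactly one open-closed subset of S'. Then for every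
étale separated morphism g : S' ⟶ S and every section u₀ of S' ×_S S₀ ⟶ S₀ there is exactly one
section u of g whose restriction to S₀ is u₀ (that is, i ≫ u = u₀ followed by the first projection). -/
theorem result {S S₀ : Scheme.{u}} (i : S₀ ⟶ S) [IsClosedImmersion i]
    [CompactSpace ↥S] [QuasiSeparatedSpace ↥S]
    (ha : ∀ (S' : Scheme.{u}) (g : S' ⟶ S), IsFinite g →
      ∀ V : Set ↥(pullback g i), IsClopen V → ∃! U : Set ↥S', IsClopen U ∧ (pullback.fst g i).base ⁻¹' U = V)
    {S' : Scheme.{u}} (g : S' ⟶ S) [Etale g] [IsSeparated g]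
    (u₀ : S₀ ⟶ pullback g i) (hu₀ : u₀ ≫ pullback.snd g i = 𝟙 S₀) :
    ∃! u : S ⟶ S', u ≫ g = 𝟙 S ∧ i ≫ u = u₀ ≫ pullback.fst g i := by
  obtain ⟨u, ⟨hu1, hu2⟩, hu⟩ := HensSec7.existsUnique_section ha g (u₀ ≫ Limits.pullback.fst g i)
    (by rw [Category.assoc, Limits.pullback.condition, reassoc_of% hu₀])
  exact ⟨u, ⟨hu1, hu2⟩, hu⟩

end Groth.Agent.S5036
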