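import Groth.Statements.S5037
import Groth.Agent.ClopenRep7.Rep
-- import your own Groth.Agent.* helpers here

set_option autoImplicit false
open CategoryTheory CategoryTheory.Limits AlgebraicGeometry
universe u
open Hensel

namespace Groth.Agent.S5037

/-- b) implies a'): let i : S₀ ⟶ S be a closed immersion. Suppose that for every étale separated
morphism g : S' ⟶ S and every section u₀ of S' ×_S S₀ ⟶ S₀ there is exactly one section u of g with
i ≫ u = u₀ followed by the first projection. Then for every finite locally free morphism g : S' ⟶ S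
(finite, flat and locally of finite presentation), every open-closed subset of S' ×_S S₀ is the
inverse image under the first projection of exactly one open-closed subset of S'. -/
theorem result {S S₀ : Scheme.{u}} (i : S₀ ⟶ S) [IsClosedImmersion i]
    (hb : ∀ (S' : Scheme.{u}) (g : S' ⟶ S), Etale g → IsSeparated g →
      ∀ u₀ : S₀ ⟶ pullback g i, u₀ ≫ pullback.snd g i = 𝟙 S₀ →
        ∃! u : S ⟶ S', u ≫ g = 𝟙 S ∧ i ≫ u = u₀ ≫ pullback.fst g i)
    {S' : Scheme.{u}} (g : S' ⟶ S) [IsFinite g] [Flat g] [LocallyOfFinitePresentation g]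
    (V : Set ↥(pullback g i)) (hV : IsClopen V) :
    ∃! U : Set ↥S', IsClopen U ∧ (pullback.fst g i).base ⁻¹' U = V := by
  obtain ⟨G, el, het, haff, huniv⟩ := ClopenRep7.exists_representing g
  haveI := het
  haveI := haff
  haveI : IsSeparated el.hom := inferInstance
  let p₀ : ClopenRep7.Obj g S₀ := ⟨i, V, hV⟩
  obtain ⟨a₀, ha₀, ha₀u⟩ := huniv S₀ p₀
  have hw : a₀ ≫ el.hom = i := congrArg ClopenRep7.Obj.hom ha₀
  let u₀ : S₀ ⟶ pullback el.hom i := pullback.lift a₀ (𝟙 _) (by rw [hw, Category.id_comp])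
  obtain ⟨u, ⟨hu, hiu⟩, huu⟩ := hb G el.hom het inferInstance u₀ (pullback.lift_snd _ _ _)
  rw [show u₀ ≫ pullback.fst el.hom i = a₀ from pullback.lift_fst _ _ _] at hiu huu
  let q := ClopenRep7.pull u el
  have hqh : q.hom = 𝟙 S := hu
  let χ : pullback g q.hom ⟶ S' := pullback.fst g q.hom
  haveI hχ : IsIso χ := by
    show IsIso (pullback.fst g q.hom)
    haveI : IsIso q.hom := by rw [hqh]; infer_instance
    infer_instance
  have hpre : (pullback.fst g i).base ⁻¹' (inv χ ⁻¹' q.set) = V := by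
    have h1 : ClopenRep7.pull i q = p₀ := by
      show ClopenRep7.pull i (ClopenRep7.pull u el) = p₀
      rw [ClopenRep7.pull_pull, hiu, ha₀]
    obtain ⟨w, hset⟩ := (ClopenRep7.pull_eq_iff _ _ _).1 h1
    show _ = p₀.set
    rw [hset]
    ext z
    show inv χ (pullback.fst g i z) ∈ q.set ↔ ClopenRep7.pm g i w z ∈ q.set
    rw [show pullback.fst g i = ClopenRep7.pm g i w ≫ χ from (ClopenRep7.pm_fst _ _).symm,
      Scheme.Hom.comp_apply, ← Scheme.Hom.comp_apply, IsIso.hom_inv_id]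
    rfl
  refine ⟨inv χ ⁻¹' q.set, ⟨q.clopen.preimage (Scheme.Hom.continuous _), hpre⟩, fun U ⟨hU, hUV⟩ => ?_⟩
  -- uniqueness
  let q' : ClopenRep7.Obj g S := ⟨q.hom, χ ⁻¹' U, hU.preimage (Scheme.Hom.continuous _)⟩
  obtain ⟨u', hu', -⟩ := huniv S q'
  have hu'S : u' ≫ el.hom = 𝟙 S := (congrArg ClopenRep7.Obj.hom hu').trans hqh
  have hi : i ≫ u' = a₀ := by
    refine ha₀u _ ?_
    show ClopenRep7.pull (i ≫ u') el = p₀
    rw [← ClopenRep7.pull_pull, hu']
    refine (ClopenRep7.pull_eq_iff _ _ _).2 ⟨by show i ≫ q.hom = i; rw [hqh, Category.comp_id], ?_⟩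
    show V = _
    rw [← hUV]
    ext z
    show pullback.fst g i z ∈ U ↔ χ (ClopenRep7.pm g i _ z) ∈ U
    rw [← Scheme.Hom.comp_apply (ClopenRep7.pm g i _), ClopenRep7.pm_fst]
  obtain rfl : u' = u := huu u' ⟨hu'S, hi⟩
  obtain ⟨w, hset⟩ := (ClopenRep7.pull_eq_iff _ _ _).1 hu'
  replace hset : χ ⁻¹' U = q.set := hset
  rw [← hset]
  ext z
  simp [← Scheme.Hom.comp_apply]

end Groth.Agent.S5037
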