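import Groth.Statements.S5039
import Groth.Agent.S2657
import Groth.Agent.S0567
import Groth.Agent.HenzFib7.Basic
-- import your own Groth.Agent.* helpers here

set_option autoImplicit false
universe u
open Hensel

namespace Groth.Agent.S5039

/-- Let R be a Noetherian local ring and S its henselization. Then S is universally Japanese if and only
if R is. -/
theorem result (R S : Type u) [CommRing R] [IsLocalRing R] [IsNoetherianRing R]
    [CommRing S] [IsLocalRing S] [Algebra R S] [IsLocalHom (algebraMap R S)] [Hensel.IsHenselization R S] :
    CAlg.IsUniversallyJapanese S ↔ CAlg.IsUniversallyJapanese R := by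
  have hh := Groth.Agent.Hensel.isHenzLike_of_isHenselization R S
  haveI := hh.isNoetherianRing_iff.mp inferInstance
  have h1 := Groth.Agent.S0567.result R
  have h2 := Groth.Agent.S0567.result S
  have h3 := Groth.Agent.HenzFib7.isNagata_henselization_iff R S fun A _ _ _ h => Groth.Agent.S2657.result A h
  rw [h1, h2] at h3
  exact ⟨fun h => (h3.mp ⟨inferInstance, h⟩).2, fun h => (h3.mpr ⟨inferInstance, h⟩).2⟩

end Groth.Agent.S5039
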