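import Groth.Statements.S5045
import Groth.Agent.UnibConn.Scheme

set_option autoImplicit false
open CategoryTheory AlgebraicGeometry
universe u
open Unram

namespace Groth.Agent.S5045
open UnibConn

theorem maxPoint_map {X Y : Scheme.{u}} (f : X ⟶ Y) [Flat f] (η : X) (hη : IsMaxPoint η) :
    IsMaxPoint (f η) := by
  intro z hz
  letI : Algebra (Y.presheaf.stalk (f η)) (X.presheaf.stalk η) := (f.stalkMap η).hom.toAlgebra
  haveI : Module.Flat (Y.presheaf.stalk (f η)) (X.presheaf.stalk η) := Flat.stalkMap f η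
  haveI : IsLocalHom (algebraMap (Y.presheaf.stalk (f η)) (X.presheaf.stalk η)) :=
    inferInstanceAs (IsLocalHom (f.stalkMap η).hom)
  haveI : Module.FaithfullyFlat (Y.presheaf.stalk (f η)) (X.presheaf.stalk η) :=
    Module.FaithfullyFlat.of_flat_of_isLocalHom
  obtain ⟨p, rfl⟩ := (Scheme.range_fromSpecStalk (X := Y) (x := f η)).ge hz
  obtain ⟨q, rfl⟩ := PrimeSpectrum.comap_surjective_of_faithfullyFlat
    (A := Y.presheaf.stalk (f η)) (B := X.presheaf.stalk η) p
  have h1 : X.fromSpecStalk η q = η := hη _ ((Scheme.range_fromSpecStalk (x := η)).le ⟨q, rfl⟩)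
  exact (congr($(Scheme.SpecMap_stalkMap_fromSpecStalk f (x := η)) q)).trans (congrArg f h1)

theorem local_preconnected {X Y : Scheme.{u}} [IsLocallyNoetherian X] [IsLocallyNoetherian Y]
    (f : X ⟶ Y) [Flat f] [GeometricallyReduced f] (x : X)
    (hY : CAlg2.IsGeomUnibranch (Y.presheaf.stalk (f x))) (T : Set X) (hT : ∀ η : Y, IsMaxPoint η → η ∉ f '' T) :
    _root_.IsPreconnected ({z | z ⤳ x} \ T) := by
  letI : Algebra (Y.presheaf.stalk (f x)) (X.presheaf.stalk x) := (f.stalkMap x).hom.toAlgebra
  haveI : Module.Flat (Y.presheaf.stalk (f x)) (X.presheaf.stalk x) := Flat.stalkMap f x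
  haveI : IsLocalHom (algebraMap (Y.presheaf.stalk (f x)) (X.presheaf.stalk x)) :=
    inferInstanceAs (IsLocalHom (f.stalkMap x).hom)
  have h := isConnected_compl (A := Y.presheaf.stalk (f x)) (B := X.presheaf.stalk x)
    (fun L _ _ => isReduced_tensor_stalk f x rfl L) hY (X.fromSpecStalk x ⁻¹' T) (fun η hη => ?_)
  · have h2 := h.isPreconnected.image (X.fromSpecStalk x) (X.fromSpecStalk x).continuous.continuousOn
    have e : ({z | z ⤳ x} \ T) = X.fromSpecStalk x '' (X.fromSpecStalk x ⁻¹' T)ᶜ := by
      rw [← Set.preimage_compl, Set.image_preimage_eq_inter_range, Scheme.range_fromSpecStalk,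
        Set.inter_comm]
      rfl
    rw [e]
    exact h2
  · rintro ⟨t, ht, hte⟩
    refine hT (Y.fromSpecStalk (f x) η) ?_ ⟨X.fromSpecStalk x t, ht, ?_⟩
    · intro z hz
      have hzy : z ⤳ f x := hz.trans ((Scheme.range_fromSpecStalk (x := f x)).le ⟨η, rfl⟩)
      obtain ⟨p, rfl⟩ := (Scheme.range_fromSpecStalk (X := Y) (x := f x)).ge hzy
      exact (hz.antisymm ((hη p).map (Y.fromSpecStalk (f x)).continuous)).eq
    · refine (congr($(Scheme.SpecMap_stalkMap_fromSpecStalk f (x := x)) t)).symm.trans ?_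
      exact congrArg (Y.fromSpecStalk (f x)) hte

/-- Let X and Y be locally Noetherian schemes with X connected and all local rings of Y geometrically
unibranch, and let f : X ⟶ Y be flat with geometrically reduced fibres. Then for every closed subset
T of X whose image is nowhere dense in Y, the complement of T in X is connected. -/
theorem result {X Y : Scheme.{u}} [IsLocallyNoetherian X]
    [IsLocallyNoetherian Y] [ConnectedSpace ↥X] (hY : ∀ y : Y, CAlg2.IsGeomUnibranch (Y.presheaf.stalk y))
    (f : X ⟶ Y) [Flat f] [GeometricallyReduced f]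
    (T : Set ↥X) (hT : IsClosed T) (hT' : interior (closure (f.base '' T)) = ∅) :
    IsConnected Tᶜ := by
  have hTmax : ∀ η : Y, IsMaxPoint η → η ∉ f '' T := fun η hη => by
    obtain ⟨U, hU, hηU, hUη⟩ := exists_open_generic η hη
    exact notMem_of_interior_closure_eq_empty U hU hηU hUη hT'
  exact isConnected_compl_of_local T (fun η hη hmem => hTmax _ (maxPoint_map f η hη) ⟨η, hmem, rfl⟩)
    fun x => local_preconnected f x (hY _) T hTmax

end Groth.Agent.S5045
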