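import Groth.Statements.S5046
import Groth.Agent.S5045
import Groth.Agent.UnibConn.Punctured

set_option autoImplicit false
open CategoryTheory AlgebraicGeometry
universe u
open Unram

namespace Groth.Agent.S5046
open UnibConn TensorProduct

theorem pi_transfer {A S T : Type u} [CommRing A] [CommRing S] [CommRing T] (E : S ≃+* T)
    (fS : A →+* S) (fT : A →+* T) (hf : E.toRingHom.comp fS = fT)
    (h : ∀ (m : Ideal T) [m.IsMaximal] (x : T ⧸ m),
      ∃ n : ℕ, x ^ ringExpChar (T ⧸ m) ^ n ∈ ((Ideal.Quotient.mk m).comp fT).range)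
    (m' : Ideal S) [m'.IsMaximal] (y : S) :
    ∃ (n : ℕ) (s : A), y ^ ringExpChar (S ⧸ m') ^ n - fS s ∈ m' := by
  let m := m'.comap E.symm.toRingHom
  haveI : m.IsMaximal := Ideal.comap_isMaximal_of_surjective _ E.symm.surjective
  obtain ⟨n, a, ha⟩ := h m (Ideal.Quotient.mk m (E y))
  let Q : T ⧸ m ≃+* S ⧸ m' :=
    Ideal.quotientEquiv m m' E.symm (Ideal.map_comap_of_surjective _ E.symm.surjective m').symm
  haveI : IsDomain (T ⧸ m) := Ideal.Quotient.isDomain _
  haveI : IsDomain (S ⧸ m') := Ideal.Quotient.isDomain _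
  haveI : ExpChar (T ⧸ m) (ringExpChar (T ⧸ m)) := ringExpChar.of_eq rfl
  have hq : ringExpChar (S ⧸ m') = ringExpChar (T ⧸ m) := by
    haveI : ExpChar (S ⧸ m') (ringExpChar (T ⧸ m)) :=
      expChar_of_injective_ringHom (f := Q.toRingHom) Q.injective _
    exact ringExpChar.eq _ _
  refine ⟨n, a, ?_⟩
  rw [hq]
  have h2 : E y ^ ringExpChar (T ⧸ m) ^ n - fT a ∈ m :=
    Ideal.Quotient.eq.1 (by rw [map_pow]; exact ha.symm)
  have h3 : E.symm (E y ^ ringExpChar (T ⧸ m) ^ n - fT a) ∈ m' := h2
  rw [map_sub, map_pow, E.symm_apply_apply, ← hf] at h3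
  simpa using h3

/-- The hypotheses of geometric unibranchness, for a domain and its fraction field. -/
theorem exists_normalisation (A : Type u) [CommRing A] [IsDomain A] [IsLocalRing A]
    (hA : CAlg2.IsGeomUnibranch A) :
    ∃ (K : Type u) (_ : Field K) (_ : Algebra A K) (_ : IsFractionRing A K),
      IsLocalRing (integralClosure A K) ∧
      ∀ (m' : Ideal (integralClosure A K)) [m'.IsMaximal] (y : integralClosure A K),
        ∃ (n : ℕ) (s : A), y ^ ringExpChar (integralClosure A K ⧸ m') ^ n - algebraMap A _ s ∈ m' := by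
  haveI : IsDomain (CAlg2.red A) := hA.1.1
  haveI hloc : IsLocalRing (CAlg2.normRed A) := hA.1.2
  let R := CAlg2.red A
  let K := FractionRing R
  have hsurj : Function.Surjective (algebraMap A R) := Ideal.Quotient.mk_surjective
  have hinj : Function.Injective (algebraMap A R) := (injective_iff_map_eq_zero _).2 fun a ha =>
    (mem_nilradical.1 (Ideal.Quotient.eq_zero_iff_mem.1 ha)).eq_zero
  let e : R ≃+* A := (RingEquiv.ofBijective (algebraMap A R) ⟨hinj, hsurj⟩).symm
  have hfrac : IsFractionRing A K := by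
    constructor; constructor
    · rintro ⟨a, ha⟩
      show IsUnit (algebraMap A K a)
      refine IsUnit.mk0 _ fun h => nonZeroDivisors.ne_zero ha (hinj ?_)
      rw [IsScalarTower.algebraMap_apply A R K] at h
      exact (IsFractionRing.injective R K (h.trans (map_zero _).symm)).trans (map_zero _).symm
    · intro z
      obtain ⟨⟨r, ⟨s, hs⟩⟩, hrs⟩ := IsLocalization.surj (nonZeroDivisors R) z
      obtain ⟨r, rfl⟩ := hsurj r
      obtain ⟨s, rfl⟩ := hsurj s
      refine ⟨⟨r, ⟨s, mem_nonZeroDivisors_of_ne_zero fun h => nonZeroDivisors.ne_zero hs (by rw [h, map_zero])⟩⟩, ?_⟩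
      rw [IsScalarTower.algebraMap_apply A R K, IsScalarTower.algebraMap_apply A R K]
      exact hrs
    · intro x y hxy
      rw [IsScalarTower.algebraMap_apply A R K, IsScalarTower.algebraMap_apply A R K] at hxy
      exact ⟨1, by rw [hinj (IsFractionRing.injective R K hxy)]⟩
  haveI := hfrac
  haveI : Algebra.IsIntegral A R := ⟨fun r => by
    obtain ⟨a, rfl⟩ := hsurj r
    exact isIntegral_algebraMap⟩
  have hmem : ∀ x : K, x ∈ integralClosure A K ↔ x ∈ integralClosure R K := fun x =>
    ⟨fun h => IsIntegral.tower_top (R := A) h, fun h => isIntegral_trans (A := R) x h⟩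
  let E : integralClosure A K ≃+* CAlg2.normRed A :=
    { toFun := fun x => ⟨x.1, (hmem x.1).1 x.2⟩
      invFun := fun x => ⟨x.1, (hmem x.1).2 x.2⟩
      left_inv := fun _ => rfl
      right_inv := fun _ => rfl
      map_mul' := fun _ _ => rfl
      map_add' := fun _ _ => rfl }
  refine ⟨K, inferInstance, inferInstance, inferInstance, E.symm.isLocalRing, fun m' hm' y => ?_⟩
  exact pi_transfer E (algebraMap A (integralClosure A K))
    ((algebraMap R (CAlg2.normRed A)).comp (algebraMap A R))
    (RingHom.ext fun a => Subtype.ext (IsScalarTower.algebraMap_apply A R K a)) (fun m _ x => hA.2 m x) m' y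

theorem preconnected_punctured {A B : Type u} [CommRing A] [IsDomain A] [IsNoetherianRing A] [IsLocalRing A]
    [CommRing B] [IsLocalRing B] [Algebra A B] [IsLocalHom (algebraMap A B)] [Module.Flat A B]
    (K : Type u) [Field K] [Algebra A K] [IsFractionRing A K]
    (hloc : IsLocalRing (integralClosure A K))
    (hpi : ∀ (m' : Ideal (integralClosure A K)) [m'.IsMaximal] (y : integralClosure A K),
      ∃ (n : ℕ) (s : A), y ^ ringExpChar (integralClosure A K ⧸ m') ^ n - algebraMap A _ s ∈ m')
    (hdim : 2 ≤ ringKrullDim A) (S : Set (PrimeSpectrum B))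
    (hS : ∀ q ∈ S, PrimeSpectrum.comap (algebraMap A B) q = IsLocalRing.closedPoint A) :
    _root_.IsPreconnected Sᶜ := by
  classical
  let D : Set (PrimeSpectrum B) := (PrimeSpectrum.comap (algebraMap A B) ⁻¹' {IsLocalRing.closedPoint A})ᶜ
  let j : B →+* K ⊗[A] B := (Algebra.TensorProduct.includeRight : B →ₐ[A] K ⊗[A] B).toRingHom
  have hjinj : Function.Injective j := by
    intro c c' hcc'
    have h := Module.Flat.rTensor_preserves_injective_linearMap (M := B) (Algebra.linearMap A K)
      (IsFractionRing.injective A K)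
    refine (TensorProduct.lid A B).symm.injective (h ?_)
    simpa [j] using hcc'
  have hm0 : IsLocalRing.maximalIdeal A ≠ ⊥ := fun h => by
    rw [ringKrullDim_eq_zero_of_isField (IsLocalRing.isField_iff_maximalIdeal_eq.2 h)] at hdim
    exact absurd hdim (by decide)
  have hGD : ∀ P : PrimeSpectrum (K ⊗[A] B), PrimeSpectrum.comap j P ∈ D := by
    intro P hP
    obtain ⟨a, ha, ha0⟩ := Submodule.exists_mem_ne_zero_of_ne_bot hm0
    have h1 : a ∈ (PrimeSpectrum.comap (algebraMap A B) (PrimeSpectrum.comap j P)).asIdeal := by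
      rw [show PrimeSpectrum.comap (algebraMap A B) (PrimeSpectrum.comap j P) = IsLocalRing.closedPoint A from hP]
      exact ha
    have h2 : j (algebraMap A B a) = algebraMap K (K ⊗[A] B) (algebraMap A K a) := by
      show (1 : K) ⊗ₜ[A] algebraMap A B a = (algebraMap A K a) ⊗ₜ[A] (1 : B)
      rw [Algebra.algebraMap_eq_smul_one, ← TensorProduct.smul_tmul, Algebra.smul_def, mul_one]
    have h3 : IsUnit (j (algebraMap A B a)) := by
      rw [h2]
      exact (IsUnit.mk0 _ (fun h => ha0 (IsFractionRing.injective A K (h.trans (map_zero _).symm)))).map _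
    exact P.2.ne_top (Ideal.eq_top_of_isUnit_mem _ h1 h3)
  have hdense : ∀ x : PrimeSpectrum B, ∃ P, PrimeSpectrum.comap j P ⤳ x := by
    intro x
    haveI := x.2
    obtain ⟨Q, hQ, hQx⟩ := Ideal.exists_minimalPrimes_le (I := (⊥ : Ideal B)) (J := x.asIdeal) bot_le
    obtain ⟨P, hP, hPQ⟩ := Ideal.exists_comap_eq_of_mem_minimalPrimes_of_injective hjinj Q hQ
    refine ⟨⟨P, hP⟩, (PrimeSpectrum.le_iff_specializes _ x).1 ?_⟩
    show P.comap j ≤ x.asIdeal
    rw [hPQ]; exact hQx
  have hDsub : D ⊆ Sᶜ := fun q hq hqS => hq (hS q hqS)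
  have hcl : Sᶜ ⊆ closure D := fun x _ => by
    obtain ⟨P, hP⟩ := hdense x
    exact closure_mono (Set.singleton_subset_iff.2 (hGD P)) hP.mem_closure
  refine _root_.IsPreconnected.subset_closure ?_ hDsub hcl
  intro U V hU hV hsub ⟨x, hxD, hxU⟩ ⟨y, hyD, hyV⟩
  by_contra hUV
  rw [Set.not_nonempty_iff_eq_empty] at hUV
  have hdis : ∀ z ∈ D, z ∈ U → z ∉ V := fun z hz h1 h2 => by
    have : z ∈ D ∩ (U ∩ V) := ⟨hz, h1, h2⟩
    rw [hUV] at this
    exact this
  have hclopen : ∀ {R : Type u} [CommRing R] (g : B →+* R),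
      (∀ P, PrimeSpectrum.comap g P ∈ D) → IsClopen (PrimeSpectrum.comap g ⁻¹' U) := by
    intro R _ g hg
    refine ⟨?_, hU.preimage (PrimeSpectrum.continuous_comap g)⟩
    rw [← isOpen_compl_iff]
    have : (PrimeSpectrum.comap g ⁻¹' U)ᶜ = PrimeSpectrum.comap g ⁻¹' V := Set.ext fun P =>
      ⟨fun h => (hsub (hg P)).resolve_left h, fun h1 h2 => hdis _ (hg P) h2 h1⟩
    rw [this]
    exact hV.preimage (PrimeSpectrum.continuous_comap g)
  obtain ⟨e, he, hUe⟩ := PrimeSpectrum.isClopen_iff.1 (hclopen j hGD)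
  let I : Ideal A := Submodule.comap (LinearMap.toSpanSingleton A (K ⊗[A] B) e)
    (LinearMap.range (Algebra.TensorProduct.includeRight : B →ₐ[A] K ⊗[A] B).toLinearMap)
  have hrad : IsLocalRing.maximalIdeal A ≤ I.radical := by
    intro a ha
    by_cases ha0 : a = 0
    · subst ha0; exact I.radical.zero_mem
    let a' : B := algebraMap A B a
    have hDa : ∀ P, PrimeSpectrum.comap (algebraMap B (Localization.Away a')) P ∈ D := fun P hP => by
      have h1 : a ∈ (PrimeSpectrum.comap (algebraMap A B)
          (PrimeSpectrum.comap (algebraMap B (Localization.Away a')) P)).asIdeal := by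
        rw [show PrimeSpectrum.comap (algebraMap A B) (PrimeSpectrum.comap (algebraMap B (Localization.Away a')) P) =
          IsLocalRing.closedPoint A from hP]
        exact ha
      exact P.2.ne_top (Ideal.eq_top_of_isUnit_mem _ h1 (IsLocalization.Away.algebraMap_isUnit a'))
    obtain ⟨ea, hea, hUea⟩ := PrimeSpectrum.isClopen_iff.1 (hclopen _ hDa)
    have hunit : IsUnit (j a') := by
      have h2 : j a' = algebraMap K (K ⊗[A] B) (algebraMap A K a) := by
        show (1 : K) ⊗ₜ[A] algebraMap A B a = (algebraMap A K a) ⊗ₜ[A] (1 : B)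
        rw [Algebra.algebraMap_eq_smul_one, ← TensorProduct.smul_tmul, Algebra.smul_def, mul_one]
      rw [h2]
      exact (IsUnit.mk0 _ (fun h => ha0 (IsFractionRing.injective A K (h.trans (map_zero _).symm)))).map _
    let l : Localization.Away a' →+* K ⊗[A] B := IsLocalization.Away.lift a' hunit
    have hl : l.comp (algebraMap B (Localization.Away a')) = j := IsLocalization.Away.lift_comp a' hunit
    have hle : l ea = e := by
      refine PrimeSpectrum.basicOpen_injOn_isIdempotentElem (hea.map l) he (SetLike.coe_injective ?_)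
      rw [← hUe, ← hl, PrimeSpectrum.comap_comp, Set.preimage_comp, hUea]
      rfl
    obtain ⟨c, ⟨_, N, rfl⟩, hc⟩ := IsLocalization.exists_mk'_eq (Submonoid.powers a') ea
    refine ⟨N, c, ?_⟩
    show j c = a ^ N • e
    have h1 : algebraMap B (Localization.Away a') (a' ^ N) * ea = algebraMap B (Localization.Away a') c := by
      rw [← hc]
      exact IsLocalization.mk'_spec' (M := Submonoid.powers a') _ c ⟨a' ^ N, ⟨N, rfl⟩⟩
    have h2 := congrArg l h1
    rw [map_mul, ← RingHom.comp_apply, ← RingHom.comp_apply, hl, hle] at h2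
    rw [← h2, map_pow, Algebra.smul_def, map_pow]
    congr 2
    show (1 : K) ⊗ₜ[A] algebraMap A B a = algebraMap A (K ⊗[A] B) a
    rw [Algebra.TensorProduct.algebraMap_apply, Algebra.algebraMap_eq_smul_one, ← TensorProduct.smul_tmul,
      Algebra.smul_def, mul_one]
  obtain ⟨k, hk⟩ := Ideal.exists_pow_le_of_le_radical_of_fg hrad (IsNoetherian.noetherian _)
  rcases idempotent_trivial_punctured K hloc hpi hdim he k (fun i hi => by
    obtain ⟨c, hc⟩ := hk hi
    exact ⟨c, hc.symm⟩) with rfl | rfl
  · obtain ⟨P, hP⟩ := hdense x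
    have h1 : P ∈ PrimeSpectrum.comap j ⁻¹' U := hP.mem_open hU hxU
    rw [hUe, PrimeSpectrum.basicOpen_zero] at h1
    exact h1
  · obtain ⟨P, hP⟩ := hdense y
    have h1 : PrimeSpectrum.comap j P ∈ V := hP.mem_open hV hyV
    have h2 : P ∈ PrimeSpectrum.comap j ⁻¹' U := by
      rw [hUe, PrimeSpectrum.basicOpen_one]; trivial
    exact hdis _ (hGD P) h2 h1

/-- Let A be a Noetherian local domain of Krull dimension at least 2 which is geometrically unibranch, X
a connected locally Noetherian scheme and f : X ⟶ Spec A a flat morphism. Then for every closed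
subset T of X lying over the closed point of Spec A, the complement of T in X is connected. -/
theorem result (A : Type u) [CommRing A]
    [IsNoetherianRing A] [IsLocalRing A] [IsDomain A] (hA : CAlg2.IsGeomUnibranch A) (hdim : 2 ≤ ringKrullDim A)
    {X : Scheme.{u}} [IsLocallyNoetherian X] [ConnectedSpace ↥X] (f : X ⟶ Spec (CommRingCat.of A)) [Flat f]
    (T : Set ↥X) (hT : IsClosed T) (hTy : ∀ x ∈ T, f.base x = IsLocalRing.closedPoint A) :
    IsConnected Tᶜ := by
  obtain ⟨K, _, _, _, hloc, hpi⟩ := exists_normalisation A hA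
  have hmax : ∀ η : X, IsMaxPoint η → η ∉ T := by
    intro η hη hmem
    have hy := hTy η hmem
    have h1 : IsMaxPoint (IsLocalRing.closedPoint A) := hy ▸ S5045.maxPoint_map f η hη
    have h0 : (⟨⊥, Ideal.isPrime_bot⟩ : PrimeSpectrum A) = IsLocalRing.closedPoint A :=
      h1 _ ((PrimeSpectrum.le_iff_specializes _ _).1 bot_le)
    rw [ringKrullDim_eq_zero_of_isField (IsLocalRing.isField_iff_maximalIdeal_eq.2
      (congrArg PrimeSpectrum.asIdeal h0).symm)] at hdim
    exact absurd hdim (by decide)
  refine isConnected_compl_of_local T hmax fun x => ?_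
  have e : ({z | z ⤳ x} \ T) = X.fromSpecStalk x '' (X.fromSpecStalk x ⁻¹' T)ᶜ := by
    rw [← Set.preimage_compl, Set.image_preimage_eq_inter_range, Scheme.range_fromSpecStalk,
      Set.inter_comm]
    rfl
  rw [e]
  refine _root_.IsPreconnected.image ?_ _ (X.fromSpecStalk x).continuous.continuousOn
  by_cases hx : f x = IsLocalRing.closedPoint A
  · let φ : A →+* X.presheaf.stalk x :=
      (f.stalkMap x).hom.comp (StructureSheaf.toStalk A (f x)).hom
    letI : Algebra A (X.presheaf.stalk x) := φ.toAlgebra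
    haveI : Module.Flat A (X.presheaf.stalk x) := by
      let p : PrimeSpectrum A := f x
      haveI : Module.Flat A ((Spec.structureSheaf A).presheaf.stalk p) := IsLocalization.flat _ p.asIdeal.primeCompl
      exact RingHom.Flat.comp (f := (StructureSheaf.toStalk A p).hom) (RingHom.flat_algebraMap_iff.2 this)
        (Flat.stalkMap f x)
    have hφ : Spec.map (CommRingCat.ofHom φ) = X.fromSpecStalk x ≫ f := by
      rw [← Scheme.SpecMap_stalkMap_fromSpecStalk, Spec.fromSpecStalk_eq']
      exact Spec.map_comp _ _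
    have hcomap : ∀ q, PrimeSpectrum.comap (algebraMap A (X.presheaf.stalk x)) q = f (X.fromSpecStalk x q) :=
      fun q => congr($hφ q)
    haveI : IsLocalHom (algebraMap A (X.presheaf.stalk x)) := by
      refine ((IsLocalRing.local_hom_TFAE _).out 0 4).2 ?_
      have := hcomap (IsLocalRing.closedPoint _)
      rw [Scheme.fromSpecStalk_closedPoint, hx] at this
      exact congrArg PrimeSpectrum.asIdeal this
    exact preconnected_punctured K hloc hpi hdim _ fun q hq => (hcomap q).trans (hTy _ hq)
  · have hcl : IsLocalRing.closedPoint (X.presheaf.stalk x) ∈ (X.fromSpecStalk x ⁻¹' T)ᶜ := fun h =>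
      hx (Scheme.fromSpecStalk_closedPoint (x := x) ▸ hTy _ h)
    have hemp : X.fromSpecStalk x ⁻¹' T = ∅ := Set.eq_empty_of_forall_notMem fun q hq => by
      refine hcl ?_
      exact ((IsLocalRing.specializes_closedPoint q).map (X.fromSpecStalk x).continuous).mem_closed hT hq
    rw [hemp, Set.compl_empty]
    intro U V hU hV hsub ⟨u, hu⟩ ⟨v, hv⟩
    rcases hsub (Set.mem_univ (IsLocalRing.closedPoint (X.presheaf.stalk x))) with h | h
    · exact ⟨v, Set.mem_univ _, (IsLocalRing.specializes_closedPoint v).mem_open hU h, hv.2⟩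
    · exact ⟨u, Set.mem_univ _, hu.2, (IsLocalRing.specializes_closedPoint u).mem_open hV h⟩

end Groth.Agent.S5046
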