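import Groth.Statements.S5049
import Groth.Agent.SmallFlat.Comps

set_option autoImplicit false
open CategoryTheory AlgebraicGeometry
universe u
open Unram

namespace Groth.Agent.S5049

/-- Let f : X ⟶ Y be flat, locally of finite type and locally quasi-finite. If the irreducible
components of Y form a locally finite family of subsets, then so do the irreducible components of X. -/
theorem result {X Y : Scheme.{u}} (f : X ⟶ Y)
    [Flat f] [LocallyOfFiniteType f] [LocallyQuasiFinite f]
    (hY : LocallyFinite (fun Z : ↥(irreducibleComponents ↥Y) => (Z : Set ↥Y))) :
    LocallyFinite (fun Z : ↥(irreducibleComponents ↥X) => (Z : Set ↥X)) := by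
  exact Groth.Agent.SmallFlat.locallyFinite_components f hY

end Groth.Agent.S5049
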