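import Groth.Statements.S5050
import Mathlib.RingTheory.Filtration
-- import your own Groth.Agent.* helpers here

set_option autoImplicit false
universe u v
open CInt

namespace Groth.Agent.S5050

/-- Let A be a Noetherian ring, N a finitely generated A-module, E and F submodules of N and Q an ideal
of A. For every natural number k there is h > 0 with E ⊓ (F ⊔ Q^h N) ≤ (E ⊓ F) ⊔ Q^k N. -/
theorem result {A : Type u} [CommRing A] [IsNoetherianRing A] {N : Type v} [AddCommGroup N]
    [Module A N] [Module.Finite A N] (E F : Submodule A N) (Q : Ideal A) (k : ℕ) :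
    ∃ h : ℕ, 0 < h ∧ E ⊓ (F ⊔ Q ^ h • (⊤ : Submodule A N)) ≤ (E ⊓ F) ⊔ Q ^ k • (⊤ : Submodule A N) := by
  obtain ⟨c, hc⟩ := Ideal.exists_pow_inf_eq_pow_smul Q (E ⊔ F)
  refine ⟨c + k + 1, Nat.succ_pos _, ?_⟩
  intro x hx
  obtain ⟨hxE, hxs⟩ := Submodule.mem_inf.mp hx
  obtain ⟨a, ha, q, hq, rfl⟩ := Submodule.mem_sup.mp hxs
  have hq' : q ∈ Q ^ (k + 1) • (E ⊔ F) := by
    have hqEF : q ∈ E ⊔ F := by
      have := sub_mem (Submodule.mem_sup_left (T := F) hxE) (Submodule.mem_sup_right (S := E) ha)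
      simpa using this
    have hmem : q ∈ Q ^ (c + k + 1) • (⊤ : Submodule A N) ⊓ (E ⊔ F) := ⟨hq, hqEF⟩
    rw [hc (c + k + 1) (by omega), show c + k + 1 - c = k + 1 by omega] at hmem
    exact Submodule.smul_mono le_rfl inf_le_right hmem
  rw [Submodule.smul_sup] at hq'
  obtain ⟨e, he, g, hg, rfl⟩ := Submodule.mem_sup.mp hq'
  have heE : e ∈ E := Submodule.smul_le_right he
  have hgF : g ∈ F := Submodule.smul_le_right hg
  have he' : e ∈ Q ^ k • (⊤ : Submodule A N) :=
    Submodule.smul_mono (Ideal.pow_le_pow_right (Nat.le_succ k)) le_top he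
  have h3 : a + g ∈ E ⊓ F := by
    refine ⟨?_, add_mem ha hgF⟩
    have := sub_mem hxE heE
    rwa [show a + (e + g) - e = a + g by abel] at this
  rw [show a + (e + g) = (a + g) + e by abel]
  exact add_mem (Submodule.mem_sup_left h3) (Submodule.mem_sup_right he')

end Groth.Agent.S5050
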