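import Groth.Statements.S5052
import Groth.Agent.EtCount.Basic

set_option autoImplicit false
open CategoryTheory AlgebraicGeometry
universe u
open Unram

namespace Groth.Agent.S5052

open Groth.Agent.EtCount in
theorem card_geomFiber_restrict {X Y : Scheme.{u}} (f : X ⟶ Y) [Etale f] (U : Y.Opens) (u : U.toScheme) :
    ENat.card ↥(MoreMor.geomFiber (f ∣_ U) u) = ENat.card ↥(MoreMor.geomFiber f (U.ι u)) := by
  rw [card_geomFiber]
  have h1 : ENat.card (Lifts (f ∣_ U) (geomPt u)) = ENat.card (Lifts f (geomPt u ≫ U.ι)) := by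
    refine ENat.card_congr ⟨fun a => ⟨a.1 ≫ (f ⁻¹ᵁ U).ι, ?_⟩, fun b => ⟨(isPullback_morphismRestrict f U).lift (geomPt u) b.1 b.2.symm, (isPullback_morphismRestrict f U).lift_fst _ _ _⟩, ?_, ?_⟩
    · rw [Category.assoc, ← morphismRestrict_ι, ← Category.assoc, a.2]
    · intro a
      exact Subtype.ext ((isPullback_morphismRestrict f U).hom_ext (by simp [a.2]) (by simp))
    · intro b
      exact Subtype.ext ((isPullback_morphismRestrict f U).lift_snd _ _ _)
  rw [h1, card_lifts_of_point]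
  exact congrArg (fun z => ENat.card ↥(MoreMor.geomFiber f z))
    ((Scheme.Hom.comp_apply _ _ _).trans (congrArg U.ι (geomPt_apply u _)))

/-- Let f : X ⟶ Y be étale, separated and of finite type, and y a point of Y. The number of points of
the geometric fibre is constant on a neighbourhood of y if and only if the restriction of f over
some open neighbourhood of y is a finite morphism. -/
theorem result {X Y : Scheme.{u}} (f : X ⟶ Y) [Etale f] [IsSeparated f]
    [LocallyOfFiniteType f] [QuasiCompact f] (y : Y) :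
    (∃ U : Y.Opens, y ∈ U ∧ ∀ y' : Y, y' ∈ U → ENat.card ↥(MoreMor.geomFiber f y') = ENat.card ↥(MoreMor.geomFiber f y)) ↔
      ∃ U : Y.Opens, y ∈ U ∧ IsFinite (f ∣_ U) := by
  constructor
  · rintro ⟨U, hy, hU⟩
    refine ⟨U, hy, ?_⟩
    have := Groth.Agent.EtCount.finite_geomFiber f y
    obtain ⟨m, hm⟩ := ENat.ne_top_iff_exists.1 (ENat.card_lt_top.2 this).ne
    refine Groth.Agent.EtCount.isFinite_of_card_eq m (f ∣_ U) fun u => ?_
    rw [card_geomFiber_restrict, hm]
    exact hU _ u.2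
  · rintro ⟨U, hy, hfin⟩
    have := Groth.Agent.EtCount.finite_geomFiber f y
    obtain ⟨m, hm⟩ := ENat.ne_top_iff_exists.1 (ENat.card_lt_top.2 this).ne
    let S : Set U.toScheme := {z | (m : ℕ∞) ≤ ENat.card ↥(MoreMor.geomFiber (f ∣_ U) z)} ∩
      {z | ((m + 1 : ℕ) : ℕ∞) ≤ ENat.card ↥(MoreMor.geomFiber (f ∣_ U) z)}ᶜ
    have hS : IsOpen S := (Groth.Agent.EtCount.isOpen_le_card m _).inter
      (Groth.Agent.EtCount.isClosed_le_card (m + 1) _).isOpen_compl
    refine ⟨⟨U.ι '' S, U.ι.isOpenEmbedding.isOpenMap S hS⟩, ⟨(⟨y, hy⟩ : U), ?_, rfl⟩, ?_⟩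
    · refine ⟨?_, ?_⟩
      · show (m : ℕ∞) ≤ _
        rw [card_geomFiber_restrict]; exact hm.le
      · show ¬ ((m + 1 : ℕ) : ℕ∞) ≤ _
        rw [card_geomFiber_restrict]
        show ¬ _ ≤ ENat.card ↥(MoreMor.geomFiber f y)
        rw [← hm]; exact_mod_cast Nat.not_succ_le_self m
    · rintro _ ⟨z, ⟨h1, h2⟩, rfl⟩
      rw [← card_geomFiber_restrict, ← hm]
      refine le_antisymm ?_ h1
      by_contra hc
      exact h2 (Order.add_one_le_of_lt (lt_of_not_ge hc) |>.trans' (by simp))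

end Groth.Agent.S5052
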