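import Groth.Statements.S5053
import Groth.Agent.EtCount.Basic

set_option autoImplicit false
open CategoryTheory AlgebraicGeometry
universe u
open Unram

namespace Groth.Agent.S5053

/-- Let Y be a connected scheme and f : X ⟶ Y étale, separated and of finite type. Then f is finite if
and only if all geometric fibres of f have the same number of points. -/
theorem result {X Y : Scheme.{u}} [ConnectedSpace ↥Y] (f : X ⟶ Y)
    [Etale f] [IsSeparated f] [LocallyOfFiniteType f] [QuasiCompact f] :
    IsFinite f ↔ ∃ n : ℕ∞, ∀ y : Y, ENat.card ↥(MoreMor.geomFiber f y) = n := by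
  exact Groth.Agent.EtCount.isFinite_iff_card_const f

end Groth.Agent.S5053
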