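import Groth.Statements.S5056
import Mathlib
import Groth.Agent.FormCat.HenselDomain
-- import your own Groth.Agent.* helpers here

set_option autoImplicit false
universe u
open Hensel
open scoped TensorProduct

namespace Groth.Agent.S5056

/-- Let A be a Noetherian henselian local domain whose formal fibres are geometrically normal, Â its
completion (an integral domain), K and L fraction fields of A and Â with L a K-algebra compatibly.
Then L is geometrically reduced over K (a separable extension) and every element of L algebraic over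
K lies in K. -/
theorem result (A : Type u) [CommRing A] [IsNoetherianRing A]
    [HenselianLocalRing A] [IsDomain A] (h : EGA4.HasGeomNormalFormalFibres A) [IsDomain (EGA4.Cpl A)]
    (K L : Type u) [Field K] [Field L] [Algebra A K] [IsFractionRing A K]
    [Algebra (EGA4.Cpl A) L] [IsFractionRing (EGA4.Cpl A) L] [Algebra K L] [Algebra A L]
    [IsScalarTower A K L] [IsScalarTower A (EGA4.Cpl A) L] :
    Algebra.IsGeometricallyReduced K L ∧ ∀ x : L, IsAlgebraic K x → x ∈ Set.range (algebraMap K L) := by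
  classical
  haveI := FlatLoc6.faithfullyFlat_cpl A
  haveI : Module.Flat A (EGA4.Cpl A) := inferInstance
  -- finite extensions of `K` tensored with the generic formal fibre are domains
  have key : ∀ (F : Type u) [Field F] [Algebra K F], Module.Finite K F →
      IsDomain (F ⊗[K] (K ⊗[A] EGA4.Cpl A)) := by
    intro F _ _ hfin
    haveI := hfin
    letI : Algebra A F := ((algebraMap K F).comp (algebraMap A K)).toAlgebra
    haveI : IsScalarTower A K F := IsScalarTower.of_algebraMap_eq fun _ => rfl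
    obtain ⟨s, b, hb⟩ := FiniteDimensional.exists_is_basis_integral A K F
    let C : Subalgebra A F := Algebra.adjoin A (Set.range b)
    haveI : Module.Finite A C := Algebra.finite_adjoin_of_finite_of_isIntegral (Set.finite_range _)
      (by rintro _ ⟨i, rfl⟩; exact hb i)
    haveI : IsFractionRing C F := by
      refine IsFractionRing.of_field C F fun z => ?_
      obtain ⟨d, hd⟩ := IsLocalization.exist_integer_multiples_of_finset (nonZeroDivisors A)
        (Finset.univ.image fun i => b.repr z i)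
      have hmem : algebraMap A F d * z ∈ C := by
        rw [← b.sum_repr z, Finset.mul_sum]
        refine Subalgebra.sum_mem _ fun i _ => ?_
        obtain ⟨a, ha⟩ := hd (b.repr z i) (Finset.mem_image_of_mem _ (Finset.mem_univ i))
        have : algebraMap A F d * (b.repr z i • b i) = algebraMap A F a * b i := by
          rw [Algebra.smul_def, ← mul_assoc, IsScalarTower.algebraMap_apply A K F, ← map_mul,
            IsScalarTower.algebraMap_apply A K F a, ha, Algebra.smul_def]
        rw [this]
        exact mul_mem (Subalgebra.algebraMap_mem C a) (Algebra.subset_adjoin ⟨i, rfl⟩)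
      refine ⟨⟨_, hmem⟩, algebraMap A C (d : A), ?_⟩
      show z = (algebraMap A F d * z) / algebraMap A F d
      rw [mul_div_cancel_left₀]
      rw [IsScalarTower.algebraMap_apply A K F]
      exact (map_ne_zero _).2 fun e => nonZeroDivisors.ne_zero d.2 (IsFractionRing.injective A K (e.trans (map_zero _).symm))
    haveI := FormCat.isDomain_tensor_fractionRing A h C
    let f : FractionRing C ≃ₐ[A] F := (FractionRing.algEquiv C F).restrictScalars A
    exact (((Algebra.TensorProduct.cancelBaseChange A K F F (EGA4.Cpl A)).toRingEquiv.trans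
      (Algebra.TensorProduct.comm A F (EGA4.Cpl A)).toRingEquiv).trans
      (Algebra.TensorProduct.congr (AlgEquiv.refl (R := A) (A₁ := EGA4.Cpl A)) f.symm).toRingEquiv).toMulEquiv.isDomain _
  obtain ⟨θ, hθ1⟩ : ∃ θ : K ⊗[A] EGA4.Cpl A →ₐ[K] L, ∀ c, θ ((1 : K) ⊗ₜ[A] c) = algebraMap (EGA4.Cpl A) L c :=
    ⟨Algebra.TensorProduct.lift (Algebra.ofId K L) (IsScalarTower.toAlgHom A (EGA4.Cpl A) L) fun _ _ => Commute.all _ _,
      fun c => by
        rw [Algebra.TensorProduct.lift_tmul, map_one, one_mul]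
        rfl⟩
  have hclear : ∀ w : (K ⊗[A] EGA4.Cpl A), ∃ a : A, a ≠ 0 ∧ ∃ c : EGA4.Cpl A, algebraMap A K a • w = (1 : K) ⊗ₜ[A] c := fun w => by
    induction w using TensorProduct.induction_on with
    | zero => exact ⟨1, one_ne_zero, 0, by simp⟩
    | tmul k c =>
      obtain ⟨a, d, hd, rfl⟩ := IsFractionRing.div_surjective (A := A) k
      refine ⟨d, nonZeroDivisors.ne_zero hd, a • c, ?_⟩
      rw [TensorProduct.smul_tmul', smul_eq_mul, mul_div_cancel₀ _
        (IsFractionRing.to_map_ne_zero_of_mem_nonZeroDivisors hd), ← mul_one (algebraMap A K a), ← Algebra.smul_def,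
        TensorProduct.smul_tmul]
    | add x y hx hy =>
      obtain ⟨a, ha, c, hc⟩ := hx
      obtain ⟨a', ha', c', hc'⟩ := hy
      refine ⟨a * a', mul_ne_zero ha ha', a' • c + a • c', ?_⟩
      rw [map_mul, mul_smul, smul_add, smul_add, hc', smul_comm, hc, TensorProduct.tmul_add,
        TensorProduct.tmul_smul, TensorProduct.tmul_smul, ← IsScalarTower.algebraMap_smul K a' ((1 : K) ⊗ₜ[A] c),
        ← IsScalarTower.algebraMap_smul K a ((1 : K) ⊗ₜ[A] c')]
  have hcL : Function.Injective (algebraMap (EGA4.Cpl A) L) := IsFractionRing.injective _ _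
  have hθ : Function.Injective θ := (injective_iff_map_eq_zero _).2 fun w hw => by
    obtain ⟨a, ha, c, hc⟩ := hclear w
    have h1 := congrArg θ hc
    rw [map_smul, hw, smul_zero, hθ1] at h1
    rw [hcL (h1.symm.trans (map_zero _).symm), TensorProduct.tmul_zero] at hc
    exact (smul_eq_zero.1 hc).resolve_left fun e => ha (IsFractionRing.injective A K (e.trans (map_zero _).symm))
  constructor
  · rw [Algebra.isGeometricallyReduced_field_iff]
    let kb := AlgebraicClosure K
    haveI := FormCat.isDomain_tensor_of_finite K (K ⊗[A] EGA4.Cpl A) key kb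
    refine ⟨fun w hw => ?_⟩
    let Θ := Algebra.TensorProduct.map (AlgHom.id K kb) θ
    obtain ⟨c, hc, z, hz⟩ : ∃ c : EGA4.Cpl A, c ≠ 0 ∧ ∃ z, Θ z = w * (1 ⊗ₜ[K] algebraMap (EGA4.Cpl A) L c) := by
      clear hw
      induction w using TensorProduct.induction_on with
      | zero => exact ⟨1, one_ne_zero, 0, by simp⟩
      | tmul k l =>
        obtain ⟨u, v, hv, rfl⟩ := IsFractionRing.div_surjective (A := EGA4.Cpl A) l
        refine ⟨v, nonZeroDivisors.ne_zero hv, k ⊗ₜ[K] ((1 : K) ⊗ₜ[A] u), ?_⟩
        rw [Algebra.TensorProduct.map_tmul, hθ1, Algebra.TensorProduct.tmul_mul_tmul, mul_one,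
          div_mul_cancel₀ _ (IsFractionRing.to_map_ne_zero_of_mem_nonZeroDivisors hv)]
        rfl
      | add x y hx hy =>
        obtain ⟨c, hc, z, hz⟩ := hx
        obtain ⟨c', hc', z', hz'⟩ := hy
        refine ⟨c * c', mul_ne_zero hc hc', z * (1 ⊗ₜ[K] ((1 : K) ⊗ₜ[A] c')) + z' * (1 ⊗ₜ[K] ((1 : K) ⊗ₜ[A] c)), ?_⟩
        rw [map_add, map_mul, map_mul, hz, hz', Algebra.TensorProduct.map_tmul, Algebra.TensorProduct.map_tmul,
          hθ1, hθ1, AlgHom.id_apply, add_mul, mul_assoc, mul_assoc, Algebra.TensorProduct.tmul_mul_tmul,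
          Algebra.TensorProduct.tmul_mul_tmul, mul_one, map_mul, mul_comm (algebraMap (EGA4.Cpl A) L c)]
    have hΘ : Function.Injective Θ := Module.Flat.lTensor_preserves_injective_linearMap (M := kb) θ.toLinearMap hθ
    obtain ⟨n, hn⟩ := hw
    have hz0 : z = 0 := IsReduced.eq_zero z ⟨n, hΘ (by rw [map_pow, hz, mul_pow, hn, zero_mul, map_zero])⟩
    rw [hz0, map_zero] at hz
    refine (IsUnit.mul_left_eq_zero ?_).1 hz.symm
    refine isUnit_iff_exists_inv.2 ⟨1 ⊗ₜ[K] (algebraMap (EGA4.Cpl A) L c)⁻¹, ?_⟩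
    rw [Algebra.TensorProduct.tmul_mul_tmul, one_mul, mul_inv_cancel₀ fun e => hc (hcL (e.trans (map_zero _).symm))]
    rfl
  · intro x hx
    let F := IntermediateField.adjoin K ({x} : Set L)
    haveI : FiniteDimensional K F := IntermediateField.adjoin.finiteDimensional hx.isIntegral
    haveI : IsDomain (F ⊗[K] (K ⊗[A] EGA4.Cpl A)) := key F inferInstance
    haveI : IsDomain ((K ⊗[A] EGA4.Cpl A) ⊗[K] F) := (Algebra.TensorProduct.comm K (K ⊗[A] EGA4.Cpl A) F).toRingEquiv.toMulEquiv.isDomain _
    obtain ⟨u, v, hv, huv⟩ := IsFractionRing.div_surjective (A := EGA4.Cpl A) x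
    have hv0 : algebraMap (EGA4.Cpl A) L v ≠ 0 := IsFractionRing.to_map_ne_zero_of_mem_nonZeroDivisors hv
    let μ : (K ⊗[A] EGA4.Cpl A) ⊗[K] F →ₐ[K] L := Algebra.TensorProduct.lift θ F.val fun _ _ => Commute.all _ _
    have hdom : ∀ (S' T : Type u) [CommRing S'] [CommRing T] [IsDomain T] [Nontrivial S'] [Algebra S' T]
        [Algebra.IsIntegral S' T] (m : T →+* L), (∀ s, m (algebraMap S' T s) = 0 → s = 0) → ∀ w, m w = 0 → w = 0 :=
      fun S' T _ _ _ _ _ _ m hm w hw => by_contra fun h0 => by
        refine Ideal.comap_ne_bot_of_integral_mem h0 (I := RingHom.ker m) (RingHom.mem_ker.2 hw)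
          (Algebra.IsIntegral.isIntegral (R := S') w) (le_bot_iff.1 fun s hs => ?_)
        exact Ideal.mem_bot.2 (hm s (RingHom.mem_ker.1 (Ideal.mem_comap.1 hs)))
    haveI : Nontrivial (K ⊗[A] EGA4.Cpl A) := θ.toRingHom.domain_nontrivial
    have hμ0 : ∀ w, μ w = 0 → w = 0 := hdom (K ⊗[A] EGA4.Cpl A) ((K ⊗[A] EGA4.Cpl A) ⊗[K] F) μ.toRingHom fun s hs => by
      have h1 : μ (s ⊗ₜ[K] (1 : F)) = 0 := hs
      rw [Algebra.TensorProduct.lift_tmul, map_one, mul_one] at h1
      exact hθ (h1.trans (map_zero _).symm)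
    have hz : ((1 : K) ⊗ₜ[A] v) ⊗ₜ[K] (⟨x, IntermediateField.mem_adjoin_simple_self K x⟩ : F) -
        ((1 : K) ⊗ₜ[A] u) ⊗ₜ[K] (1 : F) = 0 := by
      refine hμ0 _ ?_
      rw [map_sub, Algebra.TensorProduct.lift_tmul,
        Algebra.TensorProduct.lift_tmul, hθ1, hθ1, map_one, mul_one, sub_eq_zero]
      show _ * x = _
      rw [← huv, mul_div_cancel₀ _ hv0]
    by_contra hxK
    obtain ⟨φ, hφ1, hφx⟩ : ∃ φ : F →ₗ[K] K, φ 1 = 0 ∧ φ ⟨x, IntermediateField.mem_adjoin_simple_self K x⟩ = 1 := by
      have hli : (⟨x, IntermediateField.mem_adjoin_simple_self K x⟩ : F) ∉ Submodule.span K ({1} : Set F) := fun hm => by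
        obtain ⟨k, hk⟩ := Submodule.mem_span_singleton.1 hm
        exact hxK ⟨k, by
          have := congrArg Subtype.val hk
          simpa [Algebra.smul_def] using this⟩
      obtain ⟨φ, hφx, hφ⟩ := Submodule.exists_dual_map_eq_bot_of_notMem hli inferInstance
      refine ⟨(φ ⟨x, IntermediateField.mem_adjoin_simple_self K x⟩)⁻¹ • φ, ?_, by simp [hφx]⟩
      have : φ 1 ∈ Submodule.map φ (Submodule.span K ({1} : Set F)) :=
        Submodule.mem_map_of_mem (Submodule.mem_span_singleton_self 1)
      rw [hφ, Submodule.mem_bot] at this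
      simp [this]
    have h2 := congrArg (TensorProduct.rid K (K ⊗[A] EGA4.Cpl A)) (congrArg (LinearMap.lTensor (K ⊗[A] EGA4.Cpl A) φ) hz)
    simp only [map_sub, map_zero, LinearMap.lTensor_tmul, hφ1, hφx, TensorProduct.tmul_zero, sub_zero,
      TensorProduct.rid_tmul, one_smul] at h2
    exact hv0 (by rw [← hθ1, h2, map_zero])

end Groth.Agent.S5056
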