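import Groth.Statements.S5057
-- import your own Groth.Agent.* helpers here

set_option autoImplicit false
open CategoryTheory CategoryTheory.Limits AlgebraicGeometry
universe u
open Hensel

namespace Groth.Agent.S5057

/-- Let i : S₀ ⟶ S be a closed immersion such that for every finite morphism g : S' ⟶ S every
open-closed subset of S' ×_S S₀ is the inverse image under the first projection of exactly one
open-closed subset of S'. Then for every finite morphism g : S' ⟶ S, every open subset of S'
containing the image of S' ×_S S₀ is all of S'. -/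
theorem result {S S₀ : Scheme.{u}} (i : S₀ ⟶ S) [IsClosedImmersion i]
    (ha : ∀ (S' : Scheme.{u}) (g : S' ⟶ S), IsFinite g →
      ∀ V : Set ↥(pullback g i), IsClopen V → ∃! U : Set ↥S', IsClopen U ∧ (pullback.fst g i).base ⁻¹' U = V)
    {S' : Scheme.{u}} (g : S' ⟶ S) [IsFinite g] (U : Set ↥S') (hU : IsOpen U)
    (hU₀ : Set.range (pullback.fst g i).base ⊆ U) : U = Set.univ := by
  let I := Scheme.IdealSheafData.vanishingIdeal (X := S') ⟨Uᶜ, hU.isClosed_compl⟩
  have hrange : Set.range I.subschemeι.base = Uᶜ := by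
    rw [Scheme.IdealSheafData.range_subschemeι, Scheme.IdealSheafData.coe_support_vanishingIdeal]
    rfl
  have hempty : IsEmpty ↥(Limits.pullback (I.subschemeι ≫ g) i) := ⟨fun w => by
    let l : Limits.pullback (I.subschemeι ≫ g) i ⟶ Limits.pullback g i :=
      Limits.pullback.lift (Limits.pullback.fst _ _ ≫ I.subschemeι) (Limits.pullback.snd _ _)
        (by rw [Category.assoc, Limits.pullback.condition])
    have h1 : I.subschemeι.base ((Limits.pullback.fst (I.subschemeι ≫ g) i).base w) ∈ Uᶜ :=
      hrange ▸ Set.mem_range_self _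
    refine h1 (hU₀ ⟨l.base w, ?_⟩)
    show (l ≫ Limits.pullback.fst g i).base w = (Limits.pullback.fst _ _ ≫ I.subschemeι).base w
    rw [Limits.pullback.lift_fst]⟩
  obtain ⟨W, -, huniq⟩ := ha I.subscheme (I.subschemeι ≫ g) inferInstance ∅ isClopen_empty
  have h1 := (huniq Set.univ ⟨isClopen_univ, Set.eq_empty_of_isEmpty _⟩).trans
    (huniq ∅ ⟨isClopen_empty, Set.preimage_empty⟩).symm
  by_contra hne
  obtain ⟨x, hx⟩ := (Set.ne_univ_iff_exists_notMem _).mp hne
  obtain ⟨z, -⟩ := hrange.symm ▸ (show x ∈ Uᶜ from hx)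
  exact (Set.eq_empty_iff_forall_notMem.mp h1 z) trivial
end Groth.Agent.S5057
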