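import Groth.Statements.S5058
import Mathlib
import Groth.Agent.S0591
import Groth.Agent.Hensel.HenselizationDescent
-- import your own Groth.Agent.* helpers here

set_option autoImplicit false
open CategoryTheory CategoryTheory.Limits AlgebraicGeometry
universe u
open Hensel

namespace Groth.Agent.S5058

section limit

open CategoryTheory.Limits Opposite
set_option backward.isDefEq.respectTransparency false
set_option backward.isDefEq.respectTransparency.types false

variable (A : Type u) [CommRing A]

/-- Finite type subrings. -/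
def FTSub : Type u := {S : Subalgebra ℤ A // S.FG}

instance : Preorder (FTSub A) := Subtype.preorder _
instance : Nonempty (FTSub A) := ⟨⟨⊥, Subalgebra.fg_bot⟩⟩
instance : IsDirectedOrder (FTSub A) := ⟨fun a b => ⟨⟨a.1 ⊔ b.1, a.2.sup b.2⟩, le_sup_left (α := Subalgebra ℤ A), le_sup_right (α := Subalgebra ℤ A)⟩⟩
instance : IsFiltered (FTSub A) := isFiltered_of_directed_le_nonempty _
instance : IsCofiltered (FTSub A)ᵒᵖ := isCofiltered_op_of_isFiltered _

/-- The rings. -/
noncomputable def rings : FTSub A ⥤ CommRingCat.{u} where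
  obj S := CommRingCat.of S.1
  map h := CommRingCat.ofHom (Subalgebra.inclusion (leOfHom h : _)).toRingHom
  map_id S := rfl
  map_comp f g := rfl

/-- The union. -/
noncomputable def cocone : Cocone (rings A) where
  pt := CommRingCat.of A
  ι := { app := fun S => CommRingCat.ofHom S.1.val.toRingHom, naturality := fun S S' h => rfl }

/-- A ring is the colimit of its finite type subrings. -/
noncomputable def isColimit : IsColimit (cocone A) := by
  haveI : ReflectsColimit (rings A) (forget CommRingCat.{u}) := reflectsColimit_of_reflectsIsomorphisms _ _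
  refine isColimitOfReflects (forget CommRingCat.{u}) ?_
  refine Types.FilteredColimit.isColimitOf' _ _ (fun z => ?_) fun S a b h => ⟨S, 𝟙 S, ?_⟩
  · let z' : A := z
    exact ⟨⟨Algebra.adjoin ℤ (({z'} : Finset A) : Set A), Subalgebra.fg_adjoin_finset {z'}⟩,
      ⟨z', Algebra.subset_adjoin (by simp)⟩, rfl⟩
  · exact congrArg _ (Subtype.ext h)

theorem exists_stage {X : Scheme.{u}} (f : X ⟶ Spec (CommRingCat.of A))
    [LocallyOfFinitePresentation f] [QuasiCompact f] [QuasiSeparated f] :
    ∃ (S : Subalgebra ℤ A) (_ : S.FG) (Y : Scheme.{u}) (fY : Y ⟶ Spec (CommRingCat.of S)) (g : X ⟶ Y),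
      LocallyOfFinitePresentation fY ∧ QuasiCompact fY ∧
      IsPullback g f fY (Spec.map (CommRingCat.ofHom S.val.toRingHom)) := by
  let D : (FTSub A)ᵒᵖ ⥤ Scheme.{u} := (rings A).op ⋙ Scheme.Spec
  let c : Cone D := Scheme.Spec.mapCone (cocone A).op
  have hc : IsLimit c := isLimitOfPreserves Scheme.Spec (isColimit A).op
  haveI : ∀ (i j : (FTSub A)ᵒᵖ) (h : i ⟶ j), IsAffineHom (D.map h) := fun i j h =>
    inferInstanceAs (IsAffineHom (Spec.map _))
  haveI : ∀ i, CompactSpace (D.obj i) := fun i => inferInstanceAs (CompactSpace (Spec _))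
  haveI : ∀ i, QuasiSeparatedSpace (D.obj i) := fun i => inferInstanceAs (QuasiSeparatedSpace (Spec _))
  haveI : LocallyOfFinitePresentation (X := X) (Y := c.pt) f := ‹_›
  obtain ⟨i, Y, fY, g, h1, h2, -, h3⟩ := Groth.Agent.S0591.result D c hc X f
  exact ⟨i.unop.1, i.unop.2, Y, fY, g, h1, h2, h3⟩

end limit

/-- Let A be a henselian local ring and f : X ⟶ Spec A a morphism of finite presentation. Then there
exist a Noetherian henselian local ring A₀, a local ring homomorphism φ : A₀ → A, a morphism of
finite type f₀ : X₀ ⟶ Spec A₀ and a cartesian square exhibiting X as the base change of X₀ along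
Spec φ. -/
theorem result (A : Type u) [CommRing A] [HenselianLocalRing A]
    {X : Scheme.{u}} (f : X ⟶ Spec (CommRingCat.of A)) [LocallyOfFinitePresentation f] [QuasiCompact f] [QuasiSeparated f] :
    ∃ (A₀ : Type u) (_ : CommRing A₀) (_ : HenselianLocalRing A₀) (_ : IsNoetherianRing A₀) (φ : A₀ →+* A) (_ : IsLocalHom φ)
      (X₀ : Scheme.{u}) (f₀ : X₀ ⟶ Spec (CommRingCat.of A₀)) (g : X ⟶ X₀),
      LocallyOfFiniteType f₀ ∧ QuasiCompact f₀ ∧ IsPullback g f f₀ (Spec.map (CommRingCat.ofHom φ)) := by
  classical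
  obtain ⟨S, hS, Y, fY, g, hlfp, hqc, hpb⟩ := exists_stage A f
  haveI : Algebra.FiniteType ℤ S := S.fg_iff_finiteType.1 hS
  haveI : IsNoetherianRing S := Algebra.FiniteType.isNoetherianRing ℤ S
  let p : Ideal S := (IsLocalRing.maximalIdeal A).comap S.val.toRingHom
  haveI : p.IsPrime := Ideal.comap_isPrime _ _
  let Sp := Localization.AtPrime p
  let A₀ := Groth.Agent.Hensel.LocalHenz Sp
  haveI : IsNoetherianRing A₀ := Groth.Agent.Hensel.isNoetherianRing_henz
  let ψ : Sp →+* A := IsLocalization.lift (M := p.primeCompl) (g := S.val.toRingHom) fun s => by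
    by_contra h
    exact s.2 h
  haveI : IsLocalHom ψ := ⟨fun x hx => by
    obtain ⟨b, s, rfl⟩ := IsLocalization.exists_mk'_eq p.primeCompl x
    rw [IsLocalization.AtPrime.isUnit_mk'_iff]
    show b ∉ p
    intro hb
    have h1 : ψ (IsLocalization.mk' _ b s) * ψ (algebraMap S Sp (s : S)) = ψ (algebraMap S Sp b) := by
      rw [← map_mul, IsLocalization.mk'_spec]
    rw [IsLocalization.lift_eq, IsLocalization.lift_eq] at h1
    refine hb (h1 ▸ hx.mul ?_)
    by_contra h
    exact s.2 h⟩
  obtain ⟨φ, hφ, -⟩ := (Groth.Agent.Hensel.isHenselization_localHenz Sp).universal A ψ inferInstance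
  haveI : IsLocalHom φ := ⟨fun x hx => by
    haveI := Groth.Agent.Hensel.isHenselization_localHenz Sp
    by_contra hnu
    have hm : x ∈ IsLocalRing.maximalIdeal A₀ := hnu
    have h2 : x ∈ (IsLocalRing.maximalIdeal Sp).map (algebraMap Sp A₀) :=
      (Groth.Agent.Hensel.map_maximalIdeal_of_isHenselization Sp A₀).symm ▸ hm
    have h3 : φ x ∈ IsLocalRing.maximalIdeal A := by
      refine ?_
      have h4 := Ideal.mem_map_of_mem φ h2
      rw [Ideal.map_map, hφ] at h4
      exact (Ideal.map_le_iff_le_comap.2 fun b hb => Ideal.mem_comap.2 (map_nonunit ψ b hb) : (IsLocalRing.maximalIdeal Sp).map ψ ≤ _) h4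
    exact h3 hx⟩
  let j : S →+* A₀ := (algebraMap Sp A₀).comp (algebraMap S Sp)
  have hj : Spec.map (CommRingCat.ofHom S.val.toRingHom) =
      Spec.map (CommRingCat.ofHom φ) ≫ Spec.map (CommRingCat.ofHom j) := by
    rw [← Spec.map_comp]
    congr 1
    refine CommRingCat.hom_ext (RingHom.ext fun s => ?_)
    show (s : A) = φ (algebraMap Sp A₀ (algebraMap S Sp s))
    rw [← RingHom.comp_apply φ, hφ]
    exact (IsLocalization.lift_eq (S := Sp) (g := S.val.toRingHom) _ s).symm
  haveI := hlfp
  haveI := hqc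
  rw [hj] at hpb
  let q := pullback.lift g (f ≫ Spec.map (CommRingCat.ofHom φ)) (by rw [Category.assoc]; exact hpb.w) (f := fY) (g := Spec.map (CommRingCat.ofHom j))
  refine ⟨A₀, inferInstance, inferInstance, inferInstance, φ, inferInstance, pullback fY (Spec.map (CommRingCat.ofHom j)),
    pullback.snd _ _, q, inferInstance, inferInstance, ?_⟩
  exact IsPullback.of_right (by rwa [pullback.lift_fst]) (pullback.lift_snd _ _ _) (IsPullback.of_hasPullback fY (Spec.map (CommRingCat.ofHom j)))

end Groth.Agent.S5058
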