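import Groth.Statements.S5061
import Groth.Agent.CplKaehler4.Radicial
-- import your own Groth.Agent.* helpers here

set_option autoImplicit false
open scoped TensorProduct
universe u
open EGA418

namespace Groth.Agent.S5061

/-- a) iff c): let k be a field of characteristic p > 0, P a perfect closure of k (a perfect field
purely inseparable over k) and K an extension field of k. Then the ring K ⊗_k P is Artinian if and
only if there exists a finite purely inseparable extension k' of k such that (k' ⊗_k K) modulo its
nilradical is geometrically reduced over k'. -/
theorem result (p : ℕ) [Fact p.Prime]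
    (k K : Type u) [Field k] [CharP k p] [Field K] [Algebra k K]
    (P : Type u) [Field P] [Algebra k P] [PerfectRing P p] [IsPRadical (algebraMap k P) p] :
    IsArtinianRing (K ⊗[k] P) ↔
      ∃ (k' : Type u) (_ : Field k') (_ : Algebra k k'), Module.Finite k k' ∧ IsPurelyInseparable k k' ∧
        Algebra.IsGeometricallyReduced k' ((k' ⊗[k] K) ⧸ nilradical (k' ⊗[k] K)) := by
  haveI : CharP P p := charP_of_injective_algebraMap (algebraMap k P).injective p
  haveI : ExpChar P p := ExpChar.prime (Fact.out : p.Prime)
  constructor
  · intro h
    exact Groth.Agent.CplKaehler4.exists_level p k K P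
  · rintro ⟨k', i1, i2, h1, h2, h3⟩
    exact Groth.Agent.CplKaehler4.isArtinianRing_of_level p k K P k'

end Groth.Agent.S5061
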