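import Groth.Statements.S5064
import Groth.Agent.FlatPtDesc.Basic
import Mathlib.AlgebraicGeometry.Morphisms.Etale
set_option autoImplicit false
open CategoryTheory CategoryTheory.Limits AlgebraicGeometry
universe u
open Unram

set_option backward.isDefEq.respectTransparency.types false
namespace Groth.Agent.S5064

/-- Let f : X ⟶ Y be locally of finite presentation. If f is étale then there are étale morphisms g_a :
Y'_a ⟶ Y and opens U_a of the fibre products X ×_Y Y'_a whose images under the first projections
cover X, such that each U_a ⟶ Y'_a (inclusion followed by the second projection) is an open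
immersion. Conversely, the existence of such a family with the g_a only assumed flat implies that f
is étale. -/
theorem result {X Y : Scheme.{u}} (f : X ⟶ Y) [LocallyOfFinitePresentation f] :
    (Etale f → ∃ (ι : Type u) (Y' : ι → Scheme.{u}) (g : ∀ a, Y' a ⟶ Y) (U : ∀ a, (pullback f (g a)).Opens),
      (∀ a, Etale (g a)) ∧ (∀ x : X, ∃ a, x ∈ (pullback.fst f (g a)).base '' (U a : Set ↥(pullback f (g a)))) ∧
        ∀ a, IsOpenImmersion ((U a).ι ≫ pullback.snd f (g a))) ∧
    ((∃ (ι : Type u) (Y' : ι → Scheme.{u}) (g : ∀ a, Y' a ⟶ Y) (U : ∀ a, (pullback f (g a)).Opens),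
      (∀ a, Flat (g a)) ∧ (∀ x : X, ∃ a, x ∈ (pullback.fst f (g a)).base '' (U a : Set ↥(pullback f (g a)))) ∧
        ∀ a, IsOpenImmersion ((U a).ι ≫ pullback.snd f (g a))) → Etale f) := by
  refine ⟨fun hf => ?_, ?_⟩
  · refine ⟨PUnit.{u + 1}, fun _ => X, fun _ => f, fun _ => (pullback.diagonal f).opensRange,
      fun _ => hf, fun x => ⟨PUnit.unit, pullback.diagonal f x, ⟨x, rfl⟩, ?_⟩, fun _ => ?_⟩
    · show pullback.fst f f (pullback.diagonal f x) = x
      rw [← Scheme.Hom.comp_apply, pullback.diagonal_fst]
      rfl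
    · rw [← Scheme.Hom.isoOpensRange_inv_comp (pullback.diagonal f), Category.assoc,
        pullback.diagonal_snd]
      infer_instance
  · rintro ⟨ι, Y', g, U, hg, hcov, hU⟩
    have key : ∀ x : X, ∃ V : X.Opens, x ∈ V ∧ Etale (V.ι ≫ f) := by
      intro x
      obtain ⟨a, x', hx', rfl⟩ := hcov x
      haveI := hg a
      haveI := hU a
      exact FlatPtDesc.etale_nhd_descend f (g a) x' (Flat.stalkMap _ _) ⟨U a, hx', inferInstance⟩
    choose V hxV hV using key
    refine IsZariskiLocalAtSource.of_openCover (P := @Etale.{u})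
      (X.openCoverOfIsOpenCover V ?_) fun x => hV x
    exact eq_top_iff.mpr fun x _ => TopologicalSpace.Opens.mem_iSup.mpr ⟨x, hxV x⟩

end Groth.Agent.S5064
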