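import Groth.Statements.S5065
import Groth.Agent.S1967
import Groth.Agent.IntBC.Separable
import Mathlib.RingTheory.Unramified.Field
import Mathlib.RingTheory.Etale.Basic
import Mathlib.RingTheory.Algebraic.Integral
set_option autoImplicit false
universe u
open Unram

namespace Groth.Agent.S5065

open TensorProduct

/-- A finite etale algebra with a map to a field hitting a generating set: the image is the integral
closure and is etale. -/
theorem core (A' L₁ T : Type u) [CommRing A'] [IsDomain A'] [IsIntegrallyClosed A'] [Field L₁]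
    [Algebra A' L₁] (hinj' : Function.Injective (algebraMap A' L₁)) [CommRing T] [Algebra A' T]
    [Algebra.Etale A' T] [Module.Finite A' T] (π : T →ₐ[A'] L₁)
    (hgen : Subfield.closure (Set.range π) = ⊤) :
    Algebra.Etale A' (integralClosure A' L₁) ∧ integralClosure A' L₁ = π.range := by
  let K := FractionRing A'
  let ι : K →ₐ[A'] L₁ := IsFractionRing.liftAlgHom (K := K) (g := Algebra.ofId A' L₁) hinj'
  let U := T ⊗[A'] K
  let θ : U →ₐ[A'] L₁ := Algebra.TensorProduct.lift π ι fun _ _ => .all _ _
  have hθl : ∀ t : T, θ (t ⊗ₜ 1) = π t := fun t =>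
    (Algebra.TensorProduct.lift_tmul π ι (fun _ _ => .all _ _) t 1).trans (by rw [map_one, mul_one])
  letI : Algebra K U := Algebra.TensorProduct.rightAlgebra
  haveI : Module.Finite K U := Module.Finite.equiv
    ({ TensorProduct.comm A' K T with
        map_smul' := fun r x => by
          induction x with
          | zero => simp
          | tmul a b =>
            show b ⊗ₜ (r * a) = r • (b ⊗ₜ[A'] a)
            rw [Algebra.smul_def]
            show _ = (1 : T) ⊗ₜ r * (b ⊗ₜ a)
            rw [Algebra.TensorProduct.tmul_mul_tmul, one_mul]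
          | add x y hx hy => simp_all [smul_add] } : K ⊗[A'] T ≃ₗ[K] U)
  haveI : Algebra.Etale K U := Algebra.Etale.of_equiv
    ({ Algebra.TensorProduct.comm A' K T with commutes' := fun _ => rfl } : K ⊗[A'] T ≃ₐ[K] U)
  haveI : IsReduced U := Algebra.FormallyUnramified.isReduced_of_field K U
  haveI : IsArtinianRing U := IsArtinianRing.of_finite K U
  -- the kernel is generated by an idempotent
  obtain ⟨e, he, hker⟩ : ∃ e, IsIdempotentElem e ∧ RingHom.ker θ.toRingHom = Ideal.span {e} := by
    refine (Ideal.isIdempotentElem_iff_of_fg _ (IsNoetherian.noetherian _)).1 ?_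
    refine le_antisymm Ideal.mul_le_left fun x hx => ?_
    obtain ⟨u, hu⟩ := Groth.Agent.IntBC.exists_eq_sq_mul
      (Algebra.IsIntegral.isIntegral (R := K) x)
    rw [hu, pow_two, mul_assoc]
    exact Ideal.mul_mem_mul hx (Ideal.mul_mem_right _ _ hx)
  have hθe : θ e = 0 := by
    have : e ∈ RingHom.ker θ.toRingHom := by rw [hker]; exact Ideal.mem_span_singleton_self e
    exact this
  have h1e : ∀ x, θ x = 0 → (1 - e) * x = 0 := fun x hx => by
    obtain ⟨y, rfl⟩ : e ∣ x := Ideal.mem_span_singleton.1 (hker ▸ hx)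
    rw [← mul_assoc, he.one_sub_mul_self, zero_mul]
  -- `θ` is surjective
  have hsurj : Function.Surjective θ := by
    haveI hP : (RingHom.ker θ.toRingHom).IsPrime := RingHom.ker_isPrime _
    haveI := hP.isMaximal'
    letI := Ideal.Quotient.field (RingHom.ker θ.toRingHom)
    let l : U ⧸ RingHom.ker θ.toRingHom →+* L₁ := RingHom.kerLift θ.toRingHom
    intro z
    have hz : z ∈ l.fieldRange := by
      have : Subfield.closure (Set.range π) ≤ l.fieldRange := Subfield.closure_le.2 <| by
        rintro _ ⟨t, rfl⟩
        exact ⟨Ideal.Quotient.mk _ (t ⊗ₜ 1), hθl t⟩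
      exact this (hgen ▸ Subfield.mem_top z)
    obtain ⟨w, rfl⟩ := hz
    obtain ⟨w, rfl⟩ := Ideal.Quotient.mk_surjective w
    exact ⟨w, rfl⟩
  obtain ⟨hTinj, hTint⟩ :=
    isIntegrallyClosedIn_iff.1 (Groth.Agent.S1967.result A' K T)
  have hmem : ∀ w : U, IsIntegral A' w → ∃ t : T, t ⊗ₜ (1 : K) = w := fun w hw => hTint hw.tower_top
  -- integral closure is the image
  have hrange : integralClosure A' L₁ = π.range := by
    refine le_antisymm (fun z hz => ?_) ?_
    · obtain ⟨w, rfl⟩ := hsurj z
      obtain ⟨p, hp, hpz⟩ := (mem_integralClosure_iff A' L₁).1 hz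
      have hpw : (1 - e) * Polynomial.aeval w p = 0 := h1e _ (by
        rw [← Polynomial.aeval_algHom_apply]; exact hpz)
      have hpow : ∀ q : Polynomial A', (1 - e) * Polynomial.aeval (w * (1 - e)) q =
          (1 - e) * Polynomial.aeval w q := fun q => by
        induction q using Polynomial.induction_on' with
        | add a b ha hb => simp only [map_add, mul_add, ha, hb]
        | monomial n a =>
          simp only [Polynomial.aeval_monomial, mul_pow]
          rcases n with _ | n
          · simp
          · rw [(he.one_sub).pow_succ_eq]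
            linear_combination (algebraMap A' U a * w ^ (n + 1)) * he.one_sub.eq
      have hint : IsIntegral A' (w * (1 - e)) := by
        refine ⟨Polynomial.X * p, Polynomial.monic_X.mul hp, ?_⟩
        rw [← Polynomial.aeval_def, map_mul, Polynomial.aeval_X, mul_assoc, hpow, hpw, mul_zero]
      obtain ⟨t, ht⟩ := hmem _ hint
      refine ⟨t, ?_⟩
      show π t = θ w
      rw [← hθl, ht, map_mul, map_sub, map_one, hθe, sub_zero, mul_one]
    · rintro _ ⟨t, rfl⟩
      exact (Algebra.IsIntegral.isIntegral (R := A') t).map π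
  refine ⟨?_, hrange⟩
  -- the image is a factor of `T`
  have heint : IsIntegral A' e := by
    refine ⟨Polynomial.X ^ 2 - Polynomial.X, Polynomial.monic_X_pow_sub (by simp), ?_⟩
    rw [← Polynomial.aeval_def, map_sub, map_pow, Polynomial.aeval_X, pow_two, he.eq, sub_self]
  obtain ⟨e₀, he₀⟩ := hmem e heint
  have he₀' : IsIdempotentElem e₀ := hTinj (by
    rw [map_mul]
    show (e₀ ⊗ₜ[A'] (1 : K)) * (e₀ ⊗ₜ 1) = e₀ ⊗ₜ 1
    rw [he₀, he.eq])
  have hker₀ : RingHom.ker π.rangeRestrict.toRingHom = Ideal.span {e₀} := by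
    refine le_antisymm (fun t ht => ?_) ?_
    · have ht' : π t = 0 := congrArg Subtype.val ht
      have h0 := h1e (t ⊗ₜ 1) ((hθl t).trans ht')
      have : (1 - e₀) * t = 0 := hTinj (by
        rw [map_zero, map_mul, map_sub, map_one]
        show (1 - e₀ ⊗ₜ[A'] (1 : K)) * (t ⊗ₜ 1) = 0
        rw [he₀]; exact h0)
      exact Ideal.mem_span_singleton.2 ⟨t, by linear_combination this⟩
    · rw [Ideal.span_singleton_le_iff_mem]
      exact Subtype.ext ((hθl e₀).symm.trans (by rw [he₀, hθe]; rfl))
  rw [hrange]
  haveI : Algebra.Etale A' (T ⧸ Ideal.span {e₀}) := by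
    haveI : IsLocalization.Away (1 - e₀) (T ⧸ Ideal.span {e₀}) :=
      IsLocalization.away_of_isIdempotentElem he₀'.one_sub (by simp) Ideal.Quotient.mk_surjective
    haveI : Algebra.Etale T (T ⧸ Ideal.span {e₀}) :=
      Algebra.Etale.of_isLocalizationAway (1 - e₀)
    exact Algebra.Etale.comp A' T _
  exact Algebra.Etale.of_equiv ((Ideal.quotientEquivAlgOfEq A' hker₀.symm).trans
    (Ideal.quotientKerAlgEquivOfSurjective π.rangeRestrict_surjective))


/-- Let A ⊆ A' be integrally closed domains, L a field algebraic over the fraction field of A in which A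
embeds and whose integral closure C over A is an étale A-algebra, and L₁ a field in which A' and L
both embed, compatibly over A, and which is generated as a field by the images of A' and L (a
compositum of L with the fraction field of A'; the map A' → L₁ is injective, so that the fraction
field of A' is a subfield of L₁). Then the integral closure of A' in L₁ is an étale A'-algebra and
coincides with the A'-subalgebra generated by the image of C. -/
theorem result (A A' L L₁ : Type u) [CommRing A] [IsDomain A]
    [IsIntegrallyClosed A] [CommRing A'] [IsDomain A'] [IsIntegrallyClosed A'] [Algebra A A']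
    [Field L] [Algebra A L] [Algebra.IsAlgebraic A L] (hinj : Function.Injective (algebraMap A L))
    [Algebra.Etale A ↥(integralClosure A L)]
    [Field L₁] [Algebra A' L₁] [Algebra L L₁] [Algebra A L₁] [IsScalarTower A A' L₁] [IsScalarTower A L L₁]
    (hinj' : Function.Injective (algebraMap A' L₁))
    (hgen : Subfield.closure (Set.range (algebraMap A' L₁) ∪ Set.range (algebraMap L L₁)) = ⊤) :
    Algebra.Etale A' ↥(integralClosure A' L₁) ∧
      integralClosure A' L₁ = Algebra.adjoin A' ((algebraMap L L₁) '' {x : L | IsIntegral A x}) := by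
  let C := integralClosure A L
  haveI : Algebra.IsIntegral A C := ⟨fun x => by
    rw [← isIntegral_algHom_iff C.val Subtype.val_injective]; exact x.2⟩
  haveI : Module.Finite A C := Algebra.IsIntegral.finite
  let π : A' ⊗[A] C →ₐ[A'] L₁ :=
    Algebra.TensorProduct.lift (Algebra.ofId A' L₁) ((IsScalarTower.toAlgHom A L L₁).comp C.val)
      fun _ _ => .all _ _
  have hπl : ∀ a : A', π (a ⊗ₜ 1) = algebraMap A' L₁ a := fun a => by simp [π]
  have hπr : ∀ c : C, π (1 ⊗ₜ c) = algebraMap L L₁ c := fun c => by simp [π]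
  have hgen' : Subfield.closure (Set.range π) = ⊤ := by
    rw [eq_top_iff, ← hgen, Subfield.closure_le]
    rintro _ (⟨a, rfl⟩ | ⟨l, rfl⟩)
    · exact Subfield.subset_closure ⟨a ⊗ₜ 1, hπl a⟩
    · obtain ⟨b, hb, hl⟩ := (Algebra.IsAlgebraic.isAlgebraic (R := A) l).exists_integral_multiple
      have hb' : algebraMap A L₁ b ≠ 0 := by
        rw [IsScalarTower.algebraMap_apply A L L₁]
        exact (map_ne_zero _).2 fun h => hb (hinj (h.trans (map_zero _).symm))
      have h1 : algebraMap A L₁ b * algebraMap L L₁ l ∈ Subfield.closure (Set.range π) := by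
        refine Subfield.subset_closure ⟨1 ⊗ₜ ⟨b • l, hl⟩, (hπr _).trans ?_⟩
        show algebraMap L L₁ (b • l) = _
        rw [Algebra.smul_def, map_mul, ← IsScalarTower.algebraMap_apply]
      have h2 : algebraMap A L₁ b ∈ Subfield.closure (Set.range π) :=
        Subfield.subset_closure ⟨(algebraMap A A' b) ⊗ₜ 1, by
          rw [hπl, ← IsScalarTower.algebraMap_apply]⟩
      have := mul_mem (inv_mem h2) h1
      rw [inv_mul_cancel_left₀ hb'] at this
      exact this
  obtain ⟨h1, h2⟩ := core A' L₁ (A' ⊗[A] C) hinj' π hgen'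
  refine ⟨h1, h2.trans (le_antisymm ?_ (Algebra.adjoin_le ?_))⟩
  · rintro _ ⟨x, rfl⟩
    show π x ∈ _
    induction x with
    | zero => rw [map_zero]; exact zero_mem _
    | tmul a c =>
      rw [show a ⊗ₜ[A] c = (a ⊗ₜ 1) * (1 ⊗ₜ c) by simp, map_mul, hπl, hπr]
      exact mul_mem (Subalgebra.algebraMap_mem _ a) (Algebra.subset_adjoin ⟨_, c.2, rfl⟩)
    | add x y hx hy => rw [map_add]; exact add_mem hx hy
  · rintro _ ⟨l, hl, rfl⟩
    exact ⟨1 ⊗ₜ ⟨l, hl⟩, hπr _⟩

end Groth.Agent.S5065
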