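import Groth.Statements.S5068
import Groth.Agent.TransFib6.Basic

set_option autoImplicit false
universe u
open CInt

namespace Groth.Agent.S5068

/-- Suppose A and C are Noetherian local rings joined by a flat local homomorphism A → C whose closed
fibre C/m_A C is a regular local ring, and consider a local ring B obtained as a quotient of C by an
ideal J (encoded as a surjective C-algebra B, with J taken to be the kernel). The ideal J admits a
generating sequence that is transversally regular relative to A (each term a non-zero-divisor modulo
the previous ones, and every partial quotient C/(f_1, …, f_j) A-flat) exactly when two things hold: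
B is A-flat, and B/m_A B is a complete intersection (meaning its completion is a regular local ring
divided by a regular sequence). -/
theorem result (A C B : Type u) [CommRing A] [IsLocalRing A]
    [IsNoetherianRing A] [CommRing C] [IsLocalRing C] [IsNoetherianRing C] [Algebra A C] [IsLocalHom (algebraMap A C)]
    [Module.Flat A C] (hreg : IsRegularLocalRing (EGA4.FibRing A C))
    [CommRing B] [IsLocalRing B] [Algebra C B] [Algebra A B] [IsScalarTower A C B] [IsLocalHom (algebraMap A B)]
    (hsurj : Function.Surjective (algebraMap C B)) :
    (∃ rs : List C, Ideal.ofList rs = RingHom.ker (algebraMap C B) ∧ RegImm.IsTransRegularSeq A C rs) ↔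
      (Module.Flat A B ∧ Pi1.IsCompleteIntersection (EGA4.FibRing A B)) := by
    haveI : IsNoetherianRing B := isNoetherianRing_of_surjective C B (algebraMap C B) hsurj
    haveI := hreg
    let φ := algebraMap C B
    let π := Ideal.Quotient.mk (EGA4.mB A C)
    have hmB : EGA4.mB A B = (EGA4.mB A C).map φ := by
      simp only [EGA4.mB, Ideal.map_map, φ]
      rw [← IsScalarTower.algebraMap_eq]
    let πb : EGA4.FibRing A C →+* EGA4.FibRing A B := Ideal.quotientMap (EGA4.mB A B) φ (by
      rw [hmB]; exact Ideal.le_comap_map)
    have hπb : Function.Surjective πb := Ideal.quotientMap_surjective hsurj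
    have hker : RingHom.ker πb = (RingHom.ker φ).map π := by
      ext q
      obtain ⟨c, rfl⟩ := Ideal.Quotient.mk_surjective q
      rw [RingHom.mem_ker, Ideal.quotientMap_mk, Ideal.Quotient.eq_zero_iff_mem, hmB, ← Ideal.mem_comap,
        Ideal.comap_map_of_surjective' φ hsurj]
      conv_rhs => rw [← Ideal.mem_comap, Ideal.comap_map_of_surjective' π Ideal.Quotient.mk_surjective, Ideal.mk_ker]
      rw [sup_comm]
    have hJm : RingHom.ker φ ≤ IsLocalRing.maximalIdeal C := IsLocalRing.le_maximalIdeal (RingHom.ker_ne_top φ)
    let e : (C ⧸ RingHom.ker φ) ≃ₐ[A] B :=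
      Ideal.quotientKerAlgEquivOfSurjective (f := IsScalarTower.toAlgHom A C B) hsurj
    rw [← RegNear6.isRegularIdeal_ker_iff πb hπb, hker]
    constructor
    · rintro ⟨rs, hJ, hT⟩
      refine ⟨?_, rs.map π, RegLoc6.isRegular_iff_weakly _ (fun r hr => ?_) (TransFib6.isWeaklyRegular_fib rs hT),
        by rw [← hJ, Ideal.map_ofList]⟩
      · haveI : Module.Flat A (C ⧸ RingHom.ker φ) := by
          have h := hT.2 rs.length le_rfl
          rw [List.take_length] at h
          rwa [hJ] at h
        exact Module.Flat.of_linearEquiv e.toLinearEquiv.symm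
      · obtain ⟨c, hc, rfl⟩ := List.mem_map.1 hr
        refine (IsLocalRing.mem_maximalIdeal _).2 fun hu => ?_
        have h0 : πb (π c) = 0 := RingHom.mem_ker.1
          (hker ▸ Ideal.mem_map_of_mem π (hJ ▸ Ideal.subset_span hc : c ∈ RingHom.ker φ))
        exact not_isUnit_zero (h0 ▸ hu.map πb)
    · rintro ⟨hB, fb, hfb, hgen⟩
      haveI : Module.Flat A (C ⧸ RingHom.ker φ) := Module.Flat.of_linearEquiv e.toLinearEquiv
      have hex : ∀ x ∈ fb, ∃ c, c ∈ RingHom.ker φ ∧ π c = x := fun x hx =>
        (Ideal.mem_map_iff_of_surjective π Ideal.Quotient.mk_surjective).1 (hgen ▸ Ideal.subset_span hx)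
      choose g hg hgπ using hex
      let rs := fb.attach.map fun x => g x.1 x.2
      have hmap : rs.map π = fb := by
        rw [List.map_map]
        exact (List.map_congr_left fun x _ => hgπ x.1 x.2).trans fb.attach_map_subtype_val
      have hle : Ideal.ofList rs ≤ RingHom.ker φ := Ideal.span_le.2 fun c hc => by
        obtain ⟨x, -, rfl⟩ := List.mem_map.1 hc
        exact hg x.1 x.2
      refine ⟨rs, TransFib6.eq_ofList_of_fib (A := A) _ rs hle (by rw [hmap, hgen]), ?_, fun j hj => ?_⟩
      · exact (CplFib6.regular_and_flat rs (by rw [hmap]; exact hfb.1)).1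
      · have h := hfb.1
        rw [← List.take_append_drop j fb, RingTheory.Sequence.isWeaklyRegular_append_iff] at h
        have h2 := (CplFib6.regular_and_flat (rs.take j) (by rw [List.map_take, hmap]; exact h.1)).2
        rwa [smul_eq_mul, Ideal.mul_top] at h2

end Groth.Agent.S5068
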