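import Groth.Statements.S5069
import Groth.Agent.Adic7.Misc
-- import your own Groth.Agent.* helpers here

set_option autoImplicit false
universe u v
open Hensel

namespace Groth.Agent.S5069

/-- First assertion, phrased for the images of the inductive system: let B be a Noetherian commutative
ring and (C_i) a family of Artinian subrings of B, directed under inclusion, whose union is B. Then
B is an Artinian ring. -/
theorem result (B : Type u) [CommRing B] [IsNoetherianRing B]
    {ι : Type v} [Nonempty ι] (C : ι → Subring B) (hdir : Directed (fun a b => a ≤ b) C)
    (hart : ∀ i, IsArtinianRing ↥(C i)) (hcov : ∀ b : B, ∃ i, b ∈ C i) : IsArtinianRing B := by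
  exact Groth.Agent.Adic7.isArtinianRing_of_directed B C hart hcov

end Groth.Agent.S5069
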