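import Groth.Statements.S5072
import Groth.Agent.Hensel.TensorStrict
-- import your own Groth.Agent.* helpers here

set_option autoImplicit false
open scoped TensorProduct
universe u
open Hensel

namespace Groth.Agent.S5072

/-- Case of a local ring A and a local finite A-algebra B: let S be a strict henselization of A and T a
strict henselization of B. Then there is a maximal ideal q of B ⊗_A S such that T is isomorphic, as
a B-algebra, to the local ring (B ⊗_A S)_q. -/
theorem isStrictHenselization_atMaximal (A S : Type u) [CommRing A] [IsLocalRing A] [CommRing S] [IsLocalRing S]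
    [Algebra A S] [IsLocalHom (algebraMap A S)] [Hensel.IsStrictHenselization A S]
    [Algebra (Localization.AtPrime (IsLocalRing.maximalIdeal A)) S]
    [IsScalarTower A (Localization.AtPrime (IsLocalRing.maximalIdeal A)) S]
    [IsLocalHom (algebraMap (Localization.AtPrime (IsLocalRing.maximalIdeal A)) S)] :
    Hensel.IsStrictHenselization (Localization.AtPrime (IsLocalRing.maximalIdeal A)) S := by
  have hloc : IsLocalHom (algebraMap A (Localization.AtPrime (IsLocalRing.maximalIdeal A))) := ⟨fun a ha => by
    rw [IsLocalization.AtPrime.isUnit_to_map_iff _ (IsLocalRing.maximalIdeal A)] at ha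
    exact Classical.not_not.mp ha⟩
  refine ⟨Hensel.IsStrictHenselization.henselian (R := A), ?_, fun T _ _ f _ τ hτ => ?_⟩
  · have h : IsSepClosure (IsLocalRing.ResidueField A) (IsLocalRing.ResidueField S) :=
      Hensel.IsStrictHenselization.isSepClosure
    have := h.separable
    have : IsScalarTower (IsLocalRing.ResidueField A)
        (IsLocalRing.ResidueField (Localization.AtPrime (IsLocalRing.maximalIdeal A))) (IsLocalRing.ResidueField S) :=
      .of_algebraMap_eq fun z => by
        obtain ⟨z, rfl⟩ := IsLocalRing.residue_surjective z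
        rw [IsLocalRing.ResidueField.algebraMap_residue, IsLocalRing.ResidueField.algebraMap_residue,
          IsLocalRing.ResidueField.algebraMap_residue, ← IsScalarTower.algebraMap_apply]
    exact ⟨h.sep_closed, Algebra.isSeparable_tower_top_of_isSeparable (IsLocalRing.ResidueField A) _ _⟩
  · obtain ⟨g, ⟨hg, hres⟩, huniq⟩ := Hensel.IsStrictHenselization.universal (R := A) (S := S) T
      (f.comp (algebraMap A (Localization.AtPrime (IsLocalRing.maximalIdeal A)))) τ (by
        refine RingHom.ext fun z => ?_
        obtain ⟨z, rfl⟩ := IsLocalRing.residue_surjective z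
        have := RingHom.congr_fun hτ (IsLocalRing.residue _ (algebraMap A (Localization.AtPrime (IsLocalRing.maximalIdeal A)) z))
        rw [RingHom.comp_apply, IsLocalRing.ResidueField.map_residue, IsLocalRing.ResidueField.map_residue,
          ← IsScalarTower.algebraMap_apply] at this
        rw [RingHom.comp_apply, IsLocalRing.ResidueField.map_residue, IsLocalRing.ResidueField.map_residue, this]
        rfl)
    refine ⟨g, ⟨IsLocalization.ringHom_ext (IsLocalRing.maximalIdeal A).primeCompl ?_, hres⟩, fun g' hg' => huniq g' ⟨?_, hg'.2⟩⟩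
    · rw [RingHom.comp_assoc, ← IsScalarTower.algebraMap_eq, hg]
    · rw [IsScalarTower.algebraMap_eq A (Localization.AtPrime (IsLocalRing.maximalIdeal A)) S, ← RingHom.comp_assoc, hg'.1]

theorem result (A B S T : Type u) [CommRing A] [IsLocalRing A]
    [CommRing B] [IsLocalRing B] [Algebra A B] [Module.Finite A B]
    [CommRing S] [IsLocalRing S] [Algebra A S] [IsLocalHom (algebraMap A S)] [Hensel.IsStrictHenselization A S]
    [CommRing T] [IsLocalRing T] [Algebra B T] [IsLocalHom (algebraMap B T)] [Hensel.IsStrictHenselization B T] :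
    ∃ (q : Ideal (B ⊗[A] S)) (_ : q.IsMaximal), Nonempty (Localization.AtPrime q ≃ₐ[B] T) := by
  have hAB := Groth.Agent.Hensel.isLocalHom_of_isIntegral_local A B
  obtain ⟨lS, hlS, hlS'⟩ := Groth.Agent.Hensel.exists_localization_lift (p := IsLocalRing.maximalIdeal A) (algebraMap A S)
    (by have h0 := (IsLocalRing.local_hom_TFAE (algebraMap A S)).out 0 4; exact h0.mp inferInstance)
  let : Algebra (Localization.AtPrime (IsLocalRing.maximalIdeal A)) S := lS.toAlgebra
  have : IsScalarTower A (Localization.AtPrime (IsLocalRing.maximalIdeal A)) S :=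
    .of_algebraMap_eq fun a => (RingHom.congr_fun hlS a).symm
  have : IsLocalHom (algebraMap (Localization.AtPrime (IsLocalRing.maximalIdeal A)) S) := hlS'
  have := isStrictHenselization_atMaximal A S
  obtain ⟨lT, hlT, hlT'⟩ := Groth.Agent.Hensel.exists_localization_lift (p := IsLocalRing.maximalIdeal B) (algebraMap B T)
    (by have h0 := (IsLocalRing.local_hom_TFAE (algebraMap B T)).out 0 4; exact h0.mp inferInstance)
  let : Algebra (Localization.AtPrime (IsLocalRing.maximalIdeal B)) T := lT.toAlgebra
  have : IsScalarTower B (Localization.AtPrime (IsLocalRing.maximalIdeal B)) T :=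
    .of_algebraMap_eq fun a => (RingHom.congr_fun hlT a).symm
  have : IsLocalHom (algebraMap (Localization.AtPrime (IsLocalRing.maximalIdeal B)) T) := hlT'
  have := isStrictHenselization_atMaximal B T
  let : Algebra A T := ((algebraMap B T).comp (algebraMap A B)).toAlgebra
  have : IsScalarTower A B T := .of_algebraMap_eq fun _ => rfl
  have : HenselianLocalRing T := Hensel.IsStrictHenselization.henselian (R := B)
  have : IsLocalHom (algebraMap A T) := RingHom.isLocalHom_comp (algebraMap B T) (algebraMap A B)
  -- a map `S → T` over `A`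
  obtain ⟨φ, hφ⟩ : ∃ φ : S →+* T, φ.comp (algebraMap A S) = algebraMap A T := by
    have h : IsSepClosure (IsLocalRing.ResidueField A) (IsLocalRing.ResidueField S) :=
      Hensel.IsStrictHenselization.isSepClosure
    have := h.separable
    have := (Hensel.IsStrictHenselization.isSepClosure (R := B) (S := T)).sep_closed
    let ε : IsLocalRing.ResidueField S →ₐ[IsLocalRing.ResidueField A] IsLocalRing.ResidueField T := IsSepClosed.lift
    obtain ⟨g, ⟨hg, -⟩, -⟩ := Hensel.IsStrictHenselization.universal (R := A) (S := S) T (algebraMap A T) ε.toRingHom (by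
      refine RingHom.ext fun z => ?_
      obtain ⟨z, rfl⟩ := IsLocalRing.residue_surjective z
      exact ε.commutes (IsLocalRing.residue A z))
    exact ⟨g, hg⟩
  let : Algebra S T := φ.toAlgebra
  have : IsScalarTower A S T := .of_algebraMap_eq fun a => (RingHom.congr_fun hφ a).symm
  have : (IsLocalRing.maximalIdeal B).LiesOver (IsLocalRing.maximalIdeal A) := inferInstance
  let P := Groth.Agent.Hensel.tensorPrime A B S T
  have hloc := Groth.Agent.Hensel.isLocalHom_Rh_Sh A B (IsLocalRing.maximalIdeal A) (IsLocalRing.maximalIdeal B) S T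
    (Groth.Agent.Hensel.map_maximalIdeal_of_isStrictHenselization _ S)
  have hover := Groth.Agent.Hensel.liesOver_tensorPrime A B (IsLocalRing.maximalIdeal A) (IsLocalRing.maximalIdeal B) S T
  have : HenselianLocalRing S := Hensel.IsStrictHenselization.henselian (R := A)
  have : Algebra.QuasiFiniteAt S P := inferInstance
  have := Groth.Agent.Hensel.exists_finite_localization_of_quasiFiniteAt S P
  have hTloc := Groth.Agent.Hensel.isLocalHom_T A B (IsLocalRing.maximalIdeal A) (IsLocalRing.maximalIdeal B) S T
  have : IsSepClosed (IsLocalRing.ResidueField S) := (Hensel.IsStrictHenselization.isSepClosure (R := A) (S := S)).sep_closed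
  let : IsLocalHom (algebraMap (Localization.AtPrime P) (Localization.AtPrime P)) := ⟨fun _ hu => hu⟩
  have := Groth.Agent.Hensel.isStrictHenselization_self (Localization.AtPrime P)
    (Groth.Agent.Hensel.henselianLocalRing_of_finite S _)
    (Groth.Agent.Hensel.residueField_of_isIntegral S (Localization.AtPrime P)).1
  obtain ⟨e, he⟩ := Groth.Agent.Hensel.strict_tensor A B (IsLocalRing.maximalIdeal A) (IsLocalRing.maximalIdeal B) S T
    (Localization.AtPrime P)
  have hPmax : P.IsMaximal := by
    refine Ideal.isMaximal_of_isIntegral_of_isMaximal_comap (R := S) P ?_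
    rw [show P.comap (algebraMap S (S ⊗[A] B)) = IsLocalRing.maximalIdeal S from hover.over.symm]
    infer_instance
  let c : B ⊗[A] S ≃+* S ⊗[A] B := (Algebra.TensorProduct.comm A B S).toRingEquiv
  let Q : Ideal (B ⊗[A] S) := P.comap c.toRingHom
  have hQ : Q.IsMaximal := Ideal.comap_isMaximal_of_surjective _ c.surjective
  refine ⟨Q, hQ, ?_⟩
  have hmap : Submonoid.map c.toMonoidHom Q.primeCompl = P.primeCompl := by
    ext x
    refine ⟨?_, fun hx => ⟨c.symm x, fun h => hx ?_, c.apply_symm_apply x⟩⟩
    · rintro ⟨y, hy, rfl⟩
      exact hy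
    · have h' : c (c.symm x) ∈ P := h
      rwa [c.apply_symm_apply] at h'
  let E := IsLocalization.ringEquivOfRingEquiv (Localization.AtPrime Q) (Localization.AtPrime P) c hmap
  refine ⟨AlgEquiv.ofRingEquiv (f := E.trans e) fun b => ?_⟩
  show e (E (algebraMap B (Localization.AtPrime Q) b)) = _
  rw [IsScalarTower.algebraMap_apply B (B ⊗[A] S) (Localization.AtPrime Q), IsLocalization.ringEquivOfRingEquiv_eq]
  exact (he _).trans (by simp [c])

end Groth.Agent.S5072
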