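import Groth.Statements.S5073
import Mathlib.RingTheory.Ideal.MinimalPrime.Noetherian
import Mathlib.RingTheory.Localization.AtPrime.Basic
import Mathlib.RingTheory.Localization.Ideal
import Mathlib.RingTheory.Nilpotent.Lemmas

set_option autoImplicit false
universe u
open EGA418

namespace Groth.Agent.S5073

/-- Let A be a Noetherian local ring, p a prime ideal and x an element of A. Then there is an element x'
of A whose image in A_p equals that of x and which belongs to no minimal prime ideal of A not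
contained in p. -/
theorem result (A : Type u) [CommRing A] [IsNoetherianRing A] [IsLocalRing A]
    (p : Ideal A) [p.IsPrime] (x : A) :
    ∃ x' : A, algebraMap A (Localization.AtPrime p) x' = algebraMap A (Localization.AtPrime p) x ∧
      ∀ q ∈ minimalPrimes A, ¬ q ≤ p → x' ∉ q := by
  classical
  have hfin : (minimalPrimes A).Finite := minimalPrimes.finite_of_isNoetherianRing A
  let S0 := hfin.toFinset.filter (fun q => ¬ (¬ q ≤ p ∧ x ∈ q))
  let S1 := hfin.toFinset.filter (fun q => ¬ q ≤ p ∧ x ∈ q)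
  let K : Ideal A := RingHom.ker (algebraMap A (Localization.AtPrime p))
  let T : Ideal A := K * ∏ q ∈ S0, q
  have hT : ∀ q ∈ S1, ¬ T ≤ q := by
    intro q hq hle
    simp only [S1, Finset.mem_filter, Set.Finite.mem_toFinset] at hq
    have hqp : q.IsPrime := hq.1.1.1
    rcases (Ideal.IsPrime.mul_le hqp).mp hle with hK | hP
    · obtain ⟨s, hs, hsp⟩ := SetLike.not_le_iff_exists.mp hq.2.1
      haveI := hqp
      obtain ⟨t, ht, ⟨N, htN⟩⟩ : ∃ t ∉ q, ∃ N : ℕ, t * s ^ N = 0 := by
        have hnil : IsNilpotent (algebraMap A (Localization.AtPrime q) s) := by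
          rw [nilpotent_iff_mem_prime]
          intro J hJ
          have hd := IsLocalization.isPrime_iff_isPrime_disjoint q.primeCompl (Localization.AtPrime q) J |>.mp hJ
          have hle' : J.comap (algebraMap A (Localization.AtPrime q)) ≤ q := fun z hz => by
            by_contra hzq; exact (Set.disjoint_left.mp hd.2 hzq) hz
          exact (hq.1.2 ⟨hd.1, bot_le⟩ hle') hs
        obtain ⟨N, hN⟩ := hnil
        rw [← map_pow, IsLocalization.map_eq_zero_iff q.primeCompl] at hN
        obtain ⟨⟨t, ht⟩, htN⟩ := hN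
        exact ⟨t, ht, N, htN⟩
      refine ht (hK ?_)
      rw [RingHom.mem_ker, IsLocalization.map_eq_zero_iff p.primeCompl]
      exact ⟨⟨s ^ N, fun h => hsp (Ideal.IsPrime.mem_of_pow_mem ‹p.IsPrime› N h)⟩, by rw [mul_comm]; exact htN⟩
    · obtain ⟨q', hq', hle'⟩ := (Ideal.IsPrime.prod_le hqp).mp hP
      simp only [S0, Finset.mem_filter, Set.Finite.mem_toFinset] at hq'
      have : q' = q := le_antisymm hle' (hq.1.2 ⟨hq'.1.1.1, bot_le⟩ hle')
      exact hq'.2 (this ▸ hq.2)
  obtain ⟨y, hyT, hy⟩ : ∃ y ∈ T, ∀ q ∈ S1, y ∉ q := by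
    by_contra hcon
    push Not at hcon
    have hsub : (T : Set A) ⊆ ⋃ q ∈ (↑S1 : Set (Ideal A)), (q : Set A) := fun y hy => by
      obtain ⟨q, hq, hyq⟩ := hcon y hy
      exact Set.mem_biUnion hq hyq
    obtain ⟨q, hq, hle⟩ := (Ideal.subset_union_prime (⊥ : Ideal A) (⊥ : Ideal A) (fun q hq _ _ =>
      ((Finset.mem_filter.mp hq).1 |> hfin.mem_toFinset.mp).1.1)).mp hsub
    exact hT q hq hle
  refine ⟨x + y, ?_, fun q hq hqp hmem => ?_⟩
  · have hyK : algebraMap A (Localization.AtPrime p) y = 0 := RingHom.mem_ker.mp (Ideal.mul_le_inf hyT).1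
    rw [map_add, hyK, add_zero]
  · by_cases hxq : x ∈ q
    · exact hy q (Finset.mem_filter.mpr ⟨hfin.mem_toFinset.mpr hq, hqp, hxq⟩) (by simpa using q.sub_mem hmem hxq)
    · have hyq : y ∈ q := by
        have hmemS : q ∈ S0 := Finset.mem_filter.mpr ⟨hfin.mem_toFinset.mpr hq, fun h => hxq h.2⟩
        have h0 : (∏ q' ∈ S0, q') ≤ q := Ideal.le_of_dvd (Finset.dvd_prod_of_mem (fun q' : Ideal A => q') hmemS)
        exact h0 (Ideal.mul_le_inf hyT).2
      exact hxq (by simpa using q.sub_mem hmem hyq)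

end Groth.Agent.S5073
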