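import Groth.Statements.S5075
import Mathlib
import Groth.Agent.Pi1X.FEtFull

set_option autoImplicit false
open CategoryTheory AlgebraicGeometry
universe u
open Unram

namespace Groth.Agent.S5075

open CategoryTheory.Limits

/-- Let p : X ⟶ S be étale, g : S' ⟶ S a morphism and i : S'₀ ⟶ S' a surjective closed immersion (a
closed subscheme with the same underlying space). Then for every f₀ : S'₀ ⟶ X over S there is
exactly one f : S' ⟶ X over S with i ≫ f = f₀. -/
theorem result {X S S' S'₀ : Scheme.{u}} (p : X ⟶ S) [Etale p]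
    (g : S' ⟶ S) (i : S'₀ ⟶ S') [IsClosedImmersion i] [Surjective i]
    (f₀ : S'₀ ⟶ X) (h₀ : f₀ ≫ p = i ≫ g) :
    ∃! f : S' ⟶ X, f ≫ p = g ∧ i ≫ f = f₀ := by
  let q := pullback.snd p g
  let s₀ : S'₀ ⟶ pullback p g := pullback.lift f₀ i h₀
  have hs₀ : s₀ ≫ q = i := pullback.lift_snd _ _ _
  let k := pullback.fst q i
  let σ : S'₀ ⟶ pullback q i := pullback.lift s₀ (𝟙 _) (by rw [hs₀, Category.id_comp])
  have hσ : σ ≫ pullback.snd q i = 𝟙 _ := pullback.lift_snd _ _ _
  have hσk : σ ≫ k = s₀ := pullback.lift_fst _ _ _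
  have : Mono σ := mono_of_mono_fac hσ
  have : Etale (σ ≫ pullback.snd q i) := by rw [hσ]; infer_instance
  have : Etale σ := Etale.of_comp σ (pullback.snd q i)
  have : IsOpenImmersion σ := IsOpenImmersion.of_flat_of_mono σ
  have hkinj : Function.Injective k := k.isClosedEmbedding.injective
  have hksurj : Function.Surjective k := k.surjective
  let U : (pullback p g).Opens := ⟨k '' Set.range σ, by
    have : k '' Set.range σ = (k '' (Set.range σ)ᶜ)ᶜ := by
      rw [Set.image_compl_eq ⟨hkinj, hksurj⟩, compl_compl]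
    rw [this]
    exact (k.isClosedMap _ σ.isOpenEmbedding.isOpen_range.isClosed_compl).isOpen_compl⟩
  have hmem : ∀ y, s₀ y ∈ U := fun y => ⟨σ y, ⟨y, rfl⟩, congrArg (fun h : S'₀ ⟶ pullback p g => h y) hσk⟩
  let r := U.ι ≫ q
  have : UniversallyInjective r := by
    rw [UniversallyInjective.iff_diagonal]
    refine ⟨fun t => ?_⟩
    let d := pullback.fst r r ≫ r
    obtain ⟨y₀, hy₀⟩ := i.surjective (d t)
    obtain ⟨w, hw, -⟩ := Scheme.Pullback.exists_preimage_pullback (f := d) (g := i) t y₀ hy₀.symm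
    let z := (pullback d i).fromSpecResidueField w
    let a₁ := z ≫ pullback.fst d i ≫ pullback.fst r r
    let a₂ := z ≫ pullback.fst d i ≫ pullback.snd r r
    let l := z ≫ pullback.snd d i
    have h1 : (a₁ ≫ U.ι) ≫ q = l ≫ i := by
      simp only [a₁, l, Category.assoc]
      exact congrArg (z ≫ ·) (pullback.condition (f := d) (g := i))
    have h2 : (a₂ ≫ U.ι) ≫ q = l ≫ i := by
      simp only [a₂, l, Category.assoc]
      have : pullback.snd r r ≫ U.ι ≫ q = d := (pullback.condition (f := r) (g := r)).symm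
      rw [this]
      exact congrArg (z ≫ ·) (pullback.condition (f := d) (g := i))
    have key : ∀ (a : Spec ((pullback d i).residueField w) ⟶ U.toScheme)
        (ha : (a ≫ U.ι) ≫ q = l ≫ i), a ≫ U.ι = l ≫ s₀ := by
      intro a ha
      let b : Spec ((pullback d i).residueField w) ⟶ pullback q i := pullback.lift (a ≫ U.ι) l ha
      have hb : b ≫ k = a ≫ U.ι := pullback.lift_fst _ _ _
      have hr : Set.range b ⊆ Set.range σ := by
        rintro _ ⟨y, rfl⟩
        obtain ⟨v, hv, hvk⟩ := (a y).2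
        exact (hkinj ((congrArg (fun h : Spec _ ⟶ pullback p g => h y) hb).trans hvk.symm)).symm ▸ hv
      have hl := IsOpenImmersion.lift_fac σ b hr
      have hll : IsOpenImmersion.lift σ b hr = l := by
        have := congrArg (· ≫ pullback.snd q i) hl
        simp only [Category.assoc, hσ, Category.comp_id] at this
        exact this.trans (pullback.lift_snd _ _ _)
      rw [← hb, ← hl, Category.assoc, hσk, hll]
    have e : a₁ = a₂ := (cancel_mono U.ι).1 ((key _ h1).trans (key _ h2).symm)
    have hz : z ≫ pullback.fst d i = a₁ ≫ pullback.diagonal r :=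
      pullback.hom_ext (by simp [a₁]) (by rw [e]; simp [a₂])
    let pt : Spec ((pullback d i).residueField w) := IsLocalRing.closedPoint _
    refine ⟨a₁ pt, ?_⟩
    have h3 := congrArg (fun h : Spec _ ⟶ pullback r r => h pt) hz
    exact (h3.symm.trans (congrArg (pullback.fst d i) (Scheme.fromSpecResidueField_apply w pt))).trans hw
  have : IsOpenImmersion r := Groth.Agent.Pi1X.isOpenImmersion_of_etale_universallyInjective r
  let s₁ : S'₀ ⟶ U.toScheme := IsOpenImmersion.lift U.ι s₀ (by
    rw [Scheme.Opens.range_ι]; rintro _ ⟨y, rfl⟩; exact hmem y)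
  have hs₁ : s₁ ≫ r = i := by rw [← hs₀]; exact IsOpenImmersion.lift_fac_assoc _ _ _ _
  have : Surjective r := ⟨fun y => by
    obtain ⟨y₀, rfl⟩ := i.surjective y
    exact ⟨s₁ y₀, congrArg (fun h : S'₀ ⟶ S' => h y₀) hs₁⟩⟩
  have : IsIso r := (isIso_iff_isOpenImmersion_and_surjective _).2 ⟨inferInstance, inferInstance⟩
  refine ⟨inv r ≫ U.ι ≫ pullback.fst p g, ⟨?_, ?_⟩, ?_⟩
  · rw [Category.assoc, Category.assoc, pullback.condition, ← Category.assoc U.ι]
    exact IsIso.inv_hom_id_assoc r g
  · have h4 : i ≫ inv r = s₁ := by rw [IsIso.comp_inv_eq, hs₁]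
    rw [reassoc_of% h4, IsOpenImmersion.lift_fac_assoc]
    exact pullback.lift_fst _ _ _
  · rintro f ⟨hf, hif⟩
    let s : S' ⟶ pullback p g := pullback.lift f (𝟙 _) (by rw [hf, Category.id_comp])
    have his : i ≫ s = s₀ := pullback.hom_ext
      (((Category.assoc _ _ _).trans (congrArg (i ≫ ·) (pullback.lift_fst _ _ _))).trans (hif.trans (pullback.lift_fst _ _ _).symm))
      (((Category.assoc _ _ _).trans (congrArg (i ≫ ·) (pullback.lift_snd _ _ _))).trans ((Category.comp_id i).trans hs₀.symm))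
    have hrs : Set.range s ⊆ Set.range U.ι := by
      rw [Scheme.Opens.range_ι]
      rintro _ ⟨y, rfl⟩
      obtain ⟨y₀, rfl⟩ := i.surjective y
      exact (congrArg (fun h : S'₀ ⟶ pullback p g => h y₀) his) ▸ hmem y₀
    have hl := IsOpenImmersion.lift_fac U.ι s hrs
    have h5 : IsOpenImmersion.lift U.ι s hrs = inv r := by
      refine (cancel_mono r).1 ?_
      rw [IsIso.inv_hom_id]
      exact (IsOpenImmersion.lift_fac_assoc U.ι s hrs q).trans (pullback.lift_snd _ _ _)
    rw [← h5, reassoc_of% hl]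
    exact (pullback.lift_fst _ _ _).symm

end Groth.Agent.S5075
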