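import Groth.Statements.S5076
import Mathlib

set_option autoImplicit false
universe u
open Unram

namespace Groth.Agent.S5076

/-- Let A be a local ring with maximal ideal m, C a finite A-algebra, r a maximal ideal of C, and u an
element of C which lies in every maximal ideal of C other than r, does not lie in r, and whose image
generates C_r modulo m C_r as an A-algebra. Let B = A[u] be the A-subalgebra of C generated by u and
n the inverse image of r in B. Then the canonical homomorphism B_n → C_r is bijective. -/
theorem result (A C : Type u) [CommRing A] [IsLocalRing A]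
    [CommRing C] [Algebra A C] [Module.Finite A C] (r : Ideal C) [r.IsMaximal] (u : C)
    (hu₁ : ∀ r' : Ideal C, r'.IsMaximal → r' ≠ r → u ∈ r') (hu₂ : u ∉ r)
    (hu₃ : Subalgebra.toSubmodule (Algebra.adjoin A {algebraMap C (Localization.AtPrime r) u}) ⊔
        Submodule.restrictScalars A (Ideal.map (algebraMap A (Localization.AtPrime r)) (IsLocalRing.maximalIdeal A)) = ⊤) :
    Function.Bijective (Localization.localRingHom (Ideal.comap (Algebra.adjoin A ({u} : Set C)).val.toRingHom r) r
      (Algebra.adjoin A ({u} : Set C)).val.toRingHom rfl) := by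
  let B := Algebra.adjoin A ({u} : Set C)
  let n : Ideal B := Ideal.comap B.val.toRingHom r
  haveI : Module.Finite B C := Module.Finite.of_restrictScalars_finite A B C
  haveI : Algebra.IsIntegral B C := Algebra.IsIntegral.of_finite B C
  haveI hn : n.IsMaximal := Ideal.isMaximal_comap_of_isIntegral_of_isMaximal (R := B) r
  haveI hlo : r.LiesOver n := ⟨rfl⟩
  have huB : u ∈ B := Algebra.self_mem_adjoin_singleton A u
  have hq : n.primesOver C = {r} := by
    refine Set.Subset.antisymm ?_ fun q hq => (Set.mem_singleton_iff.1 hq) ▸ ⟨inferInstance, hlo⟩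
    rintro q ⟨hq1, hq2⟩
    by_contra hne
    haveI := hq1
    have hqn : q.comap (algebraMap B C) = n := hq2.over.symm
    haveI : q.IsMaximal := Ideal.isMaximal_of_isIntegral_of_isMaximal_comap q (by rw [hqn]; exact hn)
    have h1 : (⟨u, huB⟩ : B) ∈ q.comap (algebraMap B C) := hu₁ q inferInstance hne
    rw [hqn] at h1
    exact hu₂ h1
  refine ⟨Localization.localRingHom_injective_of_primesOver_eq_singleton hq, ?_⟩
  letI := Localization.AtPrime.algebraOfLiesOver n r
  haveI := Localization.finite_of_primesOver_eq_singleton hq
  haveI : IsScalarTower B (Localization.AtPrime n) (Localization.AtPrime r) :=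
    IsScalarTower.of_algebraMap_eq fun b => (Localization.localRingHom_to_map n r (algebraMap B C) (r.over_def n) b).symm
  show Function.Surjective (Localization.localRingHom n r (algebraMap B C) (r.over_def n))
  rw [← Localization.AtPrime.IsLiesOverAlgebra.algebraMap_eq]
  change Function.Surjective (Algebra.linearMap _ _)
  rw [← LinearMap.range_eq_top, ← top_le_iff]
  apply Submodule.le_of_le_smul_of_le_jacobson_bot Module.Finite.fg_top
    (IsLocalRing.maximalIdeal_le_jacobson _)
  rw [Ideal.smul_top_eq_map]
  rintro x -
  obtain ⟨y, hy, z, hz, rfl⟩ := Submodule.mem_sup.1 (hu₃.ge (Submodule.mem_top (x := x)))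
  refine add_mem (Submodule.mem_sup_left ?_) (Submodule.mem_sup_right ?_)
  · have hy' : y ∈ (B.map (IsScalarTower.toAlgHom A C (Localization.AtPrime r))) := by
      show y ∈ (Algebra.adjoin A {u}).map _
      rw [AlgHom.map_adjoin, Set.image_singleton]
      exact hy
    obtain ⟨c, hc, rfl⟩ := hy'
    refine ⟨algebraMap B (Localization.AtPrime n) ⟨c, hc⟩, ?_⟩
    show algebraMap (Localization.AtPrime n) (Localization.AtPrime r) _ = _
    rw [← IsScalarTower.algebraMap_apply, IsScalarTower.algebraMap_apply B C]
    rfl
  · rw [Submodule.restrictScalars_mem] at hz ⊢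
    refine Ideal.map_le_iff_le_comap.2 (fun a ha => ?_) hz
    rw [Ideal.mem_comap, IsScalarTower.algebraMap_apply A B, IsScalarTower.algebraMap_apply B
      (Localization.AtPrime n)]
    refine Ideal.mem_map_of_mem _ ?_
    rw [← Localization.AtPrime.map_eq_maximalIdeal]
    refine Ideal.mem_map_of_mem _ ?_
    have h2 : (n.comap (algebraMap A B)).IsMaximal := by
      haveI : Algebra.IsIntegral A B := Algebra.IsIntegral.of_injective B.val Subtype.val_injective
      exact Ideal.isMaximal_comap_of_isIntegral_of_isMaximal n
    have h3 := IsLocalRing.eq_maximalIdeal h2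
    exact h3.ge ha
  exact hlo

end Groth.Agent.S5076
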