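import Groth.Statements.S5077
import Mathlib.RingTheory.Kaehler.Basic
import Mathlib.RingTheory.Adjoin.Polynomial.Basic
import Mathlib.Algebra.Polynomial.Derivation
import Mathlib.RingTheory.Unramified.Locus
import Mathlib.RingTheory.Finiteness.Nakayama
import Mathlib.FieldTheory.Minpoly.Field
import Mathlib.Algebra.Polynomial.Lifts
import Mathlib.RingTheory.LocalRing.ResidueField.Basic
import Mathlib.RingTheory.Support

set_option autoImplicit false
universe u
open Unram

namespace Groth.Agent.S5077
open Polynomial

/-- For a monogenic algebra, the annihilator of the differentials lies in any ideal containing the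
derivatives of all relations. -/
theorem annihilator_le {A B : Type u} [CommRing A] [CommRing B] [Algebra A B] (u : B)
    (hsurj : Function.Surjective (aeval u : A[X] →ₐ[A] B)) (I : Ideal B)
    (hI : ∀ q : A[X], aeval u q = 0 → aeval u (derivative q) ∈ I) :
    Module.annihilator B (KaehlerDifferential A B) ≤ I := by
  choose s hs using hsurj
  have hwd : ∀ q q' : A[X], aeval u q = aeval u q' →
      Ideal.Quotient.mk I (aeval u (derivative q)) = Ideal.Quotient.mk I (aeval u (derivative q')) := by
    intro q q' h
    rw [Ideal.Quotient.eq, ← map_sub, ← derivative_sub]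
    exact hI _ (by rw [map_sub, h, sub_self])
  let d : B →ₗ[A] B ⧸ I :=
    { toFun := fun b => Ideal.Quotient.mk I (aeval u (derivative (s b)))
      map_add' := fun a b => by
        rw [hwd (s (a + b)) (s a + s b) (by rw [map_add, hs, hs, hs]), derivative_add, map_add, map_add]
      map_smul' := fun r b => by
        rw [hwd (s (r • b)) (r • s b) (by rw [map_smul, hs, hs]), derivative_smul, map_smul]
        rfl }
  let δ : Derivation A B (B ⧸ I) := Derivation.mk' d fun a b => by
    change Ideal.Quotient.mk I (aeval u (derivative (s (a * b)))) = _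
    rw [hwd (s (a * b)) (s a * s b) (by rw [map_mul, hs, hs, hs]), derivative_mul, map_add, map_mul,
      map_mul, hs, hs, map_add, add_comm]
    change _ = a • Ideal.Quotient.mk I (aeval u (derivative (s b))) +
      b • Ideal.Quotient.mk I (aeval u (derivative (s a)))
    simp only [Algebra.smul_def, Ideal.Quotient.algebraMap_eq, ← map_mul]
    rw [mul_comm _ b]
  intro z hz
  have h1 := congrArg δ.liftKaehlerDifferential (Module.mem_annihilator.1 hz (KaehlerDifferential.D A B u))
  rw [map_smul, map_zero, Derivation.liftKaehlerDifferential_comp_D] at h1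
  have hu1 : δ u = 1 := by
    change Ideal.Quotient.mk I (aeval u (derivative (s u))) = 1
    rw [hwd (s u) X (by rw [hs, aeval_X]), derivative_X, map_one, map_one]
  rw [hu1, Algebra.smul_def, mul_one] at h1
  exact Ideal.Quotient.eq_zero_iff_mem.1 h1

/-- Let A be a local ring and B a finite A-algebra generated by a single element u. Then there is a
monic polynomial F with coefficients in A such that F(u) = 0 and F'(u) does not belong to any
maximal ideal n of B at which B is unramified over A. -/
theorem result (A B : Type u) [CommRing A] [IsLocalRing A]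
    [CommRing B] [Algebra A B] [Module.Finite A B] (u : B) (hu : Algebra.adjoin A ({u} : Set B) = ⊤) :
    ∃ F : Polynomial A, F.Monic ∧ Polynomial.aeval u F = 0 ∧
      ∀ (n : Ideal B) [n.IsMaximal], Algebra.IsUnramifiedAt A n → Polynomial.aeval u (Polynomial.derivative F) ∉ n := by
  classical
  have hsurj : Function.Surjective (aeval u : A[X] →ₐ[A] B) := by
    rw [← AlgHom.range_eq_top, ← Algebra.adjoin_singleton_eq_range_aeval]
    exact hu
  rcases subsingleton_or_nontrivial B with hB | hB
  · exact ⟨1, monic_one, Subsingleton.elim _ _, fun n hn => absurd (Subsingleton.elim _ _) hn.ne_top⟩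
  letI := Ideal.Quotient.field (IsLocalRing.maximalIdeal A)
  let mB : Ideal B := (IsLocalRing.maximalIdeal A).map (algebraMap A B)
  have hmB : mB ≠ ⊤ := by
    intro h
    have htop : (⊤ : Submodule A B) ≤ (IsLocalRing.maximalIdeal A) • ⊤ := by
      rw [Ideal.smul_top_eq_map]
      exact fun x _ => (h ▸ Submodule.mem_top : x ∈ mB)
    have := Submodule.eq_bot_of_le_smul_of_le_jacobson_bot (IsLocalRing.maximalIdeal A) ⊤
      Module.Finite.fg_top htop (IsLocalRing.maximalIdeal_le_jacobson _)
    exact one_ne_zero ((Submodule.mem_bot A).1 (this ▸ Submodule.mem_top : (1 : B) ∈ (⊥ : Submodule A B)))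
  haveI : Nontrivial (B ⧸ mB) := Ideal.Quotient.nontrivial_iff.2 hmB
  letI : Algebra (A ⧸ IsLocalRing.maximalIdeal A) (B ⧸ mB) := Ideal.Quotient.algebraQuotientMapQuotient
  haveI : IsScalarTower A (A ⧸ IsLocalRing.maximalIdeal A) (B ⧸ mB) :=
    IsScalarTower.of_algebraMap_eq fun a => rfl
  haveI : Module.Finite (A ⧸ IsLocalRing.maximalIdeal A) (B ⧸ mB) :=
    Module.Finite.of_restrictScalars_finite A _ _
  set ub : B ⧸ mB := Ideal.Quotient.mk mB u with hub
  set g := minpoly (A ⧸ IsLocalRing.maximalIdeal A) ub with hg
  have hgm : g.Monic := minpoly.monic (IsIntegral.of_finite _ _)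
  have hgl : g ∈ lifts (Ideal.Quotient.mk (IsLocalRing.maximalIdeal A)) :=
    (mem_lifts g).2 (Polynomial.map_surjective _ Ideal.Quotient.mk_surjective g)
  obtain ⟨G, hG, hGdeg, hGm⟩ := lifts_and_natDegree_eq_and_monic hgl hgm
  have hmk : ∀ q : A[X], Ideal.Quotient.mk mB (aeval u q) =
      aeval ub (q.map (Ideal.Quotient.mk (IsLocalRing.maximalIdeal A))) := by
    intro q
    rw [← Ideal.Quotient.algebraMap_eq (IsLocalRing.maximalIdeal A), aeval_map_algebraMap]
    exact (aeval_algHom_apply (Ideal.Quotient.mkₐ A mB) u q).symm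
  have hGu : aeval u G ∈ mB := by
    rw [← Ideal.Quotient.eq_zero_iff_mem, hmk, hG]
    exact minpoly.aeval _ _
  let V : Submodule A B := (degreeLT A g.natDegree).map (aeval u : A[X] →ₐ[A] B).toLinearMap
  have hmodV : ∀ q : A[X], q.degree < g.natDegree → aeval u q ∈ V := fun q hq =>
    ⟨q, mem_degreeLT.2 hq, rfl⟩
  have hV : (⊤ : Submodule A B) ≤ V := by
    refine Submodule.le_of_le_smul_of_le_jacobson_bot Module.Finite.fg_top
      (IsLocalRing.maximalIdeal_le_jacobson _) fun b _ => ?_
    obtain ⟨q, rfl⟩ := hsurj b
    rw [← modByMonic_add_div q G, map_add]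
    refine Submodule.mem_sup.2 ⟨_, hmodV _ ?_, _, ?_, rfl⟩
    · rw [← hGdeg, ← degree_eq_natDegree hGm.ne_zero]
      exact degree_modByMonic_lt q hGm
    · rw [Ideal.smul_top_eq_map]
      rw [map_mul]
      exact mB.mul_mem_right _ hGu
  obtain ⟨r, hr, hru⟩ := hV (Submodule.mem_top (x := u ^ g.natDegree))
  rw [SetLike.mem_coe, mem_degreeLT] at hr
  set F : A[X] := X ^ g.natDegree - r with hF
  have hFm : F.Monic := monic_X_pow_sub (by exact hr)
  have hFu : aeval u F = 0 := by
    rw [hF, map_sub, map_pow, aeval_X, sub_eq_zero]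
    exact hru.symm
  have hFdeg : F.degree = g.natDegree := by
    rw [hF, degree_sub_eq_left_of_degree_lt] <;> rw [degree_X_pow]
    exact hr
  refine ⟨F, hFm, hFu, fun n hn hun => ?_⟩
  have hmn : mB ≤ n := by
    rw [Ideal.map_le_iff_le_comap]
    haveI : (n.comap (algebraMap A B)).IsMaximal :=
      Ideal.isMaximal_comap_of_isIntegral_of_isMaximal n
    exact (IsLocalRing.eq_maximalIdeal inferInstance).ge
  intro hmem
  have hann : Module.annihilator B (KaehlerDifferential A B) ≤ mB ⊔ Ideal.span {aeval u (derivative F)} := by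
    refine annihilator_le u hsurj _ fun q hq => ?_
    have hrem : (q %ₘ F).map (Ideal.Quotient.mk (IsLocalRing.maximalIdeal A)) = 0 := by
      by_contra hne
      have h1 := minpoly.degree_le_of_ne_zero (A ⧸ IsLocalRing.maximalIdeal A) ub hne (by
        rw [← hmk, modByMonic_eq_sub_mul_div, map_sub, map_mul, hq, hFu, zero_mul,
          sub_zero, map_zero])
      have h2 : (q %ₘ F).degree < g.natDegree := hFdeg ▸ degree_modByMonic_lt q hFm
      have h3 : g.degree ≤ (q %ₘ F).degree := h1.trans (degree_map_le ..)
      rw [degree_eq_natDegree hgm.ne_zero] at h3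
      exact absurd h3 (not_le.2 h2)
    rw [← modByMonic_add_div q F, derivative_add, derivative_mul, map_add, map_add, map_mul, map_mul,
      hFu, zero_mul, add_zero]
    refine Submodule.add_mem_sup ?_ (Ideal.mul_mem_right _ _ (Ideal.mem_span_singleton_self _))
    rw [← Ideal.Quotient.eq_zero_iff_mem, hmk, ← derivative_map, hrem, derivative_zero, map_zero]
  have hle : mB ⊔ Ideal.span {aeval u (derivative F)} ≤ n :=
    sup_le hmn ((Ideal.span_singleton_le_iff_mem n).2 hmem)
  have hsupp : (⟨n, inferInstance⟩ : PrimeSpectrum B) ∈ Module.support B (KaehlerDifferential A B) :=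
    Module.mem_support_iff_of_finite.2 (hann.trans hle)
  have hloc : (⟨n, inferInstance⟩ : PrimeSpectrum B) ∈ Algebra.unramifiedLocus A B := hun
  rw [Algebra.unramifiedLocus_eq_compl_support] at hloc
  exact hloc hsupp

end Groth.Agent.S5077
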