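import Groth.Statements.S5079
import Groth.Agent.Punct7.Sections
-- import your own Groth.Agent.* helpers here

set_option autoImplicit false
open CategoryTheory AlgebraicGeometry Opposite
universe u
open Unram

namespace Groth.Agent.S5079

/-- Let A be a reduced Noetherian local ring, A' the integral closure of A in its total ring of
fractions and U the punctured spectrum of A. Assume that for every maximal ideal m' of A' lying over
the maximal ideal of A the local ring A'_{m'} has dimension at least 2. Then, writing ρ for the
restriction map A = Γ(Spec A, O) → Γ(U, O), the ring Γ(U, O) is integral over A via ρ and there is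
an injective ring homomorphism Γ(U, O) → A' compatible with ρ and the inclusion of A in A'. -/
theorem result (A : Type u) [CommRing A] [IsNoetherianRing A]
    [IsLocalRing A] [IsReduced A]
    (hdim : ∀ (m' : Ideal ↥(integralClosure A (FractionRing A))) [m'.IsMaximal],
      m'.comap (algebraMap A ↥(integralClosure A (FractionRing A))) = IsLocalRing.maximalIdeal A →
        2 ≤ ringKrullDim (Localization.AtPrime m')) :
    (((Spec (CommRingCat.of A)).presheaf.map (homOfLE (le_top : FEt.puncturedSpec A ≤ ⊤)).op).hom.comp
        (Scheme.ΓSpecIso (CommRingCat.of A)).inv.hom).IsIntegral ∧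
      ∃ φ : ↑((Spec (CommRingCat.of A)).presheaf.obj (op (FEt.puncturedSpec A))) →+* ↥(integralClosure A (FractionRing A)),
        Function.Injective φ ∧
          φ.comp (((Spec (CommRingCat.of A)).presheaf.map (homOfLE (le_top : FEt.puncturedSpec A ≤ ⊤)).op).hom.comp
            (Scheme.ΓSpecIso (CommRingCat.of A)).inv.hom) = algebraMap A ↥(integralClosure A (FractionRing A)) := by
  have hdim' : ∀ (m' : Ideal ↥(integralClosure A (FractionRing A))), m'.IsMaximal →
      m'.comap (algebraMap A ↥(integralClosure A (FractionRing A))) = IsLocalRing.maximalIdeal A →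
        2 ≤ m'.height := fun m' hm hc => by
    haveI := hm
    have h := hdim m' hc
    rw [IsLocalization.AtPrime.ringKrullDim_eq_height m' (Localization.AtPrime m')] at h
    exact WithBot.coe_le_coe.1 h
  obtain ⟨φ, hφ, hφa, hint⟩ := Punct7.exists_map_integralClosure A hdim'
  refine ⟨fun s => ?_, φ.codRestrict (integralClosure A (FractionRing A)).toSubring hint,
    fun a b h => hφ (congrArg Subtype.val h), RingHom.ext fun a => Subtype.ext (RingHom.congr_fun hφa a)⟩
  obtain ⟨f, hf, hfs⟩ := hint s
  refine ⟨f, hf, hφ ?_⟩
  rw [map_zero]
  refine ((Polynomial.hom_eval₂ f _ φ s).trans ?_)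
  rw [← hfs]
  exact congrArg (fun g => Polynomial.eval₂ g (φ s) f) hφa

end Groth.Agent.S5079
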