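import Groth.Statements.S5080
import Groth.Agent.CplKaehler4.Base

set_option autoImplicit false
universe u
open EGA418

open TensorProduct
namespace Groth.Agent.S5080

/-- Let k be a field, A a complete Noetherian local k-algebra with maximal ideal m whose residue field
is a finite extension of k, p a prime ideal distinct from m, Ω̂ the completion of the module of
differentials of A over k, and M the least number of generators of the A_p-module Ω̂_p. Then for
every family x_1, …, x_M of elements of m not in p there are units u_1, …, u_M of A such that the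
images in Ω̂_p of the differentials d(u_i x_i) generate Ω̂_p. -/
theorem result (k A : Type u) [Field k] [CommRing A]
    [IsLocalRing A] [IsNoetherianRing A] [Algebra k A] [IsAdicComplete (IsLocalRing.maximalIdeal A) A]
    [Module.Finite k (IsLocalRing.ResidueField A)] (p : Ideal A) [p.IsPrime] (hp : p ≠ IsLocalRing.maximalIdeal A)
    (M : ℕ) (hgen : ∃ s : Fin M → (LocalizedModule p.primeCompl (AdicCompletion (IsLocalRing.maximalIdeal A) (KaehlerDifferential k A))), Submodule.span (Localization.AtPrime p) (Set.range s) = ⊤)
    (hmin : ∀ (s : Finset (LocalizedModule p.primeCompl (AdicCompletion (IsLocalRing.maximalIdeal A) (KaehlerDifferential k A)))), Submodule.span (Localization.AtPrime p) (↑s : Set (LocalizedModule p.primeCompl (AdicCompletion (IsLocalRing.maximalIdeal A) (KaehlerDifferential k A)))) = ⊤ → M ≤ s.card)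
    (x : Fin M → A) (hx : ∀ i, x i ∈ IsLocalRing.maximalIdeal A ∧ x i ∉ p) :
    ∃ u : Fin M → Aˣ, Submodule.span (Localization.AtPrime p)
      (Set.range (fun i => LocalizedModule.mkLinearMap p.primeCompl (AdicCompletion (IsLocalRing.maximalIdeal A) (KaehlerDifferential k A)) (AdicCompletion.of (IsLocalRing.maximalIdeal A) (KaehlerDifferential k A) (KaehlerDifferential.D k A ((u i : A) * x i))))) = ⊤ := by
  classical
  set m := IsLocalRing.maximalIdeal A with hm
  haveI := Groth.Agent.CplKaehler4.finite_completion k A
  let Om := AdicCompletion m (KaehlerDifferential k A)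
  let d : A → p.ResidueField ⊗[A] Om := fun a =>
    (1 : p.ResidueField) ⊗ₜ[A] AdicCompletion.of m (KaehlerDifferential k A) (KaehlerDifferential.D k A a)
  let F := p.ResidueField ⊗[A] Om
  have hd_add : ∀ a b, d (a + b) = d a + d b := fun a b => by simp [d, map_add, TensorProduct.tmul_add]
  have hd_mul : ∀ a b, d (a * b) = algebraMap A p.ResidueField a • d b + algebraMap A p.ResidueField b • d a := fun a b => by
    simp [d, Derivation.leibniz, map_add, TensorProduct.tmul_add, algebraMap_smul, TensorProduct.tmul_smul]
  have hgood : ∀ (H : Submodule p.ResidueField F), H ≠ ⊤ → ∀ y : A, y ∉ p → ∃ u : Aˣ, d (u * y) ∉ H := by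
    intro H hH y hy
    by_contra hcon
    push Not at hcon
    refine hH ?_
    have hy1 : d y ∈ H := by simpa using hcon 1
    have hunit : ∀ u : Aˣ, d (u : A) ∈ H := by
      intro u
      have h1 := hcon u
      rw [hd_mul] at h1
      have h2 := (Submodule.add_mem_iff_right H (H.smul_mem _ hy1)).1 h1
      refine (Submodule.smul_mem_iff H ?_).1 h2
      rwa [Ne, Ideal.algebraMap_residueField_eq_zero]
    have hall : ∀ a : A, d a ∈ H := by
      intro a
      rcases IsLocalRing.isUnit_or_isUnit_one_sub_self a with ha | ha
      · exact hunit ha.unit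
      · have h1 := hunit ha.unit
        rw [IsUnit.unit_spec] at h1
        have h1' : d 1 ∈ H := by simpa using hunit 1
        have e := hd_add (1 - a) a
        rw [sub_add_cancel] at e
        exact (Submodule.add_mem_iff_right H h1).1 (e ▸ h1')
    refine eq_top_iff.2 fun z hz => ?_
    clear hz
    induction z using TensorProduct.induction_on with
    | zero => exact zero_mem _
    | add a b ha hb => exact add_mem ha hb
    | tmul c w =>
      rw [← mul_one c, ← smul_eq_mul, ← TensorProduct.smul_tmul']
      refine H.smul_mem _ ?_
      have hw : w ∈ Submodule.span A (Set.range fun a : A => AdicCompletion.of m _ (KaehlerDifferential.D k A a)) :=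
        (Groth.Agent.CplKaehler4.span_d k A).symm ▸ Submodule.mem_top
      have h1 := Submodule.mem_map_of_mem (f := TensorProduct.mk A p.ResidueField Om 1) hw
      rw [Submodule.map_span] at h1
      refine (Submodule.span_le (p := H.restrictScalars A)).2 ?_ h1
      rintro _ ⟨_, ⟨a, rfl⟩, rfl⟩
      exact hall a
  have hdim : M ≤ Module.finrank p.ResidueField F := by
    obtain ⟨s, hs⟩ := Groth.Agent.CplKaehler4.exists_genAt p (M := Om)
    have h1 := hmin (Finset.univ.image fun i => LocalizedModule.mkLinearMap p.primeCompl Om (s i)) (by
      rw [Finset.coe_image, Finset.coe_univ, Set.image_univ]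
      exact (Groth.Agent.CplKaehler4.genAt_iff_localized p s).1 hs)
    exact h1.trans (Finset.card_image_le.trans (by simp [F, Om]))
  have hdim' : Module.finrank p.ResidueField F ≤ M := by
    obtain ⟨s, hs⟩ := Groth.Agent.CplKaehler4.exists_genAt_of_localized p hgen
    exact Groth.Agent.CplKaehler4.finrank_fibre_le p hs
  have hind : ∀ j : ℕ, j ≤ M → ∃ u : Fin M → Aˣ,
      LinearIndependent p.ResidueField (fun i : Fin j => if h : (i : ℕ) < M then d (u ⟨i, h⟩ * x ⟨i, h⟩) else 0) := by
    intro j
    induction j with
    | zero => exact fun _ => ⟨fun _ => 1, linearIndependent_empty_type⟩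
    | succ j ih =>
      intro hj
      obtain ⟨u, hu⟩ := ih (by omega)
      let v := fun i : Fin j => if h : (i : ℕ) < M then d (u ⟨i, h⟩ * x ⟨i, h⟩) else 0
      have hne : Submodule.span p.ResidueField (Set.range v) ≠ ⊤ := by
        intro htop
        have h1 := finrank_range_le_card (R := p.ResidueField) v
        rw [Set.finrank, htop, finrank_top, Fintype.card_fin] at h1
        exact absurd (hdim.trans h1) (by omega)
      obtain ⟨w, hw⟩ := hgood _ hne (x ⟨j, hj⟩) (hx _).2
      refine ⟨Function.update u ⟨j, hj⟩ w, ?_⟩
      have e : (fun i : Fin (j + 1) => if h : (i : ℕ) < M then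
          d (Function.update u ⟨j, hj⟩ w ⟨i, h⟩ * x ⟨i, h⟩) else 0) = Fin.snoc v (d (w * x ⟨j, hj⟩)) := by
        funext i
        refine Fin.lastCases ?_ (fun i => ?_) i
        · rw [Fin.snoc_last]
          simp only [Fin.val_last]
          rw [dif_pos (show j < M by omega), Function.update_self]
        · rw [Fin.snoc_castSucc]
          have hi : (i : ℕ) < M := by omega
          simp only [Fin.val_castSucc, v, dif_pos hi]
          rw [Function.update_of_ne (by simp [Fin.ext_iff]; omega)]
      rw [e, linearIndependent_finSnoc]
      exact ⟨hu, hw⟩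
  obtain ⟨u, hu⟩ := hind M le_rfl
  refine ⟨u, (Groth.Agent.CplKaehler4.genAt_iff_localized p _).1 (Groth.Agent.CplKaehler4.genAt_of_fibre p ?_)⟩
  haveI : Module.Finite p.ResidueField F := inferInstance
  have hcard : Fintype.card (Fin M) = Module.finrank p.ResidueField F := by
    rw [Fintype.card_fin]; omega
  have hu' : LinearIndependent p.ResidueField (fun i : Fin M => d (u i * x i)) := by simpa using hu
  exact hu'.span_eq_top_of_card_eq_finrank' hcard

end Groth.Agent.S5080
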