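import Groth.Statements.S5081
import Mathlib.RingTheory.Kaehler.Basic
import Mathlib.RingTheory.Adjoin.Polynomial.Basic
import Mathlib.Algebra.Polynomial.Derivation

set_option autoImplicit false
universe u
open Unram

namespace Groth.Agent.S5081
open Polynomial

/-- Let B be a finite A-algebra generated by a single element u and F a polynomial with coefficients in
A such that F(u) = 0. Then the ideal generated by F'(u) is contained in the annihilator of the
module of differentials of B over A, and equals it when the kernel of the surjection A[T] → B
sending T to u is generated by F. -/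
theorem result (A B : Type u) [CommRing A] [CommRing B] [Algebra A B]
    [Module.Finite A B] (u : B) (hu : Algebra.adjoin A ({u} : Set B) = ⊤) (F : Polynomial A) (hF : Polynomial.aeval u F = 0) :
    Ideal.span {Polynomial.aeval u (Polynomial.derivative F)} ≤ Module.annihilator B (KaehlerDifferential A B) ∧
      (RingHom.ker (Polynomial.aeval u : Polynomial A →ₐ[A] B) = Ideal.span {F} →
        Module.annihilator B (KaehlerDifferential A B) = Ideal.span {Polynomial.aeval u (Polynomial.derivative F)}) := by
  classical
  set f := aeval u (derivative F) with hf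
  have hsurj : Function.Surjective (aeval u : A[X] →ₐ[A] B) := by
    rw [← AlgHom.range_eq_top, ← Algebra.adjoin_singleton_eq_range_aeval]
    exact hu
  have hD : ∀ q : A[X], KaehlerDifferential.D A B (aeval u q) =
      aeval u (derivative q) • KaehlerDifferential.D A B u := fun q =>
    Derivation.map_aeval _ q u
  have hle : Ideal.span {f} ≤ Module.annihilator B (KaehlerDifferential A B) := by
    rw [Ideal.span_singleton_le_iff_mem, Module.mem_annihilator]
    have h0 : f • KaehlerDifferential.D A B u = 0 := by rw [hf, ← hD, hF, map_zero]
    intro z
    have : z ∈ (⊤ : Submodule B (KaehlerDifferential A B)) := Submodule.mem_top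
    rw [← KaehlerDifferential.span_range_derivation] at this
    induction this using Submodule.span_induction with
    | mem x hx =>
      obtain ⟨b, rfl⟩ := hx
      obtain ⟨q, rfl⟩ := hsurj b
      rw [hD, smul_comm, h0, smul_zero]
    | zero => rw [smul_zero]
    | add x y _ _ hx hy => rw [smul_add, hx, hy, add_zero]
    | smul r x _ hx => rw [smul_comm, hx, smul_zero]
  refine ⟨hle, fun hker => le_antisymm ?_ hle⟩
  let Q := B ⧸ Ideal.span {f}
  choose s hs using hsurj
  have hwd : ∀ q q' : A[X], aeval u q = aeval u q' →
      Ideal.Quotient.mk (Ideal.span {f}) (aeval u (derivative q)) =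
        Ideal.Quotient.mk (Ideal.span {f}) (aeval u (derivative q')) := by
    intro q q' h
    have hmem : q - q' ∈ RingHom.ker (aeval u : A[X] →ₐ[A] B) := by
      rw [RingHom.mem_ker, map_sub, h, sub_self]
    rw [hker] at hmem
    obtain ⟨g, hg⟩ := Ideal.mem_span_singleton'.1 hmem
    rw [Ideal.Quotient.eq, ← map_sub, ← derivative_sub, ← hg, derivative_mul, map_add, map_mul,
      map_mul, hF, mul_zero, zero_add, ← hf]
    exact Ideal.mul_mem_left _ _ (Ideal.mem_span_singleton_self _)
  let d : B →ₗ[A] Q :=
    { toFun := fun b => Ideal.Quotient.mk (Ideal.span {f}) (aeval u (derivative (s b)))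
      map_add' := fun a b => by
        rw [hwd (s (a + b)) (s a + s b) (by rw [map_add, hs, hs, hs]), derivative_add, map_add, map_add]
      map_smul' := fun r b => by
        rw [hwd (s (r • b)) (r • s b) (by rw [map_smul, hs, hs]), derivative_smul, map_smul]
        rfl }
  let δ : Derivation A B Q := Derivation.mk' d fun a b => by
    change Ideal.Quotient.mk (Ideal.span {f}) (aeval u (derivative (s (a * b)))) = _
    rw [hwd (s (a * b)) (s a * s b) (by rw [map_mul, hs, hs, hs]), derivative_mul, map_add, map_mul,
      map_mul, hs, hs, map_add, add_comm]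
    change _ = a • Ideal.Quotient.mk (Ideal.span {f}) (aeval u (derivative (s b))) +
      b • Ideal.Quotient.mk (Ideal.span {f}) (aeval u (derivative (s a)))
    simp only [Algebra.smul_def, Ideal.Quotient.algebraMap_eq, ← map_mul]
    rw [mul_comm _ b]
  intro z hz
  have h1 := congrArg δ.liftKaehlerDifferential (Module.mem_annihilator.1 hz (KaehlerDifferential.D A B u))
  rw [map_smul, map_zero, Derivation.liftKaehlerDifferential_comp_D] at h1
  have hu1 : δ u = 1 := by
    change Ideal.Quotient.mk (Ideal.span {f}) (aeval u (derivative (s u))) = 1
    rw [hwd (s u) X (by rw [hs, aeval_X]), derivative_X, map_one, map_one]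
  rw [hu1, Algebra.smul_def, mul_one] at h1
  exact Ideal.Quotient.eq_zero_iff_mem.1 h1

end Groth.Agent.S5081
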