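import Groth.Statements.S5082
import Groth.Agent.MeroDepth.Supp
-- import your own Groth.Agent.* helpers here

set_option autoImplicit false
universe u
open CategoryTheory CategoryTheory.Limits AlgebraicGeometry TopologicalSpace
open Mero

namespace Groth.Agent.S5082

/-- Let A be a Noetherian local ring. Then the group of divisors of Spec A is trivial (every divisor
equals the unit divisor, divisors being written multiplicatively) if and only if A has depth 0, that
is, if and only if every element of the maximal ideal of A is a zero-divisor. -/
theorem result (A : Type u) [CommRing A] [IsNoetherianRing A] [IsLocalRing A] :
    (∀ D : Mero.Divisor (Spec (CommRingCat.of A)), D = 1) ↔ LocCoh.depth A A = 0 := by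
  exact MeroDepth.divisor_eq_one_iff_depth A

end Groth.Agent.S5082
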