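import Groth.Statements.S5084
import Groth.Agent.AssPtX.Noeth
import Groth.Agent.QCoh.Sections
-- import your own Groth.Agent.* helpers here

set_option autoImplicit false
set_option backward.isDefEq.respectTransparency false
set_option backward.isDefEq.respectTransparency.types false
universe u
open CategoryTheory CategoryTheory.Limits AlgebraicGeometry TopologicalSpace
open Mero
open CategoryTheory AlgebraicGeometry TopologicalSpace

namespace Groth.Agent.S5084

/-- Let X be a locally Noetherian scheme and F a quasi-coherent O_X-module. Then F is torsion-free — the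
canonical map from F to its sheaf of meromorphic sections K_X(F), m ↦ m/1, is a monomorphism, i.e.
at every point no germ of a regular function kills a nonzero element of the stalk of F — if and only
if every associated point of F is an associated point of the structure sheaf (a point x such that
the maximal ideal of O_{X,x} is an associated prime of O_{X,x}). -/
theorem result (X : Scheme.{u}) [IsLocallyNoetherian X]
    (F : X.Modules) (hF : Coh.IsQCoh F) :
    Mono (Mero.toMer F) ↔
      ∀ x : ↥X, Curv2.IsAssPoint F x →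
        IsAssociatedPrime (IsLocalRing.maximalIdeal ↑(X.presheaf.stalk x)) ↑(X.presheaf.stalk x) := by
  constructor
  · intro hmono x hxa
    by_contra hne
    obtain ⟨m, hm⟩ := AssPtX.isAssPoint_iff.1 hxa
    -- a regular germ in the maximal ideal
    obtain ⟨t, htm, ht⟩ : ∃ t ∈ IsLocalRing.maximalIdeal (X.presheaf.stalk x), t ∈ nonZeroDivisors (X.presheaf.stalk x) := by
      by_contra h
      push Not at h
      have hsub : (IsLocalRing.maximalIdeal (X.presheaf.stalk x) : Set (X.presheaf.stalk x)) ⊆
          ⋃ p ∈ ((associatedPrimes.finite (X.presheaf.stalk x) (X.presheaf.stalk x)).toFinset :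
            Set (Ideal (X.presheaf.stalk x))), (p : Set (X.presheaf.stalk x)) := fun r hr => by
        rw [Set.Finite.coe_toFinset, biUnion_associatedPrimes_eq_compl_nonZeroDivisors]
        exact h r hr
      obtain ⟨p, hp, hle⟩ := (Ideal.subset_union_prime ⊥ ⊥ fun i hi _ _ =>
        ((Set.Finite.mem_toFinset _).1 hi).1).1 hsub
      have hp' := (Set.Finite.mem_toFinset _).1 hp
      exact hne ((le_antisymm hle (IsLocalRing.le_maximalIdeal hp'.1.ne_top)) ▸ hp')
    rw [← AssPtX.regStalk_eq] at ht
    obtain ⟨U, hxU, b, hb, rfl⟩ := ht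
    rw [← hm] at htm
    obtain ⟨N, hN⟩ := htm
    rw [LinearMap.mem_ker, LinearMap.toSpanSingleton_apply] at hN
    obtain ⟨W, hxW, s, rfl⟩ := TopCat.Presheaf.germ_exist (F := F.presheaf) m
    have hW : x ∈ W ⊓ U := ⟨hxW, hxU⟩
    let s' := F.presheaf.map (homOfLE (inf_le_left : W ⊓ U ≤ W)).op s
    let b' := X.presheaf.map (homOfLE (inf_le_right : W ⊓ U ≤ U)).op b
    have h0 : F.presheaf.germ (W ⊓ U) x hW (b' ^ N • s') = 0 := by
      rw [Mero.germ_smul, map_pow, TopCat.Presheaf.germ_res_apply, TopCat.Presheaf.germ_res_apply]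
      exact hN
    obtain ⟨V, hxV, i, _, hV⟩ := TopCat.Presheaf.germ_eq F.presheaf x hW hW (b' ^ N • s') 0
      (h0.trans (map_zero _).symm)
    have hs : (Mero.toMer F).app V (F.presheaf.map i.op s') = 0 := by
      refine Subtype.ext (funext fun y => ?_)
      show LocalizedModule.mk (F.presheaf.germ V y.1 y.2 (F.presheaf.map i.op s')) 1 = 0
      rw [← LocalizedModule.zero_mk 1, LocalizedModule.mk_eq]
      refine ⟨Mero.regGerm ⟨y.1, i.le y.2⟩ ⟨b' ^ N, Submonoid.pow_mem _ (Mero.regSub_res _ hb) N⟩, ?_⟩
      rw [one_smul, one_smul, smul_zero, Submonoid.smul_def, TopCat.Presheaf.germ_res_apply, ← Mero.germ_smul,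
        ← F.presheaf.germ_res_apply i y.1 y.2, hV, map_zero, map_zero]
    have h1 := QCoh.app_injective (Mero.toMer F) V (hs.trans (map_zero _).symm)
    have hg : F.presheaf.germ W x hxW s = 0 := by
      rw [← F.presheaf.germ_res_apply (homOfLE (inf_le_left : W ⊓ U ≤ W)) x hW s,
        ← F.presheaf.germ_res_apply i x hxV, h1, map_zero]
    rw [hg] at hm
    refine (IsLocalRing.maximalIdeal.isMaximal (X.presheaf.stalk x)).ne_top (hm ▸ ?_)
    rw [Ideal.radical_eq_top, eq_top_iff]
    exact fun r _ => by simp
  · intro h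
    refine QCoh.mono_of_app_injective _ fun U => ?_
    refine (injective_iff_map_eq_zero ((Mero.toMer F).app U).hom).2 fun s hs => ?_
    refine AssPtX.eq_zero_of_germ hF s fun y hy hya => ?_
    have h1 : LocalizedModule.mk (F.presheaf.germ U y hy s) (1 : Mero.regStalk X y) = 0 :=
      congrArg (fun t => t.1 ⟨y, hy⟩) hs
    rw [← LocalizedModule.zero_mk (1 : Mero.regStalk X y), LocalizedModule.mk_eq] at h1
    obtain ⟨c, hc⟩ := h1
    rw [one_smul, one_smul, smul_zero, Submonoid.smul_def] at hc
    by_cases hu : IsUnit (c : X.presheaf.stalk y)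
    · exact hu.smul_eq_zero.1 hc
    exfalso
    have hcm : (c : X.presheaf.stalk y) ∈ IsLocalRing.maximalIdeal (X.presheaf.stalk y) := hu
    have hmem : (c : X.presheaf.stalk y) ∈ (nonZeroDivisors (X.presheaf.stalk y) : Set (X.presheaf.stalk y))ᶜ := by
      rw [← biUnion_associatedPrimes_eq_compl_nonZeroDivisors]
      exact Set.mem_biUnion (h y (AssPtX.isAssPoint_iff.2 hya)) hcm
    exact hmem (Mero.regStalk_le_nonZeroDivisors y c.2)

end Groth.Agent.S5084
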