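import Groth.Statements.S5085


set_option autoImplicit false
universe u
open CategoryTheory CategoryTheory.Limits AlgebraicGeometry TopologicalSpace
open Mero

namespace Groth.Agent.S5085

/-- Let X be a scheme, U an open subset and V an open subset of U which is schematically dense in U (for
every open W ⊆ U, restriction of functions from W to W ∩ V is injective). Then restriction of
sections of the sheaf of meromorphic functions K_X from U to V is injective: the canonical map from
meromorphic functions to pseudo-functions is injective. -/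
theorem result (X : Scheme.{u}) (U V : X.Opens) (hVU : V ≤ U)
    (hV : ∀ W : X.Opens, W ≤ U →
      Function.Injective ⇑(X.presheaf.map (homOfLE (inf_le_left : W ⊓ V ≤ W)).op)) :
    Function.Injective ⇑((Mero.kmod X).presheaf.map (homOfLE hVU).op) := by
  refine (injective_iff_map_eq_zero ((Mero.kmod X).presheaf.map (homOfLE hVU).op).hom).2 fun s hs => ?_
  apply Subtype.ext
  funext x
  obtain ⟨W, hxW, i, a, b, hab⟩ := s.2 x
  have key : X.presheaf.map (homOfLE (inf_le_left : W ⊓ V ≤ W)).op a = 0 := by
    refine TopCat.Presheaf.section_ext X.sheaf (W ⊓ V) _ 0 fun y hy => ?_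
    refine Eq.trans ?_ (map_zero (X.presheaf.germ (W ⊓ V) y hy).hom).symm
    show X.presheaf.germ (W ⊓ V) y hy (X.presheaf.map (homOfLE inf_le_left).op a) = 0
    rw [X.presheaf.germ_res_apply]
    have h1 : s.1 ⟨y, i.le hy.1⟩ = 0 := congrArg (fun t => t.1 ⟨y, hy.2⟩) hs
    have h2 := (hab ⟨y, hy.1⟩).symm.trans h1
    rw [← LocalizedModule.zero_mk (Mero.regGerm ⟨y, hy.1⟩ b), LocalizedModule.mk_eq] at h2
    obtain ⟨c, hc⟩ := h2
    simp only [Submonoid.smul_def, smul_eq_mul, mul_zero] at hc
    have hb := (Submonoid.mul_mem _ (Mero.regStalk_le_nonZeroDivisors y c.2)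
      (Mero.regStalk_le_nonZeroDivisors y (Mero.regGerm ⟨y, hy.1⟩ b).2))
    rw [← mul_assoc, mul_comm] at hc
    exact mem_nonZeroDivisors_iff_right.1 hb _ hc
  have ha : a = 0 := (injective_iff_map_eq_zero
    (X.presheaf.map (homOfLE (inf_le_left : W ⊓ V ≤ W)).op).hom).1 (hV W i.le) a key
  have h3 : s.1 (i ⟨x.1, hxW⟩) = _ := hab ⟨x.1, hxW⟩
  rw [ha, map_zero, LocalizedModule.zero_mk] at h3
  exact h3

end Groth.Agent.S5085
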