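import Groth.Statements.S5086
import Groth.Agent.MeroX.HasRegular
-- import your own Groth.Agent.* helpers here

set_option autoImplicit false
universe u
open CategoryTheory CategoryTheory.Limits AlgebraicGeometry TopologicalSpace
open Mero

namespace Groth.Agent.S5086

/-- Let X be a scheme which is either locally Noetherian, or reduced with locally finite set of
irreducible components (every point has an open neighbourhood meeting only finitely many irreducible
components). Let U be an open subset, V an open subset of U schematically dense in U (restriction of
functions from every open W ⊆ U to W ∩ V is injective) and g a function on V. Then there is a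
section of the sheaf of meromorphic functions K_X over U whose restriction to V is g/1; with part
(i), meromorphic functions over U are exactly the pseudo-functions on U. -/
theorem result (X : Scheme.{u})
    (hX : IsLocallyNoetherian X ∨ (IsReduced X ∧ ∀ x : ↥X, ∃ W : X.Opens, x ∈ W ∧
      {Z : Set ↥X | Z ∈ irreducibleComponents ↥X ∧ (Z ∩ (W : Set ↥X)).Nonempty}.Finite))
    (U V : X.Opens) (hVU : V ≤ U)
    (hV : ∀ W : X.Opens, W ≤ U →
      Function.Injective ⇑(X.presheaf.map (homOfLE (inf_le_left : W ⊓ V ≤ W)).op))
    (g : Γ(X, V)) :
    ∃ s : Γ(Mero.kmod X, U), (Mero.kmod X).presheaf.map (homOfLE hVU).op s = Mero.toK X V g := by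
  have hfin : MeroX.FinAss X := by
    rcases hX with h | ⟨h1, h2⟩
    · haveI := h; exact MeroX.finAss_of_isLocallyNoetherian
    · haveI := h1; exact MeroX.finAss_of_locallyFinite h2
  obtain ⟨s, hs⟩ := MeroX.exists_kmod_extend hfin (U := U) (MeroX.ass_mem_of_injective hfin hV) g
  exact ⟨s, Subtype.ext (funext fun y => hs ⟨y.1, hVU y.2⟩ y.2)⟩

end Groth.Agent.S5086
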