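import Groth.Statements.S5090
import Groth.Agent.H23.CodimOneUfd
-- import your own Groth.Agent.* helpers here

set_option autoImplicit false
universe u
open CategoryTheory CategoryTheory.Limits AlgebraicGeometry TopologicalSpace
open Div21

namespace Groth.Agent.S5090

/-- Equivalence of conditions a'') and c): let X be a locally Noetherian scheme which is reduced at each
of its isolated points (for every point x such that {x} is open, the local ring O_{X,x} is reduced).
Then the following are equivalent. (a'') Every integral closed subscheme of X of codimension 1 is
regularly immersed in X: for every point ζ whose local ring has dimension 1 and every specialization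
x of ζ, the ideal of O_{X,x} defining the closure of ζ with its reduced structure (the preimage of
the maximal ideal of O_{X,ζ} under the specialization map) is generated by one non-zero-divisor of
O_{X,x}. (c) X is locally factorial: every local ring of X is a unique factorisation domain. -/
theorem result (X : Scheme.{u}) [IsLocallyNoetherian X]
    (hred : ∀ x : ↥X, IsOpen ({x} : Set ↥X) → IsReduced ↑(X.presheaf.stalk x)) :
    (∀ ζ : ↥X, ringKrullDim ↑(X.presheaf.stalk ζ) = 1 → ∀ (x : ↥X) (h : ζ ⤳ x),
        ∃ t : ↑(X.presheaf.stalk x), t ∈ nonZeroDivisors ↑(X.presheaf.stalk x) ∧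
          (IsLocalRing.maximalIdeal ↑(X.presheaf.stalk ζ)).comap (X.presheaf.stalkSpecializes h).hom =
            Ideal.span {t}) ↔
      ∀ x : ↥X, ∃ _ : IsDomain ↑(X.presheaf.stalk x), UniqueFactorizationMonoid ↑(X.presheaf.stalk x) := by
  exact ⟨fun h => Groth.Agent.H23.CodimOneUfd.ufd_of_regularlyImmersed hred h,
    fun h => Groth.Agent.H23.CodimOneUfd.regularlyImmersed_of_ufd h⟩

end Groth.Agent.S5090
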