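import Groth.Statements.S5095
import Groth.Agent.EndoFin5.Main
import Groth.Agent.ConsPropLib.NoethApprox
import Groth.Agent.S0591
import Groth.Agent.S9218
import Groth.Agent.S2590

set_option autoImplicit false
set_option backward.isDefEq.respectTransparency false
set_option backward.isDefEq.respectTransparency.types false
universe u
open CategoryTheory CategoryTheory.Limits AlgebraicGeometry TopologicalSpace
open EGA43

namespace Groth.Agent.S5095

open AlgebraicGeometry CategoryTheory CategoryTheory.Limits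

set_option backward.isDefEq.respectTransparency false in
theorem isFinite_surjective_of_affine (A : CommRingCat.{u}) {X : Scheme.{u}} (f : X ⟶ Spec A)
    [LocallyOfFinitePresentation f] [QuasiCompact f] [QuasiSeparated f]
    (g : X ⟶ X) (hg : g ≫ f = f) [UniversallyInjective g] : IsFinite g ∧ Surjective g := by
  let D := ConsPropLib.NoethApprox.diagram A
  let c : Cone D := ConsPropLib.NoethApprox.cone A
  have hc : IsLimit c := ConsPropLib.NoethApprox.isLimit A
  haveI : ∀ (i j) (φ : i ⟶ j), IsAffineHom (D.map φ) := fun _ _ φ =>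
    ConsPropLib.NoethApprox.isAffineHom_map _ φ
  haveI : ∀ i, IsAffine (D.obj i) := fun i => ConsPropLib.NoethApprox.isAffine_obj _ i
  haveI : ∀ i, IsNoetherian (D.obj i) := fun i => ConsPropLib.NoethApprox.isNoetherian_obj _ i
  let fc : X ⟶ c.pt := f
  haveI : LocallyOfFinitePresentation fc := ‹LocallyOfFinitePresentation f›
  haveI : QuasiCompact fc := ‹QuasiCompact f›
  haveI : QuasiSeparated fc := ‹QuasiSeparated f›
  obtain ⟨m, Xm, fm, qm, _, _, _, hm⟩ := S0591.result D c hc X fc
  haveI : CompactSpace Xm := QuasiCompact.compactSpace_of_compactSpace fm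
  haveI : QuasiSeparatedSpace Xm :=
    quasiSeparatedSpace_of_quasiSeparated fm
  obtain ⟨j, φ, gj, sX, sY, hgj, hX1, hX2, hY1, hY2, hcomm⟩ :=
    S9218.result D c hc m fm fm qm fc hm qm fc hm g hg
  have e0 : sY = sX := pullback.hom_ext (hY1.trans hX1.symm) (hY2.trans hX2.symm)
  subst e0
  have hj : IsPullback sY fc (pullback.snd fm (D.map φ)) (c.π.app j) := by
    refine IsPullback.of_right ?_ hX2 (IsPullback.of_hasPullback fm (D.map φ))
    rw [hX1, c.w φ]
    exact hm
  haveI : LocallyOfFinitePresentation (pullback.snd fm (D.map φ)) :=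
    MorphismProperty.pullback_snd (P := @LocallyOfFinitePresentation) _ _ inferInstance
  haveI : LocallyOfFinitePresentation (gj ≫ pullback.snd fm (D.map φ)) := by
    rw [hgj]; infer_instance
  haveI : QuasiCompact (gj ≫ pullback.snd fm (D.map φ)) := by rw [hgj]; infer_instance
  haveI : QuasiSeparated (gj ≫ pullback.snd fm (D.map φ)) := by rw [hgj]; infer_instance
  have hgsq : IsPullback sY g gj sY := by
    refine IsPullback.of_bot ?_ hcomm hj
    rw [hgj, show g ≫ fc = fc from hg]
    exact hj
  obtain ⟨i, ψ, Xi, Yi, gi, yi, pY, pX, hYi, hXi, hui⟩ :=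
    S2590.result D c hc j gj (pullback.snd fm (D.map φ)) g fc sY sY hj hgsq
  haveI := hui
  have hXi' : IsPullback pX (gi ≫ yi) (pullback.snd fm (D.map φ)) (D.map ψ) := by
    rw [← hgj]
    exact hXi.paste_vert hYi
  let e : Xi ≅ Yi := hXi'.isoIsPullback _ _ hYi
  have he : e.hom ≫ yi = gi ≫ yi := IsPullback.isoIsPullback_hom_snd _ _ hXi' hYi
  haveI : LocallyOfFiniteType yi :=
    MorphismProperty.of_isPullback (P := @LocallyOfFiniteType) hYi inferInstance
  haveI : QuasiCompact yi :=
    MorphismProperty.of_isPullback (P := @QuasiCompact) hYi inferInstance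
  haveI : Algebra.FiniteType ℤ ((ConsPropLib.NoethApprox.rings A).obj i.unop) :=
    ⟨(Subalgebra.fg_top _).mpr (Subalgebra.fg_adjoin_finset _)⟩
  haveI : QuasiSeparated yi :=
    MorphismProperty.of_isPullback (P := @QuasiSeparated) hYi inferInstance
  haveI : UniversallyInjective (e.inv ≫ gi) := MorphismProperty.comp_mem (W := @UniversallyInjective) _ _ inferInstance ‹_›
  obtain ⟨hfin, hsur⟩ := EndoFin5.isFinite_and_surjective (R := (ConsPropLib.NoethApprox.rings A).obj i.unop)
    (e.inv ≫ gi) yi (by rw [Category.assoc, ← he, Iso.inv_hom_id_assoc])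
  haveI : IsFinite gi := (MorphismProperty.cancel_left_of_respectsIso @IsFinite e.inv gi).1 hfin
  haveI : Surjective gi := (MorphismProperty.cancel_left_of_respectsIso @Surjective e.inv gi).1 hsur
  let l : X ⟶ Yi := hYi.lift sY (fc ≫ c.π.app i) (by rw [Category.assoc, c.w ψ]; exact hj.w)
  let l' : X ⟶ Xi := hXi.lift sY (g ≫ l) (by rw [Category.assoc, IsPullback.lift_fst]; exact hgsq.w)
  have hl : IsPullback l' g gi l := by
    refine IsPullback.of_right ?_ (IsPullback.lift_snd _ _ _ _) hXi
    rw [IsPullback.lift_fst, IsPullback.lift_fst]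
    exact hgsq
  exact ⟨MorphismProperty.of_isPullback (P := @IsFinite) hl inferInstance,
    MorphismProperty.of_isPullback (P := @Surjective) hl inferInstance⟩



/-- Let S be a scheme, X an S-scheme of finite presentation (the structure morphism is locally of finite
presentation, quasi-compact and quasi-separated) and f a radicial (universally injective)
S-endomorphism of X. Then f is bijective and finite, hence a universal homeomorphism. -/
theorem result {X S : Scheme.{u}} (p : X ⟶ S)
    [LocallyOfFinitePresentation p] [QuasiCompact p] [QuasiSeparated p]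
    (f : X ⟶ X) (hf : f ≫ p = p) [UniversallyInjective f] :
    Function.Bijective ⇑f.base ∧ IsFinite f := by
  suffices key : (@IsFinite ⊓ @Surjective : MorphismProperty Scheme.{u}) f from
    ⟨⟨f.injective, key.2.surj⟩, key.1⟩
  refine IsZariskiLocalAtTarget.of_iSup_eq_top (fun U : S.affineOpens => p ⁻¹ᵁ U.1) ?_ fun U => ?_
  · rw [← Scheme.Hom.preimage_iSup, iSup_affineOpens_eq_top, Scheme.Hom.preimage_top]
  have hpre : f ⁻¹ᵁ (p ⁻¹ᵁ U.1) = p ⁻¹ᵁ U.1 := by rw [← Scheme.Hom.comp_preimage, hf]
  let gU : (p ⁻¹ᵁ U.1).toScheme ⟶ (p ⁻¹ᵁ U.1).toScheme := (X.isoOfEq hpre).inv ≫ (f ∣_ (p ⁻¹ᵁ U.1))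
  haveI : UniversallyInjective (f ∣_ (p ⁻¹ᵁ U.1)) :=
    MorphismProperty.of_isPullback (P := @UniversallyInjective)
      (isPullback_morphismRestrict f (p ⁻¹ᵁ U.1)).flip inferInstance
  have hfU : gU ≫ ((p ∣_ U.1) ≫ U.2.isoSpec.hom) = (p ∣_ U.1) ≫ U.2.isoSpec.hom := by
    rw [← Category.assoc]
    congr 1
    rw [← cancel_mono U.1.ι]
    simp only [gU, Category.assoc, morphismRestrict_ι, morphismRestrict_ι_assoc, hf,
      Scheme.isoOfEq_inv_ι_assoc]
  haveI : LocallyOfFinitePresentation (p ∣_ U.1) := IsZariskiLocalAtTarget.restrict ‹_› _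
  haveI : QuasiCompact (p ∣_ U.1) := IsZariskiLocalAtTarget.restrict ‹_› _
  haveI : QuasiSeparated (p ∣_ U.1) := IsZariskiLocalAtTarget.restrict ‹_› _
  haveI : UniversallyInjective gU := MorphismProperty.comp_mem (W := @UniversallyInjective) _ _ inferInstance ‹_›
  obtain ⟨h1, h2⟩ := isFinite_surjective_of_affine _ _ gU hfU
  exact ⟨(MorphismProperty.cancel_left_of_respectsIso @IsFinite (X.isoOfEq hpre).inv _).1 h1,
    (MorphismProperty.cancel_left_of_respectsIso @Surjective (X.isoOfEq hpre).inv _).1 h2⟩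


end Groth.Agent.S5095
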