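import Groth.Statements.S5097


set_option autoImplicit false
universe u
open CategoryTheory CategoryTheory.Limits AlgebraicGeometry TopologicalSpace
open Mero

namespace Groth.Agent.S5097

/-- Injectivity of the canonical homomorphism from divisors to invertible fractional ideals: let X be a
scheme and D, D' two divisors on X such that, over every open subset U, a section t of the sheaf of
meromorphic functions lies in O_X(D) (t_x · g ∈ O_{X,x} for a representative g of the germ of D at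
x, for all x in U) if and only if it lies in O_X(D'). Then D = D'. -/
theorem result (X : Scheme.{u}) (D D' : Mero.Divisor X)
    (h : ∀ (U : X.Opens) (t : Γ(Mero.kmod X, U)),
      (∀ x : ↥U, Mero.DivCond D x.1 (t.1 x)) ↔ (∀ x : ↥U, Mero.DivCond D' x.1 (t.1 x))) :
    D = D' := by
  apply Subtype.ext
  funext x
  obtain ⟨U, hxU, f, hf⟩ := D.2 x
  obtain ⟨U', hxU', f', hf'⟩ := D'.2 x
  let W : X.Opens := U ⊓ U'
  have hW : x ∈ W := ⟨hxU, hxU'⟩
  let r : Γ(Mero.kmod X, U) →+* Γ(Mero.kmod X, W) :=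
    ((Mero.kring X).obj.map (homOfLE inf_le_left).op).hom
  let r' : Γ(Mero.kmod X, U') →+* Γ(Mero.kmod X, W) :=
    ((Mero.kring X).obj.map (homOfLE inf_le_right).op).hom
  have key : ∀ (E : Mero.Divisor X) (k : (Γ(Mero.kmod X, W))ˣ), (∀ y : W, E.1 y.1 = Mero.germOf k y) →
      ∀ y : W, Mero.DivCond E y.1 (((k⁻¹ : (Γ(Mero.kmod X, W))ˣ) : Γ(Mero.kmod X, W)).1 y) := by
    intro E k hk y g hg
    obtain ⟨a, ha⟩ := QuotientGroup.eq.mp ((hk y).symm.trans hg)
    refine ⟨(a : X.presheaf.stalk y.1), ?_⟩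
    exact congrArg Units.val ha
  have hres : ∀ y : W, D.1 y.1 = Mero.germOf (Units.map r.toMonoidHom f) y := fun y => by
    rw [hf ⟨y.1, y.2.1⟩]; rfl
  have hres' : ∀ y : W, D'.1 y.1 = Mero.germOf (Units.map r'.toMonoidHom f') y := fun y => by
    rw [hf' ⟨y.1, y.2.2⟩]; rfl
  have h1 := (h W _).mp (key D _ hres) ⟨x, hW⟩ _ (hres' ⟨x, hW⟩)
  have h2 := (h W _).mpr (key D' _ hres') ⟨x, hW⟩ _ (hres ⟨x, hW⟩)
  obtain ⟨a, ha⟩ := h1
  obtain ⟨b, hb⟩ := h2
  rw [hres ⟨x, hW⟩, hres' ⟨x, hW⟩]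
  let φ := Units.map (Mero.evalK X W ⟨x, hW⟩).toMonoidHom
  let u := φ (Units.map r.toMonoidHom f)
  let u' := φ (Units.map r'.toMonoidHom f')
  change algebraMap _ _ a = ((u⁻¹ : (Mero.KStalk X x)ˣ) : Mero.KStalk X x) * (u' : Mero.KStalk X x) at ha
  change algebraMap _ _ b = ((u'⁻¹ : (Mero.KStalk X x)ˣ) : Mero.KStalk X x) * (u : Mero.KStalk X x) at hb
  have hab : a * b = 1 := Mero.algebraMap_KStalk_injective x (by
    rw [map_mul, map_one, ha, hb, ← Units.val_mul, ← Units.val_mul, ← Units.val_mul,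
      show u⁻¹ * u' * (u'⁻¹ * u) = 1 by group, Units.val_one])
  exact QuotientGroup.eq.mpr ⟨⟨a, b, hab, by rw [mul_comm, hab]⟩, Units.ext ha⟩

end Groth.Agent.S5097
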