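import Groth.Statements.S5102
import Groth.Agent.DivX.MeroMod

set_option autoImplicit false
universe u
open CategoryTheory CategoryTheory.Limits AlgebraicGeometry TopologicalSpace
open Mero

namespace Groth.Agent.S5102

/-- Let X be a scheme and J a fractional ideal, i.e. a sub-O_X-module of the sheaf of meromorphic
functions K_X (given by a monomorphism J → K_X). Then J is an invertible O_X-module if and only if
every point of X has an open neighbourhood U together with a unit f of the ring Γ(U, K_X) such that
J|_U = O_U · f: over every open subset V of U, the sections of J are exactly the r · f|_V with r a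
function on V. -/
theorem result (X : Scheme.{u}) (J : X.Modules)
    (ι : J ⟶ Mero.kmod X) [Mono ι] :
    PicF.IsInvertible J ↔ ∀ x : ↥X, ∃ (U : X.Opens) (_ : x ∈ U) (f : (Γ(Mero.kmod X, U))ˣ),
      ∀ (V : X.Opens) (hV : V ≤ U),
        Set.range ⇑(ι.val.app (Opposite.op V)) =
          {t : Γ(Mero.kmod X, V) | ∃ r : Γ(X, V),
            t = Mero.toK X V r * (Mero.kmod X).presheaf.map (homOfLE hV).op (f : Γ(Mero.kmod X, U))} := by
  exact Groth.Agent.DivX.isInvertible_iff J ι

end Groth.Agent.S5102
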