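import Mathlib
import Groth.Statements.S5104
-- import your own Groth.Agent.* helpers here

set_option autoImplicit false
universe u
open CategoryTheory CategoryTheory.Limits AlgebraicGeometry TopologicalSpace
open Rat20

namespace Groth.Agent.S5104

/-- Germs are injective near a point of a reduced scheme with locally finitely many components. -/
lemma germInjectiveAt_of_reduced {X : Scheme.{u}} [IsReduced X] (x : X) (W : X.Opens) (hxW : x ∈ W)
    (hfin : {Z : Set X | Z ∈ irreducibleComponents X ∧ (Z ∩ (W : Set X)).Nonempty}.Finite) :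
    X.IsGermInjectiveAt x := by
  classical
  obtain ⟨_, ⟨W₀, hW₀, rfl⟩, hx₀, hle⟩ :=
    X.isBasis_affineOpens.exists_subset_of_mem_open (show x ∈ (W : Set X) from hxW) W.isOpen
  replace hW₀ : IsAffineOpen W₀ := hW₀
  haveI : _root_.IsReduced Γ(X, W₀) := IsReduced.component_reduced W₀
  have hmin : (minimalPrimes Γ(X, W₀)).Finite := by
    haveI := hfin.to_subtype
    let gp : {Z : Set X | Z ∈ irreducibleComponents X ∧ (Z ∩ (W : Set X)).Nonempty} → X :=
      fun Z => Z.2.1.1.genericPoint
    refine (((Set.finite_range gp).preimage (f := hW₀.fromSpec)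
      hW₀.fromSpec.isOpenEmbedding.injective.injOn).image PrimeSpectrum.asIdeal).subset fun p hp => ?_
    let z : Spec Γ(X, W₀) := ⟨p, hp.1.1⟩
    have hz : hW₀.fromSpec z ∈ W₀ := by
      have := Set.mem_range_self (f := hW₀.fromSpec) z
      rwa [hW₀.range_fromSpec] at this
    let Z : {Z : Set X | Z ∈ irreducibleComponents X ∧ (Z ∩ (W : Set X)).Nonempty} :=
      ⟨irreducibleComponent (hW₀.fromSpec z), irreducibleComponent_mem_irreducibleComponents _,
        ⟨_, mem_irreducibleComponent, hle hz⟩⟩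
    have hgen : gp Z ⤳ hW₀.fromSpec z := by
      have h1 := Z.2.1.1.isGenericPoint_genericPoint (isClosed_of_mem_irreducibleComponents _ Z.2.1)
      exact h1.specializes mem_irreducibleComponent
    obtain ⟨g, hg⟩ : gp Z ∈ Set.range hW₀.fromSpec := by
      rw [hW₀.range_fromSpec]; exact hgen.mem_open W₀.isOpen hz
    have hspec : g ⤳ z := hW₀.fromSpec.isOpenEmbedding.isInducing.specializes_iff.mp (by rw [hg]; exact hgen)
    have hle' : g.asIdeal ≤ p := (PrimeSpectrum.le_iff_specializes g z).mpr hspec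
    exact ⟨g, ⟨Z, hg.symm⟩, le_antisymm hle' (hp.2 ⟨g.2, bot_le⟩ hle')⟩
  let P := hW₀.primeIdealOf ⟨x, hx₀⟩
  have hchoose : ∀ q ∈ hmin.toFinset, ∃ t : Γ(X, W₀), t ∉ P.asIdeal ∧ (¬ q ≤ P.asIdeal → t ∈ q) := by
    intro q _
    by_cases hq : q ≤ P.asIdeal
    · exact ⟨1, P.asIdeal.ne_top_iff_one.1 P.2.ne_top, fun h => absurd hq h⟩
    · obtain ⟨t, ht, ht'⟩ := SetLike.not_le_iff_exists.1 hq
      exact ⟨t, ht', fun _ => ht⟩
  choose t ht1 ht2 using hchoose
  let g : Γ(X, W₀) := ∏ q ∈ hmin.toFinset.attach, t q.1 q.2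
  have hgP : g ∉ P.asIdeal := by
    intro h
    obtain ⟨q, -, hq⟩ := (Ideal.IsPrime.prod_mem_iff).1 h
    exact ht1 q.1 q.2 hq
  have hgmem : ∀ q, ∀ hq : q ∈ minimalPrimes Γ(X, W₀), ¬ q ≤ P.asIdeal → g ∈ q := fun q hq hle' => by
    exact Ideal.mem_of_dvd q (Finset.dvd_prod_of_mem _ (Finset.mem_attach _ ⟨q, hmin.mem_toFinset.2 hq⟩))
      (ht2 q _ hle')
  letI : Algebra Γ(X, W₀) (X.presheaf.stalk x) := TopCat.Presheaf.algebra_section_stalk X.presheaf ⟨x, hx₀⟩
  haveI := hW₀.isLocalization_stalk ⟨x, hx₀⟩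
  have hxg : x ∈ X.basicOpen g := by
    rw [X.mem_basicOpen g x hx₀]
    exact IsLocalization.map_units (M := P.asIdeal.primeCompl) (X.presheaf.stalk x) ⟨g, hgP⟩
  refine ⟨X.basicOpen g, hxg, hW₀.basicOpen g, ?_⟩
  rw [injective_iff_map_eq_zero]
  intro e he
  haveI := hW₀.isLocalization_basicOpen g
  obtain ⟨a, s, rfl⟩ := IsLocalization.exists_mk'_eq (Submonoid.powers g) e
  rw [IsLocalization.mk'_eq_zero_iff]
  have ha : X.presheaf.germ W₀ x hx₀ a = 0 := by
    have h1 := congrArg (fun w => w * X.presheaf.germ (X.basicOpen g) x hxg (algebraMap _ _ (s : Γ(X, W₀)))) he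
    simp only [zero_mul, ← map_mul, IsLocalization.mk'_spec] at h1
    rwa [RingHom.algebraMap_toAlgebra, TopCat.Presheaf.germ_res_apply] at h1
  obtain ⟨c, hc⟩ := (IsLocalization.map_eq_zero_iff P.asIdeal.primeCompl (X.presheaf.stalk x) a).1 ha
  refine ⟨⟨g, Submonoid.mem_powers g⟩, ?_⟩
  have hnil : g * a ∈ sInf (minimalPrimes Γ(X, W₀)) := by
    rw [Submodule.mem_sInf]
    intro q hq
    by_cases hqP : q ≤ P.asIdeal
    · refine Ideal.mul_mem_left _ _ ((hq.1.1.mem_or_mem (show (c : Γ(X, W₀)) * a ∈ q by rw [hc]; exact zero_mem _)).resolve_left ?_)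
      exact fun h => c.2 (hqP h)
    · exact Ideal.mul_mem_right _ _ (hgmem q hq hqP)
  have : g * a ∈ nilradical Γ(X, W₀) := by
    rw [nilradical, ← Ideal.sInf_minimalPrimes]
    exact hnil
  rwa [nilradical_eq_zero] at this

set_option backward.isDefEq.respectTransparency false in
/-- Morphisms to a separated scheme agree if they agree after a scheme-theoretically dominant map. -/
lemma ext_of_schemDominant {T W Y S : Scheme.{u}} (pY : Y ⟶ S) [IsSeparated pY] {a b : W ⟶ Y}
    (h : a ≫ pY = b ≫ pY) (j : T ⟶ W) [IsSchemeTheoreticallyDominant j] (hj : j ≫ a = j ≫ b) : a = b := by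
  let W' : Over S := Over.mk (a ≫ pY)
  let Y' : Over S := Over.mk pY
  let a' : W' ⟶ Y' := Over.homMk a
  let b' : W' ⟶ Y' := Over.homMk b h.symm
  let T' : Over S := Over.mk (j ≫ a ≫ pY)
  let j' : T' ⟶ W' := Over.homMk j
  have : IsSeparated Y'.hom := ‹_›
  have hcl : IsClosedImmersion (equalizer.ι a' b').left := inferInstance
  have hfac : (equalizer.lift (f := a') (g := b') j' (by ext1; exact hj)).left ≫ (equalizer.ι a' b').left = j := by
    rw [← Over.comp_left, equalizer.lift_ι]
    rfl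
  have hker : (equalizer.ι a' b').left.ker = ⊥ := le_bot_iff.1 (by
    rw [← j.ker_eq_bot, ← hfac]; exact Scheme.Hom.le_ker_comp _ _)
  have : IsIso (equalizer.ι a' b').left :=
    IsClosedImmersion.isIso_of_ker_eq _ (𝟙 W'.left) _ (Category.comp_id _) (by simp [hker])
  rw [← cancel_epi (equalizer.ι a' b').left]
  exact congr($(equalizer.condition a' b').left)

set_option backward.isDefEq.respectTransparency.types false in
lemma schemDominant_of_injective {T W : Scheme.{u}} [IsAffine W] (j : T ⟶ W) [QuasiCompact j]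
    (h : Function.Injective j.appTop) : IsSchemeTheoreticallyDominant j := by
  refine ⟨Scheme.IdealSheafData.ext_of_isAffine ?_⟩
  simpa [j.ker_apply ⟨⊤, isAffineOpen_top W⟩, ← RingHom.injective_iff_ker_eq_bot]

/-- Let X be an S-scheme which is locally Noetherian, or reduced with locally finite set of irreducible
components; let Y be separated and locally of finite presentation over S, U a schematically dense
open subset of X, h : U → Y an S-morphism (a pseudo-S-morphism ω of X into Y) and x a point of X.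
Then ω is defined at x — some S-morphism from an open neighbourhood V of x to Y agrees with h on U ∩
V — if and only if the restriction of ω to Spec O_{X,x} is everywhere defined — some S-morphism Spec
O_{X,x} → Y agrees with h after pulling back to Spec O_{X,x} ×_X U. (The published statement does
not assume Y separated over S and compares morphisms only on some schematically dense open; this row
assumes Y separated over S, where the two readings agree.) -/
theorem result {X Y S : Scheme.{u}} (pX : X ⟶ S) (pY : Y ⟶ S)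
    [IsSeparated pY] [LocallyOfFinitePresentation pY]
    (hX : IsLocallyNoetherian X ∨ (IsReduced X ∧ ∀ x : ↥X, ∃ W : X.Opens, x ∈ W ∧
      {Z : Set ↥X | Z ∈ irreducibleComponents ↥X ∧ (Z ∩ (W : Set ↥X)).Nonempty}.Finite))
    (U : X.Opens) (hU : CInt.IsSchematicallyDense U) (h : (U : Scheme.{u}) ⟶ Y) (hh : h ≫ pY = U.ι ≫ pX)
    (x : ↥X) :
    (∃ (V : X.Opens) (v : (V : Scheme.{u}) ⟶ Y), x ∈ V ∧ v ≫ pY = V.ι ≫ pX ∧
        X.homOfLE (inf_le_right : U ⊓ V ≤ V) ≫ v = X.homOfLE (inf_le_left : U ⊓ V ≤ U) ≫ h) ↔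
      ∃ w : Spec (X.presheaf.stalk x) ⟶ Y, w ≫ pY = X.fromSpecStalk x ≫ pX ∧
        pullback.fst (X.fromSpecStalk x) U.ι ≫ w = pullback.snd (X.fromSpecStalk x) U.ι ≫ h := by
  constructor
  · rintro ⟨V, v, hxV, hv, hag⟩
    have hsq : ∃ p : pullback (X.fromSpecStalk x) U.ι ⟶ ((U ⊓ V : X.Opens) : Scheme.{u}),
        pullback.fst (X.fromSpecStalk x) U.ι ≫ V.fromSpecStalkOfMem x hxV =
          p ≫ X.homOfLE (inf_le_right : U ⊓ V ≤ V) ∧
        pullback.snd (X.fromSpecStalk x) U.ι = p ≫ X.homOfLE (inf_le_left : U ⊓ V ≤ U) := by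
      have hran : Set.range (pullback.snd (X.fromSpecStalk x) U.ι ≫ U.ι) ⊆ ((U ⊓ V : X.Opens) : Set X) := by
        rintro _ ⟨t, rfl⟩
        refine ⟨(pullback.snd (X.fromSpecStalk x) U.ι t).2, ?_⟩
        have e1 := congrArg (fun f => f t) (pullback.condition (f := X.fromSpecStalk x) (g := U.ι))
        have e2 := congrArg (fun f => f (pullback.fst (X.fromSpecStalk x) U.ι t)) (V.fromSpecStalkOfMem_ι x hxV)
        simp only [Scheme.Hom.comp_apply] at e1 e2
        rw [Scheme.Hom.comp_apply, ← e1, ← e2]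
        exact (V.fromSpecStalkOfMem x hxV ((pullback.fst (X.fromSpecStalk x) U.ι) t)).2
      refine ⟨IsOpenImmersion.lift (U ⊓ V).ι (pullback.snd (X.fromSpecStalk x) U.ι ≫ U.ι) (by
        rwa [Scheme.Opens.range_ι]), ?_, ?_⟩
      · rw [← cancel_mono V.ι, Category.assoc, V.fromSpecStalkOfMem_ι, Category.assoc, Scheme.homOfLE_ι,
          IsOpenImmersion.lift_fac, pullback.condition]
      · rw [← cancel_mono U.ι, Category.assoc, Scheme.homOfLE_ι, IsOpenImmersion.lift_fac]
    obtain ⟨p, hp1, hp2⟩ := hsq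
    refine ⟨V.fromSpecStalkOfMem x hxV ≫ v, ?_, ?_⟩
    · rw [Category.assoc, hv, V.fromSpecStalkOfMem_ι_assoc]
    · rw [← Category.assoc, hp1, Category.assoc, hag, ← Category.assoc, ← hp2]
  · rintro ⟨w, hw, hagree⟩
    haveI : X.IsGermInjectiveAt x := by
      rcases hX with hN | ⟨hred, hcomp⟩
      · haveI := hN; infer_instance
      · haveI := hred
        obtain ⟨W, hxW, hW⟩ := hcomp x
        exact germInjectiveAt_of_reduced x W hxW hW
    obtain ⟨V₀, hxV₀, v₀, hv₀, hv₀S⟩ := spread_out_of_isGermInjective' (sX := pX) (sY := pY) w hw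
    obtain ⟨V, hxV, hVaff, hle, hinj⟩ := X.exists_le_and_germ_injective x V₀ hxV₀
    have hfs : V.fromSpecStalkOfMem x hxV ≫ X.homOfLE hle = V₀.fromSpecStalkOfMem x hxV₀ := by
      rw [← cancel_mono V₀.ι, Category.assoc, Scheme.homOfLE_ι, V.fromSpecStalkOfMem_ι, V₀.fromSpecStalkOfMem_ι]
    refine ⟨V, X.homOfLE hle ≫ v₀, hxV, by rw [Category.assoc, hv₀S, Scheme.homOfLE_ι_assoc], ?_⟩
    haveI : IsAffine (V : Scheme.{u}) := hVaff
    haveI : IsAffineHom (V.fromSpecStalkOfMem x hxV) := inferInstance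
    haveI : IsSchemeTheoreticallyDominant (V.fromSpecStalkOfMem x hxV) := by
      refine schemDominant_of_injective _ ?_
      have heq : V.fromSpecStalkOfMem x hxV =
          Spec.map (X.presheaf.germ V x hxV) ≫ hVaff.isoSpec.inv := by
        rw [Iso.eq_comp_inv, IsAffineOpen.isoSpec_hom, Scheme.Opens.fromSpecStalkOfMem_toSpecΓ]
      rw [heq, Scheme.Hom.comp_appTop]
      haveI : IsIso hVaff.isoSpec.inv.appTop := inferInstanceAs (IsIso (Scheme.Γ.map hVaff.isoSpec.inv.op))
      have h1 : Function.Injective (Spec.map (X.presheaf.germ V x hxV)).appTop := by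
        have e3 := Scheme.ΓSpecIso_naturality (X.presheaf.germ V x hxV)
        intro a b hab
        apply (ConcreteCategory.bijective_of_isIso (Scheme.ΓSpecIso Γ(X, V)).hom).1
        apply hinj
        exact (congrArg (fun f => f a) e3).symm.trans
          ((congrArg (Scheme.ΓSpecIso _).hom hab).trans (congrArg (fun f => f b) e3))
      intro a b hab
      exact (ConcreteCategory.bijective_of_isIso hVaff.isoSpec.inv.appTop).1 (h1 hab)
    let ι' := X.homOfLE (inf_le_right : U ⊓ V ≤ V)
    haveI : QuasiCompact (V.fromSpecStalkOfMem x hxV) := inferInstance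
    haveI : IsSchemeTheoreticallyDominant (pullback.snd (V.fromSpecStalkOfMem x hxV) ι') := inferInstance
    refine ext_of_schemDominant pY ?_ (pullback.snd (V.fromSpecStalkOfMem x hxV) ι') ?_
    · rw [Category.assoc, Category.assoc, Category.assoc, hv₀S, hh, Scheme.homOfLE_ι_assoc,
        Scheme.homOfLE_ι_assoc, Scheme.homOfLE_ι_assoc]
    · let q : pullback (V.fromSpecStalkOfMem x hxV) ι' ⟶ pullback (X.fromSpecStalk x) U.ι :=
        pullback.lift (pullback.fst _ _) (pullback.snd _ _ ≫ X.homOfLE (inf_le_left : U ⊓ V ≤ U)) (by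
          rw [← V.fromSpecStalkOfMem_ι x hxV, pullback.condition_assoc, Category.assoc, Scheme.homOfLE_ι,
            Scheme.homOfLE_ι])
      have := q ≫= hagree
      rw [pullback.lift_fst_assoc, pullback.lift_snd_assoc, hv₀] at this
      rw [← pullback.condition_assoc, ← Category.assoc (V.fromSpecStalkOfMem x hxV), hfs]
      simpa [Category.assoc] using this

end Groth.Agent.S5104
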