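import Groth.Statements.S5105
import Groth.Agent.H23.PrincipalAt
-- import your own Groth.Agent.* helpers here

set_option autoImplicit false
universe u
open CategoryTheory CategoryTheory.Limits AlgebraicGeometry TopologicalSpace
open Div21

namespace Groth.Agent.S5105

/-- For an integral scheme (X is locally factorial exactly when the canonical map Pic(X) → Cl(X) is a
bijection; in the presence of (i), being bijective means that each codimension-1 cycle arises as the
Weil divisor of some rational section of an invertible module): suppose X is an integral scheme that
is normal and locally Noetherian. Then these two conditions are equivalent: (1) whenever Z is a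
function from the points of X to the integers that is zero away from the points of codimension 1
(coheight 1) and whose support is locally finite, one can find an invertible O_X-module L together
with a nonzero rational section s of L (a nonzero element of the generic fibre of L) such that, at
each point of codimension 1, the order of s equals the value Z takes there; (2) each local ring of X
is a unique factorisation domain. -/
theorem result (X : Scheme.{u}) [IsIntegral X]
    [IsLocallyNoetherian X] (hX : Pi1.IsNormalScheme X) :
    (∀ Z : ↥X → ℤ, (∀ x : ↥X, Order.coheight x ≠ 1 → Z x = 0) →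
        (∀ x : ↥X, ∃ W : X.Opens, x ∈ W ∧ {z : ↥X | z ∈ W ∧ Z z ≠ 0}.Finite) →
        ∃ (L : X.Modules) (_ : PicF.IsInvertible L) (s : Cyc.secFibre L (genericPoint ↥X)), s ≠ 0 ∧
          ∀ x : ↥X, Order.coheight x = 1 →
            Cyc.secOrdAt L (genericPoint ↥X) x (genericPoint_specializes x) s = Z x) ↔
      ∀ x : ↥X, UniqueFactorizationMonoid ↑(X.presheaf.stalk x) := by
  classical
  constructor
  · intro h
    refine Groth.Agent.H23.PrincipalAt.ufd_of_principalAt hX fun z₀ h₀ x => ?_
    obtain ⟨L, hL, s, hs, hD⟩ := h (Groth.Agent.H23.PrincipalAt.single z₀)
      (fun y hy => if_neg fun (e : y = z₀) => hy (e ▸ h₀))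
      (fun y => ⟨⊤, trivial, (Set.finite_singleton z₀).subset fun z hz => by
        by_contra hne
        exact hz.2 (if_neg hne)⟩)
    obtain ⟨v, rfl⟩ := Groth.Agent.RefX.clsη_surjective s
    exact Groth.Agent.H23.PrincipalAt.of_invertible hL
      (fun h0 => hs (Groth.Agent.RefX.clsη_eq_zero.2 h0)) hD x
  · intro hU Z _ hZfin
    have hfin := Groth.Agent.H23.PrincipalAt.LocFin.of_nhds hZfin
    obtain ⟨L, hL, v, hv, hD⟩ := Groth.Agent.H23.PrincipalAt.exists_invertible hX Z hfin
      fun x => Groth.Agent.H23.PrincipalAt.principalAt_of_ufd hX hU hfin x
    exact ⟨L, hL, _, fun h0 => hv (Groth.Agent.RefX.clsη_eq_zero.1 h0), hD⟩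

end Groth.Agent.S5105
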