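import Groth.Statements.S5106
import Groth.Agent.MorLib.LimMax

set_option autoImplicit false
universe u
open CategoryTheory CategoryTheory.Limits AlgebraicGeometry TopologicalSpace
open Lim8

namespace Groth.Agent.S5106

/-- Let (S_i) be a cofiltered system of schemes with affine transition morphisms and S its limit.
Suppose that every S_i has only finitely many maximal points (points with no proper generization,
i.e. generic points of irreducible components) and that the transition morphisms send maximal points
to maximal points. Then the set of maximal points of S is the limit of the sets of maximal points of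
the S_i: a point of S is maximal if and only if its image in every S_i is a maximal point of S_i. -/
theorem result {I : Type u} [SmallCategory I] [IsCofiltered I]
    (D : I ⥤ Scheme.{u}) (c : Limits.Cone D) (hc : Limits.IsLimit c)
    [∀ (i j : I) (g : i ⟶ j), IsAffineHom (D.map g)]
    (hfin : ∀ i : I, {s : ↥(D.obj i) | ∀ z : ↥(D.obj i), z ⤳ s → z = s}.Finite)
    (hsys : ∀ (i j : I) (g : i ⟶ j) (s : ↥(D.obj i)), (∀ z : ↥(D.obj i), z ⤳ s → z = s) →
      ∀ z : ↥(D.obj j), z ⤳ D.map g s → z = D.map g s)
    (s : ↥c.pt) :
    (∀ z : ↥c.pt, z ⤳ s → z = s) ↔ ∀ (i : I) (z : ↥(D.obj i)), z ⤳ c.π.app i s → z = c.π.app i s := by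
  exact Groth.Agent.MorLib.LimMax.isMax_iff hc hfin (fun i j g s hs z hz => hsys i j g s hs z hz) s

end Groth.Agent.S5106
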