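import Groth.Statements.S5107
import Groth.Agent.AssPtX.Noeth
import Groth.Agent.QCoh.DevissageP
import Groth.Agent.MorLib.LimCons
import Groth.Agent.MorLib.LimSpace
import Groth.Agent.LimModLib.FlatLimit

set_option autoImplicit false
set_option backward.isDefEq.respectTransparency false
set_option backward.isDefEq.respectTransparency.types false
set_option linter.style.haveILetI false
universe u
open CategoryTheory CategoryTheory.Limits AlgebraicGeometry TopologicalSpace
open Lim8

namespace Groth.Agent.S5107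

section
open CategoryTheory CategoryTheory.Limits AlgebraicGeometry TensorProduct Groth.Agent.AssPtX

/-- Associated primes of a flat local extension map to associated primes. -/
theorem isAssociatedPrime_of_flat {A B : Type u} [CommRing A] [CommRing B] [IsLocalRing A] [IsLocalRing B]
    [IsNoetherianRing A] [IsNoetherianRing B] [Algebra A B] [Module.Flat A B] [IsLocalHom (algebraMap A B)]
    (h : IsAssociatedPrime (IsLocalRing.maximalIdeal B) B) : IsAssociatedPrime (IsLocalRing.maximalIdeal A) A := by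
  classical
  by_contra hA
  obtain ⟨-, b, hb⟩ := isAssociatedPrime_iff.1 h
  obtain ⟨n, a, ha⟩ := Submodule.fg_iff_exists_fin_generating_family.1 (IsNoetherian.noetherian (IsLocalRing.maximalIdeal A))
  have hmem : ∀ i, a i ∈ IsLocalRing.maximalIdeal A := fun i => ha ▸ Submodule.subset_span ⟨i, rfl⟩
  let φ : A →ₗ[A] Fin n → A := LinearMap.pi fun i => LinearMap.mulLeft A (a i)
  have hφ : Function.Injective φ := (injective_iff_map_eq_zero _).2 fun x hx => by
    by_contra hx0
    refine hA (isAssociatedPrime_iff.2 ⟨(IsLocalRing.maximalIdeal.isMaximal A).isPrime, x, ?_⟩)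
    refine ((IsLocalRing.maximalIdeal.isMaximal A).eq_of_le ?_ ?_)
    · intro ht
      have : (1 : A) ∈ (⊥ : Submodule A A).colon {x} := ht ▸ Submodule.mem_top
      rw [Submodule.mem_colon_singleton, one_smul, Submodule.mem_bot] at this
      exact hx0 this
    · rw [← ha, Submodule.span_le]
      rintro _ ⟨i, rfl⟩
      rw [SetLike.mem_coe, Submodule.mem_colon_singleton, Submodule.mem_bot]
      exact congrFun hx i
  have hB := Module.Flat.lTensor_preserves_injective_linearMap (M := B) φ hφ
  have hb0 : b ≠ 0 := fun h0 => by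
    have : (1 : B) ∈ (⊥ : Submodule B B).colon {b} := by
      rw [Submodule.mem_colon_singleton, h0, smul_zero]; exact zero_mem _
    rw [← hb] at this
    exact (IsLocalRing.maximalIdeal.isMaximal B).ne_top ((Ideal.eq_top_iff_one _).2 this)
  apply hb0
  let e : B ⊗[A] A ≃ₗ[A] B := TensorProduct.rid A B
  have h0 : φ.lTensor B (b ⊗ₜ 1) = 0 := by
    refine (TensorProduct.piScalarRight A A B (Fin n)).injective (funext fun i => ?_)
    rw [map_zero, Pi.zero_apply, LinearMap.lTensor_tmul, TensorProduct.piScalarRight_apply,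
      TensorProduct.piScalarRightHom_tmul]
    show (a i * 1) • b = 0
    rw [mul_one, Algebra.smul_def]
    have hm : algebraMap A B (a i) ∈ IsLocalRing.maximalIdeal B := map_nonunit (algebraMap A B) _ (hmem i)
    rw [hb, Submodule.mem_colon_singleton, Submodule.mem_bot] at hm
    exact hm
  have := hB (h0.trans (map_zero _).symm)
  simpa [e] using congrArg e this

variable {X : Scheme.{u}} [IsLocallyNoetherian X]

/-- The associated points. -/
def St (x : X) : Prop := IsAssociatedPrime (IsLocalRing.maximalIdeal (X.presheaf.stalk x)) (X.presheaf.stalk x)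

theorem st_iff (x : X) : St x ↔ Curv2.IsWeakAssPoint (Coh.structureModule X) x := by
  obtain ⟨V, hV, hxV, -⟩ := exists_isAffineOpen_mem_and_subset (X := X) (x := x) (U := ⊤) trivial
  letI := QCoh.stalkAlg (X := X) hxV
  haveI := QCoh.isLocalization_stalk' hV hxV
  haveI : IsLocalizedModule (hV.primeIdealOf ⟨x, hxV⟩).asIdeal.primeCompl
      (Algebra.linearMap Γ(X, V) (X.presheaf.stalk x)) := inferInstance
  have h1 := WeakAss.mem_weakAss_iff_map (hV.primeIdealOf ⟨x, hxV⟩).asIdeal.primeCompl
    (R' := X.presheaf.stalk x) (Algebra.linearMap Γ(X, V) (X.presheaf.stalk x))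
    (p := (hV.primeIdealOf ⟨x, hxV⟩).asIdeal) (Set.disjoint_left.2 fun _ h h' => h h')
  rw [IsLocalization.AtPrime.map_eq_maximalIdeal] at h1
  rw [isWeakAssPoint_iff_sections QCoh.isQCoh_structureModule hV hxV]
  refine Iff.trans ?_ h1.symm
  rw [WeakAss.mem_weakAss_iff]
  constructor
  · rintro ⟨-, m, hm⟩
    exact ⟨m, (radical_eq_maximalIdeal_iff _).1 (by rw [← colon_bot_singleton]; exact hm.symm)⟩
  · rintro ⟨m, hm⟩
    exact ⟨inferInstance, m, by rw [colon_bot_singleton]; exact ((radical_eq_maximalIdeal_iff _).2 hm).symm⟩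

theorem exists_section (U : X.Opens) {p : X} (hp : St p) (hpU : p ∉ U) :
    ∃ (V : X.Opens) (_ : IsAffineOpen V) (hpV : p ∈ V) (t : Γ(X, V)),
      X.presheaf.map (homOfLE (inf_le_left : V ⊓ U ≤ V)).op t = 0 ∧ X.presheaf.germ V p hpV t ≠ 0 := by
  obtain ⟨V, hV, hpV, -⟩ := exists_isAffineOpen_mem_and_subset (X := X) (x := p) (U := ⊤) trivial
  haveI : IsNoetherianRing Γ(X, V) := IsLocallyNoetherian.component_noetherian ⟨_, hV⟩
  obtain ⟨hpr, t, ht⟩ := WeakAss.mem_ass_of_mem_weakAss_of_fg (IsNoetherian.noetherian _)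
    ((isWeakAssPoint_iff_sections QCoh.isQCoh_structureModule hV hpV).1 ((st_iff p).1 hp))
  refine ⟨V, hV, hpV, QCoh.toFn t, ?_, fun h0 => ?_⟩
  · refine TopCat.Presheaf.section_ext X.sheaf (V ⊓ U) _ 0 fun y hy => ?_
    rw [map_zero]
    show X.presheaf.germ (V ⊓ U) y hy (X.presheaf.map (homOfLE inf_le_left).op (QCoh.toFn t)) = 0
    rw [X.presheaf.germ_res_apply]
    have hnle : ¬ (hV.primeIdealOf ⟨p, hpV⟩).asIdeal ≤ (hV.primeIdealOf ⟨y, hy.1⟩).asIdeal := fun hle =>
      hpU (((primeIdealOf_le_iff hV hpV hy.1).1 hle).mem_open U.2 hy.2)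
    obtain ⟨f, hf, hfy⟩ := Set.not_subset.1 hnle
    have hu : IsUnit (X.presheaf.germ V y hy.1 f) :=
      (X.mem_basicOpen f y hy.1).1 ((QCoh.mem_basicOpen_iff_notMem hV hy.1 f).2 hfy)
    have hft : f * QCoh.toFn t = 0 := WeakAss.mem_annEl.1 (ht ▸ hf)
    refine hu.mul_left_cancel ?_
    rw [← map_mul, hft, map_zero, mul_zero]
  · letI := QCoh.stalkAlg (X := X) hpV
    haveI := QCoh.isLocalization_stalk' hV hpV
    obtain ⟨⟨r, hr⟩, hrt⟩ := (IsLocalization.map_eq_zero_iff (hV.primeIdealOf ⟨p, hpV⟩).asIdeal.primeCompl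
      (X.presheaf.stalk p) _).1 h0
    exact hr (ht.symm ▸ WeakAss.mem_annEl.2 hrt)

theorem st_map {Y : Scheme.{u}} [IsLocallyNoetherian Y] (g : X ⟶ Y) [Flat g] {x : X} (hx : St x) : St (g x) := by
  letI := (g.stalkMap x).hom.toAlgebra
  haveI : Module.Flat (Y.presheaf.stalk (g x)) (X.presheaf.stalk x) := Flat.stalkMap g x
  haveI : IsLocalHom (algebraMap (Y.presheaf.stalk (g x)) (X.presheaf.stalk x)) :=
    inferInstanceAs (IsLocalHom (g.stalkMap x).hom)
  exact isAssociatedPrime_of_flat hx

theorem mem_of_dense {Z : Scheme.{u}} (π : Z ⟶ X) [Flat π] (U : X.Opens)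
    (h : CInt.IsSchematicallyDense (π ⁻¹ᵁ U)) {y : Z} (hp : St (π y)) : π y ∈ U := by
  by_contra hU
  obtain ⟨V, hV, hpV, t, ht, htp⟩ := exists_section U hp hU
  have h2 : π.app V t = 0 := by
    refine (injective_iff_map_eq_zero _).1 (h (π ⁻¹ᵁ V)) _ ?_
    have := congr($(π.naturality (homOfLE (inf_le_left : V ⊓ U ≤ V)).op).hom t)
    rw [CommRingCat.hom_comp, CommRingCat.hom_comp, RingHom.comp_apply, RingHom.comp_apply, ht, map_zero] at this
    exact this.symm
  letI := (π.stalkMap y).hom.toAlgebra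
  haveI : Module.Flat (X.presheaf.stalk (π y)) (Z.presheaf.stalk y) := Flat.stalkMap π y
  haveI : IsLocalHom (algebraMap (X.presheaf.stalk (π y)) (Z.presheaf.stalk y)) :=
    inferInstanceAs (IsLocalHom (π.stalkMap y).hom)
  haveI := Module.FaithfullyFlat.of_flat_of_isLocalHom (A := X.presheaf.stalk (π y)) (B := Z.presheaf.stalk y)
  refine htp ((injective_iff_map_eq_zero _).1
    (FaithfulSMul.algebraMap_injective (X.presheaf.stalk (π y)) (Z.presheaf.stalk y)) _ ?_)
  show π.stalkMap y _ = 0
  rw [Scheme.Hom.germ_stalkMap_apply, h2, map_zero]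

end

/-- Let (X_i) be a cofiltered system of Noetherian schemes with affine and flat transition morphisms, X
its limit, assumed Noetherian as well, and U₀ an open subset of X_{i₀}, with inverse images U_i in
X_i (for i over i₀) and U in X. Then U is schematically dense in X if and only if there is an index
i over i₀ such that U_i is schematically dense in X_i (and then, the transition morphisms being
flat, U_j is schematically dense in X_j for every j over i). -/
theorem result {I : Type u} [SmallCategory I]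
    [IsCofiltered I] (D : I ⥤ Scheme.{u}) (c : Limits.Cone D) (hc : Limits.IsLimit c)
    [∀ (i j : I) (g : i ⟶ j), IsAffineHom (D.map g)] [∀ (i j : I) (g : i ⟶ j), Flat (D.map g)]
    [∀ i : I, IsNoetherian (D.obj i)] [IsNoetherian c.pt] (i₀ : I) (U₀ : (D.obj i₀).Opens) :
    CInt.IsSchematicallyDense ((c.π.app i₀) ⁻¹ᵁ U₀) ↔
      ∃ (i : I) (g : i ⟶ i₀), CInt.IsSchematicallyDense ((D.map g) ⁻¹ᵁ U₀) := by
  classical
  haveI : ∀ {i j : I} (g : i ⟶ j), IsAffineHom (D.map g) := fun g => inferInstance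
  haveI hπ : ∀ i, Flat (c.π.app i) := fun i => LimModLib.flat_π hc i fun j φ => inferInstance
  constructor
  · intro h
    let bad : Set (D.obj i₀) := {p | St p ∧ p ∉ U₀}
    have hfin : bad.Finite := by
      refine (AssPtX.finite_assPoints (X := D.obj i₀) QCoh.isCoh_structureModule' (U := ⊤) isCompact_univ).subset ?_
      exact fun p hp => ⟨trivial, AssPtX.isAssPoint_iff.2 ((st_iff p).1 hp.1)⟩
    have h1 : ∀ p ∈ bad, ∃ (j : I) (φ : j ⟶ i₀), ∀ x, D.map φ x ≠ p := by
      intro p hp
      obtain ⟨j, φ, hj⟩ := MorLib.LimPro.exists_subset hc i₀ (A := {p}) (B := ∅)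
        (MorLib.LimSpace.pro_singleton p) (MorLib.LimCons.ind_of_isOpen isOpen_empty) (by
          intro y hy
          exfalso
          have hy' : c.π.app i₀ y = p := hy
          subst hy'
          exact hp.2 (mem_of_dense (Z := c.pt) (c.π.app i₀) U₀ h hp.1))
      exact ⟨j, φ, fun x hx => hj (a := x) hx⟩
    have key : ∀ s : Finset (D.obj i₀), (∀ p ∈ s, p ∈ bad) → ∃ (j : I) (φ : j ⟶ i₀), ∀ p ∈ s, ∀ x, D.map φ x ≠ p := by
      intro s
      induction s using Finset.induction_on with
      | empty => exact fun _ => ⟨i₀, 𝟙 i₀, by simp⟩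
      | @insert p s _ ih =>
        intro hs
        obtain ⟨j₁, φ₁, h₁⟩ := h1 p (hs p (Finset.mem_insert_self p s))
        obtain ⟨j₂, φ₂, h₂⟩ := ih fun q hq => hs q (Finset.mem_insert_of_mem hq)
        let m := IsCofiltered.min j₁ j₂
        let a := IsCofiltered.minToLeft j₁ j₂ ≫ φ₁
        let b := IsCofiltered.minToRight j₁ j₂ ≫ φ₂
        refine ⟨IsCofiltered.eq a b, IsCofiltered.eqHom a b ≫ a, fun q hq x hx => ?_⟩
        rcases Finset.mem_insert.1 hq with rfl | hq
        · refine h₁ (D.map (IsCofiltered.eqHom a b ≫ IsCofiltered.minToLeft j₁ j₂) x) ?_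
          rw [← Scheme.Hom.comp_apply, ← D.map_comp, Category.assoc]
          exact hx
        · refine h₂ q hq (D.map (IsCofiltered.eqHom a b ≫ IsCofiltered.minToRight j₁ j₂) x) ?_
          rw [← Scheme.Hom.comp_apply, ← D.map_comp, Category.assoc]
          rw [IsCofiltered.eq_condition] at hx
          exact hx
    obtain ⟨j, φ, hj⟩ := key hfin.toFinset fun p hp => hfin.mem_toFinset.1 hp
    refine ⟨j, φ, (AssPtX.isSchematicallyDense_iff _).2 fun x hx => ?_⟩
    by_contra hxU
    exact hj _ (hfin.mem_toFinset.2 ⟨st_map (D.map φ) hx, hxU⟩) x rfl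
  · rintro ⟨i, g, h⟩
    refine (AssPtX.isSchematicallyDense_iff (X := c.pt) _).2 fun y hy => ?_
    have h2 : D.map g (c.π.app i y) ∈ U₀ := (AssPtX.isSchematicallyDense_iff _).1 h _ (st_map (X := c.pt) (c.π.app i) hy)
    rwa [← Scheme.Hom.comp_apply, c.w] at h2

end Groth.Agent.S5107
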