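import Groth.Statements.S5109
import Groth.Agent.Pur21W.Main
import Groth.Agent.Pur21W.LocIso

set_option autoImplicit false
universe u
open CategoryTheory CategoryTheory.Limits AlgebraicGeometry TopologicalSpace
open Pur21

namespace Groth.Agent.S5109

/-- Let X and Y be locally Noetherian schemes with X irreducible, g : X → Y a morphism locally of finite
type, and V the largest open subset of X on which g is a local isomorphism. Suppose that for every
point y of Y the local ring O_{Y,y} satisfies the following condition (W): every open subset of its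
punctured spectrum which contains no irreducible component of the punctured spectrum and whose
inclusion is affine is itself affine. Then every irreducible component of T = X − V either has
codimension ≤ 1 in X or has its generic point z isolated in the fibre g⁻¹(g(z)): for every point z
with no open neighbourhood on which g is a local isomorphism, and maximal with this property under
generization, either dim O_{X,z} ≤ 1 or some open neighbourhood of z meets the fibre through z only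
in z. -/
theorem result {X Y : Scheme.{u}}
    [IsLocallyNoetherian X] [IsLocallyNoetherian Y] [IrreducibleSpace ↥X] (g : X ⟶ Y) [LocallyOfFiniteType g]
    (hW : ∀ y : ↥Y, (∀ U : (Spec (Y.presheaf.stalk y)).Opens, ∀ hU : U ≤ FEt.puncturedSpec ↑(Y.presheaf.stalk y),
        (∀ T ∈ irreducibleComponents ↥(FEt.puncturedSpec ↑(Y.presheaf.stalk y)), ¬ Subtype.val '' T ⊆ (U : Set _)) →
        IsAffineHom ((Spec (Y.presheaf.stalk y)).homOfLE hU) → IsAffineOpen U))
    (z : ↥X) (hz : ¬ ∃ W : X.Opens, z ∈ W ∧ IsLocalIso (W.ι ≫ g))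
    (hmax : ∀ z' : ↥X, (¬ ∃ W : X.Opens, z' ∈ W ∧ IsLocalIso (W.ι ≫ g)) → z' ⤳ z → z' = z) :
    ringKrullDim ↑(X.presheaf.stalk z) ≤ 1 ∨
      ∃ O : X.Opens, z ∈ O ∧ ∀ z' : ↥X, z' ∈ O → g z' = g z → z' = z := by
  let T : Set X := {w | ¬ ∃ W : X.Opens, w ∈ W ∧ IsLocalIso (W.ι ≫ g)}
  have hT : IsClosed T := by
    rw [← isOpen_compl_iff, isOpen_iff_forall_mem_open]
    intro w hw
    obtain ⟨W, hwW, hW'⟩ := not_not.1 hw
    exact ⟨W, fun v hv hvT => hvT ⟨W, hv, hW'⟩, W.isOpen, hwW⟩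
  have hT' : ∀ w ∉ T, ∃ W : X.Opens, w ∈ W ∧ IsOpenImmersion (W.ι ≫ g) := by
    intro w hw
    obtain ⟨W, hwW, hW'⟩ := not_not.1 hw
    obtain ⟨U, hU, hU'⟩ := hW'.exists_isOpenImmersion ⟨w, hwW⟩
    refine ⟨W.ι ''ᵁ U, ⟨⟨w, hwW⟩, hU, rfl⟩, ?_⟩
    have : (W.ι.isoImage U).hom ≫ (W.ι ''ᵁ U).ι ≫ g = U.ι ≫ W.ι ≫ g := by simp
    rw [← MorphismProperty.cancel_left_of_respectsIso (P := @IsOpenImmersion) (W.ι.isoImage U).hom, this]
    exact hU'
  obtain ⟨_, ⟨(V : Y.Opens), hV, rfl⟩, hzV, -⟩ :=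
    Y.isBasis_affineOpens.exists_subset_of_mem_open (Set.mem_univ (g z)) isOpen_univ
  obtain ⟨_, ⟨(O' : X.Opens), hO', rfl⟩, hzO', hOV'⟩ :=
    X.isBasis_affineOpens.exists_subset_of_mem_open (show z ∈ (g ⁻¹ᵁ V : X.Opens) from hzV) (g ⁻¹ᵁ V).isOpen
  haveI : IsNoetherianRing Γ(X, O') := IsLocallyNoetherian.component_noetherian ⟨O', hO'⟩
  haveI : NoetherianSpace ↥O' := noetherianSpace_of_isAffineOpen O' hO'
  -- a neighbourhood in which `z` is the only maximal point of `T`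
  obtain ⟨S, hSf, hSc, hS, hSeq⟩ := NoetherianSpace.exists_finite_set_isClosed_irreducible
    (hT.preimage (continuous_subtype_val (p := fun x => x ∈ O')))
  let S' := {Z ∈ S | (⟨z, hzO'⟩ : ↥O') ∉ Z}
  have hS' : IsClosed (⋃₀ S') := by
    rw [Set.sUnion_eq_biUnion]
    exact (hSf.subset fun Z hZ => hZ.1).isClosed_biUnion fun Z hZ => hSc Z hZ.1
  obtain ⟨N, hN, hN'⟩ := isOpen_induced_iff.1 hS'.isOpen_compl
  have hzN : z ∈ N := by
    show (⟨z, hzO'⟩ : ↥O') ∈ Subtype.val ⁻¹' N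
    rw [hN']
    rintro ⟨Z, hZ, hzZ⟩
    exact hZ.2 hzZ
  obtain ⟨_, ⟨(O : X.Opens), hO, rfl⟩, hzO, hON⟩ :=
    X.isBasis_affineOpens.exists_subset_of_mem_open (show z ∈ (O' : Set X) ∩ N from ⟨hzO', hzN⟩)
      (O'.isOpen.inter hN)
  have hTz : ∀ w ∈ O, w ∈ T → z ⤳ w := by
    intro w hwO hwT
    have hwN : (⟨w, (hON hwO).1⟩ : ↥O') ∈ Subtype.val ⁻¹' N := (hON hwO).2
    rw [hN'] at hwN
    obtain ⟨Z, hZ, hwZ⟩ : (⟨w, (hON hwO).1⟩ : ↥O') ∈ ⋃₀ S := by rw [← hSeq]; exact hwT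
    have hzZ : (⟨z, hzO'⟩ : ↥O') ∈ Z := by_contra fun h => hwN ⟨Z, ⟨hZ, h⟩, hwZ⟩
    haveI : QuasiSober ↥O' := inferInstanceAs (QuasiSober (O' : Scheme.{u}))
    obtain ⟨η, hη⟩ := QuasiSober.sober (hS Z hZ) (hSc Z hZ)
    have hηT : η.1 ∈ T := by
      have : η ∈ ⋃₀ S := ⟨Z, hZ, hη.mem⟩
      rwa [← hSeq] at this
    have hηz : η.1 = z := hmax _ hηT ((subtype_specializes_iff _ _).1 (hη.specializes hzZ))
    exact hηz ▸ (subtype_specializes_iff _ _).1 (hη.specializes hwZ)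
  have hOV : O ≤ g ⁻¹ᵁ V := fun w hw => hOV' (hON hw).1
  let V₀ : X.Opens := ⟨Tᶜ, hT.isOpen_compl⟩
  haveI : IsOpenImmersion ((O ⊓ V₀).ι ≫ g) := by
    haveI : IsAffine O := hO
    haveI : (O ⊓ V₀ : X.Opens).toScheme.IsSeparated := by
      haveI : IsSeparated (X.homOfLE (inf_le_left : O ⊓ V₀ ≤ O)) := inferInstance
      constructor
      rw [← terminal.comp_from (X.homOfLE (inf_le_left : O ⊓ V₀ ≤ O))]
      infer_instance
    haveI : PreirreducibleSpace ↥(O ⊓ V₀ : X.Opens).toScheme :=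
      (O ⊓ V₀ : X.Opens).isOpenEmbedding'.preirreducibleSpace
    refine Pur21W.isOpenImmersion_of_isLocalIso _ fun x => ?_
    obtain ⟨W, hxW, hW'⟩ := hT' x.1 x.2.2
    refine ⟨(O ⊓ V₀).ι ⁻¹ᵁ W, hxW, ?_⟩
    rw [← Category.assoc, ← morphismRestrict_ι, Category.assoc]
    exact MorphismProperty.comp_mem @IsOpenImmersion _ _
      (IsZariskiLocalAtTarget.restrict (P := @IsOpenImmersion) inferInstance _) hW'
  have hloc : ∀ w, g w = g z → w ∉ T → ∀ w', g w' = g z → w ⤳ w' → w' = w := by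
    intro w hw hwT w' hw' hsp
    obtain ⟨W, hwW, hW'⟩ := hT' w hwT
    let a : g.fiber (g z) := (g.fiberHomeo (g z)).symm ⟨w, hw⟩
    have ha : IsOpen ({a} : Set (g.fiber (g z))) := by
      have : ({a} : Set (g.fiber (g z))) = g.fiberι (g z) ⁻¹' (W : Set X) := by
        ext b
        refine ⟨fun hb => by rw [hb, Set.mem_preimage, Scheme.Hom.fiberι_fiberHomeo_symm]; exact hwW, fun hb => ?_⟩
        have hgb : g (g.fiberι (g z) b) = g z := by
          have := (g.fiberHomeo (g z) b).2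
          rwa [Scheme.Hom.fiberHomeo_apply] at this
        have := (W.ι ≫ g).isOpenEmbedding.injective (a₁ := ⟨_, hb⟩) (a₂ := ⟨w, hwW⟩) (hgb.trans hw.symm)
        exact (g.fiberι (g z)).isEmbedding.injective
          ((congrArg Subtype.val this).trans (g.fiberι_fiberHomeo_symm (g z) ⟨w, hw⟩).symm)
      rw [this]
      exact W.isOpen.preimage (g.fiberι (g z)).continuous
    have hc := isClosed_singleton_of_isLocallyClosed_singleton ha.isLocallyClosed
    have : (g.fiberHomeo (g z)).symm ⟨w', hw'⟩ ∈ ({a} : Set (g.fiber (g z))) :=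
      (((subtype_specializes_iff (⟨w, hw⟩ : g ⁻¹' {g z}) ⟨w', hw'⟩).2 hsp).map
        (g.fiberHomeo (g z)).symm.continuous).mem_closed hc rfl
    exact congrArg Subtype.val ((g.fiberHomeo (g z)).symm.injective this)
  rcases Pur21W.main g hV hO hOV (O ⊓ V₀) inf_le_left z hzO (hW (g z))
      (fun w hw hsp hne => ⟨hw, fun hwT => hne (hsp.antisymm ((hTz w hw hwT).map g.continuous)).eq⟩)
      (fun w _ hw hwz => by_contra fun hne =>
        hne (hloc w hw (fun hwT => hne (hmax w hwT hwz)) z rfl hwz).symm) with h | ⟨W, -, hzW, h⟩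
  · exact Or.inl h
  · exact Or.inr ⟨W, hzW, fun z' hz' hg => h z' hz' hg⟩

end Groth.Agent.S5109
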