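import Groth.Statements.S5112
import Groth.Agent.H23.PrincipalPara
-- import your own Groth.Agent.* helpers here

set_option autoImplicit false
universe u
open CategoryTheory CategoryTheory.Limits AlgebraicGeometry TopologicalSpace
open Div21

namespace Groth.Agent.S5112

/-- The implication from (b) to (a), for an integral scheme (a normal locally Noetherian scheme is the
disjoint union of its integral components): let X be a normal locally Noetherian integral scheme and
S a subset of X. A codimension-1 cycle Z (an integer-valued function on points, zero off the points
of codimension 1, i.e. of coheight 1, with locally finite support) is principal at a point x when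
there is a nonzero rational function whose order at every codimension-1 point generizing x is the
value of Z there (the trace of Z on Spec O_{X,x} is a principal divisor). Suppose (b): for every
point x of X which is not a generization of a point of S (the closure of x does not meet S) and
whose local ring has dimension at least 2, the local ring O_{X,x} is parafactorial. Then (a): every
codimension-1 cycle which is principal at all points of S is principal at every point of X (it is
locally principal). (The published statement asserts that (a) and (b) are equivalent. The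
implication from (a) to (b) fails: on the quotient of the real 2-sphere x² + y² + z² = 1 by (x, y,
z) ↦ (−x, −y, z), a normal Noetherian integral surface with exactly two singular points and divisor
class group of order 2, take S to be one singular point; every cycle principal there is principal
everywhere, while the local ring at the other singular point has dimension 2 and is not
parafactorial. This row states the implication from (b) to (a), which the published argument does
prove.) -/
theorem result (X : Scheme.{u}) [IsIntegral X]
    [IsLocallyNoetherian X] (hX : Pi1.IsNormalScheme X) (S : Set ↥X)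
    (hpar : ∀ x : ↥X, closure {x} ∩ S = ∅ → (2 : WithBot ℕ∞) ≤ ringKrullDim ↑(X.presheaf.stalk x) →
        ParaF.IsParafactorialLocalRing ↑(X.presheaf.stalk x))
    (Z : ↥X → ℤ) (hZ : ∀ x : ↥X, Order.coheight x ≠ 1 → Z x = 0)
    (hZfin : ∀ x : ↥X, ∃ W : X.Opens, x ∈ W ∧ {z : ↥X | z ∈ W ∧ Z z ≠ 0}.Finite)
    (hS : ∀ s : ↥X, s ∈ S →
        ∃ f : ↑X.functionField, f ≠ 0 ∧ ∀ x' : ↥X, Order.coheight x' = 1 → x' ⤳ s → Z x' = Scheme.ord f x')
    (x : ↥X) :
    ∃ f : ↑X.functionField, f ≠ 0 ∧ ∀ x' : ↥X, Order.coheight x' = 1 → x' ⤳ x → Z x' = Scheme.ord f x' := by
  have hfin := Groth.Agent.H23.PrincipalAt.LocFin.of_nhds hZfin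
  suffices H : ∀ n : ℕ, ∀ x : ↥X, Order.coheight x ≤ n →
      Groth.Agent.H23.PrincipalAt.PrincipalAt Z x by
    have hne : Order.coheight x ≠ ⊤ := fun h => by
      have h1 := ringKrullDim_ne_top (R := X.presheaf.stalk x)
      rw [ringKrullDim_stalk_eq_coheight, h] at h1
      exact h1 rfl
    exact H _ x (ENat.coe_toNat hne).ge
  intro n
  induction n using Nat.strong_induction_on with
  | h n ih =>
    intro x hxn
    by_cases hxS : closure {x} ∩ S = ∅
    swap
    · obtain ⟨s, hsx, hs⟩ := Set.nonempty_iff_ne_empty.2 hxS
      obtain ⟨f, hf, hfs⟩ := hS s hs
      exact ⟨f, hf, fun z hz hzx => hfs z hz (hzx.trans (specializes_iff_mem_closure.2 hsx))⟩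
    by_cases hdim : (2 : WithBot ℕ∞) ≤ ringKrullDim ↑(X.presheaf.stalk x)
    · refine Groth.Agent.H23.PrincipalPara.principalAt_of_punctured hX hfin hdim (hpar x hxS hdim)
        fun y hy hne => ?_
      have hxy : x < y := lt_of_le_not_ge hy fun h => hne (hy.antisymm h).eq
      have hlt : Order.coheight y + 1 ≤ Order.coheight x := Order.coheight_add_one_le hxy
      have hy' : Order.coheight y ≠ ⊤ := ne_top_of_le_ne_top
        (ne_top_of_le_ne_top (ENat.coe_ne_top n) (hlt.trans hxn)) le_self_add
      obtain ⟨m, hm⟩ := ENat.ne_top_iff_exists.1 hy'
      have hmn : m + 1 ≤ n := by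
        have := hlt.trans hxn
        rw [← hm] at this
        exact_mod_cast this
      exact ih m (by omega) y hm.ge
    · have hc : Order.coheight x ≤ 1 := by
        rw [ringKrullDim_stalk_eq_coheight] at hdim
        by_contra hc
        refine hdim (WithBot.coe_le_coe.2 ?_)
        exact Order.add_one_le_of_lt (not_le.1 hc)
      obtain ⟨F, hF, v, hv, hD⟩ := Groth.Agent.RefX.exists_ref1_of_orders hX Z hfin
      obtain ⟨U, hU, e, he⟩ := Groth.Agent.RefX.hasFrames_of_isRef1 hX hF x hc
      exact Groth.Agent.H23.PrincipalAt.of_frame_at hv hD hU he

end Groth.Agent.S5112
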