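import Groth.Statements.S5113
import Mathlib.AlgebraicGeometry.PullbackCarrier

set_option autoImplicit false
universe u
open SGA1

namespace Groth.Agent.S5113

open AlgebraicGeometry CategoryTheory CategoryTheory.Limits in
/-- Let g : S' ⟶ S be submersive, i.e. surjective and making S a topological quotient of S'. Then the
sequence of sets of open subsets Ouv(S) → Ouv(S') ⇉ Ouv(S' ×_S S') (inverse images along g and along
the two projections) is exact: an open subset U' of S' whose inverse images under the two
projections of S' ×_S S' agree is the inverse image of one and only one open subset of S. -/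
theorem result {S' S : Scheme.{u}} (g : S' ⟶ S)
    (hg : Topology.IsQuotientMap g.base) (U' : S'.Opens)
    (h : (pullback.fst g g) ⁻¹ᵁ U' = (pullback.snd g g) ⁻¹ᵁ U') :
    ∃! U : S.Opens, g ⁻¹ᵁ U = U' := by
  have hsat : ∀ x x' : S', g x = g x' → x ∈ U' → x' ∈ U' := by
    intro x x' e hx
    obtain ⟨z, hz, hz'⟩ := Scheme.Pullback.exists_preimage_pullback x x' e
    have h1 : z ∈ (pullback.fst g g) ⁻¹ᵁ U' := by
      show (pullback.fst g g) z ∈ U'
      rw [hz]; exact hx
    rw [h] at h1
    rw [← hz']
    exact h1
  have hpre : g.base ⁻¹' (g.base '' (U' : Set S')) = U' :=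
    Set.Subset.antisymm (fun x' ⟨x, hx, e⟩ => hsat x x' e hx) (Set.subset_preimage_image _ _)
  have hopen : IsOpen (g.base '' (U' : Set S')) := by
    rw [← hg.isOpen_preimage, hpre]; exact U'.2
  refine ⟨⟨_, hopen⟩, TopologicalSpace.Opens.ext hpre, fun U hU => TopologicalSpace.Opens.ext ?_⟩
  show (U : Set S) = g.base '' (U' : Set S')
  rw [← hU]
  exact (Set.image_preimage_eq _ hg.surjective).symm

end Groth.Agent.S5113
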