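import Groth.Statements.S5114
import Groth.Agent.DescLib.EtQF
import Groth.Agent.HTopCov.QfhUnibranch
-- import your own Groth.Agent.* helpers here

set_option autoImplicit false
set_option backward.isDefEq.respectTransparency false
set_option backward.isDefEq.respectTransparency.types false
set_option linter.style.haveILetI false
universe u
open SGA1

namespace Groth.Agent.S5114

open AlgebraicGeometry CategoryTheory CategoryTheory.Limits in
/-- Let A be a complete Noetherian local ring, S = Spec A, and g : S' ⟶ S a surjective morphism of
finite type whose fibre over the closed point s is finite. If every point of S' specialises to some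
point of the fibre over s (equivalently: the disjoint union of the spectra of the local rings of S'
at the points over s maps onto S'), then g is universally submersive. (The published statement
asserts an equivalence and does not mention surjectivity of g; the converse fails: for A a complete
discrete valuation ring with fraction field K, S' = S ⊔ Spec K ⟶ S has a section, hence is
universally submersive, while the isolated point Spec K specialises to no point over s. This row
states the implication the published proof establishes, with the surjectivity it uses.) -/
theorem result (A : Type u) [CommRing A]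
    [IsNoetherianRing A] [IsLocalRing A] [IsAdicComplete (IsLocalRing.maximalIdeal A) A]
    {S' : Scheme.{u}} (g : S' ⟶ Spec (CommRingCat.of A)) [LocallyOfFiniteType g] [QuasiCompact g]
    [Surjective g]
    (hfin : (g.base ⁻¹' {IsLocalRing.closedPoint A}).Finite)
    (hsp : ∀ t : S', ∃ s' : S', g.base s' = IsLocalRing.closedPoint A ∧ t ⤳ s') :
    SGA1.UnivSubmersive g := by
  haveI : HenselianRing A (IsLocalRing.maximalIdeal A) := inferInstance
  haveI : HenselianLocalRing A := ⟨fun f hf a₀ h1 h2 => HenselianRing.is_henselian f hf a₀ h1
    (h2.map (Ideal.Quotient.mk _))⟩
  haveI : LocallyQuasiFinite g := g.quasiFiniteLocus_eq_top_iff.1 (top_le_iff.1 fun t _ => by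
    obtain ⟨s', hs', hts⟩ := hsp t
    refine hts.mem_open g.quasiFiniteLocus.isOpen (Scheme.Hom.quasiFiniteAt_iff_isOpen_singleton_asFiber.2 ?_)
    haveI : Finite (g.fiber (g s') : Scheme.{u}) :=
      haveI := (hs'.symm ▸ hfin : (g.base ⁻¹' {g s'}).Finite).to_subtype
      Finite.of_equiv _ (g.fiberHomeo (g s')).toEquiv.symm
    haveI : JacobsonSpace (g.fiber (g s') : Scheme.{u}) :=
      LocallyOfFiniteType.jacobsonSpace (g.fiberToSpecResidueField (g s'))
    exact isOpen_discrete _)
  obtain ⟨T, p, hfin, hsurj⟩ := DescLib.exists_finite_refinement g fun b => by
    obtain ⟨t, ht⟩ := g.surjective b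
    obtain ⟨s', hs', hts⟩ := hsp t
    exact ⟨t, s', hts, ht, hs'⟩
  haveI := hfin
  haveI := hsurj
  exact HTopCov.univSubmersive_of_comp p g (DescLib.univSubmersive_of_universallyClosed (p ≫ g))

end Groth.Agent.S5114
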