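import Groth.Statements.S5115
import Groth.Agent.AlgSpLib.UHScheme
import Groth.Agent.MorLib.UnivHomeo
-- import your own Groth.Agent.* helpers here

set_option autoImplicit false
universe u
open EtBase

namespace Groth.Agent.S5115

open AlgebraicGeometry CategoryTheory CategoryTheory.Limits in
/-- A flat surjective quasi-compact universally injective morphism is a universal homeomorphism. -/
theorem isUnivHomeo_of_ffqc_univInj {S S' : Scheme.{u}} (g : S' ⟶ S)
    [Flat g] [Surjective g] [QuasiCompact g] [UniversallyInjective g] : FlatMor.IsUnivHomeo g := by
  intro X' Y' i₁ i₂ f' h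
  have : Flat f' := MorphismProperty.of_isPullback (P := @Flat) h.flip ‹_›
  have : Surjective f' := MorphismProperty.of_isPullback (P := @Surjective) h.flip ‹_›
  have : QuasiCompact f' := MorphismProperty.of_isPullback (P := @QuasiCompact) h.flip ‹_›
  have : UniversallyInjective f' := MorphismProperty.of_isPullback (P := @UniversallyInjective) h.flip ‹_›
  have hq : Topology.IsQuotientMap f' := Flat.isQuotientMap_of_surjective f'
  refine isHomeomorph_iff_continuous_isClosedMap_bijective.mpr ⟨f'.continuous, fun C hC => ?_, f'.injective, f'.surjective⟩
  rw [← hq.isClosed_preimage, Set.preimage_image_eq C f'.injective]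
  exact hC


open AlgebraicGeometry CategoryTheory CategoryTheory.Limits in
/-- Let g : S' ⟶ S be faithfully flat (flat and surjective), quasi-compact and radicial (universally
injective). Then base change along g is an equivalence from the category of schemes etale over S to
the category of schemes etale over S'. -/
theorem result {S S' : Scheme.{u}} (g : S' ⟶ S)
    [Flat g] [Surjective g] [QuasiCompact g] [UniversallyInjective g] :
    (EtCoh.bc g).IsEquivalence := by
  have := Groth.Agent.MorLib.isIntegralHom_of_isUnivHomeo (isUnivHomeo_of_ffqc_univInj g)
  exact Groth.Agent.AlgSpLib.UHDesc.bc_isEquivalence g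

end Groth.Agent.S5115
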