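import Groth.Statements.S5118
import Groth.Agent.AzumayaX.SepElement
import Mathlib.Algebra.DualNumber

set_option autoImplicit false
universe u
open SGA1t

namespace Groth.Agent.S5118

open Polynomial in
/-- The etaleness criterion for the Kummer group scheme: Let A be a commutative ring and n ≥ 1. The
group scheme μ_n over Spec A is the spectrum of A[t]/(t^n − 1), a free A-module of rank n; it is
etale over A if and only if n is a unit of A (equivalently, n is prime to the characteristic of the
residue field at every point of Spec A). -/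
theorem result (A : Type u) [CommRing A] (n : ℕ) (hn : 1 ≤ n) :
    Algebra.Etale A (AdjoinRoot ((X : A[X]) ^ n - 1)) ↔ IsUnit ((n : ℕ) : A) := by
  open Polynomial in
  classical
  have hm : ((X : A[X]) ^ n - 1).Monic := by simpa using monic_X_pow_sub_C (1 : A) (by omega : n ≠ 0)
  constructor
  · intro he
    by_contra hu
    obtain ⟨m, hmax, hnm⟩ := exists_max_ideal_of_mem_nonunits hu
    let k := A ⧸ m
    letI := Ideal.Quotient.field m
    have hnk : (n : k) = 0 := by
      rw [← map_natCast (Ideal.Quotient.mk m)]; exact Ideal.Quotient.eq_zero_iff_mem.2 hnm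
    let ι := TrivSqZeroExt k k
    have hpow : ((1 : ι) + TrivSqZeroExt.inr (1 : k)) ^ n = 1 := by
      refine TrivSqZeroExt.ext ?_ ?_
      · simp [ι]
      · rw [TrivSqZeroExt.snd_pow]
        simp [ι, hnk]
    let f₁ : AdjoinRoot ((X : A[X]) ^ n - 1) →ₐ[A] ι :=
      AdjoinRoot.liftAlgHom _ (Algebra.ofId A ι) ((1 : ι) + TrivSqZeroExt.inr (1 : k)) (by simp [hpow])
    let f₂ : AdjoinRoot ((X : A[X]) ^ n - 1) →ₐ[A] ι :=
      AdjoinRoot.liftAlgHom _ (Algebra.ofId A ι) 1 (by simp)
    have hI : IsNilpotent (RingHom.ker (TrivSqZeroExt.fstHom k k k)) := by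
      refine ⟨2, ?_⟩
      have h2 : RingHom.ker (TrivSqZeroExt.fstHom k k k) * RingHom.ker (TrivSqZeroExt.fstHom k k k) = (⊥ : Ideal ι) := by
        rw [← le_bot_iff, Ideal.mul_le]
        intro x hx y hy
        rw [RingHom.mem_ker, TrivSqZeroExt.fstHom_apply] at hx hy
        rw [Ideal.mem_bot]
        refine TrivSqZeroExt.ext ?_ ?_ <;> simp [hx, hy]
      exact (sq (RingHom.ker (TrivSqZeroExt.fstHom k k k) : Ideal ι)).trans h2
    haveI := he
    have h12 : f₁ = f₂ := Algebra.FormallyUnramified.ext (R := A) _ hI fun x => by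
      have hx : ((TrivSqZeroExt.fstHom k k k).restrictScalars A).comp f₁ =
          ((TrivSqZeroExt.fstHom k k k).restrictScalars A).comp f₂ := AdjoinRoot.algHom_ext (by simp [f₁, f₂, ι])
      rw [Ideal.Quotient.eq, RingHom.mem_ker, map_sub, sub_eq_zero]
      exact DFunLike.congr_fun hx x
    have h := congrArg (fun f : AdjoinRoot ((X : A[X]) ^ n - 1) →ₐ[A] ι => (f (AdjoinRoot.root _)).snd) h12
    simp [f₁, f₂, ι] at h
    exact one_ne_zero h
  · rintro ⟨w, hw⟩
    refine Groth.Agent.AzumayaX.etale_adjoinRoot hm ⟨- C ((w⁻¹ : Aˣ) : A) * C (n : A), C ((w⁻¹ : Aˣ) : A) * X, ?_⟩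
    obtain ⟨j, rfl⟩ : ∃ j, n = j + 1 := ⟨n - 1, by omega⟩
    have h1 : C ((w⁻¹ : Aˣ) : A) * C ((j + 1 : ℕ) : A) = 1 := by rw [← C_mul, ← hw, Units.inv_mul, C_1]
    simp only [derivative_sub, derivative_X_pow, derivative_one, sub_zero, Nat.add_sub_cancel]
    linear_combination h1

end Groth.Agent.S5118
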