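import Groth.Statements.S5119
import Mathlib.Algebra.Polynomial.Laurent

set_option autoImplicit false
universe u
open scoped LaurentPolynomial
open SGA1t

namespace Groth.Agent.S5119

/-- The computation behind the exactness of the Kummer sequence 0 → μ_n → G_m → G_m → 0, i.e. faithful
flatness of the n-th power map u_n of G_m: Let A be a commutative ring and n ≥ 1, and let u_n be the
ring endomorphism of A[t, t⁻¹] with u_n(t) = t^n (on monomials, t^k ↦ t^{nk}). Then A[t, t⁻¹] is
free of rank n over itself via u_n, with basis 1, t, …, t^{n−1}: every Laurent polynomial q can be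
written in exactly one way as Σ_{i<n} u_n(c_i) t^i. -/
theorem result (A : Type u) [CommRing A] (n : ℕ) (hn : 1 ≤ n) (q : A[T;T⁻¹]) :
    ∃! c : Fin n → A[T;T⁻¹],
      q = ∑ i : Fin n, (AddMonoidAlgebra.mapDomainRingHom A (AddMonoidHom.mulLeft (n : ℤ)) : A[T;T⁻¹] →+* A[T;T⁻¹]) (c i) *
        LaurentPolynomial.T (i : ℤ) := by
  classical
  have hn0 : (n : ℤ) ≠ 0 := by omega
  set μ := AddMonoidHom.mulLeft (n : ℤ) with hμ
  have hinj : Function.Injective μ := fun a b h => mul_left_cancel₀ hn0 h
  set φ := (AddMonoidAlgebra.mapDomainRingHom A μ : A[T;T⁻¹] →+* A[T;T⁻¹])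
  have hterm : ∀ (c : A[T;T⁻¹]) (i j : ℤ),
      (φ c * LaurentPolynomial.T i).coeff j = (Finsupp.mapDomain μ c.coeff) (j - i) := by
    intro c i j
    have h1 : (φ c).coeff = Finsupp.mapDomain μ c.coeff := AddMonoidAlgebra.coeff_mapDomain μ c
    show ((φ c) * AddMonoidAlgebra.single i 1).coeff j = _
    rw [AddMonoidAlgebra.coeff_mul_single_eq_coeff_mul (m₂ := j - i) (H := fun m _ => by omega),
      mul_one, h1]
  have hcoeff : ∀ (c : Fin n → A[T;T⁻¹]) (k : ℤ) (r : Fin n),
      (∑ i : Fin n, φ (c i) * LaurentPolynomial.T (i : ℤ)).coeff ((n : ℤ) * k + r) = (c r).coeff k := by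
    intro c k r
    rw [AddMonoidAlgebra.coeff_sum, Finsupp.finset_sum_apply, Finset.sum_eq_single r]
    · rw [hterm, add_sub_cancel_right, show (n : ℤ) * k = μ k from rfl,
        Finsupp.mapDomain_apply hinj]
    · intro i _ hi
      rw [hterm]
      apply Finsupp.mapDomain_notin_range
      rintro ⟨m, hm⟩
      change (n : ℤ) * m = _ at hm
      have h1 := r.isLt
      have h2 := i.isLt
      apply hi
      have hd : (n : ℤ) * (m - k) = (r : ℤ) - i := by rw [mul_sub]; omega
      rcases lt_trichotomy (m - k) 0 with h | h | h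
      · have : (n : ℤ) * (m - k) ≤ (n : ℤ) * (-1) := mul_le_mul_of_nonneg_left (by omega) (by omega)
        omega
      · rw [h, mul_zero] at hd
        ext; omega
      · have : (n : ℤ) * 1 ≤ (n : ℤ) * (m - k) := mul_le_mul_of_nonneg_left (by omega) (by omega)
        omega
    · intro h; exact absurd (Finset.mem_univ r) h
  have hdec : ∀ j : ℤ, ∃ (k : ℤ) (r : Fin n), j = (n : ℤ) * k + r := by
    intro j
    have h1 := Int.emod_nonneg j hn0
    have h2 := Int.emod_lt_of_pos j (show (0 : ℤ) < n by omega)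
    refine ⟨j / n, ⟨(j % n).toNat, by omega⟩, ?_⟩
    have h3 := Int.mul_ediv_add_emod j n
    simp only [Int.toNat_of_nonneg h1]
    omega
  refine ⟨fun i => AddMonoidAlgebra.ofCoeff (Finsupp.comapDomain (fun k : ℤ => (n : ℤ) * k + i) q.coeff
      (fun a _ b _ h => hinj (add_right_cancel h))), ?_, ?_⟩
  · refine AddMonoidAlgebra.ext (Finsupp.ext fun j => ?_)
    obtain ⟨k, r, rfl⟩ := hdec j
    rw [hcoeff]
    rfl
  · intro c hc
    funext i
    refine AddMonoidAlgebra.ext (Finsupp.ext fun k => ?_)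
    rw [hc] at *
    show (c i).coeff k = _
    simp only [Finsupp.comapDomain_apply]
    rw [hcoeff]

end Groth.Agent.S5119
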