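import Groth.Statements.S5120
import Mathlib.Algebra.Polynomial.Div
import Mathlib.Algebra.Polynomial.Degree.Operations
import Mathlib.Algebra.Polynomial.BigOperators
import Mathlib.Tactic.Ring

set_option autoImplicit false
universe u
open SGA1t

namespace Groth.Agent.S5120

open Polynomial in
/-- The computation behind the exactness of the Artin-Schreier sequence 0 → Z/p → G_a → G_a → 0 in
characteristic p, i.e. faithful flatness of ℘ = id − F: Let p be a prime and A a ring of
characteristic p. Then A[t] is free of rank p over itself via the endomorphism t ↦ t − t^p, with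
basis 1, t, …, t^{p−1}: every polynomial q can be written in exactly one way as Σ_{i<p} c_i(t − t^p)
t^i. -/
theorem result (p : ℕ) [Fact p.Prime] (A : Type u) [CommRing A] [CharP A p]
    (q : A[X]) :
    ∃! c : Fin p → A[X], q = ∑ i : Fin p, aeval (X - X ^ p : A[X]) (c i) * X ^ (i : ℕ) := by
  classical
  haveI : Nontrivial A := CharP.nontrivial_of_char_ne_one (Fact.out : p.Prime).ne_one
  have hp : 1 < p := (Fact.out : p.Prime).one_lt
  set f : A[X] := X ^ p - X with hf
  have hfdeg : f.degree = (p : WithBot ℕ) := by
    rw [hf, degree_sub_eq_left_of_degree_lt, degree_X_pow]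
    rw [degree_X_pow, degree_X]
    exact_mod_cast hp
  have hfm : f.Monic := monic_X_pow_sub (by rw [degree_X]; exact_mod_cast hp)
  have ht : (X - X ^ p : A[X]) = -f := by rw [hf]; ring
  have hcoe : ∀ r : A[X], r.degree < f.degree → r = ∑ i : Fin p, C (r.coeff i) * X ^ (i : ℕ) := by
    intro r hr
    conv_lhs => rw [(as_sum_range' r p (by
      by_cases h0 : r = 0
      · simp [h0]; omega
      · rw [hfdeg, degree_eq_natDegree h0] at hr; exact_mod_cast hr))]
    rw [Finset.sum_range]
    simp [← C_mul_X_pow_eq_monomial]
  have hex : ∀ n : ℕ, ∀ q : A[X], q.natDegree < n → ∃ c : Fin p → A[X],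
      q = ∑ i : Fin p, aeval (X - X ^ p : A[X]) (c i) * X ^ (i : ℕ) := by
    intro n
    induction n with
    | zero => intro q hq; omega
    | succ n ih =>
      intro q hq
      have hdiv := modByMonic_add_div q f
      have hr := degree_modByMonic_lt q hfm
      by_cases hq0 : q /ₘ f = 0
      · refine ⟨fun i => C (q.coeff i), ?_⟩
        rw [hq0, mul_zero, add_zero] at hdiv
        simp only [aeval_C, ← C_eq_algebraMap]
        exact hcoe q (hdiv ▸ hr)
      · obtain ⟨c, hc⟩ := ih (q /ₘ f) (by
          have h1 := natDegree_divByMonic q hfm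
          have h2 : f.natDegree = p := natDegree_eq_of_degree_eq_some hfdeg
          have : f.natDegree ≤ q.natDegree := natDegree_le_natDegree (by
            by_contra hlt
            exact hq0 ((divByMonic_eq_zero_iff hfm).2 (not_le.1 hlt)))
          omega)
        refine ⟨fun i => C ((q %ₘ f).coeff i) - X * c i, ?_⟩
        conv_lhs => rw [← hdiv, hcoe _ hr, hc, Finset.mul_sum, ← Finset.sum_add_distrib]
        refine Finset.sum_congr rfl fun i _ => ?_
        rw [map_sub, map_mul, aeval_X, aeval_C, ← C_eq_algebraMap, ht]
        ring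
  have huniq : ∀ n : ℕ, ∀ c : Fin p → A[X], (∀ i, c i = 0 ∨ (c i).natDegree < n) →
      ∑ i : Fin p, aeval (X - X ^ p : A[X]) (c i) * X ^ (i : ℕ) = 0 → ∀ i, c i = 0 := by
    intro n
    induction n with
    | zero => intro c hc _ i; exact (hc i).resolve_right (Nat.not_lt_zero _)
    | succ n ih =>
      intro c hc hsum
      set r : A[X] := ∑ i : Fin p, C ((c i).coeff 0) * X ^ (i : ℕ) with hr
      set s : A[X] := ∑ i : Fin p, aeval (X - X ^ p : A[X]) (divX (c i)) * X ^ (i : ℕ) with hs
      have hrdeg : r.degree < f.degree := hfdeg ▸ degree_sum_fin_lt fun i : Fin p => (c i).coeff 0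
      have hrs : r = f * s := by
        rw [← sub_eq_zero]
        refine Eq.trans ?_ hsum
        rw [hr, hs, Finset.mul_sum, ← Finset.sum_sub_distrib]
        refine Finset.sum_congr rfl fun i _ => ?_
        conv_rhs => rw [← X_mul_divX_add (c i)]
        rw [map_add, map_mul, aeval_X, aeval_C, ← C_eq_algebraMap, ht]
        ring
      have hs0 : s = 0 := by
        by_contra hne
        have : (f * s).degree = f.degree + s.degree := degree_mul' (by
          rw [hfm.leadingCoeff, one_mul]; exact leadingCoeff_ne_zero.2 hne)
        rw [← hrs] at this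
        rw [this] at hrdeg
        exact absurd hrdeg (not_lt.2 (le_add_of_nonneg_right (zero_le_degree_iff.2 hne)))
      rw [hs0, mul_zero] at hrs
      have hc0 : ∀ i : Fin p, (c i).coeff 0 = 0 := by
        intro i
        have := congrArg (fun g => coeff g (i : ℕ)) hrs
        simpa [hr, finsetSum_coeff, coeff_C_mul_X_pow, Fin.val_inj] using this
      intro i
      have hd := ih (fun i => divX (c i)) (fun i => by
        rcases hc i with h | h
        · exact Or.inl (by rw [h, divX_zero])
        · by_cases h0 : (c i).natDegree = 0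
          · exact Or.inl (by rw [eq_C_of_natDegree_eq_zero h0, divX_C])
          · refine Or.inr ?_
            rw [natDegree_divX_eq_natDegree_tsub_one]
            omega) hs0 i
      rw [← X_mul_divX_add (c i), hd, hc0 i, mul_zero, zero_add, map_zero]
  obtain ⟨c, hc⟩ := hex (q.natDegree + 1) q (Nat.lt_succ_self _)
  refine ⟨c, hc, fun c' hc' => funext fun i => ?_⟩
  have := huniq (Finset.univ.sup (fun i => (c' i - c i).natDegree) + 2) (fun i => c' i - c i)
    (fun i => by
      refine Or.inr ?_
      have := Finset.le_sup (f := fun i => (c' i - c i).natDegree) (Finset.mem_univ i)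
      omega) ?_ i
  · exact sub_eq_zero.1 this
  · simp only [map_sub, sub_mul, Finset.sum_sub_distrib]
    rw [← hc, ← hc', sub_self]

end Groth.Agent.S5120
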