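import Groth.Statements.S5122
import Groth.Agent.DescLib.EtRep
import Groth.Agent.DescLib.EtDescEff
-- import your own Groth.Agent.* helpers here

set_option autoImplicit false
set_option backward.isDefEq.respectTransparency false
set_option backward.isDefEq.respectTransparency.types false
set_option linter.style.haveILetI false
universe u
open SGA1

open CategoryTheory CategoryTheory.Limits AlgebraicGeometry


namespace Groth.Agent.S5122

open AlgebraicGeometry CategoryTheory CategoryTheory.Limits in
/-- Let g : S' ⟶ S be universally submersive, D a descent datum relative to g (functor-of-points form,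
for the one-member family g) whose underlying S'-scheme is etale, separated and of finite type over
S', and p : S₁ ⟶ S faithfully flat and quasi-compact. Then D is effective in the fibred category of
etale separated finite-type schemes (isomorphic to the canonical datum of some etale, separated,
quasi-compact S-scheme) if and only if the descent datum obtained by base change along p, relative
to S' ×_S S₁ ⟶ S₁, is effective in the same sense over S₁. -/
theorem result {S S' S₁ : Scheme.{u}} (g : S' ⟶ S) (hg : SGA1.UnivSubmersive g)
    (D : Desc.SchDDFam (fun _ : PUnit.{1} => g))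
    [Etale (D.obj PUnit.unit).hom] [IsSeparated (D.obj PUnit.unit).hom] [QuasiCompact (D.obj PUnit.unit).hom]
    (p : S₁ ⟶ S) [Flat p] [Surjective p] [QuasiCompact p] :
    (∃ U : Over S, Etale U.hom ∧ IsSeparated U.hom ∧ QuasiCompact U.hom ∧ Nonempty ((Desc.toDDFam (fun _ : PUnit.{1} => g)).obj U ≅ D)) ↔
      (∃ U : Over S₁, Etale U.hom ∧ IsSeparated U.hom ∧ QuasiCompact U.hom ∧
        Nonempty ((Desc.toDDFam (fun _ : PUnit.{1} => pullback.snd g p)).obj U ≅
          (Desc.pullDDFam (f := fun _ : PUnit.{1} => g) (f' := fun _ : PUnit.{1} => pullback.snd g p)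
        (α := id) (p := p) (p' := fun _ => pullback.fst g p) (fun _ => pullback.condition)).obj D)) := by
  constructor
  · rintro ⟨U, hU, hs, hc, ⟨I⟩⟩
    obtain ⟨e⟩ := DescLib.iso_of_repBy ((DescLib.repBy_pullOne_iff p).2
      (DescLib.repOnBy_of_repBy (DescLib.repBy_of_iso_etale hg I) p))
    exact ⟨Over.mk (pullback.snd U.hom p), MorphismProperty.pullback_snd _ _ hU,
      MorphismProperty.pullback_snd _ _ hs, MorphismProperty.pullback_snd _ _ hc, ⟨e⟩⟩
  · rintro ⟨U₁, hU, hs, hc, ⟨I⟩⟩
    have hg' : SGA1.UnivSubmersive (pullback.snd g p) :=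
      MorphismProperty.pullback_snd (P := MorphismProperty.universally _) _ _ hg
    have hR : DescLib.RepOnBy D p U₁ :=
      (DescLib.repBy_pullOne_iff p).1 (DescLib.repBy_of_iso_etale hg' I)
    obtain ⟨U, ⟨h1, h2, h3⟩, hW⟩ := DescLib.exists_repBy_of_repOnBy hR
      (fun U => Etale U.hom ∧ IsSeparated U.hom ∧ QuasiCompact U.hom) fun D₁ e => by
        subst e
        obtain ⟨U, h1, h2, h3, hI⟩ := DescLib.effective_etale_qc_sep p D₁
        exact ⟨U, ⟨h3, h2, h1⟩, hI⟩
    exact ⟨U, h1, h2, h3, DescLib.iso_of_repBy hW⟩

end Groth.Agent.S5122
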