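import Groth.Statements.S5126
import Groth.Agent.DescLib.EtFpqc
import Groth.Agent.S5125
import Groth.Agent.LC.CanonComplete
-- import your own Groth.Agent.* helpers here

set_option autoImplicit false
set_option backward.isDefEq.respectTransparency false
set_option backward.isDefEq.respectTransparency.types false
set_option linter.style.haveILetI false
universe u
open SGA1

open CategoryTheory CategoryTheory.Limits AlgebraicGeometry


namespace Groth.Agent.S5126

open AlgebraicGeometry CategoryTheory CategoryTheory.Limits in
/-- Let S be locally Noetherian, g : S' ⟶ S universally submersive and of finite presentation, and D a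
descent datum relative to g (functor-of-points form, for the one-member family g) whose underlying
S'-scheme is etale, separated and of finite presentation over S'. Then D is the canonical datum of
some etale S-scheme if and only if for every point a of S the descent datum induced over the
spectrum of the adic completion Ô of the local ring O_{S,a} (mapping to S through Spec O_{S,a}) is
the canonical datum of some etale Ô-scheme. -/
theorem result {S S' : Scheme.{u}} [IsLocallyNoetherian S] (g : S' ⟶ S)
    (hg : SGA1.UnivSubmersive g) [LocallyOfFinitePresentation g] [QuasiCompact g] [QuasiSeparated g]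
    (D : Desc.SchDDFam (fun _ : PUnit.{1} => g)) [Etale (D.obj PUnit.unit).hom]
    [QuasiCompact (D.obj PUnit.unit).hom] [IsSeparated (D.obj PUnit.unit).hom] :
    (∃ U : Over S, Etale U.hom ∧ Nonempty ((Desc.toDDFam (fun _ : PUnit.{1} => g)).obj U ≅ D)) ↔ ∀ a : S,
      (∃ U : Over (Spec (CommRingCat.of (AdicCompletion (IsLocalRing.maximalIdeal (S.presheaf.stalk a)) (S.presheaf.stalk a)))), Etale U.hom ∧
        Nonempty ((Desc.toDDFam (fun _ : PUnit.{1} => pullback.snd g (Spec.map (CommRingCat.ofHom (algebraMap (S.presheaf.stalk a)
          (AdicCompletion (IsLocalRing.maximalIdeal (S.presheaf.stalk a)) (S.presheaf.stalk a)))) ≫ S.fromSpecStalk a))).obj U ≅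
          (Desc.pullDDFam (f := fun _ : PUnit.{1} => g) (f' := fun _ : PUnit.{1} => pullback.snd g (Spec.map (CommRingCat.ofHom (algebraMap (S.presheaf.stalk a)
          (AdicCompletion (IsLocalRing.maximalIdeal (S.presheaf.stalk a)) (S.presheaf.stalk a)))) ≫ S.fromSpecStalk a))
        (α := id) (p := (Spec.map (CommRingCat.ofHom (algebraMap (S.presheaf.stalk a)
          (AdicCompletion (IsLocalRing.maximalIdeal (S.presheaf.stalk a)) (S.presheaf.stalk a)))) ≫ S.fromSpecStalk a)) (p' := fun _ => pullback.fst g (Spec.map (CommRingCat.ofHom (algebraMap (S.presheaf.stalk a)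
          (AdicCompletion (IsLocalRing.maximalIdeal (S.presheaf.stalk a)) (S.presheaf.stalk a)))) ≫ S.fromSpecStalk a)) (fun _ => pullback.condition)).obj D)) := by
  constructor
  · rintro ⟨U, hU, ⟨I⟩⟩ a
    let p := Spec.map (CommRingCat.ofHom (algebraMap (S.presheaf.stalk a)
      (AdicCompletion (IsLocalRing.maximalIdeal (S.presheaf.stalk a)) (S.presheaf.stalk a)))) ≫ S.fromSpecStalk a
    obtain ⟨e⟩ := DescLib.iso_of_repBy ((DescLib.repBy_pullOne_iff p).2
      (DescLib.repOnBy_of_repBy (DescLib.repBy_of_iso_etale hg I) p))
    exact ⟨Over.mk (pullback.snd U.hom p), MorphismProperty.pullback_snd _ _ hU, ⟨e⟩⟩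
  · intro h
    refine (S5125.result g hg D).2 fun a => ?_
    let R := S.presheaf.stalk a
    haveI : IsNoetherianRing R := inferInstance
    haveI := LC.Canon.faithfullyFlat_completion (R := R)
    let φ := CommRingCat.ofHom (algebraMap R (AdicCompletion (IsLocalRing.maximalIdeal R) R))
    have hf : Flat (Spec.map φ) ∧ Surjective (Spec.map φ) :=
      (flat_and_surjective_SpecMap_iff φ).2 (RingHom.faithfullyFlat_algebraMap_iff.2 inferInstance)
    haveI := hf.1
    haveI := hf.2
    exact DescLib.EtEff.of_fpqc hg (Spec.map φ) rfl (h a)

end Groth.Agent.S5126
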