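import Groth.Statements.S5127
import Groth.Agent.DescLib.EtFpqc
import Groth.Agent.S5125
import Groth.Agent.DescLib.AlgClosedExt
-- import your own Groth.Agent.* helpers here

set_option autoImplicit false
set_option backward.isDefEq.respectTransparency false
set_option backward.isDefEq.respectTransparency.types false
set_option linter.style.haveILetI false
universe u
open SGA1

open CategoryTheory CategoryTheory.Limits AlgebraicGeometry


namespace Groth.Agent.S5127

open AlgebraicGeometry CategoryTheory CategoryTheory.Limits in
/-- Let S be locally Noetherian, g : S' ⟶ S universally submersive and of finite presentation, and D a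
descent datum relative to g (functor-of-points form, for the one-member family g) whose underlying
S'-scheme is etale, separated and of finite presentation over S'. Then D is the canonical datum of
some etale S-scheme if and only if, for every complete Noetherian local ring B with algebraically
closed residue field and every morphism q : Spec B ⟶ S, the descent datum induced over Spec B
(relative to S' ×_S Spec B ⟶ Spec B) is the canonical datum of some etale B-scheme. -/
theorem result {S S' : Scheme.{u}} [IsLocallyNoetherian S]
    (g : S' ⟶ S) (hg : SGA1.UnivSubmersive g) [LocallyOfFinitePresentation g] [QuasiCompact g] [QuasiSeparated g]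
    (D : Desc.SchDDFam (fun _ : PUnit.{1} => g)) [Etale (D.obj PUnit.unit).hom]
    [QuasiCompact (D.obj PUnit.unit).hom] [IsSeparated (D.obj PUnit.unit).hom] :
    (∃ U : Over S, Etale U.hom ∧ Nonempty ((Desc.toDDFam (fun _ : PUnit.{1} => g)).obj U ≅ D)) ↔ ∀ (B : Type u) [CommRing B] [IsNoetherianRing B] [IsLocalRing B]
      [IsAdicComplete (IsLocalRing.maximalIdeal B) B] [IsAlgClosed (IsLocalRing.ResidueField B)]
      (q : Spec (CommRingCat.of B) ⟶ S), (∃ U : Over (Spec (CommRingCat.of B)), Etale U.hom ∧
        Nonempty ((Desc.toDDFam (fun _ : PUnit.{1} => pullback.snd g q)).obj U ≅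
          (Desc.pullDDFam (f := fun _ : PUnit.{1} => g) (f' := fun _ : PUnit.{1} => pullback.snd g q)
        (α := id) (p := q) (p' := fun _ => pullback.fst g q) (fun _ => pullback.condition)).obj D)) := by
  constructor
  · rintro ⟨U, hU, ⟨I⟩⟩ B _ _ _ _ _ q
    obtain ⟨e⟩ := DescLib.iso_of_repBy ((DescLib.repBy_pullOne_iff q).2
      (DescLib.repOnBy_of_repBy (DescLib.repBy_of_iso_etale hg I) q))
    exact ⟨Over.mk (pullback.snd U.hom q), MorphismProperty.pullback_snd _ _ hU, ⟨e⟩⟩
  · intro h
    refine (S5125.result g hg D).2 fun a => ?_
    let R := S.presheaf.stalk a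
    obtain ⟨C, _, _, _, _, hC₁, hC₂, hC₃⟩ := DescLib.exists_complete_algClosed_extension R
    haveI := hC₁
    haveI := hC₂
    let φ := CommRingCat.ofHom (algebraMap R C)
    have hf : Flat (Spec.map φ) ∧ Surjective (Spec.map φ) :=
      (flat_and_surjective_SpecMap_iff φ).2 (RingHom.faithfullyFlat_algebraMap_iff.2 hC₃)
    haveI := hf.1
    haveI := hf.2
    exact DescLib.EtEff.of_fpqc hg (Spec.map φ) rfl (h C (Spec.map φ ≫ S.fromSpecStalk a))

end Groth.Agent.S5127
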