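import Groth.Statements.S5133
import Groth.Agent.FDescent.QuasiFlat
import Mathlib.AlgebraicGeometry.Morphisms.UniversallyOpen
import Mathlib.AlgebraicGeometry.IdealSheaf.Functorial

set_option autoImplicit false
open CategoryTheory CategoryTheory.Limits AlgebraicGeometry
universe u
open SGA1

namespace Groth.Agent.S5133

/-- For a quasi-compact morphism f : X ⟶ Y and a flat surjective base change g : Y' ⟶ Y, with no
quasi-compactness asked of g, if the base change of f along g is a homeomorphism onto its image then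
f is a homeomorphism onto its image. -/
theorem result {X Y Y' : Scheme.{u}} (f : X ⟶ Y)
    (g : Y' ⟶ Y) [QuasiCompact f] [Flat g] [Surjective g]
    (h : Topology.IsEmbedding (pullback.snd f g).base) : Topology.IsEmbedding f.base := by
  have hcond : ∀ z : ↥(pullback f g), f (pullback.fst f g z) = g (pullback.snd f g z) :=
    fun z => congr(($(pullback.condition (f := f) (g := g))).base z)
  have hinj : Function.Injective f.base := by
    intro x x' e
    obtain ⟨y', hy'⟩ := g.surjective (f x)
    obtain ⟨z, hz₁, hz₂⟩ := Scheme.Pullback.exists_preimage_pullback x y' hy'.symm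
    obtain ⟨z', hz₁', hz₂'⟩ := Scheme.Pullback.exists_preimage_pullback x' y'
      ((show f x = f x' from e).symm.trans hy'.symm)
    obtain rfl : z = z' := h.injective (hz₂.trans hz₂'.symm)
    exact hz₁.symm.trans hz₁'
  refine ⟨Topology.isInducing_iff _ |>.2 (le_antisymm f.continuous.le_induced ?_), hinj⟩
  intro U hU
  let F : TopologicalSpace.Closeds X := ⟨Uᶜ, hU.isClosed_compl⟩
  let i := (Scheme.IdealSheafData.vanishingIdeal F).subschemeι
  have hir : Set.range i.base = Uᶜ := by
    show Set.range (Scheme.IdealSheafData.vanishingIdeal F).subschemeι = _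
    rw [Scheme.IdealSheafData.range_subschemeι, Scheme.IdealSheafData.coe_support_vanishingIdeal]
    rfl
  rw [isOpen_induced_iff]
  refine ⟨(closure (Set.range (i ≫ f).base))ᶜ, isClosed_closure.isOpen_compl, ?_⟩
  ext x
  simp only [Set.mem_preimage, Set.mem_compl_iff]
  constructor
  · intro hx
    by_contra hxU
    obtain ⟨w, hw⟩ : x ∈ Set.range i.base := hir ▸ hxU
    exact hx (subset_closure ⟨w, congrArg f.base hw⟩)
  · intro hxU hx
    obtain ⟨w, hw⟩ := Groth.Agent.FDescent.exists_specializes_of_mem_closure_range (i ≫ f) hx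
    obtain ⟨y', hy'⟩ := g.surjective (f x)
    have hw' : (i ≫ f).base w ⤳ g y' := hy'.symm ▸ hw
    obtain ⟨y₁, hy₁, hgy₁⟩ := Flat.generalizingMap g hw'
    obtain ⟨z, hz₁, hz₂⟩ := Scheme.Pullback.exists_preimage_pullback x y' hy'.symm
    obtain ⟨z₁, hz₁', hz₂'⟩ := Scheme.Pullback.exists_preimage_pullback (i w) y₁ hgy₁.symm
    have hs : z₁ ⤳ z := h.toIsInducing.specializes_iff.1 (hz₂ ▸ hz₂' ▸ hy₁)
    have hxw : i w ⤳ x := hz₁ ▸ hz₁' ▸ hs.map (pullback.fst f g).continuous
    have hcl : IsClosed (Uᶜ) := hU.isClosed_compl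
    exact hxw.mem_closed hcl (hir ▸ ⟨w, rfl⟩) hxU

end Groth.Agent.S5133
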