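import Groth.Statements.S5135
import Mathlib.RingTheory.Flat.Basic
import Mathlib.LinearAlgebra.TensorProduct.Tower
import Mathlib.RingTheory.TensorProduct.Maps

set_option autoImplicit false
universe u
open scoped TensorProduct
open SGA1

namespace Groth.Agent.S5135

/-- The affine case, in submodule form (descent of submodules, equivalently of quotient modules): for A
⟶ A' faithfully flat, M an A-module and N' an A'-submodule of A' ⊗ M whose two extensions to (A' ⊗
A') ⊗ M, along a ↦ a ⊗ 1 and a ↦ 1 ⊗ a, generate the same submodule, N' is the base change of the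
submodule of M formed by the elements m with 1 ⊗ m in N'. -/
theorem result (A A' : Type u) [CommRing A] [CommRing A'] [Algebra A A']
    [Module.FaithfullyFlat A A'] (M : Type u) [AddCommGroup M] [Module A M] (N' : Submodule A' (A' ⊗[A] M))
    (h : Submodule.span (A' ⊗[A] A')
          ((N'.restrictScalars A).map
            ((Algebra.TensorProduct.includeLeft : A' →ₐ[A] A' ⊗[A] A').toLinearMap.rTensor M) : Set ((A' ⊗[A] A') ⊗[A] M)) =
        Submodule.span (A' ⊗[A] A')
          ((N'.restrictScalars A).map
            ((Algebra.TensorProduct.includeRight : A' →ₐ[A] A' ⊗[A] A').toLinearMap.rTensor M) : Set ((A' ⊗[A] A') ⊗[A] M))) :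
    ((N'.restrictScalars A).comap (TensorProduct.mk A A' M 1)).baseChange A' = N' := by
  classical
  set M₀ := (N'.restrictScalars A).comap (TensorProduct.mk A A' M 1) with hM₀
  refine le_antisymm ?_ ?_
  · rw [Submodule.baseChange_eq_span, Submodule.span_le]
    rintro _ ⟨m, hm, rfl⟩
    exact hm
  intro x hx
  let q : A' ⊗[A] M →ₗ[A] (A' ⊗[A] M) ⧸ N' := N'.mkQ.restrictScalars A
  let φ : M →ₗ[A] (A' ⊗[A] M) ⧸ N' := q ∘ₗ TensorProduct.mk A A' M 1
  let Ψ : (A' ⊗[A] A') ⊗[A] M →ₗ[A] A' ⊗[A] ((A' ⊗[A] M) ⧸ N') :=
    q.lTensor A' ∘ₗ (TensorProduct.assoc A A' A' M).toLinearMap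
  have hleft : ∀ y, Ψ ((Algebra.TensorProduct.includeLeft :
      A' →ₐ[A] A' ⊗[A] A').toLinearMap.rTensor M y) = φ.lTensor A' y := by
    intro y
    induction y using TensorProduct.induction_on with
    | zero => simp
    | tmul a m => simp [Ψ, φ]
    | add a b ha hb => simp only [map_add, ha, hb]
  have hright : ∀ (c d : A') (y : A' ⊗[A] M), Ψ ((c ⊗ₜ[A] d) • (Algebra.TensorProduct.includeRight :
      A' →ₐ[A] A' ⊗[A] A').toLinearMap.rTensor M y) = c ⊗ₜ[A] q (d • y) := by
    intro c d y
    induction y using TensorProduct.induction_on with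
    | zero => simp
    | tmul a m =>
      simp [Ψ, TensorProduct.smul_tmul']
    | add a b ha hb => simp only [map_add, smul_add, ha, hb, TensorProduct.tmul_add]
  have hzero : ∀ z ∈ Submodule.span (A' ⊗[A] A')
      ((N'.restrictScalars A).map ((Algebra.TensorProduct.includeRight :
        A' →ₐ[A] A' ⊗[A] A').toLinearMap.rTensor M) : Set ((A' ⊗[A] A') ⊗[A] M)), Ψ z = 0 := by
    intro z hz
    suffices ∀ t : A' ⊗[A] A', Ψ (t • z) = 0 by simpa using this 1
    induction hz using Submodule.span_induction with
    | mem z hz =>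
      obtain ⟨y, hy, rfl⟩ := hz
      intro t
      induction t using TensorProduct.induction_on with
      | zero => simp
      | tmul c d =>
        rw [hright]
        have : q (d • y) = 0 := (Submodule.Quotient.mk_eq_zero N').2 (N'.smul_mem d hy)
        rw [this, TensorProduct.tmul_zero]
      | add a b ha hb => rw [add_smul, map_add, ha, hb, add_zero]
    | zero => intro t; simp
    | add a b _ _ ha hb => intro t; rw [smul_add, map_add, ha, hb, add_zero]
    | smul s a _ ha => intro t; rw [smul_smul]; exact ha _
  have hker : φ.lTensor A' x = 0 := by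
    rw [← hleft]
    refine hzero _ ?_
    rw [← h]
    exact Submodule.subset_span ⟨x, hx, rfl⟩
  have hM : LinearMap.ker φ = M₀ := by
    ext m
    exact Submodule.Quotient.mk_eq_zero N'
  have hex : Function.Exact M₀.subtype φ := by
    rw [LinearMap.exact_iff, hM, Submodule.range_subtype]
  obtain ⟨w, rfl⟩ := (Module.Flat.lTensor_exact A' hex x).1 hker
  clear hx hker
  induction w using TensorProduct.induction_on with
  | zero => simp
  | tmul a m => exact Submodule.tmul_mem_baseChange_of_mem a m.2
  | add a b ha hb =>
    rw [map_add]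
    exact add_mem ha hb

end Groth.Agent.S5135
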