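import Groth.Statements.S5136
import Groth.Agent.S4667

set_option autoImplicit false
open CategoryTheory CategoryTheory.Limits AlgebraicGeometry
universe u
open SGA1

namespace Groth.Agent.S5136

/-- The existence half of the exactness of H(S) ⟶ H(S') ⇉ H(S'') for closed subschemes: for g : S' ⟶ S
flat, surjective and quasi-compact, a quasi-coherent ideal sheaf on S' whose pullbacks along the two
projections of S' ×_S S' agree is the pullback of a quasi-coherent ideal sheaf on S. (Injectivity of
the pullback of ideal sheaves along g is the other half.) -/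
theorem result {S S' : Scheme.{u}} (g : S' ⟶ S) [Flat g] [Surjective g]
    [QuasiCompact g] (J' : S'.IdealSheafData)
    (h : J'.comap (pullback.fst g g) = J'.comap (pullback.snd g g)) :
    ∃ J : S.IdealSheafData, J.comap g = J' := by
  refine ⟨(J'.subschemeι ≫ g).ker, le_antisymm ?_ ?_⟩
  · rw [← Scheme.IdealSheafData.le_map_iff_comap_le]
    exact le_rfl
  haveI : QuasiCompact (J'.subschemeι ≫ g) := inferInstance
  have e : (pullback.snd (J'.subschemeι ≫ g) g).ker =
      (J'.comap (pullback.fst g g)).map (pullback.snd g g) := by
    rw [← Scheme.Hom.ker_comp_of_isIso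
        (pullbackRightPullbackFstIso g g J'.subschemeι).hom (pullback.snd (J'.subschemeι ≫ g) g),
      pullbackRightPullbackFstIso_hom_snd, Scheme.Hom.ker_comp]
    congr 1
    rw [← pullbackSymmetry_hom_comp_fst, Scheme.Hom.ker_comp_of_isIso,
      Scheme.IdealSheafData.ker_fst_of_isClosedImmersion, Scheme.IdealSheafData.ker_subschemeι]
  rw [← Groth.Agent.S4667.result (J'.subschemeι ≫ g) g, e, h]
  exact Scheme.IdealSheafData.le_map_comap _ _

end Groth.Agent.S5136
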