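import Groth.Statements.S5138
import Groth.Agent.FlatPtDesc.Source
-- import your own Groth.Agent.* helpers here

set_option autoImplicit false
open CategoryTheory AlgebraicGeometry
universe u
open SGA1

namespace Groth.Agent.S5138

/-- For X ⟶ X' ⟶ Y locally of finite type over a locally Noetherian Y and a point x of X, if X ⟶ X' and
the composite X ⟶ Y are both etale near x then X' ⟶ Y is etale near the image of x; 'etale near a
point' is membership in the etale locus, the union of the opens on which the morphism is etale. (The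
published statement takes the morphisms of finite type; quasi-compactness plays no role in this
assertion about single points, so only local finiteness is assumed.) -/
theorem result {X X' Y : Scheme.{u}} (f : X ⟶ X') (g : X' ⟶ Y)
    [IsLocallyNoetherian Y] [LocallyOfFiniteType f] [LocallyOfFiniteType g] (x : X)
    (hf : x ∈ Pi1X.etaleLocus f) (hfg : x ∈ Pi1X.etaleLocus (f ≫ g)) : f.base x ∈ Pi1X.etaleLocus g := by
  
  haveI : LocallyOfFinitePresentation g := inferInstance
  haveI : LocallyOfFinitePresentation (f ≫ g) := inferInstance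
  obtain ⟨U, hU : Etale (Scheme.Opens.ι U ≫ f), hxU⟩ := TopologicalSpace.Opens.mem_sSup.1 hf
  obtain ⟨W, hW : Etale (Scheme.Opens.ι W ≫ f ≫ g), hxW⟩ := TopologicalSpace.Opens.mem_sSup.1 hfg
  have hflat : (f.stalkMap x).hom.Flat := (FibFlat.flat_stalk_open_comp (Scheme.Opens.ι U) f ⟨x, hxU⟩).1
    (Flat.stalkMap (Scheme.Opens.ι U ≫ f) ⟨x, hxU⟩)
  obtain ⟨V, hV, hVe⟩ := Groth.Agent.FlatPtDesc.etale_nhd_source g f x hflat ⟨W, hxW, hW⟩
  exact TopologicalSpace.Opens.mem_sSup.2 ⟨V, hVe, hV⟩

end Groth.Agent.S5138
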