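import Groth.Statements.S5153
import Groth.Agent.S0335
import Groth.Agent.S2277
import Mathlib.AlgebraicGeometry.Noetherian
import Mathlib.AlgebraicGeometry.Stalk
import Mathlib.Topology.Sober

set_option autoImplicit false
universe u
open AlgebraicGeometry
open LocCoh

namespace Groth.Agent.S5153

open AlgebraicGeometry CategoryTheory TopologicalSpace Topology

variable {X : Scheme.{u}}

theorem exists_noetherian_nhd [IsLocallyNoetherian X] (x : X) :
    ∃ U : X.Opens, x ∈ U ∧ NoetherianSpace ((U : Set X) : Type u) := by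
  obtain ⟨_, ⟨U, hU, rfl⟩, hxU, -⟩ :=
    X.isBasis_affineOpens.exists_subset_of_mem_open (Set.mem_univ x) isOpen_univ
  haveI := IsLocallyNoetherian.component_noetherian ⟨U, hU⟩
  exact ⟨U, hxU, noetherianSpace_of_isAffineOpen U hU⟩

/-- In a locally Noetherian scheme the closure of an open set consists of specializations. -/
theorem exists_specializes_of_mem_closure [IsLocallyNoetherian X] {W : Set X} (hW : IsOpen W) {y : X}
    (hy : y ∈ closure W) : ∃ w ∈ W, w ⤳ y := by
  obtain ⟨V, hyV, hV⟩ := exists_noetherian_nhd y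
  haveI := hV
  let T : Set X := W ∩ V
  haveI : NoetherianSpace T := NoetherianSpace.of_subset Set.inter_subset_right
  have hyT : y ∈ closure T := by
    rw [mem_closure_iff] at hy ⊢
    intro o ho hyo
    obtain ⟨z, ⟨hzo, hzV⟩, hzW⟩ := hy (o ∩ V) (ho.inter V.2) ⟨hyo, hyV⟩
    exact ⟨z, hzo, hzW, hzV⟩
  have hfin : (irreducibleComponents T).Finite := NoetherianSpace.finite_irreducibleComponents
  have hT : T = ⋃ Z ∈ irreducibleComponents T, (Subtype.val '' Z) := by
    ext z
    simp only [Set.mem_iUnion, Set.mem_image]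
    constructor
    · intro hz
      exact ⟨irreducibleComponent ⟨z, hz⟩, irreducibleComponent_mem_irreducibleComponents _, ⟨z, hz⟩,
        mem_irreducibleComponent, rfl⟩
    · rintro ⟨Z, -, z, -, rfl⟩; exact z.2
  rw [hT, hfin.closure_biUnion] at hyT
  obtain ⟨Z, hZ, hyZ⟩ := Set.mem_iUnion₂.1 hyT
  have hirr : IsIrreducible (closure (Subtype.val '' Z)) :=
    (hZ.1.image _ continuous_subtype_val.continuousOn).closure
  obtain ⟨z, hz⟩ := hZ.1.nonempty
  refine ⟨hirr.genericPoint, ?_, hirr.isGenericPoint_genericPoint_closure.specializes ?_⟩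
  · exact (hirr.isGenericPoint_genericPoint_closure.mem_open_set_iff hW).2
      ⟨z, subset_closure (subset_closure ⟨z, hz, rfl⟩), z.2.1⟩
  · rwa [closure_closure]

/-- The punctured generizations of a point of depth two form a connected set. -/
theorem isConnected_generizations [IsLocallyNoetherian X] (y : X)
    (h : (2 : ℕ∞) ≤ LocCoh.depth (X.presheaf.stalk y) (X.presheaf.stalk y)) :
    _root_.IsConnected {z : X | z ⤳ y ∧ z ≠ y} := by
  have hc := Groth.Agent.S0335.result (X.presheaf.stalk y) h
  have e : {z : X | z ⤳ y ∧ z ≠ y} = (X.fromSpecStalk y) ''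
      {x : PrimeSpectrum (X.presheaf.stalk y) | x.asIdeal ≠ IsLocalRing.maximalIdeal (X.presheaf.stalk y)} := by
    ext z
    constructor
    · rintro ⟨hz, hne⟩
      obtain ⟨w, hw⟩ := (X.range_fromSpecStalk (x := y)).ge hz
      refine ⟨w, fun hm => hne ?_, hw⟩
      rw [← hw, show w = IsLocalRing.closedPoint _ from PrimeSpectrum.ext hm, X.fromSpecStalk_closedPoint]
    · rintro ⟨w, hw, rfl⟩
      refine ⟨(X.range_fromSpecStalk (x := y)).le ⟨w, rfl⟩, fun he => hw ?_⟩
      have := (X.fromSpecStalk y).isEmbedding.injective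
        (he.trans (X.fromSpecStalk_closedPoint (x := y)).symm)
      exact congrArg PrimeSpectrum.asIdeal this
  rw [e]
  exact hc.image _ (X.fromSpecStalk y).continuous.continuousOn

/-- The points outside `U` are specializations of points of `U`. -/
theorem exists_mem_specializes [IsLocallyNoetherian X] (U : X.Opens)
    (h : ∀ x : X, x ∉ (U : Set X) → (2 : ℕ∞) ≤ LocCoh.depth (X.presheaf.stalk x) (X.presheaf.stalk x))
    (x : X) : ∃ z ∈ U, z ⤳ x := by
  have hirr : IsIrreducible (irreducibleComponent x) := isIrreducible_irreducibleComponent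
  have hg : IsGenericPoint hirr.genericPoint (irreducibleComponent x) :=
    hirr.isGenericPoint_genericPoint isClosed_irreducibleComponent
  refine ⟨hirr.genericPoint, ?_, hg.specializes mem_irreducibleComponent⟩
  by_contra hU
  obtain ⟨z, hz, hne⟩ := (isConnected_generizations _ (h _ hU)).nonempty
  have hsub : irreducibleComponent x ⊆ closure {z} := by
    rw [← hg.def]; exact specializes_iff_closure_subset.1 hz
  have heq : closure {z} = irreducibleComponent x :=
    eq_irreducibleComponent (isIrreducible_singleton.closure.isPreirreducible) hsub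
  exact hne ((show IsGenericPoint z (irreducibleComponent x) from heq).eq hg)

end Groth.Agent.S5153

namespace Groth.Agent.S5153

open AlgebraicGeometry CategoryTheory TopologicalSpace Topology


/-- Let X be a locally Noetherian scheme and Y = X − U a closed subset such that depth O_{X,x} ≥ 2 for
every x ∈ Y. Then the inclusion U → X induces a bijection on sets of connected components. -/
theorem result (X : Scheme.{u}) [IsLocallyNoetherian X] (U : X.Opens) (h : ∀ x : X, x ∉ (U : Set X) → (2 : ℕ∞) ≤ LocCoh.depth (X.presheaf.stalk x) (X.presheaf.stalk x)) : Function.Bijective (Continuous.connectedComponentsMap (continuous_subtype_val : Continuous (fun x : U => (x : X)))) := by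
  classical
  haveI : LocallyConnectedSpace X := Groth.Agent.S2277.result X fun x => by
    obtain ⟨V, hx, hV⟩ := exists_noetherian_nhd x
    exact ⟨V, V.2.mem_nhds hx, hV⟩
  refine ⟨?_, fun c => ?_⟩
  · intro a b hab
    obtain ⟨⟨u, hu⟩, rfl⟩ := ConnectedComponents.surjective_coe a
    obtain ⟨⟨v, hv⟩, rfl⟩ := ConnectedComponents.surjective_coe b
    have hC : connectedComponent u = connectedComponent v := ConnectedComponents.coe_eq_coe.1 hab
    set C := connectedComponent u
    have hCo : IsOpen C := isOpen_connectedComponent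
    have hgenC : ∀ {z y : X}, z ⤳ y → y ∈ C → z ∈ C := fun {z y} hzy hy => hzy.mem_open hCo hy
    suffices hpre : _root_.IsPreconnected (C ∩ U) by
      have hpre' : _root_.IsPreconnected ((Subtype.val : U → X) ⁻¹' C) := by
        refine Topology.IsInducing.subtypeVal.isPreconnected_image.1 ?_
        convert hpre using 1
        ext z
        constructor
        · rintro ⟨w, hw, rfl⟩; exact ⟨hw, w.2⟩
        · rintro ⟨hz, hzU⟩; exact ⟨⟨z, hzU⟩, hz, rfl⟩
      refine ConnectedComponents.coe_eq_coe.2 (connectedComponent_eq ?_)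
      exact hpre'.subset_connectedComponent (show (⟨u, hu⟩ : U) ∈ _ from mem_connectedComponent)
        (show v ∈ C from hC ▸ mem_connectedComponent)
    intro O1 O2 hO1 hO2 hcov ⟨a, ha, ha1⟩ ⟨b, hb, hb2⟩
    by_contra hne
    rw [Set.not_nonempty_iff_eq_empty] at hne
    set W1 := C ∩ U ∩ O1
    set W2 := C ∩ U ∩ O2
    have hW1o : IsOpen W1 := (hCo.inter U.2).inter hO1
    have hW2o : IsOpen W2 := (hCo.inter U.2).inter hO2
    have hdisj : W1 ∩ W2 = ∅ := Set.eq_empty_iff_forall_notMem.2 fun z hz =>
      Set.eq_empty_iff_forall_notMem.1 hne z ⟨hz.1.1, hz.1.2, hz.2.2⟩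
    have hcovC : C ⊆ closure W1 ∪ closure W2 := by
      intro x hx
      obtain ⟨z, hzU, hzx⟩ := exists_mem_specializes U h x
      have hzC := hgenC hzx hx
      rcases hcov ⟨hzC, hzU⟩ with h1 | h2
      · exact Or.inl (hzx.mem_closed isClosed_closure (subset_closure ⟨⟨hzC, hzU⟩, h1⟩))
      · exact Or.inr (hzx.mem_closed isClosed_closure (subset_closure ⟨⟨hzC, hzU⟩, h2⟩))
    set M := C ∩ (closure W1 ∩ closure W2)
    obtain ⟨x, hxC, hx12⟩ := isPreconnected_closed_iff.1 isPreconnected_connectedComponent _ _
      isClosed_closure isClosed_closure hcovC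
      ⟨a, ha.1, subset_closure ⟨ha, ha1⟩⟩ ⟨b, hb.1, subset_closure ⟨hb, hb2⟩⟩
    have hMc : IsClosed M := isClosed_connectedComponent.inter (isClosed_closure.inter isClosed_closure)
    -- a generic point of the intersection
    let Z := irreducibleComponent (⟨x, hxC, hx12⟩ : M)
    have hZirr : IsIrreducible (closure (Subtype.val '' Z)) :=
      (isIrreducible_irreducibleComponent.image _ continuous_subtype_val.continuousOn).closure
    obtain ⟨y, hy⟩ : ∃ y, y = hZirr.genericPoint := ⟨_, rfl⟩
    have hyg : IsGenericPoint y (closure (Subtype.val '' Z)) := by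
      have := hZirr.isGenericPoint_genericPoint_closure
      rwa [closure_closure, ← hy] at this
    have hyM : y ∈ M := (closure_minimal (Subtype.coe_image_subset M Z) hMc) hyg.mem
    have hmax : ∀ z ∈ M, z ⤳ y → z = y := by
      intro z hz hzy
      have hsub : Z ⊆ closure {(⟨z, hz⟩ : M)} := by
        intro w hw
        rw [← specializes_iff_mem_closure, ← Topology.IsInducing.subtypeVal.specializes_iff]
        exact hzy.trans (hyg.specializes (subset_closure ⟨w, hw, rfl⟩))
      have heq := eq_irreducibleComponent (isIrreducible_singleton.closure.isPreirreducible) hsub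
      have hzy' : y ⤳ z := hyg.specializes (subset_closure ⟨⟨z, hz⟩, by
        change (⟨z, hz⟩ : M) ∈ irreducibleComponent _
        rw [← heq]; exact subset_closure rfl, rfl⟩)
      exact (hzy.antisymm hzy').eq
    have hcl : ∀ {w : X} {W W' : Set X}, IsOpen W → W ∩ W' = ∅ → w ∈ W → w ∉ closure W' :=
      fun {w W W'} ho he hw hc => by
        obtain ⟨z, hz⟩ := mem_closure_iff.1 hc W ho hw
        exact Set.eq_empty_iff_forall_notMem.1 he z hz
    have hyU : y ∉ (U : Set X) := fun hyU => by
      rcases hcov ⟨hyM.1, hyU⟩ with h1 | h2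
      · exact hcl hW1o hdisj ⟨⟨hyM.1, hyU⟩, h1⟩ hyM.2.2
      · exact hcl hW2o (by rw [Set.inter_comm]; exact hdisj) ⟨⟨hyM.1, hyU⟩, h2⟩ hyM.2.1
    have hG := isConnected_generizations y (h y hyU)
    obtain ⟨w1, hw1, hw1y⟩ := exists_specializes_of_mem_closure hW1o hyM.2.1
    obtain ⟨w2, hw2, hw2y⟩ := exists_specializes_of_mem_closure hW2o hyM.2.2
    obtain ⟨z, ⟨hzy, hzne⟩, hz1, hz2⟩ := hG.isPreconnected (closure W2)ᶜ (closure W1)ᶜ
      isClosed_closure.isOpen_compl isClosed_closure.isOpen_compl
      (fun z hz => by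
        rcases Classical.em (z ∈ closure W2) with h2 | h2
        · exact Or.inr fun h1 => hz.2 (hmax z ⟨hgenC hz.1 hyM.1, h1, h2⟩ hz.1)
        · exact Or.inl h2)
      ⟨w1, ⟨hw1y, fun e => hyU (e ▸ hw1.1.2)⟩, hcl hW1o hdisj hw1⟩
      ⟨w2, ⟨hw2y, fun e => hyU (e ▸ hw2.1.2)⟩, hcl hW2o (by rw [Set.inter_comm]; exact hdisj) hw2⟩
    exact (hcovC (hgenC hzy hyM.1)).elim hz2 hz1
  · obtain ⟨x, rfl⟩ := ConnectedComponents.surjective_coe c
    obtain ⟨z, hzU, hzx⟩ := exists_mem_specializes U h x
    refine ⟨ConnectedComponents.mk ⟨z, hzU⟩, ?_⟩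
    change ConnectedComponents.mk z = ConnectedComponents.mk x
    exact ConnectedComponents.coe_eq_coe.2 (connectedComponent_eq
      (hzx.mem_closed isClosed_connectedComponent mem_connectedComponent)).symm.symm

end Groth.Agent.S5153
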