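import Groth.Statements.S5154
import Groth.Agent.HartConn.Basic
import Groth.Agent.FlatLoc6.EquidimCat
import Mathlib.RingTheory.Ideal.Height

set_option autoImplicit false
universe u
open LocCoh

namespace Groth.Agent.S5154

open Groth.Agent

/-- Let A be a Noetherian local ring which is catenary and such that depth A_p ≥ 2 for every prime p
with dim A_p ≥ 2. Then all irreducible components of Spec A have dimension dim A: for every minimal
prime p, dim A/p = dim A. -/
theorem result (A : Type u) [CommRing A] [IsLocalRing A] [IsNoetherianRing A] (hc : CAlg.IsCatenary A) (h : ∀ p : PrimeSpectrum A, (2 : ℕ∞) ≤ p.asIdeal.height → (2 : ℕ∞) ≤ LocCoh.depth (Localization.AtPrime p.asIdeal) (Localization.AtPrime p.asIdeal)) (p : Ideal A) (hp : p ∈ minimalPrimes A) : ringKrullDim (A ⧸ p) = ringKrullDim A := by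
  classical
  have hall : ∀ q ∈ minimalPrimes A, ringKrullDim (A ⧸ q) = ringKrullDim (A ⧸ p) := by
    by_contra hne
    push Not at hne
    obtain ⟨q₀, hq₀, hne⟩ := hne
    set P1 := {q ∈ minimalPrimes A | ringKrullDim (A ⧸ q) = ringKrullDim (A ⧸ p)}
    set P2 := minimalPrimes A \ P1
    obtain ⟨a, b, -, ha, hb, hkey⟩ := HartConn.exists_meet P1 P2
      (Set.union_sdiff_cancel fun q hq => hq.1) Set.disjoint_sdiff_right
    have hab : a ⊔ b ≠ ⊤ := fun htop => (IsLocalRing.maximalIdeal.isMaximal A).ne_top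
      (top_le_iff.1 (htop.ge.trans (sup_le
        ((ha p ⟨hp, rfl⟩).trans (IsLocalRing.le_maximalIdeal hp.1.1.ne_top))
        ((hb q₀ ⟨hq₀, fun h => hne h.2⟩).trans (IsLocalRing.le_maximalIdeal hq₀.1.1.ne_top)))))
    obtain ⟨P, hP⟩ := Ideal.nonempty_minimalPrimes hab
    obtain ⟨hPp, p1, hp1, p2, hp2, h1, h2, hd⟩ := hkey P hP
    haveI := hPp
    have hlt : ∀ p0 ∈ minimalPrimes A, p0 ≤ P → p0 ≠ P →
        ringKrullDim (A ⧸ p0) = ringKrullDim (A ⧸ P) + 1 := by
      intro p0 hp0 hle hne0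
      haveI : p0.IsPrime := hp0.1.1
      refine FlatLoc6.ringKrullDim_quotient_covBy hc (p := ⟨p0, hp0.1.1⟩) (q := ⟨P, hPp⟩)
        ⟨lt_of_le_of_ne hle fun e => hne0 (congrArg PrimeSpectrum.asIdeal e), fun z hz hz' => ?_⟩
      have hz1 : (1 : ℕ∞) ≤ z.asIdeal.height := by
        rw [Order.one_le_iff_ne_zero, Ne, Ideal.height_eq_zero_iff]
        exact fun hz0 => hz.ne (PrimeSpectrum.ext (le_antisymm hz.le (hz0.2 ⟨hp0.1.1, bot_le⟩ hz.le)))
      have hz2 : z.asIdeal.height < P.height := by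
        haveI := z.2
        exact Ideal.height_strict_mono_of_isPrime hz'
      refine hd (h ⟨P, hPp⟩ ?_)
      exact le_trans (add_le_add hz1 le_rfl) (Order.add_one_le_of_lt hz2)
    have hp12 : p1 ≠ p2 := fun e => hp2.2 (e ▸ hp1)
    have hne1 : p1 ≠ P := fun e => hp12 (le_antisymm (hp1.1.2 hp2.1.1 (h2.trans e.ge)) (h2.trans e.ge))
    have hne2 : p2 ≠ P := fun e => hp12 (le_antisymm (h1.trans e.ge) (hp2.1.2 hp1.1.1 (h1.trans e.ge)))
    exact hp2.2 ⟨hp2.1, ((hlt p2 hp2.1 h2 hne2).trans (hlt p1 hp1.1 h1 hne1).symm).trans hp1.2⟩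
  refine le_antisymm (ringKrullDim_le_of_surjective (Ideal.Quotient.mk p) Ideal.Quotient.mk_surjective) ?_
  let m := IsLocalRing.closedPoint A
  have hfin : Order.height m ≠ ⊤ := by
    rw [← m.height_eq_orderHeight]
    exact Ideal.height_ne_top m.2.ne_top
  obtain ⟨n, hn⟩ := ENat.ne_top_iff_exists.1 hfin
  obtain ⟨l, hl, hlen, hsat, hhead⟩ := DimFormula.exists_saturated_series hn.symm
  obtain ⟨l', hh', hl', hs', hd'⟩ := FlatLoc6.exists_saturated_to_closedPoint l.head
  have hmin : l.head.asIdeal ∈ minimalPrimes A := by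
    refine ⟨⟨l.head.2, bot_le⟩, fun Q hQ hle => ?_⟩
    exact Order.height_eq_zero.1 hhead (show (⟨Q, hQ.1⟩ : PrimeSpectrum A) ≤ l.head from hle)
  rw [← hall _ hmin, ← hd', ← hc.2 l l' hh'.symm (hl.trans hl'.symm) hsat hs', hlen, hn,
    ← m.height_eq_orderHeight]
  exact IsLocalRing.maximalIdeal_height_eq_ringKrullDim.ge

end Groth.Agent.S5154
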