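import Groth.Statements.S5157
import Groth.Agent.LC.MatlisExtra

set_option autoImplicit false
universe u
open Matlis

namespace Groth.Agent.S5157

/-- Let A be a Noetherian local ring, a an ideal with A/a local (i.e. a ≠ A) and E an injective hull of
the residue field of A. Then the annihilator of a in E, E[a] = {e | a e = 0}, is an injective hull
of the residue field of A/a over A/a. -/
theorem result (A : Type u) [CommRing A] [IsLocalRing A] [IsNoetherianRing A] (a : Ideal A) [IsLocalRing (A ⧸ a)] (E : Type u) [AddCommGroup E] [Module A E] (f : IsLocalRing.ResidueField A →ₗ[A] E) (hf : InjHull.IsInjectiveHull f) : ∃ g : IsLocalRing.ResidueField (A ⧸ a) →ₗ[A ⧸ a] (LocCoh.torsionBy a E), InjHull.IsInjectiveHull g := by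
  exact Groth.Agent.LC.hull_quotient a hf

end Groth.Agent.S5157
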