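import Groth.Statements.S5159
import Groth.Agent.LC.GorRows
import Groth.Agent.LC.CohTorsion
import Groth.Agent.KFlatLib.Ring.DualizingMatlis
-- import your own Groth.Agent.* helpers here

set_option autoImplicit false
universe u
open CategoryTheory Opposite
open Dual

namespace Groth.Agent.S5159

/-- Let A be a regular local ring of dimension n and M an A-module of finite length. Then Ext^i_A(M, A)
= 0 for i ≠ n and length Ext^n_A(M, A) = length M (the functor Ext^n_A(−, A) is dualizing). -/
theorem result (A : Type u) [CommRing A] [IsRegularLocalRing A] (n : ℕ) (hn : ringKrullDim A = n) (M : Type u) [AddCommGroup M] [Module A M] (hM : IsFiniteLength A M) : (∀ i : ℕ, i ≠ n → Subsingleton (((Ext A (ModuleCat.{u} A) i).obj (op (ModuleCat.of A M))).obj (ModuleCat.of A A))) ∧ Module.length A (((Ext A (ModuleCat.{u} A) n).obj (op (ModuleCat.of A M))).obj (ModuleCat.of A A)) = Module.length A M := by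
  haveI := LC.gorenstein_of_isRegularLocalRing (R := A)
  haveI : IsNoetherian A M := (isFiniteLength_iff_isNoetherian_isArtinian.1 hM).1
  obtain ⟨E, _, _, f, hf⟩ := LC.exists_injectiveHull A (IsLocalRing.ResidueField A)
  obtain ⟨k, hk⟩ := KFlatLib.exists_pow_smul_eq_zero M hM
  have htor : LocCoh.IsPowerTorsion (IsLocalRing.maximalIdeal A) M := fun x => ⟨k, fun a ha => hk a ha x⟩
  have hbr : ∀ i : ℕ, (((Ext A (ModuleCat.{u} A) i).obj (op (ModuleCat.of A M))).obj (ModuleCat.of A A)) ≃ₗ[A]
      Abelian.Ext (ModuleCat.of A M) (ModuleCat.of A A) i :=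
    fun i => LC.ExtBridge.bridge (projectiveResolution (ModuleCat.of A M)) (ModuleCat.of A A) i
  refine ⟨fun i hi => ?_, ?_⟩
  · suffices Subsingleton (Abelian.Ext (ModuleCat.of A M) (ModuleCat.of A A) i) from (hbr i).toEquiv.subsingleton
    rcases lt_or_gt_of_ne hi with h | h
    · obtain ⟨e⟩ := LC.exists_localDuality_gorenstein n hn E hf M i (n - i - 1 + 1) (by omega)
      haveI := LC.subsingleton_of_torsion (IsLocalRing.maximalIdeal A) (n - i - 1) (ModuleCat.of A M) htor
      exact (LC.subsingleton_iff_dual hf _).1 e.symm.injective.subsingleton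
    · obtain ⟨d', hd', -, hv⟩ := LC.gorenstein_basic (R := A)
      obtain rfl : n = d' := by rw [hn] at hd'; exact_mod_cast hd'
      exact hv M i h
  · obtain ⟨e⟩ := LC.exists_localDuality_gorenstein n hn E hf M n 0 (by omega)
    have e0 : (DRing.torsionSub (IsLocalRing.maximalIdeal A) (ModuleCat.of A M)) ≃ₗ[A]
        (Abelian.Ext (ModuleCat.of A M) (ModuleCat.of A A) n →ₗ[A] E) :=
      (LC.H0Equiv (IsLocalRing.maximalIdeal A) (ModuleCat.of A M)).symm.trans e
    have hfl : IsFiniteLength A (Abelian.Ext (ModuleCat.of A M) (ModuleCat.of A A) n →ₗ[A] E) := by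
      obtain ⟨h1, h2⟩ := isFiniteLength_iff_isNoetherian_isArtinian.1 hM
      haveI := h1
      haveI := h2
      haveI : IsNoetherian A (DRing.torsionSub (IsLocalRing.maximalIdeal A) (ModuleCat.of A M)) :=
        inferInstanceAs (IsNoetherian A (DRing.torsionSub (IsLocalRing.maximalIdeal A) M))
      haveI : IsArtinian A (DRing.torsionSub (IsLocalRing.maximalIdeal A) (ModuleCat.of A M)) :=
        inferInstanceAs (IsArtinian A (DRing.torsionSub (IsLocalRing.maximalIdeal A) M))
      exact isFiniteLength_iff_isNoetherian_isArtinian.2 ⟨isNoetherian_of_linearEquiv e0,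
        isArtinian_of_linearEquiv e0⟩
    let X := Abelian.Ext (ModuleCat.of A M) (ModuleCat.of A A) n
    have hX : IsFiniteLength A X := by
      have h2 : IsFiniteLength A ((X →ₗ[A] E) →ₗ[A] E) := by
        rw [← Module.length_ne_top_iff, LC.length_dual hf _ hfl, Module.length_ne_top_iff]
        exact hfl
      obtain ⟨a, b⟩ := isFiniteLength_iff_isNoetherian_isArtinian.1 h2
      haveI := a
      haveI := b
      exact isFiniteLength_iff_isNoetherian_isArtinian.2
        ⟨isNoetherian_of_injective _ (LC.applyₗ_injective hf X), isArtinian_of_injective _ (LC.applyₗ_injective hf X)⟩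
    rw [(hbr n).length_eq, ← LC.length_dual hf X hX, ← e0.length_eq]
    have htop : DRing.torsionSub (IsLocalRing.maximalIdeal A) M = ⊤ := LC.torsionSub_eq_top _ htor
    exact (LinearEquiv.ofTop _ htop).length_eq

end Groth.Agent.S5159
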