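import Groth.Statements.S5166
import Groth.Agent.LC.PrimeSel

set_option autoImplicit false
universe u
open LocCoh

namespace Groth.Agent.S5166

/-- In its local form at a point y ∈ Y (A = O_{X,y}). Let A be a Noetherian local ring and I ≠ A an
ideal contained in no minimal prime of A. Then some prime p ⊉ I has dim A/p = 1. -/
theorem result (A : Type u) [CommRing A] [IsLocalRing A] [IsNoetherianRing A] (I : Ideal A) (hI : I ≠ ⊤) (hdense : ∀ q ∈ minimalPrimes A, ¬ I ≤ q) : ∃ p : PrimeSpectrum A, ¬ I ≤ p.asIdeal ∧ ringKrullDim (A ⧸ p.asIdeal) = 1 := by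
  exact Groth.Agent.LC.exists_dim_one_not_containing I hI hdense

end Groth.Agent.S5166
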