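import Groth.Statements.S5171
import Groth.Agent.LC.DepthLoc

set_option autoImplicit false
universe u
open LocCoh

namespace Groth.Agent.S5171

/-- Let A be a Noetherian ring, J an ideal, n ≥ 0 and G a finite Cohen–Macaulay A-module (each
localization G_p is zero or Cohen–Macaulay). Then H^i_J(G) = 0 for i < n if and only if codim(V(J) ∩
Supp G, Supp G) ≥ n, i.e. dim Supp(G_p) ≥ n for every p ∈ V(J) ∩ Supp G. -/
theorem result (A : Type u) [CommRing A] [IsNoetherianRing A] (J : Ideal A) (G : Type u) [AddCommGroup G] [Module A G] [Module.Finite A G] (hCM : ∀ p : PrimeSpectrum A, Subsingleton (LocalizedModule p.asIdeal.primeCompl G) ∨ LocCoh.IsCohenMacaulayModule (Localization.AtPrime p.asIdeal) (LocalizedModule p.asIdeal.primeCompl G)) (n : ℕ) : (∀ i : ℕ, i < n → Subsingleton (LocCoh.H J i G)) ↔ ∀ p : PrimeSpectrum A, J ≤ p.asIdeal → p ∈ Module.support A G → (n : WithBot ℕ∞) ≤ Module.supportDim (Localization.AtPrime p.asIdeal) (LocalizedModule p.asIdeal.primeCompl G) := by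
  refine (Groth.Agent.LC.le_idealDepth_iff_H J G n).symm.trans ?_
  rw [Groth.Agent.LC.idealDepth_eq_iInf_depth J G, le_iInf₂_iff]
  refine forall_congr' fun p => forall_congr' fun hp => ?_
  rcases hCM p with hs | hcm
  · have : p ∉ Module.support A G := Module.notMem_support_iff.2 hs
    refine iff_of_true ?_ fun h => absurd h this
    rw [LocCoh.depth, LocCoh.idealDepth, if_pos (Subsingleton.elim _ _)]
    exact le_top
  · have := Groth.Agent.LC.nontrivial_of_isCM _ hcm
    have hmem : p ∈ Module.support A G := Module.mem_support_iff.2 this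
    unfold LocCoh.IsCohenMacaulayModule at hcm
    rw [hcm]
    exact ⟨fun h _ => by exact_mod_cast h, fun h => by exact_mod_cast h hmem⟩

end Groth.Agent.S5171
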