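import Groth.Statements.S5178
import Groth.Agent.GDepth6.Basic

set_option autoImplicit false
universe u
open CInt

namespace Groth.Agent.S5178

/-- Let A be a Noetherian local ring of dimension d, and let the completion of A be presented as B/I
with B a regular local ring of dimension e and I an ideal whose minimal number of generators is q,
so that e − q is the geometric depth of A (this number does not depend on the presentation). Then e
− q ≤ d, and equality holds if and only if A is a complete intersection, i.e. its completion is a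
regular local ring modulo an ideal generated by a regular sequence. -/
theorem result (A : Type u) [CommRing A] [IsLocalRing A] [IsNoetherianRing A] (B : Type u) [CommRing B] [IsRegularLocalRing B] (I : Ideal B) (hpres : Nonempty (AdicCompletion (IsLocalRing.maximalIdeal A) A ≃+* B ⧸ I)) (d e : ℕ) (hd : ringKrullDim A = (d : WithBot ℕ∞)) (he : ringKrullDim B = (e : WithBot ℕ∞)) : (e : ℤ) - (I.spanFinrank : ℤ) ≤ (d : ℤ) ∧ ((e : ℤ) - (I.spanFinrank : ℤ) = (d : ℤ) ↔ Pi1.IsCompleteIntersection A) := by
    obtain ⟨iso⟩ := hpres
    haveI := LC.Canon.isNoetherianRing_completion (R := A)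
    haveI : Nontrivial (B ⧸ I) := iso.symm.toEquiv.nontrivial
    haveI : IsLocalRing (B ⧸ I) := iso.isLocalRing
    have hdim : ringKrullDim (B ⧸ I) = (d : WithBot ℕ∞) :=
      ((ringKrullDim_eq_of_ringEquiv iso).symm.trans (CILib.ringKrullDim_adicCompletion A)).trans hd
    have hI : I ≤ IsLocalRing.maximalIdeal B :=
      IsLocalRing.le_maximalIdeal (Ideal.Quotient.nontrivial_iff.1 inferInstance)
    have hle : (e : WithBot ℕ∞) ≤ (d : WithBot ℕ∞) + (I.spanFinrank : ℕ) := by
      rw [← he, ← hdim]
      exact ringKrullDim_le_ringKrullDim_quotient_add_spanFinrank I ((IsLocalRing.ringJacobson_eq_maximalIdeal (R := B)).symm ▸ hI)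
    have hle' : e ≤ d + I.spanFinrank := by exact_mod_cast hle
    refine ⟨by omega, ?_, ?_⟩
    · intro heq
      obtain ⟨k, hk⟩ := GDepth6.exists_min_gens (IsNoetherian.noetherian I)
      have hci : Synt29.CIKer (Ideal.Quotient.mk I) := by
        refine ⟨I.spanFinrank, k, by rw [Ideal.mk_ker, hk], ?_⟩
        rw [he, hdim]
        exact_mod_cast (show e = d + I.spanFinrank by omega)
      obtain ⟨rs, hreg, hker⟩ := (Synt29.ciKer_iff_regular _ Ideal.Quotient.mk_surjective).1 hci
      rw [Ideal.mk_ker] at hker
      exact ⟨B, inferInstance, inferInstance, rs, fun r hr => hI (hker ▸ Ideal.subset_span hr), hreg,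
        ⟨iso.trans (Ideal.quotEquivOfEq hker)⟩⟩
    · rintro ⟨B', _, _, rs, hmem, hreg, ⟨iso'⟩⟩
      let σ : B' →+* AdicCompletion (IsLocalRing.maximalIdeal A) A :=
        iso'.symm.toRingHom.comp (Ideal.Quotient.mk _)
      have hσ : Function.Surjective σ := iso'.symm.surjective.comp Ideal.Quotient.mk_surjective
      let π : B →+* AdicCompletion (IsLocalRing.maximalIdeal A) A :=
        iso.symm.toRingHom.comp (Ideal.Quotient.mk I)
      have hπ : Function.Surjective π := iso.symm.surjective.comp Ideal.Quotient.mk_surjective
      have hπk : RingHom.ker π = I := by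
        ext x
        rw [RingHom.mem_ker]
        show iso.symm (Ideal.Quotient.mk _ x) = 0 ↔ _
        rw [map_eq_zero_iff iso.symm iso.symm.injective, Ideal.Quotient.eq_zero_iff_mem]
      have hσk : RingHom.ker σ = Ideal.ofList rs := by
        ext x
        rw [RingHom.mem_ker]
        show iso'.symm (Ideal.Quotient.mk _ x) = 0 ↔ _
        rw [map_eq_zero_iff iso'.symm iso'.symm.injective, Ideal.Quotient.eq_zero_iff_mem]
      obtain ⟨r, k, hk, hr⟩ := (Synt29.ciKer_iff_regular σ hσ).2 ⟨rs, hreg, hσk⟩
      have h := GDepth6.geomDepth_indep π hπ σ hσ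
      have h1 : (RingHom.ker σ).spanFinrank ≤ r := hk ▸ GDepth6.spanFinrank_span_range_le k
      rw [CILib.ringKrullDim_adicCompletion, hd, Synt29.ringKrullDim_eq_nat B'] at hr
      have hr' : (IsLocalRing.maximalIdeal B').spanFinrank = d + r := by exact_mod_cast hr
      rw [Synt29.ringKrullDim_eq_nat B] at he
      have he' : (IsLocalRing.maximalIdeal B).spanFinrank = e := by exact_mod_cast he
      rw [hπk] at h
      omega

end Groth.Agent.S5178
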