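import Groth.Statements.S5179
import Groth.Agent.GDepth6.Change

set_option autoImplicit false
universe u
open CInt

namespace Groth.Agent.S5179

/-- Let A → A' be a flat local homomorphism of Noetherian local rings such that m_A A' is the maximal
ideal of A' and the residue field of A' is a separable extension of the residue field k of A
(separable in the sense that it is formally smooth over k; so A' ⊗_A k is a field separable over k).
Present the completions as Â ≅ B/I and Â' ≅ B'/I' with B, B' regular local rings of dimensions e,
e'. Then e − μ(I) = e' − μ(I'), μ denoting the minimal number of generators: A and A' have the same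
geometric depth. -/
theorem result (A A' : Type u) [CommRing A] [IsLocalRing A] [IsNoetherianRing A] [CommRing A'] [IsLocalRing A'] [IsNoetherianRing A'] [Algebra A A'] [IsLocalHom (algebraMap A A')] [Module.Flat A A'] (hmax : Ideal.map (algebraMap A A') (IsLocalRing.maximalIdeal A) = IsLocalRing.maximalIdeal A') (hsep : Algebra.FormallySmooth (IsLocalRing.ResidueField A) (IsLocalRing.ResidueField A')) (B B' : Type u) [CommRing B] [IsRegularLocalRing B] [CommRing B'] [IsRegularLocalRing B'] (I : Ideal B) (I' : Ideal B') (hpres : Nonempty (AdicCompletion (IsLocalRing.maximalIdeal A) A ≃+* B ⧸ I)) (hpres' : Nonempty (AdicCompletion (IsLocalRing.maximalIdeal A') A' ≃+* B' ⧸ I')) (e e' : ℕ) (he : ringKrullDim B = (e : WithBot ℕ∞)) (he' : ringKrullDim B' = (e' : WithBot ℕ∞)) : (e : ℤ) - (I.spanFinrank : ℤ) = (e' : ℤ) - (I'.spanFinrank : ℤ) := by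
    haveI := hsep
    obtain ⟨C, C', _, _, _, _, g, g', hg, hg', hker, hdim⟩ := GDepth6.exists_compatible hmax
    haveI := LC.Canon.isNoetherianRing_completion (R := A)
    haveI := LC.Canon.isNoetherianRing_completion (R := A')
    obtain ⟨iso⟩ := hpres
    obtain ⟨iso'⟩ := hpres'
    let f : B →+* AdicCompletion (IsLocalRing.maximalIdeal A) A := iso.symm.toRingHom.comp (Ideal.Quotient.mk I)
    let f' : B' →+* AdicCompletion (IsLocalRing.maximalIdeal A') A' := iso'.symm.toRingHom.comp (Ideal.Quotient.mk I')
    have hf : Function.Surjective f := iso.symm.surjective.comp Ideal.Quotient.mk_surjective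
    have hf' : Function.Surjective f' := iso'.symm.surjective.comp Ideal.Quotient.mk_surjective
    have hfk : RingHom.ker f = I := by
      ext x
      rw [RingHom.mem_ker]
      show iso.symm (Ideal.Quotient.mk _ x) = 0 ↔ _
      rw [map_eq_zero_iff iso.symm iso.symm.injective, Ideal.Quotient.eq_zero_iff_mem]
    have hfk' : RingHom.ker f' = I' := by
      ext x
      rw [RingHom.mem_ker]
      show iso'.symm (Ideal.Quotient.mk _ x) = 0 ↔ _
      rw [map_eq_zero_iff iso'.symm iso'.symm.injective, Ideal.Quotient.eq_zero_iff_mem]
    have h1 := GDepth6.geomDepth_indep f hf g hg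
    have h2 := GDepth6.geomDepth_indep f' hf' g' hg'
    rw [hfk] at h1
    rw [hfk'] at h2
    rw [Synt29.ringKrullDim_eq_nat] at he he'
    have h3 : (IsLocalRing.maximalIdeal B).spanFinrank = e := by exact_mod_cast he
    have h4 : (IsLocalRing.maximalIdeal B').spanFinrank = e' := by exact_mod_cast he'
    omega

end Groth.Agent.S5179
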