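import Groth.Statements.S5185
import Groth.Agent.S5184
import Groth.Agent.S2947
import Groth.Agent.SGA10.CI
import Groth.Agent.SGA11.CI
import Groth.Agent.Pi1Ext.PureDescent
-- import your own Groth.Agent.* helpers here

set_option autoImplicit false
set_option backward.isDefEq.respectTransparency false
set_option backward.isDefEq.respectTransparency.types false
set_option linter.style.haveILetI false
universe u
open CategoryTheory CategoryTheory.Limits AlgebraicGeometry
open LefX

namespace Groth.Agent.S5185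

theorem isAbsCI_of_regular (A : Type u) [CommRing A] [IsRegularLocalRing A] :
    SGA2.IsAbsCompleteIntersection A := by
  refine ⟨A, inferInstance, inferInstance, [], by simp, RingTheory.Sequence.IsRegular.nil A A, ?_⟩
  exact ⟨(RingEquiv.quotientBot A).symm.trans (Ideal.quotEquivOfEq (by simp))⟩

theorem purity_and_depth (A : Type u) [CommRing A] [IsLocalRing A] [IsNoetherianRing A]
    (h : (IsRegularLocalRing A ∧ (2 : WithBot ℕ∞) ≤ ringKrullDim A) ∨
      (SGA2.IsAbsCompleteIntersection A ∧ (3 : WithBot ℕ∞) ≤ ringKrullDim A)) :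
    FEt.PurityHolds A ∧ (2 : ℕ∞) ≤ LocCoh.depth A A := by
  have key : SGA2.IsAbsCompleteIntersection A → (2 : WithBot ℕ∞) ≤ ringKrullDim A →
      (2 : ℕ∞) ≤ LocCoh.depth A A := by
    rintro ⟨R, _, _, rs, hmem, hreg, ⟨e⟩⟩ hd
    let e' : A ≃+* R ⧸ Ideal.ofList rs := e
    haveI : Nontrivial (R ⧸ Ideal.ofList rs) := e'.symm.toEquiv.nontrivial
    haveI : IsLocalRing (R ⧸ Ideal.ofList rs) :=
      .of_surjective' (Ideal.Quotient.mk _) Ideal.Quotient.mk_surjective
    have h2 := SGA11.le_depth_ofList hreg.toIsWeaklyRegular hmem (n := 2)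
      (by rw [← ringKrullDim_eq_of_ringEquiv e']; exact_mod_cast hd)
    rw [← RamSam24.depth_eq_of_ringEquiv e'] at h2
    exact_mod_cast h2
  rcases h with ⟨hr, hd⟩ | ⟨hci, hd⟩
  · haveI := hr
    exact ⟨Pi1Ext.PuritySch.purityHolds_of_regular A hd, key (isAbsCI_of_regular A) hd⟩
  · refine ⟨?_, key hci (le_trans (by norm_num) hd)⟩
    obtain ⟨R, _, _, rs, hmem, hreg, ⟨e⟩⟩ := hci
    let e' : A ≃+* R ⧸ Ideal.ofList rs := e
    haveI : Nontrivial (R ⧸ Ideal.ofList rs) := e'.symm.toEquiv.nontrivial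
    haveI : IsLocalRing (R ⧸ Ideal.ofList rs) :=
      .of_surjective' (Ideal.Quotient.mk _) Ideal.Quotient.mk_surjective
    exact SGA10.purityHolds_of_equiv e'.symm (SGA10.pure_ci rs.length R rs rfl hmem hreg.toIsWeaklyRegular
      (by rw [← ringKrullDim_eq_of_ringEquiv e']; exact hd))

/-- Restriction to `Y` is fully faithful. -/
theorem full_faithful (X : Scheme.{u}) [IsLocallyNoetherian X] (𝓘 : X.IdealSheafData) (h : Lef.LefCond X 𝓘) :
    (FEt.restrict 𝓘.subschemeι).Full ∧ (FEt.restrict 𝓘.subschemeι).Faithful := by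
  have hT : (𝓘.support : Set X) ⊆ ((⊤ : X.Opens) : Set X) := fun _ _ => trivial
  obtain ⟨hf, hh⟩ := S2947.result X 𝓘 h ⊤ hT
  obtain ⟨κ, hκ, hκι⟩ := GrLib8.LeffExt.exists_kappa (U := (⊤ : X.Opens)) (I := 𝓘) hT rfl
  haveI := hf
  haveI := hh
  haveI : IsIso (⊤ : X.Opens).ι := by rw [← Scheme.topIso_hom]; infer_instance
  haveI : (FEt.restrict (⊤ : X.Opens).ι).IsEquivalence :=
    (Pi1Ext.PureDescent.restrictEquiv (asIso (⊤ : X.Opens).ι)).isEquivalence_functor
  haveI : (FEt.restrict κ).IsEquivalence :=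
    (Pi1Ext.PureDescent.restrictEquiv (asIso κ)).isEquivalence_functor
  let e : FEt.restrict (⊤ : X.Opens).ι ⋙ FEt.restrict (𝓘.comap (⊤ : X.Opens).ι).subschemeι ≅
      FEt.restrict 𝓘.subschemeι ⋙ FEt.restrict κ :=
    (MorphismProperty.Over.pullbackComp _ _ _ rfl).symm ≪≫
      MorphismProperty.Over.pullbackComp κ 𝓘.subschemeι _ hκι.symm
  haveI : (FEt.restrict 𝓘.subschemeι ⋙ FEt.restrict κ).Full := Functor.Full.of_iso e
  haveI : (FEt.restrict 𝓘.subschemeι ⋙ FEt.restrict κ).Faithful := Functor.Faithful.of_iso e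
  exact ⟨Functor.Full.of_comp_faithful (FEt.restrict 𝓘.subschemeι) (FEt.restrict κ),
    Functor.Faithful.of_comp (FEt.restrict 𝓘.subschemeι) (FEt.restrict κ)⟩

/-- Let X be a locally Noetherian scheme and 𝓘 a quasi-coherent ideal sheaf with Y = V(𝓘), such that the
effective Lefschetz condition Leff(X, Y) holds, and such that for every open neighbourhood U of Y
and every point x of X outside U the local ring O_{X,x} is either regular of dimension ≥ 2 or an
(absolute) complete intersection of dimension ≥ 3, i.e. a regular local ring modulo a regular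
sequence. Then restriction of finite étale covers from X to Y is an equivalence of categories;
equivalently π_0(Y) → π_0(X) is bijective and, for X connected, π_1(Y) → π_1(X) is an isomorphism. -/
theorem result (X : Scheme.{u}) [IsLocallyNoetherian X] (𝓘 : X.IdealSheafData) (h : LefX.LeffCond X 𝓘) (hpur : ∀ U : X.Opens, (𝓘.support : Set X) ⊆ (U : Set X) → ∀ x : X, x ∉ U → (IsRegularLocalRing (X.presheaf.stalk x) ∧ (2 : WithBot ℕ∞) ≤ ringKrullDim (X.presheaf.stalk x)) ∨ (SGA2.IsAbsCompleteIntersection (X.presheaf.stalk x) ∧ (3 : WithBot ℕ∞) ≤ ringKrullDim (X.presheaf.stalk x))) : (FEt.restrict 𝓘.subschemeι).IsEquivalence := by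
  obtain ⟨hF, hFf⟩ := full_faithful X 𝓘 h.1
  haveI := hF
  haveI := hFf
  haveI : (FEt.restrict 𝓘.subschemeι).EssSurj := by
    refine ⟨fun R => ?_⟩
    obtain ⟨U, R', hU, hR⟩ := S5184.result X 𝓘 h R
    let i : 𝓘.subscheme ⟶ (U : Scheme.{u}) := IsOpenImmersion.lift U.ι 𝓘.subschemeι (by
      rw [Scheme.Opens.range_ι]
      exact 𝓘.range_subschemeι.le.trans hU)
    have hi : i ≫ U.ι = 𝓘.subschemeι := IsOpenImmersion.lift_fac _ _ _
    obtain ⟨eR⟩ := hR i hi
    have hd : ∀ x : X, x ∉ U → (2 : ℕ∞) ≤ LocCoh.depth (X.presheaf.stalk x) (X.presheaf.stalk x) :=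
      fun x hx => (purity_and_depth _ (hpur U hU x hx)).2
    obtain ⟨R'', ⟨e''⟩⟩ := Pi1Ext.ExtZorn.exists_extension (Y := R')
      (Pi1Ext.PureDescent.dense_of_depth U hd) fun a x hx hmin =>
        Pi1Ext.Spread.exists_local_extension a.O a.E x
          (purity_and_depth _ (hpur a.O (hU.trans a.le) x hx)).1 hx hmin
    exact ⟨R'', ⟨Pi1Ext.Spread.restrictComp i U.ι 𝓘.subschemeι hi.symm R'' ≪≫
      (FEt.restrict i).mapIso e'' ≪≫ eR⟩⟩
  exact { }

end Groth.Agent.S5185
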