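import Groth.Statements.S5186
import Groth.Agent.H9Misc.SSProp
import Groth.Agent.SpObjSS.Grothendieck
import Groth.Agent.SiteBase.Rpush
import Groth.Agent.KFlatLib.Scheme.CohD
import Groth.Agent.S0036

set_option autoImplicit false
universe u
open CategoryTheory AlgebraicGeometry
open Coherent

open CategoryTheory CategoryTheory.Limits

namespace Groth.Agent.S5186

/-- Let f : X → S be a proper morphism of schemes with S locally Noetherian, U an open subset of X with
inclusion g : U → X, h = f ∘ g : U → S, F an O_U-module and n ≥ 0. If the higher direct images R^i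
g_*(F) are coherent O_X-modules for all i ≤ n, then the higher direct images R^i h_*(F) are coherent
O_S-modules for all i ≤ n. (The existence of injective resolutions in the module categories is
carried as instance arguments.) -/
theorem result {X S : Scheme.{u}} (f : X ⟶ S) [IsProper f] [IsLocallyNoetherian S] (U : X.Opens) [HasInjectiveResolutions (U : Scheme.{u}).Modules] [HasInjectiveResolutions X.Modules] (F : (U : Scheme.{u}).Modules) (n : ℕ) (hg : ∀ i : ℕ, i ≤ n → Coh.IsCoh ((Coh.Rpush U.ι i).obj F)) (i : ℕ) (hi : i ≤ n) : Coh.IsCoh ((Coh.Rpush (U.ι ≫ f) i).obj F) := by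
  haveI := SpObjSS.enoughInjectives_of_hasInjectiveResolutions (C := (U : Scheme.{u}).Modules)
  haveI := SpObjSS.enoughInjectives_of_hasInjectiveResolutions (C := X.Modules)
  let T : (U : Scheme.{u}).Modules ⥤ X.Modules := Scheme.Modules.pushforward U.ι
  let P : X.Modules ⥤ S.Modules := Scheme.Modules.pushforward f
  haveI : PreservesLimitsOfSize.{0, 0} P :=
    (Scheme.Modules.pullbackPushforwardAdjunction f).rightAdjoint_preservesLimits
  haveI : PreservesFiniteLimits P := ⟨fun _ => inferInstance⟩
  have hT : ∀ Q : (U : Scheme.{u}).Modules, Injective Q → TriCat.IsRightAcyclic P (T.obj Q) := fun Q hQ => by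
    haveI : Injective (T.obj Q) := Injective.injective_of_adjoint (Scheme.Modules.restrictAdjunction U.ι) Q
    exact TriCat.isRightAcyclic_of_injective _
  obtain ⟨ES, a, hfin, -, hE⟩ := SpObjSS.exists_grothendieck_spectralSequence' T P hT F
    (fun m => (Coh.Rpush (U.ι ≫ f) m).obj F)
    (fun m => ⟨(SiteBase.rightDerivedCongr (Scheme.Modules.pushforwardComp U.ι f) m).app F⟩)
    (fun p q => (Coh.Rpush f p).obj ((Coh.Rpush U.ι q).obj F)) (fun p q => ⟨Iso.refl _⟩) _ (isZero_zero _)
  have h := H9Misc.SSProp.abutment (C := S.Modules) Coh.IsCoh (fun _ => KFlatLib.isCoh_of_isZero)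
    (fun e => KFlatLib.isCoh_of_iso e) (fun g hX hY => QCoh.isCoh_kernel hX hY g)
    (fun g hX hY => QCoh.isCoh_cokernel hX.1 hY g) (fun _ hS => KFlatLib.isCoh_of_shortExact hS)
    (i : ℤ) a (hfin _)
    (fun x hx => by
      obtain ⟨e⟩ := hE x.1 x.2
      rw [if_neg (by omega)] at e
      exact (isZero_zero _).of_iso e)
    (fun x hx => by
      obtain ⟨e⟩ := hE x.1 x.2
      refine KFlatLib.isCoh_of_iso e.symm ?_
      split_ifs with hpq
      · exact S0036.result f _ (hg _ (by omega)) _
      · exact KFlatLib.isCoh_of_isZero (isZero_zero _))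
  simpa using h

end Groth.Agent.S5186
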