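import Groth.Statements.S5190
import Groth.Agent.Synt29.FormalHHReg
import Groth.Agent.AssLib.OpenRestrict
import Groth.Agent.Hensel.DepthFlat
import Groth.Agent.Algz7.Canon2.Stalk
import Groth.Agent.LC.FiniteCrit

set_option autoImplicit false
universe u
open CategoryTheory CategoryTheory.Limits AlgebraicGeometry
open Formal

set_option linter.style.haveILetI false
set_option linter.unusedSectionVars false
set_option backward.isDefEq.respectTransparency false
set_option backward.isDefEq.respectTransparency.types false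
set_option maxHeartbeats 1000000
open Opposite TopologicalSpace
open Groth.Agent Groth.Agent.Synt29 Groth.Agent.LocCohDepth.Punct

namespace Groth.Agent.S5190

theorem depth_stalk_tilde {A : CommRingCat.{u}} [IsNoetherianRing A] (N : ModuleCat.{u} A) (q : PrimeSpectrum.Top A) :
    LocCoh.depth ((Spec A).presheaf.stalk q) ((tilde N).presheaf.stalk q) =
      LocCoh.depth (Localization.AtPrime q.asIdeal) (LocalizedModule q.asIdeal.primeCompl N) := by
  letI : Algebra A ((Spec A).presheaf.stalk q) := StructureSheaf.stalkAlgebra A q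
  haveI : IsLocalization.AtPrime ((Spec A).presheaf.stalk q) q.asIdeal := StructureSheaf.IsLocalization.to_stalk A q
  haveI : IsScalarTower A ((Spec A).presheaf.stalk q) ((tilde N).presheaf.stalk q) :=
    IsScalarTower.of_algebraMap_smul fun _ _ => rfl
  obtain ⟨i, j, hij⟩ := Groth.Agent.QCoh.exists_semilinear q.asIdeal.primeCompl ((Spec A).presheaf.stalk q)
    (Localization.AtPrime q.asIdeal) (tilde.toStalk N q).hom (LocalizedModule.mkLinearMap q.asIdeal.primeCompl N)
  exact Groth.Agent.Alg6.depth_eq_of_semilinear i.toRingHom i.surjective j hij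

theorem depth_stalk_G {A : CommRingCat.{u}} [IsNoetherianRing A] (U : (Spec A).Opens) (N : ModuleCat.{u} A)
    {F : (U : Scheme.{u}).Modules} (e : F ≅ (G U).obj N) (x : (U : Scheme.{u})) :
    LocCoh.depth ((U : Scheme.{u}).presheaf.stalk x) (F.presheaf.stalk x) =
      LocCoh.depth (Localization.AtPrime (U.ι.base x).asIdeal)
        (LocalizedModule (U.ι.base x).asIdeal.primeCompl N) := by
  haveI : Mono e.hom := inferInstance
  haveI : Epi e.hom := inferInstance
  rw [Hensel.depth_congr (LinearEquiv.ofBijective (Algz.stalkMapₗ e.hom x)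
    ⟨Algz7.Canon2.stalk_injective e.hom x, Algz7.Canon2.stalk_surjective e.hom x⟩)]
  obtain ⟨ε, hε⟩ := AssLib.exists_semilinear_restrict U.ι (tilde N) x
  have hσ := ConcreteCategory.bijective_of_isIso (U.ι.stalkMap x)
  refine Eq.trans ?_ (depth_stalk_tilde N (U.ι.base x))
  exact (Alg6.depth_eq_of_semilinear (U.ι.stalkMap x).hom hσ.2 ε.symm fun a z => by
    refine ε.injective ?_
    rw [hε, AddEquiv.apply_symm_apply, AddEquiv.apply_symm_apply]).symm

theorem main {R : Type u} [CommRing R] [IsRegularRing R] {A : Type u} [CommRing A]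
    [IsNoetherianRing A] (π : R →+* A) (hπ : Function.Surjective π) (t : A) [IsAdicComplete (Ideal.span {t}) A]
    (I : Ideal A) (U : (Spec (CommRingCat.of A)).Opens) (hU : U = LocCoh.puncturedOpen A I)
    (F : (U : Scheme.{u}).Modules) (hF : Coh.IsCoh F) (hreg : Mono (Formal.smulMod A F t)) (n : ℕ)
    (hdepth : ∀ x : (U : Scheme.{u}), SGA2.relCodim I (U.ι.base x) = 1 →
      ((n + 1 : ℕ) : ℕ∞) ≤ LocCoh.depth ((U : Scheme.{u}).presheaf.stalk x) (F.presheaf.stalk x)) (i : ℕ) :
    (i < n → Function.Bijective (Formal.toHHlim (Ideal.span {t}) F i)) ∧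
      (i = n → Function.Injective (Formal.toHHlim (Ideal.span {t}) F i)) := by
  subst hU
  obtain ⟨N₀, _, _, _, ⟨u⟩⟩ := GrLib8.PuncturedLC.exists_finite I F hF
  let N : ModuleCat.{u} (CommRingCat.of A) := ModuleCat.of (CommRingCat.of A) N₀
  haveI : Module.Finite A N := inferInstanceAs (Module.Finite A N₀)
  haveI : IsNoetherianRing (CommRingCat.of A) := inferInstanceAs (IsNoetherianRing A)
  haveI : Mono ((G (LocCoh.puncturedOpen A I)).map (t • 𝟙 N)) := by
    haveI := hreg
    have h : (G (LocCoh.puncturedOpen A I)).map (t • 𝟙 N) = u.inv ≫ Formal.smulMod A F t ≫ u.hom := by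
      rw [FFun.smulMod_naturality u.hom, Iso.inv_hom_id_assoc, FormalSectO.smulMod_G]
    rw [h]
    infer_instance
  have hfin := (LC.finite_iff_depth_add_codim π hπ I N₀ (n + 1)).2
    ((LC.forall_depth_add_codim_iff I N₀ (n + 1)).2 fun p hp hc => by
      let x : (LocCoh.puncturedOpen A I : Scheme.{u}) := ⟨p, hp⟩
      exact (hdepth x hc).trans (depth_stalk_G (A := CommRingCat.of A) _ N u x).le)
  haveI hH : ∀ j, j ≤ n → Module.Finite A
      (Coh.HH (LocCoh.puncturedOpen A I : Scheme.{u}) ((G (LocCoh.puncturedOpen A I)).obj N) j) :=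
    fun j hj => FormalHHReg.finite_HH I N j (hfin (j + 1) (by omega))
  have inj : i ≤ n → Function.Injective (Formal.toHHlim (Ideal.span {t}) F i) := fun hi => by
    haveI := hH i hi
    exact (FormalHH.toHHlim_transfer I t u i).1 (FormalHHReg.injective I t N i)
  refine ⟨fun hi => ⟨inj hi.le, ?_⟩, fun hi => inj hi.le⟩
  haveI := hH i hi.le
  haveI := hH (i + 1) hi
  exact (FormalHH.toHHlim_transfer I t u i).2 (FormalHHReg.surjective I t N i)


/-- For a general closed subset T of Spec A. Let A be a Noetherian ring which is a quotient of a regular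
ring, t an element of A such that A is separated and complete for the t-adic topology, I an ideal
with T = V(I), X = Spec A − T (the union of the basic opens D(f), f ∈ I), and F a coherent
O_X-module on which multiplication by t is injective. Assume that for every point x of X such that
codim(cl(x) ∩ T, cl(x)) = 1, closures taken in Spec A, the stalk F_x has depth ≥ n + 1 over O_{X,x}.
Then the canonical map H^i(X, F) → lim_k H^i(X, F/t^(k+1)F) is bijective for i < n and injective for
i = n. -/
theorem result (R : Type u) [CommRing R] [IsRegularRing R] (A : Type u) [CommRing A] [IsNoetherianRing A] (π : R →+* A) (hπ : Function.Surjective π) (t : A) [IsAdicComplete (Ideal.span {t}) A] (I : Ideal A) (F : (↑(⨆ f : ↥I, (Spec (CommRingCat.of A)).basicOpen ((Scheme.ΓSpecIso (CommRingCat.of A)).inv f.1)) : Scheme.{u}).Modules) (hF : Coh.IsCoh F) (hreg : Mono (Formal.smulMod A F t)) (n : ℕ) (hdepth : ∀ x : (↑(⨆ f : ↥I, (Spec (CommRingCat.of A)).basicOpen ((Scheme.ΓSpecIso (CommRingCat.of A)).inv f.1)) : Scheme.{u}), SGA2.relCodim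 I ((⨆ f : ↥I, (Spec (CommRingCat.of A)).basicOpen ((Scheme.ΓSpecIso (CommRingCat.of A)).inv f.1)).ι.base x) = 1 → ((n + 1 : ℕ) : ℕ∞) ≤ LocCoh.depth ((↑(⨆ f : ↥I, (Spec (CommRingCat.of A)).basicOpen ((Scheme.ΓSpecIso (CommRingCat.of A)).inv f.1)) : Scheme.{u}).presheaf.stalk x) (F.presheaf.stalk x)) (i : ℕ) : (i < n → Function.Bijective (Formal.toHHlim (Ideal.span {t}) F i)) ∧ (i = n → Function.Injective (Formal.toHHlim (Ideal.span {t}) F i)) := by
  exact main π hπ t I _ (TopologicalSpace.Opens.ext (Set.ext fun p => by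
    rw [TopologicalSpace.Opens.coe_iSup]
    simp only [Set.mem_iUnion]
    refine Iff.trans (exists_congr fun g => ?_) (show (∃ g : I, g.1 ∉ p.asIdeal) ↔ ¬ (I : Set A) ⊆ p.asIdeal from
      ⟨fun ⟨g, hg⟩ h => hg (h g.2), fun h => by
        obtain ⟨g, hg, hg'⟩ := Set.not_subset.1 h
        exact ⟨⟨g, hg⟩, hg'⟩⟩)
    rw [AlgebraicGeometry.basicOpen_eq_of_affine']
    exact not_congr (by simp))) F hF hreg n hdepth i

end Groth.Agent.S5190
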