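import Groth.Statements.S5195
import Groth.Agent.Approx.UCAffine
import Groth.Agent.AmpleX.RelAffine
import Groth.Agent.H23.PicInv
import Groth.Agent.H23.PicMul
import Groth.Agent.Lib.AVAmple
import Groth.Agent.RelCodim6.Depth
import Mathlib.AlgebraicGeometry.Morphisms.QuasiFinite

set_option autoImplicit false
universe u
open CategoryTheory CategoryTheory.Limits AlgebraicGeometry
open Lef
open Groth.Agent.H23.PicMul

namespace Groth.Agent.S5195

/-- For the structure sheaf, with the key step of its proof made explicit. Let A be a Noetherian ring, X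
a proper A-scheme and 𝓘 a quasi-coherent ideal whose ideal module is invertible with ample inverse L
(Y = V(𝓘) is an ample effective Cartier divisor), and let Z be a closed subset of X not meeting Y.
Then (1) every point of Z is closed in its fibre over Spec A (indeed Z is finite over A, being
proper and contained in the affine X − Y); and (2) if moreover X is flat over A and for every s the
fibre X_s has depth ≥ n at each of its closed points, then the local ring O_{X,z} has depth ≥ n at
every point z of Z. (The published statement allows any coherent module flat over the base whose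
fibres have depth ≥ n at closed points; this row takes the structure sheaf.) -/
theorem result (A : Type u) [CommRing A] [IsNoetherianRing A] (X : Scheme.{u}) [X.Over (Spec (CommRingCat.of A))] [IsProper (X ↘ Spec (CommRingCat.of A))] (𝓘 : X.IdealSheafData) (L : X.Modules) (hL : ClSub.IsInverseOf L (ClSub.idealMod 𝓘)) (hamp : CohB1.IsAmple L) (Z : Set X) (hZ : IsClosed Z) (hZY : Disjoint Z (𝓘.support : Set X)) (n : ℕ) : (∀ z : X, z ∈ Z → IsClosed ({((X ↘ Spec (CommRingCat.of A))).asFiber z} : Set ↥(((X ↘ Spec (CommRingCat.of A))).fiber (((X ↘ Spec (CommRingCat.of A))).base z)))) ∧ (Flat (X ↘ Spec (CommRingCat.of A)) → (∀ x : X, IsClosed ({((X ↘ Spec (CommRingCat.of A))).asFiber x} : Set ↥(((X ↘ Spec (CommRingCat.of A))).fiber (((X ↘ Spec (CommRingCat.of A))).base x))) → (n : ℕ∞) ≤ LocCoh.depth ↑(CInt.fiberStalk (X ↘ Spec (CommRingCat.of A)) x) ↑(CInt.fiberStalk (X ↘ Spec (CommRingCat.of A)) x)) → ∀ z : X, z ∈ Z → (n : ℕ∞) ≤ LocCoh.depth (X.presheaf.stalk z) (X.presheaf.stalk z)) := by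
  let f := X ↘ Spec (CommRingCat.of A)
  haveI : IsLocallyNoetherian X := LocallyOfFiniteType.isLocallyNoetherian f
  -- the complement of the divisor is affine
  obtain ⟨U, hUaff, hU⟩ : ∃ U : X.Opens, IsAffine U.toScheme ∧ Z ⊆ (U : Set X) := by
    have hinv : PicF.IsInvertible (ClSub.idealMod 𝓘) := by
      obtain ⟨L', hL', ⟨e⟩⟩ := H23.PicInv.exists_inverse hamp.1
      obtain ⟨c⟩ := H23.PicMul.comm L L'
      refine H23.PicMul.isInvertible_of_iso (H23.PicMul.cl_eq_iff.1 ?_).some hL'
      have h1 : PicF.cl L * PicF.cl (ClSub.idealMod 𝓘) = 1 := by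
        rw [← H23.PicMul.cl_tensor]; exact H23.PicMul.cl_eq_iff.2 hL
      have h2 : PicF.cl L * PicF.cl L' = 1 := by
        rw [← H23.PicMul.cl_tensor]
        first
          | exact H23.PicMul.cl_eq_iff.2 ⟨e⟩
          | exact H23.PicMul.cl_eq_iff.2 ⟨c ≪≫ e⟩
      calc PicF.cl L' = PicF.cl L' * (PicF.cl L * PicF.cl (ClSub.idealMod 𝓘)) := by rw [h1, mul_one]
        _ = _ := by rw [← mul_assoc, mul_comm (PicF.cl L') _, h2, one_mul]
    have hI : BlowUp.IsEffCartierIdeal 𝓘 := (S8914.result 𝓘).1 hinv
    obtain ⟨s, hs⟩ := AVAmple.exists_divisor_section 𝓘 hI hamp.1 hL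
    refine ⟨CohB1.genLocus L (InvX.ofSect s), ?_, fun z hz => ?_⟩
    · haveI := hamp.2.1
      have hrel : RelAmple.IsRelAmple f L := AmpleX.isRelAmple_of_ampleOn fun x =>
        ⟨⊤, X, 𝟙 X, inferInstance, trivial, by rw [Scheme.Hom.opensRange_of_isIso]; exact le_top,
          AmpleX.isAmple_of_iso ((Scheme.Modules.restrictFunctorId (X := X)).app L).symm hamp⟩
      haveI := Approx.UCAffine.isAffineHom_genLocus f L hrel (InvX.ofSect s)
      exact isAffine_of_isAffineHom ((CohB1.genLocus L (InvX.ofSect s)).ι ≫ f)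
    · exact (hs z).2 (Set.disjoint_left.1 hZY hz)
  haveI := hUaff
  suffices h1 : ∀ z : X, z ∈ Z → IsClosed ({f.asFiber z} : Set ↥(f.fiber (f.base z))) from
    ⟨h1, fun hflat hdep z hz => by
      haveI := hflat
      exact le_trans (hdep z (h1 z hz)) (RelCodim6.fiberStalk_depth_le f z)⟩
  intro z hz
  let V := Scheme.IdealSheafData.vanishingIdeal ⟨Z, hZ⟩
  have hr : Set.range V.subschemeι = Z := by
    rw [Scheme.IdealSheafData.range_subschemeι, Scheme.IdealSheafData.coe_support_vanishingIdeal]; rfl
  let l := IsOpenImmersion.lift U.ι V.subschemeι (by rw [hr, Scheme.Opens.range_ι]; exact hU)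
  haveI : IsClosedImmersion (l ≫ U.ι) := by rw [IsOpenImmersion.lift_fac]; infer_instance
  haveI : IsClosedImmersion l := IsClosedImmersion.of_comp l U.ι
  haveI : IsAffineHom (V.subschemeι ≫ f) := by
    haveI : IsAffine V.subscheme := isAffine_of_isAffineHom l
    infer_instance
  haveI : IsFinite (V.subschemeι ≫ f) :=
    IsFinite.iff_isProper_and_isAffineHom.2 ⟨inferInstance, inferInstance⟩
  have hdisc := (V.subschemeι ≫ f).isDiscrete_preimage_singleton (f z)
  obtain ⟨w, hw⟩ : z ∈ Set.range V.subschemeι := by rw [hr]; exact hz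
  have hwm : w ∈ ⇑(V.subschemeι ≫ f) ⁻¹' {f z} := by
    show f (V.subschemeι w) = f z
    rw [hw]
  have hc : IsClosed (closure ({w} : Set ↥V.subscheme)) := isClosed_closure
  rw [← closure_subset_iff_isClosed]
  intro y hy
  have hy' : f.fiberι (f z) y ∈ closure ({z} : Set X) := by
    have := image_closure_subset_closure_image (f.fiberι (f z)).continuous ⟨y, hy, rfl⟩
    rwa [Set.image_singleton, Scheme.Hom.fiberι_asFiber] at this
  have hyf : f (f.fiberι (f z) y) = f z := by
    have : f.fiberι (f z) y ∈ Set.range (f.fiberι (f z)) := ⟨y, rfl⟩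
    rw [Scheme.Hom.range_fiberι] at this
    exact this
  rw [show ({z} : Set X) = {V.subschemeι w} by rw [hw], ← Set.image_singleton, V.subschemeι.isClosedEmbedding.closure_image_eq] at hy'
  obtain ⟨w', hw', hw'y⟩ := hy'
  have heq : w' = w := by
    have hw'm : w' ∈ ⇑(V.subschemeι ≫ f) ⁻¹' {f z} := by
      show f (V.subschemeι w') = f z
      rw [hw'y, hyf]
    haveI := isDiscrete_iff_discreteTopology.1 hdisc
    have : (⟨w', hw'm⟩ : ↥(⇑(V.subschemeι ≫ f) ⁻¹' {f z})) ∈
        closure ({⟨w, hwm⟩} : Set ↥(⇑(V.subschemeι ≫ f) ⁻¹' {f z})) := by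
      rw [closure_subtype, Set.image_singleton]; exact hw'
    rw [closure_discrete] at this
    exact congrArg Subtype.val this
  refine Set.mem_singleton_iff.2 ((f.fiberι (f z)).isEmbedding.injective ?_)
  rw [Scheme.Hom.fiberι_asFiber, ← hw'y, heq]
  exact hw

end Groth.Agent.S5195
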