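import Groth.Statements.S5199
import Groth.Agent.Synt29.LefPunctCond
import Groth.Agent.Synt29.LevelStalk
import Groth.Agent.S3373
import Groth.Agent.S4652
import Groth.Agent.ConsPropLib.FibreLocFree
import Groth.Agent.KZ.LFRes
import Groth.Agent.StrictFlat17.Basic
import Groth.Prelude.Def_FSch3

set_option autoImplicit false
universe u
open CategoryTheory CategoryTheory.Limits AlgebraicGeometry
open LefX

set_option linter.style.haveILetI false
set_option linter.unusedSectionVars false
set_option backward.isDefEq.respectTransparency false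
set_option backward.isDefEq.respectTransparency.types false
set_option maxHeartbeats 1000000
open Opposite TopologicalSpace IsLocalRing
open Groth.Agent Groth.Agent.Synt29

namespace Groth.Agent.S5199

theorem nonempty_app_iso {𝔛 : FSch.Sys.{u}} {𝔐 𝔑 : FSch.ModSys 𝔛} (e : 𝔐 ≅ 𝔑) (n : ℕ) :
    Nonempty (𝔐.F n ≅ 𝔑.F n) :=
  ⟨⟨e.hom.app n, e.inv.app n, congrArg (fun φ : 𝔐 ⟶ 𝔐 => FSch.ModSys.Hom.app φ n) e.hom_inv_id,
    congrArg (fun φ : 𝔑 ⟶ 𝔑 => FSch.ModSys.Hom.app φ n) e.inv_hom_id⟩⟩

/-- A morphism of systems with invertible levels is invertible. -/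
theorem nonempty_iso_of_app {𝔛 : FSch.Sys.{u}} {𝔐 𝔑 : FSch.ModSys 𝔛} (Φ : 𝔐 ⟶ 𝔑) (h : ∀ n, IsIso (Φ.app n)) :
    Nonempty (𝔑 ≅ 𝔐) := by
  refine ⟨{ hom := ⟨fun n => inv (Φ.app n), fun n => ?_⟩
            inv := Φ
            hom_inv_id := FSch.ModSys.Hom.ext (funext fun n => IsIso.inv_hom_id (Φ.app n))
            inv_hom_id := FSch.ModSys.Hom.ext (funext fun n => IsIso.hom_inv_id (Φ.app n)) }⟩
  rw [Functor.map_inv, IsIso.inv_comp_eq, ← Category.assoc, IsIso.eq_comp_inv]
  exact (Φ.comm n).symm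

theorem nat_gen {C D E : Type*} [Category C] [Category D] [Category E] {F : C ⥤ D} {G : D ⥤ E} {H K : C ⥤ E}
    (α : F ⋙ G ≅ H) (β : H ≅ K) {M N : C} (η : M ⟶ N) :
    G.map (F.map η) ≫ (α.hom.app N ≫ β.hom.app N) = (α.hom.app M ≫ β.hom.app M) ≫ K.map η := by
  rw [← Category.assoc, ← Functor.comp_map F G η, α.hom.naturality, Category.assoc, β.hom.naturality, Category.assoc]

/-- The completion of a morphism. -/
noncomputable def complHom {X : Scheme.{u}} (𝓘 : X.IdealSheafData) {F G : X.Modules} (η : F ⟶ G) :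
    FSch.completionMod 𝓘 F ⟶ FSch.completionMod 𝓘 G :=
  ⟨fun n => (Scheme.Modules.pullback (FSch.completionToX X 𝓘 n)).map η, fun n => by
    rw [ModSysPush.completionMod_e_hom 𝓘 G n, ModSysPush.completionMod_e_hom 𝓘 F n]
    exact nat_gen (Scheme.Modules.pullbackComp ((FSch.completionAlong X 𝓘).ι n) (FSch.completionToX X 𝓘 (n + 1)))
      (Scheme.Modules.pullbackCongr (FSch.completionToX_comm X 𝓘 n)) η⟩

/-- The completion only sees a neighbourhood of the closed subscheme. -/
theorem nonempty_completion_restrict {X : Scheme.{u}} (𝓘 : X.IdealSheafData) (U : X.Opens)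
    (hU : (𝓘.support : Set X) ⊆ (U : Set X)) (F : X.Modules) :
    Nonempty (FSch.completionMod 𝓘 ((Scheme.Modules.pushforward U.ι).obj ((Scheme.Modules.pullback U.ι).obj F)) ≅
      FSch.completionMod 𝓘 F) := by
  let adj := Scheme.Modules.pullbackPushforwardAdjunction U.ι
  let η := adj.unit.app F
  haveI : IsIso adj.counit := adj.counit_isIso_of_R_fully_faithful
  haveI : IsIso ((Scheme.Modules.pullback U.ι).map η) :=
    IsIso.of_isIso_fac_right (adj.left_triangle_components F)
  have hiso : ∀ n, IsIso ((Scheme.Modules.pullback (FSch.completionToX X 𝓘 n)).map η) := fun n => by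
    have hr : Set.range (FSch.completionToX X 𝓘 n) ⊆ Set.range U.ι := by
      rw [Scheme.Opens.range_ι]
      show Set.range (𝓘 ^ (n + 1)).subschemeι ⊆ _
      rw [Scheme.IdealSheafData.range_subschemeι, Scheme.IdealSheafData.support_pow_succ]
      exact hU
    let g := IsOpenImmersion.lift U.ι (FSch.completionToX X 𝓘 n) hr
    have hg : g ≫ U.ι = FSch.completionToX X 𝓘 n := IsOpenImmersion.lift_fac _ _ hr
    exact (NatIso.isIso_map_iff (Scheme.Modules.pullbackComp g U.ι ≪≫ Scheme.Modules.pullbackCongr hg) η).1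
      (inferInstanceAs (IsIso ((Scheme.Modules.pullback g).map ((Scheme.Modules.pullback U.ι).map η))))
  exact nonempty_iso_of_app (complHom 𝓘 η) hiso

/-- Let A be a Noetherian local ring which is a quotient of a regular local ring, t an A-regular element
of the maximal ideal such that A is separated and complete for the (t)-adic topology, X the
punctured spectrum of A and Y = V(t) ∩ X, the closed subscheme of X defined by t. Assume that depth
A_p ≥ 2 for every prime ideal p with dim A/p = 1 (the closed points of X), and that depth A_p ≥ 3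
for every such p containing t (the closed points of Y). Then the effective Lefschetz condition
Leff(X, Y) holds: for every open U ⊇ Y of X and every finite locally free O_U-module D, Hom(D, O_U)
→ lim_n Hom(D, O_U/t^(n+1)O_U) is bijective, and every levelwise finite locally free system of
modules on the completion of X along Y is the completion of a finite locally free module on some
open neighbourhood of Y. -/
theorem result (A : Type u) [CommRing A] [IsLocalRing A] [IsNoetherianRing A] (hq : ∃ (B : Type u) (_ : CommRing B) (_ : IsRegularLocalRing B) (φ : B →+* A), Function.Surjective φ) (t : A) (ht : t ∈ IsLocalRing.maximalIdeal A) (hreg : IsSMulRegular A t) [IsAdicComplete (Ideal.span {t}) A] (h2 : ∀ p : Ideal A, ∀ _ : p.IsPrime, ringKrullDim (A ⧸ p) = 1 → (2 : ℕ∞) ≤ LocCoh.depth (Localization.AtPrime p) (Localization.AtPrime p)) (h3 : ∀ p : Ideal A, ∀ _ : p.IsPrime, t ∈ p → ringKrullDim (A ⧸ p) = 1 → (3 : ℕ∞) ≤ LocCoh.depth (Localization.AtPrime p) (Localization.AtPrime p))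 : LefX.LeffCond (↑(FEt.puncturedSpec A) : Scheme.{u}) ((Spec.map (CommRingCat.ofHom (Ideal.Quotient.mk (Ideal.span {t})))).ker.comap (FEt.puncturedSpec A).ι) := by
  refine ⟨LefPunct.lefCond hq t ht h2, fun 𝔐 h𝔐 => ?_⟩
  obtain ⟨B, _, _, φ, hφ⟩ := hq
  haveI := CplFib6.isRegularRing_of_local B
  haveI : IsNoetherianRing (CommRingCat.of A) := inferInstanceAs (IsNoetherianRing A)
  let P := FEt.puncturedSpec A
  let 𝓚 := LevelStalk.kIdeal t P
  haveI : IsLocallyNoetherian (P : Scheme.{u}) := LocallyOfFiniteType.isLocallyNoetherian P.ι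
  haveI : ∀ N, IsLocallyNoetherian ((FSch.completionAlong (P : Scheme.{u}) 𝓚).X N) := fun N =>
    LocallyOfFiniteType.isLocallyNoetherian (LevelStalk.lv t P N)
  have hcoh : 𝔐.IsCoh := fun N => H28.PushLocFree.isCoh_of_isFinLocFree (h𝔐 N)
  have hdepth : ∀ y : ↥((FSch.completionAlong (P : Scheme.{u}) 𝓚).X 0), IsClosed ({y} : Set _) →
      (2 : ℕ∞) ≤ LocCoh.depth (((FSch.completionAlong (P : Scheme.{u}) 𝓚).X 0).presheaf.stalk y)
        ((𝔐.F 0).presheaf.stalk y) := fun y hy => by
    let x := LevelStalk.lv t P 0 y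
    have hx : IsClosed ({x} : Set (P : Scheme.{u})) := by
      rw [show ({x} : Set (P : Scheme.{u})) = (LevelStalk.lv t P 0) '' {y} from by rw [Set.image_singleton]]
      exact (LevelStalk.lv t P 0).isClosedEmbedding.isClosedMap _ hy
    have hne : (x.1 : PrimeSpectrum A).asIdeal ≠ maximalIdeal A := fun he => x.2 (PrimeSpectrum.ext he)
    have htx : t ∈ (x.1 : PrimeSpectrum A).asIdeal := (LefPunct.mem_support_iff t x).1 (by
      have hr : x ∈ Set.range (𝓚 ^ (0 + 1)).subschemeι := ⟨y, rfl⟩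
      rw [Scheme.IdealSheafData.range_subschemeι, Scheme.IdealSheafData.support_pow_succ] at hr
      exact hr)
    obtain ⟨s, hs, hsp⟩ := Set.not_subset.1 fun hle : (maximalIdeal A : Set A) ⊆ (x.1 : PrimeSpectrum A).asIdeal =>
      hne (le_antisymm (le_maximalIdeal (x.1 : PrimeSpectrum A).2.ne_top) hle)
    have hd := LefPunct.dim_eq_one x.1 hne hs hsp fun q hpq hsq => by
      by_contra hqm
      let z : (P : Scheme.{u}) := ⟨q, fun he => hqm (congrArg PrimeSpectrum.asIdeal he)⟩
      have hspec : x ⤳ z :=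
        (Topology.IsInducing.specializes_iff P.ι.isOpenEmbedding.isInducing).1
          ((PrimeSpectrum.le_iff_specializes _ q).1 hpq)
      exact hsp ((congrArg (fun w : (P : Scheme.{u}) => (w.1 : PrimeSpectrum A).asIdeal)
        (Set.mem_singleton_iff.1 (hspec.mem_closed hx (Set.mem_singleton x)))) ▸ hsq)
    exact LevelStalk.two_le_depth_level t P hreg (h𝔐 0) y (h3 _ (x.1 : PrimeSpectrum A).2 htx hd)
  obtain ⟨F, hF, ⟨e⟩⟩ := S3373.result B A φ hφ t ht 𝔐 hcoh
    (fun N _ => LevelStalk.kernel_eq_image t P hreg N (h𝔐 N)) hdepth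
  have hlv : ∀ N, FlatMod.IsFinLocFree ((Scheme.Modules.pullback (LevelStalk.lv t P N)).obj F) := fun N =>
    (ConsPropLib.isFinLocFree_iso (nonempty_app_iso e N).some).2 (h𝔐 N)
  have hflat : ∀ x : (P : Scheme.{u}), x ∈ (𝓚.support : Set (P : Scheme.{u})) →
      ∃ V : (P : Scheme.{u}).Opens, x ∈ V ∧ FlatMod.IsFinLocFree ((Scheme.Modules.pullback V.ι).obj F) :=
    fun x hx => (S4652.result F (KZ.LFRes.isFP_of_isCoh hF) x).1 (LevelStalk.isFlatAt_of_levels t P F hF hlv x hx)
  choose V hxV hV using hflat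
  let U : (P : Scheme.{u}).Opens := ⨆ x : {x : (P : Scheme.{u}) // x ∈ (𝓚.support : Set (P : Scheme.{u}))}, V x.1 x.2
  have hU : (𝓚.support : Set (P : Scheme.{u})) ⊆ (U : Set (P : Scheme.{u})) := fun x hx =>
    Opens.mem_iSup.2 ⟨⟨x, hx⟩, hxV x hx⟩
  refine ⟨U, (Scheme.Modules.pullback U.ι).obj F, hU, ?_, ?_⟩
  · refine ConsPropLib.isFinLocFree_of_cover
      (fun x : {x : (P : Scheme.{u}) // x ∈ (𝓚.support : Set (P : Scheme.{u}))} =>
        (P : Scheme.{u}).homOfLE (le_iSup (fun x : {x : (P : Scheme.{u}) // x ∈ (𝓚.support : Set (P : Scheme.{u}))} => V x.1 x.2) x))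
      (fun u => ?_) fun x => ?_
    · obtain ⟨x, hx⟩ := Opens.mem_iSup.1 u.2
      exact ⟨x, ⟨u.1, hx⟩, Subtype.ext (Scheme.homOfLE_apply (X := (P : Scheme.{u})) _ ⟨u.1, hx⟩)⟩
    · exact (ConsPropLib.isFinLocFree_iso
        ((Scheme.Modules.restrictFunctorIsoPullback _).app _ ≪≫ (Scheme.Modules.pullbackComp _ U.ι).app F ≪≫
          (Scheme.Modules.pullbackCongr (Scheme.homOfLE_ι _ _)).app F)).2 (hV x.1 x.2)
  · obtain ⟨e'⟩ := nonempty_completion_restrict 𝓚 U hU F
    exact ⟨e' ≪≫ e⟩

end Groth.Agent.S5199
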