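import Groth.Statements.S5206
import Groth.Agent.DescCatLib.Basic

set_option autoImplicit false
set_option backward.isDefEq.respectTransparency false
set_option backward.isDefEq.respectTransparency.types false
open CategoryTheory CategoryTheory.Limits
universe w v₁ u₁
open DescCat

namespace Groth.Agent.S5206

/-- Second assertion: in a category with pullbacks: if `v ≫ u` is a universal effective epimorphism (all
base changes are effective epimorphisms), then so is `u`; nothing is assumed about `v`. -/
theorem result {C : Type u₁} [Category.{v₁} C] [HasPullbacks C]
    {U T S : C} (v : U ⟶ T) (u : T ⟶ S)
    (h : (MorphismProperty.universally (fun (A B : C) (p : A ⟶ B) => EffectiveEpi p)) (v ≫ u)) :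
    (MorphismProperty.universally (fun (A B : C) (p : A ⟶ B) => EffectiveEpi p)) u := by
  exact Groth.Agent.DescCatLib.universally_of_comp h

end Groth.Agent.S5206
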