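import Groth.Statements.S5208


set_option autoImplicit false
set_option backward.isDefEq.respectTransparency false
set_option backward.isDefEq.respectTransparency.types false
open CategoryTheory CategoryTheory.Limits
universe w v₁ u₁
open DescCat

namespace Groth.Agent.S5208

/-- The strong form established in its proof: if `u : T ⟶ S` admits a section and `T ×_S T` exists, then
for every presheaf of sets `F` the diagram `F(S) → F(T) ⇉ F(T ×_S T)` is exact. In particular `u` is
an effective epimorphism. -/
theorem result {C : Type u₁} [Category.{v₁} C]
    {T S : C} (u : T ⟶ S) [IsSplitEpi u] [HasPullback u u] (F : Cᵒᵖ ⥤ Type w) :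
    Function.Injective (F.map u.op) ∧
      ∀ y : F.obj (Opposite.op T),
        F.map (pullback.fst u u).op y = F.map (pullback.snd u u).op y →
          y ∈ Set.range (F.map u.op) := by
  have hs : F.map u.op ≫ F.map (section_ u).op = 𝟙 _ := by
    rw [← F.map_comp, ← op_comp, IsSplitEpi.id, op_id, F.map_id]
  refine ⟨Function.LeftInverse.injective (g := F.map (section_ u).op)
    fun x => ConcreteCategory.congr_hom hs x, fun y hy => ⟨F.map (section_ u).op y, ?_⟩⟩
  let l : T ⟶ pullback u u := pullback.lift (u ≫ section_ u) (𝟙 T) (by simp)
  have e := congrArg (F.map l.op) hy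
  simp only [← ConcreteCategory.comp_apply, ← F.map_comp, ← op_comp, l, pullback.lift_fst, pullback.lift_snd] at e
  simpa using e

end Groth.Agent.S5208
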