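import Groth.Statements.S5209
import Groth.Agent.DescCatLib.Basic

set_option autoImplicit false
set_option backward.isDefEq.respectTransparency false
set_option backward.isDefEq.respectTransparency.types false
open CategoryTheory CategoryTheory.Limits
universe w v₁ u₁
open DescCat

namespace Groth.Agent.S5209

/-- In a category with pullbacks, let `f : S' ⟶ S` be a universal effective epimorphism, that is, a
morphism all of whose base changes are effective epimorphisms. Then a morphism `g` over `S` is an
isomorphism (resp. a monomorphism) if and only if its base change along `f` is. -/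
theorem result {C : Type u₁} [Category.{v₁} C] [HasPullbacks C]
    {S' S : C} (f : S' ⟶ S) (hf : (MorphismProperty.universally (fun (A B : C) (p : A ⟶ B) => EffectiveEpi p)) f) {X Y : Over S} (g : X ⟶ Y) :
    (IsIso g ↔ IsIso ((Over.pullback f).map g)) ∧ (Mono g ↔ Mono ((Over.pullback f).map g)) := by
  have : ∀ Z (k : Z ⟶ S), Epi (pullback.fst k f) := fun Z k =>
    Groth.Agent.DescCatLib.universally_epi hf _ _ _ (IsPullback.of_hasPullback k f)
  refine ⟨⟨fun _ => inferInstance, fun _ => ?_⟩, ⟨fun _ => ?_, fun h => Functor.mono_of_mono_map _ h⟩⟩
  · have : Mono g := Functor.mono_of_mono_map (Over.pullback f) inferInstance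
    have hX := Groth.Agent.DescCatLib.universally_of_isPullback (IsPullback.of_hasPullback Y.hom f) hf
    have hc : pullback.fst Y.hom f = (inv ((Over.pullback f).map g)).left ≫ pullback.fst X.hom f ≫ g.left := by
      have e : ((Over.pullback f).map g).left ≫ pullback.fst Y.hom f = pullback.fst X.hom f ≫ g.left :=
        pullback.lift_fst _ _ _
      rw [← e, ← Category.assoc, ← Over.comp_left, IsIso.inv_hom_id]
      exact (Category.id_comp _).symm
    rw [hc] at hX
    have hg := Groth.Agent.DescCatLib.effectiveEpi_of_universally
      (Groth.Agent.DescCatLib.universally_of_comp (Groth.Agent.DescCatLib.universally_of_comp hX))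
    have : IsIso g.left := Groth.Agent.DescCatLib.isIso_of_mono_effectiveEpi g.left
    have : IsIso ((Over.forget S).map g) := this
    exact isIso_of_reflects_iso g (Over.forget S)
  · have := Functor.preservesMonomorphisms_of_adjunction (Over.mapPullbackAdj f)
    exact inferInstance

end Groth.Agent.S5209
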