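import Groth.Statements.S5210
import Groth.Agent.DescCatLib.Basic

set_option autoImplicit false
set_option backward.isDefEq.respectTransparency false
set_option backward.isDefEq.respectTransparency.types false
open CategoryTheory CategoryTheory.Limits
universe w v₁ u₁
open DescCat

namespace Groth.Agent.S5210

/-- In a category with pullbacks, let `f : S' ⟶ S` be a universal effective epimorphism (all of its base
changes are effective epimorphisms) and `Y ⟶ S` a monomorphism. Then an object `X` over `S` admits a
morphism to `Y` over `S` if and only if it does so after base change along `f`. -/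
theorem result {C : Type u₁} [Category.{v₁} C] [HasPullbacks C]
    {S' S : C} (f : S' ⟶ S) (hf : (MorphismProperty.universally (fun (A B : C) (p : A ⟶ B) => EffectiveEpi p)) f) (X Y : Over S) [Mono Y.hom] :
    Nonempty (X ⟶ Y) ↔ Nonempty ((Over.pullback f).obj X ⟶ (Over.pullback f).obj Y) := by
  refine ⟨fun ⟨φ⟩ => ⟨(Over.pullback f).map φ⟩, fun ⟨φ⟩ => ?_⟩
  have := Groth.Agent.DescCatLib.effectiveEpi_of_universally
    (Groth.Agent.DescCatLib.universally_of_isPullback (IsPullback.of_hasPullback X.hom f) hf)
  let k : pullback X.hom f ⟶ Y.left := φ.left ≫ pullback.fst Y.hom f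
  have hk : k ≫ Y.hom = pullback.fst X.hom f ≫ X.hom := by
    simp only [k, Category.assoc, pullback.condition]
    exact (Category.assoc _ _ _).symm.trans (congrArg (· ≫ f) (Over.w φ))
  let d := EffectiveEpi.desc (pullback.fst X.hom f) k fun g₁ g₂ e => by
    refine (cancel_mono Y.hom).1 ?_
    refine (Category.assoc _ _ _).trans ((congrArg (g₁ ≫ ·) hk).trans ?_)
    rw [reassoc_of% e]
    exact (congrArg (g₂ ≫ ·) hk).symm.trans (Category.assoc _ _ _).symm
  refine ⟨Over.homMk d ?_⟩
  rw [← cancel_epi (pullback.fst X.hom f), EffectiveEpi.fac_assoc, hk]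

end Groth.Agent.S5210
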