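import Groth.Statements.S5211
import Groth.Agent.DescCatLib.Basic

set_option autoImplicit false
set_option backward.isDefEq.respectTransparency false
set_option backward.isDefEq.respectTransparency.types false
open CategoryTheory CategoryTheory.Limits
universe w v₁ u₁
open DescCat

namespace Groth.Agent.S5211

/-- In a category with pullbacks: if `f : S' ⟶ S` is a universal effective epimorphism and the canonical
map `S' ×_S S' ⟶ S' ×_T S'` induced by `g : S ⟶ T` is an isomorphism, then `g` is a monomorphism. -/
theorem result {C : Type u₁} [Category.{v₁} C] [HasPullbacks C]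
    {S' S T : C} (f : S' ⟶ S) (hf : (MorphismProperty.universally (fun (A B : C) (p : A ⟶ B) => EffectiveEpi p)) f) (g : S ⟶ T)
    [IsIso (pullback.mapDesc f f g)] : Mono g := by
  refine ⟨fun {Z} a b h => ?_⟩
  have e₁ : Epi (pullback.fst a f) :=
    Groth.Agent.DescCatLib.universally_epi hf _ _ _ (IsPullback.of_hasPullback a f)
  have e₂ : Epi (pullback.fst (pullback.fst a f ≫ b) f) :=
    Groth.Agent.DescCatLib.universally_epi hf _ _ _ (IsPullback.of_hasPullback _ f)
  rw [← cancel_epi (pullback.fst a f), ← cancel_epi (pullback.fst (pullback.fst a f ≫ b) f)]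
  have c₁ := pullback.condition (f := a) (g := f)
  have c₂ := pullback.condition (f := pullback.fst a f ≫ b) (g := f)
  rw [c₁, c₂]
  let a' := pullback.fst (pullback.fst a f ≫ b) f ≫ pullback.snd a f
  let b' := pullback.snd (pullback.fst a f ≫ b) f
  have hab : a' ≫ f ≫ g = b' ≫ f ≫ g := by
    simp only [a', b', Category.assoc]
    rw [← reassoc_of% c₁, ← reassoc_of% c₂, h]
  let q := pullback.lift a' b' hab ≫ inv (pullback.mapDesc f f g)
  have hm₁ : inv (pullback.mapDesc f f g) ≫ pullback.fst f f = pullback.fst _ _ := by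
    rw [IsIso.inv_comp_eq]; simp
  have hm₂ : inv (pullback.mapDesc f f g) ≫ pullback.snd f f = pullback.snd _ _ := by
    rw [IsIso.inv_comp_eq]; simp
  have h₁ : q ≫ pullback.fst f f = a' := by simp [q, hm₁]
  have h₂ : q ≫ pullback.snd f f = b' := by simp [q, hm₂]
  refine Eq.trans (Category.assoc _ _ _).symm ?_
  show a' ≫ f = b' ≫ f
  exact (congrArg (· ≫ f) h₁.symm).trans ((Category.assoc _ _ _).trans
    ((congrArg (q ≫ ·) pullback.condition).trans
      ((Category.assoc _ _ _).symm.trans (congrArg (· ≫ f) h₂))))

end Groth.Agent.S5211
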