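import Groth.Statements.S5213

set_option backward.isDefEq.respectTransparency false
set_option backward.isDefEq.respectTransparency.types false
-- import your own Groth.Agent.* helpers here

set_option autoImplicit false
universe u
open GrpQ

set_option linter.style.haveILetI false

namespace Groth.Agent.S5213

/-- Let `B` be a local ring with infinite residue field, `A` a semi-local ring, `B → A` a ring map
carrying the maximal ideal of `B` into the Jacobson radical of `A`, `M` a finite free `A`-module and
`N` a `B`-submodule of `M` generating `M` as an `A`-module. Then `N` contains a basis of `M` over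
`A`. -/
theorem result {B A M : Type u} [CommRing B] [CommRing A]
    [IsLocalRing B] [Infinite (IsLocalRing.ResidueField B)] [Algebra B A]
    [Finite (MaximalSpectrum A)]
    (hBA : (IsLocalRing.maximalIdeal B).map (algebraMap B A) ≤ (⊥ : Ideal A).jacobson)
    [AddCommGroup M] [Module A M] [Module B M] [IsScalarTower B A M]
    [Module.Free A M] [Module.Finite A M]
    (N : Submodule B M) (hN : Submodule.span A (N : Set M) = ⊤) :
    ∃ b : Module.Basis (Fin (Module.finrank A M)) A M, ∀ i, b i ∈ N :=  by
  classical
  have avoid : ∀ {ι : Type u} (s : Finset ι) (Q : ι → Submodule B M),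
      (∀ i ∈ s, ∃ x ∈ N, x ∉ Q i) → ∃ x ∈ N, ∀ i ∈ s, x ∉ Q i := by
    intro ι s Q hQ
    induction s using Finset.induction_on with
    | empty => exact ⟨0, N.zero_mem, fun i hi => absurd hi (Finset.notMem_empty i)⟩
    | @insert j s hj ih =>
      obtain ⟨x, hx, hxs⟩ := ih fun i hi => hQ i (Finset.mem_insert_of_mem hi)
      obtain ⟨y, hy, hyj⟩ := hQ j (Finset.mem_insert_self j s)
      by_cases hxj : x ∈ Q j
      · obtain ⟨sec, hsec⟩ := (IsLocalRing.residue_surjective (R := B)).hasRightInverse
        have hbad : ∀ i ∈ insert j s, {c : IsLocalRing.ResidueField B | x + sec c • y ∈ Q i}.Subsingleton := by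
          intro i hi c hc c' hc'
          by_contra hne
          have hu : IsUnit (sec c - sec c') := IsLocalRing.residue_ne_zero_iff_isUnit _ |>.1 (by
            rw [map_sub, hsec, hsec]; exact sub_ne_zero.2 hne)
          have hyi : y ∈ Q i := by
            have h1 := (Q i).sub_mem hc hc'
            rw [add_sub_add_left_eq_sub, ← sub_smul] at h1
            exact (Submodule.smul_mem_iff_of_isUnit _ hu).1 h1
          rcases Finset.mem_insert.1 hi with rfl | hi'
          · exact hyj hyi
          · exact hxs i hi' (by simpa using (Q i).sub_mem hc ((Q i).smul_mem (sec c) hyi))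
        obtain ⟨c, hc⟩ := (Set.Infinite.sdiff Set.infinite_univ
          ((insert j s).finite_toSet.biUnion fun i hi => (hbad i hi).finite)).nonempty
        refine ⟨x + sec c • y, N.add_mem hx (N.smul_mem _ hy), fun i hi h => hc.2 ?_⟩
        exact Set.mem_biUnion (Finset.mem_coe.2 hi) h
      · exact ⟨x, hx, fun i hi => by
          rcases Finset.mem_insert.1 hi with rfl | hi
          · exact hxj
          · exact hxs i hi⟩
  rcases subsingleton_or_nontrivial A with hA | hA
  · haveI : Subsingleton M := Module.subsingleton A M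
    let b : Module.Basis (Fin (Module.finrank A M)) A M := Module.Basis.ofRepr (LinearEquiv.ofSubsingleton _ _)
    exact ⟨b, fun i => by rw [Subsingleton.elim (b i) 0]; exact N.zero_mem⟩
  let n := Module.finrank A M
  let e : Module.Basis (Fin n) A M := Module.finBasis A M
  letI := Fintype.ofFinite (MaximalSpectrum A)
  letI : ∀ m : MaximalSpectrum A, Field (A ⧸ m.asIdeal) := fun m => Ideal.Quotient.field m.asIdeal
  let φ : ∀ m : MaximalSpectrum A, M →ₗ[A] (Fin n → A ⧸ m.asIdeal) := fun m =>
    LinearMap.pi fun i => (Ideal.Quotient.mkₐ A m.asIdeal).toLinearMap ∘ₗ e.coord i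
  have hφ : ∀ m, Function.Surjective (φ m) := fun m c => by
    choose d hd using fun i => Ideal.Quotient.mk_surjective (I := m.asIdeal) (c i)
    refine ⟨e.equivFun.symm d, funext fun i => ?_⟩
    show Ideal.Quotient.mk m.asIdeal (e.equivFun (e.equivFun.symm d) i) = c i
    rw [LinearEquiv.apply_symm_apply, hd]
  have key : ∀ k : ℕ, k ≤ n → ∃ v : Fin k → M, (∀ i, v i ∈ N) ∧
      ∀ m : MaximalSpectrum A, LinearIndependent (A ⧸ m.asIdeal) (fun i => φ m (v i)) := by
    intro k
    induction k with
    | zero => exact fun _ => ⟨Fin.elim0, fun i => i.elim0, fun m => linearIndependent_empty_type⟩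
    | succ k ih =>
      intro hk
      obtain ⟨v, hv, hli⟩ := ih (by omega)
      let W : MaximalSpectrum A → Submodule B M := fun m =>
        (((Submodule.span (A ⧸ m.asIdeal) (Set.range fun i => φ m (v i))).restrictScalars A).comap
          (φ m)).restrictScalars B
      obtain ⟨x, hx, hxm⟩ := avoid Finset.univ W fun m _ => by
        by_contra! hsub
        have h1 : Submodule.span A (N : Set M) ≤
            ((Submodule.span (A ⧸ m.asIdeal) (Set.range fun i => φ m (v i))).restrictScalars A).comap (φ m) :=
          Submodule.span_le.2 fun y hy => hsub y hy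
        rw [hN] at h1
        have h2 : Submodule.span (A ⧸ m.asIdeal) (Set.range fun i => φ m (v i)) = ⊤ :=
          eq_top_iff.2 fun c _ => by
            obtain ⟨y, rfl⟩ := hφ m c
            exact h1 (Submodule.mem_top (x := y))
        have h3 := finrank_range_le_card (R := A ⧸ m.asIdeal) (fun i => φ m (v i))
        rw [Set.finrank, h2, finrank_top, Module.finrank_fin_fun, Fintype.card_fin] at h3
        omega
      refine ⟨Fin.snoc v x, fun i => ?_, fun m => ?_⟩
      · refine Fin.lastCases ?_ (fun j => ?_) i
        · rw [Fin.snoc_last]; exact hx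
        · rw [Fin.snoc_castSucc]; exact hv j
      · rw [show (fun i => φ m ((Fin.snoc v x : Fin (k + 1) → M) i)) =
          Fin.snoc (fun i => φ m (v i)) (φ m x) from Fin.comp_snoc (φ m) v x, linearIndependent_finSnoc]
        exact ⟨hli m, hxm m (Finset.mem_univ m)⟩
  obtain ⟨v, hv, hli⟩ := key n le_rfl
  have hdet : IsUnit (e.det v) := by
    by_contra h
    obtain ⟨p, hp, hmem⟩ := exists_max_ideal_of_mem_nonunits (a := e.det v) h
    let m : MaximalSpectrum A := ⟨p, hp⟩
    have h1 : ((Pi.basisFun (A ⧸ m.asIdeal) (Fin n)).det fun i => φ m (v i)) ≠ 0 := by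
      have hb := (Module.Basis.is_basis_iff_det (Pi.basisFun (A ⧸ m.asIdeal) (Fin n))).1
        ⟨hli m, (hli m).span_eq_top_of_card_eq_finrank' (by rw [Module.finrank_fin_fun, Fintype.card_fin])⟩
      exact hb.ne_zero
    refine h1 ?_
    rw [Module.Basis.det_apply, show (Pi.basisFun (A ⧸ m.asIdeal) (Fin n)).toMatrix (fun i => φ m (v i)) =
      (Ideal.Quotient.mk m.asIdeal).mapMatrix (e.toMatrix v) from rfl, ← RingHom.map_det, ← Module.Basis.det_apply]
    exact Ideal.Quotient.eq_zero_iff_mem.2 hmem
  obtain ⟨hvi, hvs⟩ := (Module.Basis.is_basis_iff_det e).2 hdet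
  exact ⟨Module.Basis.mk hvi hvs.ge, fun i => by rw [Module.Basis.mk_apply]; exact hv i⟩
end Groth.Agent.S5213
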