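import Groth.Statements.S5214
import Groth.Agent.DescCatLib.Basic

set_option autoImplicit false
set_option backward.isDefEq.respectTransparency false
set_option backward.isDefEq.respectTransparency.types false
open CategoryTheory CategoryTheory.Limits
universe w v₁ u₁
open DescCat

namespace Groth.Agent.S5214

/-- In a category with pullbacks and binary products: the product `u × u'` of two universal effective
epimorphisms (morphisms all of whose base changes are effective epimorphisms) is a universal
effective epimorphism. -/
theorem result {C : Type u₁} [Category.{v₁} C] [HasPullbacks C] [HasBinaryProducts C]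
    {X Y X' Y' : C} (u : X ⟶ Y) (u' : X' ⟶ Y')
    (hu : (MorphismProperty.universally (fun (A B : C) (p : A ⟶ B) => EffectiveEpi p)) u) (hu' : (MorphismProperty.universally (fun (A B : C) (p : A ⟶ B) => EffectiveEpi p)) u') :
    (MorphismProperty.universally (fun (A B : C) (p : A ⟶ B) => EffectiveEpi p)) (prod.map u u') := by
  have e : prod.map u u' = prod.map u (𝟙 X') ≫ prod.map (𝟙 Y) u' := by simp
  rw [e]
  refine Groth.Agent.DescCatLib.universally_comp
    (Groth.Agent.DescCatLib.universally_of_isPullback (i := prod.fst) (j := prod.fst) ⟨⟨by simp⟩, ⟨?_⟩⟩ hu)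
    (Groth.Agent.DescCatLib.universally_of_isPullback (i := prod.snd) (j := prod.snd) ⟨⟨by simp⟩, ⟨?_⟩⟩ hu')
  · refine PullbackCone.IsLimit.mk _ (fun s => prod.lift s.snd (s.fst ≫ prod.snd)) (fun s => ?_)
      (fun s => prod.lift_fst _ _) (fun s m h₁ h₂ => ?_)
    · apply Limits.prod.hom_ext <;> simp [s.condition]
    · apply Limits.prod.hom_ext <;> simp [← h₁, ← h₂]
  · refine PullbackCone.IsLimit.mk _ (fun s => prod.lift (s.fst ≫ prod.fst) s.snd) (fun s => ?_)
      (fun s => prod.lift_snd _ _) (fun s m h₁ h₂ => ?_)
    · apply Limits.prod.hom_ext <;> simp [s.condition]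
    · apply Limits.prod.hom_ext <;> simp [← h₁, ← h₂]

end Groth.Agent.S5214
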