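import Groth.Statements.S5215
import Groth.Agent.DescCatLib.Basic

set_option autoImplicit false
set_option backward.isDefEq.respectTransparency false
set_option backward.isDefEq.respectTransparency.types false
open CategoryTheory CategoryTheory.Limits
universe w v₁ u₁
open DescCat

namespace Groth.Agent.S5215

/-- In a category with pullbacks: for a universally effective equivalence relation `p₁, p₂ : R ⇉ X` with
quotient map `π : X ⟶ X/R` and a morphism `g` out of the quotient, `g` is a monomorphism if and only
if `R` is the kernel pair of `π ≫ g`. -/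
theorem result {C : Type u₁} [Category.{v₁} C] [HasPullbacks C]
    {R X Z : C} {p₁ p₂ : R ⟶ X} (e : UniversallyEffectiveEquivalenceRelation p₁ p₂)
    (f : X ⟶ Z) (g : e.B ⟶ Z) (hg : e.π ≫ g = f) :
    Mono g ↔ IsKernelPair f p₁ p₂ := by
  subst hg
  constructor
  · intro _
    refine ⟨⟨by rw [reassoc_of% e.isKernelPair.w]⟩, ⟨PullbackCone.IsLimit.mk _
      (fun s => e.isKernelPair.lift s.fst s.snd ((cancel_mono g).1 (by simpa using s.condition)))
      (fun s => e.isKernelPair.lift_fst _ _ _) (fun s => e.isKernelPair.lift_snd _ _ _)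
      (fun s m h₁ h₂ => e.isKernelPair.hom_ext (h₁.trans (e.isKernelPair.lift_fst _ _ _).symm)
        (h₂.trans (e.isKernelPair.lift_snd _ _ _).symm))⟩⟩
  · intro h
    refine ⟨fun {Z'} a b hab => ?_⟩
    have hpi := Groth.Agent.DescCatLib.universally_epi e.universally_effectiveEpi_π
    have e₁ : Epi (pullback.fst a e.π) := hpi _ _ _ (IsPullback.of_hasPullback a e.π)
    have e₂ : Epi (pullback.fst (pullback.fst a e.π ≫ b) e.π) :=
      hpi _ _ _ (IsPullback.of_hasPullback _ e.π)
    rw [← cancel_epi (pullback.fst a e.π), ← cancel_epi (pullback.fst (pullback.fst a e.π ≫ b) e.π)]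
    have c₁ := pullback.condition (f := a) (g := e.π)
    have c₂ := pullback.condition (f := pullback.fst a e.π ≫ b) (g := e.π)
    have w : (pullback.fst (pullback.fst a e.π ≫ b) e.π ≫ pullback.snd a e.π) ≫ e.π ≫ g =
        pullback.snd (pullback.fst a e.π ≫ b) e.π ≫ e.π ≫ g := by
      simp only [Category.assoc]
      rw [← reassoc_of% c₁, ← reassoc_of% c₂, hab]
    have l₁ := h.lift_fst _ _ w
    have l₂ := h.lift_snd _ _ w
    rw [c₁, c₂, ← Category.assoc]
    refine (congrArg (· ≫ e.π) l₁).symm.trans (Eq.trans ?_ (congrArg (· ≫ e.π) l₂))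
    rw [Category.assoc, e.isKernelPair.w, Category.assoc]

end Groth.Agent.S5215
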