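import Groth.Statements.S5222
import Groth.Agent.DescCatLib.GrpKer

set_option autoImplicit false
set_option backward.isDefEq.respectTransparency false
set_option backward.isDefEq.respectTransparency.types false
open CategoryTheory CategoryTheory.Limits MonoidalCategory
universe v₁ u₁
open DescCat

namespace Groth.Agent.S5222

open MonObj CartesianMonoidalCategory SemiCartesianMonoidalCategory in
/-- In a cartesian monoidal category with pullbacks: for a homomorphism `f : G ⟶ G'` of group objects
with kernel `K = G ×_{G'} e`, the pair `G × K ⇉ G` given by the projection and by multiplication is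
the kernel pair of `f`. -/
theorem result {C : Type u₁} [Category.{v₁} C]
    [CartesianMonoidalCategory C] [HasPullbacks C]
    {G G' : C} [GrpObj G] [GrpObj G'] (f : G ⟶ G') [IsMonHom f] :
    IsKernelPair f (fst G (pullback f η[G']))
      ((G ◁ pullback.fst f η[G']) ≫ μ[G]) := by
  exact Groth.Agent.DescCatLib.isKernelPair_fst_mul_kernel f

end Groth.Agent.S5222
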