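import Groth.Statements.S5224
import Groth.Agent.AlgStLib.QuotShEff
import Groth.Agent.AlgSpPts.Descent

set_option backward.isDefEq.respectTransparency false
set_option backward.isDefEq.respectTransparency.types false
-- import your own Groth.Agent.* helpers here

set_option autoImplicit false
open CategoryTheory CategoryTheory.Limits AlgebraicGeometry
universe u
open GrpQ

namespace Groth.Agent.S5224

/-- For the fppf topology: let `s, t : R ⇉ U` be an equivalence relation of schemes over `S` with `s`
faithfully flat and locally of finite presentation. A morphism `q : U ⟶ Y` over `S` is a faithfully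
flat, locally finitely presented quotient with kernel pair `R` if and only if `q` identifies `h_Y`
with the fppf quotient sheaf `U/R`. -/
theorem result {S : Scheme.{u}} {R U Y : Over S} (s t : R ⟶ U)
    [IsEquivalenceRelation s t]
    [Flat s.left] [Surjective s.left] [LocallyOfFinitePresentation s.left]
    (q : U ⟶ Y) :
    (IsKernelPair q s t ∧ Flat q.left ∧ Surjective q.left ∧ LocallyOfFinitePresentation q.left) ↔
      QuotSh.IsQuotient Scheme.fppfPrecoverage s t q :=  by
  have : (QuotSh.J Scheme.fppfPrecoverage S).Subcanonical := inferInstance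
  refine ⟨fun ⟨h, _, _, _⟩ => Groth.Agent.GrpdLib.isQuotient_of_isKernelPair _ s t q h
    (Precoverage.generate_mem_toGrothendieck q.left.singleton_mem_fppfPrecoverage), fun h => ?_⟩
  have := Groth.Agent.AlgSpPts.isLocalAtTarget_fppf (@Flat : MorphismProperty Scheme.{u})
  have := Groth.Agent.AlgSpPts.isLocalAtTarget_fppf (@LocallyOfFinitePresentation : MorphismProperty Scheme.{u})
  have := Groth.Agent.AlgSpPts.isLocalAtTarget_fppf (@Surjective : MorphismProperty Scheme.{u})
  exact ⟨Groth.Agent.AlgStLib.QuotShEff.isKernelPair_of_isQuotient _ h,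
    Groth.Agent.AlgStLib.QuotShEff.property_of_isQuotient _ le_rfl h @Flat ‹_›,
    Groth.Agent.AlgStLib.QuotShEff.property_of_isQuotient _ le_rfl h @Surjective ‹_›,
    Groth.Agent.AlgStLib.QuotShEff.property_of_isQuotient _ le_rfl h @LocallyOfFinitePresentation ‹_›⟩
end Groth.Agent.S5224
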