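import Groth.Statements.S5225
import Groth.Agent.AlgStLib.QuotShEff
import Groth.Agent.AlgSpPts.Descent

set_option backward.isDefEq.respectTransparency false
set_option backward.isDefEq.respectTransparency.types false
-- import your own Groth.Agent.* helpers here

set_option autoImplicit false
open CategoryTheory CategoryTheory.Limits AlgebraicGeometry
universe u
open GrpQ

namespace Groth.Agent.S5225

/-- For the étale topology: let `s, t : R ⇉ U` be an equivalence relation of schemes over `S` with `s`
étale and surjective. A morphism `q : U ⟶ Y` over `S` is an étale surjective quotient with kernel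
pair `R` if and only if `q` identifies `h_Y` with the étale quotient sheaf `U/R`. -/
theorem result {S : Scheme.{u}} {R U Y : Over S} (s t : R ⟶ U)
    [IsEquivalenceRelation s t] [Etale s.left] [Surjective s.left]
    (q : U ⟶ Y) :
    (IsKernelPair q s t ∧ Etale q.left ∧ Surjective q.left) ↔
      QuotSh.IsQuotient Scheme.etalePrecoverage s t q :=  by
  have hle : Scheme.etalePrecoverage.{u} ≤ Scheme.fppfPrecoverage :=
    Scheme.precoverage_mono fun _ _ _ (_ : Etale _) => ⟨inferInstance, inferInstance⟩
  have hK := Precoverage.toGrothendieck_mono hle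
  have : (Scheme.etalePrecoverage.{u}).toGrothendieck.Subcanonical := .of_le (K := Scheme.fppfTopology) hK
  have : (QuotSh.J Scheme.etalePrecoverage S).Subcanonical := inferInstance
  refine ⟨fun ⟨h, _, _⟩ => Groth.Agent.GrpdLib.isQuotient_of_isKernelPair _ s t q h
    (Precoverage.generate_mem_toGrothendieck ?_), fun h => ?_⟩
  · rw [Scheme.etalePrecoverage, Scheme.singleton_mem_precoverage_iff]
    exact ⟨Surjective.surj, inferInstance⟩
  have := Groth.Agent.AlgSpPts.isLocalAtTarget_fppf (@Etale : MorphismProperty Scheme.{u})
  have := Groth.Agent.AlgSpPts.isLocalAtTarget_fppf (@Surjective : MorphismProperty Scheme.{u})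
  exact ⟨Groth.Agent.AlgStLib.QuotShEff.isKernelPair_of_isQuotient _ h,
    Groth.Agent.AlgStLib.QuotShEff.property_of_isQuotient _ hK h @Etale ‹_›,
    Groth.Agent.AlgStLib.QuotShEff.property_of_isQuotient _ hK h @Surjective ‹_›⟩
end Groth.Agent.S5225
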