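import Groth.Statements.S5226
import Groth.Agent.ShfCatLib.Exact

set_option autoImplicit false
set_option backward.isDefEq.respectTransparency false
set_option backward.isDefEq.respectTransparency.types false
open CategoryTheory CategoryTheory.Limits
universe w v₁ u₁
open ShfCat

namespace Groth.Agent.S5226

/-- For sheaves of sets on a site with sheafification: if `R ⇉ X` is an equivalence relation with
(universally effective) quotient `X/R` and `Y ⊆ X` is a subsheaf with induced relation `R_Y`, then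
the canonical map `Y/R_Y ⟶ X/R` is a monomorphism. Here `R_Y` is built as the iterated pullback of
`R` along `Y ⟶ X` on both sides. -/
theorem result {C : Type u₁} [Category.{v₁} C]
    (J : GrothendieckTopology C) [HasSheafify J (Type w)]
    {R X Y : Sheaf J (Type w)} {p₁ p₂ : R ⟶ X} (e : UniversallyEffectiveEquivalenceRelation p₁ p₂)
    (ι : Y ⟶ X) [Mono ι]
    [HasCoequalizer (pullback.fst (pullback.fst p₁ ι ≫ p₂) ι ≫ pullback.snd p₁ ι)
      (pullback.snd (pullback.fst p₁ ι ≫ p₂) ι)]
    (g : coequalizer (pullback.fst (pullback.fst p₁ ι ≫ p₂) ι ≫ pullback.snd p₁ ι)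
      (pullback.snd (pullback.fst p₁ ι ≫ p₂) ι) ⟶ e.B)
    (hg : coequalizer.π _ _ ≫ g = ι ≫ e.π) :
    Mono g := by
  open CategoryTheory.Limits in
  let q := coequalizer.π (pullback.fst (pullback.fst p₁ ι ≫ p₂) ι ≫ pullback.snd p₁ ι)
      (pullback.snd (pullback.fst p₁ ι ≫ p₂) ι)
  have hq : Epi q := coequalizer.π_epi
  refine ⟨fun {T} a b hab => ?_⟩
  let sa := pullback.snd a q
  have ha : Epi (pullback.fst a q) :=
    MorphismProperty.of_isPullback (P := MorphismProperty.epimorphisms (Sheaf J (Type w)))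
      (IsPullback.of_hasPullback a q).flip hq
  let t := pullback.fst a q
  have hb : Epi (pullback.fst (t ≫ b) q) :=
    MorphismProperty.of_isPullback (P := MorphismProperty.epimorphisms (Sheaf J (Type w)))
      (IsPullback.of_hasPullback (t ≫ b) q).flip hq
  let t' := pullback.fst (t ≫ b) q
  let y₁ := t' ≫ sa
  let y₂ := pullback.snd (t ≫ b) q
  have h₁ : t' ≫ t ≫ a = y₁ ≫ q := by simp only [t', y₁, sa, t, Category.assoc, pullback.condition]
  have h₂ : t' ≫ t ≫ b = y₂ ≫ q := pullback.condition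
  have hπ : (y₁ ≫ ι) ≫ e.π = (y₂ ≫ ι) ≫ e.π := by
    rw [Category.assoc y₁ ι, Category.assoc y₂ ι, ← hg]
    change y₁ ≫ q ≫ g = y₂ ≫ q ≫ g
    rw [← Category.assoc y₁, ← h₁, ← Category.assoc y₂, ← h₂]
    simp only [Category.assoc, hab]
  let r := e.isKernelPair.lift _ _ hπ
  let k := pullback.lift (pullback.lift r y₁ (e.isKernelPair.lift_fst _ _ hπ)) y₂
    (show pullback.lift r y₁ (e.isKernelPair.lift_fst _ _ hπ) ≫ pullback.fst p₁ ι ≫ p₂ = y₂ ≫ ι by
      rw [← Category.assoc, pullback.lift_fst]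
      exact e.isKernelPair.lift_snd _ _ hπ)
  have hk : y₁ ≫ q = y₂ ≫ q := by
    have := congrArg (k ≫ ·) (coequalizer.condition
      (pullback.fst (pullback.fst p₁ ι ≫ p₂) ι ≫ pullback.snd p₁ ι) (pullback.snd (pullback.fst p₁ ι ≫ p₂) ι))
    simpa [k, q] using this
  rw [← cancel_epi t, ← cancel_epi t', h₁, h₂, hk]

end Groth.Agent.S5226
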