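import Groth.Statements.S5227
import Groth.Agent.ShfCatLib.Exact

set_option autoImplicit false
set_option backward.isDefEq.respectTransparency false
set_option backward.isDefEq.respectTransparency.types false
open CategoryTheory CategoryTheory.Limits
universe w v₁ u₁
open ShfCat

namespace Groth.Agent.S5227

/-- For sheaves of sets on a site with sheafification: for an equivalence relation `R ⇉ X` with
(universally effective) quotient `π : X ⟶ X/R`, inverse image along `π` is a bijection from the
subsheaves of `X/R` onto the subsheaves of `X` stable under `R` (those whose two inverse images in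
`R` agree). -/
theorem result {C : Type u₁} [Category.{v₁} C]
    (J : GrothendieckTopology C) [HasSheafify J (Type w)]
    {R X : Sheaf J (Type w)} {p₁ p₂ : R ⟶ X} (e : UniversallyEffectiveEquivalenceRelation p₁ p₂) :
    Function.Injective (Subobject.pullback e.π).obj ∧
      Set.range (Subobject.pullback e.π).obj =
        {Y : Subobject X | (Subobject.pullback p₁).obj Y = (Subobject.pullback p₂).obj Y} := by
  open CategoryTheory.Limits in
  constructor
  · intro Z₁ Z₂ h
    have key : ∀ {A B : Subobject e.B},
        (Subobject.pullback e.π).obj A = (Subobject.pullback e.π).obj B → A ≤ B := by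
      intro A B hAB
      have he : Epi (pullback.fst A.arrow e.π) :=
        MorphismProperty.of_isPullback (P := MorphismProperty.epimorphisms (Sheaf J (Type w)))
          (IsPullback.of_hasPullback A.arrow e.π).flip (inferInstance : Epi e.π)
      rw [Subobject.pullback_obj, Subobject.pullback_obj] at hAB
      have sq : CommSq (Subobject.ofMkLEMk _ _ hAB.le ≫ pullback.fst B.arrow e.π)
          (pullback.fst A.arrow e.π) B.arrow A.arrow :=
        ⟨by rw [Category.assoc, pullback.condition, ← Category.assoc, Subobject.ofMkLEMk_comp,
              pullback.condition]⟩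
      have : StrongEpi (pullback.fst A.arrow e.π) := strongEpi_of_epi _
      exact Subobject.le_of_comm sq.lift sq.fac_right
    exact le_antisymm (key h) (key h.symm)
  · ext Y
    constructor
    · rintro ⟨Z, rfl⟩
      show (Subobject.pullback p₁).obj _ = (Subobject.pullback p₂).obj _
      rw [← Subobject.pullback_comp, ← Subobject.pullback_comp, e.isPushout.w]
    · intro hY
      obtain ⟨I, q, m, hq, hm, hqm⟩ := Groth.Agent.ShfCatLib.exists_factorisation (Y.arrow ≫ e.π)
      refine ⟨Subobject.mk m, ?_⟩
      have hsq := (Subobject.pullback_obj_mk (IsPullback.of_hasPullback m e.π))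
      rw [hsq]
      refine le_antisymm ?_ ?_
      · let T' := pullback (pullback.fst m e.π) q
        let s : T' ⟶ _ := pullback.fst (pullback.fst m e.π) q
        have hs : Epi s :=
          MorphismProperty.of_isPullback (P := MorphismProperty.epimorphisms (Sheaf J (Type w)))
            (IsPullback.of_hasPullback (pullback.fst m e.π) q).flip hq
        have hπ : (s ≫ pullback.snd m e.π) ≫ e.π =
            (pullback.snd (pullback.fst m e.π) q ≫ Y.arrow) ≫ e.π := by
          rw [Category.assoc, ← pullback.condition, Category.assoc, ← hqm, ← Category.assoc s,
            show s ≫ pullback.fst m e.π = pullback.snd (pullback.fst m e.π) q ≫ q from pullback.condition,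
            Category.assoc]
        let r := e.isKernelPair.lift _ _ hπ
        have hY' : Subobject.mk (pullback.snd Y.arrow p₂) = Subobject.mk (pullback.snd Y.arrow p₁) :=
          (Subobject.pullback_obj p₂ Y).symm.trans (hY.symm.trans (Subobject.pullback_obj p₁ Y))
        obtain ⟨k, hk⟩ : ∃ k : T' ⟶ pullback Y.arrow p₁, k ≫ pullback.snd Y.arrow p₁ = r :=
          ⟨pullback.lift _ r (e.isKernelPair.lift_snd _ _ hπ).symm ≫ Subobject.ofMkLEMk _ _ hY'.le, by
            rw [Category.assoc, Subobject.ofMkLEMk_comp, pullback.lift_snd]⟩
        have sq : CommSq (k ≫ pullback.fst Y.arrow p₁) s Y.arrow (pullback.snd m e.π) := by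
          constructor
          rw [Category.assoc, pullback.condition, ← Category.assoc, hk]
          exact e.isKernelPair.lift_fst _ _ hπ
        have : StrongEpi s := strongEpi_of_epi _
        exact Subobject.mk_le_of_comm sq.lift sq.fac_right
      · exact Subobject.le_mk_of_comm (pullback.lift q Y.arrow hqm) (pullback.lift_snd _ _ _)

end Groth.Agent.S5227
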