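import Groth.Statements.S5231


set_option autoImplicit false
set_option backward.isDefEq.respectTransparency false
set_option backward.isDefEq.respectTransparency.types false
open CategoryTheory
universe w v₁ u₁
open ShfCat

namespace Groth.Agent.S5231

/-- (iii) ⇒ (i): a morphism `f` of sheaves of sets on a site is a monomorphism (resp. an epimorphism) as
soon as, for every object `S`, the morphisms `T ⟶ S` over which the restriction of `f` to the
induced site `C/T` is a monomorphism (resp. an epimorphism) form a covering sieve. No sheafification
is assumed. (The published statement also treats isomorphisms in the same way; that case is left out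
here.) -/
theorem result {C : Type u₁} [Category.{v₁} C]
    (J : GrothendieckTopology C) {F G : Sheaf J (Type w)} (f : F ⟶ G) :
    ((∀ S : C, ∃ R : Sieve S, R ∈ J S ∧ ∀ ⦃T : C⦄ (g : T ⟶ S), R g →
        Mono ((J.overPullback (Type w) T).map f)) → Mono f) ∧
    ((∀ S : C, ∃ R : Sieve S, R ∈ J S ∧ ∀ ⦃T : C⦄ (g : T ⟶ S), R g →
        Epi ((J.overPullback (Type w) T).map f)) → Epi f) := by
  open CategoryTheory.Limits in
  constructor
  · intro h
    refine ⟨fun {Z} a b hab => ?_⟩
    apply (sheafToPresheaf J (Type w)).map_injective
    ext U x
    obtain ⟨R, hR, hm⟩ := h U.unop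
    apply Presieve.IsSeparatedFor.ext ((((isSheaf_iff_isSheaf_of_type _ _).1 F.property).isSeparated) R hR)
    intro T g hg
    have := hm g hg
    have key : (J.overPullback (Type w) T).map a = (J.overPullback (Type w) T).map b := by
      rw [← cancel_mono ((J.overPullback (Type w) T).map f), ← Functor.map_comp, ← Functor.map_comp, hab]
    refine ((NatTrans.naturality_apply a.hom g.op x).symm.trans ?_).trans (NatTrans.naturality_apply b.hom g.op x)
    exact congrArg (fun q : (J.overPullback (Type w) T).obj Z ⟶ (J.overPullback (Type w) T).obj F =>
      q.hom.app (Opposite.op (Over.mk (𝟙 T))) (Z.obj.map g.op x)) key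
  · intro h
    refine ⟨fun {Z} a b hab => ?_⟩
    apply (sheafToPresheaf J (Type w)).map_injective
    ext U x
    obtain ⟨R, hR, hm⟩ := h U.unop
    apply Presieve.IsSeparatedFor.ext ((((isSheaf_iff_isSheaf_of_type _ _).1 Z.property).isSeparated) R hR)
    intro T g hg
    have := hm g hg
    have key : (J.overPullback (Type w) T).map a = (J.overPullback (Type w) T).map b := by
      rw [← cancel_epi ((J.overPullback (Type w) T).map f), ← Functor.map_comp, ← Functor.map_comp, hab]
    refine ((NatTrans.naturality_apply a.hom g.op x).symm.trans ?_).trans (NatTrans.naturality_apply b.hom g.op x)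
    exact congrArg (fun q : (J.overPullback (Type w) T).obj G ⟶ (J.overPullback (Type w) T).obj Z =>
      q.hom.app (Opposite.op (Over.mk (𝟙 T))) (G.obj.map g.op x)) key

end Groth.Agent.S5231
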