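import Groth.Statements.S5232
import Groth.Agent.AlgSpDec.FppfDescent
import Groth.Agent.AlgStLib.QuotShEff
import Groth.Agent.EtFound.Descent

set_option backward.isDefEq.respectTransparency false
set_option backward.isDefEq.respectTransparency.types false
-- import your own Groth.Agent.* helpers here

set_option autoImplicit false
open CategoryTheory CategoryTheory.Limits AlgebraicGeometry
universe u
open GrpQ

namespace Groth.Agent.S5232

/-- On the big fppf site of a scheme `S`, in the case where the local representing objects are affine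
over the cover (so that the canonical descent datum is effective): if `Z` is an fppf sheaf over `S`
and, for an fppf cover `S' ⟶ S`, the sheaf `Z ×_S S'` is represented over `S'` by a scheme affine
over `S'`, then `Z` is represented by a scheme affine over `S`. -/
theorem result {S S' : Scheme.{u}} (f : S' ⟶ S)
    [Flat f] [Surjective f] [LocallyOfFinitePresentation f]
    (Z : QuotSh.Sh Scheme.fppfPrecoverage S)
    (T' : Over S) (a : T' ⟶ Over.mk f) [IsAffineHom a.left]
    (φ : QuotSh.rep Scheme.fppfPrecoverage T' ≅ Z ⨯ QuotSh.rep Scheme.fppfPrecoverage (Over.mk f))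
    (hφ : φ.hom ≫ prod.snd = QuotSh.repMap Scheme.fppfPrecoverage a) :
    ∃ T : Over S, IsAffineHom T.hom ∧ Nonempty (QuotSh.rep Scheme.fppfPrecoverage T ≅ Z) :=  by
  let T₀ : Over S := CategoryTheory.Over.mk (𝟙 S)
  let P : AlgSp.Sp S := Z
  let isT : Limits.IsTerminal T₀ := CategoryTheory.Over.mkIdTerminal
  let hT : Limits.IsTerminal ((AlgSp.yon S).obj T₀) := isT.isTerminalObj (AlgSp.yon S) _
  let q : P ⟶ (AlgSp.yon S).obj T₀ := hT.from P
  let π : Over.mk f ⟶ T₀ := CategoryTheory.Over.homMk f (Category.comp_id _)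
  have hp : AlgSp.RepWith Groth.Agent.AlgSpLib.fppf ((AlgSp.yon S).map π) :=
    (AlgSp.repWith_yon_map_iff _ π).2 (Groth.Agent.AlgSpLib.fppf_of f)
  let eT := QuotSh.repIsoUliftYoneda Scheme.fppfPrecoverage T'
  let eF := QuotSh.repIsoUliftYoneda Scheme.fppfPrecoverage (Over.mk f)
  let w : (AlgSp.yon S).obj T' ⟶ P := eT.inv ≫ φ.hom ≫ prod.fst
  have ha : eT.inv ≫ φ.hom ≫ prod.snd ≫ eF.hom = (AlgSp.yon S).map a := by
    rw [reassoc_of% hφ, ← Groth.Agent.AlgStLib.QuotShEff.repMap_iso, Iso.inv_hom_id_assoc]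
  have hlim : IsLimit (BinaryFan.mk w ((AlgSp.yon S).map a)) :=
      BinaryFan.IsLimit.mk _
        (fun {W} u v => prod.lift u (v ≫ eF.inv) ≫ φ.inv ≫ eT.hom)
        (fun {W} u v => by
          simp [w]
          exact prod.lift_fst _ _)
        (fun {W} u v => by
          rw [← ha]
          simp
          exact (prod.lift_snd_assoc _ _ _).trans ((Category.assoc _ _ _).trans
            ((congrArg (v ≫ ·) eF.inv_hom_id).trans (Category.comp_id _))))
        (fun {W} u v m h₁ h₂ => by
          rw [← cancel_mono eT.inv, ← cancel_mono φ.hom]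
          simp only [Category.assoc, Iso.hom_inv_id, Category.comp_id, Iso.inv_hom_id]
          apply Limits.prod.hom_ext
          · simp [w] at h₁ ⊢
            exact h₁.trans (prod.lift_fst _ _).symm
          · rw [prod.lift_snd, ← cancel_mono eF.hom]
            simp only [Category.assoc, Iso.inv_hom_id, Category.comp_id]
            rw [ha]
            exact h₂)
  have sq : IsPullback w ((AlgSp.yon S).map a) q ((AlgSp.yon S).map π) := by
    rw [hT.hom_ext q (hT.from P), hT.hom_ext ((AlgSp.yon S).map π) (hT.from _)]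
    exact IsPullback.of_is_product hlim hT
  have := Groth.Agent.EtFound.fpqc_isAffineHom.{u}
  have h := Groth.Agent.AlgSpDec.Fppf.repWith_of_fppf_cover (P := @IsAffineHom) le_rfl hp sq
    ((AlgSp.repWith_yon_map_iff _ a).2 ‹IsAffineHom a.left›)
  have sq' := h.rep.isPullback (𝟙 ((AlgSp.yon S).obj T₀))
  have hQ : IsAffineHom (h.rep.snd (𝟙 ((AlgSp.yon S).obj T₀))).left := h.property_snd _
  refine ⟨h.rep.pullback (𝟙 ((AlgSp.yon S).obj T₀)), ?_, ⟨?_⟩⟩
  · have e := CategoryTheory.Over.w (h.rep.snd (𝟙 ((AlgSp.yon S).obj T₀)))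
    rw [← e]
    exact inferInstanceAs (IsAffineHom (_ ≫ 𝟙 S))
  · have : IsIso (h.rep.fst (𝟙 ((AlgSp.yon S).obj T₀))) := sq'.isIso_fst_of_isIso
    exact QuotSh.repIsoUliftYoneda Scheme.fppfPrecoverage _ ≪≫ asIso (h.rep.fst (𝟙 ((AlgSp.yon S).obj T₀)))
end Groth.Agent.S5232
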