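import Groth.Statements.S5233
import Groth.Agent.DescLib.SigmaLocal
import Groth.Agent.EtFound.Descent

set_option backward.isDefEq.respectTransparency false
set_option backward.isDefEq.respectTransparency.types false
-- import your own Groth.Agent.* helpers here

set_option autoImplicit false
open CategoryTheory CategoryTheory.Limits AlgebraicGeometry
universe u
open GrpQ

namespace Groth.Agent.S5233

/-- For schemes, with (M) the faithfully flat quasi-compact morphisms and (N) the closed immersions: if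
`π : X ⟶ X'` is flat, surjective and quasi-compact (so `X' = X/R` for its kernel pair `R ⇉ X`), then
`Y' ↦ π⁻¹(Y')` is a bijection from closed subschemes of `X'` onto the closed subschemes of `X`
stable under `R`. -/
theorem result {X X' : Scheme.{u}} (π : X ⟶ X')
    [Flat π] [Surjective π] [QuasiCompact π] :
    Set.BijOn (Subobject.pullback π).obj
      {Y' : Subobject X' | IsClosedImmersion Y'.arrow}
      {Y : Subobject X | IsClosedImmersion Y.arrow ∧
        (Subobject.pullback (pullback.fst π π)).obj Y = (Subobject.pullback (pullback.snd π π)).obj Y} :=  by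
  have := Groth.Agent.EtFound.fpqc_isClosedImmersion
  have hfac : ∀ {A B : Scheme.{u}} (f : A ⟶ B) (Y : Subobject B) {T : Scheme.{u}} (g : T ⟶ A),
      (∃ l, l ≫ ((Subobject.pullback f).obj Y).arrow = g) ↔ ∃ l, l ≫ Y.arrow = g ≫ f := by
    intro A B f Y T g
    refine ⟨fun ⟨l, hl⟩ => ⟨l ≫ Subobject.pullbackπ f Y, ?_⟩, fun ⟨l, hl⟩ =>
      ⟨(Subobject.isPullback f Y).lift l g hl, IsPullback.lift_snd _ _ _ _⟩⟩
    rw [Category.assoc, (Subobject.isPullback f Y).w, reassoc_of% hl]
  refine ⟨fun Y' hY' => ?_, fun Y₁ h₁ Y₂ h₂ h => ?_, fun Y ⟨hY, hY'⟩ => ?_⟩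
  · refine ⟨MorphismProperty.of_isPullback (Subobject.isPullback π Y') hY', ?_⟩
    rw [← Subobject.pullback_comp, ← Subobject.pullback_comp, pullback.condition]
  · have le : ∀ {Z₁ Z₂ : Subobject X'},
        (Subobject.pullback π).obj Z₁ ≤ (Subobject.pullback π).obj Z₂ → Z₁ ≤ Z₂ := by
      intro Z₁ Z₂ hle
      have sq := Subobject.isPullback π Z₁
      set e := Subobject.pullbackπ π Z₁
      have := MorphismProperty.of_isPullback (P := @Flat) sq.flip ‹Flat π›
      have := MorphismProperty.of_isPullback (P := @Surjective) sq.flip ‹Surjective π›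
      have := MorphismProperty.of_isPullback (P := @QuasiCompact) sq.flip ‹QuasiCompact π›
      let b := Subobject.ofLE _ _ hle ≫ Subobject.pullbackπ π Z₂
      have hb : b ≫ Z₂.arrow = e ≫ Z₁.arrow := by
        rw [Category.assoc, (Subobject.isPullback π Z₂).w, Subobject.ofLE_arrow_assoc, sq.w]
      let m := EffectiveEpi.desc e b (fun g₁ g₂ hg => (cancel_mono Z₂.arrow).1 (by
        simp only [Category.assoc] at hb ⊢
        simp only [b, Category.assoc, hb, reassoc_of% hg]))
      exact Subobject.le_of_comm m ((cancel_epi e).1 (by rw [EffectiveEpi.fac_assoc, hb]))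
    exact le_antisymm (le h.le) (le h.ge)
  · have : IsClosedImmersion Y.arrow := hY
    have stab : ∀ {T : Scheme.{u}} (x₀ x₁ : T ⟶ X), x₀ ≫ π = x₁ ≫ π →
        (∃ l, l ≫ Y.arrow = x₀) → ∃ l, l ≫ Y.arrow = x₁ := by
      intro T x₀ x₁ hx hl
      let g := pullback.lift x₀ x₁ hx
      rw [← pullback.lift_fst x₀ x₁ hx] at hl
      obtain ⟨l, hl'⟩ := (hfac (pullback.fst π π) Y g).2 hl
      rw [← pullback.lift_snd x₀ x₁ hx]
      have e : ∃ l', l' ≫ ((Subobject.pullback (pullback.snd π π)).obj Y).arrow = g := hY' ▸ ⟨l, hl'⟩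
      exact (hfac (pullback.snd π π) Y g).1 e
    let D : Desc.SchDD π :=
      { obj := Over.mk Y.arrow
        φ := fun T x₀ x₁ h =>
          { toFun := fun v => ⟨(stab x₀ x₁ h ⟨v.1, v.2⟩).choose, (stab x₀ x₁ h ⟨v.1, v.2⟩).choose_spec⟩
            invFun := fun v => ⟨(stab x₁ x₀ h.symm ⟨v.1, v.2⟩).choose, (stab x₁ x₀ h.symm ⟨v.1, v.2⟩).choose_spec⟩
            left_inv := fun v => Subtype.ext ((cancel_mono Y.arrow).1
              ((stab x₁ x₀ h.symm ⟨_, (stab x₀ x₁ h ⟨v.1, v.2⟩).choose_spec⟩).choose_spec.trans v.2.symm))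
            right_inv := fun v => Subtype.ext ((cancel_mono Y.arrow).1
              ((stab x₀ x₁ h ⟨_, (stab x₁ x₀ h.symm ⟨v.1, v.2⟩).choose_spec⟩).choose_spec.trans v.2.symm)) }
        φ_natural := fun T T' g x₀ x₁ h h' v v' _ => (cancel_mono Y.arrow).1 (by
          dsimp
          rw [(stab (g ≫ x₀) (g ≫ x₁) h' ⟨v'.1, v'.2⟩).choose_spec, Category.assoc, (stab x₀ x₁ h ⟨v.1, v.2⟩).choose_spec])
        φ_self := fun T x v => Subtype.ext ((cancel_mono Y.arrow).1 ((stab x x rfl ⟨v.1, v.2⟩).choose_spec.trans v.2.symm))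
        φ_comp := fun T x₀ x₁ x₂ h₀₁ h₁₂ v => Subtype.ext ((cancel_mono Y.arrow).1
          ((stab x₁ x₂ h₁₂ ⟨_, (stab x₀ x₁ h₀₁ ⟨v.1, v.2⟩).choose_spec⟩).choose_spec.trans (stab x₀ x₂ (h₀₁.trans h₁₂) ⟨v.1, v.2⟩).choose_spec.symm)) }
    have : IsAffineHom D.obj.hom := inferInstanceAs (IsAffineHom Y.arrow)
    obtain ⟨U, ⟨e⟩⟩ := Groth.Agent.DescLib.effective_of_isAffineHom π D
    let eo : pullback π U.hom ≅ (Y : Scheme.{u}) :=
      { hom := e.hom.hom.left
        inv := e.inv.hom.left
        hom_inv_id := congrArg CommaMorphism.left (congrArg Desc.SchDD.Hom.hom e.hom_inv_id)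
        inv_hom_id := congrArg CommaMorphism.left (congrArg Desc.SchDD.Hom.hom e.inv_hom_id) }
    have he : eo.hom ≫ Y.arrow = pullback.fst π U.hom := Over.w e.hom.hom
    have hU : IsClosedImmersion U.hom := by
      refine MorphismProperty.of_pullback_fst_of_descendsAlong (P := @IsClosedImmersion)
        (Q := (@Surjective ⊓ @Flat ⊓ @QuasiCompact : MorphismProperty Scheme.{u})) (f := π) (g := U.hom)
        ⟨⟨‹_›, ‹_›⟩, ‹_›⟩ ?_
      have : IsIso eo.hom := ⟨eo.inv, eo.hom_inv_id, eo.inv_hom_id⟩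
      rw [← he, MorphismProperty.cancel_left_of_respectsIso (P := @IsClosedImmersion)]
      exact hY
    refine ⟨Subobject.mk U.hom, ?_, ?_⟩
    · show IsClosedImmersion _
      rw [← Subobject.underlyingIso_hom_comp_eq_mk]
      infer_instance
    · rw [Subobject.pullback_obj_mk (IsPullback.of_hasPullback π U.hom).flip]
      exact (Subobject.mk_eq_mk_of_comm _ _ eo he).trans (Subobject.mk_arrow Y)
end Groth.Agent.S5233
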