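import Groth.Statements.S5234
import Groth.Agent.SrcDescent.SmoothFppf
-- import your own Groth.Agent.* helpers here

set_option autoImplicit false
open CategoryTheory CategoryTheory.Limits AlgebraicGeometry MonoidalCategory
universe u
open RedSub

namespace Groth.Agent.S5234

open CartesianMonoidalCategory SemiCartesianMonoidalCategory in
/-- (ii) ⇔ (iii), for schemes with the fppf topology: let `G` be an `S`-group scheme which is faithfully
flat and locally of finite presentation over `S`, acting on `X` so that `X` is formally principal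
homogeneous. Then `X` is a torsor (its structure map is faithfully flat and locally of finite
presentation) if and only if `X` has a point over some faithfully flat, locally finitely presented
`S' ⟶ S`. -/
theorem result {S : Scheme.{u}} {G X : Over S} [GrpObj G]
    (a : AlgGrp.Action G X)
    [Flat G.hom] [Surjective G.hom] [LocallyOfFinitePresentation G.hom]
    (hX : IsIso (lift a.act (snd G X))) :
    RedSub.IsTorsor a ↔
      ∃ S' : Over S, Surjective S'.hom ∧ Flat S'.hom ∧ LocallyOfFinitePresentation S'.hom ∧
        Nonempty (S' ⟶ X) := by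
  constructor
  · intro h
    exact ⟨X, h.1, h.2.1, h.2.2.1, ⟨𝟙 X⟩⟩
  · rintro ⟨S', hs, hf, hp, ⟨x⟩⟩
    haveI := hX
    set Φ := lift a.act (snd G X) with hΦ
    let φ : G ⊗ S' ⟶ X ⊗ S' := lift (lift (fst G S') (snd G S' ≫ x) ≫ a.act) (snd G S')
    let ψ : X ⊗ S' ⟶ G ⊗ S' := lift (lift (fst X S') (snd X S' ≫ x) ≫ inv Φ ≫ fst G X) (snd X S')
    have hsnd : inv Φ ≫ snd G X = snd X X := by rw [IsIso.inv_comp_eq, hΦ, lift_snd]
    have hact : inv Φ ≫ a.act = fst X X := by rw [IsIso.inv_comp_eq, hΦ, lift_fst]
    have h1 : φ ≫ ψ = 𝟙 _ := by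
      ext1
      · simp only [φ, ψ, Category.assoc, lift_fst, comp_lift_assoc, lift_snd_assoc, Category.id_comp]
        have h : lift (lift (fst G S') (snd G S' ≫ x) ≫ a.act) (snd G S' ≫ x) =
            lift (fst G S') (snd G S' ≫ x) ≫ Φ := by
          rw [hΦ, comp_lift, lift_snd]
        rw [h, Category.assoc, IsIso.hom_inv_id_assoc, lift_fst]
      · simp only [φ, ψ, Category.assoc, lift_snd, Category.id_comp]
    have h2 : ψ ≫ φ = 𝟙 _ := by
      ext1
      · simp only [φ, ψ, Category.assoc, lift_fst, comp_lift_assoc, lift_snd_assoc, Category.id_comp]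
        have h : lift (lift (fst X S') (snd X S' ≫ x) ≫ inv Φ ≫ fst G X) (snd X S' ≫ x) =
            lift (fst X S') (snd X S' ≫ x) ≫ inv Φ := by
          ext1
          · rw [lift_fst, Category.assoc]
          · rw [lift_snd, Category.assoc, hsnd, lift_snd]
        rw [h, Category.assoc, hact, lift_fst]
      · simp only [φ, ψ, Category.assoc, lift_snd, Category.id_comp]
    let e : (G ⊗ S').left ≅ (X ⊗ S').left := (Over.forget S).mapIso ⟨φ, ψ, h1, h2⟩
    have he : e.inv ≫ (G ⊗ S').hom = (X ⊗ S').hom := Over.w ψ
    haveI : Flat (G ⊗ S').hom := inferInstanceAs (Flat (Limits.pullback.fst G.hom S'.hom ≫ G.hom))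
    haveI : LocallyOfFinitePresentation (G ⊗ S').hom :=
      inferInstanceAs (LocallyOfFinitePresentation (Limits.pullback.fst G.hom S'.hom ≫ G.hom))
    haveI : Flat (Limits.pullback.fst X.hom S'.hom ≫ X.hom) := by
      show Flat (X ⊗ S').hom
      rw [← he]; infer_instance
    haveI : LocallyOfFinitePresentation (Limits.pullback.fst X.hom S'.hom ≫ X.hom) := by
      show LocallyOfFinitePresentation (X ⊗ S').hom
      rw [← he]; infer_instance
    have hsurj : Surjective X.hom := by
      haveI : Surjective (x.left ≫ X.hom) := by rw [Over.w x]; exact hs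
      exact Surjective.of_comp x.left X.hom
    exact ⟨hsurj, Agent.SrcDescent.flat_of_fppf_comp (Limits.pullback.fst X.hom S'.hom) X.hom,
      Agent.SrcDescent.locallyOfFinitePresentation_of_fppf_comp (Limits.pullback.fst X.hom S'.hom) X.hom, hX⟩

end Groth.Agent.S5234
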