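import Groth.Statements.S5235
import Groth.Agent.GrpdLib.OpenSubobj

set_option backward.isDefEq.respectTransparency false
set_option backward.isDefEq.respectTransparency.types false
-- import your own Groth.Agent.* helpers here

set_option autoImplicit false
open CategoryTheory CategoryTheory.Limits AlgebraicGeometry
universe u
open GrpQ

namespace Groth.Agent.S5235

/-- For schemes, with (M) the faithfully flat quasi-compact morphisms and (N) the open immersions: if `π
: X ⟶ X'` is flat, surjective and quasi-compact, then `Y' ↦ π⁻¹(Y')` is a bijection from open
subschemes of `X'` onto the open subschemes of `X` stable under the kernel pair of `π`. -/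
theorem result {X X' : Scheme.{u}} (π : X ⟶ X')
    [Flat π] [Surjective π] [QuasiCompact π] :
    Set.BijOn (Subobject.pullback π).obj
      {Y' : Subobject X' | IsOpenImmersion Y'.arrow}
      {Y : Subobject X | IsOpenImmersion Y.arrow ∧
        (Subobject.pullback (pullback.fst π π)).obj Y = (Subobject.pullback (pullback.snd π π)).obj Y} := by exact GrpdLib.OpenSubobj.bijOn_pullback π
end Groth.Agent.S5235
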