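import Groth.Statements.S5238
import Groth.Agent.S2735
-- import your own Groth.Agent.* helpers here

set_option autoImplicit false
open CategoryTheory AlgebraicGeometry
universe w u
open GrpQ

namespace Groth.Agent.S5238

/-- A presheaf of sets on schemes is a sheaf for the fppf topology (the topology generated by jointly
surjective families of flat morphisms locally of finite presentation) if and only if it is a Zariski
sheaf and satisfies the sheaf condition for every single morphism of affine schemes `T ⟶ S` which is
flat, surjective, locally of finite presentation and locally quasi-finite. (Between affine schemes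
such a morphism is faithfully flat, of finite presentation and quasi-finite; that these quasi-finite
covers suffice rests on the existence of quasi-finite flat quasi-sections of flat surjective
morphisms locally of finite presentation.) -/
theorem result (F : Scheme.{u}ᵒᵖ ⥤ Type w) :
    Presheaf.IsSheaf Scheme.fppfTopology F ↔
      Presheaf.IsSheaf Scheme.zariskiTopology F ∧
        ∀ (T S : Scheme.{u}) [IsAffine T] [IsAffine S] (f : T ⟶ S)
          [Flat f] [Surjective f] [LocallyOfFinitePresentation f] [LocallyQuasiFinite f],
          Presieve.IsSheafFor F (Presieve.singleton f) := by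
  constructor
  · intro hF
    have hF' := (isSheaf_iff_isSheaf_of_type _ _).1 hF
    refine ⟨(isSheaf_iff_isSheaf_of_type _ _).2 (Presieve.isSheaf_of_le _
      (Precoverage.toGrothendieck_mono Scheme.zariskiPrecoverage_le_fppfPrecoverage) hF'),
      fun T S _ _ f _ _ _ _ => ?_⟩
    rw [Presieve.isSheafFor_iff_generate]
    exact hF' _ (Precoverage.generate_mem_toGrothendieck (Scheme.Hom.singleton_mem_fppfPrecoverage f))
  · rintro ⟨hzar, hff⟩
    let P : MorphismProperty Scheme.{u} := @Flat ⊓ @LocallyOfFinitePresentation
    haveI : P.IsMultiplicative :=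
      { id_mem := fun X => ⟨inferInstanceAs (Flat (𝟙 X)), inferInstanceAs (LocallyOfFinitePresentation (𝟙 X))⟩
        comp_mem := fun f g hf hg => by
          haveI := hf.1; haveI := hf.2; haveI := hg.1; haveI := hg.2
          exact ⟨inferInstanceAs (Flat (f ≫ g)), inferInstanceAs (LocallyOfFinitePresentation (f ≫ g))⟩ }
    haveI : P.IsStableUnderBaseChange := inferInstanceAs (MorphismProperty.IsStableUnderBaseChange (@Flat ⊓ @LocallyOfFinitePresentation))
    haveI : IsZariskiLocalAtSource P := inferInstanceAs (IsZariskiLocalAtSource (@Flat ⊓ @LocallyOfFinitePresentation))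
    have hle : Scheme.fppfTopology ≤ Scheme.propQCTopology P := by
      refine Precoverage.toGrothendieck_mono (le_inf ?_ le_rfl)
      exact Scheme.precoverage_le_qcPrecoverage_of_isOpenMap fun X Y f ⟨_, _⟩ => f.isOpenMap
    refine (isSheaf_iff_isSheaf_of_type _ _).2 (Presieve.isSheaf_of_le _ hle ?_)
    refine (isSheaf_type_propQCTopology_iff F).2 ⟨(isSheaf_iff_isSheaf_of_type _ _).1 hzar, ?_⟩
    rintro R A φ ⟨hflat, hlfp⟩ hsur
    haveI := hflat; haveI := hlfp; haveI := hsur
    obtain ⟨S', g, h, hg, _, _, _, _, haff⟩ := Groth.Agent.S2735.result (Spec.map φ)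
    haveI : IsAffine S' := haff inferInstance
    have hS' := hff S' (Spec R) g
    rw [Presieve.isSheafFor_singleton] at hS' ⊢
    intro x hx
    obtain ⟨y, hy, huy⟩ := hS' (F.map h.op x) fun {Z} p₁ p₂ hp => by
      rw [← Functor.map_comp_apply, ← op_comp, ← Functor.map_comp_apply, ← op_comp]
      exact hx _ _ (by rw [Category.assoc, Category.assoc, hg, hp])
    refine ⟨y, ?_, fun z hz => huy z ?_⟩
    · let p := Limits.pullback.fst (Spec.map φ) g
      let q := Limits.pullback.snd (Spec.map φ) g
      obtain ⟨a, -, hua⟩ := (Presieve.isSheafFor_singleton.1 (hff _ _ p)) (F.map p.op x) fun {Z} p₁ p₂ hp => by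
        rw [← Functor.map_comp_apply, ← op_comp, ← Functor.map_comp_apply, ← op_comp, hp]
      refine (hua _ ?_).trans (hua _ rfl).symm
      beta_reduce
      rw [← Functor.map_comp_apply, ← op_comp, show p ≫ Spec.map φ = q ≫ g from Limits.pullback.condition, op_comp,
        Functor.map_comp_apply, hy, ← Functor.map_comp_apply, ← op_comp]
      exact hx _ _ (by rw [Category.assoc, hg]; exact Limits.pullback.condition.symm)
    · show F.map g.op z = F.map h.op x
      rw [← hz, ← Functor.map_comp_apply, ← op_comp, hg]

end Groth.Agent.S5238
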