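import Groth.Statements.S5250
import Groth.Agent.MultTypeLib.CompleteHom
-- import your own Groth.Agent.* helpers here

set_option autoImplicit false
universe u
open TensorProduct SGA3b
open SGA3b

namespace Groth.Agent.S5250

/-- Let A be a Noetherian ring, separated and complete for the I-adic topology, G = Spec B an isotrivial
A-group of multiplicative type, and H = Spec C an affine A-group which is flat over A at the points
of H₀ = Spec ((A/I) ⊗ C) (C localised at any prime containing IC is flat over A) and such that H₀ is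
a quasi-isotrivial (A/I)-group of multiplicative type. Then reduction modulo I is a bijection from
homomorphisms of A-groups G ⟶ H (bialgebra maps C → B) to homomorphisms of (A/I)-groups G₀ ⟶ H₀: two
bialgebra maps C → B with the same reduction are equal, and every bialgebra map C₀ → B₀ over A/I is
a reduction. (Affine group schemes over an affine base are taken in Hopf-algebra form; base change
is the tensor product; a homomorphism of groups Spec A ⟶ Spec C is a bialgebra map C → A.) -/
theorem result (A : Type u) [CommRing A] [IsNoetherianRing A] (I : Ideal A) [IsAdicComplete I A]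
    (B : Type u) [CommRing B] [HopfAlgebra A B] (hG : IsIsotrivial A B)
    (C : Type u) [CommRing C] [HopfAlgebra A C]
    (hfl : ∀ (q : Ideal C) [q.IsPrime], Ideal.map (algebraMap A C) I ≤ q → Module.Flat A (Localization.AtPrime q))
    (h0 : IsQuasiIsotrivial (A ⧸ I) ((A ⧸ I) ⊗[A] C)) :
    (∀ φ ψ : C →ₐc[A] B, (∀ c : C, (1 : A ⧸ I) ⊗ₜ[A] (φ c) = (1 : A ⧸ I) ⊗ₜ[A] (ψ c)) → φ = ψ) ∧
    (∀ φ₀ : ((A ⧸ I) ⊗[A] C) →ₐc[A ⧸ I] ((A ⧸ I) ⊗[A] B),
      ∃ φ : C →ₐc[A] B, ∀ c : C, φ₀ ((1 : A ⧸ I) ⊗ₜ[A] c) = (1 : A ⧸ I) ⊗ₜ[A] (φ c)) := by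
  exact ⟨Groth.Agent.MultTypeLib.bialgHom_ext_complete I hfl h0 hG,
    Groth.Agent.MultTypeLib.exists_bialgHom_lift_complete' I hfl h0 hG⟩

end Groth.Agent.S5250
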