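import Groth.Statements.S5252
import Groth.Agent.MultTypeLib.Artin

set_option autoImplicit false
universe u
open TensorProduct SGA3b
open SGA3b

namespace Groth.Agent.S5252

/-- Let A be an Artinian local ring with residue field k and H = Spec C an affine A-group with C flat
and of finite type over A, whose closed fibre Spec (k ⊗ C) is a k-group of multiplicative type. Then
H is of multiplicative type and isotrivial. (Affine group schemes over an affine base are taken in
Hopf-algebra form; base change is the tensor product; a homomorphism of groups Spec A ⟶ Spec C is a
bialgebra map C → A.) -/
theorem result (A : Type u) [CommRing A] [IsArtinianRing A] [IsLocalRing A]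
    (C : Type u) [CommRing C] [HopfAlgebra A C] [Module.Flat A C] (hft : Algebra.FiniteType A C)
    (h0 : IsMultType (IsLocalRing.ResidueField A) (IsLocalRing.ResidueField A ⊗[A] C)) :
    IsMultType A C ∧ IsIsotrivial A C := by
  exact Groth.Agent.MultTypeLib.isotrivial_of_artinian A C hft h0

end Groth.Agent.S5252
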