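import Groth.Statements.S5253
import Groth.Agent.GrpSchLib.QuasiFinitePow
-- import your own Groth.Agent.* helpers here

set_option autoImplicit false
universe u
open TensorProduct SGA3b
open SGA3b

namespace Groth.Agent.S5253

/-- Let R be a ring and G = Spec C a commutative affine R-group (C cocommutative) with C of finite
presentation and quasi-finite over R. Then there is an integer n > 0 such that n·id_G = 0: the
endomorphism of C corresponding to the n-th power map is the one corresponding to the unit
homomorphism, c ↦ ε(c)·1. (Affine group schemes over an affine base are taken in Hopf-algebra form;
base change is the tensor product; a homomorphism of groups Spec A ⟶ Spec C is a bialgebra map C →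
A.) -/
theorem result (R : Type u) [CommRing R] (C : Type u) [CommRing C] [HopfAlgebra R C]
    [Coalgebra.IsCocomm R C] (hfp : Algebra.FinitePresentation R C) [Algebra.QuasiFinite R C] :
    ∃ n : ℕ, 0 < n ∧ ∀ c : C, powConv R C n c = algebraMap R C (Coalgebra.counit c) := by
  haveI : Algebra.FinitePresentation R C := hfp
  exact GrpSchLib.QuasiFinitePow.main

end Groth.Agent.S5253
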