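import Groth.Statements.S5254
import Groth.Agent.MultTypeLib.FiniteSub

set_option autoImplicit false
universe u
open TensorProduct SGA3b
open SGA3b

namespace Groth.Agent.S5254

/-- Over a local base, where an open neighbourhood of the closed point is the whole base: Let R be a
local ring with maximal ideal 𝔪, H = Spec A an R-group of multiplicative type and of finite type,
and K = Spec (A/J) a closed subgroup scheme of H (J a Hopf ideal) with A/J of finite presentation
over R. If the closed fibre of K is the unit group, i.e. J + 𝔪A = Ker ε + 𝔪A with ε the counit, then
K is the unit group: J = Ker ε. (Affine group schemes over an affine base are taken in Hopf-algebra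
form; base change is the tensor product; a homomorphism of groups Spec A ⟶ Spec C is a bialgebra map
C → A.) -/
theorem result (R : Type u) [CommRing R] [IsLocalRing R]
    (A : Type u) [CommRing A] [HopfAlgebra R A] (hft : Algebra.FiniteType R A) (hH : IsMultType R A)
    (J : Ideal A) [J.IsHopfIdeal R] (hK : Algebra.FinitePresentation R (A ⧸ J))
    (hs : J ⊔ Ideal.map (algebraMap R A) (IsLocalRing.maximalIdeal R) =
      RingHom.ker (Bialgebra.counitAlgHom R A) ⊔ Ideal.map (algebraMap R A) (IsLocalRing.maximalIdeal R)) :
    J = RingHom.ker (Bialgebra.counitAlgHom R A) := by
  exact Groth.Agent.MultTypeLib.eq_augIdeal_of_fibre_trivial hft hH J hs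

end Groth.Agent.S5254
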