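import Groth.Statements.S5256
import Groth.Agent.GrpSchLib.FibreActionRigid
-- import your own Groth.Agent.* helpers here

set_option autoImplicit false
open CategoryTheory MonoidalCategory CartesianMonoidalCategory MonObj GrpObj AlgebraicGeometry
universe u
open SGA3x

namespace Groth.Agent.S5256

/-- Let u : H ⟶ G be a homomorphism of S-groups, with H of multiplicative type and of finite type and G
of finite presentation over S (locally of finite presentation, quasi-compact and quasi-separated).
If for every s ∈ S the homomorphism u_s : H_s ⟶ G_s induced on the fibres at s is central (every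
point of G_s commutes with the image of every point of H_s), then u is central. -/
theorem result {S : Scheme.{u}} (H G : Over S) [GrpObj H] [GrpObj G]
    (hH : SGA3x.IsMultTypeFT H) [LocallyOfFinitePresentation G.hom] [QuasiCompact G.hom] [QuasiSeparated G.hom]
    (u : H ⟶ G) [IsMonHom u]
    (hfib : ∀ (s : S) (X : Over (Spec (S.residueField s))) (g : X ⟶ Red.bc (S.fromSpecResidueField s) G)
      (h : X ⟶ Red.bc (S.fromSpecResidueField s) H),
      g * (h ≫ (Over.pullback (S.fromSpecResidueField s)).map u) = (h ≫ (Over.pullback (S.fromSpecResidueField s)).map u) * g) :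
    ∀ (X : Over S) (g : X ⟶ G) (h : X ⟶ H), g * (h ≫ u) = (h ≫ u) * g := by
  obtain ⟨S', f, hf, hs, hqc, hloc⟩ := hH
  have hH' : TwC.Locally S TwC.Topology.fpqc (fun S' f => ∃ (M : Type) (_ : AddCommGroup M),
      Nonempty (Grp.mk (Red.bc f H) ≅ Grp.mk (Red.DS S' M))) := by
    refine ⟨S', f, hf, hs, hqc, fun s' => ?_⟩
    obtain ⟨U, hU, M, iM, -, e⟩ := hloc s'
    exact ⟨U, hU, M, iM, e⟩
  have hu : μ[H] ≫ u = (fst H H ≫ u) * (snd H H ≫ u) := by
    rw [IsMonHom.mul_hom, Hom.mul_def]
    congr 1

  let a : AlgGrp.Action H G :=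
    { act := (fst H G ≫ u) * snd H G * (fst H G ≫ u)⁻¹
      one_act := by
        rw [MonObj.comp_mul, MonObj.comp_mul, GrpObj.comp_inv, whiskerRight_fst_assoc, whiskerRight_snd,
          IsMonHom.one_hom, toUnit_unique (fst (𝟙_ (Over S)) G) (toUnit _), ← Hom.one_def, _root_.one_mul, inv_one,
          _root_.mul_one, leftUnitor_hom]
      mul_act := by
        simp only [MonObj.comp_mul, GrpObj.comp_inv, whiskerRight_fst_assoc, whiskerRight_snd, whiskerLeft_fst_assoc,
          whiskerLeft_snd, whiskerLeft_snd_assoc, associator_hom_fst_assoc, associator_hom_snd_fst_assoc,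
          associator_hom_snd_snd, hu, _root_.mul_inv_rev, _root_.mul_assoc] }
  have ha : ∀ {Y : Over S} (g : Y ⟶ H) (h : Y ⟶ G), lift g h ≫ a.act = (g ≫ u) * h * (g ≫ u)⁻¹ := fun g h => by
    show lift g h ≫ ((fst H G ≫ u) * snd H G * (fst H G ≫ u)⁻¹) = _
    rw [MonObj.comp_mul, MonObj.comp_mul, GrpObj.comp_inv, lift_fst_assoc, lift_snd]
  intro X g h
  have key := Groth.Agent.GrpSchLib.FibreActionRigid.action_trivial_of_fibres hH' a (fun s Y q h' g' => by
    let j := S.fromSpecResidueField s
    let X' : Over (Spec (S.residueField s)) := Over.mk q.left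
    let e : Y ⟶ (Over.map j).obj X' := Over.homMk (𝟙 _) (by
      show 𝟙 _ ≫ q.left ≫ j = Y.hom
      rw [Category.id_comp]; exact Over.w q)
    let e' : (Over.map j).obj X' ⟶ Y := Over.homMk (𝟙 _) (by
      show 𝟙 _ ≫ Y.hom = q.left ≫ j
      rw [Category.id_comp]; exact (Over.w q).symm)
    have hee : e ≫ e' = 𝟙 _ := Over.OverMorphism.ext (Category.id_comp _)
    obtain ⟨g₁, hg₁⟩ := (DSPtsLib.theta_bijective (H := G) (Y := X') j).2 (e' ≫ g')
    obtain ⟨h₁, hh₁⟩ := (DSPtsLib.theta_bijective (H := H) (Y := X') j).2 (e' ≫ h')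
    have hc := congrArg (fun m => e ≫ DSPtsLib.theta (H := G) j m) (hfib s X' g₁ h₁)
    have hn : DSPtsLib.theta (H := G) j (h₁ ≫ (Over.pullback j).map u) = e' ≫ h' ≫ u := by
      rw [← Category.assoc, ← hh₁]
      exact (Over.mapPullbackAdj j).homEquiv_naturality_right_symm h₁ u
    simp only [DSPtsLib.theta_mul] at hc
    erw [hn, hg₁, MonObj.comp_mul, MonObj.comp_mul, reassoc_of% hee, reassoc_of% hee] at hc
    rw [ha, ← hc, mul_inv_cancel_right]) X h g
  rw [ha, mul_inv_eq_iff_eq_mul] at key
  exact key.symm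

end Groth.Agent.S5256
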