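import Groth.Statements.S5261
import Groth.Agent.GrpSchLib.MultTypeLft
import Groth.Agent.FlatMisc.Fibrewise
-- import your own Groth.Agent.* helpers here

set_option autoImplicit false
open CategoryTheory MonoidalCategory CartesianMonoidalCategory MonObj GrpObj AlgebraicGeometry
universe u
open SGA3x

namespace Groth.Agent.S5261

/-- Let u : H ⟶ G be a homomorphism of S-groups, with H of multiplicative type and of finite type, and
suppose S locally Noetherian or G locally of finite presentation over S. If for every s ∈ S the
homomorphism u_s : H_s ⟶ G_s induced on the fibres at s is a monomorphism, then u is a monomorphism. -/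
theorem result {S : Scheme.{u}} (H G : Over S) [GrpObj H] [GrpObj G]
    (hH : SGA3x.IsMultTypeFT H) (hG : IsLocallyNoetherian S ∨ LocallyOfFinitePresentation G.hom)
    (u : H ⟶ G) [IsMonHom u]
    (hfib : ∀ s : S, Mono ((Over.pullback (S.fromSpecResidueField s)).map u).left) :
    Mono u.left := by
  haveI := Groth.Agent.GrpSchLib.MultTypeLft.lft hH
  haveI : LocallyOfFiniteType (u.left ≫ G.hom) := by rw [Over.w u]; infer_instance
  haveI : LocallyOfFiniteType u.left := locallyOfFiniteType_of_comp u.left G.hom
  have hy : ∀ y : G.left, Mono (u.left.fiberToSpecResidueField y) := fun y => by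
    let r := S.fromSpecResidueField (G.hom y)
    have hm : Mono (Limits.pullback.snd u.left (Limits.pullback.fst G.hom r)) := by
      have hw : ((Over.pullback r).map u).left ≫ Limits.pullback.snd G.hom r = Limits.pullback.snd H.hom r :=
        Over.w ((Over.pullback r).map u)
      have hsq : CategoryTheory.IsPullback (Limits.pullback.fst H.hom r) ((Over.pullback r).map u).left u.left
          (Limits.pullback.fst G.hom r) := by
        refine CategoryTheory.IsPullback.of_bot ?_ (Limits.pullback.lift_fst _ _ _).symm (CategoryTheory.IsPullback.of_hasPullback G.hom r)
        rw [hw, Over.w u]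
        exact CategoryTheory.IsPullback.of_hasPullback H.hom r
      rw [← hsq.isoPullback_inv_snd]
      haveI := hfib (G.hom y)
      infer_instance
    exact FlatMisc.fiberToSpecResidueField_of_baseChange (MorphismProperty.monomorphisms _) u.left
      (G.hom.fiberι (G.hom y)) hm y (FlatMisc.mem_range_fiberι G.hom _ _ rfl)
  haveI : FormallyUnramified u.left := Groth.Agent.GrpSchLib.formallyUnramified_of_fibres u.left fun y => by
    haveI := hy y
    infer_instance
  exact FlatMisc.mono_of_mono_fibres u.left hy

end Groth.Agent.S5261
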