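import Groth.Statements.S5268
import Groth.Agent.TwConstEtLib.Components
-- import your own Groth.Agent.* helpers here

set_option autoImplicit false
open CategoryTheory MonoidalCategory CartesianMonoidalCategory MonObj GrpObj AlgebraicGeometry
universe u
open SGA3x

namespace Groth.Agent.S5268

/-- Let S be a locally Noetherian scheme all of whose local rings are geometrically unibranch, and P a
quasi-isotrivial twisted constant S-scheme (etale-locally on S isomorphic to a constant scheme).
Then every connected component of P is open, and as an open subscheme of P it is finite over S. -/
theorem result {S : Scheme.{u}} [IsLocallyNoetherian S]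
    (hS : ∀ s : S, CAlg2.IsGeomUnibranch (S.presheaf.stalk s))
    (P : Over S) (hP : TwC.IsTwConst TwC.Topology.etale P) (x : P.left) :
    ∃ U : P.left.Opens, (U : Set P.left) = connectedComponent x ∧ IsFinite (U.ι ≫ P.hom) := by
  exact TwConstEtLib.exists_finite_component hS P hP x

end Groth.Agent.S5268
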