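import Groth.Statements.S5269
import Groth.Agent.TwConstEtLib.Const
-- import your own Groth.Agent.* helpers here

set_option autoImplicit false
open CategoryTheory MonoidalCategory CartesianMonoidalCategory MonObj GrpObj AlgebraicGeometry
universe u
open SGA3x

namespace Groth.Agent.S5269

/-- Let S be a locally Noetherian scheme and X an S-scheme which is a twisted constant scheme locally
trivial for the fppf topology (every point of S is in the image of a flat, locally finitely
presented S' ⟶ S over which X becomes a constant scheme). Then X is quasi-isotrivial: it becomes
constant etale-locally on S. -/
theorem result {S : Scheme.{u}} [IsLocallyNoetherian S] (X : Over S)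
    (hX : TwC.IsTwConst TwC.Topology.fppf X) : TwC.IsTwConst TwC.Topology.etale X := by
  exact TwConstEtLib.isTwConst_etale X hX

end Groth.Agent.S5269
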