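import Groth.Statements.S5270
import Groth.Agent.MultTypeLib.Local
import Mathlib.RingTheory.Filtration
import Mathlib.RingTheory.AdicCompletion.Basic
import Mathlib.RingTheory.AdicCompletion.Noetherian
-- import your own Groth.Agent.* helpers here

set_option autoImplicit false
universe u
open TensorProduct SGA3b
open SGA3b

namespace Groth.Agent.S5270

/-- Injectivity of the map to formal homomorphisms. Let A be a Noetherian ring, separated and complete
for the I-adic topology, H = Spec B an isotrivial A-group of multiplicative type and G = Spec C an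
affine A-group. If two homomorphisms H ⟶ G, given by bialgebra maps φ, ψ : C → B, have the same
reduction modulo I^(n+1) for every n ≥ 0, then φ = ψ. (Affine group schemes over an affine base are
taken in Hopf-algebra form; base change is the tensor product; a homomorphism of groups Spec A ⟶
Spec C is a bialgebra map C → A.) -/
theorem result (A : Type u) [CommRing A] [IsNoetherianRing A] (I : Ideal A) [IsAdicComplete I A]
    (B : Type u) [CommRing B] [HopfAlgebra A B] (hH : IsIsotrivial A B)
    (C : Type u) [CommRing C] [HopfAlgebra A C] (φ ψ : C →ₐc[A] B)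
    (h : ∀ (n : ℕ) (c : C), (1 : A ⧸ I ^ (n + 1)) ⊗ₜ[A] (φ c) = (1 : A ⧸ I ^ (n + 1)) ⊗ₜ[A] (ψ c)) :
    φ = ψ := by
  obtain ⟨S, _, _, -, _, hS, M, _, ⟨e⟩⟩ := hH
  have : Module.Flat A S := inferInstance
  let P : Groth.Agent.MultTypeLib.Split A B :=
    { S := S
      M := M
      hom := (Groth.Agent.MultTypeLib.SemiBialgHom.ofBialgHom
        (e : TensorProduct A S B →ₐc[S] MonoidAlgebra S M)).comp
        (Groth.Agent.MultTypeLib.SemiBialgHom.baseChange A S B)
      equiv := (e : TensorProduct A S B ≃ₐ[S] MonoidAlgebra S M)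
      equiv_tmul := fun b => rfl }
  have : IsHausdorff I S := IsHausdorff.of_le_jacobson I S (IsAdicComplete.le_jacobson_bot I)
  refine BialgHom.ext fun c => (Groth.Agent.MultTypeLib.Cover.single P).eq_of_hom _ _ fun _ => ?_
  show P.hom.toAlgHom (φ c) = P.hom.toAlgHom (ψ c)
  ext m
  rw [← sub_eq_zero]
  refine IsHausdorff.haus (I := I) inferInstance _ fun n => ?_
  rw [SModEq.zero, Ideal.smul_top_eq_map, Submodule.restrictScalars_mem]
  have h1 := Groth.Agent.MultTypeLib.sub_mem_map_of_tmul_eq (P.hom.coef m).ofConv (I ^ (n + 1)) (h n c)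
  rw [Groth.Agent.MultTypeLib.SemiBialgHom.coef_apply, Groth.Agent.MultTypeLib.SemiBialgHom.coef_apply] at h1
  exact Ideal.map_mono (Ideal.pow_le_pow_right n.le_succ) h1

end Groth.Agent.S5270
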