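import Groth.Statements.S5274
import Groth.Agent.GrpSchLib.HomSplitLocus
-- import your own Groth.Agent.* helpers here

set_option autoImplicit false
open CategoryTheory MonoidalCategory CartesianMonoidalCategory MonObj GrpObj AlgebraicGeometry
universe u
open SGA3x

namespace Groth.Agent.S5274

/-- Let u : G ⟶ H be a homomorphism of S-groups of multiplicative type and of finite type. Then the set
U of points s ∈ S such that u_s : G_s ⟶ H_s is a monomorphism is open and closed in S, and the
homomorphism G|_U ⟶ H|_U induced above U is a monomorphism. -/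
theorem result {S : Scheme.{u}} (G H : Over S) [GrpObj G] [GrpObj H]
    (hG : SGA3x.IsMultTypeFT G) (hH : SGA3x.IsMultTypeFT H) (u : G ⟶ H) [IsMonHom u] :
    ∃ U : S.Opens, IsClosed (U : Set S) ∧
      (∀ s : S, s ∈ U ↔ Mono ((Over.pullback (S.fromSpecResidueField s)).map u).left) ∧
      Mono ((Over.pullback U.ι).map u).left := by
  have hGL : TwC.Locally S TwC.Topology.fpqc (fun S' f => ∃ (M : Type) (_ : AddCommGroup M),
      Nonempty (Grp.mk (Red.bc f G) ≅ Grp.mk (Red.DS S' M))) := by
    obtain ⟨S', f, hf, hs, hqc, hloc⟩ := hG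
    refine ⟨S', f, hf, hs, hqc, fun s' => ?_⟩
    obtain ⟨U, hU, M, iM, -, e⟩ := hloc s'
    exact ⟨U, hU, M, iM, e⟩
  obtain ⟨U, hUc, hmem, hinj⟩ := Groth.Agent.GrpSchLib.HomSplitLocus.mono_locus (u := u) hGL hH
  exact ⟨U, hUc, fun s => (hmem s).trans ⟨fun h => Groth.Agent.GrpSchLib.HomMonoLocus.mono_of_inj h,
    fun h => Groth.Agent.GrpSchLib.HomMonoLocus.inj_of_mono h⟩, Groth.Agent.GrpSchLib.HomMonoLocus.mono_of_inj hinj⟩

end Groth.Agent.S5274
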