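import Groth.Statements.S5275
import Groth.Agent.GrpSchLib.HomSplitLocus
import Groth.Agent.TransLib.MultEssFree
-- import your own Groth.Agent.* helpers here

set_option autoImplicit false
open CategoryTheory MonoidalCategory CartesianMonoidalCategory MonObj GrpObj AlgebraicGeometry
universe u
open SGA3x

namespace Groth.Agent.S5275

/-- Let u : G ⟶ H be a homomorphism of S-groups of multiplicative type and of finite type. Then the set
U of points s ∈ S such that u_s : G_s ⟶ H_s is an isomorphism is open and closed in S, and the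
homomorphism G|_U ⟶ H|_U induced above U is an isomorphism. -/
theorem result {S : Scheme.{u}} (G H : Over S) [GrpObj G] [GrpObj H]
    (hG : SGA3x.IsMultTypeFT G) (hH : SGA3x.IsMultTypeFT H) (u : G ⟶ H) [IsMonHom u] :
    ∃ U : S.Opens, IsClosed (U : Set S) ∧
      (∀ s : S, s ∈ U ↔ IsIso ((Over.pullback (S.fromSpecResidueField s)).map u).left) ∧
      IsIso ((Over.pullback U.ι).map u).left := by
  have hGL : TwC.Locally S TwC.Topology.fpqc (fun S' f => ∃ (M : Type) (_ : AddCommGroup M),
      Nonempty (Grp.mk (Red.bc f G) ≅ Grp.mk (Red.DS S' M))) := by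
    obtain ⟨S', f, hf, hs, hqc, hloc⟩ := hG
    refine ⟨S', f, hf, hs, hqc, fun s' => ?_⟩
    obtain ⟨U, hU, M, iM, -, e⟩ := hloc s'
    exact ⟨U, hU, M, iM, e⟩
  haveI hGa : IsAffineHom G.hom := (Groth.Agent.TransLib.multTypeFT_essFree hG).1
  haveI hHa : IsAffineHom H.hom := (Groth.Agent.TransLib.multTypeFT_essFree hH).1
  obtain ⟨U, hUc, hUm, hUi⟩ := Groth.Agent.GrpSchLib.HomSplitLocus.mono_locus (u := u) hGL hH
  obtain ⟨V, hVc, hVm, hVf⟩ := Groth.Agent.GrpSchLib.HomSplitLocus.ff_locus (u := u) hGL hH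
  have hiso : ∀ {T : Scheme.{u}} (g : T ⟶ S),
      IsIso ((Over.pullback g).map u).left ↔
        Groth.Agent.GrpSchLib.HomMonoLocus.Inj u g ∧ Groth.Agent.GrpSchLib.HomSplitLocal.Ff u g := by
    intro T g
    refine ⟨fun h => ⟨Groth.Agent.GrpSchLib.HomMonoLocus.inj_of_mono inferInstance,
      ⟨inferInstance, inferInstance⟩⟩, fun ⟨hi, hfl, hsu⟩ => ?_⟩
    haveI := hfl
    haveI := hsu
    haveI := Groth.Agent.GrpSchLib.HomMonoLocus.mono_of_inj hi
    haveI : QuasiCompact ((Over.pullback g).obj G).hom := inferInstanceAs (QuasiCompact (Limits.pullback.snd G.hom g))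
    haveI : QuasiSeparated ((Over.pullback g).obj H).hom := inferInstanceAs (QuasiSeparated (Limits.pullback.snd H.hom g))
    haveI : QuasiCompact (((Over.pullback g).map u).left ≫ ((Over.pullback g).obj H).hom) := by
      rw [Over.w]
      infer_instance
    haveI : QuasiCompact ((Over.pullback g).map u).left := QuasiCompact.of_comp _ ((Over.pullback g).obj H).hom
    exact Flat.isIso_of_surjective_of_mono _
  refine ⟨U ⊓ V, hUc.inter hVc, fun s => ?_, ?_⟩
  · rw [hiso, ← hUm, ← hVm]
    rfl
  · rw [hiso]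
    refine ⟨?_, ?_⟩
    · have h := hUi.comp (S.homOfLE (inf_le_left : U ⊓ V ≤ U))
      rwa [Scheme.homOfLE_ι] at h
    · have h := hVf.comp (S.homOfLE (inf_le_right : U ⊓ V ≤ V))
      rwa [Scheme.homOfLE_ι] at h

end Groth.Agent.S5275
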