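import Groth.Statements.S5277
import Groth.Agent.MultTypeLib.CompleteIso

set_option autoImplicit false
universe u
open TensorProduct SGA3b
open SGA3b

namespace Groth.Agent.S5277

open Groth.Agent.MultTypeLib in
/-- A splitting after a change of base. -/
noncomputable def baseSplit {A : Type u} [CommRing A] (L : Type u) [CommRing L] [Algebra A L] {E : Type u}
    [CommRing E] [Algebra A E] {C : Type u} [CommRing C] [HopfAlgebra A C] {M : Type u} [CommGroup M]
    (eE : E ⊗[A] C ≃ₐc[E] MonoidAlgebra E M) :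
    (L ⊗[A] E) ⊗[L] (L ⊗[A] C) ≃ₐc[L ⊗[A] E] MonoidAlgebra (L ⊗[A] E) M :=
  let _ : Algebra E (L ⊗[A] E) := Algebra.TensorProduct.rightAlgebra
  have : IsScalarTower A E (L ⊗[A] E) := Algebra.TensorProduct.right_isScalarTower
  let h := (SemiBialgHom.ofBialgHom (eE : E ⊗[A] C →ₐc[E] MonoidAlgebra E M)).comp (SemiBialgHom.baseChange A E C)
  have hb : Function.Bijective h.extend := by
    rw [show ⇑h.extend = ⇑eE from funext (extend_eq_of_equiv eE)]
    exact EquivLike.bijective eE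
  (baseChangeTrans (R := A) L (L ⊗[A] E) C).symm.trans
    (((mapCoeff E (L ⊗[A] E) M).comp h).toBialgEquiv (extend_comp_mapCoeff_bijective h hb))

open Groth.Agent.MultTypeLib in
theorem isTorus_of_isotrivial {A : Type u} [CommRing A] (I : Ideal A) [IsAdicComplete I A]
    {C : Type u} [CommRing C] [HopfAlgebra A C] (hiso : IsIsotrivial A C)
    (h0 : IsTorus (A ⧸ I) ((A ⧸ I) ⊗[A] C)) : IsTorus A C := by
  rcases subsingleton_or_nontrivial A with hA | hA
  · exact ⟨∅, Subsingleton.elim _ _, fun f hf => absurd hf (Set.notMem_empty f)⟩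
  obtain ⟨E, _, _, -, -, _, M, _, ⟨eE⟩⟩ := hiso
  have hI : I ≠ ⊤ := fun h => by
    have h1 := Ideal.mem_jacobson_bot.mp (IsAdicComplete.le_jacobson_bot I (h ▸ Submodule.mem_top : (1 : A) ∈ I)) (-1)
    simp at h1
  have : Nontrivial (A ⧸ I) := Ideal.Quotient.nontrivial_iff.mpr hI
  obtain ⟨s, hs, hT⟩ := h0
  obtain ⟨f, hfs, hf⟩ : ∃ f ∈ s, ¬IsNilpotent f := by
    by_contra hne
    push Not at hne
    have hle : Ideal.span s ≤ nilradical (A ⧸ I) := Ideal.span_le.mpr fun f hf => mem_nilradical.mpr (hne f hf)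
    rw [hs] at hle
    obtain ⟨n, hn⟩ := mem_nilradical.mp (hle (Submodule.mem_top : (1 : A ⧸ I) ∈ ⊤))
    rw [one_pow] at hn
    exact one_ne_zero hn
  obtain ⟨R', _, _, hffR', n, ⟨eR⟩⟩ := hT f hfs
  let Lf := Localization.Away f
  have : Nontrivial Lf := by
    refine nontrivial_of_ne (1 : Lf) 0 fun h => hf ?_
    rw [← map_one (algebraMap (A ⧸ I) Lf), IsLocalization.map_eq_zero_iff (Submonoid.powers f)] at h
    obtain ⟨⟨_, k, rfl⟩, hk⟩ := h
    exact ⟨k, by simpa using hk⟩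
  let _ : Algebra (A ⧸ I) R' := ((algebraMap Lf R').comp (algebraMap (A ⧸ I) Lf)).toAlgebra
  have : IsScalarTower (A ⧸ I) Lf R' := IsScalarTower.of_algebraMap_eq fun _ => rfl
  have : Module.Flat (A ⧸ I) R' := Module.Flat.trans (A ⧸ I) Lf R'
  have : Nontrivial R' := (FaithfulSMul.algebraMap_injective Lf R').nontrivial
  let A₀ := (A ⧸ I) ⊗[A] C
  let S := (A ⧸ I) ⊗[A] E
  have : Module.FaithfullyFlat (A ⧸ I) S := inferInstance
  let eS : S ⊗[A ⧸ I] A₀ ≃ₐc[S] MonoidAlgebra S M := baseSplit (A ⧸ I) eE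
  let G := Multiplicative (Fin n → ℤ)
  let eQ : R' ⊗[A ⧸ I] A₀ ≃ₐc[R'] MonoidAlgebra R' (ULift.{u} G) :=
    ((baseChangeTrans (R := A ⧸ I) Lf R' A₀).trans eR).trans
      (MonoidAlgebra.domCongrBialgEquiv R' R' MulEquiv.ulift.symm)
  let P : Split (A ⧸ I) A₀ :=
    { S := S
      M := M
      hom := (SemiBialgHom.ofBialgHom (eS : S ⊗[A ⧸ I] A₀ →ₐc[S] MonoidAlgebra S M)).comp
        (SemiBialgHom.baseChange (A ⧸ I) S A₀)
      equiv := (eS : S ⊗[A ⧸ I] A₀ ≃ₐ[S] MonoidAlgebra S M)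
      equiv_tmul := fun _ => rfl }
  let Q : Split (A ⧸ I) A₀ :=
    { S := R'
      M := ULift.{u} G
      hom := (SemiBialgHom.ofBialgHom (eQ : R' ⊗[A ⧸ I] A₀ →ₐc[R'] MonoidAlgebra R' (ULift.{u} G))).comp
        (SemiBialgHom.baseChange (A ⧸ I) R' A₀)
      equiv := (eQ : R' ⊗[A ⧸ I] A₀ ≃ₐ[R'] MonoidAlgebra R' (ULift.{u} G))
      equiv_tmul := fun _ => rfl }
  have hnt : Nontrivial (S ⊗[A ⧸ I] R') := Module.FaithfullyFlat.lTensor_nontrivial (A ⧸ I) S R'
  obtain ⟨σ⟩ := P.exists_mulEquiv Q hnt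
  let σ' : M ≃* G := MulEquiv.trans σ MulEquiv.ulift
  refine ⟨{1}, Ideal.span_singleton_one, fun g _ => ?_⟩
  let L := Localization.Away g
  exact ⟨L ⊗[A] E, inferInstance, inferInstance, inferInstance, n,
    ⟨(baseSplit L eE).trans (MonoidAlgebra.domCongrBialgEquiv _ _ σ')⟩⟩

/-- Let A be a Noetherian ring, separated and complete for the I-adic topology, and H = Spec C an affine
A-group with C flat and of finite type over A, all of whose fibres Spec (κ(p) ⊗ C) are connected. If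
the reduction H₀ = Spec ((A/I) ⊗ C) is an isotrivial torus over A/I, then H is an isotrivial torus
over A. (Affine group schemes over an affine base are taken in Hopf-algebra form; base change is the
tensor product; a homomorphism of groups Spec A ⟶ Spec C is a bialgebra map C → A.) -/
theorem result (A : Type u) [CommRing A] [IsNoetherianRing A] (I : Ideal A) [IsAdicComplete I A]
    (C : Type u) [CommRing C] [HopfAlgebra A C] [Module.Flat A C] (hft : Algebra.FiniteType A C)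
    (hconn : ∀ (p : Ideal A) [p.IsPrime], ConnectedSpace (PrimeSpectrum (p.ResidueField ⊗[A] C)))
    (h0 : IsIsotrivial (A ⧸ I) ((A ⧸ I) ⊗[A] C) ∧ IsTorus (A ⧸ I) ((A ⧸ I) ⊗[A] C)) :
    IsIsotrivial A C ∧ IsTorus A C := by
  have hiso : IsIsotrivial A C :=
    Groth.Agent.MultTypeLib.isIsotrivial_of_connected I hft hconn h0.1
  exact ⟨hiso, isTorus_of_isotrivial I hiso h0.2⟩

end Groth.Agent.S5277
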