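import Groth.Statements.S5278
import Mathlib.AlgebraicGeometry.Morphisms.Finite
import Mathlib.AlgebraicGeometry.Morphisms.Etale
import Mathlib.AlgebraicGeometry.Morphisms.UniversallyOpen
import Mathlib.AlgebraicGeometry.Morphisms.QuasiFinite
-- import your own Groth.Agent.* helpers here

set_option autoImplicit false
open CategoryTheory AlgebraicGeometry
universe u
open SGA3x

namespace Groth.Agent.S5278

/-- Let X be a connected scheme, f : X' ⟶ X a finite etale morphism and x a point of X. Then every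
connected component of X' meets the fibre of f over x; equivalently the map from the connected
components of the fibre (or of the geometric fibre) to those of X' is surjective. -/
theorem result {X X' : Scheme.{u}} [ConnectedSpace X] (f : X' ⟶ X)
    [IsFinite f] [Etale f] (x : X) (c : X') :
    ∃ x' : X', f.base x' = x ∧ x' ∈ connectedComponent c := by
  classical
  have hfin : (f.base ⁻¹' {x}).Finite := f.finite_preimage_singleton x
  -- a nonempty clopen meets the fibre
  have hmeet : ∀ U : Set X', IsClopen U → U.Nonempty → (U ∩ f.base ⁻¹' {x}).Nonempty := by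
    intro U hU hne
    have h : f.base '' U = Set.univ :=
      IsClopen.eq_univ ⟨f.isClosedMap _ hU.1, f.isOpenMap _ hU.2⟩ (hne.image _)
    obtain ⟨y, hy, hyx⟩ : x ∈ f.base '' U := h.symm ▸ Set.mem_univ x
    exact ⟨y, hy, hyx⟩
  have hex : ∃ n : ℕ, ∃ U : Set X', IsClopen U ∧ c ∈ U ∧ (U ∩ f.base ⁻¹' {x}).ncard = n :=
    ⟨_, Set.univ, isClopen_univ, Set.mem_univ c, rfl⟩
  obtain ⟨U, hU, hcU, hn⟩ := Nat.find_spec hex
  obtain ⟨x', hx'U, hx'⟩ := hmeet U hU ⟨c, hcU⟩
  refine ⟨x', hx', ?_⟩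
  have hconn : _root_.IsPreconnected U := by
    rw [isPreconnected_iff_subset_of_disjoint]
    intro V W hV hW hUVW hdisj
    by_contra hcon
    push Not at hcon
    obtain ⟨hnV, hnW⟩ := hcon
    have key : ∀ V W : Set X', IsOpen V → IsOpen W → U ⊆ V ∪ W → U ∩ (V ∩ W) = ∅ → c ∈ V →
        ¬ U ⊆ V → False := by
      intro V W hV hW hUVW hdisj hcV hnV
      have hd : ∀ a ∈ U, a ∈ V → a ∈ W → False := fun a ha hav haw => by
        have : a ∈ U ∩ (V ∩ W) := ⟨ha, hav, haw⟩
        rw [hdisj] at this; exact this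
      have hclV : IsClopen (U ∩ V) := by
        refine ⟨?_, hU.2.inter hV⟩
        have : U ∩ V = U ∩ Wᶜ := by
          ext a
          exact ⟨fun h => ⟨h.1, hd a h.1 h.2⟩, fun h => ⟨h.1, (hUVW h.1).resolve_right h.2⟩⟩
        rw [this]; exact hU.1.inter hW.isClosed_compl
      obtain ⟨a, haU, haV⟩ := Set.not_subset.mp hnV
      have hW' : IsClopen (U ∩ W) := by
        refine ⟨?_, hU.2.inter hW⟩
        have : U ∩ W = U ∩ Vᶜ := by
          ext a
          exact ⟨fun h => ⟨h.1, fun hv => hd a h.1 hv h.2⟩, fun h => ⟨h.1, (hUVW h.1).resolve_left h.2⟩⟩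
        rw [this]; exact hU.1.inter hV.isClosed_compl
      obtain ⟨y, ⟨hyU, hyW⟩, hyx⟩ := hmeet _ hW' ⟨a, haU, (hUVW haU).resolve_left haV⟩
      have hlt : ((U ∩ V) ∩ f.base ⁻¹' {x}).ncard < (U ∩ f.base ⁻¹' {x}).ncard := by
        refine Set.ncard_lt_ncard ?_ (hfin.subset Set.inter_subset_right)
        refine Set.ssubset_iff_subset_ne.mpr ⟨fun b hb => ⟨hb.1.1, hb.2⟩, fun he => ?_⟩
        have : y ∈ (U ∩ V) ∩ f.base ⁻¹' {x} := he ▸ (⟨hyU, hyx⟩ : y ∈ U ∩ f.base ⁻¹' {x})
        exact hd y hyU this.1.2 hyW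
      exact Nat.find_min hex (hn ▸ hlt) ⟨U ∩ V, hclV, ⟨hcU, hcV⟩, rfl⟩
    rcases hUVW hcU with h | h
    · exact key V W hV hW hUVW hdisj h hnV
    · exact key W V hW hV (by rwa [Set.union_comm]) (by rwa [Set.inter_comm W V]) h hnW
  exact hconn.subset_connectedComponent hcU hx'U


end Groth.Agent.S5278
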