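import Groth.Statements.S5288
import Groth.Agent.HenselHom.Descend
import Groth.Agent.BrnchLib.Compl
import Mathlib.RingTheory.AdicCompletion.LocalRing

set_option autoImplicit false
universe u
open TensorProduct SGA3b
open SGA3b

namespace Groth.Agent.S5288

/-- Let A be a henselian Noetherian local ring with maximal ideal 𝔪, residue field k and completion A';
let G = Spec B be an A-group of multiplicative type and of finite type, and H = Spec C an affine
A-group with C of finite type over A, flat over A at the points of the closed fibre (C localised at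
any prime containing 𝔪C is flat over A), whose closed fibre Spec (k ⊗ C) is a k-group of
multiplicative type. Then base change to A' is a bijection from homomorphisms of A-groups G ⟶ H
(bialgebra maps C → B) to homomorphisms of A'-groups G' ⟶ H': two bialgebra maps C → B with the same
base change are equal, and every bialgebra map A' ⊗ C → A' ⊗ B over A' is a base change. (The
published statement allows H locally of finite type and separated over A, not necessarily affine;
this row takes H affine.) (Affine group schemes over an affine base are taken in Hopf-algebra form;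
base change is the tensor product; a homomorphism of groups Spec A ⟶ Spec C is a bialgebra map C →
A.) -/
theorem result (A : Type u) [CommRing A] [IsNoetherianRing A] [HenselianLocalRing A]
    (B : Type u) [CommRing B] [HopfAlgebra A B] (hGft : Algebra.FiniteType A B) (hG : IsMultType A B)
    (C : Type u) [CommRing C] [HopfAlgebra A C] (hHft : Algebra.FiniteType A C)
    (hfl : ∀ (q : Ideal C) [q.IsPrime], Ideal.map (algebraMap A C) (IsLocalRing.maximalIdeal A) ≤ q → Module.Flat A (Localization.AtPrime q))
    (hs : IsMultType (IsLocalRing.ResidueField A) (IsLocalRing.ResidueField A ⊗[A] C)) :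
    (∀ φ ψ : C →ₐc[A] B, (∀ c : C, (1 : AdicCompletion (IsLocalRing.maximalIdeal A) A) ⊗ₜ[A] (φ c) = (1 : AdicCompletion (IsLocalRing.maximalIdeal A) A) ⊗ₜ[A] (ψ c)) → φ = ψ) ∧
    (∀ φ' : (AdicCompletion (IsLocalRing.maximalIdeal A) A ⊗[A] C) →ₐc[AdicCompletion (IsLocalRing.maximalIdeal A) A] (AdicCompletion (IsLocalRing.maximalIdeal A) A ⊗[A] B),
      ∃ φ : C →ₐc[A] B, ∀ c : C, φ' ((1 : AdicCompletion (IsLocalRing.maximalIdeal A) A) ⊗ₜ[A] c) = (1 : AdicCompletion (IsLocalRing.maximalIdeal A) A) ⊗ₜ[A] (φ c)) := by
  classical
  let A' := AdicCompletion (IsLocalRing.maximalIdeal A) A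
  have hfg : (IsLocalRing.maximalIdeal A).FG := IsNoetherian.noetherian _
  have := AdicCompletion.isLocalRing_of_fg hfg
  have hm : IsLocalRing.maximalIdeal A' = (IsLocalRing.maximalIdeal A).map (algebraMap A A') :=
    AdicCompletion.maximalIdeal_eq_map
  have : IsLocalHom (algebraMap A A') := inferInstance
  have : Module.Flat A A' := inferInstance
  have : Module.FaithfullyFlat A A' := Module.FaithfullyFlat.of_flat_of_isLocalHom
  have : HenselianLocalRing A' := Groth.Agent.BrnchLib.henselianLocalRing_completion A
  have hres : Function.Surjective ((IsLocalRing.residue A').comp (algebraMap A A')) := by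
    intro y
    obtain ⟨x, rfl⟩ := IsLocalRing.residue_surjective y
    obtain ⟨a, ha⟩ := Ideal.Quotient.mk_surjective (AdicCompletion.evalOneₐ (IsLocalRing.maximalIdeal A) x)
    refine ⟨a, Ideal.Quotient.eq.mpr ?_⟩
    rw [hm, ← AdicCompletion.ker_evalOneₐ_eq_map _ hfg, RingHom.mem_ker, map_sub, sub_eq_zero]
    refine Eq.trans ?_ ha
    exact AlgHom.commutes (AdicCompletion.evalOneₐ (IsLocalRing.maximalIdeal A)) a
  refine ⟨fun φ ψ h => ?_, fun φ' => Groth.Agent.HenselHom.exists_bialgHom hres hGft hG hHft hs φ'⟩
  ext c
  exact Groth.Agent.HenselHom.mk_injective (A' := A') (h c)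

end Groth.Agent.S5288
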