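import Groth.Statements.S5293
import Groth.Agent.HomRepLib.Apply
-- import your own Groth.Agent.* helpers here

set_option autoImplicit false
open CategoryTheory MonoidalCategory CartesianMonoidalCategory MonObj GrpObj AlgebraicGeometry
universe u
open SGA3x

namespace Groth.Agent.S5293

/-- Let H be a quasi-isotrivial S-group of multiplicative type (etale-locally on S isomorphic, as a
group, to diagonalisable groups D(M), M allowed to vary and taken in Type 0). Then the functor
D_S(H) = Hom_{S-gr}(H, G_m) is representable: there is an S-group D with a universal family of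
characters H ×_S D ⟶ G_{m,S}, multiplicative in the D-variable as well (the group law of D is the
pointwise product of characters), and D is a quasi-isotrivial twisted constant S-group
(etale-locally on S a constant group). -/
theorem result {S : Scheme.{u}} (H : Over S) [GrpObj H]
    (hH : TwC.Locally S TwC.Topology.etale (fun S' f => ∃ (M : Type) (_ : AddCommGroup M), Nonempty (Grp.mk (Red.bc f H) ≅ Grp.mk (Red.DS S' M)))) :
    ∃ (D : Over S) (_ : GrpObj D) (υ : H ⊗ D ⟶ Red.Gm S), AutFam.RepresentsHom H (Red.Gm S) D υ ∧
      (∀ (X : Over S) (h : X ⟶ H) (a b : X ⟶ D), lift h (a * b) ≫ υ = (lift h a ≫ υ) * (lift h b ≫ υ)) ∧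
      TwC.IsTwConstGrp TwC.Topology.etale D := by
  choose U f hf hs M iM he using hH
  haveI : ∀ s, Etale (f s) := hf
  obtain ⟨A, iA, υ, hA, hmul, hloc⟩ :=
    HomRepLib.exists_charScheme f (fun x => ⟨x, hs x⟩) M (fun s => (he s).some)
  refine ⟨A, iA, υ, hA, hmul, fun s => ⟨U s, f s, hf s, hs s, Multiplicative (ULift.{u} (ℤ →+ M s)), inferInstance, ?_⟩⟩
  exact hloc s

end Groth.Agent.S5293
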