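import Groth.Statements.S5298
import Groth.Agent.MultTypeLib.ConnCrit

set_option autoImplicit false
universe u
open TensorProduct SGA3b
open SGA3b

namespace Groth.Agent.S5298

/-- Condition (c) (over a local base, where every point is a generization of the closed point and an
open neighbourhood of the closed point is the whole base). Let R be a local ring with maximal ideal
𝔪 and residue field k, and H = Spec C an affine R-group with C of finite presentation over R, flat
over R at the points of the closed fibre (C localised at any prime containing 𝔪C is flat over R),
whose closed fibre Spec (k ⊗ C) is a k-group of multiplicative type, and such that every fibre Spec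
(κ(p) ⊗ C) is connected. Then H is of multiplicative type. (Affine group schemes over an affine base
are taken in Hopf-algebra form; base change is the tensor product; a homomorphism of groups Spec A ⟶
Spec C is a bialgebra map C → A.) -/
theorem result (R : Type u) [CommRing R] [IsLocalRing R]
    (C : Type u) [CommRing C] [HopfAlgebra R C] (hfp : Algebra.FinitePresentation R C)
    (hfl : ∀ (q : Ideal C) [q.IsPrime], Ideal.map (algebraMap R C) (IsLocalRing.maximalIdeal R) ≤ q → Module.Flat R (Localization.AtPrime q))
    (hs : IsMultType (IsLocalRing.ResidueField R) (IsLocalRing.ResidueField R ⊗[R] C))
    (hconn : ∀ (p : Ideal R) [p.IsPrime], ConnectedSpace (PrimeSpectrum (p.ResidueField ⊗[R] C))) :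
    IsMultType R C := by
  have := hfp
  exact Groth.Agent.MultTypeLib.isMultType_local_of_connected hfl hs hconn

end Groth.Agent.S5298
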