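import Groth.Statements.S5299
import Groth.Agent.MultTypeLib.TorsionCrit

set_option autoImplicit false
universe u
open TensorProduct SGA3b
open SGA3b

namespace Groth.Agent.S5299

/-- Condition (b) (over a local base). Let R be a local ring with maximal ideal 𝔪 and residue field k,
and H = Spec C a commutative affine R-group (C cocommutative) with C of finite presentation over R,
flat over R at the points of the closed fibre (C localised at any prime containing 𝔪C is flat over
R), whose closed fibre Spec (k ⊗ C) is a k-group of multiplicative type, and such that for every n >
0 the kernel ₙH = Spec (C/Jₙ) of the n-th power map is finite over R (Jₙ the ideal generated by the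
image of the augmentation ideal under the n-th power endomorphism). Then H is of multiplicative
type. (Affine group schemes over an affine base are taken in Hopf-algebra form; base change is the
tensor product; a homomorphism of groups Spec A ⟶ Spec C is a bialgebra map C → A.) -/
theorem result (R : Type u) [CommRing R] [IsLocalRing R]
    (C : Type u) [CommRing C] [HopfAlgebra R C] [Coalgebra.IsCocomm R C] (hfp : Algebra.FinitePresentation R C)
    (hfl : ∀ (q : Ideal C) [q.IsPrime], Ideal.map (algebraMap R C) (IsLocalRing.maximalIdeal R) ≤ q → Module.Flat R (Localization.AtPrime q))
    (hs : IsMultType (IsLocalRing.ResidueField R) (IsLocalRing.ResidueField R ⊗[R] C))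
    (hfin : ∀ n : ℕ, 0 < n → Module.Finite R (C ⧸ torsionIdeal R C n)) :
    IsMultType R C := by
  have := hfp
  exact Groth.Agent.MultTypeLib.isMultType_local_of_torsion hfl hs hfin

end Groth.Agent.S5299
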