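import Groth.Statements.S5300
import Groth.Agent.GrpSchLib.TorsionDenseOpen
-- import your own Groth.Agent.* helpers here

set_option autoImplicit false
universe u
open TensorProduct SGA3b
open SGA3b

namespace Groth.Agent.S5300

/-- The affine form of schematic density. Let k be a field and H = Spec C a commutative k-group of
finite type (C cocommutative, of finite type over k) which has an open subgroup G of multiplicative
type: an idempotent e of C such that the ideal (e) is a Hopf ideal and G = Spec (C/(e)) is of
multiplicative type. Then the family of kernels ₙH, n > 0, of the n-th power maps is schematically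
dense in H: for every a ∈ C, the intersection over n > 0 of the extensions to C[1/a] of the ideals
Jₙ of the ₙH is zero. (Affine group schemes over an affine base are taken in Hopf-algebra form; base
change is the tensor product; a homomorphism of groups Spec A ⟶ Spec C is a bialgebra map C → A.) -/
theorem result (k : Type u) [Field k] (C : Type u) [CommRing C] [HopfAlgebra k C]
    [Coalgebra.IsCocomm k C] (hft : Algebra.FiniteType k C)
    (e : C) (he : IsIdempotentElem e) [(Ideal.span {e}).IsHopfIdeal k] (hG : IsMultType k (C ⧸ Ideal.span {e})) :
    ∀ a : C, ⨅ n : {n : ℕ // 0 < n}, Ideal.map (algebraMap C (Localization.Away a)) (torsionIdeal k C n.1) = ⊥ := by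
  haveI : Algebra.FiniteType k C := hft
  exact fun a => GrpSchLib.TorsionDenseOpen.main e he hG a

end Groth.Agent.S5300
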