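import Groth.Statements.S5301
import Groth.Agent.HenselHom.Bridge
-- import your own Groth.Agent.* helpers here

set_option autoImplicit false
open CategoryTheory MonoidalCategory CartesianMonoidalCategory MonObj GrpObj AlgebraicGeometry
universe u
open SGA3x

namespace Groth.Agent.S5301

open CategoryTheory.Limits
open Groth.Agent.HenselHom Groth.Agent.GrpSchLib Groth.Agent.GrpSchLib.AffineHopf

set_option backward.isDefEq.respectTransparency.types false in
set_option maxHeartbeats 1000000 in
theorem result_affine {S : Scheme.{u}} (H : Over S) [GrpObj H]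
    [IsAffineHom H.hom] [LocallyOfFinitePresentation H.hom] {A : Type u} [CommRing A]
    (j : Spec (CommRingCat.of A) ⟶ S) [IsOpenImmersion j] (p : PrimeSpectrum A)
    (hfl : ∀ x : ↥H.left, H.hom.base x = j p → (H.hom.stalkMap x).hom.Flat)
    (hs : SGA3x.IsMultTypeFT (Red.bc (S.fromSpecResidueField (j p)) H)) :
    ∃ (S' : Scheme.{u}) (f : S' ⟶ S) (s' : S'), Etale f ∧ f.base s' = j p ∧ IsIso (f.residueFieldMap s') ∧
      ∃ (G' : Over S') (_ : GrpObj G') (i : G' ⟶ Red.bc f H), IsMonHom i ∧ IsOpenImmersion i.left ∧ IsClosedImmersion i.left ∧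
        SGA3x.IsMultTypeFT G' ∧ TwC.Locally S' TwC.Topology.finiteEtale (fun S'' g => ∃ (M : Type) (_ : AddCommGroup M), AddGroup.FG M ∧ Nonempty (Grp.mk (Red.bc g G') ≅ Grp.mk (Red.DS S'' M))) ∧
        IsIso ((Over.pullback (S'.fromSpecResidueField s')).map i).left := by
  classical
  let HA := Red.bc j H
  haveI : IsAffineHom HA.hom := MorphismProperty.pullback_snd (P := @IsAffineHom) _ _ inferInstance
  haveI : IsAffine HA.left := isAffine_of_isAffineHom HA.hom
  obtain ⟨C, _, _, ⟨eC⟩⟩ := exists_hopf HA
  let a : sp A C ≅ HA := (Grp.forget _).mapIso eC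
  haveI : IsIso a.hom.left := ((Over.forget _).mapIso a).isIso_hom
  haveI : LocallyOfFinitePresentation HA.hom :=
    MorphismProperty.pullback_snd (P := @LocallyOfFinitePresentation) _ _ inferInstance
  haveI : Algebra.FinitePresentation A C := RingHom.finitePresentation_algebraMap.mp
    ((HasRingHomProperty.Spec_iff (P := @LocallyOfFinitePresentation)
      (φ := CommRingCat.ofHom (algebraMap A C))).mp (by
      show LocallyOfFinitePresentation (sp A C).hom
      rw [← Over.w a.hom]; infer_instance))
  let u : Spec (CommRingCat.of C) ⟶ H.left := a.hom.left ≫ pullback.fst H.hom j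
  haveI : IsOpenImmersion u := by
    haveI : IsOpenImmersion (pullback.fst H.hom j) := MorphismProperty.pullback_fst (P := @IsOpenImmersion) _ _ ‹_›
    exact inferInstanceAs (IsOpenImmersion (a.hom.left ≫ pullback.fst H.hom j))
  have hu : u ≫ H.hom = specAlg A C ≫ j := by
    show (a.hom.left ≫ pullback.fst H.hom j) ≫ H.hom = (sp A C).hom ≫ j
    rw [← Over.w a.hom, Category.assoc, Category.assoc, pullback.condition]
    rfl
  obtain ⟨V, _, _, hVet, τ, o, hI, ho⟩ := exists_nbhd (A := A) (C := C) p.asIdeal
    (fun q _ hq => flat_atPrime_of_stalk j u H.hom hu ⟨q, inferInstance⟩ (hfl _ (by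
      show (u ≫ H.hom).base (⟨q, inferInstance⟩ : PrimeSpectrum C) = j p
      rw [hu]
      exact congrArg j.base (PrimeSpectrum.ext hq))))
    (isMultType_fibre_of_scheme H j eC p hs)
  haveI : Nontrivial V := τ.toRingHom.domain_nontrivial
  haveI := o.finitePresentation
  let fA := specAlg A V
  haveI : Etale fA := (HasRingHomProperty.Spec_iff (P := @Etale)).mpr (RingHom.etale_algebraMap.mpr hVet)
  let f : Spec (CommRingCat.of V) ⟶ S := fA ≫ j
  -- the point
  let κ := p.asIdeal.ResidueField
  obtain ⟨σ, hσi, hσ⟩ := exists_residue_iso j p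
  haveI := hσi
  let jτ : Spec (CommRingCat.of κ) ⟶ Spec (CommRingCat.of V) := Spec.map (CommRingCat.ofHom τ.toRingHom)
  let jj : Spec (S.residueField (j p)) ⟶ Spec (CommRingCat.of V) := inv σ ≫ jτ
  have hjj : jj ≫ f = S.fromSpecResidueField (j p) := by
    have h1 : jτ ≫ fA = specAlg A κ := by
      rw [← Spec.map_comp, ← CommRingCat.ofHom_comp]
      exact congrArg (fun z => Spec.map (CommRingCat.ofHom z)) τ.comp_algebraMap
    simp only [jj, f, Category.assoc]
    rw [reassoc_of% h1, IsIso.inv_comp_eq, hσ]
  let s' : Spec (CommRingCat.of V) := jj (IsLocalRing.closedPoint (S.residueField (j p)))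
  have hfs : f.base s' = j p := by
    show (jj ≫ f).base (IsLocalRing.closedPoint (S.residueField (j p))) = j p
    rw [hjj]
    exact Scheme.fromSpecResidueField_apply _ _
  have hker : s'.asIdeal = RingHom.ker τ := by
    show Ideal.comap τ.toRingHom ((inv σ) (IsLocalRing.closedPoint (S.residueField (j p)))).asIdeal = _
    rw [show ((inv σ) (IsLocalRing.closedPoint (S.residueField (j p)))).asIdeal = ⊥ from Ideal.eq_bot_of_prime _]
    rfl
  -- the subgroup
  obtain ⟨e₁⟩ := nonempty_bc_sp (R := A) V C
  obtain ⟨e₂⟩ := MultTypeBC.bc_iso fA eC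
  obtain ⟨e₃⟩ := MultTypeBC.bc_bc fA j H
  let Φ : Grp.mk (sp V (TensorProduct A V C)) ≅ Grp.mk (Red.bc f H) := e₁.symm ≪≫ e₂ ≪≫ e₃
  let φ : sp V (TensorProduct A V C) ≅ Red.bc f H := (Grp.forget _).mapIso Φ
  haveI : IsMonHom φ.hom := Φ.hom.hom.isMonHom_hom
  haveI : IsIso φ.hom.left := ((Over.forget _).mapIso φ).isIso_hom
  let i : sp V o.D ⟶ Red.bc f H := o.imm ≫ φ.hom
  haveI : IsOpenImmersion i.left := inferInstanceAs (IsOpenImmersion (o.imm.left ≫ φ.hom.left))
  haveI : IsClosedImmersion i.left := inferInstanceAs (IsClosedImmersion (o.imm.left ≫ φ.hom.left))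
  obtain ⟨hMT, hloc⟩ := exists_split_cover hI
  refine ⟨Spec (CommRingCat.of V), f, s', inferInstanceAs (Etale (fA ≫ j)), hfs,
    QuasiSect.isIso_residueFieldMap_of_lift f (j p) s' hfs jj rfl hjj,
    sp V o.D, inferInstance, i, inferInstanceAs (IsMonHom (o.imm ≫ φ.hom)), inferInstance, inferInstance, hMT, hloc, ?_⟩
  let t := (Spec (CommRingCat.of V)).fromSpecResidueField s'
  let m := ((Over.pullback t).map i).left
  have hsq := HomSplitLocal.isPullback_map i t
  haveI : IsOpenImmersion m := MorphismProperty.of_isPullback (P := @IsOpenImmersion) hsq inferInstance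
  haveI : Surjective m := ⟨fun w => by
    have hw : (Red.bc f H).hom (pullback.fst (Red.bc f H).hom t w) = s' := by
      rw [← Scheme.Hom.comp_apply, pullback.condition, Scheme.Hom.comp_apply]
      exact Scheme.fromSpecResidueField_apply _ _
    obtain ⟨P, hP⟩ := φ.hom.left.surjective (pullback.fst (Red.bc f H).hom t w)
    obtain ⟨y, hy⟩ := o.mem_range_imm P (mem_of_eq_zero τ P.asIdeal (by
      refine Eq.trans ?_ hker
      show ((sp V (TensorProduct A V C)).hom P).asIdeal = _
      rw [← Over.w φ.hom, Scheme.Hom.comp_apply, hP, hw]) ho)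
    have hy' : i.left y = pullback.fst (Red.bc f H).hom t w := by
      show φ.hom.left (o.imm.left y) = _
      rw [hy, hP]
    obtain ⟨z, -, hz⟩ := Scheme.exists_preimage_of_isPullback hsq y w hy'
    exact ⟨z, hz⟩⟩
  exact isIso_of_isOpenImmersion_of_opensRange_eq_top m (TopologicalSpace.Opens.ext (Set.range_eq_univ.mpr m.surjective))

/-- Let H be an S-group which is affine and of finite presentation over S, and s ∈ S a point such that
(α) H is flat over S at every point of the fibre H_s and (β) H_s is a κ(s)-group of multiplicative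
type (of finite type). Then there are an etale morphism S' ⟶ S, a point s' of S' over s whose
residue field extension κ(s) → κ(s') is an isomorphism, and an open and closed subgroup G' of H' = H
×_S S' which is of multiplicative type and of finite type, isotrivial (split, with finitely
generated types, over the open and closed pieces of one finite etale surjective cover of S'), and
whose fibre at s' is all of H'_{s'}. -/
theorem result {S : Scheme.{u}} (H : Over S) [GrpObj H]
    [IsAffineHom H.hom] [LocallyOfFinitePresentation H.hom] (s : S)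
    (hfl : ∀ x : ↥H.left, H.hom.base x = s → (H.hom.stalkMap x).hom.Flat)
    (hs : SGA3x.IsMultTypeFT (Red.bc (S.fromSpecResidueField s) H)) :
    ∃ (S' : Scheme.{u}) (f : S' ⟶ S) (s' : S'), Etale f ∧ f.base s' = s ∧ IsIso (f.residueFieldMap s') ∧
      ∃ (G' : Over S') (_ : GrpObj G') (j : G' ⟶ Red.bc f H), IsMonHom j ∧ IsOpenImmersion j.left ∧ IsClosedImmersion j.left ∧
        SGA3x.IsMultTypeFT G' ∧ TwC.Locally S' TwC.Topology.finiteEtale (fun S'' g => ∃ (M : Type) (_ : AddCommGroup M), AddGroup.FG M ∧ Nonempty (Grp.mk (Red.bc g G') ≅ Grp.mk (Red.DS S'' M))) ∧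
        IsIso ((Over.pullback (S'.fromSpecResidueField s')).map j).left := by
  obtain ⟨U, hU, hsU, -⟩ := exists_isAffineOpen_mem_and_subset (show s ∈ (⊤ : S.Opens) from trivial)
  obtain ⟨p, rfl⟩ : s ∈ Set.range hU.fromSpec := by rw [hU.range_fromSpec]; exact hsU
  exact result_affine H (A := Γ(S, U)) hU.fromSpec p hfl hs

end Groth.Agent.S5301
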