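import Groth.Statements.S5308
import Groth.Agent.GrpSchLib.TwConstClosed
-- import your own Groth.Agent.* helpers here

set_option autoImplicit false
open CategoryTheory MonoidalCategory CartesianMonoidalCategory MonObj GrpObj AlgebraicGeometry
universe u
open SGA3x

namespace Groth.Agent.S5308

/-- (i) ⇒ (ii). Let R be a commutative twisted constant S-group which is isotrivial (it becomes a
constant group over the open and closed pieces of one finite etale surjective S' ⟶ S). Then R is a
union of open and closed subschemes which are quasi-compact, indeed finite, over S: every point of R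
has an open and closed neighbourhood U in R with U ⟶ S finite. -/
theorem result {S : Scheme.{u}} (R : Over S) [GrpObj R]
    (hcomm : ∀ (X : Over S) (a b : X ⟶ R), a * b = b * a) (hR : TwC.IsTwConstGrp TwC.Topology.finiteEtale R) (x : R.left) :
    ∃ U : R.left.Opens, x ∈ U ∧ IsClosed (U : Set R.left) ∧ IsFinite (U.ι ≫ R.hom) := by
  classical
  have _ := hcomm
  obtain ⟨S', f, hfin, het, hsurj, hloc⟩ := hR
  haveI := hfin; haveI := het; haveI := hsurj
  have htw : TwC.IsTwConst TwC.Topology.fpqc R := by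
    refine ⟨S', f, inferInstance, hsurj, fun V hV => ⟨f ⁻¹ᵁ V, f.isCompact_preimage hV.isCompact, ?_⟩, fun s' => ?_⟩
    · rw [Scheme.Hom.coe_preimage]
      exact Set.image_preimage_eq _ f.surjective
    · obtain ⟨V, hV, -, M, _, e, -⟩ := hloc s'
      exact ⟨V, hV, M, ⟨e⟩⟩
  obtain ⟨s', hs'⟩ := f.surjective (R.hom x)
  obtain ⟨V, hV, hVc, M, _, e, -⟩ := hloc s'
  haveI : IsClosedImmersion V.ι :=
    .of_isPreimmersion _ (by rw [Scheme.Opens.range_ι]; exact hVc)
  let q : (V : Scheme.{u}) ⟶ S := V.ι ≫ f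
  haveI : IsFinite q := inferInstanceAs (IsFinite (V.ι ≫ f))
  haveI : Etale q := inferInstanceAs (Etale (V.ι ≫ f))
  obtain ⟨z, hz1, hz2⟩ := Scheme.Pullback.exists_preimage_pullback (f := R.hom) (g := q) x (⟨s', hV⟩ : V) hs'.symm
  obtain ⟨⟨m, v⟩, hv⟩ := (sigmaMk fun _ : M => (V : Scheme.{u})).surjective (e.hom.left z)
  rw [sigmaMk_mk] at hv
  let σ : (V : Scheme.{u}) ⟶ ∐ fun _ : M => (V : Scheme.{u}) := Limits.Sigma.ι (fun _ : M => (V : Scheme.{u})) m
  haveI : IsIso e.inv.left := inferInstanceAs (IsIso ((Over.forget _).map e.inv))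
  let h : (V : Scheme.{u}) ⟶ R.left := (σ ≫ e.inv.left) ≫ Limits.pullback.fst R.hom q
  have hh : h ≫ R.hom = q := by
    have h1 : e.inv.left ≫ Limits.pullback.snd R.hom q = Limits.Sigma.desc fun _ : M => 𝟙 _ := Over.w e.inv
    show ((σ ≫ e.inv.left) ≫ Limits.pullback.fst R.hom q) ≫ R.hom = q
    rw [Category.assoc, Limits.pullback.condition, Category.assoc, reassoc_of% h1, ← Category.assoc,
      show σ ≫ Limits.Sigma.desc (fun _ : M => 𝟙 (V : Scheme.{u})) = 𝟙 _ from Limits.Sigma.ι_desc _ _, Category.id_comp]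
  have hclosed : IsClosed (Set.range σ) := by
    have : Set.range σ = (⋃ i : {i : M // i ≠ m}, Set.range (Limits.Sigma.ι (fun _ : M => (V : Scheme.{u})) i.1))ᶜ := by
      ext y
      obtain ⟨⟨i, w⟩, rfl⟩ := (sigmaMk fun _ : M => (V : Scheme.{u})).surjective y
      rw [sigmaMk_mk]
      simp only [Set.mem_compl_iff, Set.mem_iUnion, Set.mem_range, not_exists]
      refine ⟨fun ⟨w', hw'⟩ j w'' hw'' => ?_, fun hy => ?_⟩
      · exact j.2 ((Sigma.mk.inj ((sigmaι_eq_iff _ _ _ _ _).mp (hw''.trans hw'.symm))).1)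
      · by_cases hi : i = m
        · subst hi; exact ⟨w, rfl⟩
        · exact absurd rfl (hy ⟨i, hi⟩ w)
    rw [this, isClosed_compl_iff]
    exact isOpen_iUnion fun i => (Scheme.Hom.opensRange (Limits.Sigma.ι (fun _ : M => (V : Scheme.{u})) i.1)).2
  haveI : IsClosedImmersion σ := .of_isPreimmersion _ hclosed
  have hopen : IsOpen (Set.range h) := h.isOpenMap.isOpen_range
  have hcl : IsClosed (Set.range h) := h.isClosedMap.isClosed_range
  let U : R.left.Opens := ⟨Set.range h, hopen⟩
  haveI : IsClosedImmersion U.ι := .of_isPreimmersion _ (by rw [Scheme.Opens.range_ι]; exact hcl)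
  haveI : QuasiCompact (U.ι ≫ R.hom) := (quasiCompact_iff _).2 fun A hA hAc => by
    rw [U.ι.isEmbedding.isCompact_iff]
    convert (q.isCompact_preimage (U := ⟨A, hA⟩) hAc).image h.continuous using 1
    ext y
    constructor
    · rintro ⟨u', hu', rfl⟩
      obtain ⟨a, ha⟩ := u'.2
      refine ⟨a, ?_, ha⟩
      show q a ∈ A
      rw [← hh, Scheme.Hom.comp_apply, show h a = U.ι u' from ha]
      exact hu'
    · rintro ⟨a, ha, rfl⟩
      refine ⟨⟨h a, a, rfl⟩, ?_, rfl⟩
      show R.hom (h a) ∈ A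
      rw [← Scheme.Hom.comp_apply, hh]
      exact ha
  refine ⟨U, ⟨v, ?_⟩, hcl, GrpSchLib.TwConstClosed.isFinite_of_twConst R htw U.ι⟩
  have h2 : σ v = e.hom.left z := hv
  have h3 : e.hom.left ≫ e.inv.left = 𝟙 _ := by rw [← Over.comp_left, e.hom_inv_id]; rfl
  show (Limits.pullback.fst R.hom q) (e.inv.left (σ v)) = x
  rw [h2, ← Scheme.Hom.comp_apply e.hom.left e.inv.left, h3]
  exact hz1

end Groth.Agent.S5308
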