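import Groth.Statements.S5312
import Groth.Agent.GrpSchLib.HomFibre
-- import your own Groth.Agent.* helpers here

set_option autoImplicit false
universe u
open CategoryTheory CategoryTheory.Limits MonoidalCategory CartesianMonoidalCategory MonObj GrpObj AlgebraicGeometry
open SGA3

namespace Groth.Agent.S5312

/-- Let u : G → H be a homomorphism of S-group schemes, with G flat and locally of finite presentation
over S and H locally of finite type over S. Then the set U of points s of S such that the fibre u_s
: G_s → H_s over κ(s) is flat is open in S, and the set of points of G at which u is flat (the local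
ring of G is flat over that of H) is the inverse image of U in G. (The published statement assumes
the finiteness and flatness conditions only at the points of the unit sections for the openness of
U; this row assumes them on all of G and H, the case in which the second assertion is stated.) -/
theorem result (S : Scheme.{u}) (G H : Over S) [GrpObj G] [GrpObj H] (u : G ⟶ H) [IsMonHom u]
    [Flat G.hom] [LocallyOfFinitePresentation G.hom] [LocallyOfFiniteType H.hom] :
    IsOpen {s : S | Flat ((Over.pullback (S.fromSpecResidueField s)).map u).left} ∧
    {x : G.left | (u.left.stalkMap x).hom.Flat} = G.hom.base ⁻¹' {s : S | Flat ((Over.pullback (S.fromSpecResidueField s)).map u).left} := by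
  
  haveI := Agent.GrpSchLib.HomFibre.lfp_of_flat_lfp u
  have hG : ∀ s : S, LocallyOfFiniteType (G.hom.fiberToSpecResidueField s) := fun s =>
    MorphismProperty.pullback_snd (P := @LocallyOfFiniteType) _ _ inferInstance
  obtain ⟨h1, h2⟩ := Agent.GrpSchLib.HomFibre.main u @Flat Agent.GrpSchLib.Loci.compat_FL
    (Agent.GrpSchLib.HomFibre.flat_iff u) hG fun s => by
      haveI := Agent.GrpSchLib.HomFibre.fib_lfp u (S.fromSpecResidueField s)
      refine ⟨fun h z => (Agent.GrpSchLib.HomFibre.mem_loc_FL_iff _ z).mpr (Flat.stalkMap _ z), fun h => ?_⟩
      exact Flat.of_stalkMap _ fun z => (Agent.GrpSchLib.HomFibre.mem_loc_FL_iff _ z).mp (h z)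
  exact ⟨h1, (Set.ext fun x => (Agent.GrpSchLib.HomFibre.mem_loc_FL_iff u.left x).symm).trans h2⟩

end Groth.Agent.S5312
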