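import Groth.Statements.S5314
import Groth.Agent.GrpSchLib.HomFibre
-- import your own Groth.Agent.* helpers here

set_option autoImplicit false
universe u
open CategoryTheory CategoryTheory.Limits MonoidalCategory CartesianMonoidalCategory MonObj GrpObj AlgebraicGeometry
open SGA3

namespace Groth.Agent.S5314

/-- Let u : G → H be a homomorphism of S-group schemes, with G flat and locally of finite presentation
over S and H locally of finite type over S. Then the set U of points s of S such that the fibre u_s
: G_s → H_s over κ(s) is etale is open in S, and the set of points of G at which u is etale (u is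
etale on some open neighbourhood) is the inverse image of U in G. (The published statement assumes
the finiteness and flatness conditions only at the points of the unit sections for the openness of
U; this row assumes them on all of G and H, the case in which the second assertion is stated.) -/
theorem result (S : Scheme.{u}) (G H : Over S) [GrpObj G] [GrpObj H] (u : G ⟶ H) [IsMonHom u]
    [Flat G.hom] [LocallyOfFinitePresentation G.hom] [LocallyOfFiniteType H.hom] :
    IsOpen {s : S | Etale ((Over.pullback (S.fromSpecResidueField s)).map u).left} ∧
    {x : G.left | ∃ W : G.left.Opens, x ∈ W ∧ Etale (W.ι ≫ u.left)} = G.hom.base ⁻¹' {s : S | Etale ((Over.pullback (S.fromSpecResidueField s)).map u).left} := by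
  have hG : ∀ s : S, LocallyOfFiniteType (G.hom.fiberToSpecResidueField s) := fun s =>
    MorphismProperty.pullback_snd (P := @LocallyOfFiniteType) _ _ inferInstance
  exact Agent.GrpSchLib.HomFibre.main u @Etale Agent.GrpSchLib.Loci.compat_etale
    (Agent.GrpSchLib.HomFibre.etale_iff u) hG fun s =>
      ⟨fun h z => ⟨⊤, trivial, IsZariskiLocalAtSource.comp (P := @Etale) h _⟩,
        Agent.GrpSchLib.Loci.of_forall_mem @Etale _⟩

end Groth.Agent.S5314
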