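import Groth.Statements.S5317
import Groth.Agent.GrpSchLib.HomFibre
import Groth.Agent.S3694
-- import your own Groth.Agent.* helpers here

set_option autoImplicit false
universe u
open CategoryTheory CategoryTheory.Limits MonoidalCategory CartesianMonoidalCategory MonObj GrpObj AlgebraicGeometry
open SGA3

namespace Groth.Agent.S5317

/-- Let u : G → H be a homomorphism of S-group schemes which is universally injective (for instance a
monomorphism), with G flat and locally of finite presentation over S and H locally of finite type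
over S. Then the set U of points s of S such that u_s : G_s → H_s is an open immersion is open in S,
and the restriction of u over every open of S contained in U is an open immersion. -/
theorem result (S : Scheme.{u}) (G H : Over S) [GrpObj G] [GrpObj H]
    (u : G ⟶ H) [IsMonHom u] [UniversallyInjective u.left]
    [Flat G.hom] [LocallyOfFinitePresentation G.hom] [LocallyOfFiniteType H.hom] :
    IsOpen {s : S | IsOpenImmersion ((Over.pullback (S.fromSpecResidueField s)).map u).left} ∧
    ∀ W : S.Opens, (W : Set S) ⊆ {s : S | IsOpenImmersion ((Over.pullback (S.fromSpecResidueField s)).map u).left} → IsOpenImmersion ((G.hom ⁻¹ᵁ W).ι ≫ u.left) := by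
  have hG : ∀ s : S, LocallyOfFiniteType (G.hom.fiberToSpecResidueField s) := fun s =>
    MorphismProperty.pullback_snd (P := @LocallyOfFiniteType) _ _ inferInstance
  obtain ⟨h1, h2⟩ := Agent.GrpSchLib.HomFibre.main u @Etale Agent.GrpSchLib.Loci.compat_etale
    (Agent.GrpSchLib.HomFibre.etale_iff u) hG fun s =>
      ⟨fun h z => ⟨⊤, trivial, IsZariskiLocalAtSource.comp (P := @Etale) h _⟩,
        Agent.GrpSchLib.Loci.of_forall_mem @Etale _⟩
  have key : {s : S | IsOpenImmersion ((Over.pullback (S.fromSpecResidueField s)).map u).left} =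
      {s : S | Etale (Agent.GrpSchLib.HomFibre.fib u s).left} := Set.ext fun s => by
    refine ⟨fun h => ?_, fun h => ?_⟩
    · haveI : IsOpenImmersion (Agent.GrpSchLib.HomFibre.fib u s).left := h
      exact inferInstanceAs (Etale (Agent.GrpSchLib.HomFibre.fib u s).left)
    · haveI : Etale (Agent.GrpSchLib.HomFibre.fib u s).left := h
      haveI : UniversallyInjective (Agent.GrpSchLib.HomFibre.fib u s).left :=
        MorphismProperty.of_isPullback (P := @UniversallyInjective) (Agent.GrpSchLib.HomFibre.map_isPullback u _) ‹_›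
      exact S3694.result _
  rw [key]
  refine ⟨h1, fun W hW => ?_⟩
  haveI : Etale ((G.hom ⁻¹ᵁ W).ι ≫ u.left) := by
    refine Agent.GrpSchLib.Loci.of_forall_mem @Etale _ fun x => ?_
    have hx : (G.hom ⁻¹ᵁ W).ι x ∈ Agent.GrpSchLib.Loci.loc @Etale u.left := h2.ge (hW x.2)
    obtain ⟨V, hxV, hV⟩ := hx
    refine ⟨(G.hom ⁻¹ᵁ W).ι ⁻¹ᵁ V, hxV, ?_⟩
    have e : ((G.hom ⁻¹ᵁ W).ι ⁻¹ᵁ V).ι ≫ (G.hom ⁻¹ᵁ W).ι ≫ u.left =
        ((G.hom ⁻¹ᵁ W).ι ∣_ V) ≫ V.ι ≫ u.left := by rw [morphismRestrict_ι_assoc]
    rw [e]
    exact IsZariskiLocalAtSource.comp (P := @Etale) hV _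
  haveI : UniversallyInjective ((G.hom ⁻¹ᵁ W).ι ≫ u.left) :=
    MorphismProperty.comp_mem @UniversallyInjective _ _ inferInstance ‹_›
  exact S3694.result _

end Groth.Agent.S5317
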