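import Groth.Statements.S5318
import Groth.Agent.S5339
import Groth.Agent.GrpSchLib.HomFibre
-- import your own Groth.Agent.* helpers here

set_option autoImplicit false
universe u
open CategoryTheory CategoryTheory.Limits MonoidalCategory CartesianMonoidalCategory MonObj GrpObj AlgebraicGeometry
open SGA3

namespace Groth.Agent.S5318

open scoped CategoryTheory.Obj

/-- (ii) ⟺ (iii) and, for G locally of finite presentation over S, (ii) ⟺ (iv): let G be an S-group
scheme. The unit section of G is an open immersion if and only if G is locally of finite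
presentation over S on some open containing the unit section and every fibre G_s is unramified
(formally unramified and locally of finite presentation) over κ(s). If G is locally of finite
presentation over S, the unit section is an open immersion if and only if G is unramified over S. -/
theorem result (S : Scheme.{u}) (G : Over S) [GrpObj G] :
    (IsOpenImmersion η[G].left ↔
      ((∃ W : G.left.Opens, (∀ p : ↥(𝟙_ (Over S)).left, η[G].left.base p ∈ W) ∧ LocallyOfFinitePresentation (W.ι ≫ G.hom)) ∧
        ∀ s : S, FormallyUnramified (G.hom.fiberToSpecResidueField s) ∧ LocallyOfFinitePresentation (G.hom.fiberToSpecResidueField s))) ∧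
    (LocallyOfFinitePresentation G.hom → (IsOpenImmersion η[G].left ↔ FormallyUnramified G.hom)) := by
  have hsect : η[G].left ≫ G.hom = 𝟙 S := Over.w η[G]
  -- a section of an unramified morphism is an open immersion
  have back : ∀ W : G.left.Opens, (∀ p : ↥(𝟙_ (Over S)).left, η[G].left.base p ∈ W) →
      FormallyUnramified (W.ι ≫ G.hom) → LocallyOfFinitePresentation (W.ι ≫ G.hom) → IsOpenImmersion η[G].left := by
    intro W hW h h'
    let e : (𝟙_ (Over S)).left ⟶ W.toScheme := IsOpenImmersion.lift W.ι η[G].left (by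
      rw [Scheme.Opens.range_ι]; rintro _ ⟨p, rfl⟩; exact hW p)
    have he : e ≫ W.ι = η[G].left := IsOpenImmersion.lift_fac _ _ _
    haveI := h
    haveI := h'
    haveI : IsIso (e ≫ W.ι ≫ G.hom) := by
      rw [← Category.assoc, he, hsect]
      exact inferInstanceAs (IsIso (𝟙 S))
    haveI : Etale e := Etale.of_comp e (W.ι ≫ G.hom)
    haveI : Mono e := mono_of_mono e (W.ι ≫ G.hom)
    haveI : IsOpenImmersion e := IsOpenImmersion.of_flat_of_mono e
    rw [← he]
    infer_instance
  -- unramified fibres give unramified points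
  have loc : ∀ (W : G.left.Opens), LocallyOfFinitePresentation (W.ι ≫ G.hom) →
      (∀ s : S, FormallyUnramified (G.hom.fiberToSpecResidueField s)) → ∀ x : W.toScheme,
      Agent.MorLib.UnrLocus.Loc (W.ι ≫ G.hom) x := by
    intro W h hf x
    haveI := h
    obtain ⟨z, hz⟩ := Agent.GrpSchLib.HomFibre.exists_incl (G := G) (W.ι x)
    haveI := hf (G.hom (W.ι x))
    let π := Agent.GrpSchLib.HomFibre.incl G (G.hom (W.ι x))
    have hzW : π z ∈ W := by
      show π z ∈ W
      rw [show π z = W.ι x from hz]
      exact x.2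
    have hsq := Agent.GrpSchLib.Loci.isPullback_restrict
      (IsPullback.of_hasPullback G.hom (S.fromSpecResidueField (G.hom (W.ι x)))) W
    have h1 : Agent.MorLib.UnrLocus.Loc ((π ⁻¹ᵁ W).ι ≫ G.hom.fiberToSpecResidueField (G.hom (W.ι x)))
        (⟨z, hzW⟩ : (π ⁻¹ᵁ W).toScheme) :=
      ⟨⊤, trivial, MorphismProperty.comp_mem @FormallyUnramified _ _ inferInstance
        (MorphismProperty.comp_mem @FormallyUnramified _ _ inferInstance (hf _))⟩
    change Agent.MorLib.UnrLocus.Loc ((π ⁻¹ᵁ W).ι ≫ pullback.snd G.hom (S.fromSpecResidueField (G.hom (W.ι x)))) _ at h1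
    rw [← hsq.isoPullback_hom_snd, Agent.MorLib.UnrLocus.loc_comp_left, Agent.MorLib.UnrLocus.loc_pullback,
      ← Scheme.Hom.comp_apply, hsq.isoPullback_hom_fst] at h1
    convert h1 using 1
    exact W.ι.isOpenEmbedding.injective (by
      rw [← Scheme.Hom.comp_apply (π ∣_ W) W.ι, morphismRestrict_ι]
      exact hz.symm)
  have fwd : IsOpenImmersion η[G].left → (∃ W : G.left.Opens, (∀ p : ↥(𝟙_ (Over S)).left, η[G].left.base p ∈ W) ∧ LocallyOfFinitePresentation (W.ι ≫ G.hom)) ∧
      ∀ s : S, FormallyUnramified (G.hom.fiberToSpecResidueField s) ∧ LocallyOfFinitePresentation (G.hom.fiberToSpecResidueField s) := by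
    intro h
    haveI := h
    haveI hiso : IsIso (η[G].left.opensRange.ι ≫ G.hom) := by
      rw [← Scheme.Hom.isoOpensRange_inv_comp η[G].left, Category.assoc, hsect]
      exact IsIso.comp_isIso' inferInstance (inferInstanceAs (IsIso (𝟙 S)))
    refine ⟨⟨η[G].left.opensRange, fun p => ⟨p, rfl⟩, inferInstance⟩, fun s => ?_⟩
    let π := Agent.GrpSchLib.HomFibre.incl G s
    obtain ⟨z, hz⟩ := Agent.GrpSchLib.HomFibre.exists_unit (G := G) s
    have hsq := Agent.GrpSchLib.Loci.isPullback_restrict
      (IsPullback.of_hasPullback G.hom (S.fromSpecResidueField s)) η[G].left.opensRange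
    haveI : IsIso ((π ⁻¹ᵁ η[G].left.opensRange).ι ≫ pullback.snd G.hom (S.fromSpecResidueField s)) :=
      MorphismProperty.of_isPullback (P := MorphismProperty.isomorphisms Scheme.{u}) hsq hiso
    haveI : Flat ((Over.pullback (S.fromSpecResidueField s)).obj G).hom := inferInstance
    have inst : GrpObj ((Over.pullback (S.fromSpecResidueField s)).obj G) := inferInstance
    have hfl : Flat ((Over.pullback (S.fromSpecResidueField s)).obj G).hom := inferInstance
    exact (@S5339.result (IsLocalRing.ResidueField (S.presheaf.stalk s)) _ inferInstance inferInstance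
      ((Over.pullback (S.fromSpecResidueField s)).obj G) inst hfl
      (π ⁻¹ᵁ η[G].left.opensRange) ⟨z, show π z ∈ η[G].left.opensRange by
        rw [show π z = η[G].left s from hz]; exact ⟨s, rfl⟩⟩).2.1
      (inferInstanceAs (FormallyUnramified ((π ⁻¹ᵁ η[G].left.opensRange).ι ≫ pullback.snd G.hom (S.fromSpecResidueField s))))
      (inferInstanceAs (LocallyOfFinitePresentation ((π ⁻¹ᵁ η[G].left.opensRange).ι ≫ pullback.snd G.hom (S.fromSpecResidueField s))))
  refine ⟨⟨fwd, ?_⟩, fun hfp => ⟨fun h => ?_, fun h => ?_⟩⟩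
  · rintro ⟨⟨W, hW, hWfp⟩, hf⟩
    have hu : FormallyUnramified (W.ι ≫ G.hom) := by
      refine Agent.GrpSchLib.Loci.of_forall_mem @FormallyUnramified _ fun x => ?_
      obtain ⟨U, hx, hU⟩ := loc W hWfp (fun s => (hf s).1) x
      exact ⟨U, hx, hU⟩
    exact back W hW hu hWfp
  · refine Agent.GrpSchLib.Loci.of_forall_mem @FormallyUnramified _ fun x => ?_
    haveI := hfp
    obtain ⟨U, hx, hU⟩ := (Agent.MorLib.UnrLocus.loc_comp_left (⊤ : G.left.Opens).ι G.hom ⟨x, trivial⟩).mp
      (loc ⊤ inferInstance (fun s => ((fwd h).2 s).1) ⟨x, trivial⟩)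
    exact ⟨U, hx, hU⟩
  · haveI := h
    haveI := hfp
    exact back ⊤ (fun _ => trivial) (MorphismProperty.comp_mem @FormallyUnramified _ _ inferInstance h)
      (MorphismProperty.comp_mem @LocallyOfFinitePresentation _ _ inferInstance hfp)

end Groth.Agent.S5318
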