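import Groth.Statements.S5319
import Groth.Agent.GrpSchLib.HomKer
-- import your own Groth.Agent.* helpers here

set_option autoImplicit false
universe u
open CategoryTheory CategoryTheory.Limits MonoidalCategory CartesianMonoidalCategory MonObj GrpObj AlgebraicGeometry
open SGA3

namespace Groth.Agent.S5319

/-- Let u : G → H be a homomorphism of S-group schemes which is locally of finite type, with every fibre
G_s locally of finite type over κ(s), and let i : K → G be the kernel of u (the square i, u, unit of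
H is cartesian). The following are equivalent: u is locally quasi-finite; every fibre u_s : G_s →
H_s is locally quasi-finite; K is locally quasi-finite over S; every fibre of K over S is a discrete
space. -/
theorem result (S : Scheme.{u}) (G H : Over S) [GrpObj G] [GrpObj H] (u : G ⟶ H) [IsMonHom u]
    [LocallyOfFiniteType u.left] (hG : ∀ s : S, LocallyOfFiniteType (G.hom.fiberToSpecResidueField s)) (K : Over S) [GrpObj K] (i : K ⟶ G) [IsMonHom i] (hK : AlgGrp.IsKernel i u) :
    (LocallyQuasiFinite u.left ↔ ∀ s : S, LocallyQuasiFinite ((Over.pullback (S.fromSpecResidueField s)).map u).left) ∧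
    (LocallyQuasiFinite u.left ↔ LocallyQuasiFinite K.hom) ∧
    (LocallyQuasiFinite u.left ↔ ∀ s : S, DiscreteTopology ↥(K.hom.base ⁻¹' {s})) := by
  have hsq := Agent.GrpSchLib.HomKer.kernel_square i hK
  haveI : LocallyOfFiniteType K.hom := MorphismProperty.of_isPullback (P := @LocallyOfFiniteType) hsq ‹_›
  have hKu : LocallyQuasiFinite u.left → LocallyQuasiFinite K.hom := fun h =>
    MorphismProperty.of_isPullback (P := @LocallyQuasiFinite) hsq h
  have hdisc : LocallyQuasiFinite K.hom ↔ ∀ s : S, DiscreteTopology ↥(K.hom.base ⁻¹' {s}) := by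
    rw [locallyQuasiFinite_iff_isDiscrete_preimage_singleton]
    exact forall_congr' fun s => isDiscrete_iff_discreteTopology
  have hunit : LocallyQuasiFinite K.hom → LocallyQuasiFinite u.left := fun h => by
    have hall := Agent.GrpSchLib.HomKer.all_of_unit u Agent.GrpSchLib.Loci.compat_LQ
      (Agent.GrpSchLib.HomFibre.lqf_iff u) hG fun s => by
        rw [Agent.GrpSchLib.HomFibre.mem_loc_LQ_iff, ← Agent.GrpSchLib.HomKer.i_unit i s]
        exact (Set.ext_iff.mp (S9389.result u.left η[H].left _ _ hsq) _).mp (K.hom.quasiFiniteAt _)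
    refine Agent.GrpSchLib.Loci.of_forall_mem @LocallyQuasiFinite _ fun x => ?_
    obtain ⟨W, hx, hW, -⟩ := hall x
    exact ⟨W, hx, hW⟩
  refine ⟨⟨fun h s => MorphismProperty.of_isPullback (P := @LocallyQuasiFinite)
      (Agent.GrpSchLib.HomFibre.map_isPullback u _) h, fun h => ?_⟩, ⟨hKu, hunit⟩,
    ⟨fun h => hdisc.mp (hKu h), fun h => hunit (hdisc.mpr h)⟩⟩
  refine Agent.GrpSchLib.Loci.of_forall_mem @LocallyQuasiFinite _ fun x => ?_
  obtain ⟨z, hz⟩ := Agent.GrpSchLib.HomFibre.exists_incl x
  haveI := h (G.hom x)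
  haveI := Agent.GrpSchLib.HomFibre.fib_lft u (S.fromSpecResidueField (G.hom x))
  obtain ⟨W, hxW, hW, -⟩ := (Agent.GrpSchLib.HomFibre.lqf_iff u _ z).mp
    ((Agent.GrpSchLib.HomFibre.mem_loc_LQ_iff _ z).mpr (Scheme.Hom.quasiFiniteAt _ z))
  exact ⟨W, hz ▸ hxW, hW⟩

end Groth.Agent.S5319
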