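import Groth.Statements.S5321
import Groth.Agent.MorLib.UnramLocus
-- import your own Groth.Agent.* helpers here

set_option autoImplicit false
universe u
open CategoryTheory CategoryTheory.Limits MonoidalCategory CartesianMonoidalCategory MonObj GrpObj AlgebraicGeometry
open SGA3

namespace Groth.Agent.S5321

/-- Consider a morphism π : X → S admitting a section ε, and assume the map of underlying spaces of π is
closed. Fix a point s of S, and suppose that on some open neighbourhood of ε(s) the morphism π is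
locally of finite presentation, and that the fibre X_s → Spec κ(s) is an isomorphism. Under these
assumptions one can find an open subset U of S containing s such that π restricts to an isomorphism
π⁻¹(U) → U (consequently ε restricted to U is an isomorphism onto π⁻¹(U)). -/
theorem result (X S : Scheme.{u}) (π : X ⟶ S) (ε : S ⟶ X) (hε : ε ≫ π = 𝟙 S)
    (hcl : IsClosedMap π.base) (s : S)
    (hfp : ∃ W : X.Opens, ε.base s ∈ W ∧ LocallyOfFinitePresentation (W.ι ≫ π))
    (hs : IsIso (π.fiberToSpecResidueField s)) :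
    ∃ U : S.Opens, s ∈ U ∧ IsIso (π ∣_ U) := by
  obtain ⟨W, hxW, hWfp⟩ := hfp
  have hεs : ∀ t, π (ε t) = t := fun t => by rw [← Scheme.Hom.comp_apply, hε]; rfl
  have hx : ∀ y, π y = s → y = ε s := fun y hy => by
    haveI := hs
    obtain ⟨a, rfl⟩ : y ∈ Set.range (π.fiberι s) := by rw [Scheme.Hom.range_fiberι]; exact hy
    obtain ⟨b, hb⟩ : ε s ∈ Set.range (π.fiberι s) := by rw [Scheme.Hom.range_fiberι]; exact hεs s
    rw [← hb]
    exact congrArg _ ((π.fiberToSpecResidueField s).homeomorph.injective (Subsingleton.elim (α := PrimeSpectrum _) _ _))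
  -- shrinking the base around an open neighbourhood of the point
  have shrink : ∀ O : X.Opens, ε s ∈ O → ∃ U : S.Opens, s ∈ U ∧ π ⁻¹ᵁ U ≤ O := fun O hO =>
    ⟨⟨(π.base '' (O : Set X)ᶜ)ᶜ, (hcl _ O.2.isClosed_compl).isOpen_compl⟩,
      fun ⟨y, hy, hys⟩ => hy (hx y hys ▸ hO), fun y hy => by_contra fun h => hy ⟨y, h, rfl⟩⟩
  haveI := hWfp
  -- unramified near the point
  have hloc : Agent.MorLib.UnrLocus.Loc (W.ι ≫ π) (⟨ε s, hxW⟩ : W.toScheme) := by
    haveI := hs
    obtain ⟨a, ha⟩ : ε s ∈ Set.range (π.fiberι s) := by rw [Scheme.Hom.range_fiberι]; exact hεs s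
    let F := (π.fiberι s) ⁻¹ᵁ W
    let a' : F.toScheme := ⟨a, show π.fiberι s a ∈ W by rw [ha]; exact hxW⟩
    have hsq : IsPullback ((π.fiberι s) ∣_ W) (F.ι ≫ π.fiberToSpecResidueField s) (W.ι ≫ π) (S.fromSpecResidueField s) :=
      (isPullback_morphismRestrict (π.fiberι s) W).paste_vert (IsPullback.of_hasPullback π (S.fromSpecResidueField s))
    have h : Agent.MorLib.UnrLocus.Loc (F.ι ≫ π.fiberToSpecResidueField s) a' :=
      ⟨⊤, trivial, MorphismProperty.comp_mem @FormallyUnramified _ _ inferInstance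
        (MorphismProperty.comp_mem @FormallyUnramified _ _ inferInstance inferInstance)⟩
    rw [← hsq.isoPullback_hom_snd, Agent.MorLib.UnrLocus.loc_comp_left, Agent.MorLib.UnrLocus.loc_pullback,
      ← Scheme.Hom.comp_apply, hsq.isoPullback_hom_fst] at h
    convert h using 1
    exact W.ι.isOpenEmbedding.injective (by
      rw [← Scheme.Hom.comp_apply (π.fiberι s ∣_ W) W.ι, morphismRestrict_ι]
      exact ha.symm)
  obtain ⟨O, hxO, hO⟩ := hloc
  obtain ⟨U, hsU, hUW⟩ := shrink (W.ι ''ᵁ O) ⟨_, hxO, rfl⟩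
  have hUW' : π ⁻¹ᵁ U ≤ W := fun y hy => by
    obtain ⟨z, -, rfl⟩ := hUW hy
    exact z.2
  haveI : FormallyUnramified ((W.ι ''ᵁ O).ι ≫ π) := by
    rw [← Scheme.Hom.isoImage_inv_ι_assoc (f := W.ι) (U := O)]
    exact MorphismProperty.comp_mem @FormallyUnramified _ _ inferInstance hO
  haveI : FormallyUnramified (π ∣_ U) := by
    haveI : FormallyUnramified ((π ∣_ U) ≫ U.ι) := by
      rw [morphismRestrict_ι, ← Scheme.homOfLE_ι X hUW, Category.assoc]
      exact MorphismProperty.comp_mem @FormallyUnramified _ _ inferInstance ‹_›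
    exact FormallyUnramified.of_comp (π ∣_ U) U.ι
  haveI : LocallyOfFiniteType (π ∣_ U) := by
    haveI : LocallyOfFiniteType ((π ∣_ U) ≫ U.ι) := by
      rw [morphismRestrict_ι, ← Scheme.homOfLE_ι X hUW', Category.assoc]
      infer_instance
    exact locallyOfFiniteType_of_comp _ U.ι
  let e : U.toScheme ⟶ (π ⁻¹ᵁ U).toScheme := ε.resLE (π ⁻¹ᵁ U) U fun t ht => by
    show π (ε t) ∈ U
    rw [hεs]; exact ht
  have he : e ≫ (π ∣_ U) = 𝟙 _ := by
    rw [← cancel_mono U.ι, Category.assoc, morphismRestrict_ι, Scheme.Hom.resLE_comp_ι_assoc, hε]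
    simp
  haveI : IsIso (e ≫ (π ∣_ U)) := by rw [he]; infer_instance
  haveI : Etale e := Etale.of_comp e (π ∣_ U)
  haveI : Mono e := mono_of_mono e (π ∣_ U)
  haveI : IsOpenImmersion e := IsOpenImmersion.of_flat_of_mono e
  obtain ⟨U', hsU', hU'⟩ := shrink ((π ⁻¹ᵁ U).ι ''ᵁ e.opensRange) ⟨e ⟨s, hsU⟩, ⟨_, rfl⟩,
    Scheme.Hom.coe_resLE_apply ε _ _⟩
  refine ⟨U ⊓ U', ⟨hsU, hsU'⟩, ?_⟩
  haveI : IsOpenImmersion (π ∣_ (U ⊓ U')) := by
    -- every point over the smaller open lies on the section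
    let j := X.homOfLE (show π ⁻¹ᵁ (U ⊓ U') ≤ π ⁻¹ᵁ U from fun y hy => hy.1)
    have hj : Set.range j ⊆ Set.range e := by
      rintro _ ⟨y, rfl⟩
      obtain ⟨z, hz, hzy⟩ := hU' y.2.2
      have h1 : (π ⁻¹ᵁ U).ι (j y) = z.1 := by
        refine Eq.trans ?_ hzy.symm
        show (π ⁻¹ᵁ U).ι ((X.homOfLE _) y) = (π ⁻¹ᵁ (U ⊓ U')).ι y
        rw [← Scheme.Hom.comp_apply, Scheme.homOfLE_ι]
      exact ((π ⁻¹ᵁ U).ι.isOpenEmbedding.injective h1) ▸ hz
    let l := IsOpenImmersion.lift e j hj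
    have hl : l ≫ U.ι = π ∣_ (U ⊓ U') ≫ (U ⊓ U').ι := by
      have h1 : l = j ≫ (π ∣_ U) := by
        rw [← IsOpenImmersion.lift_fac e j hj, Category.assoc, he, Category.comp_id]
      rw [h1, Category.assoc, morphismRestrict_ι, morphismRestrict_ι, Scheme.homOfLE_ι_assoc]
    haveI : IsOpenImmersion (l ≫ e) := by rw [IsOpenImmersion.lift_fac]; infer_instance
    haveI : IsOpenImmersion l := IsOpenImmersion.of_comp l e
    haveI : IsOpenImmersion (π ∣_ (U ⊓ U') ≫ (U ⊓ U').ι) := by rw [← hl]; infer_instance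
    exact IsOpenImmersion.of_comp _ (U ⊓ U').ι
  haveI : Epi (π ∣_ (U ⊓ U')).base := (TopCat.epi_iff_surjective _).mpr fun ⟨t, ht⟩ => by
    refine ⟨⟨ε t, show π (ε t) ∈ U ⊓ U' by rw [hεs]; exact ht⟩, Subtype.ext ?_⟩
    show ((π ∣_ (U ⊓ U')) _).1 = t
    rw [morphismRestrict_base]
    exact hεs t
  exact IsOpenImmersion.isIso _

end Groth.Agent.S5321
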