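import Groth.Statements.S5322
import Groth.Agent.GrpSchLib.Neutral

set_option autoImplicit false
universe u
open CategoryTheory CategoryTheory.Limits MonoidalCategory CartesianMonoidalCategory MonObj GrpObj AlgebraicGeometry
open SGA3

namespace Groth.Agent.S5322

/-- Let G be an S-group scheme and f : S' → S a morphism. Then the subset of G ×_S S' formed by the
neutral components of its fibres over S' is the inverse image, under the first projection G ×_S S' →
G, of the subset of G formed by the neutral components of the fibres G_s: the formation of the
neutral component commutes with base change. -/
theorem result (S S' : Scheme.{u}) (f : S' ⟶ S) (G : Over S) [GrpObj G] :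
    SGA3x.neutralSet (Red.bc f G) = (pullback.fst G.hom f).base ⁻¹' SGA3x.neutralSet G := by
  exact Groth.Agent.GrpSchLib.Neutral.neutralSet_bc G f

end Groth.Agent.S5322
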