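import Groth.Statements.S5323
import Groth.Agent.GrpSchLib.Neutral

set_option autoImplicit false
universe u
open CategoryTheory CategoryTheory.Limits MonoidalCategory CartesianMonoidalCategory MonObj GrpObj AlgebraicGeometry
open SGA3

namespace Groth.Agent.S5323

/-- Let S be a quasi-compact quasi-separated scheme and G an S-group scheme whose fibres G_s are locally
of finite type over κ(s). Then there is a quasi-compact open subset of G containing the union of the
neutral components of the fibres G_s. -/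
theorem result (S : Scheme.{u}) [CompactSpace S] [QuasiSeparatedSpace S]
    (G : Over S) [GrpObj G] (hG : ∀ s : S, LocallyOfFiniteType (G.hom.fiberToSpecResidueField s)) :
    ∃ U : G.left.Opens, IsCompact (U : Set G.left) ∧ SGA3x.neutralSet G ⊆ U := by
  choose V C hsV hV hC hCV hNC using Groth.Agent.GrpSchLib.Neutral.exists_compact G
  obtain ⟨t, ht⟩ := isCompact_univ.elim_finite_subcover (fun s => (V s : Set S)) (fun s => (V s).isOpen)
    fun s _ => Set.mem_iUnion.mpr ⟨s, hsV s⟩
  have hK : IsCompact (⋃ s ∈ t, C s) := t.isCompact_biUnion fun s _ => hC s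
  obtain ⟨W, hW, hWcov⟩ : ∃ W : G.left → G.left.Opens, (∀ x, IsAffineOpen (W x)) ∧ ∀ x, x ∈ W x := by
    choose W hW hxW _ using fun x : G.left =>
      exists_isAffineOpen_mem_and_subset (show x ∈ (⊤ : G.left.Opens) from trivial)
    exact ⟨W, hW, hxW⟩
  obtain ⟨r, hr⟩ := hK.elim_finite_subcover (fun x => (W x : Set G.left)) (fun x => (W x).isOpen)
    fun x _ => Set.mem_iUnion.mpr ⟨x, hWcov x⟩
  refine ⟨⨆ x ∈ r, W x, ?_, fun x hx => ?_⟩
  · simp only [TopologicalSpace.Opens.coe_iSup]
    exact r.isCompact_biUnion fun x _ => (hW x).isCompact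
  · obtain ⟨s, hs, hxs⟩ := Set.mem_iUnion₂.mp (ht (Set.mem_univ (G.hom x)))
    have hxW := hr (Set.mem_iUnion₂.mpr ⟨s, hs, hNC s ⟨hx, hxs⟩⟩)
    simpa [TopologicalSpace.Opens.coe_iSup] using hxW

end Groth.Agent.S5323
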