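import Groth.Statements.S5324
import Groth.Agent.GrpSchLib.Neutral

set_option autoImplicit false
universe u
open CategoryTheory CategoryTheory.Limits MonoidalCategory CartesianMonoidalCategory MonObj GrpObj AlgebraicGeometry
open SGA3

namespace Groth.Agent.S5324

/-- Let G be an S-group scheme whose fibres G_s are locally of finite type over κ(s) and connected. Then
G is quasi-compact over S. -/
theorem result (S : Scheme.{u}) (G : Over S) [GrpObj G]
    (hG : ∀ s : S, LocallyOfFiniteType (G.hom.fiberToSpecResidueField s))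
    (hconn : ∀ s : S, _root_.IsConnected (G.hom.base ⁻¹' {s})) : QuasiCompact G.hom := by
  choose V C hsV hV hC hCV hNC using Groth.Agent.GrpSchLib.Neutral.exists_compact G
  have huniv := Groth.Agent.GrpSchLib.Neutral.neutralSet_eq_univ G fun s => (hconn s).isPreconnected
  refine IsZariskiLocalAtTarget.of_iSup_eq_top (P := @QuasiCompact) V
    (eq_top_iff.mpr fun s _ => TopologicalSpace.Opens.mem_iSup.mpr ⟨s, hsV s⟩) fun s => ?_
  haveI : IsAffine (V s : Scheme.{u}) := hV s
  have hc : IsCompact ((G.hom ⁻¹ᵁ V s : G.left.Opens) : Set G.left) := by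
    have h : (G.hom.base ⁻¹' (V s : Set S)) = C s :=
      subset_antisymm (fun x hx => hNC s ⟨huniv.symm ▸ trivial, hx⟩) (hCV s)
    show IsCompact (G.hom.base ⁻¹' (V s : Set S))
    rw [h]
    exact hC s
  exact (HasAffineProperty.iff_of_isAffine (P := @QuasiCompact) (f := G.hom ∣_ V s)).mpr
    (isCompact_iff_compactSpace.mp hc)

end Groth.Agent.S5324
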