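import Groth.Statements.S5329
import Groth.Agent.GrpSchLib.FibreDimGrp

set_option autoImplicit false
universe u
open CategoryTheory CategoryTheory.Limits MonoidalCategory CartesianMonoidalCategory MonObj GrpObj AlgebraicGeometry
open SGA3

namespace Groth.Agent.S5329

/-- Let G be an S-group scheme locally of finite type over S. Then (i) s ↦ dim G_s is upper
semicontinuous on S; (ii) if G is locally of finite presentation over S, this function is locally
constructible: every point of S has an open neighbourhood V on which it takes finitely many values
and on which each of its level sets is constructible. (The published statement is for an S-scheme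
locally of finite type with a section ε such that dim G_s = dim_{ε(s)} G_s for all s; this row takes
the case of a group scheme, where that condition holds.) -/
theorem result (S : Scheme.{u}) (G : Over S) [GrpObj G] [LocallyOfFiniteType G.hom] :
    UpperSemicontinuous (fun s : S => topologicalKrullDim ↥(G.hom.base ⁻¹' {s})) ∧
    (LocallyOfFinitePresentation G.hom → ∀ s : S, ∃ V : S.Opens, s ∈ V ∧
      ((fun t : S => topologicalKrullDim ↥(G.hom.base ⁻¹' {t})) '' (V : Set S)).Finite ∧
      ∀ d : WithBot ℕ∞, Topology.IsConstructible {t : V | topologicalKrullDim ↥(G.hom.base ⁻¹' {(t : S)}) = d}) := by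
  exact ⟨Groth.Agent.GrpSchLib.FibreDimGrp.upperSemicontinuous G, fun _ s => Groth.Agent.GrpSchLib.FibreDimGrp.locallyConstructible G s⟩

end Groth.Agent.S5329
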