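import Groth.Statements.S5333
import Groth.Agent.H23.RedSub

set_option autoImplicit false
universe u
open CategoryTheory CategoryTheory.Limits MonoidalCategory CartesianMonoidalCategory MonObj GrpObj AlgebraicGeometry
open SGA3

namespace Groth.Agent.S5333

/-- (i) ⟺ (iii) ⟺ (iv'): let f : X → S be a morphism of schemes. Then X is separated over S if and only
if for every reduced scheme T and every two morphisms T → X with the same composite to S which agree
on a dense open subscheme of T are equal; and X is separated over S if and only if every two points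
of X in the same fibre over S lie in a common open subscheme of X which is separated over S. -/
theorem result (X S : Scheme.{u}) (f : X ⟶ S) :
    (IsSeparated f ↔ ∀ (T : Scheme.{u}) [IsReduced T] (g₁ g₂ : T ⟶ X) (U : T.Opens), g₁ ≫ f = g₂ ≫ f →
      Dense (U : Set T) → U.ι ≫ g₁ = U.ι ≫ g₂ → g₁ = g₂) ∧
    (IsSeparated f ↔ ∀ x₁ x₂ : X, f.base x₁ = f.base x₂ →
      ∃ V : X.Opens, x₁ ∈ V ∧ x₂ ∈ V ∧ IsSeparated (V.ι ≫ f)) := by
  constructor
  · refine ⟨fun _ T _ g₁ g₂ U e hU eU => ?_, fun H => ?_⟩
    · have : IsDominant U.ι := ⟨by rw [DenseRange, Scheme.Opens.range_ι]; exact hU⟩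
      exact ext_of_isDominant_of_isSeparated f e U.ι eU
    · refine (isSeparated_iff f).mpr (IsClosedImmersion.of_isPreimmersion _ ?_)
      let Δ := pullback.diagonal f
      let Z : TopologicalSpace.Closeds ↥(pullback.diagonalObj f) := ⟨closure (Set.range Δ.base), isClosed_closure⟩
      let T := (Scheme.IdealSheafData.vanishingIdeal Z).subscheme
      let j : T ⟶ pullback.diagonalObj f := (Scheme.IdealSheafData.vanishingIdeal Z).subschemeι
      let U : T.Opens := j ⁻¹ᵁ Δ.coborderRange
      have hj : Set.range j.base = closure (Set.range Δ.base) := H23.RedSub.range_vanishingIdeal Z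
      have hUd : Dense (U : Set T) := fun t => by
        rw [j.isClosedEmbedding.isEmbedding.isInducing.closure_eq_preimage_closure_image, Set.mem_preimage]
        refine closure_mono (fun y hy => ?_) (hj ▸ Set.mem_range_self t)
        have hy' : y ∈ Set.range j.base := hj ▸ subset_closure hy
        obtain ⟨t', ht'⟩ := hy'
        exact ⟨t', show j.base t' ∈ (Δ.coborderRange : Set _) from ht' ▸ subset_coborder hy, ht'⟩
      have hUr : Set.range (U.ι ≫ j).base ⊆ Set.range Δ.base := by
        rintro _ ⟨v, rfl⟩
        have h1 : (U.ι ≫ j).base v ∈ coborder (Set.range Δ.base) := v.2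
        have h2 : (U.ι ≫ j).base v ∈ closure (Set.range Δ.base) := hj ▸ ⟨U.ι.base v, rfl⟩
        by_contra h3
        exact h1 ⟨h2, h3⟩
      obtain ⟨w, hw⟩ := H23.RedSub.exists_lift (U.ι ≫ j) Δ hUr
      have heq : j ≫ pullback.fst f f = j ≫ pullback.snd f f := by
        refine H T _ _ U (by simp [pullback.condition]) hUd ?_
        rw [← Category.assoc, ← hw, Category.assoc, pullback.diagonal_fst, ← Category.assoc, ← hw, Category.assoc,
          pullback.diagonal_snd]
      have hfac : (j ≫ pullback.fst f f) ≫ Δ = j := by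
        apply pullback.hom_ext
        · simp [Δ]
        · simp [Δ, heq]
      have : closure (Set.range Δ.base) ⊆ Set.range Δ.base := by
        rw [← hj, ← hfac]
        rintro _ ⟨t, rfl⟩
        exact ⟨(j ≫ pullback.fst f f).base t, rfl⟩
      exact isClosed_of_closure_subset this
  · refine ⟨fun h x₁ x₂ _ => ⟨⊤, trivial, trivial, inferInstance⟩, fun H => ?_⟩
    refine (isSeparated_iff f).mpr (IsClosedImmersion.of_isPreimmersion _ (isClosed_of_closure_subset fun p hp => ?_))
    obtain ⟨V, h1, h2, hV⟩ := H ((pullback.fst f f).base p) ((pullback.snd f f).base p) (by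
      rw [← Scheme.Hom.comp_apply, pullback.condition, Scheme.Hom.comp_apply])
    let i : pullback.diagonalObj (V.ι ≫ f) ⟶ pullback.diagonalObj f :=
      pullback.map (V.ι ≫ f) (V.ι ≫ f) f f V.ι V.ι (𝟙 S) (by simp) (by simp)
    have hi : IsOpenImmersion i := inferInstance
    have hrange : Set.range i.base = (pullback.fst f f).base ⁻¹' (V : Set X) ∩ (pullback.snd f f).base ⁻¹' (V : Set X) := by
      rw [Scheme.Pullback.range_map, Scheme.Opens.range_ι]
    have hpi : p ∈ Set.range i.base := hrange ▸ ⟨h1, h2⟩
    obtain ⟨q, rfl⟩ := hpi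
    have hc : IsClosed (Set.range (pullback.diagonal (V.ι ≫ f)).base) :=
      ((isSeparated_iff _).mp hV).isClosedEmbedding.isClosed_range
    have hq : q ∈ closure (i.base ⁻¹' Set.range (pullback.diagonal f).base) := by
      rw [← i.isOpenEmbedding.isOpenMap.preimage_closure_eq_closure_preimage i.continuous]
      exact hp
    have hΔi : pullback.diagonal (V.ι ≫ f) ≫ i = V.ι ≫ pullback.diagonal f := by
      apply pullback.hom_ext
      · rw [Category.assoc, Category.assoc, pullback.lift_fst, pullback.diagonal_fst_assoc, pullback.diagonal_fst, Category.comp_id]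
      · rw [Category.assoc, Category.assoc, pullback.lift_snd, pullback.diagonal_snd_assoc, pullback.diagonal_snd, Category.comp_id]
    have hsub : i.base ⁻¹' Set.range (pullback.diagonal f).base ⊆ Set.range (pullback.diagonal (V.ι ≫ f)).base := by
      rintro r ⟨x, hx⟩
      have hxV : x ∈ V := by
        have h' : i.base r ∈ Set.range i.base := ⟨r, rfl⟩
        rw [hrange, ← hx] at h'
        have := h'.1
        rwa [Set.mem_preimage, ← Scheme.Hom.comp_apply, pullback.diagonal_fst] at this
      refine ⟨⟨x, hxV⟩, i.isOpenEmbedding.injective ?_⟩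
      rw [← hx, ← Scheme.Hom.comp_apply, hΔi, Scheme.Hom.comp_apply]
      rfl
    obtain ⟨v, hv⟩ := (closure_minimal hsub hc) hq
    refine ⟨V.ι.base v, ?_⟩
    rw [← hv, ← Scheme.Hom.comp_apply, ← Scheme.Hom.comp_apply, hΔi]

end Groth.Agent.S5333
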