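import Groth.Statements.S5334
import Groth.Agent.GeomIrrSpread.NeutralTranslate
-- import your own Groth.Agent.* helpers here

set_option autoImplicit false
universe u
open CategoryTheory CategoryTheory.Limits MonoidalCategory CartesianMonoidalCategory MonObj GrpObj AlgebraicGeometry
open SGA3

namespace Groth.Agent.S5334

/-- Let G be an S-group scheme locally of finite presentation over S such that s ↦ dim G_s is locally
constant on S, acting on an S-scheme X, and let U be an open subscheme of X separated over S. Let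
G⁰·U be the image under the action G ×_S X → X of the set of points whose projection to G lies in
the union G⁰ of the neutral components of the fibres and whose projection to X lies in U. Then G⁰·U
is open in X and the open subscheme it carries is separated over S. -/
theorem result (S : Scheme.{u}) (G X : Over S) [GrpObj G]
    [LocallyOfFinitePresentation G.hom]
    (hdim : IsLocallyConstant (fun s : S => topologicalKrullDim ↥(G.hom.base ⁻¹' {s})))
    (a : AlgGrp.Action G X) (U : X.left.Opens) (hU : IsSeparated (U.ι ≫ X.hom)) :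
    ∃ V : X.left.Opens, (V : Set X.left) =
        a.act.left.base '' {z : ↥(G ⊗ X).left | (fst G X).left.base z ∈ SGA3x.neutralSet G ∧ (snd G X).left.base z ∈ U} ∧
      IsSeparated (V.ι ≫ X.hom) := by
  haveI := hU
  let V : X.left.Opens := ⟨GeomIrrSpread.translate a U, GeomIrrSpread.isOpen_translate a U hdim⟩
  refine ⟨V, rfl, ?_⟩
  rw [isSeparated_iff]
  haveI : IsPreimmersion (pullback.diagonal (V.ι ≫ X.hom)) := inferInstance
  refine IsClosedImmersion.of_isPreimmersion _ ?_
  let m : pullback (V.ι ≫ X.hom) (V.ι ≫ X.hom) ⟶ (X ⊗ X).left :=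
    pullback.map (V.ι ≫ X.hom) (V.ι ≫ X.hom) X.hom X.hom V.ι V.ι (𝟙 S) (by simp) (by simp)
  haveI : IsOpenImmersion m := by dsimp [m]; infer_instance
  have hm1 : m ≫ (fst X X).left = pullback.fst _ _ ≫ V.ι := pullback.lift_fst _ _ _
  have hm2 : m ≫ (snd X X).left = pullback.snd _ _ ≫ V.ι := pullback.lift_snd _ _ _
  have hd : pullback.diagonal (V.ι ≫ X.hom) ≫ m = V.ι ≫ (lift (𝟙 X) (𝟙 X)).left := by
    refine pullback.hom_ext ?_ ?_
    · change _ ≫ (fst X X).left = _ ≫ (fst X X).left
      rw [Category.assoc, hm1, Category.assoc, ← Over.comp_left, lift_fst]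
      exact (pullback.diagonal_fst_assoc _ _).trans (Category.comp_id _).symm
    · change _ ≫ (snd X X).left = _ ≫ (snd X X).left
      rw [Category.assoc, hm2, Category.assoc, ← Over.comp_left, lift_snd]
      exact (pullback.diagonal_snd_assoc _ _).trans (Category.comp_id _).symm
  rw [← closure_subset_iff_isClosed]
  intro u hu
  have h1 : (fst X X).left (m u) ∈ V := by
    rw [← Scheme.Hom.comp_apply, hm1]
    exact (pullback.fst (V.ι ≫ X.hom) (V.ι ≫ X.hom) u : V).2
  have h2 : (snd X X).left (m u) ∈ V := by
    rw [← Scheme.Hom.comp_apply, hm2]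
    exact (pullback.snd (V.ι ≫ X.hom) (V.ι ≫ X.hom) u : V).2
  have hz : m u ∈ closure (Set.range (lift (𝟙 X) (𝟙 X)).left) := by
    refine map_mem_closure m.continuous hu ?_
    rintro _ ⟨b, rfl⟩
    exact ⟨V.ι b, by rw [← Scheme.Hom.comp_apply, ← hd]; rfl⟩
  obtain ⟨b, hb⟩ := GeomIrrSpread.mem_range_diag_of_translate a U hdim hz h1 h2
  have hbV : b ∈ V := by
    have h3 := h1
    rwa [← hb, ← GrpSchLib.left_comp_apply, lift_fst] at h3
  refine ⟨⟨b, hbV⟩, m.isOpenEmbedding.injective ?_⟩
  rw [← hb, ← Scheme.Hom.comp_apply, hd]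
  rfl

end Groth.Agent.S5334
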