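import Groth.Statements.S5335
import Groth.Agent.GrpPtsLib.DenseMul

set_option autoImplicit false
universe u
open CategoryTheory CategoryTheory.Limits MonoidalCategory CartesianMonoidalCategory MonObj GrpObj AlgebraicGeometry
open SGA3

namespace Groth.Agent.S5335

/-- Every morphism to the spectrum of an artinian local ring is universally open. -/
theorem universallyOpen_of_artinian (A : Type u) [CommRing A] [IsArtinianRing A] [IsLocalRing A]
    {Z : Scheme.{u}} (g : Z ⟶ Spec (CommRingCat.of A)) : UniversallyOpen g := by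
  let K := IsLocalRing.ResidueField A
  let q := Spec.map (CommRingCat.ofHom (IsLocalRing.residue A))
  have hq1 : IsClosedImmersion q := IsClosedImmersion.spec_of_surjective _ Ideal.Quotient.mk_surjective
  have hq2 : Surjective q := ⟨fun x => ⟨IsLocalRing.closedPoint K, by
    haveI : Subsingleton (PrimeSpectrum A) := ⟨fun a b => PrimeSpectrum.ext
      ((IsLocalRing.eq_maximalIdeal (IsArtinianRing.isMaximal_of_isPrime a.asIdeal)).trans
        (IsLocalRing.eq_maximalIdeal (IsArtinianRing.isMaximal_of_isPrime b.asIdeal)).symm)⟩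
    exact Subsingleton.elim (α := PrimeSpectrum A) _ _⟩⟩
  have := Groth.Agent.GrpPtsLib.universallyOpen_of_surjective_closedImmersion q
  have : Subsingleton (Spec (CommRingCat.of K)) := inferInstanceAs (Subsingleton (PrimeSpectrum K))
  have : UniversallyOpen (pullback.fst g q ≫ g) := by
    rw [pullback.condition]; infer_instance
  refine ⟨fun Z' T i₁ i₂ g' H => ?_⟩
  intro U hU
  have H' := (IsPullback.of_hasPullback i₁ (pullback.fst g q)).flip.paste_vert H.flip
  have ho : IsOpenMap (pullback.fst i₁ (pullback.fst g q) ≫ g' : _ ⟶ T) :=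
    UniversallyOpen.out _ _ _ H'.flip
  have hs : Function.Surjective (pullback.fst i₁ (pullback.fst g q)) := (pullback.fst i₁ (pullback.fst g q)).surjective
  have := ho ((pullback.fst i₁ (pullback.fst g q)) ⁻¹' U) (hU.preimage (Scheme.Hom.continuous _))
  rwa [Scheme.Hom.comp_base, TopCat.coe_comp, Set.image_comp, Set.image_preimage_eq _ hs] at this

/-- Let A be a local artinian ring and f : X' → X, g : Y' → Y two quasi-compact dominant morphisms of
schemes over A. Then the product morphism f ×_A g : X' ×_A Y' → X ×_A Y is dominant (and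
quasi-compact). -/
theorem result (A : Type u) [CommRing A] [IsArtinianRing A] [IsLocalRing A] (X X' Y Y' : Over (Spec (CommRingCat.of A)))
    (f : X' ⟶ X) (g : Y' ⟶ Y) [QuasiCompact f.left] [QuasiCompact g.left]
    (hf : DenseRange f.left.base) (hg : DenseRange g.left.base) :
    DenseRange (f ⊗ₘ g).left.base ∧ QuasiCompact (f ⊗ₘ g).left := by
  have huo : ∀ Z : Over (Spec (CommRingCat.of A)), UniversallyOpen Z.hom := fun Z =>
    universallyOpen_of_artinian A Z.hom
  have hd : ∀ {P Q R R' : Over (Spec (CommRingCat.of A))} (h : P ⟶ Q) (_ : DenseRange h.left.base)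
      (p : R ⟶ Q) (_ : UniversallyOpen p.left) (p' : R' ⟶ P) (h' : R' ⟶ R),
      CategoryTheory.IsPullback h'.left p'.left p.left h.left → DenseRange h'.left.base := by
    intro P Q R R' h hh p hp p' h' H
    refine dense_iff_inter_open.mpr fun U hU hne => ?_
    obtain ⟨y, ⟨z, hzU, rfl⟩, x, hx⟩ :=
      dense_iff_inter_open.mp hh _ (p.left.isOpenMap U hU) (hne.image _)
    obtain ⟨w, hw1, -⟩ := Scheme.exists_preimage_of_isPullback H z x hx.symm
    exact ⟨h'.left w, hw1 ▸ hzU, w, rfl⟩
  have h1 : CategoryTheory.IsPullback (X ◁ g).left (snd X Y').left (snd X Y).left g.left := by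
    have t0 : CategoryTheory.IsPullback (snd X Y).left (fst X Y).left Y.hom X.hom :=
      (IsPullback.of_hasPullback X.hom Y.hom).flip
    have s0 : CategoryTheory.IsPullback (snd X Y').left ((X ◁ g).left ≫ (fst X Y).left) (g.left ≫ Y.hom) X.hom := by
      rw [Over.w g, ← Over.comp_left, whiskerLeft_fst]
      exact (IsPullback.of_hasPullback X.hom Y'.hom).flip
    exact (IsPullback.of_bot s0 (by rw [← Over.comp_left, ← Over.comp_left, whiskerLeft_snd]) t0).flip
  have h2 : CategoryTheory.IsPullback (f ▷ Y').left (fst X' Y').left (fst X Y').left f.left := by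
    have t0 : CategoryTheory.IsPullback (fst X Y').left (snd X Y').left X.hom Y'.hom :=
      IsPullback.of_hasPullback X.hom Y'.hom
    have s0 : CategoryTheory.IsPullback (fst X' Y').left ((f ▷ Y').left ≫ (snd X Y').left) (f.left ≫ X.hom) Y'.hom := by
      rw [Over.w f, ← Over.comp_left, whiskerRight_snd]
      exact IsPullback.of_hasPullback X'.hom Y'.hom
    exact (IsPullback.of_bot s0 (by rw [← Over.comp_left, ← Over.comp_left, whiskerRight_fst]) t0).flip
  have d1 := hd g hg (snd X Y) (by
    have := huo X; exact inferInstanceAs (UniversallyOpen (pullback.snd X.hom Y.hom))) (snd X Y') (X ◁ g) h1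
  have d2 := hd f hf (fst X Y') (by
    have := huo Y'; exact inferInstanceAs (UniversallyOpen (pullback.fst X.hom Y'.hom))) (fst X' Y') (f ▷ Y') h2
  have q1 : QuasiCompact (X ◁ g).left :=
    MorphismProperty.of_isPullback (P := @QuasiCompact) h1.flip ‹QuasiCompact g.left›
  have q2 : QuasiCompact (f ▷ Y').left :=
    MorphismProperty.of_isPullback (P := @QuasiCompact) h2.flip ‹QuasiCompact f.left›
  have e : (f ⊗ₘ g).left = (f ▷ Y').left ≫ (X ◁ g).left := by
    rw [MonoidalCategory.tensorHom_def, Over.comp_left]
  rw [e]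
  exact ⟨d1.comp d2 (X ◁ g).left.continuous, inferInstance⟩

end Groth.Agent.S5335
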