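import Groth.Statements.S5340
import Groth.Agent.GrpSchLib.LftArtin
-- import your own Groth.Agent.* helpers here

set_option autoImplicit false
universe u
open CategoryTheory CategoryTheory.Limits MonoidalCategory CartesianMonoidalCategory MonObj GrpObj AlgebraicGeometry
open SGA3

namespace Groth.Agent.S5340

/-- Let A be a local artinian ring and G an A-group scheme. If some nonempty open subscheme of G is of
finite type over A, then G is locally of finite type over A. -/
theorem result (A : Type u) [CommRing A] [IsArtinianRing A] [IsLocalRing A] (G : Over (Spec (CommRingCat.of A))) [GrpObj G]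
    (W : G.left.Opens) (hW : (W : Set G.left).Nonempty) [LocallyOfFiniteType (W.ι ≫ G.hom)] [QuasiCompact (W.ι ≫ G.hom)] :
    LocallyOfFiniteType G.hom := by
  exact Agent.GrpSchLib.LftArtin.locallyOfFiniteType A G W hW inferInstance

end Groth.Agent.S5340
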