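import Groth.Statements.S5343
-- import your own Groth.Agent.* helpers here

set_option autoImplicit false
universe u
open CategoryTheory CategoryTheory.Limits MonoidalCategory CartesianMonoidalCategory MonObj GrpObj AlgebraicGeometry
open SGA3

namespace Groth.Agent.S5343

/-- Let R be a commutative ring and B a commutative R-algebra which is projective as an R-module. Then
the image of Spec B → Spec R is an open and closed subset of Spec R. (The published statement
concerns a quasi-coherent algebra on any scheme which is a direct summand of a free module; this row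
is the affine case.) -/
theorem result (R B : Type u) [CommRing R] [CommRing B] [Algebra R B] [Module.Projective R B] :
    IsClopen (Set.range (PrimeSpectrum.comap (algebraMap R B))) := by
  classical
  obtain ⟨s, hs⟩ := Module.projective_def'.mp ‹Module.Projective R B›
  let I : Ideal R := Ideal.span (((s 1).support.image (s 1)) : Finset R)
  have h1 : (s 1).sum (fun e c => c • e) = 1 := by
    have := LinearMap.congr_fun hs 1
    simpa [Finsupp.linearCombination_apply] using this
  have hB : ∀ b : B, b ∈ I • (⊤ : Submodule R B) := by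
    intro b
    rw [← mul_one b, ← h1, Finsupp.sum, Finset.mul_sum]
    refine Submodule.sum_mem _ fun e he => ?_
    rw [mul_smul_comm]
    exact Submodule.smul_mem_smul (Ideal.subset_span (Finset.mem_coe.mpr (Finset.mem_image_of_mem _ he)))
      Submodule.mem_top
  have hf : ∀ (f : B →ₗ[R] R) (b : B), f b ∈ I := by
    intro f b
    induction hB b using Submodule.smul_induction_on' with
    | smul r hr n _ => rw [map_smul, smul_eq_mul]; exact I.mul_mem_right _ hr
    | add a _ c _ ha hc => rw [map_add]; exact I.add_mem ha hc
  have hidem : IsIdempotentElem I := by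
    refine le_antisymm Ideal.mul_le_left (Ideal.span_le.mpr ?_)
    intro c hc
    obtain ⟨j, _, rfl⟩ := Finset.mem_image.mp (Finset.mem_coe.mp hc)
    rw [SetLike.mem_coe]
    have h2 : (s 1) j = (s 1).sum (fun e c => c * (s e) j) := by
      conv_lhs => rw [← h1]
      rw [Finsupp.sum, Finsupp.sum, map_sum, Finsupp.finsetSum_apply]
      simp
    rw [h2, Finsupp.sum]
    refine Ideal.sum_mem _ fun e he => Ideal.mul_mem_mul
      (Ideal.subset_span (Finset.mem_coe.mpr (Finset.mem_image_of_mem _ he))) ?_
    exact hf ((Finsupp.lapply j).comp s) e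
  obtain ⟨e, he, hIe⟩ := (Ideal.isIdempotentElem_iff_of_fg I ⟨_, rfl⟩).mp hidem
  suffices h : Set.range (PrimeSpectrum.comap (algebraMap R B)) = PrimeSpectrum.basicOpen e by
    rw [h]
    exact PrimeSpectrum.isClopen_iff.mpr ⟨e, he, rfl⟩
  ext p
  rw [SetLike.mem_coe, PrimeSpectrum.mem_basicOpen]
  constructor
  · rintro ⟨q, rfl⟩ hep
    apply q.isPrime.ne_top
    rw [Ideal.eq_top_iff_one]
    have h3 : I • (⊤ : Submodule R B) ≤ q.asIdeal.restrictScalars R := by
      rw [Submodule.smul_le]
      intro r hr b _
      rw [Submodule.restrictScalars_mem, Algebra.smul_def]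
      refine q.asIdeal.mul_mem_right _ ?_
      rw [hIe] at hr
      obtain ⟨u, rfl⟩ := Ideal.mem_span_singleton'.mp hr
      rw [map_mul]
      exact q.asIdeal.mul_mem_left _ hep
    exact h3 (hB 1)
  · intro hep
    have hex : ∃ j, (s 1) j ∉ p.asIdeal := by
      by_contra hcon
      push Not at hcon
      apply hep
      have hIp : I ≤ p.asIdeal := Ideal.span_le.mpr fun c hc => by
        obtain ⟨j, _, rfl⟩ := Finset.mem_image.mp (Finset.mem_coe.mp hc)
        exact hcon j
      exact hIp (hIe ▸ Ideal.mem_span_singleton_self e)
    obtain ⟨j, hj⟩ := hex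
    have h4 : ∀ x : R, algebraMap R B x ∈ p.asIdeal.map (algebraMap R B) → x ∈ p.asIdeal := by
      intro x hx
      have hx' : algebraMap R B x ∈ (p.asIdeal.map (algebraMap R B)).restrictScalars R := hx
      rw [← Ideal.smul_top_eq_map] at hx'
      have h5 : ∀ b ∈ p.asIdeal • (⊤ : Submodule R B), (s b) j ∈ p.asIdeal := by
        intro b hb
        induction hb using Submodule.smul_induction_on' with
        | smul r hr n _ => rw [map_smul, Finsupp.smul_apply, smul_eq_mul]; exact p.asIdeal.mul_mem_right _ hr
        | add a _ c _ ha hc => rw [map_add, Finsupp.add_apply]; exact p.asIdeal.add_mem ha hc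
      have h6 := h5 _ hx'
      rw [Algebra.algebraMap_eq_smul_one, map_smul, Finsupp.smul_apply, smul_eq_mul] at h6
      exact (p.isPrime.mem_or_mem h6).resolve_right hj
    obtain ⟨q, hq, hqp⟩ := (Ideal.comap_map_eq_self_iff_of_isPrime p.asIdeal).mp
      (le_antisymm (fun x hx => h4 x hx) Ideal.le_comap_map)
    exact ⟨⟨q, hq⟩, PrimeSpectrum.ext hqp⟩


end Groth.Agent.S5343
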