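import Groth.Statements.S5344
import Groth.Agent.GrpSchLib.ArtinTop

set_option autoImplicit false
universe u
open CategoryTheory CategoryTheory.Limits MonoidalCategory CartesianMonoidalCategory MonObj GrpObj AlgebraicGeometry
open SGA3

namespace Groth.Agent.S5344

/-- Let A be a local artinian ring and G an A-group scheme locally of finite type, and let G⁰ be the
connected component of the unit point. Then G⁰ is open in G; it is stable under the group law: for
every A-scheme T and all points g, h : T → G whose images lie in G⁰, the image of g h⁻¹ lies in G⁰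
(so G⁰ carries an open subgroup scheme, the neutral component); and it is normal: for every A-scheme
T, every point g : T → G and every point n : T → G whose image lies in G⁰, the image of g n g⁻¹ lies
in G⁰. -/
theorem result (A : Type u) [CommRing A] [IsArtinianRing A] [IsLocalRing A] (G : Over (Spec (CommRingCat.of A))) [GrpObj G] [LocallyOfFiniteType G.hom]
    (pt : ↥(𝟙_ (Over (Spec (CommRingCat.of A)))).left) :
    IsOpen (connectedComponent (η[G].left.base pt)) ∧
    (∀ (T : Over (Spec (CommRingCat.of A))) (g h : T ⟶ G), Set.range g.left.base ⊆ connectedComponent (η[G].left.base pt) →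
      Set.range h.left.base ⊆ connectedComponent (η[G].left.base pt) →
      Set.range (g * h⁻¹).left.base ⊆ connectedComponent (η[G].left.base pt)) ∧
    ∀ (T : Over (Spec (CommRingCat.of A))) (g n : T ⟶ G), Set.range n.left.base ⊆ connectedComponent (η[G].left.base pt) →
      Set.range (g * n * g⁻¹).left.base ⊆ connectedComponent (η[G].left.base pt) := by
  haveI : IsLocallyNoetherian (Groth.Agent.GrpSchLib.clFib G).left := by
    haveI : LocallyOfFiniteType (Groth.Agent.GrpSchLib.clFib G).hom :=
      inferInstanceAs (LocallyOfFiniteType (pullback.snd G.hom _))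
    exact LocallyOfFiniteType.isLocallyNoetherian (Groth.Agent.GrpSchLib.clFib G).hom
  obtain ⟨c, hc, hce⟩ := Groth.Agent.GrpSchLib.exists_isMaxPt
    (η[Groth.Agent.GrpSchLib.clFib G].left (IsLocalRing.closedPoint (IsLocalRing.ResidueField A)))
  have hC := Groth.Agent.GrpSchLib.connectedComponent_one hc hce
  have hcomp : connectedComponent (η[G].left.base pt) =
      Groth.Agent.GrpSchLib.clHomeo G '' closure {c} := by
    rw [← hC, Groth.Agent.GrpSchLib.image_connectedComponent, Groth.Agent.GrpSchLib.clHomeo_one G pt]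
  rw [hcomp]
  have key : ∀ (T : Over (Spec (CommRingCat.of A))) (g : T ⟶ G)
      (_ : Set.range g.left.base ⊆ Groth.Agent.GrpSchLib.clHomeo G '' closure {c})
      (t : (Groth.Agent.GrpSchLib.clFib T).left),
      ((Over.pullback (Groth.Agent.GrpSchLib.clPt A)).map g).left t ∈ closure {c} := by
    intro T g hg t
    obtain ⟨y, hy, hye⟩ := hg ⟨Groth.Agent.GrpSchLib.clHomeo T t, rfl⟩
    rw [← Groth.Agent.GrpSchLib.map_clFib_apply] at hye
    exact (Groth.Agent.GrpSchLib.clHomeo G).injective hye ▸ hy
  refine ⟨?_, fun T g h hg hh => ?_, fun T g n hn => ?_⟩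
  · rw [← hC]
    exact (Groth.Agent.GrpSchLib.clHomeo G).isOpenMap _
      (Groth.Agent.GrpSchLib.isOpen_connectedComponent _)
  · rintro _ ⟨t, rfl⟩
    obtain ⟨t, rfl⟩ := (Groth.Agent.GrpSchLib.clHomeo T).surjective t
    refine ⟨_, ?_, Groth.Agent.GrpSchLib.map_clFib_apply G (g * h⁻¹) t⟩
    let F := Over.pullback (Groth.Agent.GrpSchLib.clPt A)
    have hmul : F.map (g * h⁻¹) = lift (F.map g) (F.map h ≫ GrpObj.inv) ≫ μ[F.obj G] := by
      rw [Functor.map_mul, Functor.map_inv', Hom.mul_def, Hom.inv_def]
    rw [hmul, Groth.Agent.GrpSchLib.left_comp_apply]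
    refine Groth.Agent.GrpSchLib.mul_mem_closure hc hce ⟨?_, ?_⟩
    · rw [Set.mem_preimage, ← Groth.Agent.GrpSchLib.left_comp_apply, lift_fst]
      exact key T g hg t
    · rw [Set.mem_preimage, ← Groth.Agent.GrpSchLib.left_comp_apply, lift_snd,
        Groth.Agent.GrpSchLib.left_comp_apply]
      exact Groth.Agent.GrpSchLib.inv_mem_closure hc hce (key T h hh t)
  · rintro _ ⟨t, rfl⟩
    obtain ⟨t, rfl⟩ := (Groth.Agent.GrpSchLib.clHomeo T).surjective t
    refine ⟨_, ?_, Groth.Agent.GrpSchLib.map_clFib_apply G (g * n * g⁻¹) t⟩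
    let F := Over.pullback (Groth.Agent.GrpSchLib.clPt A)
    have hmul : F.map (g * n * g⁻¹) = lift (F.map g) (F.map n) ≫
        (fst (F.obj G) (F.obj G) * snd (F.obj G) (F.obj G) * (fst (F.obj G) (F.obj G))⁻¹) := by
      simp [MonObj.comp_mul, GrpObj.comp_inv, Functor.map_mul, Functor.map_inv', F]
    rw [hmul, Groth.Agent.GrpSchLib.left_comp_apply]
    refine Groth.Agent.GrpSchLib.conj_mem_closure hc hce ?_
    rw [← Groth.Agent.GrpSchLib.left_comp_apply, lift_snd]
    exact key T n hn t

end Groth.Agent.S5344
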