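import Groth.Statements.S5345
import Groth.Agent.GrpSchLib.ArtinTop

set_option autoImplicit false
universe u
open CategoryTheory CategoryTheory.Limits MonoidalCategory CartesianMonoidalCategory MonObj GrpObj AlgebraicGeometry
open SGA3

namespace Groth.Agent.S5345

/-- Let A be a local artinian ring and G an A-group scheme locally of finite type. Then every connected
component of G, in particular the connected component of the unit, is quasi-compact (so the open
subscheme it carries is of finite type over A). (The published statement also asserts that the
components are irreducible and of equal dimension; this row states only their quasi-compactness.) -/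
theorem result (A : Type u) [CommRing A] [IsArtinianRing A] [IsLocalRing A] (G : Over (Spec (CommRingCat.of A))) [GrpObj G] [LocallyOfFiniteType G.hom]
    (g : G.left) : IsCompact (connectedComponent g) := by
  obtain ⟨x, rfl⟩ := (Groth.Agent.GrpSchLib.clHomeo G).surjective g
  rw [← Groth.Agent.GrpSchLib.image_connectedComponent]
  exact (Groth.Agent.GrpSchLib.isCompact_connectedComponent x).image
    (Groth.Agent.GrpSchLib.clHomeo G).continuous

end Groth.Agent.S5345
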