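import Groth.Statements.S5347
import Groth.Agent.GrpSchLib.Loci
-- import your own Groth.Agent.* helpers here

set_option autoImplicit false
universe u
open CategoryTheory CategoryTheory.Limits MonoidalCategory CartesianMonoidalCategory MonObj GrpObj AlgebraicGeometry
open SGA3

namespace Groth.Agent.S5347

/-- Let A be a local artinian ring, G a flat A-group scheme (not assumed of finite type), X an A-scheme
with a left action of G and an A-point s₀ of X, and φ : G → X the orbit morphism g ↦ g·s₀. If φ is
flat at some point of G (the local ring of G there is flat over the local ring of X at the image),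
then φ is flat. -/
theorem result (A : Type u) [CommRing A] [IsArtinianRing A] [IsLocalRing A] (G X : Over (Spec (CommRingCat.of A))) [GrpObj G] [Flat G.hom]
    (a : AlgGrp.Action G X) (s₀ : 𝟙_ (Over (Spec (CommRingCat.of A))) ⟶ X)
    (h : ∃ g : G.left, ((a.orbitMap s₀).left.stalkMap g).hom.Flat) : Flat (a.orbitMap s₀).left := by
  obtain ⟨x, hx⟩ := h
  have hpt : Subsingleton ↥(Spec (CommRingCat.of A)) :=
    ⟨fun a b => PrimeSpectrum.ext ((IsLocalRing.eq_maximalIdeal ((IsArtinianRing.isMaximal_of_isPrime a.asIdeal))).trans
      (IsLocalRing.eq_maximalIdeal ((IsArtinianRing.isMaximal_of_isPrime b.asIdeal))).symm)⟩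
  refine Flat.of_stalkMap _ fun y => ?_
  exact Agent.GrpSchLib.Saturate.saturated a (a.orbitMap s₀)
    (Agent.GrpSchLib.Saturate.equivariant_orbit a s₀) Agent.GrpSchLib.Loci.compat_flatLocus
    ‹Flat G.hom› hx (Subsingleton.elim (α := ↥(Spec (CommRingCat.of A))) _ _)

end Groth.Agent.S5347
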