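import Groth.Statements.S5351
import Groth.Agent.AlgSpGrp.HomogProp

set_option autoImplicit false
universe u
open CategoryTheory CategoryTheory.Limits MonoidalCategory CartesianMonoidalCategory MonObj GrpObj AlgebraicGeometry
open SGA3

namespace Groth.Agent.S5351

/-- Let A be a local artinian ring, G an A-group scheme locally of finite type, and u : F → G a
homomorphism which is a closed immersion, with F flat and quasi-compact (hence of finite type) over
A (G is not assumed flat). Then there are an A-scheme X and a morphism p : G → X over A (the
quotient of G by F acting by left translations) such that: X is separated and locally of finite type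
over A; p is surjective, flat and locally of finite presentation; the square formed by (f, g) ↦
u(f)·g, the second projection F ×_A G → G and p (twice) is cartesian; X is flat (resp.
quasi-compact, resp. smooth) over A when G is; and every connected component of X is irreducible and
quasi-compact, of dimension d with d + dim F = dim G. (The published statement asks only that F be a
closed subgroup scheme flat over A, hence locally of finite type; this row also assumes F
quasi-compact over A, the case in which the second projection F ×_A G → G is of finite presentation,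
as the reduction to the residue field used in the proof requires. The published statement also
asserts exactness of F ×_A G ⇉ G → X in the category of all ringed spaces and a right action of G on
X; these are not part of this row.) -/
theorem result (A : Type u) [CommRing A] [IsArtinianRing A] [IsLocalRing A] (F G : Over (Spec (CommRingCat.of A))) [GrpObj F] [GrpObj G]
    [LocallyOfFiniteType G.hom] [Flat F.hom] [QuasiCompact F.hom] (u : F ⟶ G) [IsMonHom u] [IsClosedImmersion u.left] :
    ∃ (X : Over (Spec (CommRingCat.of A))) (p : G ⟶ X),
      IsSeparated X.hom ∧ LocallyOfFiniteType X.hom ∧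
      Surjective p.left ∧ Flat p.left ∧ LocallyOfFinitePresentation p.left ∧
      IsPullback ((u ▷ G) ≫ μ[G]) (snd F G) p p ∧
      (Flat G.hom → Flat X.hom) ∧ (QuasiCompact G.hom → QuasiCompact X.hom) ∧ (Smooth G.hom → Smooth X.hom) ∧
      ∀ x : X.left, IsIrreducible (connectedComponent x) ∧ IsCompact (connectedComponent x) ∧
        topologicalKrullDim ↥(connectedComponent x) + topologicalKrullDim ↥F.left = topologicalKrullDim ↥G.left := by
  obtain ⟨Q, q, hq, hsep⟩ := AlgSpGrp.exists_homog_artinian u
  haveI : Mono u.left := inferInstance
  haveI : Mono u := Over.mono_of_mono_left u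
  haveI : Surjective q.left := hq.1
  haveI : Flat q.left := hq.2.1
  haveI : LocallyOfFinitePresentation q.left := hq.2.2.1
  haveI : IsIso (ι[G]).left := inferInstanceAs (IsIso ((Over.forget _).map ι[G]))
  haveI : LocallyOfFiniteType (q.left ≫ Q.hom) := by rw [Over.w q]; infer_instance
  haveI : LocallyOfFiniteType Q.hom := SrcDescent.locallyOfFiniteType_of_fppf_comp q.left Q.hom
  haveI : LocallyOfFiniteType F.hom := by rw [← Over.w u]; infer_instance
  obtain ⟨hf, hsm⟩ := AlgSpGrp.flat_smooth_of_isQuotient u q hq
  obtain ⟨a, hΦ⟩ := AlgSpGrp.exists_action u hq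
  refine ⟨Q, ι[G] ≫ q, hsep, inferInstance, inferInstanceAs (Surjective ((ι[G]).left ≫ q.left)),
    inferInstanceAs (Flat ((ι[G]).left ≫ q.left)), inferInstanceAs (LocallyOfFinitePresentation ((ι[G]).left ≫ q.left)),
    AlgSpGrp.isPullback_inv_comp u hq, hf, fun hG => ?_, hsm, fun x => ?_⟩
  · haveI : QuasiCompact (q.left ≫ Q.hom) := by rw [Over.w q]; exact hG
    exact MorLib.quasiCompact_of_comp_surjective q.left Q.hom
  haveI : Subsingleton ↥(Spec (CommRingCat.of A)) := inferInstanceAs (Subsingleton (PrimeSpectrum A))
  rw [AlgSpGrp.dim_homog u hq]
  let e := GrpSchLib.clHomeo Q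
  haveI : LocallyOfFiniteType (GrpSchLib.clFib G).hom := inferInstanceAs (LocallyOfFiniteType (Limits.pullback.snd G.hom _))
  haveI : LocallyOfFiniteType (GrpSchLib.clFib Q).hom := inferInstanceAs (LocallyOfFiniteType (Limits.pullback.snd Q.hom _))
  haveI : IsLocallyNoetherian (GrpSchLib.clFib Q).left := LocallyOfFiniteType.isLocallyNoetherian (GrpSchLib.clFib Q).hom
  let a₀ := a.bc (GrpSchLib.clPt A)
  have hΦ₀ := RedHomogTop.surjective_baseChange (GrpSchLib.clPt A) a hΦ
  have hc : e '' connectedComponent (e.symm x) = connectedComponent x := by
    rw [GrpSchLib.image_connectedComponent, Homeomorph.apply_symm_apply]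
  rw [← hc]
  refine ⟨⟨⟨_, ⟨_, mem_connectedComponent, rfl⟩⟩, (RedHomogTop.isPreirreducible_connectedComponent a₀ hΦ₀ _).image e
    e.continuous.continuousOn⟩, (RedHomogTop.isCompact_connectedComponent a₀ hΦ₀ _).image e.continuous, ?_⟩
  rw [← IsHomeomorph.topologicalKrullDim_eq _ (e.image (connectedComponent (e.symm x))).isHomeomorph,
    RedHomogTop.dim_connectedComponent_eq_dim a₀ hΦ₀, IsHomeomorph.topologicalKrullDim_eq _ e.isHomeomorph]

end Groth.Agent.S5351
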