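import Groth.Statements.S5352
import Groth.Agent.CommAlgGrp.Abelian

set_option autoImplicit false
universe u
open CategoryTheory CategoryTheory.Limits MonoidalCategory CartesianMonoidalCategory MonObj GrpObj AlgebraicGeometry
open SGA3

namespace Groth.Agent.S5352

/-- Let k be a field. The category of commutative affine algebraic k-groups (commutative group objects
in k-schemes whose underlying scheme is affine and of finite type over k, as a full subcategory of
commutative group objects over Spec k) is an abelian category. -/
theorem result (k : Type u) [Field k] :
    Nonempty (Abelian (ObjectProperty.FullSubcategory
      (fun G : CommGrp (Over (Spec (CommRingCat.of k))) => LocallyOfFiniteType G.X.hom ∧ QuasiCompact G.X.hom ∧ IsAffine G.X.left))) := by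
  exact CommAlgGrp.abelian (CommAlgGrp.closed_affine k)

end Groth.Agent.S5352
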