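import Groth.Statements.S5358
import Groth.Agent.TransLib.Field
import Groth.Agent.S0351
import Groth.Agent.GrpSchLib.MonoSubgroup

set_option autoImplicit false
universe u
open CategoryTheory CategoryTheory.Limits MonoidalCategory CartesianMonoidalCategory MonObj GrpObj AlgebraicGeometry
open SGA3

namespace Groth.Agent.S5358

/-- Let G be a group scheme over a field k, y' : Y' → G an immersion and y : Y → G a closed immersion.
(ii) The transporter of Y' into Y, whose points with values in S' are the g such that conjugation by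
g carries every point of Y' (after any base change S'' → S') into Y, is represented by a closed
subscheme of G; if y' is also a closed immersion, so is the strict transporter (g Y' g⁻¹ = Y
functorially). (iii) For every subgroup scheme h : H → G (a homomorphism which is an immersion), the
normalizer of H in G is represented by a closed subscheme of G. -/
theorem result (k : Type u) [Field k] (G Y Y' : Over (Spec (CommRingCat.of k))) [GrpObj G]
    (y : Y ⟶ G) [IsClosedImmersion y.left] (y' : Y' ⟶ G) [IsImmersion y'.left] :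
    (∃ (T : Over (Spec (CommRingCat.of k))) (t : T ⟶ G), IsClosedImmersion t.left ∧
      ∀ (S' : Over (Spec (CommRingCat.of k))) (g : S' ⟶ G), (∃ z : S' ⟶ T, z ≫ t = g) ↔
        ∀ (S'' : Over (Spec (CommRingCat.of k))) (s : S'' ⟶ S') (x : S'' ⟶ Y'),
          ∃ x' : S'' ⟶ Y, (s ≫ g) * (x ≫ y') * (s ≫ g)⁻¹ = x' ≫ y) ∧
    (IsClosedImmersion y'.left →
      ∃ (T : Over (Spec (CommRingCat.of k))) (t : T ⟶ G), IsClosedImmersion t.left ∧
      ∀ (S' : Over (Spec (CommRingCat.of k))) (g : S' ⟶ G), (∃ z : S' ⟶ T, z ≫ t = g) ↔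
        ((∀ (S'' : Over (Spec (CommRingCat.of k))) (s : S'' ⟶ S') (x : S'' ⟶ Y'),
          ∃ x' : S'' ⟶ Y, (s ≫ g) * (x ≫ y') * (s ≫ g)⁻¹ = x' ≫ y) ∧
        (∀ (S'' : Over (Spec (CommRingCat.of k))) (s : S'' ⟶ S') (x' : S'' ⟶ Y),
          ∃ x : S'' ⟶ Y', (s ≫ g)⁻¹ * (x' ≫ y) * (s ≫ g) = x ≫ y'))) ∧
    (∀ (H : Over (Spec (CommRingCat.of k))) [GrpObj H] (h : H ⟶ G) [IsMonHom h] [IsImmersion h.left],
      ∃ (N : Over (Spec (CommRingCat.of k))) (_ : GrpObj N) (n : N ⟶ G), IsClosedImmersion n.left ∧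
        Red.IsNormalizerOf h n) := by
  refine ⟨TransLib.exists_transporter_sub y y', fun _ => ?_, ?_⟩
  · obtain ⟨T₁, t₁, _, h₁⟩ := TransLib.exists_transporter_sub y y'
    obtain ⟨T₂, t₂, _, h₂⟩ := TransLib.exists_transporter_sub_inv y' y
    obtain ⟨T, t, ht, h⟩ := TransLib.exists_inter t₁ t₂
    exact ⟨T, t, ht, fun S' g => (h S' g).trans (and_congr (h₁ S' g) (h₂ S' g))⟩
  · intro H _ h _ _
    haveI : IsClosedImmersion h.left := Groth.Agent.S0351.result k H G h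
    obtain ⟨T₁, t₁, _, h₁⟩ := TransLib.exists_transporter_sub h h
    obtain ⟨T₂, t₂, _, h₂⟩ := TransLib.exists_transporter_sub_inv h h
    obtain ⟨N, n, hn, hN⟩ := TransLib.exists_inter t₁ t₂
    haveI : Mono n := (Over.forget _).mono_of_mono_map (inferInstanceAs (Mono n.left))
    have key : ∀ (X : Over (Spec (CommRingCat.of k))) (g : X ⟶ G), (∃ z : X ⟶ N, z ≫ n = g) ↔
        ∀ (X' : Over (Spec (CommRingCat.of k))) (x : X' ⟶ X) (y : X' ⟶ H),
          (∃ y' : X' ⟶ H, (x ≫ g) * (y ≫ h) * (x ≫ g)⁻¹ = y' ≫ h) ∧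
          (∃ y' : X' ⟶ H, (x ≫ g)⁻¹ * (y ≫ h) * (x ≫ g) = y' ≫ h) := fun X g =>
      (hN X g).trans ((and_congr (h₁ X g) (h₂ X g)).trans
        ⟨fun e X' x y => ⟨e.1 X' x y, e.2 X' x y⟩, fun e => ⟨fun X' x y => (e X' x y).1, fun X' x y => (e X' x y).2⟩⟩)
    obtain ⟨η', hη⟩ := (key _ η[G]).mpr fun X' x y => by
      refine ⟨⟨y, ?_⟩, ⟨y, ?_⟩⟩ <;>
        simp [show x ≫ η[G] = (1 : X' ⟶ G) by rw [Hom.one_def, toUnit_unique x (toUnit _)]]
    obtain ⟨μ', hμ⟩ := (key _ ((fst N N ≫ n) * (snd N N ≫ n))).mpr fun X' x y => by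
      have hf := (key _ (x ≫ fst N N ≫ n)).mp ⟨x ≫ fst N N, Category.assoc _ _ _⟩ X' (𝟙 _)
      have hs := (key _ (x ≫ snd N N ≫ n)).mp ⟨x ≫ snd N N, Category.assoc _ _ _⟩ X' (𝟙 _)
      simp only [Category.id_comp] at hf hs
      rw [MonObj.comp_mul, _root_.mul_inv_rev]
      refine ⟨?_, ?_⟩
      · obtain ⟨y1, e1⟩ := (hs y).1
        obtain ⟨y2, e2⟩ := (hf y1).1
        exact ⟨y2, by rw [← e2, ← e1]; group⟩
      · obtain ⟨y1, e1⟩ := (hf y).2
        obtain ⟨y2, e2⟩ := (hs y1).2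
        exact ⟨y2, by rw [← e2, ← e1]; group⟩
    obtain ⟨ι', hι⟩ := (key _ n⁻¹).mpr fun X' x y => by
      have hx := (key _ (x ≫ n)).mp ⟨x, rfl⟩ X' (𝟙 _) y
      simp only [Category.id_comp] at hx
      rw [GrpObj.comp_inv, _root_.inv_inv]
      exact ⟨hx.2, hx.1⟩
    obtain ⟨str, hmon⟩ := GrpSchLib.exists_grpObj_of_mono n η' hη μ' hμ ι' hι
    exact ⟨N, str, n, hn, hmon, inferInstance, key⟩

end Groth.Agent.S5358
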