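import Groth.Statements.S5359
import Groth.Agent.MonoEndo.Over

set_option autoImplicit false
universe u
open CategoryTheory CategoryTheory.Limits MonoidalCategory CartesianMonoidalCategory MonObj GrpObj AlgebraicGeometry
open SGA3

namespace Groth.Agent.S5359

/-- Let G be an S-group scheme and u : X → G a monomorphism of S-schemes with X of finite presentation
over S. If a point g : T → G is such that, for every T' → T and every point x of X with values in
T', the conjugate g x g⁻¹ is again a point of X, then the same holds for g⁻¹: the transporter of X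
into X coincides with the strict transporter (the normalizer of X). -/
theorem result (S : Scheme.{u}) (G X : Over S) [GrpObj G] (u : X ⟶ G) [Mono u]
    [LocallyOfFinitePresentation X.hom] [QuasiCompact X.hom] [QuasiSeparated X.hom]
    (T : Over S) (g : T ⟶ G)
    (hg : ∀ (T' : Over S) (t : T' ⟶ T) (x : T' ⟶ X), ∃ x' : T' ⟶ X, (t ≫ g) * (x ≫ u) * (t ≫ g)⁻¹ = x' ≫ u) :
    ∀ (T' : Over S) (t : T' ⟶ T) (x : T' ⟶ X), ∃ x' : T' ⟶ X, (t ≫ g)⁻¹ * (x ≫ u) * (t ≫ g) = x' ≫ u := by
  intro T' t x
  obtain ⟨a, ha⟩ := hg (T ⊗ X) (fst T X) (snd T X)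
  have hpt : ∀ (Z : Over S) (s : Z ⟶ T) (y : Z ⟶ X),
      (s ≫ g) * (y ≫ u) * (s ≫ g)⁻¹ = (lift s y ≫ a) ≫ u := fun Z s y => by
    rw [Category.assoc, ← ha]
    simp only [MonObj.comp_mul, GrpObj.comp_inv, lift_fst_assoc, lift_snd_assoc]
  have hinj : ∀ (Z : Over S) (s : Z ⟶ T), Function.Injective fun y : Z ⟶ X => lift s y ≫ a := by
    intro Z s y y' h
    have h' := congrArg (· ≫ u) h
    simp only at h'
    rw [← hpt, ← hpt] at h'
    exact (cancel_mono u).1 (mul_left_cancel (mul_right_cancel h'))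
  obtain ⟨x', hx'⟩ := (Groth.Agent.MonoEndo.bijective_lift a hinj T' t).2 x
  refine ⟨x', ?_⟩
  have hx'' : lift t x' ≫ a = x := hx'
  have h := hpt T' t x'
  rw [hx''] at h
  rw [← h]
  group

end Groth.Agent.S5359
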