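import Groth.Statements.S5360
import Groth.Agent.MonoEndo.Over

set_option autoImplicit false
universe u
open CategoryTheory CategoryTheory.Limits MonoidalCategory CartesianMonoidalCategory MonObj GrpObj AlgebraicGeometry
open SGA3

namespace Groth.Agent.S5360

/-- Let G be an S-scheme of finite presentation over S with an associative composition law m : G ×_S G →
G such that for every S-scheme S' and every point g of G with values in S' the left and right
translations by g are injective on G(S'), and such that G has an S-point. Then G is an S-group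
scheme: there is a group object structure on G over S whose multiplication is m. -/
theorem result (S : Scheme.{u}) (G : Over S)
    [LocallyOfFinitePresentation G.hom] [QuasiCompact G.hom] [QuasiSeparated G.hom]
    (m : G ⊗ G ⟶ G) (hassoc : (m ▷ G) ≫ m = (α_ G G G).hom ≫ (G ◁ m) ≫ m)
    (hl : ∀ (T : Over S) (g : T ⟶ G), Function.Injective (fun x : T ⟶ G => lift g x ≫ m))
    (hr : ∀ (T : Over S) (g : T ⟶ G), Function.Injective (fun x : T ⟶ G => lift x g ≫ m))
    (e : 𝟙_ (Over S) ⟶ G) :
    ∃ inst : GrpObj G, inst.mul = m := by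
  have asc : ∀ (T : Over S) (x y z : T ⟶ G),
      lift (lift x y ≫ m) z ≫ m = lift x (lift y z ≫ m) ≫ m := fun T x y z => by
    have := lift (lift x y) z ≫= hassoc
    rw [← Category.assoc, lift_whiskerRight] at this
    rw [this, lift_lift_associator_hom_assoc, ← Category.assoc, lift_whiskerLeft]
  have lnat : ∀ {T T' : Over S} (p : T' ⟶ T) (x y : T ⟶ G),
      p ≫ lift x y ≫ m = lift (p ≫ x) (p ≫ y) ≫ m := fun p x y => by rw [comp_lift_assoc]
  have bl := fun (T : Over S) (g : T ⟶ G) => Groth.Agent.MonoEndo.bijective_lift m hl T g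
  have hr' : ∀ (T : Over S) (g : T ⟶ G),
      Function.Injective fun x : T ⟶ G => lift g x ≫ lift (snd G G) (fst G G) ≫ m := fun T g x y h => by
    refine hr T g ?_
    simpa only [comp_lift_assoc, lift_fst, lift_snd] using h
  have br : ∀ (T : Over S) (g z : T ⟶ G), ∃ x : T ⟶ G, lift x g ≫ m = z := fun T g z => by
    obtain ⟨x, hx⟩ := (Groth.Agent.MonoEndo.bijective_lift _ hr' T g).2 z
    exact ⟨x, by simpa only [comp_lift_assoc, lift_fst, lift_snd] using hx⟩
  obtain ⟨ε, hε⟩ := (bl (𝟙_ (Over S)) e).2 e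
  have hε' : lift e ε ≫ m = e := hε
  have idem : lift ε ε ≫ m = ε := hl _ e (by
    show lift e (lift ε ε ≫ m) ≫ m = lift e ε ≫ m
    rw [← asc, hε', hε'])
  have idemT : ∀ (T : Over S), lift (toUnit T ≫ ε) (toUnit T ≫ ε) ≫ m = toUnit T ≫ ε := fun T => by
    rw [← lnat, idem]
  have oneL : ∀ (T : Over S) (x : T ⟶ G), lift (toUnit T ≫ ε) x ≫ m = x := fun T x => hl T (toUnit T ≫ ε) (by
    show lift (toUnit T ≫ ε) (lift (toUnit T ≫ ε) x ≫ m) ≫ m = lift (toUnit T ≫ ε) x ≫ m
    rw [← asc, idemT])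
  have oneR : ∀ (T : Over S) (x : T ⟶ G), lift x (toUnit T ≫ ε) ≫ m = x := fun T x => hr T (toUnit T ≫ ε) (by
    show lift (lift x (toUnit T ≫ ε) ≫ m) (toUnit T ≫ ε) ≫ m = lift x (toUnit T ≫ ε) ≫ m
    rw [asc, idemT])
  obtain ⟨i, hi⟩ := br G (𝟙 G) (toUnit G ≫ ε)
  have hi' : lift (𝟙 G) i ≫ m = toUnit G ≫ ε := hl G i (by
    show lift i (lift (𝟙 G) i ≫ m) ≫ m = lift i (toUnit G ≫ ε) ≫ m
    rw [← asc, hi, oneL, oneR])
  refine ⟨{ one := ε, mul := m, one_mul := ?_, mul_one := ?_, mul_assoc := hassoc, inv := i,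
            left_inv := hi, right_inv := hi' }, rfl⟩
  · have e1 : ε ▷ G = lift (fst _ _ ≫ ε) (snd _ _) := by ext <;> simp
    rw [e1, show fst (𝟙_ (Over S)) G = toUnit _ from Subsingleton.elim _ _, oneL, leftUnitor_hom]
  · have e1 : G ◁ ε = lift (fst _ _) (snd _ _ ≫ ε) := by ext <;> simp
    rw [e1, show snd G (𝟙_ (Over S)) = toUnit _ from Subsingleton.elim _ _, oneR, rightUnitor_hom]

end Groth.Agent.S5360
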