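import Groth.Statements.S5361
import Groth.Agent.GenSubBC.Main
-- import your own Groth.Agent.* helpers here

set_option autoImplicit false
universe u
open CategoryTheory CategoryTheory.Limits MonoidalCategory CartesianMonoidalCategory MonObj GrpObj AlgebraicGeometry
open SGA3

namespace Groth.Agent.S5361

/-- Let G be a group scheme over a field k, X a geometrically reduced k-scheme, f : X → G a k-morphism,
and i : Γ → G the smallest closed subgroup scheme of G through which f factors (the subgroup
generated by f). Then for every k-scheme S, the base change Γ_S → G_S is the smallest subgroup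
scheme of G_S through which f_S factors: for every homomorphism i' : Γ' → G_S of S-group schemes
which is an immersion (not necessarily closed) such that f_S factors through i', Γ_S → G_S factors
through i'. -/
theorem result (k : Type u) [Field k] (G X : Over (Spec (CommRingCat.of k))) [GrpObj G]
    [GeometricallyReduced X.hom] (f : X ⟶ G) (Γ : Over (Spec (CommRingCat.of k))) [GrpObj Γ] (i : Γ ⟶ G) [IsMonHom i] [IsClosedImmersion i.left]
    (hf : ∃ f' : X ⟶ Γ, f' ≫ i = f)
    (hmin : ∀ (Γ' : Over (Spec (CommRingCat.of k))) (_ : GrpObj Γ') (i' : Γ' ⟶ G), IsMonHom i' → IsClosedImmersion i'.left →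
        (∃ f'' : X ⟶ Γ', f'' ≫ i' = f) → ∃ j : Γ ⟶ Γ', j ≫ i' = i)
    (S : Scheme.{u}) (σ : S ⟶ (Spec (CommRingCat.of k))) :
    ∀ (Γ' : Over S) (_ : GrpObj Γ') (i' : Γ' ⟶ Red.bc σ G), IsMonHom i' → IsImmersion i'.left →
      (∃ f'' : Red.bc σ X ⟶ Γ', f'' ≫ i' = (Over.pullback σ).map f) →
      ∃ j : Red.bc σ Γ ⟶ Γ', j ≫ i' = (Over.pullback σ).map i := by
  exact fun Γ' _ i' _ _ h => GenSubBC.main i σ i' hf hmin h

end Groth.Agent.S5361
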