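import Groth.Statements.S5362
import Groth.Agent.DomHom.ProductSubgroup
-- import your own Groth.Agent.* helpers here

set_option autoImplicit false
universe u
open CategoryTheory CategoryTheory.Limits MonoidalCategory CartesianMonoidalCategory MonObj GrpObj AlgebraicGeometry
open SGA3

namespace Groth.Agent.S5362

/-- Let G be a group scheme locally of finite type over a field k, and a : A → G, b : B → G two closed
subgroup schemes which are smooth and of finite type over k, such that B normalizes A (conjugating a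
point of A by a point of B gives a point of A). Let i : Γ → G be the smallest closed subgroup scheme
of G through which both a and b factor. Then Γ is reduced and its underlying set is A·B, the image
of A ×_k B under (x, y) ↦ a(x) b(y). -/
theorem result (k : Type u) [Field k] (G A B : Over (Spec (CommRingCat.of k))) [GrpObj G] [GrpObj A] [GrpObj B]
    [LocallyOfFiniteType G.hom] (a : A ⟶ G) [IsMonHom a] [IsClosedImmersion a.left] (b : B ⟶ G) [IsMonHom b]
    [IsClosedImmersion b.left] [Smooth A.hom] [QuasiCompact A.hom] [Smooth B.hom] [QuasiCompact B.hom]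
    (hN : ∀ (T : Over (Spec (CommRingCat.of k))) (y : T ⟶ B) (x : T ⟶ A), ∃ x' : T ⟶ A, (y ≫ b) * (x ≫ a) * (y ≫ b)⁻¹ = x' ≫ a)
    (Γ : Over (Spec (CommRingCat.of k))) [GrpObj Γ] (i : Γ ⟶ G) [IsMonHom i] [IsClosedImmersion i.left]
    (ha : ∃ a' : A ⟶ Γ, a' ≫ i = a) (hb : ∃ b' : B ⟶ Γ, b' ≫ i = b)
    (hmin : ∀ (Γ' : Over (Spec (CommRingCat.of k))) (_ : GrpObj Γ') (i' : Γ' ⟶ G), IsMonHom i' → IsClosedImmersion i'.left →
        (∃ a'' : A ⟶ Γ', a'' ≫ i' = a) → (∃ b'' : B ⟶ Γ', b'' ≫ i' = b) → ∃ j : Γ ⟶ Γ', j ≫ i' = i) :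
    IsReduced Γ.left ∧ Set.range i.left.base = Set.range ((a ⊗ₘ b) ≫ μ[G]).left.base :=
  Groth.Agent.DomHom.range_product a b hN i ha hb hmin
end Groth.Agent.S5362
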