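import Groth.Statements.S5363
import Groth.Agent.TransLib.Centralizer

set_option autoImplicit false
universe u
open CategoryTheory CategoryTheory.Limits MonoidalCategory CartesianMonoidalCategory MonObj GrpObj AlgebraicGeometry
open SGA3

namespace Groth.Agent.S5363

/-- Let G be a group scheme over a field k and g a k-rational point of G. Then the smallest closed
subgroup scheme Γ of G through which g factors (the closed subgroup generated by g) is commutative. -/
theorem result (k : Type u) [Field k] (G : Over (Spec (CommRingCat.of k))) [GrpObj G]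
    (g : 𝟙_ (Over (Spec (CommRingCat.of k))) ⟶ G) (Γ : Over (Spec (CommRingCat.of k))) [GrpObj Γ] (i : Γ ⟶ G) [IsMonHom i] [IsClosedImmersion i.left]
    (hf : ∃ f' : 𝟙_ (Over (Spec (CommRingCat.of k))) ⟶ Γ, f' ≫ i = g)
    (hmin : ∀ (Γ' : Over (Spec (CommRingCat.of k))) (_ : GrpObj Γ') (i' : Γ' ⟶ G), IsMonHom i' → IsClosedImmersion i'.left →
        (∃ f'' : 𝟙_ (Over (Spec (CommRingCat.of k))) ⟶ Γ', f'' ≫ i' = g) → ∃ j : Γ ⟶ Γ', j ≫ i' = i) :
    IsCommMonObj Γ := by
  obtain ⟨f', hf'⟩ := hf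
  haveI : Mono i := (Over.forget _).mono_of_mono_map (inferInstanceAs (Mono i.left))
  -- every closed subgroup of `Γ` containing the point is everything
  have hfull : ∀ {X : Over (Spec (CommRingCat.of k))} (u : X ⟶ Γ),
      (∀ (S'' : Over (Spec (CommRingCat.of k))) (s : S'' ⟶ 𝟙_ _) (x : S'' ⟶ X), Commute (s ≫ f') (x ≫ u)) →
      ∀ (T : Over (Spec (CommRingCat.of k))) (a : T ⟶ Γ) (x : T ⟶ X), Commute a (x ≫ u) := by
    intro X u h T a x
    obtain ⟨C, _, c, _, _, hC⟩ := TransLib.exists_centralizer u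
    obtain ⟨z, hz⟩ := (hC _ f').mpr h
    haveI : IsClosedImmersion (c ≫ i).left := inferInstanceAs (IsClosedImmersion (c.left ≫ i.left))
    obtain ⟨j, hj⟩ := hmin C inferInstance (c ≫ i) inferInstance inferInstance
      ⟨z, by rw [reassoc_of% hz, hf']⟩
    have hjc : j ≫ c = 𝟙 Γ := by rw [← cancel_mono i, Category.assoc, hj, Category.id_comp]
    simpa using (hC T a).mp ⟨a ≫ j, by rw [Category.assoc, hjc, Category.comp_id]⟩ T (𝟙 T) x
  have hcentral : ∀ (T : Over (Spec (CommRingCat.of k))) (a : T ⟶ Γ) (x : T ⟶ 𝟙_ _), Commute a (x ≫ f') :=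
    hfull f' fun S'' s x => by rw [toUnit_unique s x]
  have hall := hfull (𝟙 Γ) fun S'' s x => by
    rw [Category.comp_id]
    exact (hcentral S'' x s).symm
  refine ⟨?_⟩
  have := hall (Γ ⊗ Γ) (snd Γ Γ) (fst Γ Γ)
  rw [Category.comp_id] at this
  have h2 : snd Γ Γ * fst Γ Γ = fst Γ Γ * snd Γ Γ := this
  rw [Hom.mul_def, Hom.mul_def, lift_fst_snd, lift_snd_fst] at h2
  simpa using h2

end Groth.Agent.S5363
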