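import Groth.Statements.S5364
import Groth.Agent.GrpSchLib.CommutatorNormal
-- import your own Groth.Agent.* helpers here

set_option autoImplicit false
universe u
open CategoryTheory CategoryTheory.Limits MonoidalCategory CartesianMonoidalCategory MonObj GrpObj AlgebraicGeometry
open SGA3

namespace Groth.Agent.S5364

/-- Let G be a group scheme over a field k and a : A → G, b : B → G two closed subgroup schemes which
are geometrically reduced over k and normal in G. Let i : Γ → G be the commutator subgroup scheme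
(A, B): the smallest closed subgroup scheme of G through which the morphism A ×_k B → G, (x, y) ↦
a(x) b(y) a(x)⁻¹ b(y)⁻¹, factors. Then Γ is normal in G. (The published statement also covers
characteristic subgroups; this row states the case of normal subgroups only.) -/
theorem result (k : Type u) [Field k] (G A B : Over (Spec (CommRingCat.of k))) [GrpObj G] [GrpObj A] [GrpObj B]
    (a : A ⟶ G) [IsMonHom a] [IsClosedImmersion a.left] (b : B ⟶ G) [IsMonHom b] [IsClosedImmersion b.left]
    [GeometricallyReduced A.hom] [GeometricallyReduced B.hom] (hA : AlgGrp.IsNormalHom a) (hB : AlgGrp.IsNormalHom b)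
    (Γ : Over (Spec (CommRingCat.of k))) [GrpObj Γ] (i : Γ ⟶ G) [IsMonHom i] [IsClosedImmersion i.left]
    (hf : ∃ f' : A ⊗ B ⟶ Γ, f' ≫ i = (((fst A B) ≫ a) * ((snd A B) ≫ b) * ((fst A B) ≫ a)⁻¹ * ((snd A B) ≫ b)⁻¹))
    (hmin : ∀ (Γ' : Over (Spec (CommRingCat.of k))) (_ : GrpObj Γ') (i' : Γ' ⟶ G), IsMonHom i' → IsClosedImmersion i'.left →
        (∃ f'' : A ⊗ B ⟶ Γ', f'' ≫ i' = (((fst A B) ≫ a) * ((snd A B) ≫ b) * ((fst A B) ≫ a)⁻¹ * ((snd A B) ≫ b)⁻¹)) → ∃ j : Γ ⟶ Γ', j ≫ i' = i) :
    AlgGrp.IsNormalHom i := by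
  exact GrpSchLib.CommutatorNormal.main a b hA hB i hf hmin

end Groth.Agent.S5364
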