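import Groth.Statements.S5365
import Groth.Agent.GrpSchLib.ConnGenerated
import Groth.Agent.GrpSchLib.IdentityComp
import Mathlib.AlgebraicGeometry.Morphisms.FlatMono
-- import your own Groth.Agent.* helpers here

set_option autoImplicit false
universe u
open CategoryTheory CategoryTheory.Limits MonoidalCategory CartesianMonoidalCategory MonObj GrpObj AlgebraicGeometry
open SGA3

namespace Groth.Agent.S5365

/-- Let G be a group scheme locally of finite type over a field k, a : A → G and b : B → G two closed
subgroup schemes which are geometrically reduced over k, and i : Γ → G the commutator subgroup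
scheme (A, B), the smallest closed subgroup scheme through which (x, y) ↦ a(x) b(y) a(x)⁻¹ b(y)⁻¹
factors. Suppose either (a) A and B are normal in G and of finite type over k, or (b) A is connected
and B is of finite type over k. Then Γ is of finite type over k, and in case (b) Γ is connected.
(The published statement also asserts that this subgroup represents the fppf sheaf generated by
commutators and describes its neutral component; this row states only the finiteness and
connectedness assertions.) -/
theorem result (k : Type u) [Field k] (G A B : Over (Spec (CommRingCat.of k))) [GrpObj G] [GrpObj A] [GrpObj B]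
    [LocallyOfFiniteType G.hom]
    (a : A ⟶ G) [IsMonHom a] [IsClosedImmersion a.left] (b : B ⟶ G) [IsMonHom b] [IsClosedImmersion b.left]
    [GeometricallyReduced A.hom] [GeometricallyReduced B.hom] [QuasiCompact B.hom]
    (hcase : (AlgGrp.IsNormalHom a ∧ AlgGrp.IsNormalHom b ∧ QuasiCompact A.hom) ∨ ConnectedSpace A.left)
    (Γ : Over (Spec (CommRingCat.of k))) [GrpObj Γ] (i : Γ ⟶ G) [IsMonHom i] [IsClosedImmersion i.left]
    (hf : ∃ f' : A ⊗ B ⟶ Γ, f' ≫ i = (((fst A B) ≫ a) * ((snd A B) ≫ b) * ((fst A B) ≫ a)⁻¹ * ((snd A B) ≫ b)⁻¹))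
    (hmin : ∀ (Γ' : Over (Spec (CommRingCat.of k))) (_ : GrpObj Γ') (i' : Γ' ⟶ G), IsMonHom i' → IsClosedImmersion i'.left →
        (∃ f'' : A ⊗ B ⟶ Γ', f'' ≫ i' = (((fst A B) ≫ a) * ((snd A B) ≫ b) * ((fst A B) ≫ a)⁻¹ * ((snd A B) ≫ b)⁻¹)) → ∃ j : Γ ⟶ Γ', j ≫ i' = i) :
    QuasiCompact Γ.hom ∧ (ConnectedSpace A.left → ConnectedSpace Γ.left) := by
  haveI : Mono a := (Over.forget _).mono_of_mono_map (show Mono a.left from inferInstance)
  haveI : Mono b := (Over.forget _).mono_of_mono_map (show Mono b.left from inferInstance)
  haveI : Mono i := (Over.forget _).mono_of_mono_map (show Mono i.left from inferInstance)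
  obtain ⟨f', hf'⟩ := hf
  have hb : ConnectedSpace A.left → QuasiCompact Γ.hom ∧ ConnectedSpace Γ.left := by
    intro hA
    obtain ⟨G₀, str, incl, hincl, hci, hfl, hr, hgi, hcpt⟩ := GrpSchLib.exists_identityComponent (G := Γ)
    haveI : LocallyOfFiniteType Γ.hom := by rw [← Over.w i]; infer_instance
    haveI : IsLocallyNoetherian Γ.left := LocallyOfFiniteType.isLocallyNoetherian Γ.hom
    haveI : LocallyOfFinitePresentation incl.left := inferInstance
    haveI : IsOpenImmersion incl.left := IsOpenImmersion.of_flat_of_mono incl.left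
    let U : Γ.left.Opens := incl.left.opensRange
    have hU : Set.range f'.left ⊆ (U : Set Γ.left) := by
      refine GrpSchLib.ConnGenerated.range_subset_of_clopen η[A] f' U incl.left.isClosedEmbedding.isClosed_range ?_
      have h1 : lift (toUnit B ≫ η[A]) (𝟙 B) ≫ f' = 1 := by
        rw [← cancel_mono i, Category.assoc, hf', MonObj.one_comp]
        simp only [MonObj.comp_mul, GrpObj.comp_inv, lift_fst_assoc, lift_snd_assoc, Category.id_comp]
        rw [← Hom.one_def, MonObj.one_comp]
        group
      rw [h1]
      have he : η[Γ].left (IsLocalRing.closedPoint k) ∈ U := hr.ge mem_connectedComponent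
      exact GrpSchLib.ConnGenerated.range_one U he B
    let f₀ : A ⊗ B ⟶ G₀ := Over.homMk (IsOpenImmersion.lift incl.left f'.left hU)
      (by rw [← Over.w incl, IsOpenImmersion.lift_fac_assoc, Over.w f'])
    have hf₀ : f₀ ≫ incl = f' := Over.OverMorphism.ext (IsOpenImmersion.lift_fac _ _ _)
    haveI : IsClosedImmersion (incl ≫ i).left := inferInstanceAs (IsClosedImmersion (incl.left ≫ i.left))
    obtain ⟨j, hj⟩ := hmin G₀ str (incl ≫ i) inferInstance inferInstance ⟨f₀, by rw [reassoc_of% hf₀, hf']⟩
    have hji : j ≫ incl = 𝟙 Γ := by rw [← cancel_mono i, Category.assoc, hj, Category.id_comp]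
    have hs : Function.Surjective incl.left := fun p =>
      ⟨j.left p, (Scheme.Hom.comp_apply _ _ _).symm.trans (congrArg (fun m : Γ ⟶ Γ => m.left p) hji)⟩
    haveI : CompactSpace Γ.left := hs.compactSpace incl.left.continuous
    haveI : IrreducibleSpace G₀.left := GeometricallyIrreducible.irreducibleSpace_of_subsingleton G₀.hom
    haveI : ConnectedSpace G₀.left := connectedSpace_iff_univ.mpr (IrreducibleSpace.isIrreducible_univ _).isConnected
    exact ⟨(quasiCompact_iff_compactSpace Γ.hom).mpr inferInstance, hs.connectedSpace incl.left.continuous⟩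
  refine ⟨?_, fun hA => (hb hA).2⟩
  rcases hcase with ⟨haN, -, hAq⟩ | hA
  · obtain ⟨a', ha'⟩ := haN (A ⊗ B) (snd A B ≫ b) ((fst A B)⁻¹)
    obtain ⟨j, hj⟩ := hmin A inferInstance a inferInstance inferInstance ⟨fst A B * a', by
      rw [MonObj.mul_comp, ← ha', GrpObj.inv_comp]
      group⟩
    haveI : IsClosedImmersion (j.left ≫ a.left) := by rw [← Over.comp_left, hj]; infer_instance
    haveI : IsClosedImmersion j.left := IsClosedImmersion.of_comp j.left a.left
    rw [← Over.w j]
    infer_instance
  · exact (hb hA).1

end Groth.Agent.S5365
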