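import Groth.Statements.S5369
import Groth.Agent.FpqcDescLib.Diagonal

set_option autoImplicit false
universe u
open CategoryTheory CategoryTheory.Limits MonoidalCategory CartesianMonoidalCategory MonObj GrpObj AlgebraicGeometry
open SGA3

namespace Groth.Agent.S5369

/-- Let u : G' → G be a monomorphism of S-group schemes and p : G → G'' a morphism of S-schemes which is
covering for the fpqc topology (some Z → G'' which is flat, surjective, with every affine open of
G'' the image of a quasi-compact open of Z, factors through p) and such that the square (g, h) ↦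
g·u(h), first projection G ×_S G' → G, p, p is cartesian, so that G'' represents the fpqc quotient
sheaf G/G'. Let ε'' be the composite of the unit section of G with p. Then the square formed by u,
the structure morphism G' → S, p and ε'' is cartesian; u is an immersion; and G'' is separated over
S if and only if u is a closed immersion, if and only if ε'' is a closed immersion. -/
theorem result (S : Scheme.{u}) (G G' G'' : Over S) [GrpObj G] [GrpObj G']
    (u : G' ⟶ G) [IsMonHom u] [Mono u] (p : G ⟶ G'')
    (hcov : (∃ (Z : Scheme.{u}) (q : Z ⟶ G''.left) (r : Z ⟶ G.left), r ≫ p.left = q ∧ Surjective q ∧ Flat q ∧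
        ∀ V : G''.left.Opens, IsAffineOpen V → ∃ W : Z.Opens, IsCompact (W : Set Z) ∧ q.base '' (W : Set Z) = (V : Set G''.left)))
    (hsq : IsPullback ((G ◁ u) ≫ μ[G]) (fst G G') p p) :
    IsPullback u (toUnit G') p (η[G] ≫ p) ∧ IsImmersion u.left ∧
    (IsSeparated G''.hom ↔ IsClosedImmersion u.left) ∧ (IsClosedImmersion u.left ↔ IsClosedImmersion (η[G] ≫ p).left) := by
  have hp : FpqcDescLib.Covers p.left := FpqcDescLib.covers_of_hcov p.left hcov
  have hc := FpqcDescLib.isCosetMap_of_isPullback hsq.flip
  let e : 𝟙_ (Over S) ⟶ G'' := η[G] ≫ p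
  have hu : IsPullback u (toUnit G') p e := by
    have w : u ≫ p = toUnit G' ≫ e := by
      show u ≫ p = toUnit G' ≫ η[G] ≫ p
      rw [← Category.assoc, ← Hom.one_def]
      exact ((hc G' 1 u).mpr ⟨𝟙 G', by simp⟩).symm
    have hs : ∀ s : PullbackCone p e, ∃ l : s.pt ⟶ G', l ≫ u = s.fst := fun s => by
      have h1 : (1 : s.pt ⟶ G) ≫ p = s.fst ≫ p := by
        rw [s.condition, Hom.one_def, Category.assoc, toUnit_unique s.snd (toUnit _)]
      obtain ⟨l, hl⟩ := (hc s.pt 1 s.fst).mp h1
      exact ⟨l, by rw [hl]; simp⟩
    choose l hl using hs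
    exact IsPullback.of_isLimit' ⟨w⟩ (PullbackCone.IsLimit.mk _ l hl (fun s => toUnit_unique _ _)
      fun s m h1 h2 => by rw [← cancel_mono u, h1, hl])
  have hu' := hu.map (Over.forget S)
  have he : IsImmersion e.left := by
    have : IsImmersion (e.left ≫ G''.hom) := by
      rw [Over.w e]; exact inferInstanceAs (IsImmersion (𝟙 S))
    exact IsImmersion.of_comp e.left G''.hom
  have hsep : IsSeparated G''.hom → IsClosedImmersion e.left := fun _ => by
    have : IsClosedImmersion (e.left ≫ G''.hom) := by
      rw [Over.w e]; exact inferInstanceAs (IsClosedImmersion (𝟙 S))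
    exact IsClosedImmersion.of_comp e.left G''.hom
  have hcl : IsClosedImmersion e.left → IsClosedImmersion u.left := fun h =>
    MorphismProperty.of_isPullback (P := @IsClosedImmersion) hu'.flip h
  have hcl' : IsClosedImmersion u.left → IsClosedImmersion e.left := fun h =>
    @FpqcDescLib.Covers.isClosedImmersion _ _ _ hp _ _ _ u.left _ hu' h
  have hback : IsClosedImmersion u.left → IsSeparated G''.hom := fun h => by
    have hg := hsq.flip
    have hsh : IsPullback ((G ◁ u) ≫ lift (fst G G) μ[G]) (snd G G') ((fst G G)⁻¹ * snd G G) u := by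
      have eμ : (G ◁ u) ≫ μ[G] = fst G G' * (snd G G' ≫ u) := by
        rw [Hom.mul_def]
        congr 1
      refine IsPullback.of_isLimit' ⟨by rw [MonObj.comp_mul, GrpObj.comp_inv, Category.assoc, Category.assoc, lift_fst, lift_snd, whiskerLeft_fst, eμ, inv_mul_cancel_left]⟩
        (PullbackCone.IsLimit.mk _ (fun s => lift (s.fst ≫ fst G G) s.snd) ?_ (fun s => by simp) ?_)
      · intro s
        have hc := s.condition
        replace hc : (s.fst ≫ fst G G)⁻¹ * (s.fst ≫ snd G G) = s.snd ≫ u := by
          simpa [MonObj.comp_mul, GrpObj.comp_inv] using hc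
        apply CartesianMonoidalCategory.hom_ext
        · simp
        · simp only [Category.assoc, lift_snd, lift_whiskerLeft_assoc]
          rw [← Hom.mul_def, ← hc, mul_inv_cancel_left]
      · intro s m h1 h2
        apply CartesianMonoidalCategory.hom_ext
        · simpa [Category.assoc] using congrArg (· ≫ fst G G) h1
        · simpa using h2
    have hlift : lift (fst G G') ((G ◁ u) ≫ μ[G]) = (G ◁ u) ≫ lift (fst G G) μ[G] := by
      apply CartesianMonoidalCategory.hom_ext <;> simp
    have : IsClosedImmersion (lift (fst G G') ((G ◁ u) ≫ μ[G])).left := by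
      rw [hlift]
      exact MorphismProperty.of_isPullback (P := @IsClosedImmersion) (hsh.map (Over.forget S)).flip h
    exact FpqcDescLib.isSeparated_of_isClosedImmersion_graph hp hg
  exact ⟨hu, MorphismProperty.of_isPullback (P := @IsImmersion) hu'.flip he,
    ⟨fun h => hcl (hsep h), hback⟩, ⟨hcl', hcl⟩⟩

end Groth.Agent.S5369
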