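import Groth.Statements.S5371
import Groth.Agent.QuotMapLib.Basic
import Groth.Agent.S5369
import Groth.Agent.S5370
import Groth.Agent.SrcDescent.SmoothFppf
import Groth.Agent.SrcDescent.QsSurj
import Groth.Agent.EtFound.Descent

set_option autoImplicit false
universe u
open CategoryTheory CategoryTheory.Limits MonoidalCategory CartesianMonoidalCategory MonObj GrpObj AlgebraicGeometry
open SGA3

namespace Groth.Agent.S5371

theorem locallyQuasiFinite_of_comp_universallyOpen {X Y Z : Scheme.{u}} (f : X ⟶ Y) (g : Y ⟶ Z) [Surjective f]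
    [UniversallyOpen f] [LocallyQuasiFinite (f ≫ g)] [LocallyOfFiniteType g] : LocallyQuasiFinite g := by
  rw [locallyQuasiFinite_iff_isDiscrete_preimage_singleton]
  intro z
  have hd := Scheme.Hom.isDiscrete_preimage_singleton (f ≫ g) z
  rw [isDiscrete_iff_discreteTopology, discreteTopology_iff_isOpen_singleton] at hd ⊢
  rintro ⟨y, hy⟩
  obtain ⟨x, rfl⟩ := f.surjective y
  have hx : x ∈ (f ≫ g) ⁻¹' {z} := by simpa [Scheme.Hom.comp_apply] using hy
  obtain ⟨O, hO, hOeq⟩ := isOpen_induced_iff.1 (hd ⟨x, hx⟩)
  refine isOpen_induced_iff.2 ⟨f '' O, f.isOpenMap _ hO, ?_⟩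
  ext ⟨y', hy'⟩
  simp only [Set.mem_preimage, Set.mem_image, Set.mem_singleton_iff, Subtype.mk.injEq]
  constructor
  · rintro ⟨x', hx'O, rfl⟩
    have hx' : x' ∈ (f ≫ g) ⁻¹' {z} := by simpa [Scheme.Hom.comp_apply] using hy'
    have : (⟨x', hx'⟩ : ↥((f ≫ g) ⁻¹' {z})) = ⟨x, hx⟩ := (Set.ext_iff.1 hOeq ⟨x', hx'⟩).1 hx'O
    exact congrArg (fun w => f w.1) this
  · rintro rfl
    exact ⟨x, (Set.ext_iff.1 hOeq ⟨x, hx⟩).2 rfl, rfl⟩

/-- Let u : G' → G be a monomorphism of S-group schemes and p : G → G'' a morphism of S-schemes which is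
covering for the fpqc topology (some Z → G'' which is flat, surjective, with every affine open of
G'' the image of a quasi-compact open of Z, factors through p) and such that the square (g, h) ↦
g·u(h), first projection G ×_S G' → G, p, p is cartesian, so that G'' represents the fpqc quotient
sheaf G/G'. (xii) G' is flat and locally of finite presentation over S if and only if p is
surjective, flat and locally of finite presentation; in that case, if G is locally of finite
presentation (resp. locally of finite type, of finite type, smooth, etale, unramified, locally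
quasi-finite) over S, so is G''. (xiii) If G' is flat and of finite presentation over S then p is of
finite presentation, and G is of finite presentation over S if and only if G'' is. -/
theorem result (S : Scheme.{u}) (G G' G'' : Over S) [GrpObj G] [GrpObj G']
    (u : G' ⟶ G) [IsMonHom u] [Mono u] (p : G ⟶ G'')
    (hcov : (∃ (Z : Scheme.{u}) (q : Z ⟶ G''.left) (r : Z ⟶ G.left), r ≫ p.left = q ∧ Surjective q ∧ Flat q ∧
        ∀ V : G''.left.Opens, IsAffineOpen V → ∃ W : Z.Opens, IsCompact (W : Set Z) ∧ q.base '' (W : Set Z) = (V : Set G''.left)))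
    (hsq : IsPullback ((G ◁ u) ≫ μ[G]) (fst G G') p p) :
    ((Flat G'.hom ∧ LocallyOfFinitePresentation G'.hom) ↔
      (Surjective p.left ∧ Flat p.left ∧ LocallyOfFinitePresentation p.left)) ∧
    (Flat p.left → LocallyOfFinitePresentation p.left →
      (LocallyOfFinitePresentation G.hom → LocallyOfFinitePresentation G''.hom) ∧
      (LocallyOfFiniteType G.hom → LocallyOfFiniteType G''.hom) ∧
      (LocallyOfFiniteType G.hom → QuasiCompact G.hom → QuasiCompact G''.hom) ∧
      (Smooth G.hom → Smooth G''.hom) ∧ (Etale G.hom → Etale G''.hom) ∧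
      (FormallyUnramified G.hom → LocallyOfFinitePresentation G.hom → FormallyUnramified G''.hom) ∧
      (LocallyQuasiFinite G.hom → LocallyOfFiniteType G.hom → LocallyQuasiFinite G''.hom)) ∧
    (Flat G'.hom → LocallyOfFinitePresentation G'.hom → QuasiCompact G'.hom → QuasiSeparated G'.hom →
      QuasiCompact p.left ∧ QuasiSeparated p.left ∧ LocallyOfFinitePresentation p.left ∧
      ((LocallyOfFinitePresentation G.hom ∧ QuasiCompact G.hom ∧ QuasiSeparated G.hom) ↔
        (LocallyOfFinitePresentation G''.hom ∧ QuasiCompact G''.hom ∧ QuasiSeparated G''.hom))) := by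
  haveI := EtFound.fpqc_quasiCompact.{u}
  haveI := EtFound.fpqc_quasiSeparated.{u}
  obtain ⟨-, hflat, -⟩ := Groth.Agent.S5370.result S G G' G'' u p hcov hsq
  have hpb := ((Groth.Agent.S5369.result S G G' G'' u p hcov hsq).1).map (Over.forget S)
  have hp := FpqcDescLib.covers_of_hcov p.left hcov
  have hsurj : Surjective p.left := by
    obtain ⟨Z, q, r, rfl, h, -, -⟩ := hcov
    exact Surjective.of_comp r p.left
  have hdesc : ∀ (P : MorphismProperty Scheme.{u}) [P.IsStableUnderBaseChange] [IsZariskiLocalAtTarget P]
      [P.DescendsAlong (@Surjective ⊓ @Flat ⊓ @QuasiCompact)], P G'.hom → P p.left := fun P _ _ _ h => by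
    refine hp.descends P p.left (fst G G').left ((G ◁ u) ≫ μ[G]).left (hsq.map (Over.forget S)).flip ?_
    rw [Over.fst_left]
    exact MorphismProperty.pullback_fst _ _ h
  have hback : ∀ (P : MorphismProperty Scheme.{u}) [P.IsStableUnderBaseChange], P p.left → P G'.hom :=
    fun P _ h => MorphismProperty.of_isPullback (P := P) hpb h
  refine ⟨⟨fun ⟨h1, h2⟩ => ⟨hsurj, hflat.mp h1, hdesc _ h2⟩,
    fun ⟨_, h1, h2⟩ => ⟨hflat.mpr h1, hback _ h2⟩⟩, ?_, ?_⟩
  · intro hF hP
    have hw : ∀ (P : MorphismProperty Scheme.{u}), P G.hom → P (p.left ≫ G''.hom) := fun P h => by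
      rwa [Over.w p]
    refine ⟨fun h => ?_, fun h => ?_, fun _ h => ?_, fun h => ?_, fun h => ?_, fun h h' => ?_, fun h h' => ?_⟩
    · haveI := hw @LocallyOfFinitePresentation h
      exact SrcDescent.locallyOfFinitePresentation_of_fppf_comp p.left G''.hom
    · haveI := hw @LocallyOfFiniteType h
      exact SrcDescent.locallyOfFiniteType_of_fppf_comp p.left G''.hom
    · haveI := hw @QuasiCompact h
      exact AlgSpLib.quasiCompact_of_comp_surjective p.left G''.hom
    · haveI := hw @Smooth h
      exact SrcDescent.smooth_of_fppf_comp p.left G''.hom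
    · have h1 : FormallyUnramified G'.hom := by
        rw [← Over.w u]
        haveI : FormallyUnramified u.left := inferInstanceAs (FormallyUnramified ((Over.forget S).map u))
        exact MorphismProperty.comp_mem _ _ _ ‹_› (Etale.iff_flat_and_formallyUnramified.1 h).2.1
      haveI : Etale p.left :=
        Etale.iff_flat_and_formallyUnramified.2 ⟨hF, hdesc _ h1, hP⟩
      exact SrcDescent.etale_of_etale_comp p.left G''.hom (hw @Etale h)
    · have h1 : FormallyUnramified G'.hom := by
        rw [← Over.w u]
        haveI : FormallyUnramified u.left := inferInstanceAs (FormallyUnramified ((Over.forget S).map u))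
        exact MorphismProperty.comp_mem _ _ _ ‹_› h
      haveI : Etale p.left :=
        Etale.iff_flat_and_formallyUnramified.2 ⟨hF, hdesc _ h1, hP⟩
      exact SrcDescent.formallyUnramified_of_etale_comp p.left G''.hom (hw @FormallyUnramified h)
    · haveI := hw @LocallyQuasiFinite h
      haveI := hw @LocallyOfFiniteType h'
      haveI := SrcDescent.locallyOfFiniteType_of_fppf_comp p.left G''.hom
      exact locallyQuasiFinite_of_comp_universallyOpen p.left G''.hom
  · intro h1 h2 h3 h4
    haveI : Flat p.left := hflat.mp h1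
    haveI : QuasiCompact p.left := hdesc _ h3
    haveI : QuasiSeparated p.left := hdesc _ h4
    haveI : LocallyOfFinitePresentation p.left := hdesc _ h2
    refine ⟨inferInstance, inferInstance, inferInstance, ?_⟩
    rw [← Over.w p]
    refine ⟨fun ⟨_, _, _⟩ => ⟨SrcDescent.locallyOfFinitePresentation_of_fppf_comp p.left G''.hom,
      AlgSpLib.quasiCompact_of_comp_surjective p.left G''.hom,
      SrcDescent.quasiSeparated_of_comp_surjective p.left G''.hom⟩,
      fun ⟨_, _, _⟩ => ⟨inferInstance, inferInstance, inferInstance⟩⟩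

end Groth.Agent.S5371
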