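import Groth.Statements.S5376
import Groth.Agent.ComodLib.Points
import Mathlib.RingTheory.Jacobson.Ring
import Mathlib.FieldTheory.IsAlgClosed.Basic
import Mathlib.LinearAlgebra.TensorProduct.RightExactness
-- import your own Groth.Agent.* helpers here

set_option autoImplicit false
universe u
open CategoryTheory CategoryTheory.Limits MonoidalCategory CartesianMonoidalCategory MonObj GrpObj AlgebraicGeometry
open SGA3

namespace Groth.Agent.S5376

open scoped TensorProduct

/-- Let k be an algebraically closed field, A a finitely generated commutative Hopf algebra over k which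
is reduced (a reduced affine algebraic k-group G), V a finite-dimensional A-comodule and v a vector
of V. Let E be the k-subspace of V spanned by the vectors g·v for g running over the k-points of G
(algebra maps A → k). Then E is a subcomodule of V containing v, and it is the smallest one. -/
theorem result (k : Type u) [Field k] [IsAlgClosed k] (A : Type u) [CommRing A] [HopfAlgebra k A]
    [Algebra.FiniteType k A] [IsReduced A] (V : Type u) [AddCommGroup V] [Module k V] [HopfRep.Comod k A V]
    [Module.Finite k V] (v : V) :
    letI E : Submodule k V := Submodule.span k (Set.range fun g : A →ₐ[k] k => HopfRep.Comod.act k A V g v)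
    HopfRep.IsSubcomod (k := k) (A := A) E ∧ v ∈ E ∧
      ∀ W : Submodule k V, HopfRep.IsSubcomod (k := k) (A := A) W → v ∈ W → E ≤ W := by
  classical
  set E : Submodule k V := Submodule.span k (Set.range fun g : A →ₐ[k] k => HopfRep.Comod.act k A V g v) with hE
  have hact : ∀ (g : A →ₐ[k] k) (u : V),
      HopfRep.Comod.act k A V g u = Groth.Agent.ComodLib.actF g.toLinearMap u := fun g u => rfl
  -- points separate the elements of `A`
  have hsep : ∀ a : A, (∀ g : A →ₐ[k] k, g a = 0) → a = 0 := by
    intro a ha
    by_contra h0
    have hnil : ¬ IsNilpotent a := fun h => h0 h.eq_zero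
    have := isJacobsonRing_of_finiteType (A := k) (B := A)
    have hr : (⊥ : Ideal A).radical = (⊥ : Ideal A).jacobson := by
      rw [isJacobsonRing_iff_prime_eq.mp this |> fun _ => Ideal.radical_eq_jacobson ⊥]
    obtain ⟨m, hm, ham⟩ : ∃ m : Ideal A, m.IsMaximal ∧ a ∉ m := by
      by_contra hc
      push Not at hc
      apply hnil
      have h1 : a ∈ (⊥ : Ideal A).jacobson := by
        simp only [Ideal.jacobson, Submodule.mem_sInf]
        exact fun m hm => hc m hm.2
      rw [← hr] at h1
      exact h1
    let := Ideal.Quotient.field m
    have : Module.Finite k (A ⧸ m) := finite_of_finite_type_of_isJacobsonRing k (A ⧸ m)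
    have hbij : Function.Bijective (algebraMap k (A ⧸ m)) := IsAlgClosed.algebraMap_bijective_of_isIntegral
    let g : A →ₐ[k] k :=
      ((AlgEquiv.ofBijective (Algebra.ofId k (A ⧸ m)) hbij).symm.toAlgHom).comp (Ideal.Quotient.mkₐ k m)
    have h2 := ha g
    simp only [g, AlgHom.comp_apply] at h2
    exact ham (Ideal.Quotient.eq_zero_iff_mem.mp
      ((AlgEquiv.ofBijective (Algebra.ofId k (A ⧸ m)) hbij).symm.injective (h2.trans (map_zero _).symm)))
  -- stability under the points
  have hstab : ∀ (g : A →ₐ[k] k), ∀ u ∈ E, Groth.Agent.ComodLib.actF g.toLinearMap u ∈ E := by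
    intro g u hu
    induction hu using Submodule.span_induction with
    | mem y hy =>
      obtain ⟨h, rfl⟩ := hy
      refine Submodule.subset_span ⟨(WithConv.toConv g * WithConv.toConv h).ofConv, ?_⟩
      simp only [hact]
      exact Groth.Agent.ComodLib.actF_convMul (WithConv.toConv g.toLinearMap)
        (WithConv.toConv h.toLinearMap) v
    | zero => rw [map_zero]; exact E.zero_mem
    | add p q _ _ hp hq => rw [map_add]; exact E.add_mem hp hq
    | smul c p _ hp => rw [map_smul]; exact E.smul_mem c hp
  refine ⟨?_, ?_, ?_⟩
  · intro u hu
    have hz : E.mkQ.rTensor A (HopfRep.Comod.coact (k := k) (A := A) u) = 0 := by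
      let b := Module.Basis.ofVectorSpace k (V ⧸ E)
      apply (TensorProduct.equivFinsuppOfBasisLeft b).injective
      refine Finsupp.ext fun i => ?_
      rw [map_zero, Finsupp.zero_apply, TensorProduct.equivFinsuppOfBasisLeft_apply]
      refine hsep _ fun g => ?_
      have key : ∀ z : V ⊗[k] A, g (TensorProduct.lid k A ((b.coord i).rTensor A (E.mkQ.rTensor A z))) =
          b.coord i (E.mkQ (Groth.Agent.ComodLib.slice g.toLinearMap z)) := by
        intro z
        induction z using TensorProduct.induction_on with
        | zero => simp
        | tmul y a => simp [mul_comm]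
        | add p q hp hq => simp only [map_add, hp, hq]
      rw [key, ← Groth.Agent.ComodLib.actF_apply,
        show E.mkQ (Groth.Agent.ComodLib.actF g.toLinearMap u) = 0 from
          (Submodule.Quotient.mk_eq_zero E).mpr (hstab g u hu), map_zero]
    exact (rTensor_exact A (LinearMap.exact_subtype_mkQ E) E.mkQ_surjective _).mp hz
  · refine Submodule.subset_span ⟨Bialgebra.counitAlgHom k A, ?_⟩
    simp only [hact]
    exact Groth.Agent.ComodLib.actF_counit v
  · intro W hW hv
    refine Submodule.span_le.mpr ?_
    rintro _ ⟨g, rfl⟩
    exact Groth.Agent.ComodLib.subcomod_actF_mem hW _ hv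


end Groth.Agent.S5376
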