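import Groth.Statements.S5377
-- import your own Groth.Agent.* helpers here

set_option autoImplicit false
universe u
open CategoryTheory CategoryTheory.Limits MonoidalCategory CartesianMonoidalCategory MonObj GrpObj AlgebraicGeometry
open SGA3

namespace Groth.Agent.S5377

open Limits in
theorem exists_lift {J : Type u} [SmallCategory J] [IsFiltered J] (F : J ⥤ CommRingCat.{u}) {κ : Type*} [Finite κ]
    (x : κ → (colimit F : CommRingCat.{u})) : ∃ (k : J) (y : κ → F.obj k), ∀ i, colimit.ι F k (y i) = x i := by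
  classical
  choose j y hy using fun i => Concrete.colimit_exists_rep F (x i)
  cases nonempty_fintype κ
  obtain ⟨k, hk⟩ := IsFiltered.sup_objs_exists (Finset.univ.image j)
  let f : ∀ i, j i ⟶ k := fun i => (hk (Finset.mem_image_of_mem j (Finset.mem_univ i))).some
  exact ⟨k, fun i => F.map (f i) (y i), fun i => by
    rw [← hy i]; exact congrArg (fun g => g.hom (y i)) (colimit.w F (f i))⟩

open Limits in
theorem exists_map_eq {J : Type u} [SmallCategory J] [IsFiltered J] (F : J ⥤ CommRingCat.{u}) {k : J}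
    (a b : F.obj k) (h : colimit.ι F k a = colimit.ι F k b) : ∃ (k' : J) (f : k ⟶ k'), F.map f a = F.map f b := by
  obtain ⟨k', f, g, hfg⟩ := Concrete.colimit_exists_of_rep_eq F a b h
  refine ⟨IsFiltered.coeq f g, f ≫ IsFiltered.coeqHom f g, ?_⟩
  conv_rhs => rw [IsFiltered.coeq_condition f g]
  rw [Functor.map_comp, Functor.map_comp, CommRingCat.comp_apply, CommRingCat.comp_apply, hfg]

open Limits in
theorem exists_lift₂ {J : Type u} [SmallCategory J] [IsFiltered J] (C A : J ⥤ CommRingCat.{u}) (φ : C ⟶ A)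
    {κ : Type*} [Fintype κ] (f : κ → (colimit C : CommRingCat.{u})) (x : κ → (colimit A : CommRingCat.{u})) (r : ∀ j, A.obj j)
    (hr : ∀ (j j' : J) (g : j ⟶ j'), A.map g (r j) = r j')
    (e : ∀ j, ∑ i, (colimMap φ) (f i) * x i = colimit.ι A j (r j)) :
    ∃ (k : J) (f' : κ → C.obj k) (x' : κ → A.obj k), (∀ i, colimit.ι C k (f' i) = f i) ∧
      (∀ i, colimit.ι A k (x' i) = x i) ∧ ∑ i, φ.app k (f' i) * x' i = r k := by
  obtain ⟨j₁, f₁, hf₁⟩ := exists_lift C f
  obtain ⟨j₂, x₂, hx₂⟩ := exists_lift A x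
  obtain ⟨k₀, g₁, g₂, -⟩ : ∃ (k : J) (_ : j₁ ⟶ k) (_ : j₂ ⟶ k), True :=
    ⟨IsFiltered.max j₁ j₂, IsFiltered.leftToMax _ _, IsFiltered.rightToMax _ _, trivial⟩
  have hC : ∀ {a b : J} (g : a ⟶ b) (y : C.obj a), colimit.ι C b (C.map g y) = colimit.ι C a y :=
    fun g y => congrArg (fun h => h.hom y) (colimit.w C g)
  have hA : ∀ {a b : J} (g : a ⟶ b) (y : A.obj a), colimit.ι A b (A.map g y) = colimit.ι A a y :=
    fun g y => congrArg (fun h => h.hom y) (colimit.w A g)
  have hφ : ∀ {a : J} (y : C.obj a), colimit.ι A a (φ.app a y) = colimMap φ (colimit.ι C a y) :=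
    fun {a} y => (congrArg (fun h => h.hom y) (ι_colimMap φ a)).symm
  obtain ⟨k, g, hg⟩ := exists_map_eq A (∑ i, φ.app k₀ (C.map g₁ (f₁ i)) * A.map g₂ (x₂ i)) (r k₀) (by
    rw [map_sum, ← e k₀]
    exact Finset.sum_congr rfl fun i _ => by rw [map_mul, hφ, hC, hA, hf₁, hx₂])
  refine ⟨k, fun i => C.map g (C.map g₁ (f₁ i)), fun i => A.map g (A.map g₂ (x₂ i)),
    fun i => by rw [hC, hC, hf₁], fun i => by rw [hA, hA, hx₂], ?_⟩
  rw [map_sum, hr] at hg
  rw [← hg]
  refine Finset.sum_congr rfl fun i _ => ?_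
  rw [map_mul]
  exact congrArg (· * _) (congrArg (fun h => h.hom (C.map g₁ (f₁ i))) (φ.naturality g))

/-- Let (C_i → A_i)_i be a filtered direct system of homomorphisms of commutative rings, each of which
is faithfully flat. Then the induced homomorphism colim C_i → colim A_i is faithfully flat. -/
theorem result (J : Type u) [SmallCategory J] [IsFiltered J]
    (C A : J ⥤ CommRingCat.{u}) (φ : C ⟶ A) (h : ∀ j : J, (φ.app j).hom.FaithfullyFlat) :
    (colimMap φ).hom.FaithfullyFlat := by
  classical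
  algebraize [(colimMap φ).hom]
  rw [show (colimMap φ).hom = algebraMap (Limits.colimit C : CommRingCat.{u}) (Limits.colimit A : CommRingCat.{u}) from rfl,
    RingHom.faithfullyFlat_algebraMap_iff]
  have : Module.Flat (Limits.colimit C : CommRingCat.{u}) (Limits.colimit A : CommRingCat.{u}) := by
    refine Module.Flat.of_forall_isTrivialRelation fun {l f x} e => ?_
    obtain ⟨k, f', x', hf', hx', e'⟩ := exists_lift₂ C A φ f x (fun _ => 0) (fun _ _ _ => map_zero _)
      (fun j => by rw [map_zero, ← e]; rfl)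
    letI := (φ.app k).hom.toAlgebra
    haveI : Module.Flat (C.obj k) (A.obj k) := (h k).flat
    obtain ⟨n, a, y, hy, ha⟩ := Module.Flat.isTrivialRelation_of_sum_smul_eq_zero (R := C.obj k) (M := A.obj k) e'
    refine ⟨n, fun i j => Limits.colimit.ι C k (a i j), fun j => Limits.colimit.ι A k (y j), fun i => ?_, fun j => ?_⟩
    · rw [← hx' i, hy i, map_sum]
      refine Finset.sum_congr rfl fun j _ => ?_
      show Limits.colimit.ι A k (φ.app k (a i j) * y j) = colimMap φ (Limits.colimit.ι C k (a i j)) * _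
      rw [map_mul]
      exact congrArg (· * _) (congrArg (fun g => g.hom (a i j)) (Limits.ι_colimMap φ k)).symm
    · simp only [← hf']
      rw [← map_zero (Limits.colimit.ι C k).hom, ← ha j, map_sum]
      exact Finset.sum_congr rfl fun i _ => (map_mul _ _ _).symm
  refine Module.FaithfullyFlat.iff_flat_and_proper_ideal _ _ |>.mpr ⟨this, fun m hm htop => hm ?_⟩
  have h1 : (1 : (Limits.colimit A : CommRingCat.{u})) ∈ m • (⊤ : Submodule (Limits.colimit C : CommRingCat.{u}) (Limits.colimit A : CommRingCat.{u})) := by rw [htop]; trivial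
  obtain ⟨n, c, x, e⟩ : ∃ (n : ℕ) (c : Fin n → m) (x : Fin n → (Limits.colimit A : CommRingCat.{u})),
      ∑ i, colimMap φ (c i : (Limits.colimit C : CommRingCat.{u})) * x i = 1 := by
    generalize (1 : (Limits.colimit A : CommRingCat.{u})) = t at h1 ⊢
    refine Submodule.smul_induction_on h1 (fun r hr y _ => ⟨1, fun _ => ⟨r, hr⟩, fun _ => y, ?_⟩) ?_
    · rw [Fin.sum_univ_one]; rfl
    · rintro a b ⟨n₁, c₁, x₁, rfl⟩ ⟨n₂, c₂, x₂, rfl⟩
      exact ⟨n₁ + n₂, Fin.append c₁ c₂, Fin.append x₁ x₂, by rw [Fin.sum_univ_add]; simp⟩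
  obtain ⟨k, c', x', hc', -, e'⟩ := exists_lift₂ C A φ (fun i => (c i : (Limits.colimit C : CommRingCat.{u}))) x (fun _ => 1)
    (fun _ _ _ => map_one _) (fun j => by rw [map_one]; exact e)
  letI := (φ.app k).hom.toAlgebra
  have hk : Module.FaithfullyFlat (C.obj k) (A.obj k) := h k
  have hcomap : m.comap (Limits.colimit.ι C k).hom = ⊤ := by
    by_contra hne
    refine ((Module.FaithfullyFlat.iff_flat_and_proper_ideal _ _).mp hk).2 _ hne ?_
    refine Submodule.eq_top_iff'.mpr fun z => ?_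
    have hz : z = ∑ i, c' i • (x' i * z) := by
      conv_lhs => rw [← one_mul z, ← e', Finset.sum_mul]
      exact Finset.sum_congr rfl fun i _ => mul_assoc _ _ _
    rw [hz]
    refine Submodule.sum_mem _ fun i _ => Submodule.smul_mem_smul ?_ trivial
    rw [Ideal.mem_comap]
    exact (hc' i).symm ▸ (c i).2
  exact (Ideal.eq_top_iff_one _).mpr (by
    simpa using Ideal.mem_comap.mp ((Ideal.eq_top_iff_one _).mp hcomap))

end Groth.Agent.S5377
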