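import Groth.Statements.S5378
import Groth.Agent.RedImage.AffineTarget
-- import your own Groth.Agent.* helpers here

set_option autoImplicit false
universe u
open CategoryTheory CategoryTheory.Limits MonoidalCategory CartesianMonoidalCategory MonObj GrpObj AlgebraicGeometry
open SGA3

namespace Groth.Agent.S5378

/-- Let k be a field, G a k-group scheme of finite type, G' an affine k-group scheme (not necessarily of
finite type) and u : G → G' a homomorphism. Then u factors as a homomorphism p : G → C which is
surjective and flat (C is the quotient of G by the kernel of u) followed by a homomorphism i : C →
G' which is a closed immersion; in particular C is affine. If moreover u induces an injective map on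
global sections, then i is an isomorphism (so G' is of finite type and u is faithfully flat). -/
theorem result (k : Type u) [Field k] (G G' : Over (Spec (CommRingCat.of k))) [GrpObj G] [GrpObj G']
    [LocallyOfFiniteType G.hom] [QuasiCompact G.hom] [IsAffine G'.left] (u : G ⟶ G') [IsMonHom u] :
    ∃ (C : Over (Spec (CommRingCat.of k))) (_ : GrpObj C) (p : G ⟶ C) (i : C ⟶ G'), IsMonHom p ∧ IsMonHom i ∧
      p ≫ i = u ∧ Surjective p.left ∧ Flat p.left ∧ IsClosedImmersion i.left ∧ IsAffine C.left ∧
      (Function.Injective u.left.appTop.hom → IsIso i) := by
  exact RedImage.exists_factor u

end Groth.Agent.S5378
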