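import Groth.Statements.S5381
import Mathlib.RingTheory.Flat.TorsionFree
import Mathlib.AlgebraicGeometry.Morphisms.Flat
-- import your own Groth.Agent.* helpers here

set_option autoImplicit false
universe u
open CategoryTheory CategoryTheory.Limits MonoidalCategory CartesianMonoidalCategory MonObj GrpObj AlgebraicGeometry
open SGA3

namespace Groth.Agent.S5381

open scoped nonZeroDivisors

/-- For S the spectrum of a Dedekind domain R: let X be a scheme which is flat, quasi-compact and
quasi-separated over R. Then the ring of global sections Γ(X, O_X) is a flat R-module. (The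
published remark takes S locally noetherian and regular of dimension 1 and also observes, when S is
local with closed point s and uniformizer π, that Γ(X, O_X)/πΓ(X, O_X) → Γ(X_s, O_{X_s}) is
injective; this row takes S the spectrum of a Dedekind domain and omits the injectivity.) -/
theorem result (R : Type u) [CommRing R] [IsDedekindDomain R]
    (X : Scheme.{u}) (f : X ⟶ Spec (CommRingCat.of R)) [Flat f] [QuasiCompact f] [QuasiSeparated f] :
    letI := ((Scheme.ΓSpecIso (CommRingCat.of R)).inv ≫ f.appTop).hom.toAlgebra
    Module.Flat R Γ(X, ⊤) := by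
  let := ((Scheme.ΓSpecIso (CommRingCat.of R)).inv ≫ f.appTop).hom.toAlgebra
  rw [IsDedekindDomain.flat_iff_torsion_eq_bot, eq_bot_iff]
  rintro s ⟨⟨r, hr⟩, hrs⟩
  rw [Submodule.mem_bot]
  change r • s = 0 at hrs
  refine TopCat.Sheaf.eq_of_locally_eq' X.sheaf (fun U : X.affineOpens => U.1) ⊤
    (fun U => homOfLE le_top) (le_of_eq (AlgebraicGeometry.iSup_affineOpens_eq_top X).symm) s 0 fun U => ?_
  rw [map_zero]
  let θ := (Scheme.ΓSpecIso (CommRingCat.of R)).inv ≫ f.appLE ⊤ U.1 le_top
  have hflat : θ.hom.Flat := by
    rw [CommRingCat.hom_comp]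
    exact (RingHom.Flat.of_bijective
      (ConcreteCategory.bijective_of_isIso (Scheme.ΓSpecIso (CommRingCat.of R)).inv)).comp
      (f.flat_appLE (isAffineOpen_top _) U.2 le_top)
  let : Algebra R Γ(X, U.1) := θ.hom.toAlgebra
  have : Module.Flat R Γ(X, U.1) := hflat
  set t := (X.presheaf.map (homOfLE le_top : U.1 ⟶ ⊤).op).hom s with ht
  have h1 : r • t = 0 := by
    have h2 := congrArg (X.presheaf.map (homOfLE le_top : U.1 ⟶ ⊤).op).hom hrs
    rw [Algebra.smul_def, map_mul, map_zero] at h2
    rw [Algebra.smul_def, ← h2]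
    rfl
  have h3 := Module.Flat.isSMulRegular_of_nonZeroDivisors (M := Γ(X, U.1)) hr
  exact h3 (h1.trans (smul_zero r).symm)


end Groth.Agent.S5381
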