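import Groth.Statements.S5382
import Groth.Agent.GrpHull.FiniteType

set_option backward.isDefEq.respectTransparency false
set_option backward.isDefEq.respectTransparency.types false

set_option autoImplicit false
universe u
open CategoryTheory CategoryTheory.Limits MonoidalCategory CartesianMonoidalCategory MonObj GrpObj AlgebraicGeometry
open SGA3

namespace Groth.Agent.S5382

/-- (iii) (for S the spectrum of a Dedekind domain R with fraction field K): let G be an R-group scheme
which is flat and of finite type over R, and ρ : G → Spec O(G) the canonical morphism to its affine
hull. (ii) ρ is locally of finite presentation and Spec O(G) is of finite type over R. (iii) If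
moreover the generic fibre G_K is affine, then the kernel of ρ (the fibre of ρ over the image of the
unit section) is etale over R. (The published statement also asserts that ρ is quasi-compact and
quasi-separated, that Spec O(G) represents the fppf quotient of G by this kernel, and that the
kernel is trivial when G is separated; this row omits those assertions.) -/
theorem result (R : Type u) [CommRing R] [IsDedekindDomain R]
    (K : Type u) [Field K] [Algebra R K] [IsFractionRing R K]
    (G : Over (Spec (CommRingCat.of R))) [GrpObj G] [Flat G.hom] [QuasiCompact G.hom] [QuasiSeparated G.hom]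
    [LocallyOfFiniteType G.hom] :
    LocallyOfFinitePresentation G.left.toSpecΓ ∧
    LocallyOfFiniteType (Spec.map G.hom.appTop ≫ (Spec (CommRingCat.of R)).isoSpec.inv) ∧
    (IsAffine (pullback G.hom (Spec.map (CommRingCat.ofHom (algebraMap R K)))) →
      Etale (pullback.snd G.left.toSpecΓ (η[G].left ≫ G.left.toSpecΓ) ≫ (𝟙_ (Over (Spec (CommRingCat.of R)))).hom)) := by
  refine ⟨GrpHull.lfp_toHull G, ?_, fun h => GrpHull.etale_kernel G K h⟩
  have e : Spec.map G.hom.appTop ≫ (Spec (CommRingCat.of R)).isoSpec.inv = Spec.map (GrpHull.scal G.hom) := by
    rw [GrpHull.scal, Spec.map_comp, Scheme.isoSpec_Spec_inv]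
  rw [e]
  exact GrpHull.lft_hull G

end Groth.Agent.S5382
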