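import Groth.Statements.S5384
import Groth.Agent.GrpSchLib.FieldSubgroup
-- import your own Groth.Agent.* helpers here

set_option autoImplicit false
universe u
open CategoryTheory CategoryTheory.Limits MonoidalCategory CartesianMonoidalCategory MonObj GrpObj AlgebraicGeometry
open SGA3

namespace Groth.Agent.S5384

/-- Let A be a local artinian ring, G an A-group scheme and u : H → G a homomorphism of A-group schemes
which is an immersion (a subgroup scheme; no finiteness is assumed). Then u is a closed immersion. -/
theorem result (A : Type u) [CommRing A] [IsArtinianRing A] [IsLocalRing A] (G H : Over (Spec (CommRingCat.of A))) [GrpObj G] [GrpObj H]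
    (u : H ⟶ G) [IsMonHom u] [IsImmersion u.left] : IsClosedImmersion u.left := by
  let j : Spec (CommRingCat.of (IsLocalRing.ResidueField A)) ⟶ Spec (CommRingCat.of A) :=
    Spec.map (CommRingCat.ofHom (IsLocalRing.residue A))
  let ub : (Over.pullback j).obj H ⟶ (Over.pullback j).obj G := (Over.pullback j).map u
  have hub : ub.left = pullback.map _ _ _ _ u.left (𝟙 _) (𝟙 _) (by simp) (by simp) := by
    apply pullback.hom_ext <;> simp [ub, pullback.map, pullback.lift_fst, pullback.lift_snd]
  let fb := pullback.fst G.hom j
  have hr : Set.range ub.left = fb ⁻¹' Set.range u.left := by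
    rw [hub, Scheme.Pullback.range_map]
    simp [fb]
  have hfs : Function.Surjective fb := by
    rw [← Set.range_eq_univ, Scheme.Pullback.range_fst, Set.preimage_eq_univ_iff]
    haveI : Subsingleton ↥(Spec (CommRingCat.of A)) :=
      inferInstanceAs (Subsingleton (PrimeSpectrum A))
    intro x _
    exact ⟨IsLocalRing.closedPoint _, Subsingleton.elim _ _⟩
  have hfc : IsClosedMap fb := by
    haveI : IsClosedImmersion j := IsClosedImmersion.spec_of_surjective _ Ideal.Quotient.mk_surjective
    haveI : IsClosedImmersion fb := MorphismProperty.pullback_fst _ _ inferInstance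
    exact fb.isClosedEmbedding.isClosedMap
  haveI : IsMonHom ub := inferInstanceAs (IsMonHom ((Over.pullback j).map u))
  have hlc : IsLocallyClosed (Set.range ub.left) := by
    rw [hr]
    exact u.left.isLocallyClosed_range.preimage fb.continuous
  have hcl := Groth.Agent.GrpSchLib.isClosed_range_of_isLocallyClosed ub hlc
  refine IsClosedImmersion.of_isPreimmersion u.left ?_
  rw [← Set.image_preimage_eq (Set.range u.left) hfs, ← hr]
  exact hfc _ hcl

end Groth.Agent.S5384
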