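import Groth.Statements.S5387
import Mathlib.AlgebraicGeometry.Group.Smooth

set_option autoImplicit false
universe u
open CategoryTheory CategoryTheory.Limits MonoidalCategory CartesianMonoidalCategory MonObj GrpObj AlgebraicGeometry
open SGA3

namespace Groth.Agent.S5387

/-- Let k be an algebraically closed field, G a group scheme locally of finite type over k and x a
closed point of G. Then the local ring of G at x is isomorphic to the local ring of G at the unit
point (an isomorphism is induced by a translation; this row asserts the existence of an isomorphism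
of rings). -/
theorem result (k : Type u) [Field k] [IsAlgClosed k] (G : Over (Spec (CommRingCat.of k))) [GrpObj G]
    [LocallyOfFiniteType G.hom] (pt : ↥(𝟙_ (Over (Spec (CommRingCat.of k)))).left) (x : G.left) (hx : IsClosed ({x} : Set G.left)) :
    Nonempty (G.left.presheaf.stalk (η[G].left.base pt) ≅ G.left.presheaf.stalk x) := by
  let x' : 𝟙_ _ ⟶ G := Over.homMk _ ((pointEquivClosedPoint G.hom).symm ⟨x, hx⟩).2
  let α := GrpObj.mulRight (A := G) x'
  have hα : η[G] ≫ α.hom = x' := by
    simp only [α, GrpObj.mulRight_hom, comp_lift_assoc, Category.comp_id]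
    rw [← Hom.mul_def, ← Category.assoc, toUnit_unique (η[G] ≫ toUnit G) (𝟙 _), Category.id_comp,
      show η[G] = 1 from by rw [Hom.one_def, toUnit_unique (toUnit _) (𝟙 _), Category.id_comp], _root_.one_mul]
  have : IsIso α.hom.left := inferInstanceAs (IsIso ((Over.forget _).map α.hom))
  have hpt : x'.left.base pt = x := by
    have : Subsingleton ↥(𝟙_ (Over (Spec (CommRingCat.of k)))).left := inferInstanceAs (Subsingleton (PrimeSpectrum k))
    have h := congrArg (fun p => p.1) ((pointEquivClosedPoint G.hom).apply_symm_apply ⟨x, hx⟩)
    rw [Subsingleton.elim pt (IsLocalRing.closedPoint k)]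
    simpa [x', pointEquivClosedPoint] using h
  have he : α.hom.left.base (η[G].left.base pt) = x := by
    rw [← Scheme.Hom.comp_apply, ← Over.comp_left, hα, hpt]
  exact ⟨(asIso (α.hom.left.stalkMap (η[G].left.base pt))).symm ≪≫ eqToIso (congrArg G.left.presheaf.stalk he)⟩

end Groth.Agent.S5387
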