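import Groth.Statements.S5388
import Groth.Agent.S5337
import Groth.Agent.S2155
-- import your own Groth.Agent.* helpers here

set_option autoImplicit false
universe u
open CategoryTheory CategoryTheory.Limits MonoidalCategory CartesianMonoidalCategory MonObj GrpObj AlgebraicGeometry
open SGA3

namespace Groth.Agent.S5388

open scoped TensorProduct

/-- A finite type algebra whose base change to a perfect field is reduced at some point has nonempty
smooth locus. -/
theorem nonempty_smoothLocus (k C O K : Type u) [Field k] [Field K] [Algebra k K] [PerfectField K]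
    [CommRing C] [Algebra k C] [Algebra.FiniteType k C] (q : Ideal C) [q.IsPrime]
    [CommRing O] [Algebra C O] [Algebra k O] [IsScalarTower k C O] [IsLocalization q.primeCompl O]
    (hred : IsReduced (K ⊗[k] O))
    [LocallyOfFinitePresentation (Spec.map (CommRingCat.ofHom (algebraMap k C)))] :
    ∃ z, z ∈ (Spec.map (CommRingCat.ofHom (algebraMap k C))).smoothLocus := by
  haveI : IsNoetherianRing C := Algebra.FiniteType.isNoetherianRing k C
  haveI : IsReduced (O ⊗[k] K) :=
    isReduced_of_injective (Algebra.TensorProduct.comm k O K) (Algebra.TensorProduct.comm k O K).injective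
  let g : C →ₗ[C] O := Algebra.linearMap C O
  haveI : IsLocalizedModule q.primeCompl g := inferInstance
  let L := TensorProduct.AlgebraTensorModule.rTensor k K g
  let R := C ⊗[k] K
  letI : Algebra K R := Algebra.TensorProduct.rightAlgebra
  haveI : Algebra.FiniteType K R := by
    haveI : Algebra.IsPushout k K C R := Algebra.IsPushout.symm inferInstance
    exact RingHom.finiteType_algebraMap.mp
      (RingHom.finiteType_isStableUnderBaseChange k C K R (RingHom.finiteType_algebraMap.mpr inferInstance))
  haveI : IsNoetherianRing R := Algebra.FiniteType.isNoetherianRing K R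
  -- one element kills all nilpotents
  have kill : ∀ x : R, IsNilpotent x → ∃ t ∈ q.primeCompl, (t ⊗ₜ[k] (1 : K)) * x = 0 := by
    intro x hx
    let φ : R →ₐ[k] O ⊗[k] K := Algebra.TensorProduct.map (IsScalarTower.toAlgHom k C O) (AlgHom.id k K)
    have hφ : ∀ y, L y = φ y := fun y => by
      induction y using TensorProduct.induction_on with
      | zero => simp
      | tmul a b =>
        simp only [L, φ, TensorProduct.AlgebraTensorModule.rTensor_tmul, Algebra.TensorProduct.map_tmul]
        rfl
      | add a b ha hb => simp [map_add, ha, hb]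
    have h0 : L x = 0 := by rw [hφ]; exact (hx.map φ).eq_zero
    obtain ⟨t, ht⟩ := (IsLocalizedModule.eq_zero_iff q.primeCompl L).mp h0
    refine ⟨t, t.2, ?_⟩
    rw [← ht, Submonoid.smul_def, Algebra.smul_def, Algebra.TensorProduct.algebraMap_apply, Algebra.algebraMap_self,
      RingHom.id_apply]
  obtain ⟨S, hS⟩ : ∃ S : Finset R, Ideal.span (S : Set R) = nilradical R :=
    (IsNoetherian.noetherian (nilradical R) : (nilradical R).FG)
  choose t htq ht using fun x : S => kill x.1 (show x.1 ∈ nilradical R from hS ▸ Ideal.subset_span x.2)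
  let s : R := (∏ x : S, t x) ⊗ₜ[k] (1 : K)
  have hs : ∀ x : R, IsNilpotent x → s * x = 0 := by
    intro x hx
    have hx' : x ∈ Ideal.span (S : Set R) := hS.symm ▸ hx
    induction hx' using Submodule.span_induction with
    | mem y hy =>
      have hd : t ⟨y, hy⟩ ∣ ∏ z : S, t z := Finset.dvd_prod_of_mem _ (Finset.mem_univ _)
      obtain ⟨c, hc⟩ := hd
      show (∏ z : S, t z) ⊗ₜ[k] (1 : K) * y = 0
      rw [hc, mul_comm (t ⟨y, hy⟩) c, show (c * t ⟨y, hy⟩) ⊗ₜ[k] (1 : K) = (c ⊗ₜ[k] (1 : K)) * (t ⟨y, hy⟩ ⊗ₜ[k] 1) by simp, _root_.mul_assoc, ht, mul_zero]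
    | zero => simp
    | add a b ha' hb' iha ihb =>
      rw [mul_add, iha (show a ∈ nilradical R from hS ▸ ha'), ihb (show b ∈ nilradical R from hS ▸ hb'), add_zero]
    | smul c a ha' iha =>
      rw [smul_eq_mul, mul_left_comm, iha (show a ∈ nilradical R from hS ▸ ha'), mul_zero]
  have hsnil : ¬ IsNilpotent s := by
    intro h
    let χ : C →+* R := Algebra.TensorProduct.includeLeftRingHom
    have hinj : Function.Injective χ := Algebra.TensorProduct.includeLeft_injective (R := k) (A := C) (B := K) (S := k) (algebraMap k K).injective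
    obtain ⟨n, hn⟩ := h
    have : (∏ x : S, t x) ^ n = 0 := hinj (by rw [map_pow, map_zero]; exact hn)
    exact (prod_mem fun x _ => htq x : (∏ x : S, t x) ∈ q.primeCompl)
      (Ideal.IsPrime.mem_of_pow_mem ‹_› n (this ▸ q.zero_mem))
  let Rs := Localization.Away s
  haveI : IsReduced Rs := by
    refine ⟨fun x ⟨n, hn⟩ => ?_⟩
    obtain ⟨⟨a, b⟩, hab⟩ := IsLocalization.surj (Submonoid.powers s) x
    have : algebraMap R Rs (a ^ n) = 0 := by
      rw [map_pow, ← hab, mul_pow, hn, zero_mul]
    obtain ⟨⟨_, m, rfl⟩, hm⟩ := (IsLocalization.map_eq_zero_iff (Submonoid.powers s) Rs _).mp this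
    have hnil : IsNilpotent (s ^ m * a) := ⟨n + 1, by
      rw [mul_pow, pow_succ (s ^ m) n, pow_succ a n]
      have hm' : s ^ m * a ^ n = 0 := hm
      linear_combination ((s ^ m) ^ n * a) * hm'⟩
    have h2 : s ^ (m + 1) * a = 0 := by rw [pow_succ', _root_.mul_assoc]; exact hs _ hnil
    have h3 : algebraMap R Rs a = 0 :=
      (IsLocalization.map_eq_zero_iff (Submonoid.powers s) Rs _).mpr ⟨⟨_, m + 1, rfl⟩, h2⟩
    exact (IsLocalization.map_units Rs b).mul_left_eq_zero.mp (hab.trans h3)
  haveI : Nontrivial Rs := by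
    refine not_subsingleton_iff_nontrivial.mp fun h => hsnil ?_
    obtain ⟨⟨_, m, rfl⟩, hm⟩ := (IsLocalization.map_eq_zero_iff (Submonoid.powers s) Rs (1 : R)).mp (Subsingleton.elim _ _)
    exact ⟨m, by simpa using hm⟩
  let j : Spec (CommRingCat.of Rs) ⟶ Spec (CommRingCat.of R) := Spec.map (CommRingCat.ofHom (algebraMap R Rs))
  haveI : IsOpenImmersion j := IsOpenImmersion.of_isLocalization s
  let ψ : Spec (CommRingCat.of R) ⟶ Spec (CommRingCat.of K) := Spec.map (CommRingCat.ofHom (algebraMap K R))
  haveI : LocallyOfFinitePresentation ψ := by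
    rw [LocallyOfFinitePresentation.iff_locallyOfFiniteType, HasRingHomProperty.Spec_iff (P := @LocallyOfFiniteType)]
    exact RingHom.finiteType_algebraMap.mpr ‹_›
  obtain ⟨z, hz⟩ := (Scheme.Hom.dense_smoothLocus_of_perfectField (j ≫ ψ)).nonempty
  rw [← Scheme.Hom.preimage_smoothLocus_eq] at hz
  let τ := Spec.map (CommRingCat.ofHom (algebraMap k K))
  have hflat : Flat τ := by
    rw [HasRingHomProperty.Spec_iff (P := @Flat)]
    exact RingHom.Flat.of_isField (Field.toIsField k) _
  have hsq : IsPullback ((pullbackSpecIso k C K).inv ≫ Limits.pullback.fst _ _) ψ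
      (Spec.map (CommRingCat.ofHom (algebraMap k C))) τ :=
    IsPullback.of_iso (IsPullback.of_hasPullback _ _) (pullbackSpecIso k C K) (Iso.refl _) (Iso.refl _) (Iso.refl _)
      (by simp) (by rw [Iso.refl_hom, Category.comp_id]; exact (pullbackSpecIso_hom_snd k C K).symm) (by simp [τ]) (by simp [τ])
  have := S2155.result _ τ ψ _ hsq (.inr hflat)
  exact ⟨_, (this.le hz :)⟩

/-- Let G be a group scheme locally of finite type over a field k, e its unit point and K a perfect
extension field of k. If K ⊗_k O_{G,e} is a reduced ring, then G is smooth over k. (The published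
statement is for a group flat and locally of finite type over a local artinian ring, with K the
perfect closure of the residue field; this row is the case of a base field, with K any perfect
extension.) -/
theorem result (k : Type u) [Field k] (G : Over (Spec (CommRingCat.of k))) [GrpObj G]
    [LocallyOfFiniteType G.hom] (pt : ↥(𝟙_ (Over (Spec (CommRingCat.of k)))).left) (K : Type u) [Field K] [Algebra k K] [PerfectField K] :
    letI := ((Scheme.ΓSpecIso (CommRingCat.of k)).inv ≫ G.hom.appTop ≫ G.left.presheaf.germ ⊤ (η[G].left.base pt) trivial).hom.toAlgebra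
    IsReduced (TensorProduct k K (G.left.presheaf.stalk (η[G].left.base pt))) → Smooth G.hom := by
  intro hred
  haveI : IsArtinianRing k := inferInstance
  obtain ⟨U, hU, heU, -⟩ := exists_isAffineOpen_mem_and_subset (X := G.left) (x := η[G].left.base pt) (U := ⊤) trivial
  let C := Γ(G.left, U)
  let φ : k →+* C := (G.hom.appLE ⊤ U le_top).hom.comp (Scheme.ΓSpecIso (CommRingCat.of k)).inv.hom
  letI : Algebra k C := φ.toAlgebra
  haveI : Algebra.FiniteType k C := (G.hom.finiteType_appLE (isAffineOpen_top _) hU le_top).comp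
    (RingHom.FiniteType.of_surjective _ (Scheme.ΓSpecIso (CommRingCat.of k)).commRingCatIsoToRingEquiv.symm.surjective)
  let x := η[G].left.base pt
  letI := ((Scheme.ΓSpecIso (CommRingCat.of k)).inv ≫ G.hom.appTop ≫ G.left.presheaf.germ ⊤ x trivial).hom.toAlgebra
  letI := TopCat.Presheaf.algebra_section_stalk G.left.presheaf ⟨x, heU⟩
  haveI : IsLocalization (hU.primeIdealOf ⟨x, heU⟩).asIdeal.primeCompl (G.left.presheaf.stalk x) :=
    hU.isLocalization_stalk ⟨x, heU⟩
  haveI : IsScalarTower k C (G.left.presheaf.stalk x) := IsScalarTower.of_algebraMap_eq' (by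
    rw [RingHom.algebraMap_toAlgebra, RingHom.algebraMap_toAlgebra, RingHom.algebraMap_toAlgebra]
    ext a
    show G.left.presheaf.germ ⊤ x trivial _ = G.left.presheaf.germ U x heU (G.left.presheaf.map _ _)
    exact (TopCat.Presheaf.germ_res_apply _ _ _ _ _).symm)
  have hC : hU.fromSpec ≫ G.hom = Spec.map (CommRingCat.ofHom (algebraMap k C)) := by
    rw [RingHom.algebraMap_toAlgebra, ← IsAffineOpen.SpecMap_appLE_fromSpec G.hom (isAffineOpen_top _) hU le_top,
      IsAffineOpen.fromSpec_top, Scheme.isoSpec_Spec_inv, ← Spec.map_comp]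
    rfl
  haveI : LocallyOfFinitePresentation (Spec.map (CommRingCat.ofHom (algebraMap k C))) := by
    rw [← hC]; infer_instance
  haveI : LocallyOfFinitePresentation (hU.fromSpec ≫ G.hom) := inferInstance
  obtain ⟨z, hz⟩ := nonempty_smoothLocus k C (G.left.presheaf.stalk x) K (hU.primeIdealOf ⟨x, heU⟩).asIdeal hred
  have hz' : hU.fromSpec z ∈ G.hom.smoothLocus := by
    have : z ∈ (hU.fromSpec ≫ G.hom).smoothLocus := by
      simp only [hC]; exact hz
    rwa [← Scheme.Hom.preimage_smoothLocus_eq] at this
  haveI : Smooth (G.hom.smoothLocus.ι ≫ G.hom) := by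
    rw [← Scheme.Hom.smoothLocus_eq_top_iff, ← Scheme.Hom.preimage_smoothLocus_eq G.hom.smoothLocus.ι G.hom,
      Scheme.Opens.ι_preimage_self]
  have e : (toUnit G).left = G.hom := (Category.comp_id _).symm.trans (Over.w (toUnit G))
  have h := (S5337.result k G (𝟙_ (Over (Spec (CommRingCat.of k)))) (toUnit G) G.hom.smoothLocus ⟨_, hz'⟩).2.2.1
    (by rw [e]; infer_instance)
  rwa [e] at h

end Groth.Agent.S5388
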