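import Groth.Statements.S5390
import Groth.Agent.FpqcDescLib.Closed

set_option autoImplicit false
universe u
open CategoryTheory CategoryTheory.Limits MonoidalCategory CartesianMonoidalCategory MonObj GrpObj AlgebraicGeometry
open SGA3

namespace Groth.Agent.S5390

/-- Let P be a property of morphisms of schemes which is local on the target for the fpqc topology
(stable under base change, Zariski-local on the target, descending along flat surjective
quasi-compact morphisms). Let f : X → Y be a morphism, g : Y' → Y a flat morphism whose underlying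
map is open, and f' : X ×_Y Y' → Y' the base change. If W is the largest open of Y over which f has
P and W₁' the largest open of Y' over which f' has P, then W₁' = g⁻¹(W). -/
theorem result (P : MorphismProperty Scheme.{u}) [P.IsStableUnderBaseChange] [IsZariskiLocalAtTarget P]
    [P.DescendsAlong (@Flat ⊓ @Surjective ⊓ @QuasiCompact)]
    (X Y Y' : Scheme.{u}) (f : X ⟶ Y) (g : Y' ⟶ Y) [Flat g] (hg : IsOpenMap g.base)
    (W : Y.Opens) (hW : P (f ∣_ W)) (hmax : ∀ W₀ : Y.Opens, P (f ∣_ W₀) → W₀ ≤ W)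
    (W₁ : Y'.Opens) (hW₁ : P (pullback.snd f g ∣_ W₁)) (hmax₁ : ∀ W₀ : Y'.Opens, P (pullback.snd f g ∣_ W₀) → W₀ ≤ W₁) :
    W₁ = g ⁻¹ᵁ W := by
  have hPd : P.DescendsAlong (@Surjective ⊓ @Flat ⊓ @QuasiCompact) := by
    have e : (@Surjective ⊓ @Flat : MorphismProperty Scheme.{u}) = (@Flat ⊓ @Surjective : MorphismProperty Scheme.{u}) := inf_comm _ _
    rwa [e]
  have H := IsPullback.of_hasPullback f g
  apply le_antisymm
  · let U : Y.Opens := ⟨g.base '' (W₁ : Set Y'), hg _ W₁.2⟩
    have hle : W₁ ≤ g ⁻¹ᵁ U := fun y hy => ⟨y, hy, rfl⟩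
    let q : (W₁ : Scheme.{u}) ⟶ U := g.resLE U W₁ hle
    have hqe : q ≫ U.ι = W₁.ι ≫ g := g.resLE_comp_ι hle
    have : Surjective q := ⟨fun ⟨_, y, hy, e⟩ => ⟨⟨y, hy⟩, Subtype.ext
      ((congrArg (fun φ => φ.base (⟨y, hy⟩ : W₁)) hqe).trans e)⟩⟩
    have hq : FpqcDescLib.IsCovering q := FpqcDescLib.isCovering_of_isOpenMap q fun s hs => by
      rw [U.ι.isOpenEmbedding.isOpen_iff_image_isOpen, Set.image_image]
      have e : (fun x => U.ι.base (q.base x)) '' s = g.base '' (W₁.ι.base '' s) := by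
        rw [Set.image_image]
        exact Set.image_congr fun x _ => congrArg (fun φ => φ.base x) hqe
      exact e ▸ hg _ (W₁.ι.isOpenEmbedding.isOpenMap _ hs)
    have hU : U ≤ W := hmax U (by
      refine (FpqcDescLib.covers_of_isCovering hq).descends P (f ∣_ U) (pullback.snd f g ∣_ W₁)
        ((isPullback_morphismRestrict f U).flip.lift ((pullback.snd f g ⁻¹ᵁ W₁).ι ≫ pullback.fst f g)
          (pullback.snd f g ∣_ W₁ ≫ q) ?_) ?_ hW₁
      · rw [Category.assoc, Category.assoc, hqe, reassoc_of% morphismRestrict_ι, ← pullback.condition]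
      · refine IsPullback.of_right' (h₁₃ := (pullback.snd f g ⁻¹ᵁ W₁).ι ≫ pullback.fst f g) ?_
          (isPullback_morphismRestrict f U).flip |>.flip
        rw [hqe]
        exact (isPullback_morphismRestrict (pullback.snd f g) W₁).flip.paste_horiz H)
    exact fun y hy => hU ⟨y, hy, rfl⟩
  · refine hmax₁ _ (MorphismProperty.of_isPullback (P := P) (IsPullback.of_right
      (h₁₁ := IsOpenImmersion.lift (f ⁻¹ᵁ W).ι ((pullback.snd f g ⁻¹ᵁ g ⁻¹ᵁ W).ι ≫ pullback.fst f g) ?_)
      (h₂₁ := g.resLE W (g ⁻¹ᵁ W) le_rfl) ?_ ?_ (isPullback_morphismRestrict f W).flip) hW)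
    · rw [Scheme.Opens.range_ι]
      rintro _ ⟨x, rfl⟩
      have := congrArg (fun φ => φ.base ((pullback.snd f g ⁻¹ᵁ g ⁻¹ᵁ W).ι.base x)) (pullback.condition (f := f) (g := g))
      show f.base _ ∈ W
      exact this ▸ x.2
    · rw [IsOpenImmersion.lift_fac, g.resLE_comp_ι]
      exact (isPullback_morphismRestrict (pullback.snd f g) (g ⁻¹ᵁ W)).flip.paste_horiz H
    · rw [← cancel_mono W.ι]
      simp only [Category.assoc, morphismRestrict_ι, g.resLE_comp_ι, IsOpenImmersion.lift_fac_assoc,
        reassoc_of% morphismRestrict_ι, pullback.condition]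

end Groth.Agent.S5390
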