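import Groth.Statements.S5389
import Groth.Agent.GrpSchLib.Loci
import Groth.Agent.S5390
-- import your own Groth.Agent.* helpers here

set_option autoImplicit false
universe u
open CategoryTheory CategoryTheory.Limits MonoidalCategory CartesianMonoidalCategory MonObj GrpObj AlgebraicGeometry
open SGA3

namespace Groth.Agent.S5389

/-- The points whose image has a neighbourhood over which the morphism has `P`. -/
def tloc (P : MorphismProperty Scheme.{u}) : Agent.GrpSchLib.Saturate.LocusFn.{u} :=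
  fun _ B d => {x | ∃ W : B.Opens, d x ∈ W ∧ P (d ∣_ W)}

theorem exists_max (P : MorphismProperty Scheme.{u}) [IsZariskiLocalAtTarget P] {A B : Scheme.{u}} (d : A ⟶ B) :
    ∃ W : B.Opens, P (d ∣_ W) ∧ ∀ W₀ : B.Opens, P (d ∣_ W₀) → W₀ ≤ W := by
  let W := ⨆ W₀ : {W₀ : B.Opens // P (d ∣_ W₀)}, W₀.1
  refine ⟨W, ?_, fun W₀ h => le_iSup (fun W₀ : {W₀ : B.Opens // P (d ∣_ W₀)} => W₀.1) ⟨W₀, h⟩⟩
  refine IsZariskiLocalAtTarget.of_iSup_eq_top (fun W₀ : {W₀ : B.Opens // P (d ∣_ W₀)} => W.ι ⁻¹ᵁ W₀.1) ?_ fun W₀ => ?_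
  · rw [← Scheme.Hom.preimage_iSup]
    exact top_unique fun x _ => x.2
  · refine (MorphismProperty.arrow_mk_iso_iff P (morphismRestrictRestrict d W _)).mpr ?_
    rw [Scheme.Hom.image_preimage_eq_opensRange_inf, Scheme.Opens.opensRange_ι,
      inf_eq_right.mpr (le_iSup (fun W₀ : {W₀ : B.Opens // P (d ∣_ W₀)} => W₀.1) W₀)]
    exact W₀.2

theorem compat_tloc (P : MorphismProperty Scheme.{u}) [P.IsStableUnderBaseChange] [IsZariskiLocalAtTarget P]
    [P.DescendsAlong (@Flat ⊓ @Surjective ⊓ @QuasiCompact)] :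
    Agent.GrpSchLib.Saturate.IsCompat (tloc P) (@Flat ⊓ @UniversallyOpen) := by
  intro A' A B' B v d' d q h ⟨hq1, hq2⟩ x
  haveI := hq1
  haveI := hq2
  obtain ⟨W, hW, hmax⟩ := exists_max P d
  obtain ⟨W₁, hW₁, hmax₁⟩ := exists_max P (pullback.snd d q)
  have e := S5390.result P _ _ _ d q q.isOpenMap W hW hmax W₁ hW₁ hmax₁
  have hiff : ∀ W₀ : B'.Opens, P (d' ∣_ W₀) ↔ P (pullback.snd d q ∣_ W₀) := by
    intro W₀
    have key : ∀ {Z : Scheme.{u}} {f : Z ⟶ A} {g : Z ⟶ (W₀ : Scheme.{u})},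
        IsPullback f g d (W₀.ι ≫ q) → (P g ↔ P (pullback.snd d (W₀.ι ≫ q))) := fun hp => by
      rw [← hp.isoPullback_hom_snd]
      exact MorphismProperty.cancel_left_of_respectsIso P _ _
    exact (key ((isPullback_morphismRestrict d' W₀).flip.paste_horiz h)).trans
      (key ((isPullback_morphismRestrict (pullback.snd d q) W₀).flip.paste_horiz (IsPullback.of_hasPullback d q))).symm
  constructor
  · rintro ⟨W₀, hx, hW₀⟩
    have : d' x ∈ q ⁻¹ᵁ W := e ▸ hmax₁ W₀ ((hiff W₀).mp hW₀) hx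
    refine ⟨W, ?_, hW⟩
    rw [← Scheme.Hom.comp_apply, h.w]
    exact this
  · rintro ⟨W₀, hx, hW₀⟩
    refine ⟨W₁, ?_, (hiff W₁).mpr hW₁⟩
    rw [e]
    show q (d' x) ∈ W
    rw [← Scheme.Hom.comp_apply, ← h.w]
    exact hmax W₀ hW₀ hx

/-- Let P be a property of morphisms of schemes which is local on the target for the fpqc topology
(stable under base change, Zariski-local on the target, and descending along flat surjective
quasi-compact morphisms). Let u : G → H be a homomorphism of S-group schemes with G flat and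
universally open over S, W the largest open subscheme of H over which the restriction of u has P,
and V = u⁻¹(W). Then the image U of V in S is open and V is an open subgroup scheme of G over U: V
contains the unit point of every fibre of G that it meets, V is stable under the inversion of G, and
the product of a point of G ×_S G whose two projections lie in V lies in V. -/
theorem result (P : MorphismProperty Scheme.{u}) [P.IsStableUnderBaseChange] [IsZariskiLocalAtTarget P]
    [P.DescendsAlong (@Flat ⊓ @Surjective ⊓ @QuasiCompact)]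
    (S : Scheme.{u}) (G H : Over S) [GrpObj G] [GrpObj H] (u : G ⟶ H) [IsMonHom u] [Flat G.hom] [UniversallyOpen G.hom]
    (W : H.left.Opens) (hW : P (u.left ∣_ W)) (hmax : ∀ W' : H.left.Opens, P (u.left ∣_ W') → W' ≤ W) :
    letI V : G.left.Opens := u.left ⁻¹ᵁ W
    IsOpen (G.hom.base '' (V : Set G.left)) ∧
    (∀ g ∈ V, ∀ p : ↥(𝟙_ (Over S)).left, (𝟙_ (Over S)).hom.base p = G.hom.base g → η[G].left.base p ∈ V) ∧
    (∀ g ∈ V, ι[G].left.base g ∈ V) ∧
    (∀ z : ↥(G ⊗ G).left, (fst G G).left.base z ∈ V → (snd G G).left.base z ∈ V → μ[G].left.base z ∈ V) := by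
  let V : G.left.Opens := u.left ⁻¹ᵁ W
  have hR : (@Flat ⊓ @UniversallyOpen : MorphismProperty Scheme.{u}) (V.ι ≫ G.hom) :=
    ⟨inferInstanceAs (Flat (V.ι ≫ G.hom)), inferInstanceAs (UniversallyOpen (V.ι ≫ G.hom))⟩
  haveI : UniversallyOpen (V.ι ≫ G.hom) := hR.2
  haveI : (@Flat ⊓ @UniversallyOpen : MorphismProperty Scheme.{u}).ContainsIdentities :=
    ⟨fun X => ⟨inferInstanceAs (Flat (𝟙 X)), inferInstanceAs (UniversallyOpen (𝟙 X))⟩⟩
  refine ⟨?_, ?_⟩
  · rw [show G.hom.base '' (V : Set G.left) = Set.range (V.ι ≫ G.hom) from ?_]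
    · exact (V.ι ≫ G.hom).isOpenMap.isOpen_range
    · rw [Scheme.Hom.comp_base, TopCat.coe_comp, Set.range_comp, Scheme.Opens.range_ι]
  exact Agent.GrpSchLib.Saturate.subgroup (Agent.GrpSchLib.Saturate.homAction u) u
    (Agent.GrpSchLib.Saturate.equivariant_hom u) (compat_tloc P) V hR
    fun x => ⟨fun hx => ⟨W, hx, hW⟩, fun ⟨W', hx, hW'⟩ => hmax W' hW' hx⟩

end Groth.Agent.S5389
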