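import Groth.Statements.S5393
import Groth.Agent.GeomIrrSpread.NeutralRep
import Groth.Agent.GeomIrrSpread.NeutralImage
import Groth.Agent.GeomIrrSpread.SmoothNeutral
import Groth.Agent.FlatMisc.Fibrewise
import Groth.Agent.FibreLoc5.Smooth
-- import your own Groth.Agent.* helpers here

set_option autoImplicit false
universe u
open CategoryTheory CategoryTheory.Limits MonoidalCategory CartesianMonoidalCategory MonObj GrpObj AlgebraicGeometry
open SGA3

namespace Groth.Agent.S5393

open GrpSchLib GrpSchLib.Neutral

theorem range_eq_of_openImmersion {S : Scheme.{u}} {H N : Over S} [GrpObj H] [GrpObj N]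
    [LocallyOfFinitePresentation H.hom] [LocallyOfFiniteType N.hom]
    (hconn : ∀ s : S, _root_.IsConnected (H.hom ⁻¹' {s})) (j : H ⟶ N) [IsMonHom j] [IsOpenImmersion j.left] :
    Set.range j.left = SGA3x.neutralSet N := by
  have h := neutralSet_eq_univ H fun s => (hconn s).isPreconnected
  refine subset_antisymm ?_ ?_
  · rw [← Set.image_univ, ← h]
    exact GeomIrrSpread.image_neutralSet_subset j
  · intro x hx
    have hu : j.left (unit H (N.hom x)) = unit N (N.hom x) :=
      congrArg (fun m : 𝟙_ (Over S) ⟶ N => m.left (N.hom x)) (IsMonHom.one_hom j)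
    obtain ⟨p, hp1, hp2, hp⟩ := GrpSchLib.Neutral.exists_mul N hx j.left.opensRange ⟨_, hu⟩
    have hr : Set.range (j ⊗ₘ j).left = (fst N N).left ⁻¹' Set.range j.left ∩ (snd N N).left ⁻¹' Set.range j.left := by
      rw [Over.tensorHom_left]
      exact Scheme.Pullback.range_map _ _ _ _ _ _ _ _ _
    obtain ⟨q, hq⟩ : p ∈ Set.range (j ⊗ₘ j).left := hr ▸ ⟨hp1, hp2⟩
    exact ⟨μ[H].left q, by rw [← left_comp_apply, IsMonHom.mul_hom, left_comp_apply, hq, hp]⟩

theorem rep_fibre {S : Scheme.{u}} {H N : Over S} [GrpObj H] [GrpObj N] (j : H ⟶ N)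
    (h : ∀ (T : Over S) (g : T ⟶ N), (∃ z : T ⟶ H, z ≫ j = g) ↔ Set.range g.left.base ⊆ SGA3x.neutralSet N) (s : S)
    (T : Over (Spec (S.residueField s))) (g : T ⟶ (Over.pullback (S.fromSpecResidueField s)).obj N) :
    (∃ z : T ⟶ _, z ≫ (Over.pullback (S.fromSpecResidueField s)).map j = g) ↔
      Set.range g.left.base ⊆ SGA3x.neutralSet ((Over.pullback (S.fromSpecResidueField s)).obj N) := by
  let σ := S.fromSpecResidueField s
  have sq := HomFibre.map_isPullback j σ
  rw [show SGA3x.neutralSet ((Over.pullback σ).obj N) = pullback.fst N.hom σ ⁻¹' SGA3x.neutralSet N from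
    neutralSet_bc N σ]
  have hsub : Set.range g.left ⊆ pullback.fst N.hom σ ⁻¹' SGA3x.neutralSet N ↔
      Set.range (g.left ≫ pullback.fst N.hom σ) ⊆ SGA3x.neutralSet N := by
    rw [Scheme.Hom.comp_base, TopCat.coe_comp, Set.range_comp, Set.image_subset_iff]
  refine Iff.trans ?_ hsub.symm
  let gN : Over.mk (T.hom ≫ σ) ⟶ N := Over.homMk (g.left ≫ pullback.fst N.hom σ) (by
    rw [Category.assoc, pullback.condition, ← Category.assoc]
    exact congrArg (· ≫ σ) (Over.w g))
  refine Iff.trans ⟨?_, ?_⟩ (h _ gN)
  · rintro ⟨z, rfl⟩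
    refine ⟨Over.homMk (z.left ≫ pullback.fst H.hom σ) ?_, Over.OverMorphism.ext ?_⟩
    · rw [Category.assoc, pullback.condition, ← Category.assoc]
      exact congrArg (· ≫ σ) (Over.w z)
    · show (z.left ≫ pullback.fst H.hom σ) ≫ j.left = (z.left ≫ ((Over.pullback σ).map j).left) ≫ pullback.fst N.hom σ
      rw [Category.assoc, Category.assoc, sq.w]
  · rintro ⟨z, hz⟩
    let z' : T ⟶ (Over.pullback σ).obj H := Over.homMk (pullback.lift z.left T.hom (Over.w z)) (pullback.lift_snd _ _ _)
    refine ⟨z', Over.OverMorphism.ext (pullback.hom_ext ?_ ?_)⟩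
    · show (z'.left ≫ ((Over.pullback σ).map j).left) ≫ pullback.fst N.hom σ = g.left ≫ pullback.fst N.hom σ
      rw [Category.assoc, ← sq.w]
      show pullback.lift z.left T.hom _ ≫ pullback.fst H.hom σ ≫ j.left = _
      rw [pullback.lift_fst_assoc]
      exact congrArg CommaMorphism.left hz
    · show (z' ≫ (Over.pullback σ).map j).left ≫ ((Over.pullback σ).obj N).hom = g.left ≫ ((Over.pullback σ).obj N).hom
      rw [Over.w, Over.w]

/-- Let G be an S-group scheme locally of finite presentation and quasi-separated over S, H an S-group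
scheme smooth and of finite presentation over S with connected fibres, u : H → G a homomorphism
which is a monomorphism, n : N → G the normalizer of H in G (a closed subgroup scheme) and j : H → N
the homomorphism with j n = u. The following are equivalent: (i) j is an open immersion; (ii) H
represents the neutral component of N: a point g : T → N factors through j exactly when the image of
its underlying map lies in the union of the neutral components of the fibres of N; (iii) for every s
in S, the fibre j_s : H_s → N_s is an open immersion whose image is the neutral component of N_s.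
(The published statement asks H only to be smooth over S with connected fibres; this row also asks H
quasi-compact and quasi-separated over S, the hypotheses under which the normalizer is shown to be
representable.) -/
theorem result (S : Scheme.{u}) (G H N : Over S) [GrpObj G] [GrpObj H] [GrpObj N]
    [LocallyOfFinitePresentation G.hom] [QuasiSeparated G.hom] [Smooth H.hom] [QuasiCompact H.hom] [QuasiSeparated H.hom]
    (hconn : ∀ s : S, _root_.IsConnected (H.hom.base ⁻¹' {s})) (u : H ⟶ G) [IsMonHom u] [Mono u]
    (n : N ⟶ G) [IsClosedImmersion n.left] (hN : Red.IsNormalizerOf u n) (j : H ⟶ N) [IsMonHom j] (hj : j ≫ n = u) :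
    (IsOpenImmersion j.left ↔
      ∀ (T : Over S) (g : T ⟶ N), (∃ h : T ⟶ H, h ≫ j = g) ↔ Set.range g.left.base ⊆ SGA3x.neutralSet N) ∧
    (IsOpenImmersion j.left ↔
      ∀ s : S, IsOpenImmersion ((Over.pullback (S.fromSpecResidueField s)).map j).left ∧
        j.left.base '' (H.hom.base ⁻¹' {s}) = SGA3x.neutralSet N ∩ N.hom.base ⁻¹' {s}) := by
  haveI := hN.1
  haveI : Mono (j ≫ n) := hj ▸ inferInstance
  haveI : Mono j := mono_of_mono j n
  haveI : LocallyOfFiniteType N.hom := by rw [← Over.w n]; infer_instance
  have hconn' : ∀ s : S, _root_.IsConnected (H.hom ⁻¹' {s}) := hconn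
  have h13 : IsOpenImmersion j.left → ∀ s : S, IsOpenImmersion ((Over.pullback (S.fromSpecResidueField s)).map j).left ∧
      j.left.base '' (H.hom.base ⁻¹' {s}) = SGA3x.neutralSet N ∩ N.hom.base ⁻¹' {s} := by
    intro hji s
    haveI := hji
    refine ⟨MorphismProperty.of_isPullback (P := @IsOpenImmersion) (HomFibre.map_isPullback j _) hji, ?_⟩
    have hfib : H.hom.base ⁻¹' {s} = j.left.base ⁻¹' (N.hom.base ⁻¹' {s}) := by
      rw [← Set.preimage_comp, ← TopCat.coe_comp, ← Scheme.Hom.comp_base, Over.w j]
    rw [hfib, Set.image_preimage_eq_range_inter, range_eq_of_openImmersion hconn' j]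
  have h31 : (∀ s : S, IsOpenImmersion ((Over.pullback (S.fromSpecResidueField s)).map j).left) → IsOpenImmersion j.left := by
    intro hs
    haveI : LocallyOfFinitePresentation (j.left ≫ N.hom) := by rw [Over.w j]; infer_instance
    haveI : Flat (j.left ≫ N.hom) := by rw [Over.w j]; infer_instance
    refine FlatMisc.isOpenImmersion_of_fibres N.hom j.left fun s => ?_
    have sq := HomFibre.map_isPullback j (S.fromSpecResidueField s)
    haveI := hs s
    have e := sq.isoPullback_hom_snd
    rw [show pullback.snd j.left (N.hom.fiberι s) = sq.isoPullback.inv ≫ ((Over.pullback (S.fromSpecResidueField s)).map j).left from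
      (Iso.eq_inv_comp _).mpr e]
    exact MorphismProperty.comp_mem @IsOpenImmersion _ _ inferInstance (hs s)
  refine ⟨⟨fun hji T g => ?_, fun hrep => h31 fun s => ?_⟩, ⟨h13, fun h => h31 fun s => (h s).1⟩⟩
  · haveI := hji
    rw [← range_eq_of_openImmersion hconn' j]
    refine ⟨?_, fun hg => ?_⟩
    · rintro ⟨z, rfl⟩ _ ⟨t, rfl⟩
      exact ⟨z.left t, rfl⟩
    · exact ⟨Over.homMk (IsOpenImmersion.lift j.left g.left hg) (by
        rw [← Over.w j, IsOpenImmersion.lift_fac_assoc, Over.w g]),
        Over.OverMorphism.ext (IsOpenImmersion.lift_fac _ _ _)⟩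
  · let σ := S.fromSpecResidueField s
    haveI : LocallyOfFinitePresentation ((Over.pullback σ).obj N).hom := by
      haveI : IsLocallyNoetherian (Spec (S.residueField s)) := inferInstance
      exact FibreLoc5.lfp_fibre N.hom s
    exact GeomIrrSpread.isOpenImmersion_of_rep ((Over.pullback σ).map j) (rep_fibre j hrep s)

end Groth.Agent.S5393
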