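import Groth.Statements.S5394
import Groth.Agent.GrpSchLib.HomFibre
import Groth.Agent.GrpSchLib.Shear
import Groth.Agent.GrpSchLib.FieldTop
import Groth.Agent.GrpSchLib.Coincidence
import Groth.Agent.FBaseLib.Basic
import Groth.Agent.AlgSpPts.Sep
-- import your own Groth.Agent.* helpers here

set_option autoImplicit false
universe u
open CategoryTheory CategoryTheory.Limits MonoidalCategory CartesianMonoidalCategory MonObj GrpObj AlgebraicGeometry
open SGA3

namespace Groth.Agent.S5394

open TopologicalSpace in
/-- An open of the total space containing the maximal points of a fibre is dense in the fibre. -/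
theorem dense_of_maximal {X S : Scheme.{u}} (h : X ⟶ S) (s : S) (O : Set X)
    (hmax : ∀ g : ↥(h.base ⁻¹' {s}), closure {g} ∈ irreducibleComponents ↥(h.base ⁻¹' {s}) → g.1 ∈ O) :
    Dense (h.fiberι s ⁻¹' O) := by
  intro y
  obtain ⟨c, hc, hcy⟩ := Agent.GrpSchLib.exists_isMaxPt y
  let φ := h.fiberHomeo s
  have : closure {φ c} ∈ irreducibleComponents ↥(h.base ⁻¹' {s}) := by
    refine ⟨isIrreducible_singleton.closure, fun Z hZ hle => ?_⟩
    have hZ' : IsIrreducible (φ.symm '' Z) := hZ.image _ φ.symm.continuous.continuousOn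
    have hgen := hZ'.isGenericPoint_genericPoint_closure
    have hcZ : c ∈ φ.symm '' Z := ⟨φ c, hle (subset_closure rfl), φ.symm_apply_apply c⟩
    have he := hc _ (hgen.specializes (subset_closure hcZ))
    intro z hz
    have h1 : c ⤳ φ.symm z := he ▸ hgen.specializes (subset_closure ⟨z, hz, rfl⟩)
    have h2 := h1.map φ.continuous
    rw [φ.apply_symm_apply] at h2
    exact h2.mem_closure
  have hcO : h.fiberι s c ∈ O := by
    have := hmax _ this
    rwa [show (φ c).1 = h.fiberι s c from Scheme.Hom.fiberHomeo_apply h s c] at this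
  exact closure_mono (Set.singleton_subset_iff.mpr (show c ∈ h.fiberι s ⁻¹' O from hcO)) hcy.mem_closure

/-- Let G be an S-group scheme which is flat and locally of finite presentation over S and f : X → G a
morphism of S-schemes with X locally of finite presentation over S. Suppose that for every point s
of S and every maximal point g of the fibre G_s (generic point of an irreducible component) there is
a point x of X with f(x) = g at which f is flat. Let V be the open subscheme of X where f is flat.
Then the morphism V ×_S V → G, (x, y) ↦ f(x)·f(y), is flat, locally of finite presentation and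
surjective; in particular X ×_S X → G, (x, y) ↦ f(x)·f(y), is covering for the fppf topology. (The
published statement does not assume G flat over S and asserts only the covering property; this row
assumes G flat over S, as the flatness step of the printed proof does, and concludes the flat,
locally finitely presented, surjective form that proof establishes. Without flatness of G the
flatness conclusion fails, e.g. for the identity of the closed subgroup tx = 0 of the additive group
over k[t].) -/
theorem result (S : Scheme.{u}) (G X : Over S) [GrpObj G] [LocallyOfFinitePresentation G.hom] [Flat G.hom]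
    [LocallyOfFinitePresentation X.hom] (f : X ⟶ G)
    (hf : ∀ (s : S) (g : ↥(G.hom.base ⁻¹' {s})), closure {g} ∈ irreducibleComponents ↥(G.hom.base ⁻¹' {s}) →
      ∃ x : X.left, f.left.base x = g.1 ∧ (f.left.stalkMap x).hom.Flat)
    (V : X.left.Opens) (hV : (V : Set X.left) = {x : X.left | (f.left.stalkMap x).hom.Flat}) :
    letI fV : Over.mk (V.ι ≫ X.hom) ⟶ G := Over.homMk (V.ι ≫ f.left) ((Category.assoc _ _ _).trans (congrArg (V.ι ≫ ·) (Over.w f)))
    Flat ((fV ⊗ₘ fV) ≫ μ[G]).left ∧ LocallyOfFinitePresentation ((fV ⊗ₘ fV) ≫ μ[G]).left ∧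
      Surjective ((fV ⊗ₘ fV) ≫ μ[G]).left := by
  let fV : Over.mk (V.ι ≫ X.hom) ⟶ G := Over.homMk (V.ι ≫ f.left) ((Category.assoc _ _ _).trans (congrArg (V.ι ≫ ·) (Over.w f)))
  haveI : LocallyOfFinitePresentation (f.left ≫ G.hom) := by rw [Over.w f]; infer_instance
  haveI : LocallyOfFinitePresentation f.left :=
    Agent.AlgSpPts.locallyOfFinitePresentation_of_comp f.left G.hom
  haveI hfV2 : LocallyOfFinitePresentation fV.left := inferInstanceAs (LocallyOfFinitePresentation (V.ι ≫ f.left))
  haveI hfV1 : Flat fV.left := by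
    refine Flat.of_stalkMap (V.ι ≫ f.left) fun y => ?_
    have hy : (f.left.stalkMap (V.ι y)).hom.Flat := hV.le y.2
    erw [Scheme.Hom.stalkMap_comp, CommRingCat.hom_comp]
    exact (RingHom.Flat.respectsIso.cancel_right_isIso (f.left.stalkMap (V.ι y)) (V.ι.stalkMap y)).mpr hy
  let T₀ : Over S := Over.mk (V.ι ≫ X.hom)
  have hR : Agent.GrpSchLib.Loci.FL (fV ▷ T₀).left :=
    MorphismProperty.of_isPullback (P := Agent.GrpSchLib.Loci.FL) (Agent.GrpSchLib.isPullback_whiskerRight fV T₀).flip ⟨hfV1, hfV2⟩
  have hL : Agent.GrpSchLib.Loci.FL (G ◁ fV).left :=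
    MorphismProperty.of_isPullback (P := Agent.GrpSchLib.Loci.FL) (Agent.GrpSchLib.isPullback_whiskerLeft fV).flip ⟨hfV1, hfV2⟩
  have hμ : Agent.GrpSchLib.Loci.FL μ[G].left := by
    rw [Agent.GrpSchLib.mul_eq_id_whiskerRight (G := G), ← Agent.GrpSchLib.shearIso_hom_snd, Over.comp_left]
    haveI : Flat (snd G G).left := inferInstanceAs (Flat (Limits.pullback.snd G.hom G.hom))
    haveI : LocallyOfFinitePresentation (snd G G).left :=
      inferInstanceAs (LocallyOfFinitePresentation (Limits.pullback.snd G.hom G.hom))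
    exact ⟨inferInstance, inferInstance⟩
  have hall : Agent.GrpSchLib.Loci.FL ((fV ⊗ₘ fV) ≫ μ[G]).left := by
    rw [MonoidalCategory.tensorHom_def, Over.comp_left, Over.comp_left]
    exact MorphismProperty.comp_mem Agent.GrpSchLib.Loci.FL _ _
      (MorphismProperty.comp_mem Agent.GrpSchLib.Loci.FL _ _ hR hL) hμ
  refine ⟨hall.1, hall.2, ⟨fun g => ?_⟩⟩
  let O : Set G.left := Set.range fV.left
  have hO : IsOpen O := by
    haveI : UniversallyOpen fV.left := inferInstance
    exact fV.left.isOpenMap.isOpen_range
  let s := G.hom g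
  have hdense : Dense (G.hom.fiberι s ⁻¹' O) := dense_of_maximal G.hom s O fun c hc => by
    obtain ⟨x, hx, hfl⟩ := hf s c hc
    exact ⟨(⟨x, hV.ge hfl⟩ : V.toScheme), hx⟩
  -- the fibre over the residue field of `g`
  let T : Over S := Over.mk (G.left.fromSpecResidueField g ≫ G.hom)
  let gT : T ⟶ G := Over.homMk (G.left.fromSpecResidueField g) rfl
  let τ : Spec (G.left.residueField g) ⟶ Spec (S.residueField s) := Spec.map (G.hom.residueFieldMap g)
  have hT : τ ≫ S.fromSpecResidueField s = T.hom := G.hom.SpecMap_residueFieldMap_fromSpecResidueField g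
  let π : (T ⊗ G).left ⟶ G.hom.fiber s :=
    Limits.pullback.lift (snd T G).left ((fst T G).left ≫ τ) (by
      rw [Category.assoc, hT, Over.w (fst T G), Over.w (snd T G)])
  have hπ1 : π ≫ G.hom.fiberι s = (snd T G).left := Limits.pullback.lift_fst _ _ _
  have hsq : IsPullback π (fst T G).left (G.hom.fiberToSpecResidueField s) τ := by
    refine IsPullback.of_right (h₁₂ := G.hom.fiberι s) ?_ (Limits.pullback.lift_snd _ _ _)
      (IsPullback.of_hasPullback G.hom (S.fromSpecResidueField s))
    rw [hπ1, hT]
    exact (IsPullback.of_hasPullback T.hom G.hom).flip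
  haveI : UniversallyOpen τ := Agent.FBaseLib.universallyOpen_spec_map_field (G.hom.residueFieldMap g).hom
  haveI : UniversallyOpen π := MorphismProperty.of_isPullback (P := @UniversallyOpen) hsq.flip ‹_›
  let δ : T ⊗ G ≅ T ⊗ G :=
    { hom := lift (fst T G) ((snd T G)⁻¹ * (fst T G ≫ gT))
      inv := lift (fst T G) ((fst T G ≫ gT) * (snd T G)⁻¹)
      hom_inv_id := by
        apply CartesianMonoidalCategory.hom_ext
        · simp
        · simp [MonObj.comp_mul, GrpObj.comp_inv]
      inv_hom_id := by
        apply CartesianMonoidalCategory.hom_ext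
        · simp
        · simp [MonObj.comp_mul, GrpObj.comp_inv] }
  haveI : IsIso δ.hom.left := ((Over.forget S).mapIso δ).isIso_hom
  have h1 : IsOpen ((snd T G).left ⁻¹' O) ∧ Dense ((snd T G).left ⁻¹' O) := by
    refine ⟨hO.preimage (Scheme.Hom.continuous _), ?_⟩
    rw [← hπ1, Scheme.Hom.comp_base, TopCat.coe_comp, Set.preimage_comp]
    exact hdense.preimage π.isOpenMap
  have h2 : Dense (δ.hom.left ⁻¹' ((snd T G).left ⁻¹' O)) := h1.2.preimage δ.hom.left.homeomorph.isOpenMap
  haveI : Nonempty (T ⊗ G).left := ⟨(lift (𝟙 T) gT).left (IsLocalRing.closedPoint _)⟩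
  obtain ⟨w, hw1, hw2⟩ := (h1.2.inter_of_isOpen_left h2 h1.1).nonempty
  let z := (lift (snd T G) ((snd T G)⁻¹ * (fst T G ≫ gT))).left w
  have hz1 : (fst G G).left z = (snd T G).left w := by
    rw [← Scheme.Hom.comp_apply, ← Over.comp_left, lift_fst]
  have hz2 : (snd G G).left z = (snd T G).left (δ.hom.left w) := by
    simp only [z, δ]
    rw [← Scheme.Hom.comp_apply, ← Scheme.Hom.comp_apply, ← Over.comp_left, ← Over.comp_left, lift_snd, lift_snd]
  have hzμ : μ[G].left z = g := by
    rw [← Scheme.Hom.comp_apply, ← Over.comp_left, ← Hom.mul_def, mul_inv_cancel_left, Over.comp_left,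
      Scheme.Hom.comp_apply]
    exact G.left.fromSpecResidueField_apply g _
  obtain ⟨q, hq⟩ : z ∈ Set.range (fV ⊗ₘ fV).left := by
    have e : (fV ⊗ₘ fV).left = Limits.pullback.map T₀.hom T₀.hom G.hom G.hom fV.left fV.left (𝟙 S)
        (by rw [Category.comp_id, Over.w fV]) (by rw [Category.comp_id, Over.w fV]) := Over.tensorHom_left fV fV
    rw [e]
    refine (Scheme.Pullback.range_map _ _ _ _ _ _ _ _ _).ge ⟨?_, ?_⟩
    · show (fst G G).left z ∈ O
      rw [hz1]; exact hw1
    · show (snd G G).left z ∈ O
      rw [hz2]; exact hw2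
  exact ⟨q, by rw [Over.comp_left, Scheme.Hom.comp_apply, hq, hzμ]⟩

end Groth.Agent.S5394
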