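import Groth.Statements.S5395
-- import your own Groth.Agent.* helpers here

set_option autoImplicit false
universe u
open CategoryTheory CategoryTheory.Limits MonoidalCategory CartesianMonoidalCategory MonObj GrpObj AlgebraicGeometry
open SGA3

namespace Groth.Agent.S5395

open Topology in
theorem exists_isLocallyClosed_of_isConstructible {X : Type*} [TopologicalSpace X] {s : Set X}
    (hs : IsConstructible s) : (∀ x ∈ s, ∃ L, IsLocallyClosed L ∧ x ∈ L ∧ L ⊆ s) ∧
      (∀ x ∉ s, ∃ L, IsLocallyClosed L ∧ x ∈ L ∧ L ⊆ sᶜ) := by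
  induction hs using IsConstructible.empty_union_induction with
  | open_retrocompact U hU hc =>
    exact ⟨fun x hx => ⟨U, hU.isLocallyClosed, hx, subset_rfl⟩,
      fun x hx => ⟨Uᶜ, hU.isClosed_compl.isLocallyClosed, hx, subset_rfl⟩⟩
  | union s hs t ht h1 h2 =>
    refine ⟨fun x hx => ?_, fun x hx => ?_⟩
    · rcases hx with hx | hx
      · obtain ⟨L, hL, hxL, hLs⟩ := h1.1 x hx
        exact ⟨L, hL, hxL, hLs.trans Set.subset_union_left⟩
      · obtain ⟨L, hL, hxL, hLs⟩ := h2.1 x hx
        exact ⟨L, hL, hxL, hLs.trans Set.subset_union_right⟩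
    · simp only [Set.mem_union, not_or] at hx
      obtain ⟨L, hL, hxL, hLs⟩ := h1.2 x hx.1
      obtain ⟨L', hL', hxL', hLs'⟩ := h2.2 x hx.2
      exact ⟨L ∩ L', hL.inter hL', ⟨hxL, hxL'⟩, by rw [Set.compl_union]; exact Set.inter_subset_inter hLs hLs'⟩
  | compl s hs h => exact ⟨fun x hx => h.2 x hx, fun x hx => by simpa using h.1 x (by simpa using hx)⟩

open Topology in
theorem exists_isLocallyClosed_of_isIndConstructible {X : Type*} [TopologicalSpace X] {A : Set X}
    (hA : ProCons.IsIndConstructible A) {x : X} (hx : x ∈ A) :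
    ∃ L, IsLocallyClosed L ∧ x ∈ L ∧ L ⊆ A := by
  obtain ⟨U, hU, hxU, S, hS, hAS⟩ := hA x
  have hx' : (⟨x, hxU⟩ : U) ∈ ⋃₀ S := hAS ▸ hx
  obtain ⟨T, hT, hxT⟩ := hx'
  obtain ⟨V, hV, hVo, hVT⟩ := hS T hT ⟨x, hxU⟩
  obtain ⟨L, hL, hxL, hLT⟩ := (exists_isLocallyClosed_of_isConstructible hVT).1 ⟨_, mem_of_mem_nhds hV⟩ hxT
  refine ⟨Subtype.val '' (Subtype.val '' L), ?_, ⟨_, ⟨_, hxL, rfl⟩, rfl⟩, ?_⟩
  · exact (hL.image hVo.isOpenEmbedding_subtypeVal.isInducing
      (by simpa using hVo.isLocallyClosed)).image hU.isOpenEmbedding_subtypeVal.isInducing (by simpa using hU.isLocallyClosed)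
  · rintro _ ⟨_, ⟨v, hv, rfl⟩, rfl⟩
    have : (v : U) ∈ ⋃₀ S := ⟨T, hT, hLT hv⟩
    rwa [← hAS] at this

/-- Let k be an algebraically closed field, G a group scheme locally of finite type over k, and A, B two
ind-constructible subsets of G. Let A·B be the image under the multiplication of the set of points
of G ×_k G whose two projections lie in A and B. Then every closed point z of G lying in A·B is the
product of a closed point of G ×_k G whose two projections lie in A and B (and are then closed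
points): the rational points of A·B are the products of rational points of A and of B. -/
theorem result (k : Type u) [Field k] [IsAlgClosed k] (G : Over (Spec (CommRingCat.of k))) [GrpObj G]
    [LocallyOfFiniteType G.hom] (A B : Set G.left) (hA : ProCons.IsIndConstructible A) (hB : ProCons.IsIndConstructible B)
    (z : G.left) (hz : IsClosed ({z} : Set G.left))
    (hzAB : z ∈ μ[G].left.base '' {w : ↥(G ⊗ G).left | (fst G G).left.base w ∈ A ∧ (snd G G).left.base w ∈ B}) :
    ∃ w : ↥(G ⊗ G).left, IsClosed ({w} : Set ↥(G ⊗ G).left) ∧ (fst G G).left.base w ∈ A ∧ (snd G G).left.base w ∈ B ∧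
      μ[G].left.base w = z := by
  obtain ⟨w, ⟨hwA, hwB⟩, hwz⟩ := hzAB
  obtain ⟨L, hL, hwL, hLA⟩ := exists_isLocallyClosed_of_isIndConstructible hA hwA
  obtain ⟨L', hL', hwL', hLB⟩ := exists_isLocallyClosed_of_isIndConstructible hB hwB
  have h1 : LocallyOfFiniteType (G ⊗ G).hom :=
    inferInstanceAs (LocallyOfFiniteType (pullback.fst G.hom G.hom ≫ G.hom))
  have : JacobsonSpace ↥(G ⊗ G).left := LocallyOfFiniteType.jacobsonSpace (G ⊗ G).hom
  obtain ⟨v, ⟨⟨hv1, hv2⟩, hv3⟩, hvc⟩ := jacobsonSpace_iff_locallyClosed.mp ‹_›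
    ((fst G G).left.base ⁻¹' L ∩ (snd G G).left.base ⁻¹' L' ∩ μ[G].left.base ⁻¹' {z}) ⟨w, ⟨hwL, hwL'⟩, hwz⟩
    (((hL.preimage (fst G G).left.continuous).inter (hL'.preimage (snd G G).left.continuous)).inter
      (hz.preimage μ[G].left.continuous).isLocallyClosed)
  exact ⟨v, hvc, hLA hv1, hLB hv2, hv3⟩

end Groth.Agent.S5395
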