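import Groth.Statements.S5397
import Groth.Agent.HomSepQC.Main

set_option autoImplicit false
universe u
open CategoryTheory CategoryTheory.Limits MonoidalCategory CartesianMonoidalCategory MonObj GrpObj AlgebraicGeometry
open SGA3

namespace Groth.Agent.S5397

/-- Let G be an S-group scheme locally of finite presentation over S and universally open over S on some
open containing the unit section, acting on an S-scheme X so that G ×_S X → X ×_S X, (g, x) ↦ (gx,
x), is surjective, and suppose every fibre X_s is a quasi-separated and connected space. Then X is
separated over S; and if there is an open subscheme V of X, quasi-compact over S, meeting every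
nonempty fibre X_s, then X is quasi-compact over S. (The published statement concludes that X is
quasi-compact over S without the open V; for a local scheme S whose punctured spectrum is not
quasi-compact, the trivial group acting on the disjoint union of the closed point and the punctured
spectrum satisfies every hypothesis and is not quasi-compact over S, so the open V is required
here.) -/
theorem result (S : Scheme.{u}) (G X : Over S) [GrpObj G]
    [LocallyOfFinitePresentation G.hom]
    (hGo : ∃ W : G.left.Opens, (∀ p : ↥(𝟙_ (Over S)).left, η[G].left.base p ∈ W) ∧ UniversallyOpen (W.ι ≫ G.hom))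
    (a : AlgGrp.Action G X) (hΦ : Surjective (lift a.act (snd G X)).left)
    (hqs : ∀ s : S, QuasiSeparatedSpace ↥(X.hom.base ⁻¹' {s}))
    (hconn : ∀ s : S, _root_.IsPreconnected (X.hom.base ⁻¹' {s})) :
    IsSeparated X.hom ∧
    ((∃ V : X.left.Opens, QuasiCompact (V.ι ≫ X.hom) ∧
        ∀ s : S, (X.hom.base ⁻¹' {s}).Nonempty → ((V : Set X.left) ∩ X.hom.base ⁻¹' {s}).Nonempty) →
      QuasiCompact X.hom) := by
  obtain ⟨W, hW, hWo⟩ := hGo
  refine ⟨Groth.Agent.HomSepQC.isSeparated a hΦ W hW hWo hqs hconn, ?_⟩
  rintro ⟨V, hVqc, hV⟩
  exact Groth.Agent.HomSepQC.quasiCompact a hΦ W hW hqs hconn V hV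

end Groth.Agent.S5397
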