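import Groth.Statements.S5400
import Groth.Agent.GeomIrrSpread.NeutralRep
import Groth.Agent.EGA41Lib.ConsX

set_option autoImplicit false
universe u
open CategoryTheory CategoryTheory.Limits MonoidalCategory CartesianMonoidalCategory MonObj GrpObj AlgebraicGeometry
open SGA3

namespace Groth.Agent.S5400

open GeomIrrSpread in
theorem representable_iff_isOpen {S : Scheme.{u}} (G : Over S) [GrpObj G] [LocallyOfFinitePresentation G.hom] :
    (∃ (G0 : Over S) (i0 : G0 ⟶ G), Mono i0 ∧
      ∀ (T : Over S) (g : T ⟶ G), (∃ z : T ⟶ G0, z ≫ i0 = g) ↔ Set.range g.left.base ⊆ SGA3x.neutralSet G) ↔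
    IsOpen (SGA3x.neutralSet G) := by
  constructor
  · rintro ⟨G0, i0, hm, hrep⟩
    haveI := hm
    haveI := isOpenImmersion_of_rep i0 hrep
    rw [← range_eq_neutralSet i0 hrep]
    exact i0.left.isOpenEmbedding.isOpen_range
  · intro h
    let U : G.left.Opens := ⟨SGA3x.neutralSet G, h⟩
    let i0 : Over.mk (U.ι ≫ G.hom) ⟶ G := Over.homMk U.ι rfl
    haveI : Mono i0.left := inferInstanceAs (Mono U.ι)
    refine ⟨_, i0, Over.mono_of_mono_left i0, fun T g => ⟨?_, fun hg => ?_⟩⟩
    · rintro ⟨z, rfl⟩ _ ⟨t, rfl⟩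
      exact ((z.left t) : U).2
    · have hg' : Set.range g.left ⊆ Set.range U.ι := (Scheme.Opens.range_ι U).symm ▸ hg
      refine ⟨Over.homMk (IsOpenImmersion.lift U.ι g.left hg') ?_, ?_⟩
      · show IsOpenImmersion.lift U.ι g.left hg' ≫ U.ι ≫ G.hom = T.hom
        rw [IsOpenImmersion.lift_fac_assoc, Over.w g]
      · exact Over.OverMorphism.ext (IsOpenImmersion.lift_fac _ _ _)


/-- Let S be the limit of a cofiltered system (S_i) of quasi-compact quasi-separated schemes with affine
transition morphisms, j an index and G_j an S_j-group scheme of finite presentation; put G = G_j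
×_{S_j} S. Then the neutral component subfunctor of G is representable (there is a monomorphism G⁰ →
G through which a point factors exactly when its image lies in the union of the neutral components
of the fibres) if and only if there is an index i over j such that the neutral component of G_j
×_{S_j} S_i is representable. -/
theorem result {I : Type u} [SmallCategory I] [IsCofiltered I]
    (D : I ⥤ Scheme.{u}) (c : Limits.Cone D) (hc : Limits.IsLimit c)
    [∀ (i i' : I) (f : i ⟶ i'), IsAffineHom (D.map f)] [∀ i, CompactSpace (D.obj i)] [∀ i, QuasiSeparatedSpace (D.obj i)]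
    (j : I) (Gj : Over (D.obj j)) [GrpObj Gj]
    [LocallyOfFinitePresentation Gj.hom] [QuasiCompact Gj.hom] [QuasiSeparated Gj.hom] :
    (∃ (G0 : Over c.pt) (i0 : G0 ⟶ Red.bc (c.π.app j) Gj), Mono i0 ∧
      ∀ (T : Over c.pt) (g : T ⟶ Red.bc (c.π.app j) Gj), (∃ z : T ⟶ G0, z ≫ i0 = g) ↔
        Set.range g.left.base ⊆ SGA3x.neutralSet (Red.bc (c.π.app j) Gj)) ↔
    ∃ (i : I) (f : i ⟶ j) (G0 : Over (D.obj i)) (i0 : G0 ⟶ Red.bc (D.map f) Gj), Mono i0 ∧
      ∀ (T : Over (D.obj i)) (g : T ⟶ Red.bc (D.map f) Gj), (∃ z : T ⟶ G0, z ≫ i0 = g) ↔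
        Set.range g.left.base ⊆ SGA3x.neutralSet (Red.bc (D.map f) Gj) := by
  haveI : ∀ {i i' : I} (f : i ⟶ i'), IsAffineHom (D.map f) := fun {i i'} f =>
    ‹∀ (i i' : I) (f : i ⟶ i'), IsAffineHom (D.map f)› i i' f
  haveI : ∀ {X : Scheme.{u}} (f : X ⟶ D.obj j), LocallyOfFinitePresentation (Red.bc f Gj).hom := fun f =>
    inferInstanceAs (LocallyOfFinitePresentation (Limits.pullback.snd Gj.hom f))
  rw [representable_iff_isOpen]
  constructor
  swap
  · rintro ⟨i, f, h⟩
    rw [representable_iff_isOpen, GrpSchLib.Neutral.neutralSet_bc] at h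
    rw [GrpSchLib.Neutral.neutralSet_bc]
    let m : Limits.pullback Gj.hom (c.π.app j) ⟶ Limits.pullback Gj.hom (D.map f) :=
      Limits.pullback.map _ _ _ _ (𝟙 _) (c.π.app i) (𝟙 _) (by simp) (by simp)
    have hm : Limits.pullback.fst Gj.hom (c.π.app j) = m ≫ Limits.pullback.fst Gj.hom (D.map f) :=
      ((pullback.lift_fst _ _ _).trans (Category.comp_id _)).symm
    rw [hm, Scheme.Hom.comp_base, TopCat.coe_comp, Set.preimage_comp]
    exact h.preimage m.continuous
  intro h
  rw [GrpSchLib.Neutral.neutralSet_bc] at h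
  let P := Over.pullback Gj.hom ⋙ Over.forget Gj.left
  let E : Over j ⥤ Scheme.{u} := Over.post (X := j) D ⋙ P
  haveI := IsCofiltered.isConnected (Over j)
  let ĉ : Cone (Over.post (X := j) D) :=
    { pt := Over.mk (c.π.app j)
      π :=
        { app := fun k => Over.homMk (c.π.app k.left) (c.w k.hom)
          naturality := fun k l g => Over.OverMorphism.ext (by
            show 𝟙 _ ≫ c.π.app l.left = c.π.app k.left ≫ D.map g.left
            rw [Category.id_comp, c.w]) } }
  have hĉ : IsLimit ĉ := isLimitOfReflects (Over.forget (D.obj j))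
    (((Functor.Initial.isLimitWhiskerEquiv (Over.forget j) c).symm hc).ofIsoLimit
      (Cone.ext (Iso.refl _) (fun k => (Category.id_comp _).symm)) :)
  have hlim : IsLimit (P.mapCone ĉ) :=
    isLimitOfPreserves (Over.forget Gj.left) (isLimitOfPreserves (Over.pullback Gj.hom) hĉ)
  haveI : ∀ {k l : Over j} (g : k ⟶ l), IsAffineHom (E.map g) := fun g =>
    MorphismProperty.baseChange_map (P := @IsAffineHom) _ _ (inferInstanceAs (IsAffineHom (D.map g.left)))
  let i₀ : Over j := Over.mk (𝟙 j)
  haveI : CompactSpace (E.obj i₀) :=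
    @QuasiCompact.compactSpace_of_compactSpace _ _ (Limits.pullback.fst (D.map i₀.hom) Gj.hom)
      (MorphismProperty.pullback_fst (P := @QuasiCompact) _ _ inferInstance) (‹∀ i, CompactSpace (D.obj i)› _)
  let Z : Set (E.obj i₀) := Limits.pullback.snd (D.map i₀.hom) Gj.hom ⁻¹' SGA3x.neutralSet Gj
  have hlc := EGA41Lib.lc_iff.mp (GeomIrrSpread.isLocallyConstructible_neutralSet Gj)
  obtain ⟨k, φ, hk⟩ := MorLib.LimCons.exists_isOpen hlim i₀ (Z := Z)
    (ProConsLib.preimage hlc.2 _) (MorLib.LimPro.isIndConstructible_preimage hlc.1 _) (by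
      have e : (P.map (ĉ.π.app i₀) ≫ Limits.pullback.snd (D.map i₀.hom) Gj.hom :
          Limits.pullback (c.π.app j) Gj.hom ⟶ Gj.left) =
          (pullbackSymmetry (c.π.app j) Gj.hom).hom ≫ Limits.pullback.fst Gj.hom (c.π.app j) :=
        (pullback.lift_snd _ _ _).trans (pullbackSymmetry_hom_comp_fst _ _).symm
      refine (congrArg IsOpen (Set.ext fun y => ?_)).mpr
        (h.preimage (pullbackSymmetry (c.π.app j) Gj.hom).hom.continuous)
      exact iff_of_eq (congrArg (fun g : Limits.pullback (c.π.app j) Gj.hom ⟶ Gj.left =>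
        g y ∈ SGA3x.neutralSet Gj) e))
  refine ⟨k.left, k.hom, ?_⟩
  rw [representable_iff_isOpen, GrpSchLib.Neutral.neutralSet_bc,
    ← pullbackSymmetry_hom_comp_snd, Scheme.Hom.comp_base, TopCat.coe_comp, Set.preimage_comp]
  refine IsOpen.preimage (Scheme.Hom.continuous _) ?_
  have e : (E.map φ ≫ Limits.pullback.snd (D.map i₀.hom) Gj.hom : Limits.pullback (D.map k.hom) Gj.hom ⟶ Gj.left) =
      Limits.pullback.snd (D.map k.hom) Gj.hom := pullback.lift_snd _ _ _
  refine (congrArg IsOpen (Set.ext fun y => ?_)).mp hk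
  exact iff_of_eq (congrArg (fun g : Limits.pullback (D.map k.hom) Gj.hom ⟶ Gj.left =>
    g y ∈ SGA3x.neutralSet Gj) e)

end Groth.Agent.S5400
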