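import Groth.Statements.S5401
import Groth.Agent.GeomIrrSpread.Neutral
import Groth.Agent.MorLib.LimCons

set_option autoImplicit false
universe u
open CategoryTheory CategoryTheory.Limits MonoidalCategory CartesianMonoidalCategory MonObj GrpObj AlgebraicGeometry
open SGA3

namespace Groth.Agent.S5401

/-- Let S₀ be a scheme, (S_i) a cofiltered system of quasi-compact quasi-separated S₀-schemes with
affine transition morphisms and S its limit, and G an S₀-group scheme locally of finite presentation
over S₀. Write G⁰(T), for an S₀-scheme T, for the set of S₀-morphisms T → G whose image lies in the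
union of the neutral components of the fibres of G. Then the canonical map colim G⁰(S_i) → G⁰(S) is
surjective: every element of G⁰(S) is the restriction of an element of G⁰(S_i) for some i. (The
published statement asserts that this map is bijective; its injectivity holds for S₀-morphisms to
any scheme locally of finite type over S₀ and is not stated here. The published setting takes S₀
quasi-compact and quasi-separated and the S_i affine over S₀; this row allows any cofiltered system
of quasi-compact quasi-separated S₀-schemes with affine transition morphisms.) -/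
theorem result {I : Type u} [SmallCategory I] [IsCofiltered I]
    (D : I ⥤ Scheme.{u}) (c : Limits.Cone D) (hc : Limits.IsLimit c)
    [∀ (i i' : I) (f : i ⟶ i'), IsAffineHom (D.map f)] [∀ i, CompactSpace (D.obj i)] [∀ i, QuasiSeparatedSpace (D.obj i)]
    (S₀ : Scheme.{u}) (q : ∀ i, D.obj i ⟶ S₀) (hq : ∀ (i i' : I) (f : i ⟶ i'), D.map f ≫ q i' = q i)
    (qlim : c.pt ⟶ S₀) (hqlim : ∀ i, c.π.app i ≫ q i = qlim)
    (G : Over S₀) [GrpObj G] [LocallyOfFinitePresentation G.hom] :
    ∀ u : c.pt ⟶ G.left, u ≫ G.hom = qlim → Set.range u.base ⊆ SGA3x.neutralSet G →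
      ∃ (i : I) (ui : D.obj i ⟶ G.left), ui ≫ G.hom = q i ∧ Set.range ui.base ⊆ SGA3x.neutralSet G ∧ c.π.app i ≫ ui = u := by
  intro u hu hN
  haveI : ∀ {i j : I} (f : i ⟶ j), IsAffineHom (D.map f) := fun {i j} f => ‹∀ (i i' : I) (f : i ⟶ i'), IsAffineHom (D.map f)› i j f
  let t : D ⟶ (Functor.const I).obj S₀ :=
    { app := q
      naturality := fun i j f => by simpa using hq i j f }
  obtain ⟨i, g, hg, hgf⟩ := Scheme.exists_π_app_comp_eq_of_locallyOfFinitePresentation D t G.hom c hc u (by
    ext i
    simp [t, hqlim, hu])
  obtain ⟨j, φ, hj⟩ := MorLib.LimPro.exists_subset hc i (A := Set.univ) (B := g ⁻¹' SGA3x.neutralSet G)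
    MorLib.LimCons.pro_univ
    (MorLib.LimPro.isIndConstructible_preimage (GeomIrrSpread.isIndConstructible_neutralSet G) g) (by
      intro s _
      show g (c.π.app i s) ∈ SGA3x.neutralSet G
      rw [← Scheme.Hom.comp_apply, hg]
      exact hN ⟨s, rfl⟩)
  refine ⟨j, D.map φ ≫ g, by rw [Category.assoc, hgf]; exact hq j i φ, ?_, by rw [c.w_assoc, hg]⟩
  rintro _ ⟨y, rfl⟩
  exact hj (show y ∈ D.map φ ⁻¹' Set.univ from trivial)

end Groth.Agent.S5401
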