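import Groth.Statements.S5402
import Groth.Agent.QuasiSect.Translate

set_option autoImplicit false
universe u
open CategoryTheory CategoryTheory.Limits MonoidalCategory CartesianMonoidalCategory MonObj GrpObj AlgebraicGeometry
open SGA3

namespace Groth.Agent.S5402

/-- Let G be an S-group scheme locally of finite presentation over S and universally open over S on some
open containing the unit section, acting on an S-scheme X so that G ×_S X → X ×_S X, (g, x) ↦ (gx,
x), is surjective. Let U be an open subset of X, s a point of S such that the fibre X_s is locally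
of finite type over κ(s) and U ∩ X_s is dense in X_s, and A a finite set of points of X_s. Then
there are morphisms S'' → S' → S, the first finite and surjective and the second etale, with exactly
one point of S'' lying over s, and an S-morphism h : S'' → G, such that for every point z of X ×_S
S'' whose image in X lies in A, the image in X of the translate h·z lies in U. -/
theorem result (S : Scheme.{u}) (G X : Over S) [GrpObj G]
    [LocallyOfFinitePresentation G.hom]
    (hGo : ∃ W : G.left.Opens, (∀ p : ↥(𝟙_ (Over S)).left, η[G].left.base p ∈ W) ∧ UniversallyOpen (W.ι ≫ G.hom))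
    (a : AlgGrp.Action G X) (hΦ : Surjective (lift a.act (snd G X)).left)
    (U : X.left.Opens) (s : S) (hft : LocallyOfFiniteType (X.hom.fiberToSpecResidueField s))
    (hdense : X.hom.base ⁻¹' {s} ⊆ closure ((U : Set X.left) ∩ X.hom.base ⁻¹' {s}))
    (A : Set X.left) (hA : A.Finite) (hAs : A ⊆ X.hom.base ⁻¹' {s}) :
    ∃ (S' S'' : Scheme.{u}) (w : S' ⟶ S) (π : S'' ⟶ S') (h : Over.mk (π ≫ w) ⟶ G),
      Etale w ∧ IsFinite π ∧ Surjective π ∧ (∃ s₀ : S'', (π ≫ w).base ⁻¹' {s} = {s₀}) ∧
      ∀ z : ↥(X ⊗ Over.mk (π ≫ w)).left, (fst X (Over.mk (π ≫ w))).left.base z ∈ A →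
        (lift (snd X (Over.mk (π ≫ w)) ≫ h) (fst X (Over.mk (π ≫ w))) ≫ a.act).left.base z ∈ U := by
  exact Groth.Agent.QuasiSect.Translate.main a hGo hΦ U s hft hdense A hA hAs

end Groth.Agent.S5402
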