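import Groth.Statements.S5411
import Groth.Agent.RedRank.KernelFinite
import Groth.Agent.GrpSchLib.HomFinite
import Groth.Agent.GrpSchLib.HomUnitLocus
import Groth.Agent.Approx.FibreProper
import Groth.Agent.SolvGrp.Descent
import Groth.Agent.SolvGrp.Fibre
-- import your own Groth.Agent.* helpers here

set_option backward.isDefEq.respectTransparency false
set_option backward.isDefEq.respectTransparency.types false
set_option linter.style.haveILetI false
set_option synthInstance.maxHeartbeats 200000
set_option maxHeartbeats 1000000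
set_option autoImplicit false
universe u
open CategoryTheory MonoidalCategory CartesianMonoidalCategory MonObj GrpObj AlgebraicGeometry CategoryTheory.Limits
open SGA3x

namespace Groth.Agent.S5411

section
open CategoryTheory.Limits

/-- In a geometric fibre, an isolated unit makes a group of finite type finite; so the fibre is finite. -/
theorem finite_fibre {S : Scheme.{u}} {K : Over S} [GrpObj K] [LocallyOfFiniteType K.hom] [QuasiCompact K.hom]
    (s : S) (q : S) (hqs : q = s) (hq : K.hom.QuasiFiniteAt (η[K].left q)) : (K.hom ⁻¹' {s}).Finite := by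
  subst hqs
  have hsec : ∀ t : S, K.hom (η[K].left t) = t := fun t => by
    rw [← Scheme.Hom.comp_apply, Over.w η[K]]
    rfl
  -- an open meeting the fibre in the unit only
  obtain ⟨O, hO⟩ : ∃ O : K.left.Opens, ∀ y, (y ∈ O ∧ K.hom y = q) ↔ y = η[K].left q := by
    have h := Scheme.Hom.quasiFiniteAt_iff_isOpen_singleton_asFiber.mp hq
    obtain ⟨o, ho, ho'⟩ := (K.hom.fiberι _).isEmbedding.isInducing.isOpen_iff.mp h
    refine ⟨⟨o, ho⟩, fun y => ⟨fun ⟨hy, hys⟩ => ?_, ?_⟩⟩
    · obtain ⟨z, rfl⟩ : y ∈ Set.range (K.hom.fiberι (K.hom (η[K].left q))) := by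
        rw [K.hom.range_fiberι]
        exact hys.trans (hsec q).symm
      have hz : z ∈ K.hom.fiberι _ ⁻¹' o := hy
      rw [ho'] at hz
      rw [Set.mem_singleton_iff.mp hz]
      exact K.hom.fiberι_asFiber _
    · rintro rfl
      refine ⟨?_, hsec q⟩
      have hz : K.hom.asFiber (η[K].left q) ∈ K.hom.fiberι _ ⁻¹' o := by rw [ho']; rfl
      rwa [Set.mem_preimage, K.hom.fiberι_asFiber] at hz
  let b := Red.geomPt q
  let k := AlgebraicClosure (S.residueField q)
  let G := Red.bc b K
  let π := pullback.fst K.hom b
  haveI : LocallyOfFiniteType G.hom := inferInstanceAs (LocallyOfFiniteType (pullback.snd K.hom b))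
  haveI : QuasiCompact G.hom := inferInstanceAs (QuasiCompact (pullback.snd K.hom b))
  have hb : ∀ z : Spec (CommRingCat.of k), b z = q := fun z => by
    show (Spec.map _ ≫ S.fromSpecResidueField q) z = q
    rw [Scheme.Hom.comp_apply, Scheme.fromSpecResidueField_apply]
  have hπ : ∀ p : G.left, K.hom (π p) = q := fun p => by
    show K.hom (pullback.fst K.hom b p) = q
    rw [← Scheme.Hom.comp_apply, pullback.condition, Scheme.Hom.comp_apply]
    exact hb _
  let e : G.left := η[G].left (IsLocalRing.closedPoint k)
  have hηG : η[G].left = pullback.lift (b ≫ η[K].left) (𝟙 _)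
      (by rw [Category.assoc, Over.w η[K]]; exact (Category.comp_id _).trans (Category.id_comp _).symm) := by
    apply pullback.hom_ext
    · rw [pullback.lift_fst]
      have h1 := congrArg CommaMorphism.left (GrpSchLib.HomUnitLocus.theta_one (G := K) b (𝟙_ (Over (Spec (CommRingCat.of k)))))
      have hone : (1 : 𝟙_ (Over (Spec (CommRingCat.of k))) ⟶ G) = η[G] := by
        rw [show (1 : 𝟙_ (Over (Spec (CommRingCat.of k))) ⟶ G) = toUnit (𝟙_ _) ≫ η[G] from rfl,
          toUnit_unique (toUnit (𝟙_ (Over (Spec (CommRingCat.of k))))) (𝟙 _), Category.id_comp]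
      rw [hone] at h1
      refine h1.trans ?_
      show (𝟙 _ ≫ b) ≫ η[K].left = b ≫ η[K].left
      rw [Category.id_comp]
    · rw [pullback.lift_snd]
      exact Over.w η[G]
  have hπe : π e = η[K].left q := by
    show pullback.fst K.hom b (η[G].left _) = _
    refine ((congrArg (fun m => pullback.fst K.hom b (m (IsLocalRing.closedPoint k))) hηG).trans ?_)
    refine (Scheme.Hom.comp_apply _ _ _).symm.trans ?_
    rw [pullback.lift_fst, Scheme.Hom.comp_apply]
    exact congrArg η[K].left (hb _)
  have hpre : (π ⁻¹' (O : Set K.left)) = {e} := by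
    ext p
    refine ⟨fun hp => ?_, fun hp => ?_⟩
    · have h1 : π p = η[K].left q := (hO _).mp ⟨hp, hπ p⟩
      have h2 : p ∈ Set.range (pullback.snd η[K].left π) := by
        rw [Scheme.Pullback.range_snd]
        exact ⟨q, h1.symm⟩
      obtain ⟨z, rfl⟩ := h2
      let v : pullback η[K].left π ⟶ Spec (CommRingCat.of k) := pullback.snd η[K].left π ≫ pullback.snd K.hom b
      have hv : v ≫ η[G].left = pullback.snd η[K].left π := by
        rw [hηG]
        apply pullback.hom_ext
        · rw [Category.assoc, pullback.lift_fst]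
          show (pullback.snd η[K].left π ≫ pullback.snd K.hom b) ≫ b ≫ η[K].left = pullback.snd η[K].left π ≫ π
          rw [← pullback.condition, Category.assoc, ← pullback.condition_assoc,
            ← pullback.condition_assoc]
          exact congrArg (pullback.fst η[K].left π ≫ ·) ((reassoc_of% (Over.w η[K])) η[K].left)
        · rw [Category.assoc, pullback.lift_snd, Category.comp_id]
      rw [← hv, Scheme.Hom.comp_apply]
      show η[G].left _ = η[G].left _
      exact congrArg η[G].left (Subsingleton.elim (α := PrimeSpectrum k) _ _)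
    · rw [Set.mem_singleton_iff.mp hp]
      show π e ∈ O
      rw [hπe]
      exact ((hO _).mpr rfl).1
  have hopen : IsOpen ({e} : Set G.left) := hpre ▸ O.isOpen.preimage π.continuous
  -- every point of the geometric fibre is open
  haveI : JacobsonSpace G.left := LocallyOfFiniteType.jacobsonSpace G.hom
  have hclosedOpen : ∀ g : G.left, IsClosed ({g} : Set G.left) → IsOpen ({g} : Set G.left) := by
    intro g hg
    have he : IsClosed ({e} : Set G.left) := by
      haveI : IsClosedImmersion η[G].left := by
        haveI : IsClosedImmersion (η[G].left ≫ G.hom) := by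
          rw [Over.w η[G]]
          exact inferInstanceAs (IsClosedImmersion (𝟙 _))
        haveI : IsSeparated G.hom :=
          (isSeparated_iff G.hom).mpr ((GrpSchLib.diagonal_iff_unit @IsClosedImmersion).mpr (by
            refine IsClosedImmersion.of_isPreimmersion _ ?_
            have h : Set.range η[G].left = {e} := by
              ext z
              refine ⟨?_, fun h => ⟨_, h.symm⟩⟩
              rintro ⟨w, rfl⟩
              exact congrArg η[G].left (Subsingleton.elim (α := PrimeSpectrum k) _ _)
            rw [h]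
            exact isClosed_singleton_of_isLocallyClosed_singleton hopen.isLocallyClosed))
        exact IsClosedImmersion.of_comp η[G].left G.hom
      exact isClosed_singleton_of_isLocallyClosed_singleton hopen.isLocallyClosed
    obtain ⟨a, ha⟩ := GrpSchLib.HomFinite.exists_trans (G := G) e g he hg
    have h := (GrpSchLib.HomFinite.trans a).hom.left
    haveI : IsIso (GrpSchLib.HomFinite.trans a).hom.left :=
      ((Over.forget _).mapIso (GrpSchLib.HomFinite.trans a)).isIso_hom
    have h2 := (GrpSchLib.HomFinite.trans a).hom.left.isOpenEmbedding.isOpenMap _ hopen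
    rwa [Set.image_singleton, ha] at h2
  have hall : ∀ g : G.left, IsOpen ({g} : Set G.left) := by
    intro g
    obtain ⟨c, hc1, hc⟩ := nonempty_inter_closedPoints (Z := closure ({g} : Set G.left))
      ⟨g, subset_closure rfl⟩ isClosed_closure.isLocallyClosed
    have hcg : c = g := by
      obtain ⟨w, hw1, hw2⟩ := mem_closure_iff.mp hc1 {c} (hclosedOpen c hc) rfl
      exact hw1.symm.trans hw2
    exact hcg ▸ hclosedOpen c hc
  haveI : DiscreteTopology G.left := discreteTopology_iff_isOpen_singleton.mpr hall
  haveI : CompactSpace G.left := QuasiCompact.compactSpace_of_compactSpace G.hom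
  haveI : Finite G.left := finite_of_compact_of_discrete
  haveI : Finite ↥(pullback K.hom b) := ‹Finite G.left›
  refine (Set.finite_range π).subset fun y hy => ?_
  have : y ∈ Set.range (pullback.fst K.hom b) := by
    rw [Scheme.Pullback.range_fst]
    exact ⟨IsLocalRing.closedPoint k, (hb _).trans hy.symm⟩
  exact this

end

/-- Let G be an S-group scheme, smooth and of finite presentation over S, with affine connected fibres,
whose centre j : Z → G is of multiplicative type; let k : K → G be a closed normal subgroup scheme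
of G, of finite presentation over S, and s a point of S. If K_s is finite over κ(s), there is an
open neighbourhood U of s over which K is finite; if K_s is the trivial group, there is an open
neighbourhood U of s over which K is the trivial group. -/
theorem result (S : Scheme.{u}) (G : Over S) [GrpObj G] [Smooth G.hom] [QuasiCompact G.hom] [QuasiSeparated G.hom]
    (haff : ∀ s : S, IsAffine (pullback G.hom (S.fromSpecResidueField s)))
    (hconn : ∀ s : S, _root_.IsConnected (G.hom.base ⁻¹' {s}))
    (Z : Over S) [GrpObj Z] (j : Z ⟶ G) (hZ : Red.IsCentre j) (hZm : SGA3x.IsMultTypeFT Z)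
    (K : Over S) [GrpObj K] (k : K ⟶ G) [IsMonHom k] [IsClosedImmersion k.left] (hKn : AlgGrp.IsNormalHom k)
    [LocallyOfFinitePresentation K.hom] [QuasiCompact K.hom] [QuasiSeparated K.hom] (s : S) :
    (IsFinite (Red.bc (S.fromSpecResidueField s) K).hom →
      ∃ U : S.Opens, s ∈ U ∧ IsFinite (Red.bc U.ι K).hom) ∧
    (Red.IsTrivialGrp (Red.bc (S.fromSpecResidueField s) K) →
      ∃ U : S.Opens, s ∈ U ∧ Red.IsTrivialGrp (Red.bc U.ι K)) := by
  haveI : IsSeparated G.hom := (S3025.result S G hconn).1
  haveI : IsSeparated K.hom := by rw [← Over.w k]; infer_instance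
  have hsec : ∀ t : S, K.hom (η[K].left t) = t := fun t => by
    rw [← Scheme.Hom.comp_apply, Over.w η[K]]
    rfl
  let σ := S.fromSpecResidueField s
  -- a neighbourhood where the subgroup is finite
  have key : IsFinite (Red.bc σ K).hom → ∃ U : S.Opens, s ∈ U ∧ IsFinite (Red.bc U.ι K).hom := by
    intro hfin
    let U : S.Opens := η[K].left ⁻¹ᵁ K.hom.quasiFiniteLocus
    have hsU : s ∈ U := by
      show η[K].left s ∈ K.hom.quasiFiniteLocus
      rw [Scheme.Hom.mem_quasiFiniteLocus, Scheme.Hom.quasiFiniteAt_iff_isOpen_singleton_asFiber]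
      haveI : IsFinite (K.hom.fiberToSpecResidueField (K.hom (η[K].left s))) := by
        rw [hsec s]
        exact hfin
      haveI : IsLocallyArtinian (K.hom.fiber (K.hom (η[K].left s))) :=
        .of_locallyQuasiFinite (K.hom.fiberToSpecResidueField _)
      exact isOpen_discrete _
    refine ⟨U, hsU, ?_⟩
    let KU := Red.bc U.ι K
    haveI : (Over.pullback U.ι).IsRightAdjoint := (Over.mapPullbackAdj U.ι).isRightAdjoint
    haveI : Smooth (Red.bc U.ι G).hom := inferInstanceAs (Smooth (Limits.pullback.snd G.hom U.ι))
    haveI : LocallyOfFiniteType KU.hom := inferInstanceAs (LocallyOfFiniteType (Limits.pullback.snd K.hom U.ι))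
    haveI : QuasiCompact KU.hom := inferInstanceAs (QuasiCompact (Limits.pullback.snd K.hom U.ι))
    haveI : LocallyQuasiFinite KU.hom := LocallyQuasiFinite.of_finite_preimage_singleton _ fun t => by
      refine ((finite_fibre (K := K) (U.ι t) (U.ι t) rfl ?_).preimage
        (f := Limits.pullback.fst K.hom U.ι) (Limits.pullback.fst K.hom U.ι).isOpenEmbedding.injective.injOn).subset ?_
      · exact t.2
      · intro z hz
        show K.hom (Limits.pullback.fst K.hom U.ι z) = U.ι t
        rw [← Scheme.Hom.comp_apply, Limits.pullback.condition, Scheme.Hom.comp_apply]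
        exact congrArg U.ι hz
    haveI : IsClosedImmersion ((Over.pullback U.ι).map k).left :=
      MorphismProperty.baseChange_map U.ι k ‹IsClosedImmersion k.left›
    have hZ' : Red.IsCentre ((Over.pullback U.ι).map j) := by
      have h := SolvGrp.isCentralizerOf_bc U.ι (𝟙 G) j hZ
      rwa [CategoryTheory.Functor.map_id] at h
    exact RedRank.KernelFinite.isFinite (RedCentre.isConnected_fibre_bc U.ι G hconn) _ hZ'
      (GrpSchLib.MultTypeBC.isMultTypeFT_bc U.ι hZm) ((Over.pullback U.ι).map k)
      (SolvGrp.isNormalHom_bc U.ι k hKn)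
  refine ⟨key, fun htriv => ?_⟩
  haveI htriv' : IsIso (Red.bc σ K).hom := htriv
  obtain ⟨U, hsU, hUfin⟩ := key inferInstance
  haveI := hUfin
  let g := (Red.bc U.ι K).hom
  let s' : U.toScheme := ⟨s, hsU⟩
  haveI : IsIso (g.fiberToSpecResidueField s') := by
    show IsIso (Limits.pullback.snd (Limits.pullback.snd K.hom U.ι) (U.toScheme.fromSpecResidueField s'))
    have e := pullbackLeftPullbackSndIso_inv_snd_snd K.hom U.ι (U.toScheme.fromSpecResidueField s')
    haveI : IsIso (Limits.pullback.snd K.hom (U.toScheme.fromSpecResidueField s' ≫ U.ι)) := by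
      rw [← Scheme.Hom.SpecMap_residueFieldMap_fromSpecResidueField]
      let m := Spec.map (U.ι.residueFieldMap s')
      haveI : IsIso (Limits.pullback.snd K.hom (S.fromSpecResidueField (U.ι s'))) := htriv'
      show IsIso (Limits.pullback.snd K.hom (m ≫ _))
      rw [← pullbackLeftPullbackSndIso_inv_snd_snd]
      infer_instance
    rw [← (pullbackLeftPullbackSndIso K.hom U.ι (U.toScheme.fromSpecResidueField s')).hom_inv_id_assoc
      (Limits.pullback.snd (Limits.pullback.snd K.hom U.ι) (U.toScheme.fromSpecResidueField s')), e]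
    infer_instance
  haveI : IsClosedImmersion (CohIII.fiberMapOver g g (𝟙 _) (Category.comp_id g) s') := by
    haveI : IsIso (Scheme.Hom.fiberToSpecResidueField (𝟙 U.toScheme) s') :=
      inferInstanceAs (IsIso (Limits.pullback.snd (𝟙 U.toScheme) _))
    have e : CohIII.fiberMapOver g g (𝟙 _) (Category.comp_id g) s' ≫ Scheme.Hom.fiberToSpecResidueField (𝟙 U.toScheme) s' =
        g.fiberToSpecResidueField s' := (Limits.pullback.lift_snd _ _ _).trans (Category.comp_id _)
    haveI : IsIso (CohIII.fiberMapOver g g (𝟙 _) (Category.comp_id g) s' ≫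
        Scheme.Hom.fiberToSpecResidueField (𝟙 U.toScheme) s') := by rw [e]; infer_instance
    haveI := IsIso.of_isIso_comp_right (CohIII.fiberMapOver g g (𝟙 _) (Category.comp_id g) s')
      (Scheme.Hom.fiberToSpecResidueField (𝟙 U.toScheme) s')
    infer_instance
  haveI : IsProper g := inferInstance
  obtain ⟨V, hsV, hV⟩ := Approx.FibreProper.exists_isClosedImmersion_nhd g g (𝟙 _) (Category.comp_id g) s'
  let W : S.Opens := U.ι ''ᵁ V
  refine ⟨W, ⟨s', hsV, rfl⟩, ?_⟩
  have hWU : W ≤ U := Set.image_subset_iff.mpr fun z _ => z.2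
  let inc := S.homOfLE hWU
  have hι : inc ≫ U.ι = W.ι := S.homOfLE_ι hWU
  show IsIso (Limits.pullback.snd K.hom W.ι)
  haveI : IsClosedImmersion (g ∣_ V) := hV
  haveI : IsClosedImmersion (Limits.pullback.snd g V.ι) := by
    rw [← pullbackRestrictIsoRestrict_hom_morphismRestrict g V]
    infer_instance
  -- transport along `W = U.ι ''ᵁ V`
  let eVW : V.toScheme ≅ W.toScheme := U.ι.isoImage V
  have heVW : eVW.hom ≫ W.ι = V.ι ≫ U.ι := U.ι.isoImage_hom_ι V
  haveI : IsClosedImmersion (Limits.pullback.snd K.hom (V.ι ≫ U.ι)) := by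
    rw [← pullbackLeftPullbackSndIso_inv_snd_snd]
    exact MorphismProperty.comp_mem @IsClosedImmersion _ _ inferInstance
      ‹IsClosedImmersion (Limits.pullback.snd g V.ι)›
  haveI hcl : IsClosedImmersion (Limits.pullback.snd K.hom W.ι) := by
    have h : Limits.pullback.snd K.hom W.ι =
        Limits.pullback.map K.hom W.ι K.hom (V.ι ≫ U.ι) (𝟙 _) eVW.inv (𝟙 _) (by simp)
          (by rw [← heVW]; simp) ≫ Limits.pullback.snd K.hom (V.ι ≫ U.ι) ≫ eVW.hom := by
      simp [Limits.pullback.map]
    rw [h]
    infer_instance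
  haveI : Surjective (Limits.pullback.snd K.hom W.ι) := ⟨fun w =>
    ⟨(η[Red.bc W.ι K]).left w, by
      refine (Scheme.Hom.comp_apply _ _ _).symm.trans ?_
      exact congrArg (fun m : W.toScheme ⟶ W.toScheme => m w) (Over.w η[Red.bc W.ι K])⟩⟩
  refine IsClosedImmersion.isIso_iff_ker_eq_bot.mpr ?_
  refine eq_bot_iff.mpr ?_
  have h := Scheme.Hom.le_ker_comp (η[Red.bc W.ι K]).left (Limits.pullback.snd K.hom W.ι)
  rw [show (η[Red.bc W.ι K]).left ≫ Limits.pullback.snd K.hom W.ι = 𝟙 _ from Over.w η[Red.bc W.ι K]] at h
  exact h.trans (Scheme.Hom.ker_eq_bot_of_isIso (𝟙 W.toScheme)).le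

end Groth.Agent.S5411
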