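import Groth.Statements.S5415
import Groth.Agent.AlgSpGrp.QuotGrp
import Groth.Agent.EtFound.Descent

set_option backward.isDefEq.respectTransparency false
set_option backward.isDefEq.respectTransparency.types false
set_option linter.style.haveILetI false
open scoped CategoryTheory.MonObj

set_option autoImplicit false
universe u
open CategoryTheory MonoidalCategory CartesianMonoidalCategory MonObj GrpObj AlgebraicGeometry CategoryTheory.Limits
open SGA3x

namespace Groth.Agent.S5415

/-- Let G be an S-group scheme of finite presentation over S, p : G → G'' a homomorphism which is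
surjective, flat and locally of finite presentation onto an S-group scheme G'' proper and of finite
presentation over S, and i : G' → G its kernel, with G' flat and of finite presentation over S. Let
H be an S-group scheme which is of finite presentation over S, or locally of finite presentation
over a locally Noetherian S, and u : G → H a homomorphism. If the restriction u ∘ i of u to G' is
proper, then u is proper. -/
theorem result (S : Scheme.{u}) (G G' G'' : Over S) [GrpObj G] [GrpObj G'] [GrpObj G'']
    [QuasiCompact G.hom] [QuasiSeparated G.hom] [LocallyOfFinitePresentation G.hom]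
    [IsProper G''.hom] [LocallyOfFinitePresentation G''.hom]
    [Flat G'.hom] [QuasiCompact G'.hom] [QuasiSeparated G'.hom] [LocallyOfFinitePresentation G'.hom]
    (p : G ⟶ G'') [IsMonHom p] [Surjective p.left] [Flat p.left] [LocallyOfFinitePresentation p.left]
    (i : G' ⟶ G) [IsMonHom i] (hker : AlgGrp.IsKernel i p)
    (H : Over S) [GrpObj H] [LocallyOfFinitePresentation H.hom]
    (hH : (QuasiCompact H.hom ∧ QuasiSeparated H.hom) ∨ IsLocallyNoetherian S)
    (u : G ⟶ H) [IsMonHom u] (hu : IsProper (i ≫ u).left) : IsProper u.left := by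
  haveI := hu
  haveI : QuasiCompact (p.left ≫ G''.hom) := by rw [Over.w p]; infer_instance
  haveI : QuasiCompact p.left := QuasiCompact.of_comp _ G''.hom
  haveI : MorphismProperty.DescendsAlong @IsProper (@Surjective ⊓ @Flat ⊓ @QuasiCompact : MorphismProperty Scheme.{u}) :=
    EtFound.fpqc_isProper
  let w : G ⟶ G'' ⊗ H := lift p u
  let σ : G ⊗ H ≅ G ⊗ H :=
    { hom := lift (fst G H) ((fst G H ≫ u) * snd G H)
      inv := lift (fst G H) ((fst G H ≫ u)⁻¹ * snd G H)
      hom_inv_id := by
        apply CartesianMonoidalCategory.hom_ext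
        · simp
        · simp [MonObj.comp_mul, GrpObj.comp_inv]
      inv_hom_id := by
        apply CartesianMonoidalCategory.hom_ext
        · simp
        · simp [MonObj.comp_mul] }
  let a : G ⊗ G' ⟶ G ⊗ H := (G ◁ (i ≫ u)) ≫ σ.hom
  let b : G ⊗ G' ⟶ G := fst G G' * (snd G G' ≫ i)
  have hip : i ≫ p = 1 := hker.w
  have key : ∀ {T : Over S} (l : T ⟶ G ⊗ G'),
      l ≫ a = lift (l ≫ fst G G') ((l ≫ fst G G' ≫ u) * (l ≫ snd G G' ≫ i ≫ u)) := fun l => by
    apply CartesianMonoidalCategory.hom_ext
    · simp [a, σ]
    · simp [a, σ, MonObj.comp_mul]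
  have keyb : ∀ {T : Over S} (l : T ⟶ G ⊗ G'), l ≫ b = (l ≫ fst G G') * (l ≫ snd G G' ≫ i) := fun l => by
    simp [b, MonObj.comp_mul]
  have hw : a ≫ (p ▷ H) = b ≫ w := by
    have e := key (𝟙 (G ⊗ G'))
    simp only [Category.id_comp] at e
    apply CartesianMonoidalCategory.hom_ext
    · simp [e, w, b, MonObj.mul_comp, hip, MonObj.comp_one]
    · simp [e, w, b, MonObj.mul_comp]
  have hcone : ∀ c : PullbackCone (p ▷ H) w, ((c.fst ≫ fst G H)⁻¹ * c.snd) ≫ p = toUnit c.pt ≫ η[G''] := fun c => by
    have e := c.condition =≫ fst G'' H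
    simp only [Category.assoc, whiskerRight_fst, w, lift_fst] at e
    rw [MonObj.mul_comp, GrpObj.inv_comp, Category.assoc, e, inv_mul_cancel]; rfl
  haveI : Mono i := ⟨fun x y e => hker.hom_ext e (toUnit_unique _ _)⟩
  have hsq : IsPullback a b (p ▷ H) w := ⟨⟨hw⟩, ⟨PullbackCone.IsLimit.mk _
    (fun c => lift (c.fst ≫ fst G H) (hker.lift _ _ (hcone c)))
    (fun c => by
      rw [key, lift_fst, lift_fst_assoc, lift_snd_assoc, hker.lift_fst_assoc, ← MonObj.mul_comp, mul_inv_cancel_left]
      apply CartesianMonoidalCategory.hom_ext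
      · rw [lift_fst]
      · have e := c.condition =≫ snd G'' H
        simp only [Category.assoc, whiskerRight_snd, w, lift_snd] at e
        rw [lift_snd, e])
    (fun c => by rw [keyb, lift_fst, lift_snd_assoc, hker.lift_fst, mul_inv_cancel_left])
    (fun c m h₁ h₂ => by
      have hf : m ≫ fst G G' = c.fst ≫ fst G H := by
        rw [← h₁, key, lift_fst]
      apply CartesianMonoidalCategory.hom_ext
      · rw [lift_fst, hf]
      · rw [lift_snd, ← cancel_mono i, hker.lift_fst, ← h₂, keyb, hf, inv_mul_cancel_left, Category.assoc])⟩⟩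
  have hG : IsProper (G ◁ (i ≫ u)).left :=
    MorphismProperty.of_isPullback (P := @IsProper)
      ((AlgSpGrp.isPullback_whiskerLeft (i ≫ u) G).map (Over.forget S)).flip hu
  haveI : IsIso σ.hom.left := ((Over.forget S).mapIso σ).isIso_hom
  have ha : IsProper a.left := by
    haveI := hG
    show IsProper ((G ◁ (i ≫ u)).left ≫ σ.hom.left); infer_instance
  have hp₁ : (@Surjective ⊓ @Flat ⊓ @QuasiCompact : MorphismProperty Scheme.{u}) (p ▷ H).left := by
    have sq := ((AlgSpGrp.isPullback_whiskerRight p H).map (Over.forget S)).flip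
    exact ⟨⟨MorphismProperty.of_isPullback (P := @Surjective) sq ‹_›,
      MorphismProperty.of_isPullback (P := @Flat) sq ‹_›⟩,
      MorphismProperty.of_isPullback (P := @QuasiCompact) sq ‹_›⟩
  haveI : IsProper w.left := MorphismProperty.of_isPullback_of_descendsAlong (P := @IsProper)
    (Q := (@Surjective ⊓ @Flat ⊓ @QuasiCompact : MorphismProperty Scheme.{u})) (hsq.map (Over.forget S)) hp₁ ha
  haveI : IsProper (snd G'' H).left := inferInstanceAs (IsProper (pullback.snd G''.hom H.hom))
  have e : u.left = w.left ≫ (snd G'' H).left := by rw [← Over.comp_left, lift_snd]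
  rw [e]
  infer_instance

end Groth.Agent.S5415
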