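import Groth.Statements.S5417
import Groth.Agent.GrpSchLib.QuotStabGen
-- import your own Groth.Agent.* helpers here

set_option autoImplicit false
universe u
open CategoryTheory MonoidalCategory CartesianMonoidalCategory MonObj GrpObj AlgebraicGeometry CategoryTheory.Limits
open SGA3x

namespace Groth.Agent.S5417

/-- Let u : G → H be a homomorphism of S-group schemes, G locally of finite presentation over S, and H
locally of finite type over S or S locally Noetherian. Let k : K → G be the kernel of u and suppose
K flat over S. Then G/K is representable by an S-group scheme Q locally of finite presentation over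
S: there is a homomorphism q : G → Q representing the fppf quotient, and u = q followed by a
homomorphism Q → H which is a monomorphism. -/
theorem result (S : Scheme.{u}) (G H : Over S) [GrpObj G] [GrpObj H] [LocallyOfFinitePresentation G.hom]
    (hH : LocallyOfFiniteType H.hom ∨ IsLocallyNoetherian S) (u : G ⟶ H) [IsMonHom u]
    (K : Over S) [GrpObj K] (k : K ⟶ G) [IsMonHom k] (hK : AlgGrp.IsKernel k u) [Flat K.hom] :
    ∃ (Q : Over S) (_ : GrpObj Q) (q : G ⟶ Q) (_ : IsMonHom q), RedSub.IsQuotient k q ∧
      LocallyOfFinitePresentation Q.hom ∧ ∃ (m : Q ⟶ H) (_ : IsMonHom m), Mono m ∧ q ≫ m = u := by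
  have hu : μ[G] ≫ u = (fst G G ≫ u) * (snd G G ≫ u) := by
    rw [IsMonHom.mul_hom, Hom.mul_def]
    congr 1
    
  let a : AlgGrp.Action G H :=
    { act := (fst G H ≫ u) * snd G H
      one_act := by
        rw [MonObj.comp_mul, whiskerRight_fst_assoc, whiskerRight_snd, IsMonHom.one_hom,
          toUnit_unique (fst (𝟙_ (Over S)) H) (toUnit _), ← Hom.one_def, _root_.one_mul, leftUnitor_hom]
      mul_act := by
        simp only [MonObj.comp_mul, whiskerRight_fst_assoc, whiskerRight_snd, whiskerLeft_fst_assoc,
          whiskerLeft_snd, whiskerLeft_snd_assoc, associator_hom_fst_assoc, associator_hom_snd_fst_assoc,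
          associator_hom_snd_snd, hu, _root_.mul_assoc] }
  have ho : a.orbitMap η[H] = u := by
    show lift (𝟙 G) (toUnit G ≫ η[H]) ≫ ((fst G H ≫ u) * snd G H) = u
    rw [MonObj.comp_mul, lift_fst_assoc, lift_snd, Category.id_comp, ← Hom.one_def, _root_.mul_one]
  have hK' : CategoryTheory.IsPullback k (toUnit K) (a.orbitMap η[H]) η[H] := by rw [ho]; exact hK
  obtain ⟨Q, p, i, hq, hQ, hm, hpi⟩ :=
    Groth.Agent.GrpSchLib.QuotStabGen.exists_quot a η[H] k hK' hH
  rw [ho] at hpi
  haveI := hm
  obtain ⟨hs, hf, hl, hsq⟩ := hq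
  haveI := hs; haveI := hf; haveI := hl
  obtain ⟨inst, hp, hi⟩ := Groth.Agent.AlgStLib.MonoFactor.exists_grpObj_of_image u p i hpi
  exact ⟨Q, inst, p, hp, ⟨hs, hf, hl, hsq⟩, hQ, i, hi, hm, hpi⟩

end Groth.Agent.S5417
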