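import Groth.Statements.S5429
import Groth.Agent.DiagSplit.Conj
-- import your own Groth.Agent.* helpers here

set_option autoImplicit false
universe u
open TensorProduct
open SGA3

namespace Groth.Agent.S5429

/-- Hopf form: let k be an algebraically closed field, A a finitely generated commutative Hopf algebra
(an algebraic group E), ψ : B → A an injective bialgebra map from a diagonalizable finitely
generated Hopf algebra B (the quotient H of multiplicative type), J the Hopf ideal generated by the
image of the augmentation ideal of B (the kernel U), with U = Spec (A/J) unipotent in the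
fixed-vector sense. Suppose H is smooth (B reduced) or U is smooth (A/J reduced). If r′, r″ : A → B
are two bialgebra retractions of ψ (two liftings H′, H″ of H in E), then there is a k-point u of E
lying in U (an algebra map u : A → k killing J) such that r″ = u · r′ · u⁻¹ as points of E with
values in B (triple convolution of u, r′ and u composed with the antipode). -/
theorem result (k : Type u) [Field k] [IsAlgClosed k] (A B : Type u) [CommRing A] [HopfAlgebra k A] [Algebra.FiniteType k A] [CommRing B] [HopfAlgebra k B]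
    [Algebra.FiniteType k B] (hB : SGA3b.IsDiag k B) (ψ : B →ₐc[k] A) (hψ : Function.Injective ψ)
    (J : Ideal A) [J.IsHopfIdeal k] (hJ : J = Ideal.map (ψ : B →+* A) (RingHom.ker (Bialgebra.counitAlgHom k B)))
    (hU : HopfRep.IsUnipotent k (A ⧸ J))
    (hsm : IsReduced B ∨ IsReduced (A ⧸ J)) (r' r'' : A →ₐc[k] B)
    (hr' : r'.comp ψ = BialgHom.id k B) (hr'' : r''.comp ψ = BialgHom.id k B) :
    ∃ u : A →ₐ[k] k, (∀ a ∈ J, u a = 0) ∧
      (r'' : A →ₐ[k] B) = Dyn.conv3 k A ((Algebra.ofId k B).comp u) (r' : A →ₐ[k] B)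
        (((Algebra.ofId k B).comp u).comp (HopfAlgebra.antipodeAlgHom k A)) := by
  obtain ⟨M, _, ⟨e⟩⟩ := hB
  let s' : A →ₐc[k] MonoidAlgebra k M := (e : B →ₐc[k] MonoidAlgebra k M).comp r'
  let s'' : A →ₐc[k] MonoidAlgebra k M := (e : B →ₐc[k] MonoidAlgebra k M).comp r''
  have h' : ∀ b, r' (ψ b) = b := fun b => DFunLike.congr_fun hr' b
  have h'' : ∀ b, r'' (ψ b) = b := fun b => DFunLike.congr_fun hr'' b
  obtain ⟨v, hv, hconj⟩ := DiagSplit.exists_conj e ψ J hJ hU hsm s' s''
    (fun b => congrArg e (h' b)) (fun b => congrArg e (h'' b))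
  refine ⟨v.ofConv, ?_, ?_⟩
  · intro a ha
    refine (Ideal.map_le_iff_le_comap.mpr (fun b hb => ?_) :
      Ideal.map (ψ : B →+* A) (RingHom.ker (Bialgebra.counitAlgHom k B)) ≤ RingHom.ker v.ofConv.toRingHom) (hJ ▸ ha)
    show v.ofConv (ψ b) = 0
    refine (AlgHom.congr_fun (congrArg WithConv.ofConv hv) b).trans ?_
    rw [show (1 : WithConv (B →ₐ[k] k)).ofConv b = _ from AlgHom.convOne_apply b,
      show Coalgebra.counit (R := k) b = 0 from hb, map_zero]
  · rw [HopfPtLib.conv3_eq]
    let E : MonoidAlgebra k M →ₐ[k] B := (e.symm : MonoidAlgebra k M →ₐc[k] B)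
    have h0 := congrArg (fun f : A →ₐ[k] MonoidAlgebra k M => LieKol.push (A := A) E (WithConv.toConv f)) hconj
    have hr : ∀ r : A →ₐc[k] B, LieKol.push (A := A) E
        (WithConv.toConv ((e : B →ₐc[k] MonoidAlgebra k M).comp r : A →ₐ[k] MonoidAlgebra k M)) =
        WithConv.toConv (r : A →ₐ[k] B) := fun r => WithConv.ext (AlgHom.ext fun a => e.symm_apply_apply (r a))
    have hc : LieKol.push (A := A) E (DiagSplit.const (MonoidAlgebra k M) v) = DiagSplit.const B v :=
      WithConv.ext (AlgHom.ext fun a => E.commutes (v.ofConv a))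
    change LieKol.push (A := A) E (DiagSplit.const (MonoidAlgebra k M) v * WithConv.toConv (s' : A →ₐ[k] MonoidAlgebra k M) *
      (DiagSplit.const (MonoidAlgebra k M) v)⁻¹) = _ at h0
    rw [map_mul, map_mul, map_inv, hc, hr r', hr r''] at h0
    exact (congrArg WithConv.ofConv h0).symm

end Groth.Agent.S5429
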