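import Groth.Statements.S5432
import Groth.Agent.S2966
import Groth.Agent.S7985
import Groth.Agent.ComodLib.Rosenlicht
import Groth.Agent.DimOne.Descent
import Groth.Agent.GeomSep.Basic
-- import your own Groth.Agent.* helpers here

set_option autoImplicit false
universe u
open TensorProduct
open SGA3t2b

namespace Groth.Agent.S5432

open Groth.Agent.ComodLib

/-- Idempotents of a ring with connected spectrum. -/
theorem idem_of_connected {T : Type u} [CommRing T] [ConnectedSpace (PrimeSpectrum T)] (e : T)
    (he : IsIdempotentElem e) : e = 0 ∨ e = 1 := by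
  rcases _root_.isClopen_iff.1 (PrimeSpectrum.isClopen_iff.mpr ⟨e, he, rfl⟩ :
      IsClopen (PrimeSpectrum.basicOpen e : Set (PrimeSpectrum T))) with h | h
  · left
    obtain ⟨n, hn⟩ := PrimeSpectrum.basicOpen_eq_bot_iff _ |>.1 (TopologicalSpace.Opens.ext h)
    rcases n with _ | n
    · rw [pow_zero] at hn
      rw [← mul_one e, hn, mul_zero]
    · rwa [he.pow_succ_eq] at hn
  · right
    have hu : IsUnit e := by
      by_contra hu
      obtain ⟨m, hm, hem⟩ := exists_max_ideal_of_mem_nonunits hu
      have : (⟨m, hm.isPrime⟩ : PrimeSpectrum T) ∈ (PrimeSpectrum.basicOpen e : Set (PrimeSpectrum T)) := h ▸ Set.mem_univ _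
      exact this hem
    exact hu.mul_left_cancel (he.eq.trans (mul_one e).symm)


/-- Let k be a field, C a finitely generated commutative Hopf algebra which is formally smooth with no
idempotents other than 0 and 1 and unipotent in the fixed-vector sense (a smooth connected unipotent
algebraic group U), and B a commutative Hopf algebra of multiplicative type (isomorphic to a group
algebra after a faithfully flat extension of k; the group H, not assumed of finite type). Then every
morphism of k-schemes U → H is constant: every k-algebra map f : B → C satisfies f(b) = ε_C(f(b)) ·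
1. -/
theorem result (k : Type u) [Field k] (C B : Type u) [CommRing C] [HopfAlgebra k C] [Algebra.FiniteType k C]
    [Algebra.FormallySmooth k C] (hconn : ∀ e : C, IsIdempotentElem e → e = 0 ∨ e = 1)
    (hU : HopfRep.IsUnipotent k C) [CommRing B] [HopfAlgebra k B]
    (hB : SGA3b.IsMultTypeConst k B) (f : B →ₐ[k] C) :
    ∀ b : B, f b = algebraMap k C (Bialgebra.counitAlgHom k C (f b)) := by
  classical
  intro b
  obtain ⟨R', _, _, hff, M, _, ⟨eB⟩⟩ := hB
  haveI := hff
  haveI : Nontrivial R' := (algebraMap k R').codomain_trivial_iff_map_one_eq_zero |> fun _ => nontrivial_of_ne 0 1 fun h => by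
    have h0 : algebraMap k R' 1 = algebraMap k R' 0 := by rw [map_one, map_zero, h]
    exact one_ne_zero ((FaithfulSMul.algebraMap_injective k R') h0)
  obtain ⟨m, hm⟩ := Ideal.exists_maximal R'
  letI : Field (R' ⧸ m) := Ideal.Quotient.field m
  let K := AlgebraicClosure (R' ⧸ m)
  haveI : IsScalarTower k R' K := inferInstance
  let CK := K ⊗[k] C
  let ε : C →ₐ[k] k := Bialgebra.counitAlgHom k C
  haveI : Algebra.Smooth k C := ⟨inferInstance, Algebra.FinitePresentation.of_finiteType.1 inferInstance⟩
  haveI : Algebra.FiniteType K CK := inferInstance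
  haveI : Algebra.Smooth K CK := inferInstance
  haveI : Nontrivial CK := (Bialgebra.counitAlgHom K CK).toRingHom.domain_nontrivial
  let kb := AlgebraicClosure k
  haveI : Nontrivial (kb ⊗[k] C) := (Bialgebra.counitAlgHom kb (kb ⊗[k] C)).toRingHom.domain_nontrivial
  haveI : ConnectedSpace (PrimeSpectrum (kb ⊗[k] C)) :=
    MultTypeLib.connectedSpace_of_idem fun e he => DimOne.idem_baseChange ε hconn e he
  haveI : ConnectedSpace (PrimeSpectrum CK) := GeomSep.geometricallyConnected_of_isSepClosed (k := k) kb K
  have hconnK : ∀ e : CK, IsIdempotentElem e → e = 0 ∨ e = 1 := fun e he => idem_of_connected e he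
  haveI : IsDomain CK := S7985.isDomain_of_smooth (k := K) hconnK
  haveI : GLin.IsCoactAlg K CK CK := ⟨Bialgebra.comul_one, fun f g => Bialgebra.comul_mul f g⟩
  -- units are constant
  have hunit : ∀ u : CK, IsUnit u → u ∈ (algebraMap K CK).range := by
    intro u hu
    obtain ⟨χ, hχ, hco⟩ := exists_character (A := CK) (B := CK) hu.ne_zero fun g => by
      refine ⟨(show IsUnit (HopfRep.Comod.act K CK CK g u) from ?_).unit * hu.unit⁻¹, ?_⟩
      · exact IsUnit.of_mul_eq_one (HopfRep.Comod.act K CK CK g ((hu.unit⁻¹ : CKˣ) : CK)) (by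
          rw [← act_mul, IsUnit.mul_val_inv]; exact act_fixed (GLin.invariants K CK CK).one_mem g)
      · simp [mul_assoc]
    rw [S2966.groupLike_eq_one hU χ hχ] at hco
    refine ⟨Coalgebra.counit (R := K) u, ?_⟩
    have h := congrArg (TensorProduct.lid K CK) (Coalgebra.rTensor_counit_comul (R := K) u)
    rw [show Coalgebra.comul (R := K) u = u ⊗ₜ[K] (1 : CK) from hco, LinearMap.rTensor_tmul] at h
    simpa [Algebra.algebraMap_eq_smul_one] using h
  -- the map on the diagonalisable algebra is constant
  let fK : K ⊗[k] B →ₐ[K] CK := Algebra.TensorProduct.map (AlgHom.id K K) f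
  let j : R' ⊗[k] B →ₐ[k] K ⊗[k] B := Algebra.TensorProduct.map (IsScalarTower.toAlgHom k R' K) (AlgHom.id k B)
  let g₀ : MonoidAlgebra R' M →+* CK := (fK.toRingHom.comp j.toRingHom).comp eB.symm.toAlgEquiv.toRingEquiv.toRingHom
  have hgc : ∀ x : MonoidAlgebra R' M, g₀ x ∈ (algebraMap K CK).range := by
    intro x
    induction x using MonoidAlgebra.induction_linear with
    | zero => exact ⟨0, by simp⟩
    | add p q hp hq =>
      rw [map_add]
      exact Subring.add_mem _ hp hq
    | single mm r =>
      rw [show MonoidAlgebra.single mm r = MonoidAlgebra.single 1 r * MonoidAlgebra.single mm 1 by simp, map_mul]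
      refine Subring.mul_mem _ ⟨algebraMap R' K r, ?_⟩ (hunit _ (IsUnit.map g₀ ?_))
      · have e1 : eB.symm (MonoidAlgebra.single (1 : M) r) = algebraMap R' (R' ⊗[k] B) r :=
          eB.symm.toAlgEquiv.commutes r
        show _ = fK (j (eB.symm (MonoidAlgebra.single (1 : M) r)))
        rw [e1]
        simp [j, fK, CK, Algebra.TensorProduct.algebraMap_apply]
      · exact IsUnit.of_mul_eq_one (MonoidAlgebra.single mm⁻¹ 1) (by simp [MonoidAlgebra.one_def])
  obtain ⟨c, hc⟩ : (1 : K) ⊗ₜ[k] f b ∈ (algebraMap K CK).range := by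
    have h := hgc (eB ((1 : R') ⊗ₜ[k] b))
    simpa [g₀, j, fK, CK] using h
  have hc' : c = algebraMap k K (ε (f b)) := by
    have h := congrArg (Coalgebra.counit (R := K)) hc
    simpa [CK, ε, Algebra.algebraMap_eq_smul_one] using h
  refine (Algebra.TensorProduct.includeRight_injective (R := k) (A := K) (algebraMap k K).injective) ?_
  show (1 : K) ⊗ₜ[k] f b = (1 : K) ⊗ₜ[k] algebraMap k C (ε (f b))
  rw [← hc, hc', Algebra.TensorProduct.algebraMap_apply, Algebra.algebraMap_self_apply, Algebra.algebraMap_eq_smul_one,
    TensorProduct.smul_tmul, ← Algebra.algebraMap_eq_smul_one]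

end Groth.Agent.S5432
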