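import Groth.Statements.S5434
import Groth.Agent.SchDenseLib.Hom
import Groth.Agent.SchDenseLib.FlatLFP
-- import your own Groth.Agent.* helpers here

set_option autoImplicit false
universe u
open CategoryTheory MonoidalCategory CartesianMonoidalCategory MonObj GrpObj AlgebraicGeometry CategoryTheory.Limits
open SGA3x

namespace Groth.Agent.S5434

open CategoryTheory CategoryTheory.Limits AlgebraicGeometry

/-- Let X be an S-scheme and U an open subscheme of X which is schematically dense in X relative to S:
for every S′ → S the preimage of U in X ×_S S′ is schematically dense (restriction of functions to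
it is injective on every open). Let Y be an S-scheme whose fibres Y_s are separated (over κ(s)). If
two S-morphisms f, g : X → Y agree on U, then f = g. -/
theorem result (S : Scheme.{u}) (X Y : Over S) (U : X.left.Opens) (hU : (∀ (S' : Scheme.{u}) (g : S' ⟶ S), CInt.IsSchematicallyDense ((pullback.fst X.hom g) ⁻¹ᵁ U)))
    (hY : ∀ s : S, IsSeparated (pullback.snd Y.hom (S.fromSpecResidueField s)))
    (f g : X ⟶ Y) (h : U.ι ≫ f.left = U.ι ≫ g.left) : f = g := by
  -- agreement on fibres, in particular on points
  have hfib : ∀ s : S, pullback.fst X.hom (S.fromSpecResidueField s) ≫ f.left =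
      pullback.fst X.hom (S.fromSpecResidueField s) ≫ g.left := by
    intro s
    have := hY s
    let q := S.fromSpecResidueField s
    let fs : pullback X.hom q ⟶ pullback Y.hom q :=
      pullback.lift (pullback.fst X.hom q ≫ f.left) (pullback.snd X.hom q)
        (by rw [Category.assoc, Over.w f, pullback.condition])
    let gs : pullback X.hom q ⟶ pullback Y.hom q :=
      pullback.lift (pullback.fst X.hom q ≫ g.left) (pullback.snd X.hom q)
        (by rw [Category.assoc, Over.w g, pullback.condition])
    have e : fs = gs := by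
      refine Groth.Agent.SchDenseLib.hom_ext (hU _ q) (pullback.snd Y.hom q) fs gs ?_ ?_
      · exact (pullback.lift_snd _ _ _).trans (pullback.lift_snd _ _ _).symm
      · refine pullback.hom_ext ?_ ?_
        · rw [Category.assoc, Category.assoc]
          refine Eq.trans (congrArg (_ ≫ ·) (pullback.lift_fst _ _ _))
            (Eq.trans ?_ (congrArg (_ ≫ ·) (pullback.lift_fst _ _ _)).symm)
          rw [← morphismRestrict_ι_assoc, h, morphismRestrict_ι_assoc]
        · rw [Category.assoc, Category.assoc]
          exact congrArg (_ ≫ ·) ((pullback.lift_snd _ _ _).trans (pullback.lift_snd _ _ _).symm)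
    exact (pullback.lift_fst _ _ _).symm.trans
      ((congrArg (· ≫ pullback.fst Y.hom q) e).trans (pullback.lift_fst _ _ _))
  have hpts : ∀ x : X.left, f.left.base x = g.left.base x := by
    intro x
    have hx : x ∈ Set.range (pullback.fst X.hom (S.fromSpecResidueField (X.hom.base x))).base := by
      rw [Scheme.Pullback.range_fst, Scheme.range_fromSpecResidueField]
      rfl
    obtain ⟨z, hz⟩ := hx
    rw [← hz, ← Scheme.Hom.comp_apply, hfib, Scheme.Hom.comp_apply]
  apply Over.OverMorphism.ext
  -- locally `Y` is separated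
  refine Scheme.Cover.hom_ext (X.left.openCoverOfIsOpenCover
    (fun x : X.left => f.left ⁻¹ᵁ (Y.left.affineCover.f (Y.left.affineCover.idx (f.left.base x))).opensRange)
    ?_) _ _ fun x => ?_
  · refine TopologicalSpace.Opens.ext (Set.eq_univ_of_forall fun x => ?_)
    exact TopologicalSpace.Opens.mem_iSup.mpr ⟨x, Y.left.affineCover.covers (f.left.base x)⟩
  set V := (Y.left.affineCover.f (Y.left.affineCover.idx (f.left.base x))).opensRange with hV
  set W : X.left.Opens := f.left ⁻¹ᵁ V with hW
  change W.ι ≫ f.left = W.ι ≫ g.left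
  have hVaff : IsAffineOpen V := isAffineOpen_opensRange _
  have : IsAffine V.toScheme := hVaff
  have : IsSeparated (V.ι ≫ Y.hom) := by
    have hc : IsSeparated ((V.ι ≫ Y.hom) ≫ terminal.from S) := by
      rw [terminal.hom_ext ((V.ι ≫ Y.hom) ≫ terminal.from S) (terminal.from _)]
      infer_instance
    exact IsSeparated.of_comp _ (terminal.from S)
  have hd0 : CInt.IsSchematicallyDense U := by
    have h1 := hU S (𝟙 S)
    have h2 := Groth.Agent.SchDenseLib.preimage_of_flat_lfp (inv (pullback.fst X.hom (𝟙 S))) _ h1
    rwa [← Scheme.Hom.comp_preimage, IsIso.inv_hom_id, Scheme.Hom.id_preimage] at h2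
  have hd : CInt.IsSchematicallyDense (W.ι ⁻¹ᵁ U) :=
    Groth.Agent.SchDenseLib.preimage_of_flat_lfp W.ι U hd0
  let fV : W.toScheme ⟶ V.toScheme := IsOpenImmersion.lift V.ι (W.ι ≫ f.left) (by
    rintro _ ⟨y, rfl⟩
    rw [Scheme.Opens.range_ι]
    exact y.2)
  let gV : W.toScheme ⟶ V.toScheme := IsOpenImmersion.lift V.ι (W.ι ≫ g.left) (by
    rintro _ ⟨y, rfl⟩
    rw [Scheme.Opens.range_ι, Scheme.Hom.comp_apply]
    show g.left.base y.1 ∈ (V : Set Y.left)
    rw [← hpts]
    exact y.2)
  have e : fV = gV := by
    refine Groth.Agent.SchDenseLib.hom_ext hd (V.ι ≫ Y.hom) fV gV ?_ ?_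
    · simp only [fV, gV, IsOpenImmersion.lift_fac_assoc, Category.assoc, Over.w f, Over.w g]
    · rw [← cancel_mono V.ι]
      simp only [fV, gV, Category.assoc, IsOpenImmersion.lift_fac]
      rw [← morphismRestrict_ι_assoc, h, morphismRestrict_ι_assoc]
  have := congrArg (· ≫ V.ι) e
  simpa [fV, gV] using this


end Groth.Agent.S5434
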