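import Groth.Statements.S5436
import Groth.Agent.S5435
import Groth.Agent.SchDenseLib.FlatLFP
import Groth.Agent.AlgSpDec.SchDenseFacts
import Groth.Agent.FpqcDescLib.Basic
import Mathlib.AlgebraicGeometry.Morphisms.Immersion
import Mathlib.AlgebraicGeometry.Morphisms.ClosedImmersion
import Mathlib.AlgebraicGeometry.Fiber
-- import your own Groth.Agent.* helpers here

set_option backward.isDefEq.respectTransparency false
set_option backward.isDefEq.respectTransparency.types false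
set_option autoImplicit false
universe u
open CategoryTheory MonoidalCategory CartesianMonoidalCategory MonObj GrpObj AlgebraicGeometry CategoryTheory.Limits
open SGA3x

namespace Groth.Agent.S5436

/-- The image of a section of a morphism to the spectrum of a field is closed. -/
theorem isClosed_range_section {X : Scheme.{u}} {K : Type u} [Field K] (p : X ⟶ Spec (CommRingCat.of K))
    (σ : Spec (CommRingCat.of K) ⟶ X) (h : σ ≫ p = 𝟙 _) : IsClosed (Set.range σ) := by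
  refine closure_subset_iff_isClosed.mp fun q hq => ?_
  obtain ⟨_, ⟨W₀, hW, rfl⟩, hqW, -⟩ := X.isBasis_affineOpens.exists_subset_of_mem_open (Set.mem_univ q) isOpen_univ
  let W : X.Opens := W₀
  obtain ⟨_, hyW, y, rfl⟩ := mem_closure_iff.mp hq _ W.isOpen hqW
  have hsub : Set.range σ ⊆ Set.range W.ι := by
    rw [Scheme.Opens.range_ι]
    rintro _ ⟨z, rfl⟩
    rw [Subsingleton.elim (α := PrimeSpectrum K) z y]
    exact hyW
  let σ' := IsOpenImmersion.lift W.ι σ hsub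
  have hσ' : σ' ≫ W.ι = σ := IsOpenImmersion.lift_fac _ _ _
  haveI : IsAffine (W : Scheme.{u}) := hW
  haveI : IsClosedImmersion (σ' ≫ W.ι ≫ p) := by
    rw [reassoc_of% hσ', h]
    infer_instance
  haveI : IsClosedImmersion σ' := IsClosedImmersion.of_comp σ' (W.ι ≫ p)
  obtain ⟨z, hz⟩ : (⟨q, hqW⟩ : W) ∈ Set.range σ' := by
    rw [← σ'.isClosedEmbedding.isClosed_range.closure_eq]
    refine mem_closure_iff.mpr fun o ho hqo => ?_
    obtain ⟨_, ⟨⟨a, haW⟩, hao, rfl⟩, z, hz⟩ :=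
      mem_closure_iff.mp hq _ (W.ι.isOpenEmbedding.isOpenMap o ho) ⟨⟨q, hqW⟩, hqo, rfl⟩
    exact ⟨⟨a, haW⟩, hao, z, W.ι.isOpenEmbedding.injective (by rw [← Scheme.Hom.comp_apply, hσ']; exact hz)⟩
  exact ⟨z, by rw [← hσ', Scheme.Hom.comp_apply, hz]; rfl⟩

/-- A morphism which equals a section on an open which is schematically dense and dense in every fibre equals
the section. -/
theorem eq_section {X H S : Scheme.{u}} (p : X ⟶ S) (h : H ⟶ S) (σ : S ⟶ H) (hσ : σ ≫ h = 𝟙 S) (d : X ⟶ H)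
    (hd : d ≫ h = p) (V : X.Opens) (hV : CInt.IsSchematicallyDense V)
    (hfib : ∀ (x : X) (N : X.Opens), x ∈ N → ∃ v ∈ N, v ∈ V ∧ p v = p x)
    (heq : V.ι ≫ d = V.ι ≫ p ≫ σ) : d = p ≫ σ := by
  haveI : IsImmersion (σ ≫ h) := by rw [hσ]; infer_instance
  haveI : IsImmersion σ := IsImmersion.of_comp σ h
  let i := pullback.snd σ d
  have hsurj : Function.Surjective i := fun x => by
    have hrange : x ∈ Set.range i := by
      rw [Scheme.Pullback.range_snd]
      refine ⟨p x, ?_⟩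
      let s := p x
      have hdx : h (d x) = s := by rw [← Scheme.Hom.comp_apply, hd]
      obtain ⟨q, hq⟩ : d x ∈ Set.range (h.fiberι s) := by rw [h.range_fiberι]; exact hdx
      let σs : Spec (S.residueField s) ⟶ h.fiber s :=
        pullback.lift (S.fromSpecResidueField s ≫ σ) (𝟙 _)
          (by rw [Category.assoc, hσ, Category.comp_id, Category.id_comp])
      have hcl : IsClosed (Set.range σs) :=
        isClosed_range_section (K := S.residueField s) (h.fiberToSpecResidueField s) σs (pullback.lift_snd _ _ _)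
      have hι : ∀ z, h.fiberι s (σs z) = σ s := fun z => by
        rw [← Scheme.Hom.comp_apply]
        rw [show σs ≫ h.fiberι s = S.fromSpecResidueField s ≫ σ from pullback.lift_fst _ _ _, Scheme.Hom.comp_apply,
          Scheme.fromSpecResidueField_apply]
      obtain ⟨z, hz⟩ : q ∈ Set.range σs := by
        rw [← hcl.closure_eq]
        refine mem_closure_iff.mpr fun o ho hqo => ?_
        obtain ⟨o', ho', rfl⟩ := (h.fiberι s).isEmbedding.isInducing.isOpen_iff.mp ho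
        obtain ⟨v, hvN, hvV, hvs⟩ := hfib x (d ⁻¹ᵁ ⟨o', ho'⟩) (show d x ∈ o' from hq ▸ hqo)
        refine ⟨σs (IsLocalRing.closedPoint _), ?_, ⟨_, rfl⟩⟩
        have h1 : d v = σ s := by
          have h2 := congrArg (fun t : (V : Scheme.{u}) ⟶ H => t ⟨v, hvV⟩) heq
          simp only [Scheme.Hom.comp_apply] at h2
          exact h2.trans (congrArg σ hvs)
        show h.fiberι s _ ∈ o'
        rw [hι, ← h1]
        exact hvN
      rw [← hq, ← hz, hι]
    exact hrange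
  haveI : IsClosedImmersion i :=
    IsClosedImmersion.of_isPreimmersion i (by rw [hsurj.range_eq]; exact isClosed_univ)
  haveI : IsIso i := by
    refine IsClosedImmersion.isIso_iff_ker_eq_bot.mpr (Scheme.IdealSheafData.ext (funext fun Z => ?_))
    rw [Scheme.IdealSheafData.ideal_bot, Pi.bot_apply, eq_bot_iff]
    intro a ha
    let v : (V : Scheme.{u}) ⟶ pullback σ d := pullback.lift (V.ι ≫ p) V.ι (by rw [Category.assoc, heq])
    have hv : v ≫ i = V.ι := pullback.lift_snd _ _ _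
    have h0 : V.ι.app Z.1 a = 0 := by
      have hle : i.ker.ideal Z ≤ V.ι.ker.ideal Z := by
        have := Scheme.Hom.le_ker_comp v i
        rw [hv] at this
        exact this Z
      exact RingHom.mem_ker.mp (Scheme.Hom.ideal_ker_le V.ι Z (hle ha))
    rw [Scheme.Opens.ι_app] at h0
    exact (SchDenseLib.iff_eq_zero V).mp hV Z.1 a
      (SchDenseLib.map_eq_zero_of_le a (Scheme.Hom.image_preimage_le _ _)
        (by rw [Scheme.Hom.image_preimage_eq_opensRange_inf, Scheme.Opens.opensRange_ι, inf_comm]) h0)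
  have h1 : i ≫ d = pullback.fst σ d ≫ σ := pullback.condition.symm
  have h2 : i ≫ p = pullback.fst σ d := by rw [← hd, reassoc_of% h1, hσ, Category.comp_id]
  rw [← cancel_epi i, h1, ← h2, Category.assoc]

variable {S : Scheme.{u}} {G : Over S} [GrpObj G]

/-- A map which on every fibre is a translation. -/
def Good {X : Over S} (φ : X ⊗ G ⟶ G) : Prop :=
  ∀ (T : Over S) (x : T ⟶ X), ∃ e : T ⊗ G ⟶ T ⊗ G, IsIso e ∧ lift (fst T G ≫ x) (snd T G) ≫ φ = e ≫ snd T G

/-- Left translation. -/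
noncomputable def L {X : Over S} (t : X ⟶ G) : X ⊗ G ⟶ G := (fst X G ≫ t) * snd X G

/-- Inverted right translation. -/
noncomputable def R {X : Over S} (t : X ⟶ G) : X ⊗ G ⟶ G := (snd X G)⁻¹ * (fst X G ≫ t)

theorem lift_L {X Y : Over S} (t : X ⟶ G) (p : Y ⟶ X) (c : Y ⟶ G) : lift p c ≫ L t = (p ≫ t) * c := by
  rw [L, MonObj.comp_mul, lift_fst_assoc, lift_snd]

theorem lift_R {X Y : Over S} (t : X ⟶ G) (p : Y ⟶ X) (c : Y ⟶ G) : lift p c ≫ R t = c⁻¹ * (p ≫ t) := by
  rw [R, MonObj.comp_mul, GrpObj.comp_inv, lift_fst_assoc, lift_snd]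

theorem good_L {X : Over S} (t : X ⟶ G) : Good (L t) := fun T x => by
  refine ⟨lift (fst T G) (L (x ≫ t)), ⟨lift (fst T G) (L (x ≫ t)⁻¹), ?_, ?_⟩, ?_⟩
  · apply CartesianMonoidalCategory.hom_ext
    · simp
    · rw [Category.assoc, lift_snd, lift_L, Category.id_comp, L, GrpObj.comp_inv, inv_mul_cancel_left]
  · apply CartesianMonoidalCategory.hom_ext
    · simp
    · rw [Category.assoc, lift_snd, lift_L, Category.id_comp, L, GrpObj.comp_inv, mul_inv_cancel_left]
  · rw [lift_snd, lift_L, L, Category.assoc]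

theorem good_R {X : Over S} (t : X ⟶ G) : Good (R t) := fun T x => by
  refine ⟨lift (fst T G) (R (x ≫ t)), ⟨lift (fst T G) ((fst T G ≫ x ≫ t) * (snd T G)⁻¹), ?_, ?_⟩, ?_⟩
  · apply CartesianMonoidalCategory.hom_ext
    · simp
    · rw [Category.assoc, lift_snd, Category.id_comp, MonObj.comp_mul, GrpObj.comp_inv, lift_fst_assoc, lift_snd, R]
      simp
  · apply CartesianMonoidalCategory.hom_ext
    · simp
    · rw [Category.assoc, lift_snd, Category.id_comp, lift_R]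
      simp
  · rw [lift_snd, lift_R, R, Category.assoc]

theorem good4 {X : Over S} {a b c d : X ⊗ G ⟶ G} (ha : Good a) (hb : Good b) (hc : Good c) (hd : Good d) :
    ∀ i, Good (![a, b, c, d] i) := by
  intro i
  fin_cases i
  exacts [ha, hb, hc, hd]

variable (G) in
/-- The open subscheme as an object over the base. -/
noncomputable abbrev U' (U : G.left.Opens) : Over S := Over.mk (U.ι ≫ G.hom)

variable [Flat G.hom] [LocallyOfFinitePresentation G.hom] {U : G.left.Opens}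
  (hU : ∀ (S' : Scheme.{u}) (g : S' ⟶ S), CInt.IsSchematicallyDense ((pullback.fst G.hom g) ⁻¹ᵁ U))
  {jU : U' G U ⟶ G} (hjU : jU.left = U.ι)
include hU

/-- Finitely many translates of a relatively dense open have a common point over every point. -/
theorem exists_point {X : Over S} (φ : Fin 4 → (X ⊗ G ⟶ G)) (hφ : ∀ i, Good (φ i)) (x : X.left) :
    ∃ z : (X ⊗ G).left, (fst X G).left z = x ∧ ∀ i, (φ i).left z ∈ U := by
  let T : Over S := Over.mk (X.left.fromSpecResidueField x ≫ X.hom)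
  let xT : T ⟶ X := Over.homMk (X.left.fromSpecResidueField x) rfl
  have hrange : ∀ y : T.left, xT.left y = x := fun y =>
    (X.left.range_fromSpecResidueField x).le ⟨y, rfl⟩
  obtain ⟨y⟩ : Nonempty T.left := inferInstanceAs (Nonempty (Spec (X.left.residueField x)))
  haveI : Nonempty (T ⊗ G).left := ⟨(lift (𝟙 T) (1 : T ⟶ G)).left y⟩
  let P : (T ⊗ G).left.Opens := (snd T G).left ⁻¹ᵁ U
  have hP : Dense (P : Set (T ⊗ G).left) := dense_iff_inter_open.mpr fun o ho hne => by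
    have e : CInt.IsSchematicallyDense P := by
      have h1 : CInt.IsSchematicallyDense ((β_ T G).hom.left ⁻¹ᵁ ((fst G T).left ⁻¹ᵁ U)) := by
        haveI : IsIso (β_ T G).hom.left := (inferInstance : IsIso ((Over.forget S).map (β_ T G).hom))
        exact SchDenseLib.preimage_of_flat_lfp _ _ (hU T.left T.hom)
      rwa [← Scheme.Hom.comp_preimage, ← Over.comp_left, braiding_hom_fst] at h1
    exact S5435.dense_of_isSchematicallyDense e ⟨o, ho⟩ hne
  choose e he hcomm using fun i => hφ i T xT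
  have hd : ∀ i, Dense (((e i).left ⁻¹ᵁ P : (T ⊗ G).left.Opens) : Set (T ⊗ G).left) := fun i => by
    haveI := he i
    haveI : IsIso (e i).left := (inferInstance : IsIso ((Over.forget S).map (e i)))
    exact hP.preimage (e i).left.isOpenEmbedding.isOpenMap
  obtain ⟨z, hz⟩ := (((hd 0).inter_of_isOpen_left (hd 1) (TopologicalSpace.Opens.isOpen _)).inter_of_isOpen_left
    ((hd 2).inter_of_isOpen_left (hd 3) (TopologicalSpace.Opens.isOpen _))
    ((TopologicalSpace.Opens.isOpen _).inter (TopologicalSpace.Opens.isOpen _))).nonempty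
  refine ⟨(lift (fst T G ≫ xT) (snd T G)).left z, ?_, fun i => ?_⟩
  · rw [← S5435.left_comp_apply, lift_fst, S5435.left_comp_apply]
    exact hrange _
  · rw [← S5435.left_comp_apply, hcomm, S5435.left_comp_apply]
    have hi : z ∈ (e i).left ⁻¹ᵁ P := by
      fin_cases i
      exacts [hz.1.1, hz.1.2, hz.2.1, hz.2.2]
    exact hi

include hjU

/-- Finitely many translates of a relatively dense open have a common point fppf locally. -/
theorem exists_cover {X : Over S} (φ : Fin 4 → (X ⊗ G ⟶ G)) (hφ : ∀ i, Good (φ i)) :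
    ∃ (X' : Over S) (p : X' ⟶ X) (c : X' ⟶ G) (u : Fin 4 → (X' ⟶ U' G U)),
      FpqcDescLib.IsCovering p.left ∧ ∀ i, u i ≫ jU = lift p c ≫ φ i := by
  let O : (X ⊗ G).left.Opens := ((φ 0).left ⁻¹ᵁ U ⊓ (φ 1).left ⁻¹ᵁ U) ⊓ ((φ 2).left ⁻¹ᵁ U ⊓ (φ 3).left ⁻¹ᵁ U)
  let O' : Over S := Over.mk (O.ι ≫ (X ⊗ G).hom)
  let o : O' ⟶ X ⊗ G := Over.homMk O.ι rfl
  let p : O' ⟶ X := o ≫ fst X G
  have hp : p.left = O.ι ≫ pullback.fst X.hom G.hom := rfl
  haveI : Flat p.left := by rw [hp]; infer_instance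
  haveI : LocallyOfFinitePresentation p.left := by rw [hp]; infer_instance
  haveI : Surjective p.left := ⟨fun x => by
    obtain ⟨z, hz, hzU⟩ := exists_point hU φ hφ x
    exact ⟨(⟨z, ⟨hzU 0, hzU 1⟩, hzU 2, hzU 3⟩ : O), hz⟩⟩
  have hmem : ∀ (i : Fin 4) (w : O'.left), (o ≫ φ i).left w ∈ U := fun i w => by
    have hw : O.ι w ∈ O := (w : O).2
    rw [S5435.left_comp_apply]
    fin_cases i
    exacts [hw.1.1, hw.1.2, hw.2.1, hw.2.2]
  have hsub : ∀ i, Set.range (o ≫ φ i).left ⊆ Set.range U.ι := fun i => by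
    rw [Scheme.Opens.range_ι]
    exact Set.range_subset_iff.mpr (hmem i)
  refine ⟨O', p, o ≫ snd X G, fun i => Over.homMk (IsOpenImmersion.lift U.ι (o ≫ φ i).left (hsub i)) ?_,
    FpqcDescLib.isCovering_of_lfp p.left, fun i => ?_⟩
  · show IsOpenImmersion.lift _ _ _ ≫ U.ι ≫ G.hom = _
    rw [IsOpenImmersion.lift_fac_assoc]
    exact Over.w (o ≫ φ i)
  · rw [show lift p (o ≫ snd X G) = o from lift_comp_fst_snd o]
    refine Over.OverMorphism.ext ?_
    rw [Over.comp_left, hjU]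
    exact IsOpenImmersion.lift_fac _ _ _

end Groth.Agent.S5436

namespace Groth.Agent.S5436

section Lemmas
open scoped MonObj
variable {S : Scheme.{u}} {G H : Over S} [GrpObj G] [GrpObj H] [Flat G.hom] [LocallyOfFinitePresentation G.hom]
  {U : G.left.Opens} {jU : U' G U ⟶ G} {fbar : U' G U ⟶ H}

set_option maxHeartbeats 1000000 in
/-- The multiplicativity holds on the whole of `U × U ∩ μ⁻¹ U`. -/
theorem mult_all (hjU : jU.left = U.ι)
    (V : (G ⊗ G).left.Opens) (hV : (∀ (S' : Scheme.{u}) (g : S' ⟶ S), CInt.IsSchematicallyDense ((pullback.fst (G ⊗ G).hom g) ⁻¹ᵁ V)))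
    (hmul : ∀ (X : Over S) (a b : X ⟶ U' G U),
      Set.range (lift (a ≫ jU) (b ≫ jU)).left.base ⊆ (V : Set ↥(G ⊗ G).left) →
      ∃ c : X ⟶ U' G U, c ≫ jU = (a ≫ jU) * (b ≫ jU) ∧ c ≫ fbar = (a ≫ fbar) * (b ≫ fbar)) :
    ∀ (X : Over S) (a b c : X ⟶ U' G U), c ≫ jU = (a ≫ jU) * (b ≫ jU) →
      c ≫ fbar = (a ≫ fbar) * (b ≫ fbar) := by
  haveI : IsOpenImmersion jU.left := by rw [hjU]; infer_instance
  haveI : Mono jU := Over.mono_of_mono_left _
  have lifts : ∀ {X : Over S} (q : X ⟶ G), (∀ z, q.left z ∈ U) → ∃ a : X ⟶ U' G U, a ≫ jU = q := by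
    intro X q hq
    have hsub : Set.range q.left ⊆ Set.range U.ι := by
      rw [Scheme.Opens.range_ι]
      exact Set.range_subset_iff.mpr hq
    refine ⟨Over.homMk (IsOpenImmersion.lift U.ι q.left hsub) ?_, Over.OverMorphism.ext ?_⟩
    · show IsOpenImmersion.lift _ _ _ ≫ U.ι ≫ G.hom = _
      rw [IsOpenImmersion.lift_fac_assoc]
      exact Over.w q
    · rw [Over.comp_left, hjU]
      exact IsOpenImmersion.lift_fac _ _ _
  have hmemU : ∀ {X : Over S} (e : X ⟶ U' G U) (y : X.left), (e ≫ jU).left y ∈ U := fun e y => by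
    rw [S5435.left_comp_apply, hjU]
    exact (e.left y : U).2
  let W : (G ⊗ G).left.Opens := (fst G G).left ⁻¹ᵁ U ⊓ ((snd G G).left ⁻¹ᵁ U ⊓ μ[G].left ⁻¹ᵁ U)
  let W' : Over S := Over.mk (W.ι ≫ (G ⊗ G).hom)
  let w : W' ⟶ G ⊗ G := Over.homMk W.ι rfl
  have hmemW : ∀ z, w.left z ∈ W := fun z => (z : W).2
  obtain ⟨a₀, ha₀⟩ := lifts (w ≫ fst G G) fun z => by rw [S5435.left_comp_apply]; exact (hmemW z).1
  obtain ⟨b₀, hb₀⟩ := lifts (w ≫ snd G G) fun z => by rw [S5435.left_comp_apply]; exact (hmemW z).2.1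
  obtain ⟨c₀, hc₀⟩ := lifts (w ≫ μ[G]) fun z => by rw [S5435.left_comp_apply]; exact (hmemW z).2.2
  have hc₀' : c₀ ≫ jU = (a₀ ≫ jU) * (b₀ ≫ jU) := by
    rw [hc₀, ha₀, hb₀, ← MonObj.comp_mul, ← MonObj.mul_eq_mul]
  have key : c₀ ≫ fbar = (a₀ ≫ fbar) * (b₀ ≫ fbar) := by
    let d : W' ⟶ H := (c₀ ≫ fbar) * ((a₀ ≫ fbar) * (b₀ ≫ fbar))⁻¹
    refine mul_inv_eq_one.mp (show d = 1 from ?_)
    show d = toUnit W' ≫ η[H]
    refine Over.OverMorphism.ext ?_
    rw [Over.comp_left, Over.toUnit_left]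
    refine eq_section W'.hom H.hom η[H].left (Over.w η[H]) d.left (Over.w d) (W.ι ⁻¹ᵁ V) ?_ ?_ ?_
    · exact SchDenseLib.preimage_of_flat_lfp W.ι V
        (AlgSpDec.SchDenseFacts.of_preimage (pullback.fst (G ⊗ G).hom (𝟙 S)) V (hV S (𝟙 S)))
    · intro x N hxN
      let s := W'.hom x
      obtain ⟨z, hz⟩ : W.ι x ∈ Set.range ((G ⊗ G).hom.fiberι s) := by
        rw [(G ⊗ G).hom.range_fiberι]
        rfl
      obtain ⟨z', hz'N, hz'V⟩ := S5435.dense_of_isSchematicallyDense (hV _ (S.fromSpecResidueField s))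
        ((G ⊗ G).hom.fiberι s ⁻¹ᵁ (W.ι ''ᵁ N)) ⟨z, ⟨x, hxN, hz.symm⟩⟩
      obtain ⟨v, hvN, hv₀⟩ := hz'N
      have hv : W.ι v = (G ⊗ G).hom.fiberι s z' := hv₀
      refine ⟨v, hvN, ?_, ?_⟩
      · show W.ι v ∈ V
        rw [hv]
        exact hz'V
      · show (G ⊗ G).hom (W.ι v) = s
        rw [hv]
        exact ((G ⊗ G).hom.range_fiberι s).le ⟨z', rfl⟩
    · let W'' : Over S := Over.mk ((W.ι ⁻¹ᵁ V).ι ≫ W'.hom)
      let k : W'' ⟶ W' := Over.homMk (W.ι ⁻¹ᵁ V).ι rfl
      obtain ⟨c, hc, hcf⟩ := hmul W'' (k ≫ a₀) (k ≫ b₀) (by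
        rw [Category.assoc, Category.assoc, ha₀, hb₀, ← Category.assoc, ← Category.assoc, lift_comp_fst_snd]
        rintro _ ⟨z, rfl⟩
        exact (z : (W.ι ⁻¹ᵁ V : W.toScheme.Opens)).2)
      have hcc : c = k ≫ c₀ := by
        rw [← cancel_mono jU, hc, Category.assoc, Category.assoc, Category.assoc, hc₀', MonObj.comp_mul]
      have hd : k ≫ d = 1 := by
        rw [MonObj.comp_mul, GrpObj.comp_inv, MonObj.comp_mul, ← Category.assoc k a₀, ← Category.assoc k b₀,
          ← Category.assoc k c₀, ← hcc, hcf, mul_inv_cancel]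
      have h2 := congrArg CommaMorphism.left (hd.trans (show (1 : W'' ⟶ H) = k ≫ toUnit W' ≫ η[H] by
        rw [← Category.assoc, toUnit_unique (k ≫ toUnit W') (toUnit W'')]; rfl))
      exact h2
  intro X a b c hc
  let g := lift (a ≫ jU) (b ≫ jU)
  have hr : Set.range g.left ⊆ Set.range W.ι := by
    rw [Scheme.Opens.range_ι]
    rintro _ ⟨z, rfl⟩
    refine ⟨?_, ?_, ?_⟩
    · show (fst G G).left _ ∈ U
      rw [← S5435.left_comp_apply, lift_fst]
      exact hmemU a z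
    · show (snd G G).left _ ∈ U
      rw [← S5435.left_comp_apply, lift_snd]
      exact hmemU b z
    · show μ[G].left _ ∈ U
      rw [← S5435.left_comp_apply, show g ≫ μ[G] = (a ≫ jU) * (b ≫ jU) from rfl, ← hc]
      exact hmemU c z
  let l : X ⟶ W' := Over.homMk (IsOpenImmersion.lift W.ι g.left hr) (by
    show IsOpenImmersion.lift _ _ _ ≫ W.ι ≫ (G ⊗ G).hom = _
    rw [IsOpenImmersion.lift_fac_assoc]
    exact Over.w g)
  have hl : l ≫ w = g := Over.OverMorphism.ext (IsOpenImmersion.lift_fac _ _ _)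
  have ha : a = l ≫ a₀ := by rw [← cancel_mono jU, Category.assoc, ha₀, reassoc_of% hl, lift_fst]
  have hb : b = l ≫ b₀ := by rw [← cancel_mono jU, Category.assoc, hb₀, reassoc_of% hl, lift_snd]
  have hc' : c = l ≫ c₀ := by
    rw [← cancel_mono jU, Category.assoc, hc, hc₀', MonObj.comp_mul, ← Category.assoc, ← Category.assoc, ← ha, ← hb]
  rw [ha, hb, hc', Category.assoc, Category.assoc, Category.assoc, key, MonObj.comp_mul]

set_option maxHeartbeats 4000000 in
/-- The extension. -/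
theorem exists_hom (hU : ∀ (S' : Scheme.{u}) (g : S' ⟶ S), CInt.IsSchematicallyDense ((pullback.fst G.hom g) ⁻¹ᵁ U))
    (hjU : jU.left = U.ι)
    (mult : ∀ (X : Over S) (a b c : X ⟶ U' G U), c ≫ jU = (a ≫ jU) * (b ≫ jU) →
      c ≫ fbar = (a ≫ fbar) * (b ≫ fbar)) :
    ∃ f : G ⟶ H, IsMonHom f ∧ jU ≫ f = fbar := by
  haveI : IsOpenImmersion jU.left := by rw [hjU]; infer_instance
  haveI : Mono jU := Over.mono_of_mono_left _
  -- descend along the multiplication
  let m : U' G U ⊗ U' G U ⟶ G := (fst _ _ ≫ jU) * (snd _ _ ≫ jU)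
  let F : U' G U ⊗ U' G U ⟶ H := (fst _ _ ≫ fbar) * (snd _ _ ≫ fbar)
  have hm : ∀ {X : Over S} (a b : X ⟶ U' G U), lift a b ≫ m = (a ≫ jU) * (b ≫ jU) := fun a b => by
    simp only [m, MonObj.comp_mul, lift_fst_assoc, lift_snd_assoc]
  have hF : ∀ {X : Over S} (a b : X ⟶ U' G U), lift a b ≫ F = (a ≫ fbar) * (b ≫ fbar) := fun a b => by
    simp only [F, MonObj.comp_mul, lift_fst_assoc, lift_snd_assoc]
  have cepi : ∀ {X' X : Over S} (p : X' ⟶ X), FpqcDescLib.IsCovering p.left → Epi p := fun p hp =>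
    (FpqcDescLib.covers_of_isCovering hp).over_epi
  have split : ∀ {X : Over S} (g : X ⟶ G), ∃ (X' : Over S) (p : X' ⟶ X) (a b : X' ⟶ U' G U),
      FpqcDescLib.IsCovering p.left ∧ p ≫ g = (a ≫ jU) * (b ≫ jU) := fun {X} g => by
    obtain ⟨X', p, c, u, hp, hu⟩ := exists_cover hU hjU ![L 1, R g, L 1, L 1]
      (good4 (good_L _) (good_R _) (good_L _) (good_L _))
    refine ⟨X', p, u 0, u 1, hp, ?_⟩
    rw [hu, hu]
    show p ≫ g = (lift p c ≫ L 1) * (lift p c ≫ R g)
    rw [lift_L, lift_R, MonObj.comp_one, _root_.one_mul, mul_inv_cancel_left]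
  have hcovers : FpqcDescLib.Covers m.left := by
    obtain ⟨X', p, a, b, hp, hab⟩ := split (𝟙 G)
    refine ⟨X'.left, (lift a b).left, ?_⟩
    rw [← Over.comp_left, hm, ← hab, Category.comp_id]
    exact hp
  obtain ⟨f, hf, -⟩ := hcovers.over_desc F fun X a b e => by
    rw [← lift_comp_fst_snd a, ← lift_comp_fst_snd b, hm, hm] at e
    rw [← lift_comp_fst_snd a, ← lift_comp_fst_snd b, hF, hF]
    generalize a ≫ fst _ _ = a₁, a ≫ snd _ _ = a₂, b ≫ fst _ _ = b₁, b ≫ snd _ _ = b₂ at e ⊢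
    obtain ⟨X', p, c, u, hp, hu⟩ := exists_cover hU hjU
      ![L 1, L (a₂ ≫ jU), L (b₂ ≫ jU), L ((a₁ ≫ jU) * (a₂ ≫ jU))] (good4 (good_L _) (good_L _) (good_L _) (good_L _))
    haveI := cepi p hp
    have h0 : u 0 ≫ jU = c := by
      rw [hu]
      show lift p c ≫ L 1 = c
      rw [lift_L, MonObj.comp_one, _root_.one_mul]
    have h1 : u 1 ≫ jU = (p ≫ a₂ ≫ jU) * c := (hu 1).trans (lift_L _ _ _)
    have h2 : u 2 ≫ jU = (p ≫ b₂ ≫ jU) * c := (hu 2).trans (lift_L _ _ _)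
    have h3 : u 3 ≫ jU = (p ≫ ((a₁ ≫ jU) * (a₂ ≫ jU))) * c := (hu 3).trans (lift_L _ _ _)
    have e1 := mult X' (p ≫ a₂) (u 0) (u 1) (by rw [h1, h0, Category.assoc])
    have e2 := mult X' (p ≫ b₂) (u 0) (u 2) (by rw [h2, h0, Category.assoc])
    have e3 := mult X' (p ≫ a₁) (u 1) (u 3) (by
      rw [h3, h1, MonObj.comp_mul, Category.assoc, _root_.mul_assoc])
    have e4 := mult X' (p ≫ b₁) (u 2) (u 3) (by
      rw [h3, h2, e, MonObj.comp_mul, Category.assoc, _root_.mul_assoc])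
    rw [e1, ← _root_.mul_assoc] at e3
    rw [e2, ← _root_.mul_assoc] at e4
    rw [← cancel_epi p, MonObj.comp_mul, MonObj.comp_mul, ← Category.assoc, ← Category.assoc, ← Category.assoc p b₁,
      ← Category.assoc p b₂]
    exact mul_right_cancel (e3.symm.trans e4)
  have hf' : ∀ {X : Over S} (a b : X ⟶ U' G U), ((a ≫ jU) * (b ≫ jU)) ≫ f = (a ≫ fbar) * (b ≫ fbar) :=
    fun a b => by rw [← hm, Category.assoc, hf, hF]
  have hext : ∀ {X : Over S} (a : X ⟶ U' G U), (a ≫ jU) ≫ f = a ≫ fbar := fun {X} a => by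
    obtain ⟨X', p, c, u, hp, hu⟩ := exists_cover hU hjU ![L 1, R (a ≫ jU), L 1, L 1]
      (good4 (good_L _) (good_R _) (good_L _) (good_L _))
    haveI := cepi p hp
    have e : p ≫ a ≫ jU = (u 0 ≫ jU) * (u 1 ≫ jU) := by
      rw [hu, hu]
      show _ = (lift p c ≫ L 1) * (lift p c ≫ R (a ≫ jU))
      rw [lift_L, lift_R, MonObj.comp_one, _root_.one_mul, mul_inv_cancel_left]
    rw [← cancel_epi p, ← Category.assoc, e, hf']
    exact (mult X' (u 0) (u 1) (p ≫ a) ((Category.assoc _ _ _).trans e)).symm.trans (Category.assoc _ _ _)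
  have hmulU : ∀ {X : Over S} (g : X ⟶ G) (a : X ⟶ U' G U), (g * (a ≫ jU)) ≫ f = (g ≫ f) * (a ≫ fbar) := by
    intro X g a
    obtain ⟨X₁, p₁, a₁, b₁, hp₁, e₁⟩ := split g
    obtain ⟨X₂, p₂, c, u, hp₂, hu⟩ := exists_cover hU hjU
      ![L 1, L (b₁ ≫ jU), R (p₁ ≫ a ≫ jU), L ((a₁ ≫ jU) * (b₁ ≫ jU))]
      (good4 (good_L _) (good_L _) (good_R _) (good_L _))
    haveI := cepi p₁ hp₁; haveI := cepi p₂ hp₂
    have h0 : u 0 ≫ jU = c := by
      rw [hu]
      show lift p₂ c ≫ L 1 = c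
      rw [lift_L, MonObj.comp_one, _root_.one_mul]
    have h1 : u 1 ≫ jU = (p₂ ≫ b₁ ≫ jU) * c := (hu 1).trans (lift_L _ _ _)
    have h2 : u 2 ≫ jU = c⁻¹ * (p₂ ≫ p₁ ≫ a ≫ jU) := (hu 2).trans (lift_R _ _ _)
    have h3 : u 3 ≫ jU = (p₂ ≫ ((a₁ ≫ jU) * (b₁ ≫ jU))) * c := (hu 3).trans (lift_L _ _ _)
    have e := mult X₂ (p₂ ≫ a₁) (u 1) (u 3) (by rw [h3, h1, MonObj.comp_mul, Category.assoc, _root_.mul_assoc])
    rw [mult X₂ (p₂ ≫ b₁) (u 0) (u 1) (by rw [h1, h0, Category.assoc])] at e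
    have e' := mult X₂ (u 0) (u 2) (p₂ ≫ p₁ ≫ a) (by
      rw [h0, h2, mul_inv_cancel_left, Category.assoc, Category.assoc])
    have key : p₂ ≫ p₁ ≫ (g * (a ≫ jU)) = (u 3 ≫ jU) * (u 2 ≫ jU) := by
      rw [h3, h2, MonObj.comp_mul, MonObj.comp_mul, e₁, _root_.mul_assoc, mul_inv_cancel_left]
    rw [← cancel_epi p₁, ← cancel_epi p₂, ← Category.assoc p₁, ← Category.assoc p₂, key, hf', e,
      MonObj.comp_mul, MonObj.comp_mul, ← Category.assoc p₁ g, e₁, hf', MonObj.comp_mul]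
    simp only [Category.assoc] at e' ⊢
    rw [e']
    simp only [_root_.mul_assoc]
  have hmulG : ∀ {X : Over S} (g h : X ⟶ G), (g * h) ≫ f = (g ≫ f) * (h ≫ f) := by
    intro X g h
    obtain ⟨X₁, p, a, b, hp, e⟩ := split h
    haveI := cepi p hp
    rw [← cancel_epi p, ← Category.assoc, MonObj.comp_mul, e, ← _root_.mul_assoc, hmulU, hmulU, MonObj.comp_mul,
      ← Category.assoc p g, ← Category.assoc p h, e, hf', _root_.mul_assoc]
  have hone : η[G] ≫ f = η[H] := by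
    have h1 := hmulG (1 : 𝟙_ (Over S) ⟶ G) 1
    rw [_root_.one_mul] at h1
    have h2 : (1 : 𝟙_ (Over S) ⟶ G) ≫ f = 1 := left_eq_mul.mp h1
    simpa [MonObj.one_eq_one] using h2
  haveI hfmon : IsMonHom f := ⟨hone, by
    rw [MonObj.mul_eq_mul, hmulG, MonObj.mul_eq_mul, MonObj.comp_mul, tensorHom_fst, tensorHom_snd]⟩
  have hjf : jU ≫ f = fbar := by simpa using hext (𝟙 (U' G U))
  exact ⟨f, hfmon, hjf⟩

end Lemmas

/-- Let G be an S-group scheme, flat and locally of finite presentation over S, U an open subscheme of G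
schematically dense in G relative to S, H an S-group scheme and f̄ : U → H an S-morphism. Let V be
an open of G ×_S G contained in (U ×_S U) ∩ m⁻¹(U) and schematically dense in G ×_S G relative to S,
such that for every S-scheme X and all X-points a, b of U with (a, b) in V, the product ab (a point
of U) satisfies f̄(ab) = f̄(a) f̄(b). Then there is a unique homomorphism of S-groups f : G → H
whose restriction to U is f̄. (The published statement also covers certain sheaves of groups H for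
the fppf topology that are not schemes; this row takes H a group scheme.) -/
theorem result (S : Scheme.{u}) (G H : Over S) [GrpObj G] [GrpObj H] [Flat G.hom] [LocallyOfFinitePresentation G.hom]
    (U : G.left.Opens) (hU : (∀ (S' : Scheme.{u}) (g : S' ⟶ S), CInt.IsSchematicallyDense ((pullback.fst G.hom g) ⁻¹ᵁ U)))
    (jU : Over.mk (U.ι ≫ G.hom) ⟶ G) (hjU : jU.left = U.ι) (fbar : Over.mk (U.ι ≫ G.hom) ⟶ H)
    (V : (G ⊗ G).left.Opens) (hV : (∀ (S' : Scheme.{u}) (g : S' ⟶ S), CInt.IsSchematicallyDense ((pullback.fst (G ⊗ G).hom g) ⁻¹ᵁ V)))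
    (hV1 : V ≤ (fst G G).left ⁻¹ᵁ U) (hV2 : V ≤ (snd G G).left ⁻¹ᵁ U) (hVm : V ≤ μ[G].left ⁻¹ᵁ U)
    (hmul : ∀ (X : Over S) (a b : X ⟶ Over.mk (U.ι ≫ G.hom)),
      Set.range (lift (a ≫ jU) (b ≫ jU)).left.base ⊆ (V : Set ↥(G ⊗ G).left) →
      ∃ c : X ⟶ Over.mk (U.ι ≫ G.hom), c ≫ jU = (a ≫ jU) * (b ≫ jU) ∧ c ≫ fbar = (a ≫ fbar) * (b ≫ fbar)) :
    ∃! f : G ⟶ H, IsMonHom f ∧ jU ≫ f = fbar := by
  obtain ⟨f, hfmon, hjf⟩ := exists_hom hU hjU (mult_all hjU V hV hmul)
  haveI := hfmon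
  refine ⟨f, ⟨hfmon, hjf⟩, ?_⟩
  rintro f' ⟨hf1, hf2⟩
  haveI := hf1
  refine S5435.result S G H U hU f' f ?_
  rw [← hjU, ← Over.comp_left, ← Over.comp_left, hf2, hjf]

end Groth.Agent.S5436
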