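import Groth.Statements.S5441
import Groth.Agent.S11926
import Groth.Agent.MultTypeLib.Averaging
import Groth.Agent.GrpSchLib.HopfFlat
import Mathlib.RingTheory.Unramified.Field
import Mathlib.RingTheory.Jacobson.Ring
-- import your own Groth.Agent.* helpers here

set_option autoImplicit false
universe u
open TensorProduct
open SGA3
open WithConv

namespace Groth.Agent.S5441

set_option backward.isDefEq.respectTransparency.types false in
/-- A bialgebra map to a Hopf algebra which is faithfully flat with trivial kernel is surjective. -/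
theorem surjective_of_trivial_kernel {k : Type u} [Field k] {B C : Type u} [CommRing B] [HopfAlgebra k B]
    [CommRing C] [HopfAlgebra k C] [Algebra.FiniteType k C] [Algebra.FiniteType k B] (φ : C →ₐc[k] B) (hφ : Function.Injective φ)
    (h : ∀ x : B, x - algebraMap k B (Bialgebra.counitAlgHom k B x) ∈
      (RingHom.ker (Bialgebra.counitAlgHom k C)).map (φ : C →+* B)) : Function.Surjective φ := by
  letI := (φ : C →ₐ[k] B).toRingHom.toAlgebra
  haveI : IsScalarTower k C B := IsScalarTower.of_algebraMap_eq fun r => ((φ : C →ₐ[k] B).commutes r).symm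
  haveI : Module.FaithfullyFlat C B :=
    RingHom.faithfullyFlat_algebraMap_iff.mp (Groth.Agent.GrpSchLib.HopfFlat.faithfullyFlat φ hφ)
  letI : Group (WithConv (B →ₐ[k] B ⊗[C] B)) := Groth.Agent.MultTypeLib.algConvGroup
  let l : B →ₐ[k] B ⊗[C] B := Algebra.TensorProduct.includeLeft
  let r : B →ₐ[k] B ⊗[C] B := (Algebra.TensorProduct.includeRight : B →ₐ[C] B ⊗[C] B).restrictScalars k
  let ι : B →ₐ[k] B ⊗[C] B := ((toConv l)⁻¹ * toConv r).ofConv
  have hlr : l.comp (φ : C →ₐ[k] B) = r.comp (φ : C →ₐ[k] B) :=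
    AlgHom.ext fun c => Algebra.TensorProduct.tmul_one_eq_one_tmul c
  have hι : ι.comp (φ : C →ₐ[k] B) = (Algebra.ofId k _).comp (Bialgebra.counitAlgHom k C) := by
    show ((toConv l)⁻¹ * toConv r).ofConv.comp (φ : C →ₐ[k] B) = _
    rw [AlgHom.convMul_comp_bialgHom_distrib]
    simp only [WithConv.ofConv_toConv]
    rw [← hlr]
    refine (AlgHom.convMul_comp_bialgHom_distrib ((toConv l)⁻¹) (toConv l) φ).symm.trans ?_
    rw [inv_mul_cancel]
    exact AlgHom.ext fun c => congrArg (algebraMap k (B ⊗[C] B)) (CoalgHomClass.counit_comp_apply φ c)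
  have hι1 : ι = (Algebra.ofId k _).comp (Bialgebra.counitAlgHom k B) := by
    refine AlgHom.ext fun x => ?_
    have hle : (RingHom.ker (Bialgebra.counitAlgHom k C)).map (φ : C →+* B) ≤ RingHom.ker ι := by
      refine Ideal.map_le_iff_le_comap.mpr fun c hc => ?_
      show ι (φ c) = 0
      rw [show ι (φ c) = _ from DFunLike.congr_fun hι c, AlgHom.comp_apply, show Bialgebra.counitAlgHom k C c = 0 from hc,
        map_zero]
    have := hle (h x)
    rw [RingHom.mem_ker, map_sub, AlgHom.commutes, sub_eq_zero] at this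
    exact this
  have h1 : toConv l = toConv r := inv_mul_eq_one.mp (WithConv.ext (hι1.trans rfl))
  intro b
  have hb : (1 : B) ⊗ₜ[C] b = b ⊗ₜ[C] (1 : B) := (congrArg (fun f => f.ofConv b) h1).symm
  let N : Submodule C B := LinearMap.range (Algebra.linearMap C B)
  have h2 := congrArg (LinearMap.lTensor B N.mkQ) hb
  rw [LinearMap.lTensor_tmul, LinearMap.lTensor_tmul, show N.mkQ 1 = 0 from (Submodule.Quotient.mk_eq_zero N).mpr ⟨1, by simp⟩,
    TensorProduct.tmul_zero] at h2
  exact (Submodule.Quotient.mk_eq_zero N).mp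
    (Module.FaithfullyFlat.tensorProduct_mk_injective (A := C) (B := B) (B ⧸ N) (h2.trans (map_zero _).symm))

/-- Let k be a perfect field, A a finitely generated commutative Hopf algebra (an algebraic group H), ψ
: C → A an injective bialgebra map with C an étale k-algebra (the étale quotient H″), J the Hopf
ideal of A generated by the image of the augmentation ideal of C (the kernel H′ = Spec (A/J)), with
A/J a local ring (H′ radiciel). Then H″ lifts uniquely into H and the lifting is the reduced
subgroup: there is exactly one bialgebra map r : A → C with r ∘ ψ = id, and every such r has kernel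
the nilradical of A. -/
theorem result (k : Type u) [Field k] [PerfectField k] (A C : Type u) [CommRing A] [HopfAlgebra k A] [Algebra.FiniteType k A]
    [CommRing C] [HopfAlgebra k C] [Algebra.Etale k C] (ψ : C →ₐc[k] A) (hψ : Function.Injective ψ)
    (J : Ideal A) [J.IsHopfIdeal k] (hJ : J = Ideal.map (ψ : C →+* A) (RingHom.ker (Bialgebra.counitAlgHom k C)))
    [IsLocalRing (A ⧸ J)] :
    (∃! r : A →ₐc[k] C, r.comp ψ = BialgHom.id k C) ∧
    ∀ r : A →ₐc[k] C, r.comp ψ = BialgHom.id k C → RingHom.ker (r : A →+* C) = nilradical A := by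
  classical
  haveI : _root_.IsReduced C := Algebra.FormallyUnramified.isReduced_of_field k C
  haveI : (nilradical A).IsHopfIdeal k := Groth.Agent.S11926.result k A
  let π : A →ₐc[k] A ⧸ nilradical A := Bialgebra.Quotient.mkBialgHom (R := k) (nilradical A)
  let φ : C →ₐc[k] A ⧸ nilradical A := π.comp ψ
  have hφi : Function.Injective φ := fun c c' h => by
    have h0 : ψ c - ψ c' ∈ nilradical A := Ideal.Quotient.eq.mp h
    rw [← map_sub] at h0
    obtain ⟨m, hm⟩ := mem_nilradical.mp h0
    rw [← map_pow, ← map_zero ψ] at hm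
    exact sub_eq_zero.mp (IsNilpotent.eq_zero ⟨m, hψ hm⟩)
  -- the fibre over the unit is a reduced local ring
  haveI : Module.Finite k C := Algebra.FormallyUnramified.finite_of_free k C
  haveI : IsArtinianRing C := IsArtinianRing.of_finite k C
  haveI : IsSemisimpleRing C := IsArtinianRing.isSemisimpleRing_of_isReduced C
  obtain ⟨e, he, hker⟩ := IsSemisimpleRing.ideal_eq_span_idempotent (RingHom.ker (Bialgebra.counitAlgHom k C))
  have hI : (RingHom.ker (Bialgebra.counitAlgHom k C)).map (φ : C →+* A ⧸ nilradical A) = Ideal.span {φ e} := by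
    rw [hker, Ideal.map_span, Set.image_singleton]
    rfl
  let I : Ideal (A ⧸ nilradical A) := Ideal.span {φ e}
  haveI : _root_.IsReduced (A ⧸ nilradical A) :=
    (Ideal.isRadical_iff_quotient_reduced _).mp (Ideal.radical_isRadical _)
  have heI : Bialgebra.counitAlgHom k C e = 0 := by
    rw [← RingHom.mem_ker, hker]; exact Ideal.mem_span_singleton_self e
  haveI : _root_.IsReduced ((A ⧸ nilradical A) ⧸ I) := (Ideal.isRadical_iff_quotient_reduced _).mp fun x hx => by
    obtain ⟨m, hm⟩ := hx
    obtain ⟨c, hc⟩ := Ideal.mem_span_singleton.mp hm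
    have h0 : IsIdempotentElem (φ e) := he.map φ
    have h1 : (x * (1 - φ e)) ^ (m + 1) = 0 := by
      rw [mul_pow, pow_succ x m, hc, pow_succ (1 - φ e) m]
      have : φ e * (1 - φ e) = 0 := by rw [mul_sub, mul_one, h0, sub_self]
      linear_combination (c * x * (1 - φ e) ^ m) * this
    have h2 := IsNilpotent.eq_zero ⟨_, h1⟩
    rw [mul_sub, mul_one, sub_eq_zero] at h2
    rw [h2]
    exact Ideal.mul_mem_left _ _ (Ideal.mem_span_singleton_self _)
  haveI : Nontrivial ((A ⧸ nilradical A) ⧸ I) := Ideal.Quotient.nontrivial_iff.mpr fun h => by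
    have h1 : Bialgebra.counitAlgHom k (A ⧸ nilradical A) (φ e) = Bialgebra.counitAlgHom k C e :=
      CoalgHomClass.counit_comp_apply φ e
    obtain ⟨c, hc⟩ := Ideal.mem_span_singleton.mp (h ▸ Submodule.mem_top : (1 : A ⧸ nilradical A) ∈ I)
    have := congrArg (Bialgebra.counitAlgHom k (A ⧸ nilradical A)) hc
    rw [map_one, map_mul, h1, heI, zero_mul] at this
    exact one_ne_zero this
  haveI : IsLocalRing ((A ⧸ nilradical A) ⧸ I) := by
    let g : A →+* (A ⧸ nilradical A) ⧸ I := (Ideal.Quotient.mk I).comp (Ideal.Quotient.mk (nilradical A))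
    have hg : J ≤ RingHom.ker g := by
      rw [hJ, hker, Ideal.map_span, Set.image_singleton, Ideal.span_le, Set.singleton_subset_iff]
      exact Ideal.Quotient.eq_zero_iff_mem.mpr (Ideal.mem_span_singleton_self _)
    refine IsLocalRing.of_surjective' (Ideal.Quotient.lift J g hg) fun y => ?_
    obtain ⟨y, rfl⟩ := Ideal.Quotient.mk_surjective y
    obtain ⟨a, rfl⟩ := Ideal.Quotient.mk_surjective y
    exact ⟨Ideal.Quotient.mk J a, rfl⟩
  haveI : IsJacobsonRing ((A ⧸ nilradical A) ⧸ I) :=
    isJacobsonRing_of_finiteType (A := k)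
  have hmax : IsLocalRing.maximalIdeal ((A ⧸ nilradical A) ⧸ I) = ⊥ := by
    rw [← IsLocalRing.jacobson_eq_maximalIdeal (⊥ : Ideal ((A ⧸ nilradical A) ⧸ I)) bot_ne_top,
      ← Ideal.radical_eq_jacobson]
    exact (Ideal.isRadical_bot : (⊥ : Ideal ((A ⧸ nilradical A) ⧸ I)).IsRadical).radical
  have hφs : Function.Surjective φ := by
    refine surjective_of_trivial_kernel φ hφi fun x => ?_
    rw [hI]
    let z := x - algebraMap k (A ⧸ nilradical A) (Bialgebra.counitAlgHom k (A ⧸ nilradical A) x)
    have hz : Ideal.Quotient.mk I z ∈ IsLocalRing.maximalIdeal _ := (IsLocalRing.mem_maximalIdeal _).mpr fun hu => by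
      let εI : (A ⧸ nilradical A) ⧸ I →+* k := Ideal.Quotient.lift I (Bialgebra.counitAlgHom k _).toRingHom
        (fun y hy => by
          obtain ⟨c, rfl⟩ := Ideal.mem_span_singleton.mp hy
          show Bialgebra.counitAlgHom k (A ⧸ nilradical A) (φ e * c) = 0
          rw [map_mul, show Bialgebra.counitAlgHom k _ (φ e) = _ from CoalgHomClass.counit_comp_apply φ e]
          rw [show Coalgebra.counit (R := k) e = Bialgebra.counitAlgHom k C e from rfl, heI, zero_mul])
      have h1 := hu.map εI
      rw [show εI (Ideal.Quotient.mk I z) = Bialgebra.counitAlgHom k _ z from rfl, map_sub, AlgHom.commutes] at h1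
      simp at h1
    rw [hmax, Ideal.mem_bot, Ideal.Quotient.eq_zero_iff_mem] at hz
    exact hz
  let E := BialgEquiv.ofBijective φ ⟨hφi, hφs⟩
  let r₀ : A →ₐc[k] C := (E.symm : A ⧸ nilradical A →ₐc[k] C).comp π
  have hr₀ : r₀.comp ψ = BialgHom.id k C := BialgHom.ext fun c => E.symm_apply_apply c
  have huniq : ∀ r : A →ₐc[k] C, r.comp ψ = BialgHom.id k C → r = r₀ := fun r hr => BialgHom.ext fun a => by
    obtain ⟨c, hc⟩ := hφs (π a)
    have hn : a - ψ c ∈ nilradical A := Ideal.Quotient.eq.mp hc.symm
    have h1 : r (a - ψ c) = 0 := ((mem_nilradical.mp hn).map r).eq_zero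
    rw [map_sub, sub_eq_zero, show r (ψ c) = c from DFunLike.congr_fun hr c] at h1
    show r a = E.symm (π a)
    rw [h1, ← hc]
    exact (E.symm_apply_apply c).symm
  refine ⟨⟨r₀, hr₀, fun r hr => huniq r hr⟩, fun r hr => ?_⟩
  rw [huniq r hr]
  ext a
  rw [RingHom.mem_ker]
  show E.symm (π a) = 0 ↔ _
  constructor
  · intro h
    have := congrArg E h
    rw [E.apply_symm_apply, map_zero] at this
    exact Ideal.Quotient.eq_zero_iff_mem.mp this
  · intro h
    rw [show π a = 0 from Ideal.Quotient.eq_zero_iff_mem.mpr h, map_zero]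

end Groth.Agent.S5441
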