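import Groth.Statements.S5444
import Groth.Agent.SectDim.Main

set_option autoImplicit false
universe u
open CategoryTheory AlgebraicGeometry Topology
open SGA3x

namespace Groth.Agent.S5444

/-- Let f : Y → S be a morphism of finite presentation, (a_i)_{i ∈ I} a family of sections of f, and s₀,
s₁ two points of S with s₀ a specialization of s₁. For j = 0, 1 let C_j be the closure in the fibre
Y_{s_j} (with its subspace topology) of the set of points a_i(s_j). Then dim C₁ ≥ dim C₀
(topological Krull dimensions). -/
theorem result (S Y : Scheme.{u}) (f : Y ⟶ S) [QuasiCompact f] [QuasiSeparated f] [LocallyOfFinitePresentation f]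
    (ι : Type u) (a : ι → (S ⟶ Y)) (ha : ∀ i, a i ≫ f = 𝟙 S) (s₀ s₁ : S) (h : s₁ ⤳ s₀) :
    topologicalKrullDim ↥(f.base ⁻¹' {s₀} ∩ closure (Set.range fun i => (a i).base s₀)) ≤
      topologicalKrullDim ↥(f.base ⁻¹' {s₁} ∩ closure (Set.range fun i => (a i).base s₁)) := by
  exact Groth.Agent.SectDim.topologicalKrullDim_closure_sections_le f a ha h

end Groth.Agent.S5444
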