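import Groth.Statements.S5446
import Groth.Agent.RootData.Facts

set_option autoImplicit false
open RootD

namespace Groth.Agent.S5446

open Groth.Agent.RootData

/-- If the roots indexed by Δ are indivisible and linearly independent and every root is, up to sign, a
non-negative rational combination of them (some positive multiple is a non-negative integer
combination), then Δ is a system of simple roots: every root is, up to sign, a non-negative integer
combination of Δ. -/
theorem result {ι M N : Type*} [AddCommGroup M] [AddCommGroup N]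
    (P : RootPairing ι ℤ M N) [Finite ι] (Δ : Set ι)
    (hind : ∀ i ∈ Δ, RootD.IsIndiv P i) (hli : LinearIndepOn ℤ P.root Δ)
    (hcone : ∀ k : ι, ∃ n : ℕ, 0 < n ∧
      (n • P.root k ∈ RootD.natSpan P Δ ∨ n • (-P.root k) ∈ RootD.natSpan P Δ)) :
    RootD.IsSimpleSys P Δ := by
  classical
  have := Fintype.ofFinite ι
  have := torsionFreeM P
  let S : Set ι := {k | ∃ n : ℕ, 0 < n ∧ n • P.root k ∈ RootD.natSpan P Δ}
  have hΔS : Δ ⊆ S := fun a ha => ⟨1, one_pos, by rw [one_smul]; exact root_mem_natSpan ha⟩
  have hS : IsPosSys P S := by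
    refine isPosSys_of_closed ?_ (fun i => ?_) ?_
    · rintro i ⟨n, hn, hi⟩ ⟨m, hm, hi'⟩
      obtain ⟨c, hc0, hc, hce⟩ := comb_natSpan.mp hi
      obtain ⟨d, hd0, hd, hde⟩ := comb_natSpan.mp hi'
      have h0 := li_comb_eq_zero hli (c := (m : ℤ) • c + (n : ℤ) • d) (fun a ha => by simp [hc a ha, hd a ha])
        (by rw [comb_add, comb_smul, comb_smul, hce, hde, root_neg, smul_neg, smul_neg, natCast_zsmul,
          natCast_zsmul, smul_smul, smul_smul, mul_comm, add_neg_cancel])
      have hc' : c = 0 := by
        funext a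
        have h0a : (m : ℤ) * c a + (n : ℤ) * d a = 0 := by simpa using congrFun h0 a
        have := mul_nonneg (Int.natCast_nonneg n) (hd0 a)
        have := mul_nonneg (Int.natCast_nonneg m) (hc0 a)
        have hz : (m : ℤ) * c a = 0 := by omega
        exact (mul_eq_zero.mp hz).resolve_left (by omega)
      rw [hc'] at hce
      have hz : n • P.root i = 0 := by rw [← hce]; simp [comb]
      exact P.ne_zero i (zsmul_cancelM P (n := (n : ℤ)) (by omega) (by rw [natCast_zsmul, hz, smul_zero]))
    · obtain ⟨n, hn, h | h⟩ := hcone i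
      · exact .inl ⟨n, hn, h⟩
      · exact .inr ⟨n, hn, by rwa [root_neg]⟩
    · rintro i j k ⟨n, hn, hi⟩ ⟨m, hm, hj⟩ hk
      refine ⟨n * m, Nat.mul_pos hn hm, ?_⟩
      rw [hk, smul_add]
      refine add_mem ?_ ?_
      · rw [mul_comm, mul_smul]; exact nsmul_mem hi m
      · rw [mul_smul]; exact nsmul_mem hj n
  have h0 := indec_simple hS
  have hp0 := posOf_indec hS
  have hsub : indec P S ⊆ Δ := by
    intro x hx
    obtain ⟨n, hn, hnx⟩ := hx.1
    obtain ⟨c, hc0, hc, hce⟩ := comb_natSpan.mp hnx
    have e : (∑ a, c a • h0.co a) = (n : ℤ) • h0.co x := by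
      refine sub_eq_zero.mp (li_comb_eq_zero h0.li (fun b hb => ?_) ?_)
      · simp [h0.co_supp hb]
      · rw [comb_sub, comb_sum, comb_smul]; simp only [comb_smul, h0.co_spec]
        rw [natCast_zsmul, ← hce]; exact sub_self _
    obtain ⟨a, hca⟩ : ∃ a, c a ≠ 0 := by
      by_contra hh; push Not at hh
      have hz : n • P.root x = 0 := by rw [← hce]; simp [comb, hh]
      exact P.ne_zero x (zsmul_cancelM P (n := (n : ℤ)) (by omega) (by rw [natCast_zsmul, hz, smul_zero]))
    have haΔ : a ∈ Δ := by by_contra hh; exact hca (hc a hh)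
    have hnon : ∀ b, c b ≠ 0 → ∀ y, 0 ≤ h0.co b y := fun b hb =>
      h0.mem_posOf_iff.mp (hp0.symm ▸ hΔS (by by_contra hh; exact hb (hc b hh)))
    have := h0.eq_of_pos_multiple hx (hp0.symm ▸ hΔS haΔ) (hind a haΔ) fun b hb => by
      have h1 : ∑ y, c y * h0.co y b = 0 := by
        simpa [h0.co_simple hx, hb] using congrFun e b
      have h2 := (Finset.sum_eq_zero_iff_of_nonneg fun y _ => by
        by_cases hy : c y = 0
        · simp [hy]
        · exact mul_nonneg (hc0 y) (hnon y hy b)).mp h1 a (Finset.mem_univ _)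
      exact (mul_eq_zero.mp h2).resolve_left hca
    exact this ▸ haΔ
  have heq : Δ = indec P S := by
    refine (fun a ha => ?_) |> fun h => Set.Subset.antisymm h hsub
    have h1 := li_comb_eq_zero hli (c := h0.co a - Pi.single a 1) (fun b hb => by
      have : b ≠ a := fun e => hb (e ▸ ha)
      simp [this, h0.co_supp fun hh => hb (hsub hh)]) (by rw [comb_sub, comb_single, h0.co_spec, one_smul, sub_self])
    by_contra hh
    have h2 : h0.co a a = 0 := h0.co_supp hh
    simpa [h2] using congrFun h1 a
  rw [heq]; exact h0.isSimpleSys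

end Groth.Agent.S5446
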