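import Groth.Statements.S5447
import Groth.Agent.RootData.Facts

set_option autoImplicit false
open RootD

namespace Groth.Agent.S5447

open Groth.Agent.RootData

/-- If every root can be written in exactly one way as an integer combination of the roots indexed by Δ
with coefficients all of the same sign, then these roots are linearly independent (so Δ is a system
of simple roots) and indivisible. -/
theorem result {ι M N : Type*} [AddCommGroup M] [AddCommGroup N]
    (P : RootPairing ι ℤ M N) [Finite ι] (Δ : Set ι)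
    (h : ∀ k : ι, ∃! c : ι →₀ ℤ, (↑c.support ⊆ Δ ∧ ((∀ j, 0 ≤ c j) ∨ (∀ j, c j ≤ 0)) ∧
      Finsupp.linearCombination ℤ P.root c = P.root k)) :
    RootD.IsSimpleSys P Δ ∧ ∀ i ∈ Δ, RootD.IsIndiv P i := by
  classical
  have := Fintype.ofFinite ι
  have lc : ∀ c : ι →₀ ℤ, Finsupp.linearCombination ℤ P.root c = comb P c := fun c => by
    rw [Finsupp.linearCombination_apply, Finsupp.sum_fintype _ _ (by simp)]
  have mk : ∀ (k : ι) (c : ι → ℤ), (∀ a, a ∉ Δ → c a = 0) → ((∀ j, 0 ≤ c j) ∨ ∀ j, c j ≤ 0) → comb P c = P.root k →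
      (↑(Finsupp.equivFunOnFinite.symm c).support ⊆ Δ ∧
      ((∀ j, 0 ≤ (Finsupp.equivFunOnFinite.symm c) j) ∨ ∀ j, (Finsupp.equivFunOnFinite.symm c) j ≤ 0) ∧
      Finsupp.linearCombination ℤ P.root (Finsupp.equivFunOnFinite.symm c) = P.root k) := by
    intro k c hc hs he
    refine ⟨fun a ha => ?_, by simpa using hs, by rw [lc]; simpa using he⟩
    simp at ha
    exact by_contra fun hh => ha (hc a hh)
  have hS : IsPosSys P (posOf P Δ) := by
    refine isPosSys_of_closed ?_ (fun i => ?_) fun i j k hi hj hk => ?_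
    · intro i hi hi'
      obtain ⟨c, hc0, hc, hce⟩ := comb_natSpan.mp (show P.root i ∈ natSpan P Δ from hi)
      obtain ⟨d, hd0, hd, hde⟩ := comb_natSpan.mp (show P.root _ ∈ natSpan P Δ from hi')
      have := (h i).unique (mk i c hc (.inl hc0) hce)
        (mk i (-d) (fun a ha => by simp [hd a ha]) (.inr fun a => by simpa using hd0 a)
          (by rw [comb_neg, hde, root_neg, neg_neg]))
      rw [EmbeddingLike.apply_eq_iff_eq] at this
      have hc' : c = 0 := by
        funext a
        have e : c a = -d a := congrFun this a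
        show c a = 0
        have := hc0 a; have := hd0 a; omega
      rw [hc'] at hce
      exact P.ne_zero i (by rw [← hce]; simp [comb])
    · obtain ⟨c, ⟨hc, hs, he⟩, -⟩ := h i
      have hsup : ∀ a, a ∉ Δ → c a = 0 := fun a ha => by
        by_contra hh; exact ha (hc (by simpa using hh))
      rcases hs with hs | hs
      · exact .inl (comb_natSpan.mpr ⟨c, hs, hsup, by rw [← lc, he]⟩)
      · exact .inr (comb_natSpan.mpr ⟨-⇑c, fun a => by simpa using hs a, fun a ha => by simp [hsup a ha],
          by rw [comb_neg, ← lc, he, root_neg]⟩)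
    · show P.root k ∈ natSpan P Δ
      rw [hk]; exact add_mem hi hj
  have h0 := indec_simple hS
  have hΔS : Δ ⊆ posOf P Δ := fun a ha => root_mem_natSpan ha
  have hsub : indec P (posOf P Δ) ⊆ Δ := by
    intro x hx
    obtain ⟨l, hl, hs⟩ := natSpan_iff_list.mp (show P.root x ∈ natSpan P Δ from hx.1)
    obtain ⟨a, l', hp, ⟨rfl, -⟩ | ⟨j, hj, hl'⟩⟩ := root_list_split hs
    · exact hl _ (hp.symm.subset List.mem_cons_self)
    · exact absurd ⟨a, hΔS (hl a (hp.symm.subset List.mem_cons_self)), j,
        natSpan_iff_list.mpr ⟨l', fun y hy => hl y (hp.symm.subset (List.mem_cons_of_mem _ hy)), hl'⟩, hj⟩ hx.2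
  have hΔeq : Δ = indec P (posOf P Δ) := by
    refine Set.Subset.antisymm (fun a ha => ?_) hsub
    by_contra hh
    have := (h a).unique (mk a (h0.co a) (fun b hb => h0.co_supp fun e => hb (hsub e))
        (.inl (h0.mem_posOf_iff.mp ((posOf_indec hS).symm ▸ hΔS ha))) (h0.co_spec a))
      (mk a (Pi.single a 1) (fun b hb => Pi.single_eq_of_ne (fun e => hb (by rw [e]; exact ha)) _)
        (.inl fun b => by by_cases e : b = a <;> simp [e]) (by rw [comb_single, one_smul]))
    rw [EmbeddingLike.apply_eq_iff_eq] at this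
    have h1 := congrFun this a
    rw [h0.co_supp hh] at h1; simp at h1
  rw [hΔeq]
  exact ⟨h0.isSimpleSys, fun i hi => h0.isIndiv hi⟩

end Groth.Agent.S5447
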