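import Groth.Statements.S5451
import Groth.Agent.RootData.Facts

set_option autoImplicit false
open RootD

namespace Groth.Agent.S5451

open Groth.Agent.RootData

/-- If a root is a positive integer combination of roots α_i, then it can be reached from 0 by
successively adding roots taken among the α_i in such a way that every partial sum is a root. -/
theorem result {ι M N : Type*} [AddCommGroup M] [AddCommGroup N]
    (P : RootPairing ι ℤ M N) [Finite ι] {n : ℕ} (a : Fin n → ι) (m : Fin n → ℕ)
    (hm : ∀ i, 0 < m i) (k : ι) (hk : P.root k = ∑ i, m i • P.root (a i)) :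
    ∃ (l : ℕ) (b : Fin l → Fin n), 0 < l ∧
      (∀ p : Fin l, ∃ j : ι, P.root j = ∑ q ∈ Finset.univ.filter (fun q : Fin l => q.val ≤ p.val), P.root (a (b q))) ∧
      P.root k = ∑ q, P.root (a (b q)) := by
  classical
  have := Fintype.ofFinite ι
  have key : ∀ (L : List (Fin n)) (k : ι), (L.map fun x => P.root (a x)).sum = P.root k →
      (∀ x ∈ L, 0 < m x) →
      ∃ L' : List (Fin n), L' ≠ [] ∧
        (∀ p, 0 < p → p ≤ L'.length → ∃ j, P.root j = ((L'.take p).map fun x => P.root (a x)).sum) ∧
        P.root k = (L'.map fun x => P.root (a x)).sum := by
    intro L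
    induction hL : L.length using Nat.strong_induction_on generalizing L with
    | _ N ih =>
      intro k hsum hpos
      obtain ⟨b, hb, hbp⟩ : ∃ b ∈ L, 0 < nn P (a b) k := by
        obtain ⟨x, hx, hxp⟩ := exists_pos_of_list_sum (P := P) (l := L.map a) (k := k) (c := 1)
          one_pos (by rw [one_smul, List.map_map]; exact hsum)
        obtain ⟨b, hb, rfl⟩ := List.mem_map.mp hx
        exact ⟨b, hb, hxp⟩
      by_cases hbk : a b = k
      · refine ⟨[b], by simp, ?_, by simp [hbk]⟩
        intro p hp hp'
        simp at hp'
        obtain rfl : p = 1 := by omega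
        exact ⟨a b, by simp⟩
      · obtain ⟨j, hj⟩ := exists_sub P ((nn_pos_comm P).mp hbp) (Ne.symm hbk)
        have hrest : ((L.erase b).map fun x => P.root (a x)).sum = P.root j := by
          have := ((List.perm_cons_erase hb).map fun x => P.root (a x)).sum_eq
          rw [hsum, List.map_cons, List.sum_cons] at this
          rw [hj, this]; abel
        obtain ⟨L', h1, h2, h3⟩ := ih (L.erase b).length (by
          rw [← hL, List.length_erase_of_mem hb]
          have := List.length_pos_of_mem hb; omega) (L.erase b) rfl j hrest
          (fun x hx => hpos x (List.mem_of_mem_erase hx))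
        refine ⟨L' ++ [b], by simp, ?_, ?_⟩
        · intro p hp hp'
          by_cases hple : p ≤ L'.length
          · rw [List.take_append_of_le_length hple]; exact h2 p hp hple
          · simp at hp'
            refine ⟨k, ?_⟩
            rw [List.take_of_length_le (by simp; omega)]
            simp [← h3, hj]
        · simp [← h3, hj]
  let L0 : List (Fin n) := (List.finRange n).flatMap fun x => List.replicate (m x) x
  have hL0 : (L0.map fun x => P.root (a x)).sum = P.root k := by
    rw [hk, Fin.sum_univ_def]
    simp only [L0]
    induction List.finRange n with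
    | nil => simp
    | cons x t iht => simp [iht]
  obtain ⟨L', h1, h2, h3⟩ := key L0 k hL0 (fun x _ => hm x)
  refine ⟨L'.length, fun q => L'[q.val], List.length_pos_iff.mpr h1, fun p => ?_, ?_⟩
  · obtain ⟨j, hj⟩ := h2 (p.val + 1) (by omega) (by omega)
    refine ⟨j, hj.trans ?_⟩
    have hlen : L'.length = L'.length := rfl
    rw [Finset.sum_filter, ← List.sum_ofFn]
    have : ∀ (l : List (Fin n)) (r : ℕ), ((l.take r).map fun x => P.root (a x)).sum =
        (List.ofFn fun q : Fin l.length => if q.val < r then P.root (a l[q.val]) else 0).sum := by
      intro l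
      induction l with
      | nil => simp
      | cons x t iht =>
        intro r
        cases r with
        | zero => simp
        | succ r => simp [List.ofFn_succ, ← iht r, List.map_take]
    rw [this L' (p.val + 1)]
    simp
  · rw [h3, ← List.sum_ofFn]
    congr 1
    apply List.ext_getElem <;> simp

end Groth.Agent.S5451
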