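import Groth.Statements.S5454
import Groth.Agent.RootData.Facts

set_option autoImplicit false
open RootPairing
open scoped Pointwise
open RootD

namespace Groth.Agent.S5454

open Groth.Agent.RootData

/-- The Weyl group acts transitively on the set of systems of positive roots. -/
theorem result {ι M N : Type*} [AddCommGroup M] [AddCommGroup N]
    (P : RootPairing ι ℤ M N) [Finite ι] (S S' : Set ι) (hS : RootD.IsPosSys P S)
    (hS' : RootD.IsPosSys P S') :
    ∃ g : P.Aut, g ∈ P.weylGroup ∧ (fun i : ι => g • i) '' S = S' := by
  have := Fintype.ofFinite ι
  exact exists_smul_posSys hS hS'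

end Groth.Agent.S5454
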