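import Groth.Statements.S5458
import Groth.Agent.RootData.Facts

set_option autoImplicit false
open RootD

namespace Groth.Agent.S5458

open Groth.Agent.RootData

/-- Let S be a system of positive roots with simple system Δ ⊆ S and let P' ⊇ S be a closed set of
roots; with Δ' the set of simple roots whose opposite lies in P', the set P' is the union of S and
of the roots that are non-positive integer combinations of Δ'. -/
theorem result {ι M N : Type*} [AddCommGroup M] [AddCommGroup N]
    (P : RootPairing ι ℤ M N) [Finite ι] (S : Set ι) (hS : RootD.IsPosSys P S) (Δ : Set ι)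
    (hΔ : RootD.IsSimpleSys P Δ) (hΔS : Δ ⊆ S) (P' : Set ι) (hcl : RootD.IsClosedSub P P')
    (hSP : S ⊆ P') :
    P' = S ∪ {k : ι | -P.root k ∈ RootD.natSpan P {i : ι | i ∈ Δ ∧ P.reflectionPerm i i ∈ P'}} := by
  classical
  have := Fintype.ofFinite ι
  have h := Simple.of_isSimpleSys hΔ
  obtain ⟨rfl, -⟩ := h.eq_indec_of_subset hS hΔS
  ext k
  constructor
  · intro hk
    by_cases hkS : k ∈ posOf P Δ
    · exact .inl hkS
    refine .inr ?_
    have hneg := h.neg_mem_posOf_iff.mpr hkS
    show -P.root k ∈ natSpan P _
    rw [← root_neg]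
    have key : ∀ (n : ℕ) (j : ι), (h.ht j).toNat = n → j ∈ posOf P Δ → P.reflectionPerm j j ∈ P' →
        P.root j ∈ natSpan P {i : ι | i ∈ Δ ∧ P.reflectionPerm i i ∈ P'} := by
      intro n
      induction n using Nat.strong_induction_on with
      | _ n ih =>
        intro j hn hj hjP
        by_cases hjΔ : j ∈ Δ
        · exact root_mem_natSpan ⟨hjΔ, hjP⟩
        obtain ⟨a, ha, x, hx, he⟩ := h.exists_split hj hjΔ
        have hxP : P.reflectionPerm x x ∈ P' :=
          hcl hjP (hSP (h.subset_posOf ha)) (by rw [root_neg, root_neg, he]; abel)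
        have haP : P.reflectionPerm a a ∈ P' :=
          hcl hjP (hSP hx) (by rw [root_neg, root_neg, he]; abel)
        rw [he]
        refine add_mem (ih _ ?_ x rfl hx hxP) (root_mem_natSpan ⟨ha, haP⟩)
        rw [← hn]
        have e := h.co_add he
        have : h.ht j = h.ht x + 1 := by
          simp only [Simple.ht, e, Pi.add_apply, Finset.sum_add_distrib]
          rw [← h.ht_simple ha]; rfl
        have := h.ht_pos hx
        omega
    refine key _ _ rfl hneg ?_
    rwa [neg_neg_idx]
  · rintro (hk | (hk : -P.root k ∈ natSpan P _))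
    · exact hSP hk
    · refine closed_iff_natSpan.mp hcl k ?_
      obtain ⟨l, hl, hs⟩ := natSpan_iff_list.mp hk
      refine natSpan_iff_list.mpr ⟨l.map fun x => P.reflectionPerm x x, ?_, ?_⟩
      · intro y hy
        obtain ⟨x, hx, rfl⟩ := List.mem_map.mp hy
        exact (hl x hx).2
      · rw [← neg_neg (P.root k), ← hs, List.sum_neg, List.map_map, List.map_map]
        simp [Function.comp_def]

end Groth.Agent.S5458
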