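import Groth.Statements.S5460
import Groth.Agent.RootData.Saturated

set_option autoImplicit false
open RootD

namespace Groth.Agent.S5460

open Groth.Agent.RootData

/-- A set of roots R' is the trace on R of a vector subspace (every root with a positive multiple in the
span of R' lies in R') if and only if R' is the set of roots in the span of a subset Δ' of some
system of simple roots Δ. -/
theorem result {ι M N : Type*} [AddCommGroup M] [AddCommGroup N]
    (P : RootPairing ι ℤ M N) [Finite ι] (R' : Set ι) :
    (∀ k : ι, (∃ n : ℕ, 0 < n ∧ n • P.root k ∈ Submodule.span ℤ (P.root '' R')) → k ∈ R') ↔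
      ∃ Δ Δ' : Set ι, RootD.IsSimpleSys P Δ ∧ Δ' ⊆ Δ ∧ R' = RootD.inSpan P Δ' := by
  classical
  have := Fintype.ofFinite ι
  constructor
  · intro hsat
    obtain ⟨f, hf⟩ := exists_additive P (P.root '' R')
      ((Set.image_subset_range _ _).trans Submodule.subset_span)
    obtain ⟨S₁, hS₁⟩ := exists_posSys P
    have hS := isPosSys_refine P f S₁ (fun i hi => hS₁.disjoint hi) (fun i _ => hS₁.cover i)
      (fun i j k hi hj _ _ hk => isPosSys_closed hS₁ hi hj hk)
    set S := {k | 0 < f ⟨P.root k, Submodule.subset_span (Set.mem_range_self k)⟩ ∨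
      f ⟨P.root k, Submodule.subset_span (Set.mem_range_self k)⟩ = 0 ∧ k ∈ S₁}
    have h := indec_simple hS
    refine ⟨_, indec P S ∩ R', h.isSimpleSys, Set.inter_subset_left, ?_⟩
    exact zero_set_eq_inSpan f hf hsat hS (fun k hk => hk.elim le_of_lt fun e => e.1.ge)
  · rintro ⟨Δ, Δ', hΔ, hsub, rfl⟩
    intro k ⟨n, hn, hk⟩
    exact saturated_inSpan (Simple.of_isSimpleSys hΔ) hsub hn hk

end Groth.Agent.S5460
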