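import Groth.Statements.S5461
import Groth.Agent.RootData.Saturated

set_option autoImplicit false
open RootD

namespace Groth.Agent.S5461

open Groth.Agent.RootData

/-- If R' is the trace of a vector subspace on the roots, every system of simple roots Δ' of the root
datum with roots R' is contained in a system of simple roots Δ of the whole datum, and R' is the set
of roots in the span of Δ'. -/
theorem result {ι M N : Type*} [AddCommGroup M] [AddCommGroup N]
    (P : RootPairing ι ℤ M N) [Finite ι] (R' : Set ι)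
    (hsat : ∀ k : ι, (∃ n : ℕ, 0 < n ∧ n • P.root k ∈ Submodule.span ℤ (P.root '' R')) → k ∈ R')
    (Δ' : Set ι) (hΔ'R : Δ' ⊆ R') (hli : LinearIndepOn ℤ P.root Δ')
    (hgen : ∀ k ∈ R', P.root k ∈ RootD.natSpan P Δ' ∨ -P.root k ∈ RootD.natSpan P Δ') :
    ∃ Δ : Set ι, RootD.IsSimpleSys P Δ ∧ Δ' ⊆ Δ ∧ R' = RootD.inSpan P Δ' := by
  classical
  have := Fintype.ofFinite ι
  obtain ⟨f, hf⟩ := exists_additive P (P.root '' R')
    ((Set.image_subset_range _ _).trans Submodule.subset_span)
  have h0 : ∀ k, ev P f k = 0 ↔ k ∈ R' := fun k => ⟨fun h => hsat k ((hf k).mp h), fun h =>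
    (hf k).mpr ⟨1, one_pos, by rw [one_smul]; exact Submodule.subset_span ⟨k, h, rfl⟩⟩⟩
  set U : Set ι := posOf P Δ' ∩ R'
  have hnonneg : ∀ (c : ι → ℤ), (∀ a, 0 ≤ c a) → ∀ d : ι → ℤ, (∀ a, 0 ≤ d a) → (∀ a, a ∉ Δ' → c a = 0) →
      (∀ a, a ∉ Δ' → d a = 0) → comb P (c + d) = 0 → c = 0 := by
    intro c hc d hd hc' hd' h
    have h1 := li_comb_eq_zero (c := c + d) hli (fun a ha => by simp [hc' a ha, hd' a ha]) h
    funext a
    have := congrFun h1 a; have := hc a; have := hd a
    simp only [Pi.add_apply, Pi.zero_apply] at *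
    omega
  have hd : ∀ i ∈ U, P.reflectionPerm i i ∉ U := by
    intro i hi hn
    obtain ⟨c, hc, hc', he⟩ := comb_natSpan.mp hi.1
    obtain ⟨d, hd, hd', he'⟩ := comb_natSpan.mp hn.1
    have hz := hnonneg c hc d hd hc' hd' (by rw [comb_add, he, he', root_neg, add_neg_cancel])
    exact P.ne_zero i (by rw [← he, hz]; simp [comb])
  have hU : ∀ i, ev P f i = 0 → i ∈ U ∨ P.reflectionPerm i i ∈ U := by
    intro i hi
    refine (hgen i ((h0 i).mp hi)).imp (fun h => ⟨h, (h0 i).mp hi⟩) fun h => ⟨?_, (h0 _).mp ?_⟩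
    · show P.root _ ∈ natSpan P Δ'
      rwa [root_neg]
    · rw [ev_neg, hi, neg_zero]
  have hcl : ∀ i j k, i ∈ U → j ∈ U → ev P f i = 0 → ev P f j = 0 → P.root k = P.root i + P.root j → k ∈ U := by
    intro i j k hi hj hfi hfj hk
    refine ⟨?_, (h0 k).mp ?_⟩
    · show P.root k ∈ natSpan P Δ'
      rw [hk]; exact add_mem hi.1 hj.1
    · rw [ev_add f hk, hfi, hfj, add_zero]
  have hS := isPosSys_refine P f U hd hU hcl
  set S := {k | 0 < ev P f k ∨ ev P f k = 0 ∧ k ∈ U}
  have hsub : Δ' ⊆ indec P S := by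
    intro a ha
    have hfa : ev P f a = 0 := (h0 a).mpr (hΔ'R ha)
    refine ⟨.inr ⟨hfa, root_mem_natSpan ha, hΔ'R ha⟩, ?_⟩
    rintro ⟨i, hi, j, hj, he⟩
    have hsum := ev_add f he
    obtain ⟨hiU, hjU⟩ : i ∈ U ∧ j ∈ U := by
      rcases hi with hi | ⟨hi, hiU⟩ <;> rcases hj with hj | ⟨hj, hjU⟩
      · omega
      · omega
      · omega
      · exact ⟨hiU, hjU⟩
    obtain ⟨c, hc, hc', hei⟩ := comb_natSpan.mp hiU.1
    obtain ⟨d, hd', hd'', hej⟩ := comb_natSpan.mp hjU.1
    have h1 := li_comb_eq_zero (c := c + d - Pi.single a 1) hli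
      (fun b hb => by
        have hne : b ≠ a := fun e => hb (by rw [e]; exact ha)
        simp [hc' b hb, hd'' b hb, hne])
      (by rw [comb_sub, comb_add, comb_single, one_smul, hei, hej, he, sub_self])
    have hne : ∀ (x : ι) (v : ι → ℤ), comb P v = P.root x → ∃ b, v b ≠ 0 := by
      intro x v hv
      by_contra hh; push Not at hh
      exact P.ne_zero x (by rw [← hv]; simp [comb, hh])
    obtain ⟨b, hb⟩ := hne i c hei
    obtain ⟨b', hb'⟩ := hne j d hej
    have e1 := congrFun h1 b; have e2 := congrFun h1 b'; have e3 := congrFun h1 a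
    have := hc b; have := hd' b; have := hc b'; have := hd' b'; have := hc a; have := hd' a
    simp only [Pi.sub_apply, Pi.add_apply, Pi.single_apply, Pi.zero_apply, if_pos] at e1 e2 e3
    by_cases e : b = a
    · by_cases e' : b' = a
      · subst e; subst e'; omega
      · rw [if_neg e'] at e2; omega
    · rw [if_neg e] at e1; omega
  refine ⟨indec P S, (indec_simple hS).isSimpleSys, hsub, Set.Subset.antisymm ?_ ?_⟩
  · intro k hk
    show P.root k ∈ Submodule.span ℤ (P.root '' Δ')
    have hle : natSpan P Δ' ≤ (Submodule.span ℤ (P.root '' Δ')).toAddSubmonoid :=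
      AddSubmonoid.closure_le.mpr Submodule.subset_span
    rcases hgen k hk with h | h
    · exact hle h
    · exact neg_mem_iff.mp (hle h)
  · intro k hk
    exact hsat k ⟨1, one_pos, by rw [one_smul]; exact Submodule.span_mono (Set.image_mono hΔ'R) hk⟩

end Groth.Agent.S5461
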