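import Groth.Statements.S5462
import Groth.Agent.RootData.Facts

set_option autoImplicit false
open RootPairing
open scoped Pointwise
open RootD

namespace Groth.Agent.S5462

open Groth.Agent.RootData

/-- For Δ' contained in a system of simple roots Δ, the subgroup of the Weyl group generated by the
reflections in Δ' preserves the set of positive roots not lying in the span of Δ'. -/
theorem result {ι M N : Type*} [AddCommGroup M] [AddCommGroup N]
    (P : RootPairing ι ℤ M N) [Finite ι] (Δ Δ' : Set ι) (hΔ : RootD.IsSimpleSys P Δ) (hsub : Δ' ⊆ Δ)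
    (g : P.Aut) (hg : g ∈ Subgroup.closure ((fun i : ι => Equiv.reflection P i) '' Δ'))
    (k : ι) (hk : k ∈ RootD.posOf P Δ) (hk' : k ∉ RootD.inSpan P Δ') :
    g • k ∈ RootD.posOf P Δ ∧ g • k ∉ RootD.inSpan P Δ' := by
  classical
  have := Fintype.ofFinite ι
  have h := Simple.of_isSimpleSys hΔ
  rw [h.mem_inSpan_iff hsub] at hk'
  obtain ⟨l, hl, rfl⟩ := exists_word (Δ := Δ') hg
  clear hg
  have key : word P l • k ∈ posOf P Δ ∧ ∃ b, b ∉ Δ' ∧ h.co (word P l • k) b ≠ 0 := by
    induction l with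
    | nil =>
      refine ⟨by simpa [word] using hk, ?_⟩
      push Not at hk'
      obtain ⟨b, hb, hbn⟩ := hk'
      exact ⟨b, hbn, by simpa [word] using hb⟩
    | cons a t ih =>
      obtain ⟨hp, b, hbn, hb⟩ := ih fun x hx => hl x (List.mem_cons_of_mem _ hx)
      have ha : a ∈ Δ' := hl a List.mem_cons_self
      have hba : b ≠ a := fun e => hbn (e ▸ ha)
      rw [word_cons, mul_smul, refl_smul_idx]
      exact ⟨h.refl_pos (hsub ha) hp ⟨b, hba, hb⟩, b, hbn, by simp [h.co_refl (hsub ha), hba, hb]⟩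
  refine ⟨key.1, fun hin => ?_⟩
  obtain ⟨b, hbn, hb⟩ := key.2
  exact hbn ((h.mem_inSpan_iff hsub).mp hin b hb)

end Groth.Agent.S5462
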