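import Groth.Statements.S5463
import Groth.Agent.RootData.Facts

set_option autoImplicit false
open RootPairing
open scoped Pointwise
open RootD

namespace Groth.Agent.S5463

open Groth.Agent.RootData

/-- An element w of the Weyl group belongs to the subgroup generated by the reflections in Δ' ⊆ Δ (Δ a
system of simple roots) if and only if w(α) - α lies in the rational span of Δ' for every root α. -/
theorem result {ι M N : Type*} [AddCommGroup M] [AddCommGroup N]
    (P : RootPairing ι ℤ M N) [Finite ι] (Δ Δ' : Set ι) (hΔ : RootD.IsSimpleSys P Δ)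
    (hsub : Δ' ⊆ Δ) (g : P.Aut) (hg : g ∈ P.weylGroup) :
    g ∈ Subgroup.closure ((fun i : ι => Equiv.reflection P i) '' Δ') ↔
      ∀ k : ι, ∃ n : ℕ, 0 < n ∧ n • (P.root (g • k) - P.root k) ∈ Submodule.span ℤ (P.root '' Δ') := by
  classical
  have := Fintype.ofFinite ι
  have h := Simple.of_isSimpleSys hΔ
  have fwd : ∀ {g : P.Aut}, g ∈ gen P Δ' → ∀ k, ∀ a ∉ Δ', h.co (g • k) a = h.co k a := by
    intro g hg
    obtain ⟨l, hl, rfl⟩ := exists_word hg
    clear hg
    induction l with
    | nil => simp [word]
    | cons c t ih =>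
      intro k a ha
      have hca : a ≠ c := fun e => ha (e ▸ hl c List.mem_cons_self)
      rw [word_cons, mul_smul, refl_smul_idx, h.co_refl (hsub (hl c List.mem_cons_self))]
      simp [hca, ih (fun x hx => hl x (List.mem_cons_of_mem _ hx)) k a ha]
  have conv : ∀ (g : P.Aut) (k : ι),
      (∃ n : ℕ, 0 < n ∧ n • (P.root (g • k) - P.root k) ∈ Submodule.span ℤ (P.root '' Δ')) ↔
      ∀ a ∉ Δ', h.co (g • k) a = h.co k a := by
    intro g k
    constructor
    · rintro ⟨n, hn, hmem⟩ a ha
      obtain ⟨c, hc, he⟩ := RootData.mem_inSpan_iff.mp hmem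
      have e : c = (n : ℤ) • (h.co (g • k) - h.co k) := by
        refine sub_eq_zero.mp (li_comb_eq_zero h.li (fun b hb => ?_) ?_)
        · simp [hc b fun hh => hb (hsub hh), h.co_supp hb]
        · rw [comb_sub, comb_smul, comb_sub, h.co_spec, h.co_spec, he, natCast_zsmul, sub_self]
      have e' : (0 : ℤ) = n * (h.co (g • k) a - h.co k a) := by
        simpa [hc a ha] using congrFun e a
      rcases mul_eq_zero.mp e'.symm with h0 | h0
      · omega
      · omega
    · intro hh
      refine ⟨1, one_pos, RootData.mem_inSpan_iff.mpr ⟨h.co (g • k) - h.co k, fun a ha => ?_, ?_⟩⟩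
      · simp [hh a ha]
      · rw [one_smul, comb_sub, h.co_spec, h.co_spec]
  simp only [conv]
  refine ⟨fun hg k => fwd hg k, fun hg' => ?_⟩
  have hg₀ : g ∈ gen P Δ := h.gen_eq_weylGroup.symm ▸ hg
  obtain ⟨l, hl, rfl⟩ := exists_word hg₀
  clear hg hg₀
  induction hn : l.length using Nat.strong_induction_on generalizing l with
  | _ n ih =>
    by_cases hne : l = []
    · subst hne; exact one_mem _
    by_cases hmin : ∀ l' : List ι, (∀ a ∈ l', a ∈ Δ) → word P l' = word P l → l.length ≤ l'.length
    · have hlast := h.minimal_last hl hne hmin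
      obtain ⟨t, a, rfl⟩ : ∃ t a, l = t ++ [a] :=
        ⟨l.dropLast, l.getLast hne, (List.dropLast_append_getLast hne).symm⟩
      rw [List.getLast_append_singleton] at hlast
      have ha : a ∈ Δ := hl a (by simp)
      have haΔ' : a ∈ Δ' := by
        by_contra hh
        have h1 := hg' a a hh
        rw [h.co_simple ha] at h1
        have := h.notMem_posOf_iff.mp hlast a
        simp [h1] at this
      have hsa : RootPairing.Equiv.reflection P a ∈ gen P Δ' := refl_mem_gen haΔ'
      have hw : word P (t ++ [a]) = word P t * RootPairing.Equiv.reflection P a := by simp [word]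
      rw [hw]
      refine mul_mem (ih t.length (by rw [← hn]; simp) t (fun x hx => hl x (by simp [hx])) ?_ rfl) hsa
      intro k b hb
      have h1 := hg' (RootPairing.Equiv.reflection P a • k) b hb
      rw [hw, mul_smul, ← mul_smul (RootPairing.Equiv.reflection P a), refl_mul_self, one_smul] at h1
      rw [h1, fwd hsa k b hb]
    · push Not at hmin
      obtain ⟨l', h1, h2, h3⟩ := hmin
      rw [← h2] at hg' ⊢
      exact ih l'.length (hn ▸ h3) l' h1 hg' rfl

end Groth.Agent.S5463
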