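import Groth.Statements.S5464
import Groth.Agent.RootData.Saturated
import Groth.Agent.RootData.Lengths

set_option autoImplicit false
open RootD

namespace Groth.Agent.S5464

open Groth.Agent.RootData

/-- Given an indivisible root α and a root γ not proportional to it, there is a system of simple roots
containing α and a simple root β of it with γ = aα + bβ, a, b ∈ ℕ. -/
theorem result {ι M N : Type*} [AddCommGroup M] [AddCommGroup N]
    (P : RootPairing ι ℤ M N) [Finite ι] (i k : ι) (hα : RootD.IsIndiv P i)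
    (hli : LinearIndependent ℤ ![P.root i, P.root k]) :
    ∃ Δ : Set ι, RootD.IsSimpleSys P Δ ∧ i ∈ Δ ∧
      ∃ j ∈ Δ, ∃ a b : ℕ, P.root k = a • P.root i + b • P.root j := by
  classical
  have := Fintype.ofFinite ι
  obtain ⟨f, hf⟩ := exists_additive P (P.root '' {i, k})
    ((Set.image_subset_range _ _).trans Submodule.subset_span)
  obtain ⟨g, hg⟩ := exists_additive P (P.root '' {i})
    ((Set.image_subset_range _ _).trans Submodule.subset_span)
  have hgi : ev P g i = 0 := (hg i).mpr
    ⟨1, one_pos, by rw [one_smul]; exact Submodule.subset_span ⟨i, rfl, rfl⟩⟩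
  have hfi : ev P f i = 0 := (hf i).mpr
    ⟨1, one_pos, by rw [one_smul]; exact Submodule.subset_span ⟨i, .inl rfl, rfl⟩⟩
  have hfk : ev P f k = 0 := (hf k).mpr
    ⟨1, one_pos, by rw [one_smul]; exact Submodule.subset_span ⟨k, .inr rfl, rfl⟩⟩
  have hprop : ∀ x, ev P g x = 0 → P.root x = (1 : ℤ) • P.root i ∨ P.root x = (-1 : ℤ) • P.root i ∨
      P.root x = (2 : ℤ) • P.root i ∨ P.root x = (-2 : ℤ) • P.root i := by
    intro x hx
    obtain ⟨n, hn, hmem⟩ := (hg x).mp hx
    rw [Set.image_singleton, Submodule.mem_span_singleton] at hmem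
    obtain ⟨m, hm⟩ := hmem
    rw [← natCast_zsmul] at hm
    have hm0 : m ≠ 0 := by
      rintro rfl; rw [zero_smul] at hm
      exact P.ne_zero x (zsmul_cancelM P (n := (n : ℤ)) (by omega) (by rw [← hm, smul_zero]))
    rcases proportional_cases P (n := (n : ℤ)) (by omega) hm with e | e | e | e | e | e
    · exact .inl (by rw [e, one_smul])
    · exact .inr (.inl (by rw [e]; simp))
    · exact .inr (.inr (.inl e))
    · exact .inr (.inr (.inr (by rw [e])))
    · exact absurd (by rw [two_smul_root, e]) (hα x)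
    · exact absurd (by rw [two_smul_root, root_neg, e]; simp) (hα (P.reflectionPerm x x))
  have hgk : ev P g k ≠ 0 := by
    intro h
    obtain ⟨m, hm⟩ : ∃ m : ℤ, P.root k = m • P.root i := by
      rcases hprop k h with e | e | e | e <;> exact ⟨_, e⟩
    have := LinearIndependent.pair_iff.mp hli m (-1) (by rw [hm]; simp)
    norm_num at this
  obtain ⟨g, hgi, hgk, hprop⟩ : ∃ g, ev P g i = 0 ∧ 0 < ev P g k ∧ ∀ x, ev P g x = 0 →
      P.root x = (1 : ℤ) • P.root i ∨ P.root x = (-1 : ℤ) • P.root i ∨
      P.root x = (2 : ℤ) • P.root i ∨ P.root x = (-2 : ℤ) • P.root i := by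
    rcases lt_or_gt_of_ne hgk with h | h
    · refine ⟨-g, ?_, ?_, fun x hx => hprop x ?_⟩
      · show (-g) _ = 0
        rw [LinearMap.neg_apply]; simpa [ev] using hgi
      · show 0 < (-g) _
        rw [LinearMap.neg_apply]; simpa [ev] using h
      · simpa [ev] using hx
    · exact ⟨g, hgi, h, hprop⟩
  set U : Set ι := {x | P.root x = (1 : ℤ) • P.root i ∨ P.root x = (2 : ℤ) • P.root i}
  have hmult : ∀ x ∈ U, ∃ m : ℤ, 0 < m ∧ P.root x = m • P.root i := by
    rintro x (e | e) <;> exact ⟨_, by norm_num, e⟩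
  have hdU : ∀ x ∈ U, P.reflectionPerm x x ∉ U := by
    intro x hx hx'
    obtain ⟨m, hm, e⟩ := hmult x hx
    obtain ⟨m', hm', e'⟩ := hmult _ hx'
    have := zsmul_root_inj (P := P) (m := m') (n := -m) (i := i) (by rw [← e', root_neg, e, neg_smul])
    omega
  have hcU : ∀ x, ev P g x = 0 → x ∈ U ∨ P.reflectionPerm x x ∈ U := by
    intro x hx
    rcases hprop x hx with e | e | e | e
    · exact .inl (.inl e)
    · exact .inr (.inl (by rw [root_neg, e]; simp))
    · exact .inl (.inr e)
    · exact .inr (.inr (by rw [root_neg, e]; simp))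
  have hS1 := isPosSys_refine P g U hdU hcU (by
    intro x y z hx hy hgx hgy hz
    obtain ⟨m, hm, e⟩ := hmult x hx
    obtain ⟨m', hm', e'⟩ := hmult y hy
    rcases hprop z (by rw [ev_add g hz]; simp only [ev] at *; omega) with h | h | h | h
    · exact .inl h
    · exact absurd (zsmul_root_inj (P := P) (m := -1) (n := m + m') (i := i) (by rw [← h, hz, e, e', add_smul])) (by omega)
    · exact .inr h
    · exact absurd (zsmul_root_inj (P := P) (m := -2) (n := m + m') (i := i) (by rw [← h, hz, e, e', add_smul])) (by omega))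
  set S1 := {x | 0 < ev P g x ∨ ev P g x = 0 ∧ x ∈ U}
  have hS := isPosSys_refine P f S1 (fun x hx => hS1.disjoint hx) (fun x _ => hS1.cover x)
    (fun x y z hx hy _ _ hz => isPosSys_closed hS1 hx hy hz)
  set S := {x | 0 < ev P f x ∨ ev P f x = 0 ∧ x ∈ S1}
  have h := indec_simple hS
  have hiS : i ∈ indec P S := by
    refine ⟨.inr ⟨hfi, .inr ⟨hgi, .inl (one_smul _ _).symm⟩⟩, ?_⟩
    rintro ⟨x, hx, y, hy, he⟩
    have e1 := ev_add f he
    have e2 := ev_add g he
    obtain ⟨hx, hy⟩ : x ∈ U ∧ y ∈ U := by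
      rcases hx with hx | ⟨hx, hx' | ⟨hx', hxU⟩⟩ <;> rcases hy with hy | ⟨hy, hy' | ⟨hy', hyU⟩⟩
      all_goals first | exact ⟨hxU, hyU⟩ | omega
    obtain ⟨m, hm, e⟩ := hmult x hx
    obtain ⟨m', hm', e'⟩ := hmult y hy
    have := zsmul_root_inj (P := P) (m := 1) (n := m + m') (i := i) (by rw [one_smul, add_smul, ← e, ← e', he])
    omega
  have hkS : k ∈ S := .inr ⟨hfk, .inl hgk⟩
  have hpk := h.mem_posOf_iff.mp (show k ∈ posOf P (indec P S) by rw [posOf_indec hS]; exact hkS)
  have hnn : ∀ x ∈ posOf P (indec P S), 0 ≤ ev P f x := by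
    rw [posOf_indec hS]; exact fun x hx => hx.elim le_of_lt fun e => e.1.ge
  obtain ⟨d, hdi, hd⟩ : ∃ d, d ≠ i ∧ h.co k d ≠ 0 := by
    by_contra hh; push Not at hh
    have := h.root_eq_of_co (k := k) (a := i) fun b hb => hh b hb
    have := LinearIndependent.pair_iff.mp hli (h.co k i) (-1) (by rw [this]; simp)
    norm_num at this
  have honly : ∀ x, x ≠ i → x ≠ d → h.co k x = 0 := by
    intro x hxi hxd
    by_contra hx
    have hxΔ : x ∈ indec P S := by_contra fun hh => hx (h.co_supp hh)
    have hdΔ : d ∈ indec P S := by_contra fun hh => hd (h.co_supp hh)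
    obtain ⟨n, hn, hmem⟩ := (hf x).mp (h.zero_supp f hnn hfk hx)
    obtain ⟨c, hc, he⟩ := RootData.mem_inSpan_iff.mp hmem
    have hik : i ≠ k := fun e => by
      rw [e] at hli
      have := LinearIndependent.pair_iff.mp hli 1 (-1) (by simp)
      norm_num at this
    have he2 : comb P c = c i • P.root i + c k • P.root k := by
      rw [show comb P c = ∑ a ∈ ({i, k} : Finset ι), c a • P.root a from (Finset.sum_subset (Finset.subset_univ _)
        (fun a _ ha => by rw [hc a (by simpa using ha), zero_smul])).symm, Finset.sum_pair hik]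
    have := li_comb_eq_zero h.li (c := (n : ℤ) • h.co x - (c i • h.co i + c k • h.co k))
      (fun b hb => by simp [h.co_supp hb])
      (by simp only [comb_sub, comb_add, comb_smul, h.co_spec]; rw [← he2, he, natCast_zsmul, sub_self])
    have e1 := congrFun this d
    have e2 := congrFun this x
    simp [h.co_simple hxΔ, h.co_simple hiS, Pi.single_apply, Ne.symm hxd, hdi, hxi] at e1 e2
    rcases e1 with e1 | e1
    · rw [e1] at e2; simp at e2; omega
    · exact hd e1
  refine ⟨_, h.isSimpleSys, hiS, d, by_contra fun hh => hd (h.co_supp hh), (h.co k i).toNat, (h.co k d).toNat, ?_⟩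
  rw [← natCast_zsmul, ← natCast_zsmul, Int.toNat_of_nonneg (hpk i), Int.toNat_of_nonneg (hpk d), ← h.co_spec k]
  rw [show comb P (h.co k) = ∑ a ∈ ({i, d} : Finset ι), h.co k a • P.root a from (Finset.sum_subset (Finset.subset_univ _)
      (fun a _ ha => by
        simp only [Finset.mem_insert, Finset.mem_singleton, not_or] at ha
        rw [honly a ha.1 ha.2, zero_smul])).symm, Finset.sum_pair hdi.symm]

end Groth.Agent.S5464
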