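import Groth.Statements.S5465
import Groth.Agent.RootData.Facts

set_option autoImplicit false
open RootD

namespace Groth.Agent.S5465

open Groth.Agent.RootData

/-- A map from the roots to an abelian group that is odd and additive on pairs of roots whose sum is a
root extends uniquely to a homomorphism on the lattice generated by the roots. -/
theorem result {ι M N : Type*} [AddCommGroup M] [AddCommGroup N]
    (P : RootPairing ι ℤ M N) [Finite ι] {G : Type*} [AddCommGroup G] (f : ι → G)
    (hneg : ∀ i : ι, f (P.reflectionPerm i i) = -f i)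
    (hadd : ∀ i j k : ι, P.root k = P.root i + P.root j → f k = f i + f j) :
    ∃! φ : Submodule.span ℤ (Set.range P.root) →+ G,
      ∀ i : ι, φ ⟨P.root i, Submodule.subset_span (Set.mem_range_self i)⟩ = f i := by
  classical
  have := Fintype.ofFinite ι
  obtain ⟨Δ, h⟩ := exists_simple P
  have hpos : ∀ k ∈ posOf P Δ, f k = ∑ a, h.co k a • f a := by
    suffices ∀ (n : ℕ) (k : ι), (h.ht k).toNat = n → k ∈ posOf P Δ → f k = ∑ a, h.co k a • f a from
      fun k hk => this _ k rfl hk
    intro n
    induction n using Nat.strong_induction_on with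
    | _ n ih =>
      intro k hn hk
      by_cases hkΔ : k ∈ Δ
      · simp [h.co_simple hkΔ, Pi.single_apply]
      obtain ⟨a, ha, x, hx, he⟩ := h.exists_split hk hkΔ
      have hh : h.ht k = h.ht x + 1 := by
        simp only [Simple.ht, h.co_add he, Pi.add_apply, Finset.sum_add_distrib]
        rw [← h.ht_simple ha]; rfl
      have hx0 := h.ht_pos hx
      rw [hadd _ _ _ he, ih _ (by omega) x rfl hx, h.co_add he, h.co_simple ha]
      simp [add_smul, Finset.sum_add_distrib, Pi.single_apply]
  have hall : ∀ k, f k = ∑ a, h.co k a • f a := by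
    intro k
    by_cases hk : k ∈ posOf P Δ
    · exact hpos k hk
    · have := hpos _ (h.neg_mem_posOf_iff.mpr hk)
      rw [hneg, h.co_neg] at this
      simpa using this
  have hwd : ∀ c d : ι → ℤ, comb P c = comb P d → ∑ a, c a • f a = ∑ a, d a • f a := by
    intro c d he
    have key : ∀ c : ι → ℤ, ∑ a, c a • f a = ∑ b, (∑ a, c a * h.co a b) • f b := by
      intro c
      calc ∑ a, c a • f a = ∑ a, c a • ∑ b, h.co a b • f b :=
            Finset.sum_congr rfl fun a _ => by rw [← hall]
        _ = _ := by simp only [Finset.smul_sum, smul_smul, Finset.sum_smul]; exact Finset.sum_comm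
    have key2 : ∀ c : ι → ℤ, comb P (fun b => ∑ a, c a * h.co a b) = comb P c := by
      intro c
      simp only [comb, Finset.sum_smul, ← smul_smul]
      rw [Finset.sum_comm]
      simp_rw [← Finset.smul_sum]
      exact Finset.sum_congr rfl fun a _ => by rw [show ∑ b, h.co a b • P.root b = P.root a from h.co_spec a]
    rw [key c, key d]
    have := li_comb_eq_zero h.li (c := (fun b => ∑ a, c a * h.co a b) - fun b => ∑ a, d a * h.co a b)
      (fun b hb => by simp [h.co_supp hb]) (by rw [comb_sub, key2, key2, he, sub_self])
    exact Finset.sum_congr rfl fun b _ => congrArg (· • f b) (congrFun (sub_eq_zero.mp this) b)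
  have hex : ∀ x : Submodule.span ℤ (Set.range P.root), ∃ c : ι → ℤ, comb P c = x.1 := fun x =>
    (Submodule.mem_span_range_iff_exists_fun ℤ).mp x.2
  let cf := fun x => (hex x).choose
  have hcf : ∀ x, comb P (cf x) = x.1 := fun x => (hex x).choose_spec
  refine ⟨AddMonoidHom.mk' (fun x => ∑ a, cf x a • f a) fun x y => ?_, fun i => ?_, fun φ hφ => ?_⟩
  · rw [hwd (cf (x + y)) (cf x + cf y) (by rw [comb_add, hcf, hcf, hcf]; rfl)]
    simp [add_smul, Finset.sum_add_distrib]
  · show ∑ a, cf _ a • f a = f i
    rw [hwd _ (Pi.single i 1) (by rw [hcf, comb_single, one_smul])]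
    simp [Pi.single_apply]
  · ext x
    show φ x = ∑ a, cf x a • f a
    have hx : x = ∑ a, cf x a • (⟨P.root a, Submodule.subset_span (Set.mem_range_self a)⟩ :
        Submodule.span ℤ (Set.range P.root)) := by
      apply Subtype.ext
      rw [AddSubmonoidClass.coe_finsetSum]
      exact (hcf x).symm
    conv_lhs => rw [hx]
    rw [map_sum]
    simp only [map_zsmul, hφ]

end Groth.Agent.S5465
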