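import Groth.Statements.S5468
import Groth.Agent.RootData.Facts

set_option autoImplicit false
open RootD

namespace Groth.Agent.S5468

open Groth.Agent.RootData

/-- Two roots whose reflections are distinct and commute are orthogonal. -/
theorem result {ι M N : Type*} [AddCommGroup M] [AddCommGroup N]
    (P : RootPairing ι ℤ M N) [Finite ι] (i j : ι)
    (hne : P.reflection i ≠ P.reflection j) (hc : Commute (P.reflection i) (P.reflection j)) :
    P.IsOrthogonal i j := by
  have hne' : RootPairing.Equiv.reflection P i ≠ RootPairing.Equiv.reflection P j := by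
    intro e
    refine hne (LinearEquiv.ext fun x => ?_)
    rw [← RootPairing.Equiv.reflection_smul, e, RootPairing.Equiv.reflection_smul]
  have hcomm : RootPairing.Equiv.reflection P i * RootPairing.Equiv.reflection P j =
      RootPairing.Equiv.reflection P j * RootPairing.Equiv.reflection P i := by
    refine aut_ext fun x => ?_
    simp only [mul_smul, RootPairing.Equiv.reflection_smul]
    exact LinearEquiv.congr_fun hc x
  have hk : RootPairing.Equiv.reflection P (P.reflectionPerm i j) = RootPairing.Equiv.reflection P j := by
    rw [← refl_smul_idx, ← conj_refl, hcomm, mul_inv_cancel_right]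
  rw [orth_iff]
  by_contra hn
  have hn' : nn P j i ≠ 0 := fun e => hn (nn_eq_zero_symm P e)
  have h1 : P.root (P.reflectionPerm j j) = P.root (P.reflectionPerm (P.reflectionPerm i j) j) := by
    rw [← refl_smul_idx j j, ← refl_smul_idx (P.reflectionPerm i j) j, hk]
  rw [root_neg, refl_root P (P.reflectionPerm i j) j, refl_root, smul_sub, smul_smul] at h1
  set p := nn P j (P.reflectionPerm i j)
  have h2 : (p - 2) • P.root j = (p * nn P j i) • P.root i := by
    rw [← sub_eq_zero] at h1 ⊢
    rw [← h1, sub_smul, two_smul]; abel
  have hp2 : p ≠ 2 := by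
    intro e
    rw [e, sub_self, zero_smul] at h2
    exact P.ne_zero i (zsmul_cancelM P (mul_ne_zero two_ne_zero hn') (by rw [← h2, smul_zero]))
  apply hne'
  rcases proportional_cases P (i := i) (j := j) (sub_ne_zero.mpr hp2) h2.symm with h | h | h | h | h | h
  · exact refl_eq_of_zsmul (c := 1) (by rw [one_smul, h])
  · exact refl_eq_of_zsmul (c := -1) (by rw [neg_one_zsmul, h])
  · exact refl_eq_of_zsmul h
  · exact refl_eq_of_zsmul h
  · exact (refl_eq_of_zsmul h).symm
  · exact (refl_eq_of_zsmul h).symm

end Groth.Agent.S5468
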