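import Groth.Statements.S5469
import Groth.Agent.RootData.Lengths

set_option autoImplicit false
open RootPairing
open scoped Pointwise
open RootD

namespace Groth.Agent.S5469

open Groth.Agent.RootData

/-- Two non-orthogonal roots of equal length (for the canonical form ℓ(x) = Σ_{u ∈ R^v} (u, x)²) are
conjugate under the Weyl group. -/
theorem result {ι M N : Type*} [AddCommGroup M] [AddCommGroup N]
    (P : RootPairing ι ℤ M N) [Finite ι] [Fintype ι] (i j : ι) (hno : ¬ P.IsOrthogonal i j)
    (hl : P.RootForm (P.root i) (P.root i) = P.RootForm (P.root j) (P.root j)) :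
    ∃ g : P.Aut, g ∈ P.weylGroup ∧ g • i = j := by
  simp only [bz_eq_rootForm] at hl
  exact exists_smul_of_bz_eq hno hl

end Groth.Agent.S5469
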