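import Groth.Statements.S5471
import Groth.Agent.RootData.Lengths

set_option autoImplicit false
open RootPairing
open scoped Pointwise
open RootD

namespace Groth.Agent.S5471

open Groth.Agent.RootData

/-- In a reduced irreducible root datum the ratios of squared root lengths to the minimal one form one
of the sets {1}, {1, 2}, {1, 3}. -/
theorem result {ι M N : Type*} [AddCommGroup M] [AddCommGroup N]
    (P : RootPairing ι ℤ M N) [Finite ι] [Fintype ι] [Nonempty ι] [P.IsReduced]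
    (hirr : ∀ R' : Set ι, RootD.IsClosedSub P R' → RootD.IsSymmSub P R' → RootD.IsClosedSub P R'ᶜ →
      RootD.IsSymmSub P R'ᶜ → R' = ∅ ∨ R' = Set.univ)
    (i₀ : ι) (hmin : ∀ i : ι, P.RootForm (P.root i₀) (P.root i₀) ≤ P.RootForm (P.root i) (P.root i)) :
    (∀ i : ι, P.RootForm (P.root i) (P.root i) = P.RootForm (P.root i₀) (P.root i₀) ∨
        P.RootForm (P.root i) (P.root i) = 2 * P.RootForm (P.root i₀) (P.root i₀) ∨
        P.RootForm (P.root i) (P.root i) = 3 * P.RootForm (P.root i₀) (P.root i₀)) ∧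
      ¬ ((∃ i : ι, P.RootForm (P.root i) (P.root i) = 2 * P.RootForm (P.root i₀) (P.root i₀)) ∧
          ∃ j : ι, P.RootForm (P.root j) (P.root j) = 3 * P.RootForm (P.root i₀) (P.root i₀)) := by
  simp only [bz_eq_rootForm] at hmin ⊢
  have key : ∀ a b : ι, ∃ p q : ℤ, p ∈ ({1, 2, 3} : Set ℤ) ∧ q ∈ ({1, 2, 3} : Set ℤ) ∧ (p = 1 ∨ q = 1) ∧
      p * bz P a a = q * bz P b b := by
    intro a b
    obtain ⟨g, hg, hadj⟩ := Irr.exists_conj_adj hirr a b
    rw [← bz_smul g a a]
    have h := bz_swap (P := P) (g • a) b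
    have hz : nn P (g • a) b ≠ 0 := fun e => hadj ((orth_iff P).mpr e)
    have hp := P.pairingIn_pairingIn_mem_set_of_isCrystal_of_isRed (g • a) b
    simp only [Set.mem_insert_iff, Set.mem_singleton_iff, Prod.mk.injEq] at hp
    simp only [Set.mem_insert_iff, Set.mem_singleton_iff]
    have h' : nn P b (g • a) * bz P (g • a) (g • a) = nn P (g • a) b * bz P b b := h.symm
    by_cases h22 : nn P (g • a) b = nn P b (g • a)
    · rw [← h22] at h'
      exact ⟨1, 1, by simp, by simp, by simp, by rw [one_mul, one_mul]; exact mul_left_cancel₀ hz h'⟩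
    unfold nn at hz h22 h'
    rcases hp with ⟨e1, e2⟩|⟨e1, e2⟩|⟨e1, e2⟩|⟨e1, e2⟩|⟨e1, e2⟩|⟨e1, e2⟩|⟨e1, e2⟩|⟨e1, e2⟩|⟨e1, e2⟩|⟨e1, e2⟩|⟨e1, e2⟩|⟨e1, e2⟩|⟨e1, e2⟩ <;>
      rw [e1, e2] at h' <;> rw [e1] at hz <;> rw [e1, e2] at h22 <;> first | omega | skip
    · exact ⟨2, 1, by simp, by simp, by simp, by linarith⟩
    · exact ⟨1, 2, by simp, by simp, by simp, by linarith⟩
    · exact ⟨2, 1, by simp, by simp, by simp, by linarith⟩
    · exact ⟨1, 2, by simp, by simp, by simp, by linarith⟩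
    · exact ⟨3, 1, by simp, by simp, by simp, by linarith⟩
    · exact ⟨1, 3, by simp, by simp, by simp, by linarith⟩
    · exact ⟨3, 1, by simp, by simp, by simp, by linarith⟩
    · exact ⟨1, 3, by simp, by simp, by simp, by linarith⟩
  have h0 := bz_self_pos P i₀
  refine ⟨fun i => ?_, ?_⟩
  · obtain ⟨p, q, hp, hq, hpq, he⟩ := key i i₀
    have := hmin i
    simp only [Set.mem_insert_iff, Set.mem_singleton_iff] at hp hq
    rcases hp with rfl | rfl | rfl <;> rcases hq with rfl | rfl | rfl <;> omega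
  · rintro ⟨⟨i, hi⟩, j, hj⟩
    obtain ⟨p, q, hp, hq, hpq, he⟩ := key i j
    simp only [Set.mem_insert_iff, Set.mem_singleton_iff] at hp hq
    rcases hp with rfl | rfl | rfl <;> rcases hq with rfl | rfl | rfl <;> omega

end Groth.Agent.S5471
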