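import Groth.Statements.S5472
import Groth.Agent.RootData.Parabolic

set_option autoImplicit false
open RootPairing
open scoped Pointwise
open RootD

namespace Groth.Agent.S5472

open Groth.Agent.RootData

/-- Let Δ be a system of simple roots (root-only sense), γ a positive root and α, β simple roots with
(γ, α^v) > 0 and (γ, β^v) ≥ 0 (equivalently: the order of s_α(γ) along Δ is smaller than that of γ,
and the order of s_β(γ) is at most that of γ). Then for every w in the group generated by s_α and
s_β the order of w(γ) along Δ is at most that of γ, and strictly smaller unless w ∈ {1, s_β}. The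
order is the sum of the coefficients along Δ; the conclusion is stated for the coefficient vector c
of γ - w(γ) along Δ: its coefficient sum is ≥ 0, and > 0 unless w = 1 or w = s_β. -/
theorem result {ι M N : Type*} [AddCommGroup M] [AddCommGroup N]
    (P : RootPairing ι ℤ M N) [Finite ι] (Δ : Set ι) (hΔ : RootD.IsSimpleSys P Δ)
    (k i j : ι) (hk : k ∈ RootD.posOf P Δ) (hi : i ∈ Δ) (hj : j ∈ Δ)
    (hα : 0 < P.pairing k i) (hβ : 0 ≤ P.pairing k j)
    (g : P.Aut) (hg : g ∈ Subgroup.closure {Equiv.reflection P i, Equiv.reflection P j})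
    (c : ι →₀ ℤ) (hc : ↑c.support ⊆ Δ)
    (hck : Finsupp.linearCombination ℤ P.root c = P.root k - P.root (g • k)) :
    0 ≤ c.sum (fun _ a => a) ∧ (g ≠ 1 → g ≠ Equiv.reflection P j → 0 < c.sum (fun _ a => a)) := by
  classical
  have := Fintype.ofFinite ι
  have h := Simple.of_isSimpleSys hΔ
  have hki : 0 < nn P k i := by rwa [← Int.cast_id (n := nn P k i), nn_cast]
  have hkj : 0 ≤ nn P k j := by rwa [← Int.cast_id (n := nn P k j), nn_cast]
  have hab : ({i, j} : Set ι) ⊆ Δ := by simp [Set.insert_subset_iff, hi, hj]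
  have hsum : c.sum (fun _ a => a) = h.ht k - h.ht (g • k) := by
    have hs : (fun a => c a) = h.co k - h.co (g • k) := by
      refine sub_eq_zero.mp (li_comb_eq_zero h.li (fun a ha => ?_) ?_)
      · simp [h.co_supp ha, Finsupp.notMem_support_iff.mp fun hh => ha (hc hh)]
      · rw [comb_sub, comb_sub, h.co_spec, h.co_spec, sub_eq_zero, ← hck,
          Finsupp.linearCombination_apply, Finsupp.sum_fintype _ _ (by simp)]
    rw [Finsupp.sum_fintype _ _ (by simp), Simple.ht, Simple.ht, ← Finset.sum_sub_distrib]
    exact Finset.sum_congr rfl fun a _ => congrFun hs a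
  have hg' : g ∈ gen P {i, j} := by rwa [gen, Set.image_pair]
  have hex : ∃ n, ∃ l : List ι, (∀ a ∈ l, a ∈ ({i, j} : Set ι)) ∧ word P l = g ∧ l.length = n := by
    obtain ⟨l, h1, h2⟩ := exists_word hg'; exact ⟨_, l, h1, h2, rfl⟩
  obtain ⟨l, hl, hlg, hlen⟩ := Nat.find_spec hex
  have hmin : ∀ l' : List ι, (∀ a ∈ l', a ∈ ({i, j} : Set ι)) → word P l' = word P l → l.length ≤ l'.length :=
    fun l' h1 h2 => hlen ▸ Nat.find_min' hex ⟨l', h1, h2.trans hlg, rfl⟩
  obtain ⟨k1, k2⟩ := h.ht_reduced_word hab (k := k) (by rintro a (rfl | rfl); exacts [hki.le, hkj]) l hl hmin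
  rw [hlg] at k1 k2
  rw [hsum]
  refine ⟨by omega, fun hg1 hgj => ?_⟩
  have hil : i ∈ l := by
    by_contra hni
    have hall : ∀ a ∈ l, a = j := fun a ha => (hl a ha).resolve_left fun e => hni (e ▸ ha)
    match l, hlg, hmin, hall with
    | [], hlg, _, _ => exact hg1 (by rw [← hlg]; simp [word])
    | [a], hlg, _, hall => exact hgj (by rw [← hlg, hall a (by simp)]; simp [word])
    | a :: b :: t, _, hmin, hall =>
      have := hmin t (fun x hx => .inr (hall x (by simp [hx]))) (by
        rw [hall a (by simp), hall b (by simp), word_cons, word_cons, ← mul_assoc, refl_mul_self, one_mul])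
      simp at this
  have := k2 i hil hki
  omega

end Groth.Agent.S5472
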