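import Groth.Statements.S5473
import Groth.Agent.RootData.Facts

set_option autoImplicit false
open RootD

namespace Groth.Agent.S5473

open Groth.Agent.RootData

/-- If a linear map f and its transpose g induce bijections from the roots of R' onto the roots of R and
from the coroots of R onto the coroots of R' respectively (a morphism of root data in the
two-bijection sense), then the two bijections correspond: the coroot of α' is g applied to the
coroot of f(α'). -/
theorem result {ι M N ι' M' N' : Type*} [AddCommGroup M] [AddCommGroup N] [AddCommGroup M'] [AddCommGroup N']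
    (P : RootPairing ι ℤ M N) (P' : RootPairing ι' ℤ M' N') [Finite ι] [Finite ι']
    (f : M' →ₗ[ℤ] M) (g : N →ₗ[ℤ] N') (hfg : ∀ (m' : M') (n : N), P.toLinearMap (f m') n = P'.toLinearMap m' (g n))
    (e : ι' ≃ ι) (he : ∀ i' : ι', f (P'.root i') = P.root (e i'))
    (e' : ι ≃ ι') (he' : ∀ i : ι, g (P.coroot i) = P'.coroot (e' i)) :
    ∀ i' : ι', g (P.coroot (e i')) = P'.coroot i' := by
  classical
  have := Fintype.ofFinite ι'
  have := torsionFreeM P'
  intro i'
  have key : ∀ a b : ι', P'.toLinearMap (P'.root a) (g (P.coroot (e b))) = P.pairing (e a) (e b) := by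
    intro a b; rw [← hfg, he]; rfl
  refine P'.injOn_dualMap_subtype_span_root_coroot ⟨e' (e i'), (he' (e i')).symm⟩ (Set.mem_range_self i') ?_
  simp only [LinearMap.coe_comp, Function.comp_apply]
  refine Module.Dual.eq_of_preReflection_mapsTo' (Set.finite_range P'.root)
    (Submodule.subset_span (Set.mem_range_self i')) ?_ ?_ (P'.root_coroot_two i') (P'.mapsTo_reflection_root i')
  · show P'.toLinearMap (P'.root i') (g (P.coroot (e i'))) = 2
    rw [key, P.pairing_same]
  · rintro _ ⟨k', rfl⟩
    refine ⟨e.symm (P.reflectionPerm (e i') (e k')), ?_⟩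
    rw [Module.preReflection_apply]
    show _ = P'.root k' - P'.toLinearMap (P'.root k') (g (P.coroot (e i'))) • P'.root i'
    rw [key]
    set l' := e.symm (P.reflectionPerm (e i') (e k'))
    set p := P.pairing (e k') (e i')
    set c : ι' → ℤ := Pi.single l' 1 - (Pi.single k' 1 - Pi.single i' p)
    have hc : comb P' c = P'.root l' - (P'.root k' - p • P'.root i') := by
      simp only [c, comb_sub, comb_single, one_smul]
    have hfc : f (comb P' c) = 0 := by
      rw [hc, map_sub, map_sub, map_smul, he, he, he, show e l' = P.reflectionPerm (e i') (e k') from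
        e.apply_symm_apply _, P.root_reflectionPerm, P.reflection_apply_root, sub_self]
    have hz : comb P' c = 0 := by
      refine (comb_zero_iff P' c).mpr fun x => ?_
      have h1 : P'.toLinearMap (comb P' c) (P'.coroot x) = 0 := by
        rw [show P'.coroot x = g (P.coroot (e'.symm x)) by rw [he', e'.apply_symm_apply], ← hfg, hfc]
        simp
      rw [map_sum, LinearMap.sum_apply] at h1
      refine Eq.trans (Finset.sum_congr rfl fun a _ => ?_) h1
      rw [map_smul, LinearMap.smul_apply, smul_eq_mul, show P'.toLinearMap (P'.root a) (P'.coroot x) = P'.pairing a x from rfl, ← nn_cast P' a x, Int.cast_id]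
    rw [hc] at hz
    exact sub_eq_zero.mp hz

end Groth.Agent.S5473
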