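import Groth.Statements.S5474
import Groth.Agent.RootData.Ranks

set_option autoImplicit false
open RootD

namespace Groth.Agent.S5474

open Groth.Agent.RootData

/-- Every morphism between semisimple root data is an isogeny (injective on weight lattices with finite
cokernel). -/
theorem result {ι M N ι' M' N' : Type*} [AddCommGroup M] [AddCommGroup N] [AddCommGroup M'] [AddCommGroup N']
    (P : RootPairing ι ℤ M N) (P' : RootPairing ι' ℤ M' N') [Finite ι] [Finite ι']
    [Module.Finite ℤ M] [Module.Finite ℤ N] [Module.Finite ℤ M'] [Module.Finite ℤ N']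
    (hss : Module.finrank ℤ (Submodule.span ℤ (Set.range P.root)) = Module.finrank ℤ M)
    (hss' : Module.finrank ℤ (Submodule.span ℤ (Set.range P'.root)) = Module.finrank ℤ M')
    (f : RootPairing.Hom P' P) :
    Function.Injective f.weightMap ∧ Finite (M ⧸ LinearMap.range f.weightMap) := by
  have := Fintype.ofFinite ι
  have := torsionFreeM P
  refine ⟨(injective_iff_map_eq_zero _).mpr fun x hx => ?_, ?_⟩
  · have h0 := (semisimple_iff P').mp hss'
    have hxm : x ∈ (⨅ i : ι', LinearMap.ker (P'.coroot' i) : Submodule ℤ M') := by
      simp only [Submodule.mem_iInf, LinearMap.mem_ker]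
      intro i
      have e := RootPairing.Hom.weight_coweight_transpose_apply P' P (P.coroot (f.indexEquiv i)) f
      rw [RootPairing.Hom.coroot_coweightMap_apply, Equiv.symm_apply_apply] at e
      have := LinearMap.congr_fun e x
      simp only [LinearMap.dualMap_apply, hx, map_zero] at this
      exact this.symm
    rwa [h0, Submodule.mem_bot] at hxm
  · refine finite_quotient_of_finrank _ (le_antisymm (Submodule.finrank_le _) (hss ▸ Submodule.finrank_mono ?_))
    refine Submodule.span_le.mpr ?_
    rintro _ ⟨i, rfl⟩
    exact ⟨P'.root (f.indexEquiv.symm i), by rw [RootPairing.Hom.root_weightMap_apply, Equiv.apply_symm_apply]⟩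

end Groth.Agent.S5474
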