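import Groth.Statements.S5475
import Groth.Agent.RootData.Facts

set_option autoImplicit false
open RootD

namespace Groth.Agent.S5475

open Groth.Agent.RootData

/-- In an adjoint root datum every indivisible root is an indivisible element of the weight lattice. -/
theorem result {ι M N : Type*} [AddCommGroup M] [AddCommGroup N]
    (P : RootPairing ι ℤ M N) [Finite ι] (had : Submodule.span ℤ (Set.range P.root) = ⊤)
    (i : ι) (hind : RootD.IsIndiv P i) (m : M) (n : ℤ) (h : n • m = P.root i) : n = 1 ∨ n = -1 := by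
  classical
  have := Fintype.ofFinite ι
  obtain ⟨Δ, hΔ⟩ := exists_simple P
  obtain ⟨g, -, a, ha, rfl⟩ := hΔ.indiv_conj hind
  have h' : n • (g⁻¹ • m) = P.root a := by rw [← smul_comm, h, smul_root, inv_smul_smul]
  obtain ⟨c, -, hc⟩ := RootData.mem_inSpan_iff.mp (show g⁻¹ • m ∈ Submodule.span ℤ (P.root '' Set.univ) by
    rw [Set.image_univ, had]; trivial)
  have e : comb P (∑ x, c x • hΔ.co x) = g⁻¹ • m := by
    rw [comb_sum]; simp only [comb_smul, hΔ.co_spec]; exact hc
  have hd := hΔ.co_unique (k := a) (c := n • ∑ x, c x • hΔ.co x)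
    (fun b hb => by simp [hΔ.co_supp hb]) (by rw [comb_smul, e, h'])
  have := congrFun hd a
  rw [hΔ.co_simple ha] at this
  simp at this
  exact Int.eq_one_or_neg_one_of_mul_eq_one this.symm

end Groth.Agent.S5475
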