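import Groth.Statements.S5478
import Groth.Agent.RootData.Facts

set_option autoImplicit false
open RootPairing
open scoped Pointwise
open RootD

namespace Groth.Agent.S5478

open Groth.Agent.RootData

/-- The group of automorphisms of a root datum that act trivially on the radical is finite. -/
theorem result {ι M N : Type*} [AddCommGroup M] [AddCommGroup N]
    (P : RootPairing ι ℤ M N) [Finite ι] :
    Set.Finite {u : P.Aut | ∀ m : M, ∃ n : ℕ, 0 < n ∧ n • (u • m - m) ∈ Submodule.span ℤ (Set.range P.root)} := by
  have := Fintype.ofFinite ι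
  refine Set.Finite.of_finite_image (f := fun u : P.Aut => RootPairing.Equiv.indexHom P u)
    (Set.toFinite _) ?_
  intro u hu v hv he
  have hinv : ∀ x ∈ Submodule.span ℤ (Set.range P.root), u⁻¹ • x ∈ Submodule.span ℤ (Set.range P.root) := by
    intro x hx
    induction hx using Submodule.span_induction with
    | mem y hy =>
      obtain ⟨i, rfl⟩ := hy
      exact Submodule.subset_span ⟨u⁻¹ • i, smul_root _ _⟩
    | zero => simp
    | add y z _ _ hy hz => rw [smul_add]; exact add_mem hy hz
    | smul r y _ hy => rw [smul_comm]; exact Submodule.smul_mem _ _ hy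
  refine inv_mul_eq_one.mp (eq_one_of_fix (g := u⁻¹ * v) (fun m => ?_) fun i => ?_)
  · obtain ⟨n, hn, hnu⟩ := hu m
    obtain ⟨n', hn', hnv⟩ := hv m
    refine ⟨(n : ℤ) * n', by positivity, ?_⟩
    have e : u⁻¹ • v • m - m = u⁻¹ • ((v • m - m) - (u • m - m)) := by
      rw [sub_sub_sub_cancel_right, smul_sub, inv_smul_smul]
    rw [mul_smul u⁻¹ v m, e, ← smul_comm u⁻¹]
    refine hinv _ ?_
    rw [smul_sub]
    refine sub_mem ?_ ?_
    · rw [mul_smul]; refine Submodule.smul_mem _ _ ?_; rw [natCast_zsmul]; exact hnv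
    · rw [mul_comm, mul_smul]; refine Submodule.smul_mem _ _ ?_; rw [natCast_zsmul]; exact hnu
  · have := congrArg (fun f : ι ≃ ι => f i) he
    rw [mul_smul]
    exact (congrArg (u⁻¹ • ·) this.symm).trans (inv_smul_smul u i)

end Groth.Agent.S5478
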