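import Groth.Statements.S5479
import Groth.Agent.RootData.Facts

set_option autoImplicit false
open RootPairing
open scoped Pointwise
open RootD

namespace Groth.Agent.S5479

open Groth.Agent.RootData

/-- Aut(R) is the semidirect product of the Weyl group by the stabiliser E_Δ of a system of simple
roots: every automorphism is uniquely w · e with w ∈ W and e(Δ) = Δ. -/
theorem result {ι M N : Type*} [AddCommGroup M] [AddCommGroup N]
    (P : RootPairing ι ℤ M N) [Finite ι] (Δ : Set ι) (hΔ : RootD.IsSimpleSys P Δ) (u : P.Aut) :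
    ∃! w : P.weylGroup, (fun i : ι => ((w : P.Aut)⁻¹ * u) • i) '' Δ = Δ := by
  have := Fintype.ofFinite ι
  have h := Simple.of_isSimpleSys hΔ
  obtain ⟨w, hw, hu⟩ := h.existsUnique_smul (h.smul u)
  have key : ∀ w : P.weylGroup, ((fun i : ι => ((w : P.Aut)⁻¹ * u) • i) '' Δ = Δ ↔
      ((w : P.Aut) • ·) '' Δ = (u • ·) '' Δ) := by
    intro w
    rw [show (fun i : ι => ((w : P.Aut)⁻¹ * u) • i) = ((w : P.Aut)⁻¹ • ·) ∘ (u • ·) from
      funext fun i => mul_smul _ _ _, Set.image_comp]
    constructor
    · intro e; nth_rw 1 [← e]; rw [← Set.image_comp]; simp [Function.comp_def]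
    · intro e; rw [← e, ← Set.image_comp]; simp [Function.comp_def]
  exact ⟨w, (key w).mpr hw, fun w' h' => hu w' ((key w').mp h')⟩

end Groth.Agent.S5479
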