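import Groth.Statements.S5480
import Groth.Agent.RootData.PMorphism

set_option autoImplicit false
open RootD

namespace Groth.Agent.S5480

open Groth.Agent.RootData

/-- For a p-morphism of reduced root data with root bijection u and radicial exponents q: (a) for all
roots α, β one has q(s_α(β)) = q(β) and u(s_α(β)) = s_{u(α)}(u(β)); (b) the exponents are invariant
under the Weyl group, q(w(α)) = q(α); (c) there is an isomorphism ū from the Weyl group of the first
datum to that of the second with ū(s_α) = s_{u(α)} and u(w(α)) = ū(w)(u(α)) for every Weyl group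
element w and every root α. -/
theorem result {ι M N ι' M' N' : Type*} [AddCommGroup M] [AddCommGroup N] [AddCommGroup M'] [AddCommGroup N']
    (P : RootPairing ι ℤ M N) (P' : RootPairing ι' ℤ M' N') [Finite ι] [Finite ι'] [P.IsReduced] [P'.IsReduced]
    (p : ℕ) (hp : 0 < p) (f : M' →ₗ[ℤ] M) (g : N →ₗ[ℤ] N')
    (hfg : ∀ (m' : M') (n : N), P.toLinearMap (f m') n = P'.toLinearMap m' (g n))
    (u : ι ≃ ι') (q : ι → ℕ) (hq : ∀ i, ∃ e : ℕ, q i = p ^ e)
    (hroot : ∀ i : ι, f (P'.root (u i)) = (q i : ℤ) • P.root i)
    (hcoroot : ∀ i : ι, g (P.coroot i) = (q i : ℤ) • P'.coroot (u i)) :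
    (∀ i j : ι, q (P.reflectionPerm i j) = q j ∧ u (P.reflectionPerm i j) = P'.reflectionPerm (u i) (u j)) ∧
      (∀ w ∈ P.weylGroup, ∀ i : ι, q (w • i) = q i) ∧
      ∃ ubar : P.weylGroup ≃* P'.weylGroup,
        (∀ i : ι, ubar (RootPairing.weylGroup.ofIdx P i) = RootPairing.weylGroup.ofIdx P' (u i)) ∧
        ∀ (w : P.weylGroup) (i : ι), u ((w : P.Aut) • i) = ((ubar w : P'.weylGroup) : P'.Aut) • u i := by
  classical
  have := Fintype.ofFinite ι
  have := Fintype.ofFinite ι'
  have h : PMor P P' f g u q := ⟨hfg, fun i => by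
    obtain ⟨e, he⟩ := hq i; rw [he]; exact pow_pos hp e, hroot, hcoroot⟩
  refine ⟨h.refl_apply, fun w hw => ?_, ?_⟩
  · induction hw using RootPairing.weylGroup.induction with
    | mem i => exact fun j => (h.refl_apply i j).1
    | one => intro i; rw [one_smul]
    | mul x y _ _ hx hy => intro i; rw [mul_smul, hx, hy]
  · let φ : P.weylGroup →* (ι' ≃ ι') := u.permCongrHom.toMonoidHom.comp P.weylGroupToPerm
    have hφ : Function.Injective φ := u.permCongrHom.injective.comp weylGroupToPerm_inj
    have hgen : u.permCongrHom.toMonoidHom '' Set.range P.reflectionPerm = Set.range P'.reflectionPerm := by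
      have e : ∀ i, u.permCongrHom.toMonoidHom (P.reflectionPerm i) = P'.reflectionPerm (u i) := fun i => by
        ext x
        obtain ⟨j, rfl⟩ := u.surjective x
        simp [Equiv.permCongrHom, Equiv.permCongr_apply, (h.refl_apply i j).2]
      rw [← Set.range_comp, show (u.permCongrHom.toMonoidHom ∘ fun i => P.reflectionPerm i) = fun i => P'.reflectionPerm (u i) from funext e]
      exact u.surjective.range_comp _
    have hrange : φ.range = P'.weylGroupToPerm.range := by
      rw [MonoidHom.range_comp, P.range_weylGroupToPerm, MonoidHom.map_closure, hgen, ← P'.range_weylGroupToPerm]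
    let ubar : P.weylGroup ≃* P'.weylGroup :=
      (MonoidHom.ofInjective hφ).trans ((MulEquiv.subgroupCongr hrange).trans (MonoidHom.ofInjective (weylGroupToPerm_inj (P := P'))).symm)
    have hub : ∀ w, P'.weylGroupToPerm (ubar w) = φ w := fun w => by
      have := MonoidHom.apply_ofInjective_symm (weylGroupToPerm_inj (P := P')) (MulEquiv.subgroupCongr hrange (MonoidHom.ofInjective hφ w))
      exact this
    have hsmul : ∀ (w : P.weylGroup) (i : ι), u ((w : P.Aut) • i) = ((ubar w : P'.weylGroup) : P'.Aut) • u i := by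
      intro w i
      have := congrArg (fun p : ι' ≃ ι' => p (u i)) (hub w)
      simp only [φ, MonoidHom.comp_apply] at this
      simp [Equiv.permCongrHom, Equiv.permCongr_apply] at this
      exact this.symm
    refine ⟨ubar, fun i => weylGroupToPerm_inj (Equiv.ext fun x => ?_), hsmul⟩
    obtain ⟨j, rfl⟩ := u.surjective x
    exact (hsmul _ j).symm.trans (h.refl_apply i j).2

end Groth.Agent.S5480
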