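import Groth.Statements.S5481
import Groth.Agent.RootData.PMorphism

set_option autoImplicit false
open RootD

namespace Groth.Agent.S5481

open Groth.Agent.RootData

/-- The root bijection u of a p-morphism of reduced root data carries systems of simple roots onto
systems of simple roots and systems of positive roots onto systems of positive roots, bijectively. -/
theorem result {ι M N ι' M' N' : Type*} [AddCommGroup M] [AddCommGroup N] [AddCommGroup M'] [AddCommGroup N']
    (P : RootPairing ι ℤ M N) (P' : RootPairing ι' ℤ M' N') [Finite ι] [Finite ι'] [P.IsReduced] [P'.IsReduced]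
    (p : ℕ) (hp : 0 < p) (f : M' →ₗ[ℤ] M) (g : N →ₗ[ℤ] N')
    (hfg : ∀ (m' : M') (n : N), P.toLinearMap (f m') n = P'.toLinearMap m' (g n))
    (u : ι ≃ ι') (q : ι → ℕ) (hq : ∀ i, ∃ e : ℕ, q i = p ^ e)
    (hroot : ∀ i : ι, f (P'.root (u i)) = (q i : ℤ) • P.root i)
    (hcoroot : ∀ i : ι, g (P.coroot i) = (q i : ℤ) • P'.coroot (u i)) (Δ : Set ι) :
    (RootD.IsSimpleSys P Δ ↔ RootD.IsSimpleSys P' (u '' Δ)) ∧
      (RootD.IsPosSys P Δ ↔ RootD.IsPosSys P' (u '' Δ)) := by
  classical
  have := Fintype.ofFinite ι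
  have := Fintype.ofFinite ι'
  have h : PMor P P' f g u q := ⟨hfg, fun i => by
    obtain ⟨e, he⟩ := hq i; rw [he]; exact pow_pos hp e, hroot, hcoroot⟩
  have key : ∀ S : Set ι, IsPosSys P S → indec P' (u '' S) = u '' indec P S := by
    intro S hS
    have h1 := indec_simple hS
    have h2 := indec_simple (h.image_isPosSys hS)
    ext a'
    obtain ⟨a, rfl⟩ := u.surjective a'
    rw [u.injective.mem_set_image, h1.mem_iff_refl, h2.mem_iff_refl, posOf_indec hS, posOf_indec (h.image_isPosSys hS),
      u.injective.mem_set_image]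
    simp only [Set.forall_mem_image, u.injective.ne_iff, ← (h.refl_apply a _).2, u.injective.mem_set_image]
  refine ⟨⟨fun hΔ => ?_, fun hΔ => ?_⟩, ⟨fun hS => h.image_isPosSys hS, fun hS => h.preimage_isPosSys hS⟩⟩
  · have hs := Simple.of_isSimpleSys hΔ
    rw [hs.eq_indec, ← key _ hs.posOf_isPosSys]
    exact (indec_simple (h.image_isPosSys hs.posOf_isPosSys)).isSimpleSys
  · have hs := Simple.of_isSimpleSys hΔ
    have hpos : IsPosSys P (u ⁻¹' posOf P' (u '' Δ)) :=
      h.preimage_isPosSys (by rw [u.image_preimage]; exact hs.posOf_isPosSys)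
    have e := key _ hpos
    rw [u.image_preimage, ← hs.eq_indec] at e
    rw [u.injective.image_injective e]
    exact (indec_simple hpos).isSimpleSys

end Groth.Agent.S5481
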