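import Groth.Statements.S5482
import Groth.Agent.RootData.Orth

set_option autoImplicit false
open RootD

namespace Groth.Agent.S5482

open Groth.Agent.RootData

/-- If the roots are partitioned into two closed symmetric subsets R', R'', then with Δ' = Δ ∩ R', Δ'' =
Δ ∩ R'' for a system of simple roots Δ one has R' = R_{Δ'}, R'' = R_{Δ''}, and Δ' is orthogonal to
Δ''. -/
theorem result {ι M N : Type*} [AddCommGroup M] [AddCommGroup N]
    (P : RootPairing ι ℤ M N) [Finite ι] (Δ : Set ι) (hΔ : RootD.IsSimpleSys P Δ) (R' : Set ι)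
    (hc : RootD.IsClosedSub P R') (hs : RootD.IsSymmSub P R') (hc' : RootD.IsClosedSub P R'ᶜ)
    (hs' : RootD.IsSymmSub P R'ᶜ) :
    R' = RootD.inSpan P (Δ ∩ R') ∧ R'ᶜ = RootD.inSpan P (Δ \ R') ∧
      ∀ i ∈ Δ ∩ R', ∀ j ∈ Δ \ R', P.IsOrthogonal i j := by
  have := Fintype.ofFinite ι
  have h := Simple.of_isSimpleSys hΔ
  have horth : ∀ i ∈ Δ ∩ R', ∀ j ∈ Δ \ R', P.IsOrthogonal i j :=
    fun i hi j hj => orth_of_mixed hc hs hc' hs' hi.2 hj.2
  have horth' : ∀ i ∈ Δ ∩ R', ∀ j ∈ Δ \ (Δ ∩ R'), P.IsOrthogonal i j :=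
    fun i hi j hj => horth i hi j ⟨hj.1, fun h' => hj.2 ⟨hj.1, h'⟩⟩
  have inR : ∀ (T : Set ι) (U : Set ι), IsClosedSub P U → IsSymmSub P U → T ⊆ U → T ⊆ Δ →
      ∀ k, (∀ a, h.co k a ≠ 0 → a ∈ T) → k ∈ U := by
    intro T U hU hU' hTU _ k hk
    refine closedSymm_natSpan hU hU' hTU ?_
    rcases h.co_sign k with hh | hh
    · exact .inl (comb_natSpan.mpr ⟨_, hh, fun a ha => by_contra fun e => ha (hk a e), h.co_spec k⟩)
    · exact .inr (comb_natSpan.mpr ⟨-h.co k, fun a => by simpa using hh a,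
        fun a ha => by simpa using by_contra fun e => ha (hk a e), by rw [comb_neg, h.co_spec]⟩)
  have hd : Δ \ (Δ ∩ R') = Δ \ R' := by ext; simp +contextual
  have hA := inR (Δ ∩ R') R' hc hs Set.inter_subset_right Set.inter_subset_left
  have hB := inR (Δ \ R') R'ᶜ hc' hs' (fun x hx => hx.2) Set.diff_subset
  have split := fun k => hd ▸ h.supp_split Set.inter_subset_left horth' k
  refine ⟨?_, ?_, horth⟩ <;> ext k <;> rw [h.mem_inSpan_iff (by simp)]
  · exact ⟨fun hk => (split k).resolve_right fun hh => hB k hh hk, hA k⟩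
  · exact ⟨fun hk => (split k).resolve_left fun hh => hk (hA k hh), hB k⟩

end Groth.Agent.S5482
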