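import Groth.Statements.S5483
import Groth.Agent.RootData.Orth

set_option autoImplicit false
open RootD

namespace Groth.Agent.S5483

open Groth.Agent.RootData

/-- If a system of simple roots Δ is the disjoint union of two mutually orthogonal subsets Δ', Δ'', then
R_{Δ'} and R_{Δ''} partition the set of roots. -/
theorem result {ι M N : Type*} [AddCommGroup M] [AddCommGroup N]
    (P : RootPairing ι ℤ M N) [Finite ι] (Δ Δ' : Set ι) (hΔ : RootD.IsSimpleSys P Δ)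
    (hsub : Δ' ⊆ Δ) (horth : ∀ i ∈ Δ', ∀ j ∈ Δ \ Δ', P.IsOrthogonal i j) (k : ι) :
    (k ∈ RootD.inSpan P Δ' ∨ k ∈ RootD.inSpan P (Δ \ Δ')) ∧
      ¬ (k ∈ RootD.inSpan P Δ' ∧ k ∈ RootD.inSpan P (Δ \ Δ')) := by
  have := Fintype.ofFinite ι
  have h := Simple.of_isSimpleSys hΔ
  rw [h.mem_inSpan_iff hsub, h.mem_inSpan_iff Set.diff_subset]
  refine ⟨h.supp_split hsub horth k, fun ⟨h1, h2⟩ => ?_⟩
  obtain ⟨a, ha⟩ := h.co_ne_zero k
  exact (h2 a ha).2 (h1 a ha)

end Groth.Agent.S5483
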