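import Groth.Statements.S5484
import Groth.Agent.RootData.Lengths
import Mathlib.Analysis.Matrix.PosDef
import Mathlib.Algebra.Order.Star.Real
import Mathlib.LinearAlgebra.Matrix.ToLinearEquiv
import Mathlib.LinearAlgebra.Matrix.DotProduct

set_option autoImplicit false
open RootD

namespace Groth.Agent.S5484

open Groth.Agent.RootData

open Classical in
/-- Every principal minor of the Cartan matrix (a_{α,β} = (α^v, β), α, β simple) is strictly positive. -/
theorem result {ι M N : Type*} [AddCommGroup M] [AddCommGroup N]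
    (P : RootPairing ι ℤ M N) [Finite ι] (Δ : Finset ι) (hΔ : RootD.IsSimpleSys P (↑Δ : Set ι))
    (Δ' : Finset ι) (hsub : Δ' ⊆ Δ) :
    0 < Matrix.det (Matrix.of fun (a b : ↥Δ') => P.pairing (b : ι) (a : ι)) := by
  classical
  have := Fintype.ofFinite ι
  have h := Simple.of_isSimpleSys hΔ
  let B : Matrix ι ↥Δ' ℤ := Matrix.of fun k a => nn P (a : ι) k
  let A : Matrix ↥Δ' ↥Δ' ℤ := Matrix.of fun a b => P.pairing (b : ι) (a : ι)
  have hG : B.transpose * B = Matrix.of fun a b : ↥Δ' => bz P (a : ι) (b : ι) := by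
    ext a b; simp [B, Matrix.mul_apply, bz]
  have hnn : 0 ≤ (B.transpose * B).det := by
    have h1 : (0 : ℝ) ≤ ((B.map (Int.castRingHom ℝ)).conjTranspose * B.map (Int.castRingHom ℝ)).det :=
      (Matrix.posSemidef_conjTranspose_mul_self _).det_nonneg
    have h2 : (B.map (Int.castRingHom ℝ)).conjTranspose * B.map (Int.castRingHom ℝ) =
        (B.transpose * B).map (Int.castRingHom ℝ) := by
      rw [Matrix.map_mul, Matrix.conjTranspose_eq_transpose_of_trivial, Matrix.transpose_map]
    rw [h2, ← RingHom.mapMatrix_apply, ← RingHom.map_det] at h1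
    simpa using h1
  have hne : (B.transpose * B).det ≠ 0 := by
    intro e
    obtain ⟨v, hv, hv0⟩ := Matrix.exists_mulVec_eq_zero_iff.mpr e
    refine hv ?_
    set c : ι → ℤ := fun a => if ha : a ∈ Δ' then v ⟨a, ha⟩ else 0
    have hBv : B.mulVec v = 0 := by
      have h1 : B.mulVec v ⬝ᵥ B.mulVec v = 0 := by
        rw [Matrix.dotProduct_mulVec, ← Matrix.mulVec_transpose, Matrix.mulVec_mulVec, hv0, zero_dotProduct]
      exact dotProduct_self_eq_zero.mp h1
    have hz : c = 0 := li_comb_eq_zero h.li (fun a ha => by simp [c, show a ∉ Δ' from fun hh => ha (hsub hh)])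
      ((comb_zero_iff P c).mpr fun k => by
        have hk := congrFun hBv k
        simp only [Matrix.mulVec, dotProduct, Pi.zero_apply] at hk
        rw [← hk, ← Finset.sum_subset (Finset.subset_univ Δ') (fun a _ ha => by simp [c, ha]), ← Finset.sum_coe_sort Δ']
        exact Finset.sum_congr rfl fun a _ => by simp [c, B]; ring)
    funext a
    simpa [c] using congrFun hz a
  have hdiag : Matrix.diagonal (fun a : ↥Δ' => bz P (a : ι) (a : ι)) * A = (2 : ℤ) • (B.transpose * B) := by
    ext a b
    rw [Matrix.diagonal_mul, hG]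
    simp only [A, Matrix.of_apply, Matrix.smul_apply, smul_eq_mul]
    rw [← nn_cast, Int.cast_id, two_bz]
    linear_combination bz_swap (P := P) (b : ι) (a : ι)
  have hdet := congrArg Matrix.det hdiag
  rw [Matrix.det_mul, Matrix.det_diagonal, Matrix.det_smul] at hdet
  have h1 : 0 < ∏ a : ↥Δ', bz P (a : ι) (a : ι) := Finset.prod_pos fun a _ => bz_self_pos P _
  have h2 : 0 < (B.transpose * B).det := lt_of_le_of_ne hnn (Ne.symm hne)
  exact pos_of_mul_pos_right (lt_of_lt_of_eq (mul_pos (pow_pos two_pos _) h2) hdet.symm) h1.le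

end Groth.Agent.S5484
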