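import Groth.Statements.S5485
import Groth.Agent.RootData.Coroot

set_option autoImplicit false
open RootD

namespace Groth.Agent.S5485

open Groth.Agent.RootData

/-- If Δ is a system of simple roots then ind(Δ^v), the set of coroots of Δ with each divisible coroot
replaced by its half, is a system of simple coroots (a system of simple roots of the dual datum). -/
theorem result {ι M N : Type*} [AddCommGroup M] [AddCommGroup N]
    (P : RootPairing ι ℤ M N) [Finite ι] (Δ : Set ι) (hΔ : RootD.IsSimpleSys P Δ) :
    RootD.IsSimpleSys P.flip {j : ι | ∃ i ∈ Δ, (j = i ∧ RootD.IsIndiv P.flip i) ∨ (2 : ℤ) • P.coroot j = P.coroot i} := by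
  classical
  have := Fintype.ofFinite ι
  have h := Simple.of_isSimpleSys hΔ
  set T : Set ι := {j : ι | ∃ i ∈ Δ, (j = i ∧ IsIndiv P.flip i) ∨ (2 : ℤ) • P.coroot j = P.coroot i}
  have hfr : ∀ x, P.flip.root x = P.coroot x := fun x => rfl
  have hsimple : ∀ a ∈ Δ, P.coroot a ∈ natSpan P.flip T := by
    intro a ha
    by_cases hi : IsIndiv P.flip a
    · exact root_mem_natSpan (P := P.flip) ⟨a, ha, .inl ⟨rfl, hi⟩⟩
    · simp only [IsIndiv, not_forall, not_not] at hi
      obtain ⟨j, hj⟩ := hi
      have hjT : P.flip.root j ∈ natSpan P.flip T := root_mem_natSpan (P := P.flip) ⟨a, ha, .inr hj⟩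
      show P.coroot a ∈ _
      rw [← hfr, ← hj, two_smul]
      exact add_mem hjT hjT
  have hpos : ∀ (n : ℕ) (k : ι), (h.ht k).toNat = n → k ∈ posOf P Δ → P.coroot k ∈ natSpan P.flip T := by
    intro n
    induction n using Nat.strong_induction_on with
    | _ n ih =>
      intro k hn hk
      by_cases hsing : ∃ a ∈ Δ, ∀ b, b ≠ a → h.co k b = 0
      · obtain ⟨a, ha, hb⟩ := hsing
        rcases h.pos_multiple ha hk hb with rfl | e
        · exact hsimple k ha
        · refine root_mem_natSpan (P := P.flip) ⟨a, ha, .inr ?_⟩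
          exact coroot_of_double e
      push Not at hsing
      obtain ⟨a, ha, hc, hp, hlt⟩ := h.descend hk hsing
      have hlt0 := h.ht_pos hp
      have hnn : 0 ≤ nn P k a := by
        have := h.co_refl ha k
        have e : h.ht (P.reflectionPerm a k) = h.ht k - nn P k a := by
          simp [Simple.ht, this, Finset.sum_sub_distrib, Pi.single_apply]
        omega
      have hnn' : 0 ≤ nn P a k := by
        rcases hnn.eq_or_lt with e | e
        · rw [nn_eq_zero_symm P e.symm]
        · by_contra hh
          exact absurd ((nn_nonpos_comm P).mp (not_le.mp hh).le) (by omega)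
      have hk' := ih _ (by omega) _ rfl hp
      rw [P.coroot_reflectionPerm, P.coreflection_apply_coroot, ← nn_cast P a k, Int.cast_id] at hk'
      have : P.coroot k = (P.coroot k - nn P a k • P.coroot a) + (nn P a k).toNat • P.coroot a := by
        rw [← natCast_zsmul, Int.toNat_of_nonneg hnn', sub_add_cancel]
      rw [this]
      exact add_mem hk' (nsmul_mem (hsimple a ha) _)
  refine ⟨flip_linIndep h (fun j hj => ?_) (fun j hj i hi => ?_), fun k => ?_⟩
  · obtain ⟨i, hi, ⟨rfl, -⟩ | e⟩ := hj
    · exact ⟨j, hi, 2, two_ne_zero, rfl⟩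
    · exact ⟨i, hi, 1, one_ne_zero, by rw [one_smul, e]⟩
  · rintro a ha ⟨q, hq⟩ ⟨q', hq'⟩
    have huniq : ∀ (x b : ι) (q : ℤ) (m : ℤ), b ∈ Δ → m ≠ 0 → m • P.coroot x = P.coroot b →
        (2 : ℤ) • P.coroot x = q • P.coroot a → b = a := by
      intro x b q m hb hm e e'
      by_contra hne
      have := linearIndepOn_iff'.mp h.coroot_li {b, a} (fun y => if y = b then 2 else -(m * q))
        (by simp [Set.insert_subset_iff, hb, ha]) (by
          rw [Finset.sum_pair hne, if_pos rfl, if_neg (Ne.symm hne), ← e, smul_smul, mul_comm 2 m,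
            ← smul_smul, e', smul_smul, neg_smul, add_neg_cancel]) b (by simp)
      simp at this
    obtain ⟨b, hb, hjb⟩ := hj
    obtain ⟨c, hc, hic⟩ := hi
    obtain rfl : b = a := by
      rcases hjb with ⟨rfl, -⟩ | e
      · exact huniq j j q 1 hb one_ne_zero (one_smul _ _) hq
      · exact huniq j b q 2 hb two_ne_zero e hq
    obtain rfl : c = b := by
      rcases hic with ⟨rfl, -⟩ | e
      · exact huniq i i q' 1 hc one_ne_zero (one_smul _ _) hq'
      · exact huniq i c q' 2 hc two_ne_zero e hq'
    rcases hjb with ⟨rfl, h1⟩ | h1 <;> rcases hic with ⟨rfl, h2⟩ | h2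
    · rfl
    · exact absurd h2 (h1 i)
    · exact absurd h1 (h2 j)
    · have := torsionFreeN P
      exact P.coroot.injective (zsmul_cancelM P.flip two_ne_zero (h1.trans h2.symm) |> fun hh => hh)
  · rcases h.posOf_isPosSys.cover k with hk | hk
    · exact .inl (hpos _ k rfl hk)
    · refine .inr ?_
      show -P.flip.root k ∈ _
      rw [← root_neg (P := P.flip)]
      exact hpos _ _ rfl hk

end Groth.Agent.S5485
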