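import Groth.Statements.S5486
import Groth.Agent.RootData.Facts

set_option autoImplicit false
open RootD

namespace Groth.Agent.S5486

open Groth.Agent.RootData

/-- For orthogonal roots α, β, the sum α + β is a root if and only if the difference α - β is. -/
theorem result {ι M N : Type*} [AddCommGroup M] [AddCommGroup N]
    (P : RootPairing ι ℤ M N) [Finite ι] (i j : ι) (h : P.IsOrthogonal i j) :
    P.root i + P.root j ∈ Set.range P.root ↔ P.root i - P.root j ∈ Set.range P.root := by
  have key : ∀ i j : ι, P.IsOrthogonal i j → ∀ k, P.root k = P.root i + P.root j →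
      P.root (P.reflectionPerm j k) = P.root i - P.root j := by
    intro i j h k hk
    rw [refl_root, nn_add P hk, nn_self, (orth_iff P).mp h, zero_add, hk, two_smul]
    abel
  constructor
  · rintro ⟨k, hk⟩; exact ⟨_, key i j h k hk⟩
  · rintro ⟨k, hk⟩
    have h' : P.IsOrthogonal i (P.reflectionPerm j j) := by
      rw [orth_iff, nn_neg_right, (orth_iff P).mp h, neg_zero]
    exact ⟨_, (key i _ h' k (by rw [root_neg, hk]; abel)).trans (by rw [root_neg, sub_neg_eq_add])⟩

end Groth.Agent.S5486
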