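import Groth.Statements.S5487
import Groth.Agent.RootData.Lengths

set_option autoImplicit false
open RootD

namespace Groth.Agent.S5487

open Groth.Agent.RootData

/-- For non-orthogonal roots α, β one has ℓ(α) ℓ(α^v) = ℓ(β) ℓ(β^v), where ℓ is the canonical quadratic
form of the datum and of its dual. -/
theorem result {ι M N : Type*} [AddCommGroup M] [AddCommGroup N]
    (P : RootPairing ι ℤ M N) [Finite ι] [Fintype ι] (i j : ι) (h : ¬ P.IsOrthogonal i j) :
    P.RootForm (P.root i) (P.root i) * P.CorootForm (P.coroot i) (P.coroot i) =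
      P.RootForm (P.root j) (P.root j) * P.CorootForm (P.coroot j) (P.coroot j) := by
  simp only [bz_eq_rootForm, bz_eq_corootForm]
  have e1 := bz_swap (P := P) i j
  have e2 := bz_swap (P := P.flip) i j
  have hfl : ∀ a b, nn P.flip a b = nn P b a := fun a b => by
    apply Int.cast_injective (α := ℤ); rw [nn_cast, nn_cast]; simp
  rw [hfl, hfl] at e2
  have hn : nn P i j ≠ 0 := fun e => h ((orth_iff P).mpr e)
  have hn' : nn P j i ≠ 0 := fun e => hn (nn_eq_zero_symm P e)
  refine mul_left_cancel₀ (mul_ne_zero hn hn') ?_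
  linear_combination (-(nn P i j * bz P.flip i i)) * e1 - (nn P i j * bz P j j) * e2

end Groth.Agent.S5487
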