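import Groth.Statements.S5489
import Groth.Agent.RootData.Facts

set_option autoImplicit false
open RootD

namespace Groth.Agent.S5489

open Groth.Agent.RootData

/-- If a root α, distinct from roots α_1, ..., α_n, is a non-negative rational combination of them, then
some α_l with non-zero coefficient has (α^v, α_l) > 0 and α - α_l a root. -/
theorem result {ι M N : Type*} [AddCommGroup M] [AddCommGroup N]
    (P : RootPairing ι ℤ M N) [Finite ι] {n : ℕ} (a : Fin n → ι) (m : Fin n → ℕ)
    (k : ι) (hne : ∀ l, a l ≠ k) (c : ℕ) (hc : 0 < c) (hk : c • P.root k = ∑ l, m l • P.root (a l)) :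
    ∃ l : Fin n, m l ≠ 0 ∧ 0 < P.pairing (a l) k ∧ P.root k - P.root (a l) ∈ Set.range P.root := by
  classical
  have := Fintype.ofFinite ι
  by_contra hcon
  push Not at hcon
  have h2 : (c : ℤ) * 2 = ∑ l, (m l : ℤ) * nn P (a l) k := by
    have h := congrArg (P.coroot' k) hk
    simp only [map_nsmul, map_sum, P.root_coroot'_eq_pairing, nsmul_eq_mul, P.pairing_same] at h
    rw [h]
    simp [← nn_cast P]
  have : ∑ l, (m l : ℤ) * nn P (a l) k ≤ 0 := by
    refine Finset.sum_nonpos fun l _ => ?_
    by_cases hm : m l = 0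
    · simp [hm]
    refine mul_nonpos_of_nonneg_of_nonpos (Int.natCast_nonneg _) (not_lt.mp fun hp => ?_)
    obtain ⟨j, hj⟩ := exists_sub P ((nn_pos_comm P).mp hp) (Ne.symm (hne l))
    exact hcon l hm (by rw [← nn_cast P, Int.cast_id]; exact hp) ⟨j, hj⟩
  omega

end Groth.Agent.S5489
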