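import Groth.Statements.S5491
import Groth.Agent.RootData.Lengths

set_option autoImplicit false
open RootD

namespace Groth.Agent.S5491

open Groth.Agent.RootData

open Classical in
/-- With ρ^v the half-sum of the positive coroots, the order (height) of any root α relative to the
simple system equals (ρ^v, α); equivalently 2·height(α) = Σ_{β > 0} (β^v, α). -/
theorem result {ι M N : Type*} [AddCommGroup M] [AddCommGroup N]
    (P : RootPairing ι ℤ M N) [Finite ι] [Fintype ι] [P.IsReduced] (b : P.Base) (i : ι) :
    2 * b.height i = ∑ j, if b.IsPos j then P.pairing i j else 0 := by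
  classical
  have h := Simple.of_base b
  have hind : ∀ i, IsIndiv P i := isIndiv_of_reduced
  have hsimp : ∀ a ∈ b.support, ∑ j ∈ Finset.univ.filter (fun k => k ∈ posOf P (b.support : Set ι)), nn P a j = 2 := by
    intro a ha
    set s := Finset.univ.filter (fun k => k ∈ posOf P (b.support : Set ι) ∧ k ≠ a)
    have hs := h.sum_pos_refl hind ha (fun k => nn P a k)
    have hneg : ∀ k, nn P a (P.reflectionPerm a k) = - nn P a k := by
      intro k
      have := nn_smul (RootPairing.Equiv.reflection P a) (P.reflectionPerm a a) k
      rw [refl_smul_idx, refl_smul_idx, P.reflectionPerm_self, nn_neg_left] at this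
      exact this
    simp only [hneg, Finset.sum_neg_distrib] at hs
    have : Finset.univ.filter (fun k => k ∈ posOf P (b.support : Set ι)) = insert a s := by
      ext k
      simp only [Finset.mem_filter, Finset.mem_univ, true_and, Finset.mem_insert, s]
      exact ⟨fun hk => (_root_.em (k = a)).imp_right fun hne => ⟨hk, hne⟩,
        fun hk => hk.elim (fun e => e ▸ h.subset_posOf ha) And.left⟩
    rw [this, Finset.sum_insert (by simp [s]), nn_self]
    simp only [s] at *
    omega
  have e : (∑ j, if b.IsPos j then P.pairing i j else 0) =
      ∑ j ∈ Finset.univ.filter (fun k => k ∈ posOf P (b.support : Set ι)), nn P i j := by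
    rw [Finset.sum_filter]
    refine Finset.sum_congr rfl fun j _ => ?_
    simp only [base_isPos_iff, ← nn_cast P i j, Int.cast_id]
  rw [e, base_height, Simple.ht, Finset.mul_sum]
  simp_rw [h.nn_eq i]
  rw [Finset.sum_comm]
  refine Finset.sum_congr rfl fun a _ => ?_
  rw [← Finset.mul_sum]
  by_cases ha : a ∈ b.support
  · rw [hsimp a ha, mul_comm]
  · rw [h.co_supp (by simpa using ha)]; ring

end Groth.Agent.S5491
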