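import Groth.Statements.S5493
import Groth.Agent.RootData.Iso

set_option autoImplicit false
open RootD

namespace Groth.Agent.S5493

open Groth.Agent.RootData

/-- Adjoint case; the simply connected case is dual: two reduced adjoint root data with systems of
simple roots Δ, Δ' and a bijection u : Δ → Δ' respecting the Cartan matrices are isomorphic through
a unique isomorphism inducing u on Δ. -/
theorem result {ι M N ι' M' N' : Type*} [AddCommGroup M] [AddCommGroup N] [AddCommGroup M'] [AddCommGroup N']
    (P : RootPairing ι ℤ M N) (P' : RootPairing ι' ℤ M' N') [Finite ι] [Finite ι'] [P.IsReduced] [P'.IsReduced]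
    (had : Submodule.span ℤ (Set.range P.root) = ⊤) (had' : Submodule.span ℤ (Set.range P'.root) = ⊤)
    (b : P.Base) (b' : P'.Base) (u : ↥b.support ≃ ↥b'.support)
    (hu : ∀ i j : ↥b.support, P.pairing (i : ι) (j : ι) = P'.pairing (u i : ι') (u j : ι')) :
    ∃! e : RootPairing.Equiv P P', ∀ i : ↥b.support, e.indexEquiv (i : ι) = (u i : ι') := by
  classical
  have := torsionFreeM P
  have hspan := span_support_eq_top had b
  have hspan' := span_support_eq_top had' b'
  let bM : Module.Basis ↥b.support ℤ M := Module.Basis.mk (v := fun i : ↥b.support => P.root i)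
    b.linearIndepOn_root (by rw [← hspan, Set.image_eq_range]; exact le_rfl)
  let bM' : Module.Basis ↥b'.support ℤ M' := Module.Basis.mk (v := fun i : ↥b'.support => P'.root i)
    b'.linearIndepOn_root (by rw [← hspan', Set.image_eq_range]; exact le_rfl)
  let f : M ≃ₗ[ℤ] M' := bM.equiv bM' u
  have hbM : ∀ i, bM i = P.root (i : ι) := fun i => Module.Basis.mk_apply ..
  have hbM' : ∀ i, bM' i = P'.root (i : ι') := fun i => Module.Basis.mk_apply ..
  have hf : ∀ i : ↥b.support, f (P.root i) = P'.root (u i : ι') := fun i => by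
    rw [← hbM, Module.Basis.equiv_apply, hbM']
  have hfs : ∀ i : ↥b'.support, f.symm (P'.root i) = P.root (u.symm i : ι) := fun i =>
    f.injective (by rw [f.apply_symm_apply, hf, u.apply_symm_apply])
  have hfwd : ∀ k, ∃ k', f (P.root k) = P'.root k' := fun k => by
    have : Nonempty ι := ⟨k⟩
    obtain ⟨a₀, ha₀⟩ := b.support_nonempty
    let φ : ι → ι' := fun a => if h : a ∈ b.support then (u ⟨a, h⟩ : ι') else (u ⟨a₀, ha₀⟩ : ι')
    exact exists_map_root b had f.toLinearMap φ (fun a ha => by simp only [φ, dif_pos ha]; exact hf ⟨a, ha⟩)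
      (fun a ha c hc => by simp only [φ, dif_pos ha, dif_pos hc]; exact (hu ⟨c, hc⟩ ⟨a, ha⟩).symm) k
  have hbwd : ∀ k', ∃ k, f.symm (P'.root k') = P.root k := fun k' => by
    have : Nonempty ι' := ⟨k'⟩
    obtain ⟨a₀, ha₀⟩ := b'.support_nonempty
    let ψ : ι' → ι := fun a => if h : a ∈ b'.support then (u.symm ⟨a, h⟩ : ι) else (u.symm ⟨a₀, ha₀⟩ : ι)
    exact exists_map_root b' had' f.symm.toLinearMap ψ (fun a ha => by simp only [ψ, dif_pos ha]; exact hfs ⟨a, ha⟩)
      (fun a ha c hc => by
        simp only [ψ, dif_pos ha, dif_pos hc]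
        rw [hu, u.apply_symm_apply, u.apply_symm_apply]) k'
  choose e₁ he₁ using hfwd
  choose e₂ he₂ using hbwd
  let e : ι ≃ ι' :=
    { toFun := e₁
      invFun := e₂
      left_inv := fun k => P.root.injective (by rw [← he₂, ← he₁, f.symm_apply_apply])
      right_inv := fun k => P'.root.injective (by rw [← he₁, ← he₂, f.apply_symm_apply]) }
  have hco : ∀ k (x : M), P'.coroot' (e k) (f x) = P.coroot' k x := by
    intro k x
    have h := Module.Dual.eq_of_preReflection_mapsTo' (Φ := Set.range P.root) (x := P.root k)
      (f := (P'.coroot' (e k)).comp f.toLinearMap) (g := P.coroot' k) (Set.finite_range _)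
      (Submodule.subset_span (Set.mem_range_self k))
      (by show P'.coroot' (e k) (f (P.root k)) = 2; rw [he₁]; exact P'.root_coroot_two (e k)) ?_
      (P.root_coroot_two k) (P.mapsTo_reflection_root k)
    · exact LinearMap.congr_fun h ⟨x, by rw [had]; trivial⟩
    · rintro _ ⟨j, rfl⟩
      refine ⟨e₂ (P'.reflectionPerm (e k) (e j)), f.injective ?_⟩
      rw [he₁, show e₁ (e₂ (P'.reflectionPerm (e k) (e j))) = P'.reflectionPerm (e k) (e j) from e.apply_symm_apply _,
        Module.preReflection_apply, map_sub, map_smul, P'.root_reflectionPerm, P'.reflection_apply_root]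
      show P'.root (e₁ j) - P'.pairing (e₁ j) (e₁ k) • P'.root (e₁ k) =
        f (P.root j) - P'.coroot' (e₁ k) (f (P.root j)) • f (P.root k)
      rw [he₁, he₁]; rfl
  let g : N' ≃ₗ[ℤ] N := P'.flip.toPerfPair.trans (f.dualMap.trans P.flip.toPerfPair.symm)
  let E : RootPairing.Equiv P P' :=
    { weightMap := f
      coweightMap := g
      indexEquiv := e
      weight_coweight_transpose := by ext n x; simp [g]
      root_weightMap := funext fun i => he₁ i
      coroot_coweightMap := funext fun l => by
        apply P.flip.toPerfPair.injective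
        show P.flip.toPerfPair (g (P'.coroot l)) = P.flip.toPerfPair (P.coroot (e.symm l))
        simp only [g, LinearEquiv.trans_apply, LinearEquiv.apply_symm_apply]
        ext x
        have := hco (e.symm l) x
        rw [e.apply_symm_apply] at this
        exact this
      bijective_weightMap := f.bijective
      bijective_coweightMap := g.bijective }
  have hE : ∀ i : ↥b.support, E.indexEquiv (i : ι) = (u i : ι') := fun i => by
    show e₁ i = _
    apply P'.root.injective
    rw [← he₁, hf]
  refine ⟨E, hE, fun E' hE' => ?_⟩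
  have hw : E'.weightMap = E.weightMap := by
    refine LinearMap.ext_on hspan ?_
    rintro _ ⟨a, ha, rfl⟩
    rw [RootPairing.Hom.root_weightMap_apply, RootPairing.Hom.root_weightMap_apply, hE' ⟨a, ha⟩, hE ⟨a, ha⟩]
  refine RootPairing.Equiv.ext hw ?_ ?_
  · ext y
    apply P.flip.toPerfPair.injective
    rw [← RootPairing.Hom.weight_coweight_transpose_apply P P' y E'.toHom,
      ← RootPairing.Hom.weight_coweight_transpose_apply P P' y E.toHom, hw]
  · ext k
    apply P'.root.injective
    rw [← RootPairing.Hom.root_weightMap_apply, ← RootPairing.Hom.root_weightMap_apply, hw]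

end Groth.Agent.S5493
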