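import Groth.Statements.S5494
import Groth.Agent.RootData.Orth

set_option autoImplicit false
open RootD

namespace Groth.Agent.S5494

open Groth.Agent.RootData

/-- If a system of simple roots has no partition into two non-empty orthogonal subsets, then any two
roots are linked by a chain of roots with consecutive members non-orthogonal. -/
theorem result {ι M N : Type*} [AddCommGroup M] [AddCommGroup N]
    (P : RootPairing ι ℤ M N) [Finite ι] (Δ : Set ι) (hΔ : RootD.IsSimpleSys P Δ)
    (hconn : ∀ Δ' : Set ι, Δ' ⊆ Δ → (∀ i ∈ Δ', ∀ j ∈ Δ \ Δ', P.IsOrthogonal i j) → Δ' = ∅ ∨ Δ' = Δ)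
    (i j : ι) : Relation.ReflTransGen (fun a b : ι => ¬ P.IsOrthogonal a b) i j := by
  have := Fintype.ofFinite ι
  have h := Simple.of_isSimpleSys hΔ
  obtain ⟨a, ha, hia⟩ := h.adj_simple i
  obtain ⟨b, hb, hjb⟩ := h.adj_simple j
  have hab : Relation.ReflTransGen (Adj P) a b := by
    rcases hconn {x ∈ Δ | Relation.ReflTransGen (Adj P) a x} (fun x hx => hx.1)
      (fun x hx y hy => by_contra fun hn => hy.2 ⟨hy.1, hx.2.tail hn⟩) with h0 | h0
    · exact absurd (h0.subset ⟨ha, .refl⟩) (Set.notMem_empty a)
    · exact (h0.symm.subset hb).2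
  exact ((Relation.ReflTransGen.single hia).trans hab).trans (.single (adj_symm hjb))

end Groth.Agent.S5494
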