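import Groth.Statements.S5495
import Groth.Agent.RootData.Lengths

set_option autoImplicit false
open RootD

namespace Groth.Agent.S5495

open Groth.Agent.RootData

/-- If α is an indivisible root and kα is a root for a rational k, then k is an integer. -/
theorem result {ι M N : Type*} [AddCommGroup M] [AddCommGroup N]
    (P : RootPairing ι ℤ M N) [Finite ι] (i j : ι) (hind : RootD.IsIndiv P i) (a b : ℤ) (hb : b ≠ 0)
    (h : b • P.root j = a • P.root i) : b ∣ a := by
  have := Fintype.ofFinite ι
  rcases proportional_cases P hb h.symm with e | e | e | e | e | e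
  · exact ⟨1, by rw [mul_one]; exact zsmul_root_inj (i := i) (h.symm.trans (by rw [e]))⟩
  · exact ⟨-1, by rw [mul_neg_one]; exact zsmul_root_inj (i := i) (h.symm.trans (by rw [e, smul_neg, neg_smul]))⟩
  · exact ⟨2, zsmul_root_inj (i := i) (h.symm.trans (by rw [e, smul_smul]))⟩
  · exact ⟨-2, zsmul_root_inj (i := i) (h.symm.trans (by rw [e, smul_smul]))⟩
  · exact absurd e.symm (hind j)
  · exact absurd (by rw [root_neg, e, smul_neg, neg_smul]) (hind (P.reflectionPerm j j))

end Groth.Agent.S5495
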