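import Groth.Statements.S5496
import Groth.Agent.RootData.Lengths

set_option autoImplicit false
open RootPairing
open scoped Pointwise
open RootD

namespace Groth.Agent.S5496

open Groth.Agent.RootData

/-- For non-proportional roots α, β let n be the least integer n > 0 with (s_α s_β)^n(α) = α and (s_α
s_β)^n(β) = β. Then the subgroup W_{α,β} generated by s_α and s_β is presented by s_α² = s_β² = (s_α
s_β)^n = 1; equivalently it has exactly 2n elements. -/
theorem result {ι M N : Type*} [AddCommGroup M] [AddCommGroup N]
    (P : RootPairing ι ℤ M N) [Finite ι] (i j : ι) (hli : LinearIndependent ℤ ![P.root i, P.root j])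
    (n : ℕ) (hn : IsLeast {m : ℕ | 0 < m ∧ ((Equiv.reflection P i * Equiv.reflection P j) ^ m) • i = i ∧
      ((Equiv.reflection P i * Equiv.reflection P j) ^ m) • j = j} n) :
    Nat.card (Subgroup.closure ({Equiv.reflection P i, Equiv.reflection P j} : Set P.Aut)) = 2 * n := by
  classical
  have := Fintype.ofFinite ι
  set si := RootPairing.Equiv.reflection P i
  set sj := RootPairing.Equiv.reflection P j
  set K : Subgroup P.Aut := Subgroup.closure {si, sj}
  set r := si * sj
  have hsiK : si ∈ K := Subgroup.subset_closure (.inl rfl)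
  have hsjK : sj ∈ K := Subgroup.subset_closure (.inr rfl)
  have hKW : K ≤ P.weylGroup := (Subgroup.closure_le _).mpr (by rintro x (rfl | rfl) <;> exact P.reflection_mem_weylGroup _)
  set V := Submodule.span ℤ ({P.root i, P.root j} : Set M)
  have hmove : ∀ g ∈ K, ∀ x : M, g • x - x ∈ V := by
    intro g hg
    induction hg using Subgroup.closure_induction with
    | mem y hy =>
      intro x
      have : ∀ a, P.root a ∈ V → RootPairing.Equiv.reflection P a • x - x ∈ V := by
        intro a ha
        rw [RootPairing.Equiv.reflection_smul, P.reflection_apply, sub_sub_cancel_left]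
        exact neg_mem (Submodule.smul_mem _ _ ha)
      rcases hy with rfl | rfl
      · exact this i (Submodule.subset_span (.inl rfl))
      · exact this j (Submodule.subset_span (.inr rfl))
    | one => intro x; simp
    | mul y z _ _ hy hz =>
      intro x
      rw [mul_smul, show y • z • x - x = (y • z • x - z • x) + (z • x - x) by abel]
      exact add_mem (hy _) (hz _)
    | inv y _ hy =>
      intro x
      have := hy (y⁻¹ • x)
      rw [smul_inv_smul] at this
      rw [← neg_sub]; exact neg_mem this
  have hfix : ∀ g ∈ K, g • i = i → g • j = j → g = 1 := by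
    intro g hg hgi hgj
    have hV : ∀ v ∈ V, g • v = v := by
      intro v hv
      obtain ⟨a, b, rfl⟩ := Submodule.mem_span_pair.mp hv
      rw [smul_add, ← smul_comm a g, ← smul_comm b g, ← smul_root, ← smul_root, hgi, hgj]
    refine aut_ext fun x => ?_
    have hpow : ∀ N : ℕ, g ^ N • x = x + N • (g • x - x) := by
      intro N
      induction N with
      | zero => simp
      | succ N ih =>
        rw [pow_succ', mul_smul, ih, smul_add, smul_comm g N, hV _ (hmove g hg x), add_smul, one_smul]
        abel
    have : Finite P.weylGroup := Finite.of_injective _ weylGroupToPerm_inj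
    have hfo : IsOfFinOrder g := by
      have := (isOfFinOrder_of_finite (⟨g, hKW hg⟩ : P.weylGroup))
      exact MonoidHom.isOfFinOrder P.weylGroup.subtype this
    have h0 := hpow (orderOf g)
    rw [pow_orderOf_eq_one, one_smul, left_eq_add] at h0
    have hz : ((orderOf g : ℕ) : ℤ) • (g • x - x) = 0 := by rw [natCast_zsmul]; exact h0
    have := torsionFreeM P
    have hn0 : ((orderOf g : ℕ) : ℤ) ≠ 0 := by exact_mod_cast hfo.orderOf_pos.ne'
    rw [one_smul, ← sub_eq_zero]
    exact (smul_eq_zero.mp hz).resolve_left hn0
  have hrK : r ∈ K := mul_mem hsiK hsjK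
  have hord : orderOf r = n := by
    refine (orderOf_eq_iff hn.1.1).mpr ⟨hfix _ (pow_mem hrK n) hn.1.2.1 hn.1.2.2, fun m hm hm0 he => ?_⟩
    exact absurd (hn.2 ⟨hm0, by rw [he, one_smul], by rw [he, one_smul]⟩) (by omega)
  have hsi : si * si = 1 := refl_mul_self i
  have hsj : sj * sj = 1 := refl_mul_self j
  have hsi' : si⁻¹ = si := inv_eq_of_mul_eq_one_left hsi
  have hsj' : sj⁻¹ = sj := inv_eq_of_mul_eq_one_left hsj
  have hinv : si * r * si = r⁻¹ := by
    simp only [r, mul_inv_rev, hsi', hsj', ← mul_assoc, hsi, one_mul]
  have hni : si ≠ 1 := by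
    intro e
    have := congrArg (fun g : P.Aut => g • i) e
    simp only [one_smul] at this
    exact absurd (this.symm.trans (refl_smul_idx i i)) (by
      intro e'
      have := congrArg P.root e'
      rw [root_neg, eq_neg_iff_add_eq_zero, ← two_smul ℤ] at this
      exact P.ne_zero i (zsmul_cancelM P two_ne_zero (this.trans (smul_zero _).symm)))
  have hnotmem : si ∉ Subgroup.zpowers r := by
    intro hmem
    obtain ⟨k, hk⟩ := Subgroup.mem_zpowers_iff.mp hmem
    have hcomm : si * sj = sj * si := by
      have h1 : si * r = r * si := by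
        rw [← hk]; exact ((Commute.refl r).zpow_left k).eq
      have h2 := hinv
      rw [h1, mul_assoc, hsi, mul_one] at h2
      calc si * sj = r := rfl
        _ = r⁻¹ := h2
        _ = sj * si := by rw [mul_inv_rev, hsi', hsj']
    have hr2 : r ^ (2 : ℤ) = 1 := by
      rw [zpow_two]
      show si * sj * (si * sj) = 1
      nth_rw 1 [hcomm]
      rw [mul_assoc, ← mul_assoc si, hsi, one_mul, hsj]
    obtain ⟨m, hm⟩ | ⟨m, hm⟩ := Int.even_or_odd k
    · refine hni ?_
      rw [← hk, hm, ← two_mul, zpow_mul, hr2, one_zpow]
    · have : si = r := by rw [← hk, hm, zpow_add, zpow_mul, hr2, one_zpow, one_mul, zpow_one]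
      have hj1 : sj = 1 := mul_left_cancel (a := si) (this.symm.trans (mul_one si).symm)
      have := congrArg (fun g : P.Aut => g • j) hj1
      simp only [one_smul] at this
      have h2 := congrArg P.root ((refl_smul_idx j j).symm.trans this)
      rw [root_neg, neg_eq_iff_add_eq_zero, ← two_smul ℤ] at h2
      exact P.ne_zero j (zsmul_cancelM P two_ne_zero (h2.trans (smul_zero _).symm))
  set H := Subgroup.zpowers r
  have hHK : H ≤ K := Subgroup.zpowers_le.mpr hrK
  have hHsi : ∀ x ∈ H, si * x * si ∈ H := by
    rintro _ ⟨k, rfl⟩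
    refine ⟨-k, ?_⟩
    have : si * r ^ k * si⁻¹ = (si * r * si⁻¹) ^ k := (conj_zpow).symm
    rw [hsi', hinv] at this
    rw [this]; simp
  let D : Subgroup P.Aut :=
    { carrier := {x | x ∈ H ∨ x * si ∈ H}
      one_mem' := .inl H.one_mem
      mul_mem' := by
        rintro x y (hx | hx) (hy | hy)
        · exact .inl (mul_mem hx hy)
        · exact .inr (by rw [mul_assoc]; exact mul_mem hx hy)
        · refine .inr ?_
          rw [show x * y * si = (x * si) * (si * y * si) by simp only [← mul_assoc, mul_assoc x si si, hsi, mul_one]]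
          exact mul_mem hx (hHsi y hy)
        · refine .inl ?_
          rw [show x * y = (x * si) * (si * (y * si) * si) by simp only [← mul_assoc, mul_assoc x si si, hsi, mul_one]; simp only [mul_assoc, hsi, mul_one]]
          exact mul_mem hx (hHsi _ hy)
      inv_mem' := by
        rintro x (hx | hx)
        · exact .inl (inv_mem hx)
        · refine .inr ?_
          have := hHsi _ (inv_mem hx)
          rwa [mul_inv_rev, hsi', ← mul_assoc si si, hsi, one_mul] at this }
  have hK : ∀ x ∈ K, x ∈ H ∨ x * si ∈ H := by
    intro x hx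
    have : K ≤ D := by
      refine (Subgroup.closure_le _).mpr ?_
      rintro x (rfl | rfl)
      · exact .inr (by rw [hsi]; exact H.one_mem)
      · refine .inr ?_
        have : sj * si = r⁻¹ := by rw [mul_inv_rev, hsi', hsj']
        rw [this]; exact inv_mem (Subgroup.mem_zpowers r)
    exact this hx
  have hidx : (H.subgroupOf K).index = 2 := by
    refine Subgroup.index_eq_two_iff.mpr ⟨⟨si, hsiK⟩, fun b => ?_⟩
    simp only [Subgroup.mem_subgroupOf, Subgroup.coe_mul]
    rcases hK b.1 b.2 with hb | hb
    · exact .inr ⟨hb, fun hh => hnotmem (by have := mul_mem (inv_mem hb) hh; rwa [inv_mul_cancel_left] at this)⟩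
    · exact .inl ⟨hb, fun hh => hnotmem (by have := mul_mem (inv_mem hh) hb; rwa [inv_mul_cancel_left] at this)⟩
  have := (H.subgroupOf K).index_mul_card
  rw [hidx, Nat.card_congr (Subgroup.subgroupOfEquivOfLe hHK).toEquiv, Nat.card_zpowers, hord] at this
  exact this.symm

end Groth.Agent.S5496
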