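import Groth.Statements.S5499
import Groth.Agent.RootData.Lengths
import Groth.Agent.S5465

set_option autoImplicit false
open RootD

namespace Groth.Agent.S5499

open Groth.Agent.RootData

/-- For an irreducible datum, where long(α) = ℓ(α)/ℓ(α₀) with ℓ(α₀) minimal: there is a unique
homomorphism u : Γ_0(R) → M^v with u(α) = long(α) α^v for every root α. -/
theorem result {ι M N : Type*} [AddCommGroup M] [AddCommGroup N]
    (P : RootPairing ι ℤ M N) [Finite ι] [Fintype ι]
    (hirr : ∀ R' : Set ι, RootD.IsClosedSub P R' → RootD.IsSymmSub P R' → RootD.IsClosedSub P R'ᶜ →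
      RootD.IsSymmSub P R'ᶜ → R' = ∅ ∨ R' = Set.univ)
    (i₀ : ι) (hmin : ∀ i : ι, P.RootForm (P.root i₀) (P.root i₀) ≤ P.RootForm (P.root i) (P.root i)) :
    ∃! u : Submodule.span ℤ (Set.range P.root) →+ N, ∀ i : ι,
      u ⟨P.root i, Submodule.subset_span (Set.mem_range_self i)⟩ =
        (P.RootForm (P.root i) (P.root i) / P.RootForm (P.root i₀) (P.root i₀)) • P.coroot i := by
  classical
  simp only [bz_eq_rootForm] at hmin ⊢
  have hdvd : ∀ i, bz P i₀ i₀ ∣ bz P i i := by
    intro i
    obtain ⟨g, -, hadj⟩ := Irr.exists_conj_adj (P := P) hirr i i₀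
    rw [← bz_smul g i i]
    have h := bz_swap (P := P) (g • i) i₀
    have hz : nn P (g • i) i₀ ≠ 0 := fun e => hadj ((orth_iff P).mpr e)
    have h4 : nn P (g • i) i₀ * nn P i₀ (g • i) ≤ 4 := P.coxeterWeightIn_le_four ℤ (g • i) i₀
    have hle := hmin (g • i)
    have h0 := bz_self_pos P i₀
    generalize hp : nn P (g • i) i₀ = p at h hz h4
    generalize hq : nn P i₀ (g • i) = q at h h4
    generalize hL : bz P (g • i) (g • i) = L at h hle
    generalize hL0 : bz P i₀ i₀ = L0 at h hle h0
    have hL1 : 0 < L := by omega
    have hpq : 0 < p * q := by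
      have hp2 : 0 < p * p := mul_self_pos.mpr hz
      rcases le_or_gt (p * q) 0 with hle' | hlt
      · have e : p * p * L0 = p * q * L := by rw [mul_assoc, h]; ring
        have := mul_pos hp2 h0
        have := mul_nonpos_of_nonpos_of_nonneg hle' hL1.le
        omega
      · exact hlt
    rcases lt_or_gt_of_ne hz with hneg | hpos
    · have hq' : q < 0 := by nlinarith
      rcases eq_or_lt_of_le (show q ≤ -1 by omega) with e | e
      · exact ⟨-p, by subst e; linarith⟩
      · have : p ≥ -2 := by nlinarith
        have : p ≠ -1 := by intro e'; subst e'; nlinarith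
        have hp2 : p = -2 := by omega
        subst hp2
        have : q = -2 := by omega
        subst this; exact ⟨1, by linarith⟩
    · have hq' : 0 < q := by nlinarith
      rcases eq_or_lt_of_le (show 1 ≤ q by omega) with e | e
      · exact ⟨p, by subst e; linarith⟩
      · have : p ≤ 2 := by nlinarith
        have : p ≠ 1 := by intro e'; subst e'; nlinarith
        have hp2 : p = 2 := by omega
        subst hp2
        have : q = 2 := by omega
        subst this; exact ⟨1, by linarith⟩
  have h0 := bz_self_pos P i₀
  have := torsionFreeN P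
  have hmul : ∀ x, bz P i₀ i₀ • ((bz P x x / bz P i₀ i₀) • P.coroot x) = bz P x x • P.coroot x := by
    intro x; rw [smul_smul, mul_comm, Int.ediv_mul_cancel (hdvd x)]
  refine Groth.Agent.S5465.result P (fun x => (bz P x x / bz P i₀ i₀) • P.coroot x) (fun x => ?_) ?_
  · have e : bz P (P.reflectionPerm x x) (P.reflectionPerm x x) = bz P x x := by
      rw [← refl_smul_idx, bz_smul]
    have e' : P.coroot (P.reflectionPerm x x) = -P.coroot x := root_neg P.flip x
    simp only [e, e', smul_neg]
  · intro a b c hc
    refine zsmul_cancelM P.flip h0.ne' ?_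
    rw [smul_add, hmul, hmul, hmul]
    simp only [← bz_eq_rootForm, P.rootForm_self_smul_coroot]
    rw [hc, map_add, smul_add]

end Groth.Agent.S5499
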