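import Groth.Statements.S5500
import Groth.Agent.RootData.Lengths

set_option autoImplicit false
open RootD

namespace Groth.Agent.S5500

open Groth.Agent.RootData

/-- For a p-morphism between irreducible reduced root data there is a rational constant k with k ·
long(u(α)) = q(α)² · long(α) for every root α; stated as the proportionality q(α)² ℓ(α) ℓ'(u β) =
q(β)² ℓ(β) ℓ'(u α) of the canonical quadratic forms. -/
theorem result {ι M N ι' M' N' : Type*} [AddCommGroup M] [AddCommGroup N] [AddCommGroup M'] [AddCommGroup N']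
    (P : RootPairing ι ℤ M N) (P' : RootPairing ι' ℤ M' N') [Finite ι] [Finite ι'] [Fintype ι] [Fintype ι'] [P.IsReduced] [P'.IsReduced]
    (hirr : ∀ R₁ : Set ι, RootD.IsClosedSub P R₁ → RootD.IsSymmSub P R₁ → RootD.IsClosedSub P R₁ᶜ →
      RootD.IsSymmSub P R₁ᶜ → R₁ = ∅ ∨ R₁ = Set.univ)
    (hirr' : ∀ R₁ : Set ι', RootD.IsClosedSub P' R₁ → RootD.IsSymmSub P' R₁ → RootD.IsClosedSub P' R₁ᶜ →
      RootD.IsSymmSub P' R₁ᶜ → R₁ = ∅ ∨ R₁ = Set.univ)
    (p : ℕ) (hp : 0 < p) (f : M' →ₗ[ℤ] M) (g : N →ₗ[ℤ] N')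
    (hfg : ∀ (m' : M') (n : N), P.toLinearMap (f m') n = P'.toLinearMap m' (g n))
    (u : ι ≃ ι') (q : ι → ℕ) (hq : ∀ i, ∃ e : ℕ, q i = p ^ e)
    (hroot : ∀ i : ι, f (P'.root (u i)) = (q i : ℤ) • P.root i)
    (hcoroot : ∀ i : ι, g (P.coroot i) = (q i : ℤ) • P'.coroot (u i)) (i j : ι) :
    ((q i : ℤ) ^ 2 * P.RootForm (P.root i) (P.root i)) * P'.RootForm (P'.root (u j)) (P'.root (u j)) =
      ((q j : ℤ) ^ 2 * P.RootForm (P.root j) (P.root j)) * P'.RootForm (P'.root (u i)) (P'.root (u i)) := by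
  have hq0 : ∀ a, (q a : ℤ) ≠ 0 := by
    intro a
    obtain ⟨e, he⟩ := hq a
    rw [he]; push_cast; exact pow_ne_zero _ (by exact_mod_cast hp.ne')
  have hp' : ∀ a b, (q b : ℤ) * nn P' (u a) (u b) = (q a : ℤ) * nn P a b := by
    intro a b
    have h := hfg (P'.root (u a)) (P.coroot b)
    rw [hroot, hcoroot, map_smul, map_smul, LinearMap.smul_apply, smul_eq_mul, smul_eq_mul,
      P.root_coroot_eq_pairing, P'.root_coroot_eq_pairing, ← nn_cast P a b, ← nn_cast P' (u a) (u b),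
      Int.cast_id, Int.cast_id] at h
    exact h.symm
  simp only [bz_eq_rootForm]
  have h := Irr.reach (P := P) hirr i j
  induction h with
  | refl => rfl
  | @tail a b _ hab ih =>
    have hn : nn P a b ≠ 0 := fun e => hab ((orth_iff P).mpr e)
    have e : ((q a : ℤ) ^ 2 * bz P a a) * bz P' (u b) (u b) = ((q b : ℤ) ^ 2 * bz P b b) * bz P' (u a) (u a) := by
      refine mul_left_cancel₀ hn ?_
      have e1 := bz_swap (P := P) a b
      have e2 := bz_swap (P := P') (u a) (u b)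
      linear_combination (-(q a : ℤ) * bz P a a * bz P' (u b) (u b)) * hp' a b +
        ((q b : ℤ) * bz P a a * bz P' (u a) (u a)) * hp' b a +
        ((q a : ℤ) * (q b : ℤ) * bz P a a) * e2 - ((q b : ℤ) ^ 2 * bz P' (u a) (u a)) * e1
    refine mul_left_cancel₀ (mul_ne_zero (mul_ne_zero (pow_ne_zero 2 (hq0 a)) (bz_self_pos P a).ne')
      (bz_self_pos P' (u a)).ne') ?_
    linear_combination (((q a : ℤ) ^ 2 * bz P a a) * bz P' (u b) (u b)) * ih +
      (((q a : ℤ) ^ 2 * bz P a a) * bz P' (u i) (u i)) * e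

end Groth.Agent.S5500
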