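import Groth.Statements.S5501
import Groth.Agent.RootData.Ranks

set_option autoImplicit false
universe u v w
open RootD

namespace Groth.Agent.S5501

open Groth.Agent.RootData

/-- Adjoint case; the simply connected case is dual: a semisimple root datum R is adjoint if and only if
every isogeny R' → R is an isomorphism. -/
theorem result {ι : Type u} {M : Type v} {N : Type w} [AddCommGroup M] [AddCommGroup N]
    (P : RootPairing ι ℤ M N) [Finite ι] [Module.Finite ℤ M] [Module.Finite ℤ N]
    (hss : Module.finrank ℤ (Submodule.span ℤ (Set.range P.root)) = Module.finrank ℤ M) :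
    Submodule.span ℤ (Set.range P.root) = ⊤ ↔
      ∀ (ι' : Type u) (M' N' : Type v) [AddCommGroup M'] [AddCommGroup N'] [Finite ι']
        [Module.Finite ℤ M'] [Module.Finite ℤ N'] (P' : RootPairing ι' ℤ M' N') (f : RootPairing.Hom P' P),
        Function.Injective f.weightMap → Finite (M ⧸ LinearMap.range f.weightMap) →
          Function.Bijective f.weightMap := by
  constructor
  · intro htop ι' M' N' _ _ _ _ _ P' f hinj _
    refine ⟨hinj, LinearMap.range_eq_top.mp (top_le_iff.mp ?_)⟩
    rw [← htop]
    refine Submodule.span_le.mpr ?_
    rintro _ ⟨i, rfl⟩
    exact ⟨P'.root (f.indexEquiv.symm i), by rw [RootPairing.Hom.root_weightMap_apply, Equiv.apply_symm_apply]⟩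
  · intro h
    have := torsionFreeM P
    let L := Submodule.span ℤ (Set.range P.root)
    have : Module.Finite ℤ L := Module.Finite.span_of_finite ℤ (Set.finite_range _)
    have : Module.Free ℤ L := Module.free_of_finite_type_torsion_free'
    let πN : N →ₗ[ℤ] Module.Dual ℤ L := L.subtype.dualMap ∘ₗ P.toLinearMap.flip
    have hinj : Set.InjOn πN (Set.range P.coroot) := P.injOn_dualMap_subtype_span_root_coroot
    let P' : RootPairing ι ℤ L (Module.Dual ℤ L) :=
      { toLinearMap := Module.Dual.eval ℤ L
        root := ⟨fun i => ⟨P.root i, Submodule.subset_span (Set.mem_range_self i)⟩,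
          fun a c hac => P.root.injective (congrArg Subtype.val hac)⟩
        coroot := ⟨fun i => πN (P.coroot i),
          fun a c hac => P.coroot.injective (hinj (Set.mem_range_self a) (Set.mem_range_self c) hac)⟩
        root_coroot_two := fun i => P.root_coroot_two i
        reflectionPerm := P.reflectionPerm
        reflectionPerm_root := fun i j => Subtype.ext (P.reflectionPerm_root i j)
        reflectionPerm_coroot := fun i j => by
          show πN (P.coroot j) - P.toLinearMap (P.root i) (P.coroot j) • πN (P.coroot i) = πN _
          rw [← map_smul, ← map_sub, P.reflectionPerm_coroot] }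
    let f : RootPairing.Hom P' P :=
      { weightMap := L.subtype
        coweightMap := πN
        indexEquiv := Equiv.refl ι
        weight_coweight_transpose := by ext n x; rfl
        root_weightMap := rfl
        coroot_coweightMap := rfl }
    have hfin : Finite (M ⧸ LinearMap.range f.weightMap) := by
      show Finite (M ⧸ LinearMap.range L.subtype)
      rw [Submodule.range_subtype]
      exact finite_quotient_of_finrank L hss
    have hb := h ι L (Module.Dual ℤ L) P' f Subtype.val_injective hfin
    rw [eq_top_iff]
    intro x _
    obtain ⟨y, rfl⟩ := hb.2 x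
    exact y.2

end Groth.Agent.S5501
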