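import Groth.Statements.S5502
import Groth.Agent.RootData.Coroot
import Groth.Agent.S5485

set_option autoImplicit false
open RootD

namespace Groth.Agent.S5502

open Groth.Agent.RootData

/-- If β = Σ_{α ∈ Δ} a_α α along a system of simple roots Δ, then ℓ(β) divides 2 a_α ℓ(α), and 2ℓ(β)
divides it when α^v is indivisible (ℓ the canonical quadratic form). -/
theorem result {ι M N : Type*} [AddCommGroup M] [AddCommGroup N]
    (P : RootPairing ι ℤ M N) [Finite ι] [Fintype ι] (Δ : Set ι) (hΔ : RootD.IsSimpleSys P Δ)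
    (k : ι) (c : ι →₀ ℤ) (hc : ↑c.support ⊆ Δ) (hck : Finsupp.linearCombination ℤ P.root c = P.root k)
    (i : ι) (hi : i ∈ Δ) :
    P.RootForm (P.root k) (P.root k) ∣ 2 * c i * P.RootForm (P.root i) (P.root i) ∧
      (RootD.IsIndiv P.flip i → 2 * P.RootForm (P.root k) (P.root k) ∣ 2 * c i * P.RootForm (P.root i) (P.root i)) := by
  classical
  have h := Simple.of_isSimpleSys hΔ
  simp only [bz_eq_rootForm]
  have hT := Simple.of_isSimpleSys (Groth.Agent.S5485.result P Δ hΔ)
  set E : AddSubgroup N :=
    { carrier := {y | ∃ e : ι → ℤ, (∀ a, a ∉ Δ → e a = 0) ∧ (IsIndiv P.flip i → (2 : ℤ) ∣ e i) ∧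
        (2 : ℤ) • y = ∑ a, e a • P.coroot a}
      zero_mem' := ⟨0, by simp, by simp, by simp⟩
      add_mem' := by
        rintro x y ⟨e, h1, h2, h3⟩ ⟨e', h1', h2', h3'⟩
        exact ⟨e + e', fun a ha => by simp [h1 a ha, h1' a ha], fun hh => dvd_add (h2 hh) (h2' hh),
          by simp [smul_add, h3, h3', add_smul, Finset.sum_add_distrib]⟩
      neg_mem' := by
        rintro x ⟨e, h1, h2, h3⟩
        exact ⟨-e, fun a ha => by simp [h1 a ha], fun hh => (h2 hh).neg_right,
          by simp [h3, Finset.sum_neg_distrib]⟩ }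
  have hle : natSpan P.flip {j : ι | ∃ a ∈ Δ, (j = a ∧ IsIndiv P.flip a) ∨
      (2 : ℤ) • P.coroot j = P.coroot a} ≤ E.toAddSubmonoid := by
    refine AddSubmonoid.closure_le.mpr ?_
    rintro _ ⟨t, ⟨a, ha, ⟨rfl, hia⟩ | e⟩, rfl⟩
    · refine ⟨Pi.single t 2, fun b hb => Pi.single_eq_of_ne (fun e => hb (by rw [e]; exact ha)) _,
        fun _ => ?_, by simp [Pi.single_apply]⟩
      by_cases e : i = t <;> simp [Pi.single_apply, e]
    · refine ⟨Pi.single a 1, fun b hb => Pi.single_eq_of_ne (fun e => hb (by rw [e]; exact ha)) _,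
        fun hia => ?_, by simpa [Pi.single_apply] using e⟩
      have hne : i ≠ a := fun hh => hia t (by rw [hh]; exact e)
      simp [Pi.single_apply, hne]
  obtain ⟨e, h1, h2, h3⟩ : P.coroot k ∈ E := by
    rcases hT.mem k with hk | hk
    · exact hle hk
    · exact neg_mem_iff.mp (hle hk)
  set c' : ι → ℤ := fun a => c a
  have hck' : P.root k = ∑ a, c' a • P.root a := by
    rw [← hck, Finsupp.linearCombination_apply, Finsupp.sum_fintype _ _ (by simp)]
  have key : ∀ x, bz P k k * nn P x k = ∑ a, c' a * bz P a a * nn P x a := by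
    intro x
    calc bz P k k * nn P x k = nn P k x * bz P x x := by linear_combination bz_swap (P := P) x k
      _ = _ := by
        rw [nn_eq_of_root_comb P hck' x, Finset.sum_mul]
        refine Finset.sum_congr rfl fun a _ => ?_
        linear_combination -(c' a) * bz_swap (P := P) x a
  have hli := h.coroot_li
  have hzero : (fun a => bz P k k * e a - 2 * (c' a * bz P a a)) = 0 := by
    have hs : ∀ a, a ∉ Δ → bz P k k * e a - 2 * (c' a * bz P a a) = 0 := by
      intro a ha
      have : c a = 0 := Finsupp.notMem_support_iff.mp fun hh => ha (hc hh)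
      simp [c', h1 a ha, this]
    funext a
    by_cases ha : a ∈ Δ
    · show bz P k k * e a - 2 * (c' a * bz P a a) = 0
      refine linearIndepOn_iff'.mp hli (Finset.univ.filter (· ∈ Δ)) (fun a => bz P k k * e a - 2 * (c' a * bz P a a)) (by simp) ?_ a (by simp [ha])
      rw [Finset.sum_subset (Finset.subset_univ _) (fun b _ hb => by rw [hs b (by simpa using hb), zero_smul])]
      refine coroot_comb_zero fun x => ?_
      have hpe := pair_coroot_comb (P := P) (c := e - Pi.single k 2) (by
        simp [sub_smul, Finset.sum_sub_distrib, ← h3, Pi.single_apply]) x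
      simp [sub_mul, Finset.sum_sub_distrib, Pi.single_apply] at hpe
      simp only [sub_mul, Finset.sum_sub_distrib, mul_assoc, ← Finset.mul_sum]
      simp only [← mul_assoc] at key ⊢
      linear_combination bz P k k * hpe + 2 * key x
    · exact hs a ha
  have hi' := congrFun hzero i
  simp only [Pi.zero_apply, sub_eq_zero] at hi'
  refine ⟨⟨e i, ?_⟩, fun hh => ?_⟩
  · rw [hi']; ring
  · obtain ⟨d, hd⟩ := h2 hh
    refine ⟨d, ?_⟩
    rw [hd] at hi'
    linear_combination -hi'

end Groth.Agent.S5502
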