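import Groth.Statements.S5503
import Groth.Agent.RootData.Facts

set_option autoImplicit false
open RootPairing
open scoped Pointwise
open RootD

namespace Groth.Agent.S5503

open Groth.Agent.RootData

/-- For an automorphism u of a root datum and a root α, u s_α u⁻¹ = s_{u(α)}; hence W(R) is a normal
subgroup of Aut(R). -/
theorem result {ι M N : Type*} [AddCommGroup M] [AddCommGroup N]
    (P : RootPairing ι ℤ M N) [Finite ι] (u : P.Aut) (i : ι) :
    u * Equiv.reflection P i * u⁻¹ = Equiv.reflection P (u • i) := by
  exact conj_refl u i

end Groth.Agent.S5503
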