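import Groth.Statements.S5507
import Groth.Agent.RootData.Lengths

set_option autoImplicit false
open RootD

namespace Groth.Agent.S5507

open Groth.Agent.RootData

/-- For a system of simple roots Δ there are positive integers m_α (the lengths) such that the matrix
(m_α a_{α,β}) with a_{α,β} = (α^v, β) is symmetric and positive definite. -/
theorem result {ι M N : Type*} [AddCommGroup M] [AddCommGroup N]
    (P : RootPairing ι ℤ M N) [Finite ι] (Δ : Finset ι) (hΔ : RootD.IsSimpleSys P (↑Δ : Set ι)) :
    ∃ m : ↥Δ → ℤ, (∀ a, 0 < m a) ∧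
      (Matrix.of fun (a b : ↥Δ) => m a * P.pairing (b : ι) (a : ι)).IsSymm ∧
      (Matrix.of fun (a b : ↥Δ) => m a * P.pairing (b : ι) (a : ι)).PosDef := by
  classical
  have := Fintype.ofFinite ι
  have h := Simple.of_isSimpleSys hΔ
  refine ⟨fun a => bz P a a, fun a => bz_self_pos P a, ?_, ?_⟩
  · ext a b
    simp only [Matrix.transpose_apply, Matrix.of_apply, ← nn_cast, Int.cast_id]
    linear_combination bz_swap (P := P) (a : ι) (b : ι)
  · have hent : ∀ a b : ↥Δ, bz P a a * P.pairing (b : ι) (a : ι) = 2 * bz P (b : ι) (a : ι) := by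
      intro a b; rw [two_bz, ← nn_cast, Int.cast_id]; ring
    have hsym : (Matrix.of fun (a b : ↥Δ) => bz P a a * P.pairing (b : ι) (a : ι)).IsHermitian := by
      ext a b
      simp only [Matrix.conjTranspose_apply, Matrix.of_apply, star_trivial, hent]
      rw [bz_comm]
    refine Matrix.PosDef.of_dotProduct_mulVec_pos hsym fun x hx => ?_
    set c : ι → ℤ := fun a => if ha : a ∈ Δ then x ⟨a, ha⟩ else 0
    have hc : ∀ k, ∑ a, c a * nn P a k = ∑ a : ↥Δ, x a * nn P a k := fun k => by
      rw [← Finset.sum_subset (Finset.subset_univ Δ) (fun a _ ha => by simp [c, ha]), ← Finset.sum_coe_sort Δ]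
      exact Finset.sum_congr rfl fun a _ => by simp [c]
    have hval : star x ⬝ᵥ (Matrix.of fun (a b : ↥Δ) => bz P a a * P.pairing (b : ι) (a : ι)).mulVec x =
        2 * ∑ k, (∑ a : ↥Δ, x a * nn P a k) ^ 2 := by
      simp only [dotProduct, Matrix.mulVec, Matrix.of_apply, hent, star_trivial]
      simp only [bz, sq, Finset.sum_mul, Finset.mul_sum]
      rw [Finset.sum_comm (γ := ι)]
      refine Finset.sum_congr rfl fun a _ => ?_
      rw [Finset.sum_comm (γ := ι)]
      exact Finset.sum_congr rfl fun b _ => Finset.sum_congr rfl fun k _ => by ring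
    rw [hval]
    refine mul_pos two_pos ((Finset.sum_nonneg fun k _ => sq_nonneg _).lt_of_ne' fun e => hx ?_)
    have hz : c = 0 := li_comb_eq_zero h.li (fun a ha => by simp [c, show a ∉ Δ from ha])
      ((comb_zero_iff P c).mpr fun k => by
        rw [hc, ← sq_eq_zero_iff]
        exact (Finset.sum_eq_zero_iff_of_nonneg fun k _ => sq_nonneg _).mp e k (Finset.mem_univ k))
    funext a
    simpa [c] using congrFun hz a

end Groth.Agent.S5507
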