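import Groth.Statements.S5511
import Groth.Agent.RedRank.CentreTori
-- import your own Groth.Agent.* helpers here

set_option autoImplicit false
open CategoryTheory MonoidalCategory CartesianMonoidalCategory MonObj GrpObj AlgebraicGeometry
universe u
open RedSub

namespace Groth.Agent.S5511

/-- The centre of a reductive group is the intersection of its maximal tori, in the functorial sense.
Let G be a reductive S-group and j : Z ⟶ G its centre. For a point g of G with values in X, g
factors through Z if and only if, for every scheme Y over X and every maximal torus T ⟶ G_Y of the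
base change of G to Y, the Y-valued point of G_Y defined by g factors through T. -/
theorem result {S : Scheme.{u}} {G Z : Over S} [GrpObj G] [GrpObj Z]
    (hG : Red.IsReductive G) (j : Z ⟶ G) (hZ : Red.IsCentre j) (X : Over S) (g : X ⟶ G) :
    (∃ z : X ⟶ Z, z ≫ j = g) ↔
      ∀ (Y : Scheme.{u}) (y : Y ⟶ X.left) (T : Over Y) [GrpObj T] (i : T ⟶ Red.bc (y ≫ X.hom) G),
        Red.IsMaximalTorus i →
          ∃ p : Y ⟶ T.left, p ≫ T.hom = 𝟙 Y ∧
            p ≫ i.left ≫ Limits.pullback.fst G.hom (y ≫ X.hom) = y ≫ g.left := by
  set_option backward.isDefEq.respectTransparency.types false in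
  haveI := hG.1; haveI := hG.2.1
  exact RedRank.CentreTori.exists_fac_iff (RedRank.ReductiveRank.isConnected_fibre hG)
    (RedRank.ReductiveRank.unipotentRankZero hG) hZ X g

end Groth.Agent.S5511
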