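import Groth.Statements.S5512
import Groth.Agent.TypeRLib.Trans
-- import your own Groth.Agent.* helpers here

set_option autoImplicit false
open CategoryTheory MonoidalCategory CartesianMonoidalCategory MonObj GrpObj AlgebraicGeometry
universe u
open RedSub

namespace Groth.Agent.S5512

/-- For a reductive S-group G. Let i : H ⟶ G be a subgroup of type (R) and k : K ⟶ H a homomorphism.
Then k is a subgroup of type (R) of H if and only if k ≫ i is a subgroup of type (R) of G. (For H of
type (R) in a reductive G, the Cartan subgroups of the geometric fibres of H are their maximal tori,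
which are maximal tori of the geometric fibres of G, so the prelude's notion of type (R) relative to
H is the source's.) -/
theorem result {S : Scheme.{u}} {G H K : Over S} [GrpObj G] [GrpObj H] [GrpObj K]
    (hG : Red.IsReductive G) (i : H ⟶ G) (hH : RedSub.IsTypeR i) (k : K ⟶ H) [IsMonHom k] :
    RedSub.IsTypeR k ↔ RedSub.IsTypeR (k ≫ i) := by
  haveI : IsAffineHom G.hom := hG.1
  haveI : QuasiSeparated G.hom := inferInstance
  exact TypeRLib.isTypeR_comp_iff i hH k

end Groth.Agent.S5512
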