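import Groth.Statements.S5580
import Groth.Agent.ToposFinLib.Separated

set_option autoImplicit false
set_option backward.isDefEq.respectTransparency false
set_option backward.isDefEq.respectTransparency.types false
open CategoryTheory CategoryTheory.Limits Opposite
universe u
open ToposFin

namespace Groth.Agent.S5580

/-- Quasi-compact and coherent cases: for the topos of sheaves of sets on a small site: let (X_i) be a
finite family of objects with coproduct X (given as a colimit cofan) and f : X -> Y a morphism with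
components f_i : X_i -> Y. Then f is quasi-compact (resp. coherent) if and only if every f_i is. -/
theorem result {C : Type u} [SmallCategory C] {J : GrothendieckTopology C}
    {Y : ToposFin.Sh J} {n : ℕ} (X : Fin n → ToposFin.Sh J) (c : Cofan X) (hc : IsColimit c)
    (f : c.pt ⟶ Y) :
    (ToposFin.IsQCHom f ↔ ∀ i, ToposFin.IsQCHom (c.inj i ≫ f)) ∧
    (ToposFin.IsCohHom f ↔ ∀ i, ToposFin.IsCohHom (c.inj i ≫ f)) := by
  open Groth.Agent.ToposFinLib in
  have hp := exists_partition_reindex X hc
  have h1 : ToposFin.IsQCHom f ↔ ∀ i, ToposFin.IsQCHom (c.inj i ≫ f) :=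
    ⟨fun hf i => isQCHom_comp (hp.isQCHom ⟨i⟩) hf, fun hf =>
      isQCHom_of_finite_cov_source f _ _ hp.cov fun k => hf k.down⟩
  refine ⟨h1, ?_⟩
  have h2 := hp.isQSHom_iff f
  exact ⟨fun hf i => ⟨h1.1 hf.1 i, h2.1 hf.2 ⟨i⟩⟩,
    fun hf => ⟨h1.2 fun i => (hf i).1, h2.2 fun k => (hf k.down).2⟩⟩

end Groth.Agent.S5580
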