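import Groth.Statements.S5583
import Groth.Agent.ToposFinLib.Eps

set_option autoImplicit false
set_option backward.isDefEq.respectTransparency false
set_option backward.isDefEq.respectTransparency.types false
open CategoryTheory CategoryTheory.Limits Opposite
universe u
open ToposFin

namespace Groth.Agent.S5583

/-- Let (C, J) be a small site with fibre products all of whose objects are quasi-compact. In the topos
of sheaves of sets, if G -> F <- H are morphisms between coherent objects and F lies over the sheaf
associated to some object of C, then G x_F H is coherent (so the coherent objects lying over such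
sheaves form a generating family stable under fibre products). -/
theorem result {C : Type u} [SmallCategory C] [HasPullbacks C]
    (J : GrothendieckTopology C) (hC : ∀ X : C, ToposFin.IsQCSite J X)
    {G H F : ToposFin.Sh J} (a : G ⟶ F) (b : H ⟶ F) (hG : ToposFin.IsCoherent G) (hH : ToposFin.IsCoherent H)
    (hF : ToposFin.IsCoherent F) (X : C) (w : F ⟶ ToposFin.eps J X) :
    ToposFin.IsCoherent (pullback a b) := by
  open Groth.Agent.ToposFinLib in
  refine ⟨hF.2 _ _ a b hG.1 hH.1, ?_⟩
  let m : pullback a b ⟶ pullback (a ≫ w) (b ≫ w) :=
    pullback.lift (pullback.fst _ _) (pullback.snd _ _) (by rw [pullback.condition_assoc])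
  haveI : Mono m := ⟨fun x y e => by
    apply pullback.hom_ext
    · simpa [m] using congrArg (· ≫ pullback.fst _ _) e
    · simpa [m] using congrArg (· ≫ pullback.snd _ _) e⟩
  exact isQS_of_isQSHom (isQSHom_of_mono m)
    (isQS_of_isQSHom (isQSHom_pullback_fst (isQSHom_to_eps hC (b ≫ w) hH.2) (a ≫ w)) hG.2)

end Groth.Agent.S5583
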