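import Groth.Statements.S5584
import Groth.Agent.ToposFinLib.Eps

set_option autoImplicit false
set_option backward.isDefEq.respectTransparency false
set_option backward.isDefEq.respectTransparency.types false
open CategoryTheory CategoryTheory.Limits Opposite
universe u
open ToposFin

namespace Groth.Agent.S5584

/-- Let (C, J) be a small site with fibre products all of whose objects are quasi-compact, and X an
object of C with associated sheaf e(X). Then every morphism from a quasi-separated object G to e(X)
is quasi-separated, and for a second quasi-separated object H over e(X) the fibre product G x_{e(X)}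
H is quasi-separated. -/
theorem result {C : Type u} [SmallCategory C] [HasPullbacks C]
    (J : GrothendieckTopology C) (hC : ∀ X : C, ToposFin.IsQCSite J X) (X : C)
    {G H : ToposFin.Sh J} (g : G ⟶ ToposFin.eps J X) (h : H ⟶ ToposFin.eps J X) (hG : ToposFin.IsQS G)
    (hH : ToposFin.IsQS H) :
    ToposFin.IsQSHom g ∧ ToposFin.IsQS (pullback g h) := by
  open Groth.Agent.ToposFinLib in
  exact ⟨isQSHom_to_eps hC g hG,
    isQS_of_isQSHom (isQSHom_pullback_fst (isQSHom_to_eps hC h hH) g) hG⟩

end Groth.Agent.S5584
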