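import Groth.Statements.S5587
import Groth.Agent.ToposFinLib.Algebraic

set_option autoImplicit false
set_option backward.isDefEq.respectTransparency false
set_option backward.isDefEq.respectTransparency.types false
open CategoryTheory CategoryTheory.Limits Opposite
universe u
open ToposFin

namespace Groth.Agent.S5587

/-- For a locally coherent topos of sheaves of sets on a small site (given by a generating set of
quasi-compact objects stable under fibre products): a morphism f : X -> Y is quasi-separated if and
only if for every quasi-separated object Y' over Y the fibre product X x_Y Y' is quasi-separated. -/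
theorem result {C : Type u} [SmallCategory C]
    {J : GrothendieckTopology C} (S : Set (ToposFin.Sh J)) (hqc : ∀ K ∈ S, ToposFin.IsQC K)
    (hgen : ToposFin.IsGenerating S) (hpb : ToposFin.ClosedUnderPullbacks S) {X Y : ToposFin.Sh J} (f : X ⟶ Y) :
    ToposFin.IsQSHom f ↔
      ∀ (Y' : ToposFin.Sh J) (g : Y' ⟶ Y), ToposFin.IsQS Y' → ToposFin.IsQS (pullback f g) := by
  exact Groth.Agent.ToposFinLib.isQSHom_iff_pullback_qs hgen hqc hpb f

end Groth.Agent.S5587
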