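import Groth.Statements.S5588
import Groth.Agent.ToposFinLib.Presentation
import Groth.Agent.ToposFinLib.Algebraic

set_option autoImplicit false
set_option backward.isDefEq.respectTransparency false
set_option backward.isDefEq.respectTransparency.types false
open CategoryTheory CategoryTheory.Limits Opposite
universe u
open ToposFin

namespace Groth.Agent.S5588

/-- (ii) implies (i), for the topos of sheaves of sets on a small site: let S be an isomorphism-closed
generating set of quasi-compact objects, stable under finite colimits and under fibre products. Then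
S is the set of all coherent objects (so the topos is locally coherent), and every object X for
which Hom(X, -) commutes with small filtered colimits is coherent. -/
theorem result {C : Type u} [SmallCategory C]
    {J : GrothendieckTopology C} (S : Set (ToposFin.Sh J)) (hqc : ∀ K ∈ S, ToposFin.IsQC K)
    (hiso : ∀ ⦃K L : ToposFin.Sh J⦄, K ∈ S → Nonempty (K ≅ L) → L ∈ S)
    (hgen : ToposFin.IsGenerating S) (hpb : ToposFin.ClosedUnderPullbacks S)
    (hcolim : ∀ (K : Type) [SmallCategory K] [FinCategory K] (D : K ⥤ ToposFin.Sh J),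
      (∀ k, D.obj k ∈ S) → colimit D ∈ S) :
    (∀ X : ToposFin.Sh J, X ∈ S ↔ ToposFin.IsCoherent X) ∧
    (∀ X : ToposFin.Sh J, ToposFin.IsFP X → ToposFin.IsCoherent X) := by
  open Groth.Agent.ToposFinLib in
  have hmem : ∀ K, K ∈ S → ToposFin.IsCoherent K := fun K hK => isCoherent_of_mem hgen hqc hpb hK
  have hgenS := gen_of_isGenerating hgen
  have hsigma : ∀ {κ : Type u} [Finite κ] (F : κ → ToposFin.Sh J), (∀ k, F k ∈ S) → (∐ F) ∈ S := by
    intro κ _ F hF
    obtain ⟨n, ⟨en⟩⟩ := Finite.exists_equiv_fin κ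
    exact hiso (hcolim (Discrete (Fin n)) (Discrete.functor (F ∘ en.symm)) fun k => hF _)
      ⟨Sigma.whiskerEquiv en.symm fun k => Iso.refl _⟩
  have hcoeq : ∀ (X₀ X₁ : ToposFin.Sh J) (a b : X₁ ⟶ X₀), X₀ ∈ S → X₁ ∈ S → coequalizer a b ∈ S :=
    fun X₀ X₁ a b h₀ h₁ => hcolim WalkingParallelPair (parallelPair a b) fun k => by
      cases k
      · exact h₁
      · exact h₀
  have hcoh : ∀ X : ToposFin.Sh J, ToposFin.IsCoherent X → X ∈ S := by
    intro X hX
    obtain ⟨κ, hκ, K, a, t, hK, hcov⟩ := exists_finite_gen hgenS hX.1 (cov_self.{u} X)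
    let p : (∐ K) ⟶ X := Sigma.desc fun k => t k ≫ 𝟙 X
    haveI : Epi p := epi_desc_iff.2 hcov
    have h₀ : (∐ K) ∈ S := hsigma K hK
    obtain ⟨τ, hτ, M, c, s, hM, hcovM⟩ :=
      exists_finite_gen hgenS (hX.2 _ _ p p (hqc _ h₀) (hqc _ h₀)) (cov_self.{u} (pullback p p))
    haveI : Epi (Sigma.desc fun m => s m ≫ 𝟙 (pullback p p)) := epi_desc_iff.2 hcovM
    exact hiso (hcoeq _ _ _ _ h₀ (hsigma M hM))
      (exists_iso_coequalizer p (Sigma.desc fun m => s m ≫ 𝟙 (pullback p p)))
  refine ⟨fun X => ⟨hmem X, hcoh X⟩, fun X hX => ?_⟩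
  have hE : ToposFin.HasCoherentGenerators J := fun Y => by
    obtain ⟨ι, F, π, hF, hπ⟩ := hgenS Y
    exact ⟨ι, F, π, fun i => hmem _ (hF i), epi_desc_iff.2 hπ⟩
  obtain ⟨X₀, X₁, a, b, i, p, h₀, h₁, hip⟩ := exists_coequalizer_of_isFP hE hX
  exact isCoherent_of_retract i p hip (hmem _ (hcoeq X₀ X₁ a b (hcoh _ h₀) (hcoh _ h₁)))

end Groth.Agent.S5588
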