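import Groth.Statements.S5592
import Groth.Agent.EtFound.SepClosedField

set_option autoImplicit false
open CategoryTheory CategoryTheory.Limits AlgebraicGeometry Opposite
universe u
open EtDesc

namespace Groth.Agent.S5592

/-- Let k' be a separably closed extension field of a separably closed field k and u : Spec k' -> Spec k
the canonical morphism. Then the inverse image functor u^* from etale sheaves of sets on Spec k to
etale sheaves of sets on Spec k' is an equivalence of categories. -/
theorem result (k k' : Type u) [Field k] [IsSepClosed k]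
    [Field k'] [IsSepClosed k'] [Algebra k k'] :
    (EtDesc.pullSh (Spec.map (CommRingCat.ofHom (algebraMap k k')))).IsEquivalence := by
  let f : Spec (CommRingCat.of k') ⟶ Spec (CommRingCat.of k) := Spec.map (CommRingCat.ofHom (algebraMap k k'))
  have h1 := EtFound.sheafFiber_isEquivalence (k := k) (A := Type (u + 1))
  have h2 := EtFound.sheafFiber_isEquivalence (k := k') (A := Type (u + 1))
  let e : (Scheme.pointSmallEtale (𝟙 (Spec (CommRingCat.of k)))).sheafFiber (A := Type (u + 1)) ≅
      EtDesc.pullSh f ⋙ (Scheme.pointSmallEtale (𝟙 (Spec (CommRingCat.of k')))).sheafFiber :=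
    EtFound.stalkExtIso (Type (u + 1)) (𝟙 _) f ≪≫ eqToIso (by rw [Category.comp_id, Category.id_comp]) ≪≫
      (EtFound.sheafFiberPullIso f (𝟙 _)).symm
  have : (EtDesc.pullSh f ⋙ (Scheme.pointSmallEtale (𝟙 (Spec (CommRingCat.of k')))).sheafFiber).IsEquivalence :=
    Functor.isEquivalence_of_iso e
  exact Functor.isEquivalence_of_comp_right _ (Scheme.pointSmallEtale (𝟙 (Spec (CommRingCat.of k')))).sheafFiber

end Groth.Agent.S5592
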