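import Groth.Statements.S5593
import Groth.Agent.EtLC12.Specialization

set_option backward.isDefEq.respectTransparency false
set_option backward.isDefEq.respectTransparency.types false

set_option autoImplicit false
open CategoryTheory CategoryTheory.Limits AlgebraicGeometry Opposite
universe u
open EtDesc

namespace Groth.Agent.S5593

/-- Let X be a scheme, x, x' points of X with strict localisations Spec R -> X and Spec R' -> X (R, R'
strict henselisations of the local rings at x and x'). There is an X-morphism Spec R' -> Spec R,
i.e. the geometric point over x is a specialization of the one over x', if and only if x lies in the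
closure of x'. -/
theorem result (X : Scheme.{u}) (x x' : X)
    (R : Type u) [CommRing R] [IsLocalRing R] [Algebra (X.presheaf.stalk x) R]
    [IsLocalHom (algebraMap (X.presheaf.stalk x) R)] [Hensel.IsStrictHenselization (X.presheaf.stalk x) R]
    (R' : Type u) [CommRing R'] [IsLocalRing R'] [Algebra (X.presheaf.stalk x') R']
    [IsLocalHom (algebraMap (X.presheaf.stalk x') R')] [Hensel.IsStrictHenselization (X.presheaf.stalk x') R'] :
    (∃ g : Spec (CommRingCat.of R') ⟶ Spec (CommRingCat.of R), g ≫ Hens2.specOf X x R = Hens2.specOf X x' R') ↔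
      x' ⤳ x := by
  haveI : HenselianLocalRing R' := Hensel.IsStrictHenselization.henselian (R := X.presheaf.stalk x')
  refine ⟨fun ⟨g, hg⟩ => EtLC12.Specialization.specializes_of_hom X x x' R R'
    (h := Spec.map (CommRingCat.ofHom (IsLocalRing.residue R')) ≫ g)
    ((Category.assoc _ _ _).trans (congrArg (_ ≫ ·) hg)), fun hx => ?_⟩
  letI : Algebra (X.presheaf.stalk x) R' := (EtLC12.Specialization.toR' X x x' R' hx).toAlgebra
  haveI : IsSepClosed (IsLocalRing.ResidueField R') :=
    (Hensel.IsStrictHenselization.isSepClosure (R := X.presheaf.stalk x') (S := R')).sep_closed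
  obtain ⟨θ⟩ := EtLC12.HenzRigidity.nonempty_algHom_sepClosed (X.presheaf.stalk x) R (IsLocalRing.ResidueField R')
  obtain ⟨g, -⟩ := EtLC12.HenzRigidity.existsUnique_lift_residue _ R θ
  exact ⟨Spec.map (CommRingCat.ofHom g.toRingHom),
    (EtLC12.Specialization.comp_specOf_eq_iff' X x x' R R' hx g.toRingHom).2 (RingHom.ext g.commutes)⟩

end Groth.Agent.S5593
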