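import Groth.Statements.S5594
import Groth.Agent.EtLC12.Specialization

set_option backward.isDefEq.respectTransparency false
set_option backward.isDefEq.respectTransparency.types false

set_option autoImplicit false
open CategoryTheory CategoryTheory.Limits AlgebraicGeometry Opposite
universe u
open EtDesc

namespace Groth.Agent.S5594

/-- Let X be a scheme, x, x' points of X with strict localisations Spec R -> X and Spec R' -> X, and ξ'
: Spec κ(R') -> Spec R' the closed point, a geometric point of X over x'. Then restricting along ξ'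
is a bijection from the X-morphisms Spec R' -> Spec R (specialization arrows) onto the X-morphisms
from the geometric point Spec κ(R') to Spec R: injectivity and surjectivity are stated separately. -/
theorem result (X : Scheme.{u}) (x x' : X)
    (R : Type u) [CommRing R] [IsLocalRing R] [Algebra (X.presheaf.stalk x) R]
    [IsLocalHom (algebraMap (X.presheaf.stalk x) R)] [Hensel.IsStrictHenselization (X.presheaf.stalk x) R]
    (R' : Type u) [CommRing R'] [IsLocalRing R'] [Algebra (X.presheaf.stalk x') R']
    [IsLocalHom (algebraMap (X.presheaf.stalk x') R')] [Hensel.IsStrictHenselization (X.presheaf.stalk x') R'] :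
    (∀ g₁ g₂ : Spec (CommRingCat.of R') ⟶ Spec (CommRingCat.of R),
      g₁ ≫ Hens2.specOf X x R = Hens2.specOf X x' R' → g₂ ≫ Hens2.specOf X x R = Hens2.specOf X x' R' →
      Spec.map (CommRingCat.ofHom (IsLocalRing.residue R')) ≫ g₁ =
        Spec.map (CommRingCat.ofHom (IsLocalRing.residue R')) ≫ g₂ → g₁ = g₂) ∧
    (∀ h : Spec (CommRingCat.of (IsLocalRing.ResidueField R')) ⟶ Spec (CommRingCat.of R),
      h ≫ Hens2.specOf X x R = Hens2.geomPt X x' R' →
      ∃ g : Spec (CommRingCat.of R') ⟶ Spec (CommRingCat.of R),
        g ≫ Hens2.specOf X x R = Hens2.specOf X x' R' ∧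
        Spec.map (CommRingCat.ofHom (IsLocalRing.residue R')) ≫ g = h) := by
  haveI : HenselianLocalRing R' := Hensel.IsStrictHenselization.henselian (R := X.presheaf.stalk x')
  refine ⟨fun g₁ g₂ h₁ h₂ he => ?_, fun h hh => ?_⟩
  · obtain ⟨χ₁, rfl⟩ := Spec.map_surjective g₁
    obtain ⟨χ₂, rfl⟩ := Spec.map_surjective g₂
    have hx : x' ⤳ x := EtLC12.Specialization.specializes_of_hom X x x' R R'
      (h := Spec.map (CommRingCat.ofHom (IsLocalRing.residue R')) ≫ Spec.map χ₁)
      ((Category.assoc _ _ _).trans (congrArg (_ ≫ ·) h₁))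
    have e₁ := (EtLC12.Specialization.comp_specOf_eq_iff' X x x' R R' hx χ₁.hom).1 h₁
    have e₂ := (EtLC12.Specialization.comp_specOf_eq_iff' X x x' R R' hx χ₂.hom).1 h₂
    letI : Algebra (X.presheaf.stalk x) R' := (EtLC12.Specialization.toR' X x x' R' hx).toAlgebra
    rw [← Spec.map_comp, ← Spec.map_comp, Spec.map_inj] at he
    let a₁ : R →ₐ[X.presheaf.stalk x] R' := { χ₁.hom with commutes' := fun r => congr($e₁ r) }
    let a₂ : R →ₐ[X.presheaf.stalk x] R' := { χ₂.hom with commutes' := fun r => congr($e₂ r) }
    have := (EtLC12.HenzRigidity.existsUnique_lift_residue _ R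
      ((IsScalarTower.toAlgHom (X.presheaf.stalk x) R' (IsLocalRing.ResidueField R')).comp a₁)).unique
      (y₁ := a₁) (y₂ := a₂) (fun _ => rfl) (fun s => congr(($he).hom s).symm)
    exact congrArg Spec.map (CommRingCat.hom_ext congr(($this : R →+* R')))
  · have hx : x' ⤳ x := EtLC12.Specialization.specializes_of_hom X x x' R R' hh
    obtain ⟨θ, rfl⟩ := Spec.map_surjective h
    have e := (EtLC12.Specialization.comp_specOf_eq_iff X x x' R R' hx (IsLocalRing.residue R') θ.hom).1 hh
    letI : Algebra (X.presheaf.stalk x) R' := (EtLC12.Specialization.toR' X x x' R' hx).toAlgebra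
    let θ' : R →ₐ[X.presheaf.stalk x] IsLocalRing.ResidueField R' :=
      { θ.hom with commutes' := fun r => congr($e r) }
    obtain ⟨g, hg, -⟩ := EtLC12.HenzRigidity.existsUnique_lift_residue _ R θ'
    refine ⟨Spec.map (CommRingCat.ofHom g.toRingHom),
      (EtLC12.Specialization.comp_specOf_eq_iff' X x x' R R' hx g.toRingHom).2 (RingHom.ext g.commutes), ?_⟩
    rw [← Spec.map_comp]
    exact congrArg Spec.map (CommRingCat.hom_ext (RingHom.ext hg))

end Groth.Agent.S5594
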