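import Groth.Statements.S5612
import Groth.Agent.H9Misc.DRingPerfect

set_option autoImplicit false
universe u
open CategoryTheory CategoryTheory.Limits
attribute [local instance] HasDerivedCategory.standard
open DRing

namespace Groth.Agent.S5612

/-- Let A be a commutative ring all of whose modules have finite tor dimension (for instance A of finite
global dimension) and K ∈ D(A). (i) K has finite tor dimension if and only if K has bounded
cohomology. (ii) K is perfect if and only if K has bounded cohomology and is pseudo-coherent. -/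
theorem result {A : Type u} [CommRing A]
    (hA : ∀ (M : Type u) [AddCommGroup M] [Module A M], DRing.HasFiniteTorDim A M) (K : Dual.D A) :
    (DRing.HasFiniteTorDimCx A K ↔ ∃ a b : ℤ, ∀ i : ℤ, i < a ∨ b < i → Subsingleton (Dual.HD A K i)) ∧
      (DRing.IsPerfect A K ↔
        (∃ a b : ℤ, ∀ i : ℤ, i < a ∨ b < i → Subsingleton (Dual.HD A K i)) ∧ DRing.IsPseudoCoherent' A K) := by
  have h1 : DRing.HasFiniteTorDimCx A K ↔
      ∃ a b : ℤ, ∀ i : ℤ, i < a ∨ b < i → Subsingleton (Dual.HD A K i) :=
    ⟨fun ⟨a, b, h⟩ => ⟨a, b, fun i hi => Groth.Agent.H9Misc.DRingPerfect.isZero_of_amp h i hi⟩,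
      fun ⟨_, _, h⟩ => Groth.Agent.H9Misc.DRingPerfect.finiteTorDimCx_of_bounded hA K h⟩
  refine ⟨h1, ?_⟩
  rw [Groth.Agent.H9Misc.DRingPerfect.isPerfect_iff, h1, and_comm]

end Groth.Agent.S5612
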