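import Groth.Statements.S5614
import Groth.Agent.KZ.Tri

set_option autoImplicit false
universe v u
open CategoryTheory CategoryTheory.Limits CategoryTheory.Pretriangulated
open KZero

namespace Groth.Agent.S5614

/-- Let C be a pretriangulated category and S a dense set of objects, meaning that every set of objects
which contains S and which contains the third vertex of a distinguished triangle as soon as it
contains the other two is all of C. Then K₀(C) is generated by the classes of the objects of S. -/
theorem result {C : Type u} [Category.{v} C] [Preadditive C] [HasZeroObject C]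
    [HasShift C ℤ] [∀ n : ℤ, (shiftFunctor C n).Additive] [Pretriangulated C]
    (S : Set C)
    (hdense : ∀ T : Set C, S ⊆ T →
      (∀ tr : Triangle C, tr ∈ distinguishedTriangles →
        (tr.obj₁ ∈ T → tr.obj₂ ∈ T → tr.obj₃ ∈ T) ∧ (tr.obj₁ ∈ T → tr.obj₃ ∈ T → tr.obj₂ ∈ T) ∧
          (tr.obj₂ ∈ T → tr.obj₃ ∈ T → tr.obj₁ ∈ T)) → T = Set.univ) :
    AddSubgroup.closure (KZero.clTri '' S) = (⊤ : AddSubgroup (KZero.K0tri C)) := by
  let G := AddSubgroup.closure (KZero.clTri '' S)
  have hT : {X : C | KZero.clTri X ∈ G} = Set.univ := by
    refine hdense _ (fun X hX => AddSubgroup.subset_closure ⟨X, hX, rfl⟩) fun tr htr => ?_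
    have h := KZ.clTri_triangle htr
    simp only [Set.mem_ofPred_eq]
    refine ⟨fun a b => ?_, fun a b => ?_, fun a b => ?_⟩
    · rw [show KZero.clTri tr.obj₃ = KZero.clTri tr.obj₂ - KZero.clTri tr.obj₁ by rw [h]; abel]
      exact sub_mem b a
    · rw [h]; exact add_mem a b
    · rw [show KZero.clTri tr.obj₁ = KZero.clTri tr.obj₂ - KZero.clTri tr.obj₃ by rw [h]; abel]
      exact sub_mem a b
  rw [AddSubgroup.eq_top_iff']
  intro x
  induction x using QuotientAddGroup.induction_on with
  | H z =>
    induction z using FreeAbelianGroup.induction_on with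
    | zero => exact zero_mem G
    | of X => exact (Set.eq_univ_iff_forall.mp hT X.1)
    | neg X hX => exact neg_mem hX
    | add a b ha hb => exact add_mem ha hb

end Groth.Agent.S5614
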