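import Groth.Statements.S5615
import Groth.Agent.KZ.Basic

set_option autoImplicit false
universe v u
open CategoryTheory CategoryTheory.Limits
open KZero

namespace Groth.Agent.S5615

/-- Let A be an abelian category and S a dense set of objects, meaning that every set of objects which
contains S and which contains the third term of a short exact sequence as soon as it contains the
other two is all of A. Then K₀(A) is generated by the classes of the objects of S. -/
theorem result {A : Type u} [Category.{v} A] [Abelian A] (S : Set A)
    (hdense : ∀ T : Set A, S ⊆ T →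
      (∀ X : ShortComplex A, X.ShortExact →
        (X.X₁ ∈ T → X.X₂ ∈ T → X.X₃ ∈ T) ∧ (X.X₁ ∈ T → X.X₃ ∈ T → X.X₂ ∈ T) ∧
          (X.X₂ ∈ T → X.X₃ ∈ T → X.X₁ ∈ T)) → T = Set.univ) :
    AddSubgroup.closure (KZero.cl '' S) = (⊤ : AddSubgroup (KZero.K0 A)) := by
  let G := AddSubgroup.closure (KZero.cl '' S)
  have hT : {X : A | KZero.cl X ∈ G} = Set.univ := by
    refine hdense _ (fun X hX => AddSubgroup.subset_closure ⟨X, hX, rfl⟩) fun tr htr => ?_
    have h := KZ.cl_ses htr
    simp only [Set.mem_ofPred_eq]
    refine ⟨fun a b => ?_, fun a b => ?_, fun a b => ?_⟩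
    · rw [show KZero.cl tr.X₃ = KZero.cl tr.X₂ - KZero.cl tr.X₁ by rw [h]; abel]
      exact sub_mem b a
    · rw [h]; exact add_mem a b
    · rw [show KZero.cl tr.X₁ = KZero.cl tr.X₂ - KZero.cl tr.X₃ by rw [h]; abel]
      exact sub_mem a b
  rw [AddSubgroup.eq_top_iff']
  intro x
  induction x using QuotientAddGroup.induction_on with
  | H z =>
    induction z using FreeAbelianGroup.induction_on with
    | zero => exact zero_mem G
    | of X => exact (Set.eq_univ_iff_forall.mp hT X)
    | neg X hX => exact neg_mem hX
    | add a b ha hb => exact add_mem ha hb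

end Groth.Agent.S5615
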