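import Groth.Statements.S5619
import Groth.Agent.PCohLib.Apps

set_option autoImplicit false
universe w v u
open CategoryTheory CategoryTheory.Limits
open PCoh

namespace Groth.Agent.S5619

/-- Punctual site: let C be an abelian category and C₀ a strictly full additive subcategory,
quasi-stable under kernels of epimorphisms and quasi-liftable, and F a bounded above complex. If for
every i ≥ n the term F^i is of (i - n)-finite presentation, expressed as: F^i in degree 0 is (n -
i)-pseudo-coherent, then F is n-pseudo-coherent. -/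
theorem result {C : Type u} [Category.{v} C] [Abelian C] [HasDerivedCategory.{w} C]
    (P : ObjectProperty C) [P.IsClosedUnderIsomorphisms] [P.ContainsZero] (hsum : ∀ X Y : C, P X → P Y → P (X ⨯ Y))
    (hqs : PCoh.IsQuasiStableUnderKernels P) (hql : PCoh.IsQuasiLiftable P)
    (n : ℤ) (F : CochainComplex C ℤ) (b : ℤ) (hb : ∀ i : ℤ, b < i → IsZero (F.X i))
    (hfp : ∀ i : ℤ, n ≤ i → (∃ E : CochainComplex C ℤ, PCoh.IsStrictPC P (n - i) E ∧ Nonempty (DerivedCategory.Q.obj E ≅ ((DerivedCategory.singleFunctor C 0).obj (F.X i))))) :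
    (∃ E : CochainComplex C ℤ, PCoh.IsStrictPC P n E ∧ Nonempty (DerivedCategory.Q.obj E ≅ (DerivedCategory.Q.obj F))) := by
  exact PCohLib.pcn_of_terms' hsum hqs hql n b F hb hfp

end Groth.Agent.S5619
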