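import Groth.Statements.S5622
import Groth.Agent.PCohLib.Perfect

set_option autoImplicit false
universe w v u
open CategoryTheory CategoryTheory.Limits
open PCoh

namespace Groth.Agent.S5622

/-- Let C be an abelian category and C₀ a strictly full additive subcategory, liftable and stable under
kernels of epimorphisms, and a ≤ b. For F', F'' in D(C): (i) ⇒ (ii), where (i) says F' and F'' have
perfect amplitude in [a, b] (each isomorphic to a strictly perfect complex vanishing outside [a, b])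
and (ii) says F' ⊞ F'' does; and (ii) ⇒ (i) when C₀ is stable under direct factors. -/
theorem result {C : Type u} [Category.{v} C] [Abelian C] [HasDerivedCategory.{w} C]
    (P : ObjectProperty C) [P.IsClosedUnderIsomorphisms] [P.ContainsZero] (hsum : ∀ X Y : C, P X → P Y → P (X ⨯ Y))
    (hlift : ∀ (E F : C) (u : E ⟶ F), Epi u → P F → IsSplitEpi u)
    (hst : ∀ (E F : C) (u : E ⟶ F), Epi u → P E → P F → P (kernel u))
    (a b : ℤ) (hab : a ≤ b) (F' F'' : DerivedCategory C) [HasBinaryBiproduct F' F''] :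
    (((∃ E : CochainComplex C ℤ, (∀ i : ℤ, P (E.X i)) ∧ (∀ i : ℤ, i < a ∨ b < i → IsZero (E.X i)) ∧ Nonempty (DerivedCategory.Q.obj E ≅ F')) ∧ (∃ E : CochainComplex C ℤ, (∀ i : ℤ, P (E.X i)) ∧ (∀ i : ℤ, i < a ∨ b < i → IsZero (E.X i)) ∧ Nonempty (DerivedCategory.Q.obj E ≅ F''))) →
        (∃ E : CochainComplex C ℤ, (∀ i : ℤ, P (E.X i)) ∧ (∀ i : ℤ, i < a ∨ b < i → IsZero (E.X i)) ∧ Nonempty (DerivedCategory.Q.obj E ≅ (F' ⊞ F'')))) ∧
      ((∀ (E' E'' : C) [HasBinaryBiproduct E' E''], P (E' ⊞ E'') → P E' ∧ P E'') →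
        (∃ E : CochainComplex C ℤ, (∀ i : ℤ, P (E.X i)) ∧ (∀ i : ℤ, i < a ∨ b < i → IsZero (E.X i)) ∧ Nonempty (DerivedCategory.Q.obj E ≅ (F' ⊞ F''))) →
          (∃ E : CochainComplex C ℤ, (∀ i : ℤ, P (E.X i)) ∧ (∀ i : ℤ, i < a ∨ b < i → IsZero (E.X i)) ∧ Nonempty (DerivedCategory.Q.obj E ≅ F')) ∧ (∃ E : CochainComplex C ℤ, (∀ i : ℤ, P (E.X i)) ∧ (∀ i : ℤ, i < a ∨ b < i → IsZero (E.X i)) ∧ Nonempty (DerivedCategory.Q.obj E ≅ F''))) := by
  refine ⟨?_, fun hfac ⟨E, hE, hEz, ⟨e⟩⟩ =>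
    Groth.Agent.PCohLib.amplitude_of_biprod hsum hlift hst hfac a b hab F' F'' E hE hEz e⟩
  rintro ⟨⟨E', hE', hz', ⟨e'⟩⟩, ⟨E'', hE'', hz'', ⟨e''⟩⟩⟩
  exact Groth.Agent.PCohLib.amplitude_biprod hsum a b hE' hE'' hz' hz'' e' e''

end Groth.Agent.S5622
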