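import Groth.Statements.S5623
import Groth.Agent.PCohLib.Derived

set_option autoImplicit false
universe v u
open CategoryTheory CategoryTheory.Limits
open PCoh

namespace Groth.Agent.S5623

/-- Punctual site: let C be an abelian category and C₀ a strictly full additive subcategory,
quasi-liftable in C. For an exact sequence 0 → F → G → H with G of C₀-finite type and H precoherent
relative to C₀ (every morphism from a C₀-object into H has kernel of C₀-finite type), F is of
C₀-finite type. -/
theorem result {C : Type u} [Category.{v} C] [Abelian C]
    (P : ObjectProperty C) [P.IsClosedUnderIsomorphisms] [P.ContainsZero] (hsum : ∀ X Y : C, P X → P Y → P (X ⨯ Y))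
    (hql : PCoh.IsQuasiLiftable P)
    (S : ShortComplex C) (hS : S.Exact) (hf : Mono S.f)
    (hG : PCoh.IsOfFiniteType P S.X₂) (hH : (∀ (E : C) (u : E ⟶ S.X₃), P E → PCoh.IsOfFiniteType P (kernel u))) :
    PCoh.IsOfFiniteType P S.X₁ := by
  haveI := hf
  exact PCohLib.ft_of_exact hH S.f S.g S.zero hS hG

end Groth.Agent.S5623
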