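import Groth.Statements.S5625
import Groth.Agent.QCoh.Qcqs
import Groth.Agent.QCoh.Pullback
import Mathlib.CategoryTheory.Adjunction.Restrict
import Mathlib.CategoryTheory.Adjunction.Unique

set_option autoImplicit false
universe u
open CategoryTheory AlgebraicGeometry
open QCohCat

namespace Groth.Agent.S5625

/-- Let f : X ⟶ Y be a morphism of quasi-compact quasi-separated schemes and Q_X, Q_Y coherators (right
adjoints of the inclusions QCoh ⥤ Mod) on X and Y. Then Q_Y ∘ f_* and f_* ∘ Q_X agree: the two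
composite functors Mod(O_X) ⥤ Mod(O_Y) are naturally isomorphic (existence of a natural isomorphism;
the source's isomorphism is the canonical one between two right adjoints of the same functor). -/
theorem result {X Y : Scheme.{u}} [CompactSpace X] [QuasiSeparatedSpace X]
    [CompactSpace Y] [QuasiSeparatedSpace Y] (f : X ⟶ Y)
    (QX : X.Modules ⥤ QCohCat.QCoh X) (adjX : (QCohCat.isQCoh X).ι ⊣ QX)
    (QY : Y.Modules ⥤ QCohCat.QCoh Y) (adjY : (QCohCat.isQCoh Y).ι ⊣ QY) :
    Nonempty ((QX ⋙ (QCohCat.isQCoh X).ι ⋙ Scheme.Modules.pushforward f) ≅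
      (Scheme.Modules.pushforward f ⋙ QY ⋙ (QCohCat.isQCoh Y).ι)) := by
  haveI : QuasiCompact f := inferInstance
  haveI : QuasiSeparated f := inferInstance
  let pushQ : QCohCat.QCoh X ⥤ QCohCat.QCoh Y :=
    (QCohCat.isQCoh Y).lift ((QCohCat.isQCoh X).ι ⋙ Scheme.Modules.pushforward f)
      fun M => QCoh.isQCoh_pushforward f M.property
  let pullQ : QCohCat.QCoh Y ⥤ QCohCat.QCoh X :=
    (QCohCat.isQCoh X).lift ((QCohCat.isQCoh Y).ι ⋙ Scheme.Modules.pullback f)
      fun M => QCoh.isQCoh_pullback f M.property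
  let adjQ : pullQ ⊣ pushQ := (Scheme.Modules.pullbackPushforwardAdjunction f).restrictFullyFaithful
    (QCohCat.isQCoh Y).fullyFaithfulι (QCohCat.isQCoh X).fullyFaithfulι
    (Iso.refl ((QCohCat.isQCoh Y).ι ⋙ Scheme.Modules.pullback f) :)
    (Iso.refl ((QCohCat.isQCoh X).ι ⋙ Scheme.Modules.pushforward f) :)
  let a₁ : pullQ ⋙ (QCohCat.isQCoh X).ι ⊣ QX ⋙ pushQ := adjQ.comp adjX
  let a₂ : pullQ ⋙ (QCohCat.isQCoh X).ι ⊣ Scheme.Modules.pushforward f ⋙ QY :=
    (adjY.comp (Scheme.Modules.pullbackPushforwardAdjunction f)).ofNatIsoLeft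
      (Iso.refl ((QCohCat.isQCoh Y).ι ⋙ Scheme.Modules.pullback f) :)
  exact ⟨(Functor.isoWhiskerRight (a₁.rightAdjointUniq a₂) (QCohCat.isQCoh Y).ι :)⟩

end Groth.Agent.S5625
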