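import Groth.Statements.S5632
import Groth.Agent.Pic13Lib.MixedPos
import Groth.Agent.Lib.DualRange
import Groth.Agent.Lib.CurveOnSurf
import Groth.Agent.HilbPoly.EllSimple

set_option autoImplicit false
universe u
open CategoryTheory CategoryTheory.Limits AlgebraicGeometry
open Pic13

namespace Groth.Agent.S5632
open Groth.Agent Groth.Agent.H23 Groth.Agent.H23.PicMul
attribute [local instance] PicMul.clMonoid


/-- Let k be an algebraically closed field, X ⊆ P^n_k an integral closed subscheme of dimension r = s +
1 ≥ 1, with O_X(1) and O_X(-1) the restrictions of O(1) and O(-1). Let L be an invertible O_X-module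
with inverse L' (L ⊗ L' ≅ O_X) whose degree (c₁(L)·c₁(O_X(1))^{r-1}) is ≤ 0 and with H^0(X, L) ≠ 0.
Then L ≅ O_X (so that its degree is 0 and h^0(L) = 1). Intersection numbers are those of FGA.intNum,
which takes the inverse modules L', O_X(-1) as arguments. -/
theorem result (k : Type u) [Field k] [IsAlgClosed k] (n : ℕ) (X : Scheme.{u}) [X.Over (Spec (CommRingCat.of k))]
    (i : X ⟶ CohB1.ProjSpace n k) [IsClosedImmersion i] (hi : i ≫ CohB1.ProjSpace.toSpec n k = X ↘ Spec (CommRingCat.of k))
    [IsIntegral X] (s : ℕ) (hdim : topologicalKrullDim X = (s + 1 : ℕ))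
    (L L' : X.Modules) (hL : PicF.IsInvertible L) (hLL' : Nonempty (CohB1.tensorMod L L' ≅ Coh.structureModule X))
    (hdeg : FGA.intNum k X (s + 1)
      (Matrix.vecCons L' (fun _ : Fin s => (Scheme.Modules.pullback i).obj (Twist.twistProjSpace n k (-1))))
      (Coh.structureModule X) ≤ 0)
    (hsec : Nontrivial (Coh.HH X L 0)) :
    Nonempty (L ≅ Coh.structureModule X) := by
  haveI : IsProper (CohB1.ProjSpace.toSpec n k) := PnCoh.Chow.isProper_toSpec n _
  haveI : IsProper (X ↘ Spec (CommRingCat.of k)) := hi ▸ (inferInstance : IsProper (i ≫ CohB1.ProjSpace.toSpec n k))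
  haveI := CurveCohLib.isNoetherian_of_proper (k := k) (X := X)
  let H : X.Modules := DualRange.tw i 1
  let H' : X.Modules := DualRange.tw i (-1)
  have hH : CohB1.IsAmple H :=
    AmpleVan.FiniteSurj.isAmple_pullback_of_isAffineHom i (HilbPoly.isAmple_twist_one_pn n)
  have hH' : PicF.IsInvertible H' := PicClLib.isInvertible_pullback i (DualRange.isInvertible_pn (-1))
  have hHH : Nonempty (CohB1.tensorMod H H' ≅ Coh.structureModule X) := DualRange.nonempty_twist_inverse i 1
  have hL' : PicF.IsInvertible L' := (CurveOnSurf.isInvertible_of_inverse hL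
    ⟨(PicMul.comm L' L).some ≪≫ hLL'.some⟩).1
  let A : Fin (s + 1) → X.Modules := Fin.cons L fun _ => H
  let B : Fin (s + 1) → X.Modules := Fin.cons L' fun _ => H'
  have hA : ∀ j, PicF.IsInvertible (A j) := fun j => by
    induction j using Fin.cases with
    | zero => exact hL
    | succ j => exact hH.1
  have hB : ∀ j, PicF.IsInvertible (B j) := fun j => by
    induction j using Fin.cases with
    | zero => exact hL'
    | succ j => exact hH'
  have hAB : ∀ j, Nonempty (CohB1.tensorMod (A j) (B j) ≅ Coh.structureModule X) := fun j => by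
    induction j using Fin.cases with
    | zero => exact hLL'
    | succ j => exact hHH
  have hO : Coh.IsCoh (Coh.structureModule X) := QCoh.isCoh_structureModule'
  have hint : FGA.intNum k X (s + 1) B (Coh.structureModule X) =
      (-1 : ℤ) ^ (s + 1) * IntNumCycle.alt k (s + 1) A (Coh.structureModule X) := by
    rw [IntAlt.intNum_eq_alt k hdim.le hB hO, Pic13Lib.alt_inverse hA hB hAB (TopInt.cohLe_structure k hdim.le)]
  have hdeg' : (-1 : ℤ) ^ (s + 1) * IntNumCycle.alt k (s + 1) A (Coh.structureModule X) ≤ 0 := by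
    rw [← hint]
    exact hdeg
  obtain ⟨t, ht⟩ := CurveAmple.exists_section_ne_zero (X := X) (M := L) hsec
  by_cases htop : TrivBasic.locus t = ⊤
  · exact TrivBasic.triv_of_frame (TrivBasic.locus_eq_top_iff.1 htop)
  exfalso
  obtain ⟨x, hx⟩ := (Set.ne_univ_iff_exists_notMem _).1 (fun h => htop (TopologicalSpace.Opens.ext h))
  have hpos := TopInt.form_cons_pos k hdim hH (TopInt.mk hL) (TopInt.val_mk hL).symm hL ht ⟨x, hx⟩
  rw [TopInt.form_eq k _ (L := A) (fun j => by
      induction j using Fin.cases with
      | zero => simp [A, TopInt.val_mk]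
      | succ j => simp [A, TopInt.val_mk])] at hpos
  linarith

end Groth.Agent.S5632
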