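import Groth.Statements.S5633
import Groth.Agent.Pic13Lib.Hodge.Restrict

set_option autoImplicit false
universe u
open CategoryTheory CategoryTheory.Limits AlgebraicGeometry
open Pic13

namespace Groth.Agent.S5633
open Groth.Agent Groth.Agent.Pic13Lib Groth.Agent.H23 Groth.Agent.H23.PicMul
attribute [local instance] PicMul.clMonoid
set_option backward.isDefEq.respectTransparency false
set_option backward.isDefEq.respectTransparency.types false


/-- Let k be an algebraically closed field, Y a proper k-scheme with an ample invertible module H, φ a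
global section of H and X ⊆ Y its zero scheme. Assume that for every irreducible component Y' of Y,
every irreducible component of Y' ∩ X has dimension ≥ 2. Then an invertible O_Y-module whose
restriction to X is numerically equivalent to zero (degree 0 on every integral closed curve of X) is
numerically equivalent to zero on Y; that is, restriction of invertible modules modulo numerical
equivalence from Y to X is injective. -/
theorem result (k : Type u) [Field k] [IsAlgClosed k] (Y : Scheme.{u}) [Y.Over (Spec (CommRingCat.of k))]
    [IsProper (Y ↘ Spec (CommRingCat.of k))] (H : Y.Modules) (hH : CohB1.IsAmple H) (φ : Coh.structureModule Y ⟶ H)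
    (hdim : ∀ Z ∈ irreducibleComponents (Y : Type u),
      ∀ W ∈ irreducibleComponents ↥(Z ∩ Set.range (PicF2.zeroScheme H φ).subschemeι.base), 2 ≤ topologicalKrullDim ↥W)
    (L : Y.Modules) (hL : PicF.IsInvertible L)
    (hnum : @Pic13.IsNumEquivZero k _ (PicF2.zeroScheme H φ).subscheme
      ⟨(PicF2.zeroScheme H φ).subschemeι ≫ (Y ↘ Spec (CommRingCat.of k))⟩
      ((Scheme.Modules.pullback (PicF2.zeroScheme H φ).subschemeι).obj L)) :
    Pic13.IsNumEquivZero k Y L := by
  refine Hodge.isNumEquivZero_of_section hH φ hdim hL fun C ι _ hCi hC hCφ => ?_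
  haveI := hCi
  let J := PicF2.zeroScheme H φ
  haveI : IsReduced ι.image := (S2266.result ι).1
  haveI : IsReduced ι.ker.subscheme := ‹IsReduced ι.image›
  have hkle : J.subschemeι.ker ≤ ι.ker := by
    rw [Scheme.IdealSheafData.ker_subschemeι]
    refine le_trans ?_ (AlgSpLib.CartierRegular.eq_vanishingIdeal_support ι.ker).ge
    rw [← Scheme.IdealSheafData.le_support_iff_le_vanishingIdeal]
    intro z hz
    replace hz : z ∈ (ι.ker.support : Set Y) := hz
    rw [Scheme.Hom.support_ker] at hz
    refine closure_minimal ?_ (J.support.isClosed) hz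
    rintro _ ⟨c, rfl⟩
    have h := (Hodge.mem_range_zeroScheme_iff hH.1 φ (ι c)).2 (hCφ c)
    rwa [Scheme.IdealSheafData.range_subschemeι] at h
  let ι' := IsClosedImmersion.lift J.subschemeι ι hkle
  have hfac : ι' ≫ J.subschemeι = ι := IsClosedImmersion.lift_fac _ _ _
  haveI : IsClosedImmersion ι' := by
    haveI : IsClosedImmersion (ι' ≫ J.subschemeι) := by rw [hfac]; infer_instance
    exact IsClosedImmersion.of_comp _ J.subschemeι
  have h := hnum C ι' hCi hC
  rw [← h]
  show Pic13.curveDeg k (ι ≫ _) _ = Pic13.curveDeg k (ι' ≫ J.subschemeι ≫ _) _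
  rw [← Category.assoc, hfac]
  exact NumTriv.curveDeg_congr k _ (((Scheme.Modules.pullbackComp _ _).app L ≪≫
    (Scheme.Modules.pullbackCongr hfac).app L).symm)

end Groth.Agent.S5633
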