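import Groth.Statements.S5634
import Mathlib
import Groth.Agent.RadBound.Radical

set_option autoImplicit false
universe u
open CAlg

namespace Groth.Agent.S5634

/-- For every N there is a function R_N such that, for every field k₀, every m and every ideal I of
k₀[T_1, …, T_N] generated by polynomials of total degree ≤ m, the radical of I is generated by
polynomials of total degree ≤ R_N(m). (The published statement gives R_N as a polynomial in m; this
row asserts only a bound depending on N and m, uniform in the field and the ideal.) -/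
theorem result (N : ℕ) :
    ∃ R : ℕ → ℕ, ∀ (k₀ : Type u) [Field k₀] (m : ℕ) (S : Set (MvPolynomial (Fin N) k₀)),
      (∀ p ∈ S, p.totalDegree ≤ m) →
        ∃ S' : Set (MvPolynomial (Fin N) k₀), (∀ q ∈ S', q.totalDegree ≤ R m) ∧ Ideal.span S' = (Ideal.span S).radical := by
  classical
  have main : ∀ m : ℕ, ∃ B : ℕ, ∀ (k₀ : Type u) [Field k₀] (S : Set (MvPolynomial (Fin N) k₀)),
      (∀ p ∈ S, p.totalDegree ≤ m) →
        ∃ S' : Set (MvPolynomial (Fin N) k₀), (∀ q ∈ S', q.totalDegree ≤ B) ∧ Ideal.span S' = (Ideal.span S).radical := by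
    intro m
    let E : Finset (Fin N →₀ ℕ) := Finset.Iic (Finsupp.equivFunOnFinite.symm fun _ => m)
    let A := MvPolynomial (Fin E.card × ↥E) (ULift.{u} ℤ)
    have : IsNoetherianRing (ULift.{u} ℤ) := isNoetherianRing_of_ringEquiv ℤ ULift.ringEquiv.symm
    let G : Fin E.card → MvPolynomial (Fin N) A := fun i =>
      ∑ d ∈ E.attach, MvPolynomial.monomial d.1 (MvPolynomial.X (i, d))
    obtain ⟨B, hB⟩ := Groth.Agent.RadBound.exists_radB (A := A) G
    refine ⟨B, fun k _ S hS => ?_⟩
    have hsub : Submodule.span k S ≤ MvPolynomial.restrictSupport k (E : Set (Fin N →₀ ℕ)) := by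
      refine Submodule.span_le.2 fun p hp => ?_
      rw [SetLike.mem_coe, MvPolynomial.mem_restrictSupport_iff]
      intro d hd
      rw [Finset.mem_coe, Finset.mem_Iic, Finsupp.le_def]
      intro i
      show d i ≤ m
      refine le_trans ?_ ((MvPolynomial.le_totalDegree (Finset.mem_coe.1 hd)).trans (hS p hp))
      exact Finsupp.le_degree i d
    let bE := MvPolynomial.basisRestrictSupport k (E : Set (Fin N →₀ ℕ))
    have : Module.Finite k (MvPolynomial.restrictSupport k (E : Set (Fin N →₀ ℕ))) := Module.Finite.of_basis bE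
    have : Module.Finite k (Submodule.span k S) := Submodule.finiteDimensional_of_le hsub
    have hrank : Module.finrank k (Submodule.span k S) ≤ E.card := by
      refine (Submodule.finrank_mono hsub).trans (le_of_eq ?_)
      rw [Module.finrank_eq_card_basis bE]
      exact Fintype.card_coe E
    let W := Submodule.span k S
    let gv : Fin E.card → MvPolynomial (Fin N) k := fun i =>
      if hi : (i : ℕ) < Module.finrank k W then (Module.finBasis k W ⟨i, hi⟩ : MvPolynomial (Fin N) k) else 0
    have hgW : ∀ i, gv i ∈ W := fun i => by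
      simp only [gv]; split_ifs
      · exact Subtype.coe_prop _
      · exact zero_mem _
    let ψ : A →+* k := MvPolynomial.eval₂Hom ((Int.castRingHom k).comp ULift.ringEquiv.toRingHom)
      fun x => (gv x.1).coeff x.2.1
    have hG : ∀ i, MvPolynomial.map ψ (G i) = gv i := by
      intro i
      simp only [G, map_sum, MvPolynomial.map_monomial]
      have hX : ∀ d : ↥E, ψ (MvPolynomial.X (i, d)) = (gv i).coeff d.1 := fun d => MvPolynomial.eval₂_X _ _ _
      simp only [hX]
      rw [Finset.sum_attach E fun d => MvPolynomial.monomial d ((gv i).coeff d)]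
      conv_rhs => rw [(gv i).as_sum]
      refine (Finset.sum_subset (fun d hd => ?_) fun d _ hd => ?_).symm
      · exact MvPolynomial.mem_restrictSupport_iff _ |>.1 (hsub (hgW i)) hd
      · rw [MvPolynomial.notMem_support_iff.1 hd, map_zero]
    have hspan : Ideal.span (Set.range fun i => MvPolynomial.map ψ (G i)) = Ideal.span S := by
      simp only [hG]
      refine le_antisymm (Ideal.span_le.2 ?_) (Ideal.span_le.2 fun p hp => ?_)
      · rintro _ ⟨i, rfl⟩
        exact Submodule.span_le_restrictScalars k (MvPolynomial (Fin N) k) S (hgW i)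
      · have h1 := (Module.finBasis k W).mem_span ⟨p, Submodule.subset_span hp⟩
        have h2 := Submodule.mem_map_of_mem (f := W.subtype) h1
        rw [Submodule.map_span] at h2
        refine Submodule.span_le_restrictScalars k (MvPolynomial (Fin N) k) _ (Submodule.span_mono ?_ h2)
        rintro _ ⟨_, ⟨j, rfl⟩, rfl⟩
        exact ⟨⟨j, j.2.trans_le hrank⟩, by simp [gv, W, j.2]⟩
    refine ⟨{q | q.totalDegree ≤ B ∧ q ∈ (Ideal.span S).radical}, fun q hq => hq.1,
      le_antisymm (Ideal.span_le.2 fun q hq => hq.2) fun f hf => ?_⟩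
    rw [← hspan] at hf ⊢
    exact hB k ψ f hf
  choose R hR using main
  exact ⟨R, fun k₀ _ m S hS => hR m k₀ S hS⟩

end Groth.Agent.S5634
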