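import Groth.Statements.S5638
import Groth.Agent.Pic13Lib.NegTwistDrop
set_option autoImplicit false
universe u
open CategoryTheory CategoryTheory.Limits AlgebraicGeometry
open Pic13

namespace Groth.Agent.S5638
open AlgebraicGeometry
open Groth.Agent Groth.Agent.H23 Groth.Agent.H23.PicMul
open scoped Groth.Agent.H23.PicMul
attribute [local instance] PicMul.clMonoid
set_option backward.isDefEq.respectTransparency false
set_option backward.isDefEq.respectTransparency.types false

/-- Let k be an algebraically closed field, P = P^N_k and F a coherent O_P-module none of whose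
associated points is a closed point of P. If H^0(P, F) ≠ 0 then h^0(F(-1)) ≤ h^0(F) - 1, where F(d)
= F ⊗ O(d) and h^0 is the dimension over k. -/
theorem result (k : Type u) [Field k] [IsAlgClosed k] (N : ℕ) (F : (CohB1.ProjSpace N k).Modules) (hF : Coh.IsCoh F)
    (hass : ∀ x : ↥(CohB1.ProjSpace N k), Curv2.IsAssPoint F x → ¬ IsClosed ({x} : Set ↥(CohB1.ProjSpace N k)))
    (h0 : 1 ≤ Module.finrank k (Coh.HH (CohB1.ProjSpace N k) F 0)) :
    Module.finrank k (Coh.HH (CohB1.ProjSpace N k) (CohB1.tensorMod F (Twist.twistProjSpace N k (-1))) 0) + 1 ≤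
      Module.finrank k (Coh.HH (CohB1.ProjSpace N k) F 0) := by
  have e0 : Module.finrank k (Coh.HH (CohB1.ProjSpace N k) (CohB1.tensorMod F (Twist.twistProjSpace N k 0)) 0) =
      Module.finrank k (Coh.HH (CohB1.ProjSpace N k) F 0) := by
    obtain ⟨i⟩ : Nonempty (CohB1.tensorMod F (Twist.twistProjSpace N k 0) ≅ F) :=
      PicMul.cl_eq_iff.1 ((PicMul.cl_tensor _ _).trans
        ((congrArg (PicF.cl F * ·) (map_one (SeesawX.PnFibre.twistHom N k))).trans (mul_one _)))
    exact (CurveCohLib.hhEquiv (k := k) i 0).finrank_eq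
  have := (Pic13Lib.NegTwistDrop.h0_twist k N hF hass 0).2 (by omega)
  rw [zero_sub] at this
  omega

end Groth.Agent.S5638
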