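import Groth.Statements.S5639
import Groth.Agent.Pic13Lib.NegTwistDrop
set_option autoImplicit false
universe u
open CategoryTheory CategoryTheory.Limits AlgebraicGeometry
open Pic13

namespace Groth.Agent.S5639
open AlgebraicGeometry
open Groth.Agent Groth.Agent.H23 Groth.Agent.H23.PicMul
open scoped Groth.Agent.H23.PicMul
attribute [local instance] PicMul.clMonoid
set_option backward.isDefEq.respectTransparency false
set_option backward.isDefEq.respectTransparency.types false

/-- Let k be an algebraically closed field, P = P^N_k and F a coherent O_P-module none of whose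
associated points is a closed point of P. Then H^0(P, F(-n)) = 0 for every integer n ≥ h^0(F), where
F(d) = F ⊗ O(d) and h^0(F) is the dimension of H^0(P, F) over k. -/
theorem result (k : Type u) [Field k] [IsAlgClosed k] (N : ℕ) (F : (CohB1.ProjSpace N k).Modules) (hF : Coh.IsCoh F)
    (hass : ∀ x : ↥(CohB1.ProjSpace N k), Curv2.IsAssPoint F x → ¬ IsClosed ({x} : Set ↥(CohB1.ProjSpace N k)))
    (n : ℕ) (hn : Module.finrank k (Coh.HH (CohB1.ProjSpace N k) F 0) ≤ n) :
    Subsingleton (Coh.HH (CohB1.ProjSpace N k) (CohB1.tensorMod F (Twist.twistProjSpace N k (-(n : ℤ)))) 0) := by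
  have e0 : Module.finrank k (Coh.HH (CohB1.ProjSpace N k) (CohB1.tensorMod F (Twist.twistProjSpace N k 0)) 0) =
      Module.finrank k (Coh.HH (CohB1.ProjSpace N k) F 0) := by
    obtain ⟨i⟩ : Nonempty (CohB1.tensorMod F (Twist.twistProjSpace N k 0) ≅ F) :=
      PicMul.cl_eq_iff.1 ((PicMul.cl_tensor _ _).trans
        ((congrArg (PicF.cl F * ·) (map_one (SeesawX.PnFibre.twistHom N k))).trans (mul_one _)))
    exact (CurveCohLib.hhEquiv (k := k) i 0).finrank_eq
  have key : ∀ j : ℕ,
      Module.finrank k (Coh.HH (CohB1.ProjSpace N k) (CohB1.tensorMod F (Twist.twistProjSpace N k (-(j : ℤ)))) 0) ≤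
        Module.finrank k (Coh.HH (CohB1.ProjSpace N k) F 0) - j := by
    intro j
    induction j with
    | zero => rw [Nat.cast_zero, neg_zero, e0, Nat.sub_zero]
    | succ j ih =>
      rw [show (-((j + 1 : ℕ) : ℤ)) = -(j : ℤ) - 1 by push_cast; ring]
      by_cases hz : Module.finrank k (Coh.HH (CohB1.ProjSpace N k) (CohB1.tensorMod F (Twist.twistProjSpace N k (-(j : ℤ)))) 0) = 0
      · have := (Pic13Lib.NegTwistDrop.h0_twist k N hF hass (-(j : ℤ))).1
        omega
      · have := (Pic13Lib.NegTwistDrop.h0_twist k N hF hass _).2 hz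
        omega
  haveI : IsProper (CohB1.ProjSpace N k ↘ Spec (CommRingCat.of k)) := PnCoh.Chow.isProper_toSpec N k
  haveI := CurveCohLib.isNoetherian_of_proper (k := k) (X := CohB1.ProjSpace N k)
  haveI : Module.Finite k (Coh.HH (CohB1.ProjSpace N k) (CohB1.tensorMod F (Twist.twistProjSpace N k (-(n : ℤ)))) 0) :=
    CurveCohLib.finite_HH (k := k) (AmpleVan.isCoh_tensor hF (AmpleVan.isCoh_invertible
      (PnCoh.Finite.isInvertible_twist (ProjRegular.coords k N) ProjRegular.coords_mem ProjRegular.coords_cover (-(n : ℤ))))) 0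
  exact (Module.finrank_zero_iff (R := k)).1 (by have := key n; omega)

end Groth.Agent.S5639
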