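import Groth.Statements.S5642
import Groth.Agent.KZ.CycleClass
-- import your own Groth.Agent.* helpers here

set_option autoImplicit false
universe u
open CategoryTheory CategoryTheory.Limits AlgebraicGeometry
open Classical
open SGA6

namespace Groth.Agent.S5642

/-- Let X be a Noetherian scheme, K the Grothendieck group of coherent O_X-modules and Filt_m ⊆ K the
subgroup generated by the classes of coherent modules whose support has dimension ≤ m. Let F be
coherent with dim Supp(F) ≤ n. Then for the points x of X whose closure Z(x) has dimension n the
stalk F_x has finite length, nonzero for only finitely many such x, and [F] ≡ Σ_x length(F_x)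
[O_{Z(x)}] modulo Filt_{n-1}, where O_{Z(x)} is the structure sheaf of the reduced closed subscheme
Z(x) viewed as an O_X-module. -/
theorem result (X : Scheme.{u}) [IsNoetherian X] (n : ℕ) (F : X.Modules) (hF : Coh.IsCoh F)
    (hsupp : topologicalKrullDim ↥(CohB1.support F) ≤ n) :
    KZero.clSub (fun M : X.Modules => Coh.IsCoh M) F -
        (finsum fun x : ↥X => if topologicalKrullDim ↥(closure ({x} : Set ↥X)) = n then
          (Module.length (X.presheaf.stalk x) (F.presheaf.stalk x)).toNat • KZero.clSub (fun M : X.Modules => Coh.IsCoh M) (Cyc.closureStructureSheaf x) else 0) ∈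
      AddSubgroup.closure {c : KZero.K0sub (fun M : X.Modules => Coh.IsCoh M) |
        ∃ G : X.Modules, Coh.IsCoh G ∧ topologicalKrullDim ↥(CohB1.support G) < n ∧ c = KZero.clSub (fun M : X.Modules => Coh.IsCoh M) G} := by
  exact (Groth.Agent.KZ.CycleClass.good n hF hsupp).2.2

end Groth.Agent.S5642
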