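import Groth.Statements.S5644
import Groth.Agent.S11753
import Groth.Agent.Pic13Lib.MixedPos
import Groth.Agent.Lib.DualRange
import Groth.Agent.Lib.CurveOnSurf
import Groth.Agent.PruferCoh.Closed
import Groth.Agent.PnCoh.Chow.Proper

set_option autoImplicit false
universe u
open CategoryTheory CategoryTheory.Limits AlgebraicGeometry
open Pic13

namespace Groth.Agent.S5644
open Groth.Agent Groth.Agent.H23 Groth.Agent.H23.PicMul
attribute [local instance] PicMul.clMonoid

theorem coeff_eq_zero : ∀ (r N : ℕ) (a : ℕ → ℤ),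
    (∀ m, N ≤ m → ∑ j ∈ Finset.range (r + 1), a j * ((m + j).choose j : ℤ) = 0) → ∀ j ≤ r, a j = 0
  | 0, N, a, h, j, hj => by
    obtain rfl : j = 0 := by omega
    simpa using h N le_rfl
  | r + 1, N, a, h, j, hj => by
    have hs : ∀ i ≤ r, a (i + 1) = 0 := coeff_eq_zero r (N + 1) (fun i => a (i + 1)) fun m hm => by
      obtain ⟨m, rfl⟩ : ∃ m', m = m' + 1 := ⟨m - 1, by omega⟩
      have h1 := h (m + 1) (by omega)
      have h2 := h m (by omega)
      rw [Finset.sum_range_succ'] at h1 h2
      simp only [Nat.choose_zero_right, Nat.cast_one] at h1 h2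
      have h3 : ∑ i ∈ Finset.range (r + 1), a (i + 1) * (((m + 1) + (i + 1)).choose (i + 1) : ℤ) -
          ∑ i ∈ Finset.range (r + 1), a (i + 1) * ((m + (i + 1)).choose (i + 1) : ℤ) = 0 := by linarith
      rw [← Finset.sum_sub_distrib] at h3
      refine (Finset.sum_congr rfl fun i _ => ?_).trans h3
      rw [show (m + 1) + (i + 1) = (m + 1 + i) + 1 by omega, show m + (i + 1) = m + 1 + i by omega,
        Nat.choose_succ_succ' (m + 1 + i) i]
      push_cast
      ring
    match j with
    | 0 =>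
      have h0 := h N le_rfl
      rw [Finset.sum_range_succ', Finset.sum_eq_zero fun i hi => by
        rw [hs i (by simpa [Nat.lt_succ_iff] using hi), zero_mul]] at h0
      simpa using h0
    | j + 1 => exact hs j (by omega)

theorem sum_choose_eq (I : ℕ → ℤ) (m : ℕ) : ∀ r : ℕ,
    ∑ j ∈ Finset.range r, (I j - I (j + 1)) * ((m + j).choose j : ℤ) + I r * ((m + r).choose r : ℤ) =
      ∑ i ∈ Finset.range (r + 1), ((m + i - 1).choose i : ℤ) * I i
  | 0 => by simp
  | r + 1 => by
    rw [Finset.sum_range_succ, Finset.sum_range_succ _ (r + 1), ← sum_choose_eq I m r,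
      show m + (r + 1) - 1 = m + r by omega, show m + (r + 1) = (m + r) + 1 by omega, Nat.choose_succ_succ' (m + r) r]
    push_cast
    ring

theorem coeff_eq (k : Type u) [Field k] (X : Scheme.{u}) [X.Over (Spec (CommRingCat.of k))]
    [IsProper (X ↘ Spec (CommRingCat.of k))] {n s : ℕ} (i : X ⟶ CohB1.ProjSpace n k)
    (hdim : topologicalKrullDim X = (s + 1 : ℕ)) {H' : X.Modules}
    (hH : PicF.IsInvertible (PruferCoh.oneX i))
    (hHH : Nonempty (CohB1.tensorMod (PruferCoh.oneX i) H' ≅ Coh.structureModule X))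
    {F : X.Modules} (hF : PicF.IsInvertible F) (a : Fin (s + 2) → ℤ)
    (ha : ∀ m : ℕ, FGA.eulerCharLE k X (Pic13.twistOn k i F m) (s + 1) =
      ∑ j : Fin (s + 2), a j * ((m + j).choose j : ℤ)) :
    a (Fin.last (s + 1)) = FGA.intNum k X (s + 1) (fun _ : Fin (s + 1) => H') F ∧
      a (Fin.castSucc (Fin.last s)) = FGA.intNum k X (s + 1) (fun _ : Fin s => H') F -
        FGA.intNum k X (s + 1) (fun _ : Fin (s + 1) => H') F := by
  haveI := CurveCohLib.isNoetherian_of_proper (k := k) (X := X)
  have hFc := AmpleVan.isCoh_invertible hF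
  have hsupp : topologicalKrullDim ↥(CohB1.support F) ≤ ((s + 1 : ℕ) : WithBot ℕ∞) :=
    (topologicalKrullDim_subspace_le X _).trans hdim.le
  let I : ℕ → ℤ := fun l => if l ≤ s + 1 then FGA.intNum k X (s + 1) (fun _ : Fin l => H') F else 0
  let a' : ℕ → ℤ := fun j => if h : j < s + 2 then a ⟨j, h⟩ else 0
  have key : ∀ m, ∑ j ∈ Finset.range (s + 1 + 1), (a' j - (I j - I (j + 1))) * ((m + j).choose j : ℤ) = 0 := fun m => by
    obtain ⟨e⟩ := PruferCoh.nonempty_pullback_twist i m
    have hTinv : PicF.IsInvertible (CohB1.tensorPow (PruferCoh.oneX i) m) := PicMul.isInvertible_tensorPow hH m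
    have hc : PicF.cl (Pic13.twistOn k i F m) = PicF.cl (CohB1.tensorMod (CohB1.tensorPow (PruferCoh.oneX i) m) F) := by
      show PicF.cl (CohB1.tensorMod F _) = _
      rw [cl_tensor, cl_tensor, mul_comm]
      exact congrArg (· * PicF.cl F) (cl_eq_iff.2 ⟨e⟩)
    obtain ⟨e2⟩ := cl_eq_iff.1 hc
    have h1 := S11753.result k X (s + 1) hdim.le (PruferCoh.oneX i) H' hH hHH F hFc (s + 1) hsupp m
    have h2 : FGA.eulerCharLE k X (Pic13.twistOn k i F m) (s + 1) =
        FGA.eulerCharLE k X (CohB1.tensorMod (CohB1.tensorPow (PruferCoh.oneX i) m) F) (s + 1) :=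
      Finset.sum_congr rfl fun q _ => by rw [(CurveCohLib.hhEquiv (k := k) e2 q).finrank_eq]
    rw [← h2, ha m] at h1
    have h3 : ∑ j ∈ Finset.range (s + 1 + 1), a' j * ((m + j).choose j : ℤ) =
        ∑ j : Fin (s + 2), a j * ((m + j).choose j : ℤ) := by
      rw [← Fin.sum_univ_eq_sum_range]
      exact Finset.sum_congr rfl fun j _ => by simp [a', j.2]
    have h4 := sum_choose_eq I m (s + 1)
    have h5 : ∑ i ∈ Finset.range (s + 1 + 1), ((m + i - 1).choose i : ℤ) * I i =
        ∑ i ∈ Finset.range (s + 1 + 1), ((m + i - 1).choose i : ℤ) * FGA.intNum k X (s + 1) (fun _ : Fin i => H') F :=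
      Finset.sum_congr rfl fun l hl => by simp [I, Nat.lt_succ_iff.1 (Finset.mem_range.1 hl)]
    have h6 : ∑ j ∈ Finset.range (s + 1 + 1), (I j - I (j + 1)) * ((m + j).choose j : ℤ) =
        ∑ i ∈ Finset.range (s + 1 + 1), ((m + i - 1).choose i : ℤ) * I i := by
      rw [Finset.sum_range_succ, show I (s + 1 + 1) = 0 from if_neg (by omega), sub_zero, h4]
    simp only [sub_mul] at h6 ⊢
    rw [Finset.sum_sub_distrib, h3, h1, ← h5, ← h6, sub_self]
  have h := coeff_eq_zero (s + 1) 0 _ fun m _ => key m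
  refine ⟨?_, ?_⟩
  · have h1 := h (s + 1) le_rfl
    simp [a', I] at h1
    rw [show Fin.last (s + 1) = ⟨s + 1, by omega⟩ from rfl]
    linarith
  · have h1 := h s (by omega)
    simp [a', I] at h1
    rw [show Fin.castSucc (Fin.last s) = ⟨s, by omega⟩ from rfl]
    linarith


/-- Let k be an algebraically closed field, X ⊆ P^n_k an integral closed subscheme of dimension r = s +
1, O_X(1) and O_X(-1) the restrictions of O(1) and O(-1), and L an invertible O_X-module with
inverse L'. Write the Hilbert polynomials in the binomial basis, χ(L(m)) = Σ_{j ≤ r} a_j C(m+j, j)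
and χ(O_X(m)) = Σ_{j ≤ r} e_j C(m+j, j) for m ≥ 0 (Euler characteristics in degrees ≤ r). Then (i)
a_r = e_r = (c₁(O_X(1))^r), the degree of X, and (ii) a_{r-1} - e_{r-1} = (c₁(L)·c₁(O_X(1))^{r-1}),
the degree of L. Intersection numbers are those of FGA.intNum, which takes the inverse modules L',
O_X(-1) as arguments. -/
theorem result (k : Type u) [Field k] [IsAlgClosed k] (n : ℕ) (X : Scheme.{u}) [X.Over (Spec (CommRingCat.of k))]
    (i : X ⟶ CohB1.ProjSpace n k) [IsClosedImmersion i] (hi : i ≫ CohB1.ProjSpace.toSpec n k = X ↘ Spec (CommRingCat.of k))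
    [IsIntegral X] (s : ℕ) (hdim : topologicalKrullDim X = (s + 1 : ℕ))
    (L L' : X.Modules) (hL : PicF.IsInvertible L) (hLL' : Nonempty (CohB1.tensorMod L L' ≅ Coh.structureModule X))
    (a e : Fin (s + 2) → ℤ)
    (ha : ∀ m : ℕ, FGA.eulerCharLE k X (Pic13.twistOn k i L m) (s + 1) = ∑ j : Fin (s + 2), a j * ((m + j).choose j : ℤ))
    (he : ∀ m : ℕ, FGA.eulerCharLE k X (Pic13.twistOn k i (Coh.structureModule X) m) (s + 1) =
      ∑ j : Fin (s + 2), e j * ((m + j).choose j : ℤ)) :
    a (Fin.last (s + 1)) = e (Fin.last (s + 1)) ∧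
      a (Fin.last (s + 1)) = FGA.intNum k X (s + 1)
        (fun _ : Fin (s + 1) => (Scheme.Modules.pullback i).obj (Twist.twistProjSpace n k (-1))) (Coh.structureModule X) ∧
      a (Fin.castSucc (Fin.last s)) - e (Fin.castSucc (Fin.last s)) = FGA.intNum k X (s + 1)
        (Matrix.vecCons L' (fun _ : Fin s => (Scheme.Modules.pullback i).obj (Twist.twistProjSpace n k (-1))))
        (Coh.structureModule X) := by
  haveI : IsProper (CohB1.ProjSpace.toSpec n k) := PnCoh.Chow.isProper_toSpec n _
  haveI : IsProper (X ↘ Spec (CommRingCat.of k)) := hi ▸ (inferInstance : IsProper (i ≫ CohB1.ProjSpace.toSpec n k))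
  haveI := CurveCohLib.isNoetherian_of_proper (k := k) (X := X)
  let H' : X.Modules := DualRange.tw i (-1)
  have hH : PicF.IsInvertible (PruferCoh.oneX i) := PicClLib.isInvertible_pullback i (DualRange.isInvertible_pn 1)
  have hH' : PicF.IsInvertible H' := PicClLib.isInvertible_pullback i (DualRange.isInvertible_pn (-1))
  have hHH : Nonempty (CohB1.tensorMod (PruferCoh.oneX i) H' ≅ Coh.structureModule X) := DualRange.nonempty_twist_inverse i 1
  have hO : Coh.IsCoh (Coh.structureModule X) := QCoh.isCoh_structureModule'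
  have hLc : Coh.IsCoh L := AmpleVan.isCoh_invertible hL
  have hL' : PicF.IsInvertible L' := (CurveOnSurf.isInvertible_of_inverse hL
    ⟨(PicMul.comm L' L).some ≪≫ hLL'.some⟩).1
  obtain ⟨hal, hal'⟩ := coeff_eq k X i hdim hH hHH hL a ha
  obtain ⟨hel, hel'⟩ := coeff_eq k X i hdim hH hHH InvX.isInvertible_structureModule e he
  have hle := TopInt.cohLe_structure (X := X) k hdim.le
  have htop : FGA.intNum k X (s + 1) (fun _ : Fin (s + 1) => H') L =
      FGA.intNum k X (s + 1) (fun _ : Fin (s + 1) => H') (Coh.structureModule X) := by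
    rw [IntAlt.intNum_eq_alt k hdim.le (fun _ => hH') hLc, IntAlt.intNum_eq_alt k hdim.le (fun _ => hH') hO,
      ← TopInt.alt_twist k (fun _ => hH') hL hle, IntAlt.alt_eq_sum, IntAlt.alt_eq_sum, cl_tensor, ← PicMul.one_def,
      one_mul]
  refine ⟨by rw [hal, hel, htop], by rw [hal, htop], ?_⟩
  rw [hal', hel', htop, sub_sub_sub_cancel_right]
  show _ = FGA.intNum k X (s + 1) (Fin.cons L' fun _ => H') (Coh.structureModule X)
  have hc : ∀ C : X.Modules, PicF.IsInvertible C → ∀ j, PicF.IsInvertible ((Fin.cons C fun _ : Fin s => H' : Fin (s + 1) → X.Modules) j) :=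
    fun C hC j => by
      induction j using Fin.cases with
      | zero => simpa using hC
      | succ j => simpa using hH'
  have hz : IntNumCycle.alt k (s + 1) (Fin.cons (CohB1.tensorMod L L') fun _ => H') (Coh.structureModule X) = 0 := by
    rw [IntAlt.alt_succ]
    simp only [Fin.cons_zero, Fin.cons_succ]
    rw [IntAlt.alt_eq_sum k (fun _ : Fin s => H') (Coh.structureModule X),
      IntAlt.alt_eq_sum k (fun _ : Fin s => H') (CohB1.tensorMod (Coh.structureModule X) _), cl_tensor,
      cl_eq_iff.2 hLL', ← PicMul.one_def, mul_one, sub_self]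
  rw [TopInt.alt_cons_mul k (fun _ => hH') hL hL' hle, IntAlt.alt_succ k (Fin.cons L fun _ => H')] at hz
  simp only [Fin.cons_zero, Fin.cons_succ] at hz
  have hOL : IntNumCycle.alt k s (fun _ : Fin s => H') (CohB1.tensorMod (Coh.structureModule X) L) =
      IntNumCycle.alt k s (fun _ : Fin s => H') L := by
    rw [IntAlt.alt_eq_sum, IntAlt.alt_eq_sum, cl_tensor, ← PicMul.one_def, one_mul]
  rw [hOL] at hz
  rw [IntAlt.intNum_eq_alt k hdim.le (fun _ => hH') hLc, IntAlt.intNum_eq_alt k hdim.le (fun _ => hH') hO,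
    IntAlt.intNum_eq_alt k hdim.le (hc L' hL') hO]
  linarith

end Groth.Agent.S5644
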