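import Groth.Statements.S5654
import Groth.Agent.GrpSchLib.AffineKer
import Groth.Agent.GrpSchLib.Affinization
import Mathlib.AlgebraicGeometry.QuasiAffine
-- import your own Groth.Agent.* helpers here

set_option autoImplicit false
universe u
open CategoryTheory MonoidalCategory CartesianMonoidalCategory MonObj GrpObj AlgebraicGeometry
open GrpSch

namespace Groth.Agent.S5654

/-- Let k be a field, P and Q group schemes locally of finite type over k and f : P ⟶ Q a homomorphism
of k-group schemes whose underlying morphism of schemes is quasi-affine. Then f is affine. -/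
theorem result (k : Type u) [Field k] (P Q : Over (Spec (CommRingCat.of k))) [GrpObj P] [GrpObj Q]
    [LocallyOfFiniteType P.hom] [LocallyOfFiniteType Q.hom] (f : P ⟶ Q) [IsMonHom f] (hf : Mor2.IsQuasiAffine f.left) :
    IsAffineHom f.left := by
  haveI : QuasiCompact f.left := hf.1
  refine Groth.Agent.GrpSchLib.AffineKer.isAffineHom_of_kernel f ?_
  haveI : IsSeparated Q.hom := Groth.Agent.GrpSchLib.AntiAffine.isSeparated_grp Q
  obtain ⟨N, _, n, hn, hnc, -, hk⟩ := Groth.Agent.GrpSchLib.exists_kernel f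
  haveI := hn; haveI := hnc
  have hsq := Groth.Agent.GrpSchLib.HomKer.kernel_square n hk
  haveI : LocallyOfFiniteType N.hom := by rw [← Over.w n]; infer_instance
  haveI : QuasiCompact N.hom := MorphismProperty.of_isPullback (P := @QuasiCompact) hsq ‹_›
  haveI : CompactSpace ↥N.left := (quasiCompact_iff_compactSpace N.hom).mp inferInstance
  obtain ⟨V, hV, heV, -⟩ := exists_isAffineOpen_mem_and_subset
    (show η[Q].left (IsLocalRing.closedPoint k) ∈ (⊤ : Q.left.Opens) from trivial)
  haveI : (f.left ⁻¹ᵁ V).toScheme.IsQuasiAffine := hf.2 V hV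
  have hr : ∀ x : ↥N.left, n.left x ∈ f.left ⁻¹ᵁ V := fun x => by
    show f.left (n.left x) ∈ V
    rw [← Scheme.Hom.comp_apply, hsq.w, Scheme.Hom.comp_apply,
      @Subsingleton.elim ↥(Spec (CommRingCat.of k)) inferInstance (N.hom x) (IsLocalRing.closedPoint k)]
    exact heV
  let g := IsOpenImmersion.lift (f.left ⁻¹ᵁ V).ι n.left (by
    rintro _ ⟨x, rfl⟩
    exact ⟨⟨n.left x, hr x⟩, rfl⟩)
  haveI : IsImmersion g := by
    haveI : IsImmersion (g ≫ (f.left ⁻¹ᵁ V).ι) := by
      rw [show g ≫ (f.left ⁻¹ᵁ V).ι = n.left from IsOpenImmersion.lift_fac _ _ _]; infer_instance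
    exact IsImmersion.of_comp g (f.left ⁻¹ᵁ V).ι
  haveI : N.left.IsQuasiAffine := Scheme.IsQuasiAffine.of_isImmersion g
  haveI : Surjective N.left.toSpecΓ := (Groth.Agent.GrpSchLib.Affinization.toSpecΓ_flat_surjective N).1
  haveI : IsIso N.left.toSpecΓ :=
    (isIso_iff_isOpenImmersion_and_epi_base _).mpr ⟨inferInstance,
      (TopCat.epi_iff_surjective _).mpr N.left.toSpecΓ.surjective⟩
  haveI : IsAffine N.left := IsAffine.of_isIso N.left.toSpecΓ
  haveI : IsAffineHom N.hom := inferInstance
  rw [← hsq.isoPullback_inv_snd]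
  infer_instance

end Groth.Agent.S5654
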