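import Groth.Statements.S5656
import Mathlib.Algebra.Polynomial.Roots
import Mathlib.Analysis.SpecificLimits.Basic
import Mathlib.Topology.Algebra.Polynomial
import Mathlib.Algebra.Polynomial.Smeval

set_option autoImplicit false
universe u
open W4sga6xxiii

namespace Groth.Agent.S5656

/-- Let G be an abelian group and G' ⊆ G a subgroup which is divisible by some prime number p (every
element of G' is p times an element of G') and such that G/G' is a torsion group. Then every
polynomial map f : G → ℚ (admitting binomial expansions f(Σ n_i x_i) = Σ_k Π_i C(n_i, k_i) y_k along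
every finite sequence x) which takes only integer values is constant. -/
theorem result {G : Type u} [AddCommGroup G] (G' : AddSubgroup G)
    (p : ℕ) (hp : p.Prime) (hdiv : ∀ x ∈ G', ∃ y ∈ G', p • y = x) (htor : ∀ x : G, ∃ n : ℤ, n ≠ 0 ∧ n • x ∈ G')
    (f : G → ℚ) (hf : W4sga6xxiii.IsPolyMap f) (hint : ∀ x, ∃ z : ℤ, f x = z) (x : G) : f x = f 0 := by
  classical
  -- `n ↦ f (a + n • h)` and `n ↦ f (n • h)` are polynomial functions
  have hline : ∀ a h : G, ∃ P : Polynomial ℚ, ∀ n : ℤ, f (a + n • h) = P.eval (n : ℚ) := by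
    intro a h
    obtain ⟨m, y, -, hy⟩ := hf 2 ![a, h]
    refine ⟨∑ k : Fin 2 → Fin (m + 1), Polynomial.C (((Ring.choose (1 : ℤ) (k 0 : ℕ) : ℤ) : ℚ) * y k) *
      (Polynomial.C (((k 1 : ℕ).factorial : ℚ)⁻¹) * (descPochhammer ℤ (k 1 : ℕ)).map (Int.castRingHom ℚ)), fun n => ?_⟩
    have := hy ![1, n]
    simp only [Fin.sum_univ_two, Fin.prod_univ_two, Matrix.cons_val_zero, Matrix.cons_val_one, one_zsmul] at this
    rw [this, Polynomial.eval_finsetSum]
    refine Finset.sum_congr rfl fun k _ => ?_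
    have hc : ((Ring.choose n (k 1 : ℕ) : ℤ) : ℚ) =
        ((k 1 : ℕ).factorial : ℚ)⁻¹ * ((descPochhammer ℤ (k 1 : ℕ)).map (Int.castRingHom ℚ)).eval (n : ℚ) := by
      have h1 := Ring.map_choose (Int.castRingHom ℚ) n (k 1 : ℕ)
      simp only [eq_intCast] at h1
      rw [h1, Ring.choose_eq_smul, smul_eq_mul, Polynomial.eval_map, ← algebraMap_int_eq ℚ,
        ← Polynomial.aeval_def, Polynomial.aeval_eq_smeval]
    rw [zsmul_eq_mul, Int.cast_mul, hc, Polynomial.eval_mul, Polynomial.eval_mul, Polynomial.eval_C, Polynomial.eval_C]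
    ring
  have hG' : ∀ z g : G, g ∈ G' → f (z + g) = f z := by
    intro z g hg
    have hroot : ∀ j : ℕ, ∃ h : G, (p ^ j) • h = g := by
      have : ∀ j : ℕ, ∀ g ∈ G', ∃ h ∈ G', (p ^ j) • h = g := by
        intro j
        induction j with
        | zero => intro g hg; exact ⟨g, hg, by simp⟩
        | succ j ih =>
          intro g hg
          obtain ⟨h, hh, rfl⟩ := ih g hg
          obtain ⟨h', hh', rfl⟩ := hdiv h hh
          exact ⟨h', hh', by rw [pow_succ, mul_smul]⟩
      exact fun j => let ⟨h, _, e⟩ := this j g hg; ⟨h, e⟩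
    obtain ⟨P, hP⟩ := hline z g
    have hval : ∀ j : ℕ, ∃ c : ℤ, P.eval (((p : ℚ) ^ j)⁻¹) = c := by
      intro j
      obtain ⟨h, rfl⟩ := hroot j
      obtain ⟨Q, hQ⟩ := hline z h
      have hp0 : ((p : ℚ) ^ j) ≠ 0 := pow_ne_zero _ (Nat.cast_ne_zero.2 hp.ne_zero)
      have hPQ : P = Q.comp (Polynomial.C ((p : ℚ) ^ j) * Polynomial.X) := by
        apply Polynomial.eq_of_infinite_eval_eq
        refine Set.Infinite.mono ?_ (Set.infinite_range_of_injective (f := fun n : ℤ => (n : ℚ)) Int.cast_injective)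
        rintro _ ⟨n, rfl⟩
        show P.eval (n : ℚ) = _
        rw [← hP, Polynomial.eval_comp, Polynomial.eval_mul, Polynomial.eval_C, Polynomial.eval_X,
          ← natCast_zsmul, ← mul_smul, hQ]
        push_cast
        ring_nf
      obtain ⟨c, hc⟩ := hint (z + h)
      refine ⟨c, ?_⟩
      rw [hPQ, Polynomial.eval_comp, Polynomial.eval_mul, Polynomial.eval_C, Polynomial.eval_X,
        mul_inv_cancel₀ hp0, ← hc]
      have := hQ 1
      rw [one_zsmul, Int.cast_one] at this
      exact this.symm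
    obtain ⟨c0, hc0⟩ := hint z
    have hP0 : P.eval 0 = c0 := by
      have := hP 0
      rw [zero_zsmul, add_zero, Int.cast_zero] at this
      rw [← this, hc0]
    have hlim : Filter.Tendsto (fun j : ℕ => ((p : ℚ) ^ j)⁻¹) Filter.atTop (nhds 0) := by
      simp_rw [← inv_pow]
      exact tendsto_pow_atTop_nhds_zero_of_lt_one (by positivity) (inv_lt_one_of_one_lt₀ (by exact_mod_cast hp.one_lt))
    have hlim2 : Filter.Tendsto (fun j : ℕ => P.eval ((p : ℚ) ^ j)⁻¹) Filter.atTop (nhds (c0 : ℚ)) :=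
      hP0 ▸ (P.continuous.tendsto 0).comp hlim
    have hev : ∀ᶠ j in Filter.atTop, P.eval ((p : ℚ) ^ j)⁻¹ = c0 := by
      filter_upwards [hlim2.eventually (Ioo_mem_nhds (show (c0 : ℚ) - 1 < c0 by linarith) (show (c0 : ℚ) < c0 + 1 by linarith))] with j hj
      obtain ⟨c, hc⟩ := hval j
      rw [hc] at hj ⊢
      obtain ⟨h1, h2⟩ := hj
      have e1 : c0 - 1 < c := by exact_mod_cast h1
      have e2 : c < c0 + 1 := by exact_mod_cast h2
      exact_mod_cast (show c = c0 by omega)
    obtain ⟨J, hJ⟩ := Filter.eventually_atTop.1 hev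
    have hconst : P = Polynomial.C (c0 : ℚ) := by
      apply Polynomial.eq_of_infinite_eval_eq
      refine Set.Infinite.mono ?_ (Set.infinite_range_of_injective (f := fun j : ℕ => ((p : ℚ) ^ (j + J))⁻¹) ?_)
      · rintro _ ⟨j, rfl⟩
        show P.eval _ = (Polynomial.C (c0 : ℚ)).eval _
        rw [Polynomial.eval_C]; exact hJ _ (Nat.le_add_left J j)
      · intro i j hij
        have := inv_injective hij
        have := Nat.pow_right_injective hp.two_le (show p ^ (i + J) = p ^ (j + J) by exact_mod_cast this)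
        omega
    have h1 := hP 1
    rw [one_zsmul, hconst, Polynomial.eval_C] at h1
    rw [h1, ← hc0]
  obtain ⟨m, hm0, hmx⟩ := htor x
  obtain ⟨P, hP⟩ := hline 0 x
  simp only [zero_add] at hP
  have hconst : P = Polynomial.C (f 0) := by
    apply Polynomial.eq_of_infinite_eval_eq
    refine Set.Infinite.mono ?_ (Set.infinite_range_of_injective (f := fun k : ℤ => ((k * m : ℤ) : ℚ)) ?_)
    · rintro _ ⟨k, rfl⟩
      show P.eval _ = (Polynomial.C (f 0)).eval _
      rw [Polynomial.eval_C, ← hP, mul_smul]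
      have := hG' 0 (k • m • x) (G'.zsmul_mem hmx k)
      rwa [zero_add] at this
    · exact fun i j hij => mul_right_cancel₀ hm0 (Int.cast_injective hij)
  have h1 := hP 1
  rwa [one_zsmul, hconst, Polynomial.eval_C] at h1

end Groth.Agent.S5656
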