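import Groth.Statements.S5657
import Mathlib

set_option autoImplicit false
universe u
open TensorProduct
open W4sga6xxiii

namespace Groth.Agent.S5657

/-- Let A be a commutative ring, I an ideal of A with I^{m+1} = 0, and P ⊆ Aˣ the subgroup of units of
the form 1 + y with y ∈ I. Then the map P → A ⊗_ℤ ℚ, x ↦ x ⊗ 1, is a polynomial map of degree ≤ m on
the abelian group P (written additively): along every finite sequence x_1, …, x_r in P one has
x_1^{n_1}⋯x_r^{n_r} ⊗ 1 = Σ_k Π_i C(n_i, k_i) y_k with y_k = 0 whenever k_1 + ⋯ + k_r > m. -/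
theorem result (A : Type u) [CommRing A] (I : Ideal A) (m : ℕ) (hI : I ^ (m + 1) = ⊥)
    (P : Subgroup Aˣ) (hP : ∀ u : Aˣ, u ∈ P ↔ (u : A) - 1 ∈ I) :
    W4sga6xxiii.IsPolyMapLE (fun u : Additive P => (((Additive.toMul u : P) : Aˣ) : A) ⊗ₜ[ℤ] (1 : ℚ)) m := by
  intro r x
  let z : Fin r → A := fun i => (((Additive.toMul (x i) : P) : Aˣ) : A) - 1
  have hz : ∀ i, z i ∈ I := fun i => (hP _).1 (Additive.toMul (x i) : P).2
  have hpow : ∀ (i) (n : ℤ), ((((Additive.toMul (x i) : P) : Aˣ) ^ n : Aˣ) : A) =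
      ∑ j : Fin (m + 1), (Ring.choose n (j : ℕ)) • z i ^ (j : ℕ) := by
    intro i
    set w : Aˣ := ((Additive.toMul (x i) : P) : Aˣ) with hw
    have hwz : (w : A) = 1 + z i := by simp [z, hw]
    have hz0 : z i ^ (m + 1) = 0 := by
      have := Ideal.pow_mem_pow (hz i) (m + 1)
      rwa [hI, Ideal.mem_bot] at this
    let S : ℤ → A := fun n => ∑ j ∈ Finset.range (m + 1), (Ring.choose n j) • z i ^ j
    have hS : ∀ n, S (n + 1) = S n * w := by
      intro n
      have h1 : S n * w = (∑ j ∈ Finset.range (m + 1), Ring.choose n j • z i ^ j) +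
          ∑ j ∈ Finset.range m, Ring.choose n j • z i ^ (j + 1) := by
        simp only [S, hwz, mul_add, mul_one]
        congr 1
        rw [Finset.sum_mul, Finset.sum_range_succ, smul_mul_assoc, ← pow_succ, hz0, smul_zero, add_zero]
        exact Finset.sum_congr rfl fun j _ => by rw [smul_mul_assoc, ← pow_succ]
      rw [h1]
      simp only [S]
      rw [Finset.sum_range_succ' _ m, Finset.sum_range_succ' _ m]
      simp only [Ring.choose_succ_succ, add_smul, Finset.sum_add_distrib, Ring.choose_zero_right]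
      abel
    have h0 : S 0 = 1 := by
      simp only [S]
      rw [Finset.sum_range_succ', Finset.sum_eq_zero fun j _ => ?_]
      · simp
      · rw [Ring.choose_zero_pos ℤ (Nat.succ_pos j), zero_smul]
    have key : ∀ n : ℤ, ((w ^ n : Aˣ) : A) = S n := by
      intro n
      induction n with
      | zero => simp [h0]
      | succ n ih => rw [hS, zpow_add_one, Units.val_mul, ih]
      | pred n ih =>
        have h1 := hS (-(n : ℤ) - 1)
        rw [sub_add_cancel, ← ih] at h1
        rw [← Units.mul_left_inj w, ← h1, ← Units.val_mul, zpow_sub_one, inv_mul_cancel_right]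
    intro n
    rw [key]
    exact Finset.sum_range _
  refine ⟨fun k => (∏ i, z i ^ (k i : ℕ)) ⊗ₜ[ℤ] (1 : ℚ), fun k hk => ?_, fun n => ?_⟩
  · have h : ∏ i, z i ^ (k i : ℕ) ∈ I ^ (∑ i, (k i : ℕ)) := by
      rw [← Finset.prod_pow_eq_pow_sum]
      exact Ideal.prod_mem_prod fun i _ => Ideal.pow_mem_pow (hz i) _
    have h' := Ideal.pow_le_pow_right hk h
    rw [hI, Ideal.mem_bot] at h'
    simp only [h', TensorProduct.zero_tmul]
  · have h : (((Additive.toMul (∑ i, n i • x i) : P) : Aˣ) : A) =
        ∏ i, ∑ j : Fin (m + 1), (Ring.choose (n i) (j : ℕ)) • z i ^ (j : ℕ) := by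
      simp only [toMul_sum, toMul_zsmul]
      rw [← Subgroup.coe_subtype, map_prod, Units.coe_prod]
      exact Finset.prod_congr rfl fun i _ => by rw [← hpow]; rfl
    show (((Additive.toMul (∑ i, n i • x i) : P) : Aˣ) : A) ⊗ₜ[ℤ] (1 : ℚ) = _
    rw [h, Fintype.prod_sum, TensorProduct.sum_tmul]
    refine Finset.sum_congr rfl fun k _ => ?_
    rw [TensorProduct.smul_tmul']
    congr 1
    simp only [zsmul_eq_mul, Finset.prod_mul_distrib, Int.cast_prod]

end Groth.Agent.S5657
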