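import Groth.Statements.S5658
import Mathlib
import Groth.Agent.CAlgOdd.GLElim
import Groth.Agent.CAlgOdd.GLComm

set_option autoImplicit false
universe u
open CAlg

namespace Groth.Agent.S5658

/-- On the big étale site of a scheme the sheaf of commutator subgroups of Gl(n) is Sl(n) = Ker(det).
Concretely: let A be a commutative ring, n ≥ 0, s ∈ SL_n(A) and p a prime ideal of A. Then there are
an étale A-algebra A' with a prime ideal lying over p such that the image of s in GL_n(A') lies in
the commutator subgroup of GL_n(A'). (The inclusion of commutators in SL_n being clear, this is the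
content of the statement.) -/
theorem result (A : Type u) [CommRing A] (n : ℕ)
    (s : Matrix.SpecialLinearGroup (Fin n) A) (p : PrimeSpectrum A) :
    ∃ (A' : Type u) (_ : CommRing A') (_ : Algebra A A'), Algebra.Etale A A' ∧
      (∃ q : PrimeSpectrum A', q.asIdeal.comap (algebraMap A A') = p.asIdeal) ∧
      (Matrix.GeneralLinearGroup.map (algebraMap A A')) (Matrix.SpecialLinearGroup.toGL s) ∈
        commutator (Matrix.GeneralLinearGroup (Fin n) A') := by
  classical
  let P := p.asIdeal
  let g : Matrix.GeneralLinearGroup (Fin n) A := Matrix.SpecialLinearGroup.toGL s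
  have hg : Matrix.GeneralLinearGroup.det g = 1 := Units.ext s.2
  obtain ⟨f, hf, hmem⟩ := Groth.Agent.CAlgOdd.GLComm.exists_away_mem P g hg
  have lift : ∀ (e : A), e ∉ P → ∃ (B : Type u) (_ : CommRing B) (_ : Algebra A B),
      Algebra.Etale A B ∧ IsUnit (algebraMap A B e) ∧
      (∃ q : PrimeSpectrum B, q.asIdeal.comap (algebraMap A B) = P) ∧
      Matrix.GeneralLinearGroup.map (algebraMap A B) g ∈ Groth.Agent.CAlgOdd.GLComm.K (Fin n) B := by
    intro e he
    have hfe : f * e ∉ P := fun h => (Ideal.IsPrime.mem_or_mem p.isPrime h).elim hf he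
    haveI : Algebra.Etale A (Localization.Away (f * e)) := Algebra.Etale.of_isLocalizationAway (f * e)
    obtain ⟨ψ⟩ := Groth.Agent.CAlgOdd.GLComm.exists_algHom
      (Groth.Agent.CAlgOdd.GLComm.isUnit_away_of_dvd (f := f * e) (dvd_mul_right f e))
    obtain ⟨φ⟩ := Groth.Agent.CAlgOdd.GLComm.exists_algHom (f := f * e)
      (IsLocalization.map_units (Localization.AtPrime P) (⟨f * e, hfe⟩ : P.primeCompl))
    refine ⟨Localization.Away (f * e), inferInstance, inferInstance, inferInstance,
      Groth.Agent.CAlgOdd.GLComm.isUnit_away_of_dvd (dvd_mul_left e f), ?_, ?_⟩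
    · refine ⟨⟨(IsLocalRing.maximalIdeal (Localization.AtPrime P)).comap φ.toRingHom,
        Ideal.IsPrime.comap _⟩, ?_⟩
      rw [Ideal.comap_comap]
      erw [φ.comp_algebraMap]
      exact IsLocalization.AtPrime.comap_maximalIdeal _ P
    · have := Groth.Agent.CAlgOdd.GLComm.K_le_comap ψ.toRingHom hmem
      rw [Subgroup.mem_comap, Groth.Agent.CAlgOdd.GLComm.map_map] at this
      erw [ψ.comp_algebraMap] at this
      exact this
  by_cases h2 : (2 : A) ∈ P
  · have h3 : (3 : A) ∉ P := fun h3 => p.isPrime.ne_top ((Ideal.eq_top_iff_one _).mpr (by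
      have := P.sub_mem h3 h2
      norm_num at this
      exact this))
    obtain ⟨B, iB, iAB, hB, hu, ⟨q, hq⟩, hK⟩ := lift 3 h3
    obtain ⟨v, hv⟩ := hu.exists_right_inv
    rw [map_ofNat] at hv
    let S := Groth.Agent.CAlgOdd.GLComm.sixth B v hv
    letI : Algebra A S.Ring := ((algebraMap B S.Ring).comp (algebraMap A B)).toAlgebra
    haveI : IsScalarTower A B S.Ring := IsScalarTower.of_algebraMap_eq fun _ => rfl
    obtain ⟨Q, hQ⟩ := Groth.Agent.CAlgOdd.GLComm.exists_prime_over_sixth B v hv q.asIdeal
    refine ⟨S.Ring, inferInstance, inferInstance, Algebra.Etale.comp A B S.Ring, ⟨Q, ?_⟩, ?_⟩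
    · rw [IsScalarTower.algebraMap_eq A B S.Ring, ← Ideal.comap_comap, hQ, hq]
    · have hX : S.X * (1 - S.X) = 1 := by
        have := S.hasMap_X.1
        rw [show S.f = Polynomial.X ^ 2 - Polynomial.X + 1 from rfl, map_add, map_sub, map_pow,
          Polynomial.aeval_X, map_one] at this
        linear_combination -this
      have hX' : IsUnit (S.X - 1) := IsUnit.of_mul_eq_one (-S.X) (by linear_combination hX)
      refine Groth.Agent.CAlgOdd.GLComm.K_le_commutator (IsUnit.of_mul_eq_one _ hX) hX' ?_
      have := Groth.Agent.CAlgOdd.GLComm.K_le_comap (algebraMap B S.Ring) hK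
      rw [Subgroup.mem_comap, Groth.Agent.CAlgOdd.GLComm.map_map] at this
      exact this
  · obtain ⟨B, iB, iAB, hB, hu, hq, hK⟩ := lift 2 h2
    refine ⟨B, iB, iAB, hB, hq, ?_⟩
    rw [map_ofNat] at hu
    exact Groth.Agent.CAlgOdd.GLComm.K_le_commutator hu (by norm_num) hK

end Groth.Agent.S5658
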