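import Groth.Statements.S5659
import Mathlib
import Groth.Agent.CAlgOdd.GLElim
import Groth.Agent.CAlgOdd.GLChar

set_option autoImplicit false
universe u
open CAlg

namespace Groth.Agent.S5659

/-- Every homomorphism of group sheaves Gl(n_1) × ⋯ × Gl(n_r) → G_m is (s_1, …, s_r) ↦ det(s_1)^{m_1} ⋯
det(s_r)^{m_r} with locally constant integers m_i uniquely determined by it. Concretely, over a
commutative ring R whose prime spectrum is connected and for ranks n_i ≥ 1: every family of group
homomorphisms α_B : GL_{n_1}(B) × ⋯ × GL_{n_r}(B) → Bˣ, one for each commutative R-algebra B and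
natural in B, is given by α_B(s) = Π_i det(s_i)^{m_i} for a unique m ∈ ℤ^r. (The published statement
allows ranks n_i ≥ 0; uniqueness of m_i needs n_i ≥ 1, since Gl(0) is trivial.) -/
theorem result (R : Type u) [CommRing R] [ConnectedSpace (PrimeSpectrum R)]
    (r : ℕ) (n : Fin r → ℕ) (hn : ∀ i, 0 < n i)
    (α : ∀ (B : Type u) [CommRing B] [Algebra R B], (∀ i, Matrix.GeneralLinearGroup (Fin (n i)) B) →* Bˣ)
    (hα : ∀ (B C : Type u) [CommRing B] [Algebra R B] [CommRing C] [Algebra R C] (φ : B →ₐ[R] C)
      (s : ∀ i, Matrix.GeneralLinearGroup (Fin (n i)) B),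
      α C (fun i => Matrix.GeneralLinearGroup.map φ.toRingHom (s i)) = Units.map (φ.toRingHom : B →* C) (α B s)) :
    ∃! m : Fin r → ℤ, ∀ (B : Type u) [CommRing B] [Algebra R B] (s : ∀ i, Matrix.GeneralLinearGroup (Fin (n i)) B),
      α B s = ∏ i, Matrix.GeneralLinearGroup.det (s i) ^ (m i) := by
  classical
  haveI : Nontrivial R := by
    rw [← PrimeSpectrum.nonempty_iff_nontrivial]; infer_instance
  have hsingle : ∀ (B C : Type u) [CommRing B] [CommRing C] (φ : B →+* C) (i : Fin r)
      (g : Matrix.GeneralLinearGroup (Fin (n i)) B),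
      (fun j => Matrix.GeneralLinearGroup.map φ
          ((Pi.mulSingle i g : ∀ j, Matrix.GeneralLinearGroup (Fin (n j)) B) j)) =
        Pi.mulSingle i (Matrix.GeneralLinearGroup.map φ g) := by
    intro B C _ _ φ i g
    funext j
    exact Pi.apply_mulSingle (fun j => Matrix.GeneralLinearGroup.map (n := Fin (n j)) φ)
      (fun _ => map_one _) i g j
  choose m hm using fun i => Groth.Agent.CAlgOdd.GLChar.exists_det_zpow (R := R) (hn i)
    (fun B _ _ => (α B).comp
      (MonoidHom.mulSingle (fun j => Matrix.GeneralLinearGroup (Fin (n j)) B) i))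
    (fun B C _ _ _ _ φ g => by
      simp only [MonoidHom.comp_apply, MonoidHom.mulSingle_apply]
      rw [← hα B C φ, hsingle])
  refine ⟨m, fun B _ _ s => ?_, fun m' hm' => funext fun i => ?_⟩
  · let F : (∀ j, Matrix.GeneralLinearGroup (Fin (n j)) B) →* Bˣ :=
      { toFun := fun s => ∏ i, Matrix.GeneralLinearGroup.det (s i) ^ (m i)
        map_one' := by simp
        map_mul' := fun a b => by simp [mul_zpow, Finset.prod_mul_distrib] }
    suffices α B = F from DFunLike.congr_fun this s
    refine MonoidHom.pi_ext fun i x => ?_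
    have h1 := hm i B x
    simp only [MonoidHom.comp_apply, MonoidHom.mulSingle_apply] at h1
    rw [h1]
    change _ = ∏ j, Matrix.GeneralLinearGroup.det
      ((Pi.mulSingle i x : ∀ j, Matrix.GeneralLinearGroup (Fin (n j)) B) j) ^ (m j)
    rw [Finset.prod_eq_single i (fun j _ hj => by simp [Pi.mulSingle_eq_of_ne hj]) (by simp),
      Pi.mulSingle_eq_same]
  · let k : Fin (n i) := ⟨0, hn i⟩
    let x : Matrix.GeneralLinearGroup (Fin (n i)) (LaurentPolynomial R) :=
      Groth.Agent.CAlgOdd.GLElim.dg (Pi.mulSingle k (Groth.Agent.CAlgOdd.GLChar.Tu R))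
    have hdet : Matrix.GeneralLinearGroup.det x = Groth.Agent.CAlgOdd.GLChar.Tu R := by
      rw [Groth.Agent.CAlgOdd.GLElim.det_dg, Fintype.prod_pi_mulSingle']
    have h1 := hm i (LaurentPolynomial R) x
    simp only [MonoidHom.comp_apply, MonoidHom.mulSingle_apply] at h1
    have h2 := hm' (LaurentPolynomial R) (Pi.mulSingle i x)
    rw [Finset.prod_eq_single i (fun j _ hj => by simp [Pi.mulSingle_eq_of_ne hj]) (by simp),
      Pi.mulSingle_eq_same] at h2
    have h3 := congrArg Units.val (h2.symm.trans h1)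
    rw [hdet, Groth.Agent.CAlgOdd.GLChar.Tu_zpow, Groth.Agent.CAlgOdd.GLChar.Tu_zpow] at h3
    have h4 := congrArg (fun p : LaurentPolynomial R => p.coeff (m' i)) h3
    simp only [LaurentPolynomial.T, AddMonoidAlgebra.coeff_single, Finsupp.single_eq_same] at h4
    by_contra hne
    rw [Finsupp.single_eq_of_ne' (Ne.symm hne)] at h4
    exact one_ne_zero h4

end Groth.Agent.S5659
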