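import Groth.Statements.S5662
import Groth.Agent.PinchPO7.HomGlue
-- import your own Groth.Agent.* helpers here

set_option autoImplicit false
set_option backward.isDefEq.respectTransparency false
set_option backward.isDefEq.respectTransparency.types false
universe u
open CategoryTheory CategoryTheory.Limits AlgebraicGeometry
open FlatMor

namespace Groth.Agent.S5662

open AlgebraicGeometry CategoryTheory Limits in
theorem secGlue {X Y : Scheme.{u}} (f : X ⟶ Y)
    (hU : ∀ U : Y.Opens, (pullback.fst f f) ⁻¹ᵁ (f ⁻¹ᵁ U) = (pullback.snd f f) ⁻¹ᵁ (f ⁻¹ᵁ U))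
    (hinj : ∀ U : Y.Opens, Function.Injective (f.app U))
    (hex : ∀ (U : Y.Opens) (a : Γ(X, f ⁻¹ᵁ U)),
      (pullback.fst f f).app (f ⁻¹ᵁ U) a =
        ((pullback f f).presheaf.map (eqToHom (hU U)).op) ((pullback.snd f f).app (f ⁻¹ᵁ U) a) →
      a ∈ Set.range (f.app U)) :
    PinchPO7.SecGlue (pullback.fst f f) (pullback.snd f f) f f := by
  intro W
  refine ⟨fun s t h _ => hinj W h, fun p => ?_⟩
  obtain ⟨⟨a, b⟩, hp⟩ := p
  let p₁ := pullback.fst f f
  let p₂ := pullback.snd f f
  let Z := PinchPO7.zOpen p₁ p₂ f f W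
  change p₁.appLE (f ⁻¹ᵁ W) Z inf_le_left a = p₂.appLE (f ⁻¹ᵁ W) Z inf_le_right b at hp
  have hZ : p₁ ⁻¹ᵁ (f ⁻¹ᵁ W) ≤ Z := le_inf le_rfl (hU W).le
  let Δ := pullback.diagonal f
  have hΔ : f ⁻¹ᵁ W ≤ Δ ⁻¹ᵁ Z := fun x hx => by
    have h1 : p₁ (Δ x) = x := by
      rw [← Scheme.Hom.comp_apply, pullback.diagonal_fst]; rfl
    have h2 : p₂ (Δ x) = x := by
      rw [← Scheme.Hom.comp_apply, pullback.diagonal_snd]; rfl
    exact ⟨show p₁ (Δ x) ∈ f ⁻¹ᵁ W from h1.symm ▸ hx, show p₂ (Δ x) ∈ f ⁻¹ᵁ W from h2.symm ▸ hx⟩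
  have hab : a = b := by
    have h := congrArg (Δ.appLE Z (f ⁻¹ᵁ W) hΔ) hp
    rw [← CommRingCat.comp_apply, ← CommRingCat.comp_apply, Scheme.Hom.appLE_comp_appLE,
      Scheme.Hom.appLE_comp_appLE] at h
    have e : ∀ (q : X ⟶ X) (hq : q = 𝟙 X) (hle : f ⁻¹ᵁ W ≤ q ⁻¹ᵁ (f ⁻¹ᵁ W)) (c : Γ(X, f ⁻¹ᵁ W)),
        q.appLE (f ⁻¹ᵁ W) (f ⁻¹ᵁ W) hle c = c := by
      intro q hq hle c
      subst hq
      simp [Scheme.Hom.appLE]
      exact congrArg (fun φ => φ c) (X.presheaf.map_id _)
    rwa [e _ (pullback.diagonal_fst f), e _ (pullback.diagonal_snd f)] at h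
  subst hab
  have h := congrArg (Groth.Agent.AModX.resR hZ) hp
  obtain ⟨s, hs⟩ := hex W a (by
    simp only [Scheme.Hom.appLE, CommRingCat.comp_apply, Groth.Agent.AModX.resR,
      Groth.Agent.QCoh.ringMap_map] at h
    rw [Groth.Agent.QCoh.ringMap_id] at h
    exact h)
  exact ⟨s, hs, hs⟩

/-- Let f : X ⟶ Y be a morphism of schemes, p₁, p₂ : X ×_Y X ⟶ X the projections and g = p₁ ≫ f. Assume
that the sequence O_Y → f_*O_X ⇉ g_*O_{X ×_Y X} is exact, i.e. on every open U ⊆ Y the sections of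
O_Y are exactly the sections of O_X over f⁻¹U whose two pullbacks to g⁻¹U agree (hypotheses hinj,
hex; hU is the bookkeeping identity of the two preimage opens). Then f is a morphism of descent for
finite locally free modules: for finite locally free O_Y-modules L and M, every morphism φ : f^*L ⟶
f^*M whose pullbacks along p₁ and p₂ agree (compared through the canonical isomorphisms p_i^* f^* ≅
(p_i ≫ f)^* and p₁ ≫ f = p₂ ≫ f) is f^*ψ for a unique ψ : L ⟶ M. (The published statement is made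
under further standing hypotheses (a surjective morphism between schemes proper and of finite
presentation over an integral Noetherian base, with flatness conditions), of which its proof uses
only the exactness above; this row assumes only that exactness.) -/
theorem result {X Y : Scheme.{u}} (f : X ⟶ Y)
    (hU : ∀ U : Y.Opens, (pullback.fst f f) ⁻¹ᵁ (f ⁻¹ᵁ U) = (pullback.snd f f) ⁻¹ᵁ (f ⁻¹ᵁ U))
    (hinj : ∀ U : Y.Opens, Function.Injective (f.app U))
    (hex : ∀ (U : Y.Opens) (a : Γ(X, f ⁻¹ᵁ U)),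
      (pullback.fst f f).app (f ⁻¹ᵁ U) a =
        ((pullback f f).presheaf.map (eqToHom (hU U)).op) ((pullback.snd f f).app (f ⁻¹ᵁ U) a) →
      a ∈ Set.range (f.app U))
    (L M : Y.Modules) (hL : FlatMod.IsFinLocFree L) (hM : FlatMod.IsFinLocFree M)
    (φ : (Scheme.Modules.pullback f).obj L ⟶ (Scheme.Modules.pullback f).obj M)
    (hφ : ((Scheme.Modules.pullbackComp (pullback.fst f f) f).app L).inv ≫
        (Scheme.Modules.pullback (pullback.fst f f)).map φ ≫ ((Scheme.Modules.pullbackComp (pullback.fst f f) f).app M).hom =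
      ((Scheme.Modules.pullbackCongr (pullback.condition (f := f) (g := f))).app L).hom ≫
        ((Scheme.Modules.pullbackComp (pullback.snd f f) f).app L).inv ≫
        (Scheme.Modules.pullback (pullback.snd f f)).map φ ≫ ((Scheme.Modules.pullbackComp (pullback.snd f f) f).app M).hom ≫
        ((Scheme.Modules.pullbackCongr (pullback.condition (f := f) (g := f))).app M).inv) :
    ∃! ψ : L ⟶ M, (Scheme.Modules.pullback f).map ψ = φ := by
  have H := secGlue f hU hinj hex
  have hab : (Scheme.Modules.pullback (pullback.fst f f)).map φ ≫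
      (PinchPO7.swapIso (pullback.condition (f := f) (g := f)) M).hom =
      (PinchPO7.swapIso (pullback.condition (f := f) (g := f)) L).hom ≫
        (Scheme.Modules.pullback (pullback.snd f f)).map φ := by
    rw [Iso.inv_comp_eq] at hφ
    simp only [PinchPO7.swapIso, Iso.trans_hom, Iso.symm_hom, Category.assoc]
    rw [reassoc_of% hφ]
    simp
  obtain ⟨ψ, hψ, -⟩ := PinchPO7.hom_glue H pullback.condition hM φ φ hab
  exact ⟨ψ, hψ, fun χ hχ => PinchPO7.hom_ext_glue H hM (hχ.trans hψ.symm) (hχ.trans hψ.symm)⟩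

end Groth.Agent.S5662
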