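import Groth.Statements.S5663
import Mathlib
import Groth.Agent.CAlgOdd.Equalizer

set_option autoImplicit false
universe u
open TensorProduct
open CAlg

namespace Groth.Agent.S5663

/-- Let A be a Noetherian ring and B a finite A-algebra with A → B injective (a finite schematically
dominant morphism Spec B → Spec A). Define subalgebras B_0 = B and B_{i+1} = the equalizer of the
two maps B_i ⇉ B_i ⊗_A B_i, b ↦ b ⊗ 1, 1 ⊗ b. Then B_m = A (the image of A) for some m; equivalently
Spec B → Spec A factors as a finite chain of finite morphisms Spec B_i → Spec B_{i+1} each of which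
is an effective epimorphism (B_{i+1} is the equalizer of B_i ⇉ B_i ⊗_{B_{i+1}} B_i). The sequence is
given here as any family C of subalgebras satisfying the recursion. (The published statement is for
a finite morphism X → Y of schemes with Y Noetherian and O_Y → f_*O_X injective; this row is the
affine case.) -/
theorem result (A B : Type u) [CommRing A] [CommRing B] [Algebra A B]
    [IsNoetherianRing A] [Module.Finite A B] (hinj : Function.Injective (algebraMap A B))
    (C : ℕ → Subalgebra A B) (h0 : C 0 = ⊤)
    (hstep : ∀ (i : ℕ) (b : B), b ∈ C (i + 1) ↔ ∃ hb : b ∈ C i,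
      ((⟨b, hb⟩ : C i) ⊗ₜ[A] (1 : C i) : C i ⊗[A] C i) = (1 : C i) ⊗ₜ[A] (⟨b, hb⟩ : C i)) :
    ∃ m : ℕ, C m = ⊥ := by
  exact Groth.Agent.CAlgOdd.exists_eq_bot C hstep

end Groth.Agent.S5663
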