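import Groth.Agent.S5668
import Groth.Agent.AmpleVan.LiftFibre
import Groth.Agent.PnCoh.Chow.Relative
import Groth.Agent.CurveCohLib.SmoothCurve
import Groth.Statements.S5667
-- import your own Groth.Agent.* helpers here

set_option autoImplicit false
universe u
open CategoryTheory CategoryTheory.Limits AlgebraicGeometry
open ProjDual

namespace Groth.Agent.S5667

/-- Let `k` be an algebraically closed field and `X` a connected nonsingular projective variety of
dimension `n` over `k` — here: a connected `k`-scheme, smooth of relative dimension `n` over `k`,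
with a closed immersion into some projective space `P^r_k` over `k` — and let `L` be an `n`-th
exterior power of the sheaf of differentials of `X` over `k` (the sheaf of `n`-forms). Then `H^n(X,
L)` is a `k`-vector space of dimension `1`. (The source says more: the fundamental class of a point
is a basis; only the dimension is stated here.) -/
theorem result (k : Type u) [Field k] [IsAlgClosed k] (n r : ℕ) (X : Scheme.{u}) [X.Over (Spec (CommRingCat.of k))] [SmoothOfRelativeDimension n (X ↘ Spec (CommRingCat.of k))] [ConnectedSpace X] (ι : X ⟶ CohB1.ProjSpace r k) [IsClosedImmersion ι] (hι : ι ≫ CohB1.ProjSpace.toSpec r k = X ↘ Spec (CommRingCat.of k)) (L : X.Modules) (hL : ExtPow.IsExtPow n (Omega.sheaf (X ↘ Spec (CommRingCat.of k))) L) : Module.finrank k (Coh.HH X L n) = 1 := by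
  haveI : Smooth (X ↘ Spec (CommRingCat.of k)) := SmoothOfRelativeDimension.smooth n _
  haveI : IsProper (X ↘ Spec (CommRingCat.of k)) := by
    haveI : IsProper (CohB1.ProjSpace.toSpec r k) := Groth.Agent.PnCoh.Chow.isProper_toSpec r k
    rw [← hι]
    infer_instance
  haveI : DCoh.HasSheafHom (Coh.structureModule X) :=
    ⟨_, ⟨(Groth.Agent.SheafHomX.adj (Coh.structureModule X)).ofNatIsoLeft
      ((Groth.Agent.KFlatLib.tensorBiFlipIso X).app (Coh.structureModule X))⟩⟩
  have hO1 := InvEnd.isFinLocFreeOfRank_one (Groth.Agent.InvX.isInvertible_structureModule (X := X))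
  obtain ⟨e⟩ := Groth.Agent.S5668.result k n r X ι hι L hL (Coh.structureModule X)
    (fun x => (hO1 x).elim fun U h => ⟨U, 1, h⟩) 0 (Nat.zero_le n)
  have h1 := (CurveCohLib.hhEquiv (k := k) ((Groth.Agent.AmpleVan.sheafHomIso (Coh.structureModule X)).app L ≪≫
    (Groth.Agent.SheafHomX.unitIso X).app L) (n - 0)).finrank_eq
  show Module.finrank k (Coh.HH X L (n - 0)) = 1
  exact h1.symm.trans (e.finrank_eq.symm.trans
    (Subspace.dual_finrank_eq.trans (CurveCohLib.finrank_h0_eq_one k X)))

end Groth.Agent.S5667
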