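import Groth.Statements.S5670
import Groth.Agent.Pi1X.FEtGlobal
import Groth.Agent.Pi1X.PushOne

set_option autoImplicit false
universe u
open Pi1

namespace Groth.Agent.S5670

open CategoryTheory CategoryTheory.Limits AlgebraicGeometry in
/-- Let `f : X → Y` be a proper morphism of Noetherian schemes such that `O_Y → f_* O_X` is an
isomorphism (bijective on sections over every open of `Y`). Then for every connected finite étale
`Y'` over `Y`, the base change `X ×_Y Y'` is connected; equivalently, `f` induces a surjection on
étale fundamental groups. -/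
theorem result {X Y Y' : Scheme.{u}} (f : X ⟶ Y) [IsProper f] [IsNoetherian X] [IsNoetherian Y] (hf : ∀ U : Y.Opens, Function.Bijective (f.app U)) (g : Y' ⟶ Y) [IsFinite g] [Etale g] [ConnectedSpace Y'] : ConnectedSpace ↥(pullback f g) := by
  have hb := Groth.Agent.Pi1X.PushOne.appTop_bijective (IsPullback.of_hasPullback f g) fun V _ => hf V
  haveI : Nonempty ↥(pullback f g) := by
    by_contra h
    haveI : IsEmpty ↥(pullback f g) := not_nonempty_iff.1 h
    haveI : Subsingleton Γ(pullback f g, ⊤) := by
      rw [show (⊤ : (pullback f g).Opens) = ⊥ from Subsingleton.elim _ _]; infer_instance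
    haveI : Subsingleton Γ(Y', ⊤) := hb.1.subsingleton
    obtain ⟨y⟩ := (inferInstance : Nonempty Y')
    exact zero_ne_one ((map_zero (Y'.presheaf.germ ⊤ y trivial).hom).symm.trans
      ((congrArg _ (Subsingleton.elim (0 : Γ(Y', ⊤)) 1)).trans (map_one (Y'.presheaf.germ ⊤ y trivial).hom)))
  refine connectedSpace_iff_clopen.2 ⟨inferInstance, fun C hC => ?_⟩
  obtain ⟨G, hG, rfl⟩ := Groth.Agent.Pi1X.exists_isClopen_preimage _ hb C hC
  rcases isClopen_iff.1 hG with rfl | rfl
  · exact Or.inl Set.preimage_empty
  · exact Or.inr Set.preimage_univ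

end Groth.Agent.S5670
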