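import Groth.Statements.S5671
import Groth.Agent.LC.GorCore
import Groth.Agent.LC.GorRows
import Groth.Agent.LC.ExtDim
-- import your own Groth.Agent.* helpers here

set_option autoImplicit false
universe u
open CategoryTheory
open Dual

namespace Groth.Agent.S5671

/-- First assertion, in the local-algebra form to which its proof reduces it: let `A` be a regular local
ring of dimension `n`, `p ≥ 0`, and `M` a finite `A`-module whose support has dimension at most `n -
p`. Then `Ext^i_A(M, A) = 0` for every `i < p`. (The geometric statement: on a nonsingular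
`n`-dimensional variety the sheaves `Ext^i(F, L)` vanish for `i < p` when `F` is coherent with
support of dimension `≤ n - p` and `L` is locally free.) -/
theorem result (A : Type u) [CommRing A] [IsRegularLocalRing A] (M : Type u) [AddCommGroup M] [Module A M] [Module.Finite A M] (p : ℕ) (hdim : Module.supportDim A M + p ≤ ringKrullDim A) (i : ℕ) (hi : i < p) : Subsingleton (Abelian.Ext (ModuleCat.of A M) (ModuleCat.of A A) i) := by
  have := LC.gorenstein_of_isRegularLocalRing (R := A)
  obtain ⟨d, hd, hδ, -⟩ := LC.gorenstein_basic (R := A)
  rcases subsingleton_or_nontrivial M with hM | hM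
  · exact LC.subsingleton_ext_of_filtration _ i M fun q hq => absurd hq (by rw [Module.support_eq_empty]; exact id)
  obtain ⟨r, hr⟩ : ∃ r : ℕ, Module.supportDim A M = (r : WithBot ℕ∞) := by
    have hle : Module.supportDim A M ≤ (d : WithBot ℕ∞) := (Module.supportDim_le_ringKrullDim A M).trans hd.le
    cases h : Module.supportDim A M with
    | bot => exact absurd h (Module.supportDim_ne_bot_iff_nontrivial A M |>.2 hM)
    | coe s =>
      rw [h] at hle
      cases s with
      | top => exact ((ENat.natCast_ne_top d) (top_le_iff.1 (WithBot.coe_le_coe.1 hle))).elim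
      | coe t => exact ⟨t, rfl⟩
  refine LC.subsingleton_ext_of_add_lt_depth A M r i hr.le ?_
  rw [hr, hd] at hdim
  have h1 : ((r + p : ℕ) : ℕ∞) ≤ (d : ℕ∞) := by exact_mod_cast hdim
  rw [hδ]
  exact_mod_cast lt_of_lt_of_le (by omega : i + r < r + p) (Nat.cast_le.1 h1)

end Groth.Agent.S5671
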