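import Groth.Statements.S5672
import Groth.Agent.S5671
-- import your own Groth.Agent.* helpers here

set_option autoImplicit false
set_option linter.style.haveILetI false
set_option backward.isDefEq.respectTransparency false
set_option backward.isDefEq.respectTransparency.types false

universe u
open CategoryTheory
open Dual

namespace Groth.Agent.S5672

open CategoryTheory.Limits

variable {A : Type u} [CommRing A]

/-- The map from the quotient ring sending `1` to a killed element. -/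
def quotMap (J : Ideal A) {M : Type u} [AddCommGroup M] [Module A M]
    (hJM : J • (⊤ : Submodule A M) = ⊥) (m : M) : (A ⧸ J) →ₗ[A] M :=
  J.liftQ (LinearMap.toSpanSingleton A M m) fun a ha => by
    have : a • m ∈ J • (⊤ : Submodule A M) := Submodule.smul_mem_smul ha trivial
    rw [hJM] at this
    exact this

/-- The map from a free module over the quotient ring given by killed elements. -/
noncomputable def proj (J : Ideal A) {M : Type u} [AddCommGroup M] [Module A M]
    (hJM : J • (⊤ : Submodule A M) = ⊥) {r : ℕ} (v : Fin r → M) : (Fin r → A ⧸ J) →ₗ[A] M :=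
  ∑ k, quotMap J hJM (v k) ∘ₗ LinearMap.proj k

lemma proj_surjective (J : Ideal A) {M : Type u} [AddCommGroup M] [Module A M]
    (hJM : J • (⊤ : Submodule A M) = ⊥) {r : ℕ} (v : Fin r → M)
    (hv : Submodule.span A (Set.range v) = ⊤) : Function.Surjective (proj J hJM v) := by
  classical
  rw [← LinearMap.range_eq_top, eq_top_iff, ← hv, Submodule.span_le]
  rintro _ ⟨k, rfl⟩
  refine ⟨Pi.single k 1, ?_⟩
  simp only [proj, LinearMap.sum_apply, LinearMap.comp_apply, LinearMap.proj_apply]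
  rw [Finset.sum_eq_single k (fun l _ hl => by simp [Pi.single_eq_of_ne hl]) (by simp), Pi.single_eq_same]
  exact one_smul A (v k)

lemma smul_eq_bot_ker (J : Ideal A) {r : ℕ} {M : Type u} [AddCommGroup M] [Module A M]
    (φ : (Fin r → A ⧸ J) →ₗ[A] M) : J • (⊤ : Submodule A (LinearMap.ker φ)) = ⊥ := by
  refine le_antisymm (Submodule.smul_le.2 fun a ha x _ => ?_) bot_le
  rw [Submodule.mem_bot]
  refine Subtype.ext (funext fun k => ?_)
  obtain ⟨b, hb⟩ := Ideal.Quotient.mk_surjective (x.1 k)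
  change a • x.1 k = 0
  rw [← hb, Algebra.smul_def, Ideal.Quotient.algebraMap_eq, ← map_mul, Ideal.Quotient.eq_zero_iff_mem]
  exact J.mul_mem_right b ha

/-- The presentation. -/
noncomputable def seq {N M : Type u} [AddCommGroup N] [Module A N] [AddCommGroup M] [Module A M]
    {π : N →ₗ[A] M} (_hπ : Function.Surjective π) : ShortComplex (ModuleCat.{u} A) :=
  ShortComplex.mk (ModuleCat.ofHom (LinearMap.ker π).subtype) (ModuleCat.ofHom π)
    (ModuleCat.hom_ext (LinearMap.comp_ker_subtype π))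

lemma seq_shortExact {N M : Type u} [AddCommGroup N] [Module A N] [AddCommGroup M] [Module A M]
    {π : N →ₗ[A] M} (hπ : Function.Surjective π) : (seq hπ).ShortExact :=
  { exact := (ShortComplex.moduleCat_exact_iff _).2 fun x hx => ⟨⟨x, hx⟩, rfl⟩
    mono_f := (ModuleCat.mono_iff_injective _).2 (LinearMap.ker π).injective_subtype
    epi_g := (ModuleCat.epi_iff_surjective _).2 hπ }

/-- A class killed by all maps out of `A ⧸ J` vanishes. -/
lemma ext_eq_zero [IsRegularLocalRing A] (p : ℕ) (J : Ideal A)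
    (hJ : ringKrullDim (A ⧸ J) + p ≤ ringKrullDim A) (M : Type u) [AddCommGroup M] [Module A M]
    [Module.Finite A M] (hJM : J • (⊤ : Submodule A M) = ⊥)
    (ξ : Abelian.Ext (ModuleCat.of A M) (ModuleCat.of A A) p)
    (h : ∀ u : (A ⧸ J) →ₗ[A] M, (Abelian.Ext.mk₀ (ModuleCat.ofHom u)).comp ξ (zero_add p) = 0) :
    ξ = 0 := by
  classical
  obtain ⟨r, v, hv⟩ := Module.Finite.exists_fin (R := A) (M := M)
  let π := proj J hJM v
  have hπ := proj_surjective J hJM v hv
  let F := ModuleCat.of A (Fin r → A ⧸ J)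
  have hπξ : (Abelian.Ext.mk₀ (ModuleCat.ofHom π : F ⟶ ModuleCat.of A M)).comp ξ (zero_add p) = 0 := by
    have : (ModuleCat.ofHom π : F ⟶ ModuleCat.of A M) =
        ∑ k, ModuleCat.ofHom (LinearMap.proj k) ≫ ModuleCat.ofHom (quotMap J hJM (v k)) :=
      ModuleCat.hom_ext (by simp [π, proj, ModuleCat.hom_sum])
    rw [this, Abelian.Ext.mk₀_sum, Abelian.Ext.sum_comp]
    refine Finset.sum_eq_zero fun k _ => ?_
    rw [← Abelian.Ext.mk₀_comp_mk₀_assoc, h, Abelian.Ext.comp_zero]
  cases p with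
  | zero =>
    obtain ⟨f, rfl⟩ := (Abelian.Ext.mk₀_bijective _ _).2 ξ
    rw [Abelian.Ext.mk₀_comp_mk₀, ← Abelian.Ext.mk₀_zero] at hπξ
    have hf := (Abelian.Ext.mk₀_bijective _ _).1 hπξ
    haveI : Epi (ModuleCat.ofHom π : F ⟶ ModuleCat.of A M) := (ModuleCat.epi_iff_surjective _).2 hπ
    rw [(cancel_epi (ModuleCat.ofHom π : F ⟶ ModuleCat.of A M)).1 (hf.trans comp_zero.symm),
      Abelian.Ext.mk₀_zero]
  | succ q =>
    haveI : Module.Finite A (LinearMap.ker π) := inferInstance
    have hdim : Module.supportDim A (LinearMap.ker π) + (q + 1 : ℕ) ≤ ringKrullDim A := by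
      refine le_trans (add_le_add_left ?_ _) hJ
      rw [Module.supportDim_eq_ringKrullDim_quotient_annihilator]
      exact ringKrullDim_le_of_surjective (Ideal.Quotient.factor (fun a ha => Module.mem_annihilator.2 fun x => by
        have : a • x ∈ J • (⊤ : Submodule A (LinearMap.ker π)) := Submodule.smul_mem_smul ha trivial
        rwa [smul_eq_bot_ker J π] at this)) (Ideal.Quotient.factor_surjective _)
    haveI := Groth.Agent.S5671.result A (LinearMap.ker π) (q + 1) hdim q (Nat.lt_succ_self q)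
    obtain ⟨x₁, rfl⟩ := Abelian.Ext.contravariant_sequence_exact₃ (seq_shortExact hπ) _ ξ hπξ (n₀ := q) (by omega)
    rw [Subsingleton.elim (α := Abelian.Ext (ModuleCat.of A (LinearMap.ker π)) (ModuleCat.of A A) q) x₁ 0,
      Abelian.Ext.comp_zero]


/-- Let `A` be a regular local ring of dimension `n`, `J` an ideal with `dim(A/J) ≤ n - p`, and `M` a
finite `A`-module with `JM = 0`. For `ξ ∈ Ext^p_A(M, A)` and an `A`-linear `u : A/J → M` write `u^*ξ
∈ Ext^p_A(A/J, A)` for the pullback. Then `ξ ↦ (u ↦ u^*ξ)` is injective, and every `A`-linear map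
`Hom_A(A/J, M) → Ext^p_A(A/J, A)` is of the form `u ↦ u^*ξ` for some `ξ`. Since `Hom_A(A/J, M) = M`
here, this says that the canonical map `Ext^p_A(M, A) → Hom_A(M, Ext^p_A(A/J, A))` is bijective. -/
theorem result (A : Type u) [CommRing A] [IsRegularLocalRing A] (p : ℕ) (J : Ideal A) (hJ : ringKrullDim (A ⧸ J) + p ≤ ringKrullDim A) (M : Type u) [AddCommGroup M] [Module A M] [Module.Finite A M] (hJM : J • (⊤ : Submodule A M) = ⊥) : Function.Injective (fun ξ : Abelian.Ext (ModuleCat.of A M) (ModuleCat.of A A) p => fun u : (A ⧸ J) →ₗ[A] M => (Abelian.Ext.mk₀ (ModuleCat.ofHom u)).comp ξ (zero_add p)) ∧ ∀ g : ((A ⧸ J) →ₗ[A] M) →ₗ[A] Abelian.Ext (ModuleCat.of A (A ⧸ J)) (ModuleCat.of A A) p, ∃ ξ : Abelian.Ext (ModuleCat.of A M) (ModuleCat.of A A) p, ∀ u : (A ⧸ J) →ₗ[A] M, g u = (Abelian.Ext.mk₀ (ModuleCat.ofHom u)).comp ξ (zero_add p) := by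
  refine ⟨fun ξ ξ' h => sub_eq_zero.1 (ext_eq_zero p J hJ M hJM _ fun u => ?_), fun g => ?_⟩
  · have := congr_fun h u
    dsimp only at this
    simp only [sub_eq_add_neg, Abelian.Ext.comp_add, Abelian.Ext.comp_neg, this, add_neg_cancel]
  obtain ⟨r, v, hv⟩ := Module.Finite.exists_fin (R := A) (M := M)
  let u : Fin r → ((A ⧸ J) →ₗ[A] M) := fun k => quotMap J hJM (v k)
  let π := proj J hJM v
  have hπ := proj_surjective J hJM v hv
  let F := ModuleCat.of A (Fin r → A ⧸ J)
  let η : Abelian.Ext F (ModuleCat.of A A) p := ∑ k, (Abelian.Ext.mk₀ (ModuleCat.ofHom (LinearMap.proj k))).comp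
    (g (u k)) (zero_add p)
  -- value of `η` on maps out of `A ⧸ J`
  have hval : ∀ w : (A ⧸ J) →ₗ[A] (Fin r → A ⧸ J),
      (Abelian.Ext.mk₀ (ModuleCat.ofHom w : ModuleCat.of A (A ⧸ J) ⟶ F)).comp η (zero_add p) = g (π ∘ₗ w) := fun w => by
    choose c hc using fun k => Ideal.Quotient.mk_surjective (w 1 k)
    have hw : ∀ k, LinearMap.proj k ∘ₗ w = c k • LinearMap.id := fun k => by
      refine Submodule.linearMap_qext _ (LinearMap.ext_ring ?_)
      change w 1 k = c k • (1 : A ⧸ J)
      rw [← hc k, Algebra.smul_def, mul_one]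
      rfl
    have hπw : π ∘ₗ w = ∑ k, c k • u k := by
      change (∑ k, u k ∘ₗ LinearMap.proj k) ∘ₗ w = _
      rw [show (∑ k, u k ∘ₗ LinearMap.proj k) ∘ₗ w = ∑ k, (u k ∘ₗ LinearMap.proj k) ∘ₗ w from
        LinearMap.ext fun x => by simp]
      refine Finset.sum_congr rfl fun k _ => ?_
      rw [LinearMap.comp_assoc, hw k, LinearMap.comp_smul, LinearMap.comp_id]
    rw [hπw, map_sum]
    simp only [η, Abelian.Ext.comp_sum]
    refine Finset.sum_congr rfl fun k _ => ?_
    rw [Abelian.Ext.mk₀_comp_mk₀_assoc, map_smul,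
      show ModuleCat.ofHom w ≫ ModuleCat.ofHom (LinearMap.proj k) =
        c k • 𝟙 (ModuleCat.of A (A ⧸ J)) from ModuleCat.hom_ext (hw k),
      Abelian.Ext.mk₀_smul, Abelian.Ext.smul_comp, Abelian.Ext.mk₀_id_comp]
  let S := seq hπ
  have hS := seq_shortExact hπ
  have hK : (Abelian.Ext.mk₀ S.f).comp η (zero_add p) = 0 := by
    refine ext_eq_zero p J hJ (LinearMap.ker π) (smul_eq_bot_ker J _) _ fun w => ?_
    refine (Abelian.Ext.mk₀_comp_mk₀_assoc _ _ _).trans ((hval ((LinearMap.ker π).subtype ∘ₗ w)).trans ?_)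
    rw [← LinearMap.comp_assoc, LinearMap.comp_ker_subtype, LinearMap.zero_comp, map_zero]
  obtain ⟨ξ, hξ⟩ := Abelian.Ext.contravariant_sequence_exact₂ hS _ η hK
  refine ⟨ξ, fun w => ?_⟩
  obtain ⟨y, hy⟩ := hπ (w 1)
  have hann : J ≤ LinearMap.ker (LinearMap.toSpanSingleton A (Fin r → A ⧸ J) y) := fun a ha =>
    funext fun k => by
      obtain ⟨b, hb⟩ := Ideal.Quotient.mk_surjective (y k)
      change a • y k = 0
      rw [← hb, Algebra.smul_def, Ideal.Quotient.algebraMap_eq, ← map_mul, Ideal.Quotient.eq_zero_iff_mem]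
      exact J.mul_mem_right b ha
  let w' : (A ⧸ J) →ₗ[A] (Fin r → A ⧸ J) := J.liftQ _ hann
  have hw' : π ∘ₗ w' = w := Submodule.linearMap_qext _ (LinearMap.ext_ring (by
    change π ((1 : A) • y) = w 1
    rw [one_smul, hy]))
  calc g w = g (π ∘ₗ w') := by rw [hw']
    _ = (Abelian.Ext.mk₀ (ModuleCat.ofHom w' : ModuleCat.of A (A ⧸ J) ⟶ F)).comp η (zero_add p) := (hval w').symm
    _ = _ := by
      rw [← hξ, Abelian.Ext.mk₀_comp_mk₀_assoc]
      exact congrArg (fun t => (Abelian.Ext.mk₀ t).comp ξ (zero_add p)) (ModuleCat.hom_ext hw')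
end Groth.Agent.S5672
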