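import Groth.Statements.S5673
import Groth.Agent.KFlatLib.Ring.RegularTor
-- import your own Groth.Agent.* helpers here

set_option autoImplicit false
universe u
open CategoryTheory
open Dual

namespace Groth.Agent.S5673

/-- Let `A` be a commutative ring, `xs = (x_1, …, x_p)` a sequence in `A` such that each `x_i` is a
non-zero-divisor on `A/(x_1, …, x_{i-1})`, `J` the ideal generated by the `x_i` and `M` any
`A`-module. Then `Tor_p^A(A/J, M)` (Mathlib's `Tor'`, the left derived functors of `- ⊗ M` evaluated
at `A/J`, i.e. computed from a resolution of `A/J`) is isomorphic as an `A`-module to `Hom_A(A/J,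
M)`, i.e. to the elements of `M` killed by `J`. (Existence of an `A`-linear isomorphism only; the
published one is induced by the Koszul complex of `xs`.) -/
theorem result (A : Type u) [CommRing A] (xs : List A) (hreg : RingTheory.Sequence.IsWeaklyRegular A xs) (M : Type u) [AddCommGroup M] [Module A M] : Nonempty (↑(((Tor' (ModuleCat.{u} A) xs.length).obj (ModuleCat.of A (A ⧸ Ideal.ofList xs))).obj (ModuleCat.of A M)) ≃ₗ[A] ((A ⧸ Ideal.ofList xs) →ₗ[A] M)) := by
  exact KFlatLib.tor'_qList_top xs hreg M

end Groth.Agent.S5673
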