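import Groth.Statements.S5674
import Groth.Agent.Lib.SmoothEquidim
import Groth.Agent.Lib.ExtGlobal
import Groth.Agent.Lib.NegVanStalk
import Groth.Agent.GrpSchLib.SmoothRegular

set_option autoImplicit false
set_option backward.isDefEq.respectTransparency false
set_option backward.isDefEq.respectTransparency.types false
set_option linter.style.haveILetI false
set_option linter.unusedSectionVars false
set_option maxHeartbeats 400000
universe u
open CategoryTheory CategoryTheory.Limits AlgebraicGeometry
open ProjDual

namespace Groth.Agent.S5674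

open CategoryTheory CategoryTheory.Limits AlgebraicGeometry

/-- Let `k` be an algebraically closed field, `X` a nonsingular algebraic set of dimension `n` over `k`
— here: a quasi-compact `k`-scheme smooth of relative dimension `n` over `k` — `F` a coherent
`O_X`-module whose support has dimension at most `n - p`, and `L` a finite locally free
`O_X`-module. Then the (global) groups `Ext^i_{O_X}(F, L)` vanish for `i < p`. (All components of
`X` have dimension `n`; for a nonsingular algebraic set with a component of smaller dimension the
conclusion fails. The Ext instance on the category of `O_X`-modules is taken as a hypothesis; it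
holds since that category is Grothendieck abelian.) -/
theorem result (k : Type u) [Field k] [IsAlgClosed k] (n : ℕ) (X : Scheme.{u}) [X.Over (Spec (CommRingCat.of k))] [SmoothOfRelativeDimension n (X ↘ Spec (CommRingCat.of k))] [CompactSpace X] [HasExt.{u} X.Modules] (F : X.Modules) (hF : Coh.IsCoh F) (L : X.Modules) (hL : FlatMod.IsFinLocFree L) (p : ℕ) (hsupp : topologicalKrullDim ↥(CohB1.support F) + p ≤ n) (i : ℕ) (hi : i < p) : Subsingleton (Abelian.Ext F L i) := by
  let f := X ↘ Spec (CommRingCat.of k)
  haveI := SmoothEquidim.locallyOfFiniteType f n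
  haveI : Smooth f := SmoothOfRelativeDimension.smooth n f
  haveI : IsLocallyNoetherian X := LocallyOfFiniteType.isLocallyNoetherian f
  haveI : JacobsonSpace X := LocallyOfFiniteType.jacobsonSpace f
  haveI : ModSite.HasSheafHom (O := X.sheaf) F := SheafHomX.isLeftAdjoint_ten F
  haveI : HasInjectiveResolutions (ModSite.Mod X.sheaf) := inferInstanceAs (HasInjectiveResolutions X.Modules)
  have hL' := QCoh.isQCoh_of_isFinLocFree hL
  have hz : ∀ q ≤ i, IsZero ((ModSite.extSh (O := X.sheaf) F q).obj L) := by
    intro q hq
    rw [ExtShLocal.isZero_extSh_iff_stalk hF hL' q]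
    refine ExtShCodim.forall_of_closed hF hL' q fun y hy => ?_
    haveI := QCoh.free_stalk_of_isFinLocFree hL y
    haveI := QCoh.finite_stalk_of_isFT (CurveDeg.isCoh_of_isFinLocFree hL).1 (CurveDeg.isCoh_of_isFinLocFree hL).2 y
    refine ExtShCodim.subsingleton_ext_free _ q ?_
    haveI := QCoh.finite_stalk_of_isFT hF.1 hF.2 y
    haveI := GrpSchLib.isRegularLocalRing_stalk_of_smooth f y
    haveI : IsNoetherianRing (X.presheaf.stalk y) := inferInstance
    haveI := LC.gorenstein_of_isRegularLocalRing (R := X.presheaf.stalk y)
    have h1 := SmoothEquidim.supportDim_stalk_le hF y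
    rcases subsingleton_or_nontrivial (F.presheaf.stalk y) with hs | hs
    · refine subsingleton_of_forall_eq 0 fun e => ?_
      rw [← Abelian.Ext.mk₀_id_comp e, show 𝟙 (ModuleCat.of (X.presheaf.stalk y) _) = 0 from
        ModuleCat.hom_ext (LinearMap.ext fun z => Subsingleton.elim (α := F.presheaf.stalk y) _ _)]
      simp
    have h0 : (0 : WithBot ℕ∞) ≤ topologicalKrullDim ↥(CohB1.support F) := by
      refine le_trans ?_ h1
      have := Module.supportDim_ne_bot_of_nontrivial (X.presheaf.stalk y) (F.presheaf.stalk y)
      generalize Module.supportDim (X.presheaf.stalk y) (F.presheaf.stalk y) = d at this ⊢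
      induction d with
      | bot => exact absurd rfl this
      | coe a => exact WithBot.coe_le_coe.2 bot_le
    obtain ⟨D, hD⟩ : ∃ D : ℕ, topologicalKrullDim ↥(CohB1.support F) = D := by
      revert h0 hsupp
      generalize topologicalKrullDim ↥(CohB1.support F) = D
      intro hsupp h0
      induction D with
      | bot => simp at h0
      | coe a =>
        induction a with
        | top =>
          have h' : ((⊤ : ℕ∞) + (p : ℕ∞) : ℕ∞) ≤ (n : ℕ∞) := by exact_mod_cast hsupp
          simp at h'
        | coe a => exact ⟨a, rfl⟩
    have hDn : D + p ≤ n := by rw [hD] at hsupp; exact_mod_cast hsupp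
    rw [NegVanStalk.subsingleton_ext_iff_H n (SmoothEquidim.dim_stalk f n y hy) _ (n - q) q (by omega)]
    refine LC.subsingleton_H_of_supportDim_lt _ _ _ (h1.trans_lt ?_)
    rw [hD]
    exact_mod_cast (show D < n - q by omega)
  obtain ⟨e⟩ := ExtGlobal.nonempty_ext_equiv (A := k) F L i fun q hq => ExtGlobal.acyclic_of_isZero (hz q hq)
  refine @Equiv.subsingleton _ _ e.toEquiv ?_
  refine subsingleton_of_forall_eq 0 fun x => ?_
  have hid : 𝟙 (Coh.toAb _) = 0 := (Functor.map_isZero (QCoh.toAbFunctor X) (hz i le_rfl)).eq_of_src _ _
  rw [← Abelian.Ext.comp_mk₀_id x, hid, Abelian.Ext.mk₀_zero, Abelian.Ext.comp_zero]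

end Groth.Agent.S5674
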