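import Groth.Statements.S5676
import Groth.Agent.SeesawX.PnPic
import Groth.Agent.S3581

set_option autoImplicit false
universe u
open CategoryTheory CategoryTheory.Limits AlgebraicGeometry
open PicF

namespace Groth.Agent.S5676
open Groth.Agent

/-- For the trivial vector bundle (so that `P(E)` is projective `r`-space `P = P^r_Y` with its
`O_P(1)`): let `Y` be a connected Noetherian scheme and `L` an invertible `O_P`-module. Then there
exist an invertible `O_Y`-module `L'` and an integer `n` with `L ≅ π^* L' ⊗ O_P(n)`, `π : P → Y` the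
projection. Moreover, when `r ≥ 1`, the integer `n` is uniquely determined and `L'` is determined up
to isomorphism. (The published statement, for a projective bundle `P(E)`, asserts the uniqueness of
`n` without restriction; for `E` of rank one, i.e. `r = 0`, `P = Y` and every `O_P(n)` is trivial,
so `n` is not unique — hence the hypothesis `r ≥ 1` on the uniqueness clause. Only the case of a
trivial `E` is stated here.) -/
theorem result (Y : Scheme.{u}) [IsNoetherian Y] [ConnectedSpace Y] (r : ℕ) (L : (CohB1.ProjSpaceOver r Y).Modules) (hL : PicF.IsInvertible L) : (∃ (L' : Y.Modules) (n : ℤ), PicF.IsInvertible L' ∧ Nonempty (L ≅ CohB1.tensorMod ((Scheme.Modules.pullback (CohB1.ProjSpaceOver.toBase r Y)).obj L') (Twist.twistOver r Y n))) ∧ (1 ≤ r → ∀ (L₁ L₂ : Y.Modules) (n₁ n₂ : ℤ), PicF.IsInvertible L₁ → PicF.IsInvertible L₂ → Nonempty (L ≅ CohB1.tensorMod ((Scheme.Modules.pullback (CohB1.ProjSpaceOver.toBase r Y)).obj L₁) (Twist.twistOver r Y n₁)) → Nonempty (L ≅ CohB1.tensorMod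 ((Scheme.Modules.pullback (CohB1.ProjSpaceOver.toBase r Y)).obj L₂) (Twist.twistOver r Y n₂)) → n₁ = n₂ ∧ Nonempty (L₁ ≅ L₂)) := by
  refine ⟨?_, fun hr L₁ L₂ n₁ n₂ h₁ h₂ e₁ e₂ => SeesawX.PnPic.decomp_unique (n := r) hr h₁ h₂ (e₁.some.symm ≪≫ e₂.some)⟩
  rcases Nat.eq_zero_or_pos r with rfl | hr
  · haveI := S3581.result (ULift.{u} ℤ)
    haveI : IsIso (CohB1.ProjSpaceOver.toBase 0 Y) := Limits.pullback_snd_iso_of_left_iso _ _
    obtain ⟨e⟩ := H28.KRRReg.twistOver_zero (n := 0) (T := Y)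
    obtain ⟨u⟩ := H23.PicMul.unit ((Scheme.Modules.pullback (CohB1.ProjSpaceOver.toBase 0 Y)).obj
      ((Scheme.Modules.pullback (inv (CohB1.ProjSpaceOver.toBase 0 Y))).obj L))
    refine ⟨(Scheme.Modules.pullback (inv (CohB1.ProjSpaceOver.toBase 0 Y))).obj L, 0,
      PicClLib.isInvertible_pullback _ hL, ⟨?_⟩⟩
    exact ((Scheme.Modules.pullbackId _).app L).symm ≪≫
      (Scheme.Modules.pullbackCongr (IsIso.hom_inv_id (CohB1.ProjSpaceOver.toBase 0 Y)).symm).app L ≪≫
      ((Scheme.Modules.pullbackComp _ _).app L).symm ≪≫ u.symm ≪≫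
      ((DCoh.tensorBi (X := CohB1.ProjSpaceOver 0 Y)).obj _).mapIso e.symm
  · obtain ⟨d, hd⟩ := SeesawX.PnPic.exists_degree (n := r) hr hL
    obtain ⟨L', hL', e⟩ := SeesawX.PnPic.exists_decomp hL d hd
    exact ⟨L', d, hL', e⟩

end Groth.Agent.S5676
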