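import Groth.Statements.S5679
import Groth.Agent.Torsion17.GenericOpen

set_option autoImplicit false
universe u
open CategoryTheory CategoryTheory.Limits MonoidalCategory CartesianMonoidalCategory MonObj GrpObj AlgebraicGeometry
open FGA

namespace Groth.Agent.S5679

/-- Let S be a nonempty locally Noetherian scheme and G a group scheme locally of finite type over S.
Then there are a nonempty open subset U of S, a group scheme H of finite type over U with connected
fibres, and a homomorphism from H to the base change of G to U which is an open immersion and whose
image in G is the set of points lying over U in the union of the connected components of the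
identity of the fibres of G. -/
theorem result (S : Scheme.{u}) [IsLocallyNoetherian S] [Nonempty ↥S]
    (G : Over S) [GrpObj G] [LocallyOfFiniteType G.hom] :
    ∃ U : S.Opens, (U : Set ↥S).Nonempty ∧
      ∃ (H : Over (U : Scheme.{u})) (_ : GrpObj H) (i : H ⟶ Red.bc U.ι G), IsMonHom i ∧ IsOpenImmersion i.left ∧
        QuasiCompact H.hom ∧ LocallyOfFiniteType H.hom ∧
        (∀ u : ↥(U : Scheme.{u}), _root_.IsConnected (H.hom.base ⁻¹' {u})) ∧
        Set.range (i.left ≫ pullback.fst G.hom U.ι).base = SGA3x.neutralSet G ∩ G.hom.base ⁻¹' (U : Set ↥S) := by
  haveI : LocallyOfFinitePresentation G.hom := LocallyOfFinitePresentation.iff_locallyOfFiniteType.2 ‹_›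
  exact Torsion17.exists_neutral_subgroup G

end Groth.Agent.S5679
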