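import Groth.Statements.S5680
import Groth.Agent.RootLift.Thick

set_option autoImplicit false
universe u
open CategoryTheory CategoryTheory.Limits AlgebraicGeometry
open FGA

namespace Groth.Agent.S5680

/-- Let A be an artinian local ring with maximal ideal m and ν ≥ 1 an integer with m^(ν+1) = 0; let X be
a scheme proper and flat over Spec A, n a natural number whose image in the residue field of A is
nonzero, L an invertible module on X and L' an invertible module on the closed subscheme X ×_A
Spec(A/m^ν) whose n-th tensor power is isomorphic to the pullback of L. Then there is an invertible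
module M on X whose n-th tensor power is isomorphic to L (existence of an isomorphism). -/
theorem result (A : Type u) [CommRing A] [IsArtinianRing A] [IsLocalRing A]
    (ν : ℕ) (hν : 1 ≤ ν) (hm : IsLocalRing.maximalIdeal A ^ (ν + 1) = ⊥)
    (X : Scheme.{u}) (f : X ⟶ Spec (CommRingCat.of A)) [IsProper f] [Flat f]
    (n : ℕ) (hn : (n : IsLocalRing.ResidueField A) ≠ 0)
    (L : X.Modules) (hL : PicF.IsInvertible L)
    (L' : (pullback f (Spec.map (CommRingCat.ofHom (Ideal.Quotient.mk (IsLocalRing.maximalIdeal A ^ ν))))).Modules)
    (hL' : PicF.IsInvertible L')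
    (hroot : Nonempty (CohB1.tensorPow L' n ≅
      (Scheme.Modules.pullback (pullback.fst f (Spec.map (CommRingCat.ofHom (Ideal.Quotient.mk (IsLocalRing.maximalIdeal A ^ ν)))))).obj L)) :
    ∃ M : X.Modules, PicF.IsInvertible M ∧ Nonempty (CohB1.tensorPow M n ≅ L) := by
  obtain ⟨φ⟩ := hroot
  have hJ : IsLocalRing.maximalIdeal A ^ ν * IsLocalRing.maximalIdeal A ^ ν = ⊥ := by
    rw [← pow_add]
    exact le_bot_iff.1 ((Ideal.pow_le_pow_right (by omega : ν + 1 ≤ ν + ν)).trans hm.le)
  haveI : IsClosedImmersion (Spec.map (CommRingCat.ofHom (Ideal.Quotient.mk (IsLocalRing.maximalIdeal A ^ ν)))) :=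
    IsClosedImmersion.spec_of_surjective _ Ideal.Quotient.mk_surjective
  haveI : IsClosedImmersion (pullback.fst f (Spec.map (CommRingCat.ofHom (Ideal.Quotient.mk (IsLocalRing.maximalIdeal A ^ ν))))) :=
    MorphismProperty.pullback_fst _ _ inferInstance
  haveI : IsSeparated (terminal.from X) := by
    rw [← terminal.comp_from f]
    infer_instance
  haveI : IsAffineHom (pullback.diagonal (terminal.from X)) := inferInstance
  refine Groth.Agent.RootLift.exists_root_lift (Groth.Agent.RootLift.sqZero_fst _ hJ f) ?_ hL hL' φ
  have hA : IsUnit (n : A) := by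
    by_contra h
    exact hn (by rw [← map_natCast (IsLocalRing.residue A), IsLocalRing.residue_eq_zero_iff]; exact h)
  simpa using hA.map ((Scheme.ΓSpecIso (CommRingCat.of A)).inv ≫ f.appTop).hom

end Groth.Agent.S5680
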