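import Groth.Statements.S5681
import Groth.Agent.S11755
import Groth.Agent.PicNormalProper.Main
set_option autoImplicit false
universe u
open CategoryTheory CategoryTheory.Limits AlgebraicGeometry
open FGA

namespace Groth.Agent.S5681

/-- Let k be a field and X a scheme proper over k and geometrically normal (normal after every finite
field extension of k in the same universe). Suppose the relative Picard functor of X over k,
sheafified for the etale topology, is represented by a k-scheme P locally of finite type over k
through the family of maps φ (classes of invertible modules on X ×_k T ↦ k-morphisms from T to P).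
Then the connected component of the identity point of P (the image of the class of the structure
sheaf) is open and, as an open subscheme, is proper over k. (Local finite type of P is recorded as a
hypothesis.) -/
theorem result (k : Type u) [Field k] (X : Scheme.{u})
    (f : X ⟶ Spec (CommRingCat.of k)) [IsProper f]
    (hnorm : ∀ (k' : Type u) [Field k'] [Algebra k k'], Module.Finite k k' →
      Pi1.IsNormalScheme (pullback f (Spec.map (CommRingCat.ofHom (algebraMap k k')))))
    (P : Over (Spec (CommRingCat.of k))) [LocallyOfFiniteType P.hom]
    (φ : ∀ T : Over (Spec (CommRingCat.of k)), PicF.Cl (PicF.XT f T) → (T ⟶ P)) (hP : PicRel.IsRelPic f P φ)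
    (pt : ↥(Spec (CommRingCat.of k))) :
    ∃ U : P.left.Opens, (U : Set ↥P.left) =
        connectedComponent ((φ (Over.mk (𝟙 _)) (PicF.cl (Coh.structureModule _))).left.base pt) ∧
      IsProper (U.ι ≫ P.hom) := by
  obtain rfl : pt = IsLocalRing.closedPoint k := @Subsingleton.elim ↥(Spec (CommRingCat.of k)) inferInstance _ _
  obtain ⟨-, U, hU, -, hU'⟩ := Groth.Agent.S11755.result k f P φ hP
  haveI := hU'
  exact ⟨U, hU, Groth.Agent.PicNormalProper.isProper_component f hnorm hP U hU⟩

end Groth.Agent.S5681
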