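import Groth.Statements.S5686
import Groth.Agent.PicTangent.PowLift
import Groth.Agent.PicTangent.PowUnram
import Groth.Agent.S1417
import Mathlib.AlgebraicGeometry.Morphisms.FormallyUnramified
import Mathlib.AlgebraicGeometry.Morphisms.Etale

set_option autoImplicit false
set_option linter.style.haveILetI false
set_option backward.isDefEq.respectTransparency false
set_option backward.isDefEq.respectTransparency.types false
set_option maxHeartbeats 1000000
universe u
open CategoryTheory CategoryTheory.Limits AlgebraicGeometry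
open FGA

namespace Groth.Agent.S5686

open AlgebraicGeometry CategoryTheory CategoryTheory.Limits

attribute [local instance] Groth.Agent.H23.PicMul.clMonoid

/-- The exponent is a unit at a local ring valued point of the open where it is invertible. -/
theorem isUnit_natCast {Y : Scheme.{u}} {n : ℕ} {A : Type u} [CommRing A] [IsLocalRing A]
    (γ : Spec (CommRingCat.of A) ⟶ Y)
    (h : γ (IsLocalRing.closedPoint A) ∈ Y.basicOpen (n : Γ(Y, ⊤))) : IsUnit (n : A) := by
  have h1 : (IsLocalRing.closedPoint A : PrimeSpectrum A) ∈ γ ⁻¹ᵁ Y.basicOpen (n : Γ(Y, ⊤)) := h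
  rw [Scheme.preimage_basicOpen_top, map_natCast, basicOpen_eq_of_affine', map_natCast] at h1
  exact not_not.1 fun hn => h1 ((IsLocalRing.mem_maximalIdeal _).2 hn)

/-- Let S be a locally Noetherian scheme, f : X ⟶ S proper and flat, and suppose the relative Picard
functor of X over S (sheafified for the etale topology) is represented by an S-scheme P, locally of
finite type over S, through the family of maps φ. Let n be a natural number and m : P ⟶ P an
S-morphism such that for every S-scheme T and every invertible module L on X ×_S T, φ applied to the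
class of the n-th tensor power of L equals φ applied to the class of L followed by m (so m is the
n-th power map of the Picard scheme). Then m is etale at all points of P whose residue
characteristic is prime to n: the restriction of m to the open subset of P where n is invertible is
etale. (Local finite type of P over S is recorded as a hypothesis.) -/
theorem result {X S : Scheme.{u}} [IsLocallyNoetherian S] (f : X ⟶ S) [IsProper f] [Flat f]
    (P : Over S) [LocallyOfFiniteType P.hom] (φ : ∀ T : Over S, PicF.Cl (PicF.XT f T) → (T ⟶ P))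
    (hP : PicRel.IsRelPic f P φ) (n : ℕ) (m : P ⟶ P)
    (hm : ∀ (T : Over S) (L : (PicF.XT f T).Modules), PicF.IsInvertible L →
      φ T (PicF.cl (CohB1.tensorPow L n)) = φ T (PicF.cl L) ≫ m) :
    Etale ((P.left.basicOpen (n : Γ(P.left, ⊤))).ι ≫ m.left) := by
  have hm' : ∀ (T : Over S) (c : PicF.Cl (PicF.XT f T)), PicF.IsInvertibleCl c → φ T (c ^ n) = φ T c ≫ m := by
    rintro T c ⟨L, rfl, hL⟩
    rw [← Groth.Agent.H23.PicMul.cl_tensorPow]
    exact hm T L hL
  let Pn := P.left.basicOpen (n : Γ(P.left, ⊤))
  let h := Pn.ι ≫ m.left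
  haveI : IsLocallyNoetherian P.left := LocallyOfFiniteType.isLocallyNoetherian P.hom
  haveI : LocallyOfFiniteType (m.left ≫ P.hom) := by rw [Over.w m]; infer_instance
  haveI : LocallyOfFiniteType m.left := locallyOfFiniteType_of_comp m.left P.hom
  haveI : LocallyOfFiniteType h := inferInstanceAs (LocallyOfFiniteType (_ ≫ _))
  haveI hsmooth : Smooth h := by
    refine (Groth.Agent.S1417.result h).2 ?_
    intro B B' _ _ _ _ _ _ ψ ε hψ hker hεm α β _ hcomm
    haveI := PicTangent.EtaleRefine.subsingleton_spec B'
    have hn : IsUnit (n : B') := by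
      have hloc : IsLocalHom ψ := IsLocalHom.of_surjective ψ hψ
      refine hloc.map_nonunit _ ?_
      rw [map_natCast]
      exact isUnit_natCast (α ≫ Pn.ι) (α (IsLocalRing.closedPoint B)).2
    have hεε : ε * ε = 0 := by
      refine hεm ε ((IsLocalRing.mem_maximalIdeal _).2 fun hu => ?_)
      have h0 : ψ ε = 0 := by
        rw [← RingHom.mem_ker, hker]
        exact Ideal.mem_span_singleton_self ε
      exact not_isUnit_zero (h0 ▸ hu.map ψ)
    obtain ⟨γ, hγ, hγm⟩ := PicTangent.PowLift.exists_lift f hP hm' ψ ε hψ hker hεε hn (α ≫ Pn.ι) β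
      (by rw [Category.assoc]; exact hcomm)
    have hr : Set.range γ ⊆ Set.range Pn.ι := by
      rintro _ ⟨z, rfl⟩
      rw [show z = (Spec.map (CommRingCat.ofHom ψ)) (IsLocalRing.closedPoint B) from
        Subsingleton.elim (α := PrimeSpectrum B') _ _]
      show (Spec.map (CommRingCat.ofHom ψ) ≫ γ) (IsLocalRing.closedPoint B) ∈ Set.range Pn.ι
      rw [hγ]
      exact ⟨α (IsLocalRing.closedPoint B), rfl⟩
    refine ⟨IsOpenImmersion.lift Pn.ι γ hr, ?_, ?_⟩
    · rw [← cancel_mono Pn.ι, Category.assoc, IsOpenImmersion.lift_fac, hγ]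
    · show _ ≫ Pn.ι ≫ m.left = β
      rw [← Category.assoc, IsOpenImmersion.lift_fac, hγm]
  haveI : FormallyUnramified h := by
    refine ⟨fun {U} hU {V} hV e => ?_⟩
    have hft : (h.appLE U V e).hom.FiniteType :=
      HasRingHomProperty.appLE @LocallyOfFiniteType h inferInstance ⟨U, hU⟩ ⟨V, hV⟩ e
    letI : Algebra Γ(P.left, U) Γ(Pn, V) := (h.appLE U V e).hom.toAlgebra
    haveI : Algebra.FiniteType Γ(P.left, U) Γ(Pn, V) := hft
    refine PicTangent.DualTest.formallyUnramified_of_dual fun K _ _ g₁ g₂ hg hg₀ => ?_
    let c : ∀ (R : Type u) [CommRing R], (Γ(Pn, V) →+* R) → (Spec (CommRingCat.of R) ⟶ P.left) :=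
      fun R _ g => Spec.map (CommRingCat.ofHom g) ≫ hV.fromSpec ≫ Pn.ι
    have hcm : ∀ (R : Type u) [CommRing R] (g : Γ(Pn, V) →+* R), c R g ≫ m.left =
        Spec.map (CommRingCat.ofHom (g.comp (algebraMap Γ(P.left, U) Γ(Pn, V)))) ≫ hU.fromSpec := by
      intro R _ g
      show (_ ≫ _ ≫ _) ≫ _ = _
      rw [CommRingCat.ofHom_comp, Spec.map_comp, Category.assoc, Category.assoc, Category.assoc]
      congr 1
      exact (IsAffineOpen.SpecMap_appLE_fromSpec h hU hV e).symm
    have hn : (n : K) ≠ 0 := by
      have hk := isUnit_natCast (c K ((TrivSqZeroExt.fstHom K K K).toRingHom.comp g₁))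
        ((Spec.map (CommRingCat.ofHom ((TrivSqZeroExt.fstHom K K K).toRingHom.comp g₁)) ≫ hV.fromSpec)
          (IsLocalRing.closedPoint K)).2
      exact hk.ne_zero
    have key := PicTangent.PowUnram.ext_dual f hP hm' hn (c _ g₁) (c _ g₂) (by rw [hcm, hcm, hg]) (by
      show Spec.map _ ≫ Spec.map _ ≫ _ = Spec.map _ ≫ Spec.map _ ≫ _
      rw [← Category.assoc, ← Category.assoc (Spec.map _) (Spec.map (CommRingCat.ofHom g₂)), ← Spec.map_comp,
        ← Spec.map_comp]
      congr 2
      exact CommRingCat.hom_ext (RingHom.ext hg₀))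
    have e2 := (cancel_mono (hV.fromSpec ≫ Pn.ι)).1 key
    exact congrArg CommRingCat.Hom.hom (Spec.map_injective e2)
  exact Etale.of_formallyUnramified_of_flat h

end Groth.Agent.S5686
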