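import Groth.Statements.S5687
import Groth.Agent.PicTangent.PicSmooth

set_option autoImplicit false
set_option linter.style.haveILetI false
set_option backward.isDefEq.respectTransparency false
set_option backward.isDefEq.respectTransparency.types false
set_option maxHeartbeats 1000000
universe u
open CategoryTheory CategoryTheory.Limits AlgebraicGeometry
open FGA

namespace Groth.Agent.S5687

open AlgebraicGeometry CategoryTheory CategoryTheory.Limits

/-- Let S be a locally Noetherian scheme, f : X ⟶ S proper and flat, and P an S-scheme locally of finite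
type over S representing the relative Picard functor of X over S sheafified for the etale topology.
Let s be a point of S such that the second cohomology group of the structure sheaf of the fibre X_s
vanishes. Then there is an open neighbourhood U of s such that the inverse image of U in P is smooth
over S. (Local finite type of P over S is recorded as a hypothesis.) -/
theorem result {X S : Scheme.{u}} [IsLocallyNoetherian S] (f : X ⟶ S)
    [IsProper f] [Flat f] (P : Over S) [LocallyOfFiniteType P.hom] (hP : PicRel.RepresentedBy f P) (s : S)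
    (h2 : Subsingleton (Coh.HH (pullback f (S.fromSpecResidueField s)) (Coh.structureModule _) 2)) :
    ∃ U : S.Opens, s ∈ U ∧ Smooth ((P.hom ⁻¹ᵁ U).ι ≫ P.hom) := by
  obtain ⟨φP, hφP⟩ := hP
  obtain ⟨U, hsU, hU⟩ := PicTangent.PicSmooth.exists_nhd f 2 s h2
  refine ⟨U, hsU, (Groth.Agent.S1417.result ((P.hom ⁻¹ᵁ U).ι ≫ P.hom)).2 ?_⟩
  intro B B' _ _ _ _ _ _ φ ε hφ hker hεm α β _ hcomm
  have hsing : ∀ z : Spec (CommRingCat.of B'), z = (Spec.map (CommRingCat.ofHom φ)) (IsLocalRing.closedPoint B) :=
    fun z => (PicTangent.PicSmooth.subsingleton_spec_of_artinian B').elim _ _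
  have hcomm' : Spec.map (CommRingCat.ofHom φ) ≫ β = (α ≫ (P.hom ⁻¹ᵁ U).ι) ≫ P.hom := by
    rw [hcomm, Category.assoc]
  have hβU : β (IsLocalRing.closedPoint B') ∈ U := by
    rw [hsing (IsLocalRing.closedPoint B')]
    show (Spec.map (CommRingCat.ofHom φ) ≫ β) (IsLocalRing.closedPoint B) ∈ U
    rw [hcomm']
    exact (α (IsLocalRing.closedPoint B)).2
  obtain ⟨γ, hγ, hγS⟩ := PicTangent.PicSmooth.exists_lift f hφP φ ε hφ hker hεm
    (α ≫ (P.hom ⁻¹ᵁ U).ι) β hcomm' (hU _ hβU)
  have hr : Set.range γ ⊆ Set.range (P.hom ⁻¹ᵁ U).ι := by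
    rintro _ ⟨z, rfl⟩
    rw [hsing z]
    show (Spec.map (CommRingCat.ofHom φ) ≫ γ) (IsLocalRing.closedPoint B) ∈ Set.range (P.hom ⁻¹ᵁ U).ι
    rw [hγ]
    exact ⟨α (IsLocalRing.closedPoint B), rfl⟩
  refine ⟨IsOpenImmersion.lift (P.hom ⁻¹ᵁ U).ι γ hr, ?_, ?_⟩
  · rw [← cancel_mono (P.hom ⁻¹ᵁ U).ι, Category.assoc, IsOpenImmersion.lift_fac, hγ]
  · rw [← Category.assoc, IsOpenImmersion.lift_fac, hγS]

end Groth.Agent.S5687
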