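import Groth.Statements.S5688
import Groth.Agent.S11755
import Groth.Agent.PicNormalProper.Main
import Groth.Agent.PicNormalProper.AbSub

set_option autoImplicit false
universe u
open CategoryTheory CategoryTheory.Limits AlgebraicGeometry
open FGA

namespace Groth.Agent.S5688
open MonoidalCategory CartesianMonoidalCategory MonObj GrpObj
set_option backward.isDefEq.respectTransparency false
set_option backward.isDefEq.respectTransparency.types false


/-- Let k be a field and X a scheme proper over k and geometrically normal (normal after every finite
field extension of k in the same universe); suppose the relative Picard functor of X over k,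
sheafified for the etale topology, is represented by a k-scheme P locally of finite type through the
family of maps φ. Then there is a closed subscheme A of P which is smooth and proper over k and
whose underlying set is the connected component of the identity point of P (the image of the class
of the structure sheaf); being reduced with underlying set a subgroup, A is the abelian subvariety
of P with underlying set the identity component. (The published statement assumes X normal; for a
regular projective curve over an imperfect field whose base change to an algebraic closure is a
cuspidal rational curve the identity component of the Picard scheme is unipotent and not proper, and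
the published proof uses properness of the identity component, which needs the base change of X to
every finite extension of k to be normal; so X is taken geometrically normal here.) -/
theorem result (k : Type u) [Field k] (X : Scheme.{u})
    (f : X ⟶ Spec (CommRingCat.of k)) [IsProper f]
    (hnorm : ∀ (k' : Type u) [Field k'] [Algebra k k'], Module.Finite k k' →
      Pi1.IsNormalScheme (pullback f (Spec.map (CommRingCat.ofHom (algebraMap k k')))))
    (P : Over (Spec (CommRingCat.of k))) [LocallyOfFiniteType P.hom]
    (φ : ∀ T : Over (Spec (CommRingCat.of k)), PicF.Cl (PicF.XT f T) → (T ⟶ P)) (hP : PicRel.IsRelPic f P φ)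
    (pt : ↥(Spec (CommRingCat.of k))) :
    ∃ (A : Scheme.{u}) (i : A ⟶ P.left), IsClosedImmersion i ∧ Smooth (i ≫ P.hom) ∧ IsProper (i ≫ P.hom) ∧
      Set.range i.base = connectedComponent ((φ (Over.mk (𝟙 _)) (PicF.cl (Coh.structureModule _))).left.base pt) := by
  obtain rfl : pt = IsLocalRing.closedPoint k := @Subsingleton.elim ↥(Spec (CommRingCat.of k)) inferInstance _ _
  obtain ⟨-, U, hU, -, hU'⟩ := Groth.Agent.S11755.result k f P φ hP
  haveI := hU'
  haveI := Groth.Agent.PicNormalProper.isProper_component f hnorm hP U hU
  letI := Groth.Agent.PicTangent.GroupLaw.grpObj hP
  haveI := Groth.Agent.PicNormalProper.isCommMonObj hP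
  obtain ⟨G₀, _, i₀, hi₀, hci, -, hr, hirr, -⟩ := Groth.Agent.GrpSchLib.exists_identityComponent (G := P)
  haveI := hi₀; haveI := hci; haveI := hirr
  haveI : Mono i₀.left := inferInstance
  haveI : Mono i₀ := (Over.forget _).mono_of_mono_map (inferInstanceAs (Mono i₀.left))
  haveI : IsCommMonObj G₀ := ⟨by
    rw [← cancel_mono i₀, Category.assoc, IsMonHom.mul_hom, ← Category.assoc,
      BraidedCategory.braiding_naturality i₀ i₀ |>.symm, Category.assoc, IsCommMonObj.mul_comm]⟩
  rw [Groth.Agent.PicTangent.GroupLaw.one_eq hP] at hr
  have hsub : Set.range i₀.left ⊆ Set.range U.ι := by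
    rw [hr, Scheme.Opens.range_ι, hU]
    rfl
  let m := IsOpenImmersion.lift U.ι i₀.left hsub
  have hm : m ≫ U.ι = i₀.left := IsOpenImmersion.lift_fac _ _ _
  haveI : IsClosedImmersion m := by
    haveI : IsClosedImmersion (m ≫ U.ι) := by rw [hm]; infer_instance
    exact IsClosedImmersion.of_comp m U.ι
  haveI : IsProper G₀.hom := by
    rw [← Over.w i₀, ← hm, Category.assoc]
    infer_instance
  haveI : IrreducibleSpace G₀.left := GeometricallyIrreducible.irreducibleSpace_of_subsingleton G₀.hom
  obtain ⟨A, i, hic, hAs, hAp, hAr⟩ := Groth.Agent.PicNormalProper.exists_smooth_proper_subgroup G₀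
  haveI := hic
  refine ⟨A.left, i.left ≫ i₀.left, inferInstance, ?_, ?_, ?_⟩
  · rw [Category.assoc, Over.w i₀, Over.w i]
    exact hAs
  · rw [Category.assoc, Over.w i₀, Over.w i]
    exact hAp
  · rw [Scheme.Hom.comp_base, TopCat.coe_comp, Set.range_comp, hAr, Set.image_univ]
    exact hr

end Groth.Agent.S5688
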