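import Groth.Statements.S5691
import Mathlib.CategoryTheory.Functor.TypeValuedFlat
import Mathlib.CategoryTheory.Limits.Types.Filtered
-- import your own Groth.Agent.* helpers here

set_option autoImplicit false
universe u
open CategoryTheory CategoryTheory.Limits
open FGA

namespace Groth.Agent.S5691

/-- Let C be a small category with finite limits all of whose objects are artinian (the subobjects of
each object satisfy the descending chain condition), and let F be a set-valued functor on C
preserving finite limits. Then F is strictly pro-representable: there are a small cofiltered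
category J and a diagram D : J ⥤ C all of whose transition morphisms are epimorphisms such that F is
isomorphic to the colimit of the corepresentable functors Hom(D j, -). -/
theorem result {C : Type u} [SmallCategory C]
    [HasFiniteLimits C] (hart : ∀ X : C, IsArtinianObject X) (F : C ⥤ Type u) [PreservesFiniteLimits F] :
    ∃ (J : Type u) (_ : SmallCategory J) (_ : IsCofiltered J) (D : J ⥤ C),
      (∀ ⦃j j' : J⦄ (a : j ⟶ j'), Epi (D.map a)) ∧ Nonempty (F ≅ colimit (D.op ⋙ coyoneda)) := by
  classical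
  haveI : IsCofiltered F.Elements := Functor.isCofiltered_elements F
  let P : ObjectProperty F.Elements := fun e => ∀ ⦃Y : C⦄ (i : Y ⟶ e.1) [Mono i], (∃ y, F.map i y = e.2) → IsIso i
  have hmin : ∀ e : F.Elements, ∃ (j : P.FullSubcategory), Nonempty (j.obj ⟶ e) := by
    rintro ⟨X, x⟩
    haveI := hart X
    obtain ⟨S, ⟨y, hy⟩, hS⟩ := (wellFounded_lt (α := Subobject X)).has_min
      {S : Subobject X | ∃ y, F.map S.arrow y = x}
      ⟨⊤, (F.mapIso (asIso (⊤ : Subobject X).arrow)).inv x, by
        exact Iso.inv_hom_id_apply (F.mapIso (asIso (⊤ : Subobject X).arrow)) x⟩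
    refine ⟨⟨⟨(S : C), y⟩, fun Y i _ ⟨z, hz⟩ => ?_⟩, ⟨⟨S.arrow, hy⟩⟩⟩
    let T := Subobject.mk (i ≫ S.arrow)
    have hle : T ≤ S := Subobject.mk_le_of_comm i rfl
    have hT : T = S := by
      by_contra hne
      refine hS T ⟨F.map (Subobject.underlyingIso (i ≫ S.arrow)).inv z, ?_⟩ (lt_of_le_of_ne hle hne)
      rw [← Functor.map_comp_apply, Subobject.underlyingIso_arrow, Functor.map_comp_apply, hz, hy]
    haveI : IsSplitEpi i := IsSplitEpi.mk' ⟨Subobject.ofLEMk S (i ≫ S.arrow) hT.ge,
      (cancel_mono S.arrow).1 (by rw [Category.assoc, Category.id_comp, Subobject.ofLEMk_comp])⟩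
    exact isIso_of_mono_of_isSplitEpi i
  have hepi : ∀ ⦃e : F.Elements⦄ (j : P.FullSubcategory) (a : e ⟶ j.obj), Epi a.1 := fun e j a => by
    refine ⟨fun {W} u v huv => ?_⟩
    haveI := j.property (equalizer.ι u v) ⟨F.map (equalizer.lift a.1 huv) e.2, by
      rw [← Functor.map_comp_apply, equalizer.lift_ι, a.2]⟩
    exact (cancel_epi (equalizer.ι u v)).1 (equalizer.condition u v)
  have hthin : ∀ ⦃e : F.Elements⦄ (j : P.FullSubcategory) (a b : j.obj ⟶ e), a = b := fun e j a b => by
    let h := IsCofiltered.eqHom a b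
    have hc : h.1 ≫ a.1 = h.1 ≫ b.1 := congrArg Subtype.val (IsCofiltered.eq_condition a b)
    haveI := j.property (equalizer.ι a.1 b.1) ⟨F.map (equalizer.lift h.1 hc) (IsCofiltered.eq a b).2, by
      rw [← Functor.map_comp_apply, equalizer.lift_ι, h.2]⟩
    exact Subtype.ext ((cancel_epi (equalizer.ι a.1 b.1)).1 (equalizer.condition a.1 b.1))
  haveI : IsCofiltered P.FullSubcategory :=
    { cone_objs := fun j j' => by
        obtain ⟨m, ⟨a⟩⟩ := hmin (IsCofiltered.min j.obj j'.obj)
        exact ⟨m, ⟨a ≫ IsCofiltered.minToLeft _ _⟩, ⟨a ≫ IsCofiltered.minToRight _ _⟩, trivial⟩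
      cone_maps := fun j j' f g => ⟨j, 𝟙 _, by rw [ObjectProperty.hom_ext P (hthin j f.hom g.hom)]⟩
      nonempty := by
        obtain ⟨e⟩ := IsCofiltered.nonempty (C := F.Elements)
        exact ⟨(hmin e).choose⟩ }
  let D : P.FullSubcategory ⥤ C := P.ι ⋙ CategoryOfElements.π F
  refine ⟨P.FullSubcategory, inferInstance, inferInstance, D, fun j j' a => hepi j' a.hom, ?_⟩
  let c : Cocone (D.op ⋙ coyoneda) :=
    { pt := F
      ι :=
        { app := fun j =>
            { app := fun Z => ↾fun (g : j.unop.obj.1 ⟶ Z) => F.map g j.unop.obj.2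
              naturality := fun Z Z' w => by ext g; exact Functor.map_comp_apply F g w _ }
          naturality := fun j j' a => by
            ext Z g
            show F.map (a.unop.hom.1 ≫ g) j'.unop.obj.2 = F.map g j.unop.obj.2
            exact (Functor.map_comp_apply F _ _ _).trans (congrArg _ a.unop.hom.2) } }
  have hc : IsColimit c := evaluationJointlyReflectsColimits c fun Z => by
    refine Types.FilteredColimit.isColimitOf _ _ (fun x => ?_) fun i j g g' h => ?_
    · obtain ⟨m, ⟨a⟩⟩ := hmin ⟨Z, x⟩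
      exact ⟨Opposite.op m, a.1, a.2.symm⟩
    · obtain ⟨m, ⟨a⟩⟩ := hmin (IsCofiltered.min i.unop.obj j.unop.obj)
      let a₁ := a ≫ IsCofiltered.minToLeft _ _
      let a₂ := a ≫ IsCofiltered.minToRight _ _
      refine ⟨Opposite.op m, (ObjectProperty.homMk a₁).op, (ObjectProperty.homMk a₂).op, ?_⟩
      have h' : F.map g i.unop.obj.2 = F.map g' j.unop.obj.2 := h
      let b₁ : m.obj ⟶ (⟨Z, F.map g i.unop.obj.2⟩ : F.Elements) := ⟨a₁.1 ≫ g, (Functor.map_comp_apply F _ _ _).trans (congrArg _ a₁.2)⟩
      let b₂ : m.obj ⟶ (⟨Z, F.map g i.unop.obj.2⟩ : F.Elements) := ⟨a₂.1 ≫ g', ((Functor.map_comp_apply F _ _ _).trans (congrArg _ a₂.2)).trans h'.symm⟩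
      exact congrArg Subtype.val (hthin m b₁ b₂)
  exact ⟨(IsColimit.coconePointUniqueUpToIso (colimit.isColimit _) hc).symm⟩

end Groth.Agent.S5691
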