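import Groth.Statements.S5692
import Groth.Agent.S10847

set_option autoImplicit false
universe u
open CategoryTheory CategoryTheory.Limits AlgebraicGeometry
open FGA

namespace Groth.Agent.S5692

/-- Let S be a locally Noetherian scheme, M a coherent module on S and r a natural number. Then there is
an immersion e : Z ⟶ S with the following universal property: for every scheme T and every morphism
g : T ⟶ S, the pullback of M along g is locally free of rank r if and only if g factors through e.
If moreover M is generated by r sections on a neighbourhood of every point of S (equivalently all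
fibres of M have rank at most r), then e is a closed immersion. -/
theorem result (S : Scheme.{u}) [IsLocallyNoetherian S]
    (M : S.Modules) (hM : Coh.IsCoh M) (r : ℕ) :
    ∃ (Z : Scheme.{u}) (e : Z ⟶ S), IsImmersion e ∧
      (∀ (T : Scheme.{u}) (g : T ⟶ S),
        FlatMod.IsFinLocFreeOfRank r ((Scheme.Modules.pullback g).obj M) ↔ ∃ g' : T ⟶ Z, g' ≫ e = g) ∧
      ((∀ s : ↥S, ∃ U : S.Opens, s ∈ U ∧ ∃ p : FlatMod.freeMod (↑U) r ⟶ M.restrict U.ι, Epi p) →
        IsClosedImmersion e) := by
  haveI := hM.1
  obtain ⟨Z, e, he, hu⟩ := Groth.Agent.S10847.result M hM.2 r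
  refine ⟨Z, e, he, fun T g => (hu T g).symm, fun hgen => ?_⟩
  let I : S.IdealSheafData := if r = 0 then ⊥ else Fitt.sheafIdeal M (r - 1)
  have hsupp : ∀ s : S, s ∉ (Fitt.sheafIdeal M r).support := fun s =>
    (Groth.Agent.FittX.generated_iff hM.1 hM.2 s r).1 (hgen s)
  have hiff : ∀ (T : Scheme.{u}) (g : T ⟶ S), (∃ g' : T ⟶ Z, g' ≫ e = g) ↔ I ≤ g.ker := fun T g =>
    (hu T g).trans ((Groth.Agent.S10847.pullback_rank_iff hM.1 hM.2 g r).trans
      (and_iff_left fun s _ => hsupp s))
  obtain ⟨a, ha⟩ := (hiff _ I.subschemeι).2 I.ker_subschemeι.ge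
  let b := IsClosedImmersion.lift I.subschemeι e
    (I.ker_subschemeι.trans_le ((hiff Z e).1 ⟨𝟙 _, Category.id_comp _⟩))
  have hb : b ≫ I.subschemeι = e := IsClosedImmersion.lift_fac _ _ _
  haveI : IsIso b := ⟨a, by rw [← cancel_mono e, Category.assoc, ha, hb, Category.id_comp],
    by rw [← cancel_mono I.subschemeι, Category.assoc, hb, ha, Category.id_comp]⟩
  rw [← hb]
  infer_instance

end Groth.Agent.S5692
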