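import Groth.Statements.S5693
import Groth.Agent.Torsion17.Basic
set_option autoImplicit false
universe u
open CategoryTheory CategoryTheory.Limits MonoidalCategory CartesianMonoidalCategory MonObj GrpObj AlgebraicGeometry
open FGA

namespace Groth.Agent.S5693

/-- Let S be a locally Noetherian scheme, G a commutative group scheme locally of finite type over S and
n ≥ 1 an integer. The set of points x of G for which n is the least positive integer such that the
n-th power morphism sends x into the union of the connected components of the identity of the fibres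
is locally constructible in G (the order function on the torsion-component set is locally
constructible). -/
theorem result (S : Scheme.{u}) [IsLocallyNoetherian S] (G : Over S) [GrpObj G]
    [IsCommMonObj G] [LocallyOfFiniteType G.hom] (n : ℕ) (hn : 0 < n) :
    Topology.IsLocallyConstructible {x : ↥G.left | ((𝟙 G : G ⟶ G) ^ n).left.base x ∈ SGA3x.neutralSet G ∧
      ∀ d : ℕ, 0 < d → d < n → ((𝟙 G : G ⟶ G) ^ d).left.base x ∉ SGA3x.neutralSet G} := by
  haveI : LocallyOfFinitePresentation G.hom := LocallyOfFinitePresentation.iff_locallyOfFiniteType.2 ‹_›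
  haveI : IsLocallyNoetherian G.left := LocallyOfFiniteType.isLocallyNoetherian G.hom
  have hlc : Topology.IsLocallyConstructible (SGA3x.neutralSet G) := GeomIrrSpread.isLocallyConstructible_neutralSet G
  obtain ⟨hi, hp⟩ := EGA41Lib.lc_iff.mp hlc
  let T : ℕ → Set G.left := fun d => ((𝟙 G : G ⟶ G) ^ d).left.base ⁻¹' SGA3x.neutralSet G
  have hT : ∀ d, Topology.IsLocallyConstructible (T d) := fun d => EGA41Lib.lc_iff.mpr
    ⟨MorLib.LimPro.isIndConstructible_preimage hi _, ProConsLib.preimage hp _⟩
  have e : {x : G.left | ((𝟙 G : G ⟶ G) ^ n).left.base x ∈ SGA3x.neutralSet G ∧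
      ∀ d : ℕ, 0 < d → d < n → ((𝟙 G : G ⟶ G) ^ d).left.base x ∉ SGA3x.neutralSet G} =
      T n ∩ (⋃ d ∈ Finset.Ioo 0 n, T d)ᶜ := by
    ext x
    simp only [T, Set.mem_setOf_eq, Set.mem_inter_iff, Set.mem_preimage, Set.mem_compl_iff, Set.mem_iUnion,
      Finset.mem_Ioo, not_exists]
    exact and_congr_right fun _ => ⟨fun h d hd => h d hd.1 hd.2, fun h d h1 h2 => h d ⟨h1, h2⟩⟩
  rw [e]
  have hc : ∀ A : Set G.left, Topology.IsLocallyConstructible A → Topology.IsLocallyConstructible Aᶜ := fun A hA =>
    EGA41Lib.lc_iff.mpr ⟨EGA41Lib.ind_iff_compl.mpr (by rw [compl_compl]; exact (EGA41Lib.lc_iff.mp hA).2),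
      EGA41Lib.ind_iff_compl.mp (EGA41Lib.lc_iff.mp hA).1⟩
  refine (hT n).inter (hc _ ?_)
  induction Finset.Ioo 0 n using Finset.induction_on with
  | empty => simpa using Topology.IsLocallyConstructible.empty
  | insert a s _ ih =>
    rw [Finset.set_biUnion_insert]
    exact (hT a).union ih

end Groth.Agent.S5693
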