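import Groth.Statements.S5694
import Groth.Agent.Torsion17.Closed
set_option autoImplicit false
universe u
open CategoryTheory CategoryTheory.Limits MonoidalCategory CartesianMonoidalCategory MonObj GrpObj AlgebraicGeometry
open FGA

namespace Groth.Agent.S5694

/-- Let S be a locally Noetherian scheme and G a commutative group scheme locally of finite type over S
such that the union of the connected components of the identity in the fibres of G is closed. Let
p(s) denote the characteristic exponent of the residue field of S at s. Then the set of points x of
G such that some p(s)^h-th power morphism (h ≥ 0, s the image of x in S) sends x into that union, is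
closed in G. -/
theorem result (S : Scheme.{u}) [IsLocallyNoetherian S] (G : Over S) [GrpObj G]
    [IsCommMonObj G] [LocallyOfFiniteType G.hom] (h0 : IsClosed (SGA3x.neutralSet G))
    (p : ↥S → ℕ) (hp : ∀ s : ↥S, ringExpChar (S.residueField s) = p s) :
    IsClosed {x : ↥G.left | ∃ h m : ℕ, m = p (G.hom.base x) ^ h ∧
      ((𝟙 G : G ⟶ G) ^ m).left.base x ∈ SGA3x.neutralSet G} := by
  haveI : LocallyOfFinitePresentation G.hom := LocallyOfFinitePresentation.iff_locallyOfFiniteType.2 ‹_›
  simp only [← hp]
  exact Torsion17.isClosed_expChar h0

end Groth.Agent.S5694
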