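import Groth.Statements.S5697
import Groth.Agent.Torsion17.GenUniv

set_option autoImplicit false
universe u
open CategoryTheory CategoryTheory.Limits MonoidalCategory CartesianMonoidalCategory MonObj GrpObj AlgebraicGeometry
open FGA

namespace Groth.Agent.S5697

/-- Let S be a locally Noetherian scheme and G a commutative group scheme locally of finite type over S.
Assume that the union of the connected components of the identity of the fibres of G is closed in G,
and that G ⟶ S is universally open at the points of that union: for every base change S' ⟶ S, the
structure map of G' = G ×_S S' is open at every point of the identity-component set of G' (the image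
of every open neighbourhood is a neighbourhood). Then the prime-to-p torsion component set (points x
some n-th power of which, n ≥ 1 prime to the residue characteristic exponent, lies in the
identity-component set) is universally open over S at the points of the identity-component set, in
the same sense: for every base change S' ⟶ S, every point x' of the identity-component set of G' and
every open neighbourhood U of x', the image in S' of the intersection of U with the prime-to-p
torsion component set of G' is a neighbourhood of the image of x'. (The published statement
concludes this at every point of the prime-to-p torsion component set; it fails for the closed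
subgroup scheme of the constant group ℤ/2 over a discrete valuation ring of residue characteristic
different from 2 that keeps the non-identity element only over the closed point: there the
identity-component set is a copy of the base, all hypotheses hold, and the isolated non-identity
point over the closed point is 2-torsion with image the closed point alone. The published proof
treats neighbourhoods of points of the identity-component set, so the conclusion is stated at those
points here.) -/
theorem result (S : Scheme.{u}) [IsLocallyNoetherian S]
    (G : Over S) [GrpObj G] [IsCommMonObj G] [LocallyOfFiniteType G.hom] (h0 : IsClosed (SGA3x.neutralSet G))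
    (hopen : ∀ (S' : Scheme.{u}) (g : S' ⟶ S) (x' : ↥(Red.bc g G).left), x' ∈ SGA3x.neutralSet (Red.bc g G) →
      ∀ U : Set ↥(Red.bc g G).left, IsOpen U → x' ∈ U →
        (Red.bc g G).hom.base '' U ∈ nhds ((Red.bc g G).hom.base x'))
    (S' : Scheme.{u}) (g : S' ⟶ S) (x' : ↥(Red.bc g G).left)
    (hx' : x' ∈ SGA3x.neutralSet (Red.bc g G))
    (U : Set ↥(Red.bc g G).left) (hU : IsOpen U) (hxU : x' ∈ U) :
    (Red.bc g G).hom.base '' (U ∩ {x : ↥(Red.bc g G).left | ∃ n : ℕ, 0 < n ∧ Nat.Coprime n (ringExpChar (S'.residueField ((Red.bc g G).hom.base x))) ∧
        ((𝟙 (Red.bc g G) : (Red.bc g G) ⟶ (Red.bc g G)) ^ n).left.base x ∈ SGA3x.neutralSet (Red.bc g G)}) ∈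
      nhds ((Red.bc g G).hom.base x') := by
  haveI : LocallyOfFinitePresentation G.hom := LocallyOfFinitePresentation.iff_locallyOfFiniteType.2 ‹_›
  refine Filter.mem_of_superset (Torsion17.image_inter_mem_nhds G (fun x hx Y h y hy N hN => ?_) g hx' U hU hxU) ?_
  · obtain ⟨O, hON, hO, hyO⟩ := mem_nhds_iff.1 hN
    refine Filter.mem_of_superset (hopen Y h y ?_ O hO hyO) (Set.image_mono hON)
    rw [GrpSchLib.Neutral.neutralSet_bc]
    show pullback.fst G.hom h y ∈ SGA3x.neutralSet G
    rw [show pullback.fst G.hom h y = x from hy]
    exact hx
  · exact Set.image_mono fun z hz => ⟨hz.1, 1, one_pos, Nat.coprime_one_left _, by rw [pow_one]; exact hz.2⟩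

end Groth.Agent.S5697
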