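import Groth.Statements.S5699
import Groth.Agent.Pic13Lib.QuotKernel
import Groth.Agent.Pic13Lib.BoundedRegular

set_option autoImplicit false
universe u
open CategoryTheory CategoryTheory.Limits AlgebraicGeometry
open FGA

namespace Groth.Agent.S5699
open Groth.Agent CategoryTheory CategoryTheory.Limits AlgebraicGeometry
open Groth.Agent.RegEpi Groth.Agent.Pic13Lib

theorem twistOn_id_iso {k : Type u} [Field k] {n : ℕ} (F : (CohB1.ProjSpace n k).Modules) (d : ℤ) :
    Nonempty (Pic13.twistOn k (𝟙 (CohB1.ProjSpace n k)) F d ≅ CohB1.tensorMod F (Twist.twistProjSpace n k d)) := by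
  letI := H23.PicMul.clMonoid (CohB1.ProjSpace n k)
  refine H23.PicMul.cl_eq_iff.1 ?_
  show PicF.cl (CohB1.tensorMod F _) = _
  rw [H23.PicMul.cl_tensor, H23.PicMul.cl_tensor,
    H23.PicMul.cl_eq_iff.2 ⟨(Scheme.Modules.pullbackId (CohB1.ProjSpace n k)).app (Twist.twistProjSpace n k d)⟩]
  rfl

/-- A quotient of a free sheaf is regular as soon as the kernel is. -/
theorem regular_of_kernel {k : Type u} [Field k] {n b : ℕ} {G : (CohB1.ProjSpace n k).Modules}
    (φ : FlatMod.freeMod (CohB1.ProjSpace n k) b ⟶ G) [Epi φ] (hG : Coh.IsCoh G) {m : ℤ}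
    (hm : Curv2.IsMRegular k n (kernel φ) m) {m' : ℤ} (h0 : 0 ≤ m') (hle : m ≤ m') (q : ℕ) (hq : 1 ≤ q) :
    Subsingleton (Coh.HH (CohB1.ProjSpace n k) (CohB1.tensorMod G (Twist.twistProjSpace n k (m' - q))) q) := by
  haveI := Mumford.isNoetherian_pn (k := k) n
  haveI hP : IsNoetherian (Proj (CohB1.polyGrading n k)) := Proj16.isNoetherian_proj _
  have hfree : Coh.IsCoh (FlatMod.freeMod (Proj (CohB1.polyGrading n k)) b) := Syzygy.isCoh_sigma_O b
  have hK : Coh.IsCoh (kernel φ) := QCoh.isCoh_kernel hfree hG φ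
  let S : ShortComplex (Proj (CohB1.polyGrading n k)).Modules :=
    ShortComplex.mk (kernel.ι φ) φ (kernel.condition φ)
  have hS : S.ShortExact := ShortComplex.ShortExact.mk' (ShortComplex.exact_of_f_is_kernel _ (kernelIsKernel φ)) (inferInstanceAs (Mono (kernel.ι φ))) ‹Epi φ›
  have hex := RegDescent.twSeq_exact (ProjRegular.coords k n) ProjRegular.coords_mem ProjRegular.coords_cover hS (m' - q)
  rcases Nat.lt_or_ge n q with hqn | hqn
  · exact ProjRegular.subsingleton_HH_high (k := k) (n := n) hG _ q hqn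
  refine PnCoh.Finite.subsingleton_HH_X₃ hex q ?_ ?_
  · obtain ⟨e⟩ := twF_sigma_unit_iso (k := k) (n := n) b (m' - (q : ℤ))
    exact QCoh.subsingleton_HH_of_iso e.symm q
      (subsingleton_HH_sigma_twist b _ _ (fun h => by omega) (fun h => by omega))
  · show Subsingleton (Coh.HH _ ((twF (m' - (q : ℤ))).obj (kernel φ)) (q + 1))
    rcases Nat.lt_or_ge q n with h | h
    · obtain ⟨e, rfl⟩ : ∃ e : ℕ, m' = m + ((e : ℤ) - 1) := ⟨(m' - m + 1).toNat, by omega⟩
      rw [show m + ((e : ℤ) - 1) - (q : ℤ) = m + (e : ℤ) - ((q + 1 : ℕ) : ℤ) by push_cast; ring]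
      exact ProjRegular.isMRegular_add hK hm e (q + 1) (by omega) h
    · exact ProjRegular.subsingleton_HH_high (k := k) (n := n) hK _ (q + 1) (by omega)


/-- Let k be an algebraically closed field, P projective n-space over k, E a coherent module on P and Φ
a finite set of functions from ℤ to ℤ. Then the coherent quotient modules F of E whose Hilbert
function r ↦ χ(P, F(r)) (alternating sum of the dimensions of the cohomology groups in degrees at
most n) lies in Φ form a bounded family: there are a k-scheme T of finite type and a coherent module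
on P ×_k T such that every such F is isomorphic to its fibre at some k-point of T. Stated over an
algebraically closed field; the published statement is the relative version over a Noetherian base
for classes of sheaves on the fibres, which this special case does not cover. -/
theorem result (k : Type u) [Field k] [IsAlgClosed k] (n : ℕ)
    (E : (CohB1.ProjSpace n k).Modules) (hE : Coh.IsCoh E) (Φ : Set (ℤ → ℤ)) (hΦ : Φ.Finite) :
    Pic13.IsBounded k (CohB1.ProjSpace n k) (fun F =>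
      Coh.IsCoh F ∧ (∃ p : E ⟶ F, Epi p) ∧
        (fun r : ℤ => FGA.eulerCharLE k (CohB1.ProjSpace n k)
          (CohB1.tensorMod F (Twist.twistProjSpace n k r)) n) ∈ Φ) := by
  classical
  let P := CohB1.ProjSpace n k
  haveI : IsProper (P ↘ Spec (CommRingCat.of k)) := PnCoh.Chow.isProper_toSpec n _
  haveI := Mumford.isNoetherian_pn (k := k) n
  haveI hP : IsNoetherian (Proj (CohB1.polyGrading n k)) := Proj16.isNoetherian_proj _
  obtain ⟨m₀, hm₀⟩ := exists_isMRegular (𝟙 P) hE
  have hgg := Pic13Regular.isGloballyGenerated_twistOn (𝟙 P) hE hm₀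
  have hEc := Pic13Regular.isCoh_twistOn (𝟙 P) hE (m₀ : ℤ)
  haveI := S0002.result k P _ hEc 0
  obtain ⟨b, ψ, -, hψ⟩ := exists_sigma_hom k (Pic13.twistOn k (𝟙 P) E (m₀ : ℤ))
  haveI := hψ hgg
  choose mf hmf using fun f : ℤ → ℤ => exists_kernel_regularity.{u} n b (fun t => f (t + (m₀ : ℤ)))
  let S := hΦ.toFinset
  let m' : ℤ := ((S.sup fun f => (mf f).toNat : ℕ) : ℤ)
  let N : ℕ := S.sup fun f => (f (m' + m₀)).toNat
  refine isBounded_mono ?_ (isBounded_regular_h0 k n P (𝟙 P) (Category.id_comp _) (m' + m₀) N)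
  rintro F ⟨hF, ⟨p, hp⟩, hfΦ⟩
  let f : ℤ → ℤ := fun r => FGA.eulerCharLE k P (CohB1.tensorMod F (Twist.twistProjSpace n k r)) n
  have hfS : f ∈ S := hΦ.mem_toFinset.2 hfΦ
  obtain ⟨e⟩ := twistOn_id_iso E (m₀ : ℤ)
  let Ft : P.Modules := CohB1.tensorMod F (Twist.twistProjSpace n k (m₀ : ℤ))
  have hFt : Coh.IsCoh Ft := ProjRegular.isCoh_twistBy hF _
  let pt : CohB1.tensorMod E (Twist.twistProjSpace n k (m₀ : ℤ)) ⟶ Ft := (twF (k := k) (n := n) (m₀ : ℤ)).map p
  haveI : Epi pt := @Functor.map_epi _ _ _ _ (twF (k := k) (n := n) (m₀ : ℤ)) _ _ _ p hp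
  let φ : FlatMod.freeMod P b ⟶ Ft := ψ ≫ e.hom ≫ pt
  haveI : Epi φ := @epi_comp _ _ _ _ _ ψ ‹_› (e.hom ≫ pt) (epi_comp _ _)
  have hker := hmf f k Ft φ hFt ‹_› fun t => by
    obtain ⟨e'⟩ := twF_twF_iso (k := k) (n := n) F (m₀ : ℤ) t (t + (m₀ : ℤ)) (add_comm _ _)
    exact Mumford.euler_iso e'
  have hle : mf f ≤ m' := (Int.self_le_toNat _).trans (Int.ofNat_le.2 (Finset.le_sup (f := fun f => (mf f).toNat) hfS))
  have hreg : Pic13.IsMRegular k (𝟙 P) F (m' + m₀) := fun q hq => by
    obtain ⟨e'⟩ := twF_twF_iso (k := k) (n := n) F (m₀ : ℤ) (m' - q) (m' + m₀ - q) (by ring)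
    obtain ⟨e''⟩ := twistOn_id_iso F (m' + m₀ - q)
    refine QCoh.subsingleton_HH_of_iso e''.symm q ?_
    exact QCoh.subsingleton_HH_of_iso e' q (regular_of_kernel φ hFt hker (Int.natCast_nonneg _) hle q hq)
  refine ⟨hF, hreg, le_trans ?_ (Finset.le_sup (f := fun f => (f (m' + m₀)).toNat) hfS)⟩
  obtain ⟨e''⟩ := twistOn_id_iso F (m' + m₀)
  have hh : FGA.eulerCharLE k P (Pic13.twistOn k (𝟙 P) F (m' + m₀)) n =
      (Module.finrank k (Coh.HH P (Pic13.twistOn k (𝟙 P) F (m' + m₀)) 0) : ℤ) := by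
    refine (Finset.sum_eq_single 0 (fun j _ hj => ?_) (by simp)).trans (by simp)
    haveI := Pic13Regular.vanish (𝟙 P) hF hreg j (Nat.one_le_iff_ne_zero.2 hj) (m' + m₀) (by omega)
    rw [Module.finrank_zero_of_subsingleton, Nat.cast_zero, mul_zero]
  show _ ≤ (FGA.eulerCharLE k P (CohB1.tensorMod F (Twist.twistProjSpace n k (m' + m₀))) n).toNat
  rw [← Mumford.euler_iso e'', hh, Int.toNat_natCast]

end Groth.Agent.S5699
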