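import Groth.Statements.S5700
import Groth.Agent.FpqcPic.Main

set_option autoImplicit false
universe u
open CategoryTheory CategoryTheory.Limits AlgebraicGeometry
open FGA

namespace Groth.Agent.S5700
open scoped Groth.Agent.H23.PicMul
set_option backward.isDefEq.respectTransparency false
set_option backward.isDefEq.respectTransparency.types false


/-- Let f : X ⟶ S be quasi-compact and separated, with the induced maps from sections of the structure
sheaf of S to sections of the structure sheaf of X bijective over every open of S, and admitting a
section σ; let g : S' ⟶ S be flat, surjective and quasi-compact, X' = X ×_S S', S'' = S' ×_S S' and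
X'' = X ×_S S'' with its two projections to X'. If L' is an invertible module on X' whose pullbacks
along the two projections X'' ⟶ X' become isomorphic after tensoring the second with the pullback of
some invertible module on S'', then there are an invertible module L on X and an invertible module
N' on S' with L' isomorphic to the tensor product of the pullback of L and the pullback of N'.
(Exactness of Pic(X)/Pic(S) → Pic(X')/Pic(S') ⇉ Pic(X'')/Pic(S'').) (The published statement asks
for sections of f only locally on S and is phrased with relative Picard classes, the global sections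
of the Zariski sheaf on S associated with U ↦ Pic(X_U); this row assumes a global section, in which
case those classes are classes of invertible modules on X modulo those pulled back from S, and the
local-section form follows from it by restricting to the opens of S over which a section exists.) -/
theorem result {X S S' : Scheme.{u}} (f : X ⟶ S)
    [QuasiCompact f] [IsSeparated f] (hf : ∀ U : S.Opens, Function.Bijective (f.app U))
    (σ : S ⟶ X) (hσ : σ ≫ f = 𝟙 S)
    (g : S' ⟶ S) [Flat g] [Surjective g] [QuasiCompact g]
    (L' : (pullback f g).Modules) (hL' : PicF.IsInvertible L')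
    (hcomp : ∃ N'' : (pullback g g).Modules, PicF.IsInvertible N'' ∧
      Nonempty ((Scheme.Modules.pullback (pullback.map f (pullback.fst g g ≫ g) f g (𝟙 X) (pullback.fst g g) (𝟙 S)
          ((Category.comp_id f).trans (Category.id_comp f).symm) (Category.comp_id _))).obj L' ≅
        CohB1.tensorMod ((Scheme.Modules.pullback (pullback.map f (pullback.fst g g ≫ g) f g (𝟙 X) (pullback.snd g g) (𝟙 S)
          ((Category.comp_id f).trans (Category.id_comp f).symm) ((Category.comp_id _).trans pullback.condition))).obj L')
          ((Scheme.Modules.pullback (pullback.snd f (pullback.fst g g ≫ g))).obj N''))) :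
    ∃ (L : X.Modules) (N' : S'.Modules), PicF.IsInvertible L ∧ PicF.IsInvertible N' ∧
      Nonempty (L' ≅ CohB1.tensorMod ((Scheme.Modules.pullback (pullback.fst f g)).obj L)
        ((Scheme.Modules.pullback (pullback.snd f g)).obj N')) := by
  haveI : Flat (Over.mk (𝟙 S)).hom := inferInstanceAs (Flat (𝟙 S))
  obtain ⟨N'', hN'', ⟨e⟩⟩ := hcomp
  obtain ⟨M, N, hM, hN, h⟩ := FpqcPic.exists_descent_mod_base f σ hσ hf (Over.mk (𝟙 S)) g (L := L') hL'
    (n := PicF.cl N'') ⟨N'', rfl, hN''⟩ (by
      have h1 := H23.PicMul.cl_eq_iff.2 ⟨e⟩
      refine Eq.trans ?_ (h1.trans (Eq.trans (H23.PicMul.cl_tensor _ _) ?_))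
      · refine congrArg (fun m => PicF.pullCl m (PicF.cl L')) (pullback.hom_ext ?_ ?_)
        · exact (RigDatum.XTmap_fst f _).trans ((pullback.lift_fst _ _ _).trans (Category.comp_id _)).symm
        · exact (RigDatum.XTmap_snd f _).trans (pullback.lift_snd _ _ _).symm
      · refine congrArg₂ (fun m c => PicF.pullCl m (PicF.cl L') * c) (pullback.hom_ext ?_ ?_) rfl
        · exact ((pullback.lift_fst _ _ _).trans (Category.comp_id _)).trans (RigDatum.XTmap_fst f (RigDatum.r₂ (Over.mk (𝟙 S)) g)).symm
        · exact (pullback.lift_snd _ _ _).trans (RigDatum.XTmap_snd f (RigDatum.r₂ (Over.mk (𝟙 S)) g)).symm)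
  have hi : IsIso (pullback.fst f (𝟙 S)) := inferInstance
  refine ⟨(Scheme.Modules.pullback (inv (pullback.fst f (𝟙 S)))).obj M, N, PicClLib.isInvertible_pullback _ hM, hN,
    H23.PicMul.cl_eq_iff.1 (h.trans ?_)⟩
  refine Eq.trans ?_ (H23.PicMul.cl_tensor _ _).symm
  refine congrArg₂ (· * ·) ?_ rfl
  show PicF.pullCl _ (PicF.cl M) = PicF.pullCl (pullback.fst f g) (PicF.pullCl (inv (pullback.fst f (𝟙 S))) (PicF.cl M))
  rw [PicClLib.pullCl_comp]
  refine congrArg (fun m => PicF.pullCl m (PicF.cl M)) ?_
  rw [IsIso.eq_comp_inv]
  exact RigDatum.XTmap_fst f (AbDual.ovrHom (Over.mk (𝟙 S)) g)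

end Groth.Agent.S5700
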