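import Groth.Statements.S5702
import Mathlib
import Groth.Agent.AzumayaX.SepAdjoin
-- import your own Groth.Agent.* helpers here

set_option autoImplicit false
universe u v
open TensorProduct
open Dix

namespace Groth.Agent.S5702

open Polynomial

/-- The algebra generated by an element with separable minimal polynomial is separable. -/
theorem isSeparable_adjoin {k : Type u} [Field k] {A : Type v} [Ring A] [Algebra k A]
    [FiniteDimensional k A] (x : A) (h : (minpoly k x).Separable) :
    Algebra.IsSeparable k (Algebra.adjoin k ({x} : Set A)) := by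
  classical
  refine ⟨fun y => ?_⟩
  let P := minpoly k x
  let Ω := AlgebraicClosure k
  let S := (P.map (algebraMap k Ω)).roots.toFinset
  obtain ⟨y, hy⟩ := y
  obtain ⟨F, rfl⟩ : ∃ F : k[X], aeval x F = y := by
    rw [Algebra.adjoin_singleton_eq_range_aeval] at hy
    exact hy
  have hsep : ∀ c ∈ S, IsSeparable k (aeval c F) := by
    intro c hc
    have hc' : aeval c P = 0 := by
      have := isRoot_of_mem_roots (Multiset.mem_toFinset.1 hc)
      rwa [IsRoot, eval_map, ← aeval_def] at this
    have hcs : IsSeparable k c := h.of_dvd (minpoly.dvd k c hc')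
    haveI := (IntermediateField.isSeparable_adjoin_simple_iff_isSeparable (F := k) (E := Ω)).2 hcs
    have := Algebra.IsSeparable.isSeparable k
      (⟨aeval c F, by
        rw [← IntermediateField.mem_toSubalgebra]
        exact IntermediateField.algebra_adjoin_le_adjoin k _
          (Polynomial.aeval_mem_adjoin_singleton k c)⟩ : IntermediateField.adjoin k ({c} : Set Ω))
    rwa [IsSeparable, ← minpoly.algebraMap_eq (FaithfulSMul.algebraMap_injective _ Ω)] at this
  let T : Finset k[X] := S.image fun c => minpoly k (aeval c F)
  let G : k[X] := ∏ m ∈ T, m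
  have hGsep : G.Separable := by
    refine separable_prod' (fun a ha b hb hab => ?_) fun a ha => ?_
    · obtain ⟨c, hc, rfl⟩ := Finset.mem_image.1 ha
      obtain ⟨c', hc', rfl⟩ := Finset.mem_image.1 hb
      refine ((minpoly.irreducible (Algebra.IsIntegral.isIntegral _)).coprime_iff_not_dvd).2 fun hd => hab ?_
      exact eq_of_monic_of_associated (minpoly.monic (Algebra.IsIntegral.isIntegral _))
        (minpoly.monic (Algebra.IsIntegral.isIntegral _))
        ((minpoly.irreducible (Algebra.IsIntegral.isIntegral _)).associated_of_dvd
          (minpoly.irreducible (Algebra.IsIntegral.isIntegral _)) hd)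
    · obtain ⟨c, hc, rfl⟩ := Finset.mem_image.1 ha
      exact hsep c hc
  have hdvd : P ∣ G.comp F := by
    rw [← map_dvd_map' (algebraMap k Ω)]
    by_cases h0 : (G.comp F).map (algebraMap k Ω) = 0
    · rw [h0]; exact dvd_zero _
    refine Splits.dvd_of_roots_le_roots (IsAlgClosed.splits _) ((minpoly.monic
      (Algebra.IsIntegral.isIntegral x)).map _).ne_zero
      ((Multiset.le_iff_subset (nodup_roots h.map)).2 fun c hc => ?_)
    rw [mem_roots h0, IsRoot, eval_map, ← aeval_def, aeval_comp]
    have hm : minpoly k (aeval c F) ∈ T := Finset.mem_image_of_mem _ (Multiset.mem_toFinset.2 hc)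
    obtain ⟨q, hq⟩ : minpoly k (aeval c F) ∣ G := Finset.dvd_prod_of_mem _ hm
    rw [hq, map_mul, minpoly.aeval, zero_mul]
  show (minpoly k (⟨aeval x F, hy⟩ : Algebra.adjoin k ({x} : Set A))).Separable
  rw [← minpoly.algHom_eq (Algebra.adjoin k ({x} : Set A)).val Subtype.val_injective]
  refine hGsep.of_dvd (minpoly.dvd k _ ?_)
  obtain ⟨q, hq⟩ := hdvd
  show aeval (aeval x F) G = 0
  rw [← aeval_comp, hq, map_mul, minpoly.aeval, zero_mul]

/-- Let A be a finite-dimensional central simple algebra over a field k, of dimension r² over k. Then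
there is an element x of A such that the commutative subalgebra k[x] it generates is étale over k
(all its elements are separable over k) and has dimension r over k. -/
theorem result (k : Type u) [Field k] (A : Type v) [Ring A] [Algebra k A] [Algebra.IsCentral k A] [IsSimpleRing A] [FiniteDimensional k A] (r : ℕ) (hA : Module.finrank k A = r ^ 2) : ∃ x : A, Algebra.IsSeparable k (Algebra.adjoin k ({x} : Set A)) ∧ Module.finrank k (Algebra.adjoin k ({x} : Set A)) = r := by
  obtain ⟨b, hsep, hdeg⟩ := (finite_or_infinite k).elim
    (fun _ => Groth.Agent.AzumayaX.exists_separable_of_finite (k := k) hA)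
    (fun _ => Groth.Agent.AzumayaX.exists_separable_of_infinite (k := k) hA)
  exact ⟨b, isSeparable_adjoin b hsep,
    (Groth.Agent.AzumayaX.finrank_adjoin_singleton (Algebra.IsIntegral.isIntegral b)).trans hdeg⟩

end Groth.Agent.S5702
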