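import Groth.Statements.S5703
import Mathlib
import Groth.Agent.Hensel.Local
-- import your own Groth.Agent.* helpers here

set_option autoImplicit false
universe u v
open TensorProduct
open Dix

namespace Groth.Agent.S5703

open IsLocalRing Groth.Agent.Hensel

/-- Idempotents lift along ring maps out of a finite algebra over a henselian local ring. -/
theorem exists_idem {R : Type u} [CommRing R] [HenselianLocalRing R] {C : Type u} [Ring C] [Algebra R C]
    [Module.Finite R C] {D : Type*} [Ring D] (r : C →+* D) (c : C) (hc : IsIdempotentElem (r c)) :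
    ∃ e : C, IsIdempotentElem e ∧ r e = r c := by
  obtain ⟨f, hf, hfc⟩ := IsIntegral.of_finite R c
  let S := AdjoinRoot f
  have : Module.Finite R S := hf.finite_adjoinRoot
  let φ : S →ₐ[R] C := Ideal.Quotient.liftₐ (Ideal.span {f}) (Polynomial.aeval c) fun a ha => by
    obtain ⟨b, rfl⟩ := Ideal.mem_span_singleton'.1 ha
    rw [map_mul, show Polynomial.aeval c f = 0 from hfc, mul_zero]
  obtain ⟨_, e, he, hsep⟩ := exists_idempotents_of_henselian R S
  obtain ⟨ι, _, Ci, _, hloc, ⟨Φ⟩⟩ :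
      ∃ (ι : Type u) (_ : Fintype ι) (Ci : ι → Type u) (_ : ∀ i, CommRing (Ci i)),
        (∀ i, IsLocalRing (Ci i)) ∧ Nonempty (S ≃+* ∀ i, Ci i) :=
    exists_ringEquiv_pi_isLocalRing_of_idempotents he hsep
  obtain ⟨ε, hε, hεx⟩ := exists_idempotent_sub_mem_span_of_ringEquiv_pi Φ (AdjoinRoot.root f)
  have hroot : φ (AdjoinRoot.root f) = c := by
    show Polynomial.aeval c Polynomial.X = c
    exact Polynomial.aeval_X c
  obtain ⟨y, hy⟩ := Ideal.mem_span_singleton'.1 hεx
  refine ⟨φ ε, hε.map φ, ?_⟩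
  have := congrArg (fun z => r (φ z)) hy
  simp only [map_mul, map_sub, hroot, hc.eq, sub_self, mul_zero] at this
  exact sub_eq_zero.1 this.symm

variable {R : Type u} [CommRing R] [IsLocalRing R]

theorem bijective_of_sub_mem {M : Type*} [AddCommGroup M] [Module R M] [Module.Finite R M]
    (f : M →ₗ[R] M) (h : ∀ x, f x - x ∈ maximalIdeal R • (⊤ : Submodule R M)) : Function.Bijective f := by
  refine OrzechProperty.bijective_of_surjective_endomorphism f (LinearMap.range_eq_top.1 ?_)
  refine top_le_iff.1 (Submodule.le_of_le_smul_of_le_jacobson_bot Module.Finite.fg_top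
    (IsLocalRing.jacobson_eq_maximalIdeal ⊥ bot_ne_top).ge fun x _ => ?_)
  exact Submodule.mem_sup.2 ⟨f x, ⟨x, rfl⟩, -(f x - x), neg_mem (h x), by abel⟩

theorem mk_one_surjective {M : Type*} [AddCommGroup M] [Module R M] :
    Function.Surjective (TensorProduct.mk R (ResidueField R) M 1) :=
  TensorProduct.mk_surjective R M (ResidueField R) Ideal.Quotient.mk_surjective

theorem mk_one_eq_zero_iff {M : Type*} [AddCommGroup M] [Module R M] (x : M) :
    TensorProduct.mk R (ResidueField R) M 1 x = 0 ↔ x ∈ maximalIdeal R • (⊤ : Submodule R M) := by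
  rw [← LinearMap.mem_ker]
  exact iff_of_eq (congrArg (fun N => x ∈ N) (LinearMap.ker_tensorProductMk (Q := M) (I := maximalIdeal R)))

theorem map_smul_top_le {M N : Type*} [AddCommGroup M] [Module R M] [AddCommGroup N] [Module R N]
    (f : M →ₗ[R] N) {x : M} (hx : x ∈ maximalIdeal R • (⊤ : Submodule R M)) :
    f x ∈ maximalIdeal R • (⊤ : Submodule R N) :=
  (Submodule.map_smul'' _ (⊤ : Submodule R M) f).le.trans (Submodule.smul_mono le_rfl le_top) ⟨x, hx, rfl⟩

theorem mem_smul_top_of_forall {M : Type*} [AddCommGroup M] [Module R M] [Module.Free R M] [Module.Finite R M]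
    (T : Module.End R M) (h : ∀ v, T v ∈ maximalIdeal R • (⊤ : Submodule R M)) :
    T ∈ maximalIdeal R • (⊤ : Submodule R (Module.End R M)) := by
  classical
  let b := Module.Free.chooseBasis R M
  have hT : T = ∑ i, LinearMap.smulRightₗ (R := R) (M := M) (M₂ := M) (b.coord i) (T (b i)) := by
    refine b.ext fun j => ?_
    simp [LinearMap.sum_apply, Finsupp.single_apply, ite_smul]
  rw [hT]
  exact sum_mem fun i _ => map_smul_top_le _ (h _)



/-- Let R be a henselian local ring with residue field k and let A, B be Azumaya algebras over R. Then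
every isomorphism of k-algebras e₀ : k ⊗_R A ≃ k ⊗_R B is induced by an isomorphism of R-algebras e
: A ≃ B, in the sense that e₀ (1 ⊗ a) = 1 ⊗ e(a) for all a. In particular Azumaya algebras over R
with isomorphic special fibres are isomorphic. -/
theorem result (R : Type u) [CommRing R] [HenselianLocalRing R] (A : Type u) [Ring A] [Algebra R A] [IsAzumaya R A] (B : Type u) [Ring B] [Algebra R B] [IsAzumaya R B] (e₀ : (IsLocalRing.ResidueField R ⊗[R] A) ≃ₐ[IsLocalRing.ResidueField R] (IsLocalRing.ResidueField R ⊗[R] B)) : ∃ e : A ≃ₐ[R] B, ∀ a : A, e₀ ((1 : IsLocalRing.ResidueField R) ⊗ₜ[R] a) = (1 : IsLocalRing.ResidueField R) ⊗ₜ[R] (e a) := by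
  classical
  let k := IsLocalRing.ResidueField R
  let m := IsLocalRing.maximalIdeal R
  have : Module.Free R A := Module.free_of_flat_of_isLocalRing
  have : Module.Free R B := Module.free_of_flat_of_isLocalRing
  let qA : A →ₐ[R] k ⊗[R] A := Algebra.TensorProduct.includeRight
  let qB : B →ₐ[R] k ⊗[R] B := Algebra.TensorProduct.includeRight
  have hqA : Function.Surjective qA := mk_one_surjective
  have hqB : Function.Surjective qB := mk_one_surjective
  have kerA : ∀ x : A, qA x = 0 ↔ x ∈ m • (⊤ : Submodule R A) := mk_one_eq_zero_iff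
  have kerB : ∀ x : B, qB x = 0 ↔ x ∈ m • (⊤ : Submodule R B) := mk_one_eq_zero_iff
  let ē : A →ₐ[R] k ⊗[R] B := (e₀.restrictScalars R).toAlgHom.comp qA
  let ēi : B →ₐ[R] k ⊗[R] A := (e₀.symm.restrictScalars R).toAlgHom.comp qB
  obtain ⟨g, hg⟩ := Module.projective_lifting_property qB.toLinearMap ē.toLinearMap hqB
  obtain ⟨h, hh⟩ := Module.projective_lifting_property qA.toLinearMap ēi.toLinearMap hqA
  have hga : ∀ a, qB (g a) = e₀ (qA a) := fun a => LinearMap.congr_fun hg a
  have hha : ∀ b, qA (h b) = e₀.symm (qB b) := fun b => LinearMap.congr_fun hh b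
  have hgb : Function.Bijective g := by
    have h1 := bijective_of_sub_mem (g.comp h) fun x => (kerB _).1 (by
      rw [map_sub, LinearMap.comp_apply, hga, hha, AlgEquiv.apply_symm_apply, sub_self])
    have h2 := bijective_of_sub_mem (h.comp g) fun x => (kerA _).1 (by
      rw [map_sub, LinearMap.comp_apply, hha, hga, AlgEquiv.symm_apply_apply, sub_self])
    exact ⟨Function.Injective.of_comp (f := h) h2.1, Function.Surjective.of_comp (g := h) h1.2⟩
  let C := A ⊗[R] Bᵐᵒᵖ
  let L : C ≃ₗ[R] Module.End R B :=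
    (TensorProduct.congr (LinearEquiv.ofBijective g hgb) (LinearEquiv.refl R Bᵐᵒᵖ)).trans
      (LinearEquiv.ofBijective (AlgHom.mulLeftRight R B).toLinearMap IsAzumaya.bij)
  have hL : ∀ a b v, L (a ⊗ₜ[R] b) v = g a * v * b.unop := fun a b v =>
    AlgHom.mulLeftRight_apply R B (g a) b v
  let act : C →ₐ[R] Module.End R (k ⊗[R] B) :=
    (AlgHom.mulLeftRight R (k ⊗[R] B)).comp (Algebra.TensorProduct.map ē (AlgHom.op qB))
  have hact : ∀ x v, act x (qB v) = qB (L x v) := by
    intro x v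
    induction x using TensorProduct.induction_on with
    | zero => simp
    | tmul a b =>
      rw [hL, map_mul, map_mul, hga]
      exact AlgHom.mulLeftRight_apply R (k ⊗[R] B) (ē a) _ (qB v)
    | add x y hx hy => rw [map_add, map_add, LinearMap.add_apply, LinearMap.add_apply, hx, hy, map_add]
  -- a rank one projection fixing `1`
  let bB := Module.Free.chooseBasis R B
  obtain ⟨i₀, hi₀⟩ : ∃ i, IsUnit (bB.repr 1 i) := by
    by_contra! hno
    have h1 : (1 : B) ∈ m • (⊤ : Submodule R B) := by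
      rw [← bB.sum_repr 1]
      exact sum_mem fun i _ => Submodule.smul_mem_smul ((IsLocalRing.mem_maximalIdeal _).2 (hno i)) trivial
    have h0 : (1 : k ⊗[R] B) = 0 := (map_one qB).symm.trans ((kerB 1).2 h1)
    have : Nontrivial B := (FaithfulSMul.algebraMap_injective R B).nontrivial
    have : Nonempty (Module.Free.ChooseBasisIndex R B) := bB.index_nonempty
    have : Nontrivial (k ⊗[R] B) := (bB.baseChange k).repr.toEquiv.nontrivial
    exact one_ne_zero h0
  let ε : B →ₗ[R] R := (↑hi₀.unit⁻¹ : R) • bB.coord i₀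
  have hε : ε 1 = 1 := hi₀.val_inv_mul
  let T : Module.End R B := ε.smulRight 1
  have hT : ∀ v, T v = ε v • (1 : B) := fun v => rfl
  have hactT : ∀ v, act (L.symm T) (qB v) = ε v • qB 1 := fun v => by
    rw [hact, L.apply_symm_apply, hT, map_smul]
  have hidem : IsIdempotentElem (act.toRingHom (L.symm T)) := by
    refine LinearMap.ext fun y => ?_
    obtain ⟨v, rfl⟩ := hqB y
    show act (L.symm T) (act (L.symm T) (qB v)) = act (L.symm T) (qB v)
    rw [hactT, map_smul, hactT, hε, one_smul]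
  obtain ⟨e, he, hec⟩ := exists_idem (R := R) act.toRingHom (L.symm T) hidem
  have hecv : ∀ v, act e (qB v) = ε v • qB 1 := fun v => by
    rw [show act e = act (L.symm T) from hec, hactT]
  let σ : C →ₗ[R] B := (LinearMap.applyₗ (1 : B)).comp L.toLinearMap
  have hσ : ∀ x, qB (σ x) = act x (qB 1) := fun x => (hact x 1).symm
  let ιB : B →ₗ[R] C := ((TensorProduct.mk R A Bᵐᵒᵖ) 1).comp (MulOpposite.opLinearEquiv R).toLinearMap
  let Ψ : B →ₗ[R] C := (LinearMap.mulRight R e).comp ιB
  have hΨ : ∀ b, Ψ b = ((1 : A) ⊗ₜ[R] MulOpposite.op b) * e := fun b => rfl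
  have hΨact : ∀ b, act (Ψ b) (qB 1) = qB b := fun b => by
    rw [hΨ, map_mul, Module.End.mul_apply, hecv, hε, one_smul, hact, hL, mul_one, map_mul, hga, map_one, map_one,
      one_mul]
    rfl
  have hbij : Function.Bijective (σ ∘ₗ Ψ) := bijective_of_sub_mem _ fun b => (kerB _).1 (by
    rw [map_sub, LinearMap.comp_apply, hσ, hΨact, sub_self])
  let Φ : B ≃ₗ[R] B := LinearEquiv.ofBijective (σ ∘ₗ Ψ) hbij
  have hΦ : ∀ b, σ (Ψ b) = Φ b := fun b => rfl
  -- the complementary projection of `C e` vanishes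
  let Q : C →ₗ[R] C := LinearMap.mulRight R e - (Ψ ∘ₗ Φ.symm.toLinearMap ∘ₗ σ ∘ₗ LinearMap.mulRight R e)
  have hQdef : ∀ x, Q x = x * e - Ψ (Φ.symm (σ (x * e))) := fun x => rfl
  have hQe : ∀ x, Q x * e = Q x := fun x => by
    rw [hQdef, sub_mul, hΨ, mul_assoc, mul_assoc, he.eq]
  have hQσ : ∀ x, σ (Q x) = 0 := fun x => by
    rw [hQdef, map_sub, hΦ, Φ.apply_symm_apply, sub_self]
  have hQQ : ∀ x, Q (Q x) = Q x := fun x => by
    rw [hQdef (Q x), hQe, hQσ, map_zero, map_zero, sub_zero]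
  have hQm : ∀ x, Q x ∈ m • (⊤ : Submodule R C) := fun x => by
    have h1 : L (Q x) ∈ m • (⊤ : Submodule R (Module.End R B)) := mem_smul_top_of_forall _ fun v => (kerB _).1 (by
      rw [← hact, ← hQe x, map_mul, Module.End.mul_apply, hecv, map_smul, ← hσ, hQσ, map_zero, smul_zero])
    simpa using map_smul_top_le L.symm.toLinearMap h1
  have hQ0 : LinearMap.range Q = ⊥ := by
    refine Submodule.eq_bot_of_le_smul_of_le_jacobson_bot m _ (Module.Finite.fg_top.map Q |> fun h => by
        rwa [Submodule.map_top] at h) ?_ (IsLocalRing.jacobson_eq_maximalIdeal ⊥ bot_ne_top).ge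
    rintro _ ⟨x, rfl⟩
    rw [← hQQ x]
    have := Submodule.mem_map_of_mem (f := Q) (hQm x)
    rwa [Submodule.map_smul'', Submodule.map_top] at this
  let φ : A →ₗ[R] B := Φ.symm.toLinearMap ∘ₗ σ ∘ₗ LinearMap.mulRight R e ∘ₗ
    (TensorProduct.mk R A Bᵐᵒᵖ).flip 1
  have key : ∀ a, (a ⊗ₜ[R] (1 : Bᵐᵒᵖ)) * e = Ψ (φ a) := fun a => by
    have h1 : Q (a ⊗ₜ[R] (1 : Bᵐᵒᵖ)) = 0 := (Submodule.mem_bot R).1 (hQ0 ▸ ⟨_, rfl⟩)
    exact sub_eq_zero.1 h1
  have hinj : Function.Injective Ψ := Function.Injective.of_comp (f := σ) hbij.1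
  have hone : φ 1 = 1 := hinj (by
    rw [← key, hΨ]
    rfl)
  have hmul : ∀ a a', φ (a * a') = φ a * φ a' := fun a a' => hinj (by
    have e1 : (a * a') ⊗ₜ[R] (1 : Bᵐᵒᵖ) = (a ⊗ₜ[R] 1) * (a' ⊗ₜ[R] 1) := by
      rw [Algebra.TensorProduct.tmul_mul_tmul, one_mul]
    have e2 : (a ⊗ₜ[R] (1 : Bᵐᵒᵖ)) * ((1 : A) ⊗ₜ[R] MulOpposite.op (φ a')) =
        ((1 : A) ⊗ₜ[R] MulOpposite.op (φ a')) * (a ⊗ₜ[R] 1) := by
      simp [Algebra.TensorProduct.tmul_mul_tmul]
    rw [← key, e1, mul_assoc, key a', hΨ, ← mul_assoc, e2, mul_assoc, key a, hΨ, ← mul_assoc,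
      Algebra.TensorProduct.tmul_mul_tmul, one_mul, hΨ, ← MulOpposite.op_mul])
  have hmod : ∀ a, qB (φ a) = e₀ (qA a) := fun a => by
    rw [← hΨact, ← key, map_mul, Module.End.mul_apply, hecv, hε, one_smul, hact, hL, ← hga]
    simp
  let gi := (LinearEquiv.ofBijective g hgb).symm
  have hb : Function.Bijective φ := by
    have h1 := bijective_of_sub_mem (φ.comp gi.toLinearMap) fun x => (kerB _).1 (by
      rw [map_sub, LinearMap.comp_apply, hmod, ← hga]
      exact sub_eq_zero.2 (congrArg qB ((LinearEquiv.ofBijective g hgb).apply_symm_apply x)))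
    refine ⟨?_, Function.Surjective.of_comp h1.2⟩
    intro x y hxy
    obtain ⟨x, rfl⟩ := gi.surjective x
    obtain ⟨y, rfl⟩ := gi.surjective y
    exact congrArg gi (h1.1 hxy)
  exact ⟨AlgEquiv.ofBijective (AlgHom.ofLinearMap φ hone hmul) hb, fun a => (hmod a).symm⟩

end Groth.Agent.S5703
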