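import Groth.Statements.S5710
import Groth.Agent.AzumayaX.SepElement

set_option autoImplicit false
universe u v
open TensorProduct
open Dix

namespace Groth.Agent.S5710

/-- Over a local base where the open neighbourhood is the whole scheme. Let R be a local ring with
residue field k and A an Azumaya algebra over R whose rank as a (free) R-module is r². Then A has a
maximal étale subalgebra: there are a commutative R-algebra E, finite étale and free of rank r over
R, and an R-algebra homomorphism u : E → A which is injective on the special fibre, k ⊗_R E → k ⊗_R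
A. -/
theorem result (R : Type u) [CommRing R] [IsLocalRing R] (A : Type u) [Ring A] [Algebra R A] [IsAzumaya R A] (r : ℕ) (hA : Module.finrank R A = r ^ 2) : ∃ (E : Type u) (_ : CommRing E) (_ : Algebra R E), Algebra.Etale R E ∧ Module.Finite R E ∧ Module.Free R E ∧ Module.finrank R E = r ∧ ∃ u : E →ₐ[R] A, Function.Injective (u.toLinearMap.lTensor (IsLocalRing.ResidueField R)) := by
  classical
  let κ := IsLocalRing.ResidueField R
  haveI : Module.Free R A := Module.free_of_flat_of_isLocalRing
  haveI := Groth.Agent.AzumayaX.isAzumaya_baseChange R κ A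
  haveI := Groth.Agent.AzumayaX.nontrivial_of_isAzumaya κ (κ ⊗[R] A)
  obtain ⟨hc, hs⟩ := Groth.Agent.AzumayaX.fibre_of_isAzumaya (R := R) A κ
  have hfr : Module.finrank κ (κ ⊗[R] A) = r ^ 2 := by rw [Module.finrank_baseChange, hA]
  obtain ⟨b, hb1, hb2⟩ : ∃ b : κ ⊗[R] A, (minpoly κ b).Separable ∧ (minpoly κ b).natDegree = r := by
    rcases finite_or_infinite κ with h | h
    · exact Groth.Agent.AzumayaX.exists_separable_of_finite hfr
    · exact Groth.Agent.AzumayaX.exists_separable_of_infinite hfr
  obtain ⟨ξ, rfl⟩ : ∃ ξ : A, (1 : κ) ⊗ₜ[R] ξ = b := by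
    clear hb1 hb2
    induction b using TensorProduct.induction_on with
    | zero => exact ⟨0, TensorProduct.tmul_zero _ _⟩
    | add x y hx hy =>
      obtain ⟨x', rfl⟩ := hx
      obtain ⟨y', rfl⟩ := hy
      exact ⟨x' + y', TensorProduct.tmul_add _ _ _⟩
    | tmul c x =>
      obtain ⟨c', rfl⟩ := IsLocalRing.residue_surjective (R := R) c
      exact ⟨c' • x, by rw [← TensorProduct.smul_tmul, ← Algebra.algebraMap_eq_smul_one]; rfl⟩
  obtain ⟨-, E, i1, i2, h1, h2, h3, h4, -, hu⟩ :=
    Groth.Agent.AzumayaX.powers_of_separable hA ξ hb1 hb2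
  exact ⟨E, i1, i2, h1, h2, h3, h4, hu⟩

end Groth.Agent.S5710
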