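import Groth.Statements.S5712
import Groth.Agent.EtTrace.H1Point
-- import your own Groth.Agent.* helpers here

set_option autoImplicit false
set_option backward.isDefEq.respectTransparency false
set_option backward.isDefEq.respectTransparency.types false
set_option linter.style.haveILetI false
universe u
open CategoryTheory AlgebraicGeometry
open Dix

namespace Groth.Agent.S5712

/-- Let X be a quasi-compact quasi-separated scheme and x a point of X, with i_x : Spec κ(x) → X. Then
H¹(X_et, i_{x*} G_m) = 0, and the canonical map H²(X_et, i_{x*} G_m) → H²(Spec κ(x)_et, G_m) is
injective. (The published statement is about the sheaf of invertible rational functions, which for X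
reduced with finitely many irreducible components is the finite product of the sheaves i_{x*} G_m
over the maximal points x; the argument is the present one at each point.) The second map is
EtLim.HofPush, whose exactness hypothesis on the inverse image is carried as an instance binder. -/
theorem result (X : Scheme.{u}) [CompactSpace X] [QuasiSeparatedSpace X] (x : X) [Limits.PreservesFiniteLimits (EtCoh.pull (X.fromSpecResidueField x))] : Subsingleton (EtCoh.H X ((Dix.skyPush X x).obj (EtCoh.Gm (Spec (X.residueField x)))) 1) ∧ Function.Injective (EtLim.HofPush (X.fromSpecResidueField x) (EtCoh.Gm (Spec (X.residueField x))) 2) := by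
  haveI : Subsingleton (Spec (X.residueField x)) := inferInstance
  haveI : Nonempty (Spec (X.residueField x)) := inferInstance
  haveI := Groth.Agent.EtTrace.subsingleton_H1_Gm_point (Spec (X.residueField x))
  refine ⟨⟨fun a b => ?_⟩, Groth.Agent.EtTrace.hofPush_two_injective _ _ (Groth.Agent.EtTrace.isZero_Rpush_one_Gm x)⟩
  exact Groth.Agent.EtTrace.hofPush_one_injective (X.fromSpecResidueField x) _
    (Subsingleton.elim (α := EtCoh.H (Spec (X.residueField x)) (EtCoh.Gm (Spec (X.residueField x))) 1) _ _)

end Groth.Agent.S5712
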