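import Groth.Statements.S5720
import Groth.Agent.AzumayaX.SplitNear

set_option autoImplicit false
universe u v
open TensorProduct
open Dix

namespace Groth.Agent.S5720

/-- (ii) ⇒ (iii), over an affine base X = Spec R. Let A be an Azumaya algebra over the commutative ring
R and p a prime ideal of R. Then there exist f ∈ R with f ∉ p, a finite étale and faithfully flat
R_f-algebra R' (a finite étale surjective cover of the neighbourhood D(f) of p) and an integer r ≥ 1
such that R' ⊗_R A is isomorphic as an R'-algebra to the matrix algebra M_r(R'). (Existence of the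
isomorphism only.) -/
theorem result (R : Type u) [CommRing R] (A : Type u) [Ring A] [Algebra R A] [IsAzumaya R A] (p : Ideal R) [p.IsPrime] : ∃ f : R, f ∉ p ∧ ∃ (R' : Type u) (_ : CommRing R') (_ : Algebra R R') (_ : Algebra (Localization.Away f) R') (_ : IsScalarTower R (Localization.Away f) R'), Module.Finite (Localization.Away f) R' ∧ Algebra.Etale (Localization.Away f) R' ∧ Module.FaithfullyFlat (Localization.Away f) R' ∧ ∃ r : ℕ, 1 ≤ r ∧ Nonempty ((R' ⊗[R] A) ≃ₐ[R'] Matrix (Fin r) (Fin r) R') := by
  obtain ⟨f, hf, r, hr, P, hPm, hPdeg, hPsep, ⟨e⟩⟩ := Groth.Agent.AzumayaX.exists_split_near R A p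
  haveI hfree : Module.Free (Localization.Away f) (AdjoinRoot P) := hPm.free_adjoinRoot
  haveI hfin : Module.Finite (Localization.Away f) (AdjoinRoot P) := hPm.finite_adjoinRoot
  have hκ : IsUnit (algebraMap R p.ResidueField f) :=
    isUnit_iff_ne_zero.2 fun h => hf (Ideal.algebraMap_residueField_eq_zero.1 h)
  haveI : Nontrivial (Localization.Away f) :=
    (IsLocalization.Away.lift (S := Localization.Away f) f hκ).domain_nontrivial
  haveI : Nontrivial (AdjoinRoot P) := by
    refine Module.nontrivial_of_finrank_pos (R := Localization.Away f) ?_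
    rw [(AdjoinRoot.powerBasis' hPm).finrank, AdjoinRoot.powerBasis'_dim, hPdeg]
    omega
  exact ⟨f, hf, AdjoinRoot P, inferInstance, inferInstance, inferInstance, inferInstance, hfin,
    Groth.Agent.AzumayaX.etale_adjoinRoot hPm hPsep, inferInstance, r, hr,
    ⟨(Groth.Agent.AzumayaX.cancelAlg (R := R) (Localization.Away f) (AdjoinRoot P) A).symm.trans e⟩⟩

end Groth.Agent.S5720
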