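import Groth.Statements.S5747
import Groth.Agent.RelTildeX.Twist
import Groth.Agent.GrModX.FiniteShift
-- import your own Groth.Agent.* helpers here

set_option autoImplicit false
universe u
open CategoryTheory CategoryTheory.Limits AlgebraicGeometry Opposite TopologicalSpace
open scoped HomogeneousIdeal
noncomputable section
open Coherent

namespace Groth.Agent.S5747

open Groth.Agent Groth.Agent.RelTildeX

lemma irrelevant_fg' {Y : Scheme.{u}} (𝒮 : RelProj.QCGrAlg Y) (U : Y.Opens) (hU : IsAffineOpen U)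
    (h : (𝒮.str.app (Opposite.op U)).hom.FiniteType) :
    (HomogeneousIdeal.irrelevant (𝒮.deg U hU)).toIdeal.FG := by
  refine (Proj16.irrelevant_fg_iff _).2 ?_
  letI : Algebra Γ(Y, U) (𝒮.deg U hU 0) := (𝒮.strZero U hU).hom.toAlgebra
  letI : Algebra Γ(Y, U) (𝒮.presheaf.obj (Opposite.op U)) := (𝒮.str.app (Opposite.op U)).hom.toAlgebra
  haveI : IsScalarTower Γ(Y, U) (𝒮.deg U hU 0) (𝒮.presheaf.obj (Opposite.op U)) :=
    IsScalarTower.of_algebraMap_eq fun _ => rfl
  haveI : Algebra.FiniteType Γ(Y, U) (𝒮.presheaf.obj (Opposite.op U)) := h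
  exact Algebra.FiniteType.of_restrictScalars_finiteType Γ(Y, U) _ _


/-- Let Y be a Noetherian scheme, 𝒮 a quasi-coherent positively graded O_Y-algebra of finite type
(generators of any positive degrees), p : X = Proj(𝒮) → Y its relative homogeneous spectrum with its
charts over the affine opens, and n any integer. Then the homogeneous component O_X(n), given
through its chartwise identifications with the twisting modules O(n) on the Proj 𝒮(U), is a coherent
O_X-module (quasi-coherent of finite type; X is locally Noetherian). -/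
theorem result {Y X : Scheme.{u}} [AlgebraicGeometry.IsNoetherian Y]
    (𝒮 : RelProj.QCGrAlg Y)
    (hft : ∀ (U : Y.Opens) (hU : IsAffineOpen U), (𝒮.str.app (op U)).hom.FiniteType)
    (p : X ⟶ Y)
    (chart : ∀ (U : Y.Opens) (hU : IsAffineOpen U), (((p ⁻¹ᵁ U : X.Opens) : Scheme.{u}) ≅ Proj (𝒮.deg U hU)))
    (hP : RelProj.IsRelProj 𝒮 p chart) (n : ℤ) (L : X.Modules)
    (lam : ∀ (U : Y.Opens) (hU : IsAffineOpen U),
      L ⟶ (Scheme.Modules.pushforward (RelProj.emb p chart U hU)).obj (GrTwist.twist (𝒮.deg U hU) n))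
    (hL : RelProj.IsRelTwist 𝒮 p chart n L lam) : Coh.IsCoh L := by
  classical
  refine ⟨isQCoh_twist hL, isFT_of_openCover (embCover p chart) (isQCoh_twist hL) fun U => ?_⟩
  refine isFT_of_iso_qcoh (twistIso hL U.1 U.2).symm
    (GrModX.isQCoh_tilde (𝒮.deg U.1 U.2) (𝒮.deg U.1 U.2) n) ?_
  refine GrModX.isFT_tilde_shift (𝒮.deg U.1 U.2) (𝒮.deg U.1 U.2)
    (irrelevant_fg' 𝒮 U.1 U.2 (hft U.1 U.2)) n 0 ⟨{1}, ?_⟩
  rw [Finset.coe_singleton]
  refine (Ideal.span_singleton_one).trans (eq_top_iff.2 fun x _ => ?_).symm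
  rw [← DirectSum.sum_support_decompose (𝒮.deg U.1 U.2) x]
  exact Submodule.sum_mem _ fun i _ => Submodule.subset_span
    (Set.mem_iUnion₂.2 ⟨i, Set.mem_Ici.2 (Nat.zero_le i), SetLike.coe_mem _⟩)

end Groth.Agent.S5747
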