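import Groth.Statements.S5724
import Groth.Agent.RelTildeX.Twist
import Groth.Agent.GrTwistX.Ample
import Groth.Agent.AmpleX.RelAffine
import Groth.Agent.S5747

set_option autoImplicit false
universe u
open CategoryTheory CategoryTheory.Limits AlgebraicGeometry TopologicalSpace Opposite
open scoped HomogeneousIdeal
open EGA2

namespace Groth.Agent.S5724

open Groth.Agent Groth.Agent.RelTildeX

lemma exists_homogeneous_cover {A σ : Type u} [CommRing A] [SetLike σ A] [AddSubgroupClass σ A] (𝒜 : ℕ → σ)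
    [GradedRing 𝒜] (h : (HomogeneousIdeal.irrelevant 𝒜).toIdeal.FG) :
    ∃ T : Finset (ℕ × A), (∀ q ∈ T, 0 < q.1 ∧ q.2 ∈ 𝒜 q.1) ∧
      ∀ y : ProjectiveSpectrum 𝒜, ∃ q ∈ T, q.2 ∉ y.asHomogeneousIdeal := by
  classical
  obtain ⟨G, hG⟩ := h
  refine ⟨(G.biUnion fun g => ((DirectSum.decompose 𝒜 g).support.filter fun i => 0 < i).image
    fun i => (i, (DirectSum.decompose 𝒜 g i : A))), fun q hq => ?_, fun y => ?_⟩
  · simp only [Finset.mem_biUnion, Finset.mem_image, Finset.mem_filter] at hq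
    obtain ⟨g, _, i, ⟨_, hi⟩, rfl⟩ := hq
    exact ⟨hi, SetLike.coe_mem _⟩
  by_contra! hall
  refine y.not_irrelevant_le (show (𝒜₊).toIdeal ≤ y.asHomogeneousIdeal.toIdeal from hG ▸ Ideal.span_le.2 fun g hg => ?_)
  rw [SetLike.mem_coe, ← DirectSum.sum_support_decompose 𝒜 g]
  refine Ideal.sum_mem _ fun i hi => ?_
  rcases Nat.eq_zero_or_pos i with rfl | hpos
  · have h0 : GradedRing.proj 𝒜 0 g = 0 := (HomogeneousIdeal.mem_irrelevant_iff 𝒜 g).1
      (show g ∈ (𝒜₊).toIdeal from hG ▸ Ideal.subset_span hg)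
    rw [GradedRing.proj_apply] at h0
    rw [h0]
    exact Ideal.zero_mem _
  · exact hall (i, _) (Finset.mem_biUnion.2 ⟨g, hg, Finset.mem_image.2 ⟨i, Finset.mem_filter.2 ⟨hi, hpos⟩, rfl⟩⟩)

/-- Let Y be a quasi-compact scheme and 𝒮 a quasi-coherent graded O_Y-algebra of finite type (over every
affine open U of Y the ring 𝒮(U) is an algebra of finite type over the functions on U, through the
structure map), and let f : X → Y be its relative homogeneous spectrum Proj(𝒮), given with its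
charts over affine opens. Then there is an integer d > 0 such that the twisting sheaf O_X(d) — any
O_X-module given with chart identifications exhibiting it as O_X(d) — is invertible and ample
relative to f. (The published statement also records that f is of finite type; that assertion holds
for the relative homogeneous spectrum of any finite-type quasi-coherent graded algebra and is not
repeated in this row.) -/
theorem result {Y X : Scheme.{u}} [CompactSpace Y] (𝒮 : RelProj.QCGrAlg Y)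
    (hft : ∀ (U : Y.Opens) (hU : IsAffineOpen U), (𝒮.str.app (op U)).hom.FiniteType)
    (f : X ⟶ Y)
    (chart : ∀ (U : Y.Opens) (hU : IsAffineOpen U), ((f ⁻¹ᵁ U : X.Opens) : Scheme.{u}) ≅ Proj (𝒮.deg U hU))
    (hX : RelProj.IsRelProj 𝒮 f chart) :
    ∃ d : ℕ, 0 < d ∧ ∀ (L : X.Modules)
      (lam : ∀ (U : Y.Opens) (hU : IsAffineOpen U),
        L ⟶ (Scheme.Modules.pushforward (RelProj.emb f chart U hU)).obj (GrTwist.twist (𝒮.deg U hU) (d : ℤ))),
      RelProj.IsRelTwist 𝒮 f chart (d : ℤ) L lam → PicF.IsInvertible L ∧ RelAmple.IsRelAmple f L := by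
  classical
  obtain ⟨t, ht⟩ := (isCompact_univ (X := Y)).elim_finite_subcover (fun U : Y.affineOpens => (U.1 : Set Y))
    (fun U => U.1.2) (fun x _ => by
      obtain ⟨_, ⟨U, hU, rfl⟩, hxU, -⟩ := Y.isBasis_affineOpens.exists_subset_of_mem_open
        (Set.mem_univ x) isOpen_univ
      exact Set.mem_iUnion.2 ⟨⟨U, hU⟩, hxU⟩)
  choose T hT hcov using fun U : Y.affineOpens =>
    exists_homogeneous_cover (𝒮.deg U.1 U.2) (S5747.irrelevant_fg' 𝒮 U.1 U.2 (hft U.1 U.2))
  let d : ℕ := ∏ U ∈ t, ∏ q ∈ T U, q.1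
  have hd : 0 < d := Finset.prod_pos fun U _ => Finset.prod_pos fun q hq => (hT U q hq).1
  refine ⟨d, hd, fun L lam hL => ?_⟩
  haveI : QuasiCompact f := by
    refine quasiCompact_iff_forall_isAffineOpen.2 fun U hU => ?_
    haveI : CompactSpace (Proj (𝒮.deg U hU)) := ⟨by
      have : (Set.univ : Set (Proj (𝒮.deg U hU))) = ⋃ q : T ⟨U, hU⟩,
          (Proj.basicOpen (𝒮.deg U hU) q.1.2 : Set (Proj (𝒮.deg U hU))) :=
        (Set.eq_univ_of_forall fun y => by
          obtain ⟨q, hq, hqy⟩ := hcov ⟨U, hU⟩ y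
          exact Set.mem_iUnion.2 ⟨⟨q, hq⟩, hqy⟩).symm
      rw [this]
      exact isCompact_iUnion fun q =>
        (Proj.isAffineOpen_basicOpen _ _ (hT _ q.1 q.2).2 (hT _ q.1 q.2).1).isCompact⟩
    rw [← opensRange_emb f chart U hU, Scheme.Hom.coe_opensRange]
    exact isCompact_range (RelProj.emb f chart U hU).continuous
  have hA : ∀ U ∈ t, CohB1.IsAmple (GrTwist.twist (𝒮.deg U.1 U.2) (d : ℤ)) := fun U hU => by
    have hdvd : ∀ q ∈ T U, q.1 ∣ d := fun q hq =>
      (Finset.dvd_prod_of_mem _ hq).trans (Finset.dvd_prod_of_mem (fun U => ∏ q ∈ T U, q.1) hU)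
    refine GrTwistX.isAmple_twist hd ((T U).image fun q => q.2 ^ (d / q.1)) (fun g hg => ?_) fun y => ?_
    · obtain ⟨q, hq, rfl⟩ := Finset.mem_image.1 hg
      have := SetLike.pow_mem_graded (d / q.1) (hT U q hq).2
      rwa [smul_eq_mul, Nat.div_mul_cancel (hdvd q hq)] at this
    · obtain ⟨q, hq, hqy⟩ := hcov U y
      exact ⟨_, Finset.mem_image.2 ⟨q, hq, rfl⟩, fun h => hqy (y.isPrime.mem_of_pow_mem _ h)⟩
  have hamp : RelAmple.IsRelAmple f L := AmpleX.isRelAmple_of_ampleOn fun x => by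
    obtain ⟨U, hU, hxU⟩ := Set.mem_iUnion₂.1 (ht (Set.mem_univ (f x)))
    exact ⟨U.1, _, RelProj.emb f chart U.1 U.2, inferInstance, hxU, (opensRange_emb f chart U.1 U.2).ge,
      AmpleX.isAmple_of_iso (twistIso hL U.1 U.2).symm (hA U hU)⟩
  exact ⟨AmpleX.isInvertible_of_isRelAmple hamp, hamp⟩

end Groth.Agent.S5724
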