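import Groth.Statements.S5725
import Groth.Agent.S5722
import Groth.Agent.RelTildeX.Invertible
import Groth.Agent.AmpleX.CounitEpi

set_option autoImplicit false
universe u
open CategoryTheory CategoryTheory.Limits AlgebraicGeometry TopologicalSpace Opposite
open scoped HomogeneousIdeal
open EGA2

namespace Groth.Agent.S5725

/-- Let q : X → Y be a quasi-compact morphism and L an invertible O_X-module. If L is very ample
relative to q (isomorphic to i^*O_{P(E)}(1) for a Y-immersion i : X → P(E) into the projective
bundle of a quasi-coherent O_Y-module E), then the canonical morphism q^*(q_*L) → L, the counit of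
the adjunction between inverse and direct image, is an epimorphism. (The published statement also
records that q_*L is quasi-coherent, which holds because q is then quasi-compact and separated, and
lists a further property, that the morphism into the projective bundle of q_*L attached to this
epimorphism is an immersion; with that property the converse holds. Those parts are not stated
here.) -/
theorem result {X Y : Scheme.{u}} (q : X ⟶ Y) [QuasiCompact q] (L : X.Modules)
    (hL : PicF.IsInvertible L) (h : RelProj.IsRelVeryAmple q L) :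
    Epi ((Scheme.Modules.pullbackPushforwardAdjunction q).counit.app L) := by
  obtain ⟨E, hE, 𝒮, j, hj, P, p, chart, hP, O1, lam, hO1, g, hg, hgp, ⟨ei⟩⟩ := h
  have hgen := SymAlgX.isGenDegOne hE hj
  have hO := RelTildeX.isInvertible_twist hgen hO1
  suffices Epi ((Scheme.Modules.pullbackPushforwardAdjunction q).counit.app
      ((Scheme.Modules.pullback g).obj O1)) by
    haveI := this
    have hn := (Scheme.Modules.pullbackPushforwardAdjunction q).counit.naturality ei.inv
    haveI : Epi ((Scheme.Modules.pullbackPushforwardAdjunction q).counit.app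
        ((Scheme.Modules.pullback g).obj O1) ≫ (𝟭 X.Modules).map ei.inv) := epi_comp _ _
    have h2 : Epi ((Scheme.Modules.pushforward q ⋙ Scheme.Modules.pullback q).map ei.inv ≫
        (Scheme.Modules.pullbackPushforwardAdjunction q).counit.app L) := by
      rw [hn]; infer_instance
    exact @epi_of_epi _ _ _ _ _ ((Scheme.Modules.pushforward q ⋙ Scheme.Modules.pullback q).map ei.inv)
      _ h2
  refine AmpleX.epi_counit_of_sections q (PicClLib.isInvertible_pullback g hO) fun x => ?_
  obtain ⟨_, ⟨U, hU, rfl⟩, hxU, -⟩ := Y.isBasis_affineOpens.exists_subset_of_mem_open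
    (Set.mem_univ (q x)) isOpen_univ
  let 𝒜 := 𝒮.deg U hU
  let e := RelProj.emb p chart U hU
  have hcov : ∀ y : ProjectiveSpectrum 𝒜, ∃ t ∈ 𝒜 1, t ∉ y.asHomogeneousIdeal := fun y => by
    by_contra! hall
    exact y.not_irrelevant_le (show (HomogeneousIdeal.irrelevant 𝒜).toIdeal ≤
      y.asHomogeneousIdeal.toIdeal from
      RelTildeX.irrelevant_eq_span_deg_one hgen U hU ▸ Ideal.span_le.mpr hall)
  obtain ⟨y, hy⟩ : g x ∈ e.opensRange := by
    rw [RelTildeX.opensRange_emb]; show p (g x) ∈ U; rw [← Scheme.Hom.comp_apply, hgp]; exact hxU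
  obtain ⟨t, ht, hty⟩ := hcov y
  let s := InvX.ofSect (GrTwistX.sec ht) ≫ (RelTildeX.twistIso hO1 U hU).inv
  let a : Γ(O1, e ''ᵁ ⊤) := InvX.one s
  have hla : AmpleX.locus a = e ''ᵁ Proj.basicOpen 𝒜 t := by
    rw [← AmpleX.image_locus e (InvX.one s), ← AmpleX.genLocus_eq_locus,
      ← GrTwistX.locus_sec' ht hcov]
    exact congrArg (e ''ᵁ ·) (InvX.genLocus_comp_iso (InvX.ofSect (GrTwistX.sec ht))
      (RelTildeX.twistIso hO1 U hU).symm)
  have hle : q ⁻¹ᵁ U ≤ g ⁻¹ᵁ e ''ᵁ ⊤ := fun z hz => by
    show g z ∈ e ''ᵁ ⊤
    rw [Scheme.Hom.image_top_eq_opensRange, RelTildeX.opensRange_emb]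
    show p (g z) ∈ U
    rw [← Scheme.Hom.comp_apply, hgp]
    exact hz
  refine ⟨U, AModX.res _ hle (InvX.pullElt g a), ?_⟩
  rw [AmpleX.locus_res, AmpleX.locus_pullElt hO, hla]
  exact ⟨⟨y, hty, hy⟩, hxU⟩

end Groth.Agent.S5725
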