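import Groth.Statements.S5726
import Groth.Agent.RelVA16.Projective
-- import your own Groth.Agent.* helpers here

set_option autoImplicit false
universe u
open CategoryTheory CategoryTheory.Limits AlgebraicGeometry TopologicalSpace Opposite
open scoped HomogeneousIdeal
open EGA2

namespace Groth.Agent.S5726
open Groth.Agent

/-- Let Y be a scheme which is either quasi-compact and separated or Noetherian, q : X → Y a morphism of
finite type and L an invertible O_X-module which is very ample relative to q. Then there are a
quasi-coherent graded O_Y-algebra 𝒮 generated by its degree-one part, that part being of finite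
type, a relative homogeneous spectrum p : P → Y of 𝒮 (given with its charts over affine opens)
together with its twisting sheaf O_P(1) (given with its chart identifications), and an open
immersion i : X → P with dense image such that i ≫ p = q and L is isomorphic to i^*O_P(1). (The
published statement keeps the notation of the proposition it follows, in which q is of finite type;
without that hypothesis the conclusion fails, for instance for the affine space of countably
infinite dimension over a field with the structure sheaf, which is an open subscheme of a projective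
bundle over the field but is not of finite type.) -/
theorem result {X Y : Scheme.{u}}
    (hY : (CompactSpace Y ∧ Y.IsSeparated) ∨ AlgebraicGeometry.IsNoetherian Y) (q : X ⟶ Y) [QuasiCompact q] [LocallyOfFiniteType q]
    (L : X.Modules) (hL : PicF.IsInvertible L) (h : RelProj.IsRelVeryAmple q L) :
    ∃ (𝒮 : RelProj.QCGrAlg Y) (P : Scheme.{u}) (p : P ⟶ Y)
      (chart : ∀ (U : Y.Opens) (hU : IsAffineOpen U), ((p ⁻¹ᵁ U : P.Opens) : Scheme.{u}) ≅ Proj (𝒮.deg U hU))
      (O1 : P.Modules)
      (lam : ∀ (U : Y.Opens) (hU : IsAffineOpen U),
        O1 ⟶ (Scheme.Modules.pushforward (RelProj.emb p chart U hU)).obj (GrTwist.twist (𝒮.deg U hU) 1))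
      (i : X ⟶ P),
      𝒮.IsGenDegOne ∧ 𝒮.IsFTDeg 1 ∧ RelProj.IsRelProj 𝒮 p chart ∧ RelProj.IsRelTwist 𝒮 p chart 1 O1 lam ∧
        IsOpenImmersion i ∧ Dense (Set.range i.base) ∧ i ≫ p = q ∧
        Nonempty (L ≅ (Scheme.Modules.pullback i).obj O1) := by
  have hY' : (CompactSpace Y ∧ Y.IsSeparated) ∨ NoetherianSpace Y := hY.imp id fun h => by haveI := h; infer_instance
  obtain ⟨E, B, i, hft, hi, hif, ⟨e⟩⟩ := RelVA16.exists_ft_pb_of_isRelVeryAmple hY' h
  have := Proj16.isSeparated B.hP
  have : QuasiCompact (i ≫ B.p) := by rw [hif]; infer_instance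
  have : QuasiCompact i := .of_comp i B.p
  obtain ⟨𝒮, P, p, chart, O1, lam, j, hgen, hft1, hP, hO1, hj, hd, -, hjp, ⟨τ⟩⟩ :=
    RelVA16.exists_openImmersion_proj B hft i hif
  exact ⟨𝒮, P, p, chart, O1, lam, j, hgen, hft1, hP, hO1, hj, hd, hjp, ⟨e ≪≫ τ⟩⟩

end Groth.Agent.S5726
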