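import Groth.Statements.S5733
import Groth.Agent.RelVA16.ToPBIso
import Groth.Agent.RelVA16.Segre
import Groth.Agent.CohBCX.Comp
-- import your own Groth.Agent.* helpers here

set_option autoImplicit false
set_option backward.isDefEq.respectTransparency false
set_option backward.isDefEq.respectTransparency.types false
universe u
open CategoryTheory CategoryTheory.Limits AlgebraicGeometry TopologicalSpace Opposite
open scoped HomogeneousIdeal
open EGA2

namespace Groth.Agent.S5733

theorem RelVA16Transpose {X P Y : Scheme.{u}} (r : X ⟶ P) (p : P ⟶ Y) {E : Y.Modules} {O1 : P.Modules}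
    {L : X.Modules} (a : (Scheme.Modules.pullback p).obj E ⟶ O1) (τ : (Scheme.Modules.pullback r).obj O1 ⟶ L) :
    (Scheme.Modules.pullbackPushforwardAdjunction (r ≫ p)).homEquiv E L
        ((Scheme.Modules.pullbackCongr (rfl : r ≫ p = r ≫ p)).inv.app E ≫
          (Scheme.Modules.pullbackComp r p).inv.app E ≫ (Scheme.Modules.pullback r).map a ≫ τ) =
      ((Scheme.Modules.pullbackPushforwardAdjunction p).homEquiv E O1 a ≫
        (Scheme.Modules.pushforward p).map ((Scheme.Modules.pullbackPushforwardAdjunction r).homEquiv O1 L τ)) ≫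
        (Scheme.Modules.pushforwardComp r p).hom.app L := by
  have h := unit_conjugateEquiv ((Scheme.Modules.pullbackPushforwardAdjunction p).comp
    (Scheme.Modules.pullbackPushforwardAdjunction r)) (Scheme.Modules.pullbackPushforwardAdjunction (r ≫ p))
    (Scheme.Modules.pullbackComp r p).inv E
  rw [Scheme.Modules.conjugateEquiv_pullbackComp_inv] at h
  simp only [Scheme.Modules.pullbackCongr, eqToIso_refl, Iso.refl_inv, NatTrans.id_app, Category.id_comp,
    Adjunction.homEquiv_unit, Functor.map_comp]
  rw [← reassoc_of% h]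
  simp only [Adjunction.comp_unit_app, Category.assoc]
  have n1 := (Scheme.Modules.pushforwardComp r p).hom.naturality ((Scheme.Modules.pullback r).map a)
  have n2 := (Scheme.Modules.pushforwardComp r p).hom.naturality τ
  have n3 := congrArg (Scheme.Modules.pushforward p).map
    ((Scheme.Modules.pullbackPushforwardAdjunction r).unit.naturality a)
  dsimp at n1 n2 n3
  rw [← reassoc_of% n1, ← n2]
  simp only [Functor.map_comp] at n3
  rw [← reassoc_of% n3]

/-- Let E be a quasi-coherent O_Y-module with graded symmetric algebra 𝒮 (j : E → 𝒮 in degree one), p :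
P = P(E) → Y its projective bundle with its charts over affine opens, O_P(1) the fundamental sheaf
with its chart identifications, and φ : E → p_*O_P(1) the canonical map (on an affine open U, the
section φ(e) read on the chart Proj(𝒮(U)) has value j(e)/1 at every point), with adjoint a : p^*E →
O_P(1). Then Y-morphisms into P(E) correspond to invertible quotients of the inverse image of E: for
every morphism g : X → Y, every invertible O_X-module L and every epimorphism s : g^*E → L there is
exactly one morphism r : X → P over Y (r ≫ p = g) admitting an isomorphism τ : r^*O_P(1) ≅ L which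
carries r^*(a), composed with the canonical identification g^*E ≅ r^*p^*E, to s. -/
theorem result {Y P : Scheme.{u}} (E : Y.Modules) (hE : Coh.IsQCoh E)
    (𝒮 : RelProj.QCGrAlg Y) (j : E ⟶ 𝒮.toModule) (hj : RelProj.IsGrSymAlg E 𝒮 j) (p : P ⟶ Y)
    (chart : ∀ (U : Y.Opens) (hU : IsAffineOpen U), ((p ⁻¹ᵁ U : P.Opens) : Scheme.{u}) ≅ Proj (𝒮.deg U hU))
    (hP : RelProj.IsRelProj 𝒮 p chart) (O1 : P.Modules)
    (lam : ∀ (U : Y.Opens) (hU : IsAffineOpen U),
      O1 ⟶ (Scheme.Modules.pushforward (RelProj.emb p chart U hU)).obj (GrTwist.twist (𝒮.deg U hU) 1))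
    (hO1 : RelProj.IsRelTwist 𝒮 p chart 1 O1 lam)
    (φ : E ⟶ (Scheme.Modules.pushforward p).obj O1)
    (hφ : ∀ (U : Y.Opens) (hU : IsAffineOpen U) (e : Γ(E, U))
      (y : ↥(RelProj.emb p chart U hU ⁻¹ᵁ (p ⁻¹ᵁ U))),
      GrTwist.val (V := RelProj.emb p chart U hU ⁻¹ᵁ (p ⁻¹ᵁ U))
          ((lam U hU).app (p ⁻¹ᵁ U) ((φ.app U) e)) y =
        algebraMap (𝒮.presheaf.obj (op U)) (GrTwist.Loc (𝒮.deg U hU) y.1)
          ((j.app U) e : 𝒮.presheaf.obj (op U)))
    {X : Scheme.{u}} (g : X ⟶ Y) (L : X.Modules) (hL : PicF.IsInvertible L)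
    (s : (Scheme.Modules.pullback g).obj E ⟶ L) (hs : Epi s) :
    ∃! r : X ⟶ P, ∃ (hr : r ≫ p = g) (τ : (Scheme.Modules.pullback r).obj O1 ≅ L),
      (Scheme.Modules.pullbackCongr hr).inv.app E ≫ (Scheme.Modules.pullbackComp r p).inv.app E ≫
        (Scheme.Modules.pullback r).map
          (((Scheme.Modules.pullbackPushforwardAdjunction p).homEquiv E O1).symm φ) ≫ τ.hom = s := by
  let B : RelVA16.PB Y E := ⟨hE, 𝒮, j, hj, P, p, chart, hP, O1, lam, hO1⟩
  have hfd : φ = B.fd := by
    refine CohBCX.hom_ext_basis _ _ Y.isBasis_affineOpens fun U hU e => ?_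
    exact RelVA16.eq_of_val hO1 hU le_rfl _ _ fun y =>
      (hφ U hU e y).trans ((Classical.choose_spec B.exists_fund) U hU e y).symm
  let θ := (Scheme.Modules.pullbackPushforwardAdjunction g).homEquiv E L s
  have hgen : RelVA16.Gen θ := RelVA16.gen_of_epi hL s hs
  have key : ∀ (r : X ⟶ P) (hr : r ≫ p = g) (τ : (Scheme.Modules.pullback r).obj O1 ⟶ L),
      (Scheme.Modules.pullbackPushforwardAdjunction g).homEquiv E L
        ((Scheme.Modules.pullbackCongr hr).inv.app E ≫ (Scheme.Modules.pullbackComp r p).inv.app E ≫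
        (Scheme.Modules.pullback r).map
          (((Scheme.Modules.pullbackPushforwardAdjunction p).homEquiv E O1).symm φ) ≫ τ) =
      RelVA16.thetaOf (B := B) (r := r) hr τ := by
    intro r hr τ
    subst hr
    refine Eq.trans ?_ (?_ : (((Scheme.Modules.pullbackPushforwardAdjunction p).homEquiv E O1)
      (((Scheme.Modules.pullbackPushforwardAdjunction p).homEquiv E O1).symm φ) ≫
        (Scheme.Modules.pushforward p).map ((Scheme.Modules.pullbackPushforwardAdjunction r).homEquiv O1 L τ)) ≫
        (Scheme.Modules.pushforwardComp r p).hom.app L = _)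
    · exact RelVA16Transpose r p _ τ
    · rw [Equiv.apply_symm_apply, hfd, RelVA16.thetaOf, Adjunction.homEquiv_unit]
      have hc : (Scheme.Modules.pushforwardCongr (rfl : r ≫ p = r ≫ p)).hom.app L = 𝟙 _ := by
        refine Scheme.Modules.hom_ext _ _ fun U => ?_
        simp
      rw [hc, Category.comp_id]
      exact Category.assoc _ _ _
  obtain ⟨r, hr⟩ := RelVA16.exists_isMapOf B θ hgen
  obtain ⟨τ, hτ⟩ := hr.exists_iso
  refine ⟨r, ⟨hr.comp, τ, ?_⟩, fun r' hr' => ?_⟩
  · exact ((Scheme.Modules.pullbackPushforwardAdjunction g).homEquiv E L).injective ((key r hr.comp τ.hom).trans hτ)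
  · obtain ⟨hc, τ', h⟩ := hr'
    have hθ : RelVA16.thetaOf (B := B) (r := r') hc τ'.hom = θ := (key r' hc τ'.hom).symm.trans (congrArg _ h)
    have := RelVA16.isMapOf_thetaOf (B := B) (r := r') hc τ'
    rw [hθ] at this
    exact RelVA16.IsMapOf.unique B θ this hr

end Groth.Agent.S5733
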