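import Groth.Statements.S8263
import Groth.Agent.Proj16.RelMap

set_option autoImplicit false
universe u
open CategoryTheory CategoryTheory.Limits AlgebraicGeometry Opposite TopologicalSpace
open scoped HomogeneousIdeal
open EGA2

namespace Groth.Agent.S8263

/-- Let φ : 𝒜 → ℬ be a graded homomorphism of quasi-coherent positively graded O_Y-algebras that is
surjective over every affine open of Y, and let h : Proj(ℬ) → Proj(𝒜) be the morphism it induces
(chartwise the morphism of Proj's induced by φ(U)). Then h is a closed immersion. (The published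
statement allows φ to be only eventually surjective in high degrees; this row is the surjective
case, to which the general one reduces.) -/
theorem result {Y PA PB : Scheme.{u}} {𝒜 ℬ : RelProj.QCGrAlg Y}
    (φ : 𝒜.toQCAlg ⟶ ℬ.toQCAlg) (hφ : RelProj.IsGradedHom φ)
    (hsurj : ∀ (U : Y.Opens) (hU : IsAffineOpen U), Function.Surjective (φ.hom.app (op U)).hom)
    (hirr : ∀ (U : Y.Opens) (hU : IsAffineOpen U),
      (ℬ.deg U hU)₊ ≤ ((𝒜.deg U hU)₊).map (RelProj.gradedHomAt φ hφ U hU))
    (pA : PA ⟶ Y) (pB : PB ⟶ Y)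
    (chartA : ∀ (U : Y.Opens) (hU : IsAffineOpen U), (((pA ⁻¹ᵁ U : PA.Opens) : Scheme.{u}) ≅ Proj (𝒜.deg U hU)))
    (chartB : ∀ (U : Y.Opens) (hU : IsAffineOpen U), (((pB ⁻¹ᵁ U : PB.Opens) : Scheme.{u}) ≅ Proj (ℬ.deg U hU)))
    (hA : RelProj.IsRelProj 𝒜 pA chartA) (hB : RelProj.IsRelProj ℬ pB chartB)
    (h : PB ⟶ PA) (hh : RelProj.IsRelProjMap φ hφ hirr chartA chartB h) : IsClosedImmersion h := by
  exact Groth.Agent.Proj16.relProjMap_of_affineOpens hA hB hh @IsClosedImmersion fun U hU ↦
    Groth.Agent.Proj16.isClosedImmersion_map _ _ (hsurj U hU)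

end Groth.Agent.S8263
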