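import Groth.Statements.S5734
import Groth.Agent.RelVA16.Coprod
import Groth.Agent.S8263
-- import your own Groth.Agent.* helpers here

set_option autoImplicit false
set_option backward.isDefEq.respectTransparency false
set_option backward.isDefEq.respectTransparency.types false
universe u
open CategoryTheory CategoryTheory.Limits AlgebraicGeometry TopologicalSpace Opposite
open scoped HomogeneousIdeal
open EGA2

namespace Groth.Agent.S5734
open Groth.Agent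

/-- Let E and F be quasi-coherent O_Y-modules with graded symmetric algebras 𝒮E, 𝒮F and let 𝒮 be the
graded symmetric algebra of E ⊕ F; let πE : 𝒮 → 𝒮E and πF : 𝒮 → 𝒮F be the graded algebra
homomorphisms induced by the two projections of E ⊕ F (compatible with the structure maps from E ⊕
F, E and F), the irrelevant ideal of the target being generated by the image of that of the source
over every affine open (so that the induced morphisms of homogeneous spectra are everywhere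
defined). Let P(E ⊕ F), P(E), P(F) be the projective bundles with their charts and hE : P(E) → P(E ⊕
F), hF : P(F) → P(E ⊕ F) the morphisms chartwise induced by πE and πF. Then the morphism P(E) ⨿ P(F)
→ P(E ⊕ F) which restricts to hE and hF is a closed immersion: the disjoint union of P(E) and P(F)
is a closed subscheme of P(E ⊕ F). -/
theorem result {Y PE PF P : Scheme.{u}} (E F : Y.Modules)
    (hE : Coh.IsQCoh E) (hF : Coh.IsQCoh F) (𝒮E 𝒮F 𝒮 : RelProj.QCGrAlg Y)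
    (jE : E ⟶ 𝒮E.toModule) (hjE : RelProj.IsGrSymAlg E 𝒮E jE)
    (jF : F ⟶ 𝒮F.toModule) (hjF : RelProj.IsGrSymAlg F 𝒮F jF)
    (j : E ⊞ F ⟶ 𝒮.toModule) (hj : RelProj.IsGrSymAlg (E ⊞ F) 𝒮 j)
    (πE : 𝒮.toQCAlg ⟶ 𝒮E.toQCAlg) (hπE : RelProj.IsGradedHom πE)
    (hjπE : j ≫ RelSpec.QCAlg.Hom.toModuleMap πE = biprod.fst ≫ jE)
    (πF : 𝒮.toQCAlg ⟶ 𝒮F.toQCAlg) (hπF : RelProj.IsGradedHom πF)
    (hjπF : j ≫ RelSpec.QCAlg.Hom.toModuleMap πF = biprod.snd ≫ jF)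
    (hirrE : ∀ (U : Y.Opens) (hU : IsAffineOpen U),
      (𝒮E.deg U hU)₊ ≤ ((𝒮.deg U hU)₊).map (RelProj.gradedHomAt πE hπE U hU))
    (hirrF : ∀ (U : Y.Opens) (hU : IsAffineOpen U),
      (𝒮F.deg U hU)₊ ≤ ((𝒮.deg U hU)₊).map (RelProj.gradedHomAt πF hπF U hU))
    (p : P ⟶ Y) (pE : PE ⟶ Y) (pF : PF ⟶ Y)
    (chart : ∀ (U : Y.Opens) (hU : IsAffineOpen U), ((p ⁻¹ᵁ U : P.Opens) : Scheme.{u}) ≅ Proj (𝒮.deg U hU))
    (chartE : ∀ (U : Y.Opens) (hU : IsAffineOpen U), ((pE ⁻¹ᵁ U : PE.Opens) : Scheme.{u}) ≅ Proj (𝒮E.deg U hU))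
    (chartF : ∀ (U : Y.Opens) (hU : IsAffineOpen U), ((pF ⁻¹ᵁ U : PF.Opens) : Scheme.{u}) ≅ Proj (𝒮F.deg U hU))
    (hP : RelProj.IsRelProj 𝒮 p chart) (hPE : RelProj.IsRelProj 𝒮E pE chartE) (hPF : RelProj.IsRelProj 𝒮F pF chartF)
    (hE' : PE ⟶ P) (hhE : RelProj.IsRelProjMap πE hπE hirrE chart chartE hE')
    (hF' : PF ⟶ P) (hhF : RelProj.IsRelProjMap πF hπF hirrF chart chartF hF') :
    IsClosedImmersion (coprod.desc hE' hF') := by
  obtain ⟨O, lam, hO⟩ := RelTildeX.Exists.exists_isRelTwist 𝒮 p chart hP 1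
  obtain ⟨OE, lamE, hOE⟩ := RelTildeX.Exists.exists_isRelTwist 𝒮E pE chartE hPE 1
  obtain ⟨OF, lamF, hOF⟩ := RelTildeX.Exists.exists_isRelTwist 𝒮F pF chartF hPF 1
  have hEF : Coh.IsQCoh (E ⊞ F) :=
    QCoh.isQCoh_X₂ (ShortComplex.Splitting.ofHasBinaryBiproduct E F).shortExact hE hF
  let B : RelVA16.PB Y (E ⊞ F) := ⟨hEF, 𝒮, j, hj, P, p, chart, hP, O, lam, hO⟩
  let B₁ : RelVA16.PB Y E := ⟨hE, 𝒮E, jE, hjE, PE, pE, chartE, hPE, OE, lamE, hOE⟩
  let B₂ : RelVA16.PB Y F := ⟨hF, 𝒮F, jF, hjF, PF, pF, chartF, hPF, OF, lamF, hOF⟩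
  have hjE' : ∀ (U : Y.Opens) (e : Γ(E ⊞ F, U)), (πE.hom.app (op U)).hom (SymAlgX.jv 𝒮.toQCAlg j U e) =
      SymAlgX.jv 𝒮E.toQCAlg jE U ((biprod.fst : E ⊞ F ⟶ E).app U e) :=
    fun U e => congrArg (fun χ : E ⊞ F ⟶ 𝒮E.toModule => χ.app U e) hjπE
  have hjF' : ∀ (U : Y.Opens) (e : Γ(E ⊞ F, U)), (πF.hom.app (op U)).hom (SymAlgX.jv 𝒮.toQCAlg j U e) =
      SymAlgX.jv 𝒮F.toQCAlg jF U ((biprod.snd : E ⊞ F ⟶ F).app U e) :=
    fun U e => congrArg (fun χ : E ⊞ F ⟶ 𝒮F.toModule => χ.app U e) hjπF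
  have hsurjE : ∀ (U : Y.Opens) (hU : IsAffineOpen U), Function.Surjective (πE.hom.app (op U)).hom := fun U hU => by
    refine RingHom.range_eq_top.1 (top_le_iff.1 ?_)
    rw [← SymAlgX.genAt_eq_top hE hjE.1 hU, SymAlgX.genAt, Subring.closure_le]
    rintro _ (⟨r, rfl⟩ | ⟨a, rfl⟩)
    · exact ⟨(𝒮.str.app (op U)).hom r, ConcreteCategory.congr_hom (congr_app πE.comm (op U)) r⟩
    · refine ⟨SymAlgX.jv 𝒮.toQCAlg j U ((biprod.inl : E ⟶ E ⊞ F).app U a), (hjE' U _).trans ?_⟩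
      exact congrArg (SymAlgX.jv 𝒮E.toQCAlg jE U)
        (congrArg (fun χ : E ⟶ E => χ.app U a) (biprod.inl_fst (X := E) (Y := F)))
  have hsurjF : ∀ (U : Y.Opens) (hU : IsAffineOpen U), Function.Surjective (πF.hom.app (op U)).hom := fun U hU => by
    refine RingHom.range_eq_top.1 (top_le_iff.1 ?_)
    rw [← SymAlgX.genAt_eq_top hF hjF.1 hU, SymAlgX.genAt, Subring.closure_le]
    rintro _ (⟨r, rfl⟩ | ⟨a, rfl⟩)
    · exact ⟨(𝒮.str.app (op U)).hom r, ConcreteCategory.congr_hom (congr_app πF.comm (op U)) r⟩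
    · refine ⟨SymAlgX.jv 𝒮.toQCAlg j U ((biprod.inr : F ⟶ E ⊞ F).app U a), (hjF' U _).trans ?_⟩
      exact congrArg (SymAlgX.jv 𝒮F.toQCAlg jF U)
        (congrArg (fun χ : F ⟶ F => χ.app U a) (biprod.inr_snd (X := E) (Y := F)))
  haveI hcE : IsClosedImmersion hE' := S8263.result πE hπE hsurjE hirrE p pE chart chartE hP hPE hE' hhE
  haveI hcF : IsClosedImmersion hF' := S8263.result πF hπF hsurjF hirrF p pF chart chartF hP hPF hF' hhF
  have hpre₁ : ∀ (U : Y.Opens) (hU : IsAffineOpen U) (e : Γ(E ⊞ F, U)),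
      hE' ⁻¹ᵁ B.D hU e = B₁.D hU ((biprod.fst : E ⊞ F ⟶ E).app U e) := fun U hU e =>
    (RelVA16.preimage_dO_relProjMap hP hPE hhE hU _).trans (congrArg (RelVA16.dO pE chartE hU) (hjE' U e))
  have hpre₂ : ∀ (U : Y.Opens) (hU : IsAffineOpen U) (e : Γ(E ⊞ F, U)),
      hF' ⁻¹ᵁ B.D hU e = B₂.D hU ((biprod.snd : E ⊞ F ⟶ F).app U e) := fun U hU e =>
    (RelVA16.preimage_dO_relProjMap hP hPF hhF hU _).trans (congrArg (RelVA16.dO pF chartF hU) (hjF' U e))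
  haveI : IsImmersion (coprod.desc hE' hF') := by
    have := RelVA16.isImmersion_desc_pb B B₁ B₂ (X := PE) (X' := PF) hE' hF' hpre₁ hpre₂ (𝟙 PE) (𝟙 PF)
    rwa [Category.id_comp, Category.id_comp] at this
  refine IsClosedImmersion.of_isPreimmersion _ ?_
  have hr : Set.range (coprod.desc hE' hF') = Set.range hE' ∪ Set.range hF' := by
    refine Set.Subset.antisymm ?_ (Set.union_subset ?_ ?_)
    · rintro _ ⟨x, rfl⟩
      rcases (isCompl_range_inl_inr PE PF).codisjoint.eq_top.ge (Set.mem_univ x) with ⟨y, rfl⟩ | ⟨y, rfl⟩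
      · exact Or.inl ⟨y, by rw [← Scheme.Hom.comp_apply, coprod.inl_desc]⟩
      · exact Or.inr ⟨y, by rw [← Scheme.Hom.comp_apply, coprod.inr_desc]⟩
    · rintro _ ⟨y, rfl⟩
      exact ⟨(coprod.inl : PE ⟶ PE ⨿ PF) y, by rw [← Scheme.Hom.comp_apply, coprod.inl_desc]⟩
    · rintro _ ⟨y, rfl⟩
      exact ⟨(coprod.inr : PF ⟶ PE ⨿ PF) y, by rw [← Scheme.Hom.comp_apply, coprod.inr_desc]⟩
  rw [hr]
  exact hE'.isClosedEmbedding.isClosed_range.union hF'.isClosedEmbedding.isClosed_range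

end Groth.Agent.S5734
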