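import Groth.Statements.S5735
import Groth.Agent.H9Misc.ConnFibres

set_option autoImplicit false
set_option backward.isDefEq.respectTransparency false
set_option backward.isDefEq.respectTransparency.types false
set_option linter.style.haveILetI false
universe u
open Coherent

namespace Groth.Agent.S5735

open AlgebraicGeometry CategoryTheory CategoryTheory.Limits in
/-- Let X and Y be locally Noetherian integral schemes and f : X → Y a proper dominant morphism which is
universally open in the following sense: for every irreducible locally Noetherian scheme Y' and
every dominant morphism g : Y' → Y, each irreducible component of X ×_Y Y' has dense image in Y'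
under the second projection. Suppose that the algebraic closure of the function field R(Y) in R(X)
is purely inseparable over R(Y): every element of R(X) satisfying a nonzero polynomial over R(Y) has
some p^e-th power coming from R(Y), p being the characteristic exponent. Then for every point y of Y
the fibre X_y is geometrically connected over the residue field k(y) (its base change to any field
extension is connected and nonempty). -/
theorem result {X Y : Scheme.{u}}
    [IsIntegral X] [IsIntegral Y] [IsLocallyNoetherian X] [IsLocallyNoetherian Y] (f : X ⟶ Y) [IsProper f]
    (hdom : f.base (genericPoint X) ⤳ genericPoint Y)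
    (hopen : ∀ (Y' : Scheme.{u}) (g : Y' ⟶ Y), IrreducibleSpace ↥Y' → IsLocallyNoetherian Y' →
      IsDominant g → ∀ Z ∈ irreducibleComponents ↥(pullback f g), Dense ((pullback.snd f g).base '' Z))
    (hrad : ∀ x : X.functionField,
      (∃ q : Polynomial Y.functionField, q ≠ 0 ∧
        Polynomial.eval₂ (CohIII.stalkToFunctionField f (genericPoint Y) hdom) x q = 0) →
      ∃ e : ℕ, x ^ (ringExpChar X.functionField ^ e) ∈
        Set.range (CohIII.stalkToFunctionField f (genericPoint Y) hdom))
    (y : Y) : GeometricallyConnected (f.fiberToSpecResidueField y) := by
  have hη : f.base (genericPoint X) = genericPoint Y :=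
    (hdom.antisymm (genericPoint_specializes (f.base (genericPoint X)))).eq
  haveI : IsDominant f := ⟨by
    rw [DenseRange, dense_iff_closure_eq]
    refine Set.eq_univ_of_univ_subset ((genericPoint_spec Y).def.symm.subset.trans ?_)
    exact closure_mono (Set.singleton_subset_iff.2 ⟨_, hη⟩)⟩
  have hgh : f.toNormalization ≫ f.fromNormalization = f := f.toNormalization_fromNormalization
  haveI : IsFinite f.fromNormalization := Groth.Agent.S1297.result f
  haveI : IsLocallyNoetherian f.normalization := LocallyOfFiniteType.isLocallyNoetherian f.fromNormalization
  haveI : IsDominant (f.toNormalization ≫ f.fromNormalization) := by rw [hgh]; infer_instance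
  haveI : IsDominant f.fromNormalization := IsDominant.of_comp f.toNormalization f.fromNormalization
  haveI := Zar5.geometricallyConnected_toNormalization f
  haveI := Zar5.surjective_toNormalization f
  haveI := Zar5.isProper_toNormalization f
  have key : ∀ (f' : X ⟶ Y) (_ : f' = f) (hdom' : f'.base (genericPoint X) ⤳ genericPoint Y),
      CohIII.stalkToFunctionField f' (genericPoint Y) hdom' = CohIII.stalkToFunctionField f (genericPoint Y) hdom := by
    rintro _ rfl _; rfl
  have hdom' : (f.toNormalization ≫ f.fromNormalization).base (genericPoint X) ⤳ genericPoint Y := by
    rw [hgh]; exact hdom
  haveI := H9Misc.ConnFibres.universallyInjective_generic f.toNormalization f.fromNormalization hdom'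
    (fun x hx => by rw [key _ hgh] at hx ⊢; exact hrad x hx)
  have hP : f.fromNormalization (genericPoint f.normalization) = genericPoint Y := by
    have h1 : f.toNormalization (genericPoint X) ∈ Set.univ := trivial
    rw [← (genericPoint_spec f.normalization).def] at h1
    have h2 := (specializes_iff_mem_closure.2 h1).map f.fromNormalization.continuous
    rw [← Scheme.Hom.comp_apply, hgh, show f (genericPoint X) = genericPoint Y from hη] at h2
    exact (h2.antisymm (genericPoint_specializes _)).eq
  haveI : UniversallyInjective f.fromNormalization :=
    H9Misc.ConnFibres.universallyInjective_of_open f.toNormalization f.fromNormalization hP (by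
      intro Z hZ
      refine hopen f.normalization f.fromNormalization inferInstance inferInstance inferInstance |> fun h => ?_
      revert Z
      rw [hgh]
      exact h)
  haveI : Surjective f.fromNormalization := ⟨fun s => by
    have hc : IsClosed (Set.range f.fromNormalization) := f.fromNormalization.isClosedMap.isClosed_range
    have := f.fromNormalization.denseRange s
    rwa [hc.closure_eq] at this⟩
  haveI := H9Misc.ConnFibres.geometricallyConnected_of_factor f f.toNormalization f.fromNormalization hgh
  exact MorphismProperty.pullback_snd (P := @GeometricallyConnected) _ _ this

end Groth.Agent.S5735
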