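import Groth.Statements.S5742
import Mathlib.RingTheory.Filtration
import Mathlib.AlgebraicGeometry.SpreadingOut
import Mathlib.RingTheory.AdicCompletion.Basic

set_option autoImplicit false
universe u
open Coherent

set_option backward.isDefEq.respectTransparency false
set_option backward.isDefEq.respectTransparency.types false

namespace Groth.Agent.S5742
open AlgebraicGeometry CategoryTheory CategoryTheory.Limits

theorem isLocalHom_mk_pow {R : Type u} [CommRing R] [IsLocalRing R] (n : ℕ) :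
    IsLocalHom (Ideal.Quotient.mk (IsLocalRing.maximalIdeal R ^ (n + 1))) := by
  refine ⟨fun a ha => ?_⟩
  by_contra h
  have hm : a ∈ IsLocalRing.maximalIdeal R := h
  haveI : Nontrivial (R ⧸ IsLocalRing.maximalIdeal R ^ (n + 1)) := Ideal.Quotient.nontrivial_iff.2
    fun hh => (IsLocalRing.maximalIdeal.isMaximal R).ne_top (top_le_iff.1 (hh.ge.trans (Ideal.pow_le_self n.succ_ne_zero)))
  refine not_isUnit_zero (M₀ := R ⧸ IsLocalRing.maximalIdeal R ^ (n + 1)) ?_
  rw [← (Ideal.Quotient.eq_zero_iff_mem).2 (Ideal.pow_mem_pow hm (n + 1)), map_pow]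
  exact ha.pow _

theorem eq_of_mk_pow_eq {R : Type u} [CommRing R] [IsLocalRing R] [IsNoetherianRing R] (a b : R)
    (h : ∀ n : ℕ, Ideal.Quotient.mk (IsLocalRing.maximalIdeal R ^ (n + 1)) a =
      Ideal.Quotient.mk (IsLocalRing.maximalIdeal R ^ (n + 1)) b) : a = b := by
  rw [← sub_eq_zero, ← Ideal.mem_bot, ← Ideal.iInf_pow_eq_bot_of_isLocalRing _
    (IsLocalRing.maximalIdeal.isMaximal R).ne_top]
  refine Submodule.mem_iInf _ |>.2 fun n => ?_
  exact Ideal.pow_le_pow_right n.le_succ (Ideal.Quotient.eq.1 (h n))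

theorem eq_after_trunc {A : Type u} [CommRing A] (I : Ideal A) {X Y : Scheme.{u}}
    (f : X ⟶ Spec (CommRingCat.of A)) (φ ψ : X ⟶ Y) (x : X)
    (hx : f x ∈ PrimeSpectrum.zeroLocus (I : Set A)) (n : ℕ)
    (e : CohB1.thickι f I n ≫ φ = CohB1.thickι f I n ≫ ψ) :
    Spec.map (CommRingCat.ofHom (Ideal.Quotient.mk
        (IsLocalRing.maximalIdeal (X.presheaf.stalk x) ^ (n + 1)))) ≫ X.fromSpecStalk x ≫ φ =
    Spec.map (CommRingCat.ofHom (Ideal.Quotient.mk
        (IsLocalRing.maximalIdeal (X.presheaf.stalk x) ^ (n + 1)))) ≫ X.fromSpecStalk x ≫ ψ := by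
  set q := CommRingCat.ofHom (Ideal.Quotient.mk
    (IsLocalRing.maximalIdeal (X.presheaf.stalk x) ^ (n + 1))) with hq
  let r := Spec.preimage (X.fromSpecStalk x ≫ f)
  have hr : Spec.map r = X.fromSpecStalk x ≫ f := Spec.map_preimage _
  have hI : ∀ a ∈ I, r a ∈ IsLocalRing.maximalIdeal (X.presheaf.stalk x) := by
    intro a ha
    have h2 : Spec.map r (IsLocalRing.closedPoint _) = f x := by
      rw [hr, Scheme.Hom.comp_apply, Scheme.fromSpecStalk_closedPoint]
    have h3 : a ∈ (f x).asIdeal := hx ha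
    rw [← h2] at h3
    exact h3
  have hle : ∀ a ∈ I ^ (n + 1), ((r ≫ q).hom) a = 0 := fun a ha =>
    Ideal.Quotient.eq_zero_iff_mem.2 (Ideal.pow_right_mono (Ideal.map_le_iff_le_comap.2 hI) (n + 1)
      (by rw [← Ideal.map_pow]; exact Ideal.mem_map_of_mem _ ha))
  let l := pullback.lift (f := f) (g := CohB1.specQuot I n) (Spec.map q ≫ X.fromSpecStalk x)
    (Spec.map (CommRingCat.ofHom (Ideal.Quotient.lift (I ^ (n + 1)) (r ≫ q).hom hle))) (by
      rw [Category.assoc, ← hr, ← Spec.map_comp, CohB1.specQuot, ← Spec.map_comp]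
      rfl)
  have hl : l ≫ CohB1.thickι f I n = Spec.map q ≫ X.fromSpecStalk x := pullback.lift_fst _ _ _
  rw [← Category.assoc, ← Category.assoc, ← hl]
  erw [Category.assoc, Category.assoc, e]

theorem eq_top_of_closedFibre {A : Type u} [CommRing A] (I : Ideal A) [IsAdicComplete I A]
    {X : Scheme.{u}} (f : X ⟶ Spec (CommRingCat.of A)) [UniversallyClosed f] (W : X.Opens)
    (hW : ∀ x : X, f x ∈ PrimeSpectrum.zeroLocus (I : Set A) → x ∈ W) : W = ⊤ := by
  refine top_le_iff.1 fun x _ => ?_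
  by_contra hx
  have hcl : IsClosed (f '' (W : Set X)ᶜ) := f.isClosedMap _ W.isOpen.isClosed_compl
  obtain ⟨m, hm, hle⟩ := Ideal.exists_le_maximal (f x).asIdeal (f x).isPrime.ne_top
  have hmem : (⟨m, hm.isPrime⟩ : PrimeSpectrum A) ∈ f '' (W : Set X)ᶜ :=
    ((PrimeSpectrum.le_iff_specializes _ _).1 hle).mem_closed hcl ⟨x, hx, rfl⟩
  obtain ⟨y, hy, hy'⟩ := hmem
  refine hy (hW y ?_)
  rw [hy']
  exact (IsAdicComplete.le_jacobson_bot I).trans (sInf_le ⟨bot_le, hm⟩)

open AlgebraicGeometry CategoryTheory CategoryTheory.Limits in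
/-- Let A be a Noetherian ring separated and complete for the I-adic topology, X proper over Spec A and
Y locally of finite type over Spec A; write X_n = X ×_A Spec(A/I^(n+1)). Two A-morphisms φ, ψ : X →
Y whose restrictions to X_n coincide for every n are equal. (The published statement takes Y
separated and of finite type over A, which the surjectivity half needs; injectivity uses neither
separatedness nor quasi-compactness of Y. Together with the existence of an A-morphism inducing any
compatible system of morphisms X_n → Y_n, this is the bijectivity of f ↦ f̂ from A-morphisms X → Y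
to morphisms of the completions.) -/
theorem result (A : Type u) [CommRing A] [IsNoetherianRing A]
    (I : Ideal A) [IsAdicComplete I A] {X Y : Scheme.{u}} (f : X ⟶ Spec (CommRingCat.of A))
    (h : Y ⟶ Spec (CommRingCat.of A)) [IsProper f] [LocallyOfFiniteType h] (φ ψ : X ⟶ Y)
    (hφ : φ ≫ h = f) (hψ : ψ ≫ h = f)
    (e : ∀ n : ℕ, CohB1.thickι f I n ≫ φ = CohB1.thickι f I n ≫ ψ) : φ = ψ := by
  obtain ⟨W, hW, hWe⟩ : ∃ W : X.Opens, (∀ x : X, f x ∈ PrimeSpectrum.zeroLocus (I : Set A) → x ∈ W) ∧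
      W.ι ≫ φ = W.ι ≫ ψ := by
    haveI : IsLocallyNoetherian X := LocallyOfFiniteType.isLocallyNoetherian f
    have key : ∀ x : {x : X // f x ∈ PrimeSpectrum.zeroLocus (I : Set A)},
        ∃ U : X.Opens, x.1 ∈ U ∧ U.ι ≫ φ = U.ι ≫ ψ := by
      rintro ⟨x, hx⟩
      have hq : ∀ n : ℕ, Spec.map (CommRingCat.ofHom (Ideal.Quotient.mk
          (IsLocalRing.maximalIdeal (X.presheaf.stalk x) ^ (n + 1)))) ≫ X.fromSpecStalk x ≫ φ =
          Spec.map (CommRingCat.ofHom (Ideal.Quotient.mk
          (IsLocalRing.maximalIdeal (X.presheaf.stalk x) ^ (n + 1)))) ≫ X.fromSpecStalk x ≫ ψ :=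
        fun n => eq_after_trunc I f φ ψ x hx n (e n)
      have e0 : φ x = ψ x := by
        let Q := X.presheaf.stalk x ⧸ IsLocalRing.maximalIdeal (X.presheaf.stalk x) ^ (0 + 1)
        haveI : Nontrivial Q := Ideal.Quotient.nontrivial_iff.2
          (by simpa using (IsLocalRing.maximalIdeal.isMaximal _).ne_top)
        haveI : IsLocalRing Q := IsLocalRing.of_surjective' _ Ideal.Quotient.mk_surjective
        haveI hq0 : IsLocalHom (CommRingCat.ofHom (Ideal.Quotient.mk
            (IsLocalRing.maximalIdeal (X.presheaf.stalk x) ^ (0 + 1)))).hom :=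
          isLocalHom_mk_pow 0
        have h0 := congr($(hq 0) (IsLocalRing.closedPoint Q))
        simp only [Scheme.Hom.comp_apply, Q] at h0
        erw [Spec_closedPoint, Scheme.fromSpecStalk_closedPoint] at h0
        exact h0
      refine spread_out_unique_of_isGermInjective φ ψ e0 ?_
      ext a
      refine eq_of_mk_pow_eq _ _ fun n => ?_
      have h1 := hq n
      rw [← Scheme.SpecMap_stalkMap_fromSpecStalk φ, ← Scheme.SpecMap_stalkMap_fromSpecStalk ψ,
        ← Scheme.SpecMap_stalkSpecializes_fromSpecStalk (Inseparable.of_eq e0.symm).specializes,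
        ← Spec.map_comp_assoc, ← Spec.map_comp_assoc, ← Spec.map_comp_assoc] at h1
      rw [cancel_mono (Y.fromSpecStalk (φ x)), Spec.map_injective.eq_iff] at h1
      exact congr($h1 a)
    choose U hxU hU using key
    refine ⟨⨆ x, U x, fun x hx => TopologicalSpace.Opens.mem_iSup.2 ⟨⟨x, hx⟩, hxU ⟨x, hx⟩⟩, ?_⟩
    refine Scheme.Cover.hom_ext (Scheme.Opens.iSupOpenCover U) _ _ fun x => ?_
    simpa [Scheme.Opens.iSupOpenCover] using hU x
  have hW' : W = ⊤ := eq_top_of_closedFibre I f W hW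
  subst hW'
  exact (cancel_epi X.topIso.hom).1 hWe

end Groth.Agent.S5742
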