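import Groth.Statements.S5744
import Groth.Agent.QCoh.Qcqs
import Groth.Agent.QCoh.Tilde
import Groth.Agent.QCoh.DevissageIdeal
import Mathlib.AlgebraicGeometry.Morphisms.Affine
set_option backward.isDefEq.respectTransparency false
set_option backward.isDefEq.respectTransparency.types false

set_option autoImplicit false
universe u
open Coherent

namespace Groth.Agent.S5744
open CategoryTheory CategoryTheory.Limits AlgebraicGeometry
open Groth.Agent
namespace Aux
attribute [local instance] QCoh.hasFiniteBiproducts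

noncomputable def cechTermIso {C A : Type*} [Category C] [Category A] [HasFiniteProducts C] [Preadditive A]
    [HasProducts.{u} A] {ι : Type u} (U : ι → C) (P : Cᵒᵖ ⥤ A) (n : ℕ) :
    ((cechComplexFunctor U).obj P).X n ≅ ∏ᶜ fun i : Fin (n + 1) → ι => P.obj (Opposite.op (∏ᶜ (U ∘ i))) :=
  Iso.refl _

theorem isQCoh_term {X : Scheme.{u}} [X.IsSeparated] {ι : Type u}
    [Finite ι] (𝒰 : ι → X.Opens) (h𝒰 : ∀ i, IsAffineOpen (𝒰 i))
    (F : X.Modules) [Coh.IsQCoh F] (p : ℕ) :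
    Coh.IsQCoh (((CechOX.cechSh 𝒰).obj F).X p) := by
  let T : (Fin (p + 1) → ι) → X.Modules := fun i =>
    (CechOX.pushRestrFam.flip.obj F).obj (Opposite.op (∏ᶜ (𝒰 ∘ i)))
  refine (QCoh.isQCoh_iff_iso (cechTermIso 𝒰 (CechOX.pushRestrFam.flip.obj F) p)).2 ?_
  haveI := Fintype.ofFinite (Fin (p + 1) → ι)
  have hT : ∀ i, Coh.IsQCoh (T i) := fun i => by
    have e : ∏ᶜ (𝒰 ∘ i) = ⨅ a, 𝒰 (i a) := le_antisymm (le_iInf fun a => (Pi.π (𝒰 ∘ i) a).le)
      (Pi.lift (f := 𝒰 ∘ i) fun a => homOfLE (iInf_le (fun a => 𝒰 (i a)) a)).le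
    have hW : IsAffineOpen (∏ᶜ (𝒰 ∘ i)) := e ▸ IsAffineOpen.iInf fun a => h𝒰 (i a)
    haveI : IsAffine (↑(∏ᶜ (𝒰 ∘ i)) : Scheme.{u}) := hW
    haveI : IsAffineHom (∏ᶜ (𝒰 ∘ i) : X.Opens).ι := ⟨fun U hU => by
      rw [← Scheme.Hom.isAffineOpen_iff_of_isOpenImmersion (∏ᶜ (𝒰 ∘ i) : X.Opens).ι, Scheme.Hom.image_preimage_eq_opensRange_inf, Scheme.Opens.opensRange_ι]
      exact hW.inf hU⟩
    show Coh.IsQCoh ((Scheme.Modules.pushforward (∏ᶜ (𝒰 ∘ i) : X.Opens).ι).obj ((Scheme.Modules.restrictFunctor (∏ᶜ (𝒰 ∘ i) : X.Opens).ι).obj F))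
    exact QCoh.isQCoh_pushforward _ (QCoh.isQCoh_restrict _ ‹Coh.IsQCoh F›)
  exact (QCoh.isQCoh_iff_iso (biproduct.isoProduct T)).1 (QCoh.isQCoh_biproduct T hT)

end Aux


open AlgebraicGeometry CategoryTheory in
/-- For the Čech complex of sheaves indexed by all ordered tuples with products as terms; over a finite
index type these terms are finite direct sums. Let X be a separated scheme, (U_i)_{i ∈ ι} a finite
family of affine opens covering X, and F a quasi-coherent O_X-module. Then for every p the degree-p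
term of the Čech complex of sheaves 𝔠(𝒰, F), the product over ordered (p+1)-tuples of the direct
images (j_{i_0…i_p})_*(F|_{U_{i_0…i_p}}), is a quasi-coherent O_X-module. -/
theorem result {X : Scheme.{u}} [X.IsSeparated] {ι : Type u}
    [Finite ι] (𝒰 : ι → X.Opens) (h𝒰 : ∀ i, IsAffineOpen (𝒰 i)) (hcov : ⨆ i, 𝒰 i = ⊤)
    (F : X.Modules) [Coh.IsQCoh F] (p : ℕ) :
    Coh.IsQCoh (((CechOX.cechSh 𝒰).obj F).X p) := by

    exact Aux.isQCoh_term 𝒰 h𝒰 F p

end Groth.Agent.S5744
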