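import Groth.Statements.S5748
import Groth.Agent.H9Misc.AffineBCTwist

set_option autoImplicit false
universe u
open CategoryTheory CategoryTheory.Limits AlgebraicGeometry Opposite TopologicalSpace
open Coherent

namespace Groth.Agent.S5748

/-- Let Y be a Noetherian scheme, f : X → Y a projective morphism, L an invertible O_X-module ample
relative to f, g : Y' → Y an affine morphism locally of finite type (the spectrum of a
quasi-coherent O_Y-algebra 𝒮 of finite type) and X' = X ×_Y Y' with projections g' : X' → X and f' :
X' → Y'. The quasi-coherent modules of finite type over the pulled-back O_X-algebra f^*𝒮 = g'_*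
O_{X'} are the direct images g'_* G of the coherent O_{X'}-modules G, and they are presented here in
that form. For such a module ℳ = g'_* G there is N such that for every n ≥ N the higher direct
images R^p f_*(ℳ ⊗ L^{⊗n}) (of the underlying abelian sheaf) vanish for all p > 0 and the canonical
morphism f^* f_*(ℳ ⊗ L^{⊗n}) → ℳ ⊗ L^{⊗n} is an epimorphism. -/
theorem result {X Y X' Y' : Scheme.{u}}
    [AlgebraicGeometry.IsNoetherian Y] (f : X ⟶ Y) (hf : RelProj.IsProjective f)
    (L : X.Modules) (hL : PicF.IsInvertible L) (hamp : RelAmple.IsRelAmple f L)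
    (g : Y' ⟶ Y) [IsAffineHom g] [LocallyOfFiniteType g] (g' : X' ⟶ X) (f' : X' ⟶ Y')
    (hsq : IsPullback g' f' f g) (G : X'.Modules) (hG : Coh.IsCoh G) :
    ∃ N : ℕ, ∀ n : ℕ, N ≤ n →
      (∀ p : ℕ, 0 < p →
        IsZero ((Coh.RpushAb f p).obj (Coh.toAb (CohB1.tensorMod ((Coh.push g').obj G) (CohB1.tensorPow L n))))) ∧
      Epi ((Scheme.Modules.pullbackPushforwardAdjunction f).counit.app
        (CohB1.tensorMod ((Coh.push g').obj G) (CohB1.tensorPow L n))) := by
  haveI : AlgebraicGeometry.IsProper f := (ProjCl17.isQuasiProjective_and_isProper hf).2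
  exact H9Misc.AffineBCTwist.exists_vanish_and_epi f g g' f' hsq hL hamp hG

end Groth.Agent.S5748
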