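import Groth.Statements.S5749
import Groth.Agent.Lib.NegVanClosed
import Groth.Agent.Lib.ExtGlobalTwist

set_option autoImplicit false
universe u
open Coherent

namespace Groth.Agent.S5749

open AlgebraicGeometry CategoryTheory in
/-- Let A be an Artinian local ring, i : X → P^r_A a closed immersion compatible with the structure
morphisms to Spec A (X projective over A with the very ample module i^* O(1)), F a coherent
O_X-module and F(n) = F ⊗ i^* O(n). Then for all sufficiently large n the Euler characteristic
χ_A(F(n)) = Σ_{j ≤ r} (-1)^j length_A H^j(X, F(n)) equals the length of H^0(X, F(n)), the A-module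
of global sections of F(n). -/
theorem result (A : Type u) [CommRing A]
    [IsArtinianRing A] [IsLocalRing A] (r : ℕ) (X : Scheme.{u}) [X.Over (Spec (CommRingCat.of A))]
    (i : X ⟶ CohB1.ProjSpace r A) [IsClosedImmersion i]
    (hi : i ≫ CohB1.ProjSpace.toSpec r A = X ↘ Spec (CommRingCat.of A)) (F : X.Modules) (hF : Coh.IsCoh F) :
    ∃ N : ℤ, ∀ n : ℤ, N ≤ n →
      ((Finset.range (r + 1)).sum fun j => (-1 : ℤ) ^ j *
        ((Module.length A (Coh.HH X (CohB1.tensorMod F
          ((Scheme.Modules.pullback i).obj (Twist.twistProjSpace r A n))) j)).toNat : ℤ)) =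
      ((Module.length A (Coh.HH X (CohB1.tensorMod F
          ((Scheme.Modules.pullback i).obj (Twist.twistProjSpace r A n))) 0)).toNat : ℤ) := by

    haveI : IsNoetherianRing A := inferInstance
    haveI : IsNoetherian (CohB1.ProjSpace r A) := Proj16.isNoetherian_proj _
    letI : (CohB1.ProjSpace r A).Over (Spec (CommRingCat.of A)) := ⟨CohB1.ProjSpace.toSpec r A⟩
    obtain ⟨d₀, hd⟩ := ExtGlobalTwist.exists_vanishing_all (QCoh.isCoh_pushforward_finite i hF)
    refine ⟨d₀, fun n hn => ?_⟩
    rw [Finset.sum_range_succ', Finset.sum_eq_zero, pow_zero, one_mul, zero_add]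
    intro j _
    haveI := (NegVanClosed.subsingleton_HH_push_iff i A hF.1 (Twist.twistProjSpace r A n)
      (PnCoh.isQCoh_twist (PnDual.coordsR A r) PnDual.coordsR_mem PnDual.coordsR_cover n) (j + 1)).2 (hd n hn j)
    rw [Module.length_eq_zero]
    simp

end Groth.Agent.S5749
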