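import Groth.Statements.S5751
import Groth.Agent.H9Misc.GradedTail

set_option autoImplicit false
universe u
open CategoryTheory CategoryTheory.Limits AlgebraicGeometry Opposite TopologicalSpace
open scoped HomogeneousIdeal
noncomputable section
open Coherent

namespace Groth.Agent.S5751

/-- Over an affine base, for a graded ring generated in degree one, let S be a Noetherian commutative
ring positively graded by additive subgroups with irrelevant ideal generated by S_1, X = Proj S, and
M a graded S-module (non-negatively graded here, the direct sum of its pieces) satisfying (TF): for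
some k the submodule generated by the homogeneous elements of degree ≥ k is finitely generated.
Consider the graded module of sections n ↦ N_n = Γ(X, M(n)~), on which a homogeneous a ∈ S_e acts by
N_n → N_{n+e}, s ↦ (a/1)·s. Then there is k such that for every e ≥ 0 the group N_{k+e} is generated
by the images a · N_k, a ∈ S_e. (For a ring generated in degree one, condition (TF) for the graded
module ⊕_n N_n is this eventual generation together with the finiteness of each N_n over S_0.) -/
theorem result {A σ : Type u} [CommRing A]
    [IsNoetherianRing A] [SetLike σ A] [AddSubgroupClass σ A] (𝒜 : ℕ → σ) [GradedRing 𝒜]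
    (hgen : (HomogeneousIdeal.irrelevant 𝒜).toIdeal = Ideal.span (𝒜 1 : Set A))
    {M τ : Type u} [AddCommGroup M] [Module A M] [SetLike τ M] [AddSubgroupClass τ M] (ℳ : ℕ → τ)
    [SetLike.GradedSMul 𝒜 ℳ] [DirectSum.Decomposition ℳ]
    (hTF : ∃ k : ℕ, (Submodule.span A (⋃ i ∈ Set.Ici k, (ℳ i : Set M))).FG) :
    ∃ k : ℕ, ∀ e : ℕ,
      (⨆ a : 𝒜 e, (GrMod.smulSect 𝒜 ℳ a (k : ℤ)
        (op (⊤ : Opens (ProjectiveSpectrum.top 𝒜)))).range) = ⊤ := by
  exact H9Misc.GradedTail.exists_generated 𝒜 ℳ hgen hTF

end Groth.Agent.S5751
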