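import Groth.Statements.S5755
import Groth.Agent.Alg6.AssDepth
import Mathlib.RingTheory.LocalRing.MaximalIdeal.Basic

set_option autoImplicit false
universe u
open EGA41

namespace Groth.Agent.S5755

/-- A reduced Noetherian local ring A has depth 0 if and only if A is a field. -/
theorem result (A : Type u) [CommRing A] [IsLocalRing A]
    [IsNoetherianRing A] [IsReduced A] : LocCoh.depth A A = 0 ↔ IsField A := by
  have h := Alg6.one_le_depth_iff (R := A) (M := A)
  have hd : LocCoh.depth A A = 0 ↔ IsLocalRing.maximalIdeal A ∈ associatedPrimes A A := by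
    rw [← not_iff_not, ← h, ← ne_eq, Order.one_le_iff_pos, pos_iff_ne_zero]
  rw [hd]
  constructor
  · intro hm
    obtain ⟨-, x, hx⟩ := Alg6.mem_ass_iff.mp hm
    have hx0 : x ≠ 0 := fun h0 => (IsLocalRing.maximalIdeal.isMaximal A).ne_top (by
      ext a; simp [hx, h0])
    rw [IsLocalRing.isField_iff_maximalIdeal_eq]
    by_cases hxu : IsUnit x
    · refine eq_bot_iff.mpr fun a ha => ?_
      have : a * x = 0 := (hx a).mp ha
      exact (hxu.mul_left_eq_zero).mp this
    · exfalso
      have hxm : x ∈ IsLocalRing.maximalIdeal A := hxu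
      have hxx : x * x = 0 := (hx x).mp hxm
      exact hx0 (IsReduced.eq_zero x ⟨2, by rw [pow_two, hxx]⟩)
  · intro hF
    refine Alg6.mem_ass_iff.mpr ⟨(IsLocalRing.maximalIdeal.isMaximal A).isPrime, 1, ?_⟩
    intro a
    simp [IsLocalRing.isField_iff_maximalIdeal_eq.mp hF]

end Groth.Agent.S5755
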