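import Groth.Statements.S5760
import Groth.Agent.Jacob4.CMSeq
-- import your own Groth.Agent.* helpers here

set_option autoImplicit false
universe u
open EGA41

namespace Groth.Agent.S5760

/-- Let A be a Noetherian local ring, M a nonzero finitely generated Cohen-Macaulay A-module, p a prime
ideal in the support of M and r the integer dim(M) - dim(M/pM). Then there exists an M-regular
sequence x_1, ..., x_r of elements of p; for every such sequence, dim(M/(x_1 M + ... + x_r M)) =
dim(M/pM) = dim(A/p), and p is a minimal element of the set of associated primes of M/(x_1 M + ... +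
x_r M). -/
theorem result (A : Type u) [CommRing A]
    [IsLocalRing A] [IsNoetherianRing A] (M : Type u) [AddCommGroup M] [Module A M] [Module.Finite A M]
    (hM : LocCoh.IsCohenMacaulayModule A M) (p : PrimeSpectrum A) (hp : p ∈ Module.support A M) (r : ℕ)
    (hr : Module.supportDim A (M ⧸ (p.asIdeal • (⊤ : Submodule A M))) + r = Module.supportDim A M) :
    (∃ xs : List A, xs.length = r ∧ (∀ x ∈ xs, x ∈ p.asIdeal) ∧ RingTheory.Sequence.IsWeaklyRegular M xs) ∧
      ∀ xs : List A, xs.length = r → (∀ x ∈ xs, x ∈ p.asIdeal) → RingTheory.Sequence.IsWeaklyRegular M xs →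
        Module.supportDim A (M ⧸ (Ideal.ofList xs • (⊤ : Submodule A M))) =
            Module.supportDim A (M ⧸ (p.asIdeal • (⊤ : Submodule A M))) ∧
          Module.supportDim A (M ⧸ (p.asIdeal • (⊤ : Submodule A M))) = ringKrullDim (A ⧸ p.asIdeal) ∧
          p.asIdeal ∈ associatedPrimes A (M ⧸ (Ideal.ofList xs • (⊤ : Submodule A M))) ∧
          ∀ q ∈ associatedPrimes A (M ⧸ (Ideal.ofList xs • (⊤ : Submodule A M))), q ≤ p.asIdeal → q = p.asIdeal := by
  exact Jacob4.isWeaklyRegular_in_prime M hM p hp r hr
end Groth.Agent.S5760
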