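import Groth.Statements.S5762
import Groth.Agent.LC.DepthLoc

set_option autoImplicit false
universe u
open EGA41

namespace Groth.Agent.S5762

/-- Let A be a Noetherian local ring, M a nonzero finitely generated Cohen-Macaulay A-module and p a
prime ideal in the support of M. Then dim(M) = dim_A(M/pM) + dim_{A_p}(M_p). -/
theorem result (A : Type u) [CommRing A]
    [IsLocalRing A] [IsNoetherianRing A] (M : Type u) [AddCommGroup M] [Module A M] [Module.Finite A M]
    (hM : LocCoh.IsCohenMacaulayModule A M) (p : PrimeSpectrum A) (hp : p ∈ Module.support A M) :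
    Module.supportDim A M =
      Module.supportDim A (M ⧸ (p.asIdeal • (⊤ : Submodule A M))) +
        Module.supportDim (Localization.AtPrime p.asIdeal) (LocalizedModule p.asIdeal.primeCompl M) := by
  have hcm := LC.isCM_localized M hM hp
  have : Module.Finite (Localization.AtPrime p.asIdeal) (LocalizedModule p.asIdeal.primeCompl M) :=
    Module.Finite.of_isLocalizedModule p.asIdeal.primeCompl (LocalizedModule.mkLinearMap _ M)
  have h1 := LC.supportDim_eq_add_idealDepth M hM p.isPrime.ne_top
  refine le_antisymm ?_ ?_
  · rw [h1, hcm]
    exact add_le_add le_rfl (WithBot.coe_le_coe.2 (LC.idealDepth_le_depth_localized p.asIdeal M p.asIdeal le_rfl))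
  · refine le_trans ?_ (LC.height_supp_add_coheight_le M hp)
    rw [add_comm]
    refine add_le_add le_rfl ?_
    rw [Order.coheight_eq_krullDim_Ici]
    have hsub : Module.support A (M ⧸ (p.asIdeal • (⊤ : Submodule A M))) ⊆ Set.Ici p := by
      rw [Module.support_quotient]; exact fun q hq => hq.2
    exact Order.krullDim_le_of_strictMono (fun x => ⟨x.1, hsub x.2⟩) fun _ _ h => h

end Groth.Agent.S5762
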