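import Groth.Statements.S5767
import Groth.Agent.Jacob4.SemiDim
-- import your own Groth.Agent.* helpers here

set_option autoImplicit false
universe u
open EGA41

namespace Groth.Agent.S5767

/-- Let A be a semi-local Noetherian ring, M a finitely generated A-module and x an element of the
Jacobson radical of A. One always has dim(M/xM) ≥ dim(M) - 1; equality dim(M/xM) = dim(M) - 1 holds
if and only if x belongs to none of the prime ideals p of Supp(M) with dim(A/p) = dim(M). Stated as:
dim(M/xM) + 1 = dim(M) iff x avoids those primes. -/
theorem result (A : Type u) [CommRing A] [IsNoetherianRing A]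
    [Finite (MaximalSpectrum A)] (M : Type u) [AddCommGroup M] [Module A M] [Module.Finite A M] (x : A)
    (hx : x ∈ Ring.jacobson A) :
    Module.supportDim A (QuotSMulTop x M) + 1 = Module.supportDim A M ↔
      ∀ p : PrimeSpectrum A, p ∈ Module.support A M →
        ringKrullDim (A ⧸ p.asIdeal) = Module.supportDim A M → x ∉ p.asIdeal := by
  exact Jacob4.supportDim_quotSMulTop_add_one_eq_iff x hx
end Groth.Agent.S5767
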