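import Groth.Statements.S5768
import Groth.Agent.Jacob4.SemiDim
-- import your own Groth.Agent.* helpers here

set_option autoImplicit false
universe u
open EGA41

namespace Groth.Agent.S5768

/-- Let A be a semi-local Noetherian ring with Jacobson radical r, M a nonzero finitely generated
A-module and x_1, ..., x_k elements of r. One always has dim(M/(x_1 M + ... + x_k M)) ≥ dim(M) - k,
and equality holds if and only if there exist further elements of r which together with the x_i form
a system of parameters for M (dim(M) elements of r modulo which M has finite length). -/
theorem result (A : Type u) [CommRing A]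
    [IsNoetherianRing A] [Finite (MaximalSpectrum A)] (M : Type u) [AddCommGroup M] [Module A M]
    [Module.Finite A M] [Nontrivial M] (xs : List A) (hxs : ∀ x ∈ xs, x ∈ Ring.jacobson A) :
    Module.supportDim A (M ⧸ (Ideal.ofList xs • (⊤ : Submodule A M))) + xs.length = Module.supportDim A M ↔
      ∃ ys : List A, (∀ y ∈ ys, y ∈ Ring.jacobson A) ∧
        ((xs ++ ys).length : WithBot ℕ∞) = Module.supportDim A M ∧
        IsFiniteLength A (M ⧸ (Ideal.ofList (xs ++ ys) • (⊤ : Submodule A M))) := by
  exact Jacob4.supportDim_add_length_eq_iff xs M hxs
end Groth.Agent.S5768
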