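import Groth.Statements.S5769


set_option autoImplicit false
universe u
open EGA41

namespace Groth.Agent.S5769

/-- Let φ : A → B be a local homomorphism of Noetherian local rings, m the maximal ideal of A and k its
residue field. Then dim(B) ≤ dim(A) + dim(B ⊗_A k), where B ⊗_A k = B/mB. -/
theorem result (A B : Type u) [CommRing A] [CommRing B]
    [IsLocalRing A] [IsLocalRing B] [IsNoetherianRing A] [IsNoetherianRing B] [Algebra A B]
    [IsLocalHom (algebraMap A B)] :
    ringKrullDim B ≤ ringKrullDim A +
      ringKrullDim (B ⧸ (IsLocalRing.maximalIdeal A).map (algebraMap A B)) := by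
  have hlo : (IsLocalRing.maximalIdeal B).LiesOver (IsLocalRing.maximalIdeal A) :=
    ⟨(((IsLocalRing.local_hom_TFAE (algebraMap A B)).out 0 4 rfl rfl).mp (inferInstance : IsLocalHom (algebraMap A B))).symm⟩
  have h := Ideal.height_le_height_add_of_liesOver (IsLocalRing.maximalIdeal A) (IsLocalRing.maximalIdeal B)
  rw [← IsLocalRing.maximalIdeal_height_eq_ringKrullDim (R := B),
    ← IsLocalRing.maximalIdeal_height_eq_ringKrullDim (R := A)]
  refine le_trans (WithBot.coe_le_coe.mpr h) ?_
  rw [WithBot.coe_add]
  refine add_le_add le_rfl ?_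
  apply Ideal.height_le_ringKrullDim_of_ne_top
  have hle : (IsLocalRing.maximalIdeal A).map (algebraMap A B) ≤ IsLocalRing.maximalIdeal B := by
    rw [Ideal.map_le_iff_le_comap, ← Ideal.under_def, ← Ideal.LiesOver.over (p := IsLocalRing.maximalIdeal A) (P := IsLocalRing.maximalIdeal B)]
  intro he
  have h2 := congrArg (Ideal.comap (Ideal.Quotient.mk ((IsLocalRing.maximalIdeal A).map (algebraMap A B)))) he
  rw [Ideal.comap_map_of_surjective _ Ideal.Quotient.mk_surjective, ← RingHom.ker_eq_comap_bot,
    Ideal.mk_ker, sup_eq_left.mpr hle, Ideal.comap_top] at h2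
  exact (IsLocalRing.maximalIdeal.isMaximal B).ne_top h2

end Groth.Agent.S5769
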