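import Groth.Statements.S5770
import Groth.Agent.FlatLoc6.Supp
import Groth.Agent.FlatLoc6.DimEq

set_option autoImplicit false
universe u
open EGA41

namespace Groth.Agent.S5770

open TensorProduct in
/-- Let φ : A → B be a local homomorphism of Noetherian local rings, m the maximal ideal of A, k = A/m,
M a finitely generated A-module and N a finitely generated B-module. Then dim_B(M ⊗_A N) ≤ dim_A(M)
+ dim(N ⊗_A k), the last dimension being that of N/mN (over B ⊗_A k or, equivalently by finiteness,
over B). -/
theorem result (A B : Type u) [CommRing A] [CommRing B] [IsLocalRing A]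
    [IsLocalRing B] [IsNoetherianRing A] [IsNoetherianRing B] [Algebra A B] [IsLocalHom (algebraMap A B)]
    (M : Type u) [AddCommGroup M] [Module A M] [Module.Finite A M] (N : Type u) [AddCommGroup N] [Module B N]
    [Module A N] [IsScalarTower A B N] [Module.Finite B N] :
    Module.supportDim B (N ⊗[A] M) ≤ Module.supportDim A M +
      Module.supportDim B (N ⧸ ((IsLocalRing.maximalIdeal A).map (algebraMap A B) • (⊤ : Submodule B N))) := by
  rcases subsingleton_or_nontrivial M with hM | hM
  · haveI : Subsingleton (TensorProduct A N M) := subsingleton_of_forall_eq 0 fun w => by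
      induction w using TensorProduct.induction_on with
      | zero => rfl
      | tmul a b => rw [Subsingleton.elim b 0, TensorProduct.tmul_zero]
      | add p q hp hq => rw [hp, hq, add_zero]
    rw [Module.supportDim_eq_bot_of_subsingleton]
    exact bot_le
  rcases subsingleton_or_nontrivial N with hN | hN
  · haveI : Subsingleton (TensorProduct A N M) := subsingleton_of_forall_eq 0 fun w => by
      induction w using TensorProduct.induction_on with
      | zero => rfl
      | tmul a b => rw [Subsingleton.elim a 0, TensorProduct.zero_tmul]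
      | add p q hp hq => rw [hp, hq, add_zero]
    rw [Module.supportDim_eq_bot_of_subsingleton]
    exact bot_le
  set mB := (IsLocalRing.maximalIdeal A).map (algebraMap A B) with hmB
  let I := Module.annihilator A M
  let J : Ideal B := FlatLoc6.suppIdeal A B N M
  have hIm : I ≤ IsLocalRing.maximalIdeal A := IsLocalRing.le_maximalIdeal fun h => by
    obtain ⟨m, hm⟩ := exists_ne (0 : M)
    exact hm (by simpa using Module.mem_annihilator.mp (h ▸ Submodule.mem_top : (1 : A) ∈ I) m)
  have hNm : Module.annihilator B N ≤ IsLocalRing.maximalIdeal B := IsLocalRing.le_maximalIdeal fun h => by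
    obtain ⟨m, hm⟩ := exists_ne (0 : N)
    exact hm (by simpa using Module.mem_annihilator.mp (h ▸ Submodule.mem_top : (1 : B) ∈ Module.annihilator B N) m)
  have hJm : J ≤ IsLocalRing.maximalIdeal B := sup_le hNm
    ((Ideal.map_mono hIm).trans (IsLocalRing.map_maximalIdeal_le (algebraMap A B)))
  have hIJ : I ≤ J.comap (algebraMap A B) := Ideal.map_le_iff_le_comap.mp le_sup_right
  letI : Algebra (A ⧸ I) (B ⧸ J) := (Ideal.quotientMap J (algebraMap A B) hIJ).toAlgebra
  haveI : Nontrivial (A ⧸ I) := Ideal.Quotient.nontrivial_iff.mpr fun h =>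
    (IsLocalRing.maximalIdeal.isMaximal A).ne_top (top_le_iff.mp (h ▸ hIm))
  haveI : Nontrivial (B ⧸ J) := Ideal.Quotient.nontrivial_iff.mpr fun h =>
    (IsLocalRing.maximalIdeal.isMaximal B).ne_top (top_le_iff.mp (h ▸ hJm))
  haveI : IsLocalRing (A ⧸ I) := IsLocalRing.of_surjective' _ Ideal.Quotient.mk_surjective
  haveI : IsLocalRing (B ⧸ J) := IsLocalRing.of_surjective' _ Ideal.Quotient.mk_surjective
  haveI : IsLocalHom (Ideal.Quotient.mk J) := IsLocalHom.of_surjective _ Ideal.Quotient.mk_surjective
  haveI : IsLocalHom (algebraMap (A ⧸ I) (B ⧸ J)) := ⟨fun a ha => by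
    obtain ⟨a, rfl⟩ := Ideal.Quotient.mk_surjective a
    have h1 : IsUnit (Ideal.Quotient.mk J (algebraMap A B a)) := ha
    exact ((isUnit_map_iff (algebraMap A B) a).1 ((isUnit_map_iff (Ideal.Quotient.mk J) _).1 h1)).map _⟩
  have key := FlatLoc6.ringKrullDim_le_add_fibre (A := A ⧸ I) (B := B ⧸ J)
  rw [FlatLoc6.supportDim_tensor_eq, Module.supportDim_eq_ringKrullDim_quotient_annihilator (R := A)]
  refine key.trans (add_le_add le_rfl (le_of_eq ?_))
  have hsupp : Module.supportDim B (N ⧸ (mB • (⊤ : Submodule B N))) =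
      ringKrullDim (B ⧸ (Module.annihilator B N ⊔ mB)) := by
    rw [ringKrullDim_quotient, PrimeSpectrum.zeroLocus_sup, ← Module.support_eq_zeroLocus,
      ← Module.support_quotient]
    rfl
  rw [hsupp]
  have hK : EGA4.mB (A ⧸ I) (B ⧸ J) = mB.map (Ideal.Quotient.mk J) := by
    show (IsLocalRing.maximalIdeal (A ⧸ I)).map (algebraMap (A ⧸ I) (B ⧸ J)) = _
    rw [← RegLoc6.map_maximalIdeal_quot (R := A) I, Ideal.map_map, hmB, Ideal.map_map]
    rfl
  have hJK : J ⊔ mB = Module.annihilator B N ⊔ mB :=
    le_antisymm (sup_le (sup_le le_sup_left ((Ideal.map_mono hIm).trans le_sup_right)) le_sup_right)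
      (sup_le (le_sup_left.trans le_sup_left) le_sup_right)
  exact ringKrullDim_eq_of_ringEquiv (((Ideal.quotEquivOfEq hK).trans
    (DoubleQuot.quotQuotEquivQuotSup J mB)).trans (Ideal.quotEquivOfEq hJK))

end Groth.Agent.S5770
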