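import Groth.Statements.S5771
import Groth.Agent.EGA41Lib.IntDim
import Mathlib.RingTheory.Ideal.KrullsHeightTheorem
import Mathlib.RingTheory.KrullDimension.NonZeroDivisors

set_option autoImplicit false
universe u
open EGA41

namespace Groth.Agent.S5771

/-- Let φ : A → B be a local homomorphism of Noetherian local rings, m the maximal ideal of A, and
suppose mB is an ideal of definition of B (equivalently dim(B/mB) = 0). Then dim(B) ≤ dim(A); if
moreover A is an integral domain and dim(A) = dim(B), then φ is injective. -/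
theorem result (A B : Type u) [CommRing A] [CommRing B]
    [IsLocalRing A] [IsLocalRing B] [IsNoetherianRing A] [IsNoetherianRing B] [Algebra A B]
    [IsLocalHom (algebraMap A B)]
    (hdef : ringKrullDim (B ⧸ (IsLocalRing.maximalIdeal A).map (algebraMap A B)) = 0) :
    ringKrullDim B ≤ ringKrullDim A ∧
      (IsDomain A → ringKrullDim A = ringKrullDim B → Function.Injective (algebraMap A B)) := by
  have hle : ∀ (A : Type u) [CommRing A] [IsLocalRing A] [IsNoetherianRing A] [Algebra A B]
      [IsLocalHom (algebraMap A B)], ringKrullDim (B ⧸ (IsLocalRing.maximalIdeal A).map (algebraMap A B)) = 0 →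
      ringKrullDim B ≤ ringKrullDim A := by
    intro A _ _ _ _ _ h0
    have hlo : (IsLocalRing.maximalIdeal B).LiesOver (IsLocalRing.maximalIdeal A) :=
      ⟨(((IsLocalRing.local_hom_TFAE (algebraMap A B)).out 0 4 rfl rfl).mp (inferInstance : IsLocalHom (algebraMap A B))).symm⟩
    have h := Ideal.height_le_height_add_of_liesOver (IsLocalRing.maximalIdeal A) (IsLocalRing.maximalIdeal B)
    have h2 : (IsLocalRing.maximalIdeal B).map (Ideal.Quotient.mk ((IsLocalRing.maximalIdeal A).map (algebraMap A B))) ≠ ⊤ := by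
      have hle : (IsLocalRing.maximalIdeal A).map (algebraMap A B) ≤ IsLocalRing.maximalIdeal B := by
        rw [Ideal.map_le_iff_le_comap, ← Ideal.under_def, ← Ideal.LiesOver.over (p := IsLocalRing.maximalIdeal A) (P := IsLocalRing.maximalIdeal B)]
      intro he
      have h2 := congrArg (Ideal.comap (Ideal.Quotient.mk ((IsLocalRing.maximalIdeal A).map (algebraMap A B)))) he
      rw [Ideal.comap_map_of_surjective _ Ideal.Quotient.mk_surjective, ← RingHom.ker_eq_comap_bot,
        Ideal.mk_ker, sup_eq_left.mpr hle, Ideal.comap_top] at h2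
      exact (IsLocalRing.maximalIdeal.isMaximal B).ne_top h2
    have h3 := Ideal.height_le_ringKrullDim_of_ne_top h2
    rw [h0] at h3
    have h4 : ((IsLocalRing.maximalIdeal B).map (Ideal.Quotient.mk ((IsLocalRing.maximalIdeal A).map (algebraMap A B)))).height = 0 := by
      simpa using h3
    rw [← IsLocalRing.maximalIdeal_height_eq_ringKrullDim (R := B),
      ← IsLocalRing.maximalIdeal_height_eq_ringKrullDim (R := A)]
    rw [h4, add_zero] at h
    exact WithBot.coe_le_coe.mpr h
  refine ⟨hle A hdef, fun _ hdim => (injective_iff_map_eq_zero _).mpr fun a ha => ?_⟩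
  by_contra hne
  have hreg : a ∈ nonZeroDivisors A := mem_nonZeroDivisors_iff_ne_zero.mpr hne
  have hsucc : ringKrullDim (A ⧸ Ideal.span {a}) + 1 ≤ ringKrullDim A := ringKrullDim_quotient_succ_le_of_nonZeroDivisor hreg
  haveI : Nontrivial (A ⧸ Ideal.span {a}) := Ideal.Quotient.nontrivial_iff.mpr fun htop => by
    have hu : IsUnit a := Ideal.span_singleton_eq_top.mp htop
    exact not_isUnit_zero (M₀ := B) (ha ▸ hu.map (algebraMap A B))
  haveI : IsLocalRing (A ⧸ Ideal.span {a}) := IsLocalRing.of_surjective' _ Ideal.Quotient.mk_surjective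
  letI : Algebra (A ⧸ Ideal.span {a}) B :=
    (Ideal.Quotient.lift _ (algebraMap A B) (fun x hx => by
      obtain ⟨c, rfl⟩ := Ideal.mem_span_singleton'.mp hx
      rw [map_mul, ha, mul_zero])).toAlgebra
  have hmap : (IsLocalRing.maximalIdeal (A ⧸ Ideal.span {a})).map (algebraMap (A ⧸ Ideal.span {a}) B) =
      (IsLocalRing.maximalIdeal A).map (algebraMap A B) := by
    haveI : IsLocalHom (Ideal.Quotient.mk (Ideal.span {a})) := IsLocalHom.of_surjective _ Ideal.Quotient.mk_surjective
    have : IsLocalRing.maximalIdeal (A ⧸ Ideal.span {a}) = (IsLocalRing.maximalIdeal A).map (Ideal.Quotient.mk _) := by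
      rw [← ((IsLocalRing.local_hom_TFAE (Ideal.Quotient.mk (Ideal.span {a}))).out 0 4 rfl rfl).mp inferInstance,
        Ideal.map_comap_of_surjective _ Ideal.Quotient.mk_surjective]
    rw [this, Ideal.map_map]
    rfl
  haveI : IsLocalHom (algebraMap (A ⧸ Ideal.span {a}) B) := ⟨fun z hz => by
    obtain ⟨x, rfl⟩ := Ideal.Quotient.mk_surjective z
    have : IsUnit (algebraMap A B x) := hz
    exact (isUnit_of_map_unit _ x this).map _⟩
  have hB := hle (A ⧸ Ideal.span {a}) (by rw [hmap]; exact hdef)
  rw [← hdim] at hB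
  have hcon : (ringKrullDim A) + 1 ≤ ringKrullDim A := le_trans (add_le_add hB le_rfl) hsucc
  have hfin : ((IsLocalRing.maximalIdeal A).height) ≠ ⊤ := Ideal.height_ne_top Ideal.IsPrime.ne_top'
  rw [← IsLocalRing.maximalIdeal_height_eq_ringKrullDim, ← WithBot.coe_one, ← WithBot.coe_add, WithBot.coe_le_coe] at hcon
  exact absurd hcon (not_le.mpr ((ENat.add_one_le_iff hfin).mp le_rfl))

end Groth.Agent.S5771
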