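import Groth.Statements.S5772
import Mathlib.RingTheory.Filtration
import Mathlib.RingTheory.Regular.RegularSequence

set_option autoImplicit false
universe u
open scoped Pointwise
open EGA41
open scoped Pointwise

namespace Groth.Agent.S5772

/-- Let A be a Noetherian ring, M a finitely generated A-module and f an element of A. Then f is
M-regular (multiplication by f on M is injective) if and only if f is M-quasi-regular, i.e. the
canonical surjection (M/fM)[T] → gr(M) for the (f)-adic filtration is bijective, which amounts to: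
for every k ≥ 0 and x ∈ M, f^k x ∈ f^(k+1) M implies x ∈ fM. -/
theorem result (A : Type u) [CommRing A] [IsNoetherianRing A] (M : Type u)
    [AddCommGroup M] [Module A M] [Module.Finite A M] (f : A) :
    IsSMulRegular M f ↔
      ∀ (k : ℕ) (x : M), f ^ k • x ∈ f ^ (k + 1) • (⊤ : Submodule A M) → x ∈ f • (⊤ : Submodule A M) := by
  refine ⟨fun hreg k x hx => ?_, fun h => isSMulRegular_iff_right_eq_zero_of_smul.mpr fun x hx => ?_⟩
  · rw [Submodule.mem_smul_pointwise_iff_exists] at hx ⊢
    obtain ⟨y, -, hy⟩ := hx
    refine ⟨y, trivial, ?_⟩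
    apply (hreg.pow k)
    show f ^ k • (f • y) = f ^ k • x
    rw [← mul_smul, ← pow_succ, hy]
  · have hmem : ∀ k : ℕ, x ∈ f ^ k • (⊤ : Submodule A M) := by
      intro k
      induction k with
      | zero => simp
      | succ k ih =>
        rw [Submodule.mem_smul_pointwise_iff_exists] at ih
        obtain ⟨y, -, rfl⟩ := ih
        have hy : f ^ (k + 1) • y ∈ f ^ (k + 1 + 1) • (⊤ : Submodule A M) := by
          have h0 : f ^ (k + 1) • y = 0 := by rw [pow_succ', mul_smul, hx]
          rw [h0]
          exact Submodule.zero_mem _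
        have hy2 := h (k + 1) y hy
        rw [Submodule.mem_smul_pointwise_iff_exists] at hy2 ⊢
        obtain ⟨z, -, rfl⟩ := hy2
        exact ⟨z, trivial, by rw [← mul_smul, pow_succ]⟩
    have hinf : x ∈ (⨅ k : ℕ, Ideal.span {f} ^ k • (⊤ : Submodule A M)) := by
      simp only [Submodule.mem_iInf, Ideal.span_singleton_pow, Submodule.ideal_span_singleton_smul]
      exact hmem
    obtain ⟨⟨r, hr⟩, hrx⟩ := (Ideal.mem_iInf_smul_pow_eq_bot_iff _ x).mp hinf
    obtain ⟨s, rfl⟩ := Ideal.mem_span_singleton'.mp hr
    rw [← hrx]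
    show (s * f) • x = 0
    rw [mul_smul, hx, smul_zero]

end Groth.Agent.S5772
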