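import Groth.Statements.S5775
import Groth.Agent.HomDimLib.RegFlat

set_option autoImplicit false
universe u
open EGA41

namespace Groth.Agent.S5775

/-- Let A → B be a local homomorphism of Noetherian local rings, m the maximal ideal of A, M a finitely
generated B-module flat over A and R a B-submodule of M such that M/R is flat over A. Let f_1, ...,
f_n be elements of the maximal ideal of B such that (i) f_i M ⊆ R for all i, (ii) the images of the
f_i form an (M/mM)-regular sequence, and (iii) the submodule f_1 (M/mM) + ... + f_n (M/mM) is the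
image of R in M/mM. Then (f_i) is an M-regular sequence and R = f_1 M + ... + f_n M. -/
theorem result (A B : Type u) [CommRing A] [CommRing B] [IsLocalRing A]
    [IsLocalRing B] [IsNoetherianRing A] [IsNoetherianRing B] [Algebra A B] [IsLocalHom (algebraMap A B)]
    (M : Type u) [AddCommGroup M] [Module B M] [Module A M] [IsScalarTower A B M] [Module.Finite B M]
    [Module.Flat A M] (R : Submodule B M) (hR : Module.Flat A (M ⧸ R)) (fs : List B)
    (hfs : ∀ f ∈ fs, f ∈ IsLocalRing.maximalIdeal B) (h1 : Ideal.ofList fs • (⊤ : Submodule B M) ≤ R)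
    (h2 : RingTheory.Sequence.IsWeaklyRegular
      (M ⧸ ((IsLocalRing.maximalIdeal A).map (algebraMap A B) • (⊤ : Submodule B M))) fs)
    (h3 : Ideal.ofList fs • (⊤ : Submodule B
        (M ⧸ ((IsLocalRing.maximalIdeal A).map (algebraMap A B) • (⊤ : Submodule B M)))) =
      R.map ((IsLocalRing.maximalIdeal A).map (algebraMap A B) • (⊤ : Submodule B M)).mkQ) :
    RingTheory.Sequence.IsWeaklyRegular M fs ∧ R = Ideal.ofList fs • (⊤ : Submodule B M) := by
  obtain ⟨hreg, hflat⟩ := Synt29.weaklyRegular_and_flat_of_fibre (A := A) fs M h2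
  refine ⟨hreg, le_antisymm ?_ h1⟩
  set I := (IsLocalRing.maximalIdeal A).map (algebraMap A B) with hI
  set N := Ideal.ofList fs • (⊤ : Submodule B M) with hN
  set m := IsLocalRing.maximalIdeal A
  have key : ∀ r ∈ R, r ∈ I • (⊤ : Submodule B M) → r ∈ I • R := by
    intro r hr hrI
    obtain ⟨z, hz⟩ := FlatLoc6.exists_of_mem_mN (A := A) (B := B) (N := M) hrI
    let π : M →ₗ[A] M ⧸ R := R.mkQ.restrictScalars A
    let ι : R →ₗ[A] M := R.subtype.restrictScalars A
    have hex : Function.Exact ι π := LinearMap.exact_subtype_mkQ R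
    have hnat : ∀ x : TensorProduct A m M, TensorProduct.lid A (M ⧸ R)
        (m.subtype.rTensor _ (π.lTensor _ x)) = π (TensorProduct.lid A M (m.subtype.rTensor M x)) := by
      intro x
      induction x using TensorProduct.induction_on with
      | zero => simp
      | tmul a b => simp
      | add p q hp hq => simp only [map_add, hp, hq]
    have hz0 : π.lTensor _ z = 0 := by
      refine Module.Flat.rTensor_preserves_injective_linearMap (M := M ⧸ R) m.subtype m.injective_subtype ?_
      refine (TensorProduct.lid A (M ⧸ R)).injective ?_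
      rw [hnat, hz, map_zero, map_zero]
      exact (Submodule.Quotient.mk_eq_zero R).2 hr
    obtain ⟨w, rfl⟩ := (lTensor_exact m hex R.mkQ_surjective z).1 hz0
    rw [← hz]
    clear hz hz0
    induction w using TensorProduct.induction_on with
    | zero => simp
    | tmul a b =>
      simp only [LinearMap.lTensor_tmul, LinearMap.rTensor_tmul, TensorProduct.lid_tmul]
      show (a : A) • (b : M) ∈ I • R
      rw [← algebraMap_smul B (a : A) (b : M)]
      exact Submodule.smul_mem_smul (Ideal.mem_map_of_mem _ a.2) b.2
    | add p q hp hq => simp only [map_add]; exact add_mem hp hq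
  refine Submodule.le_of_le_smul_of_le_jacobson_bot (IsNoetherian.noetherian R)
    ((IsLocalRing.map_maximalIdeal_le (algebraMap A B)).trans (IsLocalRing.maximalIdeal_le_jacobson ⊥)) ?_
  intro r hr
  have hmem : (I • (⊤ : Submodule B M)).mkQ r ∈ N.map (I • (⊤ : Submodule B M)).mkQ := by
    rw [hN, Submodule.map_smul'', Submodule.map_top, Submodule.range_mkQ, h3]
    exact Submodule.mem_map_of_mem hr
  obtain ⟨n, hn, hnr⟩ := hmem
  have hd : r - n ∈ I • (⊤ : Submodule B M) := (Submodule.Quotient.eq _).1 hnr.symm
  rw [show r = n + (r - n) by abel]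
  exact Submodule.add_mem_sup hn (key _ (sub_mem hr (h1 hn)) hd)

end Groth.Agent.S5775
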