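import Groth.Statements.S5780
import Groth.Agent.Alg6.AssDepth
import Mathlib.RingTheory.Nakayama

set_option autoImplicit false
universe u
open EGA41

namespace Groth.Agent.S5780

/-- Let A be a Noetherian local ring with maximal ideal m. If every element of m which is not in m² is a
zero divisor in A, then there is a nonzero c in A with c m = 0, i.e. m is an associated prime of A. -/
theorem result (A : Type u) [CommRing A]
    [IsLocalRing A] [IsNoetherianRing A]
    (h : ∀ a ∈ IsLocalRing.maximalIdeal A, a ∉ IsLocalRing.maximalIdeal A ^ 2 → ¬ IsSMulRegular A a) :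
    IsLocalRing.maximalIdeal A ∈ associatedPrimes A A := by
  classical
  set m := IsLocalRing.maximalIdeal A with hm
  by_cases hmm : m = m ^ 2
  · have hm0 : m = ⊥ := Submodule.eq_bot_of_le_smul_of_le_jacobson_bot m m (IsNoetherian.noetherian m)
      (by rw [smul_eq_mul, ← pow_two]; exact hmm.le) (IsLocalRing.maximalIdeal_le_jacobson _)
    refine Alg6.mem_ass_iff.mpr ⟨(IsLocalRing.maximalIdeal.isMaximal A).isPrime, 1, ?_⟩
    intro a
    simp [hm0]
  · have hfin := associatedPrimes.finite A A
    have hsub : (m : Set A) ⊆ ⋃ i ∈ (↑(insert (m ^ 2) hfin.toFinset) : Set (Ideal A)), (i : Set A) := by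
      intro a ha
      by_cases ha2 : a ∈ m ^ 2
      · exact Set.mem_biUnion (Finset.mem_insert_self _ _) ha2
      · have := h a ha ha2
        rw [Alg6.isSMulRegular_iff_forall_ass] at this
        push Not at this
        obtain ⟨p, hp, hap⟩ := this
        exact Set.mem_biUnion (Finset.mem_insert_of_mem (hfin.mem_toFinset.mpr hp)) hap
    obtain ⟨i, hi, hle⟩ := (Ideal.subset_union_prime (m ^ 2) (m ^ 2) (by
      intro i hi hne _
      rcases Finset.mem_insert.mp hi with h | h
      · exact absurd h hne
      · exact IsAssociatedPrime.isPrime (hfin.mem_toFinset.mp h))).mp hsub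
    rcases Finset.mem_insert.mp hi with h' | h'
    · exact absurd (le_antisymm (h' ▸ hle) (Ideal.pow_le_self two_ne_zero)) hmm
    · have hp := hfin.mem_toFinset.mp h'
      rwa [← (IsLocalRing.maximalIdeal.isMaximal A).eq_of_le (IsAssociatedPrime.isPrime hp).ne_top hle] at hp

end Groth.Agent.S5780
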