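import Groth.Statements.S5781
import Mathlib.RingTheory.QuotSMulTop
import Mathlib.LinearAlgebra.Basis.VectorSpace
import Mathlib.RingTheory.Ideal.Quotient.Operations
import Mathlib.LinearAlgebra.Isomorphisms
import Mathlib.RingTheory.LocalRing.ResidueField.Basic
import Mathlib.Algebra.Module.Torsion.Basic

set_option autoImplicit false
universe u
open EGA41
open scoped Pointwise

namespace Groth.Agent.S5781

/-- Suppose A is a Noetherian local ring whose maximal ideal is m, and take a ∈ m with a ∉ m². Then the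
quotient m/am contains a direct summand isomorphic to m/Aa: concretely, one can find A-linear maps f
: m/Aa → m/am and g : m/am → m/Aa such that g ∘ f is the identity. -/
theorem result (A : Type u) [CommRing A] [IsLocalRing A]
    [IsNoetherianRing A] (a : A) (ha : a ∈ IsLocalRing.maximalIdeal A) (ha2 : a ∉ IsLocalRing.maximalIdeal A ^ 2) :
    ∃ (f : (↥(IsLocalRing.maximalIdeal A) ⧸ Submodule.span A {(⟨a, ha⟩ : ↥(IsLocalRing.maximalIdeal A))}) →ₗ[A]
          QuotSMulTop a ↥(IsLocalRing.maximalIdeal A))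
      (g : QuotSMulTop a ↥(IsLocalRing.maximalIdeal A) →ₗ[A]
          (↥(IsLocalRing.maximalIdeal A) ⧸ Submodule.span A {(⟨a, ha⟩ : ↥(IsLocalRing.maximalIdeal A))})),
      g.comp f = LinearMap.id := by
  classical
  set m := IsLocalRing.maximalIdeal A with hm
  let α : ↥m := ⟨a, ha⟩
  letI : Field (A ⧸ m) := Ideal.Quotient.field m
  have hv : (m • ⊤ : Submodule A ↥m).mkQ α ≠ 0 := by
    intro h
    have h1 : α ∈ (m • ⊤ : Submodule A ↥m) := (Submodule.Quotient.mk_eq_zero _).mp h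
    apply ha2
    have h2 : (α : A) ∈ Submodule.map m.subtype (m • ⊤ : Submodule A ↥m) := ⟨α, h1, rfl⟩
    rw [Submodule.map_smul'', Submodule.map_top, Submodule.range_subtype, smul_eq_mul, ← pow_two] at h2
    exact h2
  obtain ⟨C, hC⟩ := Submodule.exists_isCompl (Submodule.span (A ⧸ m) {(m • ⊤ : Submodule A ↥m).mkQ α})
  let K : Submodule A ↥m := (C.restrictScalars A).comap (m • ⊤ : Submodule A ↥m).mkQ
  let q : Submodule A ↥m := Submodule.span A {α}
  let amb : Submodule A ↥m := a • ⊤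
  have hamb : amb ≤ q := by
    rintro _ ⟨y, -, rfl⟩
    refine Submodule.mem_span_singleton.mpr ⟨(y : A), Subtype.ext ?_⟩
    show (y : A) * a = a * (y : A)
    ring
  have hKsur : Function.Surjective (q.mkQ ∘ₗ K.subtype) := by
    intro z
    obtain ⟨x, rfl⟩ := Submodule.Quotient.mk_surjective _ z
    have hx : (m • ⊤ : Submodule A ↥m).mkQ x ∈ Submodule.span (A ⧸ m) {(m • ⊤ : Submodule A ↥m).mkQ α} ⊔ C := by rw [hC.sup_eq_top]; trivial
    obtain ⟨s, hs, c, hc, hsc⟩ := Submodule.mem_sup.mp hx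
    obtain ⟨r, rfl⟩ := Submodule.mem_span_singleton.mp hs
    obtain ⟨r, rfl⟩ := Ideal.Quotient.mk_surjective r
    refine ⟨⟨x - r • α, ?_⟩, ?_⟩
    · show (m • ⊤ : Submodule A ↥m).mkQ (x - r • α) ∈ C
      have he : (algebraMap A (A ⧸ m) r) • (m • ⊤ : Submodule A ↥m).mkQ α = r • (m • ⊤ : Submodule A ↥m).mkQ α := algebraMap_smul (A ⧸ m) r _
      rw [map_sub, map_smul, ← hsc, ← he]
      show algebraMap A (A ⧸ m) r • (m • ⊤ : Submodule A ↥m).mkQ α + c - algebraMap A (A ⧸ m) r • (m • ⊤ : Submodule A ↥m).mkQ α ∈ C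
      rw [add_sub_cancel_left]
      exact hc
    · show Submodule.Quotient.mk (x - r • α) = Submodule.Quotient.mk x
      rw [Submodule.Quotient.eq, sub_sub_cancel_left]
      exact q.neg_mem (q.smul_mem r (Submodule.mem_span_singleton_self α))
  have hker : LinearMap.ker (q.mkQ ∘ₗ K.subtype) ≤ LinearMap.ker (amb.mkQ ∘ₗ K.subtype) := by
    intro y hy
    rw [LinearMap.mem_ker] at hy ⊢
    obtain ⟨r, hr⟩ := Submodule.mem_span_singleton.mp ((Submodule.Quotient.mk_eq_zero q).mp hy)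
    have hyC : (m • ⊤ : Submodule A ↥m).mkQ (r • α) ∈ C := by rw [hr]; exact y.2
    by_cases hru : IsUnit r
    · exfalso
      obtain ⟨u, rfl⟩ := hru
      rw [map_smul] at hyC
      have h1 : (m • ⊤ : Submodule A ↥m).mkQ α ∈ C.restrictScalars A := by
        have := (C.restrictScalars A).smul_mem (↑u⁻¹ : A) hyC
        rwa [smul_smul, Units.inv_mul, one_smul] at this
      have h2 : (m • ⊤ : Submodule A ↥m).mkQ α ∈ Submodule.span (A ⧸ m) {(m • ⊤ : Submodule A ↥m).mkQ α} ⊓ C := ⟨Submodule.mem_span_singleton_self _, h1⟩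
      rw [hC.inf_eq_bot] at h2
      exact hv h2
    · refine (Submodule.Quotient.mk_eq_zero amb).mpr ?_
      refine ⟨⟨r, hru⟩, trivial, ?_⟩
      show a • (⟨r, hru⟩ : ↥m) = K.subtype y
      show a • (⟨r, hru⟩ : ↥m) = (y : ↥m)
      exact (Subtype.ext (show a * r = r * a from mul_comm a r) : a • (⟨r, hru⟩ : ↥m) = r • α).trans hr
  let e := (q.mkQ ∘ₗ K.subtype).quotKerEquivOfSurjective hKsur
  refine ⟨(LinearMap.ker (q.mkQ ∘ₗ K.subtype)).liftQ (amb.mkQ ∘ₗ K.subtype) hker ∘ₗ e.symm.toLinearMap,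
    Submodule.factor hamb, LinearMap.ext fun z => ?_⟩
  obtain ⟨y, rfl⟩ := hKsur z
  rw [LinearMap.comp_apply, LinearMap.comp_apply,
    show e.symm.toLinearMap ((q.mkQ ∘ₗ K.subtype) y) = Submodule.Quotient.mk y from e.symm_apply_eq.mpr rfl]
  rfl

end Groth.Agent.S5781
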