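import Groth.Statements.S5782
import Mathlib
import Groth.Agent.RegLoc6.Pd

set_option autoImplicit false
universe u
open CategoryTheory
open EGA41

namespace Groth.Agent.S5782

open RegLoc6 TensorProduct

variable {A : Type u} [CommRing A] (a : A)

set_option quotPrecheck false in
local notation "I" => Ideal.span ({a} : Set A)

theorem projective_quot (F : Type u) [AddCommGroup F] [Module A F] [Module.Projective A F] :
    Module.Projective (A ⧸ I) (F ⧸ (I • (⊤ : Submodule A F))) :=
  Module.Projective.of_equiv
    (LinearEquiv.extendScalarsOfSurjective Ideal.Quotient.mk_surjective (quotTensorEquivQuotSMul F I))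

/-- Reduction of a map modulo `a`. -/
noncomputable def red {M N : Type u} [AddCommGroup M] [Module A M] [AddCommGroup N] [Module A N] (f : M →ₗ[A] N) :
    (M ⧸ (I • (⊤ : Submodule A M))) →ₗ[A ⧸ I] (N ⧸ (I • (⊤ : Submodule A N))) :=
  LinearMap.extendScalarsOfSurjective Ideal.Quotient.mk_surjective
    (Submodule.mapQ (I • (⊤ : Submodule A M)) (I • (⊤ : Submodule A N)) f
      (Submodule.smul_le.mpr fun r hr m _ => by
        rw [Submodule.mem_comap, map_smul]; exact Submodule.smul_mem_smul hr trivial))

theorem pdLE_quot : ∀ (n : ℕ) (E : Type u) [AddCommGroup E] [Module A E] [IsNoetherianRing A] [Module.Finite A E],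
    IsSMulRegular A a → IsSMulRegular E a → PdLE A n E → PdLE (A ⧸ I) n (E ⧸ (I • (⊤ : Submodule A E))) := by
  intro n
  induction n with
  | zero =>
    intro E _ _ _ _ _ _ h
    haveI := pdLE_zero_iff.mp h
    haveI := projective_quot a E
    exact pdLE_of_projective 0
  | succ n ih =>
    intro E _ _ _ _ hA hE h
    obtain ⟨k, g, hg⟩ := exists_presentation (R := A) (M := E)
    haveI : Module.Finite A (LinearMap.ker g) := Module.Finite.iff_fg.mpr (IsNoetherian.noetherian _)
    have hF : IsSMulRegular (Fin k → A) a := fun v w hvw => funext fun i => hA (congrFun hvw i)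
    have hK : IsSMulRegular (LinearMap.ker g) a := fun v w hvw => Subtype.ext (hF (congrArg Subtype.val hvw))
    have hK' := ih (LinearMap.ker g) hA hK (pdLE_ker g hg h (pdLE_of_projective n))
    haveI := projective_quot a (Fin k → A)
    have hsurj : Function.Surjective (red a g) := fun y => by
      obtain ⟨y, rfl⟩ := Submodule.Quotient.mk_surjective _ y
      obtain ⟨x, rfl⟩ := hg y
      exact ⟨Submodule.Quotient.mk x, rfl⟩
    let i := red a (LinearMap.ker g).subtype
    have hle : ∀ z, i z ∈ LinearMap.ker (red a g) := fun z => by
      obtain ⟨⟨x, hx⟩, rfl⟩ := Submodule.Quotient.mk_surjective _ z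
      show Submodule.Quotient.mk (g x) = 0
      rw [show g x = 0 from hx]; rfl
    have hbij : Function.Bijective (LinearMap.codRestrict (LinearMap.ker (red a g)) i hle) := by
      refine ⟨?_, fun z => ?_⟩
      · rw [← LinearMap.ker_eq_bot, eq_bot_iff]
        intro z hz
        obtain ⟨⟨x, hx⟩, rfl⟩ := Submodule.Quotient.mk_surjective _ z
        have hz' : x ∈ I • (⊤ : Submodule A (Fin k → A)) :=
          (Submodule.Quotient.mk_eq_zero _).mp (congrArg Subtype.val hz)
        rw [Submodule.ideal_span_singleton_smul] at hz'
        obtain ⟨y, -, rfl⟩ := hz'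
        have hy : g y = 0 := by
          refine hE ?_
          show a • g y = a • (0 : E)
          rw [smul_zero, ← map_smul]
          exact hx
        rw [Submodule.mem_bot, Submodule.Quotient.mk_eq_zero]
        exact Submodule.smul_mem_smul (Ideal.mem_span_singleton_self a) (trivial : (⟨y, hy⟩ : LinearMap.ker g) ∈ ⊤)
      · obtain ⟨z, hz⟩ := z
        obtain ⟨x, rfl⟩ := Submodule.Quotient.mk_surjective _ z
        have hx : g x ∈ I • (⊤ : Submodule A E) := (Submodule.Quotient.mk_eq_zero _).mp hz
        rw [Submodule.ideal_span_singleton_smul] at hx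
        obtain ⟨e, -, he⟩ := hx
        obtain ⟨y, rfl⟩ := hg e
        refine ⟨Submodule.Quotient.mk ⟨x - a • y, LinearMap.mem_ker.mpr (by
          rw [map_sub, map_smul]; exact sub_eq_zero.mpr he.symm)⟩, Subtype.ext ?_⟩
        show Submodule.Quotient.mk (x - a • y) = Submodule.Quotient.mk x
        rw [Submodule.Quotient.eq, sub_sub_cancel_left, Submodule.neg_mem_iff]
        exact Submodule.smul_mem_smul (Ideal.mem_span_singleton_self a) trivial
    exact pdLE_succ_of_ker (red a g) hsurj (pdLE_of_equiv (LinearEquiv.ofBijective _ hbij) hK') (pdLE_of_projective _)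

/-- Let A be a Noetherian local ring with maximal ideal m, E a finitely generated A-module of finite
projective dimension, and a ∈ m an element which is A-regular and E-regular. Then E/aE, as a module
over A/aA, has finite projective dimension at most the projective dimension of E over A. -/
theorem result (A : Type u) [CommRing A] [IsLocalRing A]
    [IsNoetherianRing A] (E : Type u) [AddCommGroup E] [Module A E] [Module.Finite A E]
    (hfin : projectiveDimension (ModuleCat.of A E) ≠ ⊤) (a : A) (ha : a ∈ IsLocalRing.maximalIdeal A)
    (hA : IsSMulRegular A a) (hE : IsSMulRegular E a) :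
    projectiveDimension (ModuleCat.of (A ⧸ Ideal.span {a}) (E ⧸ (Ideal.span {a} • (⊤ : Submodule A E)))) ≤
      projectiveDimension (ModuleCat.of A E) := by
  rcases subsingleton_or_nontrivial E with hs | hs
  · haveI : Subsingleton (E ⧸ (Ideal.span {a} • (⊤ : Submodule A E))) :=
      Function.Surjective.subsingleton (Submodule.Quotient.mk_surjective _)
    rw [(projectiveDimension_eq_bot_iff _).mpr (ModuleCat.isZero_of_subsingleton _)]
    exact bot_le
  · obtain ⟨n, hn⟩ := (projectiveDimension_ne_top_iff _).mp hfin
    rcases hd : projectiveDimension (ModuleCat.of A E) with _ | d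
    · exact absurd ((projectiveDimension_eq_bot_iff _).mp hd) (fun h => not_subsingleton E (ModuleCat.subsingleton_of_isZero h))
    rcases d with _ | d
    · exact absurd hd hfin
    have hle : RegLoc6.PdLE A d E := (projectiveDimension_le_iff _ _).mp (le_of_eq hd)
    exact (projectiveDimension_le_iff _ _).mpr (pdLE_quot a d E hA hE hle)

end Groth.Agent.S5782
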