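import Groth.Statements.S5783
import Groth.Agent.Jacob4.CMSeq
-- import your own Groth.Agent.* helpers here

set_option autoImplicit false
universe u
open EGA41

namespace Groth.Agent.S5783

/-- Let A be a regular local ring, B a local ring and ρ : A → B a local homomorphism making B a finitely
generated A-module. Then B is a free A-module if and only if B is a Cohen-Macaulay ring and ρ is
injective (the latter being equivalent to dim(B) = dim(A)). -/
theorem result (A B : Type u) [CommRing A] [CommRing B]
    [IsRegularLocalRing A] [IsLocalRing B] [Algebra A B] [IsLocalHom (algebraMap A B)] [Module.Finite A B] :
    Module.Free A B ↔ LocCoh.IsCohenMacaulayLocalRing B ∧ Function.Injective (algebraMap A B) := by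
  exact Jacob4.free_iff_isCM_and_injective A B
end Groth.Agent.S5783
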