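import Groth.Statements.S5805
import Groth.Agent.RegLoc6.Serre
import Groth.Agent.RegLoc6.Seq
import Groth.Agent.CAlgGlobalDim.Basic
import Mathlib

set_option autoImplicit false
universe u
open CategoryTheory
open EGA41

namespace Groth.Agent.S5805

/-- Let A be a Noetherian local ring with residue field k and n ≥ 0. Then the global dimension of A is
at most n as soon as the projective dimension of the A-module k is at most n: every A-module then
has projective dimension at most n. (The published statement phrases the criterion through the
vanishing of Tor^A_{n+1}(k, k), to which dim.proj_A(k) ≤ n is equivalent for finitely generated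
modules over a Noetherian local ring; this row states the projective-dimension form that the
published proof establishes.) -/
theorem result (A : Type u) [CommRing A] [IsLocalRing A]
    [IsNoetherianRing A] (n : ℕ)
    (hk : HasProjectiveDimensionLT (ModuleCat.of A (IsLocalRing.ResidueField A)) (n + 1)) (M : Type u)
    [AddCommGroup M] [Module A M] : HasProjectiveDimensionLT (ModuleCat.of A M) (n + 1) := by

  classical
  haveI : IsRegularLocalRing A := Groth.Agent.RegLoc6.isRegularLocalRing_of_pdLE (n := n + 1)
    (hasProjectiveDimensionLT_of_ge (X := ModuleCat.of A (IsLocalRing.ResidueField A)) (n + 1) (n + 2)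
      (Nat.le_succ _))
  obtain ⟨rs, hreg, hrs⟩ := Groth.Agent.RegLoc6.exists_regularSequence_maximalIdeal A
  have h1 := ModuleCat.projectiveDimension_quotient_eq_length (R := A) rs hreg
  have e : (Shrink.{u} (A ⧸ Ideal.ofList rs)) ≃ₗ[A] IsLocalRing.ResidueField A :=
    (Shrink.linearEquiv A _).trans
      (Submodule.quotEquivOfEq _ (IsLocalRing.maximalIdeal A) (by rw [hrs]))
  rw [projectiveDimension_eq_of_iso e.toModuleIso] at h1
  have hlt : projectiveDimension (ModuleCat.of A (IsLocalRing.ResidueField A)) < ((n + 1 : ℕ) : WithBot ℕ∞) :=
    (projectiveDimension_lt_iff).mpr hk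
  rw [h1] at hlt
  have hlen : rs.length ≤ n := by
    have : rs.length < n + 1 := by exact_mod_cast hlt
    omega
  have hspan : (IsLocalRing.maximalIdeal A).spanFinrank ≤ n := by
    refine le_trans ?_ hlen
    have h2 := Submodule.spanFinrank_span_le_ncard_of_finite (R := A) (M := A) (List.finite_toSet rs)
    rw [show Submodule.span A {x | x ∈ rs} = IsLocalRing.maximalIdeal A from hrs] at h2
    refine h2.trans ?_
    rw [show {x | x ∈ rs} = (rs.toFinset : Set A) by ext; simp, Set.ncard_coe_finset]
    exact rs.toFinset_card_le
  refine Groth.Agent.CAlgGlobalDim.hasProjectiveDimensionLT_of_forall_cyclic n (fun I => ?_) (ModuleCat.of A M)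
  exact Groth.Agent.RegLoc6.pdLE_mono hspan (Groth.Agent.RegLoc6.pdLE_of_isRegularLocalRing A (A ⧸ I))

end Groth.Agent.S5805
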