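import Groth.Statements.S5787
import Groth.Agent.LC.DepthExt

set_option autoImplicit false
universe u
open CategoryTheory
open EGA41

namespace Groth.Agent.S5787

/-- Let A be a Noetherian local ring with maximal ideal m and residue field k, M an A-module and
(x_i)_{1 ≤ i ≤ n} an M-regular sequence of elements of m. Then Hom_A(k, M/(x_1 M + ... + x_n M)) and
Ext^n_A(k, M) are isomorphic (existence of an isomorphism; stated for the underlying abelian
groups). -/
theorem result (A : Type u) [CommRing A] [IsLocalRing A]
    [IsNoetherianRing A] (M : Type u) [AddCommGroup M] [Module A M] (xs : List A)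
    (hxs : ∀ x ∈ xs, x ∈ IsLocalRing.maximalIdeal A) (hreg : RingTheory.Sequence.IsWeaklyRegular M xs) :
    Nonempty ((IsLocalRing.ResidueField A →ₗ[A] (M ⧸ (Ideal.ofList xs • (⊤ : Submodule A M)))) ≃+
      Abelian.Ext (ModuleCat.of A (IsLocalRing.ResidueField A)) (ModuleCat.of A M) xs.length) := by
  induction xs generalizing M with
  | nil =>
    let e : (M ⧸ (Ideal.ofList ([] : List A) • (⊤ : Submodule A M))) ≃ₗ[A] M :=
      Submodule.quotEquivOfEqBot _ (by rw [Ideal.ofList_nil, Submodule.bot_smul])
    exact ⟨((e.congrRight (M := IsLocalRing.ResidueField A)).toAddEquiv.trans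
      (ModuleCat.homAddEquiv (M := ModuleCat.of A (IsLocalRing.ResidueField A)) (N := ModuleCat.of A M)).symm).trans
        CategoryTheory.Abelian.Ext.addEquiv₀.symm⟩
  | cons x rs ih =>
    rw [RingTheory.Sequence.isWeaklyRegular_cons_iff] at hreg
    obtain ⟨hx, hrest⟩ := hreg
    have hxm : x ∈ IsLocalRing.maximalIdeal A := hxs x (List.mem_cons_self ..)
    obtain ⟨e⟩ := ih (QuotSMulTop x M) (fun y hy => hxs y (List.mem_cons_of_mem _ hy)) hrest
    let q := Submodule.quotOfListConsSMulTopEquivQuotSMulTopInner M x rs
    have hS := IsSMulRegular.smulShortComplex_shortExact (M := ModuleCat.of A M) hx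
    let K := ModuleCat.of A (IsLocalRing.ResidueField A)
    let δ : Abelian.Ext K ((ModuleCat.of A M).smulShortComplex x).X₃ rs.length →+
        Abelian.Ext K ((ModuleCat.of A M).smulShortComplex x).X₁ (rs.length + 1) :=
      hS.extClass.postcomp K rfl
    have hbij : Function.Bijective δ := by
      refine ⟨(injective_iff_map_eq_zero δ).mpr fun z hz => ?_, fun w => ?_⟩
      · obtain ⟨y, rfl⟩ := Abelian.Ext.covariant_sequence_exact₃ K hS (n₁ := rs.length + 1) z rfl hz
        have : Subsingleton (Abelian.Ext K (ModuleCat.of A M) rs.length) :=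
          Groth.Agent.S5150.result A (IsLocalRing.maximalIdeal A) M (IsLocalRing.ResidueField A) (x :: rs)
            (RingTheory.Sequence.IsWeaklyRegular.cons hx hrest) hxs 1 (by
              rw [eq_bot_iff, pow_one]
              refine Submodule.smul_le.2 fun a ha z _ => ?_
              obtain ⟨z, rfl⟩ := IsLocalRing.residue_surjective z
              rw [Submodule.mem_bot, Algebra.smul_def, IsLocalRing.ResidueField.algebraMap_eq, ← map_mul,
                IsLocalRing.residue_eq_zero_iff]
              exact Ideal.mul_mem_right _ _ ha) rs.length (by simp)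
        rw [show y = 0 from Subsingleton.elim (α := Abelian.Ext K (ModuleCat.of A M) rs.length) _ _,
          Abelian.Ext.zero_comp]
      · obtain ⟨y, hy⟩ := Abelian.Ext.covariant_sequence_exact₁ K hS w (n₀ := rs.length) (by
          rw [ModuleCat.smulShortComplex_f_eq_smul_id]
          exact LC.ext_comp_smul_eq_zero (IsLocalRing.maximalIdeal A) hxm w) rfl
        exact ⟨y, hy⟩
    exact ⟨((q.congrRight (M := IsLocalRing.ResidueField A)).toAddEquiv.trans e).trans (AddEquiv.ofBijective δ hbij)⟩

end Groth.Agent.S5787
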