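import Groth.Statements.S5790
import Groth.Agent.HomDimLib.Local

set_option autoImplicit false
universe u
open CategoryTheory
open EGA41

namespace Groth.Agent.S5790

/-- Suppose A is a Noetherian ring and consider any A-module M. Taking the supremum, over all prime
ideals p, of the injective dimension of M_p as an A_p-module yields the injective dimension of M;
put differently, for each n, the injective dimension of M is at most n exactly when, for every prime
p, the injective dimension of M_p over A_p is at most n. -/
theorem result (A : Type u) [CommRing A] [IsNoetherianRing A]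
    (M : Type u) [AddCommGroup M] [Module A M] (n : ℕ) :
    HasInjectiveDimensionLT (ModuleCat.of A M) (n + 1) ↔
      ∀ p : PrimeSpectrum A, HasInjectiveDimensionLT
        (ModuleCat.of (Localization.AtPrime p.asIdeal) (LocalizedModule p.asIdeal.primeCompl M)) (n + 1) := by
  constructor
  · intro h p
    refine CAlgGlobalDim.hasInjectiveDimensionLE_of_ext_cyclic n _ fun J => ?_
    haveI : Subsingleton (Abelian.Ext (ModuleCat.of A (A ⧸ J.comap (algebraMap A (Localization p.asIdeal.primeCompl))))
      (ModuleCat.of A M) (n + 1)) := HasInjectiveDimensionLT.subsingleton _ (n + 1) (n + 1) le_rfl _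
    obtain ⟨e⟩ := LC.exists_extLoc p.asIdeal.primeCompl M (n + 1) (A ⧸ J.comap (algebraMap A (Localization p.asIdeal.primeCompl)))
    obtain ⟨q⟩ := LC.exists_locQuot p.asIdeal.primeCompl (J.comap (algebraMap A (Localization p.asIdeal.primeCompl)))
    let q' := q.trans (Submodule.quotEquivOfEq _ J (IsLocalization.map_comap p.asIdeal.primeCompl (Localization p.asIdeal.primeCompl) J))
    haveI := HomDimLib.subsingleton_localizedModule p.asIdeal.primeCompl
      (X := Abelian.Ext (ModuleCat.of A (A ⧸ J.comap (algebraMap A (Localization p.asIdeal.primeCompl)))) (ModuleCat.of A M) (n + 1))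
    exact (e.trans (LC.extCongr q'.toModuleIso (Iso.refl _) (n + 1))).symm.toEquiv.subsingleton
  · intro h
    refine CAlgGlobalDim.hasInjectiveDimensionLE_of_ext_cyclic n _ fun I => ?_
    refine HomDimLib.ext_subsingleton_of_forall_localized (A ⧸ I) M (n + 1) fun p _ => ?_
    haveI := h ⟨p, inferInstance⟩
    exact HasInjectiveDimensionLT.subsingleton _ (n + 1) (n + 1) le_rfl _

end Groth.Agent.S5790
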