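import Groth.Statements.S5797
import Groth.Agent.H23.TopDim

set_option autoImplicit false
universe u
open TopDim

namespace Groth.Agent.S5797

/-- If a topological space X is a finite union of closed subsets X_i, then dim(X) = sup_i dim(X_i)
(combinatorial dimensions). -/
theorem result (X : Type u) [TopologicalSpace X] (ι : Type u)
    [Finite ι] (Y : ι → Set X) (hY : ∀ i, IsClosed (Y i)) (hcov : ⋃ i, Y i = Set.univ) :
    topologicalKrullDim X = ⨆ i, topologicalKrullDim (Y i) := by
  exact Groth.Agent.H23.TopDim.dim_eq_iSup_of_closed_cover hY (locallyFinite_of_finite _) hcov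

end Groth.Agent.S5797
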