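import Groth.Statements.S5799
import Groth.Agent.H23.TopDim

set_option autoImplicit false
universe u
open TopDim

namespace Groth.Agent.S5799

/-- If (X_i) is a locally finite covering of a topological space X by closed subsets, then dim(X) =
sup_i dim(X_i). -/
theorem result (X : Type u) [TopologicalSpace X]
    (ι : Type u) (Y : ι → Set X) (hY : ∀ i, IsClosed (Y i)) (hlf : LocallyFinite Y) (hcov : ⋃ i, Y i = Set.univ) :
    topologicalKrullDim X = ⨆ i, topologicalKrullDim (Y i) := by
  exact Groth.Agent.H23.TopDim.dim_eq_iSup_of_closed_cover hY hlf hcov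

end Groth.Agent.S5799
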