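import Groth.Statements.S5800
import Groth.Agent.H23.TopDim

set_option autoImplicit false
universe u
open TopDim

namespace Groth.Agent.S5800

/-- Let X be a topological space, x a point of X and (Y_i) a finite family of closed subsets each
containing x whose union is X. Then dim_x(X) = sup_i dim_x(Y_i). (The published statement lets the
Y_i be closed subsets of a neighbourhood U of x covering U; this row is the case U = X.) -/
theorem result (X : Type u) [TopologicalSpace X] (x : X)
    (ι : Type u) [Finite ι] (Y : ι → Set X) (hY : ∀ i, IsClosed (Y i)) (hx : ∀ i, x ∈ Y i)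
    (hcov : ⋃ i, Y i = Set.univ) :
    FlatMor.localDim X x = ⨆ i, FlatMor.localDim (Y i) ⟨x, hx i⟩ := by
  exact Groth.Agent.H23.TopDim.localDim_eq_iSup hY hx hcov

end Groth.Agent.S5800
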