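import Groth.Statements.S5806
import Mathlib.RingTheory.Flat.Stability
import Mathlib.RingTheory.Flat.Equalizer
import Mathlib.RingTheory.Regular.RegularSequence

set_option autoImplicit false
universe u
open EGA41
open scoped Pointwise

namespace Groth.Agent.S5806

open TensorProduct in
/-- Let A be a ring, B a commutative A-algebra, (f_i)_{1 ≤ i ≤ n} elements of B and M a B-module.
Suppose (f_i) is M-regular and each of the A-modules M/(f_1 M + ... + f_i M), 0 ≤ i ≤ n, is flat.
Then for every ring homomorphism A → A', writing M' = M ⊗_A A' and f'_i = f_i ⊗ 1, the sequence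
(f'_i) is M'-regular and the A'-modules M'/(f'_1 M' + ... + f'_{i-1} M') are flat: concretely,
identifying M'/(f'_1 M' + ... + f'_{i-1} M') with A' ⊗_A (M/(f_1 M + ... + f_{i-1} M)),
multiplication by f_i on the latter is injective and the latter is A'-flat, for 1 ≤ i ≤ n. (The
published hypothesis lists only the flatness of M/(f_1 M + ... + f_{i-1} M) for 1 ≤ i ≤ n, omitting
M/(f_1 M + ... + f_n M); with that omission the case n = 1, A = B = k[t], M = k[t], f_1 = t, A' =
k[t]/(t) fails, since t acts as zero on k ⊗_A M = k, and the published proof uses the flatness of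
M/(f_1 M + ... + f_i M) for every i ≤ n; so flatness of all these quotients is assumed here.) -/
theorem result (A B : Type u) [CommRing A]
    [CommRing B] [Algebra A B] (M : Type u) [AddCommGroup M] [Module B M] [Module A M] [IsScalarTower A B M]
    (fs : List B) (hreg : RingTheory.Sequence.IsWeaklyRegular M fs)
    (hflat : ∀ i : ℕ, i ≤ fs.length → Module.Flat A (M ⧸ (Ideal.ofList (fs.take i) • (⊤ : Submodule B M))))
    (A' : Type u) [CommRing A'] [Algebra A A'] (i : Fin fs.length) :
    Function.Injective (LinearMap.lTensor A'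
        (((LinearMap.lsmul B (M ⧸ (Ideal.ofList (fs.take i) • (⊤ : Submodule B M)))) (fs.get i)).restrictScalars A)) ∧
      Module.Flat A' (A' ⊗[A] (M ⧸ (Ideal.ofList (fs.take i) • (⊤ : Submodule B M)))) := by
  haveI : Module.Flat A (M ⧸ (Ideal.ofList (fs.take i) • (⊤ : Submodule B M))) := hflat i i.2.le
  refine ⟨?_, Module.Flat.baseChange A A' _⟩
  set I := Ideal.ofList (fs.take i) • (⊤ : Submodule B M) with hI
  set J := Ideal.ofList (fs.take (i + 1)) • (⊤ : Submodule B M) with hJ
  haveI : Module.Flat A (M ⧸ J) := hflat (i + 1) i.2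
  have hIJ : I ≤ J := by
    rw [hI, hJ, List.take_add_one, Ideal.ofList_append, Submodule.sup_smul]
    exact le_sup_left
  have hJ' : J = I ⊔ (fs.get i • ⊤ : Submodule B M) := by
    rw [hI, hJ, List.take_add_one, List.getElem?_eq_getElem i.2]
    simp only [Option.toList_some, Ideal.ofList_append, Ideal.ofList_singleton, Submodule.sup_smul,
      Submodule.ideal_span_singleton_smul, List.get_eq_getElem]
  let g := ((LinearMap.lsmul B (M ⧸ I)) (fs.get i)).restrictScalars A
  let p : (M ⧸ I) →ₗ[A] (M ⧸ J) := (Submodule.factor hIJ).restrictScalars A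
  refine LinearMap.lTensor_injective_of_exact_of_flat p (Submodule.factor_surjective hIJ) g ?_ ?_ A'
  · exact hreg.regular_mod_prev i i.2
  · intro z
    obtain ⟨m, rfl⟩ := Submodule.Quotient.mk_surjective _ z
    constructor
    · intro hz
      have hm : m ∈ J := by
        have : Submodule.Quotient.mk (p := J) m = 0 := hz
        exact (Submodule.Quotient.mk_eq_zero J).mp this
      rw [hJ', Submodule.mem_sup] at hm
      obtain ⟨a, ha, b, hb, rfl⟩ := hm
      rw [Submodule.mem_smul_pointwise_iff_exists] at hb
      obtain ⟨c, -, rfl⟩ := hb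
      refine ⟨Submodule.Quotient.mk c, ?_⟩
      show fs.get i • Submodule.Quotient.mk (p := I) c = _
      rw [← Submodule.Quotient.mk_smul, Submodule.Quotient.eq]
      simpa using ha
    · rintro ⟨w, hw⟩
      obtain ⟨c, rfl⟩ := Submodule.Quotient.mk_surjective _ w
      rw [← hw]
      show Submodule.Quotient.mk (p := J) (fs.get i • c) = 0
      rw [Submodule.Quotient.mk_eq_zero, hJ']
      exact Submodule.mem_sup_right (Submodule.smul_mem_pointwise_smul c _ ⊤ trivial)

end Groth.Agent.S5806
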