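import Groth.Statements.S5807
import Groth.Agent.GeomReg.Basic

set_option autoImplicit false
universe u
open EGA41

namespace Groth.Agent.S5807

/-- Let A be a Noetherian ring which is a quotient of a regular ring B, and C an A-algebra of finite
type. Then every ring of fractions of C is a quotient of a regular ring. -/
theorem result (B A C : Type u) [CommRing B]
    [IsRegularRing B] [CommRing A] (π : B →+* A) (hπ : Function.Surjective π) [CommRing C] [Algebra A C]
    [Algebra.FiniteType A C] (S : Submonoid C) :
    ∃ (R : Type u) (_ : CommRing R) (_ : IsRegularRing R) (f : R →+* Localization S),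
      Function.Surjective f := by
  obtain ⟨n, f, hf⟩ := Algebra.FiniteType.iff_quotient_mvPolynomial''.mp (inferInstance : Algebra.FiniteType A C)
  let φ : MvPolynomial (Fin n) B →+* C := f.toRingHom.comp (MvPolynomial.map π)
  have hφ : Function.Surjective φ := fun c => by
    obtain ⟨y, rfl⟩ := hf c
    obtain ⟨z, rfl⟩ := MvPolynomial.map_surjective π hπ y
    exact ⟨z, rfl⟩
  haveI : Algebra.Smooth B (MvPolynomial (Fin n) B) := ⟨inferInstance, inferInstance⟩
  haveI := GeomReg.isRegularRing_of_smooth B (MvPolynomial (Fin n) B)
  haveI := GeomReg.isRegularRing_of_isLocalization (S.comap φ) (Localization (S.comap φ))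
  refine ⟨Localization (S.comap φ), inferInstance, inferInstance,
    IsLocalization.map (Localization S) φ (le_refl (S.comap φ)), fun x => ?_⟩
  obtain ⟨c, s, rfl⟩ := IsLocalization.exists_mk'_eq S x
  obtain ⟨c', hc⟩ := hφ c
  obtain ⟨s', hs⟩ := hφ s
  refine ⟨IsLocalization.mk' _ c' (⟨s', by show φ s' ∈ S; rw [hs]; exact s.2⟩ : S.comap φ), ?_⟩
  rw [IsLocalization.map_mk']
  simp only [hc, hs, Subtype.coe_eta]

end Groth.Agent.S5807
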