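import Groth.Statements.S5808
-- import your own Groth.Agent.* helpers here

set_option autoImplicit false
universe u
open EGA41

namespace Groth.Agent.S5808

/-- Let A be a semi-local Noetherian ring with spectrum X and Jacobson radical r, and a an ideal of A
distinct from A with codim(V(a), X) = h > 0 (h is the height of a). Then there exist h elements x_1,
..., x_h of a which are part of a system of parameters of A (so lie in r and can be completed by
elements of r to dim(A) elements generating an ideal modulo which A has finite length) and such that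
codim(V(a), V(x_1 A + ... + x_h A)) = 0, i.e. the image of a in A/(x_1 A + ... + x_h A) has height
0. -/
theorem result (A : Type u) [CommRing A] [IsNoetherianRing A]
    [Finite (MaximalSpectrum A)] (a : Ideal A) (ha : a ≠ ⊤) (h : ℕ) (hh : a.height = h) (hpos : 0 < h) :
    ∃ x : Fin h → A, (∀ i, x i ∈ a) ∧ (∀ i, x i ∈ Ring.jacobson A) ∧
      (∃ ys : List A, (∀ y ∈ ys, y ∈ Ring.jacobson A) ∧
        (((h + ys.length : ℕ) : ℕ∞) : WithBot ℕ∞) = ringKrullDim A ∧
        IsFiniteLength A (A ⧸ (Ideal.span (Set.range x) ⊔ Ideal.ofList ys))) ∧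
      (a.map (Ideal.Quotient.mk (Ideal.span (Set.range x)))).height = 0 := by
  classical
  let r := Ring.jacobson A
  haveI : Nontrivial A := by
    by_contra hn
    rw [not_nontrivial_iff_subsingleton] at hn
    exact ha (Subsingleton.elim _ _)
  -- a minimal prime of `a` of height `h`
  obtain ⟨P₀, hP₀, haP, hP₀h⟩ : ∃ P₀ : Ideal A, P₀.IsPrime ∧ a ≤ P₀ ∧ P₀.height = (h : ℕ∞) := by
    have hne : a.minimalPrimes.Nonempty := Set.nonempty_coe_sort.1 (Ideal.nonempty_minimalPrimes ha)
    obtain ⟨P, hP, hmin⟩ := Set.exists_min_image _ (fun P : Ideal A => P.height)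
      (Ideal.finite_minimalPrimes_of_isNoetherianRing A a) hne
    refine ⟨P, hP.1.1, hP.1.2, le_antisymm ?_ (hh ▸ Ideal.height_mono hP.1.2)⟩
    rw [← hh, Ideal.height_eq_inf_minimalPrimes a]
    exact le_iInf₂ hmin
  -- the Krull dimension
  obtain ⟨d, hd⟩ : ∃ d : ℕ, ringKrullDim A = ((d : ℕ∞) : WithBot ℕ∞) := by
    obtain ⟨N, hN⟩ : ∃ N : ℕ, ∀ m : MaximalSpectrum A, m.asIdeal.height.toNat ≤ N :=
      Finite.exists_le _
    have hle : ringKrullDim A ≤ ((N : ℕ∞) : WithBot ℕ∞) := by
      rw [ringKrullDim_le_iff_isMaximal_height_le]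
      intro m hm
      have h2 : m.height ≠ ⊤ := Ideal.height_ne_top hm.ne_top
      rw [← ENat.natCast_toNat h2]
      exact_mod_cast hN ⟨m, hm⟩
    have hnn := ringKrullDim_nonneg_of_nontrivial (R := A)
    rcases hD : ringKrullDim A with _ | e
    · rw [hD] at hnn
      exact absurd hnn (not_le.2 (WithBot.bot_lt_coe (0 : ℕ∞)))
    · rw [hD] at hle
      have hfin : e ≠ ⊤ := fun he => by
        subst he
        exact ENat.natCast_ne_top N (top_le_iff.1 (WithBot.coe_le_coe.1 hle))
      exact ⟨e.toNat, by rw [ENat.natCast_toNat hfin]; rfl⟩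
  have hhd : h ≤ d := by
    have := Ideal.height_le_ringKrullDim_of_ne_top ha
    rw [hh, hd] at this
    exact_mod_cast this
  -- chains above an ideal
  let DL : Ideal A → ℕ → Prop := fun I n =>
    ∀ l : LTSeries (PrimeSpectrum A), I ≤ (l.head).asIdeal → l.length ≤ n
  have hnm : ∀ P : Ideal A, P.IsPrime → ¬P.IsMaximal → ¬ r ≤ P := by
    intro P hP hPm hrP
    haveI := hP
    have hfin : {J : Ideal A | J.IsMaximal}.Finite :=
      (Set.finite_range fun m : MaximalSpectrum A => m.asIdeal).subset fun m hm => ⟨⟨m, hm⟩, rfl⟩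
    have hr : r = hfin.toFinset.inf id := by
      show Ring.jacobson A = _
      rw [Ring.jacobson_eq_sInf_isMaximal, Finset.inf_id_eq_sInf, Set.Finite.coe_toFinset]
    rw [hr] at hrP
    obtain ⟨m, hm, hle⟩ := (Ideal.IsPrime.inf_le' hP).1 hrP
    have hmm : m.IsMaximal := by simpa using hm
    exact hPm (hmm.eq_of_le hP.ne_top hle ▸ hmm)
  -- the avoidance step
  have step : ∀ (b I : Ideal A), (∀ P ∈ I.minimalPrimes, ¬P.IsMaximal → ¬ b ≤ P) →
      ∃ x : A, x ∈ b ∧ x ∈ r ∧ ∀ P ∈ I.minimalPrimes, ¬P.IsMaximal → x ∉ P := by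
    intro b I hb
    by_contra hc
    simp only [not_exists, not_and, not_forall, exists_prop, not_not] at hc
    have hsub : ((b ⊓ r : Ideal A) : Set A) ⊆ ⋃ P ∈ {P ∈ I.minimalPrimes | ¬P.IsMaximal}, (P : Set A) := by
      intro x hx
      obtain ⟨P, hP, hPm, hxP⟩ := hc x hx.1 hx.2
      exact Set.mem_iUnion₂.2 ⟨P, ⟨hP, hPm⟩, hxP⟩
    obtain ⟨P, ⟨hP, hPm⟩, hle⟩ := (Ideal.subset_union_prime_finite (f := fun P : Ideal A => P)
      ((Ideal.finite_minimalPrimes_of_isNoetherianRing A I).subset fun P hP => hP.1) ⊥ ⊥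
      (fun P hP _ _ => hP.1.1.1)).1 hsub
    exact ((Ideal.IsPrime.inf_le hP.1.1).1 hle).elim (hb P hP hPm) (hnm P hP.1.1 hPm)
  have dlstep : ∀ (I : Ideal A) (x : A) (n : ℕ), DL I n →
      (∀ P ∈ I.minimalPrimes, ¬P.IsMaximal → x ∉ P) → DL (I ⊔ Ideal.span {x}) (n - 1) := by
    intro I x n hI hx l hl
    obtain ⟨P, hP, hPle⟩ := Ideal.exists_minimalPrimes_le (le_sup_left.trans hl)
    have hxl : x ∈ l.head.asIdeal := hl (Ideal.mem_sup_right (Ideal.mem_span_singleton_self x))
    rcases hPle.eq_or_lt with heq | hlt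
    · have hmax : P.IsMaximal := by
        by_contra hPm
        exact hx P hP hPm (heq ▸ hxl)
      rcases Nat.eq_zero_or_pos l.length with h0 | h0
      · omega
      · exfalso
        have h1 : l.head < l ⟨1, by omega⟩ := l.step ⟨0, h0⟩
        exact (l ⟨1, by omega⟩).isPrime.ne_top (hmax.out.2 _ (heq.le.trans_lt h1))
    · let l' : LTSeries (PrimeSpectrum A) := l.cons ⟨P, hP.1.1⟩ hlt
      have h1 := hI l' (by
        show I ≤ (l'.head).asIdeal
        rw [RelSeries.head_cons]
        exact hP.1.2)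
      have h2 : l'.length = l.length + 1 := by simp [l', RelSeries.cons_length]
      omega
  have dl0 : DL ⊥ d := fun l _ => by
    have := Order.LTSeries.length_le_krullDim l
    rw [show Order.krullDim (PrimeSpectrum A) = ((d : ℕ∞) : WithBot ℕ∞) from hd] at this
    exact_mod_cast this
  -- the elements of `a`
  have main : ∀ j ≤ h, ∃ x : Fin j → A, (∀ i, x i ∈ a) ∧ (∀ i, x i ∈ r) ∧
      DL (Ideal.span (Set.range x)) (d - j) ∧
      ∀ Q : Ideal A, Q.IsPrime → Q ≤ P₀ → Ideal.span (Set.range x) ≤ Q → (j : ℕ∞) ≤ Q.height := by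
    intro j
    induction j with
    | zero => exact fun _ => ⟨Fin.elim0, nofun, nofun, fun l hl => dl0 l bot_le, fun Q _ _ _ => by simp⟩
    | succ j ih =>
      intro hj
      obtain ⟨x, hxa, hxr, hdl, hht⟩ := ih (by omega)
      set I := Ideal.span (Set.range x) with hI
      have hIa : I ≤ a := Ideal.span_le.2 (Set.range_subset_iff.2 hxa)
      have hsmall : ∀ P ∈ I.minimalPrimes, P.height ≤ (j : ℕ∞) := fun P hP => by
        refine (Ideal.height_le_spanRank_toENat_of_mem_minimalPrimes _ _ hP).trans ?_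
        refine (OrderHomClass.mono Cardinal.toENat (Submodule.spanRank_span_le_card _)).trans ?_
        refine (OrderHomClass.mono Cardinal.toENat (Cardinal.mk_range_le_lift (f := x) |> fun h => by simpa using h : Cardinal.mk (Set.range x) ≤ (j : Cardinal.{u}))).trans ?_
        simp
      obtain ⟨y, hya, hyr, hy⟩ := step a I fun P hP _ hle => by
        have h1 : (h : ℕ∞) ≤ (j : ℕ∞) := hh ▸ (Ideal.height_mono hle).trans (hsmall P hP)
        have : h ≤ j := by exact_mod_cast h1
        omega
      have hspan : Ideal.span (Set.range (Fin.snoc x y)) = I ⊔ Ideal.span {y} := by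
        rw [hI, ← Ideal.span_union, Fin.range_snoc, Set.union_singleton]
      refine ⟨Fin.snoc x y, ?_, ?_, ?_, ?_⟩
      · exact fun i => Fin.lastCases (by simpa using hya) (fun i => by simpa using hxa i) i
      · exact fun i => Fin.lastCases (by simpa using hyr) (fun i => by simpa using hxr i) i
      · rw [hspan]
        exact fun l hl => (dlstep I y _ hdl hy l hl).trans (by omega)
      · intro Q hQ hQP hle
        rw [hspan] at hle
        obtain ⟨P, hP, hPQ⟩ := Ideal.exists_minimalPrimes_le (le_sup_left.trans hle)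
        haveI := hP.1.1
        have hPne : P < Q := by
          refine lt_of_le_of_ne hPQ fun heq => ?_
          have hyP : y ∈ P := heq ▸ hle (Ideal.mem_sup_right (Ideal.mem_span_singleton_self y))
          refine hy P hP (fun hmax => ?_) hyP
          have e : P = P₀ := hmax.eq_of_le hP₀.ne_top (hPQ.trans hQP)
          have h1 : (h : ℕ∞) ≤ (j : ℕ∞) := hP₀h ▸ e ▸ hsmall P hP
          have : h ≤ j := by exact_mod_cast h1
          omega
        haveI := hQ
        have := Ideal.height_add_one_le_of_lt_of_isPrime hPne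
        push_cast
        exact le_trans (by gcongr; exact hht P hP.1.1 (hPQ.trans hQP) hP.1.2) this
  obtain ⟨x, hxa, hxr, hdl, hht⟩ := main h le_rfl
  set I := Ideal.span (Set.range x) with hI
  have hIa : I ≤ a := Ideal.span_le.2 (Set.range_subset_iff.2 hxa)
  -- completing to a system of parameters
  have comp : ∀ j ≤ d - h, ∃ ys : List A, (∀ y ∈ ys, y ∈ r) ∧ ys.length = j ∧
      DL (I ⊔ Ideal.ofList ys) (d - h - j) := by
    intro j
    induction j with
    | zero => exact fun _ => ⟨[], by simp, rfl, fun l hl => hdl l (le_sup_left.trans hl)⟩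
    | succ j ih =>
      intro hj
      obtain ⟨ys, hys, hlen, hdl'⟩ := ih (by omega)
      obtain ⟨y, -, hyr, hy⟩ := step ⊤ (I ⊔ Ideal.ofList ys) fun P hP _ hle =>
        hP.1.1.ne_top (top_le_iff.1 hle)
      refine ⟨y :: ys, by simpa [hyr] using hys, by simp [hlen], fun l hl => ?_⟩
      refine (dlstep _ y _ hdl' hy l ?_).trans (by omega)
      rw [Ideal.ofList_cons] at hl
      rwa [sup_assoc, sup_comm (Ideal.ofList ys)]
  obtain ⟨ys, hys, hlen, hdl'⟩ := comp (d - h) le_rfl
  refine ⟨x, hxa, hxr, ⟨ys, hys, ?_, ?_⟩, ?_⟩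
  · rw [hd, hlen, Nat.add_sub_cancel' hhd]
  · set K := I ⊔ Ideal.ofList ys
    haveI : Ring.KrullDimLE 0 (A ⧸ K) := by
      rw [Ring.krullDimLE_iff, ringKrullDim_quotient]
      refine iSup_le fun l => ?_
      let l' : LTSeries (PrimeSpectrum A) := l.map Subtype.val (fun _ _ h => h)
      have := hdl' l' (l.head).2
      exact_mod_cast show l.length ≤ 0 by simpa [l'] using this
    haveI : IsArtinianRing (A ⧸ K) := isArtinianRing_iff_krullDimLE_zero.2 inferInstance
    rw [isFiniteLength_iff_isNoetherian_isArtinian]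
    refine ⟨inferInstance, ?_⟩
    exact isArtinian_of_surjective_algebraMap (R := A ⧸ K) (S := A) Ideal.Quotient.mk_surjective
  · have hP₀min : P₀ ∈ I.minimalPrimes := by
      obtain ⟨P, hP, hPle⟩ := Ideal.exists_minimalPrimes_le (hIa.trans haP)
      rcases hPle.eq_or_lt with heq | hlt
      · exact heq ▸ hP
      · haveI := hP.1.1
        have h1 := Ideal.height_add_one_le_of_lt_of_isPrime hlt
        have h2 := hht P hP.1.1 hPle hP.1.2
        rw [hP₀h] at h1
        have h3 : (h : ℕ∞) + 1 ≤ (h : ℕ∞) := le_trans (by gcongr) h1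
        norm_cast at h3
        omega
    refine le_antisymm ?_ zero_le
    have hPmap : (P₀.map (Ideal.Quotient.mk I)).IsPrime :=
      Ideal.map_isPrime_of_surjective Ideal.Quotient.mk_surjective (by rw [Ideal.mk_ker]; exact hIa.trans haP)
    refine (Ideal.height_mono (Ideal.map_mono haP)).trans (le_of_eq ?_)
    rw [Ideal.height_eq_zero_iff]
    refine ⟨⟨hPmap, bot_le⟩, fun Q hQ hle => ?_⟩
    have hQc : P₀ ≤ Q.comap (Ideal.Quotient.mk I) := by
      refine hP₀min.2 ⟨Ideal.comap_isPrime (Ideal.Quotient.mk I) Q (H := hQ.1), fun z hz => ?_⟩ ?_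
      · show Ideal.Quotient.mk I z ∈ Q
        rw [Ideal.Quotient.eq_zero_iff_mem.2 hz]; exact Q.zero_mem
      · refine (Ideal.comap_mono hle).trans (le_of_eq ?_)
        rw [Ideal.comap_map_of_surjective _ Ideal.Quotient.mk_surjective, ← RingHom.ker_eq_comap_bot,
          Ideal.mk_ker, sup_eq_left.2 (hIa.trans haP)]
    exact Ideal.map_le_iff_le_comap.2 hQc

end Groth.Agent.S5808
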