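import Groth.Statements.S5809
import Groth.Agent.HomDimLib.TorPd

set_option autoImplicit false
universe u
open CategoryTheory
open EGA41

namespace Groth.Agent.S5809

/-- Let A be a Noetherian local ring with residue field k, M a finitely generated A-module and n ≥ 0.
For M to have projective dimension at most n it is necessary that Tor^A_i(M, k) = 0 for all i > n,
and it suffices that Tor^A_(n+1)(M, k) = 0. (Tor is written here as the left derived functors of k ⊗
- evaluated at M, i.e. computed from a projective resolution of M.) -/
theorem result (A : Type u) [CommRing A] [IsLocalRing A]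
    [IsNoetherianRing A] (M : Type u) [AddCommGroup M] [Module A M] [Module.Finite A M] (n : ℕ) :
    (HasProjectiveDimensionLT (ModuleCat.of A M) (n + 1) →
        ∀ i : ℕ, n < i → Limits.IsZero (((Tor (ModuleCat.{u} A) i).obj
          (ModuleCat.of A (IsLocalRing.ResidueField A))).obj (ModuleCat.of A M))) ∧
      (Limits.IsZero (((Tor (ModuleCat.{u} A) (n + 1)).obj
          (ModuleCat.of A (IsLocalRing.ResidueField A))).obj (ModuleCat.of A M)) →
        HasProjectiveDimensionLT (ModuleCat.of A M) (n + 1)) := by
  obtain ⟨P, hP⟩ := CAlgOdd.FiniteResolution.exists_projectiveResolution A M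
  constructor
  · intro h i hi
    obtain ⟨j, rfl⟩ : ∃ j, i = j + 1 := ⟨i - 1, by omega⟩
    rw [TorDimLib.isZero_tor_iff P, HomDimLib.lTensor_exact_iff]
    exact HomDimLib.injective_of_projective_cok P _ j
      ((HomDimLib.pdLE_iff_projective_cok P j).1 (RegLoc6.pdLE_mono (by omega : n ≤ j) h))
  · intro h
    rw [TorDimLib.isZero_tor_iff P, HomDimLib.lTensor_exact_iff] at h
    haveI := (hP n).1
    haveI := (hP n).2
    haveI := (hP (n + 1)).1
    haveI := HomDimLib.free_cok P n h
    exact (HomDimLib.pdLE_iff_projective_cok P n).2 inferInstance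

end Groth.Agent.S5809
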