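import Groth.Statements.S5811
import Groth.Agent.SemiLocDim.Basic
import Groth.Agent.S6283
import Groth.Agent.LocalCrit.Complete
-- import your own Groth.Agent.* helpers here

set_option autoImplicit false
universe u
open EGA41

namespace Groth.Agent.S5811

/-- Let A be a semi-local Noetherian ring (finitely many maximal ideals) with Jacobson radical r, M a
finitely generated A-module, and write Â and M̂ for the r-adic completions of A and M. Then
dim_Â(M̂) = dim_A(M), the dimension of a module being the Krull dimension of its support. (For M = 0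
both sides are ⊥.) -/
theorem result (A : Type u) [CommRing A] [IsNoetherianRing A]
    [Finite (MaximalSpectrum A)] (M : Type u) [AddCommGroup M] [Module A M] [Module.Finite A M] :
    Module.supportDim (AdicCompletion (Ring.jacobson A) A) (AdicCompletion (Ring.jacobson A) M) =
      Module.supportDim A M := by
  classical
  let r := Ring.jacobson A
  let B := AdicCompletion r A
  have hfg : r.FG := IsNoetherian.noetherian r
  haveI := AdicCompletion.isAdicComplete_self r hfg
  haveI : IsNoetherianRing (B ⧸ r.map (algebraMap A B)) :=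
    isNoetherianRing_of_ringEquiv _ ((Ideal.quotEquivOfEq (AdicCompletion.ker_evalOneₐ_eq_map r hfg).symm).trans
      (RingHom.quotientKerEquivOfSurjective (f := (AdicCompletion.evalOneₐ r).toRingHom)
        (AdicCompletion.evalOneₐ_surjective r))).symm
  haveI : IsNoetherianRing B :=
    Groth.Agent.LocalCrit.isNoetherianRing_of_isAdicComplete (r.map (algebraMap A B)) (hfg.map _)
  haveI : Module.Flat A B := AdicCompletion.flat_of_isNoetherian r
  have hrm : ∀ m : Ideal A, m.IsMaximal → r ≤ m := fun m hm => by
    show Ring.jacobson A ≤ m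
    rw [Ring.jacobson_eq_sInf_isMaximal]
    exact sInf_le hm
  -- the maximal ideals of the completion
  have hB : ∀ n : Ideal B, n.IsMaximal → (n.under A).IsMaximal ∧ (n.under A).map (algebraMap A B) = n := by
    intro n hn
    have hrn : r.map (algebraMap A B) ≤ n := (IsAdicComplete.le_jacobson_bot (R := B) _).trans
      (sInf_le ⟨bot_le, hn⟩)
    have hle : r ≤ n.under A := Ideal.map_le_iff_le_comap.1 hrn
    have hsurj : ∀ b : B, ∃ a : A, b - algebraMap A B a ∈ r.map (algebraMap A B) := by
      intro b
      obtain ⟨a, ha⟩ := Ideal.Quotient.mk_surjective (AdicCompletion.evalOneₐ r b)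
      refine ⟨a, ?_⟩
      rw [← AdicCompletion.ker_evalOneₐ_eq_map r hfg, RingHom.mem_ker, map_sub, sub_eq_zero]
      exact ha.symm.trans ((AdicCompletion.evalOneₐ r).commutes a).symm
    refine ⟨?_, ?_⟩
    · rw [Ideal.Quotient.maximal_ideal_iff_isField_quotient]
      let f : A →+* B ⧸ n := (Ideal.Quotient.mk n).comp (algebraMap A B)
      have hf : Function.Surjective f := fun z => by
        obtain ⟨b, rfl⟩ := Ideal.Quotient.mk_surjective z
        obtain ⟨a, ha⟩ := hsurj b
        exact ⟨a, (Ideal.Quotient.eq.2 (hrn ha)).symm⟩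
      have hk : RingHom.ker f = n.under A := by
        ext a
        exact Ideal.Quotient.eq_zero_iff_mem
      rw [← hk]
      exact MulEquiv.isField ((Ideal.Quotient.maximal_ideal_iff_isField_quotient n).1 hn)
        (RingHom.quotientKerEquivOfSurjective hf).toMulEquiv
    · refine le_antisymm (Ideal.map_comap_le) fun b hb => ?_
      obtain ⟨a, ha⟩ := hsurj b
      have han : a ∈ n.under A := by
        show algebraMap A B a ∈ n
        simpa using n.sub_mem hb (hrn ha)
      rw [← sub_add_cancel b (algebraMap A B a)]
      exact Ideal.add_mem _ (Ideal.map_mono hle ha) (Ideal.mem_map_of_mem _ han)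
  have hA : ∀ m : Ideal A, m.IsMaximal → m.map (algebraMap A B) ≠ ⊤ := fun m hm => by
    haveI := hm
    exact (AdicCompletion.isMaximal_map_of_le r m (hrm m hm) hfg).ne_top
  -- pass to the quotient by the annihilator
  let e : TensorProduct A B M ≃ₗ[B] AdicCompletion r M :=
    AdicCompletion.ofTensorProductEquivOfFiniteNoetherian r M
  haveI : Module.Finite B (AdicCompletion r M) := Module.Finite.equiv e
  show Module.supportDim B (AdicCompletion r M) = _
  rw [Module.supportDim_eq_ringKrullDim_quotient_annihilator,
    Module.supportDim_eq_ringKrullDim_quotient_annihilator, ← e.annihilator_eq,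
    ← (Groth.Agent.S6283.result (S := B) M).2 inferInstance]
  let J := Module.annihilator A M
  let B' := B ⧸ J.map (algebraMap A B)
  have hcomap : ∀ n' : Ideal B', (n'.under (A ⧸ J)).comap (Ideal.Quotient.mk J) =
      (n'.comap (Ideal.Quotient.mk (J.map (algebraMap A B)))).under A := fun n' => rfl
  haveI : Module.Flat (A ⧸ J) B' := by
    let eA : B' ≃ₗ[A] TensorProduct A (A ⧸ J) B :=
      ((Algebra.TensorProduct.quotIdealMapEquivTensorQuot B J).toLinearEquiv.restrictScalars A).trans
        (TensorProduct.comm A B (A ⧸ J))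
    exact Module.Flat.of_linearEquiv (LinearEquiv.extendScalarsOfSurjective Ideal.Quotient.mk_surjective eA)
  refine SemiLocDim.ringKrullDim_eq (A := A ⧸ J) (B := B') (fun n' hn' => ?_) fun m' hm' htop => ?_
  · obtain ⟨h1, h2⟩ := hB _ (Ideal.comap_isMaximal_of_surjective _ Ideal.Quotient.mk_surjective (K := n'))
    rw [← hcomap] at h1 h2
    have e1 : n'.under (A ⧸ J) = ((n'.under (A ⧸ J)).comap (Ideal.Quotient.mk J)).map (Ideal.Quotient.mk J) :=
      (Ideal.map_comap_of_surjective _ Ideal.Quotient.mk_surjective _).symm
    refine ⟨?_, ?_⟩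
    · rw [e1]
      refine (Ideal.map_eq_top_or_isMaximal_of_surjective _ Ideal.Quotient.mk_surjective h1).resolve_left ?_
      rw [← e1]
      exact Ideal.comap_ne_top _ hn'.ne_top
    · rw [e1, Ideal.map_map]
      show ((n'.under (A ⧸ J)).comap (Ideal.Quotient.mk J)).map ((Ideal.Quotient.mk (J.map (algebraMap A B))).comp (algebraMap A B)) = n'
      rw [← Ideal.map_map, h2, Ideal.map_comap_of_surjective _ Ideal.Quotient.mk_surjective]
  · haveI := hm'
    have hm := Ideal.comap_isMaximal_of_surjective (Ideal.Quotient.mk J) Ideal.Quotient.mk_surjective (K := m')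
    refine hA _ hm ?_
    have hJ : J ≤ m'.comap (Ideal.Quotient.mk J) := fun x hx => by
      show Ideal.Quotient.mk J x ∈ m'
      rw [Ideal.Quotient.eq_zero_iff_mem.2 hx]; exact zero_mem _
    rw [← sup_eq_left.2 (Ideal.map_mono (f := algebraMap A B) hJ), ← Ideal.mk_ker (I := J.map (algebraMap A B)),
      RingHom.ker_eq_comap_bot, ← Ideal.comap_map_of_surjective _ Ideal.Quotient.mk_surjective, Ideal.map_map]
    show Ideal.comap _ ((m'.comap (Ideal.Quotient.mk J)).map ((algebraMap (A ⧸ J) B').comp (Ideal.Quotient.mk J))) = ⊤
    rw [← Ideal.map_map, Ideal.map_comap_of_surjective _ Ideal.Quotient.mk_surjective, htop, Ideal.comap_top]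

end Groth.Agent.S5811
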