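import Groth.Statements.S5813
import Groth.Agent.EGA41Lib.ExalBasic
import Mathlib.Tactic.LinearCombination

set_option autoImplicit false
universe u
open EGA41

namespace Groth.Agent.S5813

/-- Injectivity, commutative form. Let J be an ideal of the commutative ring B, C = B ⧸ J, M a C-module.
Two B-extensions of C by M whose induced linear maps J/J² → M (obtained from the restriction to J of
the structure map B → E) coincide are equivalent. -/
theorem result {B : Type u} [CommRing B] (J : Ideal B)
    {M : Type u} [AddCommGroup M] [Module (B ⧸ J) M] [Module B M] [IsScalarTower B (B ⧸ J) M]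
    (X Y : Exal.Ext B (B ⧸ J) M) (h : X.conormalMap J = Y.conormalMap J) :
    Nonempty (X.Equiv Y) := by
  have hw : ∀ (Z : Exal.Ext B (B ⧸ J) M) (j : B) (hj : j ∈ J),
      algebraMap B Z.E j = Z.incl (Z.conormalMap J (J.toCotangent ⟨j, hj⟩)) := fun Z j hj =>
    (Z.incl_kerLift _ (Z.proj_algebraMap_eq_zero J ⟨j, hj⟩)).symm
  have hT : ∀ (Z W : Exal.Ext B (B ⧸ J) M), Z.conormalMap J = W.conormalMap J →
      ∀ (b b' : B) (z z' : M), algebraMap B Z.E b + Z.incl z = algebraMap B Z.E b' + Z.incl z' →
        algebraMap B W.E b + W.incl z = algebraMap B W.E b' + W.incl z' := by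
    intro Z W hZW b b' z z' he
    have hj : b - b' ∈ J := by
      have h1 := congrArg Z.proj he
      simp only [map_add, AlgHom.commutes, EGA41Lib.ExalX.proj_incl, add_zero, Ideal.Quotient.algebraMap_eq] at h1
      exact Ideal.Quotient.eq.mp h1
    have h2 : algebraMap B Z.E (b - b') = Z.incl (z' - z) := by
      rw [map_sub, map_sub]
      linear_combination he
    rw [hw Z _ hj, hZW] at h2
    have h3 := hw W _ hj
    rw [Z.isExtension.incl_injective h2, map_sub, map_sub] at h3
    linear_combination h3
  have hrep : ∀ (Z : Exal.Ext B (B ⧸ J) M) (x : Z.E), ∃ b z, x = algebraMap B Z.E b + Z.incl z := by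
    intro Z x
    obtain ⟨b, hb⟩ := Ideal.Quotient.mk_surjective (Z.proj x)
    obtain ⟨z, hz⟩ := (Z.isExtension.exact (x - algebraMap B Z.E b)).mp (by
      rw [map_sub, Z.proj.commutes, Ideal.Quotient.algebraMap_eq, hb, sub_self])
    exact ⟨b, z, by rw [hz]; ring⟩
  choose bX zX hX using hrep X
  choose bY zY hY using hrep Y
  let φ : X.E → Y.E := fun x => algebraMap B Y.E (bX x) + Y.incl (zX x)
  let ψ : Y.E → X.E := fun y => algebraMap B X.E (bY y) + X.incl (zY y)
  have hφ : ∀ b z, φ (algebraMap B X.E b + X.incl z) = algebraMap B Y.E b + Y.incl z :=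
    fun b z => hT X Y h _ _ _ _ (hX _).symm
  have hψ : ∀ b z, ψ (algebraMap B Y.E b + Y.incl z) = algebraMap B X.E b + X.incl z :=
    fun b z => hT Y X h.symm _ _ _ _ (hY _).symm
  have hmul : ∀ (Z : Exal.Ext B (B ⧸ J) M) (b b' : B) (z z' : M),
      (algebraMap B Z.E b + Z.incl z) * (algebraMap B Z.E b' + Z.incl z') =
        algebraMap B Z.E (b * b') + Z.incl (b • z' + b' • z) := by
    intro Z b b' z z'
    rw [add_mul, mul_add, mul_add, EGA41Lib.ExalX.incl_mul_incl, Z.isExtension.mul_incl, mul_comm (Z.incl z),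
      Z.isExtension.mul_incl, Z.proj.commutes, Z.proj.commutes, IsScalarTower.algebraMap_smul,
      IsScalarTower.algebraMap_smul, ← map_mul, map_add, add_zero]
    abel
  have hadd : ∀ (Z : Exal.Ext B (B ⧸ J) M) (b b' : B) (z z' : M),
      (algebraMap B Z.E b + Z.incl z) + (algebraMap B Z.E b' + Z.incl z') =
        algebraMap B Z.E (b + b') + Z.incl (z + z') := by
    intro Z b b' z z'
    rw [map_add, map_add]
    abel
  let Φ : X.E ≃ₐ[B] Y.E :=
    { toFun := φ
      invFun := ψ
      left_inv := fun x => by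
        show ψ (algebraMap B Y.E (bX x) + Y.incl (zX x)) = x
        rw [hψ, ← hX]
      right_inv := fun y => by
        show φ (algebraMap B X.E (bY y) + X.incl (zY y)) = y
        rw [hφ, ← hY]
      map_mul' := fun x y => by
        show φ (x * y) = φ x * φ y
        rw [hX x, hX y, hmul, hφ, hφ, hφ, hmul]
      map_add' := fun x y => by
        show φ (x + y) = φ x + φ y
        rw [hX x, hX y, hadd, hφ, hφ, hφ, hadd]
      commutes' := fun b => by
        show φ (algebraMap B X.E b) = _
        have := hφ b 0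
        simpa using this }
  refine ⟨⟨Φ, fun x => ?_, fun z => ?_⟩⟩
  · show Y.proj (φ x) = X.proj x
    conv_rhs => rw [hX x]
    rw [map_add, map_add, Y.proj.commutes, X.proj.commutes, EGA41Lib.ExalX.proj_incl, EGA41Lib.ExalX.proj_incl]
  · show φ (X.incl z) = Y.incl z
    have := hφ 0 z
    simpa using this

end Groth.Agent.S5813
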