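import Groth.Statements.S5814
import Groth.Agent.EGA41Lib.ExalBasic

set_option autoImplicit false
universe u
open EGA41

namespace Groth.Agent.S5814

/-- Surjectivity, commutative form. Let J be an ideal of the commutative ring B, C = B ⧸ J, M a
C-module. Every linear map w : J/J² → M arises from a B-extension of C by M: there is an extension
whose induced map J/J² → M is w. Together with the injectivity statement this is the canonical
bijection between Hom_C(J/J², M) and the classes of B-extensions of C by M. -/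
theorem result {B : Type u} [CommRing B] (J : Ideal B)
    {M : Type u} [AddCommGroup M] [Module (B ⧸ J) M] [Module B M] [IsScalarTower B (B ⧸ J) M]
    (w : J.Cotangent →ₗ[B] M) :
    ∃ X : Exal.Ext B (B ⧸ J) M, X.conormalMap J = w := by
  letI := Exal.opModule B M
  haveI := Exal.isCentralScalar_opModule B M
  have hJ : ∀ j ∈ J, ∀ m : M, j • m = 0 := fun j hj m => by
    rw [← IsScalarTower.algebraMap_smul (B ⧸ J), Ideal.Quotient.algebraMap_eq, Ideal.Quotient.eq_zero_iff_mem.mpr hj,
      zero_smul]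
  let S : Set (TrivSqZeroExt B M) := {x | ∃ h : x.fst ∈ J, x.snd + w (J.toCotangent ⟨x.fst, h⟩) = 0}
  let I : Ideal (TrivSqZeroExt B M) :=
    { carrier := S
      add_mem' := by
        rintro x y ⟨hx, hx'⟩ ⟨hy, hy'⟩
        refine ⟨J.add_mem hx hy, ?_⟩
        rw [show (⟨(x + y).fst, J.add_mem hx hy⟩ : J) = ⟨x.fst, hx⟩ + ⟨y.fst, hy⟩ from rfl, map_add, map_add,
          TrivSqZeroExt.snd_add, add_add_add_comm, hx', hy', add_zero]
      zero_mem' := ⟨J.zero_mem, by
        rw [show (⟨(0 : TrivSqZeroExt B M).fst, J.zero_mem⟩ : J) = 0 from rfl, map_zero, map_zero,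
          TrivSqZeroExt.snd_zero, add_zero]⟩
      smul_mem' := by
        rintro x y ⟨hy, hy'⟩
        refine ⟨J.mul_mem_left x.fst hy, ?_⟩
        rw [show (⟨(x • y).fst, J.mul_mem_left x.fst hy⟩ : J) = x.fst • ⟨y.fst, hy⟩ from rfl, map_smul, map_smul,
          smul_eq_mul, TrivSqZeroExt.snd_mul, op_smul_eq_smul, hJ _ hy, add_zero, ← smul_add, hy', smul_zero] }
  let p : (TrivSqZeroExt B M ⧸ I) →ₐ[B] B ⧸ J :=
    Ideal.Quotient.liftₐ I ((Ideal.Quotient.mkₐ B J).comp (TrivSqZeroExt.fstHom B B M)) (by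
      rintro x ⟨hx, -⟩
      exact Ideal.Quotient.eq_zero_iff_mem.mpr hx)
  let i : M →+ TrivSqZeroExt B M ⧸ I :=
    (Ideal.Quotient.mk I).toAddMonoidHom.comp (TrivSqZeroExt.inrHom B M).toAddMonoidHom
  have hi : ∀ m, i m = Ideal.Quotient.mk I (TrivSqZeroExt.inr m) := fun _ => rfl
  have hp : ∀ x, p (Ideal.Quotient.mk I x) = Ideal.Quotient.mk J x.fst := fun _ => rfl
  have hExt : Exal.IsExtension p i :=
    { proj_surjective := fun c => by
        obtain ⟨b, rfl⟩ := Ideal.Quotient.mk_surjective c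
        exact ⟨Ideal.Quotient.mk I (TrivSqZeroExt.inl b), rfl⟩
      incl_injective := (injective_iff_map_eq_zero _).mpr fun m hm => by
        rw [hi, Ideal.Quotient.eq_zero_iff_mem] at hm
        obtain ⟨h, h'⟩ := hm
        rw [TrivSqZeroExt.snd_inr, show (⟨(TrivSqZeroExt.inr m : TrivSqZeroExt B M).fst, h⟩ : J) = 0 from rfl,
          map_zero, map_zero, add_zero] at h'
        exact h'
      exact := fun x => by
        obtain ⟨x, rfl⟩ := Ideal.Quotient.mk_surjective x
        rw [hp, Ideal.Quotient.eq_zero_iff_mem]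
        constructor
        · intro hx
          refine ⟨x.snd + w (J.toCotangent ⟨x.fst, hx⟩), (Ideal.Quotient.eq.mpr ?_).symm⟩
          refine ⟨?_, ?_⟩
          · show x.fst - 0 ∈ J
            rw [sub_zero]; exact hx
          · show x.snd - (x.snd + w (J.toCotangent ⟨x.fst, hx⟩)) + w (J.toCotangent ⟨x.fst - 0, _⟩) = 0
            simp only [sub_zero]
            abel
        · rintro ⟨m, hm⟩
          have := congrArg p hm
          rw [hi, hp, hp, TrivSqZeroExt.fst_inr, map_zero] at this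
          exact Ideal.Quotient.eq_zero_iff_mem.mp this.symm
      mul_incl := fun x m => by
        obtain ⟨x, rfl⟩ := Ideal.Quotient.mk_surjective x
        rw [hi, hp, hi, ← map_mul, ← Ideal.Quotient.algebraMap_eq J, IsScalarTower.algebraMap_smul]
        congr 1
        refine TrivSqZeroExt.ext ?_ ?_
        · rw [TrivSqZeroExt.fst_mul, TrivSqZeroExt.fst_inr, TrivSqZeroExt.fst_inr, mul_zero]
        · rw [TrivSqZeroExt.snd_mul, TrivSqZeroExt.fst_inr, TrivSqZeroExt.snd_inr, TrivSqZeroExt.snd_inr,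
            op_smul_eq_smul, zero_smul, add_zero] }
  refine ⟨⟨TrivSqZeroExt B M ⧸ I, p, i, hExt⟩, LinearMap.ext fun y => ?_⟩
  obtain ⟨⟨j, hj⟩, rfl⟩ := J.toCotangent_surjective y
  let X : Exal.Ext B (B ⧸ J) M := ⟨TrivSqZeroExt B M ⧸ I, p, i, hExt⟩
  refine hExt.incl_injective ?_
  refine Eq.trans (X.incl_kerLift _ (X.proj_algebraMap_eq_zero J ⟨j, hj⟩)) ?_
  rw [hi]
  refine Ideal.Quotient.eq.mpr ?_
  refine ⟨?_, ?_⟩
  · show j - 0 ∈ J
    rw [sub_zero]; exact hj
  · show (0 : M) - w (J.toCotangent ⟨j, hj⟩) + w (J.toCotangent ⟨j - 0, _⟩) = 0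
    simp only [sub_zero, zero_sub, neg_add_cancel]

end Groth.Agent.S5814
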