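import Groth.Statements.S5816
import Groth.Agent.EGA41Lib.ExalSq

set_option autoImplicit false
universe u
open EGA41

namespace Groth.Agent.S5816

/-- Discrete case. For ring maps Λ → A → B, B is formally smooth over A relative to Λ (square-zero test
ideals) if and only if every A-extension of B by a B-module L which is Λ-trivial is A-trivial. Λ, A,
B are taken in one universe and L ranges over it. (The published statement is for topological rings;
this row is its discrete case.) -/
theorem result (Λ A B : Type u) [CommRing Λ]
    [CommRing A] [CommRing B] [Algebra Λ A] [Algebra Λ B] [Algebra A B] [IsScalarTower Λ A B] :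
    EGA41.IsFormallySmoothRel Λ A B ↔
      ∀ (L : Type u) [AddCommGroup L] [Module B L] (X : Exal.Ext A B L),
        X.IsTrivialOver Λ → X.IsTrivial := by
  constructor
  · intro h L _ _ X hX
    obtain ⟨s, hs⟩ := hX
    letI : Algebra Λ X.E := ((algebraMap A X.E).comp (algebraMap Λ A)).toAlgebra
    haveI : IsScalarTower Λ A X.E := IsScalarTower.of_algebraMap_eq fun _ => rfl
    let e : (X.E ⧸ RingHom.ker X.proj.toRingHom) ≃ₐ[A] B :=
      Ideal.quotientKerAlgEquivOfSurjective X.isExtension.proj_surjective
    have he : ∀ x : X.E, e (Ideal.Quotient.mk _ x) = X.proj x := fun x => rfl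
    let u : B →ₐ[Λ] X.E :=
      { toFun := fun b => (s b : X.E)
        map_one' := map_one s
        map_mul' := map_mul s
        map_zero' := map_zero s
        map_add' := map_add s
        commutes' := fun l => s.commutes l }
    obtain ⟨v, hv⟩ := h X.E (RingHom.ker X.proj.toRingHom) (EGA41Lib.ExalX.ker_sq_eq_bot X) e.symm.toAlgHom
      ⟨u, AlgHom.ext fun b => e.injective (by
        show e (Ideal.Quotient.mk _ (u b)) = e (e.symm b)
        rw [he, AlgEquiv.apply_symm_apply]
        exact hs b)⟩
    exact ⟨v, fun b => by
      have h1 : Ideal.Quotient.mk _ (v b) = e.symm b := AlgHom.congr_fun hv b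
      rw [← he, h1, AlgEquiv.apply_symm_apply]⟩
  · intro h C _ _ _ _ J hJ u₀ hu
    obtain ⟨u, hu⟩ := hu
    obtain ⟨v, hv⟩ := EGA41Lib.ExalX.exists_lift_of_isTrivialOver J hJ u₀ u (fun b => AlgHom.congr_fun hu b) h
    exact ⟨v, AlgHom.ext hv⟩

end Groth.Agent.S5816
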