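import Groth.Statements.S5817
import Mathlib

set_option autoImplicit false
universe u v
open EGA41

namespace Groth.Agent.S5817

/-- Commutative rings, exactness at Der_A(B, L). For ring maps A → B → C and a C-module L, the
B-extension of C by L attached to an A-derivation D : B → L (middle ring C ⊕ L, made a B-algebra
through x ↦ (x, D x)) is trivial if and only if D is the composite of B → C with an A-derivation C →
L. -/
theorem result {A : Type u} {B C L : Type v} [CommRing A] [CommRing B] [CommRing C]
    [Algebra A B] [Algebra B C] [Algebra A C] [IsScalarTower A B C]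
    [AddCommGroup L] [Module C L] [Module B L] [IsScalarTower B C L] [Module A L] [IsScalarTower A B L]
    [IsScalarTower A C L]
    (D : Derivation A B L) :
    (Exal.Ext.ofDerivation (C := C) D).IsTrivial ↔
      ∃ D' : Derivation A C L, D'.compAlgebraMap B = D := by
  constructor
  · rintro ⟨s, hs⟩
    have hfst : ∀ c : C, TrivSqZeroExt.fst (s c : TrivSqZeroExt C L) = c := hs
    have hs0 : ∀ b : B, (s (algebraMap B C b) : TrivSqZeroExt C L) =
        Exal.Ext.derivationHom (C := C) D b := fun b => s.commutes b
    letI := Exal.opModule C L
    haveI := Exal.isCentralScalar_opModule C L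
    have hmul : ∀ x y : C, TrivSqZeroExt.snd (s (x * y) : TrivSqZeroExt C L) =
        x • TrivSqZeroExt.snd (s y : TrivSqZeroExt C L) + y • TrivSqZeroExt.snd (s x : TrivSqZeroExt C L) := by
      intro x y
      rw [map_mul s x y]
      change TrivSqZeroExt.fst (s x : TrivSqZeroExt C L) • TrivSqZeroExt.snd (s y : TrivSqZeroExt C L) +
        MulOpposite.op (TrivSqZeroExt.fst (s y : TrivSqZeroExt C L)) • TrivSqZeroExt.snd (s x : TrivSqZeroExt C L) = _
      rw [hfst, hfst, op_smul_eq_smul]
    have hA : ∀ a : A, TrivSqZeroExt.snd (s (algebraMap A C a) : TrivSqZeroExt C L) = 0 := by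
      intro a
      rw [IsScalarTower.algebraMap_apply A B C, hs0]
      simp [Exal.Ext.derivationHom]
    refine ⟨Derivation.mk'
      { toFun := fun c => TrivSqZeroExt.snd (s c : TrivSqZeroExt C L)
        map_add' := fun x y => by
          rw [map_add s x y]
          exact TrivSqZeroExt.snd_add _ _
        map_smul' := fun a x => by
          rw [Algebra.smul_def, hmul, hA, smul_zero, add_zero, algebraMap_smul, RingHom.id_apply] }
      (fun x y => hmul x y), ?_⟩
    ext b
    change TrivSqZeroExt.snd (s (algebraMap B C b) : TrivSqZeroExt C L) = D b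
    rw [hs0]
    simp [Exal.Ext.derivationHom]
  · rintro ⟨D', hD'⟩
    letI := Exal.opModule C L
    haveI := Exal.isCentralScalar_opModule C L
    let g : C →+* TrivSqZeroExt C L := Exal.Ext.derivationHom (A := A) (B := C) (C := C) D'
    refine ⟨{ (g : C →+* Exal.Ext.DerCarrier (C := C) D) with commutes' := fun b => ?_ }, fun c => ?_⟩
    · change g (algebraMap B C b) = Exal.Ext.derivationHom (C := C) D b
      have : D' (algebraMap B C b) = D b := by rw [← hD']; rfl
      simp [g, Exal.Ext.derivationHom, this]
    · change TrivSqZeroExt.fst (g c) = c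
      simp [g, Exal.Ext.derivationHom]

end Groth.Agent.S5817
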