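import Groth.Statements.S5818
import Mathlib

set_option autoImplicit false
universe u v
open EGA41

namespace Groth.Agent.S5818

set_option backward.isDefEq.respectTransparency false in
/-- Commutative rings, exactness at Exalcom_B(C, L) on underlying pointed sets. For ring maps A → B → C
and a C-module L, a B-extension of C by L is A-trivial if and only if it is equivalent to the
extension attached to some A-derivation B → L. -/
theorem result {A : Type u} {B C L : Type v} [CommRing A] [CommRing B] [CommRing C]
    [Algebra A B] [Algebra B C] [Algebra A C] [IsScalarTower A B C]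
    [AddCommGroup L] [Module C L] [Module B L] [IsScalarTower B C L] [Module A L] [IsScalarTower A B L]
    [IsScalarTower A C L]
    (X : Exal.Ext B C L) :
    X.IsTrivialOver A ↔
      ∃ D : Derivation A B L, Nonempty (X.Equiv (Exal.Ext.ofDerivation (C := C) D)) := by
  constructor
  · rintro ⟨s0, hs0⟩
    let s : C →+* X.E :=
      { toFun := fun c => s0 c
        map_one' := map_one s0
        map_zero' := map_zero s0
        map_add' := map_add s0
        map_mul' := map_mul s0 }
    have hs : ∀ c : C, X.proj (s c) = c := hs0
    have hsA : ∀ a : A, s (algebraMap A C a) = algebraMap B X.E (algebraMap A B a) := fun a => s0.commutes a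
    have h0 : ∀ b : B, X.proj (algebraMap B X.E b - s (algebraMap B C b)) = 0 := fun b => by
      rw [map_sub, hs, AlgHom.commutes, sub_self]
    let d : B → L := fun b => X.kerLift (algebraMap B X.E b - s (algebraMap B C b)) (h0 b)
    have hd : ∀ b, X.incl (d b) = algebraMap B X.E b - s (algebraMap B C b) := fun b => X.incl_kerLift _ _
    have hmi := X.isExtension.mul_incl
    have hinj := X.isExtension.incl_injective
    have hz : ∀ l m : L, X.incl l * X.incl m = 0 := fun l m => by
      rw [hmi, (X.isExtension.exact (X.incl l)).2 ⟨l, rfl⟩, zero_smul, map_zero]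
    have hmul : ∀ x y : B, d (x * y) = x • d y + y • d x := fun x y => by
      apply hinj
      have e1 : X.incl (x • d y) = algebraMap B X.E x * X.incl (d y) := by
        rw [hmi, AlgHom.commutes, IsScalarTower.algebraMap_smul]
      have e2 : X.incl (y • d x) = s (algebraMap B C y) * X.incl (d x) := by
        rw [hmi, hs, IsScalarTower.algebraMap_smul]
      rw [map_add, e1, e2, hd, hd, hd, map_mul, map_mul, map_mul]
      ring
    have hdA : ∀ a : A, d (algebraMap A B a) = 0 := fun a => by
      apply hinj
      rw [hd, map_zero, ← IsScalarTower.algebraMap_apply A B C, hsA, sub_self]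
    have hadd : ∀ x y : B, d (x + y) = d x + d y := fun x y => by
      apply hinj
      rw [map_add, hd, hd, hd, map_add, map_add, map_add]
      abel
    let D : Derivation A B L := Derivation.mk'
      { toFun := d
        map_add' := hadd
        map_smul' := fun a x => by
          rw [Algebra.smul_def, hmul, hdA, smul_zero, add_zero, IsScalarTower.algebraMap_smul, RingHom.id_apply] }
      (fun x y => hmul x y)
    letI := Exal.opModule C L
    haveI := Exal.isCentralScalar_opModule C L
    let ψ : TrivSqZeroExt C L →+* X.E :=
      { toFun := fun x => s (TrivSqZeroExt.fst x) + X.incl (TrivSqZeroExt.snd x)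
        map_one' := by simp
        map_zero' := by simp
        map_add' := fun x y => by
          simp only [TrivSqZeroExt.fst_add, TrivSqZeroExt.snd_add, map_add]
          abel
        map_mul' := fun x y => by
          simp only [TrivSqZeroExt.fst_mul, TrivSqZeroExt.snd_mul, map_mul, map_add, op_smul_eq_smul]
          have e1 : X.incl (TrivSqZeroExt.fst x • TrivSqZeroExt.snd y) =
              s (TrivSqZeroExt.fst x) * X.incl (TrivSqZeroExt.snd y) := by rw [hmi, hs]
          have e2 : X.incl (TrivSqZeroExt.fst y • TrivSqZeroExt.snd x) =
              s (TrivSqZeroExt.fst y) * X.incl (TrivSqZeroExt.snd x) := by rw [hmi, hs]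
          rw [e1, e2]
          linear_combination -hz (TrivSqZeroExt.snd x) (TrivSqZeroExt.snd y) }
    let ψ' : (Exal.Ext.ofDerivation (C := C) D).E →ₐ[B] X.E :=
      { (ψ : Exal.Ext.DerCarrier (C := C) D →+* X.E) with
        commutes' := fun b => by
          change ψ (Exal.Ext.derivationHom (C := C) D b) = _
          simp [ψ, Exal.Ext.derivationHom, D, hd] }
    have hp : ∀ x, X.proj (ψ' x) = TrivSqZeroExt.fst (x : TrivSqZeroExt C L) := fun x => by
      change X.proj (s _ + X.incl _) = _
      rw [map_add, hs, (X.isExtension.exact (X.incl _)).2 ⟨_, rfl⟩, add_zero]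
    have hbij : Function.Bijective ψ' := by
      constructor
      · intro x y h
        have h1 := congrArg X.proj h
        rw [hp, hp] at h1
        refine TrivSqZeroExt.ext h1 (hinj ?_)
        have h' : s _ + X.incl _ = s _ + X.incl _ := h
        rw [h1] at h'
        exact add_left_cancel h'
      · intro e
        obtain ⟨l, hl⟩ := (X.isExtension.exact (e - s (X.proj e))).1 (by rw [map_sub, hs, sub_self])
        refine ⟨((TrivSqZeroExt.inl (X.proj e) + TrivSqZeroExt.inr l : TrivSqZeroExt C L) :), ?_⟩
        change ψ _ = e
        simp [ψ, hl]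
    refine ⟨D, ⟨Exal.Ext.Equiv.symm ⟨AlgEquiv.ofBijective ψ' hbij, fun x => hp x, fun z => ?_⟩⟩⟩
    change ψ (TrivSqZeroExt.inr z) = _
    simp [ψ]
  · rintro ⟨D, ⟨e⟩⟩
    letI := Exal.opModule C L
    haveI := Exal.isCentralScalar_opModule C L
    let g : C →+* X.E := (e.symm.toAlgEquiv : (Exal.Ext.ofDerivation (C := C) D).E →+* X.E).comp
      (TrivSqZeroExt.inlHom C L)
    refine ⟨{ (g : C →+* X.RestrictCarrier A) with commutes' := fun a => ?_ }, fun c => ?_⟩
    · change e.symm.toAlgEquiv (TrivSqZeroExt.inl (algebraMap A C a) : TrivSqZeroExt C L) =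
        algebraMap B X.E (algebraMap A B a)
      rw [← e.symm.toAlgEquiv.commutes (algebraMap A B a)]
      congr 1
      change _ = Exal.Ext.derivationHom (C := C) D (algebraMap A B a)
      simp [Exal.Ext.derivationHom, ← IsScalarTower.algebraMap_apply]
    · exact e.symm.proj_apply _

end Groth.Agent.S5818
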