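import Groth.Statements.S5819
import Mathlib

set_option autoImplicit false
universe u v
open EGA41

namespace Groth.Agent.S5819

/-- Commutative rings, exactness at Exalcom_A(C, L) on underlying pointed sets. For ring maps A → B → C
and a C-module L, an A-extension Y of C by L pulls back to a trivial A-extension of B if and only if
Y is equivalent to some B-extension of C by L viewed as an A-extension. -/
theorem result {A : Type u} {B C L : Type v} [CommRing A]
    [CommRing B] [CommRing C] [Algebra A B] [Algebra B C] [Algebra A C] [IsScalarTower A B C]
    [AddCommGroup L] [Module C L] [Module B L] [IsScalarTower B C L]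
    (Y : Exal.Ext A C L) :
    (Y.pullback B).IsTrivial ↔
      ∃ X : Exal.Ext B C L, Nonempty ((X.restrictBase A).Equiv Y) := by
  constructor
  · rintro ⟨s, hs⟩
    let f : B →+* Y.E :=
      { toFun := fun b => (s b : Y.fiberProd B).1.1
        map_one' := by rw [map_one]; rfl
        map_mul' := fun x y => by rw [map_mul]; rfl
        map_zero' := by rw [map_zero]; rfl
        map_add' := fun x y => by rw [map_add]; rfl }
    letI alg : Algebra B Y.E := f.toAlgebra
    have hf : ∀ b, Y.proj (f b) = algebraMap B C b := fun b => by
      have h1 : Y.proj (f b) = algebraMap B C (s b : Y.fiberProd B).1.2 := (s b : Y.fiberProd B).2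
      rw [h1]
      exact congrArg (algebraMap B C) (hs b)
    have hfA : ∀ a, f (algebraMap A B a) = algebraMap A Y.E a := fun a =>
      congrArg (fun e : Y.fiberProd B => e.1.1) (s.commutes a)
    let X : Exal.Ext B C L :=
      { E := Y.E
        commRing := Y.commRing
        algebra := alg
        proj :=
          { toFun := fun x => Y.proj x
            map_one' := map_one Y.proj
            map_mul' := map_mul Y.proj
            map_zero' := map_zero Y.proj
            map_add' := map_add Y.proj
            commutes' := hf }
        incl := Y.incl
        isExtension :=
          { proj_surjective := Y.isExtension.proj_surjective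
            incl_injective := Y.isExtension.incl_injective
            exact := Y.isExtension.exact
            mul_incl := Y.isExtension.mul_incl } }
    let e : (X.restrictBase A).E ≃ₐ[A] Y.E :=
      { toFun := fun x => x
        invFun := fun x => x
        left_inv := fun _ => rfl
        right_inv := fun _ => rfl
        map_mul' := fun _ _ => rfl
        map_add' := fun _ _ => rfl
        commutes' := hfA }
    exact ⟨X, ⟨⟨e, fun _ => rfl, fun _ => rfl⟩⟩⟩
  · rintro ⟨X, ⟨e⟩⟩
    have hp : ∀ b, Y.proj (e.toAlgEquiv (algebraMap B X.E b)) = algebraMap B C b := fun b => by
      rw [e.proj_apply]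
      exact X.proj.commutes b
    refine ⟨{ toFun := fun b => (⟨(e.toAlgEquiv (algebraMap B X.E b), b), hp b⟩ : Y.fiberProd B)
              map_one' := Subtype.ext (Prod.ext ((congrArg e.toAlgEquiv (map_one (algebraMap B X.E))).trans
                (map_one e.toAlgEquiv)) rfl)
              map_mul' := fun x y => Subtype.ext (Prod.ext ((congrArg e.toAlgEquiv (map_mul (algebraMap B X.E) x y)).trans
                (map_mul e.toAlgEquiv _ _)) rfl)
              map_zero' := Subtype.ext (Prod.ext ((congrArg e.toAlgEquiv (map_zero (algebraMap B X.E))).trans
                (map_zero e.toAlgEquiv)) rfl)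
              map_add' := fun x y => Subtype.ext (Prod.ext ((congrArg e.toAlgEquiv (map_add (algebraMap B X.E) x y)).trans
                (map_add e.toAlgEquiv _ _)) rfl)
              commutes' := fun a => Subtype.ext (Prod.ext (e.toAlgEquiv.commutes a) rfl) }, fun b => rfl⟩

end Groth.Agent.S5819
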