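import Groth.Statements.S5823
import Groth.Agent.EGA41Lib.ExalChar

set_option autoImplicit false
universe u v
open scoped TensorProduct
open EGA41

namespace Groth.Agent.S5823

/-- Surjectivity. For ring maps A → B → C and a C-module L, assume (i) L is an injective C-module, or
(ii) Υ_{C/B/A} is a direct summand of C ⊗_B Ω_{B/A} and Ω_{C/A} → Ω_{C/B} has a right inverse. Then
every C-linear map Υ_{C/B/A} → L is the characteristic homomorphism of an A-trivial B-extension of C
by L. -/
theorem result {A : Type u} {B C L : Type v} [CommRing A] [CommRing B] [CommRing C]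
    [Algebra A B] [Algebra B C] [Algebra A C] [IsScalarTower A B C] [AddCommGroup L] [Module C L]
    (h : Module.Injective C L ∨
      ((∃ r : C ⊗[B] Ω[B⁄A] →ₗ[C] ↥(EGA41.imperfection A B C), ∀ z : ↥(EGA41.imperfection A B C), r z = z) ∧
        ∃ s : Ω[C⁄B] →ₗ[C] Ω[C⁄A], ∀ ω : Ω[C⁄B], KaehlerDifferential.map A B C C (s ω) = ω))
    (χ : ↥(EGA41.imperfection A B C) →ₗ[C] L) :
    ∃ X : Exal.Ext B C L, X.IsTrivialOver A ∧ X.IsCharHom A χ := by
  letI : Module A L := Module.compHom L (algebraMap A C)
  haveI : IsScalarTower A C L := IsScalarTower.of_algebraMap_smul fun _ _ => rfl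
  letI : Module B L := Module.compHom L (algebraMap B C)
  haveI : IsScalarTower B C L := IsScalarTower.of_algebraMap_smul fun _ _ => rfl
  haveI : IsScalarTower A B L := IsScalarTower.of_algebraMap_smul fun a z => by
    show algebraMap B C (algebraMap A B a) • z = algebraMap A C a • z
    rw [← IsScalarTower.algebraMap_apply]
  rcases h with h | ⟨⟨r, hr⟩, -⟩
  · obtain ⟨Φ, hΦ⟩ := h.out (X := ↥(EGA41.imperfection A B C)) (EGA41.imperfection A B C).subtype Subtype.val_injective χ
    exact EGA41Lib.ExalX.exists_ext_of_extends Φ χ hΦ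
  · exact EGA41Lib.ExalX.exists_ext_of_extends (χ.comp r) χ fun z => congrArg χ (hr z)

end Groth.Agent.S5823
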