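import Groth.Statements.S5825
import Mathlib.Topology.Algebra.Module.ContinuousLinearMap.Basic
import Mathlib.Topology.DenseEmbedding
import Mathlib.Tactic.Abel

set_option autoImplicit false
universe u v w
open EGA41

namespace Groth.Agent.S5825

/-- Let A be a topological ring, M, N topological A-modules with the topologies deduced from that of A,
and u : M → N a continuous linear map with dense image (a formal epimorphism). Then u is a formal
bimorphism (dense image and inducing) if and only if, for every open ideal J of A, the induced map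
M/JM → N/JN is bijective (injectivity and surjectivity are written out elementwise). -/
theorem result {A : Type u} {M : Type v} {N : Type w} [CommRing A]
    [TopologicalSpace A] [AddCommGroup M] [Module A M] [TopologicalSpace M] [AddCommGroup N] [Module A N]
    [TopologicalSpace N] (hM : TopMod.IsDeduced A M) (hN : TopMod.IsDeduced A N) (u : M →L[A] N)
    (hu : DenseRange u) :
    IsDenseInducing u ↔
      ∀ J : Ideal A, IsOpen (J : Set A) →
        (∀ x : M, u x ∈ (J • ⊤ : Submodule A N) → x ∈ (J • ⊤ : Submodule A M)) ∧
          ∀ y : N, ∃ x : M, y - u x ∈ (J • ⊤ : Submodule A N) := by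
  haveI := hM.1
  haveI := hN.1
  have happrox : ∀ J : Ideal A, IsOpen (J : Set A) → ∀ y : N, ∃ x : M, y - u x ∈ (J • ⊤ : Submodule A N) := by
    intro J hJ y
    have hmem : (fun z => y - z) ⁻¹' ((J • ⊤ : Submodule A N) : Set N) ∈ nhds y := by
      refine (continuous_const.sub continuous_id).continuousAt.preimage_mem_nhds ?_
      simpa using hN.2.mem_of_mem hJ
    obtain ⟨x, hx⟩ := hu.mem_nhds hmem
    exact ⟨x, hx⟩
  constructor
  · intro h J hJ
    refine ⟨fun x hx => ?_, happrox J hJ⟩
    have h0 : ((J • ⊤ : Submodule A M) : Set M) ∈ Filter.comap u (nhds (u 0)) := by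
      rw [← h.isInducing.nhds_eq_comap]
      exact hM.2.mem_of_mem hJ
    obtain ⟨V, hV, hVJ⟩ := h0
    rw [map_zero] at hV
    obtain ⟨J', hJ', hJ'V⟩ := hN.2.mem_iff.mp hV
    have hle : (J • ⊤ : Submodule A N) ≤
        (J • ⊤ : Submodule A M).map u.toLinearMap ⊔ (J' • ⊤ : Submodule A N) := by
      rw [Submodule.smul_le]
      intro a ha y _
      obtain ⟨z, hz⟩ := happrox J' hJ' y
      rw [show a • y = u (a • z) + a • (y - u z) by rw [map_smul, ← smul_add, add_sub_cancel]]
      exact Submodule.add_mem_sup (Submodule.mem_map_of_mem (f := u.toLinearMap) (Submodule.smul_mem_smul ha trivial))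
        (Submodule.smul_mem _ _ hz)
    obtain ⟨_, ⟨z, hz, rfl⟩, w, hw, hzw⟩ := Submodule.mem_sup.mp (hle hx)
    have h2 : x - z ∈ (J • ⊤ : Submodule A M) := by
      refine hVJ (hJ'V ?_)
      show u (x - z) ∈ (J' • ⊤ : Submodule A N)
      rw [map_sub, ← hzw]
      simpa using hw
    simpa using Submodule.add_mem _ h2 hz
  · intro h
    refine ⟨?_, hu⟩
    have hpre : ∀ J : Ideal A, IsOpen (J : Set A) →
        u ⁻¹' ((J • ⊤ : Submodule A N) : Set N) = ((J • ⊤ : Submodule A M) : Set M) := by
      intro J hJ
      refine Set.Subset.antisymm (fun x hx => (h J hJ).1 x hx) fun x hx => ?_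
      have : (J • ⊤ : Submodule A M).map u.toLinearMap ≤ (J • ⊤ : Submodule A N) := by
        rw [Submodule.map_smul'']
        exact Submodule.smul_mono le_rfl le_top
      exact this (Submodule.mem_map_of_mem hx)
    have h0 : Filter.comap u (nhds (0 : N)) = nhds (0 : M) :=
      Filter.HasBasis.eq_of_same_basis ((hN.2.comap u).congr (fun _ => Iff.rfl) fun J hJ => hpre J hJ) hM.2
    refine Topology.isInducing_iff_nhds.mpr fun x => ?_
    rw [← map_add_left_nhds_zero x, ← map_add_left_nhds_zero (u x), ← h0]
    refine Filter.ext fun s => ?_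
    simp only [Filter.mem_map, Filter.mem_comap]
    constructor
    · rintro ⟨t, ht, hts⟩
      refine ⟨(fun z => u x + z) '' t, Filter.mem_of_superset ht (Set.subset_preimage_image _ _), ?_⟩
      rintro y ⟨z, hz, hzy⟩
      have := hts (show y - x ∈ u ⁻¹' t by
        show u (y - x) ∈ t
        rw [map_sub, ← hzy, add_sub_cancel_left]
        exact hz)
      simpa using this
    · rintro ⟨t, ht, hts⟩
      exact ⟨_, ht, fun y hy => hts (show u (x + y) ∈ t by rw [map_add]; exact hy)⟩

end Groth.Agent.S5825
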