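import Groth.Statements.S5826
import Mathlib.Topology.Algebra.Module.ContinuousLinearMap.Basic
import Mathlib.LinearAlgebra.Quotient.Basic

set_option autoImplicit false
universe u v w
open EGA41

namespace Groth.Agent.S5826

/-- Let A be a topological ring, M, N topological A-modules with the topologies deduced from that of A,
u : M → N a continuous linear map. Then u is formally left invertible if and only if, for every open
ideal J of A, the induced map M/JM → N/JN is left invertible, i.e. some linear map N → M/JM composes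
with u to the projection M → M/JM. -/
theorem result {A : Type u} {M : Type v} {N : Type w}
    [CommRing A] [TopologicalSpace A] [AddCommGroup M] [Module A M] [TopologicalSpace M] [AddCommGroup N]
    [Module A N] [TopologicalSpace N] (hM : TopMod.IsDeduced A M) (hN : TopMod.IsDeduced A N)
    (u : M →L[A] N) :
    TopMod.IsFormallyLeftInvertible u ↔
      ∀ J : Ideal A, IsOpen (J : Set A) →
        ∃ w : N →ₗ[A] M ⧸ (J • ⊤ : Submodule A M), ∀ x : M, w (u x) = Submodule.Quotient.mk x := by
  haveI := hN.1
  constructor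
  · intro h J hJ
    letI : TopologicalSpace (M ⧸ (J • ⊤ : Submodule A M)) := ⊥
    haveI : DiscreteTopology (M ⧸ (J • ⊤ : Submodule A M)) := ⟨rfl⟩
    haveI := hM.1
    have hv : Continuous (J • ⊤ : Submodule A M).mkQ := by
      refine continuous_of_continuousAt_zero (J • ⊤ : Submodule A M).mkQ.toAddMonoidHom ?_
      show Filter.Tendsto (J • ⊤ : Submodule A M).mkQ (nhds 0) (nhds ((J • ⊤ : Submodule A M).mkQ 0))
      rw [map_zero, nhds_discrete (M ⧸ (J • ⊤ : Submodule A M))]
      exact Filter.tendsto_pure.mpr (Filter.mem_of_superset (hM.2.mem_of_mem hJ) fun x hx =>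
        (Submodule.Quotient.mk_eq_zero _).mpr hx)
    obtain ⟨w, hw⟩ := h _ ⟨(J • ⊤ : Submodule A M).mkQ, hv⟩
    exact ⟨w.toLinearMap, hw⟩
  · intro h E _ _ _ _ v
    haveI : DiscreteTopology E := ‹_›
    have h0 : v ⁻¹' {0} ∈ nhds (0 : M) := by
      have h1 := v.continuous.continuousAt (x := 0)
      rw [ContinuousAt, map_zero, nhds_discrete E] at h1
      exact Filter.tendsto_pure.mp h1
    obtain ⟨J, hJ, hJv⟩ := hM.2.mem_iff.mp h0
    obtain ⟨w, hw⟩ := h J hJ
    have hle : (J • ⊤ : Submodule A M) ≤ LinearMap.ker v.toLinearMap := fun x hx => hJv hx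
    let w' : N →ₗ[A] E := ((J • ⊤ : Submodule A M).liftQ v.toLinearMap hle).comp w
    have hker : (J • ⊤ : Submodule A N) ≤ LinearMap.ker w' := by
      rw [Submodule.smul_le]
      intro a ha y _
      obtain ⟨x, hx⟩ := Submodule.Quotient.mk_surjective _ (w y)
      show ((J • ⊤ : Submodule A M).liftQ v.toLinearMap hle) (w (a • y)) = 0
      rw [map_smul, ← hx, ← Submodule.Quotient.mk_smul, Submodule.liftQ_apply]
      exact hle (Submodule.smul_mem_smul ha trivial)
    refine ⟨⟨w', ?_⟩, fun x => ?_⟩
    · refine continuous_of_continuousAt_zero w'.toAddMonoidHom ?_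
      show Filter.Tendsto w' (nhds 0) (nhds (w' 0))
      rw [map_zero, nhds_discrete E]
      exact Filter.tendsto_pure.mpr (Filter.mem_of_superset (hN.2.mem_of_mem hJ) fun x hx => hker hx)
    · show ((J • ⊤ : Submodule A M).liftQ v.toLinearMap hle) (w (u x)) = v x
      rw [hw, Submodule.liftQ_apply]
      rfl

end Groth.Agent.S5826
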