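import Groth.Statements.S5828
import Groth.Agent.EGA41Lib.ExalBasic
import Mathlib.Tactic.LinearCombination

set_option autoImplicit false
universe u v
open EGA41

namespace Groth.Agent.S5828

/-- Commutative case. For an A-extension X of C by a C-module L, with middle ring E, projection p and
inclusion i, the A-derivations D : C → L and the self-equivalences of X correspond under D ↦ (x ↦ x
+ i (D (p x))): every derivation defines a self-equivalence with this formula, and every
self-equivalence is of this form for exactly one derivation. (Bijection of sets; the published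
statement also records compatibility with the group laws.) -/
theorem result {A : Type u} {C L : Type v} [CommRing A] [CommRing C] [Algebra A C]
    [AddCommGroup L] [Module C L] [Module A L] [IsScalarTower A C L] (X : Exal.Ext A C L) :
    (∀ D : Derivation A C L, ∃ e : X.Equiv X, ∀ x : X.E, e.toAlgEquiv x = x + X.incl (D (X.proj x))) ∧
      ∀ e : X.Equiv X, ∃! D : Derivation A C L, ∀ x : X.E, e.toAlgEquiv x = x + X.incl (D (X.proj x)) := by
  have hincl : ∀ (a : A) (z : L), X.incl (a • z) = a • X.incl z := fun a z => by
    rw [Algebra.smul_def, X.isExtension.mul_incl, X.proj.commutes, IsScalarTower.algebraMap_smul]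
  have hmul : ∀ (x y : X.E) (a b : L), (x + X.incl a) * (y + X.incl b) = x * y + X.incl (X.proj x • b + X.proj y • a) := by
    intro x y a b
    rw [add_mul, mul_add, mul_add, EGA41Lib.ExalX.incl_mul_incl, X.isExtension.mul_incl, mul_comm (X.incl a),
      X.isExtension.mul_incl, map_add]
    abel
  refine ⟨fun D => ?_, fun e => ?_⟩
  · let Φ : X.E ≃ₐ[A] X.E :=
      { toFun := fun x => x + X.incl (D (X.proj x))
        invFun := fun x => x - X.incl (D (X.proj x))
        left_inv := fun x => by
          show x + X.incl _ - X.incl (D (X.proj (x + X.incl _))) = x
          rw [map_add X.proj, EGA41Lib.ExalX.proj_incl, add_zero, add_sub_cancel_right]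
        right_inv := fun x => by
          show x - X.incl _ + X.incl (D (X.proj (x - X.incl _))) = x
          rw [map_sub X.proj, EGA41Lib.ExalX.proj_incl, sub_zero, sub_add_cancel]
        map_mul' := fun x y => by rw [map_mul X.proj, D.leibniz, hmul]
        map_add' := fun x y => by rw [map_add X.proj, map_add D, map_add X.incl]; abel
        commutes' := fun a => by
          show algebraMap A X.E a + X.incl (D (X.proj (algebraMap A X.E a))) = _
          rw [X.proj.commutes, D.map_algebraMap, map_zero, add_zero] }
    refine ⟨⟨Φ, fun x => ?_, fun z => ?_⟩, fun _ => rfl⟩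
    · show X.proj (x + X.incl _) = X.proj x
      rw [map_add, EGA41Lib.ExalX.proj_incl, add_zero]
    · show X.incl z + X.incl (D (X.proj (X.incl z))) = X.incl z
      rw [EGA41Lib.ExalX.proj_incl, map_zero, map_zero, add_zero]
  · choose g hg using X.isExtension.proj_surjective
    have hker : ∀ x, X.proj (e.toAlgEquiv x - x) = 0 := fun x => by rw [map_sub, e.proj_apply, sub_self]
    let D : C → L := fun c => X.kerLift _ (hker (g c))
    have key : ∀ x : X.E, e.toAlgEquiv x = x + X.incl (D (X.proj x)) := fun x => by
      show _ = x + X.incl (X.kerLift _ _)
      rw [X.incl_kerLift]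
      obtain ⟨z, hz⟩ := (X.isExtension.exact (x - g (X.proj x))).mp (by rw [map_sub, hg, sub_self])
      have h1 := e.apply_incl z
      rw [hz, map_sub] at h1
      linear_combination h1
    have hD : ∀ (x : X.E) (z : L), e.toAlgEquiv x = x + X.incl z → D (X.proj x) = z := fun x z h =>
      X.isExtension.incl_injective (add_left_cancel ((key x).symm.trans h))
    refine ⟨Derivation.mk'
      { toFun := D
        map_add' := fun a b => by
          obtain ⟨x, rfl⟩ := X.isExtension.proj_surjective a
          obtain ⟨y, rfl⟩ := X.isExtension.proj_surjective b
          rw [← map_add X.proj]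
          refine hD _ _ ?_
          rw [map_add e.toAlgEquiv, key x, key y, map_add X.incl]
          abel
        map_smul' := fun a c => by
          obtain ⟨x, rfl⟩ := X.isExtension.proj_surjective c
          rw [RingHom.id_apply, ← map_smul X.proj]
          refine hD _ _ ?_
          rw [map_smul e.toAlgEquiv, key x, smul_add, hincl] }
      (fun a b => by
        obtain ⟨x, rfl⟩ := X.isExtension.proj_surjective a
        obtain ⟨y, rfl⟩ := X.isExtension.proj_surjective b
        show D (X.proj x * X.proj y) = X.proj x • D (X.proj y) + X.proj y • D (X.proj x)
        rw [← map_mul X.proj]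
        refine hD _ _ ?_
        rw [map_mul e.toAlgEquiv, key x, key y, hmul]), key, fun D' hD' => Derivation.ext fun c => ?_⟩
    obtain ⟨x, rfl⟩ := X.isExtension.proj_surjective c
    exact (hD x _ (hD' x)).symm

end Groth.Agent.S5828
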