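import Groth.Statements.S5830
import Mathlib
import Groth.Agent.HochLib.Cocycle

set_option autoImplicit false
universe u v
open EGA41

namespace Groth.Agent.S5830

/-- Discrete case. If B is a formally smooth A-algebra then, for every B-module L, every A-bilinear
symmetric Hochschild 2-cocycle f : B × B → L (f(xy, z) + z f(x, y) = x f(y, z) + f(x, yz)) is a
Hochschild 2-coboundary: f(x, y) = x g(y) − g(xy) + y g(x) for some A-linear g : B → L. (The
published statement is for topological algebras and open ideals; this row is its discrete case.) -/
theorem result {A : Type u} {B : Type v} [CommRing A] [CommRing B]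
    [Algebra A B] [Algebra.FormallySmooth A B] {L : Type v} [AddCommGroup L] [Module B L] [Module A L]
    [IsScalarTower A B L] (f : B →ₗ[A] B →ₗ[A] L) (hsymm : ∀ x y : B, f x y = f y x)
    (hcoc : ∀ x y z : B, f (x * y) z + z • f x y = x • f y z + f x (y * z)) :
    ∃ g : B →ₗ[A] L, ∀ x y : B, f x y = x • g y - g (x * y) + y • g x := by
  exact HochLib.exists_coboundary ⟨f, hsymm, hcoc⟩

end Groth.Agent.S5830
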