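import Groth.Statements.S5831
import Groth.Agent.EGA41Lib.ExalSq
import Mathlib.Tactic.LinearCombination
import Mathlib.Tactic.Ring

set_option autoImplicit false
universe u
open EGA41

namespace Groth.Agent.S5831

/-- Discrete case. Let B be an A-algebra which is a projective A-module (A and B in one universe). If
for every B-module L in that universe every A-bilinear symmetric Hochschild 2-cocycle B × B → L is a
coboundary, then B is formally smooth over A. (The published statement assumes B formally projective
as a topological A-module; for discrete rings this is projectivity.) -/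
theorem result {A B : Type u} [CommRing A]
    [CommRing B] [Algebra A B] [Module.Projective A B]
    (h : ∀ (L : Type u) [AddCommGroup L] [Module B L] [Module A L] [IsScalarTower A B L]
      (f : B →ₗ[A] B →ₗ[A] L), (∀ x y : B, f x y = f y x) →
        (∀ x y z : B, f (x * y) z + z • f x y = x • f y z + f x (y * z)) →
          ∃ g : B →ₗ[A] L, ∀ x y : B, f x y = x • g y - g (x * y) + y • g x) :
    Algebra.FormallySmooth A B := by
  refine EGA41Lib.ExalX.formallySmooth_of_forall_isTrivial fun L _ _ X => ?_
  letI : Module A L := Module.compHom L (algebraMap A B)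
  haveI : IsScalarTower A B L := IsScalarTower.of_algebraMap_smul fun _ _ => rfl
  have hincl : ∀ (a : A) (z : L), X.incl (a • z) = a • X.incl z := fun a z => by
    rw [Algebra.smul_def, X.isExtension.mul_incl, X.proj.commutes, IsScalarTower.algebraMap_smul]
  obtain ⟨s, hs⟩ := Module.projective_lifting_property X.proj.toLinearMap LinearMap.id X.isExtension.proj_surjective
  have hs' : ∀ b, X.proj (s b) = b := fun b => LinearMap.congr_fun hs b
  have hker : ∀ x y, X.proj (s x * s y - s (x * y)) = 0 := fun x y => by
    rw [map_sub, map_mul, hs', hs', hs', sub_self]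
  let f : B →ₗ[A] B →ₗ[A] L := LinearMap.mk₂ A (fun x y => X.kerLift _ (hker x y))
    (fun x x' y => X.isExtension.incl_injective (by
      simp only [map_add, Exal.Ext.incl_kerLift, add_mul]; abel))
    (fun a x y => X.isExtension.incl_injective (by
      simp only [hincl, Exal.Ext.incl_kerLift, smul_sub, map_smul, smul_mul_assoc]))
    (fun x y y' => X.isExtension.incl_injective (by
      simp only [map_add, Exal.Ext.incl_kerLift, mul_add]; abel))
    (fun a x y => X.isExtension.incl_injective (by
      simp only [hincl, Exal.Ext.incl_kerLift, smul_sub, map_smul, mul_smul_comm]))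
  have hf : ∀ x y, X.incl (f x y) = s x * s y - s (x * y) := fun x y => X.incl_kerLift _ (hker x y)
  have hsm : ∀ (x : B) (z : L), X.incl (x • z) = s x * X.incl z := fun x z => by
    rw [X.isExtension.mul_incl, hs']
  obtain ⟨g, hg⟩ := h L f
    (fun x y => X.isExtension.incl_injective (by rw [hf, hf, mul_comm (s x), mul_comm x y]))
    (fun x y z => X.isExtension.incl_injective (by
      simp only [map_add, hsm, hf]
      rw [mul_assoc x y z]
      ring))
  let s' : B →ₗ[A] X.E := s - (⟨⟨X.incl, map_add X.incl⟩, hincl⟩ : L →ₗ[A] X.E).comp g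
  have hs'' : ∀ x, s' x = s x - X.incl (g x) := fun _ => rfl
  have hp : ∀ x, X.proj (s' x) = x := fun x => by rw [hs'', map_sub, hs', EGA41Lib.ExalX.proj_incl, sub_zero]
  have hm : ∀ x y, s' (x * y) = s' x * s' y := fun x y => by
    have h1 : X.incl (f x y) = X.incl (x • g y - g (x * y) + y • g x) := by rw [hg]
    simp only [hf, map_add, map_sub, hsm] at h1
    rw [hs'', hs'', hs'']
    linear_combination (-1 : X.E) * h1 - EGA41Lib.ExalX.incl_mul_incl X (g x) (g y)
  have h1 : s' 1 = 1 := by
    have e1 : s' 1 = s' 1 * s' 1 := by rw [← hm, mul_one]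
    obtain ⟨z, hz⟩ := (X.isExtension.exact (s' 1 - 1)).mp (by rw [map_sub, hp, map_one, sub_self])
    have e2 : s' 1 = 1 + X.incl z := by rw [hz]; ring
    have e3 : X.incl z = 0 := by
      rw [e2] at e1
      linear_combination -e1 - EGA41Lib.ExalX.incl_mul_incl X z z
    rw [e2, e3, add_zero]
  exact ⟨AlgHom.ofLinearMap s' h1 hm, hp⟩

end Groth.Agent.S5831
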