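import Groth.Statements.S5832
import Mathlib
import Groth.Agent.ExalSurj.Basic

set_option autoImplicit false
universe u u' v
open EGA41

namespace Groth.Agent.S5832

/-- Surjectivity at the end of the sequence. For ring maps Λ → A → B → C and a C-module L, every
Λ-trivial A-extension of B by L is equivalent to the inverse image along B → C of a Λ-trivial
A-extension of C by L. (Exactness at the other places is that of the six-term derivation-extension
sequence restricted to Λ-trivial classes.) -/
theorem result {Λ : Type u} {A : Type u'} {B C L : Type v}
    [CommRing Λ] [CommRing A] [CommRing B] [CommRing C] [Algebra Λ A] [Algebra Λ B] [Algebra Λ C]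
    [Algebra A B] [Algebra B C] [Algebra A C] [IsScalarTower Λ A B] [IsScalarTower Λ A C] [IsScalarTower A B C]
    [AddCommGroup L] [Module C L] [Module B L] [IsScalarTower B C L]
    (Y : Exal.Ext A B L) (hY : Y.IsTrivialOver Λ) :
    ∃ X : Exal.Ext A C L, X.IsTrivialOver Λ ∧ Nonempty ((X.pullback B).Equiv Y) := by
  letI : Module A L := Module.compHom L (algebraMap A C)
  letI : Module Λ L := Module.compHom L (algebraMap Λ C)
  haveI : IsScalarTower A C L := IsScalarTower.of_algebraMap_smul fun a x => rfl
  haveI : IsScalarTower Λ C L := IsScalarTower.of_algebraMap_smul fun a x => rfl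
  haveI : IsScalarTower Λ A L := IsScalarTower.of_algebraMap_smul fun a x => by
    show algebraMap A C (algebraMap Λ A a) • x = algebraMap Λ C a • x
    rw [← IsScalarTower.algebraMap_apply]
  haveI : IsScalarTower A B L := IsScalarTower.of_algebraMap_smul fun a x => by
    show algebraMap A B a • x = algebraMap A C a • x
    rw [IsScalarTower.algebraMap_apply A B C]
    exact (IsScalarTower.algebraMap_smul C (algebraMap A B a) x).symm
  haveI : IsScalarTower Λ B L := IsScalarTower.of_algebraMap_smul fun a x => by
    show algebraMap Λ B a • x = algebraMap Λ C a • x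
    rw [IsScalarTower.algebraMap_apply Λ A C, IsScalarTower.algebraMap_apply Λ A B, IsScalarTower.algebraMap_apply A B C]
    exact (IsScalarTower.algebraMap_smul C (algebraMap A B (algebraMap Λ A a)) x).symm
  haveI : IsScalarTower Λ B C := IsScalarTower.of_algebraMap_eq fun a => by
    rw [IsScalarTower.algebraMap_apply Λ A C, IsScalarTower.algebraMap_apply Λ A B, IsScalarTower.algebraMap_apply A B C]
  exact ExalSurj.surjective_pullback Y hY

end Groth.Agent.S5832
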