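import Groth.Statements.S5835
import Groth.Agent.ImperfLib.Kernel
import Groth.Agent.EGA41Lib.FieldFS
import Groth.Agent.PBasisLib.Universal
import Mathlib

set_option autoImplicit false
universe v w
open scoped TensorProduct
open EGA41

namespace Groth.Agent.S5835

/-- For fields k₀ ⊆ k ⊆ K ⊆ L, the map of imperfection modules Υ_{L/K/k₀} → Υ_{L/K/k} induced by
Ω_{K/k₀} → Ω_{K/k} is injective (k is k₀-admissible for the extension L of K) in each of the
following cases: L is separable over k; L is separable over K; k lies in k₀(K^p), p the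
characteristic exponent. Separable means geometrically reduced (not necessarily algebraic). -/
theorem result {k : Type v} {k₀ K L : Type w}
    [Field k₀] [Field k] [Field K] [Field L] [Algebra k₀ k] [Algebra k₀ K] [Algebra k₀ L] [Algebra k K]
    [Algebra k L] [Algebra K L] [IsScalarTower k₀ k K] [IsScalarTower k₀ k L] [IsScalarTower k₀ K L]
    [IsScalarTower k K L] (p : ℕ) [ExpChar K p]
    (h : Algebra.IsGeometricallyReduced k L ∨ Algebra.IsGeometricallyReduced K L ∨
      ∀ x : k, algebraMap k K x ∈ EGA41.pPowerSubalgebra p k₀ K) :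
    ∀ z : L ⊗[K] Ω[K⁄k₀], z ∈ EGA41.imperfection k₀ K L →
      (KaehlerDifferential.map k₀ k K K).baseChange L z = 0 → z = 0 := by
  intro z hz hz0
  rcases h with h | h | h
  · -- L separable over k
    let k' : IntermediateField k₀ K := (IsScalarTower.toAlgHom k₀ k K).fieldRange
    let ψ : k →+* k' := (algebraMap k K).codRestrict k' fun c => ⟨c, rfl⟩
    letI : Algebra k k' := ψ.toAlgebra
    haveI : IsScalarTower k k' K := IsScalarTower.of_algebraMap_eq' (RingHom.ext fun _ => rfl)
    haveI : IsScalarTower k k' L := IsScalarTower.of_algebraMap_eq' (RingHom.ext fun c => by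
      rw [RingHom.comp_apply, IsScalarTower.algebraMap_apply k' K L, ← IsScalarTower.algebraMap_apply k k' K,
        ← IsScalarTower.algebraMap_apply k K L])
    have hsurj : Function.Surjective (algebraMap k k') := fun ⟨_, c, hc⟩ => ⟨c, Subtype.ext hc⟩
    let M := AlgebraicClosure k'
    haveI : Module.Finite k k' := Module.Finite.of_surjective (Algebra.linearMap k k') hsurj
    haveI : Algebra.IsAlgebraic k M := Algebra.IsAlgebraic.trans k k' M
    haveI : TensorProduct.CompatibleSMul k' k M L := TensorProduct.CompatibleSMul.isScalarTower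
    haveI : TensorProduct.CompatibleSMul k k' M L := ⟨fun r m n => by
      obtain ⟨c, rfl⟩ := hsurj r
      rw [algebraMap_smul, algebraMap_smul, TensorProduct.smul_tmul]⟩
    haveI : IsReduced (M ⊗[k'] L) := isReduced_of_injective
      (Algebra.TensorProduct.equivOfCompatibleSMul k k' k M L) (AlgEquiv.injective _)
    haveI : Algebra.IsGeometricallyReduced k' L := (Algebra.isGeometricallyReduced_field_iff k' L).mpr ‹_›
    haveI : Algebra.FormallySmooth k' L := Groth.Agent.EGA41Lib.FieldFS.formallySmooth_of_isGeometricallyReduced k' L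
    refine Groth.Agent.ImperfLib.eq_zero_of_mem_span k' ((injective_iff_map_eq_zero _).mpr fun w hw => ?_) hz ?_
    · obtain ⟨x, rfl⟩ := (Algebra.H1Cotangent.exact_δ_mapBaseChange k₀ k' L w).mp hw
      rw [Subsingleton.elim x 0, map_zero]
    · refine Submodule.span_mono ?_ (Groth.Agent.ImperfLib.mem_span_of_baseChange_eq_zero hz0)
      rintro _ ⟨c, rfl⟩
      exact ⟨⟨algebraMap k K c, c, rfl⟩, rfl⟩
  · -- L separable over K
    haveI : Algebra.FormallySmooth K L := Groth.Agent.EGA41Lib.FieldFS.formallySmooth_of_isGeometricallyReduced K L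
    obtain ⟨x, rfl⟩ := (Algebra.H1Cotangent.exact_δ_mapBaseChange k₀ K L z).mp hz
    rw [Subsingleton.elim x 0, map_zero]
  · cases ‹ExpChar K p› with
    | zero =>
      -- characteristic zero
      let k' : IntermediateField k₀ K := (IsScalarTower.toAlgHom k₀ k K).fieldRange
      haveI : CharZero k' := RingHom.charZero (algebraMap k' K)
      haveI : Algebra.FormallySmooth k' L := Groth.Agent.CoeffField.formallySmooth_of_perfectField k' L
      refine Groth.Agent.ImperfLib.eq_zero_of_mem_span k' ((injective_iff_map_eq_zero _).mpr fun w hw => ?_) hz ?_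
      · obtain ⟨x, rfl⟩ := (Algebra.H1Cotangent.exact_δ_mapBaseChange k₀ k' L w).mp hw
        rw [Subsingleton.elim x 0, map_zero]
      · refine Submodule.span_mono ?_ (Groth.Agent.ImperfLib.mem_span_of_baseChange_eq_zero hz0)
        rintro _ ⟨c, rfl⟩
        exact ⟨⟨algebraMap k K c, c, rfl⟩, rfl⟩
    | prime hp =>
      haveI := Fact.mk hp
      refine (Submodule.mem_bot L).mp ?_
      refine (Submodule.span_le.mpr ?_) (Groth.Agent.ImperfLib.mem_span_of_baseChange_eq_zero hz0)
      rintro _ ⟨c, rfl⟩
      show (1 : L) ⊗ₜ[K] KaehlerDifferential.D k₀ K (algebraMap k K c) ∈ (⊥ : Submodule L _)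
      rw [Groth.Agent.PBasisLib.derivation_eq_zero_of_mem (p := p) (A := k₀) _ (h c), TensorProduct.tmul_zero]
      exact Submodule.zero_mem _

end Groth.Agent.S5835
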