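import Groth.Statements.S5836
import Mathlib

set_option autoImplicit false
universe u u' u'' w
open scoped TensorProduct
open EGA41

namespace Groth.Agent.S5836

/-- For fields k ⊆ k' ⊆ k'' ⊆ K ⊆ L put Δ(L/K, a/b) = ker(Υ_{L/K/b} → Υ_{L/K/a}) ⊆ L ⊗_K Ω_{K/b}. Then 0
→ Δ(L/K, k'/k) → Δ(L/K, k''/k) → Δ(L/K, k''/k') → 0 is exact: stated as the surjectivity of the map
induced by L ⊗_K Ω_{K/k} → L ⊗_K Ω_{K/k'} (exactness on the left and in the middle hold by
construction), together with the resulting identity of ranks d(L/K, k''/k) = d(L/K, k''/k') + d(L/K,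
k'/k). -/
theorem result {k : Type u} {k' : Type u'} {k'' : Type u''} {K L : Type w}
    [Field k] [Field k'] [Field k''] [Field K] [Field L]
    [Algebra k k'] [Algebra k k''] [Algebra k' k''] [IsScalarTower k k' k'']
    [Algebra k K] [Algebra k' K] [Algebra k'' K] [IsScalarTower k k' K] [IsScalarTower k' k'' K]
    [IsScalarTower k k'' K] [Algebra K L] [Algebra k L] [Algebra k' L] [Algebra k'' L]
    [IsScalarTower k K L] [IsScalarTower k' K L] [IsScalarTower k'' K L] :
    (∀ w : L ⊗[K] Ω[K⁄k'], w ∈ EGA41.imperfection k' K L →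
        (KaehlerDifferential.map k' k'' K K).baseChange L w = 0 →
          ∃ z : L ⊗[K] Ω[K⁄k], z ∈ EGA41.imperfection k K L ∧
            (KaehlerDifferential.map k k'' K K).baseChange L z = 0 ∧
              (KaehlerDifferential.map k k' K K).baseChange L z = w) ∧
      Module.rank L ↥(EGA41.imperfection k K L ⊓
            LinearMap.ker ((KaehlerDifferential.map k k'' K K).baseChange L)) =
        Module.rank L ↥(EGA41.imperfection k' K L ⊓
              LinearMap.ker ((KaehlerDifferential.map k' k'' K K).baseChange L)) +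
          Module.rank L ↥(EGA41.imperfection k K L ⊓
              LinearMap.ker ((KaehlerDifferential.map k k' K K).baseChange L)) := by
  haveI : IsScalarTower k k' L := IsScalarTower.of_algebraMap_eq' (by
    rw [IsScalarTower.algebraMap_eq k K L, IsScalarTower.algebraMap_eq k' K L, RingHom.comp_assoc,
      ← IsScalarTower.algebraMap_eq k k' K])
  let a := (KaehlerDifferential.map k k' K K).baseChange L
  let b := (KaehlerDifferential.map k' k'' K K).baseChange L
  let c := (KaehlerDifferential.map k k'' K K).baseChange L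
  let m := KaehlerDifferential.mapBaseChange k K L
  let m' := KaehlerDifferential.mapBaseChange k' K L
  have hba : ∀ z, b (a z) = c z := fun z => by
    induction z with
    | zero => simp
    | add x y hx hy => simp only [map_add, hx, hy]
    | tmul l ω =>
      simp only [a, b, c, LinearMap.baseChange_tmul]
      congr 1
      have hω : ω ∈ Submodule.span K (Set.range (KaehlerDifferential.D k K)) := by
        rw [KaehlerDifferential.span_range_derivation]; trivial
      induction hω using Submodule.span_induction with
      | mem x hx =>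
        obtain ⟨y, rfl⟩ := hx
        rw [KaehlerDifferential.map_D, KaehlerDifferential.map_D, KaehlerDifferential.map_D]
        simp
      | zero => simp
      | add x y _ _ hx hy => simp only [map_add, hx, hy]
      | smul r x _ hx => simp only [map_smul, hx]
  have hma : ∀ z, KaehlerDifferential.map k k' L L (m z) = m' (a z) := fun z => by
    induction z with
    | zero => simp
    | add x y hx hy => simp only [map_add, hx, hy]
    | tmul l ω =>
      simp only [m, m', a, LinearMap.baseChange_tmul, KaehlerDifferential.mapBaseChange_tmul, map_smul]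
      congr 1
      have hω : ω ∈ Submodule.span K (Set.range (KaehlerDifferential.D k K)) := by
        rw [KaehlerDifferential.span_range_derivation]; trivial
      induction hω using Submodule.span_induction with
      | mem x hx =>
        obtain ⟨y, rfl⟩ := hx
        rw [KaehlerDifferential.map_D, KaehlerDifferential.map_D, KaehlerDifferential.map_D,
          KaehlerDifferential.map_D]
        simp
      | zero => simp
      | add x y _ _ hx hy => simp only [map_add, hx, hy]
      | smul r x _ hx => simp only [LinearMap.map_smul_of_tower, hx]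
  have ha0 : ∀ ω : Ω[k'⁄k], KaehlerDifferential.map k k' K K (KaehlerDifferential.map k k k' K ω) = 0 := fun ω => by
    have := (KaehlerDifferential.exact_mapBaseChange_map k k' K).apply_apply_eq_zero ((1 : K) ⊗ₜ ω)
    rwa [KaehlerDifferential.mapBaseChange_tmul, one_smul] at this
  have hker : ∀ u : L ⊗[k'] Ω[k'⁄k], ∃ n, a n = 0 ∧ m n = KaehlerDifferential.mapBaseChange k k' L u := fun u => by
    induction u with
    | zero => exact ⟨0, map_zero _, by simp⟩
    | add x y hx hy =>
      obtain ⟨n, hn, hn'⟩ := hx
      obtain ⟨o, ho, ho'⟩ := hy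
      exact ⟨n + o, by rw [map_add, hn, ho, add_zero], by rw [map_add, map_add, hn', ho']⟩
    | tmul l ω =>
      refine ⟨l ⊗ₜ KaehlerDifferential.map k k k' K ω, ?_, ?_⟩
      · simp only [a, LinearMap.baseChange_tmul, ha0, TensorProduct.tmul_zero]
      · simp only [m, KaehlerDifferential.mapBaseChange_tmul]
        congr 1
        have hω : ω ∈ Submodule.span k' (Set.range (KaehlerDifferential.D k k')) := by
          rw [KaehlerDifferential.span_range_derivation]; trivial
        induction hω using Submodule.span_induction with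
        | mem x hx =>
          obtain ⟨y, rfl⟩ := hx
          rw [KaehlerDifferential.map_D, KaehlerDifferential.map_D, KaehlerDifferential.map_D,
            ← IsScalarTower.algebraMap_apply]
        | zero => simp
        | add x y _ _ hx hy => simp only [map_add, hx, hy]
        | smul r x _ hx => rw [map_smul, LinearMap.map_smul_of_tower, map_smul, hx]
  have hasurj : Function.Surjective a := by
    intro y
    induction y with
    | zero => exact ⟨0, map_zero _⟩
    | add x y hx hy =>
      obtain ⟨x', rfl⟩ := hx
      obtain ⟨y', rfl⟩ := hy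
      exact ⟨x' + y', map_add _ _ _⟩
    | tmul l ω =>
      obtain ⟨η, rfl⟩ := KaehlerDifferential.map_surjective k k' K ω
      exact ⟨l ⊗ₜ η, by simp only [a, LinearMap.baseChange_tmul]⟩
  have hsurj : ∀ w : L ⊗[K] Ω[K⁄k'], w ∈ EGA41.imperfection k' K L → b w = 0 →
      ∃ z : L ⊗[K] Ω[K⁄k], z ∈ EGA41.imperfection k K L ∧ c z = 0 ∧ a z = w := fun w hw hbw => by
    obtain ⟨z₀, rfl⟩ := hasurj w
    obtain ⟨u, hu⟩ := (KaehlerDifferential.exact_mapBaseChange_map k k' L (m z₀)).mp
      ((hma z₀).trans hw)
    obtain ⟨n, hn, hn'⟩ := hker u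
    refine ⟨z₀ - n, ?_, ?_, ?_⟩
    · show m (z₀ - n) = 0
      rw [map_sub, hn', hu, sub_self]
    · rw [← hba, map_sub, hn, sub_zero]
      exact hbw
    · rw [map_sub, hn, sub_zero]
  refine ⟨hsurj, ?_⟩
  let D₂ := EGA41.imperfection k K L ⊓ LinearMap.ker c
  let f : D₂ →ₗ[L] L ⊗[K] Ω[K⁄k'] := a.comp D₂.subtype
  have hrange : LinearMap.range f = EGA41.imperfection k' K L ⊓ LinearMap.ker b := by
    refine le_antisymm ?_ (fun w hw => ?_)
    · rintro _ ⟨⟨z, hz1, hz2⟩, rfl⟩
      refine ⟨?_, (hba z).trans hz2⟩
      show m' (a z) = 0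
      rw [← hma, show m z = 0 from hz1, map_zero]
    · obtain ⟨z, hz1, hz2, hz3⟩ := hsurj w hw.1 hw.2
      exact ⟨⟨z, hz1, hz2⟩, hz3⟩
  have hkerf : LinearMap.ker f = (EGA41.imperfection k K L ⊓ LinearMap.ker a).comap D₂.subtype := by
    ext ⟨z, hz⟩
    exact ⟨fun h => ⟨hz.1, h⟩, fun h => h.2⟩
  have hle : EGA41.imperfection k K L ⊓ LinearMap.ker a ≤ D₂ := fun z hz =>
    ⟨hz.1, by show c z = 0; rw [← hba, show a z = 0 from hz.2, map_zero]⟩
  show Module.rank L D₂ = Module.rank L ↥(EGA41.imperfection k' K L ⊓ LinearMap.ker b) +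
    Module.rank L ↥(EGA41.imperfection k K L ⊓ LinearMap.ker a)
  have h1 := LinearMap.rank_range_add_rank_ker (R := L) (M := ↥D₂) (M₁ := L ⊗[K] Ω[K⁄k']) f
  rw [hrange, hkerf, (Submodule.comapSubtypeEquivOfLe hle).rank_eq] at h1
  exact h1.symm

end Groth.Agent.S5836
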