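import Groth.Statements.S5837
import Groth.Agent.ImperfLib.Kernel
import Mathlib

set_option autoImplicit false
universe u u' w
open scoped TensorProduct
open EGA41

namespace Groth.Agent.S5837

/-- Rank form. For fields k₀ ⊆ k ⊆ K ⊆ L ⊆ M, with Δ(F/E, k/k₀) = ker(Υ_{F/E/k₀} → Υ_{F/E/k}) and d its
rank, one has d(M/K, k/k₀) = d(M/L, k/k₀) + d(L/K, k/k₀) (cardinal ranks; the published statement
gives the short exact sequence 0 → Δ(L/K, k/k₀) ⊗_L M → Δ(M/K, k/k₀) → Δ(M/L, k/k₀) → 0, of which
this row states the rank identity). -/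
theorem result {k₀ : Type u} {k : Type u'} {K L M : Type w}
    [Field k₀] [Field k] [Field K] [Field L] [Field M] [Algebra k₀ k]
    [Algebra k₀ K] [Algebra k K] [IsScalarTower k₀ k K] [Algebra k₀ L] [Algebra k L] [IsScalarTower k₀ k L]
    [Algebra K L] [Algebra K M] [Algebra L M] [IsScalarTower K L M]
    [Algebra k₀ M] [Algebra k M] [IsScalarTower k₀ K L] [IsScalarTower k K L]
    [IsScalarTower k₀ K M] [IsScalarTower k K M] [IsScalarTower k₀ L M] [IsScalarTower k L M] :
    Module.rank M ↥(EGA41.imperfection k₀ K M ⊓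
          LinearMap.ker ((KaehlerDifferential.map k₀ k K K).baseChange M)) =
      Module.rank M ↥(EGA41.imperfection k₀ L M ⊓
            LinearMap.ker ((KaehlerDifferential.map k₀ k L L).baseChange M)) +
        Module.rank L ↥(EGA41.imperfection k₀ K L ⊓
            LinearMap.ker ((KaehlerDifferential.map k₀ k K K).baseChange L)) := by
  let aK := (KaehlerDifferential.map k₀ k K K).baseChange M
  let aL := (KaehlerDifferential.map k₀ k L L).baseChange M
  let a := (KaehlerDifferential.map k₀ k K K).baseChange L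
  let mL := KaehlerDifferential.mapBaseChange k₀ K L
  let e := TensorProduct.AlgebraTensorModule.cancelBaseChange K L M M (Ω[K⁄k₀])
  let e' := TensorProduct.AlgebraTensorModule.cancelBaseChange K L M M (Ω[K⁄k])
  let g : M ⊗[K] Ω[K⁄k₀] →ₗ[M] M ⊗[L] Ω[L⁄k₀] := (mL.baseChange M) ∘ₗ e.symm.toLinearMap
  have hg : ∀ (r : M) (ω : Ω[K⁄k₀]), g (r ⊗ₜ ω) = r ⊗ₜ KaehlerDifferential.map k₀ k₀ K L ω := fun r ω => by
    simp only [g, e, LinearMap.comp_apply, LinearEquiv.coe_coe, TensorProduct.AlgebraTensorModule.cancelBaseChange_symm_tmul,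
      LinearMap.baseChange_tmul, mL, KaehlerDifferential.mapBaseChange_tmul, one_smul]
  have hmg : ∀ z, KaehlerDifferential.mapBaseChange k₀ L M (g z) = KaehlerDifferential.mapBaseChange k₀ K M z := fun z => by
    induction z with
    | zero => simp
    | add x y hx hy => simp only [map_add, hx, hy]
    | tmul r ω =>
      rw [hg, KaehlerDifferential.mapBaseChange_tmul, KaehlerDifferential.mapBaseChange_tmul]
      congr 1
      have hω : ω ∈ Submodule.span K (Set.range (KaehlerDifferential.D k₀ K)) := by
        rw [KaehlerDifferential.span_range_derivation]; trivial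
      induction hω using Submodule.span_induction with
      | mem x hx =>
        obtain ⟨y, rfl⟩ := hx
        rw [KaehlerDifferential.map_D, KaehlerDifferential.map_D, KaehlerDifferential.map_D,
          ← IsScalarTower.algebraMap_apply]
      | zero => simp
      | add x y _ _ hx hy => simp only [map_add, hx, hy]
      | smul s x _ hx => rw [map_smul, LinearMap.map_smul_of_tower, map_smul, hx]
  let j : Ω[K⁄k] →ₗ[K] Ω[L⁄k] := KaehlerDifferential.map k k K L
  have hj : ∀ ω : Ω[K⁄k₀], KaehlerDifferential.map k₀ k L L (KaehlerDifferential.map k₀ k₀ K L ω) =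
      j (KaehlerDifferential.map k₀ k K K ω) := fun ω => by
    have hω : ω ∈ Submodule.span K (Set.range (KaehlerDifferential.D k₀ K)) := by
      rw [KaehlerDifferential.span_range_derivation]; trivial
    induction hω using Submodule.span_induction with
    | mem x hx =>
      obtain ⟨y, rfl⟩ := hx
      simp only [j]
      rw [KaehlerDifferential.map_D, KaehlerDifferential.map_D, KaehlerDifferential.map_D, KaehlerDifferential.map_D]
      simp
    | zero => simp
    | add x y _ _ hx hy => simp only [map_add, hx, hy]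
    | smul s x _ hx => rw [map_smul, LinearMap.map_smul_of_tower, map_smul, map_smul, hx]
  have hag : ∀ z, aK z = 0 → aL (g z) = 0 := fun z hz => by
    let J : M ⊗[K] Ω[K⁄k] →ₗ[M] M ⊗[L] Ω[L⁄k] :=
      ((KaehlerDifferential.mapBaseChange k K L).baseChange M) ∘ₗ e'.symm.toLinearMap
    suffices h : ∀ z, aL (g z) = J (aK z) by rw [h, hz, map_zero]
    intro z
    induction z with
    | zero => simp
    | add x y hx hy => simp only [map_add, hx, hy]
    | tmul r ω =>
      rw [hg]
      simp only [aL, aK, J, e', LinearMap.baseChange_tmul, LinearMap.comp_apply, LinearEquiv.coe_coe,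
        TensorProduct.AlgebraTensorModule.cancelBaseChange_symm_tmul, KaehlerDifferential.mapBaseChange_tmul, one_smul]
      rw [hj]
  let D₂ := EGA41.imperfection k₀ K M ⊓ LinearMap.ker aK
  let f : D₂ →ₗ[M] M ⊗[L] Ω[L⁄k₀] := g.comp D₂.subtype
  have hrange : LinearMap.range f = EGA41.imperfection k₀ L M ⊓ LinearMap.ker aL := by
    refine le_antisymm ?_ (fun w hw => ?_)
    · rintro _ ⟨⟨z, hz1, hz2⟩, rfl⟩
      exact ⟨(hmg z).trans hz1, hag z hz2⟩
    · have hle : Submodule.span M (Set.range fun c : k => (1 : M) ⊗ₜ[L] KaehlerDifferential.D k₀ L (algebraMap k L c)) ≤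
          (LinearMap.ker aK).map g := by
        rw [Submodule.span_le]
        rintro _ ⟨c, rfl⟩
        refine ⟨(1 : M) ⊗ₜ KaehlerDifferential.D k₀ K (algebraMap k K c), ?_, ?_⟩
        · show aK _ = 0
          simp only [aK, LinearMap.baseChange_tmul, KaehlerDifferential.map_D]
          rw [show algebraMap K K (algebraMap k K c) = algebraMap k K c from rfl, Derivation.map_algebraMap,
            TensorProduct.tmul_zero]
        · rw [hg, KaehlerDifferential.map_D, ← IsScalarTower.algebraMap_apply]
      obtain ⟨z, hz, rfl⟩ := hle (Groth.Agent.ImperfLib.mem_span_of_baseChange_eq_zero hw.2)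
      exact ⟨⟨z, (hmg z).symm.trans hw.1, hz⟩, rfl⟩
  let Δ := EGA41.imperfection k₀ K L ⊓ LinearMap.ker a
  let hh : L ⊗[K] Ω[K⁄k₀] →ₗ[L] Ω[L⁄k₀] × (L ⊗[K] Ω[K⁄k]) := mL.prod a
  have hΔ : Δ = LinearMap.ker hh := by rw [LinearMap.ker_prod]; rfl
  have hpr : ∀ w, TensorProduct.prodRight L M M (Ω[L⁄k₀]) (L ⊗[K] Ω[K⁄k]) (hh.baseChange M w) =
      (mL.baseChange M w, a.baseChange M w) := fun w => by
    induction w with
    | zero => simp; rfl
    | add x y hx hy => simp only [map_add, hx, hy, Prod.mk_add_mk]
    | tmul r u => rfl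
  have hae : ∀ w, e' (a.baseChange M w) = aK (e w) := fun w => by
    induction w with
    | zero => simp
    | add x y hx hy => simp only [map_add, hx, hy]
    | tmul r u =>
      induction u with
      | zero => simp
      | add x y hx hy => simp only [TensorProduct.tmul_add, map_add, hx, hy]
      | tmul l ω =>
        simp only [a, aK, e, e', LinearMap.baseChange_tmul, TensorProduct.AlgebraTensorModule.cancelBaseChange_tmul]
  let φ : M ⊗[L] Δ →ₗ[M] M ⊗[K] Ω[K⁄k₀] := e.toLinearMap ∘ₗ Δ.subtype.baseChange M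
  have hφ : Function.Injective φ := by
    refine e.injective.comp ?_
    rw [LinearMap.baseChange_eq_ltensor]
    exact Module.Flat.lTensor_preserves_injective_linearMap _ Subtype.val_injective
  have hex0 : Function.Exact Δ.subtype hh := by
    rw [LinearMap.exact_iff, Submodule.range_subtype, hΔ]
  have hex : Function.Exact (Δ.subtype.lTensor M) (hh.lTensor M) := by
    set_option backward.isDefEq.respectTransparency false in
      exact Module.Flat.lTensor_exact (N := ↥Δ) (N' := L ⊗[K] Ω[K⁄k₀]) (N'' := Ω[L⁄k₀] × (L ⊗[K] Ω[K⁄k])) M hex0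
  have hφr : LinearMap.range φ = EGA41.imperfection k₀ K M ⊓ LinearMap.ker aK ⊓ LinearMap.ker g := by
    have hmem : ∀ w, w ∈ LinearMap.range (Δ.subtype.baseChange M) ↔ mL.baseChange M w = 0 ∧ a.baseChange M w = 0 := by
      intro w
      rw [← Prod.mk_eq_zero, ← hpr, LinearEquiv.map_eq_zero_iff]
      exact (hex w).symm
    ext z
    obtain ⟨w, rfl⟩ := e.surjective z
    have hgw : g (e w) = mL.baseChange M w := by
      simp only [g, LinearMap.comp_apply, LinearEquiv.coe_coe, LinearEquiv.symm_apply_apply]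
    constructor
    · rintro ⟨u, hu⟩
      have h1 := (hmem w).mp ⟨u, e.injective hu⟩
      refine ⟨⟨?_, ?_⟩, hgw.trans h1.1⟩
      · show KaehlerDifferential.mapBaseChange k₀ K M (e w) = 0
        rw [← hmg, hgw, h1.1, map_zero]
      · show aK (e w) = 0
        rw [← hae, h1.2, map_zero]
    · rintro ⟨⟨-, h2⟩, h3⟩
      obtain ⟨u, hu⟩ := (hmem w).mpr ⟨hgw.symm.trans h3, e'.injective (((hae w).trans h2).trans (map_zero e').symm)⟩
      exact ⟨u, congrArg e hu⟩
  have hkerf : LinearMap.ker f = (LinearMap.range φ).comap D₂.subtype := by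
    rw [hφr]
    ext ⟨z, hz⟩
    exact ⟨fun h => ⟨hz, h⟩, fun h => h.2⟩
  have hle : LinearMap.range φ ≤ D₂ := hφr.le.trans inf_le_left
  haveI : Module.Free L ↥Δ := by
    set_option backward.isDefEq.respectTransparency false in
      exact Module.Free.of_divisionRing L ↥Δ
  have h1 := LinearMap.rank_range_add_rank_ker (R := M) (M := ↥D₂) (M₁ := M ⊗[L] Ω[L⁄k₀]) f
  rw [hrange, hkerf, (Submodule.comapSubtypeEquivOfLe hle).rank_eq, ← (LinearEquiv.ofInjective φ hφ).rank_eq,
    Module.rank_baseChange, Cardinal.lift_id] at h1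
  exact h1.symm

end Groth.Agent.S5837
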