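import Groth.Statements.S5838
import Groth.Agent.S5826
import Groth.Agent.LeftInvLib.Limit

set_option autoImplicit false
universe u v w
open EGA41

namespace Groth.Agent.S5838

/-- Let A be a topological ring with a countable decreasing fundamental system (𝔍_n) of open ideals, M
and N topological A-modules with the topologies deduced from that of A, M Hausdorff and complete,
and u : M → N a continuous linear map such that for every n the cokernel of M/𝔍_n M → N/𝔍_n N is a
projective (A/𝔍_n)-module. Then u is formally left invertible if and only if it has a linear left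
inverse. (The published statement adds that u is then a topological isomorphism onto a topological
direct factor.) -/
theorem result {A : Type u} {M : Type v} {N : Type w}
    [CommRing A] [TopologicalSpace A] [AddCommGroup M] [Module A M] [UniformSpace M] [IsUniformAddGroup M]
    [CompleteSpace M] [T2Space M] [AddCommGroup N] [Module A N] [TopologicalSpace N]
    (𝔍 : ℕ → Ideal A) (h𝔍open : ∀ n, IsOpen (𝔍 n : Set A)) (h𝔍anti : Antitone 𝔍)
    (h𝔍basis : (nhds (0 : A)).HasBasis (fun _ : ℕ => True) (fun n => (𝔍 n : Set A)))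
    (hM : TopMod.IsDeduced A M) (hN : TopMod.IsDeduced A N) (u : M →L[A] N)
    (hcoker : ∀ n, Module.Projective (A ⧸ 𝔍 n)
      ((N ⧸ LinearMap.range u.toLinearMap) ⧸ (𝔍 n • (⊤ : Submodule A (N ⧸ LinearMap.range u.toLinearMap))))) :
    TopMod.IsFormallyLeftInvertible u ↔ ∃ w : N →ₗ[A] M, ∀ x : M, w (u x) = x := by
  constructor
  · intro h
    have hb : (nhds (0 : M)).HasBasis (fun _ : ℕ => True) fun n => ((𝔍 n • ⊤ : Submodule A M) : Set M) := by
      refine hM.2.to_hasBasis (fun J hJ => ?_) fun n _ => ⟨𝔍 n, h𝔍open n, subset_rfl⟩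
      obtain ⟨n, -, hn⟩ := h𝔍basis.mem_iff.1 (hJ.mem_nhds J.zero_mem)
      exact ⟨n, trivial, SetLike.coe_subset_coe.2 (Submodule.smul_mono_left (show 𝔍 n ≤ J from hn))⟩
    exact LeftInvLib.exists_leftInverse_of_limit 𝔍 hb h𝔍anti u.toLinearMap hcoker
      (fun n => (S5826.result hM hN u).1 h (𝔍 n) (h𝔍open n))
  · rintro ⟨w, hw⟩
    exact (S5826.result hM hN u).2 fun J _ => ⟨(J • ⊤ : Submodule A M).mkQ ∘ₗ w, fun x => congrArg _ (hw x)⟩

end Groth.Agent.S5838
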