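import Groth.Statements.S5849
import Groth.Agent.ZClosLib.Basic

set_option autoImplicit false
universe u
open ZClos

namespace Groth.Agent.S5849

open CategoryTheory CategoryTheory.Limits AlgebraicGeometry in
/-- For a locally Noetherian scheme X, a subset Z of X stable under specialization and an arbitrary
O_X-module F, the kernel and cokernel of ρ_{X/Z} : F → H⁰_{X/Z}(F) have support inside Z: at every
point x outside Z the map induced by ρ_{X/Z} on stalks is bijective. -/
theorem result (X : Scheme.{u}) [IsLocallyNoetherian X] (Z : Set X)
    (hZ : StableUnderSpecialization Z) (F : X.Modules) (x : X) (hx : x ∉ Z) :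
    ZClos.IsZClosedAt Z F x := by
  exact Groth.Agent.ZClosLib.isZClosedAt_of_not_mem F hx

end Groth.Agent.S5849
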