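import Groth.Statements.S5850
import Groth.Agent.ZClosLib.H0

set_option autoImplicit false
universe u
open ZClos

namespace Groth.Agent.S5850

open CategoryTheory CategoryTheory.Limits AlgebraicGeometry in
/-- For a locally Noetherian scheme X, a subset Z of X stable under specialization and an arbitrary
O_X-module F, the Z-closure H⁰_{X/Z}(F) is itself Z-closed. -/
theorem result (X : Scheme.{u}) [IsLocallyNoetherian X] (Z : Set X)
    (hZ : StableUnderSpecialization Z) (F : X.Modules) :
    ZClos.IsZClosed Z ((ZClos.H0 Z).obj F) := by
  exact Groth.Agent.ZClosLib.isZClosed_H0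

end Groth.Agent.S5850
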