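import Groth.Statements.S5854
import Groth.Agent.ZClosLib.CohDescent
import Groth.Agent.ZClosLib.FlatPullback

set_option autoImplicit false
universe u
open ZClos

namespace Groth.Agent.S5854

open CategoryTheory CategoryTheory.Limits AlgebraicGeometry in
/-- Let f : X' → X be a flat morphism of locally Noetherian schemes, Z a subset of X stable under
specialization, Z' = f⁻¹(Z) and F a quasi-coherent O_X-module. If H⁰_{X/Z}(F) is coherent then
H⁰_{X'/Z'}(f^* F) is coherent; the converse holds when f is moreover surjective (faithfully flat)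
and quasi-compact. -/
theorem result {X X' : Scheme.{u}} [IsLocallyNoetherian X] [IsLocallyNoetherian X'] (f : X' ⟶ X) [Flat f]
    (Z : Set X) (hZ : StableUnderSpecialization Z) (F : X.Modules) (hF : Coh.IsQCoh F) :
    (Coh.IsCoh ((ZClos.H0 Z).obj F) →
      Coh.IsCoh ((ZClos.H0 (f.base ⁻¹' Z)).obj ((Scheme.Modules.pullback f).obj F))) ∧
    (Surjective f → QuasiCompact f →
      Coh.IsCoh ((ZClos.H0 (f.base ⁻¹' Z)).obj ((Scheme.Modules.pullback f).obj F)) →
        Coh.IsCoh ((ZClos.H0 Z).obj F)) := by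
  obtain ⟨e⟩ := Groth.Agent.ZClosLib.nonempty_pullback_H0_iso f hZ hF
  have hH := Groth.Agent.ZClosLib.isQCoh_H0 (Z := Z) hF
  have key : ∀ {A B : X'.Modules}, (A ≅ B) → Coh.IsCoh B → Coh.IsCoh A := fun e h =>
    Groth.Agent.QCoh.isCoh_of_iso_finite e h.1 fun V hV => Groth.Agent.QCoh.finite_of_isFT h.1 h.2 hV
  refine ⟨fun h => key e.symm (Groth.Agent.ZClosLib.isCoh_pullback f h), fun _ _ h => ?_⟩
  exact Groth.Agent.ZClosLib.isFT_of_pullback f hH (key e h)

end Groth.Agent.S5854
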