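import Groth.Statements.S5862
import Groth.Agent.RadPtLib.Basic

set_option autoImplicit false
universe u
open RadPt

namespace Groth.Agent.S5862

theorem tower {F E K : Type*} [Field F] [Field E] [Field K] (a : F →+* E) (b : E →+* K)
    (h : (b.comp a).IsPurelyInseparable) : a.IsPurelyInseparable ∧ b.IsPurelyInseparable := by
  algebraize [a, b, b.comp a]
  exact ⟨IsPurelyInseparable.tower_bot F E K, IsPurelyInseparable.tower_top F E K⟩


open CategoryTheory AlgebraicGeometry in
/-- Let f : X → Y and g : Y → Z be morphisms of schemes and y a point of Y. If f is radicial at y (fibre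
with at most one point, purely inseparable residue field extension) and g is radicial at g(y), then
g ∘ f is radicial at g(y). Conversely, if f is surjective and g ∘ f is radicial at g(y), then f is
radicial at y and g is radicial at g(y). -/
theorem result {X Y Z : Scheme.{u}} (f : X ⟶ Y) (g : Y ⟶ Z) (y : Y) :
    (RadPt.IsRadicialAt f y → RadPt.IsRadicialAt g (g y) → RadPt.IsRadicialAt (f ≫ g) (g y)) ∧
      (Surjective f → RadPt.IsRadicialAt (f ≫ g) (g y) →
        RadPt.IsRadicialAt f y ∧ RadPt.IsRadicialAt g (g y)) := by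
  refine ⟨fun hf hg => ⟨fun x x' hx hx' => ?_, fun x hx => ?_⟩, fun hs h => ⟨⟨fun x x' hx hx' => ?_, fun x hx => ?_⟩,
    ⟨fun z z' hz hz' => ?_, fun z hz => ?_⟩⟩⟩
  · exact hf.1 x x' (hg.1 _ _ hx rfl) (hg.1 _ _ hx' rfl)
  · have e : f x = y := hg.1 _ _ hx rfl
    have h1 := hf.2 x e
    have h2 := hg.2 (f x) hx
    rw [Scheme.residueFieldMap_comp]
    exact h2.comp h1
  · exact h.1 x x' (by simp [hx]) (by simp [hx'])
  · have h1 := h.2 x (by simp [hx])
    rw [Scheme.residueFieldMap_comp] at h1
    exact (tower _ _ h1).2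
  · obtain ⟨x, rfl⟩ := hs.surj z
    obtain ⟨x', rfl⟩ := hs.surj z'
    rw [h.1 x x' hz hz']
  · obtain ⟨x, rfl⟩ := hs.surj z
    have h1 := h.2 x hz
    rw [Scheme.residueFieldMap_comp] at h1
    exact (tower _ _ h1).1

end Groth.Agent.S5862
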