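import Groth.Statements.S5865
import Groth.Agent.RadBir5.Local
-- import your own Groth.Agent.* helpers here

set_option autoImplicit false
universe u
open RadPt

namespace Groth.Agent.S5865

open CategoryTheory AlgebraicGeometry in
/-- Let f : X → Y be a morphism of schemes which is integral and whose induced morphism of reduced
schemes is birational (hence f is surjective), and let y be a point of Y. Then Y is geometrically
unibranch at y (the local ring O_{Y,y} is geometrically unibranch) if and only if f is radicial at y
and X is geometrically unibranch at the point of X over y. -/
theorem result {X Y : Scheme.{u}} (f : X ⟶ Y) [IsIntegralHom f] (hf : RadPt.IsBirational f) (y : Y) :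
    CAlg2.IsGeomUnibranch (Y.presheaf.stalk y) ↔
      (RadPt.IsRadicialAt f y ∧ ∀ x : X, f x = y → CAlg2.IsGeomUnibranch (X.presheaf.stalk x)) := by
  exact RadBir5.isGeomUnibranch_iff f hf y

end Groth.Agent.S5865
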