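import Groth.Statements.S5869
import Groth.Agent.ZFin5.Hull

set_option autoImplicit false
universe u
open ZClos

namespace Groth.Agent.S5869

set_option backward.isDefEq.respectTransparency false
set_option backward.isDefEq.respectTransparency.types false

open CategoryTheory CategoryTheory.Limits AlgebraicGeometry in
/-- a) ⇔ b): for a Noetherian ring A with X = Spec A, the following are equivalent: a) for every prime
ideal q of A, writing B = A/q, the ring B^(1) (intersection of the localizations of B at its
height-one primes) is a finite B-algebra; b) for every finite A-module M and every subset Z of X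
stable under specialization such that, for every associated prime p of M not in Z and every prime p'
∈ Z containing p, the image of p' in A/p has height at least 2, the Z-closure H⁰_{X/Z} of the module
M~ is coherent. -/
theorem result (A : Type u) [CommRing A] [IsNoetherianRing A] :
    (∀ (q : Ideal A) [q.IsPrime], EGA4.HeightOneHullFinite (A ⧸ q)) ↔
      ∀ (M : Type u) [AddCommGroup M] [Module A M] [Module.Finite A M]
        (Z : Set (PrimeSpectrum A)), StableUnderSpecialization Z →
        (∀ x : PrimeSpectrum A, x.asIdeal ∈ associatedPrimes A M → x ∉ Z →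
          ∀ y ∈ Z, x.asIdeal ≤ y.asIdeal → (2 : ℕ∞) ≤ (y.asIdeal.map (Ideal.Quotient.mk x.asIdeal)).height) →
        Coh.IsCoh ((ZClos.H0 (X := Spec (CommRingCat.of A)) Z).obj (EGA4.tildeOf A M)) := by
    haveI : IsNoetherianRing (CommRingCat.of A) := ‹IsNoetherianRing A›
    constructor
    · intro h M _ _ _ Z hZ hcod
      refine ZFin5.isCoh_H0_tildeOf_of_cond (R := CommRingCat.of A) M Z hZ fun x hx => ?_
      by_cases hxZ : x ∈ Z
      · exact Or.inl hxZ
      · exact Or.inr ⟨h x.asIdeal, fun y hy hle => hcod x hx hxZ y hy hle⟩
    · intro h q _
      refine ZFin5.heightOneHullFinite_of_isCoh (R := CommRingCat.of A) q ?_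
      refine h (A ⧸ q) (ZFin5.codimTwo (R := CommRingCat.of A) q) (ZFin5.codimTwo_stable (R := CommRingCat.of A) q)
        fun x hx _ y hy hle => ?_
      have hxq : x.asIdeal = q := by
        obtain ⟨hp, m, hm⟩ := (isAssociatedPrime_iff).1 hx
        have hm0 : m ≠ 0 := fun h0 => hp.ne_top ((Ideal.eq_top_iff_one _).2 (hm ▸ Submodule.mem_colon_singleton.2
          (by simp [h0])))
        ext a
        have hiff : Ideal.Quotient.mk q a * m = 0 ↔ a ∈ q := by
          rw [mul_eq_zero, or_iff_left hm0, Ideal.Quotient.eq_zero_iff_mem]
        rw [hm, Submodule.mem_colon_singleton, Submodule.mem_bot]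
        exact hiff
      rw [hxq]
      exact hy.2

end Groth.Agent.S5869
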