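import Groth.Statements.S5873
import Groth.Agent.AssGen5.Basic

set_option autoImplicit false
set_option backward.isDefEq.respectTransparency false
set_option backward.isDefEq.respectTransparency.types false
universe u
open CategoryTheory AlgebraicGeometry
open Cons9

namespace Groth.Agent.S5873

open Groth.Agent.FibDim (rd rd_lt)

/-- Let S be an integral Noetherian scheme with generic point η, f : X ⟶ S a morphism of finite type and
F a coherent O_X-module; for s in S write F_s for the pullback of F to the scheme-theoretic fibre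
X_s. For an associated point x of F_η let Z_x denote the closure in X of the image of x, and (Z_x)_s
its trace on X_s (the preimage under X_s ⟶ X). Then there is an open neighbourhood U of η such that
for every s in U: (a) the associated points of F_s are exactly the maximal points (those admitting
no proper generization inside the set) of the sets (Z_x)_s, for x running over the associated points
of F_η, so that the associated prime cycles of F_s are the irreducible components of the (Z_x)_s;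
(b) for distinct associated points x, x' of F_η the maximal points of (Z_x)_s and of (Z_x')_s are
pairwise distinct; (c) for every associated point x of F_η and every maximal point z of (Z_x)_s, the
point z is a maximal associated point of F_s (no other associated point of F_s generizes it) if and
only if x is a maximal associated point of F_η. -/
theorem result {X S : Scheme.{u}} [IsIntegral S] [IsNoetherian S]
    (f : X ⟶ S) [LocallyOfFiniteType f] [QuasiCompact f]
    (F : X.Modules) [Coh.IsQCoh F] (hF : CohB1.IsFP F) :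
    ∃ U : S.Opens, genericPoint S ∈ U ∧ ∀ s ∈ U,
      (AssSch.Ass ((Scheme.Modules.pullback (f.fiberι s)).obj F) =
          ⋃ x ∈ AssSch.Ass ((Scheme.Modules.pullback (f.fiberι (genericPoint S))).obj F),
            {z : ↥(f.fiber s) | z ∈ ((f.fiberι s).base ⁻¹' closure {(f.fiberι (genericPoint S)).base x}) ∧ ∀ z' ∈ ((f.fiberι s).base ⁻¹' closure {(f.fiberι (genericPoint S)).base x}), z' ⤳ z → z' = z}) ∧
      (∀ x ∈ AssSch.Ass ((Scheme.Modules.pullback (f.fiberι (genericPoint S))).obj F), ∀ x' ∈ AssSch.Ass ((Scheme.Modules.pullback (f.fiberι (genericPoint S))).obj F), x ≠ x' →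
          Disjoint {z : ↥(f.fiber s) | z ∈ ((f.fiberι s).base ⁻¹' closure {(f.fiberι (genericPoint S)).base x}) ∧ ∀ z' ∈ ((f.fiberι s).base ⁻¹' closure {(f.fiberι (genericPoint S)).base x}), z' ⤳ z → z' = z}
            {z : ↥(f.fiber s) | z ∈ ((f.fiberι s).base ⁻¹' closure {(f.fiberι (genericPoint S)).base x'}) ∧ ∀ z' ∈ ((f.fiberι s).base ⁻¹' closure {(f.fiberι (genericPoint S)).base x'}), z' ⤳ z → z' = z}) ∧
      (∀ x ∈ AssSch.Ass ((Scheme.Modules.pullback (f.fiberι (genericPoint S))).obj F),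
        ∀ z ∈ {z : ↥(f.fiber s) | z ∈ ((f.fiberι s).base ⁻¹' closure {(f.fiberι (genericPoint S)).base x}) ∧ ∀ z' ∈ ((f.fiberι s).base ⁻¹' closure {(f.fiberι (genericPoint S)).base x}), z' ⤳ z → z' = z},
          ((∀ y ∈ AssSch.Ass ((Scheme.Modules.pullback (f.fiberι s)).obj F), y ⤳ z → y = z) ↔
            (∀ y ∈ AssSch.Ass ((Scheme.Modules.pullback (f.fiberι (genericPoint S))).obj F), y ⤳ x → y = x))) := by
  haveI : IsLocallyNoetherian X := LocallyOfFiniteType.isLocallyNoetherian f
  haveI : LocallyOfFinitePresentation f := FibreLoc5.lfp_of_noetherian' f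
  obtain ⟨U, hηU, hU⟩ := AssGen5.exists_nhd f F hF
  refine ⟨U, hηU, fun s hs => ?_⟩
  let η := genericPoint S
  let A := AssSch.Ass ((Scheme.Modules.pullback (f.fiberι η)).obj F)
  let i : ↥(f.fiber η) → X := fun x => f.fiberι η x
  let j : ↥(f.fiber s) → X := fun z => f.fiberι s z
  have hfi : ∀ x, f (i x) = η := fun x => FlatDvr.fiberι_apply_eq f x
  have hfj : ∀ z, f (j z) = s := fun z => FlatDvr.fiberι_apply_eq f z
  have hAi : ∀ x, x ∈ A ↔ AssGen5.AssPt f F (i x) := fun x => AssGen5.mem_ass_iff f F η x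
  have hsj : ∀ a b, j a ⤳ j b ↔ a ⤳ b := fun a b => Codepth5.specializes_fibre_iff f a b
  have hsi : ∀ a b, i a ⤳ i b ↔ a ⤳ b := fun a b => Codepth5.specializes_fibre_iff f a b
  have hU' := fun z : ↥(f.fiber s) => hU (j z) (by rw [hfj]; exact hs)
  have hji : ∀ y : X, f y = s → ∃ z, j z = y := fun y hy => by
    obtain ⟨z, hz⟩ : y ∈ Set.range (f.fiberι s) := by rw [Scheme.Hom.range_fiberι]; exact hy
    exact ⟨z, hz⟩
  let M : ↥(f.fiber η) → Set ↥(f.fiber s) := fun x =>
    {z | z ∈ ((f.fiberι s).base ⁻¹' closure {(f.fiberι η).base x}) ∧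
      ∀ z' ∈ ((f.fiberι s).base ⁻¹' closure {(f.fiberι η).base x}), z' ⤳ z → z' = z}
  have hM : ∀ x ∈ A, ∀ z, z ∈ M x ↔ (i x ⤳ j z ∧ rd f (j z) = rd f (i x)) := by
    intro x hx z
    constructor
    · rintro ⟨hz, hmax⟩
      have hxz : i x ⤳ j z := specializes_iff_mem_closure.2 hz
      obtain ⟨y, hxy, hyz, hfy, hd⟩ := FibDim.exists_rd_ge f hxz
      obtain ⟨w, rfl⟩ := hji y (hfy.trans (hfj z))
      obtain rfl := hmax w (specializes_iff_mem_closure.1 hxy) ((hsj w z).1 hyz)
      exact ⟨hxz, le_antisymm ((hU' w).2.1 _ (hfi x) ((hAi x).1 hx) hxz).1 hd⟩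
    · rintro ⟨hxz, hd⟩
      refine ⟨specializes_iff_mem_closure.1 hxz, fun z' hz' hspec => ?_⟩
      have h1 := ((hU' z').2.1 _ (hfi x) ((hAi x).1 hx) (specializes_iff_mem_closure.2 hz')).1
      by_contra hne
      have h2 := rd_lt f ((hsj z' z).2 hspec) (fun e => hne ((f.fiberι s).isEmbedding.injective e))
        ((hfj z').trans (hfj z).symm)
      omega
  have hAs : ∀ z, z ∈ AssSch.Ass ((Scheme.Modules.pullback (f.fiberι s)).obj F) ↔ AssGen5.AssPt f F (j z) :=
    fun z => AssGen5.mem_ass_iff f F s z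
  have hof : ∀ z, AssGen5.AssPt f F (j z) → ∃ x ∈ A, i x ⤳ j z ∧ rd f (j z) = rd f (i x) := by
    intro z hz
    obtain ⟨y, ⟨hfy, hy⟩, hyz, hd⟩ := (hU' z).1 hz
    obtain ⟨x, rfl⟩ : y ∈ Set.range (f.fiberι η) := by rw [Scheme.Hom.range_fiberι]; exact hfy
    exact ⟨x, (hAi x).2 hy, hyz, hd⟩
  refine ⟨Set.ext fun z => ?_, fun x hx x' hx' hne => Set.disjoint_left.2 fun z hz hz' => ?_, fun x hx z hz => ?_⟩
  · rw [hAs, Set.mem_iUnion₂]
    constructor
    · intro hz
      obtain ⟨x, hx, h⟩ := hof z hz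
      exact ⟨x, hx, (hM x hx z).2 h⟩
    · rintro ⟨x, hx, hz⟩
      obtain ⟨hxz, hd⟩ := (hM x hx z).1 hz
      exact ((hU' z).2.1 _ (hfi x) ((hAi x).1 hx) hxz).2 hd
  · obtain ⟨hxz, hd⟩ := (hM x hx z).1 hz
    obtain ⟨hxz', hd'⟩ := (hM x' hx' z).1 hz'
    refine (ne_of_lt ((hU' z).2.2 _ _ (hfi x) ((hAi x).1 hx) (hfi x') ((hAi x').1 hx') (fun hsp => ?_) hxz hxz')) hd
    have h2 := rd_lt f hsp (fun e => hne ((f.fiberι η).isEmbedding.injective e).symm)
      ((hfi x').trans (hfi x).symm)
    omega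
  · obtain ⟨hxz, hd⟩ := (hM x hx z).1 hz
    constructor
    · intro hmax y hy hyx
      by_contra hne
      have h2 := rd_lt f ((hsi y x).2 hyx) (fun e => hne ((f.fiberι η).isEmbedding.injective e))
        ((hfi y).trans (hfi x).symm)
      obtain ⟨v, hv, hvz, hfv, hdv⟩ := FibDim.exists_rd_ge f (((hsi y x).2 hyx).trans hxz)
      obtain ⟨w, rfl⟩ := hji v (hfv.trans (hfj z))
      obtain ⟨hle, hass⟩ := (hU' w).2.1 _ (hfi y) ((hAi y).1 hy) hv
      have h3 := hmax w ((hAs w).2 (hass (le_antisymm hle hdv))) ((hsj w z).1 hvz)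
      rw [h3] at hdv
      omega
    · intro hmax w hw hwz
      by_contra hne
      obtain ⟨x', hx', hxw, hdw⟩ := hof w ((hAs w).1 hw)
      have h2 := rd_lt f ((hsj w z).2 hwz) (fun e => hne ((f.fiberι s).isEmbedding.injective e))
        ((hfj w).trans (hfj z).symm)
      refine (ne_of_lt ((hU' z).2.2 _ _ (hfi x) ((hAi x).1 hx) (hfi x') ((hAi x').1 hx') (fun hsp => ?_) hxz
        (hxw.trans ((hsj w z).2 hwz)))) hd
      rw [hmax x' hx' ((hsi x' x).1 hsp)] at hdw
      omega

end Groth.Agent.S5873
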