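import Groth.Statements.S5877
import Groth.Agent.Approx.Model
import Groth.Agent.Approx.ImmStage
import Groth.Agent.Approx.SpecLim

set_option backward.isDefEq.respectTransparency false
set_option backward.isDefEq.respectTransparency.types false
set_option linter.style.haveILetI false

set_option autoImplicit false
universe u
open CategoryTheory CategoryTheory.Limits AlgebraicGeometry Opposite
open Lim8

namespace Groth.Agent.S5877

/-- Equivalence of a) and b): let Y be a quasi-compact quasi-separated scheme, f : X ⟶ Y a
quasi-separated morphism of finite type, C a quasi-coherent O_Y-algebra with relative spectrum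
Spec(C) ⟶ Y, and g : X ⟶ Spec(C) a Y-morphism. The quasi-coherent sub-O_Y-algebras of C of finite
type form an increasing filtered family with union C; here such a sub-algebra is a quasi-coherent
O_Y-algebra C' with a homomorphism C' ⟶ C that is injective on sections over every open, and with
C'(U) a finitely generated O_Y(U)-algebra for every affine open U of Y. Then g is an immersion if
and only if, for some quasi-coherent sub-algebra C' of C of finite type, the composite X ⟶ Spec(C) ⟶
Spec(C') is an immersion. -/
theorem result {X Y : Scheme.{u}}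
    [CompactSpace Y] [QuasiSeparatedSpace Y]
    (f : X ⟶ Y) [LocallyOfFiniteType f] [QuasiCompact f] [QuasiSeparated f]
    (C : RelSpec.QCAlg Y) (g : X ⟶ C.spec) (hg : g ≫ C.π = f) :
    IsImmersion g ↔
      ∃ (C' : RelSpec.QCAlg Y) (φ : C' ⟶ C),
        (∀ U : Y.Opens, Function.Injective (φ.hom.app (op U))) ∧
        (∀ U : Y.affineOpens, (C'.str.app (op (U : Y.Opens))).hom.FiniteType) ∧
        IsImmersion (g ≫ RelSpec.QCAlg.specMap φ) := by
  constructor
  · intro _
    obtain ⟨hc⟩ := Groth.Agent.Approx.nonempty_isLimit_sch C.π
    haveI : ∀ j, CompactSpace ((Groth.Agent.Approx.sysSch C.π).obj j) := fun j =>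
      Groth.Agent.Approx.compactSpace_spec C.π j.unop
    haveI : ∀ j, QuasiSeparatedSpace ((Groth.Agent.Approx.sysSch C.π).obj j) := fun j =>
      Groth.Agent.Approx.quasiSeparatedSpace_spec C.π j.unop
    haveI : CompactSpace X := QuasiCompact.compactSpace_of_compactSpace f
    haveI : IsImmersion (show X ⟶ (Groth.Agent.Approx.coneSch C.π).pt from g) := ‹IsImmersion g›
    obtain ⟨N, hN⟩ := Groth.Agent.Approx.exists_immersion_stage_of_immersion hc g f
      (fun j => (Groth.Agent.Approx.alg C.π j.unop).π) fun j => by
        show g ≫ Groth.Agent.Approx.proj C.π j.unop ≫ _ = f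
        rw [Groth.Agent.Approx.proj_π, hg]
    let A := Groth.Agent.Approx.alg C.π N.unop
    let ι : A ⟶ RelSpec.QCAlg.directImage C.π :=
      Groth.Agent.QCohAlg.genι (RelSpec.QCAlg.directImage C.π) N.unop.1 N.unop.2
    let φ : A ⟶ C := ι ≫ C.gammaHom
    refine ⟨A, φ, fun U => ?_, fun U => Groth.Agent.QCohAlg.gen_finiteType _ _ N.unop.2 U.2, ?_⟩
    · have h1 := (Groth.Agent.Approx.gammaMap_bijective C U).1.comp
        (Groth.Agent.QCohAlg.genι_injective (RelSpec.QCAlg.directImage C.π) N.unop.1 N.unop.2 U)
      exact h1
    · have e : RelSpec.QCAlg.specMap φ = Groth.Agent.Approx.proj C.π N.unop := by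
        refine Groth.Agent.Approx.SpecLim.algHom_inj A.π C.π (RelSpec.QCAlg.specMap_π φ)
          (Groth.Agent.Approx.proj_π C.π N.unop) ?_
        rw [← cancel_mono C.gammaMap, Groth.Agent.Approx.SpecLim.algHom_specMap φ,
          Groth.Agent.Approx.algHom_proj]
        exact (Category.assoc _ _ _).symm
      rw [e]
      exact hN
  · rintro ⟨C', φ, -, -, h⟩
    exact IsImmersion.of_comp g (RelSpec.QCAlg.specMap φ)

end Groth.Agent.S5877
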