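import Groth.Statements.S5886
import Groth.Agent.ConsPropLib.PointwiseProps

set_option autoImplicit false
universe u
open CategoryTheory AlgebraicGeometry
open ConsProp

namespace Groth.Agent.S5886

/-- The property of an algebraic k-scheme X of being finite over k is a constructible property of
algebraic schemes (invariant under extension of the base field; over an integral Noetherian base,
for a family of finite type, the set of points with finite fibre or its complement contains a
nonempty open subset). -/
theorem result :
    ConsProp.IsCons (fun Y T g => AlgebraicGeometry.IsFinite g) := by
  exact Groth.Agent.ConsPropLib.isCons_isFinite

end Groth.Agent.S5886
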