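import Groth.Statements.S5888
import Groth.Agent.ConsPropLib.Fibrewise
import Groth.Agent.FibDim.BaseField

set_option autoImplicit false
universe u
open CategoryTheory AlgebraicGeometry
open ConsProp

namespace Groth.Agent.S5888

open CategoryTheory

/-- For a given set Φ of values (natural numbers, with −∞ = ⊥ the dimension of the empty scheme), the
property of an algebraic k-scheme X that the dimension of X belongs to Φ is a constructible property
of algebraic schemes. The dimension is the Krull dimension of the underlying topological space,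
valued in WithBot ℕ∞. -/
theorem result (Φ : Set (WithBot ℕ∞)) :
    ConsProp.IsCons (fun Y T g => topologicalKrullDim ↥Y ∈ Φ) := by
  refine ⟨fun Y Y' T T' g g' e h _ _ _ _ _ _ sq => ?_, fun X S u _ _ _ _ => ?_⟩
  · haveI : LocallyOfFiniteType g' := MorphismProperty.of_isPullback sq ‹_›
    show topologicalKrullDim ↥Y ∈ Φ ↔ topologicalKrullDim ↥Y' ∈ Φ
    rw [FibDim.topologicalKrullDim_baseChange sq]
  haveI : IsLocallyNoetherian X := LocallyOfFiniteType.isLocallyNoetherian u
  haveI : CompactSpace X := QuasiCompact.compactSpace_of_compactSpace u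
  haveI : IsNoetherian X := {}
  haveI : LocallyOfFinitePresentation u := inferInstance
  let E : ℕ → Set S := fun n => {s | (n : WithBot ℕ∞) ≤ topologicalKrullDim ↥(u.fiber s)}
  have hE : ∀ n, E n = u '' {x | (n : WithBot ℕ∞) ≤ FlatMor.fibreDimAt u x} := fun n => by
    ext s
    refine (FibDim.le_topologicalKrullDim_fiber_iff u s n).trans ⟨fun ⟨z, hz, hn⟩ => ⟨z, ?_, hz⟩, ?_⟩
    · exact le_trans (by exact_mod_cast hn) (FibDim.rd_le_fibreDimAt u (specializes_refl z) rfl)
    · rintro ⟨x, hx, rfl⟩
      obtain ⟨v, -, hv, -, hd⟩ := FibDim.exists_fibMax_generization u x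
      rw [Set.mem_setOf_eq, hd] at hx
      exact ⟨v, hv, by exact_mod_cast hx⟩
  have hC : ∀ n, Topology.IsConstructible (E n) := fun n => by
    rw [hE]
    exact u.isConstructible_image (SpecLib.isConstructible_of_isClosed (FibDim.isClosed_le_fibreDimAt u n))
  have hnhd : ∀ {A : Set S}, Topology.IsConstructible A → genericPoint S ∈ A → A ∈ nhds (genericPoint S) :=
    fun hA h => FibDim.mem_nhds_of_generizations hA.isLocallyConstructible fun t ht =>
      (ht.antisymm ((genericPoint_spec S).specializes (Set.mem_univ _))).eq.symm ▸ h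
  obtain ⟨W, hW, hconst⟩ : ∃ W ∈ nhds (genericPoint S), ∀ s ∈ W,
      topologicalKrullDim ↥(u.fiber s) = topologicalKrullDim ↥(u.fiber (genericPoint S)) := by
    obtain ⟨N, hN⟩ : ∃ N : ℕ, ∀ s, s ∉ E N := by
      obtain ⟨t, ht⟩ := isCompact_univ.elim_finite_subcover
        (fun n : ℕ => ({x : X | (n : WithBot ℕ∞) ≤ FlatMor.fibreDimAt u x})ᶜ)
        (fun n => (FibDim.isClosed_le_fibreDimAt u n).isOpen_compl)
        (fun x _ => by
          obtain ⟨v, -, -, -, hd⟩ := FibDim.exists_fibMax_generization u x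
          refine Set.mem_iUnion.2 ⟨FibDim.rd u v + 1, ?_⟩
          rw [Set.mem_compl_iff, Set.mem_setOf_eq, hd]
          exact_mod_cast Nat.not_succ_le_self _)
      refine ⟨t.sup id, fun s hs => ?_⟩
      rw [hE] at hs
      obtain ⟨x, hx, -⟩ := hs
      obtain ⟨n, hn, hxn⟩ := Set.mem_iUnion₂.1 (ht (Set.mem_univ x))
      exact hxn (show (n : WithBot ℕ∞) ≤ FlatMor.fibreDimAt u x from
        le_trans (Nat.cast_le.2 (Finset.le_sup (f := id) hn)) hx)
    have hanti : ∀ {s : S} {n m : ℕ}, n ≤ m → s ∈ E m → s ∈ E n := fun {s n m} h hs => show (n : WithBot ℕ∞) ≤ _ from le_trans (Nat.cast_le.2 h) hs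
    classical
    by_cases h0 : genericPoint S ∈ E 0
    · let d := Nat.findGreatest (fun n => genericPoint S ∈ E n) N
      have hd : genericPoint S ∈ E d := Nat.findGreatest_spec (P := fun n => genericPoint S ∈ E n) (Nat.zero_le N) h0
      have hd' : genericPoint S ∉ E (d + 1) := fun h => by
        rcases lt_or_ge N (d + 1) with hlt | hle
        · exact hN _ (hanti hlt.le h)
        · exact Nat.not_succ_le_self d (Nat.le_findGreatest hle h)
      have key : ∀ s, s ∈ E d → s ∉ E (d + 1) → topologicalKrullDim ↥(u.fiber s) = (d : WithBot ℕ∞) := by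
        intro s h1 h2
        refine le_antisymm ((FibDim.topologicalKrullDim_fiber_le_iff u s d).2 fun z hz => ?_) h1
        by_contra hlt
        exact h2 ((FibDim.le_topologicalKrullDim_fiber_iff u s _).2 ⟨z, hz, by omega⟩)
      exact ⟨_, Filter.inter_mem (hnhd (hC d) hd) (hnhd (hC (d + 1)).compl hd'), fun s hs =>
        (key s hs.1 hs.2).trans (key _ hd hd').symm⟩
    · refine ⟨_, hnhd (hC 0).compl h0, fun s hs => ?_⟩
      have key : ∀ s, s ∉ E 0 → topologicalKrullDim ↥(u.fiber s) = ⊥ := fun s h => by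
        rw [FibDim.topologicalKrullDim_fiber]
        refine le_bot_iff.1 (iSup_le fun z => absurd ?_ h)
        exact (FibDim.le_topologicalKrullDim_fiber_iff u s 0).2 ⟨z.1, z.2, Nat.zero_le _⟩
      rw [key s hs, key _ h0]
  have hWi : genericPoint S ∈ interior W := mem_interior_iff_mem_nhds.2 hW
  by_cases hη : genericPoint S ∈ ConsProp.locus (fun Y T g => topologicalKrullDim ↥Y ∈ Φ) u
  · refine .inl ⟨_, interior_mono (fun s hs => ?_) hWi⟩
    show topologicalKrullDim ↥(u.fiber s) ∈ Φ
    rw [hconst s hs]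
    exact hη
  · refine .inr ⟨_, interior_mono (t := (ConsProp.locus (fun Y T g => topologicalKrullDim ↥Y ∈ Φ) u)ᶜ)
      (fun s hs h => hη ?_) hWi⟩
    show topologicalKrullDim ↥(u.fiber (genericPoint S)) ∈ Φ
    rw [← hconst s hs]
    exact h

end Groth.Agent.S5888
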