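import Groth.Statements.S5892
import Groth.Agent.ConsPropLib.ModLoci

set_option autoImplicit false
universe u
open CategoryTheory AlgebraicGeometry
open ConsProp

namespace Groth.Agent.S5892

/-- Let S = lim S_i be a cofiltered limit of schemes with affine transition maps, i₀ an index with
S_{i₀} quasi-compact, u₀ : X₀ ⟶ S_{i₀} a morphism of finite presentation (locally of finite
presentation, quasi-compact and quasi-separated), F₀ a quasi-coherent O_{X₀}-module of finite
presentation, u : X ⟶ S the base change of u₀ along S ⟶ S_{i₀} (a pullback square with q : X ⟶ X₀)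
and F the pullback of F₀ along q. Let P(X, F, k) be an ind-constructible property of algebraic
schemes with a coherent module. Then P holds for (X_s, F_s) over κ(s) for every point s of S if and
only if there is an index j over i₀ such that, for the base change u_j : X_j ⟶ S_j of u₀ with p :
X_j ⟶ X₀ and F_j the pullback of F₀ along p, P holds for the fibre data of (u_j, F_j) over every
point of S_j. (The published statement is for relations on morphisms and is extended there, with the
same proof, to relations on algebraic schemes with a module; this row is that form.) -/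
theorem result
    {P : ∀ ⦃Y T : Scheme.{u}⦄, (Y ⟶ T) → Y.Modules → Prop} (hP : ConsProp.IsIndConsMod P)
    {I : Type u} [SmallCategory I] [IsCofiltered I]
    (D : I ⥤ Scheme.{u}) (c : Limits.Cone D) (hc : Limits.IsLimit c)
    [∀ (i j : I) (a : i ⟶ j), IsAffineHom (D.map a)] (i₀ : I) [CompactSpace ↥(D.obj i₀)]
    {X₀ : Scheme.{u}} (u₀ : X₀ ⟶ D.obj i₀)
    [LocallyOfFinitePresentation u₀] [QuasiCompact u₀] [QuasiSeparated u₀]
    (F₀ : X₀.Modules) [Coh.IsQCoh F₀] (hF₀ : CohB1.IsFP F₀)
    {X : Scheme.{u}} (u : X ⟶ c.pt) (q : X ⟶ X₀) (hX : IsPullback q u u₀ (c.π.app i₀)) :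
    (∀ s : ↥c.pt, s ∈ ConsProp.locusMod P u ((Scheme.Modules.pullback q).obj F₀)) ↔
      ∃ (j : I) (φ : j ⟶ i₀) (Xj : Scheme.{u}) (uj : Xj ⟶ D.obj j) (p : Xj ⟶ X₀),
        IsPullback p uj u₀ (D.map φ) ∧
          ∀ t : ↥(D.obj j), t ∈ ConsProp.locusMod P uj ((Scheme.Modules.pullback p).obj F₀) := by
    haveI : ∀ {i j : I} (a : i ⟶ j), IsAffineHom (D.map a) := fun {i j} a => inferInstance
    have hL := Groth.Agent.ConsPropLib.isIndConstructible_locusMod' hP u₀ F₀ ‹_› hF₀
    have e := Groth.Agent.ConsPropLib.locusMod_preimage' hP.1 hX (F := F₀) ‹_› hF₀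
    constructor
    · intro h
      obtain ⟨j, φ, hj⟩ := Groth.Agent.MorLib.LimPro.exists_subset hc i₀ (A := Set.univ)
        (B := ConsProp.locusMod P u₀ F₀) Groth.Agent.MorLib.LimCons.pro_univ hL (fun s _ => e.le (h s))
      refine ⟨j, φ, _, _, _, IsPullback.of_hasPullback u₀ (D.map φ), fun t => ?_⟩
      rw [Groth.Agent.ConsPropLib.locusMod_preimage' hP.1 (IsPullback.of_hasPullback u₀ (D.map φ)) ‹_› hF₀]
      exact hj (Set.mem_univ t)
    · rintro ⟨j, φ, Xj, uj, p, sq, h⟩ s
      rw [e]
      have := (Groth.Agent.ConsPropLib.locusMod_preimage' hP.1 sq ‹_› hF₀).le (h (c.π.app j s))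
      rwa [Set.mem_preimage, ← Scheme.Hom.comp_apply, c.w] at this

end Groth.Agent.S5892
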