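import Groth.Statements.S5907
import Groth.Agent.ConsPropLib.Loci

set_option autoImplicit false
universe u
open CategoryTheory AlgebraicGeometry
open ConsPropPair

namespace Groth.Agent.S5907

/-- First assertion, ind-constructible case, for a relation between two schemes: let P(X, Y, k) be an
ind-constructible property of pairs of algebraic schemes, S a scheme and u : X ⟶ S, v : Y ⟶ S
morphisms of finite presentation (locally of finite presentation, quasi-compact and
quasi-separated). Then the set of points s of S such that P holds for the pair of fibres (X_s, Y_s)
over κ(s) is ind-constructible in S. (The published statement is for relations involving a scheme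
and a module; its closing remark extends statement and proof unchanged to relations involving
several schemes, which is the form given here.) -/
theorem result
    {P : ∀ ⦃X Y T : Scheme.{u}⦄, (X ⟶ T) → (Y ⟶ T) → Prop} (hP : ConsPropPair.IsIndConsPair P)
    {X Y S : Scheme.{u}} (u : X ⟶ S) (v : Y ⟶ S)
    [LocallyOfFinitePresentation u] [QuasiCompact u] [QuasiSeparated u]
    [LocallyOfFinitePresentation v] [QuasiCompact v] [QuasiSeparated v] :
    ProCons.IsIndConstructible (ConsPropPair.locusPair P u v) := by
  exact Groth.Agent.ConsPropLib.isIndConstructible_locusPair' hP u v

end Groth.Agent.S5907
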