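import Groth.Statements.S5909
import Groth.Agent.KFlatLib.Scheme.PullTensor
import Mathlib.AlgebraicGeometry.Morphisms.Flat
import Mathlib.LinearAlgebra.TensorProduct.Pi

set_option autoImplicit false
universe u
open CategoryTheory AlgebraicGeometry
open EGA43

namespace Groth.Agent.S5909

open TensorProduct in
theorem sep {R C : Type u} [CommRing R] [CommRing C] [Algebra R C] [Module.Flat R C] {ι : Type u} [Finite ι]
    {M : Type u} [AddCommGroup M] [Module R M] {N : ι → Type u} [∀ i, AddCommGroup (N i)] [∀ i, Module R (N i)]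
    (v : ∀ i, M →ₗ[R] N i) (hv : ∀ a, (∀ i, v i a = 0) → a = 0) (z : C ⊗[R] M)
    (hz : ∀ i, (v i).lTensor C z = 0) : z = 0 := by
  classical
  haveI := Fintype.ofFinite ι
  have hinj : Function.Injective (LinearMap.pi v) := (injective_iff_map_eq_zero _).2 fun a ha =>
    hv a fun i => congrFun ha i
  apply Module.Flat.lTensor_preserves_injective_linearMap (M := C) _ hinj
  apply (TensorProduct.piRight R R C N).injective
  rw [map_zero, map_zero]
  ext i
  refine Eq.trans ?_ (hz i)
  clear hz
  induction z using TensorProduct.induction_on with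
  | zero => simp
  | tmul c m => simp
  | add a b ha hb => simp only [map_add, Pi.add_apply, ha, hb]


/-- Case Z_λ = X: let X be a scheme, (u_i : F ⟶ G_i) a finite family (finite index set) of homomorphisms
of quasi-coherent O_X-modules which is separating (a section of F over an open subset killed by
every u_i is zero), and g : X' ⟶ X a flat morphism. Then the family (g^*u_i : g^*F ⟶ g^*G_i) is
separating. (The published statement allows a finite family of homomorphisms into direct images
(f_λ)_*G_λ along quasi-compact morphisms f_λ; this row is the case Z_λ = X, to which the general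
case reduces.) -/
theorem result {X X' : Scheme.{u}} (F : X.Modules) [Coh.IsQCoh F] {ι : Type u} [Finite ι]
    (G : ι → X.Modules) [∀ i, Coh.IsQCoh (G i)] (u : ∀ i, F ⟶ G i) (g : X' ⟶ X) [Flat g]
    (h : ∀ (V : (X).Opens) (t : ↑((F).presheaf.obj (Opposite.op V))), (∀ i, (Scheme.Modules.Hom.mapPresheaf (u i)).app (Opposite.op V) t = 0) → t = 0) :
    ∀ (V : (X').Opens) (t : ↑(((Scheme.Modules.pullback g).obj F).presheaf.obj (Opposite.op V))), (∀ i, (Scheme.Modules.Hom.mapPresheaf ((Scheme.Modules.pullback g).map (u i))).app (Opposite.op V) t = 0) → t = 0 := by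
  intro V t ht
  refine TopCat.Presheaf.section_ext ((Groth.Agent.KFlatLib.toAb X').obj ((Scheme.Modules.pullback g).obj F)) V t 0 fun x hx => ?_
  refine Eq.trans ?_ (map_zero (((Scheme.Modules.pullback g).obj F).presheaf.germ V x hx).hom).symm
  let e := (Groth.Agent.KFlatLib.stalkPullbackIso g x).app F
  let z := Groth.Agent.KFlatLib.gm ((Scheme.Modules.pullback g).obj F) V hx t
  suffices hz : e.hom z = 0 by
    have h1 := congrArg e.inv hz
    rw [map_zero, Iso.hom_inv_id_apply] at h1
    exact h1
  letI := (g.stalkMap x).hom.toAlgebra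
  haveI : Module.Flat (X.presheaf.stalk (g.base x)) (X'.presheaf.stalk x) := Flat.stalkMap g x
  let v : ∀ i, F.presheaf.stalk (g.base x) →ₗ[X.presheaf.stalk (g.base x)] (G i).presheaf.stalk (g.base x) :=
    fun i => ((DerSch.stalkFunctor X (g.base x)).map (u i)).hom
  have hinj : ∀ a, (∀ i, v i a = 0) → a = 0 := fun a ha => by
    obtain ⟨W, hW, s, rfl⟩ := TopCat.Presheaf.exists_germ_eq F.presheaf a
    have : ∀ i, ∃ (W' : X.Opens) (_ : g.base x ∈ W') (j : W' ⟶ W),
        (G i).presheaf.map j.op ((u i).app W s) = 0 := fun i => by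
      have h1 := ha i
      have h2 : (G i).presheaf.germ W (g.base x) hW ((u i).app W s) = (G i).presheaf.germ W (g.base x) hW 0 :=
        (DerSch.stalkFunctor_map_germ (g.base x) (u i) W hW s).symm.trans (h1.trans (map_zero _).symm)
      obtain ⟨W', hW', j, j', hj⟩ := (G i).presheaf.germ_eq (g.base x) hW hW _ _ h2
      exact ⟨W', hW', j, hj.trans (map_zero _)⟩
    choose W' hW' j hj using this
    haveI := Fintype.ofFinite ι
    classical
    let W₀ : X.Opens := W ⊓ Finset.univ.inf W'
    have hW₀ : g.base x ∈ W₀ := ⟨hW, by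
      show g.base x ∈ ((Finset.univ.inf W' : X.Opens) : Set X)
      simp [TopologicalSpace.Opens.coe_finset_inf, hW']⟩
    have hs : F.presheaf.map (homOfLE (inf_le_left : W₀ ≤ W)).op s = 0 := h W₀ _ fun i => by
      refine (NatTrans.naturality_apply (Scheme.Modules.Hom.mapPresheaf (u i)) (homOfLE (inf_le_left : W₀ ≤ W)).op s).trans ?_
      let k : W₀ ⟶ W' i := homOfLE (inf_le_right.trans (Finset.inf_le (Finset.mem_univ i)))
      rw [show (homOfLE (inf_le_left : W₀ ≤ W)).op = (j i).op ≫ k.op from rfl, Functor.map_comp,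
        ConcreteCategory.comp_apply]
      exact (congrArg ((G i).presheaf.map k.op) (hj i)).trans (map_zero _)
    rw [← F.presheaf.germ_res_apply (homOfLE (inf_le_left : W₀ ≤ W)) (g.base x) hW₀ s, hs, map_zero]
  refine sep (C := X'.presheaf.stalk x) v hinj _ fun i => ?_
  have h0 : (DerSch.stalkFunctor X' x).map ((Scheme.Modules.pullback g).map (u i)) z = 0 := by
    refine (DerSch.stalkFunctor_map_germ x _ V hx t).trans ?_
    exact (congrArg _ (ht i)).trans (map_zero (((Scheme.Modules.pullback g).obj (G i)).presheaf.germ V x hx).hom)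
  have h3 := ConcreteCategory.congr_hom ((Groth.Agent.KFlatLib.stalkPullbackIso g x).hom.naturality (u i)) z
  exact h3.symm.trans ((congrArg ((Groth.Agent.KFlatLib.stalkPullbackIso g x).hom.app (G i)) h0).trans (map_zero _))

end Groth.Agent.S5909
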