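import Groth.Statements.S5911
import Mathlib
import Groth.Agent.IdealSep12.Core
-- import your own Groth.Agent.* helpers here

set_option autoImplicit false
universe u
open TensorProduct
open EGA43

namespace Groth.Agent.S5911

open TensorProduct

theorem eq_zero_of_components {A : Type u} [CommRing A] (J : Ideal A) (M : Type u)
    [AddCommGroup M] [Module A M] (hK : Groth.Agent.LocalCrit.KeepsInjective J M) {r : ℕ}
    {N : Type u} [AddCommGroup N] [Module A N] (hN : Module.IsTorsionBySet A N J)
    (W : Fin r → Type u) [∀ i, AddCommGroup (W i)] [∀ i, Module A (W i)]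
    (hW : ∀ i, Module.IsTorsionBySet A (W i) J)
    (g : N →ₗ[A] ∀ i, W i) (hg : Function.Injective g) (z : N ⊗[A] M)
    (h : ∀ i, (LinearMap.proj i ∘ₗ g).rTensor M z = 0) : z = 0 := by
  apply hK g hN (fun x j => funext fun i => @hW i (x i) j) hg
  rw [map_zero]
  have hdec : g = ∑ i, LinearMap.single A W i ∘ₗ (LinearMap.proj i ∘ₗ g) := by
    refine LinearMap.ext fun x => ?_
    rw [LinearMap.sum_apply]
    exact (Finset.univ_sum_single (g x)).symm
  rw [hdec, ← LinearMap.coe_rTensorHom, map_sum, LinearMap.sum_apply]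
  refine Finset.sum_eq_zero fun i _ => ?_
  rw [LinearMap.coe_rTensorHom, LinearMap.rTensor_comp, LinearMap.comp_apply, h i, map_zero]

theorem eq_zero_of_quotient {A : Type u} [CommRing A] (J : Ideal A) (M : Type u)
    [AddCommGroup M] [Module A M] (hK : Groth.Agent.LocalCrit.KeepsInjective J M) {r : ℕ}
    {N : Type u} [AddCommGroup N] [Module A N] (T : Submodule A N)
    (hN : Module.IsTorsionBySet A (N ⧸ T) J)
    (W : Fin r → Type u) [∀ i, AddCommGroup (W i)] [∀ i, Module A (W i)]
    (hW : ∀ i, Module.IsTorsionBySet A (W i) J)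
    (f : ∀ i, N →ₗ[A] W i) (hf : ∀ a, a ∈ T ↔ ∀ i, f i a = 0) (z : (N ⧸ T) ⊗[A] M)
    (h : ∀ i, ∀ φ : (N ⧸ T) →ₗ[A] W i, φ.rTensor M z = 0) : z = 0 := by
  let F : N →ₗ[A] ∀ i, W i := LinearMap.pi f
  have hker : LinearMap.ker F = T := by
    ext a; rw [LinearMap.mem_ker, hf, funext_iff]; rfl
  exact eq_zero_of_components J M hK hN W hW (T.liftQ F hker.ge)
    (LinearMap.ker_eq_bot.1 (Submodule.ker_liftQ_eq_bot _ _ _ hker.le)) z fun i => h i _

theorem rTensor_eq_zero_of_unit {A : Type u} [CommRing A] (J : Ideal A) (M : Type u)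
    [AddCommGroup M] [Module A M] {R : Type u} [CommRing R] [Algebra A R] {N W : Type u}
    [AddCommGroup N] [Module A N] [AddCommGroup W] [Module A W] [Module R W] [IsScalarTower A R W]
    (φ : N →ₗ[A] Submodule.torsionBySet A W J) (s : A) (u : Rˣ) (hu : (u : R) = algebraMap A R s)
    (z : N ⊗[A] M) (hsz : s • z = 0) : φ.rTensor M z = 0 := by
  have hsW : ∀ w : W, s • w = (u : R) • w := fun w => by rw [hu, algebraMap_smul]
  have hbij : Function.Bijective
      (s • LinearMap.id : Submodule.torsionBySet A W J →ₗ[A] Submodule.torsionBySet A W J) := by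
    constructor
    · intro a b hab
      have := congrArg Subtype.val hab
      simp only [LinearMap.smul_apply, LinearMap.id_apply, Submodule.coe_smul, hsW] at this
      exact Subtype.ext (u.isUnit.smul_left_cancel.1 this)
    · intro b
      refine ⟨⟨((u⁻¹ : Rˣ) : R) • (b : W),
        (Submodule.mem_torsionBySet_iff _ _).2 fun j => ?_⟩, Subtype.ext ?_⟩
      · rw [smul_comm, (Submodule.mem_torsionBySet_iff _ _).1 b.2 j, smul_zero]
      · simp only [LinearMap.smul_apply, LinearMap.id_apply, Submodule.coe_smul, hsW]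
        rw [smul_smul, Units.mul_inv, one_smul]
  have hinj := ((LinearEquiv.ofBijective _ hbij).rTensor M).injective
  have h2 : (s • LinearMap.id : Submodule.torsionBySet A W J →ₗ[A] _).rTensor M
      (φ.rTensor M z) = 0 := by
    rw [LinearMap.rTensor_smul, LinearMap.rTensor_id, LinearMap.smul_apply, LinearMap.id_apply,
      ← map_smul, hsz, map_zero]
  refine hinj ?_
  rw [map_zero]
  exact h2

theorem gr_to_localization {A : Type u} [CommRing A] (J p : Ideal A) [p.IsPrime] (n : ℕ)
    {I : Ideal A} (hI : ∀ a ∈ I, ∀ j ∈ J, algebraMap A (Localization.AtPrime p) (j * a) ∈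
      IsLocalRing.maximalIdeal (Localization.AtPrime p) ^ (n + 1)) :
    ∃ f : I →ₗ[A] Submodule.torsionBySet A (Localization.AtPrime p ⧸
        (IsLocalRing.maximalIdeal (Localization.AtPrime p) ^ (n + 1))) J,
      ∀ a, f a = 0 ↔ algebraMap A (Localization.AtPrime p) a ∈
        IsLocalRing.maximalIdeal (Localization.AtPrime p) ^ (n + 1) := by
  let D : I →ₗ[A] Localization.AtPrime p ⧸
        (IsLocalRing.maximalIdeal (Localization.AtPrime p) ^ (n + 1)) :=
    (Ideal.Quotient.mkₐ A _).toLinearMap ∘ₗ Algebra.linearMap A _ ∘ₗ I.subtype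
  refine ⟨D.codRestrict _ fun a => (Submodule.mem_torsionBySet_iff _ _).2 ?_, fun a =>
    Subtype.ext_iff.trans Ideal.Quotient.eq_zero_iff_mem⟩
  rintro ⟨j, hj⟩
  show j • D a = 0
  rw [← map_smul]
  exact Ideal.Quotient.eq_zero_iff_mem.2 (hI a a.2 j hj)

open Groth.Agent.LocalCrit Groth.Agent.IdealSep12 in
theorem back {A : Type u} [CommRing A] [IsNoetherianRing A]
    (J : Ideal A) (M : Type u) [AddCommGroup M] [Module A M]
    (hsep : ∀ a : Ideal A, IsHausdorff J (↥a ⊗[A] M))
    {r : ℕ} (p : Fin r → Ideal A) [∀ i, (p i).IsPrime] (hp : ∀ i, J ≤ p i)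
    (htop : ∀ n : ℕ, ∃ m : ℕ,
      ⨅ i, Ideal.comap (algebraMap A (Localization.AtPrime (p i))) (IsLocalRing.maximalIdeal (Localization.AtPrime (p i)) ^ m) ≤ J ^ n)
    (h0 : Module.Flat (A ⧸ J) ((A ⧸ J) ⊗[A] M))
    (hq : ∀ i, Module.Flat (Localization.AtPrime (p i)) (LocalizedModule (p i).primeCompl M)) :
    Module.Flat A M := by
  haveI := h0
  have hK : KeepsInjective J M := keepsInjective_of_flat J M
  let K : ℕ → Ideal A := fun n =>
    ⨅ i, Ideal.comap (algebraMap A (Localization.AtPrime (p i))) (IsLocalRing.maximalIdeal (Localization.AtPrime (p i)) ^ n)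
  have hmem : ∀ {n} {a : A}, a ∈ K n ↔ ∀ i, algebraMap A (Localization.AtPrime (p i)) a ∈
      IsLocalRing.maximalIdeal (Localization.AtPrime (p i)) ^ n := fun {n a} => by
    simp only [K, Submodule.mem_iInf, Ideal.mem_comap]
  have hJmax : ∀ i, ∀ j ∈ J, algebraMap A (Localization.AtPrime (p i)) j ∈
      IsLocalRing.maximalIdeal (Localization.AtPrime (p i)) := fun i j hj =>
    (IsLocalization.AtPrime.to_map_mem_maximal_iff (Localization.AtPrime (p i)) (p i) j).2 (hp i hj)
  have hJK : ∀ n, J * K n ≤ K (n + 1) := fun n => Ideal.mul_le.2 fun j hj k hk => hmem.2 fun i => by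
    rw [map_mul, pow_succ']
    exact Ideal.mul_mem_mul (hJmax i j hj) (hmem.1 hk i)
  refine flat_of_filtration J hsep hK K (by simp [K]) (fun n a ha => hmem.2 fun i =>
    Ideal.pow_le_pow_right n.le_succ (hmem.1 ha i)) hJK htop fun n => ?_
  rw [← LinearMap.ker_eq_bot, eq_bot_iff]
  intro z hz
  rw [LinearMap.mem_ker] at hz
  rw [Submodule.mem_bot]
  have hI : ∀ i, ∀ a ∈ K n, ∀ j ∈ J, algebraMap A (Localization.AtPrime (p i)) (j * a) ∈
      IsLocalRing.maximalIdeal (Localization.AtPrime (p i)) ^ (n + 1) := fun i a ha j hj =>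
    hmem.1 (hJK n (Ideal.mul_mem_mul hj ha)) i
  choose f hf using fun i => gr_to_localization J (p i) n (hI i)
  refine eq_zero_of_quotient J M hK _ (gr_torsion J K hJK n)
    (fun i => Submodule.torsionBySet A (Localization.AtPrime (p i) ⧸
      (IsLocalRing.maximalIdeal (Localization.AtPrime (p i)) ^ (n + 1))) (J : Set A))
    ?_ f ?_ z fun i φ => ?_
  · intro i x j
    exact Subtype.ext ((Submodule.mem_torsionBySet_iff _ _).1 x.2 j)
  · intro a
    rw [Submodule.mem_comap, Submodule.subtype_apply, hmem]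
    exact forall_congr' fun i => (hf i a).symm
  haveI := hq i
  obtain ⟨s, hs, hsz⟩ := exists_smul_eq_zero (p i) _ (iota_injective K n) z hz
  obtain ⟨u, hu⟩ := IsLocalization.map_units (Localization.AtPrime (p i)) (⟨s, hs⟩ : (p i).primeCompl)
  exact rTensor_eq_zero_of_unit J M (R := Localization.AtPrime (p i)) φ s u hu z hsz

/-- Let A be a Noetherian ring, J an ideal of A and M an A-module which is ideally separated for the
J-adic topology (for every ideal a of A the module a ⊗_A M is J-adically separated). Let (p_i) be a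
finite family of prime ideals of A containing J, let J_n be the intersection of the symbolic powers
p_i^{(n)} (preimages in A of the n-th powers of the maximal ideals of the local rings A_{p_i}), and
assume every power J^n contains some J_m. Then M is flat if and only if (A/J) ⊗_A M is flat over A/J
and M_{p_i} is flat over A_{p_i} for every i. -/
theorem result {A : Type u} [CommRing A] [IsNoetherianRing A]
    (J : Ideal A) (M : Type u) [AddCommGroup M] [Module A M]
    (hsep : ∀ a : Ideal A, IsHausdorff J (↥a ⊗[A] M))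
    {r : ℕ} (p : Fin r → Ideal A) [∀ i, (p i).IsPrime] (hp : ∀ i, J ≤ p i)
    (htop : ∀ n : ℕ, ∃ m : ℕ,
      ⨅ i, Ideal.comap (algebraMap A (Localization.AtPrime (p i))) (IsLocalRing.maximalIdeal (Localization.AtPrime (p i)) ^ m) ≤ J ^ n) :
    Module.Flat A M ↔
      Module.Flat (A ⧸ J) ((A ⧸ J) ⊗[A] M) ∧
        ∀ i, Module.Flat (Localization.AtPrime (p i)) (LocalizedModule (p i).primeCompl M) := by
  refine ⟨fun h => ⟨inferInstance, fun i => Module.Flat.localizedModule _⟩,
    fun h => back J M hsep p hp htop h.1 h.2⟩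

end Groth.Agent.S5911
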