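import Groth.Statements.S5912
import Mathlib
import Groth.Agent.IdealSep12.Core
-- import your own Groth.Agent.* helpers here

set_option autoImplicit false
universe u
open TensorProduct
open EGA43

namespace Groth.Agent.S5912

open Groth.Agent.LocalCrit Groth.Agent.IdealSep12 in
theorem back {A : Type u} [CommRing A] [IsNoetherianRing A] (J : Ideal A) (M : Type u)
    [AddCommGroup M] [Module A M] (hsep : ∀ a : Ideal A, IsHausdorff J (↥a ⊗[A] M))
    (hgr : ∀ k : ℕ, Module.Flat (A ⧸ J) ((A ⧸ J) ⊗[A] ↥(J ^ k)))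
    (h0 : Module.Flat (A ⧸ J) ((A ⧸ J) ⊗[A] M))
    (hq : ∀ q : associatedPrimes A (A ⧸ J),
          haveI : q.1.IsPrime := IsAssociatedPrime.isPrime q.2
          Module.Flat (Localization.AtPrime q.1) (LocalizedModule q.1.primeCompl M)) :
    Module.Flat A M := by
  haveI := h0
  have hK : KeepsInjective J M := keepsInjective_of_flat J M
  refine flat_of_filtration J hsep hK (fun n => J ^ n) (by simp)
    (fun n => Ideal.pow_le_pow_right n.le_succ) (fun n => (pow_succ' J n).ge) (fun N => ⟨N, le_rfl⟩)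
    fun n => ?_
  rw [← LinearMap.ker_eq_bot, eq_bot_iff]
  intro z hz
  rw [LinearMap.mem_ker] at hz
  let ann : Ideal A := LinearMap.ker (LinearMap.toSpanSingleton A _ z)
  have hnot : ¬ (ann : Set A) ⊆ ⋃ q ∈ associatedPrimes A (A ⧸ J), (q : Set A) := by
    rw [Ideal.subset_union_prime_finite (associatedPrimes.finite A (A ⧸ J)) ⊥ ⊥
      (fun q hq' _ _ => IsAssociatedPrime.isPrime hq')]
    rintro ⟨q, hq', hle⟩
    haveI : q.IsPrime := IsAssociatedPrime.isPrime hq'
    haveI := hq ⟨q, hq'⟩
    obtain ⟨s, hs, hsz⟩ := exists_smul_eq_zero q _ (iota_injective (fun n => J ^ n) n) z hz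
    exact hs (hle (show s ∈ ann by simpa [ann, LinearMap.mem_ker] using hsz))
  obtain ⟨s, hs, hns⟩ := Set.not_subset.1 hnot
  rw [biUnion_associatedPrimes_eq_zero_divisors] at hns
  have hreg : Function.Injective (s • LinearMap.id : (A ⧸ J) →ₗ[A] A ⧸ J) := by
    refine (injective_iff_map_eq_zero _).2 fun x hx => ?_
    by_contra hx0
    exact hns ⟨x, hx0, hx⟩
  haveI := hgr n
  have htq : Module.IsTorsionBySet A (A ⧸ J) J := by
    rintro y ⟨a, ha⟩
    obtain ⟨y, rfl⟩ := Ideal.Quotient.mk_surjective y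
    exact Ideal.Quotient.eq_zero_iff_mem.mpr (J.mul_mem_right y ha)
  have hT : Function.Injective ((s • LinearMap.id : (A ⧸ J) →ₗ[A] A ⧸ J).rTensor ↥(J ^ n)) :=
    keepsInjective_of_flat J ↥(J ^ n) _ htq htq hreg
  have hcomap : Submodule.comap (J ^ n).subtype (J ^ (n + 1)) = (J • ⊤ : Submodule A ↥(J ^ n)) := by
    refine (?_ : _ = _).trans (Submodule.comap_map_eq_of_injective (J ^ n).injective_subtype _)
    congr 1
    rw [Submodule.map_smul'', Submodule.map_top, Submodule.range_subtype, Ideal.smul_eq_mul, pow_succ']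
  let e : ((A ⧸ J) ⊗[A] ↥(J ^ n)) ≃ₗ[A] (↥(J ^ n) ⧸ Submodule.comap (J ^ n).subtype (J ^ (n + 1))) :=
    (TensorProduct.quotTensorEquivQuotSMul (↥(J ^ n)) J).trans (Submodule.quotEquivOfEq _ _ hcomap.symm)
  have hsG : Function.Injective
      (s • LinearMap.id : (↥(J ^ n) ⧸ Submodule.comap (J ^ n).subtype (J ^ (n + 1))) →ₗ[A] _) := by
    intro x y hxy
    obtain ⟨x, rfl⟩ := e.surjective x
    obtain ⟨y, rfl⟩ := e.surjective y
    refine congrArg e (hT ?_)
    rw [LinearMap.rTensor_smul, LinearMap.rTensor_id]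
    apply e.injective
    simpa [map_smul] using hxy
  have hG := gr_torsion J (fun n => J ^ n) (fun n => (pow_succ' J n).ge) n
  have hfin := hK (s • LinearMap.id) hG hG hsG
  rw [LinearMap.rTensor_smul, LinearMap.rTensor_id] at hfin
  have hsz : s • z = 0 := by simpa [ann, LinearMap.mem_ker] using hs
  refine (Submodule.mem_bot A).2 (hfin ?_)
  simpa using hsz

/-- Let A be a Noetherian ring, J an ideal of A and M an A-module which is ideally separated for the
J-adic topology (for every ideal a of A the module a ⊗_A M is J-adically separated), and suppose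
every quotient J^k/J^{k+1} is a flat (A/J)-module (the associated graded ring of A along J is flat
over A/J). Then M is flat if and only if (A/J) ⊗_A M is flat over A/J and M_p is flat over A_p for
every associated prime p of the A-module A/J. -/
theorem result {A : Type u} [CommRing A] [IsNoetherianRing A]
    (J : Ideal A) (M : Type u) [AddCommGroup M] [Module A M]
    (hsep : ∀ a : Ideal A, IsHausdorff J (↥a ⊗[A] M))
    (hgr : ∀ k : ℕ, Module.Flat (A ⧸ J) ((A ⧸ J) ⊗[A] ↥(J ^ k))) :
    Module.Flat A M ↔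
      Module.Flat (A ⧸ J) ((A ⧸ J) ⊗[A] M) ∧
        ∀ q : associatedPrimes A (A ⧸ J),
          haveI : q.1.IsPrime := IsAssociatedPrime.isPrime q.2
          Module.Flat (Localization.AtPrime q.1) (LocalizedModule q.1.primeCompl M) := by
  refine ⟨fun h => ⟨inferInstance, fun q => ?_⟩, fun h => back J M hsep hgr h.1 h.2⟩
  haveI : q.1.IsPrime := IsAssociatedPrime.isPrime q.2
  exact Module.Flat.localizedModule _

end Groth.Agent.S5912
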