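import Groth.Statements.S5913
import Groth.Agent.S3431
import Groth.Agent.Goldman.Scheme

set_option autoImplicit false
universe u
open CategoryTheory AlgebraicGeometry
open EGA43

namespace Groth.Agent.S5913

open Groth.Agent.Goldman

/-- In the locally Noetherian form: a locally Noetherian scheme X is Jacobson if and only if it has no
subscheme isomorphic to the spectrum of a semi-local integral domain of dimension 1, i.e. there is
no immersion Spec R ⟶ X with R an integral domain having finitely many maximal ideals and Krull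
dimension 1. -/
theorem result (X : Scheme.{u}) [IsLocallyNoetherian X] :
    JacobsonSpace X ↔
      ∀ (R : CommRingCat.{u}) [IsDomain R] (i : Spec R ⟶ X) [IsImmersion i],
        ¬ (Finite (MaximalSpectrum R) ∧ ringKrullDim R = 1) := by
  constructor
  · intro hJ R _ i _ ⟨hfin, hdim⟩
    haveI : IsLocallyNoetherian (Spec R) := LocallyOfFiniteType.isLocallyNoetherian i
    haveI : IsNoetherianRing R := isLocallyNoetherian_Spec.mp inferInstance
    haveI : JacobsonSpace (Spec R) := by
      rw [jacobsonSpace_iff_locallyClosed]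
      intro Z hne hZ
      obtain ⟨_, ⟨z, hz, rfl⟩, hzc⟩ := nonempty_inter_closedPoints (hne.image i.base)
        (hZ.image i.isEmbedding.isInducing i.isLocallyClosed_range)
      exact ⟨z, hz, preimage_closedPoints_subset i.isEmbedding.injective i.continuous hzc⟩
    haveI : IsJacobsonRing R := PrimeSpectrum.isJacobsonRing_iff_jacobsonSpace.mpr ‹JacobsonSpace (Spec R)›
    haveI := hfin
    obtain ⟨hnf, hmax⟩ := dim_eq_one_iff.mp hdim
    obtain ⟨f, hf, hA⟩ := exists_inAll_of_semilocal hmax
    have e : Nonempty ((R : Type u) ⧸ (⊥ : Ideal R) ≃+* R) := ⟨RingEquiv.quotientBot R⟩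
    obtain ⟨e⟩ := e
    haveI : (⊥ : Ideal R).IsPrime := Ideal.isPrime_bot
    refine (Groth.Agent.S3431.result R).mp inferInstance ⊥
      ⟨?_, (ringKrullDim_eq_of_ringEquiv e).trans hdim⟩
    haveI : Finite (PrimeSpectrum R) := (structure_of_inAll hf hA).2
    haveI : Finite (PrimeSpectrum ((R : Type u) ⧸ (⊥ : Ideal R))) :=
      Finite.of_injective _ (PrimeSpectrum.comap_injective_of_surjective e.symm.toRingHom e.symm.surjective)
    exact Finite.of_injective MaximalSpectrum.toPrimeSpectrum MaximalSpectrum.toPrimeSpectrum_injective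
  · intro h
    rw [jacobsonSpace_iff_lc_closed]
    intro x hx
    refine closure_subset_iff_isClosed.mp fun w hw => ?_
    by_contra hne
    obtain ⟨_, ⟨U, hU, rfl⟩, hwU, -⟩ :=
      X.isBasis_affineOpens.exists_subset_of_mem_open (Set.mem_univ w) isOpen_univ
    have hxw : x ⤳ w := specializes_iff_mem_closure.mpr hw
    have hxU : x ∈ U := hxw.mem_open U.isOpen hwU
    haveI : IsNoetherianRing Γ(X, U) := IsLocallyNoetherian.component_noetherian ⟨U, hU⟩
    let e : ↥U ≃ₜ PrimeSpectrum Γ(X, U) := Scheme.homeoOfIso hU.isoSpec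
    let q := e ⟨x, hxU⟩
    haveI := q.2
    let R : CommRingCat.{u} := CommRingCat.of (Γ(X, U) ⧸ q.asIdeal)
    haveI : IsClosedImmersion (Spec.map (CommRingCat.ofHom (Ideal.Quotient.mk q.asIdeal))) :=
      IsClosedImmersion.spec_of_surjective _ Ideal.Quotient.mk_surjective
    haveI : IsDomain R := Ideal.Quotient.isDomain q.asIdeal
    have hlc : IsLocallyClosed ({q} : Set (PrimeSpectrum Γ(X, U))) := by
      have h1 := hx.preimage (continuous_subtype_val (p := fun y => y ∈ U))
      rw [show ((Subtype.val : U → X) ⁻¹' {x}) = {(⟨x, hxU⟩ : U)} by ext y; simp [Subtype.ext_iff]] at h1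
      have e' : e.symm ⁻¹' {(⟨x, hxU⟩ : U)} = {q} := by ext p; simp [q, Homeomorph.symm_apply_eq]
      exact e' ▸ h1.preimage e.symm.continuous
    have hspec := (finite_closure_spec hlc).1
    haveI : Finite (PrimeSpectrum (Γ(X, U) ⧸ q.asIdeal)) := by
      have hinj := PrimeSpectrum.comap_injective_of_surjective (Ideal.Quotient.mk q.asIdeal) Ideal.Quotient.mk_surjective
      refine Set.finite_univ_iff.mp ((hspec.preimage hinj.injOn).subset fun r _ => ?_)
      rw [Set.mem_preimage, ← specializes_iff_mem_closure, ← PrimeSpectrum.le_iff_specializes]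
      intro y hy
      change Ideal.Quotient.mk q.asIdeal y ∈ r.asIdeal
      rw [Ideal.Quotient.eq_zero_iff_mem.mpr hy]
      exact r.asIdeal.zero_mem
    obtain ⟨f, hf, hA⟩ := exists_inAll_of_finite_spectrum (B := Γ(X, U) ⧸ q.asIdeal)
    refine h R (Spec.map (CommRingCat.ofHom (Ideal.Quotient.mk q.asIdeal)) ≫ hU.fromSpec)
      ⟨Finite.of_injective MaximalSpectrum.toPrimeSpectrum MaximalSpectrum.toPrimeSpectrum_injective,
        dim_eq_one_iff.mpr ⟨fun hF => ?_, fun r hr hr0 => ((structure_of_inAll hf hA).1 r hr hr0).2⟩⟩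
    have hm := (Ideal.Quotient.maximal_ideal_iff_isField_quotient q.asIdeal).mpr hF
    have hq := (PrimeSpectrum.isClosed_singleton_iff_isMaximal q).mpr hm
    have hs : q ⤳ e ⟨w, hwU⟩ := ((subtype_specializes_iff ⟨x, hxU⟩ ⟨w, hwU⟩).mpr hxw).map e.continuous
    exact hne (congrArg Subtype.val (e.injective (Set.eq_of_mem_singleton (hs.mem_closed hq (Set.mem_singleton q)))))

end Groth.Agent.S5913
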