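import Groth.Statements.S5915
import Groth.Agent.GrFlat5.FlatAtFamily
import Groth.Agent.FlatFin5.Topology

set_option autoImplicit false
universe u
open CategoryTheory AlgebraicGeometry
open EGA43

namespace Groth.Agent.S5915

open CategoryTheory.Limits in
/-- Let Y be locally Noetherian, f : X ⟶ Y locally of finite type, F a coherent O_X-module, x a point of
X and y = f x. Let φ : O_{Y,y} ⟶ A' be an injective ring homomorphism which is finite (A' finitely
generated as an O_{Y,y}-module), Y' = Spec A' ⟶ Y the induced Y-scheme, X' = X ×_Y Y' and F' the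
pullback of F to X'. Then F is f-flat at x if and only if F' is flat over Y' at every point of X'
lying over x and over a closed point of Y'. (The published statement treats more generally a Zariski
ring A' whose radical pulls back to the maximal ideal and whose map on completions is injective;
this row is the case of a finite algebra with injective structure map, in which those conditions
hold.) -/
theorem result {X Y : Scheme.{u}} [IsLocallyNoetherian Y]
    (f : X ⟶ Y) [LocallyOfFiniteType f] (F : X.Modules) (hF : Coh.IsCoh F) (x : X)
    (A' : CommRingCat.{u}) (φ : Y.presheaf.stalk (f.base x) ⟶ A') (hfin : φ.hom.Finite)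
    (hinj : Function.Injective φ.hom) :
    FlatMod.IsFlatOverAt f F x ↔
      ∀ x' : ↥(pullback f (Spec.map φ ≫ Y.fromSpecStalk (f.base x))), pullback.fst f (Spec.map φ ≫ Y.fromSpecStalk (f.base x)) x' = x →
        IsClosed ({pullback.snd f (Spec.map φ ≫ Y.fromSpecStalk (f.base x)) x'} : Set ↥(Spec A')) →
          FlatMod.IsFlatOverAt (pullback.snd f (Spec.map φ ≫ Y.fromSpecStalk (f.base x))) ((Scheme.Modules.pullback (pullback.fst f (Spec.map φ ≫ Y.fromSpecStalk (f.base x)))).obj F) x' := by
    constructor
    · intro h x' hx' _
      exact MorLib.FlatBC.isFlatOverAt_baseChange _ _ (pullback.fst f (Spec.map φ ≫ Y.fromSpecStalk (f.base x)))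
        (Spec.map φ ≫ Y.fromSpecStalk (f.base x)) (IsPullback.of_hasPullback _ _) _ x' (hx'.symm ▸ h)
    · intro h
      letI := φ.hom.toAlgebra
      haveI : Module.Finite (Y.presheaf.stalk (f.base x)) A' := hfin
      haveI : ∀ m : MaximalSpectrum A', IsLocalHom
          ((algebraMap A' (Localization.AtPrime m.asIdeal)).comp φ.hom) := fun m => by
        haveI := m.isMaximal
        refine ⟨fun a ha => ?_⟩
        by_contra hna
        have h1 : φ.hom a ∈ m.asIdeal := (FlatFin5.comap_eq_of_isMaximal (A := Y.presheaf.stalk (f.base x)) m).ge hna
        exact (IsLocalization.AtPrime.isUnit_to_map_iff (Localization.AtPrime m.asIdeal) m.asIdeal (φ.hom a)).1 ha h1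
      refine GrFlat5.flatAt_of_local_family f F hF x (fun m : MaximalSpectrum A' => Localization.AtPrime m.asIdeal)
        (fun m => (algebraMap A' (Localization.AtPrime m.asIdeal)).comp φ.hom)
        (fun N => FlatFin5.exists_finset_iInf_comap_le hinj N) fun m x' h1 h2 => ?_
      refine GrFlat5.isFlatOverAt_baseChange_comp f (Spec.map φ ≫ Y.fromSpecStalk (f.base x)) _
        (Spec.map (CommRingCat.ofHom (algebraMap A' (Localization.AtPrime m.asIdeal)))) ?_ F x
        (IsLocalRing.closedPoint _) x' h1 h2 fun x'' hx'' hsnd => h x'' hx'' ?_
      · rw [← Category.assoc, ← Spec.map_comp]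
        rfl
      · rw [hsnd]
        refine (PrimeSpectrum.isClosed_singleton_iff_isMaximal _).2 ?_
        show (Ideal.comap (algebraMap A' (Localization.AtPrime m.asIdeal))
        (IsLocalRing.maximalIdeal (Localization.AtPrime m.asIdeal))).IsMaximal
        rw [← Ideal.under_def, IsLocalization.AtPrime.under_maximalIdeal (Localization.AtPrime m.asIdeal) m.asIdeal]
        exact m.isMaximal

end Groth.Agent.S5915
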