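import Groth.Statements.S5918
import Groth.Agent.GrFlat5.FlatAtArtin
import Groth.Agent.GrFlat5.FlatAtIso
import Mathlib.AlgebraicGeometry.Stalk

set_option autoImplicit false
universe u
open CategoryTheory AlgebraicGeometry
open EGA43

namespace Groth.Agent.S5918

open CategoryTheory.Limits in
/-- Let A be an Artinian local ring, f : X ⟶ Spec A locally of finite type, F a coherent O_X-module and
x a point of X. Let (g_i : Y_i ⟶ Spec A) be a family of A-schemes such that an element of A whose
image in every Γ(Y_i, O_{Y_i}) is zero is itself zero. If, for every i, the pullback of F to X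
×_{Spec A} Y_i is flat over Y_i at every point lying over x, then F is f-flat at x. -/
theorem result {A : Type u} [CommRing A]
    [IsArtinianRing A] [IsLocalRing A] {X : Scheme.{u}} (f : X ⟶ Spec (CommRingCat.of A))
    [LocallyOfFiniteType f] (F : X.Modules) (hF : Coh.IsCoh F) (x : X)
    {ι : Type u} (Y : ι → Scheme.{u}) (g : ∀ i, Y i ⟶ Spec (CommRingCat.of A))
    (hg : ∀ a : A, (∀ i, (g i).appTop ((Scheme.ΓSpecIso (CommRingCat.of A)).inv a) = 0) → a = 0)
    (hflat : ∀ (i : ι) (x' : ↥(pullback f (g i))), pullback.fst f (g i) x' = x →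
      FlatMod.IsFlatOverAt (pullback.snd f (g i)) ((Scheme.Modules.pullback (pullback.fst f (g i))).obj F) x') :
    FlatMod.IsFlatOverAt f F x := by
  let v : ∀ p : (Σ i, ↥(Y i)), A →+* (Y p.1).presheaf.stalk p.2 := fun p =>
    ((Scheme.ΓSpecIso (CommRingCat.of A)).inv ≫ (g p.1).appTop ≫ (Y p.1).presheaf.germ ⊤ p.2 trivial).hom
  refine Groth.Agent.GrFlat5.flatAt_of_family f F hF x (fun p : (Σ i, ↥(Y i)) => ↑((Y p.1).presheaf.stalk p.2)) v ?_ ?_
  · intro a ha
    refine hg a fun i => ?_
    refine TopCat.Presheaf.section_ext (Y i).sheaf ⊤ _ _ fun y hy => ?_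
    refine Eq.trans ?_ (map_zero _).symm
    exact ha ⟨i, y⟩
  · rintro ⟨i, y⟩ x'' h₁ h₂
    refine Groth.Agent.GrFlat5.isFlatOverAt_baseChange_comp f (g i) _ ((Y i).fromSpecStalk y) ?_ F x
      (IsLocalRing.closedPoint _) x'' h₁ h₂ fun x' h _ => hflat i x' h
    show (Y i).fromSpecStalk y ≫ g i = Spec.map ((Scheme.ΓSpecIso (CommRingCat.of A)).inv ≫ (g i).appTop ≫
      (Y i).presheaf.germ ⊤ y trivial)
    have h := Scheme.toSpecΓ_naturality (g i)
    rw [← cancel_mono (Spec (CommRingCat.of A)).toSpecΓ, Category.assoc, h, Scheme.fromSpecStalk_toSpecΓ_assoc,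
      ← SpecMap_ΓSpecIso_hom]
    simp only [← Spec.map_comp, Category.assoc, Iso.hom_inv_id_assoc]

end Groth.Agent.S5918
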