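import Groth.Statements.S5921
import Groth.Agent.Codepth5.Sk

set_option autoImplicit false
open CategoryTheory AlgebraicGeometry
universe u
open EGA43

namespace Groth.Agent.S5921

/-- Let f : X ⟶ Y be a morphism locally of finite presentation and F a finitely presented O_X-module
which is f-flat; for x in X write F_{f x} for the restriction of F to the fibre of f through x. The
rectified depth of F_{f x} at x is the depth of its stalk at x over the local ring of the fibre at x
plus the dimension of the closure of x inside the fibre. Then this function of x is lower
semicontinuous on X: for every natural number n, the set of points x with prof((F_{f x})_x) + dim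
cl{x} ≥ n (closure taken in the fibre) is open in X. -/
theorem result {X Y : Scheme.{u}} (f : X ⟶ Y) [LocallyOfFinitePresentation f]
    (F : X.Modules) (hF : CohB1.IsFP F) (hflat : FlatMod.IsFlatOver f F) (n : ℕ) :
    IsOpen {x : X | (n : WithBot ℕ∞) ≤
      ((LocCoh.depth ((f.fiber (f.base x)).presheaf.stalk (f.asFiber x)) (((Scheme.Modules.pullback (f.fiberι (f.base x))).obj F).presheaf.stalk (f.asFiber x)) : ℕ∞) : WithBot ℕ∞) +
        topologicalKrullDim ↥(closure ({f.asFiber x} : Set ↥(f.fiber (f.base x))))} := by
  exact Codepth5.isOpen_rect f F hF hflat n

end Groth.Agent.S5921
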