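import Groth.Statements.S5922
import Groth.Agent.Codepth5.CM

set_option autoImplicit false
open CategoryTheory AlgebraicGeometry
universe u
open EGA43

namespace Groth.Agent.S5922

/-- Let f : X ⟶ Y be a morphism locally of finite presentation and n a natural number. The set of points
x of X such that f is flat at x and the local ring at x of the fibre of f through x has codepth at
most n, i.e. its Krull dimension is at most its depth plus n, is open in X. -/
theorem result {X Y : Scheme.{u}} (f : X ⟶ Y) [LocallyOfFinitePresentation f]
    (n : ℕ) :
    IsOpen {x : X | (f.stalkMap x).hom.Flat ∧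
      ringKrullDim ((f.fiber (f.base x)).presheaf.stalk (f.asFiber x)) ≤
        ((LocCoh.depth ((f.fiber (f.base x)).presheaf.stalk (f.asFiber x)) ((f.fiber (f.base x)).presheaf.stalk (f.asFiber x)) : ℕ∞) : WithBot ℕ∞) + n} := by
  convert Codepth5.isOpen_cod_self f n using 1
  ext x
  simp only [Set.mem_setOf_eq, Codepth5.Cod, Module.supportDim_self_eq_ringKrullDim]

end Groth.Agent.S5922
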