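import Groth.Statements.S5929
import Groth.Agent.FlatSyz5.Resolution

set_option autoImplicit false
universe u
open TensorProduct CategoryTheory
open EGA43

namespace Groth.Agent.S5929

/-- Let A be a commutative ring, B a finitely presented A-algebra which is flat as an A-module, and M a
finitely presented B-module which is flat as an A-module. Then M admits a left resolution by free
B-modules of finite type: there is a projective resolution of M in the category of B-modules (a
chain complex of projective modules with a quasi-isomorphism to M in degree 0) every term of which
is a finitely generated free B-module. -/
theorem result (A B M : Type u) [CommRing A] [CommRing B] [Algebra A B]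
    [Algebra.FinitePresentation A B] [Module.Flat A B] [AddCommGroup M] [Module B M] [Module A M]
    [IsScalarTower A B M] [Module.FinitePresentation B M] [Module.Flat A M] :
    ∃ P : ProjectiveResolution (ModuleCat.of B M),
      ∀ n : ℕ, Module.Finite B (P.complex.X n) ∧ Module.Free B (P.complex.X n) := by
  exact Groth.Agent.FlatSyz5.exists_projectiveResolution A B M

end Groth.Agent.S5929
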