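import Groth.Statements.S5933
import Groth.Agent.Codepth5.OpenRk

set_option autoImplicit false
open CategoryTheory AlgebraicGeometry
universe u
open EGA43

namespace Groth.Agent.S5933

/-- Let f : X ⟶ Y be a proper, flat morphism of finite presentation. The set of points y of Y whose
fibre X_y is geometrically normal over κ(y) — for every point x of X_y, every finite field extension
K of κ(y) and every point x' over x of the base change of X_y to K, the local ring at x' is an
integrally closed domain — is open in Y. -/
theorem result {X Y : Scheme.{u}} (f : X ⟶ Y) [IsProper f] [Flat f]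
    [LocallyOfFinitePresentation f] :
    IsOpen {y : Y | ∀ x : ↥(f.fiber y), (∀ (K : Type u) [Field K] [Algebra (IsLocalRing.ResidueField (Y.presheaf.stalk y)) K],
        Module.Finite (IsLocalRing.ResidueField (Y.presheaf.stalk y)) K →
        ∀ x' : ↥(FBase.bc (f.fiberToSpecResidueField y) K),
          (FBase.bcπ (f.fiberToSpecResidueField y) K).base x' = x →
          IsDomain ((FBase.bc (f.fiberToSpecResidueField y) K).presheaf.stalk x') ∧
            IsIntegrallyClosed ((FBase.bc (f.fiberToSpecResidueField y) K).presheaf.stalk x'))} := by
    convert Groth.Agent.Codepth5.isOpen_base f (Groth.Agent.Codepth5.isOpen_normal f) using 1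
    ext y
    constructor
    · intro h x hx
      subst hx
      obtain ⟨h1, h2⟩ := (Groth.Agent.Codepth5.normal_fibre_iff f _ (f.asFiber x)).1 (h (f.asFiber x))
      exact ⟨Flat.stalkMap f x, by rwa [Scheme.Hom.fiberι_asFiber] at h1, h2⟩
    · intro h x
      refine (Groth.Agent.Codepth5.normal_fibre_iff f y x).2 ?_
      refine Groth.Agent.Codepth5.fibre_induction f (fun y w => (∀ x', f.base x' = y →
        (f.stalkMap x').hom.Flat ∧ Groth.Agent.Codepth5.RkCond f 1 x' ∧
          Groth.Agent.Codepth5.FibP (Groth.Agent.Codepth5.SkR 2) f x') →
        Groth.Agent.Codepth5.RkCond f 1 (f.fiberι y w) ∧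
          Groth.Agent.Codepth5.SkR 2 ((f.fiber y).presheaf.stalk w)) (fun x h => ?_) y x h
      rw [Scheme.Hom.fiberι_asFiber]
      exact (h x rfl).2

end Groth.Agent.S5933
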