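import Groth.Statements.S5937
import Groth.Agent.Synt29.OmegaMaps
import Groth.Agent.Synt29.StalkFormal
import Mathlib

set_option autoImplicit false
universe u
open CategoryTheory CategoryTheory.Limits AlgebraicGeometry
open Unram17

namespace Groth.Agent.S5937

/-- Take a morphism of schemes f : X ⟶ Y and an O_X-module Ω' equipped with a universal Y-derivation d :
O_X → Ω' (so that Ω' is a sheaf of differentials of X over Y). Then f is formally unramified if and
only if Ω' is a zero object of the category of O_X-modules. -/
theorem result {X Y : Scheme.{u}} (f : X ⟶ Y)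
    (Ω' : X.Modules) (d : OmegaSh.Der f Ω') (hd : OmegaSh.IsUniversal d) :
    FormallyUnramified f ↔ IsZero Ω' := by
  
  rw [Groth.Agent.Synt29.StalkFormal.formallyUnramified_iff_stalkMap]
  constructor
  · intro h
    refine Groth.Agent.KFlatLib.isZero_of_stalk Ω' fun x => ?_
    have := Groth.Agent.Synt29.OmegaStalk.isIso_toStalk hd x
    let _ := (f.stalkMap x).hom.toAlgebra
    have : Algebra.FormallyUnramified (Y.presheaf.stalk (f x)) (X.presheaf.stalk x) := h x
    have : Subsingleton (CommRingCat.KaehlerDifferential (f.stalkMap x)) :=
      Algebra.FormallyUnramified.subsingleton_kaehlerDifferential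
    exact (ModuleCat.isZero_of_subsingleton _).of_iso
      (asIso (Groth.Agent.Synt29.OmegaStalk.toStalk d x)).symm
  · intro h x
    have := Groth.Agent.Synt29.OmegaStalk.isIso_toStalk hd x
    have h1 : IsZero (CommRingCat.KaehlerDifferential (f.stalkMap x)) :=
      (Functor.map_isZero (DerSch.stalkFunctor X x) h).of_iso
        (asIso (Groth.Agent.Synt29.OmegaStalk.toStalk d x))
    let _ := (f.stalkMap x).hom.toAlgebra
    show Algebra.FormallyUnramified (Y.presheaf.stalk (f x)) (X.presheaf.stalk x)
    rw [Algebra.formallyUnramified_iff]
    exact ModuleCat.subsingleton_of_isZero h1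

end Groth.Agent.S5937
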