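import Groth.Statements.S5947
import Groth.Agent.Synt29.OmegaAffine

set_option autoImplicit false
universe u
open CategoryTheory AlgebraicGeometry TopologicalSpace
open Nrm16

namespace Groth.Agent.S5947

section

variable (A B : Type u) [CommRing A] [CommRing B] [Algebra A B] (L : Type u) [AddCommGroup L] [Module B L]

noncomputable abbrev LT : (Spec (CommRingCat.of B)).Modules :=
  tilde (ModuleCat.of (CommRingCat.of B) L)

/-- An element as a global section. -/
noncomputable def topL : L →+ Γ(LT B L, ⊤) where
  toFun z := (tilde.isoTop (ModuleCat.of (CommRingCat.of B) L)).hom z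
  map_zero' := map_zero (tilde.isoTop (ModuleCat.of (CommRingCat.of B) L)).hom.hom
  map_add' := map_add (tilde.isoTop (ModuleCat.of (CommRingCat.of B) L)).hom.hom

theorem topL_bijective : Function.Bijective (topL B L) :=
  ConcreteCategory.bijective_of_isIso (tilde.isoTop (ModuleCat.of (CommRingCat.of B) L)).hom

theorem topL_smul (b : B) (z : L) : topL B L (b • z) = OmAff.toΓ B b • topL B L z := by
  refine ((tilde.toOpen (R := CommRingCat.of B) (ModuleCat.of (CommRingCat.of B) L) ⊤).hom.map_smul b z).trans ?_
  exact congrArg (fun c : Γ(Spec (CommRingCat.of B), ⊤) => c • topL B L z) (OmegaLib.toΓ_res B b)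

variable {A B L}

theorem exists_derivation [Module A L] [IsScalarTower A B L]
    (D : OmegaSh.Der (OmegaLib.sMap A B) (LT B L)) :
    ∃ δ : Derivation A B L, ∀ t : B, D.app ⊤ (OmAff.toΓ B t) = topL B L (δ t) := by
  choose g hg using fun t : B => (topL_bijective B L).2 (D.app ⊤ (OmAff.toΓ B t))
  have hA : ∀ a : A, D.app ⊤ (OmAff.toΓ B (algebraMap A B a)) = 0 := fun a => by
    rw [← OmAff.appTop_toΓ]
    exact Synt29.OmegaStalk.app_base (LT B L) D ⊤ (OmAff.toΓ A a)
  refine ⟨{ toFun := g, map_add' := fun x y => ?_, map_smul' := fun a x => ?_,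
            map_one_eq_zero' := ?_, leibniz' := fun x y => ?_ }, fun t => (hg t).symm⟩
  · apply (topL_bijective B L).1
    rw [map_add (topL B L), hg, hg, hg, map_add, map_add]
  · apply (topL_bijective B L).1
    show topL B L (g (a • x)) = topL B L (a • g x)
    rw [hg, Algebra.smul_def, ← algebraMap_smul B a (g x), topL_smul, hg, map_mul,
      Synt29.OmegaStalk.app_mul, hA, smul_zero, add_zero]
  · apply (topL_bijective B L).1
    show topL B L (g 1) = topL B L 0
    rw [hg, map_zero, ← (algebraMap A B).map_one, hA]
  · apply (topL_bijective B L).1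
    show topL B L (g (x * y)) = topL B L (x • g y + y • g x)
    rw [hg, map_add (topL B L), topL_smul, topL_smul, hg, hg, map_mul, Synt29.OmegaStalk.app_mul]

theorem exists_der [Module A L] [IsScalarTower A B L] (δ : Derivation A B L) :
    ∃! D : OmegaSh.Der (OmegaLib.sMap A B) (LT B L), ∀ t : B, D.app ⊤ (OmAff.toΓ B t) = topL B L (δ t) := by
  obtain ⟨e, he⟩ := OmegaLib.exists_iso_kTilde A B
  let β : OmegaLib.kTilde A B ⟶ LT B L :=
    tilde.map (R := CommRingCat.of B) (ModuleCat.ofHom (X := Ω[B⁄A]) (Y := L) δ.liftKaehlerDifferential)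
  have hβ : ∀ z, β.app ⊤ (OmegaLib.toTop A B z) = topL B L (δ.liftKaehlerDifferential z) := fun z =>
    congr($(tilde.toOpen_map_app (R := CommRingCat.of B)
      (ModuleCat.ofHom (X := Ω[B⁄A]) (Y := L) δ.liftKaehlerDifferential) ⊤) z)
  refine ⟨(OmegaSh.dOmega (OmegaLib.sMap A B)).postcomp (e.hom ≫ β).val, fun t => ?_, fun D hD => ?_⟩
  · show β.app ⊤ (e.hom.app ⊤ (OmegaSh.dSect (OmegaLib.sMap A B) ⊤ (OmAff.toΓ B t))) = _
    rw [he, hβ, δ.liftKaehlerDifferential_comp_D]
  · refine Synt29.OmegaStalk.der_ext_top fun s => ?_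
    obtain ⟨t, rfl⟩ := Synt29.OmegaStalk.toΓ_surjective B s
    rw [hD t]
    show _ = β.app ⊤ (e.hom.app ⊤ (OmegaSh.dSect (OmegaLib.sMap A B) ⊤ (OmAff.toΓ B t)))
    rw [he, hβ, δ.liftKaehlerDifferential_comp_D]

end

/-- Let A be a commutative ring, B an A-algebra and L a B-module; put S = Spec A, X = Spec B and let F
be the O_X-module associated with L. For an S-derivation D of O_X into F write Γ(D) : B → L for its
effect on global sections (global sections of O_X and of F being identified with B and L by the
canonical isomorphisms). Then D ↦ Γ(D) is a bijection from the set of S-derivations of O_X into F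
onto the set of A-derivations of B into L: every Γ(D) is an A-derivation, and every A-derivation of
B into L is Γ(D) for exactly one D. (The published statement asserts an isomorphism of B-modules; no
module structure is placed on sheaf derivations here, so this row states the bijection.) -/
theorem result (A B : Type u) [CommRing A] [CommRing B] [Algebra A B]
    (L : Type u) [AddCommGroup L] [Module B L] [Module A L] [IsScalarTower A B L] :
    (∀ D : OmegaSh.Der (Spec.map (CommRingCat.ofHom (algebraMap A B))) (tilde (ModuleCat.of (CommRingCat.of B) L)),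
      ∃ δ : Derivation A B L, ∀ t : B, D.app ⊤ ((Scheme.ΓSpecIso (CommRingCat.of B)).inv t) =
        (tilde.isoTop (ModuleCat.of (CommRingCat.of B) L)).hom (δ t)) ∧
    ∀ δ : Derivation A B L,
      ∃! D : OmegaSh.Der (Spec.map (CommRingCat.ofHom (algebraMap A B))) (tilde (ModuleCat.of (CommRingCat.of B) L)),
        ∀ t : B, D.app ⊤ ((Scheme.ΓSpecIso (CommRingCat.of B)).inv t) =
          (tilde.isoTop (ModuleCat.of (CommRingCat.of B) L)).hom (δ t) := by
  exact ⟨fun D => exists_derivation D, fun δ => exists_der δ⟩

end Groth.Agent.S5947
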