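import Groth.Statements.S5949
import Groth.Agent.Synt29.Normalization

set_option autoImplicit false
universe u
open CategoryTheory AlgebraicGeometry
open Unram17

namespace Groth.Agent.S5949

/-- Let X be an integral scheme, X' ⟶ X its normalization (the normalization of X in its function
field), and f : Y ⟶ X a morphism of schemes. Then there is an isomorphism Y ≅ X' over X if and only
if: every local ring of Y is an integrally closed domain, f is an integral morphism, and f is
birational, i.e. Y is irreducible, the fibre of f over the generic point of X consists of the
generic point of Y alone, and the induced map of local rings at the generic points is an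
isomorphism. (The published statement allows X reduced with locally finitely many irreducible
components, the normalization then being taken componentwise; this row states the case of an
integral X. The quasi-compactness and quasi-separatedness binders on the generic point always hold
and only serve to form the normalization.) -/
theorem result (X : Scheme.{u}) [IsIntegral X]
    [QuasiCompact (X.fromSpecStalk (genericPoint X))] [QuasiSeparated (X.fromSpecStalk (genericPoint X))]
    {Y : Scheme.{u}} (f : Y ⟶ X) :
    (∃ e : Y ≅ Curv2.normalization X, e.hom ≫ Curv2.normalizationι X = f) ↔
      Pi1.IsNormalScheme Y ∧ IsIntegralHom f ∧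
        ∃ _ : IrreducibleSpace ↥Y, f.base ⁻¹' {genericPoint X} = {genericPoint Y} ∧
          IsIso (f.stalkMap (genericPoint Y)) := by
  constructor
  · rintro ⟨e, rfl⟩
    haveI := Groth.Agent.Synt29.isIntegral_normalization X
    haveI := Groth.Agent.Synt29.isIntegralHom_normalizationι X
    obtain ⟨hν, hiso, hfib⟩ := Groth.Agent.Synt29.normalization_generic X
    refine ⟨Groth.Agent.Synt29.isNormalScheme_of_iso e
      (Groth.Agent.NormCurve.isNormalScheme_normalization X), inferInstance, ?_⟩
    haveI : Nonempty Y := ⟨e.inv (genericPoint (Curv2.normalization X))⟩
    haveI : IsIntegral Y := isIntegral_of_isOpenImmersion e.hom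
    have hgen : e.hom (genericPoint Y) = genericPoint (Curv2.normalization X) :=
      genericPoint_eq_of_isOpenImmersion e.hom
    refine ⟨inferInstance, ?_, ?_⟩
    · rw [Scheme.Hom.comp_base, TopCat.coe_comp, Set.preimage_comp, hfib, ← hgen,
        ← Set.image_singleton]
      exact Set.preimage_image_eq _ e.hom.isOpenEmbedding.injective
    · rw [Scheme.Hom.stalkMap_comp]
      have : ∀ z : Curv2.normalization X, z = genericPoint (Curv2.normalization X) →
          IsIso ((Curv2.normalizationι X).stalkMap z) := by rintro z rfl; exact hiso
      exact @IsIso.comp_isIso _ _ _ _ _ _ _ (this _ hgen) inferInstance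
  · rintro ⟨hN, hf, hirr, hfib, hiso⟩
    exact Groth.Agent.Synt29.exists_iso_normalization f hN
      (hfib.ge (rfl : genericPoint Y ∈ ({genericPoint Y} : Set Y)))

end Groth.Agent.S5949
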