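import Groth.Statements.S5950
import Groth.Agent.Synt29.Normalization

set_option autoImplicit false
universe u
open CategoryTheory AlgebraicGeometry
open Unram17

namespace Groth.Agent.S5950

/-- Let X be an integral scheme which has a nonempty (hence dense) open subset at whose points the local
rings are integrally closed, let X' ⟶ X be its normalization, and let f : Y ⟶ X be a morphism of
schemes. Then there is an isomorphism Y ≅ X' over X if and only if: every local ring of Y is an
integrally closed domain, f is an integral morphism, and there is a dense open subset U of X whose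
preimage is dense in Y and such that the restriction f⁻¹(U) ⟶ U of f is an isomorphism. (The
published statement allows X reduced with locally finitely many irreducible components and a dense
normal open subset; this row states the case of an integral X. The quasi-compactness and
quasi-separatedness binders on the generic point always hold and only serve to form the
normalization.) -/
theorem result (X : Scheme.{u}) [IsIntegral X]
    [QuasiCompact (X.fromSpecStalk (genericPoint X))] [QuasiSeparated (X.fromSpecStalk (genericPoint X))]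
    (hV : ∃ V : X.Opens, (V : Set ↥X).Nonempty ∧ ∀ x ∈ V, IsIntegrallyClosed (X.presheaf.stalk x))
    {Y : Scheme.{u}} (f : Y ⟶ X) :
    (∃ e : Y ≅ Curv2.normalization X, e.hom ≫ Curv2.normalizationι X = f) ↔
      Pi1.IsNormalScheme Y ∧ IsIntegralHom f ∧
        ∃ U : X.Opens, Dense (U : Set ↥X) ∧ Dense ((f ⁻¹ᵁ U : Y.Opens) : Set ↥Y) ∧ IsIso (f ∣_ U) := by
  constructor
  · rintro ⟨e, rfl⟩
    haveI := Groth.Agent.Synt29.isIntegral_normalization X
    haveI := Groth.Agent.Synt29.isIntegralHom_normalizationι X
    obtain ⟨hν, -, -⟩ := Groth.Agent.Synt29.normalization_generic X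
    obtain ⟨V, hne, hVn⟩ := hV
    refine ⟨Groth.Agent.Synt29.isNormalScheme_of_iso e
      (Groth.Agent.NormCurve.isNormalScheme_normalization X), inferInstance, V, V.2.dense hne, ?_, ?_⟩
    · haveI : Nonempty Y := ⟨e.inv (genericPoint (Curv2.normalization X))⟩
      haveI : IsIntegral Y := isIntegral_of_isOpenImmersion e.hom
      refine IsOpen.dense ((e.hom ≫ Curv2.normalizationι X) ⁻¹ᵁ V).2 ⟨genericPoint Y, ?_⟩
      show Curv2.normalizationι X (e.hom (genericPoint Y)) ∈ V
      rw [genericPoint_eq_of_isOpenImmersion e.hom, hν]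
      exact ((genericPoint_spec X).mem_open_set_iff V.2).2 (by simpa using hne)
    · haveI := Groth.Agent.Synt29.isIso_normalizationι_restrict (X := X) V hne hVn
      rw [morphismRestrict_comp]
      exact @IsIso.comp_isIso _ _ _ _ _ _ _
        (IsZariskiLocalAtTarget.restrict (P := MorphismProperty.isomorphisms Scheme)
          (inferInstanceAs (IsIso e.hom)) _) this
  · rintro ⟨hN, hf, U, hUd, hUY, hiso⟩
    have hgU : genericPoint X ∈ U := by
      obtain ⟨x, hx⟩ := hUd.nonempty
      exact (genericPoint_specializes x).mem_open U.2 hx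
    haveI : Nonempty U := ⟨⟨_, hgU⟩⟩
    let φ := (Scheme.homeoOfIso (asIso (f ∣_ U))).symm
    haveI hirrU : IrreducibleSpace ↥(U : Scheme.{u}) := by
      haveI : IsIntegral (U : Scheme.{u}) := isIntegral_of_isOpenImmersion U.ι
      infer_instance
    have hirr0 : IsIrreducible (Set.range ((f ⁻¹ᵁ U).ι.base ∘ φ)) := by
      rw [← Set.image_univ]
      exact (IrreducibleSpace.isIrreducible_univ ↥(U : Scheme.{u})).image _
        ((f ⁻¹ᵁ U).ι.continuous.comp φ.continuous).continuousOn
    have hirr1 : IsIrreducible ((f ⁻¹ᵁ U : Y.Opens) : Set Y) := by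
      rwa [Set.range_comp, φ.surjective.range_eq, Set.image_univ, Scheme.Opens.range_ι] at hirr0
    haveI : IrreducibleSpace Y := irreducibleSpace_def _ |>.2 (by
      have h2 := hirr1.closure
      rwa [hUY.closure_eq] at h2)
    have hηU : genericPoint Y ∈ f ⁻¹ᵁ U := by
      obtain ⟨y, hy⟩ := hirr1.nonempty
      exact (genericPoint_specializes y).mem_open (f ⁻¹ᵁ U).2 hy
    haveI : IsIntegral (U : Scheme.{u}) := isIntegral_of_isOpenImmersion U.ι
    haveI : Nonempty ↥(f ⁻¹ᵁ U).toScheme := ⟨⟨_, hηU⟩⟩
    haveI := Groth.Agent.Synt29.isReduced_of_isNormalScheme hN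
    haveI : IsIntegral Y := isIntegral_of_irreducibleSpace_of_isReduced Y
    haveI : IsIntegral (f ⁻¹ᵁ U).toScheme := isIntegral_of_isOpenImmersion (f ⁻¹ᵁ U).ι
    have hgen : f (genericPoint Y) = genericPoint X := by
      rw [← genericPoint_eq_of_isOpenImmersion (f ⁻¹ᵁ U).ι,
        ← genericPoint_eq_of_isOpenImmersion U.ι,
        ← genericPoint_eq_of_isOpenImmersion (f ∣_ U),
        ← Scheme.Hom.comp_apply, ← Scheme.Hom.comp_apply, morphismRestrict_ι]
    haveI : IsIso (f.stalkMap (genericPoint Y)) :=
      ((MorphismProperty.isomorphisms CommRingCat).arrow_mk_iso_iff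
        (morphismRestrictStalkMap f U ⟨genericPoint Y, hηU⟩)).1
        (by
          haveI : IsIso (f ∣_ U) := hiso
          haveI : IsOpenImmersion (f ∣_ U) := IsOpenImmersion.of_isIso _
          exact ((IsOpenImmersion.iff_isIso_stalkMap (f := f ∣_ U)).1 inferInstance).2 _)
    exact Groth.Agent.Synt29.exists_iso_normalization f hN hgen

end Groth.Agent.S5950
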