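import Groth.Statements.S5958
import Groth.Agent.PPSheaf.Gen

set_option autoImplicit false
universe u
open CategoryTheory CategoryTheory.Limits AlgebraicGeometry TopologicalSpace Opposite
open Nrm16

namespace Groth.Agent.S5958

/-- Let f : X ⟶ S be a morphism of schemes, F an O_X-module and n a natural number. The left O_X-module
P^n_{X/S}(F) of principal parts of order n of F is generated by the image of the canonical operator
d^n : F ⟶ P^n_{X/S}(F): two O_X-linear maps out of P^n_{X/S}(F) into any O_X-module that agree on
d^n t for every local section t of F coincide. -/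
theorem result {X S : Scheme.{u}} (f : X ⟶ S) (F G : X.Modules) (n : ℕ)
    (a b : PrinPart.PMod f n F ⟶ G)
    (h : ∀ (U : X.Opens) (t : Γ(F, U)), a.app U (PrinPart.dP f n F U t) = b.app U (PrinPart.dP f n F U t)) :
    a = b := by
    exact Groth.Agent.PPSheaf.hom_ext_dP f n F G h

end Groth.Agent.S5958
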