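import Groth.Statements.S5960
import Groth.Agent.PPSheaf.Crit

set_option autoImplicit false
universe u
open CategoryTheory CategoryTheory.Limits AlgebraicGeometry TopologicalSpace Opposite
open Nrm16

namespace Groth.Agent.S5960

/-- Let f : X ⟶ S be a morphism of schemes, F and G two O_X-modules, n a natural number and D : F ⟶ G a
homomorphism of sheaves of abelian groups that is linear for the functions pulled back from S. Then
D is a differential operator of order at most n relative to S if and only if for every open U of X,
every family a_1, …, a_(n+1) of n + 1 functions on U and every section t of F over U, the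
alternating sum over the subsets H of the index set of (-1)^(card H) · (∏_{i ∈ H} a_i) · D((∏_{i ∉
H} a_i) · t) is zero. -/
theorem result {X S : Scheme.{u}} (f : X ⟶ S) (F G : X.Modules) (n : ℕ)
    (D : F.presheaf ⟶ G.presheaf)
    (hlin : ∀ (V : S.Opens) (s : Γ(S, V)) (U : X.Opens) (hU : U ≤ f ⁻¹ᵁ V) (t : Γ(F, U)),
      D.app (op U) (X.presheaf.map (homOfLE hU).op (f.app V s) • t) =
        X.presheaf.map (homOfLE hU).op (f.app V s) • D.app (op U) t) :
    PrinPart.IsDiffOpLE f F G n D ↔
      ∀ (U : X.Opens) (a : Fin (n + 1) → Γ(X, U)) (t : Γ(F, U)),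
        (∑ H : Finset (Fin (n + 1)),
          ((-1 : ℤ) ^ H.card) • ((∏ i ∈ H, a i) • D.app (op U) ((∏ i ∈ Hᶜ, a i) • t))) = 0 := by
    exact Groth.Agent.PPSheaf.isDiffOpLE_iff_alt f n D hlin

end Groth.Agent.S5960
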