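import Groth.Statements.S5974
import Groth.Agent.PPSheaf.ConormalComp

set_option autoImplicit false
universe u
open CategoryTheory CategoryTheory.Limits AlgebraicGeometry TopologicalSpace Opposite
open Nrm16

namespace Groth.Agent.S5974

/-- Let f : Y ⟶ X and j : Y' ⟶ Y be quasi-compact immersions. Let φ₁ : j^* N_{Y/X} ⟶ N_{Y'/X} and φ₂ :
N_{Y'/X} ⟶ N_{Y'/Y} be the canonical maps of conormal sheaves (the first induced by the identity of
X, the second by f, on local sections of the ideals). Then φ₂ is an epimorphism and the image of φ₁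
is the kernel of φ₂: the sequence j^* N_{Y/X} ⟶ N_{Y'/X} ⟶ N_{Y'/Y} ⟶ 0 is exact. (The published
statement allows arbitrary immersions; this row assumes them quasi-compact, the case in which the
conormal sheaves used here are those of the immersions.) -/
theorem result {Y' Y X : Scheme.{u}} (f : Y ⟶ X) [IsImmersion f] [QuasiCompact f]
    (j : Y' ⟶ Y) [IsImmersion j] [QuasiCompact j]
    (φ₁ : (Scheme.Modules.pullback j).obj (Omega.conormal f) ⟶ Omega.conormal (j ≫ f))
    (hφ₁ : OmegaSh.IsConormalMap (j ≫ f) f (𝟙 X) j φ₁)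
    (φ₂ : (Scheme.Modules.pullback (𝟙 Y')).obj (Omega.conormal (j ≫ f)) ⟶ Omega.conormal j)
    (hφ₂ : OmegaSh.IsConormalMap j (j ≫ f) f (𝟙 Y') φ₂) :
    Epi φ₂ ∧
      imageSubobject φ₁ =
        kernelSubobject ((Scheme.Modules.pullbackId Y').inv.app (Omega.conormal (j ≫ f)) ≫ φ₂) := by
    haveI : IsImmersion (j ≫ f) := inferInstance
    haveI : QuasiCompact (j ≫ f) := inferInstance
    exact Groth.Agent.PPSheaf.exact_conormal_comp f j φ₁ hφ₁ φ₂ hφ₂

end Groth.Agent.S5974
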