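import Groth.Statements.S5982
import Groth.Agent.RegPt.Basic
import Groth.Agent.MorLib.LimFlat
import Groth.Agent.MorLib.LimPoints

set_option autoImplicit false
universe u
open CategoryTheory AlgebraicGeometry
open CInt

namespace Groth.Agent.S5982

/-- Let S = lim S_i be a cofiltered limit of schemes with affine, flat transition maps, such that either
every S_i is locally Noetherian or every transition map is surjective; let S_{i₀} be a quasi-compact
stage and f_1, …, f_n global sections of the structure sheaf of S_{i₀}. Then the images of the f_k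
form a regular sequence for the structure sheaf of S (that is, a weakly regular sequence in Γ(U,
O_S) for every affine open U of S; no condition on the last quotient) if and only if, for some index
j over i₀, their images form a regular sequence for the structure sheaf of S_j in the same sense.
This is the case of the structure sheaf. -/
theorem result {I : Type u} [SmallCategory I] [IsCofiltered I]
    (D : I ⥤ Scheme.{u}) (c : Limits.Cone D) (hc : Limits.IsLimit c)
    [∀ (i j : I) (f : i ⟶ j), IsAffineHom (D.map f)]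
    (hflat : ∀ (i j : I) (f : i ⟶ j), Flat (D.map f))
    (hcase : (∀ i : I, IsLocallyNoetherian (D.obj i)) ∨
      ∀ (i j : I) (f : i ⟶ j), Surjective (D.map f))
    (i₀ : I) [CompactSpace (D.obj i₀)] (fs : List Γ(D.obj i₀, ⊤)) :
    (∀ U : c.pt.affineOpens, RingTheory.Sequence.IsWeaklyRegular Γ(c.pt, U.1)
        (fs.map (fun f => (c.pt.presheaf.map (homOfLE (le_top : U.1 ≤ ⊤)).op).hom ((c.π.app i₀).appTop.hom f)))) ↔
      ∃ (j : I) (φ : j ⟶ i₀), ∀ U : (D.obj j).affineOpens,
        RingTheory.Sequence.IsWeaklyRegular Γ(D.obj j, U.1)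
          (fs.map (fun f => ((D.obj j).presheaf.map (homOfLE (le_top : U.1 ≤ ⊤)).op).hom ((D.map φ).appTop.hom f))) := by
  classical
  haveI : ∀ j, Flat (c.π.app j) := fun j => MorLib.LimFlat.flat_π hc j fun k φ => hflat k j φ
  haveI : ∀ {j k : I} (φ : j ⟶ k), Flat (D.map φ) := fun {j k} φ => hflat j k φ
  -- the statement in terms of points
  have hlim : (∀ U : c.pt.affineOpens, RingTheory.Sequence.IsWeaklyRegular Γ(c.pt, U.1)
      (fs.map (fun f => (c.pt.presheaf.map (homOfLE (le_top : U.1 ≤ ⊤)).op).hom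
        ((c.π.app i₀).appTop.hom f)))) ↔ ∀ s : c.pt, RegPt.IsRegAt (D.obj i₀) fs (c.π.app i₀ s) := by
    refine ⟨fun h s => ?_, fun h U => ?_⟩
    · obtain ⟨U, hU, hsU, -⟩ := exists_isAffineOpen_mem_and_subset (x := s) (U := ⊤) trivial
      refine (RegPt.isRegAt_map_iff (c.π.app i₀) fs s).mp
        ((RegPt.isWeaklyRegular_affine_iff _ ⟨U, hU⟩).mp ?_ s hsU)
      rw [List.map_map]; exact h ⟨U, hU⟩
    · have := (RegPt.isWeaklyRegular_affine_iff (fs.map fun f => (c.π.app i₀).appTop.hom f) U).mpr
        fun s _ => (RegPt.isRegAt_map_iff (c.π.app i₀) fs s).mpr (h s)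
      rw [List.map_map] at this; exact this
  have hstage : ∀ (j : I) (φ : j ⟶ i₀), (∀ U : (D.obj j).affineOpens,
      RingTheory.Sequence.IsWeaklyRegular Γ(D.obj j, U.1)
        (fs.map (fun f => ((D.obj j).presheaf.map (homOfLE (le_top : U.1 ≤ ⊤)).op).hom
          ((D.map φ).appTop.hom f)))) ↔ ∀ s : D.obj j, RegPt.IsRegAt (D.obj i₀) fs (D.map φ s) := by
    intro j φ
    refine ⟨fun h s => ?_, fun h U => ?_⟩
    · obtain ⟨U, hU, hsU, -⟩ := exists_isAffineOpen_mem_and_subset (x := s) (U := ⊤) trivial
      refine (RegPt.isRegAt_map_iff (D.map φ) fs s).mp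
        ((RegPt.isWeaklyRegular_affine_iff _ ⟨U, hU⟩).mp ?_ s hsU)
      rw [List.map_map]; exact h ⟨U, hU⟩
    · have := (RegPt.isWeaklyRegular_affine_iff (fs.map fun f => (D.map φ).appTop.hom f) U).mpr
        fun s _ => (RegPt.isRegAt_map_iff (D.map φ) fs s).mpr (h s)
      rw [List.map_map] at this; exact this
  rw [hlim]
  simp only [hstage]
  refine ⟨fun h => ?_, ?_⟩
  swap
  · rintro ⟨j, φ, hφ⟩ s
    have := hφ (c.π.app j s)
    rwa [← Scheme.Hom.comp_apply, c.w] at this
  rcases hcase with hN | hS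
  · by_contra hcon
    push_neg at hcon
    haveI := hN i₀
    have hcl : IsClosed {x : D.obj i₀ | ¬ RegPt.IsRegAt (D.obj i₀) fs x} :=
      (RegPt.isOpen_isRegAt (D.obj i₀) fs).isClosed_compl
    obtain ⟨s, hs⟩ := exists_mem_of_isClosed_of_nonempty' D c hc (j := i₀)
      (fun j φ => D.map φ ⁻¹' {x | ¬ RegPt.IsRegAt (D.obj i₀) fs x})
      (fun j φ => hcl.preimage (D.map φ).continuous)
      (fun j φ => hcon j φ)
      (fun j φ => by
        haveI : CompactSpace (D.obj j) := QuasiCompact.compactSpace_of_compactSpace (D.map φ)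
        exact (hcl.preimage (D.map φ).continuous).isCompact)
      (fun j k ψ φ x hx => by
        simp only [Set.mem_preimage, D.map_comp, Scheme.Hom.comp_apply] at hx ⊢
        exact hx)
    have := hs i₀ (𝟙 i₀)
    simp only [Set.mem_preimage, D.map_id, Set.mem_setOf_eq] at this
    exact this (h s)
  · haveI : Surjective (c.π.app i₀) := (MorLib.LimPts.surjective_π_iff hc).mpr fun j φ => hS j i₀ φ
    refine ⟨i₀, 𝟙 i₀, fun x => ?_⟩
    obtain ⟨s, hs⟩ := (c.π.app i₀).surjective x
    rw [D.map_id]
    exact hs ▸ h s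

end Groth.Agent.S5982
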